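import Groth.Agent.Lib.Helper17KInj12
import Groth.Agent.S0480
import Mathlib.Algebra.Homology.DerivedCategory.KInjective

/-!
# Products in the derived category of a Grothendieck abelian category (helper17)
-/

set_option autoImplicit false

universe w v u

open CategoryTheory CategoryTheory.Limits HomologicalComplex DerivedCategory CochainComplex
  HomComplex

namespace Groth.Agent.Lib.Helper17.KInj

section Abelian

variable {C : Type u} [Category.{v} C] [Abelian C] [HasDerivedCategory.{w} C]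

lemma exists_Q_map_eq {K L : CochainComplex C ℤ} [L.IsKInjective] (y : Q.obj K ⟶ Q.obj L) :
    ∃ g : K ⟶ L, Q.map g = y := by
  obtain ⟨g', hg'⟩ := (IsKInjective.Qh_map_bijective ((HomotopyCategory.quotient _ _).obj K)
    L).surjective ((quotientCompQhIso C).hom.app K ≫ y ≫ (quotientCompQhIso C).inv.app L)
  obtain ⟨g, rfl⟩ := (HomotopyCategory.quotient _ _).map_surjective g'
  refine ⟨g, ?_⟩
  have h1 := quotientCompQhIso_hom_naturality g
  rw [hg'] at h1
  simp only [Category.assoc, Iso.inv_hom_id_app, Category.comp_id] at h1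
  exact ((cancel_epi ((quotientCompQhIso C).hom.app K)).1 h1).symm

lemma homotopy_of_Q_map_eq {K L : CochainComplex C ℤ} [L.IsKInjective] {g g' : K ⟶ L}
    (h : (Q : _ ⥤ DerivedCategory C).map g = Q.map g') : Nonempty (Homotopy g g') := by
  have h1 : Qh.map ((HomotopyCategory.quotient _ _).map g) =
      Qh.map ((HomotopyCategory.quotient _ _).map g') := by
    rw [← cancel_mono ((quotientCompQhIso C).hom.app L), quotientCompQhIso_hom_naturality,
      quotientCompQhIso_hom_naturality, h]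
  exact ⟨HomotopyCategory.homotopyOfEq _ _
    ((IsKInjective.Qh_map_bijective _ L).injective h1)⟩

end Abelian

section Pi

variable {A : Type u} [Category.{v} A] [Abelian A] {T : Type v} (I : T → CochainComplex A ℤ)
  [HasProduct I]

lemma homotopy_zero_of_pi {K : CochainComplex A ℤ} (f : K ⟶ ∏ᶜ I)
    (h : ∀ t, Nonempty (Homotopy (f ≫ Pi.π I t) 0)) : Nonempty (Homotopy f 0) := by
  classical
  have key : ∀ t, ∃ ht : Cochain K (I t) (-1), δ (-1) 0 ht = Cochain.ofHom (f ≫ Pi.π I t) := by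
    intro t
    obtain ⟨H0⟩ := h t
    obtain ⟨h0, hh0⟩ := Cochain.equivHomotopy _ _ H0
    simp only [Int.reduceNeg, Cochain.ofHom_zero, add_zero] at hh0
    exact ⟨h0, hh0.symm⟩
  choose ht hht using key
  let hh : Cochain K (∏ᶜ I) (-1) := Cochain.mk (fun p q hpq =>
    (Groth.Agent.S0480.lift_exists I (K.X p) q (fun t => (ht t).v p q hpq)).choose)
  have hfac : ∀ t, hh.comp (Cochain.ofHom (Pi.π I t)) (add_zero _) = ht t := by
    intro t
    ext p q hpq
    rw [Cochain.comp_zero_cochain_v, Cochain.ofHom_v, Cochain.mk_v]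
    exact (Groth.Agent.S0480.lift_exists I (K.X p) q (fun t => (ht t).v p q hpq)).choose_spec t
  refine ⟨(Cochain.equivHomotopy f 0).symm ⟨hh, ?_⟩⟩
  rw [Cochain.ofHom_zero, add_zero]
  ext p
  apply Groth.Agent.S0480.hom_ext' I
  intro t
  have e1 := Cochain.congr_v (congrArg (δ (-1) 0) (hfac t)) p p (add_zero p)
  rw [δ_comp_ofHom, hht t, Cochain.comp_zero_cochain_v, Cochain.ofHom_v, Cochain.ofHom_v] at e1
  simp only [Cochain.ofHom_v]
  exact e1.symm

lemma homotopy_of_pi {K : CochainComplex A ℤ} (f g : K ⟶ ∏ᶜ I)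
    (h : ∀ t, Nonempty (Homotopy (f ≫ Pi.π I t) (g ≫ Pi.π I t))) : Nonempty (Homotopy f g) := by
  obtain ⟨H⟩ := homotopy_zero_of_pi I (f - g) (fun t => by
    obtain ⟨Ht⟩ := h t
    exact ⟨(Homotopy.ofEq (by simp [sub_eq_add_neg])).trans
      ((Ht.add (Homotopy.refl (-(g ≫ Pi.π I t)))).trans (Homotopy.ofEq (by simp)))⟩)
  exact ⟨(Homotopy.ofEq (by simp)).trans ((H.add (Homotopy.refl g)).trans
    (Homotopy.ofEq (by simp)))⟩

end Pi

section Products

variable {A : Type u} [Category.{v} A] [Abelian A] [IsGrothendieckAbelian.{v} A]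
  [HasDerivedCategory.{w} A]

lemma hasProduct_Q_obj_of_isKInjective {T : Type v} (I : T → CochainComplex A ℤ)
    (hI : ∀ t, (I t).IsKInjective) :
    HasProduct (fun t => (Q : _ ⥤ DerivedCategory A).obj (I t)) := by
  haveI : (∏ᶜ I).IsKInjective := Groth.Agent.S0480.result I hI
  have key : ∀ (s : Fan (fun t => (Q : _ ⥤ DerivedCategory A).obj (I t))),
      ∃ (l : s.pt ⟶ Q.obj (∏ᶜ I)), (∀ t, l ≫ Q.map (Pi.π I t) = s.proj t) ∧
        ∀ (m : s.pt ⟶ Q.obj (∏ᶜ I)), (∀ t, m ≫ Q.map (Pi.π I t) = s.proj t) → m = l := by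
    intro s
    let L := (Q : _ ⥤ DerivedCategory A).objPreimage s.pt
    let eY : Q.obj L ≅ s.pt := Q.objObjPreimageIso s.pt
    have hg : ∀ t, ∃ g : L ⟶ I t, Q.map g = eY.hom ≫ s.proj t := fun t => by
      haveI := hI t
      exact exists_Q_map_eq _
    choose g hg using hg
    refine ⟨eY.inv ≫ Q.map (Pi.lift g), fun t => ?_, fun m hm => ?_⟩
    · rw [Category.assoc, ← Functor.map_comp, Pi.lift_π, hg, Iso.inv_hom_id_assoc]
    · obtain ⟨g', hg'⟩ := exists_Q_map_eq (eY.hom ≫ m)
      obtain ⟨H⟩ := homotopy_of_pi I g' (Pi.lift g) (fun t => by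
        haveI := hI t
        apply homotopy_of_Q_map_eq (C := A)
        rw [Functor.map_comp, Functor.map_comp, hg', ← Functor.map_comp, Pi.lift_π, hg,
          Category.assoc, hm])
      rw [← DerivedCategory.Q_map_eq_of_homotopy A H, hg', Iso.inv_hom_id_assoc]
  choose l hl hl' using key
  exact ⟨⟨⟨Fan.mk (Q.obj (∏ᶜ I)) (fun t => Q.map (Pi.π I t)),
    Fan.IsLimit.mk _ l (fun s t => hl s t) (fun s m hm => hl' s m hm)⟩⟩⟩

theorem hasProducts_derivedCategory : HasProducts.{v} (DerivedCategory A) := by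
  intro J
  constructor
  intro F
  suffices HasLimit (Discrete.functor (F.obj ∘ Discrete.mk)) from
    hasLimit_of_iso (Discrete.natIsoFunctor (F := F)).symm
  change HasProduct (fun j => F.obj ⟨j⟩)
  have hres : ∀ j, ∃ (I : CochainComplex A ℤ), I.IsKInjective ∧
      Nonempty (F.obj ⟨j⟩ ≅ Q.obj I) := fun j => by
    obtain ⟨I, f, hI, hf, -, -⟩ := exists_kInjective_resolution.{v} A
      ((Q : _ ⥤ DerivedCategory A).objPreimage (F.obj ⟨j⟩))
    exact ⟨I, hI, ⟨(Q.objObjPreimageIso (F.obj ⟨j⟩)).symm ≪≫ asIso (Q.map f)⟩⟩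
  choose I hI e using hres
  haveI := hasProduct_Q_obj_of_isKInjective I hI
  exact hasProduct_of_equiv_of_iso (fun j => (Q : _ ⥤ DerivedCategory A).obj (I j))
    (fun j => F.obj ⟨j⟩) (Equiv.refl _) (fun j => (e j).some)

end Products

end Groth.Agent.Lib.Helper17.KInj
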