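import Groth.Agent.Lib.Helper17Cpt1
import Groth.Agent.Lib.Helper17KInjD1
import Mathlib.Algebra.Homology.DerivedCategory.TStructure

/-!
# Maps from `P[0]` to a complex of `Hom(P, -)`-acyclics in the derived category (helper17)

If `K` is a complex with `Hom(P, -)`-acyclic terms admitting a monomorphic quasi-isomorphism to
a K-injective complex with injective terms (and `K` is bounded below or `Hom(P, -)` has finite
cohomological dimension), every morphism `P[0] ⟶ K` in the derived category is represented by a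
morphism of complexes.
-/

set_option autoImplicit false

universe w' w v u

open CategoryTheory CategoryTheory.Limits CategoryTheory.Abelian HomologicalComplex
  DerivedCategory

namespace Groth.Agent.Lib.Helper17.Cpt

open Groth.Agent.Lib.Helper17.KInj

variable {A : Type u} [Category.{v} A] [Abelian A]

/-- the chain map from `P[0]` given by a cocycle. -/
noncomputable def fromSphere {P : A} (K : CochainComplex A ℤ) (f : P ⟶ K.X 0)
    (hf : f ≫ K.d 0 1 = 0) : sphere P 0 ⟶ K :=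
  HomologicalComplex.mkHomFromSingle f (by
    intro k hk
    obtain rfl : k = 1 := by
      have : (0 : ℤ) + 1 = k := hk
      omega
    exact hf)

lemma fromSphere_f {P : A} (K : CochainComplex A ℤ) (f : P ⟶ K.X 0)
    (hf : f ≫ K.d 0 1 = 0) : (fromSphere K f hf).f 0 = (sphereIso P 0).hom ≫ f :=
  HomologicalComplex.mkHomFromSingle_f _ _

lemma from_sphere_hom_ext {P : A} {K : CochainComplex A ℤ} {f g : sphere P 0 ⟶ K}
    (h : f.f 0 = g.f 0) : f = g :=
  HomologicalComplex.from_single_hom_ext h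

lemma isZero_Q_obj_of_acyclic [HasDerivedCategory.{w'} A] (K : CochainComplex A ℤ)
    (h : K.Acyclic) : IsZero ((Q : _ ⥤ DerivedCategory A).obj K) := by
  have h1 : CochainComplex.IsLE K 0 := by
    rw [CochainComplex.isLE_iff]
    exact fun i _ => h i
  have h2 : CochainComplex.IsGE K 1 := by
    rw [CochainComplex.isGE_iff]
    exact fun i _ => h i
  have : (Q.obj K).IsLE 0 := (DerivedCategory.isLE_Q_obj_iff _ _).2 h1
  have : (Q.obj K).IsGE 1 := (DerivedCategory.isGE_Q_obj_iff _ _).2 h2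
  exact DerivedCategory.TStructure.t.isZero (Q.obj K) 0 1 (by simp)

variable [HasExt.{w} A] [HasDerivedCategory.{w'} A] {P : A}

theorem exists_fromSphere (K J : CochainComplex A ℤ) (j : K ⟶ J) [Mono j] [QuasiIso j]
    [J.IsKInjective] (hJ : ∀ n, Injective (J.X n)) (hK : ∀ n, ExtAcyc P (K.X n))
    (hbd : (∃ a : ℤ, ∀ n < a, IsZero (J.X n)) ∨
      (∃ d : ℕ, ∀ (Y : A) (i : ℕ), d < i → ∀ x : Ext P Y i, x = 0))
    (φ : (Q : _ ⥤ DerivedCategory A).obj (sphere P 0) ⟶ Q.obj K) :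
    ∃ (f : P ⟶ K.X 0) (hf : f ≫ K.d 0 1 = 0), Q.map (fromSphere K f hf) = φ := by
  obtain ⟨g, hg⟩ := exists_Q_map_eq (φ ≫ Q.map j)
  have hS := shortExact_of_mono j
  have hSn := fun n => shortExact_eval hS n
  have hCacyc : (cokernel j).Acyclic := hS.acyclic_X₃ ‹QuasiIso j›
  have hCX : ∀ n, ExtAcyc P ((cokernel j).X n) := fun n =>
    extAcyc_X₃_of_shortExact (hSn n) (haveI := hJ n; extAcyc_of_injective P (J.X n)) (hK n)
  have hbdC : (∃ a : ℤ, ∀ n < a, IsZero ((cokernel j).X n)) ∨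
      (∃ d : ℕ, ∀ (Y : A) (i : ℕ), d < i → ∀ x : Ext P Y i, x = 0) := by
    rcases hbd with ⟨a, ha⟩ | h
    · refine Or.inl ⟨a, fun n hn => ?_⟩
      haveI : Epi ((cokernel.π j).f n) := epi_g_f hS n
      exact IsZero.of_epi ((cokernel.π j).f n) (ha n hn)
    · exact Or.inr h
  -- the cocycle g₀
  obtain ⟨g₀, hg₀def⟩ : ∃ g₀ : P ⟶ J.X 0, g₀ = (sphereIso P 0).inv ≫ g.f 0 := ⟨_, rfl⟩
  have hg₀ : g₀ ≫ J.d 0 1 = 0 := by
    have : (sphere P 0).d 0 1 = 0 := HomologicalComplex.single_obj_d _ _ _ _ _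
    rw [hg₀def, Category.assoc, g.comm 0 1, this, zero_comp, comp_zero]
  have hgb : (g₀ ≫ (cokernel.π j).f 0) ≫ (cokernel j).d 0 1 = 0 := by
    have hc : (cokernel.π j).f 0 ≫ (cokernel j).d 0 1 = J.d 0 1 ≫ (cokernel.π j).f 1 :=
      (cokernel.π j).comm 0 1
    rw [Category.assoc, hc, reassoc_of% hg₀, zero_comp]
  obtain ⟨hb, hhb⟩ := exists_lift_of_cocycle (cokernel j) hCacyc hCX hbdC (-1) 0 1 (by simp)
    (by simp) _ hgb
  obtain ⟨h, hh'⟩ : ∃ h : P ⟶ J.X (-1), h ≫ (cokernel.π j).f (-1) = hb :=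
    exists_lift_of_shortExact (hSn (-1)) (hK (-1) 0) hb
  have hz : (g₀ - h ≫ J.d (-1) 0) ≫ (cokernel.π j).f 0 = 0 := by
    have hc : J.d (-1) 0 ≫ (cokernel.π j).f 0 = (cokernel.π j).f (-1) ≫ (cokernel j).d (-1) 0 :=
      ((cokernel.π j).comm (-1) 0).symm
    rw [Preadditive.sub_comp, Category.assoc, hc, reassoc_of% hh', hhb, sub_self]
  haveI : Mono (ShortComplex.map (ShortComplex.mk j (cokernel.π j) (cokernel.condition j))
      (eval A (ComplexShape.up ℤ) 0)).f := (hSn 0).mono_f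
  obtain ⟨f₀, hf₀⟩ : ∃ f₀ : P ⟶ K.X 0, f₀ ≫ j.f 0 = g₀ - h ≫ J.d (-1) 0 :=
    ⟨(hSn 0).exact.lift _ hz, (hSn 0).exact.lift_f _ hz⟩
  have hf₀d : f₀ ≫ K.d 0 1 = 0 := by
    haveI : Mono (j.f 1) := mono_f_f hS 1
    have hc : K.d 0 1 ≫ j.f 1 = j.f 0 ≫ J.d 0 1 := (j.comm 0 1).symm
    rw [← cancel_mono (j.f 1), Category.assoc, hc, reassoc_of% hf₀,
      Preadditive.sub_comp, hg₀, Category.assoc, J.d_comp_d, comp_zero, sub_zero, zero_comp]
  refine ⟨f₀, hf₀d, ?_⟩
  haveI : IsIso ((Q : _ ⥤ DerivedCategory A).map j) := by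
    rw [DerivedCategory.isIso_Q_map_iff_quasiIso]; infer_instance
  rw [← cancel_mono ((Q : _ ⥤ DerivedCategory A).map j), ← hg, ← Functor.map_comp]
  have key : fromSphere K f₀ hf₀d ≫ j =
      g - toDisk (n₀ := -1) (n₁ := 0) (by simp) (sphereIso P 0).hom ≫
        fromDisk (n₀ := -1) (n₁ := 0) (by simp) h := by
    apply from_sphere_hom_ext
    rw [HomologicalComplex.comp_f, fromSphere_f, HomologicalComplex.sub_f_apply,
      HomologicalComplex.comp_f, toDisk_f₁, fromDisk_f₁, Category.assoc, hf₀, hg₀def]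
    simp
  rw [key, Functor.map_sub, Functor.map_comp]
  have hz0 : (Q : _ ⥤ DerivedCategory A).map
      (toDisk (K := sphere P 0) (E := P) (n₀ := -1) (n₁ := 0) (by simp) (sphereIso P 0).hom) = 0 :=
    (isZero_Q_obj_of_acyclic _ (disk_acyclic P (-1) 0 (by simp))).eq_of_tgt _ _
  rw [hz0, zero_comp, sub_zero]

end Groth.Agent.Lib.Helper17.Cpt
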