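import Mathlib
import Groth.Prelude.Def_DerCA

/-! Extended alternating Cech complex (`DerCA.extCech`): long exact sequence of the mapping cocone,
localisation of cohomology, vanishing, power torsion (helper1). -/

set_option autoImplicit false
set_option maxHeartbeats 400000
set_option backward.isDefEq.respectTransparency.types false
universe u
open CategoryTheory CategoryTheory.Limits

namespace Groth.Agent.Lib.Helper1.ExtCech

open DerCA

variable {R : Type u} [CommRing R]

/-- localisation is exact -/
instance preservesHomology_locFunctor (S : Submonoid R) : (locFunctor S).PreservesHomology := by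
  have := ((Functor.exact_tfae (locFunctor S)).out 1 2).1
  apply this
  intro Sc hSc
  rw [ShortComplex.ShortExact.moduleCat_exact_iff_function_exact] at hSc ⊢
  exact IsLocalizedModule.map_exact S (LocalizedModule.mkLinearMap S Sc.X₁)
    (LocalizedModule.mkLinearMap S Sc.X₂) (LocalizedModule.mkLinearMap S Sc.X₃) _ _ hSc


/-- the homology of the termwise localisation is the localisation of the homology -/
theorem isLocalizedModule_homologyMap (S : Submonoid R) (K : DRing.Cx R) (j : ℤ) :
    IsLocalizedModule S (HomologicalComplex.homologyMap (locCxUnit S K) j).hom := by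
  have h := ShortComplex.homologyMap_mapNatTrans (K.sc j) (locUnit S)
  have e : HomologicalComplex.homologyMap (locCxUnit S K) j =
      ShortComplex.homologyMap ((K.sc j).mapNatTrans (locUnit S)) := rfl
  rw [e, h]
  let e₁ := ((K.sc j).mapHomologyIso (𝟭 (ModuleCat.{u} R))).toLinearEquiv
  let e₂ := ((K.sc j).mapHomologyIso (locFunctor S)).symm.toLinearEquiv
  have h0 : IsLocalizedModule S ((locUnit S).app (K.sc j).homology).hom := by
    change IsLocalizedModule S (LocalizedModule.mkLinearMap S _)
    infer_instance
  have h1 : IsLocalizedModule S (((locUnit S).app (K.sc j).homology).hom ∘ₗ e₁.toLinearMap) :=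
    IsLocalizedModule.of_linearEquiv_right S _ e₁
  have h2 : IsLocalizedModule S (e₂.toLinearMap ∘ₗ
      (((locUnit S).app (K.sc j).homology).hom ∘ₗ e₁.toLinearMap)) :=
    IsLocalizedModule.of_linearEquiv S _ e₂
  exact h2


section LES

attribute [local instance] HasDerivedCategory.standard

open CochainComplex HomologicalComplex

variable {K L : DRing.Cx R} (φ : K ⟶ L)

/-- `H^n(cocone) ⟶ H^n(K)` -/
noncomputable abbrev ha (n : ℤ) : (mappingCocone φ).homology n ⟶ K.homology n :=
  homologyMap (mappingCocone.fst φ) n

/-- `H^n(K) ⟶ H^n(L)` -/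
noncomputable abbrev hb (n : ℤ) : K.homology n ⟶ L.homology n := homologyMap φ n

/-- the connecting map `H^n(L) ⟶ H^{n+1}(cocone)` -/
noncomputable abbrev hδ (n n' : ℤ) (h : n + 1 = n') : L.homology n ⟶ (mappingCocone φ).homology n' :=
  homologyδOfTriangle (mappingCocone.triangle φ) n n' h

lemma hb_ha (n : ℤ) (x : (mappingCocone φ).homology n) : hb φ n (ha φ n x) = 0 := by
  have := homologyMap_comp_eq_zero_of_distTriang (mappingCocone.triangle φ)
    (DerivedCategory.mappingCocone_triangle_distinguished φ) n
  exact congrArg (fun t => t.hom x) this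

lemma exists_ha (n : ℤ) (y : K.homology n) (hy : hb φ n y = 0) :
    ∃ x : (mappingCocone φ).homology n, ha φ n x = y := by
  have := homologyMap_exact₂_of_distTriang (mappingCocone.triangle φ)
    (DerivedCategory.mappingCocone_triangle_distinguished φ) n
  rw [ShortComplex.moduleCat_exact_iff] at this
  exact this y hy

lemma ha_hδ (n n' : ℤ) (h : n + 1 = n') (z : L.homology n) : ha φ n' (hδ φ n n' h z) = 0 := by
  have := homologyδOfTriangle_homologyMap (mappingCocone.triangle φ)
    (DerivedCategory.mappingCocone_triangle_distinguished φ) n n' h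
  exact congrArg (fun t => t.hom z) this

lemma exists_hδ (n n' : ℤ) (h : n + 1 = n') (x : (mappingCocone φ).homology n')
    (hx : ha φ n' x = 0) : ∃ z : L.homology n, hδ φ n n' h z = x := by
  have := homologyMap_exact₁_of_distTriang (mappingCocone.triangle φ)
    (DerivedCategory.mappingCocone_triangle_distinguished φ) n n' h
  rw [ShortComplex.moduleCat_exact_iff] at this
  exact this x hx

lemma hδ_hb (n n' : ℤ) (h : n + 1 = n') (y : K.homology n) : hδ φ n n' h (hb φ n y) = 0 := by
  have := homologyMap_homologyδOfTriangle (mappingCocone.triangle φ)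
    (DerivedCategory.mappingCocone_triangle_distinguished φ) n n' h
  exact congrArg (fun t => t.hom y) this

lemma exists_hb (n n' : ℤ) (h : n + 1 = n') (z : L.homology n) (hz : hδ φ n n' h z = 0) :
    ∃ y : K.homology n, hb φ n y = z := by
  have := homologyMap_exact₃_of_distTriang (mappingCocone.triangle φ)
    (DerivedCategory.mappingCocone_triangle_distinguished φ) n n' h
  rw [ShortComplex.moduleCat_exact_iff] at this
  exact this z hz

end LES


section Cech

open CochainComplex HomologicalComplex

lemma extCech_cons (M : ModuleCat.{u} R) (f : R) (fs : List R) :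
    extCech M (f :: fs) =
      CochainComplex.mappingCocone (locCxUnit (Submonoid.powers f) (extCech M fs)) := rfl

/-- a localisation of a zero module is zero -/
lemma subsingleton_of_isLocalizedModule (S : Submonoid R) {N N' : Type*} [AddCommGroup N]
    [AddCommGroup N'] [Module R N] [Module R N'] (g : N →ₗ[R] N') [IsLocalizedModule S g]
    [Subsingleton N] : Subsingleton N' := by
  refine ⟨fun z z' => ?_⟩
  have hz : ∀ w : N', w = 0 := by
    intro w
    obtain ⟨⟨m, s⟩, h⟩ := IsLocalizedModule.surj S g w
    have hm : m = 0 := Subsingleton.elim _ _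
    rw [hm, map_zero] at h
    apply IsLocalizedModule.smul_injective g s
    simpa using h
  rw [hz z, hz z']

/-- S9264: the cohomology of the extended Cech complex vanishes outside `[0, r]` -/
theorem isZero_extCechH (fs : List R) (M : ModuleCat.{u} R) (q : ℤ)
    (hq : q < 0 ∨ (fs.length : ℤ) < q) : IsZero (extCechH fs M q) := by
  induction fs generalizing q with
  | nil =>
    have hq0 : q ≠ 0 := by
      rcases hq with h | h
      · omega
      · simp at h; omega
    have hz : IsZero ((extCech M []).X q) := isZero_single_obj_X _ _ _ _ hq0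
    have hex : (extCech M []).ExactAt q := ShortComplex.exact_of_isZero_X₂ _ hz
    exact (HomologicalComplex.exactAt_iff_isZero_homology _ _).1 hex
  | cons f fs ih =>
    set K := extCech M fs with hK
    set φ := locCxUnit (Submonoid.powers f) K with hφ
    have h1 : IsZero (K.homology q) := ih q (by
      rcases hq with h | h
      · exact Or.inl h
      · right; simp only [List.length_cons] at h; push_cast at h; omega)
    have h2 : IsZero (K.homology (q - 1)) := ih (q - 1) (by
      rcases hq with h | h
      · left; omega
      · right; simp only [List.length_cons] at h; push_cast at h; omega)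
    have s1 : Subsingleton (K.homology q) := ModuleCat.subsingleton_of_isZero h1
    have s2 : Subsingleton (K.homology (q - 1)) := ModuleCat.subsingleton_of_isZero h2
    have := isLocalizedModule_homologyMap (Submonoid.powers f) K (q - 1)
    have s3 : Subsingleton (((locCx (Submonoid.powers f)).obj K).homology (q - 1)) :=
      subsingleton_of_isLocalizedModule (Submonoid.powers f)
        (HomologicalComplex.homologyMap (locCxUnit (Submonoid.powers f) K) (q - 1)).hom
    rw [ModuleCat.isZero_iff_subsingleton]
    refine ⟨fun x y => ?_⟩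
    have hz : ∀ w : (mappingCocone φ).homology q, w = 0 := by
      intro w
      obtain ⟨z, rfl⟩ := exists_hδ φ (q - 1) q (by omega) w (Subsingleton.elim _ _)
      rw [Subsingleton.elim z 0, map_zero]
    exact (hz x).trans (hz y).symm


/-- pointwise `g`-power torsion -/
def PT (g : R) (N : Type*) [AddCommGroup N] [Module R N] : Prop := ∀ x : N, ∃ n : ℕ, g ^ n • x = 0

lemma PT.of_isLocalizedModule (S : Submonoid R) {N N' : Type*} [AddCommGroup N]
    [AddCommGroup N'] [Module R N] [Module R N'] (l : N →ₗ[R] N') [IsLocalizedModule S l]
    (g : R) (h : PT g N) : PT g N' := by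
  intro z
  obtain ⟨⟨m, s⟩, hs⟩ := IsLocalizedModule.surj S l z
  obtain ⟨n, hn⟩ := h m
  refine ⟨n, ?_⟩
  apply IsLocalizedModule.smul_injective l s
  simp only [smul_zero]
  rw [smul_comm, hs, ← map_smul, hn, map_zero]

/-- S9265 (pointwise form): cohomology of the extended Cech complex is `g`-power torsion for
every `g` in the list -/
theorem pt_extCechH (fs : List R) (M : ModuleCat.{u} R) (g : R) (hg : g ∈ fs) (q : ℤ) :
    PT g (extCechH fs M q) := by
  induction fs generalizing q with
  | nil => simp at hg
  | cons f fs ih =>
    set K := extCech M fs with hK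
    set φ := locCxUnit (Submonoid.powers f) K with hφ
    have hloc := fun n : ℤ => isLocalizedModule_homologyMap (Submonoid.powers f) K n
    suffices key : ∀ x : ↑((mappingCocone φ).homology q), ∃ n : ℕ, g ^ n • x = 0 from key
    intro x
    by_cases hgf : g = f
    · subst hgf
      -- the image of `x` in `H^q(K)` dies in the localisation
      have h0 : hb φ q (ha φ q x) = 0 := hb_ha φ q x
      have := hloc q
      obtain ⟨⟨s, ⟨m, rfl⟩⟩, hs⟩ := (IsLocalizedModule.eq_zero_iff (Submonoid.powers g)
        (HomologicalComplex.homologyMap φ q).hom).1 h0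
      have hs' : g ^ m • ha φ q x = 0 := hs
      have h1 : ha φ q (g ^ m • x) = 0 := by rw [map_smul, hs']
      obtain ⟨z, hz⟩ := exists_hδ φ (q - 1) q (by omega) _ h1
      have := hloc (q - 1)
      obtain ⟨⟨w, ⟨t, ⟨k, rfl⟩⟩⟩, ht⟩ := IsLocalizedModule.surj (Submonoid.powers g)
        (HomologicalComplex.homologyMap φ (q - 1)).hom z
      have ht' : g ^ k • z = hb φ (q - 1) w := ht
      refine ⟨k + m, ?_⟩
      rw [pow_add, mul_smul, ← hz, ← map_smul, ht', hδ_hb]
    · have hg' : g ∈ fs := by
        rcases List.mem_cons.1 hg with h | h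
        · exact absurd h hgf
        · exact h
      obtain ⟨n, hn⟩ := ih hg' q (ha φ q x)
      have h1 : ha φ q (g ^ n • x) = 0 := by rw [map_smul, hn]
      obtain ⟨z, hz⟩ := exists_hδ φ (q - 1) q (by omega) _ h1
      have := hloc (q - 1)
      have hpt : PT g (((locCx (Submonoid.powers f)).obj K).homology (q - 1)) :=
        PT.of_isLocalizedModule (Submonoid.powers f)
          (HomologicalComplex.homologyMap φ (q - 1)).hom g (ih hg' (q - 1))
      obtain ⟨m, hm⟩ := hpt z
      refine ⟨m + n, ?_⟩
      rw [pow_add, mul_smul, ← hz, ← map_smul, hm, map_zero]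

/-- uniform exponent over a finite list -/
lemma exists_uniform_pow {N : Type*} [AddCommGroup N] [Module R N] (fs : List R) (x : N)
    (h : ∀ f ∈ fs, ∃ n : ℕ, f ^ n • x = 0) : ∃ n : ℕ, 1 ≤ n ∧ ∀ f ∈ fs, f ^ n • x = 0 := by
  induction fs with
  | nil => exact ⟨1, le_refl _, by simp⟩
  | cons f fs ih =>
    obtain ⟨n, hn1, hn⟩ := ih (fun g hg => h g (List.mem_cons_of_mem _ hg))
    obtain ⟨m, hm⟩ := h f (List.mem_cons_self)
    refine ⟨n + m, by omega, ?_⟩
    intro g hg
    rcases List.mem_cons.1 hg with rfl | hg'
    · rw [pow_add, mul_smul, hm, smul_zero]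
    · rw [add_comm, pow_add, mul_smul, hn g hg', smul_zero]


/-- `g` acts bijectively -/
def Bij (g : R) (N : Type*) [AddCommGroup N] [Module R N] : Prop :=
  Function.Bijective (fun x : N => g • x)

lemma Bij.of_isLocalizedModule (S : Submonoid R) {N N' : Type*} [AddCommGroup N]
    [AddCommGroup N'] [Module R N] [Module R N'] (l : N →ₗ[R] N') [IsLocalizedModule S l]
    (g : R) (h : Bij g N) : Bij g N' := by
  constructor
  · intro z z' hzz'
    have hzz : g • (z - z') = 0 := by
      have : g • z = g • z' := hzz'
      rw [smul_sub, this, sub_self]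
    obtain ⟨⟨m, s⟩, hs⟩ := IsLocalizedModule.surj S l (z - z')
    have hs' : s • (z - z') = l m := hs
    have h1 : l (g • m) = 0 := by
      rw [map_smul, ← hs', smul_comm, hzz, smul_zero]
    obtain ⟨t, ht⟩ := (IsLocalizedModule.eq_zero_iff S l).1 h1
    have h2 : g • (t • m) = 0 := by
      rw [smul_comm]
      exact ht
    have h3 : t • m = 0 := h.1 (by simpa using h2)
    have h4 : l m = 0 := by
      apply IsLocalizedModule.smul_injective l t
      simp only [smul_zero]
      have e : (t : R) • l m = l ((t : R) • m) := (map_smul l (t : R) m).symm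
      rw [Submonoid.smul_def, e, ← Submonoid.smul_def, h3, map_zero]
    have h5 : z - z' = 0 := by
      apply IsLocalizedModule.smul_injective l s
      simp only [smul_zero]
      rw [hs', h4]
    exact sub_eq_zero.1 h5
  · intro z
    obtain ⟨⟨m, s⟩, hs⟩ := IsLocalizedModule.surj S l z
    have hs' : s • z = l m := hs
    obtain ⟨m', hm'⟩ := h.2 m
    have hm'' : g • m' = m := hm'
    refine ⟨IsLocalizedModule.mk' l m' s, ?_⟩
    apply IsLocalizedModule.smul_injective l s
    change s • (g • IsLocalizedModule.mk' l m' s) = s • z
    rw [smul_comm, IsLocalizedModule.mk'_cancel', hs', ← hm'', map_smul]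


lemma Bij.of_linearEquiv {N N' : Type*} [AddCommGroup N] [AddCommGroup N'] [Module R N]
    [Module R N'] (e : N ≃ₗ[R] N') (g : R) (h : Bij g N) : Bij g N' := by
  constructor
  · intro z z' hzz'
    apply e.symm.injective
    apply h.1
    change g • e.symm z = g • e.symm z'
    rw [← map_smul, ← map_smul]
    exact congrArg e.symm hzz'
  · intro z
    obtain ⟨m, hm⟩ := h.2 (e.symm z)
    refine ⟨e m, ?_⟩
    change g • e m = z
    rw [← map_smul]
    have : g • m = e.symm z := hm
    rw [this, e.apply_symm_apply]

lemma Bij.of_subsingleton {N : Type*} [AddCommGroup N] [Module R N] [Subsingleton N] (g : R) :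
    Bij g N :=
  ⟨fun _ _ _ => Subsingleton.elim _ _, fun z => ⟨0, Subsingleton.elim _ _⟩⟩

/-- if `g` acts bijectively on `M`, it acts bijectively on the cohomology of the extended
Cech complex -/
theorem bij_extCechH (fs : List R) (M : ModuleCat.{u} R) (g : R) (hg : Bij g M) (q : ℤ) :
    Bij g (extCechH fs M q) := by
  induction fs generalizing q with
  | nil =>
    by_cases hq : q = 0
    · subst hq
      exact Bij.of_linearEquiv
        (HomologicalComplex.singleObjHomologySelfIso (ComplexShape.up ℤ) 0 M).symm.toLinearEquiv g hg
    · have hz : IsZero (extCechH [] M q) := isZero_extCechH [] M q (by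
        rcases lt_or_gt_of_ne hq with h | h
        · exact Or.inl h
        · right; simpa using h)
      have := ModuleCat.subsingleton_of_isZero hz
      exact Bij.of_subsingleton g
  | cons f fs ih =>
    set K := extCech M fs with hK
    set φ := locCxUnit (Submonoid.powers f) K with hφ
    have hloc := fun n : ℤ => isLocalizedModule_homologyMap (Submonoid.powers f) K n
    have b1 : Bij g (K.homology q) := ih q
    have b2 : Bij g (K.homology (q - 1)) := ih (q - 1)
    have b3 : Bij g (((locCx (Submonoid.powers f)).obj K).homology q) :=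
      have := hloc q
      Bij.of_isLocalizedModule (Submonoid.powers f) (HomologicalComplex.homologyMap φ q).hom g b1
    have b4 : Bij g (((locCx (Submonoid.powers f)).obj K).homology (q - 1)) :=
      have := hloc (q - 1)
      Bij.of_isLocalizedModule (Submonoid.powers f)
        (HomologicalComplex.homologyMap φ (q - 1)).hom g b2
    suffices key : Bij g ↑((mappingCocone φ).homology q) from key
    constructor
    · intro x x' hxx'
      have hx : g • (x - x') = 0 := by
        have : g • x = g • x' := hxx'
        rw [smul_sub, this, sub_self]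
      have h1 : ha φ q (x - x') = 0 := by
        apply b1.1
        change g • ha φ q (x - x') = g • 0
        rw [← map_smul, hx, map_zero, smul_zero]
      obtain ⟨z, hz⟩ := exists_hδ φ (q - 1) q (by omega) _ h1
      have h2 : hδ φ (q - 1) q (by omega) (g • z) = 0 := by rw [map_smul, hz, hx]
      obtain ⟨y, hy⟩ := exists_hb φ (q - 1) q (by omega) _ h2
      obtain ⟨y', hy'⟩ := b2.2 y
      have hy'' : g • y' = y := hy'
      have h3 : z = hb φ (q - 1) y' := by
        apply b4.1
        change g • z = g • hb φ (q - 1) y'
        rw [← hy, ← hy'', map_smul]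
      have h4 : x - x' = 0 := by rw [← hz, h3, hδ_hb]
      exact sub_eq_zero.1 h4
    · intro x
      obtain ⟨y, hy⟩ := b1.2 (ha φ q x)
      have hy' : g • y = ha φ q x := hy
      have h1 : hb φ q y = 0 := by
        apply b3.1
        change g • hb φ q y = g • 0
        rw [← map_smul, hy', hb_ha, smul_zero]
      obtain ⟨x', hx'⟩ := exists_ha φ q y h1
      have h2 : ha φ q (x - g • x') = 0 := by
        rw [map_sub, map_smul, hx', hy', sub_self]
      obtain ⟨z, hz⟩ := exists_hδ φ (q - 1) q (by omega) _ h2
      obtain ⟨z', hz'⟩ := b4.2 z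
      have hz'' : g • z' = z := hz'
      refine ⟨x' + hδ φ (q - 1) q (by omega) z', ?_⟩
      change g • (x' + hδ φ (q - 1) q (by omega) z') = x
      rw [smul_add, ← map_smul, hz'', hz]
      abel


/-- S9266: if some element of the ideal generated by the list acts bijectively on `M`, the
extended Cech complex is acyclic -/
theorem isZero_extCechH_of_bij (fs : List R) (M : ModuleCat.{u} R) (f : R)
    (hf : f ∈ Ideal.span {a : R | a ∈ fs}) (hbij : Function.Bijective (fun m : M => f • m))
    (q : ℤ) : IsZero (extCechH fs M q) := by
  have hb : Bij f (extCechH fs M q) := bij_extCechH fs M f hbij q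
  rw [ModuleCat.isZero_iff_subsingleton]
  have hz : ∀ x : extCechH fs M q, x = 0 := by
    intro x
    have hle : Ideal.span {a : R | a ∈ fs} ≤ (Ideal.torsionOf R _ x).radical := by
      rw [Ideal.span_le]
      intro a ha
      obtain ⟨n, hn⟩ := pt_extCechH fs M a ha q x
      exact ⟨n, (Ideal.mem_torsionOf_iff _ _).2 hn⟩
    obtain ⟨n, hn⟩ := hle hf
    rw [Ideal.mem_torsionOf_iff] at hn
    clear hle
    induction n with
    | zero => simpa using hn
    | succ n ih =>
      apply ih
      apply hb.1
      change f • (f ^ n • x) = f • 0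
      rw [smul_zero, ← mul_smul, ← pow_succ']
      exact hn
  exact ⟨fun x y => (hz x).trans (hz y).symm⟩

end Cech

end Groth.Agent.Lib.Helper1.ExtCech
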