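import Mathlib
import Groth.Prelude.Def_DerCA
import Groth.Prelude.Def_DRing3
import Groth.Agent.Lib.Helper1ExtCech

/-! Extended alternating Cech complex, part 2: `H^0 = Γ_I`, contractibility when an element is a
unit (helper1). -/

set_option autoImplicit false
set_option maxHeartbeats 400000
set_option backward.isDefEq.respectTransparency.types false
universe u
open CategoryTheory CategoryTheory.Limits

namespace Groth.Agent.Lib.Helper1.ExtCech

open DerCA CochainComplex HomologicalComplex

variable {R : Type u} [CommRing R]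

lemma mem_torsionSub_sup_iff (J : Ideal R) (f : R) (M : Type u) [AddCommGroup M] [Module R M]
    (m : M) : m ∈ DRing.torsionSub (Ideal.span {f} ⊔ J) M ↔
      m ∈ DRing.torsionSub J M ∧ ∃ k : ℕ, f ^ k • m = 0 := by
  constructor
  · rintro ⟨n, hn⟩
    refine ⟨⟨n, fun a ha => hn a (Ideal.pow_right_mono le_sup_right n ha)⟩, n, ?_⟩
    apply hn
    exact Ideal.pow_mem_pow (Ideal.mem_sup_left (Ideal.mem_span_singleton_self f)) n
  · rintro ⟨⟨n, hn⟩, k, hk⟩
    refine ⟨k + n, fun a ha => ?_⟩
    have h1 := Ideal.sup_pow_add_le_pow_sup_pow (I := Ideal.span {f}) (J := J) (n := k) (m := n) ha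
    obtain ⟨a₁, ha₁, a₂, ha₂, rfl⟩ := Submodule.mem_sup.1 h1
    rw [Ideal.span_singleton_pow, Ideal.mem_span_singleton'] at ha₁
    obtain ⟨r, rfl⟩ := ha₁
    rw [add_smul, mul_smul, hk, smul_zero, hn a₂ ha₂, add_zero]


lemma span_cons (f : R) (fs : List R) :
    Ideal.span {x : R | x ∈ f :: fs} = Ideal.span {f} ⊔ Ideal.span {x : R | x ∈ fs} := by
  rw [← Ideal.span_union]
  congr 1
  ext x
  simp [List.mem_cons]

/-- `H^0` of the extended Cech complex embeds in `M` with image `Γ_I(M)` -/
theorem exists_H0_embedding (fs : List R) (M : ModuleCat.{u} R) :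
    ∃ ι : extCechH fs M 0 →ₗ[R] M, Function.Injective ι ∧
      LinearMap.range ι = DRing.torsionSub (Ideal.span {x : R | x ∈ fs}) M := by
  induction fs with
  | nil =>
    refine ⟨(HomologicalComplex.singleObjHomologySelfIso (ComplexShape.up ℤ) 0 M).toLinearEquiv.toLinearMap,
      LinearEquiv.injective _, ?_⟩
    rw [LinearEquiv.range]
    symm
    rw [eq_top_iff]
    intro m _
    refine ⟨1, fun a ha => ?_⟩
    have : a = 0 := by
      have h0 : {x : R | x ∈ ([] : List R)} = ∅ := by ext; simp
      rw [h0, Ideal.span_empty, pow_one] at ha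
      exact ha
    rw [this, zero_smul]
  | cons f fs ih =>
    obtain ⟨ι, hι, hr⟩ := ih
    set K := extCech M fs with hK
    set φ := locCxUnit (Submonoid.powers f) K with hφ
    have hloc := fun n : ℤ => isLocalizedModule_homologyMap (Submonoid.powers f) K n
    -- vanishing of `H^{-1}(K_f)`
    have hz : IsZero (K.homology (-1)) := isZero_extCechH fs M (-1) (Or.inl (by omega))
    have s2 : Subsingleton (K.homology (-1)) := ModuleCat.subsingleton_of_isZero hz
    have := hloc (-1)
    have s3 : Subsingleton (((locCx (Submonoid.powers f)).obj K).homology (-1)) :=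
      subsingleton_of_isLocalizedModule (Submonoid.powers f)
        (HomologicalComplex.homologyMap (locCxUnit (Submonoid.powers f) K) (-1)).hom
    have hainj : Function.Injective (ha φ 0) := by
      intro x x' hxx'
      have h1 : ha φ 0 (x - x') = 0 := by rw [map_sub, hxx', sub_self]
      obtain ⟨z, hz⟩ := exists_hδ φ (-1) 0 (by omega) _ h1
      rw [Subsingleton.elim z 0, map_zero] at hz
      exact sub_eq_zero.1 hz.symm
    suffices key : ∃ ι' : ↑((mappingCocone φ).homology 0) →ₗ[R] M, Function.Injective ι' ∧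
        LinearMap.range ι' = DRing.torsionSub (Ideal.span {x : R | x ∈ f :: fs}) M from key
    refine ⟨ι ∘ₗ (ha φ 0).hom, hι.comp hainj, ?_⟩
    ext m
    rw [span_cons, mem_torsionSub_sup_iff, ← hr]
    have := hloc 0
    constructor
    · rintro ⟨x, rfl⟩
      refine ⟨⟨_, rfl⟩, ?_⟩
      have h0 : hb φ 0 (ha φ 0 x) = 0 := hb_ha φ 0 x
      obtain ⟨⟨s, ⟨k, rfl⟩⟩, hs⟩ := (IsLocalizedModule.eq_zero_iff (Submonoid.powers f)
        (HomologicalComplex.homologyMap φ 0).hom).1 h0
      have hs' : f ^ k • ha φ 0 x = 0 := hs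
      refine ⟨k, ?_⟩
      change f ^ k • ι (ha φ 0 x) = 0
      rw [← map_smul, hs', map_zero]
    · rintro ⟨⟨y, rfl⟩, k, hk⟩
      have h1 : f ^ k • y = 0 := by
        apply hι
        rw [map_smul, hk, map_zero]
      have h2 : hb φ 0 y = 0 :=
        (IsLocalizedModule.eq_zero_iff (Submonoid.powers f)
          (HomologicalComplex.homologyMap φ 0).hom).2 ⟨⟨f ^ k, ⟨k, rfl⟩⟩, h1⟩
      obtain ⟨x, hx⟩ := exists_ha φ 0 y h2
      exact ⟨x, by change ι (ha φ 0 x) = ι y; rw [hx]⟩

/-- S17776: `H^0` of the extended Cech complex is `Γ_I(M)` -/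
theorem nonempty_H0_iso_gammaI (fs : List R) (M : ModuleCat.{u} R) :
    Nonempty (extCechH fs M 0 ≅ (DRing.gammaI (Ideal.span {x : R | x ∈ fs})).obj M) := by
  obtain ⟨ι, hι, hr⟩ := exists_H0_embedding fs M
  exact ⟨((LinearEquiv.ofInjective ι hι).trans (LinearEquiv.ofEq _ _ hr)).toModuleIso⟩


section Contractible

lemma bijective_mkLinearMap_of_isUnit (S : Submonoid R) (hS : ∀ s ∈ S, IsUnit s)
    (N : Type u) [AddCommGroup N] [Module R N] :
    Function.Bijective (LocalizedModule.mkLinearMap S N) := by
  have hid : IsLocalizedModule S (LinearMap.id : N →ₗ[R] N) :=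
    { map_units := fun s => (hS s s.2).map (algebraMap R (Module.End R N))
      surj := fun m => ⟨(m, 1), one_smul _ _⟩
      exists_of_eq := fun h => ⟨1, congrArg _ h⟩ }
  let e := IsLocalizedModule.linearEquiv S (LocalizedModule.mkLinearMap S N)
    (LinearMap.id : N →ₗ[R] N)
  have he : ∀ m : N, e (LocalizedModule.mkLinearMap S N m) = m := fun m =>
    IsLocalizedModule.linearEquiv_apply S _ _ m
  constructor
  · intro m m' h
    rw [← he m, ← he m', h]
  · intro z
    refine ⟨e z, e.injective ?_⟩
    rw [he]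

lemma isIso_locCxUnit_of_isUnit (S : Submonoid R) (hS : ∀ s ∈ S, IsUnit s) (K : DRing.Cx R) :
    IsIso (locCxUnit S K) := by
  have : ∀ n : ℤ, IsIso ((locCxUnit S K).f n) := by
    intro n
    change IsIso ((locUnit S).app (K.X n))
    rw [ConcreteCategory.isIso_iff_bijective]
    exact bijective_mkLinearMap_of_isUnit S hS (K.X n)
  exact HomologicalComplex.Hom.isIso_of_components _

/-- the mapping cocone of a homotopy equivalence is contractible -/
lemma contractible_mappingCocone {K L : DRing.Cx R} (φ : K ⟶ L)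
    (h : IsIso ((HomotopyCategory.quotient _ _).map φ)) :
    Nonempty (Homotopy (𝟙 (mappingCocone φ)) 0) := by
  rw [← HomotopyCategory.isZero_quotient_obj_iff]
  have hT := HomotopyCategory.mappingCone_triangleh_distinguished φ
  have h1 : IsIso (CochainComplex.mappingCone.triangleh φ).mor₁ := h
  have hz : IsZero ((HomotopyCategory.quotient _ _).obj (mappingCone φ)) :=
    (Pretriangulated.Triangle.isZero₃_iff_isIso₁ _ hT).2 h1
  have e : (HomotopyCategory.quotient (ModuleCat.{u} R) (ComplexShape.up ℤ)).obj (mappingCocone φ) ≅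
      ((HomotopyCategory.quotient _ _).obj (mappingCone φ))⟦(-1 : ℤ)⟧ :=
    ((HomotopyCategory.quotient _ _).commShiftIso (-1 : ℤ)).app (mappingCone φ)
  exact IsZero.of_iso ((CategoryTheory.shiftFunctor _ (-1 : ℤ)).map_isZero hz) e

/-- S9263: if some element of the list is a unit, the extended Cech complex is contractible -/
theorem contractible_extCech (fs : List R) (hf : ∃ f ∈ fs, IsUnit f) (M : ModuleCat.{u} R) :
    Nonempty (Homotopy (𝟙 (extCech M fs)) 0) := by
  induction fs with
  | nil => simp at hf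
  | cons f fs ih =>
    set K := extCech M fs with hK
    set φ := locCxUnit (Submonoid.powers f) K with hφ
    suffices key : Nonempty (Homotopy (𝟙 (mappingCocone φ)) 0) from key
    apply contractible_mappingCocone
    by_cases hu : IsUnit f
    · have : IsIso φ := isIso_locCxUnit_of_isUnit _ (by
        rintro s ⟨k, rfl⟩
        exact hu.pow k) K
      infer_instance
    · have hf' : ∃ g ∈ fs, IsUnit g := by
        obtain ⟨g, hg, hgu⟩ := hf
        rcases List.mem_cons.1 hg with rfl | hg'
        · exact absurd hgu hu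
        · exact ⟨g, hg', hgu⟩
      obtain ⟨hK0⟩ := ih hf'
      have z1 : IsZero ((HomotopyCategory.quotient _ _).obj K) :=
        (HomotopyCategory.isZero_quotient_obj_iff K).2 ⟨hK0⟩
      have hL0 : Homotopy (𝟙 ((locCx (Submonoid.powers f)).obj K)) 0 := by
        have := (locFunctor (Submonoid.powers f)).mapHomotopy hK0
        simpa using this
      have z2 : IsZero ((HomotopyCategory.quotient _ _).obj ((locCx (Submonoid.powers f)).obj K)) :=
        (HomotopyCategory.isZero_quotient_obj_iff _).2 ⟨hL0⟩
      exact ⟨⟨0, z1.eq_of_src _ _, z2.eq_of_src _ _⟩⟩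

end Contractible

end Groth.Agent.Lib.Helper1.ExtCech
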