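import Mathlib
import Groth.Prelude.Def_DerCA
import Groth.Prelude.Def_DRing3
import Groth.Agent.Lib.Helper1ExtCech2

/-! Extended alternating Cech complex, part 3: injective modules over Noetherian rings
(`Γ_J` of an injective is injective; divisibility up to torsion; vanishing of higher cohomology)
(helper1). -/

set_option autoImplicit false
set_option maxHeartbeats 400000
set_option backward.isDefEq.respectTransparency.types false
universe u
open CategoryTheory CategoryTheory.Limits

namespace Groth.Agent.Lib.Helper1.ExtCech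

open DerCA CochainComplex HomologicalComplex

variable {R : Type u} [CommRing R]

/-- L2: in an injective module over a Noetherian ring, every element is divisible by `f^k`
up to `f`-power torsion -/
theorem exists_div_of_injective [IsNoetherianRing R] (N : Type u) [AddCommGroup N] [Module R N]
    [Module.Injective R N] (f : R) (y : N) (k : ℕ) :
    ∃ (y' : N) (t : ℕ), f ^ t • (f ^ k • y' - y) = 0 := by
  -- the annihilators of `f^t` stabilise
  let ann : ℕ →o Ideal R :=
    ⟨fun t => LinearMap.ker (LinearMap.lsmul R R (f ^ t)), by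
      intro s t hst r hr
      rw [LinearMap.mem_ker] at hr ⊢
      obtain ⟨d, rfl⟩ := Nat.exists_eq_add_of_le hst
      change f ^ (s + d) • r = 0
      have hr' : f ^ s • r = 0 := hr
      rw [pow_add, mul_comm, mul_smul, hr', smul_zero]⟩
  obtain ⟨t₀, ht₀⟩ := monotone_stabilizes_iff_noetherian.2 inferInstance ann
  have hann : ∀ r : R, f ^ (k + t₀) * r = 0 → f ^ t₀ * r = 0 := by
    intro r hr
    have h1 : r ∈ ann (k + t₀) := by
      change f ^ (k + t₀) • r = 0
      exact hr
    rw [← ht₀ (k + t₀) (by omega)] at h1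
    exact h1
  -- the two maps out of `R ⧸ ann`
  let A : Ideal R := ann (k + t₀)
  let μ : R →ₗ[R] R := LinearMap.lsmul R R (f ^ (k + t₀))
  let i : (R ⧸ A) →ₗ[R] R := Submodule.liftQ A μ (le_refl _)
  have hi : Function.Injective i := by
    rw [← LinearMap.ker_eq_bot]
    exact Submodule.ker_liftQ_eq_bot _ _ _ (le_refl _)
  let ν : R →ₗ[R] N := (LinearMap.toSpanSingleton R N y).comp (LinearMap.lsmul R R (f ^ t₀))
  have hν : A ≤ LinearMap.ker ν := by
    intro r hr
    rw [LinearMap.mem_ker]
    change (f ^ t₀ • r) • y = 0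
    have : f ^ t₀ * r = 0 := hann r hr
    rw [smul_eq_mul, this, zero_smul]
  let g : (R ⧸ A) →ₗ[R] N := Submodule.liftQ A ν hν
  obtain ⟨h, hh⟩ := Module.Injective.out i hi g
  refine ⟨h 1, t₀, ?_⟩
  have h1 := hh (Submodule.Quotient.mk 1)
  have h2 : i (Submodule.Quotient.mk 1) = f ^ (k + t₀) := by
    change f ^ (k + t₀) • (1 : R) = _
    simp
  have h3 : g (Submodule.Quotient.mk 1) = f ^ t₀ • y := by
    change (f ^ t₀ • (1 : R)) • y = _
    simp
  rw [h2, h3] at h1
  have h4 : h (f ^ (k + t₀)) = f ^ (k + t₀) • h 1 := by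
    rw [← map_smul]
    simp
  rw [h4] at h1
  rw [smul_sub, ← mul_smul, ← pow_add, add_comm t₀ k, h1, sub_self]


/-- L1: over a Noetherian ring, the `J`-power torsion of an injective module is injective -/
theorem injective_torsionSub [IsNoetherianRing R] (J : Ideal R) (E : Type u) [AddCommGroup E]
    [Module R E] [Module.Injective R E] : Module.Injective R (DRing.torsionSub J E) := by
  apply Module.Baer.injective
  intro 𝔟 g
  -- a uniform exponent killing the image of `g`
  let Tn : ℕ →o Submodule R 𝔟 :=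
    ⟨fun n =>
      { carrier := {x | ∀ a ∈ J ^ n, a • (g x : E) = 0}
        zero_mem' := fun a _ => by simp
        add_mem' := fun {x x'} hx hx' a ha => by
          rw [map_add, Submodule.coe_add, smul_add, hx a ha, hx' a ha, add_zero]
        smul_mem' := fun c x hx a ha => by
          rw [map_smul, Submodule.coe_smul, smul_comm, hx a ha, smul_zero] },
      fun n n' hnn' x hx a ha => hx a (Ideal.pow_le_pow_right hnn' ha)⟩
  obtain ⟨n₀, hn₀⟩ := monotone_stabilizes_iff_noetherian.2 (inferInstance : IsNoetherian R 𝔟) Tn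
  have hn : ∀ a ∈ J ^ n₀, ∀ x : 𝔟, a • (g x : E) = 0 := by
    intro a ha x
    obtain ⟨nx, hx⟩ := (g x).2
    have h1 : x ∈ Tn nx := hx
    have h2 : x ∈ Tn (max nx n₀) := Tn.monotone (le_max_left _ _) h1
    rw [← hn₀ (max nx n₀) (le_max_right _ _)] at h2
    exact h2 a ha
  -- Artin-Rees
  obtain ⟨c, hc⟩ := Ideal.exists_pow_inf_eq_pow_smul J (𝔟 : Submodule R R)
  set m := n₀ + c with hm
  have hvan : ∀ x : 𝔟, (x : R) ∈ J ^ m → (g x : E) = 0 := by
    intro x hx
    have h1 : (x : R) ∈ J ^ m • (⊤ : Submodule R R) ⊓ 𝔟 := by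
      refine ⟨?_, x.2⟩
      rw [Ideal.smul_top_eq_map, Algebra.algebraMap_self, Ideal.map_id]
      exact hx
    rw [hc m (by omega)] at h1
    have h2 : m - c = n₀ := by omega
    rw [h2] at h1
    -- `x = Σ aᵢ xᵢ` with `aᵢ ∈ J^n₀`, `xᵢ ∈ 𝔟`
    have key : ∀ z ∈ J ^ n₀ • (J ^ c • (⊤ : Submodule R R) ⊓ 𝔟),
        ∃ hz : z ∈ 𝔟, (g ⟨z, hz⟩ : E) = 0 := by
      intro z hz
      refine Submodule.smul_induction_on hz ?_ ?_
      · intro a ha w hw
        have hw' : w ∈ 𝔟 := hw.2
        refine ⟨𝔟.smul_mem a hw', ?_⟩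
        have : (⟨a • w, 𝔟.smul_mem a hw'⟩ : 𝔟) = a • ⟨w, hw'⟩ := rfl
        rw [this, map_smul, Submodule.coe_smul]
        exact hn a ha _
      · rintro z₁ z₂ ⟨h₁, e₁⟩ ⟨h₂, e₂⟩
        refine ⟨𝔟.add_mem h₁ h₂, ?_⟩
        have : (⟨z₁ + z₂, 𝔟.add_mem h₁ h₂⟩ : 𝔟) = ⟨z₁, h₁⟩ + ⟨z₂, h₂⟩ := rfl
        rw [this, map_add, Submodule.coe_add, e₁, e₂, add_zero]
    obtain ⟨hz, e⟩ := key _ h1
    exact e
  -- extend using the injectivity of `E`
  let B' : Submodule R 𝔟 := Submodule.comap 𝔟.subtype (J ^ m)
  let i : (𝔟 ⧸ B') →ₗ[R] (R ⧸ J ^ m) := Submodule.mapQ B' (J ^ m) 𝔟.subtype (le_refl _)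
  have hi : Function.Injective i := by
    rw [← LinearMap.ker_eq_bot, LinearMap.ker_eq_bot']
    intro x hx
    induction x using Submodule.Quotient.induction_on with
    | H x =>
      rw [Submodule.Quotient.mk_eq_zero]
      have : i (Submodule.Quotient.mk x) = Submodule.Quotient.mk (x : R) := rfl
      rw [this, Submodule.Quotient.mk_eq_zero] at hx
      exact hx
  let g₀ : 𝔟 →ₗ[R] E := (DRing.torsionSub J E).subtype ∘ₗ g
  have hg₀ : B' ≤ LinearMap.ker g₀ := by
    intro x hx
    rw [LinearMap.mem_ker]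
    exact hvan x hx
  let gq : (𝔟 ⧸ B') →ₗ[R] E := Submodule.liftQ B' g₀ hg₀
  obtain ⟨h, hh⟩ := Module.Injective.out i hi gq
  let g₁ : R →ₗ[R] E := h ∘ₗ (J ^ m).mkQ
  have hg₁ : ∀ r : R, g₁ r ∈ DRing.torsionSub J E := by
    intro r
    refine ⟨m, fun a ha => ?_⟩
    change a • h (Submodule.Quotient.mk r) = 0
    rw [← map_smul, ← Submodule.Quotient.mk_smul]
    have : (Submodule.Quotient.mk (a • r) : R ⧸ J ^ m) = 0 := by
      rw [Submodule.Quotient.mk_eq_zero]
      exact Ideal.mul_mem_right _ _ ha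
    rw [this, map_zero]
  refine ⟨LinearMap.codRestrict (DRing.torsionSub J E) g₁ hg₁, ?_⟩
  intro x mem
  apply Subtype.ext
  change h (Submodule.Quotient.mk x) = (g ⟨x, mem⟩ : E)
  have h1 := hh (Submodule.Quotient.mk ⟨x, mem⟩)
  exact h1


lemma injective_of_linearEquiv {N N' : Type u} [AddCommGroup N] [AddCommGroup N'] [Module R N]
    [Module R N'] (e : N ≃ₗ[R] N') [Module.Injective R N] : Module.Injective R N' :=
  Module.Baer.injective (Module.Baer.of_equiv e (Module.Baer.of_injective inferInstance))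

/-- S17778: over a Noetherian ring the extended Cech complex of an injective module has no
higher cohomology -/
theorem isZero_extCechH_pos_of_injective [IsNoetherianRing R] (fs : List R) (E : ModuleCat.{u} R)
    [Module.Injective R E] (q : ℤ) (hq : 1 ≤ q) : IsZero (extCechH fs E q) := by
  induction fs generalizing q with
  | nil => exact isZero_extCechH [] E q (Or.inr (by simp; omega))
  | cons f fs ih =>
    set K := extCech E fs with hK
    set φ := locCxUnit (Submonoid.powers f) K with hφ
    have hloc := fun n : ℤ => isLocalizedModule_homologyMap (Submonoid.powers f) K n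
    have s1 : Subsingleton (K.homology q) := ModuleCat.subsingleton_of_isZero (ih q hq)
    rw [ModuleCat.isZero_iff_subsingleton]
    suffices key : ∀ x : ↑((mappingCocone φ).homology q), x = 0 from
      ⟨fun x y => (key x).trans (key y).symm⟩
    intro x
    by_cases hq2 : 2 ≤ q
    · obtain ⟨z, rfl⟩ := exists_hδ φ (q - 1) q (by omega) x (Subsingleton.elim _ _)
      have s2 : Subsingleton (K.homology (q - 1)) :=
        ModuleCat.subsingleton_of_isZero (ih (q - 1) (by omega))
      have := hloc (q - 1)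
      have s3 : Subsingleton (((locCx (Submonoid.powers f)).obj K).homology (q - 1)) :=
        subsingleton_of_isLocalizedModule (Submonoid.powers f)
          (HomologicalComplex.homologyMap (locCxUnit (Submonoid.powers f) K) (q - 1)).hom
      rw [Subsingleton.elim z 0, map_zero]
    · obtain rfl : q = 1 := by omega
      obtain ⟨z, rfl⟩ := exists_hδ φ 0 1 (by norm_num) x (Subsingleton.elim _ _)
      -- `H^0(K)` is injective
      obtain ⟨ι, hι, hr⟩ := exists_H0_embedding fs E
      have hinjT := injective_torsionSub (Ideal.span {x : R | x ∈ fs}) E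
      let e : ↥(DRing.torsionSub (Ideal.span {x : R | x ∈ fs}) E) ≃ₗ[R] K.homology 0 :=
        ((LinearEquiv.ofInjective ι hι).trans (LinearEquiv.ofEq _ _ hr)).symm
      have hinj : Module.Injective R (K.homology 0) := injective_of_linearEquiv e
      have hloc0 : IsLocalizedModule (Submonoid.powers f)
          (HomologicalComplex.homologyMap φ 0).hom := hloc 0
      obtain ⟨⟨y, ⟨s, ⟨k, rfl⟩⟩⟩, hs⟩ := IsLocalizedModule.surj (Submonoid.powers f)
        (HomologicalComplex.homologyMap φ 0).hom z
      have hs' : f ^ k • z = hb φ 0 y := hs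
      obtain ⟨y', t, ht⟩ := exists_div_of_injective (K.homology 0) f y k
      -- `b` kills `f`-power torsion
      have h1 : hb φ 0 (f ^ k • y' - y) = 0 :=
        (IsLocalizedModule.eq_zero_iff (Submonoid.powers f)
          (HomologicalComplex.homologyMap φ 0).hom).2 ⟨⟨f ^ t, ⟨t, rfl⟩⟩, ht⟩
      have h2 : f ^ k • hb φ 0 y' = f ^ k • z := by
        rw [hs', ← map_smul]
        rw [map_sub, sub_eq_zero] at h1
        exact h1
      have h3 : hb φ 0 y' = z :=
        IsLocalizedModule.smul_injective (HomologicalComplex.homologyMap φ 0).hom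
          (⟨f ^ k, ⟨k, rfl⟩⟩ : Submonoid.powers f) h2
      rw [← h3, hδ_hb]

end Groth.Agent.Lib.Helper1.ExtCech
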