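import Mathlib
import Groth.Prelude.Def_CohTop
import Groth.Prelude.Def_FreeSh

/-!
# Flasque sheaves are acyclic (helper16)

* `ext_vanish`: abstract dimension-shifting lemma: if a class `P` of objects of an abelian category with enough
  injectives contains the injectives, is closed under cokernels of monos between members, and `Hom(A, -)` is
  right exact on short exact sequences starting in `P`, then `Ext^{n+1}(A, F) = 0` for all `F ∈ P`.
* `injective_isFlasque`: injective abelian sheaves on a space are flasque.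
* `HU_subsingleton`, `H_subsingleton`: flasque sheaves are acyclic for `H^n(U, -)` and `H^n(X, -)`.
-/

set_option autoImplicit false
universe w v v' u u'
open CategoryTheory CategoryTheory.Limits Opposite TopologicalSpace Abelian

namespace Groth.Agent.Lib.Helper16.Flasque

section Abstract

variable {𝒜 : Type u} [Category.{v} 𝒜] [Abelian 𝒜] [HasExt.{w} 𝒜] [EnoughInjectives 𝒜]

/-- Abstract dimension shifting. -/
theorem ext_vanish (P : 𝒜 → Prop) (A : 𝒜)
    (hinj : ∀ I : 𝒜, Injective I → P I)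
    (h23 : ∀ S : ShortComplex 𝒜, S.ShortExact → P S.X₁ → P S.X₂ → P S.X₃)
    (hsurj : ∀ S : ShortComplex 𝒜, S.ShortExact → P S.X₁ → ∀ x : A ⟶ S.X₃, ∃ y : A ⟶ S.X₂, y ≫ S.g = x)
    (n : ℕ) : ∀ (F : 𝒜), P F → ∀ x : Ext.{w} A F (n + 1), x = 0 := by
  induction n with
  | zero =>
    intro F hF x
    let S : ShortComplex 𝒜 := ShortComplex.mk (Injective.ι F) (cokernel.π (Injective.ι F))
      (cokernel.condition _)
    have hS : S.ShortExact :=
      { exact := ShortComplex.exact_of_g_is_cokernel _ (cokernelIsCokernel _)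
        mono_f := by dsimp [S]; infer_instance
        epi_g := by dsimp [S]; infer_instance }
    have h0 : x.comp (Ext.mk₀ S.f) (add_zero 1) = 0 :=
      Ext.eq_zero_of_injective (I := Injective.under F) _
    obtain ⟨x₃, hx₃⟩ := Ext.covariant_sequence_exact₁ A hS x h0 (zero_add 1)
    obtain ⟨φ, rfl⟩ := (Ext.mk₀_bijective A S.X₃).2 x₃
    obtain ⟨ψ, hψ⟩ := hsurj S hS hF φ
    rw [← hx₃, ← hψ, ← Ext.mk₀_comp_mk₀, Ext.comp_assoc_of_second_deg_zero,
      ShortComplex.ShortExact.comp_extClass, Ext.comp_zero]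
  | succ m ih =>
    intro F hF x
    let S : ShortComplex 𝒜 := ShortComplex.mk (Injective.ι F) (cokernel.π (Injective.ι F))
      (cokernel.condition _)
    have hS : S.ShortExact :=
      { exact := ShortComplex.exact_of_g_is_cokernel _ (cokernelIsCokernel _)
        mono_f := by dsimp [S]; infer_instance
        epi_g := by dsimp [S]; infer_instance }
    have h0 : x.comp (Ext.mk₀ S.f) (add_zero (m + 1 + 1)) = 0 :=
      Ext.eq_zero_of_injective (I := Injective.under F) _
    obtain ⟨x₃, hx₃⟩ := Ext.covariant_sequence_exact₁ A hS x h0 (rfl : m + 1 + 1 = m + 1 + 1)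
    have hQ : P S.X₃ := h23 S hS hF (hinj _ (by dsimp [S]; infer_instance))
    rw [← hx₃, ih S.X₃ hQ x₃, Ext.zero_comp]

end Abstract

section RD

variable {𝒜 : Type u} [Category.{v} 𝒜] [Abelian 𝒜]

/-- from a 3-term exact piece `A ⟶ B ⟶ C ⟶ D` with `A ⟶ B` mono, a short exact sequence `A ⟶ B ⟶ ker (C ⟶ D)`. -/
lemma shortExact_lift {A B C D : 𝒜} (f : A ⟶ B) [Mono f] (a : B ⟶ C) (b : C ⟶ D) (w₁ : f ≫ a = 0)
    (w₂ : a ≫ b = 0) (h₁ : (ShortComplex.mk f a w₁).Exact) (h₂ : (ShortComplex.mk a b w₂).Exact) :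
    (ShortComplex.mk f (kernel.lift b a w₂) (by
      apply (cancel_mono (kernel.ι b)).1; rw [Category.assoc, kernel.lift_ι, w₁, zero_comp])).ShortExact := by
  have w' : f ≫ kernel.lift b a w₂ = 0 := by
    apply (cancel_mono (kernel.ι b)).1; rw [Category.assoc, kernel.lift_ι, w₁, zero_comp]
  refine { exact := ?_, mono_f := ‹_›, epi_g := ?_ }
  · let φ : ShortComplex.mk f (kernel.lift b a w₂) w' ⟶ ShortComplex.mk f a w₁ :=
      { τ₁ := 𝟙 _, τ₂ := 𝟙 _, τ₃ := kernel.ι b
        comm₁₂ := by simp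
        comm₂₃ := by simp }
    haveI : Epi φ.τ₁ := by dsimp [φ]; infer_instance
    haveI : IsIso φ.τ₂ := by dsimp [φ]; infer_instance
    haveI : Mono φ.τ₃ := by dsimp [φ]; infer_instance
    exact (ShortComplex.exact_iff_of_epi_of_isIso_of_mono φ).2 h₁
  · exact (ShortComplex.exact_iff_epi_kernel_lift _).1 h₂

variable [EnoughInjectives 𝒜] {ℬ : Type u'} [Category.{v'} ℬ] [Abelian ℬ]

/-- Dimension shifting for right derived functors. -/
theorem rightDerived_vanish (G : 𝒜 ⥤ ℬ) [G.Additive] [PreservesFiniteLimits G] (P : 𝒜 → Prop)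
    (hinj : ∀ I : 𝒜, Injective I → P I)
    (h23 : ∀ S : ShortComplex 𝒜, S.ShortExact → P S.X₁ → P S.X₂ → P S.X₃)
    (hepi : ∀ S : ShortComplex 𝒜, S.ShortExact → P S.X₁ → Epi (G.map S.g))
    (F : 𝒜) (hF : P F) (n : ℕ) : IsZero ((G.rightDerived (n + 1)).obj F) := by
  let I : InjectiveResolution F := Classical.choice (HasInjectiveResolution.out)
  refine IsZero.of_iso ?_ (I.isoRightDerivedObj G (n + 1))
  set K := I.cocomplex with hK
  -- the short exact sequences
  have hS' := shortExact_lift (I.ι.f 0) (K.d 0 1) (K.d 1 2) I.ι_f_zero_comp_complex_d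
    (K.d_comp_d 0 1 2) I.exact₀ (I.exact_succ 0)
  have hS : ∀ k : ℕ, (ShortComplex.mk (kernel.ι (K.d (k + 1) (k + 2)))
      (kernel.lift (K.d (k + 2) (k + 3)) (K.d (k + 1) (k + 2)) (K.d_comp_d _ _ _)) (by
        apply (cancel_mono (kernel.ι _)).1
        rw [Category.assoc, kernel.lift_ι, kernel.condition, zero_comp])).ShortExact := fun k =>
    shortExact_lift (kernel.ι (K.d (k + 1) (k + 2))) (K.d (k + 1) (k + 2)) (K.d (k + 2) (k + 3))
      (kernel.condition _) (K.d_comp_d _ _ _)
      (ShortComplex.exact_of_f_is_kernel _ (kernelIsKernel _)) (I.exact_succ (k + 1))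
  have hP : ∀ k : ℕ, P (kernel (K.d (k + 1) (k + 2))) := by
    intro k
    induction k with
    | zero => exact h23 _ hS' hF (hinj _ (I.injective 0))
    | succ k ih => exact h23 _ (hS k) ih (hinj _ (I.injective (k + 1)))
  have hE : Epi (G.map (kernel.lift (K.d (n + 1) (n + 2)) (K.d n (n + 1)) (K.d_comp_d _ _ _))) := by
    cases n with
    | zero => exact hepi _ hS' hF
    | succ m => exact hepi _ (hS m) (hP m)
  change IsZero (((G.mapHomologicalComplex _).obj K).homology (n + 1))
  rw [← HomologicalComplex.exactAt_iff_isZero_homology,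
    HomologicalComplex.exactAt_iff' _ n (n + 1) (n + 2) (by simp)
      (by simp only [CochainComplex.next]; rfl)]
  rw [ShortComplex.exact_iff_epi_kernel_lift]
  haveI : IsIso (kernelComparison (K.d (n + 1) (n + 2)) G) := by
    rw [← PreservesKernel.iso_hom]; infer_instance
  have key : Epi (G.map (kernel.lift (K.d (n + 1) (n + 2)) (K.d n (n + 1)) (K.d_comp_d _ _ _)) ≫
      kernelComparison (K.d (n + 1) (n + 2)) G) := inferInstance
  rw [map_lift_kernelComparison] at key
  exact key

end RD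

section Top

variable {X : TopCat.{u}}


/-- injective abelian sheaves are flasque -/
theorem injective_isFlasque (F : CohTop.Ab X) [Injective F] : TopCat.Sheaf.IsFlasque F := by
  constructor
  intro U V i
  rw [AddCommGrpCat.epi_iff_surjective]
  intro s
  set J := Opens.grothendieckTopology X
  haveI : Mono (CohCx.freeSheafMap J i.unop) := by infer_instance
  let g := Injective.factorThru (CohFree.ofSect J V.unop F s) (CohCx.freeSheafMap J i.unop)
  have hg : CohCx.freeSheafMap J i.unop ≫ g = CohFree.ofSect J V.unop F s :=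
    Injective.comp_factorThru _ _
  refine ⟨CohFree.evalGen J U.unop F g, ?_⟩
  have := CohFree.evalGen_freeSheafMap_comp J i.unop F g
  rw [hg, CohFree.evalGen_ofSect] at this
  exact this.symm

/-- flasque sheaves are acyclic for `H^n(U, -)`. -/
theorem ext_free_eq_zero (F : CohTop.Ab X) [TopCat.Sheaf.IsFlasque F] (U : Opens X) (n : ℕ)
    (x : Ext.{u} (CohCx.freeSheaf (Opens.grothendieckTopology X) U) F (n + 1)) : x = 0 := by
  refine ext_vanish (fun G : CohTop.Ab X => TopCat.Sheaf.IsFlasque G)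
    (CohCx.freeSheaf (Opens.grothendieckTopology X) U)
    (fun I hI => injective_isFlasque I)
    (fun S hS h1 h2 => TopCat.Sheaf.IsFlasque.of_shortExact_of_isFlasque₁₂ hS)
    (fun S hS h1 x => ?_) n F inferInstance x
  haveI : TopCat.Sheaf.IsFlasque S.X₁ := h1
  have hepi : Epi (S.g.1.app (op U)) := TopCat.Sheaf.IsFlasque.epi_of_shortExact hS
  rw [AddCommGrpCat.epi_iff_surjective] at hepi
  obtain ⟨t, ht⟩ := hepi (CohFree.evalGen _ U S.X₃ x)
  refine ⟨CohFree.ofSect _ U S.X₂ t, ?_⟩
  apply (CohFree.homEquivSect _ U S.X₃).injective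
  rw [CohFree.homEquivSect_apply, CohFree.homEquivSect_apply, ← ht]
  change (S.g.hom.app (op U)).hom (CohFree.evalGen _ U S.X₂ (CohFree.ofSect _ U S.X₂ t)) = _
  rw [CohFree.evalGen_ofSect]


theorem HU_subsingleton (F : CohTop.Ab X) [TopCat.Sheaf.IsFlasque F]
    (U : Opens X) (n : ℕ) : Subsingleton (CohTop.HU F (n + 1) U) := by
  refine subsingleton_of_forall_eq 0 (fun x => ?_)
  exact ext_free_eq_zero F U n x


/-- lifting maps out of `ULift ℤ` along surjections -/
lemma lift_uliftZ {A B : AddCommGrpCat.{u}} (g : A ⟶ B) (hg : Function.Surjective g)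
    (x : AddCommGrpCat.of (ULift.{u} ℤ) ⟶ B) : ∃ y : AddCommGrpCat.of (ULift.{u} ℤ) ⟶ A, y ≫ g = x := by
  obtain ⟨t, ht⟩ := hg (x ⟨1⟩)
  refine ⟨AddCommGrpCat.ofHom (((zmultiplesHom A) t).comp AddEquiv.ulift.toAddMonoidHom), ?_⟩
  ext m
  have h1 : (AddCommGrpCat.ofHom (((zmultiplesHom A) t).comp AddEquiv.ulift.toAddMonoidHom) ≫ g).hom m =
      m.down • g t := by
    change g (m.down • t) = _
    exact map_zsmul g.hom _ _
  rw [h1, ht, ← map_zsmul]
  congr 1
  ext
  simp

theorem ext_const_eq_zero (F : CohTop.Ab X) [TopCat.Sheaf.IsFlasque F] (n : ℕ)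
    (x : CohTop.H F (n + 1)) : x = 0 := by
  refine ext_vanish (fun G : CohTop.Ab X => TopCat.Sheaf.IsFlasque G)
    ((constantSheaf (Opens.grothendieckTopology X) AddCommGrpCat.{u}).obj (AddCommGrpCat.of (ULift ℤ)))
    (fun I hI => injective_isFlasque I)
    (fun S hS h1 h2 => TopCat.Sheaf.IsFlasque.of_shortExact_of_isFlasque₁₂ hS)
    (fun S hS h1 x => ?_) n F inferInstance x
  haveI : TopCat.Sheaf.IsFlasque S.X₁ := h1
  have hepi : Epi (S.g.1.app (op ⊤)) := TopCat.Sheaf.IsFlasque.epi_of_shortExact hS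
  rw [AddCommGrpCat.epi_iff_surjective] at hepi
  let adj := constantSheafAdj (Opens.grothendieckTopology X) AddCommGrpCat.{u}
    (T := (⊤ : Opens X)) isTerminalTop
  obtain ⟨y, hy⟩ := lift_uliftZ (S.g.1.app (op ⊤)) hepi (adj.homEquiv _ _ x)
  refine ⟨(adj.homEquiv _ _).symm y, ?_⟩
  have := adj.homEquiv_naturality_right_symm y S.g
  rw [← this]
  apply (adj.homEquiv _ _).injective
  rw [Equiv.apply_symm_apply]
  exact hy

theorem H_subsingleton (F : CohTop.Ab X) [TopCat.Sheaf.IsFlasque F] (n : ℕ) :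
    Subsingleton (CohTop.H F (n + 1)) :=
  subsingleton_of_forall_eq 0 (fun x => ext_const_eq_zero F n x)


/-- flasque sheaves are acyclic for direct images. -/
theorem Rpush_isZero {Y : TopCat.{u}} (f : X ⟶ Y) (F : CohTop.Ab X)
    [TopCat.Sheaf.IsFlasque F] (q : ℕ) : IsZero ((CohTop.Rpush f (q + 1)).obj F) := by
  haveI : PreservesFiniteLimits (CohTop.push f) := by
    haveI : PreservesLimitsOfSize.{0, 0} (CohTop.push f) :=
      (TopCat.Sheaf.pullbackPushforwardAdjunction AddCommGrpCat.{u} f).rightAdjoint_preservesLimits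
    exact PreservesLimitsOfSize.preservesFiniteLimits _
  refine rightDerived_vanish (CohTop.push f) (fun G : CohTop.Ab X => TopCat.Sheaf.IsFlasque G)
    (fun I hI => injective_isFlasque I)
    (fun S hS h1 h2 => TopCat.Sheaf.IsFlasque.of_shortExact_of_isFlasque₁₂ hS)
    (fun S hS h1 => ?_) F inferInstance q
  haveI : TopCat.Sheaf.IsFlasque S.X₁ := h1
  haveI : ∀ V, Epi (((CohTop.push f).map S.g).hom.app V) := fun V =>
    TopCat.Sheaf.IsFlasque.epi_of_shortExact (U := (Opens.map f).obj V.unop) hS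
  haveI : Epi ((CohTop.push f).map S.g).hom := NatTrans.epi_of_epi_app _
  exact Sheaf.Hom.epi_of_presheaf_epi _ _ ((CohTop.push f).map S.g)

end Top

end Groth.Agent.Lib.Helper16.Flasque
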