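import Mathlib
import Groth.Agent.Lib.Helper16Flasque

/-!
# Dimension shifting along a sequence of short exact sequences (helper16)
-/

set_option autoImplicit false
universe w v u
open CategoryTheory CategoryTheory.Limits Abelian

namespace Groth.Agent.Lib.Helper16.DimShift

variable {𝒜 : Type u} [Category.{v} 𝒜] [Abelian 𝒜] [HasExt.{w} 𝒜]

/-- resolution-like data: short exact sequences `0 → Z k → J k → Z (k+1) → 0`. -/
structure Data (𝒜 : Type u) [Category.{v} 𝒜] [Abelian 𝒜] where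
  Z : ℕ → 𝒜
  J : ℕ → 𝒜
  f : ∀ k, Z k ⟶ J k
  g : ∀ k, J k ⟶ Z (k + 1)
  w : ∀ k, f k ≫ g k = 0
  hS : ∀ k, (ShortComplex.mk (f k) (g k) (w k)).ShortExact

/-- shifting the data by one. -/
def Data.shift (D : Data 𝒜) : Data 𝒜 where
  Z k := D.Z (k + 1)
  J k := D.J (k + 1)
  f k := D.f (k + 1)
  g k := D.g (k + 1)
  w k := D.w (k + 1)
  hS k := D.hS (k + 1)

/-- the quotient `Hom(A, Z (p+1)) / Hom(A, J p)`. -/
abbrev Data.Q (D : Data 𝒜) (A : 𝒜) (p : ℕ) : Type v :=
  (A ⟶ D.Z (p + 1)) ⧸ (Preadditive.rightComp A (D.g p)).range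

/-- base case: `Ext¹(A, Z 0) ≃ Hom(A, Z 1)/Hom(A, J 0)`. -/
theorem ds_one (D : Data 𝒜) (A : 𝒜) (hJ : Subsingleton (Ext.{w} A (D.J 0) 1)) :
    Nonempty (Ext.{w} A (D.Z 0) 1 ≃+ D.Q A 0) := by
  let δ : (A ⟶ D.Z 1) →+ Ext.{w} A (D.Z 0) 1 :=
    ((D.hS 0).extClass.postcomp A (zero_add 1)).comp (Ext.addEquiv₀ (X := A) (Y := D.Z 1)).symm.toAddMonoidHom
  have hδ : ∀ φ : A ⟶ D.Z 1, δ φ = (Ext.mk₀ φ).comp (D.hS 0).extClass (zero_add 1) := fun φ => rfl
  have hsurj : Function.Surjective δ := by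
    intro x
    obtain ⟨x₃, hx₃⟩ := Ext.covariant_sequence_exact₁ A (D.hS 0) x (Subsingleton.elim _ _) (n₀ := 0) rfl
    obtain ⟨φ, rfl⟩ := (Ext.mk₀_bijective _ _).2 x₃
    exact ⟨φ, hx₃⟩
  have hker : δ.ker = (Preadditive.rightComp A (D.g 0)).range := by
    ext φ
    rw [AddMonoidHom.mem_ker, AddMonoidHom.mem_range, hδ]
    constructor
    · intro h
      obtain ⟨x₂, hx₂⟩ := Ext.covariant_sequence_exact₃ A (D.hS 0) (Ext.mk₀ φ) (n₁ := 1) rfl h
      obtain ⟨ψ, rfl⟩ := (Ext.mk₀_bijective _ _).2 x₂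
      rw [Ext.mk₀_comp_mk₀] at hx₂
      exact ⟨ψ, (Ext.mk₀_bijective _ _).1 hx₂⟩
    · rintro ⟨ψ, rfl⟩
      change (Ext.mk₀ (ψ ≫ D.g 0)).comp _ _ = 0
      rw [← Ext.mk₀_comp_mk₀, Ext.comp_assoc _ _ _ (zero_add 0) (zero_add 1) (by omega),
        (D.hS 0).comp_extClass, Ext.comp_zero]
  exact ⟨((QuotientAddGroup.quotientAddEquivOfEq hker).symm.trans
    (QuotientAddGroup.quotientKerEquivOfSurjective δ hsurj)).symm⟩

/-- the connecting map is an iso in higher degrees. -/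
theorem ds_step (D : Data 𝒜) (A : 𝒜) (p : ℕ) (hJ1 : Subsingleton (Ext.{w} A (D.J 0) (p + 1)))
    (hJ2 : Subsingleton (Ext.{w} A (D.J 0) (p + 2))) :
    Nonempty (Ext.{w} A (D.Z 0) (p + 2) ≃+ Ext.{w} A (D.Z 1) (p + 1)) := by
  have hb : Function.Bijective ((D.hS 0).extClass.postcomp A (rfl : p + 1 + 1 = p + 2)) := by
    constructor
    · rw [injective_iff_map_eq_zero]
      intro x hx
      obtain ⟨x₂, hx₂⟩ := Ext.covariant_sequence_exact₃ A (D.hS 0) x rfl hx
      rw [← hx₂, Subsingleton.elim x₂ 0, Ext.zero_comp]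
    · intro y
      obtain ⟨x₃, hx₃⟩ := Ext.covariant_sequence_exact₁ A (D.hS 0) y (Subsingleton.elim _ _) (n₀ := p + 1) rfl
      exact ⟨x₃, hx₃⟩
  exact ⟨(AddEquiv.ofBijective _ hb).symm⟩

/-- **Dimension shifting**: `Ext^{p+1}(A, Z 0) ≃ Hom(A, Z (p+1))/Hom(A, J p)`. -/
theorem ds (A : 𝒜) (p : ℕ) : ∀ (D : Data 𝒜) (_ : ∀ k q, Subsingleton (Ext.{w} A (D.J k) (q + 1))),
    Nonempty (Ext.{w} A (D.Z 0) (p + 1) ≃+ D.Q A p) := by
  induction p with
  | zero => exact fun D hJ => ds_one D A (hJ 0 0)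
  | succ p ih =>
    intro D hJ
    obtain ⟨e₁⟩ := ds_step D A p (hJ 0 p) (hJ 0 (p + 1))
    obtain ⟨e₂⟩ := ih D.shift (fun k q => hJ (k + 1) q)
    exact ⟨e₁.trans e₂⟩

section Resolution

open Groth.Agent.Lib.Helper16.Flasque

omit [HasExt.{w} 𝒜]

variable {F : 𝒜} (I : InjectiveResolution F)

/-- the cycle objects of an injective resolution (`Z 0 = F`). -/
noncomputable def ZZ : ℕ → 𝒜
  | 0 => F
  | k + 1 => kernel (I.cocomplex.d (k + 1) (k + 2))

/-- the inclusions `Z k ⟶ I^k`. -/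
noncomputable def ff : ∀ k, ZZ I k ⟶ I.cocomplex.X k
  | 0 => I.ι.f 0
  | k + 1 => kernel.ι (I.cocomplex.d (k + 1) (k + 2))

/-- the maps `I^k ⟶ Z (k+1)`. -/
noncomputable def gg (k : ℕ) : I.cocomplex.X k ⟶ ZZ I (k + 1) :=
  kernel.lift (I.cocomplex.d (k + 1) (k + 2)) (I.cocomplex.d k (k + 1)) (I.cocomplex.d_comp_d _ _ _)

lemma ff_gg (k : ℕ) : ff I k ≫ gg I k = 0 := by
  apply (cancel_mono (kernel.ι (I.cocomplex.d (k + 1) (k + 2)))).1
  cases k with
  | zero =>
    change (I.ι.f 0 ≫ kernel.lift _ _ _) ≫ kernel.ι _ = 0 ≫ _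
    rw [Category.assoc, kernel.lift_ι, zero_comp]
    exact I.ι_f_zero_comp_complex_d
  | succ k =>
    change (kernel.ι _ ≫ kernel.lift _ _ _) ≫ kernel.ι _ = 0 ≫ _
    rw [Category.assoc, kernel.lift_ι]
    exact (kernel.condition _).trans zero_comp.symm

lemma shortExact_ofResolution (k : ℕ) : (ShortComplex.mk (ff I k) (gg I k) (ff_gg I k)).ShortExact := by
  cases k with
  | zero =>
    exact shortExact_lift (I.ι.f 0) (I.cocomplex.d 0 1) (I.cocomplex.d 1 2) I.ι_f_zero_comp_complex_d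
      (I.cocomplex.d_comp_d 0 1 2) I.exact₀ (I.exact_succ 0)
  | succ k =>
    exact shortExact_lift (kernel.ι (I.cocomplex.d (k + 1) (k + 2))) (I.cocomplex.d (k + 1) (k + 2))
      (I.cocomplex.d (k + 2) (k + 3)) (kernel.condition _) (I.cocomplex.d_comp_d _ _ _)
      (ShortComplex.exact_of_f_is_kernel _ (kernelIsKernel _)) (I.exact_succ (k + 1))

/-- the dimension shifting data attached to an injective resolution. -/
noncomputable def ofResolution : Data 𝒜 where
  Z := ZZ I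
  J k := I.cocomplex.X k
  f := ff I
  g := gg I
  w := ff_gg I
  hS := shortExact_ofResolution I

variable {ℬ : Type*} [Category ℬ] [Abelian ℬ] (G : 𝒜 ⥤ ℬ) [G.Additive] [PreservesFiniteLimits G]
  [HasInjectiveResolutions 𝒜]

/-- if the higher derived functors of a left exact functor vanish on `F`, the functor is exact on the
sequences of the resolution. -/
lemma epi_map_lift (hvan : ∀ n : ℕ, IsZero ((G.rightDerived (n + 1)).obj F)) (n : ℕ) :
    Epi (G.map (kernel.lift (I.cocomplex.d (n + 1) (n + 2)) (I.cocomplex.d n (n + 1))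
      (I.cocomplex.d_comp_d _ _ _))) := by
  set K := I.cocomplex with hK
  have h : IsZero (((G.mapHomologicalComplex _).obj K).homology (n + 1)) :=
    IsZero.of_iso (hvan n) (I.isoRightDerivedObj G (n + 1)).symm
  rw [← HomologicalComplex.exactAt_iff_isZero_homology,
    HomologicalComplex.exactAt_iff' _ n (n + 1) (n + 2) (by simp)
      (by simp only [CochainComplex.next]; rfl)] at h
  rw [ShortComplex.exact_iff_epi_kernel_lift] at h
  haveI : IsIso (kernelComparison (K.d (n + 1) (n + 2)) G) := by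
    rw [← PreservesKernel.iso_hom]; infer_instance
  have key : G.map (kernel.lift (K.d (n + 1) (n + 2)) (K.d n (n + 1)) (K.d_comp_d _ _ _)) ≫
      kernelComparison (K.d (n + 1) (n + 2)) G =
      kernel.lift _ (G.map (K.d n (n + 1))) (by rw [← G.map_comp, K.d_comp_d, G.map_zero]) :=
    map_lift_kernelComparison _ _ _
  have h2 : Epi (G.map (kernel.lift (K.d (n + 1) (n + 2)) (K.d n (n + 1)) (K.d_comp_d _ _ _)) ≫
      kernelComparison (K.d (n + 1) (n + 2)) G) := by
    rw [key]; exact h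
  have h3 : G.map (kernel.lift (K.d (n + 1) (n + 2)) (K.d n (n + 1)) (K.d_comp_d _ _ _)) =
      (G.map (kernel.lift (K.d (n + 1) (n + 2)) (K.d n (n + 1)) (K.d_comp_d _ _ _)) ≫
        kernelComparison (K.d (n + 1) (n + 2)) G) ≫
      inv (kernelComparison (K.d (n + 1) (n + 2)) G) := by
    rw [Category.assoc, IsIso.hom_inv_id, Category.comp_id]
  rw [h3]
  infer_instance

lemma epi_map_gg (hvan : ∀ n : ℕ, IsZero ((G.rightDerived (n + 1)).obj F)) (n : ℕ) :
    Epi (G.map (gg I n)) := epi_map_lift I G hvan n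

/-- mapping the data along a left exact functor which is exact on it. -/
noncomputable def Data.mapOfEpi (D : Data 𝒜) (hepi : ∀ k, Epi (G.map (D.g k))) : Data ℬ where
  Z k := G.obj (D.Z k)
  J k := G.obj (D.J k)
  f k := G.map (D.f k)
  g k := G.map (D.g k)
  w k := by rw [← G.map_comp, D.w, G.map_zero]
  hS k :=
    { exact := (D.hS k).exact.map_of_mono_of_preservesKernel G (D.hS k).mono_f inferInstance
      mono_f := by
        haveI := (D.hS k).mono_f
        exact inferInstanceAs (Mono (G.map (D.f k)))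
      epi_g := hepi k }

end Resolution

end Groth.Agent.Lib.Helper16.DimShift
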