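import Mathlib
import Groth.Agent.Lib.Helper16DimShift

/-!
# Natural dimension shifting: an effaceable δ-functor is the right derived functor of its
degree-zero part (helper9)

Let `T n : 𝒜 ⥤ ℬ` be functors between abelian categories with natural connecting morphisms
`δ : T n X₃ ⟶ T (n+1) X₁` for short exact sequences, exact at `T n X₃` and `T (n+1) X₁`, such that
`T (n+1)` vanishes on injectives and `T 0` is additive and left exact.  Then there are
isomorphisms of functors `T p ≅ (T 0).rightDerived p` (`iso_rightDerived`).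
-/

set_option autoImplicit false
universe v v' u u'
open CategoryTheory CategoryTheory.Limits

namespace Groth.Agent.Lib.Helper9.DeltaDerived

open Groth.Agent.Lib.Helper16.DimShift

variable {𝒜 : Type u} [Category.{v} 𝒜] [Abelian 𝒜] {ℬ : Type u'} [Category.{v'} ℬ] [Abelian ℬ]

/-- connecting morphisms for a family of functors, natural, with the two exactness properties
involving `δ`, and vanishing of the positive degree functors on injectives. -/
structure EffDelta (T : ℕ → 𝒜 ⥤ ℬ) where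
  δ : ∀ (S : ShortComplex 𝒜) (_ : S.ShortExact) (n : ℕ), (T n).obj S.X₃ ⟶ (T (n + 1)).obj S.X₁
  δ_nat : ∀ {S S' : ShortComplex 𝒜} (hS : S.ShortExact) (hS' : S'.ShortExact) (φ : S ⟶ S') (n : ℕ),
    (T n).map φ.τ₃ ≫ δ S' hS' n = δ S hS n ≫ (T (n + 1)).map φ.τ₁
  comp_δ : ∀ (S : ShortComplex 𝒜) (hS : S.ShortExact) (n : ℕ), (T n).map S.g ≫ δ S hS n = 0
  exact₃ : ∀ (S : ShortComplex 𝒜) (hS : S.ShortExact) (n : ℕ),
    (ShortComplex.mk _ _ (comp_δ S hS n)).Exact
  δ_comp : ∀ (S : ShortComplex 𝒜) (hS : S.ShortExact) (n : ℕ), δ S hS n ≫ (T (n + 1)).map S.f = 0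
  exact₁ : ∀ (S : ShortComplex 𝒜) (hS : S.ShortExact) (n : ℕ),
    (ShortComplex.mk _ _ (δ_comp S hS n)).Exact
  isZero : ∀ (J : 𝒜) [Injective J] (n : ℕ), IsZero ((T (n + 1)).obj J)

/-- the short complex `Z k → J k → Z (k+1)` of the data. -/
abbrev sc (D : Data 𝒜) (k : ℕ) : ShortComplex 𝒜 := ShortComplex.mk (D.f k) (D.g k) (D.w k)

/-- morphisms of dimension shifting data. -/
structure DataHom (D D' : Data 𝒜) where
  z : ∀ k, D.Z k ⟶ D'.Z k
  j : ∀ k, D.J k ⟶ D'.J k
  comm_f : ∀ k, D.f k ≫ j k = z k ≫ D'.f k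
  comm_g : ∀ k, D.g k ≫ z (k + 1) = j k ≫ D'.g k

/-- the shifted morphism. -/
def DataHom.shift {D D' : Data 𝒜} (ψ : DataHom D D') : DataHom D.shift D'.shift where
  z k := ψ.z (k + 1)
  j k := ψ.j (k + 1)
  comm_f k := ψ.comm_f (k + 1)
  comm_g k := ψ.comm_g (k + 1)

/-- the induced morphism of short complexes. -/
def DataHom.scHom {D D' : Data 𝒜} (ψ : DataHom D D') (k : ℕ) : sc D k ⟶ sc D' k where
  τ₁ := ψ.z k
  τ₂ := ψ.j k
  τ₃ := ψ.z (k + 1)
  comm₁₂ := (ψ.comm_f k).symm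
  comm₂₃ := (ψ.comm_g k).symm

variable {T : ℕ → 𝒜 ⥤ ℬ} (E : EffDelta T)

/-- the composite of connecting morphisms `T⁰(Z (p+1)) → T¹(Z p) → ⋯ → T^{p+1}(Z 0)`. -/
noncomputable def chain : ∀ (p : ℕ) (D : Data 𝒜), (T 0).obj (D.Z (p + 1)) ⟶ (T (p + 1)).obj (D.Z 0)
  | 0, D => E.δ (sc D 0) (D.hS 0) 0
  | p + 1, D => chain p D.shift ≫ E.δ (sc D 0) (D.hS 0) (p + 1)

lemma chain_zero (D : Data 𝒜) : chain E 0 D = E.δ (sc D 0) (D.hS 0) 0 := rfl

lemma chain_succ (p : ℕ) (D : Data 𝒜) :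
    chain E (p + 1) D = chain E p D.shift ≫ E.δ (sc D 0) (D.hS 0) (p + 1) := rfl

lemma chain_natural : ∀ (p : ℕ) {D D' : Data 𝒜} (ψ : DataHom D D'),
    (T 0).map (ψ.z (p + 1)) ≫ chain E p D' = chain E p D ≫ (T (p + 1)).map (ψ.z 0)
  | 0, D, D', ψ => E.δ_nat (D.hS 0) (D'.hS 0) (ψ.scHom 0) 0
  | p + 1, D, D', ψ => by
    have h1 := chain_natural p ψ.shift
    have h2 := E.δ_nat (D.hS 0) (D'.hS 0) (ψ.scHom 0) (p + 1)
    exact ((Category.assoc _ _ _).symm.trans
      ((congrArg (· ≫ E.δ (sc D' 0) (D'.hS 0) (p + 1)) h1).trans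
        ((Category.assoc _ _ _).trans
          ((congrArg (chain E p D.shift ≫ ·) h2).trans (Category.assoc _ _ _).symm))))

/-- `c` is an epimorphism which is a cokernel of `u`. -/
def IsCok {A₀ A B : ℬ} (u : A₀ ⟶ A) (c : A ⟶ B) : Prop :=
  Epi c ∧ ∃ w : u ≫ c = 0, (ShortComplex.mk u c w).Exact

lemma IsCok.comp_iso {A₀ A B B' : ℬ} {u : A₀ ⟶ A} {c : A ⟶ B} (h : IsCok u c) (e : B ⟶ B')
    [IsIso e] : IsCok u (c ≫ e) := by
  obtain ⟨h1, w, h2⟩ := h
  refine ⟨epi_comp _ _, by rw [← Category.assoc, w, zero_comp], ?_⟩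
  refine ShortComplex.exact_of_iso (ShortComplex.isoMk (Iso.refl _) (Iso.refl _) (asIso e) ?_ ?_ :
    ShortComplex.mk u c w ≅ ShortComplex.mk u (c ≫ e) (by rw [← Category.assoc, w, zero_comp])) h2
  · simp
  · simp

lemma IsCok.iso_comp {A₀ A A' B : ℬ} {u : A₀ ⟶ A} {c : A ⟶ B} (h : IsCok u c) (e : A' ≅ A)
    (u' : A₀ ⟶ A') (hu : u' ≫ e.hom = u) : IsCok u' (e.hom ≫ c) := by
  obtain ⟨h1, w, h2⟩ := h
  refine ⟨epi_comp _ _, by rw [← Category.assoc, hu, w], ?_⟩
  refine ShortComplex.exact_of_iso (ShortComplex.isoMk (Iso.refl _) e.symm (Iso.refl _) ?_ ?_ :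
    ShortComplex.mk u c w ≅ ShortComplex.mk u' (e.hom ≫ c) (by rw [← Category.assoc, hu, w])) h2
  · simp [← hu]
  · simp

/-- two cokernels of the same map are uniquely isomorphic. -/
lemma IsCok.exists_iso {A₀ A B B' : ℬ} {u : A₀ ⟶ A} {c : A ⟶ B} {q : A ⟶ B'} (hc : IsCok u c)
    (hq : IsCok u q) : ∃ e : B ≅ B', c ≫ e.hom = q := by
  obtain ⟨h1, w, h2⟩ := hc
  obtain ⟨h1', w', h2'⟩ := hq
  have hc' : IsColimit (CokernelCofork.ofπ c w) := h2.gIsCokernel
  have hq' : IsColimit (CokernelCofork.ofπ q w') := h2'.gIsCokernel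
  exact ⟨IsColimit.coconePointUniqueUpToIso hc' hq',
    IsColimit.comp_coconePointUniqueUpToIso_hom hc' hq' WalkingParallelPair.one⟩

lemma chain_isCok : ∀ (p : ℕ) (D : Data 𝒜) (_ : ∀ k, Injective (D.J k)),
    IsCok ((T 0).map (D.g p)) (chain E p D)
  | 0, D, hD => by
    haveI := hD 0
    have he : Epi (E.δ (sc D 0) (D.hS 0) 0) :=
      (E.exact₁ (sc D 0) (D.hS 0) 0).epi_f ((E.isZero (D.J 0) 0).eq_of_tgt _ _)
    exact ⟨he, E.comp_δ (sc D 0) (D.hS 0) 0, E.exact₃ (sc D 0) (D.hS 0) 0⟩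
  | p + 1, D, hD => by
    haveI := hD 0
    have ih := chain_isCok p D.shift (fun k => hD (k + 1))
    have hm : Mono (E.δ (sc D 0) (D.hS 0) (p + 1)) :=
      (E.exact₃ (sc D 0) (D.hS 0) (p + 1)).mono_g ((E.isZero (D.J 0) p).eq_of_src _ _)
    have he : Epi (E.δ (sc D 0) (D.hS 0) (p + 1)) :=
      (E.exact₁ (sc D 0) (D.hS 0) (p + 1)).epi_f ((E.isZero (D.J 0) (p + 1)).eq_of_tgt _ _)
    have hi : IsIso (E.δ (sc D 0) (D.hS 0) (p + 1)) := by
      haveI := hm
      haveI := he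
      exact isIso_of_mono_of_epi _
    exact @IsCok.comp_iso _ _ _ _ _ _ _ _ _ ih (E.δ (sc D 0) (D.hS 0) (p + 1)) hi


section Resolution

variable {X Y : 𝒜} (I : InjectiveResolution X) (J : InjectiveResolution Y) (f : X ⟶ Y)
  (φ : I.cocomplex ⟶ J.cocomplex)

lemma ff_succ_d (k : ℕ) : ff I (k + 1) ≫ I.cocomplex.d (k + 1) (k + 2) = 0 :=
  kernel.condition _

/-- `Z^{k+1}` is the kernel of the differential. -/
noncomputable def zIsKernel (k : ℕ) : IsLimit (KernelFork.ofι (ff I (k + 1)) (ff_succ_d I k)) :=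
  kernelIsKernel _

instance mono_ff (k : ℕ) : Mono (ff I k) := (shortExact_ofResolution I k).mono_f

lemma gg_ff (k : ℕ) : gg I k ≫ ff I (k + 1) = I.cocomplex.d k (k + 1) :=
  kernel.lift_ι _ _ _

/-- the map on cycle objects induced by a morphism of resolutions. -/
noncomputable def zMap : ∀ k, ZZ I k ⟶ ZZ J k
  | 0 => f
  | k + 1 => kernel.map (I.cocomplex.d (k + 1) (k + 2)) (J.cocomplex.d (k + 1) (k + 2))
      (φ.f (k + 1)) (φ.f (k + 2)) (φ.comm _ _).symm

lemma zMap_succ_ff (k : ℕ) :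
    zMap I J f φ (k + 1) ≫ ff J (k + 1) = ff I (k + 1) ≫ φ.f (k + 1) :=
  kernel.lift_ι _ _ _

/-- the morphism of dimension shifting data induced by a morphism of resolutions. -/
noncomputable def resHom (comm : I.ι.f 0 ≫ φ.f 0 = f ≫ J.ι.f 0) :
    DataHom (ofResolution I) (ofResolution J) where
  z := zMap I J f φ
  j k := φ.f k
  comm_f k := by
    cases k with
    | zero => exact comm
    | succ k => exact (zMap_succ_ff I J f φ k).symm
  comm_g k := by
    apply (cancel_mono (ff J (k + 1))).1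
    change (gg I k ≫ zMap I J f φ (k + 1)) ≫ ff J (k + 1) = (φ.f k ≫ gg J k) ≫ ff J (k + 1)
    rw [Category.assoc, zMap_succ_ff, ← Category.assoc, gg_ff, Category.assoc, gg_ff]
    exact (φ.comm _ _).symm

variable (G : 𝒜 ⥤ ℬ) [G.Additive] [PreservesFiniteLimits G]

/-- `G(Z^{p+1}) ≅ Z^{p+1}(G(I))` for a left exact functor `G`. -/
noncomputable def κ (p : ℕ) : G.obj (ZZ I (p + 1)) ≅
    ((G.mapHomologicalComplex (ComplexShape.up ℕ)).obj I.cocomplex).cycles (p + 1) :=
  IsLimit.conePointUniqueUpToIso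
    (KernelFork.mapIsLimit _ (zIsKernel I p) G)
    (((G.mapHomologicalComplex (ComplexShape.up ℕ)).obj I.cocomplex).cyclesIsKernel (p + 1) (p + 2)
      (by simp))

lemma κ_hom_i (p : ℕ) : (κ I G p).hom ≫
    ((G.mapHomologicalComplex (ComplexShape.up ℕ)).obj I.cocomplex).iCycles (p + 1) =
      G.map (ff I (p + 1)) :=
  IsLimit.conePointUniqueUpToIso_hom_comp
    (KernelFork.mapIsLimit _ (zIsKernel I p) G)
    (((G.mapHomologicalComplex (ComplexShape.up ℕ)).obj I.cocomplex).cyclesIsKernel (p + 1) (p + 2)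
      (by simp)) WalkingParallelPair.zero

lemma map_gg_κ (p : ℕ) : G.map (gg I p) ≫ (κ I G p).hom =
    ((G.mapHomologicalComplex (ComplexShape.up ℕ)).obj I.cocomplex).toCycles p (p + 1) := by
  apply (cancel_mono
    (((G.mapHomologicalComplex (ComplexShape.up ℕ)).obj I.cocomplex).iCycles (p + 1))).1
  refine (Category.assoc _ _ _).trans ?_
  refine (congrArg (G.map (gg I p) ≫ ·) (κ_hom_i I G p)).trans ?_
  refine (G.map_comp _ _).symm.trans ?_
  refine (congrArg G.map (gg_ff I p)).trans ?_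
  exact (((G.mapHomologicalComplex (ComplexShape.up ℕ)).obj I.cocomplex).toCycles_i p (p + 1)).symm

variable [HasInjectiveResolutions 𝒜]

/-- the identification of the homology of `G(I)` with the right derived functor. -/
noncomputable def ρ (p : ℕ) :
    ((G.mapHomologicalComplex (ComplexShape.up ℕ)).obj I.cocomplex).homology (p + 1) ≅
      (G.rightDerived (p + 1)).obj X :=
  (I.isoRightDerivedObj G (p + 1)).symm

/-- the projection `G(Z^{p+1}) → R^{p+1}G(X)`. -/
noncomputable def q (p : ℕ) : G.obj (ZZ I (p + 1)) ⟶ (G.rightDerived (p + 1)).obj X :=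
  (κ I G p).hom ≫ ((G.mapHomologicalComplex (ComplexShape.up ℕ)).obj I.cocomplex).homologyπ (p + 1) ≫
    (ρ I G p).hom

lemma q_isCok (p : ℕ) : IsCok (G.map (gg I p)) (q I G p) := by
  set K' := (G.mapHomologicalComplex (ComplexShape.up ℕ)).obj I.cocomplex with hK'
  have h0 : IsCok (K'.toCycles p (p + 1)) (K'.homologyπ (p + 1)) :=
    ⟨inferInstance, K'.toCycles_comp_homologyπ p (p + 1),
      ShortComplex.exact_of_g_is_cokernel _ (K'.homologyIsCokernel p (p + 1) (by simp))⟩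
  have h1 := h0.comp_iso (ρ I G p).hom
  exact h1.iso_comp (κ I G p) (G.map (gg I p)) (map_gg_κ I G p)

omit [PreservesFiniteLimits G] in
lemma ρ_natural (comm : I.ι.f 0 ≫ φ.f 0 = f ≫ J.ι.f 0) (p : ℕ) :
    (ρ I G p).hom ≫ (G.rightDerived (p + 1)).map f =
      HomologicalComplex.homologyMap ((G.mapHomologicalComplex (ComplexShape.up ℕ)).map φ) (p + 1) ≫
        (ρ J G p).hom :=
  InjectiveResolution.isoRightDerivedObj_inv_naturality f I J φ comm G (p + 1)

omit [HasInjectiveResolutions 𝒜] in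
lemma κ_natural (p : ℕ) :
    G.map (zMap I J f φ (p + 1)) ≫ (κ J G p).hom = (κ I G p).hom ≫
      HomologicalComplex.cyclesMap ((G.mapHomologicalComplex (ComplexShape.up ℕ)).map φ) (p + 1) := by
  apply (cancel_mono
    (((G.mapHomologicalComplex (ComplexShape.up ℕ)).obj J.cocomplex).iCycles (p + 1))).1
  refine (Category.assoc _ _ _).trans ?_
  refine (congrArg (G.map (zMap I J f φ (p + 1)) ≫ ·) (κ_hom_i J G p)).trans ?_
  refine (G.map_comp _ _).symm.trans ?_
  refine (congrArg G.map (zMap_succ_ff I J f φ p)).trans ?_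
  refine (G.map_comp _ _).trans ?_
  refine Eq.trans ?_ (Category.assoc _ _ _).symm
  refine Eq.trans ?_ (congrArg ((κ I G p).hom ≫ ·) (HomologicalComplex.cyclesMap_i
    ((G.mapHomologicalComplex (ComplexShape.up ℕ)).map φ) (p + 1)).symm)
  refine Eq.trans ?_ (Category.assoc _ _ _)
  exact congrArg (· ≫ ((G.mapHomologicalComplex (ComplexShape.up ℕ)).map φ).f (p + 1))
    (κ_hom_i I G p).symm

lemma q_natural (comm : I.ι.f 0 ≫ φ.f 0 = f ≫ J.ι.f 0) (p : ℕ) :
    G.map (zMap I J f φ (p + 1)) ≫ q J G p = q I G p ≫ (G.rightDerived (p + 1)).map f := by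
  have h1 := κ_natural I J f φ G p
  have h2 := HomologicalComplex.homologyπ_naturality
    ((G.mapHomologicalComplex (ComplexShape.up ℕ)).map φ) (p + 1)
  have h3 := ρ_natural I J f φ G comm p
  unfold q
  rw [reassoc_of% h1, Category.assoc, Category.assoc, h3, reassoc_of% h2]

end Resolution

section Main

variable [HasInjectiveResolutions 𝒜] [(T 0).Additive] [PreservesFiniteLimits (T 0)]

/-- the component at `X` of the comparison isomorphism. -/
noncomputable def isoApp (p : ℕ) (X : 𝒜) :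
    (T (p + 1)).obj X ≅ ((T 0).rightDerived (p + 1)).obj X :=
  (IsCok.exists_iso (chain_isCok E p (ofResolution (injectiveResolution X))
    (fun k => (injectiveResolution X).injective k)) (q_isCok (injectiveResolution X) (T 0) p)).choose

lemma chain_isoApp (p : ℕ) (X : 𝒜) :
    chain E p (ofResolution (injectiveResolution X)) ≫ (isoApp E p X).hom =
      q (injectiveResolution X) (T 0) p :=
  (IsCok.exists_iso (chain_isCok E p (ofResolution (injectiveResolution X))
    (fun k => (injectiveResolution X).injective k))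
      (q_isCok (injectiveResolution X) (T 0) p)).choose_spec

lemma isoApp_natural (p : ℕ) {X Y : 𝒜} (f : X ⟶ Y) :
    (T (p + 1)).map f ≫ (isoApp E p Y).hom =
      (isoApp E p X).hom ≫ ((T 0).rightDerived (p + 1)).map f := by
  let I := injectiveResolution X
  let J := injectiveResolution Y
  let φ := InjectiveResolution.desc f J I
  have comm : I.ι.f 0 ≫ φ.f 0 = f ≫ J.ι.f 0 := InjectiveResolution.desc_commutes_zero f J I
  have hepi : Epi (chain E p (ofResolution I)) :=
    (chain_isCok E p (ofResolution I) (fun k => I.injective k)).1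
  apply (cancel_epi (chain E p (ofResolution I))).1
  have h1 := chain_natural E p (resHom I J f φ comm)
  have h2 := q_natural I J f φ (T 0) comm p
  have h3 := chain_isoApp E p X
  have h4 := chain_isoApp E p Y
  refine (Category.assoc _ _ _).symm.trans ?_
  refine (congrArg (· ≫ (isoApp E p Y).hom) h1.symm).trans ?_
  refine (Category.assoc _ _ _).trans ?_
  refine (congrArg ((T 0).map (zMap I J f φ (p + 1)) ≫ ·) h4).trans ?_
  refine h2.trans ?_
  refine Eq.trans ?_ (Category.assoc _ _ _)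
  exact congrArg (· ≫ ((T 0).rightDerived (p + 1)).map f) h3.symm

include E in
/-- **Natural dimension shifting**: `T p ≅ R^p(T 0)` as functors. -/
theorem iso_rightDerived : ∀ (p : ℕ), Nonempty (T p ≅ (T 0).rightDerived p)
  | 0 => ⟨((T 0).rightDerivedZeroIsoSelf).symm⟩
  | p + 1 => ⟨NatIso.ofComponents (isoApp E p) (fun f => isoApp_natural E p f)⟩

end Main

end Groth.Agent.Lib.Helper9.DeltaDerived
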