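import Groth.Agent.Lib.Helper8LCDepth

set_option autoImplicit false
universe u
open CategoryTheory CategoryTheory.Limits Opposite

namespace Groth.Agent.Lib.Helper8.LC

open Groth.Agent.Lib.Helper8.ExtLES

variable {R : Type u} [CommRing R]

theorem Emap_add (n : ℕ) (X : ModuleCat.{u} R) {Y Y' : ModuleCat.{u} R} (g g' : Y ⟶ Y') :
    Emap n X (g + g') = Emap n X g + Emap n X g' := by
  let P := ProjectiveResolution.of X
  rw [Emap_eq, Emap_eq, Emap_eq, ProjectiveResolution.leftDerived_app_eq (αg (g + g')) P n,
    ProjectiveResolution.leftDerived_app_eq (αg g) P n,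
    ProjectiveResolution.leftDerived_app_eq (αg g') P n]
  have h2 : (NatTrans.mapHomologicalComplex (αg (g + g')) (ComplexShape.down ℕ)).app P.complex =
      (NatTrans.mapHomologicalComplex (αg g) (ComplexShape.down ℕ)).app P.complex +
        (NatTrans.mapHomologicalComplex (αg g') (ComplexShape.down ℕ)).app P.complex := by
    ext k
    apply Quiver.Hom.unop_inj
    apply ModuleCat.hom_ext
    ext (h : P.complex.X k ⟶ Y)
    change h ≫ (g + g') = h ≫ g + h ≫ g'
    exact Preadditive.comp_add _ _ _ h g g'
  rw [h2, Functor.map_add, Preadditive.add_comp, Preadditive.comp_add]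
  rfl

variable (I : Ideal R) (i : ℕ)

theorem H_map_add {M N : ModuleCat.{u} R} (g g' : M ⟶ N) (x : (localCohomology I i).obj M) :
    (localCohomology I i).map (g + g') x =
      (localCohomology I i).map g x + (localCohomology I i).map g' x := by
  obtain ⟨k, xk, rfl⟩ := exists_rep I i M x
  rw [map_cls, map_cls, map_cls, Emap_add, ← map_add]
  rfl

theorem H_map_zero {M N : ModuleCat.{u} R} (x : (localCohomology I i).obj M) :
    (localCohomology I i).map (0 : M ⟶ N) x = 0 := by
  have h := H_map_add I i (0 : M ⟶ N) 0 x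
  rw [add_zero] at h
  exact left_eq_add.mp h

theorem H_map_sum {M N : ModuleCat.{u} R} {ι : Type*} (s : Finset ι) (g : ι → (M ⟶ N))
    (x : (localCohomology I i).obj M) :
    (localCohomology I i).map (∑ j ∈ s, g j) x = ∑ j ∈ s, (localCohomology I i).map (g j) x := by
  classical
  induction s using Finset.induction_on with
  | empty => rw [Finset.sum_empty, Finset.sum_empty]; exact H_map_zero I i x
  | insert a s ha ih => rw [Finset.sum_insert ha, Finset.sum_insert ha, H_map_add, ih]

/-- If `t` kills `N` then `t` kills `H^i_I(N)`. -/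
theorem smul_H_eq_zero_of_smul_eq_zero (t : R) (N : Type u) [AddCommGroup N] [Module R N]
    (h : ∀ m : N, t • m = 0) (x : (localCohomology I i).obj (ModuleCat.of R N)) : t • x = 0 := by
  rw [← H_map_lsmul]
  have : ModuleCat.ofHom (LinearMap.lsmul R N t) = 0 := by
    apply ModuleCat.hom_ext
    apply LinearMap.ext
    intro m
    exact h m
  rw [this]
  exact H_map_zero I i x

/-- `H^i_I(R^r) = 0` if `H^i_I(R) = 0`. -/
theorem H_pi_eq_zero (r : ℕ) (h : ∀ x : (localCohomology I i).obj (ModuleCat.of R R), x = 0)
    (x : (localCohomology I i).obj (ModuleCat.of R (Fin r → R))) : x = 0 := by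
  have hid : 𝟙 (ModuleCat.of R (Fin r → R)) =
      ∑ j ∈ (Finset.univ : Finset (Fin r)),
        (ModuleCat.ofHom (LinearMap.proj (R := R) (φ := fun _ : Fin r => R) j) ≫
          ModuleCat.ofHom (LinearMap.single R (fun _ : Fin r => R) j)) := by
    apply ModuleCat.hom_ext
    apply LinearMap.ext
    intro c
    rw [ModuleCat.hom_sum, LinearMap.sum_apply]
    funext l
    rw [Finset.sum_apply]
    simp [Pi.single_apply]
  have h1 : x = (localCohomology I i).map (𝟙 (ModuleCat.of R (Fin r → R))) x := by
    rw [CategoryTheory.Functor.map_id]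
    rfl
  rw [h1, hid, H_map_sum]
  apply Finset.sum_eq_zero
  intro j _
  rw [Functor.map_comp]
  change (localCohomology I i).map (ModuleCat.ofHom (LinearMap.single R (fun _ : Fin r => R) j))
    ((localCohomology I i).map
      (ModuleCat.ofHom (LinearMap.proj (R := R) (φ := fun _ : Fin r => R) j)) x) = 0
  rw [h ((localCohomology I i).map
      (ModuleCat.ofHom (LinearMap.proj (R := R) (φ := fun _ : Fin r => R) j)) x), map_zero]

end Groth.Agent.Lib.Helper8.LC
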