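import Groth.Agent.Lib.Helper8DT

set_option autoImplicit false
universe u
open CategoryTheory CategoryTheory.Limits Opposite LocCoh

namespace Groth.Agent.Lib.Helper8.DT

variable {R : Type u} [CommRing R] (I : Ideal R) (M : Type u) [AddCommGroup M] [Module R M]

/-- an additive map out of `D_I(M)` from a compatible family. -/
theorem exists_addMonoidHom {G : Type*} [AddCommGroup G] (φ : ∀ n, (↥(I ^ n) →ₗ[R] M) →+ G)
    (hφ : ∀ (n k : ℕ) (h : n ≤ k) (f : ↥(I ^ n) →ₗ[R] M), φ k (f ∘ₗ incl I h) = φ n f) :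
    ∃ Φ : DT I M →+ G, ∀ n f, Φ (cls I M n f) = φ n f := by
  classical
  choose N F hF using exists_rep I M
  have key : ∀ n f, φ (N (cls I M n f)) (F (cls I M n f)) = φ n f := by
    intro n f
    obtain ⟨k, h1, h2, h3⟩ := (cls_eq_iff I M _ _).mp (hF (cls I M n f))
    rw [← hφ _ k h1, h3, hφ]
  refine ⟨AddMonoidHom.mk' (fun x => φ (N x) (F x)) ?_, key⟩
  intro x y
  obtain ⟨n, f, rfl⟩ := exists_rep I M x
  obtain ⟨m, g, rfl⟩ := exists_rep I M y
  have hx : cls I M n f = cls I M (max n m) (f ∘ₗ incl I (le_max_left n m)) :=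
    (cls_restrict I M _ f).symm
  have hy : cls I M m g = cls I M (max n m) (g ∘ₗ incl I (le_max_right n m)) :=
    (cls_restrict I M _ g).symm
  have hxy : cls I M n f + cls I M m g =
      cls I M (max n m) (f ∘ₗ incl I (le_max_left n m) + g ∘ₗ incl I (le_max_right n m)) := by
    rw [map_add, ← hx, ← hy]
  change φ _ (F (cls I M n f + cls I M m g)) = φ _ (F (cls I M n f)) + φ _ (F (cls I M m g))
  rw [hxy, key, key, key, map_add, hφ, hφ]

/-- linear version. -/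
theorem exists_linearMap {G : Type*} [AddCommGroup G] [Module R G]
    (φ : ∀ n, (↥(I ^ n) →ₗ[R] M) →ₗ[R] G)
    (hφ : ∀ (n k : ℕ) (h : n ≤ k) (f : ↥(I ^ n) →ₗ[R] M), φ k (f ∘ₗ incl I h) = φ n f) :
    ∃ Φ : DT I M →ₗ[R] G, ∀ n f, Φ (cls I M n f) = φ n f := by
  obtain ⟨Φ, hΦ⟩ := exists_addMonoidHom I M (fun n => (φ n).toAddMonoidHom) hφ
  refine ⟨{ toFun := Φ, map_add' := Φ.map_add, map_smul' := ?_ }, hΦ⟩
  intro r x
  obtain ⟨n, f, rfl⟩ := exists_rep I M x
  rw [← map_smul, hΦ, hΦ]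
  simp

end Groth.Agent.Lib.Helper8.DT
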