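import Groth.Agent.Lib.Helper8LC
import Groth.Agent.Lib.Helper8DT2
import Groth.Agent.S11629

set_option autoImplicit false
universe u
open CategoryTheory CategoryTheory.Limits Opposite

namespace Groth.Agent.Lib.Helper8.LC

open Groth.Agent.Lib.Helper8.ExtLES Groth.Agent.Lib.Helper8.DT LocCoh

variable {R : Type u} [CommRing R] (I : Ideal R)

/-- Two surjections with the same kernel have isomorphic targets. -/
noncomputable def equivOfSurjOfKerEq {T A B : Type*} [AddCommGroup T] [Module R T]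
    [AddCommGroup A] [Module R A] [AddCommGroup B] [Module R B] (p₁ : T →ₗ[R] A) (p₂ : T →ₗ[R] B)
    (h₁ : Function.Surjective p₁) (h₂ : Function.Surjective p₂)
    (hk : LinearMap.ker p₁ = LinearMap.ker p₂) : A ≃ₗ[R] B :=
  (p₁.quotKerEquivOfSurjective h₁).symm ≪≫ₗ (Submodule.quotEquivOfEq _ _ hk) ≪≫ₗ
    (p₂.quotKerEquivOfSurjective h₂)

/-- `η_E` is surjective for an injective module `E`. -/
theorem toDT_surjective_of_injective (E : Type u) [AddCommGroup E] [Module R E]
    [Injective (ModuleCat.of R E)] : Function.Surjective (toDT I E) := by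
  intro x
  obtain ⟨n, φ, rfl⟩ := Groth.Agent.Lib.Helper8.DT.exists_rep I E x
  have hmono : Mono (ModuleCat.ofHom (I ^ n).subtype) :=
    (ModuleCat.mono_iff_injective _).mpr (Submodule.injective_subtype _)
  let ψ : ModuleCat.of R R ⟶ ModuleCat.of R E :=
    Injective.factorThru (ModuleCat.ofHom φ) (ModuleCat.ofHom (I ^ n).subtype)
  have hψ : ModuleCat.ofHom (I ^ n).subtype ≫ ψ = ModuleCat.ofHom φ :=
    Injective.comp_factorThru _ _
  refine ⟨ψ.hom 1, ?_⟩
  rw [toDT_eq' I E _ n]
  congr 1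
  apply LinearMap.ext
  intro a
  have h1 := congrArg (fun χ => χ.hom a) hψ
  simp only [LinearMap.comp_apply, Submodule.subtype_apply, LinearMap.toSpanSingleton_apply]
  rw [← map_smul, smul_eq_mul, mul_one]
  exact h1

/-- `Φ` as a linear equivalence `H^0_I(N) ≃ Γ_I(N)`. -/
noncomputable def ΦEquiv (N : ModuleCat.{u} R) :
    (localCohomology I 0).obj N ≃ₗ[R] DRing.torsionSub I N :=
  LinearEquiv.ofBijective ((Φ I N).hom.codRestrict _ (Φ_mem_torsionSub I N))
    ⟨fun x y h => Φ_injective I N (congrArg Subtype.val h), fun m => by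
      obtain ⟨x, hx⟩ := exists_Φ_eq I N m.1 m.2
      exact ⟨x, Subtype.ext hx⟩⟩

theorem ΦEquiv_apply (N : ModuleCat.{u} R) (x : (localCohomology I 0).obj N) :
    ((ΦEquiv I N x : DRing.torsionSub I N) : N) = Φ I N x := rfl

theorem Φ_ΦEquiv_symm (N : ModuleCat.{u} R) (m : DRing.torsionSub I N) :
    Φ I N ((ΦEquiv I N).symm m) = m := by
  rw [← ΦEquiv_apply, LinearEquiv.apply_symm_apply]

section Coker

variable {M E Q : Type u} [AddCommGroup M] [Module R M] [AddCommGroup E] [Module R E]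
  [AddCommGroup Q] [Module R Q] (f : M →ₗ[R] E) (g : E →ₗ[R] Q)

/-- The short complex `M → E → Q`. -/
noncomputable abbrev Sfg (hex : Function.Exact f g) : ShortComplex (ModuleCat.{u} R) :=
  ShortComplex.mk (ModuleCat.ofHom f) (ModuleCat.ofHom g) (by
    ext x
    exact hex.apply_apply_eq_zero x)

theorem Sfg_shortExact (hf : Function.Injective f) (hg : Function.Surjective g)
    (hex : Function.Exact f g) : (Sfg f g hex).ShortExact :=
  ShortComplex.ShortExact.mk' ((ShortComplex.moduleCat_exact_iff _).mpr fun x hx => (hex x).mp hx)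
    ((ModuleCat.mono_iff_injective _).mpr hf) ((ModuleCat.epi_iff_surjective _).mpr hg)

variable (hf : Function.Injective f) (hg : Function.Surjective g) (hex : Function.Exact f g)

/-- `T = g⁻¹(Γ_I Q)`. -/
def Tsub : Submodule R E := (DRing.torsionSub I Q).comap g

/-- `D_I(f)`. -/
noncomputable abbrev Dmap {A B : Type u} [AddCommGroup A] [Module R A] [AddCommGroup B]
    [Module R B] (φ : A →ₗ[R] B) : DT I A →ₗ[R] DT I B :=
  ((idealTransform I).map (ModuleCat.ofHom φ)).hom

include hex in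
theorem Dmap_g_Dmap_f (d : DT I M) : Dmap I g (Dmap I f d) = 0 := by
  have h0 : ModuleCat.ofHom f ≫ ModuleCat.ofHom g = 0 := by
    ext x
    exact hex.apply_apply_eq_zero x
  have h1 : (idealTransform I).map (ModuleCat.ofHom f) ≫ (idealTransform I).map (ModuleCat.ofHom g)
      = 0 := by
    rw [← Functor.map_comp, h0, Functor.map_zero]
  have := congrArg (fun φ => φ.hom d) h1
  exact this

include hf hex in
theorem toDT_mem_range_of_mem_Tsub (e : E) (he : e ∈ Tsub I g) :
    toDT I E e ∈ LinearMap.range (Dmap I f) := by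
  have h1 : Dmap I g (toDT I E e) = 0 := by
    rw [map_toDT]
    have : g e ∈ LinearMap.ker (toDT I Q) := by
      rw [ker_toDT]; exact he
    exact this
  obtain ⟨x, hx⟩ := Groth.Agent.S11629.map_exact I f g hf hex _ h1
  exact ⟨x, hx⟩

/-- the element `d ∈ D_I(M)` with `D_I(f) d = η_E e`, linear in `e ∈ T`. -/
noncomputable def dLin : Tsub I g →ₗ[R] DT I M :=
  (LinearEquiv.ofInjective (Dmap I f) (Groth.Agent.S11629.map_injective I f hf)).symm.toLinearMap ∘ₗ
    ((toDT I E ∘ₗ (Tsub I g).subtype).codRestrict (LinearMap.range (Dmap I f))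
      (fun e => toDT_mem_range_of_mem_Tsub I f g hf hex e.1 e.2))

theorem dLin_spec (e : Tsub I g) : Dmap I f (dLin I f g hf hex e) = toDT I E e.1 := by
  have := (LinearEquiv.ofInjective (Dmap I f)
    (Groth.Agent.S11629.map_injective I f hf)).apply_symm_apply
    (((toDT I E ∘ₗ (Tsub I g).subtype).codRestrict (LinearMap.range (Dmap I f))
      (fun e => toDT_mem_range_of_mem_Tsub I f g hf hex e.1 e.2)) e)
  exact congrArg Subtype.val this

/-- `p₁ : T → coker η_M`. -/
noncomputable def p₁ : Tsub I g →ₗ[R] DT I M ⧸ LinearMap.range (toDT I M) :=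
  (LinearMap.range (toDT I M)).mkQ ∘ₗ dLin I f g hf hex

theorem p₁_apply (e : Tsub I g) :
    p₁ I f g hf hex e = Submodule.Quotient.mk (dLin I f g hf hex e) := rfl

theorem p₁_eq_zero_iff (e : Tsub I g) :
    p₁ I f g hf hex e = 0 ↔ e.1 ∈ DRing.torsionSub I E ⊔ LinearMap.range f := by
  have hDinj : Function.Injective (Dmap I f) := Groth.Agent.S11629.map_injective I f hf
  rw [p₁_apply, Submodule.Quotient.mk_eq_zero]
  have haux := dLin_spec I f g hf hex e
  constructor
  · rintro ⟨m, hm⟩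
    rw [← hm] at haux
    have h2 : Dmap I f (toDT I M m) = toDT I E (f m) := map_toDT I f m
    rw [h2] at haux
    have hker : e.1 - f m ∈ LinearMap.ker (toDT I E) := by
      rw [LinearMap.mem_ker, map_sub, ← haux, sub_self]
    rw [ker_toDT] at hker
    have : e.1 = (e.1 - f m) + f m := by abel
    rw [this]
    exact Submodule.add_mem_sup hker ⟨m, rfl⟩
  · intro he
    obtain ⟨t, ht, _, ⟨m, rfl⟩, hsum⟩ := Submodule.mem_sup.mp he
    refine ⟨m, ?_⟩
    apply hDinj
    have h2 : Dmap I f (toDT I M m) = toDT I E (f m) := map_toDT I f m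
    rw [haux, h2, ← hsum, map_add]
    have : toDT I E t = 0 := by
      have : t ∈ LinearMap.ker (toDT I E) := by rw [ker_toDT]; exact ht
      exact this
    rw [this, zero_add]

include hf hex in
theorem p₁_surjective [Injective (ModuleCat.of R E)] :
    Function.Surjective (p₁ I f g hf hex) := by
  intro x
  obtain ⟨d, rfl⟩ := Submodule.Quotient.mk_surjective _ x
  obtain ⟨e, he⟩ := toDT_surjective_of_injective I E (Dmap I f d)
  have heT : e ∈ Tsub I g := by
    change g e ∈ DRing.torsionSub I Q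
    have h2 : Dmap I g (toDT I E e) = toDT I Q (g e) := map_toDT I g e
    rw [← ker_toDT, LinearMap.mem_ker, ← h2, he, Dmap_g_Dmap_f I f g hex]
  refine ⟨⟨e, heT⟩, ?_⟩
  rw [p₁_apply]
  congr 1
  have hDinj : Function.Injective (Dmap I f) := Groth.Agent.S11629.map_injective I f hf
  apply hDinj
  rw [dLin_spec I f g hf hex ⟨e, heT⟩]
  exact he

/-- `p₂ : T → H^1_I(M)`. -/
noncomputable def p₂ : Tsub I g →ₗ[R] (localCohomology I 1).obj (ModuleCat.of R M) :=
  (Hδ I 0 (Sfg f g hex) (Sfg_shortExact f g hf hg hex)).hom ∘ₗ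
    (ΦEquiv I (ModuleCat.of R Q)).symm.toLinearMap ∘ₗ
    (g.restrict (fun _ he => he) : Tsub I g →ₗ[R] DRing.torsionSub I Q)

theorem p₂_apply (e : Tsub I g) :
    p₂ I f g hf hg hex e = Hδ I 0 (Sfg f g hex) (Sfg_shortExact f g hf hg hex)
      ((ΦEquiv I (ModuleCat.of R Q)).symm ⟨g e.1, e.2⟩) := rfl

theorem p₂_eq_zero_iff (e : Tsub I g) :
    p₂ I f g hf hg hex e = 0 ↔ e.1 ∈ DRing.torsionSub I E ⊔ LinearMap.range f := by
  rw [p₂_apply]
  have hz : Φ I (ModuleCat.of R Q) ((ΦEquiv I (ModuleCat.of R Q)).symm ⟨g e.1, e.2⟩) = g e.1 :=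
    Φ_ΦEquiv_symm I (ModuleCat.of R Q) ⟨g e.1, e.2⟩
  constructor
  · intro h
    obtain ⟨y, hy⟩ := H_exact₃ I 0 (Sfg f g hex) (Sfg_shortExact f g hf hg hex) _ h
    have h1 := Φ_naturality I (Sfg f g hex).g y
    rw [hy, hz] at h1
    have h2 : g (e.1 - Φ I (ModuleCat.of R E) y) = 0 := by
      rw [map_sub, h1]
      exact sub_self _
    obtain ⟨m, hm⟩ := (hex _).mp h2
    have : e.1 = Φ I (ModuleCat.of R E) y + f m := by rw [hm]; abel
    rw [this]
    exact Submodule.add_mem_sup (Φ_mem_torsionSub I (ModuleCat.of R E) y) ⟨m, rfl⟩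
  · intro he
    obtain ⟨t, ht, _, ⟨m, rfl⟩, hsum⟩ := Submodule.mem_sup.mp he
    obtain ⟨y, hy⟩ := exists_Φ_eq I (ModuleCat.of R E) t ht
    have hzy : (ΦEquiv I (ModuleCat.of R Q)).symm ⟨g e.1, e.2⟩ =
        (localCohomology I 0).map (Sfg f g hex).g y := by
      apply Φ_injective I (ModuleCat.of R Q)
      rw [hz, Φ_naturality I (Sfg f g hex).g y, hy, ← hsum, map_add, hex.apply_apply_eq_zero,
        add_zero]
      rfl
    rw [hzy]
    exact Hδ_map_g I 0 (Sfg f g hex) (Sfg_shortExact f g hf hg hex) y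

theorem p₂_surjective [Injective (ModuleCat.of R E)] :
    Function.Surjective (p₂ I f g hf hg hex) := by
  intro x
  have hx : (localCohomology I 1).map (Sfg f g hex).f x = 0 :=
    H_succ_eq_zero_of_injective I (ModuleCat.of R E) 0 _
  obtain ⟨z, hz⟩ := H_exact₁ I 0 (Sfg f g hex) (Sfg_shortExact f g hf hg hex) x hx
  obtain ⟨e, he⟩ := hg (Φ I (ModuleCat.of R Q) z)
  have heT : e ∈ Tsub I g := by
    change g e ∈ DRing.torsionSub I Q
    rw [he]
    exact Φ_mem_torsionSub I (ModuleCat.of R Q) z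
  refine ⟨⟨e, heT⟩, ?_⟩
  rw [p₂_apply, ← hz]
  congr 1
  rw [LinearEquiv.symm_apply_eq]
  apply Subtype.ext
  exact he

/-- The cokernel of `η_M` is isomorphic to `H^1_I(M)`. -/
noncomputable def cokerEquivOfInjective [Injective (ModuleCat.of R E)] :
    (DT I M ⧸ LinearMap.range (toDT I M)) ≃ₗ[R] (localCohomology I 1).obj (ModuleCat.of R M) :=
  equivOfSurjOfKerEq (p₁ I f g hf hex) (p₂ I f g hf hg hex) (p₁_surjective I f g hf hex)
    (p₂_surjective I f g hf hg hex) (by
      ext e
      rw [LinearMap.mem_ker, LinearMap.mem_ker, p₁_eq_zero_iff, p₂_eq_zero_iff])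

end Coker

/-- The cokernel of `η_M` is isomorphic to `H^1_I(M)`. -/
theorem nonempty_coker_toDT_equiv (M : Type u) [AddCommGroup M] [Module R M] :
    Nonempty ((DT I M ⧸ LinearMap.range (toDT I M)) ≃ₗ[R]
      (localCohomology I 1).obj (ModuleCat.of R M)) := by
  let Mc := ModuleCat.of R M
  let ι : Mc ⟶ Injective.under Mc := Injective.ι Mc
  have hf : Function.Injective ι.hom := (ModuleCat.mono_iff_injective ι).mp inferInstance
  have hg : Function.Surjective (LinearMap.range ι.hom).mkQ := Submodule.mkQ_surjective _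
  have hex : Function.Exact ι.hom (LinearMap.range ι.hom).mkQ :=
    LinearMap.exact_map_mkQ_range ι.hom
  have : Injective (ModuleCat.of R ↑(Injective.under Mc)) :=
    inferInstanceAs (Injective (Injective.under Mc))
  exact ⟨cokerEquivOfInjective I ι.hom (LinearMap.range ι.hom).mkQ hf hg hex⟩

end Groth.Agent.Lib.Helper8.LC

namespace Groth.Agent.Lib.Helper8.LC

open Groth.Agent.Lib.Helper8.ExtLES Groth.Agent.Lib.Helper8.DT LocCoh

variable {R : Type u} [CommRing R] (I : Ideal R)

/-- Over a Noetherian ring, `Γ_I(E)` is injective if `E` is. -/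
theorem injective_torsionSub [IsNoetherianRing R] (E : Type u) [AddCommGroup E] [Module R E]
    [Module.Injective R E] : Module.Injective R (DRing.torsionSub I E) := by
  apply Module.Baer.injective
  intro J φ
  -- an arbitrary extension ψ₀
  obtain ⟨ψ₀, hψ₀⟩ := Module.Injective.extension_property R E J R J.subtype
    (Submodule.injective_subtype _) ((DRing.torsionSub I E).subtype ∘ₗ φ)
  have hψ₀' : ∀ (c : R) (hc : c ∈ J), ψ₀ c = (φ ⟨c, hc⟩ : E) := fun c hc =>
    LinearMap.congr_fun hψ₀ ⟨c, hc⟩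
  -- a power of I kills φ(J)
  have hfg : (LinearMap.range ((DRing.torsionSub I E).subtype ∘ₗ φ)).FG := by
    rw [LinearMap.range_eq_map]
    exact Submodule.FG.map _ Module.Finite.fg_top
  have hle : LinearMap.range ((DRing.torsionSub I E).subtype ∘ₗ φ) ≤ DRing.torsionSub I E := by
    rintro _ ⟨j, rfl⟩
    exact (φ j).2
  obtain ⟨s, hs⟩ := exists_pow_kills_of_fg (I := I) _ hfg hle
  -- Artin–Rees
  obtain ⟨m, hm⟩ := exists_pow_smul_top_inf_le_ker I (V := R) (M := E) J ψ₀ s (by
    intro c hc b hb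
    rw [hψ₀' c hc]
    exact hs b hb _ ⟨⟨c, hc⟩, rfl⟩)
  have hm' : ∀ c ∈ J, (I ^ m).mkQ c = 0 → ψ₀ c = 0 := by
    intro c hc h0
    rw [Submodule.mkQ_apply, Submodule.Quotient.mk_eq_zero] at h0
    refine hm c ?_ hc
    rw [smul_eq_mul, Ideal.mul_top]
    exact h0
  obtain ⟨f, hf⟩ := exists_descend (I ^ m).mkQ ψ₀ J hm'
  obtain ⟨ψ', hψ'⟩ := Module.Injective.extension_property R E
    ↥(Submodule.map (I ^ m).mkQ J) (R ⧸ I ^ m) (Submodule.map (I ^ m).mkQ J).subtype
    (Submodule.injective_subtype _) f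
  have hmem : ∀ r : R, (ψ' ∘ₗ (I ^ m).mkQ) r ∈ DRing.torsionSub I E := by
    intro r
    refine ⟨m, fun b hb => ?_⟩
    rw [← map_smul]
    have : b • r ∈ I ^ m := Ideal.mul_mem_right _ _ hb
    rw [LinearMap.comp_apply, Submodule.mkQ_apply, (Submodule.Quotient.mk_eq_zero _).mpr this,
      map_zero]
  refine ⟨(ψ' ∘ₗ (I ^ m).mkQ).codRestrict _ hmem, fun x hx => ?_⟩
  apply Subtype.ext
  change ψ' ((I ^ m).mkQ x) = (φ ⟨x, hx⟩ : E)
  have h1 := LinearMap.congr_fun hψ' ⟨(I ^ m).mkQ x, Submodule.mem_map_of_mem hx⟩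
  rw [LinearMap.comp_apply, Submodule.subtype_apply] at h1
  rw [h1, hf x hx, hψ₀' x hx]

theorem torsionSub_torsionSub_eq_top (E : Type u) [AddCommGroup E] [Module R E] :
    DRing.torsionSub I (DRing.torsionSub I E) = ⊤ := by
  rw [eq_top_iff]
  rintro ⟨x, n, hn⟩ -
  exact ⟨n, fun a ha => Subtype.ext (hn a ha)⟩

theorem torsionSub_eq_top_of_surjective {A B : Type u} [AddCommGroup A] [Module R A]
    [AddCommGroup B] [Module R B] (g : A →ₗ[R] B) (hg : Function.Surjective g)
    (hA : DRing.torsionSub I A = ⊤) : DRing.torsionSub I B = ⊤ := by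
  rw [eq_top_iff]
  intro b _
  obtain ⟨a, rfl⟩ := hg b
  exact DRing.map_mem_torsionSub I g (hA ▸ Submodule.mem_top)

theorem dimshift_torsion [IsNoetherianRing R] (T : Type u) [AddCommGroup T] [Module R T]
    (hT : DRing.torsionSub I T = ⊤) (n : ℕ)
    (x : (localCohomology I (n + 1)).obj (ModuleCat.of R T)) :
    ∃ (G : Type u) (_ : AddCommGroup G) (_ : Module R G) (Q : Type u) (_ : AddCommGroup Q)
      (_ : Module R Q) (f : T →ₗ[R] G) (g : G →ₗ[R] Q) (hf : Function.Injective f)
      (hg : Function.Surjective g) (hex : Function.Exact f g),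
      DRing.torsionSub I G = ⊤ ∧ DRing.torsionSub I Q = ⊤ ∧
      ∃ z : (localCohomology I n).obj (ModuleCat.of R Q),
        Hδ I n (Sfg f g hex) (Sfg_shortExact f g hf hg hex) z = x := by
  let Ec : ModuleCat.{u} R := Injective.under (ModuleCat.of R T)
  let ι : ModuleCat.of R T ⟶ Ec := Injective.ι (ModuleCat.of R T)
  have hι : Function.Injective ι.hom := (ModuleCat.mono_iff_injective ι).mp inferInstance
  have hEobj : Injective (ModuleCat.of R ↑Ec) := inferInstanceAs (Injective Ec)
  have hEinj : Module.Injective R Ec := Module.injective_module_of_injective_object R Ec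
  have hGinj : Module.Injective R (DRing.torsionSub I Ec) := injective_torsionSub I Ec
  let f : T →ₗ[R] DRing.torsionSub I Ec := ι.hom.codRestrict _ (fun t =>
    DRing.map_mem_torsionSub I ι.hom (hT ▸ Submodule.mem_top))
  have hf : Function.Injective f := fun a b h => hι (congrArg Subtype.val h)
  have hg : Function.Surjective (LinearMap.range f).mkQ := Submodule.mkQ_surjective _
  have hex : Function.Exact f (LinearMap.range f).mkQ := LinearMap.exact_map_mkQ_range f
  have hGtop := torsionSub_torsionSub_eq_top I Ec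
  have hQtop := torsionSub_eq_top_of_surjective I _ hg hGtop
  have : Injective (ModuleCat.of R (DRing.torsionSub I Ec)) :=
    Module.injective_object_of_injective_module R _
  have hx : (localCohomology I (n + 1)).map (Sfg f (LinearMap.range f).mkQ hex).f x = 0 :=
    H_succ_eq_zero_of_injective I (ModuleCat.of R (DRing.torsionSub I Ec)) n _
  obtain ⟨z, hz⟩ := H_exact₁ I n (Sfg f (LinearMap.range f).mkQ hex)
    (Sfg_shortExact f _ hf hg hex) x hx
  exact ⟨_, _, _, _, _, _, f, _, hf, hg, hex, hGtop, hQtop, z, hz⟩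

/-- Local cohomology of a torsion module vanishes in positive degrees (Noetherian ring). -/
theorem H_succ_eq_zero_of_torsion [IsNoetherianRing R] (n : ℕ) :
    ∀ (T : Type u) [AddCommGroup T] [Module R T], DRing.torsionSub I T = ⊤ →
      ∀ x : (localCohomology I (n + 1)).obj (ModuleCat.of R T), x = 0 := by
  induction n with
  | zero =>
    intro T _ _ hT x
    obtain ⟨G, _, _, Q, _, _, f, g, hf, hg, hex, hG, hQ, z, rfl⟩ := dimshift_torsion I T hT 0 x
    obtain ⟨e, he⟩ := hg (Φ I (ModuleCat.of R Q) z)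
    obtain ⟨y, hy⟩ := exists_Φ_eq I (ModuleCat.of R G) e (hG ▸ Submodule.mem_top)
    have hzy : z = (localCohomology I 0).map (Sfg f g hex).g y := by
      apply Φ_injective I (ModuleCat.of R Q)
      rw [Φ_naturality I (Sfg f g hex).g y, hy, ← he]
      rfl
    rw [hzy]
    exact Hδ_map_g I 0 (Sfg f g hex) (Sfg_shortExact f g hf hg hex) y
  | succ n ih =>
    intro T _ _ hT x
    obtain ⟨G, _, _, Q, _, _, f, g, hf, hg, hex, hG, hQ, z, rfl⟩ :=
      dimshift_torsion I T hT (n + 1) x
    rw [ih Q hQ z, map_zero]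

end Groth.Agent.Lib.Helper8.LC

namespace Groth.Agent.Lib.Helper8.LC

open Groth.Agent.Lib.Helper8.ExtLES Groth.Agent.Lib.Helper8.DT LocCoh

variable {R : Type u} [CommRing R] (I : Ideal R)

section Bij

variable [IsNoetherianRing R] {A B C : Type u} [AddCommGroup A] [Module R A] [AddCommGroup B]
  [Module R B] [AddCommGroup C] [Module R C] (f : A →ₗ[R] B) (g : B →ₗ[R] C)
  (hf : Function.Injective f) (hg : Function.Surjective g) (hex : Function.Exact f g)

include hf hg hex in
/-- If the kernel is torsion, `H^{n+1}(g)` is bijective. -/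
theorem H_map_bijective_of_torsion_left (hA : DRing.torsionSub I A = ⊤) (n : ℕ) :
    Function.Bijective ((localCohomology I (n + 1)).map (ModuleCat.ofHom g)).hom := by
  have hS := Sfg_shortExact f g hf hg hex
  constructor
  · rw [injective_iff_map_eq_zero]
    intro x hx
    obtain ⟨w, hw⟩ := H_exact₂ I (n + 1) (Sfg f g hex) hS x hx
    rw [← hw, H_succ_eq_zero_of_torsion I n A hA w, map_zero]
  · intro z
    have h0 : Hδ I (n + 1) (Sfg f g hex) hS z = 0 := H_succ_eq_zero_of_torsion I (n + 1) A hA _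
    exact H_exact₃ I (n + 1) (Sfg f g hex) hS z h0

include hf hg hex in
/-- If the cokernel is torsion, `H^{n+2}(f)` is bijective. -/
theorem H_map_bijective_of_torsion_right (hC : DRing.torsionSub I C = ⊤) (n : ℕ) :
    Function.Bijective ((localCohomology I (n + 2)).map (ModuleCat.ofHom f)).hom := by
  have hS := Sfg_shortExact f g hf hg hex
  constructor
  · rw [injective_iff_map_eq_zero]
    intro x hx
    obtain ⟨z, hz⟩ := H_exact₁ I (n + 1) (Sfg f g hex) hS x hx
    rw [← hz, H_succ_eq_zero_of_torsion I n C hC z, map_zero]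
  · intro y
    have h0 : (localCohomology I (n + 2)).map (Sfg f g hex).g y = 0 :=
      H_succ_eq_zero_of_torsion I (n + 1) C hC _
    exact H_exact₂ I (n + 2) (Sfg f g hex) hS y h0

end Bij

end Groth.Agent.Lib.Helper8.LC
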