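import Groth.Agent.Lib.Helper8MV
import Groth.Agent.S11603

set_option autoImplicit false
universe u
open CategoryTheory CategoryTheory.Limits Opposite

namespace Groth.Agent.Lib.Helper8.Acyc

open Groth.Agent.Lib.Helper8.ExtLES Groth.Agent.Lib.Helper8.LC Groth.Agent.Lib.Helper8.MV

variable {R : Type u} [CommRing R]

theorem subsingleton_of_forall_eq_zero {A : Type*} [Zero A] (h : ∀ x : A, x = 0) : Subsingleton A :=
  ⟨fun x y => (h x).trans (h y).symm⟩

/-- `H^{n+1}_⊥ = 0`. -/
theorem H_bot_succ [IsNoetherianRing R] (M : Type u) [AddCommGroup M] [Module R M] (n : ℕ) :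
    Subsingleton (LocCoh.H (⊥ : Ideal R) (n + 1) M) := by
  apply subsingleton_of_forall_eq_zero
  apply H_succ_eq_zero_of_torsion (⊥ : Ideal R) n M
  rw [eq_top_iff]
  intro m _
  refine ⟨1, fun a ha => ?_⟩
  rw [pow_one, Ideal.mem_bot] at ha
  rw [ha, zero_smul]

theorem subsingleton_of_radical_eq [IsNoetherianRing R] {J K : Ideal R}
    (h : J.radical = K.radical) (i : ℕ) (M : Type u) [AddCommGroup M] [Module R M]
    (hK : Subsingleton (LocCoh.H K i M)) : Subsingleton (LocCoh.H J i M) := by
  have e := ((localCohomology.isoOfSameRadical h i).app (ModuleCat.of R M)).toLinearEquiv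
  exact e.toEquiv.subsingleton

/-- Vanishing from the Mayer–Vietoris sequence. -/
theorem MV_vanish [IsNoetherianRing R] (I J : Ideal R) (i : ℕ) (M : Type u) [AddCommGroup M]
    [Module R M] (h1 : Subsingleton (LocCoh.H (I ⊓ J) i M))
    (h2 : Subsingleton (LocCoh.H I (i + 1) M)) (h3 : Subsingleton (LocCoh.H J (i + 1) M)) :
    Subsingleton (LocCoh.H (I ⊔ J) (i + 1) M) := by
  obtain ⟨δ, -, hδ, -, -⟩ := mayer_vietoris I J (ModuleCat.of R M)
  apply subsingleton_of_forall_eq_zero
  intro y
  have hy : y ∈ LinearMap.ker (pMap I J (i + 1) (ModuleCat.of R M)) := by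
    rw [LinearMap.mem_ker]
    exact Subsingleton.elim _ _
  rw [hδ i] at hy
  obtain ⟨z, rfl⟩ := hy
  rw [Subsingleton.elim z 0, map_zero]

section Principal

variable [IsNoetherianRing R] (a : R)

theorem mk_surjective_of_injective (E : Type u) [AddCommGroup E] [Module R E]
    [Injective (ModuleCat.of R E)] :
    Function.Surjective (LocalizedModule.mkLinearMap (Submonoid.powers a) E) := by
  obtain ⟨ω, -, hω⟩ := Groth.Agent.S11602.result R a E
  rw [← hω]
  exact ω.surjective.comp (toDT_surjective_of_injective (Ideal.span {a}) E)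

omit [IsNoetherianRing R] in
theorem mk_surjective_of_surjective {E Q : Type u} [AddCommGroup E] [Module R E] [AddCommGroup Q]
    [Module R Q] (g : E →ₗ[R] Q) (hg : Function.Surjective g)
    (hE : Function.Surjective (LocalizedModule.mkLinearMap (Submonoid.powers a) E)) :
    Function.Surjective (LocalizedModule.mkLinearMap (Submonoid.powers a) Q) := by
  intro y
  induction y using LocalizedModule.induction_on with
  | h q s =>
    obtain ⟨e, rfl⟩ := hg q
    obtain ⟨e', he'⟩ := hE (LocalizedModule.mk e s)
    refine ⟨g e', ?_⟩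
    have h1 := congrArg (LocalizedModule.map (Submonoid.powers a) g) he'
    rw [LocalizedModule.mkLinearMap_apply] at h1 ⊢
    rw [LocalizedModule.map_mk, LocalizedModule.map_mk] at h1
    exact h1

theorem H_one_subsingleton_of_mk_surjective (N : Type u) [AddCommGroup N] [Module R N]
    (hN : Function.Surjective (LocalizedModule.mkLinearMap (Submonoid.powers a) N)) :
    Subsingleton (LocCoh.H (Ideal.span {a}) 1 N) := by
  obtain ⟨e⟩ := Groth.Agent.S11603.result R a N
  have : Subsingleton (LocalizedModule (Submonoid.powers a) N ⧸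
      LinearMap.range (LocalizedModule.mkLinearMap (Submonoid.powers a) N)) := by
    rw [LinearMap.range_eq_top.mpr hN]
    infer_instance
  exact e.symm.toEquiv.subsingleton

theorem H_principal_add_two (n : ℕ) : ∀ (M : Type u) [AddCommGroup M] [Module R M],
    Subsingleton (LocCoh.H (Ideal.span {a}) (n + 2) M) := by
  induction n with
  | zero =>
    intro M _ _
    let S := injSES (ModuleCat.of R M)
    have hS : S.ShortExact := injSES_shortExact _
    have hEobj : Injective (ModuleCat.of R ↑S.X₂) := inferInstanceAs (Injective S.X₂)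
    have hE := mk_surjective_of_injective a S.X₂
    have hgs : Function.Surjective S.g.hom := (ModuleCat.epi_iff_surjective S.g).mp hS.epi_g
    have hQ := mk_surjective_of_surjective a S.g.hom hgs hE
    have h1 : Subsingleton (LocCoh.H (Ideal.span {a}) 1 S.X₃) :=
      H_one_subsingleton_of_mk_surjective a S.X₃ hQ
    apply subsingleton_of_forall_eq_zero
    intro x
    obtain ⟨z, rfl⟩ := Hδ_surjective S hS (Ideal.span {a}) 1 x
    have hz : z = 0 := Subsingleton.elim _ _
    rw [hz, map_zero]
  | succ n ih =>
    intro M _ _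
    let S := injSES (ModuleCat.of R M)
    have hS : S.ShortExact := injSES_shortExact _
    have h1 : Subsingleton (LocCoh.H (Ideal.span {a}) (n + 2) S.X₃) := ih S.X₃
    apply subsingleton_of_forall_eq_zero
    intro x
    obtain ⟨z, rfl⟩ := Hδ_surjective S hS (Ideal.span {a}) (n + 2) x
    have hz : z = 0 := Subsingleton.elim _ _
    rw [hz, map_zero]

end Principal

end Groth.Agent.Lib.Helper8.Acyc
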