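import Mathlib

/-!
# `R`-linearity of `Ext` (in the second variable) and of local cohomology

`ext_map_smul`: `((Ext R (ModuleCat R) n).obj (op X)).map (s • 𝟙 Y) = s • 𝟙 _`.
`localCohomology_map_smul`: `(localCohomology.ofDiagram I i).map (s • 𝟙 M) = s • 𝟙 _`.
-/

set_option autoImplicit false
universe u
open CategoryTheory CategoryTheory.Limits Opposite

namespace Groth.Agent.Lib.Helper16.LocCohLinear


lemma homologyMap_eq_app {D : Type*} [Category D] [HasZeroMorphisms D] {ι : Type*}
    {c : ComplexShape ι}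
    (z : 𝟭 D ⟶ 𝟭 D) (K : HomologicalComplex D c) (φ : K ⟶ K) (hφ : ∀ k, φ.f k = z.app (K.X k))
    (n : ι) [K.HasHomology n] :
    HomologicalComplex.homologyMap φ n = z.app (K.homology n) := by
  have h1 : HomologicalComplex.cyclesMap φ n = z.app (K.cycles n) := by
    rw [← cancel_mono (K.iCycles n), HomologicalComplex.cyclesMap_i, hφ]
    exact z.naturality (K.iCycles n)
  rw [← cancel_epi (K.homologyπ n), HomologicalComplex.homologyπ_naturality, h1]
  exact (z.naturality (K.homologyπ n)).symm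

lemma conj_unop {R : Type*} [Semiring R] {C : Type*} [Category C] [Preadditive C] [Linear R C]
    {A B : Cᵒᵖ} (e : A ≅ B) (s : R) :
    (e.hom ≫ (s • 𝟙 (unop B)).op ≫ e.inv).unop = s • 𝟙 (unop A) := by
  rw [unop_comp, unop_comp, Quiver.Hom.unop_op, Category.assoc, Linear.smul_comp,
    Linear.comp_smul, Category.id_comp, ← unop_comp, e.hom_inv_id]
  rfl

lemma ext_map_smul (R : Type u) [CommRing R] (X Y : ModuleCat.{u} R) (n : ℕ) (s : R) :
    ((Ext R (ModuleCat.{u} R) n).obj (op X)).map (s • 𝟙 Y) = s • 𝟙 _ := by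
  let z : 𝟭 (ModuleCat.{u} R)ᵒᵖ ⟶ 𝟭 (ModuleCat.{u} R)ᵒᵖ :=
    { app := fun W => (s • 𝟙 (unop W)).op
      naturality := by
        intro W W' f
        apply Quiver.Hom.unop_inj
        simp }
  let P := ProjectiveResolution.of X
  let α := NatTrans.rightOp ((linearYoneda R (ModuleCat.{u} R)).map (s • 𝟙 Y))
  have h1 : ((Ext R (ModuleCat.{u} R) n).obj (op X)).map (s • 𝟙 Y) =
      ((NatTrans.leftDerived α n).app X).unop := rfl
  rw [h1, ProjectiveResolution.leftDerived_app_eq α P n]
  have h2 : (HomologicalComplex.homologyFunctor _ _ n).map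
      ((NatTrans.mapHomologicalComplex α _).app P.complex) = z.app _ := by
    refine homologyMap_eq_app z _ _ (fun k => ?_) n
    apply Quiver.Hom.unop_inj
    apply ModuleCat.hom_ext
    ext (g : P.complex.X k ⟶ Y)
    change g ≫ (s • 𝟙 Y) = s • g
    rw [Linear.comp_smul, Category.comp_id]
  rw [h2]
  exact conj_unop (P.isoLeftDerivedObj ((linearYoneda R (ModuleCat R)).obj Y).rightOp n) s

lemma colimit_map_smul {R : Type u} [CommRing R] {J : Type} [SmallCategory J]
    (F : J ⥤ ModuleCat.{u} R ⥤ ModuleCat.{u} R) [HasColimit F]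
    (M : ModuleCat.{u} R) (s : R) (h : ∀ j, (F.obj j).map (s • 𝟙 M) = s • 𝟙 _) :
    (colimit F).map (s • 𝟙 M) = s • 𝟙 _ := by
  have hc : IsColimit (((evaluation _ _).obj M).mapCocone (colimit.cocone F)) :=
    isColimitOfPreserves _ (colimit.isColimit F)
  apply hc.hom_ext
  intro j
  simp only [Functor.mapCocone_ι_app, evaluation_obj_map, colimit.cocone_ι]
  rw [← (colimit.ι F j).naturality, h, Linear.smul_comp, Linear.comp_smul, Category.id_comp]
  congr 1


lemma ofDiagram_map_smul {R : Type u} [CommRing R] {D : Type} [SmallCategory D]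
    (I : D ⥤ Ideal R) (i : ℕ) (M : ModuleCat.{u} R) (t : R) :
    (localCohomology.ofDiagram I i).map (t • 𝟙 M) = t • 𝟙 _ := by
  apply colimit_map_smul
  intro j
  exact ext_map_smul R _ _ i t

lemma localCohomology_map_smul {R : Type u} [CommRing R] (b : Ideal R) (i : ℕ)
    (M : ModuleCat.{u} R) (t : R) :
    (localCohomology b i).map (t • 𝟙 M) = t • 𝟙 _ :=
  ofDiagram_map_smul _ i M t

end Groth.Agent.Lib.Helper16.LocCohLinear
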