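import Groth.Agent.Lib.Helper8LC2
import Groth.Agent.Lib.Helper16LocCohLinear

set_option autoImplicit false
universe u
open CategoryTheory CategoryTheory.Limits Opposite

namespace Groth.Agent.Lib.Helper8.LC

open Groth.Agent.Lib.Helper8.ExtLES Groth.Agent.Lib.Helper16.LocCohLinear

variable {R : Type u} [CommRing R]

/-- `Ext` is `R`-linear in the first variable. -/
theorem Epre_smul (n : ℕ) (X Y : ModuleCat.{u} R) (a : R) :
    Epre n (a • 𝟙 X) Y = a • 𝟙 _ := by
  let z : 𝟭 (ModuleCat.{u} R)ᵒᵖ ⟶ 𝟭 (ModuleCat.{u} R)ᵒᵖ :=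
    { app := fun W => (a • 𝟙 (unop W)).op
      naturality := by
        intro W W' f
        apply Quiver.Hom.unop_inj
        simp }
  let P := ProjectiveResolution.of X
  have w : (a • 𝟙 P.complex) ≫ P.π = P.π ≫ (ChainComplex.single₀ _).map (a • 𝟙 X) := by
    apply HomologicalComplex.to_single_hom_ext
    rw [HomologicalComplex.comp_f, HomologicalComplex.comp_f, ChainComplex.single₀_map_f_zero]
    apply ModuleCat.hom_ext
    apply LinearMap.ext
    intro x
    change (P.π.f 0).hom (a • x) = a • (P.π.f 0).hom x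
    exact map_smul _ _ _
  rw [Epre_eq, Functor.leftDerived_map_eq (FY Y) n (a • 𝟙 X) (a • 𝟙 P.complex) w]
  have h2 : ((FY Y).mapHomologicalComplex _ ⋙ HomologicalComplex.homologyFunctor _ _ n).map
      (a • 𝟙 P.complex) = z.app _ := by
    refine homologyMap_eq_app z _ _ (fun k => ?_) n
    apply Quiver.Hom.unop_inj
    apply ModuleCat.hom_ext
    ext (g : P.complex.X k ⟶ Y)
    change (a • 𝟙 (P.complex.X k)) ≫ g = a • g
    rw [Linear.smul_comp, Category.id_comp]
  rw [h2]
  exact conj_unop (P.isoLeftDerivedObj (FY Y) n) a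

end Groth.Agent.Lib.Helper8.LC

namespace Groth.Agent.Lib.Helper8.LC

open Groth.Agent.Lib.Helper8.ExtLES

variable {R : Type u} [CommRing R]

theorem smul_E_eq_zero (I : Ideal R) (n k : ℕ) (M : ModuleCat.{u} R) (a : R) (ha : a ∈ I ^ k)
    (y : E n (Xk I k) M) : a • y = 0 := by
  have h0 : a • 𝟙 (Xk I k) = 0 := by
    apply ModuleCat.hom_ext
    apply LinearMap.ext
    intro x
    obtain ⟨r, rfl⟩ := Submodule.Quotient.mk_surjective _ x
    change a • (Submodule.Quotient.mk r : R ⧸ I ^ k) = 0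
    rw [← Submodule.Quotient.mk_smul, Submodule.Quotient.mk_eq_zero]
    exact Ideal.mul_mem_right _ _ ha
  have h1 := Epre_smul n (Xk I k) M a
  have h2 := Epre_smul n (Xk I k) M 0
  rw [h0] at h1
  rw [zero_smul] at h2
  rw [h2] at h1
  have h3 := congrArg (fun φ => φ.hom y) h1
  have h4 : (0 : R) • y = a • y := h3
  rw [← h4, zero_smul]

theorem isPowerTorsion_H (I : Ideal R) (i : ℕ) (M : ModuleCat.{u} R)
    (x : (localCohomology I i).obj M) : ∃ n : ℕ, ∀ a ∈ I ^ n, a • x = 0 := by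
  obtain ⟨k, y, rfl⟩ := exists_rep I i M x
  refine ⟨k, fun a ha => ?_⟩
  rw [← map_smul, smul_E_eq_zero I i k M a ha y, map_zero]

end Groth.Agent.Lib.Helper8.LC
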