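import Groth.Agent.Lib.Helper8LC4
import Groth.Prelude.Def_DualLC
import Mathlib.Algebra.Module.SnakeLemma

set_option autoImplicit false
universe u
open CategoryTheory CategoryTheory.Limits Opposite

namespace Groth.Agent.Lib.Helper8.MV

open Groth.Agent.Lib.Helper8.ExtLES Groth.Agent.Lib.Helper8.LC

variable {R : Type u} [CommRing R]

/-- The quotient map `R ⧸ I^k → R ⧸ I'^k` for `I ≤ I'`. -/
noncomputable abbrev qm {I I' : Ideal R} (h : I ≤ I') (k : ℕ) : Xk I k ⟶ Xk I' k :=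
  (Dual2.quotMapOfLE h).app (op k)

theorem qm_mk {I I' : Ideal R} (h : I ≤ I') (k : ℕ) (r : R) :
    (qm h k).hom (Submodule.Quotient.mk r) = Submodule.Quotient.mk r := rfl

theorem HmapOfLE_cls {I I' : Ideal R} (h : I ≤ I') (i : ℕ) (M : ModuleCat.{u} R) (k : ℕ)
    (x : E i (Xk I' k) M) :
    ((Dual2.HmapOfLE h i).app M).hom (cls I' i M k x) = cls I i M k (Epre i (qm h k) M x) := by
  have h1 := Limits.ι_colimMap (Functor.whiskerRight (NatTrans.op (Dual2.quotMapOfLE h))
    (Ext R (ModuleCat.{u} R) i)) (op (op k))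
  have h2 := congrArg (fun φ => (φ.app M).hom x) h1
  exact h2

theorem HmapOfLE_naturality {I I' : Ideal R} (h : I ≤ I') (i : ℕ) {M N : ModuleCat.{u} R}
    (g : M ⟶ N) (x : (localCohomology I' i).obj M) :
    ((Dual2.HmapOfLE h i).app N).hom ((localCohomology I' i).map g x) =
      (localCohomology I i).map g (((Dual2.HmapOfLE h i).app M).hom x) := by
  have h1 := (Dual2.HmapOfLE h i).naturality g
  have h2 := congrArg (fun φ => φ.hom x) h1
  exact h2

theorem Hδ_HmapOfLE {I I' : Ideal R} (h : I ≤ I') (i : ℕ) (S : ShortComplex (ModuleCat.{u} R))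
    (hS : S.ShortExact) (z : (localCohomology I' i).obj S.X₃) :
    Hδ I i S hS (((Dual2.HmapOfLE h i).app S.X₃).hom z) =
      ((Dual2.HmapOfLE h (i + 1)).app S.X₁).hom (Hδ I' i S hS z) := by
  obtain ⟨k, zk, rfl⟩ := exists_rep I' i S.X₃ z
  rw [HmapOfLE_cls, Hδ_cls, Hδ_cls, HmapOfLE_cls, extδ_naturality]

theorem Φ_HmapOfLE {I I' : Ideal R} (h : I ≤ I') (M : ModuleCat.{u} R)
    (x : (localCohomology I' 0).obj M) :
    Φ I M (((Dual2.HmapOfLE h 0).app M).hom x) = Φ I' M x := by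
  obtain ⟨k, f, rfl⟩ := exists_rep₀ I' M x
  rw [HmapOfLE_cls, Epre_θ, Φ_cls, Φ_cls]
  rfl

theorem HmapOfLE_comp {I I' I'' : Ideal R} (h : I ≤ I') (h' : I' ≤ I'') (i : ℕ)
    (M : ModuleCat.{u} R) (x : (localCohomology I'' i).obj M) :
    ((Dual2.HmapOfLE h i).app M).hom (((Dual2.HmapOfLE h' i).app M).hom x) =
      ((Dual2.HmapOfLE (h.trans h') i).app M).hom x := by
  obtain ⟨k, xk, rfl⟩ := exists_rep I'' i M x
  rw [HmapOfLE_cls, HmapOfLE_cls, HmapOfLE_cls]
  congr 1
  have e : qm (h.trans h') k = qm h k ≫ qm h' k := by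
    apply ModuleCat.hom_ext
    apply Submodule.linearMap_qext
    apply LinearMap.ext_ring
    rfl
  rw [e]
  have h1 : Epre i (qm h k ≫ qm h' k) M = Epre i (qm h' k) M ≫ Epre i (qm h k) M := by
    change ((Ext R (ModuleCat.{u} R) i).map (qm h k ≫ qm h' k).op).app M = _
    rw [op_comp, Functor.map_comp]
    rfl
  rw [h1]
  rfl

section Torsion

open Groth.Agent.Lib.Helper8.DT

theorem torsionSub_mono {I I' : Ideal R} (h : I ≤ I') (M : Type u) [AddCommGroup M] [Module R M] :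
    DRing.torsionSub I' M ≤ DRing.torsionSub I M := by
  rintro m ⟨n, hn⟩
  exact ⟨n, fun a ha => hn a (Ideal.pow_right_mono h n ha)⟩

theorem mem_torsionSub_sup {I J : Ideal R} (M : Type u) [AddCommGroup M] [Module R M] (m : M)
    (hI : m ∈ DRing.torsionSub I M) (hJ : m ∈ DRing.torsionSub J M) :
    m ∈ DRing.torsionSub (I ⊔ J) M := by
  obtain ⟨n, hn⟩ := hI
  obtain ⟨n', hn'⟩ := hJ
  refine ⟨n + n', fun a ha => ?_⟩
  have hle : (I ⊔ J) ^ (n + n') ≤ I ^ n ⊔ J ^ n' := Ideal.sup_pow_add_le_pow_sup_pow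
  obtain ⟨b, hb, c, hc, rfl⟩ := Submodule.mem_sup.mp (hle ha)
  rw [add_smul, hn b hb, hn' c hc, add_zero]

/-- For an injective module over a Noetherian ring, `Γ_{I ⊓ J}(E) = Γ_I(E) + Γ_J(E)`. -/
theorem exists_add_of_mem_torsionSub_inf [IsNoetherianRing R] (I J : Ideal R) (E : Type u)
    [AddCommGroup E] [Module R E] [Module.Injective R E] (x : E)
    (hx : x ∈ DRing.torsionSub (I ⊓ J) E) :
    ∃ a b : E, a ∈ DRing.torsionSub I E ∧ b ∈ DRing.torsionSub J E ∧ a + b = x := by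
  obtain ⟨n, hn⟩ := hx
  let F : R →ₗ[R] E := LinearMap.toSpanSingleton R E x
  obtain ⟨m, hm⟩ := exists_pow_smul_top_inf_le_ker I (V := R) (M := E) (J ^ n) F n (by
    intro c hc b hb
    change b • (c • x) = 0
    rw [smul_smul]
    apply hn
    have h1 : b * c ∈ I ^ n * J ^ n := Ideal.mul_mem_mul hb hc
    rw [← mul_pow] at h1
    exact Ideal.pow_right_mono Ideal.mul_le_inf n h1)
  have hker : I ^ m ⊓ J ^ n ≤ LinearMap.ker F := by
    intro c hc
    rw [LinearMap.mem_ker]
    refine hm c ?_ hc.2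
    rw [smul_eq_mul, Ideal.mul_top]
    exact hc.1
  let g : (R ⧸ (I ^ m ⊓ J ^ n)) →ₗ[R] E := Submodule.liftQ _ F hker
  let f : (R ⧸ (I ^ m ⊓ J ^ n)) →ₗ[R] (R ⧸ I ^ m) × (R ⧸ J ^ n) :=
    LinearMap.prod (Submodule.mapQ _ _ LinearMap.id inf_le_left)
      (Submodule.mapQ _ _ LinearMap.id inf_le_right)
  have hf : Function.Injective f := by
    rw [injective_iff_map_eq_zero]
    intro y hy
    obtain ⟨r, rfl⟩ := Submodule.Quotient.mk_surjective _ y
    have h1 : (Submodule.Quotient.mk r : R ⧸ I ^ m) = 0 := congrArg Prod.fst hy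
    have h2 : (Submodule.Quotient.mk r : R ⧸ J ^ n) = 0 := congrArg Prod.snd hy
    rw [Submodule.Quotient.mk_eq_zero] at h1 h2 ⊢
    exact ⟨h1, h2⟩
  obtain ⟨ψ, hψ⟩ := Module.Injective.extension_property R E _ _ f hf g
  refine ⟨ψ (Submodule.Quotient.mk 1, 0), ψ (0, Submodule.Quotient.mk 1), ?_, ?_, ?_⟩
  · refine ⟨m, fun a ha => ?_⟩
    rw [← map_smul]
    have : a • ((Submodule.Quotient.mk 1 : R ⧸ I ^ m), (0 : R ⧸ J ^ n)) = 0 := by
      rw [Prod.smul_mk, smul_zero, ← Submodule.Quotient.mk_smul,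
        (Submodule.Quotient.mk_eq_zero _).mpr (by simpa using ha)]
      rfl
    rw [this, map_zero]
  · refine ⟨n, fun a ha => ?_⟩
    rw [← map_smul]
    have : a • ((0 : R ⧸ I ^ m), (Submodule.Quotient.mk 1 : R ⧸ J ^ n)) = 0 := by
      rw [Prod.smul_mk, smul_zero, ← Submodule.Quotient.mk_smul,
        (Submodule.Quotient.mk_eq_zero _).mpr (by simpa using ha)]
      rfl
    rw [this, map_zero]
  · rw [← map_add]
    have h1 := LinearMap.congr_fun hψ (Submodule.Quotient.mk 1)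
    have h2 : f (Submodule.Quotient.mk 1) =
        ((Submodule.Quotient.mk 1 : R ⧸ I ^ m), (0 : R ⧸ J ^ n)) +
          ((0 : R ⧸ I ^ m), (Submodule.Quotient.mk 1 : R ⧸ J ^ n)) := by
      rw [Prod.mk_add_mk, add_zero, zero_add]
      rfl
    rw [← h2]
    refine h1.trans ?_
    change F 1 = x
    exact one_smul _ _

end Torsion

section Maps

variable (I J : Ideal R) (i : ℕ) (X : ModuleCat.{u} R)

/-- The pair of comparison maps `H^i_{I+J} → H^i_I × H^i_J`. -/
noncomputable abbrev pMap :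
    (localCohomology (I ⊔ J) i).obj X →ₗ[R]
      (localCohomology I i).obj X × (localCohomology J i).obj X :=
  LinearMap.prod ((Dual2.HmapOfLE (le_sup_left : I ≤ I ⊔ J) i).app X).hom
    ((Dual2.HmapOfLE (le_sup_right : J ≤ I ⊔ J) i).app X).hom

/-- The difference of comparison maps `H^i_I × H^i_J → H^i_{I∩J}`. -/
noncomputable abbrev dMap :
    (localCohomology I i).obj X × (localCohomology J i).obj X →ₗ[R]
      (localCohomology (I ⊓ J) i).obj X :=
  ((Dual2.HmapOfLE (inf_le_left : I ⊓ J ≤ I) i).app X).hom ∘ₗ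
      LinearMap.fst R ((localCohomology I i).obj X) ((localCohomology J i).obj X) -
    ((Dual2.HmapOfLE (inf_le_right : I ⊓ J ≤ J) i).app X).hom ∘ₗ
      LinearMap.snd R ((localCohomology I i).obj X) ((localCohomology J i).obj X)

theorem pMap_apply (w : (localCohomology (I ⊔ J) i).obj X) :
    pMap I J i X w = (((Dual2.HmapOfLE (le_sup_left : I ≤ I ⊔ J) i).app X).hom w,
      ((Dual2.HmapOfLE (le_sup_right : J ≤ I ⊔ J) i).app X).hom w) := rfl

theorem dMap_apply (z : (localCohomology I i).obj X × (localCohomology J i).obj X) :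
    dMap I J i X z = ((Dual2.HmapOfLE (inf_le_left : I ⊓ J ≤ I) i).app X).hom z.1 -
      ((Dual2.HmapOfLE (inf_le_right : I ⊓ J ≤ J) i).app X).hom z.2 := rfl

theorem dMap_pMap (w : (localCohomology (I ⊔ J) i).obj X) : dMap I J i X (pMap I J i X w) = 0 := by
  rw [dMap_apply, pMap_apply]
  change ((Dual2.HmapOfLE _ i).app X).hom (((Dual2.HmapOfLE _ i).app X).hom w) -
    ((Dual2.HmapOfLE _ i).app X).hom (((Dual2.HmapOfLE _ i).app X).hom w) = 0
  rw [HmapOfLE_comp, HmapOfLE_comp, sub_self]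

variable {X} in
theorem pMap_naturality {Y : ModuleCat.{u} R} (g : X ⟶ Y) (w : (localCohomology (I ⊔ J) i).obj X) :
    pMap I J i Y ((localCohomology (I ⊔ J) i).map g w) =
      Prod.map ((localCohomology I i).map g) ((localCohomology J i).map g) (pMap I J i X w) := by
  rw [pMap_apply, pMap_apply, HmapOfLE_naturality, HmapOfLE_naturality]
  rfl

variable {X} in
theorem dMap_naturality {Y : ModuleCat.{u} R} (g : X ⟶ Y)
    (z : (localCohomology I i).obj X × (localCohomology J i).obj X) :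
    dMap I J i Y (Prod.map ((localCohomology I i).map g) ((localCohomology J i).map g) z) =
      (localCohomology (I ⊓ J) i).map g (dMap I J i X z) := by
  rw [dMap_apply, dMap_apply, map_sub, ← HmapOfLE_naturality, ← HmapOfLE_naturality]
  rfl

theorem pMap_Hδ (S : ShortComplex (ModuleCat.{u} R)) (hS : S.ShortExact)
    (w : (localCohomology (I ⊔ J) i).obj S.X₃) :
    pMap I J (i + 1) S.X₁ (Hδ (I ⊔ J) i S hS w) =
      Prod.map (Hδ I i S hS) (Hδ J i S hS) (pMap I J i S.X₃ w) := by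
  rw [pMap_apply, pMap_apply, ← Hδ_HmapOfLE, ← Hδ_HmapOfLE]
  rfl

theorem dMap_Hδ (S : ShortComplex (ModuleCat.{u} R)) (hS : S.ShortExact)
    (z : (localCohomology I i).obj S.X₃ × (localCohomology J i).obj S.X₃) :
    dMap I J (i + 1) S.X₁ (Prod.map (Hδ I i S hS) (Hδ J i S hS) z) =
      Hδ (I ⊓ J) i S hS (dMap I J i S.X₃ z) := by
  rw [dMap_apply, dMap_apply, map_sub, Hδ_HmapOfLE, Hδ_HmapOfLE]
  rfl

theorem pMap_zero_injective : Function.Injective (pMap I J 0 X) := by
  intro w w' h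
  apply Φ_injective (I ⊔ J) X
  have h1 := congrArg Prod.fst h
  rw [pMap_apply, pMap_apply] at h1
  have h2 := congrArg (Φ I X) h1
  rw [Φ_HmapOfLE, Φ_HmapOfLE] at h2
  exact h2

/-- Exactness in the middle in degree `0`. -/
theorem exact_zero (z : (localCohomology I 0).obj X × (localCohomology J 0).obj X)
    (hz : dMap I J 0 X z = 0) : ∃ w, pMap I J 0 X w = z := by
  obtain ⟨x, y⟩ := z
  rw [dMap_apply, sub_eq_zero] at hz
  have h1 := congrArg (Φ (I ⊓ J) X) hz
  rw [Φ_HmapOfLE, Φ_HmapOfLE] at h1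
  have hm : (Φ I X x : X) ∈ DRing.torsionSub (I ⊔ J) X :=
    mem_torsionSub_sup X _ (Φ_mem_torsionSub I X x) (h1 ▸ Φ_mem_torsionSub J X y)
  obtain ⟨w, hw⟩ := exists_Φ_eq (I ⊔ J) X _ hm
  refine ⟨w, ?_⟩
  rw [pMap_apply]
  refine Prod.ext ?_ ?_
  · apply Φ_injective I X
    rw [Φ_HmapOfLE, hw]
  · apply Φ_injective J X
    rw [Φ_HmapOfLE, hw, h1]

theorem dMap_zero_surjective [IsNoetherianRing R] [Injective X] :
    Function.Surjective (dMap I J 0 X) := by
  intro z
  have hEinj : Module.Injective R X := Module.injective_module_of_injective_object R X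
  obtain ⟨a, b, ha, hb, hab⟩ := exists_add_of_mem_torsionSub_inf I J X (Φ (I ⊓ J) X z)
    (Φ_mem_torsionSub (I ⊓ J) X z)
  obtain ⟨xa, hxa⟩ := exists_Φ_eq I X a ha
  obtain ⟨xb, hxb⟩ := exists_Φ_eq J X (-b) ((DRing.torsionSub J X).neg_mem hb)
  refine ⟨(xa, xb), ?_⟩
  apply Φ_injective (I ⊓ J) X
  rw [dMap_apply, map_sub, Φ_HmapOfLE, Φ_HmapOfLE, hxa, hxb, sub_neg_eq_add, hab]

theorem dMap_succ_surjective [Injective X] (n : ℕ) :
    Function.Surjective (dMap I J (n + 1) X) := by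
  intro z
  exact ⟨0, by rw [map_zero]; exact (H_succ_eq_zero_of_injective (I ⊓ J) X n z).symm⟩

theorem dMap_surjective [IsNoetherianRing R] [Injective X] (n : ℕ) :
    Function.Surjective (dMap I J n X) := by
  cases n with
  | zero => exact dMap_zero_surjective I J X
  | succ n => exact dMap_succ_surjective I J X n

end Maps

section Generalities

theorem exists_factor {A B C : Type*} [AddCommGroup A] [Module R A] [AddCommGroup B] [Module R B]
    [AddCommGroup C] [Module R C] (π : A →ₗ[R] B) (hπ : Function.Surjective π) (F : A →ₗ[R] C)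
    (h : ∀ a, π a = 0 → F a = 0) : ∃ δ : B →ₗ[R] C, ∀ a, δ (π a) = F a := by
  have hle : LinearMap.ker π ≤ LinearMap.ker F := fun a ha => h a ha
  refine ⟨(Submodule.liftQ _ F hle) ∘ₗ (π.quotKerEquivOfSurjective hπ).symm.toLinearMap,
    fun a => ?_⟩
  rw [LinearMap.comp_apply, LinearEquiv.coe_coe, LinearMap.quotKerEquivOfSurjective_symm_apply,
    Submodule.liftQ_apply]

theorem exact_prodMap {A A' B B' C C' : Type*} [AddCommGroup A] [Module R A] [AddCommGroup B]
    [Module R B] [AddCommGroup C] [Module R C] [AddCommGroup A'] [Module R A'] [AddCommGroup B']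
    [Module R B'] [AddCommGroup C'] [Module R C'] (f : A →ₗ[R] B) (g : B →ₗ[R] C)
    (f' : A' →ₗ[R] B') (g' : B' →ₗ[R] C') (h : Function.Exact f g) (h' : Function.Exact f' g') :
    Function.Exact (f.prodMap f') (g.prodMap g') := by
  rintro ⟨b, b'⟩
  constructor
  · intro h0
    obtain ⟨a, ha⟩ := (h b).mp (congrArg Prod.fst h0)
    obtain ⟨a', ha'⟩ := (h' b').mp (congrArg Prod.snd h0)
    exact ⟨(a, a'), Prod.ext ha ha'⟩
  · rintro ⟨⟨a, a'⟩, ha⟩
    have h1 : f a = b := congrArg Prod.fst ha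
    have h2 : f' a' = b' := congrArg Prod.snd ha
    refine Prod.ext ?_ ?_
    · exact (h b).mpr ⟨a, h1⟩
    · exact (h' b').mpr ⟨a', h2⟩

end Generalities

section Induction

variable (I J : Ideal R)

/-- exactness in the middle. -/
def PA (i : ℕ) (X : ModuleCat.{u} R) : Prop := Function.Exact (pMap I J i X) (dMap I J i X)

/-- existence of a connecting map with exactness on both sides. -/
def PB (i : ℕ) (X : ModuleCat.{u} R) : Prop :=
  ∃ δ : (localCohomology (I ⊓ J) i).obj X →ₗ[R] (localCohomology (I ⊔ J) (i + 1)).obj X,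
    Function.Exact (dMap I J i X) δ ∧ Function.Exact δ (pMap I J (i + 1) X)

theorem PA_zero (X : ModuleCat.{u} R) : PA I J 0 X := by
  intro z
  constructor
  · exact exact_zero I J X z
  · rintro ⟨w, rfl⟩
    exact dMap_pMap I J 0 X w

variable (S : ShortComplex (ModuleCat.{u} R)) (hS : S.ShortExact)

include hS in
theorem exact_map_f_map_g (K : Ideal R) (i : ℕ) :
    Function.Exact ((localCohomology K i).map S.f).hom ((localCohomology K i).map S.g).hom := by
  intro y
  constructor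
  · exact H_exact₂ K i S hS y
  · rintro ⟨x, rfl⟩
    exact H_map_g_map_f K i S hS x

theorem exact_map_g_Hδ (K : Ideal R) (i : ℕ) :
    Function.Exact ((localCohomology K i).map S.g).hom (Hδ K i S hS).hom := by
  intro z
  constructor
  · exact H_exact₃ K i S hS z
  · rintro ⟨y, rfl⟩
    exact Hδ_map_g K i S hS y

theorem Hδ_surjective [Injective S.X₂] (K : Ideal R) (i : ℕ)
    (x : (localCohomology K (i + 1)).obj S.X₁) : ∃ z, Hδ K i S hS z = x :=
  H_exact₁ K i S hS x (H_succ_eq_zero_of_injective K S.X₂ i _)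

theorem Hδ_succ_injective [Injective S.X₂] (K : Ideal R) (i : ℕ)
    (z : (localCohomology K (i + 1)).obj S.X₃) (hz : Hδ K (i + 1) S hS z = 0) : z = 0 := by
  obtain ⟨y, rfl⟩ := H_exact₃ K (i + 1) S hS z hz
  rw [H_succ_eq_zero_of_injective K S.X₂ i y, map_zero]

include hS in
theorem map_f_zero_injective (K : Ideal R) :
    Function.Injective ((localCohomology K 0).map S.f).hom := by
  intro x y h
  apply Φ_injective K S.X₁
  have h1 := congrArg (Φ K S.X₂) h
  change Φ K S.X₂ ((localCohomology K 0).map S.f x) = Φ K S.X₂ ((localCohomology K 0).map S.f y)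
    at h1
  rw [Φ_naturality, Φ_naturality] at h1
  have := hS.mono_f
  exact (ModuleCat.mono_iff_injective S.f).mp inferInstance h1

include hS in
theorem PA_step [IsNoetherianRing R] [Injective S.X₂] (i : ℕ) (h : PA I J i S.X₃) :
    PA I J (i + 1) S.X₁ := by
  intro z
  constructor
  · obtain ⟨x, y⟩ := z
    intro hz
    obtain ⟨x', rfl⟩ := Hδ_surjective S hS I i x
    obtain ⟨y', rfl⟩ := Hδ_surjective S hS J i y
    have h1 : Hδ (I ⊓ J) i S hS (dMap I J i S.X₃ (x', y')) = 0 := by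
      rw [← dMap_Hδ]
      exact hz
    obtain ⟨e, he⟩ := H_exact₃ (I ⊓ J) i S hS _ h1
    obtain ⟨e', rfl⟩ := dMap_surjective I J S.X₂ i e
    rw [← dMap_naturality] at he
    have h2 : dMap I J i S.X₃ ((x', y') - Prod.map ((localCohomology I i).map S.g)
        ((localCohomology J i).map S.g) e') = 0 := by
      rw [map_sub, he, sub_self]
    obtain ⟨w', hw'⟩ := (h _).mp h2
    refine ⟨Hδ (I ⊔ J) i S hS w', ?_⟩
    rw [pMap_Hδ, hw']
    refine Prod.ext ?_ ?_
    · change Hδ I i S hS (x' - (localCohomology I i).map S.g e'.1) = Hδ I i S hS x'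
      rw [map_sub, Hδ_map_g, sub_zero]
    · change Hδ J i S hS (y' - (localCohomology J i).map S.g e'.2) = Hδ J i S hS y'
      rw [map_sub, Hδ_map_g, sub_zero]
  · rintro ⟨w, rfl⟩
    exact dMap_pMap I J (i + 1) S.X₁ w

include hS in
theorem PB_step [IsNoetherianRing R] [Injective S.X₂] (i : ℕ) (h : PB I J i S.X₃) :
    PB I J (i + 1) S.X₁ := by
  obtain ⟨δ', hδ1, hδ2⟩ := h
  have hker : ∀ z, (Hδ (I ⊓ J) i S hS).hom z = 0 →
      ((Hδ (I ⊔ J) (i + 1) S hS).hom ∘ₗ δ') z = 0 := by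
    intro z hz
    obtain ⟨e, rfl⟩ := H_exact₃ (I ⊓ J) i S hS z hz
    obtain ⟨e', rfl⟩ := dMap_surjective I J S.X₂ i e
    rw [← dMap_naturality, LinearMap.comp_apply, (hδ1 _).mpr ⟨_, rfl⟩, map_zero]
  obtain ⟨δ, hδ⟩ := exists_factor (Hδ (I ⊓ J) i S hS).hom (Hδ_surjective S hS (I ⊓ J) i) _ hker
  have hδ' : ∀ z', δ (Hδ (I ⊓ J) i S hS z') = Hδ (I ⊔ J) (i + 1) S hS (δ' z') := hδ
  refine ⟨δ, ?_, ?_⟩
  · intro z
    obtain ⟨z', rfl⟩ := Hδ_surjective S hS (I ⊓ J) i z
    rw [hδ']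
    constructor
    · intro h0
      have h1 : δ' z' = 0 := Hδ_succ_injective S hS (I ⊔ J) i _ h0
      obtain ⟨w', hw'⟩ := (hδ1 z').mp h1
      exact ⟨Prod.map (Hδ I i S hS) (Hδ J i S hS) w', by rw [dMap_Hδ, hw']⟩
    · rintro ⟨⟨w₁, w₂⟩, hw⟩
      obtain ⟨w₁', rfl⟩ := Hδ_surjective S hS I i w₁
      obtain ⟨w₂', rfl⟩ := Hδ_surjective S hS J i w₂
      have h1 : Hδ (I ⊓ J) i S hS (z' - dMap I J i S.X₃ (w₁', w₂')) = 0 := by
        rw [map_sub, ← dMap_Hδ, sub_eq_zero]
        exact hw.symm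
      obtain ⟨e, he⟩ := H_exact₃ (I ⊓ J) i S hS _ h1
      obtain ⟨e', rfl⟩ := dMap_surjective I J S.X₂ i e
      rw [← dMap_naturality] at he
      have h2 : δ' z' = 0 := (hδ1 z').mpr ⟨(w₁', w₂') + Prod.map ((localCohomology I i).map S.g)
        ((localCohomology J i).map S.g) e', by rw [map_add, he]; abel⟩
      rw [h2, map_zero]
  · intro y
    obtain ⟨y', rfl⟩ := Hδ_surjective S hS (I ⊔ J) (i + 1) y
    rw [pMap_Hδ]
    constructor
    · intro h0
      have h1 : pMap I J (i + 1) S.X₃ y' = 0 :=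
        Prod.ext (Hδ_succ_injective S hS I i _ (congrArg Prod.fst h0))
          (Hδ_succ_injective S hS J i _ (congrArg Prod.snd h0))
      obtain ⟨z', hz'⟩ := (hδ2 y').mp h1
      exact ⟨Hδ (I ⊓ J) i S hS z', by rw [hδ', hz']⟩
    · rintro ⟨z, hz⟩
      obtain ⟨z', rfl⟩ := Hδ_surjective S hS (I ⊓ J) i z
      rw [hδ'] at hz
      have h1 : y' = δ' z' := by
        have h2 : Hδ (I ⊔ J) (i + 1) S hS (y' - δ' z') = 0 := by
          rw [map_sub, hz, sub_self]
        exact sub_eq_zero.mp (Hδ_succ_injective S hS (I ⊔ J) i _ h2)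
      rw [h1, (hδ2 _).mpr ⟨z', rfl⟩]
      exact Prod.ext (map_zero _) (map_zero _)

include hS in
theorem PB_zero [IsNoetherianRing R] [Injective S.X₂] : PB I J 0 S.X₁ := by
  have h₁ : (pMap I J 0 S.X₃).comp ((localCohomology (I ⊔ J) 0).map S.g).hom =
      (LinearMap.prodMap ((localCohomology I 0).map S.g).hom
        ((localCohomology J 0).map S.g).hom).comp (pMap I J 0 S.X₂) := by
    apply LinearMap.ext
    intro w
    exact pMap_naturality I J 0 S.g w
  have h₂ : (dMap I J 0 S.X₃).comp (LinearMap.prodMap ((localCohomology I 0).map S.g).hom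
      ((localCohomology J 0).map S.g).hom) =
      ((localCohomology (I ⊓ J) 0).map S.g).hom.comp (dMap I J 0 S.X₂) := by
    apply LinearMap.ext
    intro z
    exact dMap_naturality I J 0 S.g z
  have hF : (dMap I J 0 S.X₂).comp (LinearMap.prodMap ((localCohomology I 0).map S.f).hom
      ((localCohomology J 0).map S.f).hom) =
      ((localCohomology (I ⊓ J) 0).map S.f).hom.comp (dMap I J 0 S.X₁) := by
    apply LinearMap.ext
    intro z
    exact dMap_naturality I J 0 S.f z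
  have hG : (pMap I J 1 S.X₁).comp (Hδ (I ⊔ J) 0 S hS).hom =
      (LinearMap.prodMap (Hδ I 0 S hS).hom (Hδ J 0 S hS).hom).comp (pMap I J 0 S.X₃) := by
    apply LinearMap.ext
    intro w
    exact pMap_Hδ I J 0 S hS w
  refine ⟨SnakeLemma.δ' ((localCohomology (I ⊔ J) 0).map S.g).hom
    (LinearMap.prodMap ((localCohomology I 0).map S.g).hom ((localCohomology J 0).map S.g).hom)
    ((localCohomology (I ⊓ J) 0).map S.g).hom (pMap I J 0 S.X₂) (dMap I J 0 S.X₂)
    (PA_zero I J S.X₂) (pMap I J 0 S.X₃) (dMap I J 0 S.X₃) (PA_zero I J S.X₃) h₁ h₂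
    ((localCohomology (I ⊓ J) 0).map S.f).hom (exact_map_f_map_g S hS (I ⊓ J) 0)
    (Hδ (I ⊔ J) 0 S hS).hom (exact_map_g_Hδ S hS (I ⊔ J) 0)
    (dMap_zero_surjective I J S.X₂) (pMap_zero_injective I J S.X₃), ?_, ?_⟩
  · exact SnakeLemma.exact_δ'_right _ _ _ _ _ _ _ _ _ _ _
      (LinearMap.prodMap ((localCohomology I 0).map S.f).hom ((localCohomology J 0).map S.f).hom)
      (exact_prodMap _ _ _ _ (exact_map_f_map_g S hS I 0) (exact_map_f_map_g S hS J 0))
      _ _ _ _ _ _ (dMap I J 0 S.X₁) hF (map_f_zero_injective S hS (I ⊓ J))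
  · exact SnakeLemma.exact_δ'_left _ _ _ _ _ _ _ _ _ _ _ _ _ _ _
      (LinearMap.prodMap (Hδ I 0 S hS).hom (Hδ J 0 S hS).hom)
      (exact_prodMap _ _ _ _ (exact_map_g_Hδ S hS I 0) (exact_map_g_Hδ S hS J 0))
      _ _ (pMap I J 1 S.X₁) hG (Hδ_surjective S hS (I ⊔ J) 0)

end Induction

section Final

/-- The short exact sequence `0 → X → E(X) → E(X)/X → 0` with `E(X)` injective. -/
noncomputable abbrev injSES (X : ModuleCat.{u} R) : ShortComplex (ModuleCat.{u} R) :=
  ShortComplex.mk (Injective.ι X) (cokernel.π (Injective.ι X)) (cokernel.condition _)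

theorem injSES_shortExact (X : ModuleCat.{u} R) : (injSES X).ShortExact where
  exact := ShortComplex.exact_cokernel (Injective.ι X)
  mono_f := inferInstanceAs (Mono (Injective.ι X))
  epi_g := inferInstanceAs (Epi (cokernel.π (Injective.ι X)))

instance (X : ModuleCat.{u} R) : Injective (injSES X).X₂ :=
  inferInstanceAs (Injective (Injective.under X))

variable (I J : Ideal R)

theorem PA_PB_all [IsNoetherianRing R] (i : ℕ) :
    ∀ X : ModuleCat.{u} R, PA I J i X ∧ PB I J i X := by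
  induction i with
  | zero =>
    intro X
    exact ⟨PA_zero I J X, PB_zero I J (injSES X) (injSES_shortExact X)⟩
  | succ i ih =>
    intro X
    exact ⟨PA_step I J (injSES X) (injSES_shortExact X) i (ih _).1,
      PB_step I J (injSES X) (injSES_shortExact X) i (ih _).2⟩

/-- The Mayer–Vietoris sequence for local cohomology. -/
theorem mayer_vietoris [IsNoetherianRing R] (X : ModuleCat.{u} R) :
    ∃ δ : ∀ i : ℕ, (localCohomology (I ⊓ J) i).obj X →ₗ[R] (localCohomology (I ⊔ J) (i + 1)).obj X,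
      Function.Injective (pMap I J 0 X) ∧
      (∀ i : ℕ, LinearMap.ker (pMap I J (i + 1) X) = LinearMap.range (δ i)) ∧
      (∀ i : ℕ, LinearMap.ker (dMap I J i X) = LinearMap.range (pMap I J i X)) ∧
      (∀ i : ℕ, LinearMap.ker (δ i) = LinearMap.range (dMap I J i X)) := by
  have h := fun i => (PA_PB_all I J i X).2
  choose δ hδ1 hδ2 using h
  refine ⟨δ, pMap_zero_injective I J X, fun i => ?_, fun i => ?_, fun i => ?_⟩
  · exact LinearMap.exact_iff.mp (hδ2 i)
  · exact LinearMap.exact_iff.mp (PA_PB_all I J i X).1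
  · exact LinearMap.exact_iff.mp (hδ1 i)

end Final

end Groth.Agent.Lib.Helper8.MV
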