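import Groth.Agent.Lib.Helper8DF
import Groth.Agent.Lib.Helper8Acyc
import Groth.Agent.Lib.Helper8LC3
import Groth.Agent.S11613
import Groth.Agent.S11614
import Groth.Agent.S11655

set_option autoImplicit false
universe u
open CategoryTheory CategoryTheory.Limits Opposite

/-! The long exact sequence `H^i_{a+Rb}(M) → H^i_a(M) → H^i_a(M_b) → H^{i+1}_{a+Rb}(M)`. -/

namespace Groth.Agent.Lib.Helper8.LocLES

open Groth.Agent.Lib.Helper8.ExtLES Groth.Agent.Lib.Helper8.LC Groth.Agent.Lib.Helper8.MV
  Groth.Agent.Lib.Helper8.DF Groth.Agent.Lib.Helper8.Acyc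

variable {R : Type u} [CommRing R]

/-- The delta-family `H^i_I`. -/
noncomputable def HFam (I : Ideal R) : DFam R where
  T i X := (localCohomology I i).obj X
  map i _ _ g := (localCohomology I i).map g
  δ i S hS := Hδ I i S hS
  exact_fg i S hS := exact_map_f_map_g S hS I i
  exact_gδ i S hS := exact_map_g_Hδ S hS I i
  exact_δf i S hS := by
    intro x
    constructor
    · exact H_exact₁ I i S hS x
    · rintro ⟨z, rfl⟩
      exact H_map_f_Hδ I i S hS z
  inj_zero S hS := map_f_zero_injective S hS I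
  vanish i X _ x := H_succ_eq_zero_of_injective I X i x

variable (b : R)

/-- `X_b` as an `R`-module. -/
noncomputable abbrev Lb (X : ModuleCat.{u} R) : ModuleCat.{u} R :=
  ModuleCat.of R (LocalizedModule (Submonoid.powers b) X)

/-- The localization map `X → X_b`. -/
noncomputable abbrev mkb (X : ModuleCat.{u} R) : X ⟶ Lb b X :=
  ModuleCat.ofHom (LocalizedModule.mkLinearMap (Submonoid.powers b) X)

/-- The induced map `X_b → Y_b`. -/
noncomputable abbrev Lbmap {X Y : ModuleCat.{u} R} (g : X ⟶ Y) : Lb b X ⟶ Lb b Y :=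
  ModuleCat.ofHom (IsLocalizedModule.map (Submonoid.powers b)
    (LocalizedModule.mkLinearMap (Submonoid.powers b) X)
    (LocalizedModule.mkLinearMap (Submonoid.powers b) Y) g.hom)

theorem mkb_Lbmap {X Y : ModuleCat.{u} R} (g : X ⟶ Y) : mkb b X ≫ Lbmap b g = g ≫ mkb b Y := by
  apply ModuleCat.hom_ext
  apply LinearMap.ext
  intro x
  exact IsLocalizedModule.map_apply (Submonoid.powers b)
    (LocalizedModule.mkLinearMap (Submonoid.powers b) X)
    (LocalizedModule.mkLinearMap (Submonoid.powers b) Y) g.hom x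

/-- The localized short complex. -/
noncomputable abbrev LbSC (S : ShortComplex (ModuleCat.{u} R)) : ShortComplex (ModuleCat.{u} R) :=
  ShortComplex.mk (Lbmap b S.f) (Lbmap b S.g) (by
    apply ModuleCat.hom_ext
    apply LinearMap.ext
    intro x
    induction x using LocalizedModule.induction_on with
    | h m s =>
      change (IsLocalizedModule.map (Submonoid.powers b) _ _ S.g.hom)
        ((IsLocalizedModule.map (Submonoid.powers b) _ _ S.f.hom) (LocalizedModule.mk m s)) = 0
      rw [IsLocalizedModule.map_LocalizedModules, IsLocalizedModule.map_LocalizedModules]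
      have h0 : S.g.hom (S.f.hom m) = 0 := congrArg (fun φ => φ.hom m) S.zero
      rw [h0, LocalizedModule.zero_mk])

theorem LbSC_shortExact (S : ShortComplex (ModuleCat.{u} R)) (hS : S.ShortExact) :
    (LbSC b S).ShortExact := by
  have hex : Function.Exact S.f.hom S.g.hom :=
    (ShortComplex.ShortExact.moduleCat_exact_iff_function_exact S).mp hS.exact
  have hinj : Function.Injective S.f.hom := (ModuleCat.mono_iff_injective S.f).mp hS.mono_f
  have hsurj : Function.Surjective S.g.hom := (ModuleCat.epi_iff_surjective S.g).mp hS.epi_g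
  refine ShortComplex.ShortExact.mk' ?_ ?_ ?_
  · rw [ShortComplex.ShortExact.moduleCat_exact_iff_function_exact]
    exact IsLocalizedModule.map_exact (Submonoid.powers b) _ _ _ S.f.hom S.g.hom hex
  · exact (ModuleCat.mono_iff_injective _).mpr
      (IsLocalizedModule.map_injective (Submonoid.powers b) _ _ S.f.hom hinj)
  · exact (ModuleCat.epi_iff_surjective _).mpr
      (IsLocalizedModule.map_surjective (Submonoid.powers b) _ _ S.g.hom hsurj)

/-- The morphism of short complexes `S ⟶ S_b`. -/
noncomputable def toLbSC (S : ShortComplex (ModuleCat.{u} R)) : S ⟶ LbSC b S where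
  τ₁ := mkb b S.X₁
  τ₂ := mkb b S.X₂
  τ₃ := mkb b S.X₃
  comm₁₂ := mkb_Lbmap b S.f
  comm₂₃ := mkb_Lbmap b S.g

/-- `H^{i+1}_a(E_b) = 0` for an injective module `E` over a Noetherian ring. -/
theorem H_succ_loc_eq_zero [IsNoetherianRing R] (a : Ideal R) (E : ModuleCat.{u} R) [Injective E]
    (i : ℕ) (x : (localCohomology a (i + 1)).obj (Lb b E)) : x = 0 := by
  have hinj : Module.Injective R E := Module.injective_module_of_injective_object R E
  have h1 := Groth.Agent.S11613.result R (Localization (Submonoid.powers b)) a E (i + 1)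
    (Nat.succ_pos i)
  obtain ⟨φ, -⟩ := Groth.Agent.S11614.result R (Localization (Submonoid.powers b)) a
    (TensorProduct R (Localization (Submonoid.powers b)) E) (i + 1)
  have h2 : Subsingleton (LocCoh.H a (i + 1)
      (TensorProduct R (Localization (Submonoid.powers b)) E)) := φ.symm.toEquiv.subsingleton
  let e : TensorProduct R (Localization (Submonoid.powers b)) E ≃ₗ[R]
      LocalizedModule (Submonoid.powers b) E :=
    (LocalizedModule.equivTensorProduct (Submonoid.powers b) E).symm.restrictScalars R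
  have e2 := ((localCohomology a (i + 1)).mapIso e.toModuleIso).toLinearEquiv
  have h3 : Subsingleton ((localCohomology a (i + 1)).obj (Lb b E)) :=
    e2.symm.toEquiv.subsingleton
  exact Subsingleton.elim _ _

/-- The delta-family `X ↦ H^i_a(X_b)`. -/
noncomputable def HLocFam [IsNoetherianRing R] (a : Ideal R) : DFam R where
  T i X := (localCohomology a i).obj (Lb b X)
  map i _ _ g := (localCohomology a i).map (Lbmap b g)
  δ i S hS := Hδ a i (LbSC b S) (LbSC_shortExact b S hS)
  exact_fg i S hS := exact_map_f_map_g (LbSC b S) (LbSC_shortExact b S hS) a i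
  exact_gδ i S hS := exact_map_g_Hδ (LbSC b S) (LbSC_shortExact b S hS) a i
  exact_δf i S hS := by
    intro x
    constructor
    · exact H_exact₁ a i (LbSC b S) (LbSC_shortExact b S hS) x
    · rintro ⟨z, rfl⟩
      exact H_map_f_Hδ a i (LbSC b S) (LbSC_shortExact b S hS) z
  inj_zero S hS := map_f_zero_injective (LbSC b S) (LbSC_shortExact b S hS) a
  vanish i X _ x := H_succ_loc_eq_zero b a X i x

/-- The comparison `H^i_{a+Rb} → H^i_a`. -/
noncomputable def pHom (a : Ideal R) : DHom (HFam (a ⊔ Ideal.span {b})) (HFam a) where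
  app i X := (Dual2.HmapOfLE (le_sup_left : a ≤ a ⊔ Ideal.span {b}) i).app X
  nat i _ _ g x := HmapOfLE_naturality _ i g x
  comm i S hS z := (Hδ_HmapOfLE _ i S hS z).symm

/-- The map `H^i_a(X) → H^i_a(X_b)`. -/
noncomputable def dHom [IsNoetherianRing R] (a : Ideal R) : DHom (HFam a) (HLocFam b a) where
  app i X := (localCohomology a i).map (mkb b X)
  nat i X Y g x := by
    change (localCohomology a i).map (mkb b Y) ((localCohomology a i).map g x) =
      (localCohomology a i).map (Lbmap b g) ((localCohomology a i).map (mkb b X) x)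
    rw [← ModuleCat.comp_apply, ← ModuleCat.comp_apply, ← Functor.map_comp, ← Functor.map_comp,
      mkb_Lbmap]
  comm i S hS z := by
    exact Hδ_naturality a i hS (LbSC_shortExact b S hS) (toLbSC b S) z

section LevelZero

theorem mem_torsionSub_span_singleton_iff (X : Type u) [AddCommGroup X] [Module R X] (m : X) :
    m ∈ DRing.torsionSub (Ideal.span {b}) X ↔ ∃ n : ℕ, b ^ n • m = 0 := by
  constructor
  · rintro ⟨n, hn⟩
    exact ⟨n, hn _ (Ideal.pow_mem_pow (Ideal.mem_span_singleton_self b) n)⟩
  · rintro ⟨n, hn⟩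
    refine ⟨n, fun c hc => ?_⟩
    rw [Ideal.span_singleton_pow, Ideal.mem_span_singleton'] at hc
    obtain ⟨r, rfl⟩ := hc
    rw [mul_smul, hn, smul_zero]

theorem mk_eq_zero_iff (X : Type u) [AddCommGroup X] [Module R X] (m : X) :
    LocalizedModule.mkLinearMap (Submonoid.powers b) X m = 0 ↔ ∃ n : ℕ, b ^ n • m = 0 := by
  rw [IsLocalizedModule.eq_zero_iff (Submonoid.powers b)]
  constructor
  · rintro ⟨⟨_, n, rfl⟩, h⟩
    exact ⟨n, h⟩
  · rintro ⟨n, h⟩
    exact ⟨⟨b ^ n, n, rfl⟩, h⟩

theorem p_zero_injective (a : Ideal R) (X : ModuleCat.{u} R) :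
    Function.Injective ((pHom b a).app 0 X).hom := by
  intro w w' h
  apply Φ_injective (a ⊔ Ideal.span {b}) X
  have h2 := congrArg (Φ a X) h
  change Φ a X (((Dual2.HmapOfLE _ 0).app X).hom w) =
    Φ a X (((Dual2.HmapOfLE _ 0).app X).hom w') at h2
  rw [Φ_HmapOfLE, Φ_HmapOfLE] at h2
  exact h2

theorem exact_zero [IsNoetherianRing R] (a : Ideal R) (X : ModuleCat.{u} R) :
    Function.Exact ((pHom b a).app 0 X).hom ((dHom b a).app 0 X).hom := by
  intro x
  constructor
  · intro hx
    have h1 : Φ a (Lb b X) ((localCohomology a 0).map (mkb b X) x) = 0 := by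
      rw [show (localCohomology a 0).map (mkb b X) x = 0 from hx, map_zero]
    rw [Φ_naturality] at h1
    obtain ⟨n, hn⟩ := (mk_eq_zero_iff b X _).mp h1
    have hm : (Φ a X x : X) ∈ DRing.torsionSub (a ⊔ Ideal.span {b}) X :=
      mem_torsionSub_sup X _ (Φ_mem_torsionSub a X x)
        ((mem_torsionSub_span_singleton_iff b X _).mpr ⟨n, hn⟩)
    obtain ⟨w, hw⟩ := exists_Φ_eq (a ⊔ Ideal.span {b}) X _ hm
    refine ⟨w, ?_⟩
    apply Φ_injective a X
    change Φ a X (((Dual2.HmapOfLE _ 0).app X).hom w) = _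
    rw [Φ_HmapOfLE, hw]
  · rintro ⟨w, rfl⟩
    apply Φ_injective a (Lb b X)
    change Φ a (Lb b X) ((localCohomology a 0).map (mkb b X)
      (((Dual2.HmapOfLE _ 0).app X).hom w)) = Φ a (Lb b X) 0
    rw [Φ_naturality, Φ_HmapOfLE, map_zero]
    have h1 := Φ_mem_torsionSub (a ⊔ Ideal.span {b}) X w
    have h2 := torsionSub_mono (le_sup_right : Ideal.span {b} ≤ a ⊔ Ideal.span {b}) X h1
    obtain ⟨n, hn⟩ := (mem_torsionSub_span_singleton_iff b X _).mp h2
    exact (mk_eq_zero_iff b X _).mpr ⟨n, hn⟩

/-- For an injective module `E` over a Noetherian ring, `Γ_a(E) → Γ_a(E_b)` is onto. -/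
theorem exists_mk_eq_of_mem_torsionSub [IsNoetherianRing R] (a : Ideal R) (E : Type u)
    [AddCommGroup E] [Module R E] [Injective (ModuleCat.of R E)]
    (y : LocalizedModule (Submonoid.powers b) E)
    (hy : y ∈ DRing.torsionSub a (LocalizedModule (Submonoid.powers b) E)) :
    ∃ e : E, e ∈ DRing.torsionSub a E ∧
      LocalizedModule.mkLinearMap (Submonoid.powers b) E e = y := by
  have hEinj : Module.Injective R E :=
    Module.injective_module_of_injective_object R (ModuleCat.of R E)
  obtain ⟨n, hn⟩ := hy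
  obtain ⟨e₀, rfl⟩ := mk_surjective_of_injective b E y
  have hfg : (Submodule.map (LinearMap.toSpanSingleton R E e₀) (a ^ n)).FG :=
    Submodule.FG.map _ (IsNoetherian.noetherian _)
  obtain ⟨s, ⟨k, rfl⟩, hs⟩ := Groth.Agent.S11655.exists_smul_eq_zero_of_fg (Submonoid.powers b)
    (Submodule.map (LinearMap.toSpanSingleton R E e₀) (a ^ n)) hfg (by
      rintro x ⟨c, hc, rfl⟩
      have h1 := hn c hc
      rw [← map_smul] at h1
      obtain ⟨k, hk⟩ := (mk_eq_zero_iff b E _).mp h1
      exact ⟨b ^ k, ⟨k, rfl⟩, hk⟩)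
  have he₁ : b ^ k • e₀ ∈ DRing.torsionSub a E := by
    refine ⟨n, fun c hc => ?_⟩
    rw [smul_comm]
    exact hs _ ⟨c, hc, rfl⟩
  have hTinj : Module.Injective R (DRing.torsionSub a E) := injective_torsionSub a E
  have hTobj : Injective (ModuleCat.of R (DRing.torsionSub a E)) :=
    Module.injective_object_of_injective_module R (DRing.torsionSub a E)
  obtain ⟨e, he⟩ := mk_surjective_of_injective b (DRing.torsionSub a E)
    (LocalizedModule.mk ⟨b ^ k • e₀, he₁⟩ ⟨b ^ k, k, rfl⟩)
  refine ⟨e.1, e.2, ?_⟩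
  have h1 := congrArg (LocalizedModule.map (Submonoid.powers b) (DRing.torsionSub a E).subtype) he
  rw [LocalizedModule.mkLinearMap_apply, LocalizedModule.map_mk, LocalizedModule.map_mk] at h1
  rw [LocalizedModule.mkLinearMap_apply, LocalizedModule.mkLinearMap_apply]
  refine h1.trans ?_
  rw [LocalizedModule.mk_eq]
  refine ⟨1, ?_⟩
  simp only [Submodule.subtype_apply, one_smul, Submonoid.smul_def]

theorem d_zero_surjective [IsNoetherianRing R] (a : Ideal R) (E : ModuleCat.{u} R) [Injective E] :
    Function.Surjective ((dHom b a).app 0 E).hom := by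
  intro y
  have hy := Φ_mem_torsionSub a (Lb b E) y
  have hE' : Injective (ModuleCat.of R ↑E) := inferInstanceAs (Injective E)
  obtain ⟨e, he, hey⟩ := exists_mk_eq_of_mem_torsionSub b a E _ hy
  obtain ⟨x, hx⟩ := exists_Φ_eq a E e he
  refine ⟨x, ?_⟩
  apply Φ_injective a (Lb b E)
  change Φ a (Lb b E) ((localCohomology a 0).map (mkb b E) x) = _
  rw [Φ_naturality, hx]
  exact hey

end LevelZero

/-- The long exact sequence. -/
theorem les [IsNoetherianRing R] (a : Ideal R) (i : ℕ) (X : ModuleCat.{u} R) :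
    PA (pHom b a) (dHom b a) i X ∧ PB (pHom b a) (dHom b a) i X :=
  PA_PB_all (pHom b a) (dHom b a) (p_zero_injective b a) (exact_zero b a)
    (fun E _ => d_zero_surjective b a E) i X

end Groth.Agent.Lib.Helper8.LocLES
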