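import Mathlib
import Groth.Agent.Lib.Helper8LocLES
import Groth.Agent.Lib.Helper8LCAdd
import Groth.Agent.Lib.Helper9DeltaDerived
import Groth.Prelude.Def_RDer

/-!
# Local cohomology `localCohomology I i` as an effaceable δ-functor (helper9)

Naturality of helper8's connecting map `Hδ` in the short exact sequence, the `EffDelta` structure,
and the isomorphisms `(Γ_I).rightDerived i ≅ localCohomology I i`.
-/

set_option autoImplicit false
universe u
open CategoryTheory CategoryTheory.Limits Opposite

namespace Groth.Agent.Lib.Helper9.LCDelta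

open Groth.Agent.Lib.Helper8.ExtLES Groth.Agent.Lib.Helper8.LC

variable {R : Type u} [CommRing R]

section SNat

variable {S S' : ShortComplex (ModuleCat.{u} R)} (φ : S ⟶ S') (hS : S.ShortExact)
  (hS' : S'.ShortExact)

/-- the morphism of short complexes of complexes induced by a morphism of short complexes. -/
noncomputable def cxSCMapS (K : ChainComplex (ModuleCat.{u} R) ℕ) : cxSC S' K ⟶ cxSC S K where
  τ₁ := (NatTrans.mapHomologicalComplex (αg φ.τ₃) _).app K
  τ₂ := (NatTrans.mapHomologicalComplex (αg φ.τ₂) _).app K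
  τ₃ := (NatTrans.mapHomologicalComplex (αg φ.τ₁) _).app K
  comm₁₂ := by
    change (NatTrans.mapHomologicalComplex (αg φ.τ₃) _).app K ≫
        (NatTrans.mapHomologicalComplex (αg S.g) _).app K =
      (NatTrans.mapHomologicalComplex (αg S'.g) _).app K ≫
        (NatTrans.mapHomologicalComplex (αg φ.τ₂) _).app K
    rw [← NatTrans.comp_app, ← NatTrans.comp_app, ← NatTrans.mapHomologicalComplex_comp,
      ← NatTrans.mapHomologicalComplex_comp, ← αg_comp, ← αg_comp, φ.comm₂₃]
  comm₂₃ := by
    change (NatTrans.mapHomologicalComplex (αg φ.τ₂) _).app K ≫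
        (NatTrans.mapHomologicalComplex (αg S.f) _).app K =
      (NatTrans.mapHomologicalComplex (αg S'.f) _).app K ≫
        (NatTrans.mapHomologicalComplex (αg φ.τ₁) _).app K
    rw [← NatTrans.comp_app, ← NatTrans.comp_app, ← NatTrans.mapHomologicalComplex_comp,
      ← NatTrans.mapHomologicalComplex_comp, ← αg_comp, ← αg_comp, φ.comm₁₂]

theorem δOp_naturalityS {X : ModuleCat.{u} R} (P : ProjectiveResolution X) (n : ℕ) :
    δOp S' hS' P n ≫ (NatTrans.leftDerived (αg φ.τ₃) n).app X =
      (NatTrans.leftDerived (αg φ.τ₁) (n + 1)).app X ≫ δOp S hS P n := by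
  have h1 := P.leftDerived_app_eq (αg φ.τ₃) n
  have h2 := P.leftDerived_app_eq (αg φ.τ₁) (n + 1)
  have h3 := HomologicalComplex.HomologySequence.δ_naturality (cxSCMapS φ P.complex)
    (cxSC_shortExact S' hS' P.complex) (cxSC_shortExact S hS P.complex) (n + 1) n (relSucc n)
  refine conj_nat (P.isoLeftDerivedObj (FY S'.X₁) (n + 1)) (P.isoLeftDerivedObj (FY S.X₁) (n + 1))
    (P.isoLeftDerivedObj (FY S'.X₃) n) (P.isoLeftDerivedObj (FY S.X₃) n) _ _ _ _ _ _ ?_ ?_ h3
  · rw [h2, Category.assoc, Category.assoc, Iso.inv_hom_id, Category.comp_id]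
    rfl
  · rw [h1, Iso.inv_hom_id_assoc]
    rfl

theorem extδP_naturalityS {X : ModuleCat.{u} R} (P : ProjectiveResolution X) (n : ℕ) :
    extδP S hS P n ≫ Emap (n + 1) X φ.τ₁ = Emap n X φ.τ₃ ≫ extδP S' hS' P n := by
  have h := δOp_naturalityS φ hS hS' P n
  apply Quiver.Hom.op_inj
  exact h.symm

theorem extδ_naturalityS (X : ModuleCat.{u} R) (n : ℕ) (z : E n X S.X₃) :
    Emap (n + 1) X φ.τ₁ (extδ S hS X n z) = extδ S' hS' X n (Emap n X φ.τ₃ z) := by
  have h := extδP_naturalityS φ hS hS' (ProjectiveResolution.of X) n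
  exact congrArg (fun ψ => ψ.hom z) h

variable (I : Ideal R) (i : ℕ)

theorem Hδ_naturalityS (z : (localCohomology I i).obj S.X₃) :
    (localCohomology I (i + 1)).map φ.τ₁ (Hδ I i S hS z) =
      Hδ I i S' hS' ((localCohomology I i).map φ.τ₃ z) := by
  obtain ⟨k, z', rfl⟩ := exists_rep I i S.X₃ z
  rw [Hδ_cls, map_cls, map_cls, Hδ_cls, extδ_naturalityS φ hS hS']

end SNat


section Delta

open Groth.Agent.Lib.Helper9.DeltaDerived Groth.Agent.Lib.Helper8.MV

variable (I : Ideal R)

/-- local cohomology as an effaceable δ-functor. -/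
noncomputable def effDelta : EffDelta (fun i => localCohomology I i) where
  δ S hS n := Hδ I n S hS
  δ_nat {S S'} hS hS' φ n := by
    apply ModuleCat.hom_ext
    apply LinearMap.ext
    intro z
    exact (Hδ_naturalityS φ hS hS' I n z).symm
  comp_δ S hS n := by
    apply ModuleCat.hom_ext
    apply LinearMap.ext
    intro y
    exact Hδ_map_g I n S hS y
  exact₃ S hS n := by
    rw [ShortComplex.moduleCat_exact_iff]
    intro z hz
    exact H_exact₃ I n S hS z hz
  δ_comp S hS n := by
    apply ModuleCat.hom_ext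
    apply LinearMap.ext
    intro z
    exact H_map_f_Hδ I n S hS z
  exact₁ S hS n := by
    rw [ShortComplex.moduleCat_exact_iff]
    intro x hx
    exact H_exact₁ I n S hS x hx
  isZero J _ n := by
    haveI : Subsingleton ((localCohomology I (n + 1)).obj J) :=
      ⟨fun x y => (H_succ_eq_zero_of_injective I J n x).trans
        (H_succ_eq_zero_of_injective I J n y).symm⟩
    exact ModuleCat.isZero_of_subsingleton _

instance additive_lc (i : ℕ) : (localCohomology I i).Additive where
  map_add {M N} g g' := by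
    apply ModuleCat.hom_ext
    apply LinearMap.ext
    intro x
    exact H_map_add I i g g' x

instance preservesFiniteLimits_lc_zero : PreservesFiniteLimits (localCohomology I 0) := by
  rw [Functor.preservesFiniteLimits_iff_forall_exact_map_and_mono]
  intro S hS
  constructor
  · rw [ShortComplex.moduleCat_exact_iff]
    intro y hy
    exact H_exact₂ I 0 S hS y hy
  · rw [ModuleCat.mono_iff_injective]
    exact map_f_zero_injective S hS I

/-- `H^0_I ≅ Γ_I`. -/
noncomputable def zeroIso : localCohomology I 0 ≅ DRing.gammaI I :=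
  NatIso.ofComponents (fun M => (LinearEquiv.ofBijective
      (LinearMap.codRestrict (DRing.torsionSub I M) (Φ I M).hom (Φ_mem_torsionSub I M))
      ⟨fun x y h => Φ_injective I M (congrArg Subtype.val h),
        fun ⟨m, hm⟩ => by
          obtain ⟨x, hx⟩ := exists_Φ_eq I M m hm
          exact ⟨x, Subtype.ext hx⟩⟩).toModuleIso)
    (fun {M N} g => by
      apply ModuleCat.hom_ext
      apply LinearMap.ext
      intro x
      apply Subtype.ext
      exact Φ_naturality I g x)

theorem nonempty_iso (i : ℕ) : Nonempty ((DRing.gammaI I).rightDerived i ≅ localCohomology I i) := by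
  obtain ⟨e⟩ := iso_rightDerived (effDelta I) i
  exact ⟨(RDer.rightDerivedIso (zeroIso I) i).symm ≪≫ e.symm⟩

end Delta

end Groth.Agent.Lib.Helper9.LCDelta
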