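import Mathlib
import Groth.Prelude.Def_DerCA
import Groth.Agent.Lib.Helper1ExtCech
import Groth.Agent.Lib.Helper1ExtCech2
import Groth.Agent.Lib.Helper1ExtCech3
import Groth.Agent.Lib.Helper9DeltaDerived
import Groth.Agent.Lib.Helper9LCDelta

/-! Functoriality in the module of the extended Cech complex, exactness, δ-functor structure
(helper1). -/

set_option autoImplicit false
set_option maxHeartbeats 400000
set_option backward.isDefEq.respectTransparency.types false
universe u
open CategoryTheory CategoryTheory.Limits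

namespace Groth.Agent.Lib.Helper1.ExtCech4

open DerCA CochainComplex HomologicalComplex HomComplex

variable {R : Type u} [CommRing R]

section Coc

variable {K₁ L₁ K₂ L₂ K₃ L₃ : DRing.Cx R} (φ₁ : K₁ ⟶ L₁) (φ₂ : K₂ ⟶ L₂) (φ₃ : K₃ ⟶ L₃)
  (a : K₁ ⟶ K₂) (b : L₁ ⟶ L₂) (comm : φ₁ ≫ b = a ≫ φ₂)

/-- functoriality of the mapping cocone -/
noncomputable def cocMap : mappingCocone φ₁ ⟶ mappingCocone φ₂ :=
  (CategoryTheory.shiftFunctor (DRing.Cx R) (-1 : ℤ)).map (mappingCone.map φ₁ φ₂ a b comm)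

lemma cocMap_id (φ : K₁ ⟶ L₁) :
    cocMap φ φ (𝟙 _) (𝟙 _) (by rw [Category.id_comp, Category.comp_id]) = 𝟙 _ := by
  show (CategoryTheory.shiftFunctor (DRing.Cx R) (-1 : ℤ)).map (mappingCone.map φ φ (𝟙 _) (𝟙 _) _) =
    𝟙 ((CategoryTheory.shiftFunctor (DRing.Cx R) (-1 : ℤ)).obj (mappingCone φ))
  rw [mappingCone.map_id, CategoryTheory.Functor.map_id]

lemma cocMap_comp (a' : K₂ ⟶ K₃) (b' : L₂ ⟶ L₃) (comm' : φ₂ ≫ b' = a' ≫ φ₃) :
    cocMap φ₁ φ₃ (a ≫ a') (b ≫ b') (by rw [reassoc_of% comm, comm', Category.assoc]) =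
      cocMap φ₁ φ₂ a b comm ≫ cocMap φ₂ φ₃ a' b' comm' := by
  show (CategoryTheory.shiftFunctor (DRing.Cx R) (-1 : ℤ)).map (mappingCone.map φ₁ φ₃ _ _ _) =
    (CategoryTheory.shiftFunctor (DRing.Cx R) (-1 : ℤ)).map (mappingCone.map φ₁ φ₂ a b comm) ≫
      (CategoryTheory.shiftFunctor (DRing.Cx R) (-1 : ℤ)).map (mappingCone.map φ₂ φ₃ a' b' comm')
  rw [mappingCone.map_comp φ₁ φ₂ φ₃ a b comm a' b' comm', CategoryTheory.Functor.map_comp]

lemma map_add' (a' : K₁ ⟶ K₂) (b' : L₁ ⟶ L₂) (comm' : φ₁ ≫ b' = a' ≫ φ₂) :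
    mappingCone.map φ₁ φ₂ (a + a') (b + b')
      (by rw [Preadditive.comp_add, Preadditive.add_comp, comm, comm']) =
      mappingCone.map φ₁ φ₂ a b comm + mappingCone.map φ₁ φ₂ a' b' comm' := by
  refine HomologicalComplex.hom_ext _ _ (fun n => ?_)
  simp [mappingCone.ext_from_iff _ (n + 1) n rfl, mappingCone.map]

lemma cocMap_add (a' : K₁ ⟶ K₂) (b' : L₁ ⟶ L₂) (comm' : φ₁ ≫ b' = a' ≫ φ₂) :
    cocMap φ₁ φ₂ (a + a') (b + b')
      (by rw [Preadditive.comp_add, Preadditive.add_comp, comm, comm']) =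
      cocMap φ₁ φ₂ a b comm + cocMap φ₁ φ₂ a' b' comm' := by
  show (CategoryTheory.shiftFunctor (DRing.Cx R) (-1 : ℤ)).map (mappingCone.map φ₁ φ₂ _ _ _) =
    (CategoryTheory.shiftFunctor (DRing.Cx R) (-1 : ℤ)).map (mappingCone.map φ₁ φ₂ a b comm) +
      (CategoryTheory.shiftFunctor (DRing.Cx R) (-1 : ℤ)).map (mappingCone.map φ₁ φ₂ a' b' comm')
  rw [map_add' φ₁ φ₂ a b comm a' b' comm', CategoryTheory.Functor.map_add]

lemma map_f_fst_v (i j : ℤ) (hij : i + 1 = j) :
    (mappingCone.map φ₁ φ₂ a b comm).f i ≫ (mappingCone.fst φ₂).1.v i j hij =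
      (mappingCone.fst φ₁).1.v i j hij ≫ a.f j := by
  simp [mappingCone.ext_from_iff _ j i hij, mappingCone.map]

lemma map_f_snd_v (i : ℤ) :
    (mappingCone.map φ₁ φ₂ a b comm).f i ≫ (mappingCone.snd φ₂).v i i (add_zero i) =
      (mappingCone.snd φ₁).v i i (add_zero i) ≫ b.f i := by
  simp [mappingCone.ext_from_iff _ (i + 1) i rfl, mappingCone.map]

set_option backward.defeqAttrib.useBackward true in
set_option backward.isDefEq.respectTransparency false in
lemma cocMap_f_fst_f (p : ℤ) :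
    (cocMap φ₁ φ₂ a b comm).f p ≫ (mappingCocone.fst φ₂).f p =
      (mappingCocone.fst φ₁).f p ≫ a.f p := by
  have h := map_f_fst_v φ₁ φ₂ a b comm (p + -1) p (by lia)
  simp [cocMap, mappingCocone.fst,
    Cochain.leftShift_v (n := 1) _ _ _ _ _ p _ (p + -1) (by lia)]
  simpa using h

set_option backward.defeqAttrib.useBackward true in
set_option backward.isDefEq.respectTransparency false in
lemma cocMap_f_snd_v (p q : ℤ) (hpq : p + -1 = q) :
    (cocMap φ₁ φ₂ a b comm).f p ≫ (mappingCocone.snd φ₂).v p q hpq =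
      (mappingCocone.snd φ₁).v p q hpq ≫ b.f q := by
  obtain rfl : q = p + -1 := by lia
  have h := map_f_snd_v φ₁ φ₂ a b comm (p + -1)
  simp [cocMap, mappingCocone.snd,
    Cochain.leftShift_v _ _ _ _ _ _ hpq (p + -1) (add_zero _)]
  simpa using h

section Elem

variable {K L : DRing.Cx R} (φ : K ⟶ L) (p q : ℤ) (hpq : p + -1 = q)

lemma coc_decomp (x : (mappingCocone φ).X p) :
    x = ((mappingCocone.inl φ).v p p (add_zero p)).hom ((mappingCocone.fst φ).f p x) +
      ((mappingCocone.inr φ).1.v q p (by lia)).hom ((mappingCocone.snd φ).v p q hpq x) := by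
  have h := congrArg (fun t => t.hom x) (mappingCocone.id_X φ p q hpq)
  simpa using h.symm

lemma coc_ext (x y : (mappingCocone φ).X p)
    (h1 : (mappingCocone.fst φ).f p x = (mappingCocone.fst φ).f p y)
    (h2 : (mappingCocone.snd φ).v p q hpq x = (mappingCocone.snd φ).v p q hpq y) : x = y := by
  rw [coc_decomp φ p q hpq x, coc_decomp φ p q hpq y, h1, h2]

lemma coc_exists (u : K.X p) (v : L.X q) :
    ∃ z : (mappingCocone φ).X p, (mappingCocone.fst φ).f p z = u ∧
      (mappingCocone.snd φ).v p q hpq z = v := by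
  refine ⟨((mappingCocone.inl φ).v p p (add_zero p)).hom u +
    ((mappingCocone.inr φ).1.v q p (by lia)).hom v, ?_, ?_⟩
  · have h1 := congrArg (fun t => t.hom u) (mappingCocone.inl_v_fst_f φ p)
    have h2 := congrArg (fun t => t.hom v) (mappingCocone.inr_v_fst_f φ q p (by lia))
    rw [map_add]
    simp only [ModuleCat.hom_comp, LinearMap.comp_apply, ModuleCat.hom_id, LinearMap.id_apply,
      ModuleCat.hom_zero, LinearMap.zero_apply] at h1 h2
    rw [h1, h2, add_zero]
  · have h1 := congrArg (fun t => t.hom u) (mappingCocone.inl_v_snd_v φ p q hpq)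
    have h2 := congrArg (fun t => t.hom v) (mappingCocone.inr_v_snd_v φ q p (by lia))
    rw [map_add]
    simp only [ModuleCat.hom_comp, LinearMap.comp_apply, ModuleCat.hom_id, LinearMap.id_apply,
      ModuleCat.hom_zero, LinearMap.zero_apply] at h1 h2
    rw [h1, h2, zero_add]

end Elem

lemma cocMap_fst_apply (p : ℤ) (x : (mappingCocone φ₁).X p) :
    (mappingCocone.fst φ₂).f p ((cocMap φ₁ φ₂ a b comm).f p x) =
      a.f p ((mappingCocone.fst φ₁).f p x) :=
  congrArg (fun t => t.hom x) (cocMap_f_fst_f φ₁ φ₂ a b comm p)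

lemma cocMap_snd_apply (p q : ℤ) (hpq : p + -1 = q) (x : (mappingCocone φ₁).X p) :
    (mappingCocone.snd φ₂).v p q hpq ((cocMap φ₁ φ₂ a b comm).f p x) =
      b.f q ((mappingCocone.snd φ₁).v p q hpq x) :=
  congrArg (fun t => t.hom x) (cocMap_f_snd_v φ₁ φ₂ a b comm p q hpq)

/-- short exactness of a pair of composable maps of modules, elementwise -/
def SE {X Y Z : ModuleCat.{u} R} (f : X ⟶ Y) (g : Y ⟶ Z) : Prop :=
  Function.Injective f.hom ∧ Function.Exact f.hom g.hom ∧ Function.Surjective g.hom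

lemma coc_SE (a' : K₂ ⟶ K₃) (b' : L₂ ⟶ L₃) (comm' : φ₂ ≫ b' = a' ≫ φ₃) (p q : ℤ)
    (hpq : p + -1 = q) (hK : SE (a.f p) (a'.f p)) (hL : SE (b.f q) (b'.f q)) :
    SE ((cocMap φ₁ φ₂ a b comm).f p) ((cocMap φ₂ φ₃ a' b' comm').f p) := by
  obtain ⟨hK1, hK2, hK3⟩ := hK
  obtain ⟨hL1, hL2, hL3⟩ := hL
  refine ⟨?_, ?_, ?_⟩
  · intro x y hxy
    apply coc_ext φ₁ p q hpq
    · apply hK1
      rw [← cocMap_fst_apply φ₁ φ₂ a b comm, ← cocMap_fst_apply φ₁ φ₂ a b comm, hxy]
    · apply hL1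
      rw [← cocMap_snd_apply φ₁ φ₂ a b comm, ← cocMap_snd_apply φ₁ φ₂ a b comm, hxy]
  · intro y
    constructor
    · intro hy
      have h1 : a'.f p ((mappingCocone.fst φ₂).f p y) = 0 := by
        rw [← cocMap_fst_apply φ₂ φ₃ a' b' comm', hy, map_zero]
      have h2 : b'.f q ((mappingCocone.snd φ₂).v p q hpq y) = 0 := by
        rw [← cocMap_snd_apply φ₂ φ₃ a' b' comm', hy, map_zero]
      obtain ⟨u, hu⟩ := (hK2 _).1 h1
      obtain ⟨v, hv⟩ := (hL2 _).1 h2
      obtain ⟨x, hx1, hx2⟩ := coc_exists φ₁ p q hpq u v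
      refine ⟨x, coc_ext φ₂ p q hpq _ _ ?_ ?_⟩
      · rw [cocMap_fst_apply, hx1, hu]
      · rw [cocMap_snd_apply, hx2, hv]
    · rintro ⟨x, rfl⟩
      apply coc_ext φ₃ p q hpq
      · rw [cocMap_fst_apply, cocMap_fst_apply, map_zero]
        exact (hK2 _).2 ⟨_, rfl⟩
      · rw [cocMap_snd_apply, cocMap_snd_apply, map_zero]
        exact (hL2 _).2 ⟨_, rfl⟩
  · intro z
    obtain ⟨u, hu⟩ := hK3 ((mappingCocone.fst φ₃).f p z)
    obtain ⟨v, hv⟩ := hL3 ((mappingCocone.snd φ₃).v p q hpq z)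
    obtain ⟨y, hy1, hy2⟩ := coc_exists φ₂ p q hpq u v
    refine ⟨y, coc_ext φ₃ p q hpq _ _ ?_ ?_⟩
    · rw [cocMap_fst_apply, hy1, hu]
    · rw [cocMap_snd_apply, hy2, hv]

end Coc

section Functor

lemma cocMap_congr {K₁ L₁ K₂ L₂ : DRing.Cx R} (φ₁ : K₁ ⟶ L₁) (φ₂ : K₂ ⟶ L₂) {a a' : K₁ ⟶ K₂}
    {b b' : L₁ ⟶ L₂} (comm : φ₁ ≫ b = a ≫ φ₂) (ha : a = a') (hb : b = b') :
    cocMap φ₁ φ₂ a b comm = cocMap φ₁ φ₂ a' b' (by rw [← ha, ← hb]; exact comm) := by
  subst ha hb
  rfl

lemma locCxUnit_naturality (S : Submonoid R) {K L : DRing.Cx R} (g : K ⟶ L) :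
    locCxUnit S K ≫ (locCx S).map g = g ≫ locCxUnit S L := by
  apply HomologicalComplex.hom_ext
  intro i
  exact ((locUnit S).naturality (g.f i)).symm

/-- functoriality of the extended Cech complex in the module -/
noncomputable def ecMap {M N : ModuleCat.{u} R} (g : M ⟶ N) :
    ∀ fs : List R, extCech M fs ⟶ extCech N fs
  | [] => (HomologicalComplex.single (ModuleCat.{u} R) (ComplexShape.up ℤ) 0).map g
  | f :: fs => cocMap (locCxUnit (Submonoid.powers f) (extCech M fs))
      (locCxUnit (Submonoid.powers f) (extCech N fs)) (ecMap g fs)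
      ((locCx (Submonoid.powers f)).map (ecMap g fs)) (locCxUnit_naturality _ _)

lemma ecMap_cons {M N : ModuleCat.{u} R} (g : M ⟶ N) (f : R) (fs : List R) :
    ecMap g (f :: fs) = cocMap (locCxUnit (Submonoid.powers f) (extCech M fs))
      (locCxUnit (Submonoid.powers f) (extCech N fs)) (ecMap g fs)
      ((locCx (Submonoid.powers f)).map (ecMap g fs)) (locCxUnit_naturality _ _) := rfl

lemma ecMap_id (M : ModuleCat.{u} R) : ∀ fs : List R, ecMap (𝟙 M) fs = 𝟙 _
  | [] => CategoryTheory.Functor.map_id _ _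
  | f :: fs => by
    rw [ecMap_cons, cocMap_congr _ _ _ (ecMap_id M fs)
      (by rw [ecMap_id M fs, CategoryTheory.Functor.map_id])]
    exact cocMap_id _

lemma ecMap_comp {M N P : ModuleCat.{u} R} (g : M ⟶ N) (h : N ⟶ P) :
    ∀ fs : List R, ecMap (g ≫ h) fs = ecMap g fs ≫ ecMap h fs
  | [] => CategoryTheory.Functor.map_comp _ _ _
  | f :: fs => by
    rw [ecMap_cons, cocMap_congr _ _ _ (ecMap_comp g h fs)
      (by rw [ecMap_comp g h fs, CategoryTheory.Functor.map_comp])]
    exact cocMap_comp _ _ _ _ _ _ _ _ _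

lemma ecMap_add {M N : ModuleCat.{u} R} (g g' : M ⟶ N) :
    ∀ fs : List R, ecMap (g + g') fs = ecMap g fs + ecMap g' fs
  | [] => CategoryTheory.Functor.map_add _
  | f :: fs => by
    rw [ecMap_cons, cocMap_congr _ _ _ (ecMap_add g g' fs)
      (by rw [ecMap_add g g' fs, CategoryTheory.Functor.map_add])]
    exact cocMap_add _ _ _ _ _ _ _ _

/-- the extended Cech complex as a functor of the module -/
noncomputable def EC (fs : List R) : ModuleCat.{u} R ⥤ DRing.Cx R where
  obj M := extCech M fs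
  map g := ecMap g fs
  map_id M := ecMap_id M fs
  map_comp g h := ecMap_comp g h fs

instance (fs : List R) : (EC fs).Additive where
  map_add {M N g g'} := ecMap_add g g' fs

end Functor

section Exactness

lemma SE.comp_zero {X Y Z : ModuleCat.{u} R} {f : X ⟶ Y} {g : Y ⟶ Z} (h : SE f g) : f ≫ g = 0 := by
  ext x
  exact h.2.1.apply_apply_eq_zero x

lemma SE_iff {X Y Z : ModuleCat.{u} R} (f : X ⟶ Y) (g : Y ⟶ Z) (w : f ≫ g = 0) :
    SE f g ↔ (ShortComplex.mk f g w).ShortExact := by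
  constructor
  · rintro ⟨h1, h2, h3⟩
    exact
      { exact := (ShortComplex.ShortExact.moduleCat_exact_iff_function_exact _).2 h2
        mono_f := (ModuleCat.mono_iff_injective f).2 h1
        epi_g := (ModuleCat.epi_iff_surjective g).2 h3 }
  · intro h
    exact ⟨(ModuleCat.mono_iff_injective f).1 h.mono_f,
      (ShortComplex.ShortExact.moduleCat_exact_iff_function_exact _).1 h.exact,
      (ModuleCat.epi_iff_surjective g).1 h.epi_g⟩

lemma SE_loc (S : Submonoid R) {X Y Z : ModuleCat.{u} R} {f : X ⟶ Y} {g : Y ⟶ Z} (h : SE f g) :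
    SE ((locFunctor S).map f) ((locFunctor S).map g) := by
  have hF := ((Functor.exact_tfae (locFunctor S)).out 2 0).1
    (Groth.Agent.Lib.Helper1.ExtCech.preservesHomology_locFunctor S)
  have h1 := hF _ ((SE_iff f g h.comp_zero).1 h)
  exact (SE_iff _ _ _).2 h1

lemma SE_of_subsingleton {X Y Z : ModuleCat.{u} R} (f : X ⟶ Y) (g : Y ⟶ Z) [Subsingleton X]
    [Subsingleton Y] [Subsingleton Z] : SE f g := by
  refine ⟨fun x y _ => Subsingleton.elim _ _, fun y => ?_, fun z => ⟨0, Subsingleton.elim _ _⟩⟩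
  exact ⟨fun _ => ⟨0, Subsingleton.elim _ _⟩, fun _ => Subsingleton.elim _ _⟩

lemma ec_SE {M' M M'' : ModuleCat.{u} R} (i : M' ⟶ M) (π : M ⟶ M'') (h : SE i π) :
    ∀ (fs : List R) (p : ℤ), SE ((ecMap i fs).f p) ((ecMap π fs).f p)
  | [], p => by
    by_cases hp : p = 0
    · subst hp
      have w : ((ecMap i []).f 0) ≫ ((ecMap π []).f 0) = 0 := by
        rw [← HomologicalComplex.comp_f, ← ecMap_comp, h.comp_zero]
        show ((HomologicalComplex.single (ModuleCat.{u} R) (ComplexShape.up ℤ) 0).map 0).f 0 = 0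
        rw [CategoryTheory.Functor.map_zero, HomologicalComplex.zero_f]
      rw [SE_iff _ _ w]
      refine ShortComplex.shortExact_of_iso ?_ ((SE_iff i π h.comp_zero).1 h)
      refine ShortComplex.isoMk
        (HomologicalComplex.singleObjXSelf (ComplexShape.up ℤ) 0 M').symm
        (HomologicalComplex.singleObjXSelf (ComplexShape.up ℤ) 0 M).symm
        (HomologicalComplex.singleObjXSelf (ComplexShape.up ℤ) 0 M'').symm ?_ ?_
      · show _ ≫ ((HomologicalComplex.single (ModuleCat.{u} R) (ComplexShape.up ℤ) 0).map i).f 0 =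
          i ≫ _
        rw [HomologicalComplex.single_map_f_self]
        simp
      · show _ ≫ ((HomologicalComplex.single (ModuleCat.{u} R) (ComplexShape.up ℤ) 0).map π).f 0 =
          π ≫ _
        rw [HomologicalComplex.single_map_f_self]
        simp
    · have h1 := ModuleCat.subsingleton_of_isZero
        (HomologicalComplex.isZero_single_obj_X (ComplexShape.up ℤ) 0 M' p hp)
      have h2 := ModuleCat.subsingleton_of_isZero
        (HomologicalComplex.isZero_single_obj_X (ComplexShape.up ℤ) 0 M p hp)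
      have h3 := ModuleCat.subsingleton_of_isZero
        (HomologicalComplex.isZero_single_obj_X (ComplexShape.up ℤ) 0 M'' p hp)
      exact @SE_of_subsingleton _ _ _ _ _ _ _ h1 h2 h3
  | f :: fs, p => by
    rw [ecMap_cons, ecMap_cons]
    exact coc_SE _ _ _ _ _ _ _ _ _ p (p + -1) rfl (ec_SE i π h fs p)
      (SE_loc (Submonoid.powers f) (ec_SE i π h fs (p + -1)))

theorem ec_shortExact (S : ShortComplex (ModuleCat.{u} R)) (hS : S.ShortExact) (fs : List R) :
    (S.map (EC fs)).ShortExact := by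
  apply HomologicalComplex.shortExact_of_degreewise_shortExact
  intro p
  have h : SE S.f S.g := (SE_iff S.f S.g S.zero).2 hS
  have := ec_SE S.f S.g h fs p
  exact (SE_iff _ _ _).1 this

end Exactness

section Delta

open Groth.Agent.Lib.Helper9.DeltaDerived

/-- the cohomology functors of the extended Cech complex -/
noncomputable def T (fs : List R) (n : ℕ) : ModuleCat.{u} R ⥤ ModuleCat.{u} R :=
  EC fs ⋙ HomologicalComplex.homologyFunctor (ModuleCat.{u} R) (ComplexShape.up ℤ) (n : ℤ)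

lemma rel_succ (n : ℕ) : (ComplexShape.up ℤ).Rel (n : ℤ) ((n + 1 : ℕ) : ℤ) := by
  simp

/-- the δ-functor structure -/
noncomputable def effDelta [IsNoetherianRing R] (fs : List R) : EffDelta (T fs) where
  δ S hS n := (ec_shortExact S hS fs).δ (n : ℤ) ((n + 1 : ℕ) : ℤ) (rel_succ n)
  δ_nat {S S'} hS hS' φ n :=
    (HomologicalComplex.HomologySequence.δ_naturality ((EC fs).mapShortComplex.map φ)
      (ec_shortExact S hS fs) (ec_shortExact S' hS' fs) _ _ (rel_succ n)).symm
  comp_δ S hS n := (ec_shortExact S hS fs).comp_δ _ _ (rel_succ n)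
  exact₃ S hS n := (ec_shortExact S hS fs).homology_exact₃ _ _ (rel_succ n)
  δ_comp S hS n := (ec_shortExact S hS fs).δ_comp _ _ (rel_succ n)
  exact₁ S hS n := (ec_shortExact S hS fs).homology_exact₁ _ _ (rel_succ n)
  isZero J _ n := by
    have : Module.Injective R J := Module.injective_module_of_injective_object R J
    exact Groth.Agent.Lib.Helper1.ExtCech.isZero_extCechH_pos_of_injective fs J ((n + 1 : ℕ) : ℤ)
      (by push_cast; omega)

end Delta

section H0

open Groth.Agent.Lib.Helper1.ExtCech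

lemma cocMap_fst {K₁ L₁ K₂ L₂ : DRing.Cx R} (φ₁ : K₁ ⟶ L₁) (φ₂ : K₂ ⟶ L₂)
    (a : K₁ ⟶ K₂) (b : L₁ ⟶ L₂) (comm : φ₁ ≫ b = a ≫ φ₂) :
    cocMap φ₁ φ₂ a b comm ≫ mappingCocone.fst φ₂ = mappingCocone.fst φ₁ ≫ a :=
  HomologicalComplex.hom_ext _ _ (fun p => cocMap_f_fst_f φ₁ φ₂ a b comm p)

lemma coc_aug_nat {K₁ L₁ K₂ L₂ X Y : DRing.Cx R} (φ₁ : K₁ ⟶ L₁) (φ₂ : K₂ ⟶ L₂)
    (a : K₁ ⟶ K₂) (b : L₁ ⟶ L₂) (comm : φ₁ ≫ b = a ≫ φ₂) (u₁ : K₁ ⟶ X) (u₂ : K₂ ⟶ Y) (v : X ⟶ Y)
    (h : a ≫ u₂ = u₁ ≫ v) :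
    cocMap φ₁ φ₂ a b comm ≫ (mappingCocone.fst φ₂ ≫ u₂) = (mappingCocone.fst φ₁ ≫ u₁) ≫ v := by
  rw [← Category.assoc, cocMap_fst, Category.assoc, h, Category.assoc]

/-- the augmentation `extCech M fs ⟶ M[0]` -/
noncomputable def aug (M : ModuleCat.{u} R) : ∀ fs : List R,
    extCech M fs ⟶ (HomologicalComplex.single (ModuleCat.{u} R) (ComplexShape.up ℤ) 0).obj M
  | [] => 𝟙 _
  | f :: fs => mappingCocone.fst (locCxUnit (Submonoid.powers f) (extCech M fs)) ≫ aug M fs

lemma aug_cons (M : ModuleCat.{u} R) (f : R) (fs : List R) :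
    aug M (f :: fs) =
      mappingCocone.fst (locCxUnit (Submonoid.powers f) (extCech M fs)) ≫ aug M fs := rfl

lemma aug_naturality {M N : ModuleCat.{u} R} (g : M ⟶ N) : ∀ fs : List R,
    ecMap g fs ≫ aug N fs =
      aug M fs ≫ (HomologicalComplex.single (ModuleCat.{u} R) (ComplexShape.up ℤ) 0).map g
  | [] => (Category.comp_id _).trans (Category.id_comp _).symm
  | f :: fs => coc_aug_nat _ _ _ _ _ _ _ _ (aug_naturality g fs)

/-- the map `H^0(extCech M fs) ⟶ M` -/
noncomputable def ι0 (fs : List R) (M : ModuleCat.{u} R) : extCechH fs M 0 ⟶ M :=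
  HomologicalComplex.homologyMap (aug M fs) 0 ≫
    (HomologicalComplex.singleObjHomologySelfIso (ComplexShape.up ℤ) 0 M).hom

lemma ι0_cons (f : R) (fs : List R) (M : ModuleCat.{u} R) :
    ι0 (f :: fs) M = ha (locCxUnit (Submonoid.powers f) (extCech M fs)) 0 ≫ ι0 fs M := by
  exact (congrArg (· ≫ (HomologicalComplex.singleObjHomologySelfIso (ComplexShape.up ℤ) 0 M).hom)
    (HomologicalComplex.homologyMap_comp
      (mappingCocone.fst (locCxUnit (Submonoid.powers f) (extCech M fs))) (aug M fs) 0)).trans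
    (Category.assoc _ _ _)

lemma ι0_naturality (fs : List R) {M N : ModuleCat.{u} R} (g : M ⟶ N) :
    HomologicalComplex.homologyMap (ecMap g fs) 0 ≫ ι0 fs N = ι0 fs M ≫ g := by
  rw [ι0, ι0, ← Category.assoc, ← HomologicalComplex.homologyMap_comp, aug_naturality,
    HomologicalComplex.homologyMap_comp, Category.assoc,
    HomologicalComplex.singleObjHomologySelfIso_hom_naturality, Category.assoc]

theorem ι0_spec (fs : List R) (M : ModuleCat.{u} R) :
    Function.Injective (ι0 fs M).hom ∧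
      LinearMap.range (ι0 fs M).hom = DRing.torsionSub (Ideal.span {x : R | x ∈ fs}) M := by
  induction fs with
  | nil =>
    have h0 : ι0 [] M = (HomologicalComplex.singleObjHomologySelfIso (ComplexShape.up ℤ) 0 M).hom := by
      show HomologicalComplex.homologyMap (𝟙 _) 0 ≫ _ = _
      rw [HomologicalComplex.homologyMap_id, Category.id_comp]
    rw [h0]
    refine ⟨(HomologicalComplex.singleObjHomologySelfIso
      (ComplexShape.up ℤ) 0 M).toLinearEquiv.injective, ?_⟩
    have hr : LinearMap.range (HomologicalComplex.singleObjHomologySelfIso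
        (ComplexShape.up ℤ) 0 M).hom.hom = ⊤ :=
      LinearMap.range_eq_top.2 (HomologicalComplex.singleObjHomologySelfIso
        (ComplexShape.up ℤ) 0 M).toLinearEquiv.surjective
    refine hr.trans ?_
    symm
    rw [eq_top_iff]
    intro m _
    refine ⟨1, fun a ha => ?_⟩
    have : a = 0 := by
      have h0 : {x : R | x ∈ ([] : List R)} = ∅ := by ext; simp
      rw [h0, Ideal.span_empty, pow_one] at ha
      exact ha
    rw [this, zero_smul]
  | cons f fs ih =>
    obtain ⟨hι, hr⟩ := ih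
    set ι := (ι0 fs M).hom with hιdef
    set K := extCech M fs with hK
    set φ := locCxUnit (Submonoid.powers f) K with hφ
    have hloc := fun n : ℤ => isLocalizedModule_homologyMap (Submonoid.powers f) K n
    have hz : IsZero (K.homology (-1)) := isZero_extCechH fs M (-1) (Or.inl (by omega))
    have s2 : Subsingleton (K.homology (-1)) := ModuleCat.subsingleton_of_isZero hz
    have := hloc (-1)
    have s3 : Subsingleton (((locCx (Submonoid.powers f)).obj K).homology (-1)) :=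
      subsingleton_of_isLocalizedModule (Submonoid.powers f)
        (HomologicalComplex.homologyMap (locCxUnit (Submonoid.powers f) K) (-1)).hom
    have hainj : Function.Injective (ha φ 0) := by
      intro x x' hxx'
      have h1 : ha φ 0 (x - x') = 0 := by rw [map_sub, hxx', sub_self]
      obtain ⟨z, hz⟩ := exists_hδ φ (-1) 0 (by omega) _ h1
      rw [Subsingleton.elim z 0, map_zero] at hz
      exact sub_eq_zero.1 hz.symm
    have hcons : (ι0 (f :: fs) M).hom = ι ∘ₗ (ha φ 0).hom := by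
      rw [ι0_cons]
      rfl
    rw [hcons]
    refine ⟨hι.comp hainj, ?_⟩
    ext m
    rw [span_cons, mem_torsionSub_sup_iff, ← hr]
    have := hloc 0
    constructor
    · rintro ⟨x, rfl⟩
      refine ⟨⟨_, rfl⟩, ?_⟩
      have h0 : hb φ 0 (ha φ 0 x) = 0 := hb_ha φ 0 x
      obtain ⟨⟨s, ⟨k, rfl⟩⟩, hs⟩ := (IsLocalizedModule.eq_zero_iff (Submonoid.powers f)
        (HomologicalComplex.homologyMap φ 0).hom).1 h0
      have hs' : f ^ k • ha φ 0 x = 0 := hs
      refine ⟨k, ?_⟩
      change f ^ k • ι (ha φ 0 x) = 0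
      rw [← map_smul, hs', map_zero]
    · rintro ⟨⟨y, rfl⟩, k, hk⟩
      have h1 : f ^ k • y = 0 := by
        apply hι
        rw [map_smul, hk, map_zero]
      have h2 : hb φ 0 y = 0 :=
        (IsLocalizedModule.eq_zero_iff (Submonoid.powers f)
          (HomologicalComplex.homologyMap φ 0).hom).2 ⟨⟨f ^ k, ⟨k, rfl⟩⟩, h1⟩
      obtain ⟨x, hx⟩ := exists_ha φ 0 y h2
      exact ⟨x, by change ι (ha φ 0 x) = ι y; rw [hx]⟩

end H0

section Main

open Groth.Agent.Lib.Helper9.DeltaDerived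

/-- `H^0` of the extended Cech complex is `Γ_I`, naturally -/
noncomputable def zeroIso (fs : List R) : T fs 0 ≅ DRing.gammaI (Ideal.span {x : R | x ∈ fs}) :=
  NatIso.ofComponents (fun M => (LinearEquiv.ofBijective
      (LinearMap.codRestrict (DRing.torsionSub (Ideal.span {x : R | x ∈ fs}) M) (ι0 fs M).hom
        (fun x => by
          rw [← (ι0_spec fs M).2]
          exact ⟨x, rfl⟩))
      ⟨fun x y h => (ι0_spec fs M).1 (congrArg Subtype.val h),
        fun ⟨m, hm⟩ => by
          rw [← (ι0_spec fs M).2] at hm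
          obtain ⟨x, hx⟩ := hm
          exact ⟨x, Subtype.ext hx⟩⟩).toModuleIso)
    (fun {M N} g => by
      apply ModuleCat.hom_ext
      apply LinearMap.ext
      intro x
      apply Subtype.ext
      exact congrArg (fun t => t.hom x) (ι0_naturality fs g))

instance (fs : List R) : (T fs 0).Additive := by
  unfold T
  infer_instance

instance (fs : List R) : PreservesFiniteLimits (T fs 0) :=
  have : PreservesFiniteLimits (DRing.gammaI (Ideal.span {x : R | x ∈ fs})) := by
    have := Groth.Agent.Lib.Helper9.LCDelta.preservesFiniteLimits_lc_zero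
      (Ideal.span {x : R | x ∈ fs})
    exact preservesFiniteLimits_of_natIso (Groth.Agent.Lib.Helper9.LCDelta.zeroIso _)
  preservesFiniteLimits_of_natIso (zeroIso fs).symm

theorem nonempty_iso [IsNoetherianRing R] (fs : List R) (M : ModuleCat.{u} R) (i : ℕ) :
    Nonempty (extCechH fs M (i : ℤ) ≅
      (localCohomology (Ideal.span {x : R | x ∈ fs}) i).obj M) := by
  obtain ⟨e⟩ := iso_rightDerived (effDelta fs) i
  obtain ⟨e'⟩ := Groth.Agent.Lib.Helper9.LCDelta.nonempty_iso (Ideal.span {x : R | x ∈ fs}) i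
  exact ⟨(e ≪≫ RDer.rightDerivedIso (zeroIso fs) i ≪≫ e').app M⟩

end Main

end Groth.Agent.Lib.Helper1.ExtCech4
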