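import Mathlib
import Groth.Agent.Lib.Helper1ExtCech4

/-! The extended Cech complex and local cohomology commute with filtered colimits (helper1). -/

set_option autoImplicit false
set_option maxHeartbeats 400000
set_option backward.isDefEq.respectTransparency.types false
universe u
open CategoryTheory CategoryTheory.Limits

namespace Groth.Agent.Lib.Helper1.ExtCech5

open DerCA CochainComplex HomologicalComplex Groth.Agent.Lib.Helper1.ExtCech4

variable {R : Type u} [CommRing R] {J : Type u} [SmallCategory J] [IsFiltered J]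
  (F : J ⥤ ModuleCat.{u} R) (c : Cocone F)

/-- elementwise continuity of the functor `G` on the cocone `c` -/
def DC (G : ModuleCat.{u} R ⥤ ModuleCat.{u} R) : Prop :=
  (∀ y : G.obj c.pt, ∃ (j : J) (x : G.obj (F.obj j)), (G.map (c.ι.app j)).hom x = y) ∧
  (∀ (j : J) (x : G.obj (F.obj j)), (G.map (c.ι.app j)).hom x = 0 →
    ∃ (k : J) (f : j ⟶ k), (G.map (F.map f)).hom x = 0)

variable {F c}

/-- continuity gives a colimit cocone -/
noncomputable def isColimitOfDC (G : ModuleCat.{u} R ⥤ ModuleCat.{u} R) (h : DC F c G) :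
    IsColimit (G.mapCocone c) := by
  have hrefl : ReflectsColimitsOfShape J (forget (ModuleCat.{u} R)) :=
    ReflectsFilteredColimitsOfSize.reflects_filtered_colimits J
  apply isColimitOfReflects (forget (ModuleCat.{u} R))
  refine Types.FilteredColimit.isColimitOf' _ _ ?_ ?_
  · intro y
    obtain ⟨j, x, hx⟩ := h.1 y
    exact ⟨j, x, hx.symm⟩
  · intro j x y hxy
    have h0 : (G.map (c.ι.app j)).hom (x - y) = 0 := by
      rw [map_sub]
      exact sub_eq_zero.2 hxy
    obtain ⟨k, f, hf⟩ := h.2 j (x - y) h0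
    refine ⟨k, f, ?_⟩
    rw [map_sub] at hf
    exact sub_eq_zero.1 hf

lemma exists_rep (hc : IsColimit c) (y : c.pt) :
    ∃ (j : J) (x : F.obj j), (c.ι.app j).hom x = y := by
  obtain ⟨j, x, hx⟩ := Concrete.isColimit_exists_rep F hc y
  exact ⟨j, x, hx⟩

lemma exists_kill_one (hc : IsColimit c) (j : J) (x : F.obj j) (hx : (c.ι.app j).hom x = 0) :
    ∃ (k : J) (f : j ⟶ k), (F.map f).hom x = 0 := by
  have h0 : (c.ι.app j).hom x = (c.ι.app j).hom 0 := by
    rw [map_zero]; exact hx
  obtain ⟨k, g₁, g₂, hg⟩ := Concrete.isColimit_exists_of_rep_eq F hc _ _ h0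
  refine ⟨k, g₁, ?_⟩
  have : (F.map g₁).hom x = (F.map g₂).hom 0 := hg
  rw [map_zero] at this
  exact this

lemma DC_id (hc : IsColimit c) : DC F c (𝟭 (ModuleCat.{u} R)) :=
  ⟨fun y => exists_rep hc y, fun j x hx => exists_kill_one hc j x hx⟩

lemma DC_of_natIso {G G' : ModuleCat.{u} R ⥤ ModuleCat.{u} R} (e : G ≅ G') (h : DC F c G) :
    DC F c G' := by
  have key : ∀ {X Y : ModuleCat.{u} R} (g : X ⟶ Y) (x : G'.obj X),
      (G'.map g).hom x = (e.hom.app Y).hom ((G.map g).hom ((e.inv.app X).hom x)) := by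
    intro X Y g x
    have := congrArg (fun t => t.hom x) (e.inv.naturality g)
    have h2 : (e.hom.app Y).hom ((e.inv.app Y).hom ((G'.map g).hom x)) = (G'.map g).hom x :=
      congrArg (fun t => t.hom ((G'.map g).hom x)) (e.inv_hom_id_app Y)
    rw [← h2]
    exact congrArg (e.hom.app Y).hom this
  have hinj : ∀ (Y : ModuleCat.{u} R), Function.Injective (e.hom.app Y).hom := fun Y =>
    (e.app Y).toLinearEquiv.injective
  refine ⟨fun y => ?_, fun j x hx => ?_⟩
  · obtain ⟨j, x, hx⟩ := h.1 ((e.inv.app c.pt).hom y)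
    refine ⟨j, (e.hom.app _).hom x, ?_⟩
    rw [key]
    have h1 : (e.inv.app (F.obj j)).hom ((e.hom.app (F.obj j)).hom x) = x :=
      congrArg (fun t => t.hom x) (e.hom_inv_id_app (F.obj j))
    rw [h1, hx]
    exact congrArg (fun t => t.hom y) (e.inv_hom_id_app c.pt)
  · rw [key] at hx
    have h1 := hinj _ (hx.trans (map_zero _).symm)
    obtain ⟨k, f, hf⟩ := h.2 j _ h1
    refine ⟨k, f, ?_⟩
    rw [key, hf, map_zero]

lemma DC_of_subsingleton (G : ModuleCat.{u} R ⥤ ModuleCat.{u} R)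
    (h : ∀ X : ModuleCat.{u} R, Subsingleton (G.obj X)) : DC F c G := by
  refine ⟨fun y => ?_, fun j x _ => ⟨j, 𝟙 j, ?_⟩⟩
  · obtain ⟨j⟩ := IsFiltered.nonempty (C := J)
    have := h c.pt
    exact ⟨j, 0, Subsingleton.elim _ _⟩
  · have := h (F.obj j)
    exact Subsingleton.elim _ _

lemma DC_loc_aux (S : Submonoid R) (G : ModuleCat.{u} R ⥤ ModuleCat.{u} R) (h : DC F c G) :
    (∀ y : LocalizedModule S (G.obj c.pt), ∃ (j : J) (x : LocalizedModule S (G.obj (F.obj j))),
      IsLocalizedModule.map S (LocalizedModule.mkLinearMap S (G.obj (F.obj j)))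
        (LocalizedModule.mkLinearMap S (G.obj c.pt)) (G.map (c.ι.app j)).hom x = y) ∧
    (∀ (j : J) (x : LocalizedModule S (G.obj (F.obj j))),
      IsLocalizedModule.map S (LocalizedModule.mkLinearMap S (G.obj (F.obj j)))
        (LocalizedModule.mkLinearMap S (G.obj c.pt)) (G.map (c.ι.app j)).hom x = 0 →
      ∃ (k : J) (f : j ⟶ k), IsLocalizedModule.map S (LocalizedModule.mkLinearMap S (G.obj (F.obj j)))
        (LocalizedModule.mkLinearMap S (G.obj (F.obj k))) (G.map (F.map f)).hom x = 0) := by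
  refine ⟨fun y => ?_, fun j x hx => ?_⟩
  · obtain ⟨⟨m, s⟩, rfl⟩ := IsLocalizedModule.mk'_surjective S
      (LocalizedModule.mkLinearMap S (G.obj c.pt)) y
    obtain ⟨j, x, hx⟩ := h.1 m
    refine ⟨j, IsLocalizedModule.mk' (LocalizedModule.mkLinearMap S (G.obj (F.obj j))) x s, ?_⟩
    rw [IsLocalizedModule.map_mk', hx]
    rfl
  · obtain ⟨⟨m, s⟩, rfl⟩ := IsLocalizedModule.mk'_surjective S
      (LocalizedModule.mkLinearMap S (G.obj (F.obj j))) x
    simp only [Function.uncurry_apply_pair] at hx ⊢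
    rw [IsLocalizedModule.map_mk', IsLocalizedModule.mk'_eq_zero'] at hx
    obtain ⟨t, ht⟩ := hx
    have h1 : (G.map (c.ι.app j)).hom ((t : R) • m) = 0 := by rw [map_smul]; exact ht
    obtain ⟨k, f, hf⟩ := h.2 j ((t : R) • m) h1
    refine ⟨k, f, ?_⟩
    rw [IsLocalizedModule.map_mk', IsLocalizedModule.mk'_eq_zero']
    refine ⟨t, ?_⟩
    rw [map_smul] at hf
    exact hf

lemma DC_loc (S : Submonoid R) (G : ModuleCat.{u} R ⥤ ModuleCat.{u} R) (h : DC F c G) :
    DC F c (G ⋙ locFunctor S) := DC_loc_aux S G h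

section CocF

variable (E : ModuleCat.{u} R ⥤ DRing.Cx R) (S : Submonoid R)

/-- the mapping cocone of the localisation map, as a functor -/
noncomputable def cocF : ModuleCat.{u} R ⥤ DRing.Cx R where
  obj X := mappingCocone (locCxUnit S (E.obj X))
  map {X Y} g := cocMap (locCxUnit S (E.obj X)) (locCxUnit S (E.obj Y)) (E.map g)
    ((locCx S).map (E.map g)) (locCxUnit_naturality S (E.map g))
  map_id X := by
    rw [cocMap_congr _ _ _ (E.map_id X)
      (by rw [E.map_id X, CategoryTheory.Functor.map_id])]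
    exact cocMap_id _
  map_comp {X Y Z} g h := by
    rw [cocMap_congr _ _ _ (E.map_comp g h)
      (by rw [E.map_comp g h, CategoryTheory.Functor.map_comp])]
    exact cocMap_comp _ _ _ _ _ _ _ _ _

lemma DC_cocF (p : ℤ) (h1 : DC F c (E ⋙ HomologicalComplex.eval _ _ p))
    (h2 : DC F c ((E ⋙ HomologicalComplex.eval _ _ (p + -1)) ⋙ locFunctor S)) :
    DC F c (cocF E S ⋙ HomologicalComplex.eval _ _ p) := by
  -- notation
  let φ := fun X : ModuleCat.{u} R => locCxUnit S (E.obj X)
  let fst := fun (X : ModuleCat.{u} R) (z : (mappingCocone (φ X)).X p) =>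
    ((mappingCocone.fst (φ X)).f p).hom z
  let snd := fun (X : ModuleCat.{u} R) (z : (mappingCocone (φ X)).X p) =>
    ((mappingCocone.snd (φ X)).v p (p + -1) rfl).hom z
  let G' := cocF E S ⋙ HomologicalComplex.eval _ _ p
  let G₁ := E ⋙ HomologicalComplex.eval (ModuleCat.{u} R) (ComplexShape.up ℤ) p
  let G₂ := (E ⋙ HomologicalComplex.eval (ModuleCat.{u} R) (ComplexShape.up ℤ) (p + -1)) ⋙
    locFunctor S
  have hfst : ∀ {X Y : ModuleCat.{u} R} (g : X ⟶ Y) (z : (mappingCocone (φ X)).X p),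
      fst Y ((G'.map g).hom z) = (G₁.map g).hom (fst X z) := fun {X Y} g z =>
    cocMap_fst_apply (φ X) (φ Y) (E.map g) ((locCx S).map (E.map g))
      (locCxUnit_naturality S (E.map g)) p z
  have hsnd : ∀ {X Y : ModuleCat.{u} R} (g : X ⟶ Y) (z : (mappingCocone (φ X)).X p),
      snd Y ((G'.map g).hom z) = (G₂.map g).hom (snd X z) := fun {X Y} g z =>
    cocMap_snd_apply (φ X) (φ Y) (E.map g) ((locCx S).map (E.map g))
      (locCxUnit_naturality S (E.map g)) p (p + -1) rfl z
  have hext : ∀ (X : ModuleCat.{u} R) (z z' : (mappingCocone (φ X)).X p),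
      fst X z = fst X z' → snd X z = snd X z' → z = z' := fun X z z' =>
    coc_ext (φ X) p (p + -1) rfl z z'
  have hex : ∀ (X : ModuleCat.{u} R) (u : G₁.obj X) (v : G₂.obj X),
      ∃ z : (mappingCocone (φ X)).X p, fst X z = u ∧ snd X z = v := fun X u v =>
    coc_exists (φ X) p (p + -1) rfl u v
  have hw : ∀ (G : ModuleCat.{u} R ⥤ ModuleCat.{u} R) {j k : J} (a : j ⟶ k) (x : G.obj (F.obj j)),
      (G.map (c.ι.app k)).hom ((G.map (F.map a)).hom x) = (G.map (c.ι.app j)).hom x := by
    intro G j k a x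
    have := congrArg (fun t => (G.map t).hom x) (c.w a)
    simp only [G.map_comp] at this
    exact this
  have hcomp : ∀ (G : ModuleCat.{u} R ⥤ ModuleCat.{u} R) {j k l : J} (a : j ⟶ k) (b : k ⟶ l)
      (x : G.obj (F.obj j)),
      (G.map (F.map (a ≫ b))).hom x = (G.map (F.map b)).hom ((G.map (F.map a)).hom x) := by
    intro G j k l a b x
    rw [F.map_comp, G.map_comp]
    rfl
  refine ⟨fun y => ?_, fun j z hz => ?_⟩
  · obtain ⟨j, uj, huj⟩ := h1.1 (fst c.pt y)
    obtain ⟨k, vk, hvk⟩ := h2.1 (snd c.pt y)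
    let l := IsFiltered.max j k
    let a : j ⟶ l := IsFiltered.leftToMax j k
    let b : k ⟶ l := IsFiltered.rightToMax j k
    obtain ⟨z, hz1, hz2⟩ := hex (F.obj l) ((G₁.map (F.map a)).hom uj) ((G₂.map (F.map b)).hom vk)
    refine ⟨l, z, hext c.pt _ _ ?_ ?_⟩
    · rw [hfst, hz1, hw G₁ a uj, huj]
    · rw [hsnd, hz2, hw G₂ b vk, hvk]
  · have hz' : (G'.map (c.ι.app j)).hom z = 0 := hz
    have e1 : (G₁.map (c.ι.app j)).hom (fst (F.obj j) z) = 0 := by
      rw [← hfst, hz']
      exact map_zero _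
    obtain ⟨k, a, ha⟩ := h1.2 j _ e1
    have e2 : (G₂.map (c.ι.app k)).hom (snd (F.obj k) ((G'.map (F.map a)).hom z)) = 0 := by
      rw [← hsnd, hw G' a z, hz']
      exact map_zero _
    obtain ⟨l, b, hb⟩ := h2.2 k _ e2
    refine ⟨l, a ≫ b, ?_⟩
    show (G'.map (F.map (a ≫ b))).hom z = 0
    rw [hcomp G' a b z]
    apply hext (F.obj l)
    · rw [hfst, hfst, ha, map_zero]
      exact (map_zero _).symm
    · rw [hsnd, hb]
      exact (map_zero _).symm

end CocF

section Ec

lemma DC_ec (hc : IsColimit c) : ∀ (fs : List R) (p : ℤ),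
    DC F c (EC fs ⋙ HomologicalComplex.eval (ModuleCat.{u} R) (ComplexShape.up ℤ) p)
  | [], p => by
    by_cases hp : p = 0
    · subst hp
      have e : HomologicalComplex.single (ModuleCat.{u} R) (ComplexShape.up ℤ) 0 ⋙
          HomologicalComplex.eval (ModuleCat.{u} R) (ComplexShape.up ℤ) 0 ≅ 𝟭 _ :=
        HomologicalComplex.singleCompEvalIsoSelf (ModuleCat.{u} R) (ComplexShape.up ℤ) 0
      exact DC_of_natIso e.symm (DC_id hc)
    · exact DC_of_subsingleton _ (fun X => ModuleCat.subsingleton_of_isZero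
        (HomologicalComplex.isZero_single_obj_X (ComplexShape.up ℤ) 0 X p hp))
  | f :: fs, p =>
    DC_cocF (EC fs) (Submonoid.powers f) p (DC_ec hc fs p)
      (DC_loc (Submonoid.powers f) _ (DC_ec hc fs (p + -1)))

end Ec

section HomologyElem

variable (K : DRing.Cx R) (i : ℤ)

lemma exists_cycle (x : K.X i) (hx : (K.d i (i + 1)).hom x = 0) :
    ∃ z : K.cycles i, (K.iCycles i).hom z = x := by
  have h : (ShortComplex.mk (K.iCycles i) (K.d i (i + 1)) (K.iCycles_d i (i + 1))).Exact :=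
    ShortComplex.exact_of_f_is_kernel _ (K.cyclesIsKernel i (i + 1) (by simp))
  rw [ShortComplex.moduleCat_exact_iff] at h
  exact h x hx

lemma iCycles_injective : Function.Injective (K.iCycles i).hom :=
  (ModuleCat.mono_iff_injective (K.iCycles i)).1 inferInstance

lemma homologyπ_surjective : Function.Surjective (K.homologyπ i).hom :=
  (ModuleCat.epi_iff_surjective (K.homologyπ i)).1 inferInstance

lemma exists_of_homologyπ_eq_zero (z : K.cycles i) (hz : (K.homologyπ i).hom z = 0) :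
    ∃ w : K.X (i - 1), (K.toCycles (i - 1) i).hom w = z := by
  have h : (ShortComplex.mk (K.toCycles (i - 1) i) (K.homologyπ i)
      (K.toCycles_comp_homologyπ (i - 1) i)).Exact :=
    ShortComplex.exact_of_g_is_cokernel _ (K.homologyIsCokernel (i - 1) i (by simp))
  rw [ShortComplex.moduleCat_exact_iff] at h
  exact h z hz

lemma iCycles_toCycles (w : K.X (i - 1)) :
    (K.iCycles i).hom ((K.toCycles (i - 1) i).hom w) = (K.d (i - 1) i).hom w :=
  congrArg (fun t => t.hom w) (K.toCycles_i (i - 1) i)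

lemma homologyπ_toCycles (w : K.X (i - 1)) :
    (K.homologyπ i).hom ((K.toCycles (i - 1) i).hom w) = 0 :=
  congrArg (fun t => t.hom w) (K.toCycles_comp_homologyπ (i - 1) i)

lemma d_iCycles (z : K.cycles i) : (K.d i (i + 1)).hom ((K.iCycles i).hom z) = 0 :=
  congrArg (fun t => t.hom z) (K.iCycles_d i (i + 1))

variable {K} {L : DRing.Cx R} (φ : K ⟶ L)

lemma iCycles_cyclesMap (z : K.cycles i) :
    (L.iCycles i).hom ((HomologicalComplex.cyclesMap φ i).hom z) = (φ.f i).hom ((K.iCycles i).hom z) :=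
  congrArg (fun t => t.hom z) (HomologicalComplex.cyclesMap_i φ i)

lemma homologyMap_homologyπ (z : K.cycles i) :
    (HomologicalComplex.homologyMap φ i).hom ((K.homologyπ i).hom z) =
      (L.homologyπ i).hom ((HomologicalComplex.cyclesMap φ i).hom z) :=
  congrArg (fun t => t.hom z) (HomologicalComplex.homologyπ_naturality φ i)

lemma f_d (p q : ℤ) (x : K.X p) :
    (φ.f q).hom ((K.d p q).hom x) = (L.d p q).hom ((φ.f p).hom x) :=
  (congrArg (fun t => t.hom x) (φ.comm p q)).symm

end HomologyElem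

section Homology

variable (E : ModuleCat.{u} R ⥤ DRing.Cx R) (i : ℤ)

lemma DC_homology
    (h0 : DC F c (E ⋙ HomologicalComplex.eval (ModuleCat.{u} R) (ComplexShape.up ℤ) (i - 1)))
    (h1 : DC F c (E ⋙ HomologicalComplex.eval (ModuleCat.{u} R) (ComplexShape.up ℤ) i))
    (h2 : DC F c (E ⋙ HomologicalComplex.eval (ModuleCat.{u} R) (ComplexShape.up ℤ) (i + 1))) :
    DC F c (E ⋙ HomologicalComplex.homologyFunctor (ModuleCat.{u} R) (ComplexShape.up ℤ) i) := by
  have hw : ∀ (p : ℤ) {j k : J} (a : j ⟶ k) (x : (E.obj (F.obj j)).X p),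
      ((E.map (c.ι.app k)).f p).hom (((E.map (F.map a)).f p).hom x) =
        ((E.map (c.ι.app j)).f p).hom x := by
    intro p j k a x
    have := congrArg (fun t => ((E.map t).f p).hom x) (c.w a)
    simp only [E.map_comp] at this
    exact this
  have hcomp : ∀ (p : ℤ) {j k l : J} (a : j ⟶ k) (b : k ⟶ l) (x : (E.obj (F.obj j)).X p),
      ((E.map (F.map (a ≫ b))).f p).hom x =
        ((E.map (F.map b)).f p).hom (((E.map (F.map a)).f p).hom x) := by
    intro p j k l a b x
    rw [F.map_comp, E.map_comp]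
    rfl
  have h0s : ∀ w : (E.obj c.pt).X (i - 1), ∃ (k : J) (wk : (E.obj (F.obj k)).X (i - 1)),
      ((E.map (c.ι.app k)).f (i - 1)).hom wk = w := h0.1
  have h1s : ∀ x : (E.obj c.pt).X i, ∃ (k : J) (xk : (E.obj (F.obj k)).X i),
      ((E.map (c.ι.app k)).f i).hom xk = x := h1.1
  have h1i : ∀ (j : J) (x : (E.obj (F.obj j)).X i), ((E.map (c.ι.app j)).f i).hom x = 0 →
      ∃ (k : J) (f : j ⟶ k), ((E.map (F.map f)).f i).hom x = 0 := h1.2
  have h2i : ∀ (j : J) (x : (E.obj (F.obj j)).X (i + 1)),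
      ((E.map (c.ι.app j)).f (i + 1)).hom x = 0 →
      ∃ (k : J) (f : j ⟶ k), ((E.map (F.map f)).f (i + 1)).hom x = 0 := h2.2
  refine ⟨fun y => ?_, fun j yj hyj => ?_⟩
  · obtain ⟨z, rfl⟩ := homologyπ_surjective (E.obj c.pt) i y
    obtain ⟨j, xj, hxj⟩ := h1s (((E.obj c.pt).iCycles i).hom z)
    have e1 : ((E.map (c.ι.app j)).f (i + 1)).hom (((E.obj (F.obj j)).d i (i + 1)).hom xj) = 0 := by
      rw [f_d, hxj]
      exact d_iCycles (E.obj c.pt) i z
    obtain ⟨k, a, ha⟩ := h2i j _ e1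
    rw [f_d] at ha
    obtain ⟨zk, hzk⟩ := exists_cycle (E.obj (F.obj k)) i _ ha
    refine ⟨k, ((E.obj (F.obj k)).homologyπ i).hom zk, ?_⟩
    show (HomologicalComplex.homologyMap (E.map (c.ι.app k)) i).hom _ = _
    rw [homologyMap_homologyπ]
    have hz : (HomologicalComplex.cyclesMap (E.map (c.ι.app k)) i).hom zk = z := by
      apply iCycles_injective (E.obj c.pt) i
      rw [iCycles_cyclesMap, hzk]
      exact (hw i a xj).trans hxj
    exact congrArg ((E.obj c.pt).homologyπ i).hom hz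
  · obtain ⟨zj, rfl⟩ := homologyπ_surjective (E.obj (F.obj j)) i yj
    have hyj' : (HomologicalComplex.homologyMap (E.map (c.ι.app j)) i).hom
        (((E.obj (F.obj j)).homologyπ i).hom zj) = 0 := hyj
    rw [homologyMap_homologyπ] at hyj'
    obtain ⟨w, hw0⟩ := exists_of_homologyπ_eq_zero (E.obj c.pt) i _ hyj'
    have hdw : ((E.obj c.pt).d (i - 1) i).hom w =
        ((E.map (c.ι.app j)).f i).hom (((E.obj (F.obj j)).iCycles i).hom zj) := by
      rw [← iCycles_toCycles, hw0, iCycles_cyclesMap]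
    obtain ⟨k, wk, hwk⟩ := h0s w
    let l := IsFiltered.max j k
    let a : j ⟶ l := IsFiltered.leftToMax j k
    let b : k ⟶ l := IsFiltered.rightToMax j k
    set xj := ((E.obj (F.obj j)).iCycles i).hom zj with hxj
    have hu : ((E.map (c.ι.app l)).f i).hom (((E.map (F.map a)).f i).hom xj -
        ((E.obj (F.obj l)).d (i - 1) i).hom (((E.map (F.map b)).f (i - 1)).hom wk)) = 0 := by
      rw [map_sub, hw i a xj, f_d, hw (i - 1) b wk, hwk]
      exact sub_eq_zero.2 hdw.symm
    obtain ⟨m, g, hg⟩ := h1i l _ hu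
    rw [map_sub, sub_eq_zero, ← hcomp i a g xj, f_d, ← hcomp (i - 1) b g wk] at hg
    refine ⟨m, a ≫ g, ?_⟩
    show (HomologicalComplex.homologyMap (E.map (F.map (a ≫ g))) i).hom
      (((E.obj (F.obj j)).homologyπ i).hom zj) = 0
    rw [homologyMap_homologyπ]
    have hz : (HomologicalComplex.cyclesMap (E.map (F.map (a ≫ g))) i).hom zj =
        ((E.obj (F.obj m)).toCycles (i - 1) i).hom (((E.map (F.map (b ≫ g))).f (i - 1)).hom wk) := by
      apply iCycles_injective
      rw [iCycles_cyclesMap, iCycles_toCycles]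
      exact hg
    rw [hz, homologyπ_toCycles]

end Homology

section Main

variable (J) in
/-- the cohomology of the extended Cech complex commutes with filtered colimits -/
theorem preserves_T (fs : List R) (i : ℕ) : PreservesColimitsOfShape J (T fs i) := by
  constructor
  intro K
  refine ⟨fun {c} hc => ⟨isColimitOfDC (T fs i) ?_⟩⟩
  exact DC_homology (EC fs) (i : ℤ) (DC_ec hc fs _) (DC_ec hc fs _) (DC_ec hc fs _)

theorem nonempty_natIso [IsNoetherianRing R] (fs : List R) (i : ℕ) :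
    Nonempty (T fs i ≅ localCohomology (Ideal.span {x : R | x ∈ fs}) i) := by
  obtain ⟨e⟩ := Groth.Agent.Lib.Helper9.DeltaDerived.iso_rightDerived (effDelta fs) i
  obtain ⟨e'⟩ := Groth.Agent.Lib.Helper9.LCDelta.nonempty_iso (Ideal.span {x : R | x ∈ fs}) i
  exact ⟨e ≪≫ RDer.rightDerivedIso (zeroIso fs) i ≪≫ e'⟩

variable (J) in
/-- local cohomology over a Noetherian ring commutes with filtered colimits -/
theorem preserves_localCohomology [IsNoetherianRing R] (I : Ideal R) (i : ℕ) :
    PreservesColimitsOfShape J (localCohomology I i) := by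
  classical
  obtain ⟨s, hs⟩ : I.FG := IsNoetherian.noetherian I
  have hI : Ideal.span {x : R | x ∈ s.toList} = I := by
    rw [← hs]
    congr 1
    ext x
    simp
  subst hI
  obtain ⟨e⟩ := nonempty_natIso s.toList i
  have := preserves_T J s.toList i
  exact preservesColimitsOfShape_of_natIso e

end Main

end Groth.Agent.Lib.Helper1.ExtCech5
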