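import Mathlib
import Groth.Agent.Lib.Helper17Cpt2
import Groth.Agent.Lib.Helper1ExtCech5

/-!
# An Artin–Rees statement in the derived category (helper10)

For a bounded complex `K` of finite projective modules over a Noetherian ring whose cohomology is
killed by `J`, the inclusion `J^(n+m) ⊗ K ⟶ J^m ⊗ K` is zero in `D(A)` for a suitable `n`
independent of `m`: it factors through an acyclic subcomplex.
-/

set_option autoImplicit false
set_option maxHeartbeats 400000
universe w u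
open CategoryTheory CategoryTheory.Limits MonoidalCategory

namespace Groth.Agent.Lib.Helper10.ARD

variable {A : Type u} [CommRing A]

section Alg

variable (J : Ideal A) {M M' : Type u} [AddCommGroup M] [Module A M] [AddCommGroup M'] [Module A M']

/-- Artin–Rees: cycles deep in the `J`-adic filtration are boundaries of deep elements. -/
lemma ar_step [IsNoetherianRing A] [Module.Finite A M] (dprev : M' →ₗ[A] M) (Z : Submodule A M)
    (hJ : ∀ x ∈ J, ∀ z ∈ Z, x • z ∈ LinearMap.range dprev) :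
    ∃ c : ℕ, ∀ e : ℕ, ∀ z ∈ Z, z ∈ J ^ (e + c) • (⊤ : Submodule A M) →
      z ∈ Submodule.map dprev (J ^ e • (⊤ : Submodule A M')) := by
  obtain ⟨k, hk⟩ := Ideal.exists_pow_inf_eq_pow_smul J Z
  refine ⟨k + 1, fun e z hz hze => ?_⟩
  have h1 : z ∈ J ^ (e + (k + 1)) • (⊤ : Submodule A M) ⊓ Z := ⟨hze, hz⟩
  rw [hk (e + (k + 1)) (by omega)] at h1
  have h2 : e + (k + 1) - k = e + 1 := by omega
  rw [h2] at h1
  have h3 : J ^ (e + 1) • (J ^ k • (⊤ : Submodule A M) ⊓ Z) ≤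
      Submodule.map dprev (J ^ e • (⊤ : Submodule A M')) := by
    rw [pow_succ, mul_smul, Submodule.map_smul'']
    refine Submodule.smul_mono le_rfl ?_
    rw [Submodule.smul_le]
    intro x hx z' hz'
    rw [Submodule.map_top]
    exact hJ x hx z' hz'.2
  exact h3 h1

end Alg

section Mu

variable (J : Ideal A) (p : ℕ) (M : ModuleCat.{u} A)

/-- multiplication `J^p ⊗ M ⟶ M` -/
noncomputable def μ : (ModuleCat.of A ↥(J ^ p) ⊗ M : ModuleCat.{u} A) →ₗ[A] M :=
  TensorProduct.lift ((LinearMap.lsmul A M).comp (J ^ p).subtype)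

lemma μ_tmul (x : ↥(J ^ p)) (k : M) : μ J p M (x ⊗ₜ k) = x.1 • k := rfl

lemma μ_injective [Module.Flat A M] : Function.Injective (μ J p M) := by
  have h : μ J p M = (TensorProduct.lid A M).toLinearMap ∘ₗ ((J ^ p).subtype.rTensor M) := by
    apply TensorProduct.ext'
    intro x k
    simp [μ]
  rw [h]
  exact (TensorProduct.lid A M).injective.comp
    (Module.Flat.rTensor_preserves_injective_linearMap _ Subtype.val_injective)

lemma range_μ : LinearMap.range (μ J p M) = J ^ p • (⊤ : Submodule A M) := by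
  apply le_antisymm
  · rintro _ ⟨t, rfl⟩
    induction t using TensorProduct.induction_on with
    | zero => simp
    | tmul x k => rw [μ_tmul]; exact Submodule.smul_mem_smul x.2 Submodule.mem_top
    | add a b ha hb => rw [map_add]; exact add_mem ha hb
  · rw [Submodule.smul_le]
    intro x hx k _
    exact ⟨(⟨x, hx⟩ : ↥(J ^ p)) ⊗ₜ k, rfl⟩

variable {M} in
lemma μ_whiskerLeft {N : ModuleCat.{u} A} (f : M ⟶ N)
    (t : (ModuleCat.of A ↥(J ^ p) ⊗ M : ModuleCat.{u} A)) :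
    μ J p N ((ModuleCat.of A ↥(J ^ p) ◁ f).hom t) = f.hom (μ J p M t) := by
  induction t using TensorProduct.induction_on with
  | zero => simp
  | tmul x k =>
    change μ J p N (x ⊗ₜ f.hom k) = f.hom (μ J p M (x ⊗ₜ k))
    rw [μ_tmul, μ_tmul, map_smul]
  | add a b ha hb => rw [map_add, map_add, map_add, map_add, ha, hb]

lemma μ_whiskerRight {p' : ℕ} (h : J ^ p' ≤ J ^ p)
    (t : (ModuleCat.of A ↥(J ^ p') ⊗ M : ModuleCat.{u} A)) :
    μ J p M ((ModuleCat.ofHom (Submodule.inclusion h) ▷ M).hom t) = μ J p' M t := by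
  induction t using TensorProduct.induction_on with
  | zero => simp
  | tmul x k =>
    change μ J p M ((Submodule.inclusion h x) ⊗ₜ k) = μ J p' M (x ⊗ₜ k)
    rw [μ_tmul, μ_tmul]
    rfl
  | add a b ha hb => rw [map_add, map_add, map_add, ha, hb]

end Mu

section Sub

variable (Y : CochainComplex (ModuleCat.{u} A) ℤ) (S : ∀ q, Submodule A (Y.X q))
  (hS : ∀ i j (x : Y.X i), x ∈ S i → (Y.d i j).hom x ∈ S j)

/-- the subcomplex with terms `S q` -/
noncomputable def subCx : CochainComplex (ModuleCat.{u} A) ℤ where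
  X q := ModuleCat.of A (S q)
  d i j := ModuleCat.ofHom ((Y.d i j).hom.restrict (hS i j))
  shape i j h := by
    refine ModuleCat.hom_ext (LinearMap.ext fun x => Subtype.ext ?_)
    change (Y.d i j).hom x.1 = 0
    rw [Y.shape i j h]
    rfl
  d_comp_d' i j k _ _ := by
    refine ModuleCat.hom_ext (LinearMap.ext fun x => Subtype.ext ?_)
    change (Y.d j k).hom ((Y.d i j).hom x.1) = 0
    exact congrArg (fun t => t.hom x.1) (Y.d_comp_d i j k)

/-- the inclusion of the subcomplex -/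
noncomputable def subι : subCx Y S hS ⟶ Y where
  f q := ModuleCat.ofHom (S q).subtype
  comm' _ _ _ := rfl

lemma subCx_acyclic
    (h : ∀ p q (_ : p + 1 = q) (z : Y.X q), z ∈ S q → (Y.d q (q + 1)).hom z = 0 →
      ∃ y ∈ S p, (Y.d p q).hom y = z) : (subCx Y S hS).Acyclic := by
  intro q
  rw [HomologicalComplex.exactAt_iff' _ (q - 1) q (q + 1) (by simp) (by simp),
    ShortComplex.moduleCat_exact_iff]
  intro z hz
  have hz' : (Y.d q (q + 1)).hom (z : S q).1 = 0 := congrArg Subtype.val hz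
  obtain ⟨y, hy, hyz⟩ := h (q - 1) q (by omega) (z : S q).1 (z : S q).2 hz'
  exact ⟨(⟨y, hy⟩ : S (q - 1)), Subtype.ext hyz⟩

/-- corestriction of a chain map to a subcomplex -/
noncomputable def subLift {X : CochainComplex (ModuleCat.{u} A) ℤ} (f : X ⟶ Y)
    (hf : ∀ q (t : X.X q), (f.f q).hom t ∈ S q) : X ⟶ subCx Y S hS where
  f q := ModuleCat.ofHom (LinearMap.codRestrict (S q) (f.f q).hom (hf q))
  comm' i j _ := by
    refine ModuleCat.hom_ext (LinearMap.ext fun x => Subtype.ext ?_)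
    exact congrArg (fun t => t.hom x) (f.comm i j)

lemma subLift_ι {X : CochainComplex (ModuleCat.{u} A) ℤ} (f : X ⟶ Y)
    (hf : ∀ q (t : X.X q), (f.f q).hom t ∈ S q) : subLift Y S hS f hf ≫ subι Y S hS = f := by
  ext q
  rfl

end Sub


section Main

open Groth.Agent.Lib.Helper1.ExtCech5

variable (K : CochainComplex (ModuleCat.{u} A) ℤ) (a b : ℤ) (J : Ideal A)

/-- `J` times a cycle is a boundary -/
lemma smul_cycle_mem_range (hJ : ∀ q : ℤ, ∀ x ∈ J, ∀ c : ↑(K.homology q), x • c = 0)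
    (q : ℤ) (x : A) (hx : x ∈ J) (z : K.X q) (hz : (K.d q (q + 1)).hom z = 0) :
    x • z ∈ LinearMap.range (K.d (q - 1) q).hom := by
  obtain ⟨zc, hzc⟩ := exists_cycle K q z hz
  have h0 : (K.homologyπ q).hom (x • zc) = 0 := by
    rw [map_smul]
    exact hJ q x hx _
  obtain ⟨w, hw⟩ := exists_of_homologyπ_eq_zero K q _ h0
  refine ⟨w, ?_⟩
  rw [← iCycles_toCycles, hw, map_smul, hzc]

lemma exists_c_at [IsNoetherianRing A] (hfin : ∀ q : ℤ, Module.Finite A (K.X q))
    (hJ : ∀ q : ℤ, ∀ x ∈ J, ∀ c : ↑(K.homology q), x • c = 0) (q : ℤ) :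
    ∃ c : ℕ, ∀ e : ℕ, ∀ z : K.X q, (K.d q (q + 1)).hom z = 0 →
      z ∈ J ^ (e + c) • (⊤ : Submodule A (K.X q)) →
      ∃ y : K.X (q - 1), y ∈ J ^ e • (⊤ : Submodule A (K.X (q - 1))) ∧
        (K.d (q - 1) q).hom y = z := by
  haveI := hfin q
  obtain ⟨c, hc⟩ := ar_step J (K.d (q - 1) q).hom (LinearMap.ker (K.d q (q + 1)).hom)
    (fun x hx z hz => smul_cycle_mem_range K J hJ q x hx z hz)
  refine ⟨c, fun e z hz hze => ?_⟩
  obtain ⟨y, hy, hyz⟩ := hc e z hz hze
  exact ⟨y, hy, hyz⟩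

lemma exists_c [IsNoetherianRing A] (hK : ∀ q : ℤ, q < a ∨ b < q → IsZero (K.X q))
    (hfin : ∀ q : ℤ, Module.Finite A (K.X q))
    (hJ : ∀ q : ℤ, ∀ x ∈ J, ∀ c : ↑(K.homology q), x • c = 0) :
    ∃ c : ℕ, ∀ (p q : ℤ) (_ : p + 1 = q), ∀ e : ℕ, ∀ z : K.X q, (K.d q (q + 1)).hom z = 0 →
      z ∈ J ^ (e + c) • (⊤ : Submodule A (K.X q)) →
      ∃ y : K.X p, y ∈ J ^ e • (⊤ : Submodule A (K.X p)) ∧ (K.d p q).hom y = z := by
  choose cq hcq using exists_c_at K J hfin hJ
  refine ⟨(Finset.Icc a b).sup cq, fun p q hpq e z hz hze => ?_⟩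
  obtain rfl : p = q - 1 := by omega
  by_cases hq : q ∈ Finset.Icc a b
  · have hle : cq q ≤ (Finset.Icc a b).sup cq := Finset.le_sup hq
    exact hcq q e z hz
      (Submodule.smul_mono (Ideal.pow_le_pow_right (by omega)) le_rfl hze)
  · have hq' : q < a ∨ b < q := by
      rw [Finset.mem_Icc] at hq
      omega
    haveI : Subsingleton (K.X q) := ModuleCat.subsingleton_of_isZero (hK q hq')
    exact ⟨0, zero_mem _, Subsingleton.elim _ _⟩

/-- the exponents -/
def ex (m c : ℕ) (q : ℤ) : ℕ := m + c * (q - a + 1).toNat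

lemma ex_eq (m c : ℕ) (p : ℤ) (hq : a ≤ p + 1) : ex a m c (p + 1) = ex a m c p + c := by
  unfold ex
  have h1 : (p + 1 - a + 1).toNat = (p - a + 1).toNat + 1 := by omega
  rw [h1]
  ring

lemma le_ex (m c : ℕ) (q : ℤ) : m ≤ ex a m c q := Nat.le_add_right _ _

lemma ex_le (m c : ℕ) (q : ℤ) (hq : q ≤ b) : ex a m c q ≤ c * (b - a + 1).toNat + m := by
  unfold ex
  have h1 : (q - a + 1).toNat ≤ (b - a + 1).toNat := by omega
  nlinarith [Nat.mul_le_mul_left c h1]

/-- the complex `J^p ⊗ K` -/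
noncomputable abbrev TK (p : ℕ) : CochainComplex (ModuleCat.{u} A) ℤ :=
  (((curriedTensor (ModuleCat.{u} A)).obj (ModuleCat.of A ↥(J ^ p))).mapHomologicalComplex
    (ComplexShape.up ℤ)).obj K

/-- multiplication `(J^p ⊗ K)^q ⟶ K^q` -/
noncomputable def μc (p : ℕ) (q : ℤ) : (TK K J p).X q →ₗ[A] K.X q := μ J p (K.X q)

lemma μc_injective (p : ℕ) (q : ℤ) [Module.Flat A (K.X q)] : Function.Injective (μc K J p q) :=
  μ_injective J p (K.X q)

lemma range_μc (p : ℕ) (q : ℤ) :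
    LinearMap.range (μc K J p q) = J ^ p • (⊤ : Submodule A (K.X q)) :=
  range_μ J p (K.X q)

lemma μ_d (p : ℕ) (i j : ℤ) (t : (TK K J p).X i) :
    μc K J p j (((TK K J p).d i j).hom t) = (K.d i j).hom (μc K J p i t) :=
  μ_whiskerLeft J p (K.d i j) t

/-- the terms of the acyclic subcomplex, inside `K` -/
noncomputable def Cq (m c : ℕ) (q : ℤ) : Submodule A (K.X q) :=
  (J ^ ex a m c q • ⊤) ⊓ Submodule.comap (K.d q (q + 1)).hom (J ^ ex a m c (q + 1) • ⊤)

/-- the terms of the acyclic subcomplex, inside `J^m ⊗ K` -/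
noncomputable def Sq (m c : ℕ) (q : ℤ) : Submodule A ((TK K J m).X q) :=
  Submodule.comap (μc K J m q) (Cq K a J m c q)

lemma hS (m c : ℕ) (i j : ℤ) (x : (TK K J m).X i) (hx : x ∈ Sq K a J m c i) :
    ((TK K J m).d i j).hom x ∈ Sq K a J m c j := by
  by_cases h : i + 1 = j
  · subst h
    change μc K J m (i + 1) (((TK K J m).d i (i + 1)).hom x) ∈ Cq K a J m c (i + 1)
    rw [μ_d]
    refine ⟨hx.2, ?_⟩
    have h0 : (K.d (i + 1) (i + 1 + 1)).hom ((K.d i (i + 1)).hom (μc K J m i x)) = 0 :=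
      congrArg (fun t => t.hom (μc K J m i x)) (K.d_comp_d i (i + 1) (i + 1 + 1))
    show (K.d (i + 1) (i + 1 + 1)).hom ((K.d i (i + 1)).hom (μc K J m i x)) ∈
      (J ^ ex a m c (i + 1 + 1) • ⊤ : Submodule A (K.X (i + 1 + 1)))
    exact h0 ▸ zero_mem _
  · rw [(TK K J m).shape i j h]
    exact zero_mem _


lemma acyclic (hK : ∀ q : ℤ, q < a ∨ b < q → IsZero (K.X q))
    (hproj : ∀ q : ℤ, Module.Projective A (K.X q)) (m c : ℕ)
    (hc : ∀ (p q : ℤ) (_ : p + 1 = q), ∀ e : ℕ, ∀ z : K.X q, (K.d q (q + 1)).hom z = 0 →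
      z ∈ J ^ (e + c) • (⊤ : Submodule A (K.X q)) →
      ∃ y : K.X p, y ∈ J ^ e • (⊤ : Submodule A (K.X p)) ∧ (K.d p q).hom y = z) :
    (subCx (TK K J m) (Sq K a J m c) (hS K a J m c)).Acyclic := by
  apply subCx_acyclic
  intro p q hpq z hz hdz
  subst hpq
  haveI : Module.Flat A (K.X (p + 1)) := by
    haveI := hproj (p + 1)
    infer_instance
  by_cases hq : a ≤ p + 1
  · have hμz : (K.d (p + 1) (p + 1 + 1)).hom (μc K J m (p + 1) z) = 0 := by
      rw [← μ_d, hdz, map_zero]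
    have hmem : μc K J m (p + 1) z ∈
        J ^ (ex a m c p + c) • (⊤ : Submodule A (K.X (p + 1))) := by
      rw [← ex_eq a m c p hq]
      exact hz.1
    obtain ⟨y₀, hy₀, hy₀z⟩ := hc p (p + 1) rfl _ _ hμz hmem
    have hy₀' : y₀ ∈ LinearMap.range (μc K J m p) := by
      rw [range_μc]
      exact Submodule.smul_mono (Ideal.pow_le_pow_right (le_ex a m c p)) le_rfl hy₀
    obtain ⟨y, rfl⟩ := hy₀'
    refine ⟨y, ⟨hy₀, ?_⟩, ?_⟩
    · show (K.d p (p + 1)).hom (μc K J m p y) ∈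
        (J ^ ex a m c (p + 1) • ⊤ : Submodule A (K.X (p + 1)))
      rw [hy₀z]
      exact hz.1
    · apply μc_injective K J m (p + 1)
      rw [μ_d]
      exact hy₀z
  · have hq' : p + 1 < a ∨ b < p + 1 := by omega
    haveI : Subsingleton (K.X (p + 1)) := ModuleCat.subsingleton_of_isZero (hK _ hq')
    have hz0 : z = 0 := by
      apply μc_injective K J m (p + 1)
      exact Subsingleton.elim _ _
    refine ⟨0, zero_mem _, ?_⟩
    rw [map_zero, hz0]

/-- the comparison map `J^(n+m) ⊗ K ⟶ J^m ⊗ K` -/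
noncomputable abbrev inclMap (n m : ℕ) : TK K J (n + m) ⟶ TK K J m :=
  (NatTrans.mapHomologicalComplex
    ((curriedTensor (ModuleCat.{u} A)).map
      (ModuleCat.ofHom (Submodule.inclusion (p := J ^ (n + m)) (p' := J ^ m)
        (Ideal.pow_le_pow_right (Nat.le_add_left m n)))))
    (ComplexShape.up ℤ)).app K

lemma μ_inclMap (n m : ℕ) (q : ℤ) (t : (TK K J (n + m)).X q) :
    μc K J m q (((inclMap K J n m).f q).hom t) = μc K J (n + m) q t :=
  μ_whiskerRight J m (K.X q) (Ideal.pow_le_pow_right (Nat.le_add_left m n)) t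

lemma inclMap_mem (hK : ∀ q : ℤ, q < a ∨ b < q → IsZero (K.X q)) (m c : ℕ) (q : ℤ)
    (t : (TK K J (c * (b - a + 1).toNat + m)).X q) :
    ((inclMap K J (c * (b - a + 1).toNat) m).f q).hom t ∈ Sq K a J m c q := by
  have key : ∀ (q : ℤ) (x : K.X q),
      x ∈ (J ^ (c * (b - a + 1).toNat + m) • ⊤ : Submodule A (K.X q)) →
      x ∈ (J ^ ex a m c q • ⊤ : Submodule A (K.X q)) := by
    intro q x hx
    by_cases hq : q ≤ b
    · exact Submodule.smul_mono (Ideal.pow_le_pow_right (ex_le a b m c q hq)) le_rfl hx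
    · haveI : Subsingleton (K.X q) :=
        ModuleCat.subsingleton_of_isZero (hK q (Or.inr (by omega)))
      rw [Subsingleton.elim x 0]
      exact zero_mem _
  have h1 : μc K J (c * (b - a + 1).toNat + m) q t ∈
      (J ^ (c * (b - a + 1).toNat + m) • ⊤ : Submodule A (K.X q)) := by
    rw [← range_μc]
    exact ⟨t, rfl⟩
  show μc K J m q (((inclMap K J (c * (b - a + 1).toNat) m).f q).hom t) ∈ Cq K a J m c q
  rw [μ_inclMap]
  refine ⟨key q _ h1, ?_⟩
  show (K.d q (q + 1)).hom (μc K J (c * (b - a + 1).toNat + m) q t) ∈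
    (J ^ ex a m c (q + 1) • ⊤ : Submodule A (K.X (q + 1)))
  rw [← μ_d]
  apply key
  rw [← range_μc]
  exact ⟨_, rfl⟩

theorem main [IsNoetherianRing A] [HasDerivedCategory.{w} (ModuleCat.{u} A)]
    (hK : ∀ q : ℤ, q < a ∨ b < q → IsZero (K.X q))
    (hfin : ∀ q : ℤ, Module.Finite A (K.X q)) (hproj : ∀ q : ℤ, Module.Projective A (K.X q))
    (hJ : ∀ q : ℤ, ∀ x ∈ J, ∀ c : ↑(K.homology q), x • c = 0) :
    ∃ n : ℕ, ∀ m : ℕ, DerivedCategory.Q.map (inclMap K J n m) = 0 := by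
  obtain ⟨c, hc⟩ := exists_c K a b J hK hfin hJ
  refine ⟨c * (b - a + 1).toNat, fun m => ?_⟩
  have hz : IsZero ((DerivedCategory.Q : _ ⥤ DerivedCategory (ModuleCat.{u} A)).obj
      (subCx (TK K J m) (Sq K a J m c) (hS K a J m c))) :=
    Groth.Agent.Lib.Helper17.Cpt.isZero_Q_obj_of_acyclic _ (acyclic K a b J hK hproj m c hc)
  rw [← subLift_ι (TK K J m) (Sq K a J m c) (hS K a J m c) (inclMap K J _ m)
    (inclMap_mem K a b J hK m c), Functor.map_comp]
  rw [hz.eq_of_tgt (DerivedCategory.Q.map (subLift (TK K J m) (Sq K a J m c) (hS K a J m c)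
    (inclMap K J _ m) (inclMap_mem K a b J hK m c))) 0, zero_comp]

end Main

end Groth.Agent.Lib.Helper10.ARD
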