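import Mathlib

/-!
# Kernel of `M → A ⊗[A'] M` for a surjective algebra map `A' → A`
-/

set_option autoImplicit false
universe u v w

namespace Groth.Agent.Lib.Helper10

open TensorProduct

section

variable {R : Type u} [CommRing R] (I : Ideal R)

theorem one_tmul_eq_zero_iff_mem_smul_top {M : Type v} [AddCommGroup M] [Module R M] (x : M) :
    ((1 : R ⧸ I) ⊗ₜ[R] x = 0) ↔ x ∈ (I • ⊤ : Submodule R M) := by
  rw [← (TensorProduct.quotTensorEquivQuotSMul M I).map_eq_zero_iff,
    TensorProduct.quotTensorEquivQuotSMul_mk_one_tmul, Submodule.Quotient.mk_eq_zero]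

end

section

variable {A' : Type u} {A : Type v} [CommRing A'] [CommRing A] [Algebra A' A]

/-- For a surjective algebra map `A' → A` with kernel `I`, `1 ⊗ m = 0` in `A ⊗[A'] M` iff
`m ∈ I M`. -/
theorem one_tmul_eq_zero_iff_of_surjective (hsurj : Function.Surjective (algebraMap A' A))
    {M : Type w} [AddCommGroup M] [Module A' M] (m : M) :
    ((1 : A) ⊗ₜ[A'] m = 0) ↔ m ∈ (RingHom.ker (algebraMap A' A) • ⊤ : Submodule A' M) := by
  have hsurj' : Function.Surjective (Algebra.ofId A' A) := hsurj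
  let e : (A' ⧸ RingHom.ker (Algebra.ofId A' A)) ≃ₐ[A'] A :=
    Ideal.quotientKerAlgEquivOfSurjective hsurj'
  have hker : RingHom.ker (Algebra.ofId A' A) = RingHom.ker (algebraMap A' A) := rfl
  let E : (A' ⧸ RingHom.ker (Algebra.ofId A' A)) ⊗[A'] M ≃ₗ[A'] A ⊗[A'] M :=
    LinearEquiv.rTensor M e.toLinearEquiv
  have hE : E ((1 : A' ⧸ RingHom.ker (Algebra.ofId A' A)) ⊗ₜ[A'] m) = (1 : A) ⊗ₜ[A'] m := by
    change (e 1) ⊗ₜ[A'] m = _
    rw [map_one]
  rw [← hE, E.map_eq_zero_iff, one_tmul_eq_zero_iff_mem_smul_top, hker]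

theorem exists_one_tmul_eq_of_surjective (hsurj : Function.Surjective (algebraMap A' A))
    {M : Type w} [AddCommGroup M] [Module A' M] (t : A ⊗[A'] M) :
    ∃ m : M, (1 : A) ⊗ₜ[A'] m = t :=
  TensorProduct.mk_surjective A' M A hsurj t

end

end Groth.Agent.Lib.Helper10
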