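import Mathlib
import Groth.Agent.Lib.Helper10Tensor

/-!
# Absolutely flat (von Neumann regular) rings
-/

set_option autoImplicit false
universe u v

open TensorProduct

namespace Groth.Agent.Lib.Helper10

variable (A : Type u) [CommRing A]

/-- von Neumann regularity. -/
def IsVNR : Prop := ∀ a : A, ∃ b : A, a = a * a * b

variable {A}

/-- If every cyclic quotient `A ⧸ (a)` is flat then `A` is von Neumann regular. -/
theorem isVNR_of_flat (h : ∀ a : A, Module.Flat A (A ⧸ Ideal.span {a})) : IsVNR A := by
  intro a
  set I : Ideal A := Ideal.span {a} with hI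
  have haI : a ∈ I := Ideal.subset_span rfl
  have := h a
  have hinj : Function.Injective (LinearMap.lTensor (A ⧸ I) (Submodule.subtype I)) :=
    Module.Flat.lTensor_preserves_injective_linearMap (M := A ⧸ I) (Submodule.subtype I)
      Subtype.val_injective
  have h0 : (1 : A ⧸ I) ⊗ₜ[A] (⟨a, haI⟩ : I) = 0 := by
    apply hinj
    rw [map_zero, LinearMap.lTensor_tmul]
    change (1 : A ⧸ I) ⊗ₜ[A] a = 0
    have : a = a • (1 : A) := by simp
    rw [this, ← TensorProduct.smul_tmul]
    have : a • (1 : A ⧸ I) = 0 := by
      rw [Algebra.smul_def, mul_one]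
      exact Ideal.Quotient.eq_zero_iff_mem.2 haI
    rw [this, TensorProduct.zero_tmul]
  rw [one_tmul_eq_zero_iff_mem_smul_top] at h0
  have h1 : a ∈ I * I := by
    have := Submodule.mem_map_of_mem (f := Submodule.subtype I) h0
    rw [Submodule.map_smul'', Submodule.map_top, Submodule.range_subtype] at this
    exact this
  rw [hI, Ideal.span_singleton_mul_span_singleton, Ideal.mem_span_singleton'] at h1
  obtain ⟨b, hb⟩ := h1
  exact ⟨b, hb.symm.trans (mul_comm _ _)⟩

theorem IsVNR.isReduced (h : IsVNR A) : IsReduced A := by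
  refine ⟨fun a ⟨n, hn⟩ => ?_⟩
  obtain ⟨b, hb⟩ := h a
  have key : ∀ k : ℕ, a = a ^ (k + 1) * b ^ k := by
    intro k
    induction k with
    | zero => simp
    | succ k ih =>
      calc a = a ^ (k + 1) * b ^ k := ih
        _ = a ^ k * (a * a * b) * b ^ k := by rw [← hb]; ring
        _ = a ^ (k + 1 + 1) * b ^ (k + 1) := by ring
  rw [key n, pow_succ, hn, zero_mul, zero_mul]

theorem IsVNR.isMaximal_of_isPrime (h : IsVNR A) (p : Ideal A) (hp : p.IsPrime) : p.IsMaximal := by
  have := hp
  apply Ideal.Quotient.maximal_of_isField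
  refine ⟨⟨0, 1, zero_ne_one⟩, mul_comm, ?_⟩
  intro x hx
  obtain ⟨a, rfl⟩ := Ideal.Quotient.mk_surjective x
  obtain ⟨b, hb⟩ := h a
  refine ⟨Ideal.Quotient.mk p b, ?_⟩
  have h1 : Ideal.Quotient.mk p a * (Ideal.Quotient.mk p a * Ideal.Quotient.mk p b - 1) = 0 := by
    rw [← map_mul, ← map_one (Ideal.Quotient.mk p), ← map_sub, ← map_mul, mul_sub, mul_one,
      ← mul_assoc, ← hb, sub_self, map_zero]
  rcases mul_eq_zero.1 h1 with h2 | h2
  · exact absurd h2 hx
  · exact sub_eq_zero.1 h2

/-- Reduced rings in which every prime is maximal have fields as local rings. -/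
theorem isField_localization_of_isReduced_of_isMaximal [IsReduced A]
    (h : ∀ p : Ideal A, p.IsPrime → p.IsMaximal) (p : Ideal A) [p.IsPrime] :
    IsField (Localization.AtPrime p) := by
  have : Ring.KrullDimLE 0 A := Ring.KrullDimLE.mk₀ h
  have : Ring.KrullDimLE 0 (Localization.AtPrime p) :=
    Ring.KrullDimLE.of_isLocalization p (Ideal.mem_minimalPrimes_of_krullDimLE_zero p) _
  exact Ring.KrullDimLE.isField_of_isReduced

/-- If all local rings at maximal ideals are fields, every module is flat. -/
theorem flat_of_isField_localization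
    (h : ∀ (p : Ideal A) [p.IsMaximal], IsField (Localization.AtPrime p))
    (M : Type v) [AddCommGroup M] [Module A M] : Module.Flat A M := by
  refine Module.flat_of_localized_maximal M fun P _ => ?_
  letI : Field (Localization.AtPrime P) := (h P).toField
  have : Module.Flat (Localization.AtPrime P) (LocalizedModule P.primeCompl M) :=
    inferInstance
  exact Module.Flat.trans A (Localization.AtPrime P) (LocalizedModule P.primeCompl M)

theorem IsVNR.flat (h : IsVNR A) (M : Type v) [AddCommGroup M] [Module A M] : Module.Flat A M := by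
  have := h.isReduced
  exact flat_of_isField_localization
    (fun p _ => isField_localization_of_isReduced_of_isMaximal h.isMaximal_of_isPrime p) M

theorem isVNR_pi_field (ι : Type u) (K : ι → Type v) [∀ i, Field (K i)] : IsVNR (∀ i, K i) := by
  intro a
  refine ⟨fun i => (a i)⁻¹, ?_⟩
  funext i
  by_cases hi : a i = 0
  · simp [hi]
  · simp only [Pi.mul_apply]
    field_simp

end Groth.Agent.Lib.Helper10
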