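import Mathlib
set_option backward.isDefEq.respectTransparency.types false

/-!
# Adic completion and a weak Artin–Rees property (helper10)

`WAR I f`: there is `k` with `I^(n+k) N ∩ range f ⊆ I^n range f` for all `n`.
* `map_injective_of_WAR`: completion preserves injectivity of maps with the weak Artin–Rees property;
* `map_exact_of_WAR`: completion is exact on short exact sequences whose first map has the weak
  Artin–Rees property (generalising Mathlib's `AdicCompletion.map_exact`, which treats finite modules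
  over Noetherian rings).
-/

set_option autoImplicit false
universe u

namespace Groth.Agent.Lib.Helper10.AdicFlat

open LinearMap AdicCompletion

variable {R : Type u} [CommRing R] (I : Ideal R)
variable {M : Type u} [AddCommGroup M] [Module R M]
variable {N : Type u} [AddCommGroup N] [Module R N]
variable {P : Type u} [AddCommGroup P] [Module R P]

/-- weak Artin–Rees property of a linear map -/
def WAR (f : M →ₗ[R] N) : Prop :=
  ∃ k : ℕ, ∀ n : ℕ, (I ^ (n + k) • ⊤ ⊓ LinearMap.range f : Submodule R N) ≤ I ^ n • LinearMap.range f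

variable {I}

theorem map_injective_of_WAR {f : M →ₗ[R] N} (hf : Function.Injective f) (h : WAR I f) :
    Function.Injective (AdicCompletion.map I f) := by
  obtain ⟨k, hk⟩ := h
  rw [← LinearMap.ker_eq_bot, LinearMap.ker_eq_bot']
  intro x
  apply AdicCompletion.induction_on I M x (fun a ↦ ?_)
  intro hx
  refine AdicCompletion.mk_zero_of _ _ _ ⟨42, fun n _ ↦ ⟨n + k, by lia, n, by lia, ?_⟩⟩
  rw [← Submodule.comap_map_eq_of_injective hf (I ^ n • ⊤ : Submodule R M),
    Submodule.map_smul'', Submodule.map_top]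
  apply hk n
  exact ⟨by simpa using congrArg (fun x ↦ x.val (n + k)) hx, ⟨a (n + k), rfl⟩⟩

section

variable {f : M →ₗ[R] N} {g : N →ₗ[R] P} (hf : Function.Injective f)
  (hfg : Function.Exact f g) (hg : Function.Surjective g)

section

variable {k : ℕ}
  (hkn : ∀ n : ℕ, (I ^ (n + k) • ⊤ ⊓ LinearMap.range f : Submodule R N) ≤ I ^ n • LinearMap.range f)
  (x : AdicCauchySequence I N) (hker : ∀ (n : ℕ), g (x n) ∈ (I ^ n • ⊤ : Submodule R P))

include hf hkn in
lemma exists_delta {n : ℕ} {d : N}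
    (hdmem : d ∈ (I ^ (k + n + 1) • ⊤ : Submodule R N)) {y yₙ : M}
    (hd : f y = x (k + n + 1) - d) (hyₙ : f yₙ - x (k + n) ∈ (I ^ (k + n) • ⊤ : Submodule R N)) :
    ∃ d' : M, d' ∈ (I ^ n • ⊤ : Submodule R M) ∧
      f (yₙ + d') - x (k + n + 1) ∈ (I ^ (k + n + 1) • ⊤ : Submodule R N) := by
  have h : f (y - yₙ) ∈ (I ^ (k + n) • ⊤ : Submodule R N) := by
    simp only [map_sub, hd]
    convert_to x (k + n + 1) - x (k + n) - d - (f yₙ - x (k + n)) ∈ I ^ (k + n) • ⊤
    · abel
    · refine Submodule.sub_mem _ (Submodule.sub_mem _ ?_ ?_) hyₙ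
      · rw [← Submodule.Quotient.eq]
        exact AdicCauchySequence.mk_eq_mk (by lia) _
      · exact (Submodule.smul_mono_left (Ideal.pow_le_pow_right (by lia))) hdmem
  have hyyₙ : y - yₙ ∈ (I ^ n • ⊤ : Submodule R M) := by
    rw [← Submodule.comap_map_eq_of_injective hf (I ^ n • ⊤ : Submodule R M),
      Submodule.map_smul'', Submodule.map_top]
    apply hkn n
    rw [add_comm n k]
    exact ⟨h, ⟨y - yₙ, rfl⟩⟩
  refine ⟨y - yₙ, hyyₙ, ?_⟩
  have : f (yₙ + (y - yₙ)) - x (k + n + 1) = -d := by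
    rw [add_sub_cancel, hd]; abel
  rw [this]
  exact Submodule.neg_mem _ hdmem

include hfg hg hker in
lemma exists_pre (n : ℕ) : ∃ (d : N) (y : M),
    d ∈ (I ^ (k + n) • ⊤ : Submodule R N) ∧ f y = x (k + n) - d := by
  have h1 : g (x (k + n)) ∈ Submodule.map g (I ^ (k + n) • ⊤ : Submodule R N) := by
    rw [Submodule.map_smul'', Submodule.map_top, LinearMap.range_eq_top.mpr hg]
    exact hker (k + n)
  obtain ⟨d, hdmem, hd⟩ := h1
  obtain ⟨y, hdy⟩ := (hfg (x (k + n) - d)).mp (by simp [hd])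
  exact ⟨d, y, hdmem, hdy⟩

include hf hfg hg hkn hker in
/-- a compatible sequence of approximate preimages -/
lemma exists_seq : ∃ a : ℕ → M, (∀ n, f (a n) - x (k + n) ∈ (I ^ (k + n) • ⊤ : Submodule R N)) ∧
    ∀ n, a (n + 1) - a n ∈ (I ^ n • ⊤ : Submodule R M) := by
  have step : ∀ (n : ℕ) (yₙ : M), f yₙ - x (k + n) ∈ (I ^ (k + n) • ⊤ : Submodule R N) →
      ∃ y' : M, f y' - x (k + (n + 1)) ∈ (I ^ (k + (n + 1)) • ⊤ : Submodule R N) ∧
        y' - yₙ ∈ (I ^ n • ⊤ : Submodule R M) := by
    intro n yₙ hyₙ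
    obtain ⟨d, y, hdmem, hdy⟩ := exists_pre hfg hg x hker (k := k) (n + 1)
    obtain ⟨d', hd'mem, hd'⟩ := exists_delta hf hkn x (n := n) hdmem hdy hyₙ
    exact ⟨yₙ + d', hd', by simpa using hd'mem⟩
  obtain ⟨d0, y0, hd0, hy0⟩ := exists_pre hfg hg x hker (k := k) 0
  have h0 : f y0 - x (k + 0) ∈ (I ^ (k + 0) • ⊤ : Submodule R N) := by
    rw [hy0]
    simpa using Submodule.neg_mem _ hd0
  let F : (n : ℕ) → {y : M // f y - x (k + n) ∈ (I ^ (k + n) • ⊤ : Submodule R N)} := fun n =>
    Nat.rec ⟨y0, h0⟩ (fun n p => ⟨(step n p.1 p.2).choose, (step n p.1 p.2).choose_spec.1⟩) n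
  refine ⟨fun n => (F n).1, fun n => (F n).2, fun n => ?_⟩
  exact (step n (F n).1 (F n).2).choose_spec.2

end

include hf hfg hg in
/-- completion is exact on short exact sequences whose first map has the weak Artin–Rees property -/
theorem map_exact_of_WAR (h : WAR I f) :
    Function.Exact (AdicCompletion.map I f) (AdicCompletion.map I g) := by
  refine LinearMap.exact_of_comp_eq_zero_of_ker_le_range ?_ (fun y ↦ ?_)
  · rw [AdicCompletion.map_comp, hfg.linearMap_comp_eq_zero, AdicCompletion.map_zero]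
  · apply AdicCompletion.induction_on I N y (fun b ↦ ?_)
    intro hz
    obtain ⟨k, hk⟩ := h
    have hb (n : ℕ) : g (b n) ∈ (I ^ n • ⊤ : Submodule R P) := by
      simpa using congrArg (fun x ↦ x.val n) hz
    obtain ⟨a, ha1, ha2⟩ := exists_seq hf hfg hg hk b hb
    refine ⟨AdicCompletion.mk I M (AdicCauchySequence.mk I M (fun n ↦ a n) ?_), ?_⟩
    · refine fun n ↦ SModEq.symm ?_
      rw [SModEq.sub_mem]
      exact ha2 n
    · ext n
      suffices h : Submodule.Quotient.mk (p := (I ^ n • ⊤ : Submodule R N)) (f (a n)) =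
            Submodule.Quotient.mk (p := (I ^ n • ⊤ : Submodule R N)) (b (k + n)) by
        simp [h, AdicCauchySequence.mk_eq_mk (show n ≤ k + n by lia)]
      rw [Submodule.Quotient.eq]
      have hle : (I ^ (k + n) • ⊤ : Submodule R N) ≤ (I ^ n • ⊤ : Submodule R N) :=
        Submodule.smul_mono_left (Ideal.pow_le_pow_right (by lia))
      exact hle (ha1 n)

end

end Groth.Agent.Lib.Helper10.AdicFlat
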