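import Mathlib
import Groth.Agent.Lib.Helper10AdicFlatA
set_option backward.isDefEq.respectTransparency.types false

/-!
# Completion of a flat module over a Noetherian ring (helper10)

`A` Noetherian, `I` an ideal, `N` a flat `A`-module.
* `war_lTensor`: for `f : K₁ → K`, `K` finite, `N ⊗ f` has the weak Artin–Rees property;
* `map_lTensor_injective`, `map_lTensor_exact`: `K ↦ (N ⊗ K)^` is exact on finite modules;
* `σ I N K : N^ ⊗ K → (N ⊗ K)^`, `σ_bijective` for finite `K`;
* `flat_adicCompletion`: `N^` is flat.
-/

set_option autoImplicit false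
universe u

namespace Groth.Agent.Lib.Helper10.AdicFlat

open LinearMap AdicCompletion TensorProduct

section T

variable {A : Type u} [CommRing A]
variable (N : Type u) [AddCommGroup N] [Module A N]
variable {K : Type u} [AddCommGroup K] [Module A K]

/-- the image of `N ⊗ U` in `N ⊗ K` -/
def T (U : Submodule A K) : Submodule A (N ⊗[A] K) := LinearMap.range (U.subtype.lTensor N)

lemma tmul_mem_T {U : Submodule A K} (n : N) {u : K} (hu : u ∈ U) : n ⊗ₜ[A] u ∈ T N U :=
  ⟨n ⊗ₜ ⟨u, hu⟩, rfl⟩

lemma T_mono {U V : Submodule A K} (h : U ≤ V) : T N U ≤ T N V := by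
  rintro _ ⟨w, rfl⟩
  refine ⟨(Submodule.inclusion h).lTensor N w, ?_⟩
  rw [← LinearMap.comp_apply, ← LinearMap.lTensor_comp]
  rfl

lemma smul_top_le_T (J : Ideal A) :
    (J • ⊤ : Submodule A (N ⊗[A] K)) ≤ T N (J • ⊤ : Submodule A K) := by
  rw [Submodule.smul_le]
  intro a ha z _
  clear ‹z ∈ _›
  induction z using TensorProduct.induction_on with
  | zero => rw [smul_zero]; exact Submodule.zero_mem _
  | tmul n k =>
    rw [← TensorProduct.tmul_smul]
    exact tmul_mem_T N n (Submodule.smul_mem_smul ha Submodule.mem_top)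
  | add x y hx hy => rw [smul_add]; exact Submodule.add_mem _ hx hy

lemma T_smul_le (J : Ideal A) (U : Submodule A K) : T N (J • U) ≤ J • T N U := by
  have key : ∀ u ∈ J • U, ∀ n : N, n ⊗ₜ[A] u ∈ J • T N U := by
    intro u hu n
    refine Submodule.smul_induction_on hu ?_ ?_
    · intro a ha k hk
      rw [TensorProduct.tmul_smul]
      exact Submodule.smul_mem_smul ha (tmul_mem_T N n hk)
    · intro x y hx hy
      rw [TensorProduct.tmul_add]
      exact Submodule.add_mem _ hx hy
  rintro _ ⟨w, rfl⟩
  induction w using TensorProduct.induction_on with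
  | zero => rw [_root_.map_zero]; exact Submodule.zero_mem _
  | tmul n u => exact key u.1 u.2 n
  | add x y hx hy => rw [map_add]; exact Submodule.add_mem _ hx hy

lemma T_inf_le [Module.Flat A N] (U V : Submodule A K) : T N U ⊓ T N V ≤ T N (U ⊓ V) := by
  rintro x ⟨⟨u, rfl⟩, ⟨v, hv⟩⟩
  let g : U →ₗ[A] K ⧸ V := V.mkQ ∘ₗ U.subtype
  have hex : Function.Exact (LinearMap.ker g).subtype g := LinearMap.exact_subtype_ker_map g
  have hex' := Module.Flat.lTensor_exact N hex
  have hgu : g.lTensor N u = 0 := by
    have h1 : g.lTensor N u = V.mkQ.lTensor N (U.subtype.lTensor N u) := by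
      rw [← LinearMap.comp_apply, ← LinearMap.lTensor_comp]
    rw [h1, ← hv, ← LinearMap.comp_apply, ← LinearMap.lTensor_comp]
    have h2 : V.mkQ ∘ₗ V.subtype = 0 :=
      LinearMap.ext fun y => (Submodule.Quotient.mk_eq_zero V).2 y.2
    rw [h2, LinearMap.lTensor_zero, LinearMap.zero_apply]
  obtain ⟨w, rfl⟩ := (hex' u).1 hgu
  let j : LinearMap.ker g →ₗ[A] (U ⊓ V : Submodule A K) :=
    LinearMap.codRestrict (U ⊓ V) (U.subtype ∘ₗ (LinearMap.ker g).subtype)
      (fun c => ⟨c.1.2, (Submodule.Quotient.mk_eq_zero V).1 c.2⟩)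
  refine ⟨j.lTensor N w, ?_⟩
  rw [← LinearMap.comp_apply, ← LinearMap.lTensor_comp, ← LinearMap.comp_apply,
    ← LinearMap.lTensor_comp]
  rfl

end T

section Exact

variable {A : Type u} [CommRing A] [IsNoetherianRing A] (I : Ideal A)
variable (N : Type u) [AddCommGroup N] [Module A N] [Module.Flat A N]
variable {K : Type u} [AddCommGroup K] [Module A K] [Module.Finite A K]
variable {K₁ : Type u} [AddCommGroup K₁] [Module A K₁]
variable {K₂ : Type u} [AddCommGroup K₂] [Module A K₂]

theorem war_lTensor (f : K₁ →ₗ[A] K) : WAR I (f.lTensor N) := by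
  obtain ⟨k, hk⟩ := Ideal.exists_pow_inf_eq_pow_smul I (LinearMap.range f)
  have hr : LinearMap.range (f.lTensor N) = T N (LinearMap.range f) := by
    have h0 : f = (LinearMap.range f).subtype ∘ₗ f.rangeRestrict :=
      (LinearMap.subtype_comp_codRestrict _ _ _).symm
    conv_lhs => rw [h0, LinearMap.lTensor_comp, LinearMap.range_comp,
      LinearMap.range_eq_top.2 (LinearMap.lTensor_surjective N f.surjective_rangeRestrict),
      Submodule.map_top]
    rfl
  refine ⟨k, fun n => ?_⟩
  rw [hr]
  calc (I ^ (n + k) • ⊤ ⊓ T N (LinearMap.range f) : Submodule A (N ⊗[A] K))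
      ≤ T N (I ^ (n + k) • ⊤ : Submodule A K) ⊓ T N (LinearMap.range f) :=
        inf_le_inf_right _ (smul_top_le_T N _)
    _ ≤ T N (I ^ (n + k) • ⊤ ⊓ LinearMap.range f) := T_inf_le N _ _
    _ ≤ T N (I ^ n • LinearMap.range f) := T_mono N (by
        rw [hk (n + k) (by lia), Nat.add_sub_cancel]
        exact smul_mono_right _ inf_le_right)
    _ ≤ I ^ n • T N (LinearMap.range f) := T_smul_le N _ _

theorem map_lTensor_injective (f : K₁ →ₗ[A] K) (hf : Function.Injective f) :
    Function.Injective (AdicCompletion.map I (f.lTensor N)) :=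
  map_injective_of_WAR (Module.Flat.lTensor_preserves_injective_linearMap f hf) (war_lTensor I N f)

theorem map_lTensor_exact (f : K₁ →ₗ[A] K) (g : K →ₗ[A] K₂) (hf : Function.Injective f)
    (hfg : Function.Exact f g) (hg : Function.Surjective g) :
    Function.Exact (AdicCompletion.map I (f.lTensor N)) (AdicCompletion.map I (g.lTensor N)) :=
  map_exact_of_WAR (Module.Flat.lTensor_preserves_injective_linearMap f hf)
    (lTensor_exact N hfg hg) (LinearMap.lTensor_surjective N hg) (war_lTensor I N f)

end Exact

section Sigma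

variable {A : Type u} [CommRing A] (I : Ideal A)

section MapLin

variable {M M' : Type u} [AddCommGroup M] [Module A M] [AddCommGroup M'] [Module A M']

lemma map_add_apply (f g : M →ₗ[A] M') (x : AdicCompletion I M) :
    AdicCompletion.map I (f + g) x = AdicCompletion.map I f x + AdicCompletion.map I g x := by
  apply AdicCompletion.induction_on I M x (fun a => ?_)
  rw [map_mk, map_mk, map_mk]
  ext n
  simp

lemma map_smul_apply (c : A) (f : M →ₗ[A] M') (x : AdicCompletion I M) :
    AdicCompletion.map I (c • f) x = c • AdicCompletion.map I f x := by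
  apply AdicCompletion.induction_on I M x (fun a => ?_)
  rw [map_mk, map_mk]
  ext n
  simp [AdicCompletion.val_smul_apply]

end MapLin

variable (N : Type u) [AddCommGroup N] [Module A N]
variable (K : Type u) [AddCommGroup K] [Module A K]

/-- the canonical map `N^ ⊗ K → (N ⊗ K)^` -/
noncomputable def σ : AdicCompletion I N ⊗[A] K →ₗ[A] AdicCompletion I (N ⊗[A] K) :=
  TensorProduct.lift
    (LinearMap.mk₂ A
      (fun (x : AdicCompletion I N) (k : K) =>
        AdicCompletion.map I ((TensorProduct.mk A N K).flip k) x)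
      (fun x y k => _root_.map_add _ x y)
      (fun a x k => LinearMap.map_smul_of_tower _ a x)
      (fun x k k' => by
        rw [_root_.map_add ((TensorProduct.mk A N K).flip) k k']
        exact map_add_apply I _ _ x)
      (fun a x k => by
        rw [_root_.map_smul ((TensorProduct.mk A N K).flip) a k]
        exact map_smul_apply I a _ x))

variable {K}

@[simp] lemma σ_tmul (x : AdicCompletion I N) (k : K) :
    σ I N K (x ⊗ₜ k) = AdicCompletion.map I ((TensorProduct.mk A N K).flip k) x := rfl

lemma σ_of_tmul (n : N) (k : K) :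
    σ I N K (AdicCompletion.of I N n ⊗ₜ k) = AdicCompletion.of I (N ⊗[A] K) (n ⊗ₜ k) := by
  rw [σ_tmul, map_of]
  rfl

lemma σ_naturality {K' : Type u} [AddCommGroup K'] [Module A K'] (h : K →ₗ[A] K')
    (z : AdicCompletion I N ⊗[A] K) :
    AdicCompletion.map I (h.lTensor N) (σ I N K z) = σ I N K' (h.lTensor (AdicCompletion I N) z) := by
  induction z using TensorProduct.induction_on with
  | zero => simp
  | tmul x k =>
    rw [σ_tmul, LinearMap.lTensor_tmul, σ_tmul, AdicCompletion.map_comp_apply]
    congr 1
  | add x y hx hy => rw [_root_.map_add, _root_.map_add, _root_.map_add, _root_.map_add, hx, hy]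

end Sigma

section Free

variable {A : Type u} [CommRing A] (I : Ideal A)
variable (N : Type u) [AddCommGroup N] [Module A N]

lemma piEquiv_apply' (ι : Type) [Fintype ι] [DecidableEq ι] (y : AdicCompletion I (ι → N)) (i : ι) :
    AdicCompletion.piEquivOfFintype I (fun _ : ι => N) y i =
      AdicCompletion.map I (LinearMap.proj i : (ι → N) →ₗ[A] N) y := by
  rw [AdicCompletion.piEquivOfFintype_apply]
  rfl

lemma σ_pi_key (ι : Type) [Fintype ι] [DecidableEq ι] (z : AdicCompletion I N ⊗[A] (ι → A)) :
    AdicCompletion.piEquivOfFintype I (fun _ : ι => N)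
      (AdicCompletion.congr I (TensorProduct.piScalarRight A A N ι) (σ I N (ι → A) z)) =
    TensorProduct.piScalarRight A A (AdicCompletion I N) ι z := by
  induction z using TensorProduct.induction_on with
  | zero => simp
  | tmul x v =>
    funext i
    rw [σ_tmul, AdicCompletion.congr_apply, piEquiv_apply',
      AdicCompletion.map_comp_apply, AdicCompletion.map_comp_apply,
      TensorProduct.piScalarRight_apply, TensorProduct.piScalarRightHom_tmul]
    have h : ((LinearMap.proj i ∘ₗ (TensorProduct.piScalarRight A A N ι).toLinearMap) ∘ₗ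
        (TensorProduct.mk A N (ι → A)).flip v : N →ₗ[A] N) = v i • LinearMap.id := by
      ext n
      simp [TensorProduct.piScalarRight_apply, TensorProduct.piScalarRightHom_tmul]
    rw [h, map_smul_apply, AdicCompletion.map_id]
    rfl
  | add x y hx hy => simp only [_root_.map_add, hx, hy]

lemma σ_bijective_pi (ι : Type) [Finite ι] : Function.Bijective (σ I N (ι → A)) := by
  classical
  cases nonempty_fintype ι
  have h1 : Function.Bijective (fun y : AdicCompletion I (N ⊗[A] (ι → A)) =>
      AdicCompletion.piEquivOfFintype I (fun _ : ι => N)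
        (AdicCompletion.congr I (TensorProduct.piScalarRight A A N ι) y)) :=
    (AdicCompletion.piEquivOfFintype I (fun _ : ι => N)).bijective.comp
      (AdicCompletion.congr I (TensorProduct.piScalarRight A A N ι)).bijective
  have h2 : (fun y : AdicCompletion I (N ⊗[A] (ι → A)) =>
      AdicCompletion.piEquivOfFintype I (fun _ : ι => N)
        (AdicCompletion.congr I (TensorProduct.piScalarRight A A N ι) y)) ∘ (σ I N (ι → A)) =
      (TensorProduct.piScalarRight A A (AdicCompletion I N) ι) := by
    funext z
    exact σ_pi_key I N ι z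
  refine (Function.Bijective.of_comp_iff' h1 _).1 ?_
  rw [h2]
  exact (TensorProduct.piScalarRight A A (AdicCompletion I N) ι).bijective

variable (K : Type u) [AddCommGroup K] [Module A K]

lemma σ_surjective [Module.Finite A K] : Function.Surjective (σ I N K) := by
  obtain ⟨n, p, hp⟩ := Module.Finite.exists_fin' A K
  intro y
  obtain ⟨y', rfl⟩ := AdicCompletion.map_surjective I (LinearMap.lTensor_surjective N hp) y
  obtain ⟨z, rfl⟩ := (σ_bijective_pi I N (Fin n)).2 y'
  exact ⟨p.lTensor (AdicCompletion I N) z, (σ_naturality I N p z).symm⟩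

theorem σ_bijective [IsNoetherianRing A] [Module.Flat A N] [Module.Finite A K] :
    Function.Bijective (σ I N K) := by
  refine ⟨?_, σ_surjective I N K⟩
  obtain ⟨n, p, hp⟩ := Module.Finite.exists_fin' A K
  have hE1 := lTensor_exact (AdicCompletion I N) (LinearMap.exact_subtype_ker_map p) hp
  have hE2 := map_lTensor_exact I N (LinearMap.ker p).subtype p (Submodule.injective_subtype _)
    (LinearMap.exact_subtype_ker_map p) hp
  rw [injective_iff_map_eq_zero]
  intro x hx
  obtain ⟨y, rfl⟩ := LinearMap.lTensor_surjective (AdicCompletion I N) hp x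
  rw [← σ_naturality] at hx
  obtain ⟨z, hz⟩ := (hE2 _).1 hx
  obtain ⟨w, rfl⟩ := σ_surjective I N (LinearMap.ker p) z
  rw [σ_naturality] at hz
  have hy := (σ_bijective_pi I N (Fin n)).1 hz
  rw [← hy]
  exact (hE1 _).2 ⟨w, rfl⟩

/-- **The adic completion of a flat module over a Noetherian ring is flat.** -/
theorem flat_adicCompletion [IsNoetherianRing A] [Module.Flat A N] :
    Module.Flat A (AdicCompletion I N) := by
  rw [Module.Flat.iff_lTensor_injective']
  intro J
  have h1 : Function.Injective (fun z => σ I N A (J.subtype.lTensor (AdicCompletion I N) z)) := by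
    have : (fun z => σ I N A (J.subtype.lTensor (AdicCompletion I N) z)) =
        (AdicCompletion.map I (J.subtype.lTensor N)) ∘ (σ I N J) := by
      funext z
      exact (σ_naturality I N J.subtype z).symm
    rw [this]
    exact (map_lTensor_injective I N J.subtype (Submodule.injective_subtype _)).comp
      (σ_bijective I N J).1
  exact Function.Injective.of_comp h1

end Free

section Left

variable {A : Type u} [CommRing A] (I : Ideal A)
variable (M N : Type u) [AddCommGroup M] [Module A M] [AddCommGroup N] [Module A N]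

/-- the canonical map `M ⊗ N^ → (M ⊗ N)^` -/
noncomputable def τ : M ⊗[A] AdicCompletion I N →ₗ[A] AdicCompletion I (M ⊗[A] N) :=
  ((AdicCompletion.congr I (TensorProduct.comm A N M)).toLinearMap.restrictScalars A) ∘ₗ
    σ I N M ∘ₗ (TensorProduct.comm A M (AdicCompletion I N)).toLinearMap

lemma τ_tmul_of (m : M) (n : N) :
    τ I M N (m ⊗ₜ AdicCompletion.of I N n) = AdicCompletion.of I (M ⊗[A] N) (m ⊗ₜ n) := by
  change AdicCompletion.congr I (TensorProduct.comm A N M)
    (σ I N M (AdicCompletion.of I N n ⊗ₜ m)) = _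
  rw [σ_of_tmul, AdicCompletion.congr_apply, AdicCompletion.map_of]
  rfl

theorem τ_bijective [IsNoetherianRing A] [Module.Flat A N] [Module.Finite A M] :
    Function.Bijective (τ I M N) :=
  (AdicCompletion.congr I (TensorProduct.comm A N M)).bijective.comp
    ((σ_bijective I N M).comp (TensorProduct.comm A M (AdicCompletion I N)).bijective)

end Left

end Groth.Agent.Lib.Helper10.AdicFlat
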