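import Mathlib
set_option backward.isDefEq.respectTransparency.types false

/-!
# Tensor products of complexes and short exact sequences (helper1, K-flat cluster, part 1)
-/

set_option autoImplicit false
universe u
open CategoryTheory CategoryTheory.Limits MonoidalCategory HomologicalComplex

namespace Groth.Agent.Lib.Helper1.KF

section general

variable {C : Type*} [Category C] [Abelian C]

/-- pointwise short exactness in functor categories -/
lemma shortExact_of_forall_app {J : Type*} [Category J]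
    (S : ShortComplex (J ⥤ C)) (h : ∀ j, (S.map ((evaluation J C).obj j)).ShortExact) :
    S.ShortExact := by
  have hex : S.Exact := by
    rw [ShortComplex.exact_iff_isZero_homology, Functor.isZero_iff]
    intro j
    exact IsZero.of_iso ((ShortComplex.exact_iff_isZero_homology _).1 (h j).exact)
      (S.mapHomologyIso ((evaluation J C).obj j)).symm
  have : Mono S.f := by
    have : ∀ j, Mono (S.f.app j) := fun j => (h j).mono_f
    exact NatTrans.mono_of_mono_app _
  have : Epi S.g := by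
    have : ∀ j, Epi (S.g.app j) := fun j => (h j).epi_g
    exact NatTrans.epi_of_epi_app _
  exact ⟨hex⟩

/-- a coproduct of short exact sequences is short exact (AB4), cofan version -/
lemma shortExact_of_isColimit_cofan {ι : Type*} [HasColimitsOfShape (Discrete ι) C]
    [HasExactColimitsOfShape (Discrete ι) C]
    {X₁ X₂ X₃ : ι → C} (f : ∀ i, X₁ i ⟶ X₂ i) (g : ∀ i, X₂ i ⟶ X₃ i)
    (w : ∀ i, f i ≫ g i = 0) (h : ∀ i, (ShortComplex.mk (f i) (g i) (w i)).ShortExact)
    {c₁ : Cofan X₁} {c₂ : Cofan X₂} {c₃ : Cofan X₃}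
    (h₁ : IsColimit c₁) (h₂ : IsColimit c₂) (h₃ : IsColimit c₃)
    (a : c₁.pt ⟶ c₂.pt) (b : c₂.pt ⟶ c₃.pt)
    (ha : ∀ i, c₁.inj i ≫ a = f i ≫ c₂.inj i) (hb : ∀ i, c₂.inj i ≫ b = g i ≫ c₃.inj i)
    (wab : a ≫ b = 0) :
    (ShortComplex.mk a b wab).ShortExact := by
  -- the short complex in the functor category
  let S' : ShortComplex (Discrete ι ⥤ C) :=
    ShortComplex.mk (Discrete.natTrans (fun i => f i.as) : Discrete.functor X₁ ⟶ Discrete.functor X₂)
      (Discrete.natTrans (fun i => g i.as) : Discrete.functor X₂ ⟶ Discrete.functor X₃) (by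
        ext ⟨i⟩
        exact w i)
  have hS' : S'.ShortExact := shortExact_of_forall_app S' (fun ⟨i⟩ => h i)
  have hS'' : (S'.map (colim (J := Discrete ι) (C := C))).ShortExact :=
    hS'.map_of_exact _
  -- compare with the given short complex
  let e₁ : colimit (Discrete.functor X₁) ≅ c₁.pt :=
    IsColimit.coconePointUniqueUpToIso (colimit.isColimit _) h₁
  let e₂ : colimit (Discrete.functor X₂) ≅ c₂.pt :=
    IsColimit.coconePointUniqueUpToIso (colimit.isColimit _) h₂
  let e₃ : colimit (Discrete.functor X₃) ≅ c₃.pt :=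
    IsColimit.coconePointUniqueUpToIso (colimit.isColimit _) h₃
  have he₁ : ∀ i, colimit.ι (Discrete.functor X₁) ⟨i⟩ ≫ e₁.hom = c₁.inj i := fun i =>
    colimit.comp_coconePointUniqueUpToIso_hom h₁ ⟨i⟩
  have he₂ : ∀ i, colimit.ι (Discrete.functor X₂) ⟨i⟩ ≫ e₂.hom = c₂.inj i := fun i =>
    colimit.comp_coconePointUniqueUpToIso_hom h₂ ⟨i⟩
  have he₃ : ∀ i, colimit.ι (Discrete.functor X₃) ⟨i⟩ ≫ e₃.hom = c₃.inj i := fun i =>
    colimit.comp_coconePointUniqueUpToIso_hom h₃ ⟨i⟩
  refine ShortComplex.shortExact_of_iso (ShortComplex.isoMk e₁ e₂ e₃ ?_ ?_) hS''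
  · apply colimit.hom_ext
    rintro ⟨i⟩
    show colimit.ι (Discrete.functor X₁) ⟨i⟩ ≫ e₁.hom ≫ a =
      colimit.ι (Discrete.functor X₁) ⟨i⟩ ≫ colimMap S'.f ≫ e₂.hom
    rw [reassoc_of% (he₁ i), ι_colimMap_assoc, he₂, ha]
    rfl
  · apply colimit.hom_ext
    rintro ⟨i⟩
    show colimit.ι (Discrete.functor X₂) ⟨i⟩ ≫ e₂.hom ≫ b =
      colimit.ι (Discrete.functor X₂) ⟨i⟩ ≫ colimMap S'.g ≫ e₃.hom
    rw [reassoc_of% (he₂ i), ι_colimMap_assoc, he₃, hb]
    rfl

end general

section tensor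

variable {R : Type u} [CommRing R]

/-- cochain complexes of modules -/
abbrev Cx (R : Type u) [CommRing R] := CochainComplex (ModuleCat.{u} R) ℤ

lemma whiskerLeft_eq (L : Cx R) {X Y : Cx R} (g : X ⟶ Y) :
    L ◁ g = mapBifunctorMap (𝟙 L) g (curriedTensor (ModuleCat.{u} R)) (ComplexShape.up ℤ) := rfl

lemma whiskerRight_eq {X Y : Cx R} (g : X ⟶ Y) (K : Cx R) :
    g ▷ K = mapBifunctorMap g (𝟙 K) (curriedTensor (ModuleCat.{u} R)) (ComplexShape.up ℤ) := rfl

@[reassoc]
lemma ι_whiskerLeft (L : Cx R) {X Y : Cx R} (g : X ⟶ Y) (p q n : ℤ) (h : p + q = n) :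
    ιTensorObj L X p q n h ≫ (L ◁ g).f n = (L.X p ◁ g.f q) ≫ ιTensorObj L Y p q n h := by
  rw [whiskerLeft_eq]
  erw [ι_mapBifunctorMap]
  simp

@[reassoc]
lemma ι_whiskerRight {X Y : Cx R} (g : X ⟶ Y) (K : Cx R) (p q n : ℤ) (h : p + q = n) :
    ιTensorObj X K p q n h ≫ (g ▷ K).f n = (g.f p ▷ K.X q) ≫ ιTensorObj Y K p q n h := by
  rw [whiskerRight_eq]
  erw [ι_mapBifunctorMap]
  simp

lemma tensor_hom_ext {L K : Cx R} {n : ℤ} {A : ModuleCat.{u} R} {f g : (L ⊗ K).X n ⟶ A}
    (h : ∀ (p q : ℤ) (hpq : p + q = n), ιTensorObj L K p q n hpq ≫ f = ιTensorObj L K p q n hpq ≫ g) :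
    f = g :=
  mapBifunctor.hom_ext (K₁ := L) (K₂ := K) (F := curriedTensor (ModuleCat.{u} R))
    (c := ComplexShape.up ℤ) h

instance (L : Cx R) : (tensorLeft L).Additive where
  map_add {X Y f g} := by
    refine HomologicalComplex.hom_ext _ _ (fun n => ?_)
    apply tensor_hom_ext
    intro p q hpq
    dsimp
    rw [ι_whiskerLeft, Preadditive.comp_add, ι_whiskerLeft, ι_whiskerLeft]
    simp

instance (K : Cx R) : (tensorRight K).Additive where
  map_add {X Y f g} := by
    refine HomologicalComplex.hom_ext _ _ (fun n => ?_)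
    apply tensor_hom_ext
    intro p q hpq
    dsimp
    rw [ι_whiskerRight, Preadditive.comp_add, ι_whiskerRight, ι_whiskerRight]
    simp

/-- tensoring on the left with a complex preserves short exact sequences which are
preserved by tensoring with each term. -/
theorem tensorLeft_shortExact (L : Cx R) (S : ShortComplex (Cx R))
    (hS : ∀ p q : ℤ, ((S.map (eval _ _ q)).map (tensorLeft (L.X p))).ShortExact) :
    (S.map (tensorLeft L)).ShortExact := by
  apply shortExact_of_degreewise_shortExact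
  intro n
  let B : ∀ (X : Cx R), HomologicalComplex₂ (ModuleCat.{u} R) (ComplexShape.up ℤ) (ComplexShape.up ℤ) :=
    fun X => (((curriedTensor (ModuleCat.{u} R)).mapBifunctorHomologicalComplex _ _).obj L).obj X
  let π := ComplexShape.π (ComplexShape.up ℤ) (ComplexShape.up ℤ) (ComplexShape.up ℤ)
  exact shortExact_of_isColimit_cofan
    (ι := (π ⁻¹' {n}))
    (X₁ := fun i => L.X i.1.1 ⊗ S.X₁.X i.1.2) (X₂ := fun i => L.X i.1.1 ⊗ S.X₂.X i.1.2)
    (X₃ := fun i => L.X i.1.1 ⊗ S.X₃.X i.1.2)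
    (fun i => L.X i.1.1 ◁ S.f.f i.1.2) (fun i => L.X i.1.1 ◁ S.g.f i.1.2)
    (fun i => ((S.map (eval _ _ i.1.2)).map (tensorLeft (L.X i.1.1))).zero) (fun i => hS i.1.1 i.1.2)
    ((B S.X₁).toGradedObject.isColimitCofanMapObj π n)
    ((B S.X₂).toGradedObject.isColimitCofanMapObj π n)
    ((B S.X₃).toGradedObject.isColimitCofanMapObj π n)
    ((L ◁ S.f).f n) ((L ◁ S.g).f n)
    (fun i => ι_whiskerLeft L S.f i.1.1 i.1.2 n i.2)
    (fun i => ι_whiskerLeft L S.g i.1.1 i.1.2 n i.2)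
    ((S.map (tensorLeft L)).map (eval _ _ n)).zero

/-- tensoring on the right with a complex preserves short exact sequences which are
preserved by tensoring with each term. -/
theorem tensorRight_shortExact (K : Cx R) (S : ShortComplex (Cx R))
    (hS : ∀ p q : ℤ, ((S.map (eval _ _ p)).map (tensorRight (K.X q))).ShortExact) :
    (S.map (tensorRight K)).ShortExact := by
  apply shortExact_of_degreewise_shortExact
  intro n
  let B : ∀ (X : Cx R), HomologicalComplex₂ (ModuleCat.{u} R) (ComplexShape.up ℤ) (ComplexShape.up ℤ) :=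
    fun X => (((curriedTensor (ModuleCat.{u} R)).mapBifunctorHomologicalComplex _ _).obj X).obj K
  let π := ComplexShape.π (ComplexShape.up ℤ) (ComplexShape.up ℤ) (ComplexShape.up ℤ)
  exact shortExact_of_isColimit_cofan
    (ι := (π ⁻¹' {n}))
    (X₁ := fun i => S.X₁.X i.1.1 ⊗ K.X i.1.2) (X₂ := fun i => S.X₂.X i.1.1 ⊗ K.X i.1.2)
    (X₃ := fun i => S.X₃.X i.1.1 ⊗ K.X i.1.2)
    (fun i => S.f.f i.1.1 ▷ K.X i.1.2) (fun i => S.g.f i.1.1 ▷ K.X i.1.2)
    (fun i => ((S.map (eval _ _ i.1.1)).map (tensorRight (K.X i.1.2))).zero)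
    (fun i => hS i.1.1 i.1.2)
    ((B S.X₁).toGradedObject.isColimitCofanMapObj π n)
    ((B S.X₂).toGradedObject.isColimitCofanMapObj π n)
    ((B S.X₃).toGradedObject.isColimitCofanMapObj π n)
    ((S.f ▷ K).f n) ((S.g ▷ K).f n)
    (fun i => ι_whiskerRight S.f K i.1.1 i.1.2 n i.2)
    (fun i => ι_whiskerRight S.g K i.1.1 i.1.2 n i.2)
    ((S.map (tensorRight K)).map (eval _ _ n)).zero

/-- degreewise split short exact sequences are preserved by `L ⊗ -` -/
theorem tensorLeft_shortExact_of_splitting (L : Cx R) (S : ShortComplex (Cx R))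
    (σ : ∀ n, (S.map (eval _ _ n)).Splitting) : (S.map (tensorLeft L)).ShortExact :=
  tensorLeft_shortExact L S (fun p q => ((σ q).map (tensorLeft (L.X p))).shortExact)

/-- degreewise split short exact sequences are preserved by `- ⊗ K` -/
theorem tensorRight_shortExact_of_splitting (K : Cx R) (S : ShortComplex (Cx R))
    (σ : ∀ n, (S.map (eval _ _ n)).Splitting) : (S.map (tensorRight K)).ShortExact :=
  tensorRight_shortExact K S (fun p q => ((σ p).map (tensorRight (K.X q))).shortExact)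

end tensor

section les

variable {C : Type*} [Category C] [Abelian C] {S : ShortComplex (CochainComplex C ℤ)}

lemma acyclic_X₃ (hS : S.ShortExact) (h₁ : ∀ i, IsZero (S.X₁.homology i))
    (h₂ : ∀ i, IsZero (S.X₂.homology i)) (i : ℤ) : IsZero (S.X₃.homology i) :=
  (hS.homology_exact₃ i (i + 1) rfl).isZero_of_both_zeros ((h₂ i).eq_of_src _ _)
    ((h₁ (i + 1)).eq_of_tgt _ _)

lemma acyclic_X₂ (hS : S.ShortExact) (h₁ : ∀ i, IsZero (S.X₁.homology i))
    (h₃ : ∀ i, IsZero (S.X₃.homology i)) (i : ℤ) : IsZero (S.X₂.homology i) :=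
  (hS.homology_exact₂ i).isZero_of_both_zeros ((h₁ i).eq_of_src _ _)
    ((h₃ i).eq_of_tgt _ _)

lemma acyclic_X₁ (hS : S.ShortExact) (h₂ : ∀ i, IsZero (S.X₂.homology i))
    (h₃ : ∀ i, IsZero (S.X₃.homology i)) (i : ℤ) : IsZero (S.X₁.homology i) :=
  (hS.homology_exact₁ (i - 1) i (by simp)).isZero_of_both_zeros ((h₃ (i - 1)).eq_of_src _ _)
    ((h₂ i).eq_of_tgt _ _)

/-- a morphism of short exact sequences of cochain complexes with acyclic middle terms, which is
a quasi-isomorphism on the third terms, is a quasi-isomorphism on the first terms. -/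
lemma quasiIso_τ₁_of_acyclic_middle {S₁ S₂ : ShortComplex (CochainComplex C ℤ)} (φ : S₁ ⟶ S₂)
    (hS₁ : S₁.ShortExact) (hS₂ : S₂.ShortExact)
    (h₁ : ∀ i, IsZero (S₁.X₂.homology i)) (h₂ : ∀ i, IsZero (S₂.X₂.homology i))
    [QuasiIso φ.τ₃] : QuasiIso φ.τ₁ := by
  rw [quasiIso_iff]
  intro j
  rw [quasiIsoAt_iff_isIso_homologyMap]
  have hr : (ComplexShape.up ℤ).Rel (j - 1) j := by simp
  have hnat := HomologySequence.δ_naturality φ hS₁ hS₂ (j - 1) j hr
  have i₁ := hS₁.isIso_δ (j - 1) j hr (h₁ _) (h₁ _)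
  have i₂ := hS₂.isIso_δ (j - 1) j hr (h₂ _) (h₂ _)
  have : homologyMap φ.τ₁ j =
      inv (hS₁.δ (j - 1) j hr) ≫ homologyMap φ.τ₃ (j - 1) ≫ hS₂.δ (j - 1) j hr := by
    rw [← hnat]; simp
  rw [this]
  infer_instance

end les

end Groth.Agent.Lib.Helper1.KF
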