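import Mathlib
import Groth.Agent.Lib.Helper1KF1
set_option backward.isDefEq.respectTransparency.types false

/-!
# K-flat complexes: homotopy invariance, cones (helper1, K-flat cluster, part 2)
-/

set_option autoImplicit false
universe u
open CategoryTheory CategoryTheory.Limits MonoidalCategory HomologicalComplex

namespace Groth.Agent.Lib.Helper1.KF

variable {R : Type u} [CommRing R]

/-- acyclic complexes -/
def Acyc (L : Cx R) : Prop := ∀ i : ℤ, IsZero (L.homology i)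

/-- K-flat on the right: `L ⊗ K` is acyclic for all acyclic `L`. -/
def KFlat (K : Cx R) : Prop := ∀ L : Cx R, Acyc L → Acyc (L ⊗ K)

/-- K-flat on the left: `K ⊗ L` is acyclic for all acyclic `L`. -/
def KFlatL (K : Cx R) : Prop := ∀ L : Cx R, Acyc L → Acyc (K ⊗ L)

lemma Acyc.of_homotopyEquiv {K K' : Cx R} (e : HomotopyEquiv K K') (h : Acyc K) : Acyc K' :=
  fun i => IsZero.of_iso (h i) (e.toHomologyIso i).symm

lemma Acyc.of_iso {K K' : Cx R} (e : K ≅ K') (h : Acyc K) : Acyc K' :=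
  fun i => IsZero.of_iso (h i) ((homologyFunctor _ _ i).mapIso e).symm

lemma Acyc.shift {K : Cx R} (h : Acyc K) (n : ℤ) : Acyc (K⟦n⟧) :=
  fun i => IsZero.of_iso (h (n + i))
    (((homologyFunctor (ModuleCat.{u} R) (ComplexShape.up ℤ) 0).shiftIso n i (n + i) rfl).app K)

lemma Acyc.of_shift {K : Cx R} (n : ℤ) (h : Acyc (K⟦n⟧)) : Acyc K :=
  fun i => IsZero.of_iso (h (i - n))
    (((homologyFunctor (ModuleCat.{u} R) (ComplexShape.up ℤ) 0).shiftIso n (i - n) i
      (by abel)).app K).symm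

/-- `L ⊗ -` preserves homotopy equivalences -/
noncomputable def tensorLeftHomotopyEquiv (L : Cx R) {K K' : Cx R} (e : HomotopyEquiv K K') :
    HomotopyEquiv (L ⊗ K) (L ⊗ K') where
  hom := L ◁ e.hom
  inv := L ◁ e.inv
  homotopyHomInvId :=
    (Homotopy.ofEq (by rw [← MonoidalCategory.whiskerLeft_comp]; rfl)).trans
      ((mapBifunctorMapHomotopy₂ (𝟙 L) e.homotopyHomInvId (curriedTensor (ModuleCat.{u} R))
        (ComplexShape.up ℤ)).trans (Homotopy.ofEq (MonoidalCategory.whiskerLeft_id L K)))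
  homotopyInvHomId :=
    (Homotopy.ofEq (by rw [← MonoidalCategory.whiskerLeft_comp]; rfl)).trans
      ((mapBifunctorMapHomotopy₂ (𝟙 L) e.homotopyInvHomId (curriedTensor (ModuleCat.{u} R))
        (ComplexShape.up ℤ)).trans (Homotopy.ofEq (MonoidalCategory.whiskerLeft_id L K')))

/-- `- ⊗ K` preserves homotopy equivalences -/
noncomputable def tensorRightHomotopyEquiv (K : Cx R) {L L' : Cx R} (e : HomotopyEquiv L L') :
    HomotopyEquiv (L ⊗ K) (L' ⊗ K) where
  hom := e.hom ▷ K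
  inv := e.inv ▷ K
  homotopyHomInvId :=
    (Homotopy.ofEq (by rw [← MonoidalCategory.comp_whiskerRight]; rfl)).trans
      ((mapBifunctorMapHomotopy₁ e.homotopyHomInvId (𝟙 K) (curriedTensor (ModuleCat.{u} R))
        (ComplexShape.up ℤ)).trans (Homotopy.ofEq (MonoidalCategory.id_whiskerRight L K)))
  homotopyInvHomId :=
    (Homotopy.ofEq (by rw [← MonoidalCategory.comp_whiskerRight]; rfl)).trans
      ((mapBifunctorMapHomotopy₁ e.homotopyInvHomId (𝟙 K) (curriedTensor (ModuleCat.{u} R))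
        (ComplexShape.up ℤ)).trans (Homotopy.ofEq (MonoidalCategory.id_whiskerRight L' K)))

lemma KFlat.of_homotopyEquiv {K K' : Cx R} (e : HomotopyEquiv K K') (h : KFlat K) : KFlat K' :=
  fun L hL => (h L hL).of_homotopyEquiv (tensorLeftHomotopyEquiv L e)

lemma KFlatL.of_homotopyEquiv {K K' : Cx R} (e : HomotopyEquiv K K') (h : KFlatL K) :
    KFlatL K' :=
  fun L hL => (h L hL).of_homotopyEquiv (tensorRightHomotopyEquiv L e)

/-- `L ⊗ K⟦n⟧ ≅ (L ⊗ K)⟦n⟧` -/
noncomputable def tensorShiftRightIso (L K : Cx R) (n : ℤ) : L ⊗ (K⟦n⟧) ≅ (L ⊗ K)⟦n⟧ :=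
  CochainComplex.mapBifunctorShift₂Iso L K (curriedTensor (ModuleCat.{u} R)) n

/-- `L⟦n⟧ ⊗ K ≅ (L ⊗ K)⟦n⟧` -/
noncomputable def tensorShiftLeftIso (L K : Cx R) (n : ℤ) : (L⟦n⟧) ⊗ K ≅ (L ⊗ K)⟦n⟧ :=
  CochainComplex.mapBifunctorShift₁Iso L K (curriedTensor (ModuleCat.{u} R)) n

lemma KFlat.shift {K : Cx R} (h : KFlat K) (n : ℤ) : KFlat (K⟦n⟧) :=
  fun L hL => ((h L hL).shift n).of_iso (tensorShiftRightIso L K n).symm

lemma KFlat.of_shift {K : Cx R} (n : ℤ) (h : KFlat (K⟦n⟧)) : KFlat K :=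
  fun L hL => ((h L hL).of_iso (tensorShiftRightIso L K n)).of_shift n

lemma KFlatL.shift {K : Cx R} (h : KFlatL K) (n : ℤ) : KFlatL (K⟦n⟧) :=
  fun L hL => ((h L hL).shift n).of_iso (tensorShiftLeftIso K L n).symm

lemma KFlatL.of_shift {K : Cx R} (n : ℤ) (h : KFlatL (K⟦n⟧)) : KFlatL K :=
  fun L hL => ((h L hL).of_iso (tensorShiftLeftIso K L n)).of_shift n

section twoOfThree

variable {S : ShortComplex (Cx R)}

lemma KFlat.X₃ (hS : ∀ L : Cx R, (S.map (tensorLeft L)).ShortExact)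
    (h₁ : KFlat S.X₁) (h₂ : KFlat S.X₂) : KFlat S.X₃ :=
  fun L hL => acyclic_X₃ (hS L) (h₁ L hL) (h₂ L hL)

lemma KFlat.X₂ (hS : ∀ L : Cx R, (S.map (tensorLeft L)).ShortExact)
    (h₁ : KFlat S.X₁) (h₃ : KFlat S.X₃) : KFlat S.X₂ :=
  fun L hL => acyclic_X₂ (hS L) (h₁ L hL) (h₃ L hL)

lemma KFlat.X₁ (hS : ∀ L : Cx R, (S.map (tensorLeft L)).ShortExact)
    (h₂ : KFlat S.X₂) (h₃ : KFlat S.X₃) : KFlat S.X₁ :=
  fun L hL => acyclic_X₁ (hS L) (h₂ L hL) (h₃ L hL)

lemma KFlatL.X₃ (hS : ∀ L : Cx R, (S.map (tensorRight L)).ShortExact)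
    (h₁ : KFlatL S.X₁) (h₂ : KFlatL S.X₂) : KFlatL S.X₃ :=
  fun L hL => acyclic_X₃ (hS L) (h₁ L hL) (h₂ L hL)

lemma KFlatL.X₂ (hS : ∀ L : Cx R, (S.map (tensorRight L)).ShortExact)
    (h₁ : KFlatL S.X₁) (h₃ : KFlatL S.X₃) : KFlatL S.X₂ :=
  fun L hL => acyclic_X₂ (hS L) (h₁ L hL) (h₃ L hL)

lemma KFlatL.X₁ (hS : ∀ L : Cx R, (S.map (tensorRight L)).ShortExact)
    (h₂ : KFlatL S.X₂) (h₃ : KFlatL S.X₃) : KFlatL S.X₁ :=
  fun L hL => acyclic_X₁ (hS L) (h₂ L hL) (h₃ L hL)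

end twoOfThree

section cone

open CochainComplex

variable {X Y : Cx R} (φ : X ⟶ Y)

lemma cone_tensorLeft_shortExact (L : Cx R) :
    ((mappingCone.triangleRotateShortComplex φ).map (tensorLeft L)).ShortExact :=
  tensorLeft_shortExact_of_splitting L _ (mappingCone.triangleRotateShortComplexSplitting φ)

lemma cone_tensorRight_shortExact (K : Cx R) :
    ((mappingCone.triangleRotateShortComplex φ).map (tensorRight K)).ShortExact :=
  tensorRight_shortExact_of_splitting K _ (mappingCone.triangleRotateShortComplexSplitting φ)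

lemma KFlat.cone (hX : KFlat X) (hY : KFlat Y) : KFlat (mappingCone φ) :=
  KFlat.X₂ (S := mappingCone.triangleRotateShortComplex φ) (cone_tensorLeft_shortExact φ) hY
    (hX.shift 1)

lemma KFlat.of_cone_right (hX : KFlat X) (hC : KFlat (mappingCone φ)) : KFlat Y :=
  KFlat.X₁ (S := mappingCone.triangleRotateShortComplex φ) (cone_tensorLeft_shortExact φ) hC
    (hX.shift 1)

lemma KFlat.of_cone_left (hY : KFlat Y) (hC : KFlat (mappingCone φ)) : KFlat X :=
  KFlat.of_shift 1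
    (KFlat.X₃ (S := mappingCone.triangleRotateShortComplex φ) (cone_tensorLeft_shortExact φ) hY hC)

lemma KFlatL.cone (hX : KFlatL X) (hY : KFlatL Y) : KFlatL (mappingCone φ) :=
  KFlatL.X₂ (S := mappingCone.triangleRotateShortComplex φ) (cone_tensorRight_shortExact φ) hY
    (hX.shift 1)

lemma KFlatL.of_cone_right (hX : KFlatL X) (hC : KFlatL (mappingCone φ)) : KFlatL Y :=
  KFlatL.X₁ (S := mappingCone.triangleRotateShortComplex φ) (cone_tensorRight_shortExact φ) hC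
    (hX.shift 1)

lemma KFlatL.of_cone_left (hY : KFlatL Y) (hC : KFlatL (mappingCone φ)) : KFlatL X :=
  KFlatL.of_shift 1
    (KFlatL.X₃ (S := mappingCone.triangleRotateShortComplex φ) (cone_tensorRight_shortExact φ)
      hY hC)

end cone

end Groth.Agent.Lib.Helper1.KF
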