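import Mathlib
import Groth.Agent.Lib.Helper1KF2
set_option backward.isDefEq.respectTransparency.types false

/-!
# K-projective complexes are K-flat (helper1, K-flat cluster, part 9)
-/

set_option autoImplicit false
universe u
open CategoryTheory CategoryTheory.Limits MonoidalCategory HomologicalComplex

namespace Groth.Agent.Lib.Helper1.KF

section general

variable {C : Type*} [Category C] [Abelian C] [EnoughInjectives C]

/-- exactness can be tested against injective objects -/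
lemma exact_of_injective_test (S : ShortComplex C)
    (h : ∀ (J : C) [Injective J] (φ : S.X₂ ⟶ J), S.f ≫ φ = 0 → ∃ χ : S.X₃ ⟶ J, φ = S.g ≫ χ) :
    S.Exact := by
  rw [S.exact_iff_mono_fromOpcycles]
  obtain ⟨χ, hχ⟩ := h (Injective.under S.opcycles) (S.pOpcycles ≫ Injective.ι S.opcycles)
    (by simp)
  have : Injective.ι S.opcycles = S.fromOpcycles ≫ χ := by
    rw [← cancel_epi S.pOpcycles, hχ, S.p_fromOpcycles_assoc]
  exact mono_of_mono_fac this.symm

end general

variable {R : Type u} [CommRing R]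

/-- the differential of the tensor product on a summand -/
lemma ι_tensor_d (L P : Cx R) (p q n : ℤ) (h : p + q = n) (p' q' n' : ℤ) (hp : p + 1 = p')
    (hq : q + 1 = q') (hn : n + 1 = n') :
    ιTensorObj L P p q n h ≫ (L ⊗ P).d n n' =
      (L.d p p' ▷ P.X q) ≫ ιTensorObj L P p' q n' (by omega) +
        p.negOnePow • (L.X p ◁ P.d q q') ≫ ιTensorObj L P p q' n' (by omega) := by
  subst hp hq hn
  have h1 := mapBifunctor.d₁_eq L P (curriedTensor (ModuleCat.{u} R)) (ComplexShape.up ℤ)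
    (show (ComplexShape.up ℤ).Rel p (p + 1) from rfl) q (n + 1) (by simp; omega)
  have h2 := mapBifunctor.d₂_eq L P (curriedTensor (ModuleCat.{u} R)) (ComplexShape.up ℤ)
    p (show (ComplexShape.up ℤ).Rel q (q + 1) from rfl) (n + 1) (by simp; omega)
  show ιMapBifunctor L P (curriedTensor (ModuleCat.{u} R)) (ComplexShape.up ℤ) p q n h ≫
    (mapBifunctor L P (curriedTensor (ModuleCat.{u} R)) (ComplexShape.up ℤ)).d n (n + 1) = _
  rw [mapBifunctor.d_eq, Preadditive.comp_add, mapBifunctor.ι_D₁, mapBifunctor.ι_D₂, h1, h2]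
  simp

section dual

variable (L : Cx R) (J : ModuleCat.{u} R) (n : ℤ)

lemma pre_zero_app {A B : ModuleCat.{u} R} :
    (MonoidalClosed.pre (0 : B ⟶ A)).app J = 0 := by
  apply MonoidalClosed.uncurry_injective
  rw [MonoidalClosed.uncurry_pre]
  simp [MonoidalClosed.uncurry_eq]

/-- the complex `q ↦ Hom(L^{n-q}, J)` -/
noncomputable def dualCx : Cx R where
  X q := (ihom (L.X (n - q))).obj J
  d q q' := if q + 1 = q' then (n - q).negOnePow • (MonoidalClosed.pre (L.d (n - q') (n - q))).app J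
    else 0
  shape q q' h := if_neg h
  d_comp_d' q q' q'' h h' := by
    rw [if_pos (show q + 1 = q' from h), if_pos (show q' + 1 = q'' from h')]
    simp only [Linear.units_smul_comp, Linear.comp_units_smul]
    rw [← NatTrans.comp_app, ← MonoidalClosed.pre_map, L.d_comp_d, pre_zero_app]
    simp

lemma dualCx_d (q q' : ℤ) (h : q + 1 = q') :
    (dualCx L J n).d q q' =
      (n - q).negOnePow • (MonoidalClosed.pre (L.d (n - q') (n - q))).app J := if_pos h

lemma dualCx_d_apply (q q' : ℤ) (h : q + 1 = q') (g : L.X (n - q) ⟶ J) :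
    ((dualCx L J n).d q q').hom g =
      ((n - q).negOnePow • (L.d (n - q') (n - q) ≫ g) : L.X (n - q') ⟶ J) :=
  (congrArg (fun t : (dualCx L J n).X q ⟶ (dualCx L J n).X q' => t.hom g)
    (dualCx_d L J n q q' h)).trans rfl

variable {L J}

lemma acyc_dualCx [Injective J] (hL : Acyc L) : Acyc (dualCx L J n) := by
  intro q
  rw [← exactAt_iff_isZero_homology, exactAt_iff' _ (q - 1) q (q + 1) (by simp) (by simp)]
  rw [ShortComplex.moduleCat_exact_iff]
  intro (g : L.X (n - q) ⟶ J) hg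
  have hg' : L.d (n - (q + 1)) (n - q) ≫ g = 0 := by
    have h1 : ((dualCx L J n).d q (q + 1)).hom g = 0 := hg
    rw [dualCx_d_apply L J n q (q + 1) rfl] at h1
    exact (smul_eq_zero_iff_eq _).mp h1
  have hex : (L.sc' (n - (q + 1)) (n - q) (n - (q - 1))).Exact := by
    rw [← exactAt_iff' _ _ _ _ (by simp; omega) (by simp; omega), exactAt_iff_isZero_homology]
    exact hL _
  obtain ⟨t, ht⟩ : ∃ t : L.X (n - (q - 1)) ⟶ J, L.d (n - q) (n - (q - 1)) ≫ t = g :=
    ⟨_, hex.comp_descToInjective g hg'⟩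
  refine ⟨((n - (q - 1)).negOnePow • t : L.X (n - (q - 1)) ⟶ J), ?_⟩
  show ((dualCx L J n).d (q - 1) q).hom _ = g
  rw [dualCx_d_apply L J n (q - 1) q (by omega), Linear.comp_units_smul, smul_smul,
    Int.units_mul_self, one_smul]
  exact ht

end dual

section main

variable {L P : Cx R} {J : ModuleCat.{u} R} {n : ℤ}

lemma curry_neg' {A Y : ModuleCat.{u} R} (f : A ⊗ Y ⟶ J) :
    MonoidalClosed.curry (-f) = -MonoidalClosed.curry f :=
  (ihom.adjunction A).homAddEquiv_neg _ _ f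

lemma curry_units_smul {A Y : ModuleCat.{u} R} (ε : ℤˣ) (f : A ⊗ Y ⟶ J) :
    MonoidalClosed.curry (ε • f) = ε • MonoidalClosed.curry f := by
  rcases Int.units_eq_one_or ε with rfl | rfl
  · simp
  · rw [Units.neg_smul, Units.neg_smul, one_smul, one_smul, curry_neg']

lemma uncurry_units_smul {A Y : ModuleCat.{u} R} (ε : ℤˣ) (f : Y ⟶ (ihom A).obj J) :
    MonoidalClosed.uncurry (ε • f) = ε • MonoidalClosed.uncurry f := by
  apply MonoidalClosed.curry_injective
  rw [curry_units_smul, MonoidalClosed.curry_uncurry, MonoidalClosed.curry_uncurry]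

lemma uncurry_add' {A Y : ModuleCat.{u} R} (f g : Y ⟶ (ihom A).obj J) :
    MonoidalClosed.uncurry (f + g) = MonoidalClosed.uncurry f + MonoidalClosed.uncurry g :=
  (ihom.adjunction A).homAddEquiv_symm_add _ _ f g

lemma toDual_comm_aux {A B Y Y' : ModuleCat.{u} R} (a : A ⊗ Y ⟶ J) (b : B ⊗ Y' ⟶ J) (d : B ⟶ A)
    (e : Y ⟶ Y') (ε : ℤˣ) (h : d ▷ Y ≫ a = ε • (B ◁ e ≫ b)) :
    MonoidalClosed.curry a ≫ (ε • (MonoidalClosed.pre d).app J) = e ≫ MonoidalClosed.curry b := by
  rw [Linear.comp_units_smul, MonoidalClosed.curry_pre_app, ← MonoidalClosed.curry_natural_left, h]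
  rw [curry_units_smul, smul_smul, Int.units_mul_self, one_smul]

lemma uncurry_comp_smul_pre {A B Y : ModuleCat.{u} R} (f : Y ⟶ (ihom A).obj J) (d : B ⟶ A)
    (ε : ℤˣ) : MonoidalClosed.uncurry (f ≫ (ε • (MonoidalClosed.pre d).app J)) =
      ε • (d ▷ Y ≫ MonoidalClosed.uncurry f) := by
  rw [Linear.comp_units_smul, uncurry_units_smul, MonoidalClosed.uncurry_pre_app]

/-- the chain map `P ⟶ Hom(L, J)[−n]` attached to a cocycle `(L ⊗ P)^n ⟶ J` -/
noncomputable def toDual (φ : (L ⊗ P).X n ⟶ J) (n₀ : ℤ) (hn₀ : n₀ + 1 = n)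
    (hφ : (L ⊗ P).d n₀ n ≫ φ = 0) : P ⟶ dualCx L J n where
  f q := MonoidalClosed.curry (ιTensorObj L P (n - q) q n (by omega) ≫ φ)
  comm' q q' hq := by
    obtain rfl : q + 1 = q' := hq
    subst hn₀
    have h1 := ι_tensor_d L P (n₀ + 1 - (q + 1)) q n₀ (by omega) (n₀ + 1 - q) (q + 1) (n₀ + 1)
      (by omega) rfl rfl
    have h2 := congrArg (fun t => t ≫ φ) h1
    simp only [Category.assoc, hφ, comp_zero, Preadditive.add_comp, Linear.units_smul_comp] at h2
    have h3 : (L.d (n₀ + 1 - (q + 1)) (n₀ + 1 - q) ▷ P.X q) ≫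
        ιTensorObj L P (n₀ + 1 - q) q (n₀ + 1) (by omega) ≫ φ =
        (n₀ + 1 - q).negOnePow • ((L.X (n₀ + 1 - (q + 1)) ◁ P.d q (q + 1)) ≫
          ιTensorObj L P (n₀ + 1 - (q + 1)) (q + 1) (n₀ + 1) (by omega) ≫ φ) := by
      have h4 : (n₀ + 1 - q).negOnePow = -(n₀ + 1 - (q + 1)).negOnePow := by
        rw [show n₀ + 1 - q = (n₀ + 1 - (q + 1)) + 1 by omega, Int.negOnePow_succ]
      rw [h4, Units.neg_smul]
      exact eq_neg_of_add_eq_zero_left h2.symm
    rw [dualCx_d L J _ q (q + 1) rfl]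
    exact toDual_comm_aux _ _ _ _ _ h3

lemma toDual_f (φ : (L ⊗ P).X n ⟶ J) (n₀ : ℤ) (hn₀ : n₀ + 1 = n)
    (hφ : (L ⊗ P).d n₀ n ≫ φ = 0) (q : ℤ) :
    (toDual φ n₀ hn₀ hφ).f q =
      MonoidalClosed.curry (ιTensorObj L P (n - q) q n (by omega) ≫ φ) := rfl

/-- the components of the null-homotopy, uncurried -/
noncomputable def chiComp {ψ : P ⟶ dualCx L J n} (h : Homotopy ψ 0) (p q' : ℤ)
    (hpq : p + q' = n + 1) : L.X p ⊗ P.X q' ⟶ J :=
  p.negOnePow • ((L.XIsoOfEq (show p = n - (q' - 1) by omega)).hom ▷ P.X q') ≫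
    MonoidalClosed.uncurry (h.hom q' (q' - 1))

lemma chiComp_eq {ψ : P ⟶ dualCx L J n} (h : Homotopy ψ 0) (p q' : ℤ)
    (hpq : p + q' = n + 1) (r : ℤ) (hr : r + 1 = q') (hp : p = n - r) :
    chiComp h p q' hpq = p.negOnePow • ((L.XIsoOfEq hp).hom ▷ P.X q') ≫
      MonoidalClosed.uncurry (h.hom q' r) := by
  obtain rfl : r = q' - 1 := by omega
  rfl

theorem kflat_of_isKProjective (P : Cx R) [P.IsKProjective] : KFlat P := by
  intro L hL n
  rw [← exactAt_iff_isZero_homology, exactAt_iff' _ (n - 1) n (n + 1) (by simp) (by simp)]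
  apply exact_of_injective_test
  intro J _ φ hφ
  change (L ⊗ P).X n ⟶ J at φ
  have hφ' : (L ⊗ P).d (n - 1) n ≫ φ = 0 := hφ
  have hac : (dualCx L J n).Acyclic := fun i => by
    rw [exactAt_iff_isZero_homology]; exact acyc_dualCx n hL i
  let ψ := toDual φ (n - 1) (by omega) hφ'
  let h : Homotopy ψ 0 := CochainComplex.IsKProjective.homotopyZero ψ hac
  refine ⟨mapBifunctorDesc (K₁ := L) (K₂ := P) (F := curriedTensor _) (c := ComplexShape.up ℤ)
    (fun p q' hpq => chiComp h p q' hpq), ?_⟩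
  apply tensor_hom_ext
  intro p q hpq
  obtain rfl : p = n - q := by omega
  have e1 : ιTensorObj L P (n - q) q n hpq ≫ φ = MonoidalClosed.uncurry (ψ.f q) := by
    rw [toDual_f, MonoidalClosed.uncurry_curry]
  have e2 := h.comm q
  rw [dNext_eq _ (show (ComplexShape.up ℤ).Rel q (q+1) from rfl),
    prevD_eq _ (show (ComplexShape.up ℤ).Rel (q-1) q by simp), HomologicalComplex.zero_f,
    add_zero] at e2
  have e3 : MonoidalClosed.uncurry (ψ.f q) =
      (L.X (n - q) ◁ P.d q (q + 1)) ≫ MonoidalClosed.uncurry (h.hom (q + 1) q) +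
      (n - (q - 1)).negOnePow • (L.d (n - q) (n - (q - 1)) ▷ P.X q) ≫
        MonoidalClosed.uncurry (h.hom q (q - 1)) := by
    rw [e2]
    refine (uncurry_add' _ _).trans ?_
    congr 1
    · exact MonoidalClosed.uncurry_natural_left _ _
    · rw [dualCx_d L J n (q - 1) q (by omega)]
      exact uncurry_comp_smul_pre _ _ _
  rw [e1, e3]
  show _ = ιTensorObj L P (n - q) q n hpq ≫ (L ⊗ P).d n (n + 1) ≫ _
  rw [← Category.assoc, ι_tensor_d L P (n - q) q n hpq (n - (q - 1)) (q + 1) (n + 1) (by omega)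
    rfl rfl, Preadditive.add_comp, Category.assoc, Linear.units_smul_comp, Category.assoc]
  erw [ι_mapBifunctorDesc, ι_mapBifunctorDesc]
  rw [chiComp_eq h (n - (q - 1)) q _ (q - 1) (by omega) rfl,
    chiComp_eq h (n - q) (q + 1) _ q rfl rfl]
  simp only [XIsoOfEq_rfl, Iso.refl_hom, id_whiskerRight, Category.id_comp, Linear.comp_units_smul,
    smul_smul, Int.units_mul_self, one_smul]
  exact add_comm _ _

end main

end Groth.Agent.Lib.Helper1.KF
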