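import Mathlib
import Groth.Prelude.Def_DRing4
import Groth.Agent.Lib.Helper1KF9
set_option backward.isDefEq.respectTransparency.types false

/-!
# The tensor-hom adjunction for cochain complexes of modules (helper10)

For `P : Cx A = CochainComplex (ModuleCat A) ℤ`:
`adj P : tensorRight P ⊣ DRing.homCxFunctor P`, i.e. `Hom(W ⊗ P, Y) ≃ Hom(W, Hom•(P, Y))`
(`curry`, `uncurry`, `homEquiv`), with Mathlib's tensor product of complexes and the prelude's
Hom complex `DRing.homCx` (no extra signs are needed with these conventions).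
-/

set_option autoImplicit false
universe u
open CategoryTheory CategoryTheory.Limits MonoidalCategory HomologicalComplex CochainComplex
  CochainComplex.HomComplex

namespace Groth.Agent.Lib.Helper10.TensHom
open Groth.Agent.Lib.Helper1.KF

variable {A : Type u} [CommRing A] (P : Cx A)

/-- the component of a cochain, as a linear map -/
noncomputable def vLin (Y : Cx A) (n q q' : ℤ) (h : q + n = q') :
    Cochain P Y n →ₗ[A] (P.X q →ₗ[A] Y.X q') where
  toFun z := (z.v q q' h).hom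
  map_add' z z' := by simp
  map_smul' a z := by simp

variable {P}

/-- curry in degree `p` -/
noncomputable def curryLin {W Y : Cx A} (f : W ⊗ P ⟶ Y) (p : ℤ) : W.X p →ₗ[A] Cochain P Y p where
  toFun w := Cochain.mk (fun q q' hq =>
    ModuleCat.ofHom (TensorProduct.mk A (W.X p) (P.X q) w) ≫
      ιTensorObj W P p q q' (by omega) ≫ f.f q')
  map_add' w w' := by
    ext q q' hq
    simp [map_add]
  map_smul' a w := by
    ext q q' hq
    simp [map_smul]

omit P in
lemma mk_whiskerRight {M M' : ModuleCat.{u} A} (g : M ⟶ M') (N : ModuleCat.{u} A) (w : M) :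
    ModuleCat.ofHom (TensorProduct.mk A M N w) ≫ (g ▷ N) =
      ModuleCat.ofHom (TensorProduct.mk A M' N (g w)) := by
  ext x
  exact ModuleCat.MonoidalCategory.whiskerRight_apply g N w x

omit P in
lemma mk_whiskerLeft (M : ModuleCat.{u} A) {N N' : ModuleCat.{u} A} (h : N ⟶ N') (w : M) :
    ModuleCat.ofHom (TensorProduct.mk A M N w) ≫ (M ◁ h) =
      h ≫ ModuleCat.ofHom (TensorProduct.mk A M N' w) := by
  ext x
  exact ModuleCat.MonoidalCategory.whiskerLeft_apply M h w x

/-- curry: from `W ⊗ P ⟶ Y` to `W ⟶ Hom(P, Y)` -/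
noncomputable def curry {W Y : Cx A} (f : W ⊗ P ⟶ Y) : W ⟶ DRing.homCx P Y where
  f p := ModuleCat.ofHom (curryLin f p)
  comm' p p' hpp' := by
    have hpp : p + 1 = p' := hpp'
    subst hpp
    ext w
    change δ p (p + 1) (curryLin f p w) = curryLin f (p + 1) (W.d p (p + 1) w)
    refine Cochain.ext _ _ (fun q q'' hq => ?_)
    rw [δ_v p (p + 1) rfl _ q q'' hq (q'' - 1) (q + 1) rfl rfl]
    simp only [curryLin, LinearMap.coe_mk, AddHom.coe_mk, Cochain.mk_v, Category.assoc]
    rw [f.comm, ← Category.assoc (ιTensorObj W P p q (q'' - 1) _),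
      ι_tensor_d W P p q (q'' - 1) (by omega) (p + 1) (q + 1) q'' rfl rfl (by omega)]
    simp only [Preadditive.add_comp, Preadditive.comp_add, Category.assoc, Linear.units_smul_comp,
      Linear.comp_units_smul]
    rw [← Category.assoc, mk_whiskerRight, ← Category.assoc (ModuleCat.ofHom _) (W.X p ◁ _),
      mk_whiskerLeft]
    simp only [Category.assoc, Int.negOnePow_succ, Units.neg_smul]
    abel

/-- uncurry on the summand `(p, q)` -/
noncomputable def uncurryComp {W Y : Cx A} (g : W ⟶ DRing.homCx P Y) (p q n : ℤ) (h : p + q = n) :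
    (W.X p ⊗ P.X q : ModuleCat.{u} A) ⟶ Y.X n :=
  ModuleCat.ofHom (TensorProduct.lift ((vLin P Y p q n (by omega)) ∘ₗ (g.f p).hom))

lemma uncurryComp_tmul {W Y : Cx A} (g : W ⟶ DRing.homCx P Y) (p q n : ℤ) (h : p + q = n)
    (w : W.X p) (x : P.X q) :
    (uncurryComp g p q n h).hom (w ⊗ₜ[A] x) =
      (((g.f p).hom w : Cochain P Y p).v q n (by omega)).hom x := by
  simp only [uncurryComp, vLin, ModuleCat.hom_ofHom]
  rw [TensorProduct.lift.tmul]
  rfl

/-- the chain map condition for `g`, evaluated -/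
lemma hom_d_apply {W Y : Cx A} (g : W ⟶ DRing.homCx P Y) (p : ℤ) (w : W.X p) :
    ((g.f (p + 1)).hom ((W.d p (p + 1)).hom w) : Cochain P Y (p + 1)) =
      δ p (p + 1) ((g.f p).hom w : Cochain P Y p) := by
  have h := g.comm p (p + 1)
  have h2 := congrArg (fun φ => φ.hom w) h
  exact h2.symm

omit P in
lemma hom_units_smul {M N : ModuleCat.{u} A} (ε : ℤˣ) (f : M ⟶ N) (y : M) :
    (ε • f).hom y = ε • (f.hom y) := by
  rcases Int.units_eq_one_or ε with rfl | rfl <;> simp

/-- uncurry in degree `n` -/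
noncomputable def uncurryF {W Y : Cx A} (g : W ⟶ DRing.homCx P Y) (n : ℤ) : (W ⊗ P).X n ⟶ Y.X n :=
  HomologicalComplex.mapBifunctorDesc (K₁ := W) (K₂ := P) (F := curriedTensor (ModuleCat.{u} A))
    (c := ComplexShape.up ℤ) (fun p q h => uncurryComp g p q n h)

@[reassoc]
lemma ι_uncurryF {W Y : Cx A} (g : W ⟶ DRing.homCx P Y) (p q n : ℤ) (h : p + q = n) :
    ιTensorObj W P p q n h ≫ uncurryF g n = uncurryComp g p q n h :=
  HomologicalComplex.ι_mapBifunctorDesc _ _ _ _

/-- uncurry: from `W ⟶ Hom(P, Y)` to `W ⊗ P ⟶ Y` -/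
noncomputable def uncurry {W Y : Cx A} (g : W ⟶ DRing.homCx P Y) : W ⊗ P ⟶ Y where
  f n := uncurryF g n
  comm' n n' hnn' := by
    have hnn : n + 1 = n' := hnn'
    subst hnn
    apply tensor_hom_ext
    intro p q hpq
    rw [ι_uncurryF_assoc, ← Category.assoc,
      ι_tensor_d W P p q n hpq (p + 1) (q + 1) (n + 1) rfl rfl rfl]
    simp only [Preadditive.add_comp, Category.assoc, Linear.units_smul_comp, ι_uncurryF]
    apply ModuleCat.MonoidalCategory.tensor_ext
    intro w x
    have hw := hom_d_apply g p w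
    have e1 : (W.d p (p + 1) ▷ P.X q).hom (w ⊗ₜ[A] x) = ((W.d p (p + 1)).hom w) ⊗ₜ[A] x :=
      ModuleCat.MonoidalCategory.whiskerRight_apply _ _ w x
    have e2 : (W.X p ◁ P.d q (q + 1)).hom (w ⊗ₜ[A] x) = w ⊗ₜ[A] ((P.d q (q + 1)).hom x) :=
      ModuleCat.MonoidalCategory.whiskerLeft_apply _ _ w x
    simp only [ModuleCat.hom_comp, ModuleCat.hom_add, LinearMap.comp_apply, LinearMap.add_apply,
      uncurryComp_tmul]
    rw [e1, uncurryComp_tmul, hw, hom_units_smul, ModuleCat.hom_comp, LinearMap.comp_apply, e2,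
      uncurryComp_tmul,
      δ_v p (p + 1) rfl _ q (n + 1) (by omega) n (q + 1) (by omega) rfl]
    rw [Int.negOnePow_succ, Units.neg_smul, ModuleCat.hom_add, LinearMap.add_apply,
      ModuleCat.hom_neg, LinearMap.neg_apply, hom_units_smul, ModuleCat.hom_comp,
      LinearMap.comp_apply, ModuleCat.hom_comp, LinearMap.comp_apply]
    abel

lemma uncurry_curry {W Y : Cx A} (f : W ⊗ P ⟶ Y) : uncurry (curry f) = f := by
  ext n : 1
  apply tensor_hom_ext
  intro p q hpq
  change _ ≫ uncurryF (curry f) n = _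
  rw [ι_uncurryF]
  apply ModuleCat.MonoidalCategory.tensor_ext
  intro w x
  rw [uncurryComp_tmul]
  rfl

lemma curry_uncurry {W Y : Cx A} (g : W ⟶ DRing.homCx P Y) : curry (uncurry g) = g := by
  ext p : 1
  ext w
  change curryLin (uncurry g) p w = (g.f p).hom w
  refine Cochain.ext _ _ (fun q q' hq => ?_)
  simp only [curryLin, LinearMap.coe_mk, AddHom.coe_mk, Cochain.mk_v]
  change _ ≫ _ ≫ uncurryF g q' = _
  rw [ι_uncurryF]
  ext x
  change (uncurryComp g p q q' (by omega)).hom (w ⊗ₜ[A] x) = _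
  rw [uncurryComp_tmul]

/-- the tensor-hom bijection for complexes -/
noncomputable def homEquiv (W Y : Cx A) : (W ⊗ P ⟶ Y) ≃ (W ⟶ DRing.homCx P Y) where
  toFun := curry
  invFun := uncurry
  left_inv := uncurry_curry
  right_inv := curry_uncurry

lemma uncurry_naturality_left {W' W Y : Cx A} (a : W' ⟶ W) (g : W ⟶ DRing.homCx P Y) :
    uncurry (a ≫ g) = (a ▷ P) ≫ uncurry g := by
  ext n : 1
  apply tensor_hom_ext
  intro p q hpq
  change _ ≫ uncurryF (a ≫ g) n = _ ≫ (a ▷ P).f n ≫ uncurryF g n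
  rw [ι_uncurryF, ι_whiskerRight_assoc, ι_uncurryF]
  apply ModuleCat.MonoidalCategory.tensor_ext
  intro w x
  have e1 : (a.f p ▷ P.X q).hom (w ⊗ₜ[A] x) = ((a.f p).hom w) ⊗ₜ[A] x :=
    ModuleCat.MonoidalCategory.whiskerRight_apply _ _ w x
  rw [uncurryComp_tmul, ModuleCat.hom_comp, LinearMap.comp_apply, e1, uncurryComp_tmul]
  have e2 : ((a ≫ g).f p).hom w = (g.f p).hom ((a.f p).hom w) := by
    rw [HomologicalComplex.comp_f, ModuleCat.hom_comp, LinearMap.comp_apply]
  rw [e2]

lemma curry_naturality_right {W Y Y' : Cx A} (f : W ⊗ P ⟶ Y) (b : Y ⟶ Y') :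
    curry (f ≫ b) = curry f ≫ DRing.homCxMap P b := by
  ext p : 1
  ext w
  change curryLin (f ≫ b) p w = (curryLin f p w).comp (Cochain.ofHom b) (add_zero p)
  refine Cochain.ext _ _ (fun q q' hq => ?_)
  rw [Cochain.comp_zero_cochain_v, Cochain.ofHom_v]
  simp [curryLin]

variable (P)

/-- the tensor-hom adjunction `(- ⊗ P) ⊣ Hom(P, -)` on cochain complexes of modules -/
noncomputable def adj : tensorRight P ⊣ DRing.homCxFunctor P :=
  Adjunction.mkOfHomEquiv
    { homEquiv := fun W Y => homEquiv W Y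
      homEquiv_naturality_left_symm := fun a g => uncurry_naturality_left a g
      homEquiv_naturality_right := fun f b => curry_naturality_right f b }

/-- the evaluation map `Hom(P, Y) ⊗ P ⟶ Y` -/
noncomputable def ev (Y : Cx A) : DRing.homCx P Y ⊗ P ⟶ Y := uncurry (𝟙 (DRing.homCx P Y))

lemma adj_counit_app (Y : Cx A) : (adj P).counit.app Y = ev P Y := by
  simp only [adj, ev, Adjunction.mkOfHomEquiv_counit_app]
  rfl

lemma ι_ev_tmul (Y : Cx A) (p q n : ℤ) (h : p + q = n) (z : Cochain P Y p) (x : P.X q) :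
    (ιTensorObj (DRing.homCx P Y) P p q n h ≫ (ev P Y).f n).hom (z ⊗ₜ[A] x) =
      (z.v q n (by omega)).hom x := by
  change (_ ≫ uncurryF (𝟙 (DRing.homCx P Y)) n).hom _ = _
  rw [ι_uncurryF, uncurryComp_tmul]
  rfl

variable {P}

/-- precomposition with `a : P ⟶ P'` as a linear map on cochains -/
noncomputable def precompLin {P' : Cx A} (a : P ⟶ P') (Y : Cx A) (n : ℤ) :
    Cochain P' Y n →ₗ[A] Cochain P Y n where
  toFun z := (Cochain.ofHom a).comp z (zero_add n)
  map_add' z z' := by simp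
  map_smul' c z := by simp

/-- contravariant functoriality of the Hom complex -/
noncomputable def homCxPre {P' : Cx A} (a : P ⟶ P') (Y : Cx A) :
    DRing.homCx P' Y ⟶ DRing.homCx P Y where
  f n := ModuleCat.ofHom (precompLin a Y n)
  comm' n n' _ := by
    ext z
    change δ n n' ((Cochain.ofHom a).comp z (zero_add n)) =
      (Cochain.ofHom a).comp (δ n n' z) (zero_add n')
    exact δ_ofHom_comp a z n'

/-- dinaturality of the evaluation -/
lemma homCxPre_ev {P' : Cx A} (a : P ⟶ P') (Y : Cx A) :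
    (homCxPre a Y ▷ P) ≫ ev P Y = (DRing.homCx P' Y ◁ a) ≫ ev P' Y := by
  ext n : 1
  apply tensor_hom_ext
  intro p q hpq
  rw [HomologicalComplex.comp_f, HomologicalComplex.comp_f, ι_whiskerRight_assoc,
    ι_whiskerLeft_assoc]
  apply ModuleCat.MonoidalCategory.tensor_ext
  intro z x
  have e1 : ((homCxPre a Y).f p ▷ P.X q).hom (z ⊗ₜ[A] x) =
      ((homCxPre a Y).f p).hom z ⊗ₜ[A] x :=
    ModuleCat.MonoidalCategory.whiskerRight_apply _ _ z x
  have e2 : ((DRing.homCx P' Y).X p ◁ a.f q).hom (z ⊗ₜ[A] x) = z ⊗ₜ[A] ((a.f q).hom x) :=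
    ModuleCat.MonoidalCategory.whiskerLeft_apply _ _ z x
  have L : (((homCxPre a Y).f p ▷ P.X q) ≫
      (ιTensorObj (DRing.homCx P Y) P p q n hpq ≫ (ev P Y).f n)).hom (z ⊗ₜ[A] x) =
      (ιTensorObj (DRing.homCx P Y) P p q n hpq ≫ (ev P Y).f n).hom
        (((homCxPre a Y).f p).hom z ⊗ₜ[A] x) := by
    rw [ModuleCat.hom_comp, LinearMap.comp_apply, e1]
  have R : (((DRing.homCx P' Y).X p ◁ a.f q) ≫
      (ιTensorObj (DRing.homCx P' Y) P' p q n hpq ≫ (ev P' Y).f n)).hom (z ⊗ₜ[A] x) =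
      (ιTensorObj (DRing.homCx P' Y) P' p q n hpq ≫ (ev P' Y).f n).hom
        (z ⊗ₜ[A] ((a.f q).hom x)) := by
    rw [ModuleCat.hom_comp, LinearMap.comp_apply, e2]
  rw [L, R, ι_ev_tmul P' Y p q n hpq]
  erw [ι_ev_tmul P Y p q n hpq]
  change ((((Cochain.ofHom a).comp z (zero_add p)).v q n (by omega)).hom x) = _
  rw [Cochain.zero_cochain_comp_v, Cochain.ofHom_v]
  rfl

lemma homCxPre_f_apply_v {P' : Cx A} (a : P ⟶ P') (Y : Cx A) (n : ℤ) (z : Cochain P' Y n)
    (p q : ℤ) (hpq : p + n = q) :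
    (((homCxPre a Y).f n).hom z : Cochain P Y n).v p q hpq = a.f p ≫ z.v p q hpq := by
  change ((Cochain.ofHom a).comp z (zero_add n)).v p q hpq = _
  rw [Cochain.zero_cochain_comp_v, Cochain.ofHom_v]

lemma homCxPre_comp {P' P'' : Cx A} (a : P ⟶ P') (b : P' ⟶ P'') (Y : Cx A) :
    homCxPre (a ≫ b) Y = homCxPre b Y ≫ homCxPre a Y := by
  ext n : 1
  ext z
  refine Cochain.ext _ _ (fun p q hpq => ?_)
  rw [HomologicalComplex.comp_f, ModuleCat.hom_comp, LinearMap.comp_apply]
  erw [homCxPre_f_apply_v, homCxPre_f_apply_v, homCxPre_f_apply_v]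
  simp

lemma homCxPre_zero {P' : Cx A} (Y : Cx A) : homCxPre (0 : P ⟶ P') Y = 0 := by
  ext n : 1
  ext z
  refine Cochain.ext _ _ (fun p q hpq => ?_)
  erw [homCxPre_f_apply_v]
  rw [HomologicalComplex.zero_f, zero_comp]
  rfl

/-- `Hom(-, Y)` sends degreewise split short exact sequences of complexes to short exact
sequences. -/
theorem homCxPre_shortExact (S : ShortComplex (Cx A))
    (σ : ∀ n, (S.map (HomologicalComplex.eval _ _ n)).Splitting) (Y : Cx A) :
    (ShortComplex.mk (homCxPre S.g Y) (homCxPre S.f Y)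
      (by rw [← homCxPre_comp, S.zero, homCxPre_zero])).ShortExact := by
  apply HomologicalComplex.shortExact_of_degreewise_shortExact
  intro n
  have key : ∀ p : ℤ, ∃ (r : S.X₂.X p ⟶ S.X₁.X p) (s : S.X₃.X p ⟶ S.X₂.X p),
      S.f.f p ≫ r = 𝟙 (S.X₁.X p) ∧ s ≫ S.g.f p = 𝟙 (S.X₃.X p) ∧
        r ≫ S.f.f p + S.g.f p ≫ s = 𝟙 (S.X₂.X p) :=
    fun p => ⟨(σ p).r, (σ p).s, (σ p).f_r, (σ p).s_g, (σ p).id⟩
  choose r s hfr hsg hid using key
  refine { exact := ?_, mono_f := ?_, epi_g := ?_ }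
  · -- exactness
    rw [ShortComplex.moduleCat_exact_iff]
    intro (z : Cochain S.X₂ Y n) hz
    have hz' : ∀ p q hpq, S.f.f p ≫ z.v p q hpq = 0 := by
      intro p q hpq
      have := Cochain.congr_v hz p q hpq
      erw [homCxPre_f_apply_v] at this
      exact this
    refine ⟨Cochain.mk (fun p q hpq => s p ≫ z.v p q hpq), ?_⟩
    refine Cochain.ext _ _ (fun p q hpq => ?_)
    erw [homCxPre_f_apply_v]
    rw [Cochain.mk_v, ← Category.assoc]
    have h1 : S.g.f p ≫ s p =
        𝟙 _ - r p ≫ S.f.f p := by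
      rw [← hid p, add_sub_cancel_left]
    rw [h1, Preadditive.sub_comp, Category.id_comp, Category.assoc, hz', comp_zero, sub_zero]
  · -- mono
    rw [ModuleCat.mono_iff_injective]
    intro (z : Cochain S.X₃ Y n) (z' : Cochain S.X₃ Y n) hzz'
    refine Cochain.ext _ _ (fun p q hpq => ?_)
    have := Cochain.congr_v hzz' p q hpq
    erw [homCxPre_f_apply_v, homCxPre_f_apply_v] at this
    have h2 := congrArg (fun t => s p ≫ t) this
    simp only [← Category.assoc] at h2
    rw [hsg p, Category.id_comp, Category.id_comp] at h2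
    exact h2
  · -- epi
    rw [ModuleCat.epi_iff_surjective]
    intro (y : Cochain S.X₁ Y n)
    refine ⟨Cochain.mk (fun p q hpq => r p ≫ y.v p q hpq), ?_⟩
    refine Cochain.ext _ _ (fun p q hpq => ?_)
    erw [homCxPre_f_apply_v]
    rw [Cochain.mk_v, ← Category.assoc, hfr p, Category.id_comp]

end Groth.Agent.Lib.Helper10.TensHom
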