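import Mathlib
import Groth.Agent.Lib.Helper1KF2
set_option backward.isDefEq.respectTransparency.types false

/-!
# K-flat complexes: tensoring with a K-flat complex preserves quasi-isomorphisms
(helper1, K-flat cluster, part 4)
-/

set_option autoImplicit false
universe u
open CategoryTheory CategoryTheory.Limits MonoidalCategory HomologicalComplex

namespace Groth.Agent.Lib.Helper1.KF

section les

variable {C : Type*} [Category C] [Abelian C]

/-- a morphism of short exact sequences of cochain complexes, with acyclic middle term in the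
source, which is a quasi-isomorphism on the first and third terms, has acyclic middle term in
the target. -/
lemma acyclic_middle_of_quasiIso {S₁ S₂ : ShortComplex (CochainComplex C ℤ)} (φ : S₁ ⟶ S₂)
    (hS₁ : S₁.ShortExact) (hS₂ : S₂.ShortExact)
    (h₁ : ∀ i, IsZero (S₁.X₂.homology i)) [QuasiIso φ.τ₁] [QuasiIso φ.τ₃] (j : ℤ) :
    IsZero (S₂.X₂.homology j) := by
  have key : ∀ n : ℤ, IsIso (hS₂.δ (n - 1) n (by simp)) := by
    intro n
    have hr : (ComplexShape.up ℤ).Rel (n - 1) n := by simp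
    have hnat := HomologySequence.δ_naturality φ hS₁ hS₂ (n - 1) n hr
    have i₁ := hS₁.isIso_δ (n - 1) n hr (h₁ _) (h₁ _)
    have : hS₂.δ (n - 1) n hr =
        inv (homologyMap φ.τ₃ (n - 1)) ≫ hS₁.δ (n - 1) n hr ≫ homologyMap φ.τ₁ n := by
      rw [hnat]; simp
    rw [this]
    infer_instance
  have hr₁ : (ComplexShape.up ℤ).Rel (j - 1) j := by simp
  have hr₂ : (ComplexShape.up ℤ).Rel j (j + 1) := rfl
  have k₁ : IsIso (hS₂.δ (j - 1) j hr₁) := key j
  have k₂ : IsIso (hS₂.δ j (j + 1) hr₂) := by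
    have := key (j + 1)
    have e : j + 1 - 1 = j := by abel
    convert this using 2 <;> simp
  refine (hS₂.homology_exact₂ j).isZero_of_both_zeros ?_ ?_
  · have := hS₂.δ_comp (j - 1) j hr₁
    rwa [← cancel_epi (hS₂.δ (j - 1) j hr₁), comp_zero]
  · have := hS₂.comp_δ j (j + 1) hr₂
    rwa [← cancel_mono (hS₂.δ j (j + 1) hr₂), zero_comp]

end les

variable {R : Type u} [CommRing R]

lemma acyc_of_homotopy_id_zero {X : Cx R} (h : Homotopy (𝟙 X) 0) : Acyc X := by
  intro i
  rw [IsZero.iff_id_eq_zero, ← homologyMap_id, h.homologyMap_eq, homologyMap_zero]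

section cone

open CochainComplex

variable {X Y : Cx R} (f : X ⟶ Y)

/-- the morphism from the cone sequence of `𝟙 X` to the cone sequence of `f` -/
noncomputable def coneMap :
    mappingCone.triangleRotateShortComplex (𝟙 X) ⟶ mappingCone.triangleRotateShortComplex f where
  τ₁ := f
  τ₂ := mappingCone.map (𝟙 X) f (𝟙 X) f (by simp)
  τ₃ := (𝟙 X)⟦(1 : ℤ)⟧'
  comm₁₂ := ((mappingCone.triangleMap (𝟙 X) f (𝟙 X) f (by simp)).comm₂).symm
  comm₂₃ := ((mappingCone.triangleMap (𝟙 X) f (𝟙 X) f (by simp)).comm₃).symm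

lemma coneSES_shortExact : (mappingCone.triangleRotateShortComplex f).ShortExact :=
  shortExact_of_degreewise_shortExact _
    (fun n => (mappingCone.triangleRotateShortComplexSplitting f n).shortExact)

lemma acyc_cone_id (X : Cx R) : Acyc (mappingCone (𝟙 X)) :=
  acyc_of_homotopy_id_zero (mappingCone.homotopyToZeroOfId X)

lemma coneMap_τ₃ : (coneMap f).τ₃ = 𝟙 (X⟦(1 : ℤ)⟧) := by
  show (CategoryTheory.shiftFunctor (Cx R) (1 : ℤ)).map (𝟙 X) = 𝟙 _
  exact CategoryTheory.Functor.map_id _ _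

lemma quasiIso_coneMap_τ₃ : QuasiIso (coneMap f).τ₃ := by
  have h : QuasiIso (𝟙 (X⟦(1 : ℤ)⟧)) := inferInstance
  rw [coneMap_τ₃]; exact h

lemma acyc_cone_of_quasiIso [QuasiIso f] : Acyc (mappingCone f) := by
  have : QuasiIso (coneMap f).τ₁ := by show QuasiIso f; infer_instance
  have := quasiIso_coneMap_τ₃ f
  exact acyclic_middle_of_quasiIso (coneMap f) (coneSES_shortExact _) (coneSES_shortExact _)
    (acyc_cone_id X)

lemma quasiIso_of_acyc_cone (h : Acyc (mappingCone f)) : QuasiIso f := by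
  have := quasiIso_coneMap_τ₃ f
  exact quasiIso_τ₁_of_acyclic_middle (coneMap f) (coneSES_shortExact _) (coneSES_shortExact _)
    (acyc_cone_id X) h

/-- tensoring on the right with a K-flat complex preserves quasi-isomorphisms -/
theorem quasiIso_whiskerRight_of_kflat [QuasiIso f] (K : Cx R) (hK : KFlat K) :
    QuasiIso (f ▷ K) := by
  let ψ := (tensorRight K).mapShortComplex.map (coneMap f)
  have hτ₃ : QuasiIso ψ.τ₃ := by
    have e : ψ.τ₃ = 𝟙 ((X⟦(1 : ℤ)⟧) ⊗ K) := by
      show (coneMap f).τ₃ ▷ K = 𝟙 _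
      rw [coneMap_τ₃]
      exact MonoidalCategory.id_whiskerRight _ _
    have h : QuasiIso (𝟙 ((X⟦(1 : ℤ)⟧) ⊗ K)) := inferInstance
    rw [e]; exact h
  have h₁ : Acyc (mappingCone (𝟙 X) ⊗ K) :=
    acyc_of_homotopy_id_zero
      ((Homotopy.ofEq (MonoidalCategory.id_whiskerRight _ K).symm).trans
        ((mapBifunctorMapHomotopy₁ (mappingCone.homotopyToZeroOfId X) (𝟙 K)
          (curriedTensor (ModuleCat.{u} R)) (ComplexShape.up ℤ)).trans
          (Homotopy.ofEq (by
            rw [← whiskerRight_eq]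
            exact (tensorRight K).map_zero _ _))))
  have h₂ : Acyc (mappingCone f ⊗ K) := hK _ (acyc_cone_of_quasiIso f)
  exact quasiIso_τ₁_of_acyclic_middle ψ (cone_tensorRight_shortExact (𝟙 X) K)
    (cone_tensorRight_shortExact f K) h₁ h₂

/-- tensoring on the left with a left K-flat complex preserves quasi-isomorphisms -/
theorem quasiIso_whiskerLeft_of_kflatL [QuasiIso f] (K : Cx R) (hK : KFlatL K) :
    QuasiIso (K ◁ f) := by
  let ψ := (tensorLeft K).mapShortComplex.map (coneMap f)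
  have hτ₃ : QuasiIso ψ.τ₃ := by
    have e : ψ.τ₃ = 𝟙 (K ⊗ (X⟦(1 : ℤ)⟧)) := by
      show K ◁ (coneMap f).τ₃ = 𝟙 _
      rw [coneMap_τ₃]
      exact MonoidalCategory.whiskerLeft_id _ _
    have h : QuasiIso (𝟙 (K ⊗ (X⟦(1 : ℤ)⟧))) := inferInstance
    rw [e]; exact h
  have h₁ : Acyc (K ⊗ mappingCone (𝟙 X)) :=
    acyc_of_homotopy_id_zero
      ((Homotopy.ofEq (MonoidalCategory.whiskerLeft_id K _).symm).trans
        ((mapBifunctorMapHomotopy₂ (𝟙 K) (mappingCone.homotopyToZeroOfId X)
          (curriedTensor (ModuleCat.{u} R)) (ComplexShape.up ℤ)).trans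
          (Homotopy.ofEq (by
            rw [← whiskerLeft_eq]
            exact (tensorLeft K).map_zero _ _))))
  have h₂ : Acyc (K ⊗ mappingCone f) := hK _ (acyc_cone_of_quasiIso f)
  exact quasiIso_τ₁_of_acyclic_middle ψ (cone_tensorLeft_shortExact (𝟙 X) K)
    (cone_tensorLeft_shortExact f K) h₁ h₂

end cone

end Groth.Agent.Lib.Helper1.KF
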