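import Mathlib
import Groth.Agent.Lib.Helper1KF4
set_option backward.isDefEq.respectTransparency.types false

/-!
# Tensor products of complexes commute with mapping cones (helper10)

For `φ : X ⟶ Y` and `L` in `Cx R = CochainComplex (ModuleCat R) ℤ`:
* `coneTensorIso φ L : mappingCone (φ ▷ L) ≅ mappingCone φ ⊗ L` (an isomorphism of complexes,
  built from Mathlib's `mapBifunctorMapHomotopy₁` and the five lemma on helper1's
  `cone_tensorRight_shortExact`);
* `coneIsoOfIso`: isomorphic morphisms have isomorphic mapping cones;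
* `smul_id_whiskerRight`, `coneSmulTensorIso : mappingCone (a • 𝟙 X) ⊗ L ≅ mappingCone (a • 𝟙 (X ⊗ L))`.
-/

set_option autoImplicit false
universe u
open CategoryTheory CategoryTheory.Limits MonoidalCategory HomologicalComplex CochainComplex

namespace Groth.Agent.Lib.Helper10.ConeTensor
open Groth.Agent.Lib.Helper1.KF

variable {R : Type u} [CommRing R] {X Y : Cx R} (φ : X ⟶ Y) (L : Cx R)

lemma zero_whiskerRight' (X Y : Cx R) (L : Cx R) : (0 : X ⟶ Y) ▷ L = 0 :=
  (tensorRight L).map_zero X Y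

/-- the homotopy `(φ ▷ L) ≫ (inr φ ▷ L) ∼ 0` -/
noncomputable def homot : Homotopy ((φ ▷ L) ≫ (mappingCone.inr φ ▷ L)) 0 :=
  (Homotopy.ofEq (by rw [← MonoidalCategory.comp_whiskerRight]; rfl)).trans
    ((mapBifunctorMapHomotopy₁
      (homotopyCofiber.inrCompHomotopy φ (fun j => ⟨j - 1, by simp⟩)) (𝟙 L)
      (curriedTensor (ModuleCat.{u} R)) (ComplexShape.up ℤ)).trans
      (Homotopy.ofEq (zero_whiskerRight' _ _ L)))

/-- the comparison map `Cone(φ ▷ L) ⟶ Cone(φ) ⊗ L` -/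
noncomputable def coneTensorHom : mappingCone (φ ▷ L) ⟶ mappingCone φ ⊗ L :=
  mappingCone.desc (φ ▷ L) (HomComplex.Cochain.ofHomotopy (homot φ L)) (mappingCone.inr φ ▷ L)
    (by rw [HomComplex.δ_ofHomotopy]; simp)

lemma inr_coneTensorHom :
    mappingCone.inr (φ ▷ L) ≫ coneTensorHom φ L = mappingCone.inr φ ▷ L := by
  simp [coneTensorHom]

/-- the connecting map of the cone, with explicit source and target -/
noncomputable def δm : mappingCone φ ⟶ X⟦(1 : ℤ)⟧ := (mappingCone.triangle φ).mor₃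

lemma inr_δm : mappingCone.inr φ ≫ δm φ = 0 := mappingCone.inr_triangleδ φ

lemma homot_hom (p q : ℤ) :
    (homot φ L).hom p q = mapBifunctorMapHomotopy.hom₁
      (homotopyCofiber.inrCompHomotopy φ (fun j => ⟨j - 1, by simp⟩)) (𝟙 L)
      (curriedTensor (ModuleCat.{u} R)) (ComplexShape.up ℤ) p q := by
  simp [homot, mapBifunctorMapHomotopy₁]

lemma ι_homot_hom (p q n : ℤ) (hpq : p + q = n + 1) :
    ιTensorObj X L p q (n + 1) hpq ≫ (homot φ L).hom (n + 1) n =
      ((mappingCone.inl φ).v p (p - 1) (by lia) ▷ L.X q) ≫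
        ιTensorObj (mappingCone φ) L (p - 1) q n (by lia) := by
  have := mapBifunctorMapHomotopy.ιMapBifunctor_hom₁
    (homotopyCofiber.inrCompHomotopy φ (fun j => ⟨j - 1, by simp⟩)) (𝟙 L)
    (curriedTensor (ModuleCat.{u} R)) (ComplexShape.up ℤ) (p - 1) p q (n + 1) n hpq (by simp)
  rw [homot_hom]
  refine this.trans ?_
  rw [ιMapBifunctorOrZero_eq _ _ _ _ _ _ _ (by simp; lia)]
  simp
  rw [homotopyCofiber.inrCompHomotopy_hom φ _ p (p - 1) (by simp)]
  rfl


lemma coneTensorHom_comm_inl (n : ℤ) :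
    (mappingCone.inl (φ ▷ L)).v (n + 1) n (by lia) ≫ (δm (φ ▷ L)).f n =
      (mappingCone.inl (φ ▷ L)).v (n + 1) n (by lia) ≫
        (coneTensorHom φ L ≫ (δm φ ▷ L) ≫ (tensorShiftLeftIso X L 1).hom).f n := by
  have h1 : (mappingCone.inl (φ ▷ L)).v (n + 1) n (by lia) ≫ (δm (φ ▷ L)).f n = _ :=
    mappingCone.inl_v_triangle_mor₃_f _ (n + 1) n (by lia)
  rw [h1]
  simp only [comp_f, coneTensorHom, mappingCone.inl_v_desc_f_assoc]
  rw [HomComplex.Cochain.ofHomotopy, HomComplex.Cochain.mk_v]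
  apply tensor_hom_ext
  intro p q hpq
  rw [reassoc_of% (ι_homot_hom φ L p q n hpq), ι_whiskerRight_assoc]
  have h2 := ι_mapBifunctorShift₁Iso_hom_f X L (curriedTensor (ModuleCat.{u} R)) 1 (p - 1) q n
    (by lia) p (n + 1) (by lia) rfl
  have h3 : (mappingCone.inl φ).v p (p - 1) (by lia) ≫ (δm φ).f (p - 1) = _ :=
    mappingCone.inl_v_triangle_mor₃_f φ p (p - 1) (by lia)
  unfold tensorShiftLeftIso
  erw [h2]
  rw [← MonoidalCategory.comp_whiskerRight_assoc, h3]
  have hneg : ∀ {A B : ModuleCat.{u} R} (f : A ⟶ B) (Z : ModuleCat.{u} R),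
      (-f) ▷ Z = -(f ▷ Z) := fun f Z => (tensorRight Z).map_neg
  simp only [hneg, Preadditive.neg_comp, Preadditive.comp_neg, neg_inj]
  change _ = _ ≫ ((shiftFunctorObjXIso X 1 (p - 1) p (by lia)).hom ▷ L.X q) ≫ _
  rw [← MonoidalCategory.comp_whiskerRight_assoc, Iso.inv_hom_id, MonoidalCategory.id_whiskerRight,
    Category.id_comp]
  rfl


lemma coneTensorHom_comm :
    δm (φ ▷ L) = coneTensorHom φ L ≫ (δm φ ▷ L) ≫ (tensorShiftLeftIso X L 1).hom := by
  ext n : 1
  refine (mappingCone.ext_from_iff _ (n + 1) n rfl _ _).2 ⟨coneTensorHom_comm_inl φ L n, ?_⟩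
  have h1 : (mappingCone.inr (φ ▷ L)).f n ≫ (δm (φ ▷ L)).f n = 0 :=
    mappingCone.inr_f_triangle_mor₃_f _ n
  rw [h1, ← comp_f, reassoc_of% (inr_coneTensorHom φ L),
    ← MonoidalCategory.comp_whiskerRight_assoc, inr_δm, zero_whiskerRight']
  simp

/-- the morphism of short exact sequences used for the five lemma -/
noncomputable def coneTensorSC :
    mappingCone.triangleRotateShortComplex (φ ▷ L) ⟶
      (mappingCone.triangleRotateShortComplex φ).map (tensorRight L) where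
  τ₁ := 𝟙 _
  τ₂ := coneTensorHom φ L
  τ₃ := (tensorShiftLeftIso X L 1).inv
  comm₁₂ := by
    have := inr_coneTensorHom φ L
    exact (Category.id_comp (mappingCone.inr φ ▷ L)).trans this.symm
  comm₂₃ := by
    have := coneTensorHom_comm φ L
    rw [← Category.assoc, ← Iso.comp_inv_eq] at this
    exact this.symm

instance : IsIso (coneTensorHom φ L) := by
  have h1 : IsIso (coneTensorSC φ L).τ₁ := by
    show IsIso (𝟙 (Y ⊗ L)); infer_instance
  have h3 : IsIso (coneTensorSC φ L).τ₃ := by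
    show IsIso (tensorShiftLeftIso X L 1).inv; infer_instance
  exact ShortComplex.isIso₂_of_shortExact_of_isIso₁₃' (coneTensorSC φ L)
    (coneSES_shortExact _) (cone_tensorRight_shortExact φ L) h1 h3

/-- `Cone(φ ▷ L) ≅ Cone(φ) ⊗ L` -/
noncomputable def coneTensorIso : mappingCone (φ ▷ L) ≅ mappingCone φ ⊗ L :=
  asIso (coneTensorHom φ L)


lemma smul_id_whiskerRight (a : R) (X L : Cx R) : (a • 𝟙 X) ▷ L = a • 𝟙 (X ⊗ L) := by
  refine HomologicalComplex.hom_ext _ _ (fun n => ?_)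
  apply tensor_hom_ext
  intro p q hpq
  rw [ι_whiskerRight]
  simp
  erw [Category.comp_id]

/-- isomorphic morphisms have isomorphic cones -/
noncomputable def coneIsoOfIso {X Y X' Y' : Cx R} (φ : X ⟶ Y) (φ' : X' ⟶ Y') (a : X ≅ X')
    (b : Y ≅ Y') (comm : φ ≫ b.hom = a.hom ≫ φ') : mappingCone φ ≅ mappingCone φ' where
  hom := mappingCone.map φ φ' a.hom b.hom comm
  inv := mappingCone.map φ' φ a.inv b.inv (by
    rw [← cancel_epi a.hom, ← Category.assoc, ← comm]; simp)
  hom_inv_id := by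
    rw [← mappingCone.map_comp]
    simp only [Iso.hom_inv_id]
    exact mappingCone.map_id φ
  inv_hom_id := by
    rw [← mappingCone.map_comp]
    simp only [Iso.inv_hom_id]
    exact mappingCone.map_id φ'

/-- `Cone(a • 𝟙 X) ⊗ L ≅ Cone(a • 𝟙 (X ⊗ L))` -/
noncomputable def coneSmulTensorIso (a : R) (X L : Cx R) :
    mappingCone (a • 𝟙 X) ⊗ L ≅ mappingCone (a • 𝟙 (X ⊗ L)) :=
  (coneTensorIso (a • 𝟙 X) L).symm ≪≫
    coneIsoOfIso _ _ (Iso.refl _) (Iso.refl _) (by rw [smul_id_whiskerRight]; simp)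

end Groth.Agent.Lib.Helper10.ConeTensor
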