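import Mathlib

/-!
# A five lemma for natural transformations between "Hom-exact" functors (helper10)

`HExact F`: the functor `F : C ⥤ D` out of a pretriangulated category sends every distinguished
triangle `X → Y → Z →` to a sequence `F X → F Y → F Z` which is exact at the middle term after
applying `Hom(W, -)` for every `W` (e.g. any triangulated functor, or any functor isomorphic to one,
with no compatibility with shifts required).

For a natural transformation `η : F ⟶ G` between such functors (preserving zero morphisms),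
`Good η K` says that `η` is an isomorphism at all shifts of `K`.  The class of good objects is
closed under isomorphisms, shifts, retracts, and satisfies two-out-of-three in distinguished
triangles (`good_obj₃`, `good_obj₂`).
-/

set_option autoImplicit false
universe v₁ v₂ u₁ u₂
open CategoryTheory CategoryTheory.Limits CategoryTheory.Pretriangulated

namespace Groth.Agent.Lib.Helper10.DTenA

variable {C : Type u₁} [Category.{v₁} C] [Preadditive C] [HasZeroObject C] [HasShift C ℤ]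
  [∀ n : ℤ, (shiftFunctor C n).Additive] [Pretriangulated C]
  {D : Type u₂} [Category.{v₂} D] [Preadditive D]

/-- `F` sends distinguished triangles to sequences which are `Hom(W, -)`-exact at the middle. -/
def HExact (F : C ⥤ D) : Prop :=
  ∀ T ∈ distTriang C, ∀ ⦃W : D⦄ (f : W ⟶ F.obj T.obj₂), f ≫ F.map T.mor₂ = 0 →
    ∃ g : W ⟶ F.obj T.obj₁, g ≫ F.map T.mor₁ = f

/-- exactness at the middle for a single triangle -/
def ExactAt (F : C ⥤ D) (T : Triangle C) : Prop :=
  ∀ ⦃W : D⦄ (f : W ⟶ F.obj T.obj₂), f ≫ F.map T.mor₂ = 0 →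
    ∃ g : W ⟶ F.obj T.obj₁, g ≫ F.map T.mor₁ = f

lemma hexact_iff (F : C ⥤ D) : HExact F ↔ ∀ T ∈ distTriang C, ExactAt F T := Iff.rfl

lemma ExactAt.of_iso {F : C ⥤ D} {T T' : Triangle C} (e : T ≅ T') (h : ExactAt F T') :
    ExactAt F T := by
  intro W f hf
  have h1 : (f ≫ F.map e.hom.hom₂) ≫ F.map T'.mor₂ = 0 := by
    rw [Category.assoc, ← F.map_comp, ← e.hom.comm₂, F.map_comp, reassoc_of% hf, zero_comp]
  obtain ⟨g', hg'⟩ := h _ h1
  refine ⟨g' ≫ F.map e.inv.hom₁, ?_⟩
  rw [Category.assoc, ← F.map_comp, ← e.inv.comm₁, F.map_comp, reassoc_of% hg',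
    ← F.map_comp, ← comp_hom₂, e.hom_inv_id, id_hom₂, F.map_id, Category.comp_id]

lemma ExactAt.of_natIso {F F' : C ⥤ D} (e : F ≅ F') {T : Triangle C} (h : ExactAt F T) :
    ExactAt F' T := by
  intro W f hf
  have h1 : (f ≫ e.inv.app T.obj₂) ≫ F.map T.mor₂ = 0 := by
    rw [Category.assoc, ← e.inv.naturality, reassoc_of% hf, zero_comp]
  obtain ⟨g', hg'⟩ := h _ h1
  refine ⟨g' ≫ e.hom.app T.obj₁, ?_⟩
  rw [Category.assoc, ← e.hom.naturality, reassoc_of% hg', e.inv_hom_id_app,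
    Category.comp_id]

lemma HExact.of_natIso {F F' : C ⥤ D} (e : F ≅ F') (h : HExact F) : HExact F' :=
  fun T hT => ExactAt.of_natIso e (h T hT)

lemma HExact.comp_rightAdjoint {E : Type*} [Category E] [Preadditive E] {F : C ⥤ D}
    (h : HExact F) {L' : E ⥤ D} {R : D ⥤ E} (adj : L' ⊣ R) [R.PreservesZeroMorphisms] :
    HExact (F ⋙ R) := by
  intro T hT W f hf
  have h1 : (adj.homEquiv W _).symm f ≫ F.map T.mor₂ = 0 := by
    apply (adj.homEquiv W _).injective
    rw [Adjunction.homEquiv_naturality_right, Equiv.apply_symm_apply]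
    rw [Adjunction.homEquiv_unit, R.map_zero, comp_zero]
    exact hf
  obtain ⟨g', hg'⟩ := h T hT _ h1
  refine ⟨adj.homEquiv W _ g', ?_⟩
  change adj.homEquiv W _ g' ≫ R.map (F.map T.mor₁) = f
  rw [← Adjunction.homEquiv_naturality_right, hg', Equiv.apply_symm_apply]

variable {F G : C ⥤ D} (η : F ⟶ G)

lemma isIso_app_of_iso {X Y : C} (e : X ≅ Y) (h : IsIso (η.app X)) : IsIso (η.app Y) := by
  have : η.app Y = F.map e.inv ≫ η.app X ≫ G.map e.hom := by
    rw [← η.naturality, ← F.map_comp_assoc, e.inv_hom_id, F.map_id, Category.id_comp]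
  rw [this]
  infer_instance

lemma isIso_app_of_retract {X Y : C} (i : X ⟶ Y) (p : Y ⟶ X) (hip : i ≫ p = 𝟙 X)
    (h : IsIso (η.app Y)) : IsIso (η.app X) := by
  refine ⟨G.map i ≫ inv (η.app Y) ≫ F.map p, ?_, ?_⟩
  · rw [← η.naturality_assoc, IsIso.hom_inv_id_assoc, ← F.map_comp, hip, F.map_id]
  · rw [Category.assoc, Category.assoc, η.naturality, IsIso.inv_hom_id_assoc, ← G.map_comp, hip,
      G.map_id]

lemma isIso_app_of_isZero [F.PreservesZeroMorphisms] [G.PreservesZeroMorphisms] {X : C}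
    (hX : IsZero X) : IsIso (η.app X) := by
  have hF : IsZero (F.obj X) := F.map_isZero hX
  have hG : IsZero (G.obj X) := G.map_isZero hX
  exact ⟨0, hF.eq_of_src _ _, hG.eq_of_src _ _⟩

/-- the five lemma -/
theorem isIso_app_obj₃ [F.PreservesZeroMorphisms] [G.PreservesZeroMorphisms]
    (hF : HExact F) (hG : HExact G) (T : Triangle C) (hT : T ∈ distTriang C)
    (h1 : IsIso (η.app T.obj₁)) (h2 : IsIso (η.app T.obj₂))
    (h1' : IsIso (η.app (T.obj₁⟦(1 : ℤ)⟧))) (h2' : IsIso (η.app (T.obj₂⟦(1 : ℤ)⟧))) :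
    IsIso (η.app T.obj₃) := by
  have hT1 : T.rotate ∈ distTriang C := rot_of_distTriang T hT
  have hT2 : T.rotate.rotate ∈ distTriang C := rot_of_distTriang _ hT1
  have hzero : T.mor₁ ≫ T.mor₂ = 0 := comp_distTriang_mor_zero₁₂ T hT
  have hzero' : T.mor₃ ≫ (-T.mor₁⟦(1 : ℤ)⟧') = 0 := comp_distTriang_mor_zero₂₃ _ hT1
  apply isIso_of_yoneda_map_bijective
  intro W
  constructor
  · -- injectivity
    suffices H : ∀ f : W ⟶ F.obj T.obj₃, f ≫ η.app T.obj₃ = 0 → f = 0 by
      intro f f' hff'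
      have := H (f - f') (by rw [Preadditive.sub_comp]; exact sub_eq_zero.mpr hff')
      exact sub_eq_zero.mp this
    intro f hf
    have s1 : f ≫ F.map T.mor₃ = 0 := by
      rw [← cancel_mono (η.app (T.obj₁⟦(1 : ℤ)⟧)), Category.assoc, η.naturality, reassoc_of% hf,
        zero_comp, zero_comp]
    obtain ⟨f', hf'⟩ : ∃ f' : W ⟶ F.obj T.obj₂, f' ≫ F.map T.mor₂ = f := hF T.rotate hT1 f s1
    have s3 : (f' ≫ η.app T.obj₂) ≫ G.map T.mor₂ = 0 := by
      rw [Category.assoc, ← η.naturality, reassoc_of% hf', hf]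
    obtain ⟨e, he⟩ : ∃ e : W ⟶ G.obj T.obj₁, e ≫ G.map T.mor₁ = f' ≫ η.app T.obj₂ :=
      hG T hT _ s3
    have s4 : (e ≫ inv (η.app T.obj₁)) ≫ F.map T.mor₁ = f' := by
      rw [← cancel_mono (η.app T.obj₂), Category.assoc, Category.assoc, η.naturality,
        IsIso.inv_hom_id_assoc, he]
    rw [← hf', ← s4, Category.assoc, ← F.map_comp, hzero, F.map_zero, comp_zero]
  · -- surjectivity
    intro c
    have sa : (c ≫ G.map T.mor₃ ≫ inv (η.app (T.obj₁⟦(1 : ℤ)⟧))) ≫ F.map (-T.mor₁⟦(1 : ℤ)⟧') = 0 := by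
      rw [← cancel_mono (η.app (T.obj₂⟦(1 : ℤ)⟧))]
      simp only [Category.assoc, zero_comp]
      rw [η.naturality, IsIso.inv_hom_id_assoc, ← G.map_comp, hzero', G.map_zero, comp_zero]
    obtain ⟨b, hb'⟩ : ∃ b : W ⟶ F.obj T.obj₃,
        b ≫ F.map T.mor₃ = c ≫ G.map T.mor₃ ≫ inv (η.app (T.obj₁⟦(1 : ℤ)⟧)) :=
      hF T.rotate.rotate hT2 _ sa
    have sc : (c - b ≫ η.app T.obj₃) ≫ G.map T.mor₃ = 0 := by
      rw [Preadditive.sub_comp, Category.assoc, ← η.naturality, reassoc_of% hb']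
      simp
    obtain ⟨d, hd'⟩ : ∃ d : W ⟶ G.obj T.obj₂, d ≫ G.map T.mor₂ = c - b ≫ η.app T.obj₃ :=
      hG T.rotate hT1 _ sc
    refine ⟨b + (d ≫ inv (η.app T.obj₂)) ≫ F.map T.mor₂, ?_⟩
    change (b + (d ≫ inv (η.app T.obj₂)) ≫ F.map T.mor₂) ≫ η.app T.obj₃ = c
    rw [Preadditive.add_comp, Category.assoc, Category.assoc, η.naturality, IsIso.inv_hom_id_assoc,
      hd']
    abel

/-- `η` is an isomorphism at all shifts of `K`. -/
def Good (K : C) : Prop := ∀ n : ℤ, IsIso (η.app (K⟦n⟧))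

variable {η}

lemma Good.of_iso {K K' : C} (e : K ≅ K') (h : Good η K) : Good η K' := fun n =>
  isIso_app_of_iso η ((shiftFunctor C n).mapIso e) (h n)

lemma Good.of_retract {X Y : C} (i : X ⟶ Y) (p : Y ⟶ X) (hip : i ≫ p = 𝟙 X) (h : Good η Y) :
    Good η X := fun n =>
  isIso_app_of_retract η (i⟦n⟧') (p⟦n⟧') (by rw [← Functor.map_comp, hip, CategoryTheory.Functor.map_id]) (h n)

lemma Good.shift {K : C} (h : Good η K) (m : ℤ) : Good η (K⟦m⟧) := fun n =>
  isIso_app_of_iso η ((shiftFunctorAdd C m n).app K) (h (m + n))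

lemma good_of_isZero [F.PreservesZeroMorphisms] [G.PreservesZeroMorphisms] {K : C}
    (hK : IsZero K) : Good η K := fun n =>
  isIso_app_of_isZero η ((shiftFunctor C n).map_isZero hK)

lemma good_iff_of_forall (K : C) : Good η K ↔ ∀ n : ℤ, IsIso (η.app (K⟦n⟧)) := Iff.rfl

theorem good_obj₃ [F.PreservesZeroMorphisms] [G.PreservesZeroMorphisms]
    (hF : HExact F) (hG : HExact G) (T : Triangle C) (hT : T ∈ distTriang C)
    (h1 : Good η T.obj₁) (h2 : Good η T.obj₂) : Good η T.obj₃ := by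
  intro n
  have hTn := Triangle.shift_distinguished T hT n
  exact isIso_app_obj₃ η hF hG _ hTn (h1 n) (h2 n) ((h1.shift n) 1) ((h2.shift n) 1)

theorem good_obj₂ [F.PreservesZeroMorphisms] [G.PreservesZeroMorphisms]
    (hF : HExact F) (hG : HExact G) (T : Triangle C) (hT : T ∈ distTriang C)
    (h1 : Good η T.obj₁) (h3 : Good η T.obj₃) : Good η T.obj₂ :=
  good_obj₃ hF hG T.invRotate (inv_rot_of_distTriang T hT) (h3.shift (-1)) h1

end Groth.Agent.Lib.Helper10.DTenA
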