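import Mathlib

/-!
# Coproducts in localizations with a right calculus of fractions, in homotopy categories,
and in derived categories (helper21)

* `Helper21.DCoprod.isColimitMapCofan` : if `L : C ⥤ D` is a localization functor for `W`, `W` has a
  right calculus of fractions and is stable under coproducts of shape `J`, then `L` sends coproduct
  cofans of shape `J` to coproduct cofans;
* `hasCoproductsOfShape_of_rightCalculus`;
* `quasiIso_sigmaMap` : under AB4, a coproduct of quasi-isomorphisms of complexes is a quasi-iso;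
* `isColimitQuotientMapCofan` : `HomotopyCategory.quotient` preserves coproducts;
* `hasCoproductsOfShape_derivedCategory`.
-/

set_option autoImplicit false
universe w v u v' u'
open CategoryTheory Limits

namespace Groth.Agent.Lib.Helper21.DCoprod

section Complexes

variable {A : Type u} [Category.{v} A] [Abelian A] {ι : Type*} (c : ComplexShape ι)
  {J : Type w}

/-- the family as a complex of functors -/
@[simps]
def bigK (K : J → HomologicalComplex A c) : HomologicalComplex (Discrete J ⥤ A) c where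
  X i := Discrete.functor (fun j => (K j).X i)
  d i i' := Discrete.natTrans (fun j => (K j.as).d i i')
  shape i i' h := by
    ext ⟨j⟩
    simp [(K j).shape i i' h]
  d_comp_d' i i' i'' _ _ := by
    ext ⟨j⟩
    simp

/-- a family of morphisms as a morphism of complexes of functors -/
@[simps]
def bigMap {K₁ K₂ : J → HomologicalComplex A c} (g : ∀ j, K₁ j ⟶ K₂ j) :
    bigK c K₁ ⟶ bigK c K₂ where
  f i := Discrete.natTrans (fun j => (g j.as).f i)
  comm' i i' _ := by
    ext ⟨j⟩
    exact (g j).comm i i'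

lemma quasiIso_bigMap {K₁ K₂ : J → HomologicalComplex A c} (g : ∀ j, K₁ j ⟶ K₂ j)
    [∀ j, QuasiIso (g j)] : QuasiIso (bigMap c g) := by
  rw [HomologicalComplex.quasiIso_iff_evaluation]
  rintro ⟨j⟩
  have e : Arrow.mk ((((evaluation (Discrete J) A).obj ⟨j⟩).mapHomologicalComplex c).map
      (bigMap c g)) ≅ Arrow.mk (g j) :=
    Arrow.isoMk (HomologicalComplex.Hom.isoOfComponents (fun i => Iso.refl _)
        (by intros; dsimp; erw [Category.id_comp, Category.comp_id]; rfl))
      (HomologicalComplex.Hom.isoOfComponents (fun i => Iso.refl _)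
        (by intros; dsimp; erw [Category.id_comp, Category.comp_id]; rfl))
      (by ext i; dsimp; erw [Category.id_comp, Category.comp_id]; rfl)
  exact (quasiIso_iff_of_arrow_mk_iso _ _ e).2 inferInstance

variable [HasColimitsOfShape (Discrete J) A]

/-- the termwise coproduct -/
noncomputable abbrev sigmaK (K : J → HomologicalComplex A c) : HomologicalComplex A c :=
  ((colim : (Discrete J ⥤ A) ⥤ A).mapHomologicalComplex c).obj (bigK c K)

/-- inclusion of a summand, in degree `i` -/
noncomputable def ιK (K : J → HomologicalComplex A c) (j : J) (i : ι) :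
    (K j).X i ⟶ (sigmaK c K).X i :=
  colimit.ι (Discrete.functor (fun j => (K j).X i)) ⟨j⟩

/-- descent from the termwise coproduct, in degree `i` -/
noncomputable def descK (K : J → HomologicalComplex A c) (i : ι) {Z : A}
    (φ : ∀ j, (K j).X i ⟶ Z) : (sigmaK c K).X i ⟶ Z :=
  colimit.desc (Discrete.functor (fun j => (K j).X i)) (Cofan.mk Z φ)

@[reassoc (attr := simp)]
lemma ιK_descK (K : J → HomologicalComplex A c) (i : ι) {Z : A}
    (φ : ∀ j, (K j).X i ⟶ Z) (j : J) : ιK c K j i ≫ descK c K i φ = φ j :=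
  colimit.ι_desc _ _

lemma hom_extK (K : J → HomologicalComplex A c) (i : ι) {Z : A}
    {f g : (sigmaK c K).X i ⟶ Z} (h : ∀ j, ιK c K j i ≫ f = ιK c K j i ≫ g) : f = g :=
  colimit.hom_ext (fun ⟨j⟩ => h j)

@[reassoc]
lemma ιK_d (K : J → HomologicalComplex A c) (j : J) (i i' : ι) :
    ιK c K j i ≫ (sigmaK c K).d i i' = (K j).d i i' ≫ ιK c K j i' :=
  ι_colimMap ((bigK c K).d i i') ⟨j⟩

/-- the coproduct cofan -/
@[simps! pt]
noncomputable def cofanK (K : J → HomologicalComplex A c) : Cofan K :=
  Cofan.mk (sigmaK c K) (fun j =>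
    { f := fun i => ιK c K j i
      comm' := fun i i' _ => ιK_d c K j i i' })

lemma cofanK_inj_f (K : J → HomologicalComplex A c) (j : J) (i : ι) :
    ((cofanK c K).inj j).f i = ιK c K j i := rfl

/-- descent from the termwise coproduct -/
@[simps]
noncomputable def descHom (K : J → HomologicalComplex A c) {Z : HomologicalComplex A c}
    (φ : ∀ j, K j ⟶ Z) : sigmaK c K ⟶ Z where
  f i := descK c K i (fun j => (φ j).f i)
  comm' i i' _ := by
    apply hom_extK
    intro j
    rw [ιK_descK_assoc, ιK_d_assoc, ιK_descK]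
    exact (φ j).comm i i'

/-- the termwise coproduct is a coproduct -/
noncomputable def isColimitCofanK (K : J → HomologicalComplex A c) : IsColimit (cofanK c K) :=
  Cofan.IsColimit.mk _
    (fun s => descHom c K s.inj)
    (fun s j => by
      ext i
      exact ιK_descK c K i _ j)
    (fun s m hm => by
      ext i
      apply hom_extK c K i
      intro j
      rw [descHom_f, ιK_descK, ← hm j]
      rfl)

variable [HasExactColimitsOfShape (Discrete J) A]

lemma quasiIso_colimMap_bigMap {K₁ K₂ : J → HomologicalComplex A c} (g : ∀ j, K₁ j ⟶ K₂ j)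
    [∀ j, QuasiIso (g j)] :
    QuasiIso (((colim : (Discrete J ⥤ A) ⥤ A).mapHomologicalComplex c).map (bigMap c g)) := by
  have := quasiIso_bigMap c g
  infer_instance

/-- Under AB4, any map between coproducts of complexes induced by quasi-isomorphisms is a
quasi-isomorphism. -/
lemma quasiIso_of_isColimit {K₁ K₂ : J → HomologicalComplex A c} (g : ∀ j, K₁ j ⟶ K₂ j)
    [∀ j, QuasiIso (g j)] (c₁ : Cofan K₁) (c₂ : Cofan K₂) (h₁ : IsColimit c₁) (h₂ : IsColimit c₂)
    (φ : c₁.pt ⟶ c₂.pt) (hφ : ∀ j, c₁.inj j ≫ φ = g j ≫ c₂.inj j) : QuasiIso φ := by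
  have := quasiIso_colimMap_bigMap c g
  let e₁ : c₁.pt ≅ sigmaK c K₁ := IsColimit.coconePointUniqueUpToIso h₁ (isColimitCofanK c K₁)
  let e₂ : c₂.pt ≅ sigmaK c K₂ := IsColimit.coconePointUniqueUpToIso h₂ (isColimitCofanK c K₂)
  have he₁ : ∀ j, c₁.inj j ≫ e₁.hom = (cofanK c K₁).inj j := fun j =>
    IsColimit.comp_coconePointUniqueUpToIso_hom h₁ (isColimitCofanK c K₁) ⟨j⟩
  have he₂ : ∀ j, c₂.inj j ≫ e₂.hom = (cofanK c K₂).inj j := fun j =>
    IsColimit.comp_coconePointUniqueUpToIso_hom h₂ (isColimitCofanK c K₂) ⟨j⟩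
  refine (quasiIso_iff_of_arrow_mk_iso φ _ (Arrow.isoMk e₁ e₂ ?_)).2 this
  apply Cofan.IsColimit.hom_ext h₁
  intro j
  change c₁.inj j ≫ e₁.hom ≫
    ((colim : (Discrete J ⥤ A) ⥤ A).mapHomologicalComplex c).map (bigMap c g) =
      c₁.inj j ≫ φ ≫ e₂.hom
  rw [reassoc_of% (he₁ j), reassoc_of% (hφ j), he₂]
  ext i
  exact (ι_colimMap ((bigMap c g).f i) ⟨j⟩)

end Complexes

section Homotopy

variable {V : Type u} [Category.{v} V] [Preadditive V] {ι : Type*} {c : ComplexShape ι}
  {J : Type w} [HasColimitsOfShape (Discrete J) V]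
  {K : J → HomologicalComplex V c} {P : HomologicalComplex V c} (inj : ∀ j, K j ⟶ P)
  (hP : IsColimit (Cofan.mk P inj))

/-- a coproduct of complexes is a coproduct in each degree -/
noncomputable def isColimitX (i : ι) : IsColimit (Cofan.mk (P.X i) (fun j => (inj j).f i)) :=
  isColimitCofanMkObjOfIsColimit (HomologicalComplex.eval V c i) _ _ hP

/-- homotopies on the summands assemble to a homotopy on the coproduct -/
noncomputable def homotopyOfCofan {Z : HomologicalComplex V c} (f g : P ⟶ Z)
    (h : ∀ j, Homotopy (inj j ≫ f) (inj j ≫ g)) : Homotopy f g where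
  hom i i' := Cofan.IsColimit.desc (isColimitX inj hP i) (fun j => (h j).hom i i')
  zero i i' hii' := by
    apply Cofan.IsColimit.hom_ext (isColimitX inj hP i)
    intro j
    rw [Cofan.IsColimit.fac]
    simp [(h j).zero i i' hii']
  comm i := by
    apply Cofan.IsColimit.hom_ext (isColimitX inj hP i)
    intro j
    have h1 := (h j).comm i
    have h2 : (inj j).f i ≫ dNext i (fun i i' => Cofan.IsColimit.desc (isColimitX inj hP i)
        (fun j => (h j).hom i i')) = dNext i (h j).hom := by
      change (inj j).f i ≫ P.d i (c.next i) ≫ Cofan.IsColimit.desc (isColimitX inj hP (c.next i))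
        (fun j => (h j).hom (c.next i) i) = (K j).d i (c.next i) ≫ (h j).hom (c.next i) i
      rw [(inj j).comm_assoc]
      congr 1
      exact Cofan.IsColimit.fac (isColimitX inj hP (c.next i)) _ j
    have h3 : (inj j).f i ≫ prevD i (fun i i' => Cofan.IsColimit.desc (isColimitX inj hP i)
        (fun j => (h j).hom i i')) = prevD i (h j).hom := by
      change (inj j).f i ≫ Cofan.IsColimit.desc (isColimitX inj hP i)
        (fun j => (h j).hom i (c.prev i)) ≫ Z.d (c.prev i) i = (h j).hom i (c.prev i) ≫ Z.d (c.prev i) i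
      rw [← Category.assoc]
      congr 1
      exact Cofan.IsColimit.fac (isColimitX inj hP i) _ j
    change (inj j).f i ≫ f.f i = (inj j).f i ≫ (dNext i (fun i i' =>
      Cofan.IsColimit.desc (isColimitX inj hP i) (fun j => (h j).hom i i')) +
      prevD i (fun i i' => Cofan.IsColimit.desc (isColimitX inj hP i)
        (fun j => (h j).hom i i')) + g.f i)
    rw [Preadditive.comp_add, Preadditive.comp_add, h2, h3]
    exact h1

/-- descent in the homotopy category -/
noncomputable def descQ {Y : HomologicalComplex V c}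
    (φ : ∀ j, (HomotopyCategory.quotient V c).obj (K j) ⟶ (HomotopyCategory.quotient V c).obj Y) :
    (HomotopyCategory.quotient V c).obj P ⟶ (HomotopyCategory.quotient V c).obj Y :=
  (HomotopyCategory.quotient V c).map (Cofan.IsColimit.desc hP
      (fun j => (HomotopyCategory.quotient V c).preimage (φ j)))

lemma fac_descQ {Y : HomologicalComplex V c}
    (φ : ∀ j, (HomotopyCategory.quotient V c).obj (K j) ⟶ (HomotopyCategory.quotient V c).obj Y)
    (j : J) : (HomotopyCategory.quotient V c).map (inj j) ≫ descQ inj hP φ = φ j := by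
  dsimp only [descQ]
  rw [← CategoryTheory.Functor.map_comp]
  erw [Cofan.IsColimit.fac hP]
  rw [CategoryTheory.Functor.map_preimage]

include hP in
lemma hom_extQ {Y : HomologicalComplex V c}
    (m₁ m₂ : (HomotopyCategory.quotient V c).obj P ⟶ (HomotopyCategory.quotient V c).obj Y)
    (h : ∀ j, (HomotopyCategory.quotient V c).map (inj j) ≫ m₁ =
      (HomotopyCategory.quotient V c).map (inj j) ≫ m₂) : m₁ = m₂ := by
  obtain ⟨m₁, rfl⟩ := (HomotopyCategory.quotient V c).map_surjective m₁
  obtain ⟨m₂, rfl⟩ := (HomotopyCategory.quotient V c).map_surjective m₂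
  apply HomotopyCategory.eq_of_homotopy
  refine homotopyOfCofan inj hP _ _ (fun j => ?_)
  apply HomotopyCategory.homotopyOfEq
  rw [CategoryTheory.Functor.map_comp, CategoryTheory.Functor.map_comp]
  exact h j

/-- `HomotopyCategory.quotient` sends coproducts to coproducts -/
noncomputable def isColimitQuotientMapCofan :
    IsColimit (Cofan.mk ((HomotopyCategory.quotient V c).obj P)
      (fun j => (HomotopyCategory.quotient V c).map (inj j))) :=
  Cofan.IsColimit.mk _
    (fun s => descQ inj hP (Y := s.pt.as) s.inj)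
    (fun s j => fac_descQ inj hP (Y := s.pt.as) s.inj j)
    (fun s m hm => by
      apply hom_extQ inj hP (Y := s.pt.as)
      intro j
      rw [fac_descQ]
      exact hm j)

end Homotopy

section HomotopyHas

variable {V : Type u} [Category.{v} V] [Preadditive V] {ι : Type*} {c : ComplexShape ι}
  {J : Type w} [HasColimitsOfShape (Discrete J) V]

variable (V c J) in
lemma hasCoproductsOfShape_homotopyCategory :
    HasCoproductsOfShape J (HomotopyCategory V c) := by
  constructor
  intro F
  let K : J → HomologicalComplex V c := fun j => (F.obj ⟨j⟩).as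
  have : HasColimit (Discrete.functor (fun j => (HomotopyCategory.quotient V c).obj (K j))) :=
    ⟨⟨⟨_, isColimitQuotientMapCofan (fun j => Sigma.ι K j) (coproductIsCoproduct K)⟩⟩⟩
  exact hasColimit_of_iso (F := Discrete.functor
    (fun j => (HomotopyCategory.quotient V c).obj (K j))) (Discrete.natIso (fun ⟨j⟩ => Iso.refl _))

end HomotopyHas

section QuasiIsoStable

variable {A : Type u} [Category.{v} A] [Abelian A] {ι : Type*} (c : ComplexShape ι)
  (J : Type w) [HasColimitsOfShape (Discrete J) A] [HasExactColimitsOfShape (Discrete J) A]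

lemma quasiIso_isStableUnderCoproductsOfShape :
    (HomotopyCategory.quasiIso A c).IsStableUnderCoproductsOfShape J := by
  apply MorphismProperty.IsStableUnderCoproductsOfShape.mk
  intro X₁ X₂ _ _ f hf
  let K₁ : J → HomologicalComplex A c := fun j => (X₁ j).as
  let K₂ : J → HomologicalComplex A c := fun j => (X₂ j).as
  let g : ∀ j, K₁ j ⟶ K₂ j := fun j => (HomotopyCategory.quotient A c).preimage
    (show (HomotopyCategory.quotient A c).obj (K₁ j) ⟶
      (HomotopyCategory.quotient A c).obj (K₂ j) from f j)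
  have hg' : ∀ j, (HomotopyCategory.quotient A c).map (g j) = f j := fun j =>
    CategoryTheory.Functor.map_preimage _ _
  have hg : ∀ j, QuasiIso (g j) := fun j => by
    have := hf j
    rw [← hg' j] at this
    exact (HomologicalComplex.mem_quasiIso_iff _).1
      ((HomotopyCategory.quotient_map_mem_quasiIso_iff (g j)).1 this)
  let γ : ∐ K₁ ⟶ ∐ K₂ := Limits.Sigma.map g
  have hγ : QuasiIso γ := quasiIso_of_isColimit c g _ _ (coproductIsCoproduct K₁)
    (coproductIsCoproduct K₂) γ (fun j => by simp [γ])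
  have h₁ : IsColimit (Cofan.mk ((HomotopyCategory.quotient A c).obj (∐ K₁))
      (fun j => (HomotopyCategory.quotient A c).map (Sigma.ι K₁ j)) : Cofan X₁) :=
    isColimitQuotientMapCofan (fun j => Sigma.ι K₁ j) (coproductIsCoproduct K₁)
  have h₂ : IsColimit (Cofan.mk ((HomotopyCategory.quotient A c).obj (∐ K₂))
      (fun j => (HomotopyCategory.quotient A c).map (Sigma.ι K₂ j)) : Cofan X₂) :=
    isColimitQuotientMapCofan (fun j => Sigma.ι K₂ j) (coproductIsCoproduct K₂)
  let e₁ : ∐ X₁ ≅ (HomotopyCategory.quotient A c).obj (∐ K₁) :=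
    IsColimit.coconePointUniqueUpToIso (coproductIsCoproduct X₁) h₁
  let e₂ : ∐ X₂ ≅ (HomotopyCategory.quotient A c).obj (∐ K₂) :=
    IsColimit.coconePointUniqueUpToIso (coproductIsCoproduct X₂) h₂
  have he₁ : ∀ j, Sigma.ι X₁ j ≫ e₁.hom = (HomotopyCategory.quotient A c).map (Sigma.ι K₁ j) :=
    fun j => IsColimit.comp_coconePointUniqueUpToIso_hom (coproductIsCoproduct X₁) h₁ ⟨j⟩
  have he₂ : ∀ j, Sigma.ι X₂ j ≫ e₂.hom = (HomotopyCategory.quotient A c).map (Sigma.ι K₂ j) :=
    fun j => IsColimit.comp_coconePointUniqueUpToIso_hom (coproductIsCoproduct X₂) h₂ ⟨j⟩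
  refine ((HomotopyCategory.quasiIso A c).arrow_mk_iso_iff (Arrow.isoMk e₁ e₂ ?_)).2
    ((HomotopyCategory.quotient_map_mem_quasiIso_iff γ).2
      ((HomologicalComplex.mem_quasiIso_iff _).2 hγ))
  apply Limits.Sigma.hom_ext
  intro j
  change Sigma.ι X₁ j ≫ e₁.hom ≫ (HomotopyCategory.quotient A c).map γ =
    Sigma.ι X₁ j ≫ Limits.Sigma.map f ≫ e₂.hom
  rw [reassoc_of% (he₁ j), Limits.Sigma.ι_map_assoc, he₂]
  have key : (HomotopyCategory.quotient A c).map (Sigma.ι K₁ j) ≫
      (HomotopyCategory.quotient A c).map γ =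
      (HomotopyCategory.quotient A c).map (g j) ≫
        (HomotopyCategory.quotient A c).map (Sigma.ι K₂ j) := by
    rw [← CategoryTheory.Functor.map_comp, ← CategoryTheory.Functor.map_comp]
    congr 1
    simp [γ]
  exact key.trans (congrArg (fun x => x ≫ (HomotopyCategory.quotient A c).map (Sigma.ι K₂ j))
    (hg' j))

end QuasiIsoStable

section General

variable {C : Type u} [Category.{v} C] {D : Type u'} [Category.{v'} D] (L : C ⥤ D)
  (W : MorphismProperty C) [L.IsLocalization W] [W.HasRightCalculusOfFractions]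
  {J : Type w}

lemma mem_of_cofans [W.IsStableUnderCoproductsOfShape J] {X₁ X₂ : J → C}
    (c₁ : Cofan X₁) (c₂ : Cofan X₂) (h₁ : IsColimit c₁) (h₂ : IsColimit c₂)
    (f : ∀ j, X₁ j ⟶ X₂ j) (hf : ∀ j, W (f j)) (φ : c₁.pt ⟶ c₂.pt)
    (hφ : ∀ j, c₁.inj j ≫ φ = f j ≫ c₂.inj j) : W φ :=
  MorphismProperty.IsStableUnderColimitsOfShape.condition _ _ c₁ c₂ h₁ h₂
    (Discrete.natTrans (fun ⟨j⟩ => f j)) (fun ⟨j⟩ => hf j) φ (fun ⟨j⟩ => hφ j)

include W in
lemma exists_fraction {P Y : C} (m : L.obj P ⟶ L.obj Y) :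
    ∃ (P' : C) (s : P' ⟶ P) (_ : W s) (f : P' ⟶ Y), L.map s ≫ m = L.map f := by
  obtain ⟨φ, rfl⟩ := Localization.exists_rightFraction L W m
  exact ⟨φ.X', φ.s, φ.hs, φ.f, φ.map_s_comp_map L _⟩

include W in
lemma exists_fraction₂ {P Y : C} (m₁ m₂ : L.obj P ⟶ L.obj Y) :
    ∃ (P' : C) (s : P' ⟶ P) (_ : W s) (f₁ f₂ : P' ⟶ Y),
      L.map s ≫ m₁ = L.map f₁ ∧ L.map s ≫ m₂ = L.map f₂ := by
  obtain ⟨P₁, s₁, hs₁, f₁, h₁⟩ := exists_fraction L W m₁
  obtain ⟨P₂, s₂, hs₂, f₂, h₂⟩ := exists_fraction L W m₂
  obtain ⟨ψ, hψ⟩ := (MorphismProperty.LeftFraction.mk s₁ s₂ hs₂).exists_rightFraction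
  dsimp at hψ
  refine ⟨ψ.X', ψ.s ≫ s₁, W.comp_mem _ _ ψ.hs hs₁, ψ.s ≫ f₁, ψ.f ≫ f₂, ?_, ?_⟩
  · rw [L.map_comp, Category.assoc, h₁, L.map_comp]
  · rw [hψ, L.map_comp, Category.assoc, h₂, L.map_comp]

variable [HasCoproductsOfShape J C] [W.IsStableUnderCoproductsOfShape J]
  {X : J → C} (c : Cofan X) (hc : IsColimit c)

include W hc in
lemma exists_desc {Y : C} (φ : ∀ j, L.obj (X j) ⟶ L.obj Y) :
    ∃ m : L.obj c.pt ⟶ L.obj Y, ∀ j, L.map (c.inj j) ≫ m = φ j := by
  choose X' s hs f hf using fun j => exists_fraction L W (φ j)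
  let σ : ∐ X' ⟶ c.pt := Sigma.desc (fun j => s j ≫ c.inj j)
  have hσ : W σ := mem_of_cofans W _ c (coproductIsCoproduct X') hc s hs σ
    (fun j => by simp [σ])
  have : IsIso (L.map σ) := Localization.inverts L W _ hσ
  refine ⟨inv (L.map σ) ≫ L.map (Sigma.desc f), fun j => ?_⟩
  have : IsIso (L.map (s j)) := Localization.inverts L W _ (hs j)
  rw [← cancel_epi (L.map (s j)), hf j, ← L.map_comp_assoc]
  have h1 : s j ≫ c.inj j = Sigma.ι X' j ≫ σ := by simp [σ]
  rw [h1, L.map_comp, Category.assoc, IsIso.hom_inv_id_assoc, ← L.map_comp, Sigma.ι_desc]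

include W hc in
lemma hom_ext_of_cofan {Y : C} (m₁ m₂ : L.obj c.pt ⟶ L.obj Y)
    (h : ∀ j, L.map (c.inj j) ≫ m₁ = L.map (c.inj j) ≫ m₂) : m₁ = m₂ := by
  obtain ⟨P', s, hs, f₁, f₂, h₁, h₂⟩ := exists_fraction₂ L W m₁ m₂
  have key : ∀ j, ∃ (Q : C) (v : Q ⟶ P') (t : Q ⟶ X j) (_ : W t),
      v ≫ s = t ≫ c.inj j ∧ v ≫ f₁ = v ≫ f₂ := by
    intro j
    obtain ⟨ψ, hψ⟩ := (MorphismProperty.LeftFraction.mk (c.inj j) s hs).exists_rightFraction
    dsimp at hψ
    have h3 : L.map (ψ.f ≫ f₁) = L.map (ψ.f ≫ f₂) := by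
      rw [L.map_comp, L.map_comp, ← h₁, ← h₂, ← L.map_comp_assoc, ← L.map_comp_assoc, ← hψ,
        L.map_comp, Category.assoc, Category.assoc, h j]
    obtain ⟨Q, w, hw, hw'⟩ := (MorphismProperty.map_eq_iff_precomp L W _ _).1 h3
    refine ⟨Q, w ≫ ψ.f, w ≫ ψ.s, W.comp_mem _ _ hw ψ.hs, ?_, ?_⟩
    · rw [Category.assoc, Category.assoc, hψ]
    · simpa using hw'
  choose Q v t ht hv hv' using key
  let V : ∐ Q ⟶ P' := Sigma.desc v
  have hV : V ≫ f₁ = V ≫ f₂ := by
    apply Limits.Sigma.hom_ext
    intro j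
    simp [V, hv']
  have hVs : W (V ≫ s) := mem_of_cofans W _ c (coproductIsCoproduct Q) hc t ht (V ≫ s)
    (fun j => by simp [V, hv])
  have : IsIso (L.map (V ≫ s)) := Localization.inverts L W _ hVs
  rw [← cancel_epi (L.map (V ≫ s)), L.map_comp, Category.assoc, Category.assoc, h₁, h₂,
    ← L.map_comp, ← L.map_comp, hV]

include W in
/-- A localization functor for a class of morphisms with a right calculus of fractions
that is stable under coproducts of shape `J` preserves these coproducts. -/
noncomputable def isColimitMapCofan :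
    IsColimit (Cofan.mk (L.obj c.pt) (fun j => L.map (c.inj j))) := by
  have : L.EssSurj := Localization.essSurj L W
  have hex : ∀ (s : Cofan (fun j => L.obj (X j))),
      ∃ m : L.obj c.pt ⟶ s.pt, ∀ j, L.map (c.inj j) ≫ m = s.inj j := fun s => by
    obtain ⟨m, hm⟩ := exists_desc L W c hc
      (fun j => s.inj j ≫ (L.objObjPreimageIso s.pt).inv)
    exact ⟨m ≫ (L.objObjPreimageIso s.pt).hom, fun j => by
      rw [← Category.assoc, hm, Category.assoc, Iso.inv_hom_id, Category.comp_id]⟩
  refine Cofan.IsColimit.mk _ (fun s => (hex s).choose) (fun s j => (hex s).choose_spec j)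
    (fun s m hm => ?_)
  rw [← cancel_mono (L.objObjPreimageIso s.pt).inv]
  apply hom_ext_of_cofan L W c hc
  intro j
  have h1 := (hex s).choose_spec j
  dsimp at hm h1
  rw [reassoc_of% (hm j), reassoc_of% h1]

include L W in
lemma hasCoproductsOfShape_of_rightCalculus : HasCoproductsOfShape J D := by
  have : L.EssSurj := Localization.essSurj L W
  constructor
  intro F
  let X : J → C := fun j => L.objPreimage (F.obj ⟨j⟩)
  have : HasColimit (Discrete.functor (fun j => L.obj (X j))) :=
    ⟨⟨⟨_, isColimitMapCofan L W _ (coproductIsCoproduct X)⟩⟩⟩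
  exact hasColimit_of_iso (F := Discrete.functor (fun j => L.obj (X j)))
    (Discrete.natIso (fun ⟨j⟩ => (L.objObjPreimageIso (F.obj ⟨j⟩)).symm))

end General

section Derived

variable {A : Type u} [Category.{v} A] [Abelian A] [HasDerivedCategory.{v'} A]
  (J : Type w) [HasColimitsOfShape (Discrete J) A] [HasExactColimitsOfShape (Discrete J) A]

/-- In an AB4 abelian category, the derived category has coproducts. -/
lemma hasCoproductsOfShape_derivedCategory : HasCoproductsOfShape J (DerivedCategory A) := by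
  have := hasCoproductsOfShape_homotopyCategory A (ComplexShape.up ℤ) J
  have := quasiIso_isStableUnderCoproductsOfShape (A := A) (ComplexShape.up ℤ) J
  exact hasCoproductsOfShape_of_rightCalculus DerivedCategory.Qh
    (HomotopyCategory.quasiIso A (ComplexShape.up ℤ))

variable {J}

/-- `Qh` sends coproducts to coproducts -/
noncomputable def isColimitQhMapCofan {X : J → HomotopyCategory A (ComplexShape.up ℤ)}
    (c : Cofan X) (hc : IsColimit c) :
    IsColimit (Cofan.mk (DerivedCategory.Qh.obj c.pt)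
      (fun j => DerivedCategory.Qh.map (c.inj j))) := by
  have := hasCoproductsOfShape_homotopyCategory A (ComplexShape.up ℤ) J
  have := quasiIso_isStableUnderCoproductsOfShape (A := A) (ComplexShape.up ℤ) J
  exact isColimitMapCofan DerivedCategory.Qh (HomotopyCategory.quasiIso A (ComplexShape.up ℤ))
    c hc

/-- `Q` sends coproducts of complexes to coproducts in the derived category -/
noncomputable def isColimitQMapCofan {K : J → CochainComplex A ℤ} {P : CochainComplex A ℤ}
    (inj : ∀ j, K j ⟶ P) (hP : IsColimit (Cofan.mk P inj)) :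
    IsColimit (Cofan.mk (DerivedCategory.Q.obj P) (fun j => DerivedCategory.Q.map (inj j))) :=
  isColimitQhMapCofan (Cofan.mk _ _) (isColimitQuotientMapCofan inj hP)

end Derived

end Groth.Agent.Lib.Helper21.DCoprod
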