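import Mathlib
import Groth.Agent.Lib.Helper21DCoprod
import Groth.Prelude.Def_DDual2

set_option autoImplicit false
set_option maxHeartbeats 400000

namespace Groth.Agent.Lib.Helper1.LDer


open CategoryTheory Limits

universe w v₁ v₂ v₃ u₁ u₂ u₃

section General

variable {C : Type u₁} [Category.{v₁} C] {D : Type u₂} [Category.{v₂} D]
  {H : Type u₃} [Category.{v₃} H]

section Copower

variable (d₀ : D) [∀ Z : D, Small.{w} (d₀ ⟶ Z)] [HasCoproducts.{w} H] (T : H)

/-- The copower functor `Z ↦ ∐_{Hom(d₀, Z)} T` (left Kan extension of `T` along `d₀`). -/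
noncomputable def copower : D ⥤ H where
  obj Z := ∐ (fun _ : Shrink.{w} (d₀ ⟶ Z) => T)
  map {Z Z'} g := Sigma.desc (fun s =>
    Sigma.ι (fun _ : Shrink.{w} (d₀ ⟶ Z') => T) (equivShrink _ ((equivShrink _).symm s ≫ g)))
  map_id Z := by
    apply Sigma.hom_ext
    intro s
    simp
  map_comp g g' := by
    apply Sigma.hom_ext
    intro s
    simp

variable {d₀ T}

/-- inclusion of the summand indexed by `s`. -/
noncomputable def copowerι {Z : D} (s : d₀ ⟶ Z) : T ⟶ (copower.{w} d₀ T).obj Z :=
  Sigma.ι (fun _ : Shrink.{w} (d₀ ⟶ Z) => T) (equivShrink _ s)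

@[reassoc]
lemma copowerι_map {Z Z' : D} (s : d₀ ⟶ Z) (g : Z ⟶ Z') :
    copowerι.{w} (T := T) s ≫ (copower.{w} d₀ T).map g = copowerι.{w} (s ≫ g) := by
  simp [copower, copowerι]

/-- morphisms out of the copower. -/
noncomputable def copowerDesc {Z : D} {X : H} (φ : (d₀ ⟶ Z) → (T ⟶ X)) :
    (copower.{w} d₀ T).obj Z ⟶ X :=
  Sigma.desc (fun s => φ ((equivShrink _).symm s))

@[reassoc]
lemma copowerι_desc {Z : D} {X : H} (φ : (d₀ ⟶ Z) → (T ⟶ X)) (s : d₀ ⟶ Z) :
    copowerι.{w} s ≫ copowerDesc.{w} φ = φ s := by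
  refine (Sigma.ι_desc (f := fun _ : Shrink.{w} (d₀ ⟶ Z) => T)
    (fun s => φ ((equivShrink _).symm s)) (equivShrink _ s)).trans ?_
  simp

lemma copower_hom_ext {Z : D} {X : H} (f g : (copower.{w} d₀ T).obj Z ⟶ X)
    (h : ∀ s : d₀ ⟶ Z, copowerι.{w} s ≫ f = copowerι.{w} s ≫ g) : f = g := by
  apply Sigma.hom_ext
  intro s
  have := h ((equivShrink _).symm s)
  simp only [copowerι, Equiv.apply_symm_apply] at this
  exact this

end Copower

variable (L : C ⥤ D) (F : C ⥤ H) (LF : D ⥤ H) (ε : L ⋙ LF ⟶ F) [LF.IsRightKanExtension ε]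
  (P : C) (hP : ∀ Y : C, Function.Bijective (L.map : (P ⟶ Y) → (L.obj P ⟶ L.obj Y)))
  [∀ Z : D, Small.{w} (L.obj P ⟶ Z)] [HasCoproducts.{w} H]

include hP in
/-- The counit of a right Kan extension along `L` is an isomorphism at objects `P` such that
`L` induces bijections `Hom(P, Y) ≃ Hom(L P, L Y)`, provided the target has enough coproducts. -/
theorem isIso_counit_app : IsIso (ε.app P) := by
  classical
  -- preimages
  let pre : ∀ {Y : C}, (L.obj P ⟶ L.obj Y) → (P ⟶ Y) := fun {Y} g =>
    (Equiv.ofBijective _ (hP Y)).symm g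
  have hpre : ∀ {Y : C} (g : L.obj P ⟶ L.obj Y), L.map (pre g) = g := fun {Y} g =>
    (Equiv.ofBijective _ (hP Y)).apply_symm_apply g
  have hpre' : ∀ {Y : C} (f : P ⟶ Y), pre (L.map f) = f := fun {Y} f =>
    (Equiv.ofBijective _ (hP Y)).symm_apply_apply f
  -- the transformation β
  let β : L ⋙ copower.{w} (L.obj P) (F.obj P) ⟶ F :=
    { app := fun Y => copowerDesc.{w} (fun s => F.map (pre s))
      naturality := fun Y Y' f => by
        apply copower_hom_ext
        intro s
        dsimp
        rw [copowerι_map_assoc, copowerι_desc, copowerι_desc_assoc, ← F.map_comp]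
        congr 1
        apply (hP Y').injective
        rw [hpre, L.map_comp, hpre] }
  let τ := LF.liftOfIsRightKanExtension ε _ β
  have hτ : ∀ Y, τ.app (L.obj Y) ≫ ε.app Y = β.app Y :=
    fun Y => LF.liftOfIsRightKanExtension_fac_app ε _ β Y
  let ψ : F.obj P ⟶ LF.obj (L.obj P) := copowerι.{w} (𝟙 (L.obj P)) ≫ τ.app (L.obj P)
  have h1 : ψ ≫ ε.app P = 𝟙 _ := by
    simp only [ψ, Category.assoc, hτ]
    simp only [β, copowerι_desc]
    rw [← L.map_id, hpre', F.map_id]
  -- two transformations
  let τ₁ : copower.{w} (L.obj P) (LF.obj (L.obj P)) ⟶ LF :=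
    { app := fun Z => copowerDesc.{w} (fun s => LF.map s)
      naturality := fun Z Z' g => by
        apply copower_hom_ext
        intro s
        rw [copowerι_map_assoc, copowerι_desc, copowerι_desc_assoc, LF.map_comp] }
  let τ₂ : copower.{w} (L.obj P) (LF.obj (L.obj P)) ⟶ LF :=
    { app := fun Z => copowerDesc.{w} (fun s => ε.app P ≫ ψ ≫ LF.map s)
      naturality := fun Z Z' g => by
        apply copower_hom_ext
        intro s
        rw [copowerι_map_assoc, copowerι_desc, copowerι_desc_assoc, LF.map_comp]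
        simp only [Category.assoc] }
  have h12 : τ₁ = τ₂ := by
    apply LF.hom_ext_of_isRightKanExtension ε
    ext Y
    apply copower_hom_ext
    intro s
    simp only [τ₁, τ₂, NatTrans.comp_app, Functor.whiskerLeft_app, copowerι_desc_assoc,
      Category.assoc]
    have hs : s = L.map (pre s) := (hpre _).symm
    have nat := ε.naturality (pre s)
    dsimp at nat
    rw [hs, nat, reassoc_of% h1]
  have h2 : ε.app P ≫ ψ = 𝟙 _ := by
    have := congrArg (fun t => copowerι.{w} (𝟙 (L.obj P)) ≫ t.app (L.obj P)) h12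
    simp only [τ₁, τ₂, copowerι_desc, LF.map_id, Category.comp_id] at this
    exact this.symm
  exact ⟨ψ, h2, h1⟩

end General

end Groth.Agent.Lib.Helper1.LDer


namespace Groth.Agent.Lib.Helper1.LDer

open CategoryTheory Limits DerivedCategory

universe u

attribute [local instance] HasDerivedCategory.standard

section

variable {B : Type u} [Ring B]

instance hasCoproducts_D : HasCoproducts.{u} (DerivedCategory (ModuleCat.{u} B)) := fun J =>
  Groth.Agent.Lib.Helper21.DCoprod.hasCoproductsOfShape_derivedCategory J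

end

section

variable {A : Type u} [Ring A]

instance small_hom_Qh (P : CochainComplex (ModuleCat.{u} A) ℤ) [P.IsKProjective]
    (Z : DerivedCategory (ModuleCat.{u} A)) :
    Small.{u} (Qh.obj ((HomotopyCategory.quotient _ _).obj P) ⟶ Z) := by
  have : (Qh : _ ⥤ DerivedCategory (ModuleCat.{u} A)).EssSurj :=
    Localization.essSurj Qh (HomotopyCategory.quasiIso _ _)
  let Y := Qh.objPreimage Z
  let e : Qh.obj Y ≅ Z := Qh.objObjPreimageIso Z
  let e1 : (Qh.obj ((HomotopyCategory.quotient _ _).obj P) ⟶ Z) ≃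
      (Qh.obj ((HomotopyCategory.quotient _ _).obj P) ⟶ Qh.obj Y) :=
    (Iso.homCongr (Iso.refl _) e).symm
  let e2 : ((HomotopyCategory.quotient _ _).obj P ⟶ Y) ≃
      (Qh.obj ((HomotopyCategory.quotient _ _).obj P) ⟶ Qh.obj Y) :=
    Equiv.ofBijective _ (CochainComplex.IsKProjective.Qh_map_bijective P Y)
  exact small_map (e1.trans e2.symm)

end

end Groth.Agent.Lib.Helper1.LDer

namespace Groth.Agent.Lib.Helper1.LDer

open CategoryTheory Limits DerivedCategory

universe u

attribute [local instance] HasDerivedCategory.standard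

section Main

variable {A B : Type u} [Ring A] [Ring B]

/-- A left derived functor `D(A) ⥤ D(B)` of a functor `F : K(A) ⥤ D(B)` is computed by `F` on
K-projective complexes (no need for resolutions of unbounded complexes). -/
theorem isIso_counit_app_of_isKProjective
    (F : HomotopyCategory (ModuleCat.{u} A) (ComplexShape.up ℤ) ⥤ DerivedCategory (ModuleCat.{u} B))
    (LF : DerivedCategory (ModuleCat.{u} A) ⥤ DerivedCategory (ModuleCat.{u} B))
    (ε : Qh ⋙ LF ⟶ F)
    [LF.IsLeftDerivedFunctor ε (HomotopyCategory.quasiIso (ModuleCat.{u} A) (ComplexShape.up ℤ))]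
    (P : CochainComplex (ModuleCat.{u} A) ℤ) [P.IsKProjective] :
    IsIso (ε.app ((HomotopyCategory.quotient _ _).obj P)) := by
  have := Functor.IsLeftDerivedFunctor.isRightKanExtension LF ε
    (HomotopyCategory.quasiIso (ModuleCat.{u} A) (ComplexShape.up ℤ))
  exact isIso_counit_app.{u} Qh F LF ε ((HomotopyCategory.quotient _ _).obj P)
    (fun Y => CochainComplex.IsKProjective.Qh_map_bijective P Y)

end Main

end Groth.Agent.Lib.Helper1.LDer
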