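import Mathlib
import Groth.Agent.Lib.Helper1LDer
set_option backward.isDefEq.respectTransparency.types false

/-!
# Counits of right Kan extensions at "projective-like" objects, weak form (helper1, DTen part 1)
-/

set_option autoImplicit false
set_option maxHeartbeats 400000

namespace Groth.Agent.Lib.Helper1.DT

open CategoryTheory Limits Groth.Agent.Lib.Helper1.LDer

universe w v₁ v₂ v₃ u₁ u₂ u₃

variable {C : Type u₁} [Category.{v₁} C] {D : Type u₂} [Category.{v₂} D]
  {H : Type u₃} [Category.{v₃} H]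
  (L : C ⥤ D) (F : C ⥤ H) (LF : D ⥤ H) (ε : L ⋙ LF ⟶ F) [LF.IsRightKanExtension ε]
  (P : C) (hsurj : ∀ Y : C, Function.Surjective (L.map : (P ⟶ Y) → (L.obj P ⟶ L.obj Y)))
  (hF : ∀ (Y : C) (f g : P ⟶ Y), L.map f = L.map g → F.map f = F.map g)
  [∀ Z : D, Small.{w} (L.obj P ⟶ Z)] [HasCoproducts.{w} H]

include hsurj hF in
/-- The counit of a right Kan extension along `L` is an isomorphism at objects `P` such that
`L` induces surjections `Hom(P, Y) → Hom(L P, L Y)` whose fibres are identified by `F`. -/
theorem isIso_counit_app' : IsIso (ε.app P) := by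
  classical
  let pre : ∀ {Y : C}, (L.obj P ⟶ L.obj Y) → (P ⟶ Y) := fun {Y} g => (hsurj Y g).choose
  have hpre : ∀ {Y : C} (g : L.obj P ⟶ L.obj Y), L.map (pre g) = g := fun {Y} g =>
    (hsurj Y g).choose_spec
  have hpre' : ∀ {Y : C} (f : P ⟶ Y), F.map (pre (L.map f)) = F.map f := fun {Y} f =>
    hF Y _ _ (hpre _)
  let β : L ⋙ copower.{w} (L.obj P) (F.obj P) ⟶ F :=
    { app := fun Y => copowerDesc.{w} (fun s => F.map (pre s))
      naturality := fun Y Y' f => by
        apply copower_hom_ext
        intro s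
        dsimp
        rw [copowerι_map_assoc, copowerι_desc, copowerι_desc_assoc, ← F.map_comp]
        apply hF
        rw [hpre, L.map_comp, hpre] }
  let τ := LF.liftOfIsRightKanExtension ε _ β
  have hτ : ∀ Y, τ.app (L.obj Y) ≫ ε.app Y = β.app Y :=
    fun Y => LF.liftOfIsRightKanExtension_fac_app ε _ β Y
  let ψ : F.obj P ⟶ LF.obj (L.obj P) := copowerι.{w} (𝟙 (L.obj P)) ≫ τ.app (L.obj P)
  have h1 : ψ ≫ ε.app P = 𝟙 _ := by
    simp only [ψ, Category.assoc, hτ]
    simp only [β, copowerι_desc]
    rw [← L.map_id, hpre', F.map_id]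
  let τ₁ : copower.{w} (L.obj P) (LF.obj (L.obj P)) ⟶ LF :=
    { app := fun Z => copowerDesc.{w} (fun s => LF.map s)
      naturality := fun Z Z' g => by
        apply copower_hom_ext
        intro s
        rw [copowerι_map_assoc, copowerι_desc, copowerι_desc_assoc, LF.map_comp] }
  let τ₂ : copower.{w} (L.obj P) (LF.obj (L.obj P)) ⟶ LF :=
    { app := fun Z => copowerDesc.{w} (fun s => ε.app P ≫ ψ ≫ LF.map s)
      naturality := fun Z Z' g => by
        apply copower_hom_ext
        intro s
        rw [copowerι_map_assoc, copowerι_desc, copowerι_desc_assoc, LF.map_comp]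
        simp only [Category.assoc] }
  have h12 : τ₁ = τ₂ := by
    apply LF.hom_ext_of_isRightKanExtension ε
    ext Y
    apply copower_hom_ext
    intro s
    simp only [τ₁, τ₂, NatTrans.comp_app, Functor.whiskerLeft_app, copowerι_desc_assoc,
      Category.assoc]
    have hs : s = L.map (pre s) := (hpre _).symm
    have nat := ε.naturality (pre s)
    dsimp at nat
    rw [hs, nat, reassoc_of% h1]
  have h2 : ε.app P ≫ ψ = 𝟙 _ := by
    have := congrArg (fun t => copowerι.{w} (𝟙 (L.obj P)) ≫ t.app (L.obj P)) h12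
    simp only [τ₁, τ₂, copowerι_desc, LF.map_id, Category.comp_id] at this
    exact this.symm
  exact ⟨ψ, h2, h1⟩

end Groth.Agent.Lib.Helper1.DT
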