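import Mathlib
import Groth.Agent.Lib.Helper1KF1
set_option backward.isDefEq.respectTransparency.types false

/-!
# K-projective resolutions of unbounded complexes of modules via the small object argument
(helper1, K-flat cluster, part 5): generating cofibrations and the lifting property
-/

set_option autoImplicit false
universe u
open CategoryTheory CategoryTheory.Limits HomologicalComplex

namespace Groth.Agent.Lib.Helper1.KF

variable {R : Type u} [CommRing R]

/-- the ring as a module -/
abbrev RR (R : Type u) [CommRing R] : ModuleCat.{u} R := ModuleCat.of R R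

lemma rel_succ (n : ℤ) : (ComplexShape.up ℤ).Rel n (n + 1) := rfl

lemma ne_succ (n : ℤ) : n ≠ n + 1 := by omega

/-- the sphere: `R` in degree `n` -/
noncomputable abbrev sph (R : Type u) [CommRing R] (n : ℤ) : Cx R :=
  (single (ModuleCat.{u} R) (ComplexShape.up ℤ) n).obj (RR R)

/-- the disk: `R ⟶ R` in degrees `n`, `n + 1` -/
noncomputable abbrev disk (R : Type u) [CommRing R] (n : ℤ) : Cx R :=
  double (𝟙 (RR R)) (rel_succ n)

/-- the boundary inclusion `S^{n+1} ⟶ D^n` -/
noncomputable def bdry (R : Type u) [CommRing R] (n : ℤ) : sph R (n + 1) ⟶ disk R n :=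
  mkHomFromSingle (doubleXIso₁ (𝟙 (RR R)) (rel_succ n) (ne_succ n)).inv (fun k _ => by
    rw [double_d_eq_zero₀ _ _ _ _ (by omega), comp_zero])

section maps

variable {X Y : Cx R}

/-- maps from the disk -/
noncomputable def diskHom {n : ℤ} (x : RR R ⟶ X.X n) : disk R n ⟶ X :=
  mkHomFromDouble (rel_succ n) (ne_succ n) x (x ≫ X.d n (n + 1)) (by simp) (by simp)

/-- the element of a map from the disk -/
noncomputable def diskElem {n : ℤ} (v : disk R n ⟶ X) : RR R ⟶ X.X n :=
  (doubleXIso₀ (𝟙 (RR R)) (rel_succ n)).inv ≫ v.f n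

lemma diskHom_diskElem {n : ℤ} (v : disk R n ⟶ X) : diskHom (diskElem v) = v := by
  apply from_double_hom_ext
  · simp [diskHom, diskElem]
  · simp only [diskHom, diskElem, mkHomFromDouble_f₁, Category.assoc]
    rw [v.comm n (n + 1), double_d _ _ (ne_succ n)]
    simp

lemma diskElem_diskHom {n : ℤ} (x : RR R ⟶ X.X n) : diskElem (diskHom x) = x := by
  simp [diskHom, diskElem]

lemma diskHom_comp {n : ℤ} (x : RR R ⟶ X.X n) (p : X ⟶ Y) :
    diskHom x ≫ p = diskHom (x ≫ p.f n) := by
  apply from_double_hom_ext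
  · simp [diskHom, Category.assoc]
  · simp [diskHom, Category.assoc]

/-- maps from the sphere -/
noncomputable def sphHom {n : ℤ} (z : RR R ⟶ X.X n) (hz : ∀ k, z ≫ X.d n k = 0) :
    sph R n ⟶ X :=
  mkHomFromSingle z (fun k _ => hz k)

/-- the element of a map from the sphere -/
noncomputable def sphElem {n : ℤ} (u : sph R n ⟶ X) : RR R ⟶ X.X n :=
  (singleObjXSelf (ComplexShape.up ℤ) n (RR R)).inv ≫ u.f n

lemma sphElem_d {n : ℤ} (u : sph R n ⟶ X) (k : ℤ) : sphElem u ≫ X.d n k = 0 := by
  by_cases hk : n + 1 = k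
  · subst hk
    have : (sph R n).d n (n + 1) = 0 :=
      (isZero_single_obj_X (ComplexShape.up ℤ) n (RR R) (n + 1) (by omega)).eq_of_tgt _ _
    rw [sphElem, Category.assoc, u.comm, this]
    simp
  · rw [X.shape n k hk, comp_zero]

lemma sphHom_sphElem {n : ℤ} (u : sph R n ⟶ X) : sphHom (sphElem u) (sphElem_d u) = u := by
  apply from_single_hom_ext
  simp [sphHom, sphElem]

lemma sphElem_sphHom {n : ℤ} (z : RR R ⟶ X.X n) (hz : ∀ k, z ≫ X.d n k = 0) :
    sphElem (sphHom z hz) = z := by
  simp [sphHom, sphElem]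

lemma sphHom_comp {n : ℤ} (z : RR R ⟶ X.X n) (hz : ∀ k, z ≫ X.d n k = 0) (p : X ⟶ Y) :
    sphHom z hz ≫ p = sphHom (z ≫ p.f n) (fun k => by
      rw [Category.assoc, p.comm, reassoc_of% (hz k), zero_comp]) := by
  apply from_single_hom_ext
  simp [sphHom, Category.assoc]

lemma bdry_diskHom {n : ℤ} (x : RR R ⟶ X.X n) :
    bdry R n ≫ diskHom x = sphHom (x ≫ X.d n (n + 1)) (fun k => by simp) := by
  apply from_single_hom_ext
  simp [bdry, diskHom, sphHom, Category.assoc]

lemma bdry_comp {n : ℤ} (v : disk R n ⟶ X) :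
    bdry R n ≫ v = sphHom (diskElem v ≫ X.d n (n + 1)) (fun k => by simp) := by
  conv_lhs => rw [← diskHom_diskElem v]
  exact bdry_diskHom _

end maps

/-- the generating cofibrations -/
def genI (R : Type u) [CommRing R] : MorphismProperty (Cx R) :=
  MorphismProperty.ofHoms (fun n : ℤ => bdry R n)

/-- the categorical form of the lifting property -/
def LiftCat {X Y : Cx R} (p : X ⟶ Y) : Prop :=
  ∀ (n : ℤ) (z : RR R ⟶ X.X (n + 1)) (y : RR R ⟶ Y.X n), (∀ k, z ≫ X.d (n + 1) k = 0) →
    z ≫ p.f (n + 1) = y ≫ Y.d n (n + 1) → ∃ x : RR R ⟶ X.X n, x ≫ X.d n (n + 1) = z ∧ x ≫ p.f n = y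

lemma rlp_iff_forall {X Y : Cx R} (p : X ⟶ Y) :
    (genI R).rlp p ↔ ∀ n : ℤ, HasLiftingProperty (bdry R n) p := by
  constructor
  · intro h n
    exact h _ (MorphismProperty.ofHoms.mk n)
  · intro h A B g hg
    cases hg with
    | mk n => exact h n

lemma rlp_iff_liftCat {X Y : Cx R} (p : X ⟶ Y) : (genI R).rlp p ↔ LiftCat p := by
  rw [rlp_iff_forall]
  constructor
  · intro h n z y hz hzy
    have sq : CommSq (sphHom z hz) (bdry R n) p (diskHom y) := ⟨by
      rw [sphHom_comp, bdry_diskHom]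
      congr 1⟩
    have := (h n).sq_hasLift sq
    refine ⟨diskElem sq.lift, ?_, ?_⟩
    · have h1 := sq.fac_left
      rw [bdry_comp] at h1
      have h2 := congrArg sphElem h1
      rwa [sphElem_sphHom, sphElem_sphHom] at h2
    · have h1 := sq.fac_right
      rw [← diskHom_diskElem sq.lift, diskHom_comp] at h1
      have h2 := congrArg diskElem h1
      rwa [diskElem_diskHom, diskElem_diskHom] at h2
  · intro h n
    constructor
    intro u v sq
    have hzy : sphElem u ≫ p.f (n + 1) = diskElem v ≫ Y.d n (n + 1) := by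
      have h1 := sq.w
      rw [← sphHom_sphElem u, sphHom_comp, bdry_comp] at h1
      have h2 := congrArg sphElem h1
      rwa [sphElem_sphHom, sphElem_sphHom] at h2
    obtain ⟨x, hx₁, hx₂⟩ := h n (sphElem u) (diskElem v) (sphElem_d u) hzy
    refine ⟨⟨⟨diskHom x, ?_, ?_⟩⟩⟩
    · rw [bdry_diskHom]
      conv_rhs => rw [← sphHom_sphElem u]
      congr 1
    · rw [diskHom_comp, hx₂, diskHom_diskElem]

section elements

/-- the morphism `R ⟶ M` associated to an element -/
noncomputable def elemHom {M : ModuleCat.{u} R} (x : M) : RR R ⟶ M :=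
  ModuleCat.ofHom (LinearMap.toSpanSingleton R M x)

lemma elemHom_one {M : ModuleCat.{u} R} (x : M) : (elemHom x).hom (1 : R) = x := by
  simp [elemHom]

lemma elemHom_comp {M N : ModuleCat.{u} R} (x : M) (f : M ⟶ N) :
    elemHom x ≫ f = elemHom (f.hom x) := by
  ext
  simp [elemHom]

lemma eq_elemHom {M : ModuleCat.{u} R} (g : RR R ⟶ M) : g = elemHom (g.hom (1 : R)) := by
  ext
  simp [elemHom]

lemma elemHom_inj {M : ModuleCat.{u} R} {x y : M} (h : elemHom x = elemHom y) : x = y := by
  rw [← elemHom_one x, ← elemHom_one y, h]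

lemma elemHom_zero {M : ModuleCat.{u} R} : elemHom (0 : M) = 0 := by
  ext
  simp [elemHom]

/-- the elementwise form of the lifting property -/
def LiftElem {X Y : Cx R} (p : X ⟶ Y) : Prop :=
  ∀ (n : ℤ) (z : X.X (n + 1)) (y : Y.X n), (X.d (n + 1) (n + 1 + 1)).hom z = 0 →
    (p.f (n + 1)).hom z = (Y.d n (n + 1)).hom y →
      ∃ x : X.X n, (X.d n (n + 1)).hom x = z ∧ (p.f n).hom x = y

lemma liftCat_iff_liftElem {X Y : Cx R} (p : X ⟶ Y) : LiftCat p ↔ LiftElem p := by
  constructor
  · intro h n z y hz hzy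
    obtain ⟨x, hx₁, hx₂⟩ := h n (elemHom z) (elemHom y) (fun k => by
      by_cases hk : n + 1 + 1 = k
      · subst hk
        rw [elemHom_comp, hz, elemHom_zero]
      · rw [X.shape _ _ hk, comp_zero]) (by rw [elemHom_comp, elemHom_comp, hzy])
    refine ⟨x.hom (1 : R), ?_, ?_⟩
    · have := congrArg (fun t => t.hom (1 : R)) hx₁
      rw [elemHom_one] at this
      simpa using this
    · have := congrArg (fun t => t.hom (1 : R)) hx₂
      rw [elemHom_one] at this
      simpa using this
  · intro h n z y hz hzy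
    obtain ⟨x, hx₁, hx₂⟩ := h n (z.hom (1 : R)) (y.hom (1 : R))
      (by simpa using congrArg (fun t => t.hom (1 : R)) (hz (n + 1 + 1)))
      (by simpa using congrArg (fun t => t.hom (1 : R)) hzy)
    refine ⟨elemHom x, ?_, ?_⟩
    · rw [elemHom_comp, hx₁, ← eq_elemHom]
    · rw [elemHom_comp, hx₂, ← eq_elemHom]

end elements

end Groth.Agent.Lib.Helper1.KF
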