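import Mathlib
import Groth.Agent.Lib.Helper1KF5
set_option backward.isDefEq.respectTransparency.types false

/-!
# Surjective quasi-isomorphisms and the lifting property (helper1, K-flat cluster, part 6)
-/

set_option autoImplicit false
universe u
open CategoryTheory CategoryTheory.Limits HomologicalComplex

namespace Groth.Agent.Lib.Helper1.KF

variable {R : Type u} [CommRing R]

section HomologyElem

variable (K : Cx R) (i : ℤ)

lemma exists_cycle (x : K.X i) (hx : (K.d i (i + 1)).hom x = 0) :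
    ∃ z : K.cycles i, (K.iCycles i).hom z = x := by
  have h : (ShortComplex.mk (K.iCycles i) (K.d i (i + 1)) (K.iCycles_d i (i + 1))).Exact :=
    ShortComplex.exact_of_f_is_kernel _ (K.cyclesIsKernel i (i + 1) (by simp))
  rw [ShortComplex.moduleCat_exact_iff] at h
  exact h x hx

lemma iCycles_injective : Function.Injective (K.iCycles i).hom :=
  (ModuleCat.mono_iff_injective (K.iCycles i)).1 inferInstance

lemma homologyπ_surjective : Function.Surjective (K.homologyπ i).hom :=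
  (ModuleCat.epi_iff_surjective (K.homologyπ i)).1 inferInstance

lemma exists_of_homologyπ_eq_zero (z : K.cycles (i + 1)) (hz : (K.homologyπ (i + 1)).hom z = 0) :
    ∃ w : K.X i, (K.toCycles i (i + 1)).hom w = z := by
  have h : (ShortComplex.mk (K.toCycles i (i + 1)) (K.homologyπ (i + 1))
      (K.toCycles_comp_homologyπ i (i + 1))).Exact :=
    ShortComplex.exact_of_g_is_cokernel _ (K.homologyIsCokernel i (i + 1) (by simp))
  rw [ShortComplex.moduleCat_exact_iff] at h
  exact h z hz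

lemma iCycles_toCycles (w : K.X i) :
    (K.iCycles (i + 1)).hom ((K.toCycles i (i + 1)).hom w) = (K.d i (i + 1)).hom w :=
  congrArg (fun t => t.hom w) (K.toCycles_i i (i + 1))

lemma homologyπ_toCycles (w : K.X i) :
    (K.homologyπ (i + 1)).hom ((K.toCycles i (i + 1)).hom w) = 0 :=
  congrArg (fun t => t.hom w) (K.toCycles_comp_homologyπ i (i + 1))

lemma d_iCycles (z : K.cycles i) : (K.d i (i + 1)).hom ((K.iCycles i).hom z) = 0 :=
  congrArg (fun t => t.hom z) (K.iCycles_d i (i + 1))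

lemma d_d_apply (p q r : ℤ) (x : K.X p) : (K.d q r).hom ((K.d p q).hom x) = 0 :=
  congrArg (fun t => t.hom x) (K.d_comp_d p q r)

variable {K} {L : Cx R} (φ : K ⟶ L)

lemma iCycles_cyclesMap (z : K.cycles i) :
    (L.iCycles i).hom ((cyclesMap φ i).hom z) = (φ.f i).hom ((K.iCycles i).hom z) :=
  congrArg (fun t => t.hom z) (cyclesMap_i φ i)

lemma homologyMap_homologyπ (z : K.cycles i) :
    (homologyMap φ i).hom ((K.homologyπ i).hom z) =
      (L.homologyπ i).hom ((cyclesMap φ i).hom z) :=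
  congrArg (fun t => t.hom z) (homologyπ_naturality φ i)

lemma f_d (p q : ℤ) (x : K.X p) :
    (φ.f q).hom ((K.d p q).hom x) = (L.d p q).hom ((φ.f p).hom x) :=
  (congrArg (fun t => t.hom x) (φ.comm p q)).symm

end HomologyElem

/-- surjective quasi-isomorphisms -/
def SurjQis {X Y : Cx R} (p : X ⟶ Y) : Prop :=
  QuasiIso p ∧ ∀ n : ℤ, Function.Surjective (p.f n).hom

lemma liftElem_of_surjQis {X Y : Cx R} (p : X ⟶ Y) (hp : SurjQis p) : LiftElem p := by
  obtain ⟨hq, hs⟩ := hp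
  intro n z y hz hzy
  have hbij : ∀ m, Function.Bijective (homologyMap p m).hom := fun m =>
    (ConcreteCategory.isIso_iff_bijective (homologyMap p m)).1 inferInstance
  -- `z` is a boundary
  obtain ⟨ζ, hζ⟩ := exists_cycle X (n + 1) z hz
  have h1 : (cyclesMap p (n + 1)).hom ζ = (Y.toCycles n (n + 1)).hom y := by
    apply iCycles_injective
    rw [iCycles_cyclesMap, iCycles_toCycles, hζ, hzy]
  have h2 : (X.homologyπ (n + 1)).hom ζ = 0 := by
    apply (hbij (n + 1)).1
    rw [homologyMap_homologyπ, h1, homologyπ_toCycles, map_zero]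
  obtain ⟨x₀, hx₀⟩ := exists_of_homologyπ_eq_zero X n ζ h2
  have hx₀' : (X.d n (n + 1)).hom x₀ = z := by
    rw [← iCycles_toCycles, hx₀, hζ]
  -- correct `x₀`
  have h3 : (Y.d n (n + 1)).hom ((p.f n).hom x₀ - y) = 0 := by
    rw [map_sub, ← f_d, hx₀', hzy, sub_self]
  obtain ⟨η, hη⟩ := exists_cycle Y n _ h3
  obtain ⟨c, hc⟩ := (hbij n).2 ((Y.homologyπ n).hom η)
  obtain ⟨ξ, rfl⟩ := homologyπ_surjective X n c
  rw [homologyMap_homologyπ] at hc
  obtain ⟨m, rfl⟩ : ∃ m, n = m + 1 := ⟨n - 1, by omega⟩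
  have h4 : (Y.homologyπ (m + 1)).hom (η - (cyclesMap p (m + 1)).hom ξ) = 0 := by
    rw [map_sub, hc, sub_self]
  obtain ⟨y', hy'⟩ := exists_of_homologyπ_eq_zero Y m _ h4
  obtain ⟨x', rfl⟩ := hs m y'
  refine ⟨x₀ - (X.iCycles (m + 1)).hom ξ - (X.d m (m + 1)).hom x', ?_, ?_⟩
  · rw [map_sub, map_sub, hx₀', d_iCycles, d_d_apply, sub_zero, sub_zero]
  · have h5 := congrArg (Y.iCycles (m + 1)).hom hy'
    rw [iCycles_toCycles, map_sub, hη, iCycles_cyclesMap] at h5
    rw [map_sub, map_sub, f_d, h5]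
    abel

lemma surjQis_of_liftElem {X Y : Cx R} (p : X ⟶ Y) (hp : LiftElem p) : SurjQis p := by
  -- surjectivity on cycles
  have hcyc : ∀ (n : ℤ) (y : Y.X n), (Y.d n (n + 1)).hom y = 0 →
      ∃ x : X.X n, (X.d n (n + 1)).hom x = 0 ∧ (p.f n).hom x = y := by
    intro n y hy
    obtain ⟨x, hx₁, hx₂⟩ := hp n 0 y (by simp) (by rw [map_zero, hy])
    exact ⟨x, hx₁, hx₂⟩
  have hs : ∀ n : ℤ, Function.Surjective (p.f n).hom := by
    intro n y
    obtain ⟨z, hz₁, hz₂⟩ := hcyc (n + 1) ((Y.d n (n + 1)).hom y) (d_d_apply Y _ _ _ y)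
    obtain ⟨x, -, hx⟩ := hp n z y hz₁ hz₂
    exact ⟨x, hx⟩
  refine ⟨?_, hs⟩
  rw [quasiIso_iff]
  intro n
  rw [quasiIsoAt_iff_isIso_homologyMap, ConcreteCategory.isIso_iff_bijective]
  constructor
  · rw [injective_iff_map_eq_zero]
    intro c hc
    obtain ⟨ζ, rfl⟩ := homologyπ_surjective X n c
    rw [homologyMap_homologyπ] at hc
    obtain ⟨m, rfl⟩ : ∃ m, n = m + 1 := ⟨n - 1, by omega⟩
    obtain ⟨y, hy⟩ := exists_of_homologyπ_eq_zero Y m _ hc
    have h1 : (p.f (m + 1)).hom ((X.iCycles (m + 1)).hom ζ) = (Y.d m (m + 1)).hom y := by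
      rw [← iCycles_cyclesMap, ← hy, iCycles_toCycles]
    obtain ⟨x, hx, -⟩ := hp m _ y (d_iCycles X (m + 1) ζ) h1
    have : ζ = (X.toCycles m (m + 1)).hom x := by
      apply iCycles_injective
      rw [iCycles_toCycles, hx]
    rw [this, homologyπ_toCycles]
  · intro c
    obtain ⟨η, rfl⟩ := homologyπ_surjective Y n c
    obtain ⟨x, hx₁, hx₂⟩ := hcyc n _ (d_iCycles Y n η)
    obtain ⟨ξ, hξ⟩ := exists_cycle X n x hx₁
    refine ⟨(X.homologyπ n).hom ξ, ?_⟩
    rw [homologyMap_homologyπ]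
    congr 1
    apply iCycles_injective
    rw [iCycles_cyclesMap, hξ, hx₂]

lemma rlp_iff_surjQis {X Y : Cx R} (p : X ⟶ Y) : (genI R).rlp p ↔ SurjQis p := by
  rw [rlp_iff_liftCat, liftCat_iff_liftElem]
  exact ⟨surjQis_of_liftElem p, liftElem_of_surjQis p⟩

end Groth.Agent.Lib.Helper1.KF
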