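import Mathlib
import Groth.Agent.Lib.Helper1KF6
set_option backward.isDefEq.respectTransparency.types false

/-!
# K-projective resolutions via the small object argument (helper1, K-flat cluster, part 7)
-/

set_option autoImplicit false
universe u
open CategoryTheory CategoryTheory.Limits HomologicalComplex MorphismProperty ZeroObject

namespace Groth.Agent.Lib.Helper1.KF

variable {R : Type u} [CommRing R]

instance mono_bdry (n : ℤ) : Mono (bdry R n) := by
  apply HomologicalComplex.mono_of_mono_f
  intro i
  by_cases hi : i = n + 1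
  · subst hi
    rw [bdry, mkHomFromSingle_f]
    infer_instance
  · exact ⟨fun _ _ _ => (isZero_single_obj_X (ComplexShape.up ℤ) (n + 1) (RR R) i hi).eq_of_tgt _ _⟩

lemma genI_le_monomorphisms : genI R ≤ monomorphisms (Cx R) := by
  intro A B g hg
  cases hg with
  | mk n => exact mono_bdry n

instance : IsSmall.{u} (genI R) :=
  isSmall_ofHoms.{u} (A := fun n : ℤ => sph R (n + 1)) (B := fun n : ℤ => disk R n)
    (fun n : ℤ => bdry R n)

instance : HasSmallObjectArgument.{u} (genI R) := by
  obtain ⟨κ, hκ', hκ⟩ := HasCardinalLT.exists_regular_cardinal_forall.{u}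
    (fun n : ℤ => Subobject (sph R (n + 1)))
  have : Fact κ.IsRegular := ⟨hκ'⟩
  have : Nonempty κ.ord.ToType := by simpa using hκ'.ne_zero
  have := WellFoundedLT.toOrderBot κ.ord.ToType
  exact ⟨κ, inferInstance, inferInstance,
    { preservesColimit {A B X Y} i hi f hf := by
        let hf' : (monomorphisms (Cx R)).TransfiniteCompositionOfShape κ.ord.ToType f :=
          { toTransfiniteCompositionOfShape := hf.toTransfiniteCompositionOfShape
            map_mem j hj := by
              have := (hf.attachCells j hj).pushouts_coproducts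
              simp only [ofHoms_homFamily] at this
              refine (?_ : _ ≤ monomorphisms (Cx R)) _ this
              rw [pushouts_le_iff, coproducts_le_iff]
              exact genI_le_monomorphisms }
        have (j j' : κ.ord.ToType) (φ : j ⟶ j') : Mono (hf'.F.map φ) := hf'.mem_map φ
        apply IsGrothendieckAbelian.preservesColimit_coyoneda_obj_of_mono (Y := hf'.F) (κ := κ)
        cases hi with
        | mk n => exact hκ n }⟩

/-- cofibrant objects: `0 ⟶ P` has the left lifting property w.r.t. surjective
quasi-isomorphisms. -/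
def Cofibrant (P : Cx R) : Prop := (genI R).rlp.llp (0 : (0 : Cx R) ⟶ P)

lemma Cofibrant.exists_lift {P : Cx R} (hP : Cofibrant P) {E A : Cx R} (q : E ⟶ A)
    (hq : SurjQis q) (g : P ⟶ A) : ∃ l : P ⟶ E, l ≫ q = g := by
  have h : HasLiftingProperty (0 : (0 : Cx R) ⟶ P) q := hP q ((rlp_iff_surjQis q).2 hq)
  have sq : CommSq (0 : (0 : Cx R) ⟶ E) (0 : (0 : Cx R) ⟶ P) q g := ⟨by simp⟩
  exact ⟨sq.lift, sq.fac_right⟩

/-- every complex admits a surjective quasi-isomorphism from a cofibrant complex. -/
theorem exists_cofibrant_resolution (M : Cx R) :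
    ∃ (P : Cx R) (π : P ⟶ M), Cofibrant P ∧ SurjQis π := by
  let d := factorizationData (genI R).rlp.llp (genI R).rlp (0 : (0 : Cx R) ⟶ M)
  refine ⟨d.Z, d.p, ?_, (rlp_iff_surjQis _).1 d.hp⟩
  have : d.i = 0 := (isZero_zero (Cx R)).eq_of_src _ _
  have h := d.hi
  rwa [this] at h

end Groth.Agent.Lib.Helper1.KF
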