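import Mathlib
import Groth.Agent.Lib.Helper1KF7
import Groth.Agent.Lib.Helper1KF4
set_option backward.isDefEq.respectTransparency.types false

/-!
# Cofibrant complexes are K-projective with projective terms (helper1, K-flat cluster, part 8)
-/

set_option autoImplicit false
universe u
open CategoryTheory CategoryTheory.Limits HomologicalComplex MorphismProperty ZeroObject

namespace Groth.Agent.Lib.Helper1.KF

variable {R : Type u} [CommRing R]

lemma quasiIso_of_acyc {E A : Cx R} (hE : Acyc E) (hA : Acyc A) (q : E ⟶ A) : QuasiIso q := by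
  rw [quasiIso_iff]
  intro i
  rw [quasiIsoAt_iff_isIso_homologyMap]
  exact ⟨0, (hE i).eq_of_src _ _, (hA i).eq_of_src _ _⟩

section kproj

open CochainComplex

/-- the contractible complex mapping onto `A` -/
noncomputable abbrev pathE (A : Cx R) : Cx R := mappingCone (𝟙 (A⟦(-1 : ℤ)⟧))

/-- the projection `pathE A ⟶ A` -/
noncomputable def pathπ (A : Cx R) : pathE A ⟶ A :=
  (mappingCone.triangle (𝟙 (A⟦(-1 : ℤ)⟧))).mor₃ ≫
    (shiftFunctorCompIsoId (Cx R) (-1 : ℤ) 1 (by simp)).hom.app A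

lemma surjQis_pathπ (A : Cx R) (hA : Acyc A) : SurjQis (pathπ A) := by
  refine ⟨quasiIso_of_acyc (acyc_cone_id _) hA _, fun n => ?_⟩
  rw [← ModuleCat.epi_iff_surjective]
  have h1 : Epi ((mappingCone.triangle (𝟙 (A⟦(-1 : ℤ)⟧))).mor₃.f n) := by
    have σ := mappingCone.triangleRotateShortComplexSplitting (𝟙 (A⟦(-1 : ℤ)⟧)) n
    exact σ.epi_g
  have h2 : IsIso (((shiftFunctorCompIsoId (Cx R) (-1 : ℤ) 1 (by simp)).hom.app A).f n) :=
    inferInstance
  have h3 : Epi (((shiftFunctorCompIsoId (Cx R) (-1 : ℤ) 1 (by simp)).hom.app A).f n) :=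
    IsIso.epi_of_iso _
  exact epi_comp' h1 h3

theorem Cofibrant.isKProjective {P : Cx R} (hP : Cofibrant P) : P.IsKProjective where
  nonempty_homotopy_zero {A} f hA := by
    have hA' : Acyc A := fun i => by
      rw [← exactAt_iff_isZero_homology]
      exact hA i
    obtain ⟨l, hl⟩ := hP.exists_lift (pathπ A) (surjQis_pathπ A hA') f
    refine ⟨(Homotopy.ofEq (by rw [← hl]; simp)).trans
      ((((mappingCone.homotopyToZeroOfId (A⟦(-1 : ℤ)⟧)).compLeft l).compRight (pathπ A)).trans
        (Homotopy.ofEq (by simp)))⟩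

end kproj

section termwise

variable (X : ModuleCat.{u} R) (m : ℤ)

/-- the disk on a module: `X ⟶ X` in degrees `m`, `m + 1` -/
noncomputable abbrev diskM : Cx R := double (𝟙 X) (rel_succ m)

lemma diskM_d : (diskM X m).d m (m + 1) =
    (doubleXIso₀ (𝟙 X) (rel_succ m)).hom ≫ (doubleXIso₁ (𝟙 X) (rel_succ m) (ne_succ m)).inv := by
  rw [double_d _ _ (ne_succ m)]
  simp

instance : IsIso ((diskM X m).d m (m + 1)) := by
  rw [diskM_d]
  infer_instance

lemma acyc_diskM : Acyc (diskM X m) := by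
  intro k
  rw [← exactAt_iff_isZero_homology]
  by_cases h₀ : k = m
  · subst h₀
    rw [exactAt_iff' _ (k - 1) k (k + 1) (by simp) (by simp)]
    rw [ShortComplex.exact_iff_mono _ (double_d_eq_zero₀ (𝟙 X) (rel_succ k) (k - 1) k (by omega))]
    show Mono ((diskM X k).d k (k + 1))
    infer_instance
  · by_cases h₁ : k = m + 1
    · subst h₁
      rw [exactAt_iff' _ m (m + 1) (m + 1 + 1) (by simp) (by simp)]
      rw [ShortComplex.exact_iff_epi _
        (double_d_eq_zero₀ (𝟙 X) (rel_succ m) (m + 1) (m + 1 + 1) (by omega))]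
      show Epi ((diskM X m).d m (m + 1))
      infer_instance
    · exact ShortComplex.exact_of_isZero_X₂ _ (isZero_double_X (𝟙 X) (rel_succ m) k h₀ h₁)

variable {X}

/-- maps to the disk on a module -/
noncomputable def toDiskM {K : Cx R} (h : K.X (m + 1) ⟶ X) : K ⟶ diskM X m where
  f k :=
    if hk : k = m then
      eqToHom (by rw [hk]) ≫ K.d m (m + 1) ≫ h ≫ (doubleXIso₀ (𝟙 X) (rel_succ m)).inv ≫
        eqToHom (by rw [hk])
    else if hk' : k = m + 1 then
      eqToHom (by rw [hk']) ≫ h ≫ (doubleXIso₁ (𝟙 X) (rel_succ m) (ne_succ m)).inv ≫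
        eqToHom (by rw [hk'])
    else 0
  comm' k k' hkk' := by
    obtain rfl : k + 1 = k' := hkk'
    by_cases h₀ : k = m
    · subst h₀
      rw [dif_pos rfl, dif_neg (ne_succ k).symm, dif_pos rfl, diskM_d]
      simp
    · by_cases h₁ : k = m + 1
      · subst h₁
        exact (isZero_double_X _ _ _ (by omega) (by omega)).eq_of_tgt _ _
      · rw [dif_neg h₀, dif_neg h₁, zero_comp]
        by_cases h₂ : k + 1 = m
        · subst h₂
          rw [dif_pos rfl]
          simp
        · rw [dif_neg h₂, dif_neg (by omega), comp_zero]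

lemma toDiskM_f {K : Cx R} (h : K.X (m + 1) ⟶ X) :
    (toDiskM m h).f (m + 1) = h ≫ (doubleXIso₁ (𝟙 X) (rel_succ m) (ne_succ m)).inv := by
  simp [toDiskM]

/-- the map of disks induced by a map of modules -/
noncomputable def diskMMap {X Y : ModuleCat.{u} R} (e : X ⟶ Y) : diskM X m ⟶ diskM Y m :=
  mkHomFromDouble (rel_succ m) (ne_succ m) (e ≫ (doubleXIso₀ (𝟙 Y) (rel_succ m)).inv)
    (e ≫ (doubleXIso₁ (𝟙 Y) (rel_succ m) (ne_succ m)).inv) (by simp [diskM_d])
    (fun k _ => by rw [double_d_eq_zero₀ _ _ _ _ (by omega), comp_zero])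

lemma surjQis_diskMMap {X Y : ModuleCat.{u} R} (e : X ⟶ Y) [Epi e] :
    SurjQis (diskMMap m e) := by
  refine ⟨quasiIso_of_acyc (acyc_diskM X m) (acyc_diskM Y m) _, fun k => ?_⟩
  rw [← ModuleCat.epi_iff_surjective]
  by_cases h₀ : k = m
  · subst h₀
    rw [diskMMap, mkHomFromDouble_f₀]
    infer_instance
  · by_cases h₁ : k = m + 1
    · subst h₁
      rw [diskMMap, mkHomFromDouble_f₁]
      infer_instance
    · exact ⟨fun _ _ _ => (isZero_double_X _ _ _ h₀ h₁).eq_of_src _ _⟩

theorem Cofibrant.projective {P : Cx R} (hP : Cofibrant P) (n : ℤ) : Projective (P.X n) := by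
  obtain ⟨m, rfl⟩ : ∃ m, n = m + 1 := ⟨n - 1, by omega⟩
  constructor
  intro E Y h e _
  obtain ⟨l, hl⟩ := hP.exists_lift (diskMMap m e) (surjQis_diskMMap m e) (toDiskM m h)
  refine ⟨l.f (m + 1) ≫ (doubleXIso₁ (𝟙 E) (rel_succ m) (ne_succ m)).hom, ?_⟩
  have h1 := congrArg (fun t => t.f (m + 1)) hl
  simp only [HomologicalComplex.comp_f, toDiskM_f] at h1
  rw [diskMMap, mkHomFromDouble_f₁] at h1
  rw [← cancel_mono (doubleXIso₁ (𝟙 Y) (rel_succ m) (ne_succ m)).inv, ← h1]
  simp

end termwise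

/-- **K-projective resolutions of unbounded complexes of modules**: every complex admits a
degreewise surjective quasi-isomorphism from a K-projective complex with projective terms. -/
theorem exists_kprojective_resolution (M : Cx R) :
    ∃ (P : Cx R) (π : P ⟶ M), P.IsKProjective ∧ (∀ n, Projective (P.X n)) ∧ QuasiIso π ∧
      ∀ n : ℤ, Function.Surjective (π.f n).hom := by
  obtain ⟨P, π, hP, hπ⟩ := exists_cofibrant_resolution M
  exact ⟨P, π, hP.isKProjective, hP.projective, hπ.1, hπ.2⟩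

end Groth.Agent.Lib.Helper1.KF
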