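import Mathlib
import Groth.Agent.Lib.Helper1DT1
import Groth.Agent.Lib.Helper1KF8
import Groth.Prelude.Def_DTen2
set_option backward.isDefEq.respectTransparency.types false

/-!
# The derived tensor product is computed on K-projective complexes (helper1, DTen part 2)
-/

set_option autoImplicit false
set_option maxHeartbeats 400000
universe u
open CategoryTheory CategoryTheory.Limits MonoidalCategory HomologicalComplex
attribute [local instance] HasDerivedCategory.standard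

namespace Groth.Agent.Lib.Helper1.DT

open DerivedCategory Groth.Agent.Lib.Helper1.KF Groth.Agent.Lib.Helper1.LDer DTen

variable {A : Type u} [CommRing A]

lemma Q_map_surjective (P Y : Cx A) [P.IsKProjective] :
    Function.Surjective (Q.map : (P ⟶ Y) → (Q.obj P ⟶ Q.obj Y)) := by
  intro g
  obtain ⟨g', hg'⟩ := (CochainComplex.IsKProjective.Qh_map_bijective P
    ((HomotopyCategory.quotient _ _).obj Y)).2 g
  obtain ⟨f, rfl⟩ := (HomotopyCategory.quotient _ _).map_surjective g'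
  exact ⟨f, hg'⟩

lemma homotopy_of_Q_map_eq (P Y : Cx A) [P.IsKProjective] (f g : P ⟶ Y)
    (h : Q.map f = Q.map g) : Nonempty (Homotopy f g) := by
  have h2 : (HomotopyCategory.quotient (ModuleCat.{u} A) (ComplexShape.up ℤ)).map f =
      (HomotopyCategory.quotient (ModuleCat.{u} A) (ComplexShape.up ℤ)).map g := by
    apply (CochainComplex.IsKProjective.Qh_map_bijective _ _).1
    exact h
  exact ⟨HomotopyCategory.homotopyOfEq _ _ h2⟩

lemma Q_map_eq_of_homotopy {X Y : Cx A} {f g : X ⟶ Y} (h : Homotopy f g) :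
    Q.map f = Q.map g := by
  show Qh.map ((HomotopyCategory.quotient _ _).map f) = Qh.map ((HomotopyCategory.quotient _ _).map g)
  rw [HomotopyCategory.eq_of_homotopy _ _ h]

instance small_hom_Q (P : Cx A) [P.IsKProjective] (Z : Dual.D A) :
    Small.{u} (Q.obj P ⟶ Z) :=
  small_hom_Qh P Z

/-- every object of `D(A)` is the image of a K-projective complex with projective terms -/
lemma exists_kproj_iso (X : Dual.D A) :
    ∃ (P : Cx A), P.IsKProjective ∧ (∀ n, Projective (P.X n)) ∧ Nonempty (Q.obj P ≅ X) := by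
  obtain ⟨M, ⟨e⟩⟩ : ∃ M : Cx A, Nonempty (Q.obj M ≅ X) := ⟨_, ⟨Q.objObjPreimageIso X⟩⟩
  obtain ⟨P, π, hP, hproj, hπ, -⟩ := exists_kprojective_resolution M
  have : IsIso (Q.map π) := (DerivedCategory.isIso_Q_map_iff_quasiIso (φ := π)).2 hπ
  exact ⟨P, hP, hproj, ⟨asIso (Q.map π) ≪≫ e⟩⟩

lemma homotopy_tensorHom {X X' Y Y' : Cx A} {f g : X ⟶ Y} {f' g' : X' ⟶ Y'}
    (h : Homotopy f g) (h' : Homotopy f' g') : Nonempty (Homotopy (f ⊗ₘ f') (g ⊗ₘ g')) := by
  have h1 : Homotopy (f ▷ X') (g ▷ X') :=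
    mapBifunctorMapHomotopy₁ h (𝟙 X') (curriedTensor (ModuleCat.{u} A)) (ComplexShape.up ℤ)
  have h2 : Homotopy (Y ◁ f') (Y ◁ g') :=
    mapBifunctorMapHomotopy₂ (𝟙 Y) h' (curriedTensor (ModuleCat.{u} A)) (ComplexShape.up ℤ)
  rw [MonoidalCategory.tensorHom_def, MonoidalCategory.tensorHom_def]
  exact ⟨h1.comp h2⟩

section pairs

variable [HasLTen A]

/-- the counit of the derived tensor product is an isomorphism on pairs of K-projectives -/
theorem isIso_ε_of_isKProjective (P P' : Cx A) [P.IsKProjective] [P'.IsKProjective] :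
    IsIso ((ε A).app (P, P')) := by
  have := Functor.IsLeftDerivedFunctor.isRightKanExtension (LTen₂ A) (ε A) (qis₂ A)
  have hsm : ∀ Z : Dual.D A × Dual.D A, Small.{u} ((QQ A).obj (P, P') ⟶ Z) := fun Z => by
    show Small.{u} ((Q.obj P ⟶ Z.1) × (Q.obj P' ⟶ Z.2))
    infer_instance
  refine isIso_counit_app'.{u} (QQ A) (tensor₂ A) (LTen₂ A) (ε A) (P, P') ?_ ?_
  · rintro ⟨Y₁, Y₂⟩ ⟨g₁, g₂⟩
    obtain ⟨f₁, rfl⟩ := Q_map_surjective P Y₁ g₁
    obtain ⟨f₂, rfl⟩ := Q_map_surjective P' Y₂ g₂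
    exact ⟨(f₁, f₂), rfl⟩
  · rintro ⟨Y₁, Y₂⟩ ⟨f₁, f₂⟩ ⟨g₁, g₂⟩ h
    obtain ⟨h1⟩ := homotopy_of_Q_map_eq P Y₁ f₁ g₁ (congrArg Prod.fst h)
    obtain ⟨h2⟩ := homotopy_of_Q_map_eq P' Y₂ f₂ g₂ (congrArg Prod.snd h)
    obtain ⟨h3⟩ := homotopy_tensorHom h1 h2
    dsimp
    rw [← MonoidalCategory.tensorHom_def, ← MonoidalCategory.tensorHom_def]
    exact Q_map_eq_of_homotopy h3

end pairs

end Groth.Agent.Lib.Helper1.DT
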