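import Mathlib
import Groth.Agent.Lib.Helper1KF4
import Groth.Agent.Lib.Helper1KF9
set_option backward.isDefEq.respectTransparency.types false

/-!
# Symmetry of the tensor product of complexes; K-flat left/right (helper1, K-flat cluster, part 10)
-/

set_option autoImplicit false
universe u
open CategoryTheory CategoryTheory.Limits MonoidalCategory HomologicalComplex

namespace Groth.Agent.Lib.Helper1.KF

variable {R : Type u} [CommRing R]

/-- the components of the swap map -/
noncomputable def swapComp (K L : Cx R) (n p q : ℤ) (hpq : p + q = n) :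
    K.X p ⊗ L.X q ⟶ (L ⊗ K).X n :=
  (p * q).negOnePow • (β_ (K.X p) (L.X q)).hom ≫ ιTensorObj L K q p n (by omega)

/-- the swap map `K ⊗ L ⟶ L ⊗ K` (with the Koszul sign) in each degree -/
noncomputable def swapF (K L : Cx R) (n : ℤ) : (K ⊗ L).X n ⟶ (L ⊗ K).X n :=
  mapBifunctorDesc (K₁ := K) (K₂ := L) (F := curriedTensor (ModuleCat.{u} R))
    (c := ComplexShape.up ℤ) (fun p q hpq => swapComp K L n p q hpq)

@[reassoc]
lemma ι_swapF (K L : Cx R) (n p q : ℤ) (hpq : p + q = n) :
    ιTensorObj K L p q n hpq ≫ swapF K L n = swapComp K L n p q hpq := by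
  unfold swapF
  erw [ι_mapBifunctorDesc]

/-- the swap map `K ⊗ L ⟶ L ⊗ K` (with the Koszul sign) -/
noncomputable def swapHom (K L : Cx R) : K ⊗ L ⟶ L ⊗ K where
  f n := swapF K L n
  comm' n n' h := by
    obtain rfl : n + 1 = n' := h
    apply tensor_hom_ext
    intro p q hpq
    rw [ι_swapF_assoc, ← Category.assoc,
      ι_tensor_d K L p q n hpq (p + 1) (q + 1) (n + 1) rfl rfl rfl, Preadditive.add_comp,
      Category.assoc, Linear.units_smul_comp, Category.assoc, ι_swapF, ι_swapF]
    unfold swapComp
    rw [Linear.units_smul_comp, Category.assoc,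
      ι_tensor_d L K q p n (by omega) (q + 1) (p + 1) (n + 1) rfl rfl rfl]
    simp only [Preadditive.comp_add, Linear.comp_units_smul, smul_add, smul_smul]
    refine (add_comm _ _).trans ?_
    congr 1
    · rw [BraidedCategory.braiding_naturality_left_assoc]
      congr 1
      rw [← Int.negOnePow_add]
      exact (Int.negOnePow_eq_iff _ _).mpr ⟨0, by ring⟩
    · rw [BraidedCategory.braiding_naturality_right_assoc]
      congr 1
      rw [← Int.negOnePow_add]
      exact (Int.negOnePow_eq_iff _ _).mpr ⟨-p, by ring⟩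

@[reassoc]
lemma ι_swapHom_f (K L : Cx R) (n p q : ℤ) (hpq : p + q = n) :
    ιTensorObj K L p q n hpq ≫ (swapHom K L).f n =
      (p * q).negOnePow • (β_ (K.X p) (L.X q)).hom ≫ ιTensorObj L K q p n (by omega) :=
  ι_swapF K L n p q hpq

lemma swapHom_swapHom (K L : Cx R) : swapHom K L ≫ swapHom L K = 𝟙 _ := by
  refine HomologicalComplex.hom_ext _ _ (fun n => ?_)
  apply tensor_hom_ext
  intro p q hpq
  rw [HomologicalComplex.comp_f, ι_swapHom_f_assoc, Linear.units_smul_comp, Category.assoc,
    ι_swapHom_f, Linear.comp_units_smul, smul_smul,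
    SymmetricCategory.symmetry_assoc, mul_comm q p, Int.units_mul_self, one_smul,
    HomologicalComplex.id_f]
  exact (Category.comp_id _).symm

/-- the symmetry isomorphism of the tensor product of complexes -/
noncomputable def swapIso (K L : Cx R) : K ⊗ L ≅ L ⊗ K where
  hom := swapHom K L
  inv := swapHom L K
  hom_inv_id := swapHom_swapHom K L
  inv_hom_id := swapHom_swapHom L K

lemma swapHom_naturality_right (K : Cx R) {L L' : Cx R} (g : L ⟶ L') :
    (K ◁ g) ≫ swapHom K L' = swapHom K L ≫ (g ▷ K) := by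
  refine HomologicalComplex.hom_ext _ _ (fun n => ?_)
  apply tensor_hom_ext
  intro p q hpq
  rw [HomologicalComplex.comp_f, HomologicalComplex.comp_f, ι_whiskerLeft_assoc, ι_swapHom_f,
    ι_swapHom_f_assoc, Linear.comp_units_smul, Linear.units_smul_comp, Category.assoc,
    ι_whiskerRight, BraidedCategory.braiding_naturality_right_assoc]

lemma swapHom_naturality_left {K K' : Cx R} (g : K ⟶ K') (L : Cx R) :
    (g ▷ L) ≫ swapHom K' L = swapHom K L ≫ (L ◁ g) := by
  refine HomologicalComplex.hom_ext _ _ (fun n => ?_)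
  apply tensor_hom_ext
  intro p q hpq
  rw [HomologicalComplex.comp_f, HomologicalComplex.comp_f, ι_whiskerRight_assoc, ι_swapHom_f,
    ι_swapHom_f_assoc, Linear.comp_units_smul, Linear.units_smul_comp, Category.assoc,
    ι_whiskerLeft, BraidedCategory.braiding_naturality_left_assoc]

lemma kflat_iff_kflatL (K : Cx R) : KFlat K ↔ KFlatL K :=
  ⟨fun h L hL => Acyc.of_iso (swapIso L K) (h L hL),
    fun h L hL => Acyc.of_iso (swapIso K L) (h L hL)⟩

lemma KFlat.kflatL {K : Cx R} (h : KFlat K) : KFlatL K := (kflat_iff_kflatL K).mp h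

lemma KFlatL.kflat {K : Cx R} (h : KFlatL K) : KFlat K := (kflat_iff_kflatL K).mpr h

lemma quasiIso_whiskerLeft_iff_whiskerRight (K : Cx R) {L L' : Cx R} (g : L ⟶ L') :
    QuasiIso (K ◁ g) ↔ QuasiIso (g ▷ K) := by
  have h := swapHom_naturality_right K g
  have h1 : QuasiIso (swapHom K L') := by
    have : IsIso (swapHom K L') := (swapIso K L').isIso_hom
    infer_instance
  have h2 : QuasiIso (swapHom K L) := by
    have : IsIso (swapHom K L) := (swapIso K L).isIso_hom
    infer_instance
  constructor
  · intro hq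
    have h3 : QuasiIso (swapHom K L ≫ (g ▷ K)) := by rw [← h]; infer_instance
    exact quasiIso_of_comp_left (swapHom K L) (g ▷ K)
  · intro hq
    have h3 : QuasiIso ((K ◁ g) ≫ swapHom K L') := by rw [h]; infer_instance
    exact quasiIso_of_comp_right (K ◁ g) (swapHom K L')

end Groth.Agent.Lib.Helper1.KF
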