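import Mathlib
import Groth.Agent.Lib.Helper1DT2
import Groth.Agent.Lib.Helper1KF10
set_option backward.isDefEq.respectTransparency.types false

/-!
# The derived tensor product is computed on K-flat complexes; triples (helper1, DTen part 3)
-/

set_option autoImplicit false
set_option maxHeartbeats 400000
universe u
open CategoryTheory CategoryTheory.Limits MonoidalCategory HomologicalComplex
attribute [local instance] HasDerivedCategory.standard

namespace Groth.Agent.Lib.Helper1.DT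

open DerivedCategory Groth.Agent.Lib.Helper1.KF Groth.Agent.Lib.Helper1.LDer DTen

variable {A : Type u} [CommRing A]

lemma kflat_tensor {K L : Cx A} (hK : KFlat K) (hL : KFlat L) : KFlat (K ⊗ L) :=
  fun M hM => Acyc.of_iso (α_ M K L) (hL _ (hK M hM))

lemma quasiIso_tensorHom_of_kflat_left {P K P' L : Cx A} (π : P ⟶ K) (π' : P' ⟶ L)
    [QuasiIso π] [QuasiIso π'] (hP' : KFlat P') (hK : KFlat K) : QuasiIso (π ⊗ₘ π') := by
  rw [MonoidalCategory.tensorHom_def]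
  have := quasiIso_whiskerRight_of_kflat π P' hP'
  have := quasiIso_whiskerLeft_of_kflatL π' K hK.kflatL
  infer_instance

lemma quasiIso_tensorHom_of_kflat_right {P K P' L : Cx A} (π : P ⟶ K) (π' : P' ⟶ L)
    [QuasiIso π] [QuasiIso π'] (hP : KFlat P) (hL : KFlat L) : QuasiIso (π ⊗ₘ π') := by
  rw [MonoidalCategory.tensorHom_def']
  have := quasiIso_whiskerLeft_of_kflatL π' P hP.kflatL
  have := quasiIso_whiskerRight_of_kflat π L hL
  infer_instance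

section pairs

variable [HasLTen A]

/-- the counit `QK ⊗^L QL ⟶ Q(K ⊗ L)` is an isomorphism when `K` or `L` is K-flat -/
theorem isIso_ε_of_kflat (K L : Cx A) (h : KFlat K ∨ KFlat L) : IsIso ((ε A).app (K, L)) := by
  obtain ⟨P, π, hP, -, hπ, -⟩ := exists_kprojective_resolution K
  obtain ⟨P', π', hP', -, hπ', -⟩ := exists_kprojective_resolution L
  have hPf : KFlat P := kflat_of_isKProjective P
  have hP'f : KFlat P' := kflat_of_isKProjective P'
  have e := (ε A).naturality (Prod.mkHom π π' : (P, P') ⟶ (K, L))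
  have h1 : IsIso ((ε A).app (P, P')) := isIso_ε_of_isKProjective P P'
  have h2 : IsIso ((QQ A ⋙ LTen₂ A).map (Prod.mkHom π π' : (P, P') ⟶ (K, L))) := by
    have : IsIso (Q.map π) := (DerivedCategory.isIso_Q_map_iff_quasiIso (φ := π)).2 hπ
    have : IsIso (Q.map π') := (DerivedCategory.isIso_Q_map_iff_quasiIso (φ := π')).2 hπ'
    have : IsIso ((QQ A).map (Prod.mkHom π π' : (P, P') ⟶ (K, L))) := by
      rw [isIso_prod_iff]
      exact ⟨inferInstanceAs (IsIso (Q.map π)), inferInstanceAs (IsIso (Q.map π'))⟩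
    exact Functor.map_isIso (LTen₂ A) _
  have h3 : IsIso ((tensor₂ A).map (Prod.mkHom π π' : (P, P') ⟶ (K, L))) := by
    have hq : QuasiIso (π ⊗ₘ π') := by
      rcases h with h | h
      · exact quasiIso_tensorHom_of_kflat_left π π' hP'f h
      · exact quasiIso_tensorHom_of_kflat_right π π' hPf h
    have : IsIso (Q.map (π ⊗ₘ π')) := (DerivedCategory.isIso_Q_map_iff_quasiIso (φ := π ⊗ₘ π')).2 hq
    dsimp
    rw [← MonoidalCategory.tensorHom_def]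
    exact this
  have h4 : (ε A).app (K, L) =
      inv ((QQ A ⋙ LTen₂ A).map (Prod.mkHom π π' : (P, P') ⟶ (K, L))) ≫ (ε A).app (P, P') ≫
        (tensor₂ A).map (Prod.mkHom π π' : (P, P') ⟶ (K, L)) := by
    rw [IsIso.eq_inv_comp]
    exact e
  rw [h4]
  infer_instance

end pairs

section triples

variable [HasLTen₃ A]

/-- the counit of the derived triple tensor product is an isomorphism on triples of
K-projectives -/
theorem isIso_ε₃_of_isKProjective (P₁ P₂ P₃ : Cx A) [P₁.IsKProjective] [P₂.IsKProjective]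
    [P₃.IsKProjective] : IsIso ((ε₃ A).app (P₁, (P₂, P₃))) := by
  have := Functor.IsLeftDerivedFunctor.isRightKanExtension (LTen₃ A) (ε₃ A) (qis₃ A)
  have hsm : ∀ Z : Dual.D A × (Dual.D A × Dual.D A),
      Small.{u} ((QQQ A).obj (P₁, (P₂, P₃)) ⟶ Z) := fun Z => by
    show Small.{u} ((Q.obj P₁ ⟶ Z.1) × ((Q.obj P₂ ⟶ Z.2.1) × (Q.obj P₃ ⟶ Z.2.2)))
    infer_instance
  refine isIso_counit_app'.{u} (QQQ A) (tensor₃ A) (LTen₃ A) (ε₃ A) (P₁, (P₂, P₃)) ?_ ?_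
  · rintro ⟨Y₁, Y₂, Y₃⟩ ⟨g₁, g₂, g₃⟩
    obtain ⟨f₁, rfl⟩ := Q_map_surjective P₁ Y₁ g₁
    obtain ⟨f₂, rfl⟩ := Q_map_surjective P₂ Y₂ g₂
    obtain ⟨f₃, rfl⟩ := Q_map_surjective P₃ Y₃ g₃
    exact ⟨(f₁, (f₂, f₃)), rfl⟩
  · rintro ⟨Y₁, Y₂, Y₃⟩ ⟨f₁, f₂, f₃⟩ ⟨g₁, g₂, g₃⟩ h
    obtain ⟨h1⟩ := homotopy_of_Q_map_eq P₁ Y₁ f₁ g₁ (congrArg Prod.fst h)
    obtain ⟨h2⟩ := homotopy_of_Q_map_eq P₂ Y₂ f₂ g₂ (congrArg (fun t => t.2.1) h)
    obtain ⟨h3⟩ := homotopy_of_Q_map_eq P₃ Y₃ f₃ g₃ (congrArg (fun t => t.2.2) h)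
    obtain ⟨h23⟩ := homotopy_tensorHom h2 h3
    obtain ⟨h123⟩ := homotopy_tensorHom h1 h23
    dsimp
    rw [← MonoidalCategory.tensorHom_def, ← MonoidalCategory.tensorHom_def,
      ← MonoidalCategory.tensorHom_def, ← MonoidalCategory.tensorHom_def]
    exact Q_map_eq_of_homotopy h123

variable [HasLTen A]

lemma isIso_assocL_app_Q (P₁ P₂ P₃ : Cx A) [P₁.IsKProjective] [P₂.IsKProjective]
    [P₃.IsKProjective] : IsIso ((assocL A).app ((QQQ A).obj (P₁, (P₂, P₃)))) := by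
  have h := assocL_fac A (P₁, (P₂, P₃))
  have h1 := isIso_ε₃_of_isKProjective P₁ P₂ P₃
  have h2 : IsIso ((βL A).app (P₁, (P₂, P₃))) := by
    dsimp [βL]
    have i1 : IsIso ((ε A).app (P₁, P₂)) := isIso_ε_of_isKProjective P₁ P₂
    have i2 : IsIso ((ε A).app (P₁ ⊗ P₂, P₃)) :=
      isIso_ε_of_kflat _ _ (Or.inr (kflat_of_isKProjective P₃))
    have i3 : IsIso (Prod.mkHom ((ε A).app (P₁, P₂)) (𝟙 (Q.obj P₃))) := by
      rw [isIso_prod_iff]
      exact ⟨i1, inferInstanceAs (IsIso (𝟙 (Q.obj P₃)))⟩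
    have i4 : IsIso (Q.map (α_ P₁ P₂ P₃).hom) := inferInstance
    have i5 : IsIso ((LTen₂ A).map (Prod.mkHom ((ε A).app (P₁, P₂)) (𝟙 (Q.obj P₃)))) :=
      Functor.map_isIso _ _
    exact IsIso.comp_isIso' i5 (IsIso.comp_isIso' i2 i4)
  have h3 : (assocL A).app ((QQQ A).obj (P₁, (P₂, P₃))) =
      (βL A).app (P₁, (P₂, P₃)) ≫ inv ((ε₃ A).app (P₁, (P₂, P₃))) := by
    rw [IsIso.eq_comp_inv]; exact h
  rw [h3]
  infer_instance

lemma isIso_assocR_app_Q (P₁ P₂ P₃ : Cx A) [P₁.IsKProjective] [P₂.IsKProjective]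
    [P₃.IsKProjective] : IsIso ((assocR A).app ((QQQ A).obj (P₁, (P₂, P₃)))) := by
  have h := assocR_fac A (P₁, (P₂, P₃))
  have h1 := isIso_ε₃_of_isKProjective P₁ P₂ P₃
  have h2 : IsIso ((βR A).app (P₁, (P₂, P₃))) := by
    dsimp [βR]
    have i1 : IsIso ((ε A).app (P₂, P₃)) := isIso_ε_of_isKProjective P₂ P₃
    have i2 : IsIso ((ε A).app (P₁, P₂ ⊗ P₃)) :=
      isIso_ε_of_kflat _ _ (Or.inl (kflat_of_isKProjective P₁))
    have i3 : IsIso (Prod.mkHom (𝟙 (Q.obj P₁)) ((ε A).app (P₂, P₃))) := by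
      rw [isIso_prod_iff]
      exact ⟨inferInstanceAs (IsIso (𝟙 (Q.obj P₁))), i1⟩
    infer_instance
  have h3 : (assocR A).app ((QQQ A).obj (P₁, (P₂, P₃))) =
      (βR A).app (P₁, (P₂, P₃)) ≫ inv ((ε₃ A).app (P₁, (P₂, P₃))) := by
    rw [IsIso.eq_comp_inv]; exact h
  rw [h3]
  infer_instance

omit [HasLTen₃ A] [HasLTen A] in
/-- every triple of objects of `D(A)` is isomorphic to the image of a triple of K-projectives -/
lemma exists_kproj_triple_iso (a b c : Dual.D A) :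
    ∃ (P₁ P₂ P₃ : Cx A), P₁.IsKProjective ∧ P₂.IsKProjective ∧ P₃.IsKProjective ∧
      Nonempty ((QQQ A).obj (P₁, (P₂, P₃)) ≅ (a, (b, c))) := by
  obtain ⟨P₁, h₁, -, ⟨e₁⟩⟩ := exists_kproj_iso a
  obtain ⟨P₂, h₂, -, ⟨e₂⟩⟩ := exists_kproj_iso b
  obtain ⟨P₃, h₃, -, ⟨e₃⟩⟩ := exists_kproj_iso c
  exact ⟨P₁, P₂, P₃, h₁, h₂, h₃, ⟨Iso.prod e₁ (Iso.prod e₂ e₃)⟩⟩

theorem isIso_assocL_app (a b c : Dual.D A) : IsIso ((assocL A).app (a, (b, c))) := by
  obtain ⟨P₁, P₂, P₃, h₁, h₂, h₃, ⟨e⟩⟩ := exists_kproj_triple_iso a b c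
  have := isIso_assocL_app_Q P₁ P₂ P₃
  exact (NatTrans.isIso_app_iff_of_iso (assocL A) e).1 this

theorem isIso_assocR_app (a b c : Dual.D A) : IsIso ((assocR A).app (a, (b, c))) := by
  obtain ⟨P₁, P₂, P₃, h₁, h₂, h₃, ⟨e⟩⟩ := exists_kproj_triple_iso a b c
  have := isIso_assocR_app_Q P₁ P₂ P₃
  exact (NatTrans.isIso_app_iff_of_iso (assocR A) e).1 this

end triples

end Groth.Agent.Lib.Helper1.DT
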