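import Mathlib
import Groth.Prelude.Def_DTen3
import Groth.Agent.Lib.Helper1DT3
import Groth.Agent.Lib.Helper10ConeTensor
import Groth.Agent.Lib.Helper10DTenA
set_option backward.isDefEq.respectTransparency.types false

/-!
# The derived tensor product `- ⊗^L X` on `D(A)` is Hom-exact (helper10)
-/

set_option autoImplicit false
universe u
open CategoryTheory CategoryTheory.Limits MonoidalCategory CategoryTheory.Pretriangulated
attribute [local instance] HasDerivedCategory.standard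

namespace Groth.Agent.Lib.Helper10.DTenB

open DerivedCategory Groth.Agent.Lib.Helper1.KF Groth.Agent.Lib.Helper1.DT DTen
  Groth.Agent.Lib.Helper10.DTenA Groth.Agent.Lib.Helper10.ConeTensor CochainComplex

variable {A : Type u} [CommRing A] [HasLTen A]

/-- abstract diagram chase -/
lemma chase {C : Type*} [Category C] [Preadditive C] {W K2 L2 C2 K' L' C' C'' : C}
    (f : W ⟶ L2) (a : K2 ⟶ L2) (b : L2 ⟶ C2) (εK : K2 ⟶ K') (εL : L2 ⟶ L') (εC : C2 ⟶ C')
    (_ : IsIso εK) (_ : IsIso εL) (a' : K' ⟶ L') (b' : L' ⟶ C') (b'' : L' ⟶ C'') (c : C'' ⟶ C')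
    (_ : IsIso c)
    (nat1 : a ≫ εL = εK ≫ a') (nat2 : b ≫ εC = εL ≫ b') (hc : b'' ≫ c = b')
    (hex : ∀ x : W ⟶ L', x ≫ b'' = 0 → ∃ y : W ⟶ K', x = y ≫ a')
    (hf : f ≫ b = 0) : ∃ g : W ⟶ K2, g ≫ a = f := by
  have h0 : (f ≫ εL) ≫ b'' = 0 := by
    rw [← cancel_mono c, Category.assoc, Category.assoc, hc, ← nat2, reassoc_of% hf, zero_comp,
      zero_comp]
  obtain ⟨g', hg'⟩ := hex _ h0
  refine ⟨g' ≫ inv εK, ?_⟩
  rw [← cancel_mono εL, Category.assoc, Category.assoc, nat1, IsIso.inv_hom_id_assoc]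
  exact hg'.symm

/-- `- ⊗^L Q P` is exact at standard triangles when `P` is K-flat -/
lemma exactAt_tensorRightD_Q (P : Cx A) (hP : KFlat P) {K L : Cx A} (φ : K ⟶ L) :
    ExactAt (tensorRightD A (Q.obj P)) (Q.mapTriangle.obj (mappingCone.triangle φ)) := by
  intro W f hf
  have iK : IsIso ((ε A).app (K, P)) := isIso_ε_of_kflat K P (Or.inr hP)
  have iL : IsIso ((ε A).app (L, P)) := isIso_ε_of_kflat L P (Or.inr hP)
  have nat1 := (εRight A P).naturality φ
  have nat2 := (εRight A P).naturality (mappingCone.inr φ)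
  have hiso : IsIso (Q.map (coneTensorHom φ P)) := inferInstance
  refine chase (C := Dual.D A) f _ _ ((ε A).app (K, P)) ((ε A).app (L, P))
    ((ε A).app (mappingCone φ, P)) iK iL (Q.map (φ ▷ P)) (Q.map (mappingCone.inr φ ▷ P))
    (Q.map (mappingCone.inr (φ ▷ P))) (Q.map (coneTensorHom φ P)) hiso nat1 nat2 ?_ ?_ hf
  · rw [← Q.map_comp, inr_coneTensorHom]
  · intro x hx
    exact Triangle.coyoneda_exact₂ _ (mappingCone_triangle_distinguished (φ ▷ P)) x hx

/-- `- ⊗^L X` is Hom-exact -/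
theorem hexact_tensorRightD (X : Dual.D A) : HExact (tensorRightD A X) := by
  obtain ⟨P, hP, -, ⟨e⟩⟩ := exists_kproj_iso X
  have hPf : KFlat P := kflat_of_isKProjective P
  refine HExact.of_natIso ((LTen A).flip.mapIso e) ?_
  intro T hT
  rw [mem_distTriang_iff] at hT
  obtain ⟨K, L, φ, ⟨eT⟩⟩ := hT
  exact ExactAt.of_iso eT (exactAt_tensorRightD_Q P hPf φ)



section Closed

variable [HasLTen₃ A] [IsSymMonoidal A] [HasRHom A]

set_option quotPrecheck false in
local notation "⟪" f ", " g "⟫" => CategoryTheory.Functor.map (LTen₂ A) (Prod.mkHom f g)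

omit [HasLTen₃ A] [IsSymMonoidal A] [HasRHom A] in
@[reassoc]
lemma tm_comp {X X' X'' Y Y' Y'' : Dual.D A} (f : X ⟶ X') (f' : X' ⟶ X'') (g : Y ⟶ Y')
    (g' : Y' ⟶ Y'') : ⟪f ≫ f', g ≫ g'⟫ = ⟪f, g⟫ ≫ ⟪f', g'⟫ := by
  rw [← Functor.map_comp]
  rfl

omit [HasLTen₃ A] [IsSymMonoidal A] [HasRHom A] in
lemma tm_id (X Y : Dual.D A) : ⟪𝟙 X, 𝟙 Y⟫ = 𝟙 _ := by
  rw [← prod_id, CategoryTheory.Functor.map_id]

omit [HasRHom A] in
/-- naturality of the associator in the three variables -/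
lemma associator_naturality {a a' b b' c c' : Dual.D A} (f : a ⟶ a') (g : b ⟶ b') (h : c ⟶ c') :
    ⟪⟪f, g⟫, h⟫ ≫ (associator a' b' c').hom = (associator a b c).hom ≫ ⟪f, ⟪g, h⟫⟫ := by
  have hn := (assocL A ≫ inv (assocR A)).naturality
    (X := (a, (b, c))) (Y := (a', (b', c'))) (Prod.mkHom f (Prod.mkHom g h))
  simp only [NatTrans.comp_app, Category.assoc] at hn
  simp only [DTen.associator, Iso.trans_hom, Iso.symm_hom, Iso.app_hom, Iso.app_inv, asIso_hom,
    asIso_inv, Category.assoc]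
  dsimp [LTenL, LTenR] at hn
  exact hn

/-- `evalTen` is natural in the first variable -/
noncomputable def evalTenNat (L M : Dual.D A) :
    tensorRightD A ((RHomR A M).obj L) ⟶ tensorRightD A L ⋙ RHomR A M where
  app K := evalTen K L M
  naturality K K' k := by
    have h1 : ⟪⟪k, 𝟙 ((RHomR A M).obj L)⟫, 𝟙 M⟫ ≫ evalTenAux K' L M =
        evalTenAux K L M ≫ ⟪k, 𝟙 L⟫ := by
      unfold evalTenAux
      rw [← Category.assoc, associator_naturality, tm_id, Category.assoc, Category.assoc,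
        ← tm_comp, ← tm_comp]
      simp
    change ⟪k, 𝟙 _⟫ ≫ (rhomAdj A M).homEquiv _ _ (evalTenAux K' L M) =
      (rhomAdj A M).homEquiv _ _ (evalTenAux K L M) ≫ (RHomR A M).map ⟪k, 𝟙 L⟫
    rw [← Adjunction.homEquiv_naturality_right, ← h1]
    exact ((rhomAdj A M).homEquiv_naturality_left ⟪k, 𝟙 _⟫ (evalTenAux K' L M)).symm

@[simp] lemma evalTenNat_app (K L M : Dual.D A) : (evalTenNat L M).app K = evalTen K L M := rfl

omit [HasLTen₃ A] [IsSymMonoidal A] [HasRHom A] in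
lemma tmL_bijective (U : Dual.D A) [((LTen A).obj U).Full] [((LTen A).obj U).Faithful]
    (X Y : Dual.D A) : Function.Bijective (fun g : X ⟶ Y => ⟪𝟙 U, g⟫) :=
  (Functor.FullyFaithful.ofFullyFaithful ((LTen A).obj U)).map_bijective X Y

/-- if `U ⊗^L -` is fully faithful and essentially surjective, then `evalTen U L M` is an
isomorphism -/
theorem isIso_evalTen_of_equiv (U L M : Dual.D A) [((LTen A).obj U).Full]
    [((LTen A).obj U).Faithful] [((LTen A).obj U).EssSurj] : IsIso (evalTen U L M) := by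
  apply isIso_of_yoneda_map_bijective
  intro W
  -- reduce to `W = U ⊗ W'`
  let W' := ((LTen A).obj U).objPreimage W
  let w : (LTen₂ A).obj (U, W') ≅ W := ((LTen A).obj U).objObjPreimageIso W
  suffices H : Function.Bijective
      (fun g : (LTen₂ A).obj (U, W') ⟶ (LTen₂ A).obj (U, (RHomR A M).obj L) =>
        g ≫ evalTen U L M) by
    have e : (fun g : W ⟶ (LTen₂ A).obj (U, (RHomR A M).obj L) => g ≫ evalTen U L M) =
        (w.homFromEquiv (Y := _)) ∘ (fun g => g ≫ evalTen U L M) ∘ (w.homFromEquiv (Y := _)).symm := by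
      funext g
      simp [Iso.homFromEquiv]
    rw [e]
    exact (w.homFromEquiv).bijective.comp (H.comp (w.homFromEquiv).symm.bijective)
  -- the composite bijection
  have hΨ : Function.Bijective (fun g₀ : W' ⟶ (RHomR A M).obj L =>
      (rhomHomEquiv ((LTen₂ A).obj (U, W')) M ((LTen₂ A).obj (U, L)))
        ((associator U W' M).hom ≫ ⟪𝟙 U, (rhomHomEquiv W' M L).symm g₀⟫)) := by
    refine (Equiv.bijective _).comp (((associator U W' M).homFromEquiv.symm.bijective).comp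
      ((tmL_bijective U _ _).comp (Equiv.bijective _)))
  have key : (fun g : (LTen₂ A).obj (U, W') ⟶ (LTen₂ A).obj (U, (RHomR A M).obj L) =>
        g ≫ evalTen U L M) ∘ (fun g₀ : W' ⟶ (RHomR A M).obj L => ⟪𝟙 U, g₀⟫) =
      (fun g₀ : W' ⟶ (RHomR A M).obj L =>
      (rhomHomEquiv ((LTen₂ A).obj (U, W')) M ((LTen₂ A).obj (U, L)))
        ((associator U W' M).hom ≫ ⟪𝟙 U, (rhomHomEquiv W' M L).symm g₀⟫)) := by
    funext g₀
    have hsymm : (rhomHomEquiv W' M L).symm g₀ = ⟪g₀, 𝟙 M⟫ ≫ ev M L := by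
      rw [Adjunction.homEquiv_counit]
      rfl
    have h1 : ⟪⟪𝟙 U, g₀⟫, 𝟙 M⟫ ≫ evalTenAux U L M =
        (associator U W' M).hom ≫ ⟪𝟙 U, (rhomHomEquiv W' M L).symm g₀⟫ := by
      unfold evalTenAux
      rw [← Category.assoc, associator_naturality, Category.assoc, ← tm_comp, hsymm,
        Category.id_comp]
    change ⟪𝟙 U, g₀⟫ ≫ (rhomAdj A M).homEquiv _ _ (evalTenAux U L M) = _
    rw [← h1]
    exact ((rhomAdj A M).homEquiv_naturality_left ⟪𝟙 U, g₀⟫ (evalTenAux U L M)).symm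
  rw [← key] at hΨ
  exact (Function.Bijective.of_comp_iff _ (tmL_bijective U _ _)).mp hΨ

end Closed

end Groth.Agent.Lib.Helper10.DTenB
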