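import Mathlib
import Groth.Agent.Lib.Helper10DTenA

/-!
# Pairs of composable maps which are the first two maps of a distinguished triangle (helper10)

`IsDistPair f g`: there is `h` such that `(f, g, h)` is a distinguished triangle.
`HDist F` / `HDistOp F`: the covariant (resp. contravariant) functor `F` preserves such pairs.
These imply `HExact F` of `Helper10DTenA` (for contravariant functors with respect to Mathlib's
pretriangulated structure on the opposite category).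
-/

set_option autoImplicit false
universe v₁ v₂ v₃ u₁ u₂ u₃
open CategoryTheory CategoryTheory.Limits CategoryTheory.Pretriangulated

namespace Groth.Agent.Lib.Helper10.DistPair

open Groth.Agent.Lib.Helper10.DTenA

section

variable {C : Type u₁} [Category.{v₁} C] [Preadditive C] [HasZeroObject C] [HasShift C ℤ]
  [∀ n : ℤ, (shiftFunctor C n).Additive] [Pretriangulated C]

/-- `(f, g)` can be completed to a distinguished triangle -/
def IsDistPair {X Y Z : C} (f : X ⟶ Y) (g : Y ⟶ Z) : Prop :=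
  ∃ h : Z ⟶ X⟦(1 : ℤ)⟧, Triangle.mk f g h ∈ distTriang C

lemma isDistPair_of_distTriang (T : Triangle C) (hT : T ∈ distTriang C) :
    IsDistPair T.mor₁ T.mor₂ := ⟨T.mor₃, hT⟩

lemma IsDistPair.of_iso {X Y Z X' Y' Z' : C} {f : X ⟶ Y} {g : Y ⟶ Z} {f' : X' ⟶ Y'}
    {g' : Y' ⟶ Z'} (h : IsDistPair f g) (e₁ : X ≅ X') (e₂ : Y ≅ Y') (e₃ : Z ≅ Z')
    (c₁ : f ≫ e₂.hom = e₁.hom ≫ f') (c₂ : g ≫ e₃.hom = e₂.hom ≫ g') : IsDistPair f' g' := by
  obtain ⟨k, hk⟩ := h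
  refine ⟨e₃.inv ≫ k ≫ e₁.hom⟦(1 : ℤ)⟧', ?_⟩
  refine isomorphic_distinguished _ hk _ (Triangle.isoMk _ _ e₁.symm e₂.symm e₃.symm ?_ ?_ ?_)
  · change f' ≫ e₂.inv = e₁.inv ≫ f
    rw [Iso.eq_inv_comp, ← Category.assoc, ← c₁, Category.assoc, Iso.hom_inv_id, Category.comp_id]
  · change g' ≫ e₃.inv = e₂.inv ≫ g
    rw [Iso.eq_inv_comp, ← Category.assoc, ← c₂, Category.assoc, Iso.hom_inv_id, Category.comp_id]
  · change (e₃.inv ≫ k ≫ e₁.hom⟦(1 : ℤ)⟧') ≫ e₁.inv⟦(1 : ℤ)⟧' = e₃.inv ≫ k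
    rw [Category.assoc, Category.assoc, ← Functor.map_comp, Iso.hom_inv_id,
      CategoryTheory.Functor.map_id, Category.comp_id]

lemma IsDistPair.comp_zero {X Y Z : C} {f : X ⟶ Y} {g : Y ⟶ Z} (h : IsDistPair f g) :
    f ≫ g = 0 := by
  obtain ⟨k, hk⟩ := h
  exact comp_distTriang_mor_zero₁₂ _ hk

lemma IsDistPair.exact {X Y Z : C} {f : X ⟶ Y} {g : Y ⟶ Z} (h : IsDistPair f g) {W : C}
    (x : W ⟶ Y) (hx : x ≫ g = 0) : ∃ y : W ⟶ X, y ≫ f = x := by
  obtain ⟨k, hk⟩ := h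
  obtain ⟨y, hy⟩ := Triangle.coyoneda_exact₂ _ hk x hx
  exact ⟨y, hy.symm⟩

lemma IsDistPair.coexact {X Y Z : C} {f : X ⟶ Y} {g : Y ⟶ Z} (h : IsDistPair f g) {W : C}
    (x : Y ⟶ W) (hx : f ≫ x = 0) : ∃ y : Z ⟶ W, g ≫ y = x := by
  obtain ⟨k, hk⟩ := h
  obtain ⟨y, hy⟩ := Triangle.yoneda_exact₂ _ hk x hx
  exact ⟨y, hy.symm⟩

variable {D : Type u₂} [Category.{v₂} D] [Preadditive D]

/-- `HExact` in terms of pairs -/
lemma HExact.exact_of_isDistPair {G : C ⥤ D} (hG : HExact G) {X Y Z : C} {f : X ⟶ Y} {g : Y ⟶ Z}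
    (h : IsDistPair f g) {W : D} (x : W ⟶ G.obj Y) (hx : x ≫ G.map g = 0) :
    ∃ y : W ⟶ G.obj X, y ≫ G.map f = x := by
  obtain ⟨k, hk⟩ := h
  exact hG _ hk x hx

lemma hexact_of_forall_isDistPair {G : C ⥤ D}
    (h : ∀ ⦃X Y Z : C⦄ (f : X ⟶ Y) (g : Y ⟶ Z), IsDistPair f g → ∀ ⦃W : D⦄ (x : W ⟶ G.obj Y),
      x ≫ G.map g = 0 → ∃ y : W ⟶ G.obj X, y ≫ G.map f = x) : HExact G :=
  fun T hT _ x hx => h _ _ (isDistPair_of_distTriang T hT) x hx

end

section Functors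

variable {C : Type u₁} [Category.{v₁} C] [Preadditive C] [HasZeroObject C] [HasShift C ℤ]
  [∀ n : ℤ, (shiftFunctor C n).Additive] [Pretriangulated C]
  {D : Type u₂} [Category.{v₂} D] [Preadditive D] [HasZeroObject D] [HasShift D ℤ]
  [∀ n : ℤ, (shiftFunctor D n).Additive] [Pretriangulated D]
  {E : Type u₃} [Category.{v₃} E] [Preadditive E]

/-- covariant functors preserving distinguished pairs -/
def HDist (F : C ⥤ D) : Prop :=
  ∀ ⦃X Y Z : C⦄ (f : X ⟶ Y) (g : Y ⟶ Z), IsDistPair f g → IsDistPair (F.map f) (F.map g)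

/-- contravariant functors preserving distinguished pairs -/
def HDistOp (F : Cᵒᵖ ⥤ D) : Prop :=
  ∀ ⦃X Y Z : C⦄ (f : X ⟶ Y) (g : Y ⟶ Z), IsDistPair f g → IsDistPair (F.map g.op) (F.map f.op)

lemma HDist.hexact {F : C ⥤ D} (h : HDist F) : HExact F :=
  hexact_of_forall_isDistPair (fun _ _ _ f g hfg _ x hx => (h f g hfg).exact x hx)

lemma HDist.comp_hexact {F : C ⥤ D} (h : HDist F) {G : D ⥤ E} (hG : HExact G) :
    HExact (F ⋙ G) :=
  hexact_of_forall_isDistPair (fun _ _ _ f g hfg _ x hx =>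
    HExact.exact_of_isDistPair hG (h f g hfg) x hx)

open Pretriangulated.Opposite in
lemma isDistPair_unop {X Y Z : Cᵒᵖ} {f : X ⟶ Y} {g : Y ⟶ Z} (h : IsDistPair f g) :
    IsDistPair g.unop f.unop := by
  obtain ⟨k, hk⟩ := h
  exact isDistPair_of_distTriang _ (unop_distinguished _ hk)

open Pretriangulated.Opposite in
lemma HDistOp.hexact {F : Cᵒᵖ ⥤ D} (h : HDistOp F) : HExact F :=
  hexact_of_forall_isDistPair (fun _ _ _ f g hfg _ x hx =>
    (h g.unop f.unop (isDistPair_unop hfg)).exact x hx)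

open Pretriangulated.Opposite in
lemma HDistOp.comp_hexact {F : Cᵒᵖ ⥤ D} (h : HDistOp F) {G : D ⥤ E} (hG : HExact G) :
    HExact (F ⋙ G) :=
  hexact_of_forall_isDistPair (fun _ _ _ f g hfg _ x hx =>
    HExact.exact_of_isDistPair hG (h g.unop f.unop (isDistPair_unop hfg)) x hx)

/-- the composite of two contravariant functors preserving distinguished pairs -/
lemma HDistOp.comp_rightOp {F : Cᵒᵖ ⥤ D} (h : HDistOp F) {D' : Type*} [Category D']
    [Preadditive D'] [HasZeroObject D'] [HasShift D' ℤ] [∀ n : ℤ, (shiftFunctor D' n).Additive]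
    [Pretriangulated D'] {G : Dᵒᵖ ⥤ D'} (hG : HDistOp G) : HDist (F.rightOp ⋙ G) :=
  fun _ _ _ f g hfg => hG _ _ (h f g hfg)

/-- to check `HDistOp` it is enough to check it on a class of pairs containing a representative
of every distinguished pair -/
lemma hdistOp_of_standard (F : Cᵒᵖ ⥤ D)
    (h : ∀ ⦃X Y Z : C⦄ (f : X ⟶ Y) (g : Y ⟶ Z), IsDistPair f g →
      ∃ (X' Y' Z' : C) (f' : X' ⟶ Y') (g' : Y' ⟶ Z') (e₁ : X ≅ X') (e₂ : Y ≅ Y') (e₃ : Z ≅ Z'),
        f ≫ e₂.hom = e₁.hom ≫ f' ∧ g ≫ e₃.hom = e₂.hom ≫ g' ∧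
          IsDistPair (F.map g'.op) (F.map f'.op)) : HDistOp F := by
  intro X Y Z f g hfg
  obtain ⟨X', Y', Z', f', g', e₁, e₂, e₃, c₁, c₂, hd⟩ := h f g hfg
  refine hd.of_iso (F.mapIso e₃.op) (F.mapIso e₂.op) (F.mapIso e₁.op) ?_ ?_
  · dsimp
    rw [← F.map_comp, ← F.map_comp]
    congr 1
    exact Quiver.Hom.unop_inj c₂.symm
  · dsimp
    rw [← F.map_comp, ← F.map_comp]
    congr 1
    exact Quiver.Hom.unop_inj c₁.symm

end Functors

end Groth.Agent.Lib.Helper10.DistPair
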