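import Mathlib.Algebra.Homology.ShortComplex.ModuleCat
import Mathlib.Algebra.Homology.QuasiIso

/-!
# An elementwise criterion for a morphism of short complexes of modules to be a quasi-isomorphism
(helper17)
-/

set_option autoImplicit false
set_option backward.isDefEq.respectTransparency false

universe v u

open CategoryTheory CategoryTheory.Limits

namespace Groth.Agent.Lib.Helper17.HOne

variable {R : Type u} [Ring R]

/-- elementwise criterion for a quasi-isomorphism of short complexes of modules. -/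
lemma quasiIso_of_elements {S₁ S₂ : ShortComplex (ModuleCat.{v} R)} (φ : S₁ ⟶ S₂)
    (hsurj : ∀ x₂ : S₂.X₂, S₂.g x₂ = 0 →
      ∃ x₁ : S₁.X₂, S₁.g x₁ = 0 ∧ ∃ y : S₂.X₁, φ.τ₂ x₁ = x₂ + S₂.f y)
    (hinj : ∀ x₁ : S₁.X₂, S₁.g x₁ = 0 → (∃ y : S₂.X₁, φ.τ₂ x₁ = S₂.f y) →
      ∃ z : S₁.X₁, S₁.f z = x₁) :
    ShortComplex.QuasiIso φ := by
  let h₁ := S₁.moduleCatLeftHomologyData
  let h₂ := S₂.moduleCatLeftHomologyData
  let γ : ShortComplex.LeftHomologyMapData φ h₁ h₂ := default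
  rw [γ.quasiIso_iff]
  have hK : ∀ c : h₁.K, h₂.i (γ.φK c) = φ.τ₂ (h₁.i c) := by
    intro c
    exact congr($(γ.commi) c)
  have hH : ∀ c : h₁.K, γ.φH (h₁.π c) = h₂.π (γ.φK c) := by
    intro c
    exact congr($(γ.commπ) c)
  have hπ₁ : Function.Surjective h₁.π := by
    rw [← ModuleCat.epi_iff_surjective]; infer_instance
  have hπ₂ : Function.Surjective h₂.π := by
    rw [← ModuleCat.epi_iff_surjective]; infer_instance
  have hi₂ : Function.Injective h₂.i := by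
    rw [← ModuleCat.mono_iff_injective]; infer_instance
  have hi₁ : Function.Injective h₁.i := by
    rw [← ModuleCat.mono_iff_injective]; infer_instance
  -- lifting cycles
  have lift₁ : ∀ x : S₁.X₂, S₁.g x = 0 → ∃ c : h₁.K, h₁.i c = x := by
    intro x hx
    exact ⟨⟨x, hx⟩, rfl⟩
  have lift₂ : ∀ x : S₂.X₂, S₂.g x = 0 → ∃ c : h₂.K, h₂.i c = x := by
    intro x hx
    exact ⟨⟨x, hx⟩, rfl⟩
  have hg₁ : ∀ c : h₁.K, S₁.g (h₁.i c) = 0 := fun c => c.2
  have hg₂ : ∀ c : h₂.K, S₂.g (h₂.i c) = 0 := fun c => c.2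
  -- kernel of π
  have kerπ₁ : ∀ c : h₁.K, (∃ z : S₁.X₁, S₁.f z = h₁.i c) → h₁.π c = 0 := by
    rintro c ⟨z, hz⟩
    have : c = h₁.f' z := by
      apply hi₁
      rw [← hz]
      exact (congr($(h₁.f'_i) z)).symm
    rw [this]
    exact congr($(h₁.f'_π) z)
  have kerπ₂ : ∀ c : h₂.K, h₂.π c = 0 → ∃ z : S₂.X₁, S₂.f z = h₂.i c := by
    intro c hc
    have hc' : c ∈ LinearMap.range S₂.moduleCatToCycles := by
      rw [← Submodule.Quotient.mk_eq_zero]
      exact hc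
    obtain ⟨z, hz⟩ := hc'
    exact ⟨z, by rw [← hz]; rfl⟩
  have kerπ₂' : ∀ c : h₂.K, (∃ z : S₂.X₁, S₂.f z = h₂.i c) → h₂.π c = 0 := by
    rintro c ⟨z, hz⟩
    have : c = h₂.f' z := by
      apply hi₂
      rw [← hz]
      exact (congr($(h₂.f'_i) z)).symm
    rw [this]
    exact congr($(h₂.f'_π) z)
  have kerπ₁' : ∀ c : h₁.K, h₁.π c = 0 → ∃ z : S₁.X₁, S₁.f z = h₁.i c := by
    intro c hc
    have hc' : c ∈ LinearMap.range S₁.moduleCatToCycles := by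
      rw [← Submodule.Quotient.mk_eq_zero]
      exact hc
    obtain ⟨z, hz⟩ := hc'
    exact ⟨z, by rw [← hz]; rfl⟩
  rw [ConcreteCategory.isIso_iff_bijective]
  constructor
  · rw [injective_iff_map_eq_zero]
    intro a ha
    obtain ⟨c, rfl⟩ := hπ₁ a
    rw [hH] at ha
    obtain ⟨y, hy⟩ := kerπ₂ _ ha
    rw [hK] at hy
    obtain ⟨z, hz⟩ := hinj (h₁.i c) (hg₁ c) ⟨y, hy.symm⟩
    exact kerπ₁ c ⟨z, hz⟩
  · intro b
    obtain ⟨c₂, rfl⟩ := hπ₂ b
    obtain ⟨x₁, hx₁, y, hy⟩ := hsurj (h₂.i c₂) (hg₂ c₂)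
    obtain ⟨c₁, rfl⟩ := lift₁ x₁ hx₁
    refine ⟨h₁.π c₁, ?_⟩
    rw [hH]
    have : h₂.π (γ.φK c₁) - h₂.π c₂ = 0 := by
      rw [← map_sub]
      apply kerπ₂'
      refine ⟨y, ?_⟩
      rw [map_sub, hK, hy]
      abel
    exact sub_eq_zero.mp this

end Groth.Agent.Lib.Helper17.HOne
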