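import Groth.Prelude.Def_DRing4
import Groth.Agent.Lib.Helper17HOne1
import Mathlib

/-!
# `Hom•(P, -)` preserves quasi-isomorphisms for K-projective `P` (helper5)

* `bijective_postcomp`: postcomposition with a quasi-isomorphism is bijective on homotopy classes of maps out of a
  K-projective complex.
* `quasiIso_homCxMap`: `DRing.homCxMap P f` is a quasi-isomorphism if `f` is and `P` is K-projective.
* `isInvertedBy_homCxQ`, `nonempty_RHomCx_iso`: `RHom(P, L) ≅ Hom•(P, L)` in `D(A)` for K-projective `P`.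
-/

set_option autoImplicit false
set_option linter.style.haveILetI false
universe u

open CategoryTheory CategoryTheory.Limits CochainComplex CochainComplex.HomComplex

namespace Groth.Agent.Lib.Helper5.HomCxQis

attribute [local instance] HasDerivedCategory.standard

section general

variable {C : Type*} [Category C] [Abelian C] [HasDerivedCategory C]

/-- postcomposition with a quasi-isomorphism is bijective on homotopy classes out of a K-projective complex -/
theorem bijective_postcomp (P : CochainComplex C ℤ) [P.IsKProjective] {M M' : CochainComplex C ℤ}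
    (g : M ⟶ M') [QuasiIso g] :
    Function.Bijective
      (fun φ : (HomotopyCategory.quotient C (.up ℤ)).obj P ⟶ (HomotopyCategory.quotient C (.up ℤ)).obj M =>
        φ ≫ (HomotopyCategory.quotient C (.up ℤ)).map g) := by
  have hg : IsIso (DerivedCategory.Qh.map ((HomotopyCategory.quotient C (.up ℤ)).map g)) := by
    have h1 : IsIso (DerivedCategory.Q.map g) :=
      (DerivedCategory.isIso_Q_map_iff_quasiIso _ g).2 inferInstance
    exact (NatIso.isIso_map_iff (DerivedCategory.quotientCompQhIso C) g).2 h1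
  constructor
  · intro φ φ' h
    apply (IsKProjective.Qh_map_bijective P _).injective
    have h2 : DerivedCategory.Qh.map (φ ≫ (HomotopyCategory.quotient C (.up ℤ)).map g) =
        DerivedCategory.Qh.map (φ' ≫ (HomotopyCategory.quotient C (.up ℤ)).map g) :=
      congrArg (fun t => DerivedCategory.Qh.map t) h
    rw [Functor.map_comp, Functor.map_comp] at h2
    exact (cancel_mono _).1 h2
  · intro ψ
    obtain ⟨φ, hφ⟩ := (IsKProjective.Qh_map_bijective P _).surjective
      (DerivedCategory.Qh.map ψ ≫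
        inv (DerivedCategory.Qh.map ((HomotopyCategory.quotient C (.up ℤ)).map g)))
    refine ⟨φ, ?_⟩
    apply (IsKProjective.Qh_map_bijective P _).injective
    show DerivedCategory.Qh.map (φ ≫ _) = DerivedCategory.Qh.map ψ
    rw [Functor.map_comp, hφ, Category.assoc, IsIso.inv_hom_id, Category.comp_id]

theorem mem_coboundaries_of_postcomp (P : CochainComplex C ℤ) [P.IsKProjective]
    {L L' : CochainComplex C ℤ} (f : L ⟶ L') [QuasiIso f] (n : ℤ)
    (z : Cocycle P L n) (h : z.postcomp f ∈ coboundaries P L' n) : z ∈ coboundaries P L n := by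
  rw [← CohomologyClass.toHom_mk_eq_zero_iff] at h ⊢
  rw [CohomologyClass.toHom_mk, Cocycle.equivHomShift_symm_postcomp, Functor.map_comp] at h
  rw [CohomologyClass.toHom_mk]
  exact (bijective_postcomp P (f⟦n⟧')).injective (h.trans zero_comp.symm)

theorem exists_postcomp_sub_mem (P : CochainComplex C ℤ) [P.IsKProjective]
    {L L' : CochainComplex C ℤ} (f : L ⟶ L') [QuasiIso f] (n : ℤ)
    (z' : Cocycle P L' n) : ∃ z : Cocycle P L n, z' - z.postcomp f ∈ coboundaries P L' n := by
  obtain ⟨φ, hφ⟩ := (bijective_postcomp P (f⟦n⟧')).surjective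
    (CohomologyClass.toHom (CohomologyClass.mk z'))
  have hφ' : φ ≫ (HomotopyCategory.quotient C (.up ℤ)).map (f⟦n⟧') =
      CohomologyClass.toHom (CohomologyClass.mk z') := hφ
  obtain ⟨c, hc⟩ := (CohomologyClass.toHom_bijective P L n).surjective φ
  obtain ⟨z, rfl⟩ := c.mk_surjective
  refine ⟨z, ?_⟩
  rw [← CohomologyClass.toHom_mk_eq_zero_iff, CohomologyClass.mk_sub, map_sub, sub_eq_zero,
    ← hφ', ← hc, CohomologyClass.toHom_mk, CohomologyClass.toHom_mk,
    Cocycle.equivHomShift_symm_postcomp, Functor.map_comp]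

end general

variable {A : Type u} [CommRing A]

theorem quasiIso_homCxMap (P : DRing.Cx A) [P.IsKProjective] {L L' : DRing.Cx A} (f : L ⟶ L')
    [QuasiIso f] : QuasiIso (DRing.homCxMap P f) := by
  rw [quasiIso_iff]
  intro n
  rw [quasiIsoAt_iff' _ (n - 1) n (n + 1) (by simp) (by simp)]
  apply Groth.Agent.Lib.Helper17.HOne.quasiIso_of_elements
  · intro x₂ hx₂
    obtain ⟨x₂, rfl⟩ : ∃ x : Cochain P L' n, x = x₂ := ⟨x₂, rfl⟩
    have hx : δ n (n + 1) x₂ = 0 := hx₂
    obtain ⟨z, hz⟩ := exists_postcomp_sub_mem P f n (Cocycle.mk x₂ (n + 1) rfl hx)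
    rw [mem_coboundaries_iff _ (n - 1) (by omega)] at hz
    obtain ⟨β, hβ⟩ := hz
    have hβ' : δ (n - 1) n β = x₂ - z.1.comp (Cochain.ofHom f) (add_zero n) := hβ
    refine ⟨z.1, z.δ_eq_zero (n + 1), (-β : Cochain P L' (n - 1)), ?_⟩
    show z.1.comp (Cochain.ofHom f) (add_zero n) = x₂ + δ (n - 1) n (-β)
    rw [δ_neg, hβ']
    abel
  · intro x₁ hx₁ hy
    obtain ⟨x₁, rfl⟩ : ∃ x : Cochain P L n, x = x₁ := ⟨x₁, rfl⟩
    obtain ⟨y, hy⟩ := hy
    obtain ⟨y, rfl⟩ : ∃ y' : Cochain P L' (n - 1), y' = y := ⟨y, rfl⟩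
    have hx : δ n (n + 1) x₁ = 0 := hx₁
    have hy' : x₁.comp (Cochain.ofHom f) (add_zero n) = δ (n - 1) n y := hy
    have h1 : (Cocycle.mk x₁ (n + 1) rfl hx).postcomp f ∈ coboundaries P L' n :=
      (mem_coboundaries_iff _ (n - 1) (by omega)).2 ⟨y, hy'.symm⟩
    have h2 := mem_coboundaries_of_postcomp P f n (Cocycle.mk x₁ (n + 1) rfl hx) h1
    obtain ⟨β, hβ⟩ := (mem_coboundaries_iff _ (n - 1) (by omega)).1 h2
    exact ⟨β, hβ⟩

theorem isInvertedBy_homCxQ (P : DRing.Cx A) [P.IsKProjective] :
    (HomologicalComplex.quasiIso (ModuleCat.{u} A) (ComplexShape.up ℤ)).IsInvertedBy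
      (DRing.homCxQ P) := by
  intro X Y f hf
  haveI : QuasiIso f := hf
  exact (DerivedCategory.isIso_Q_map_iff_quasiIso _ _).2 (quasiIso_homCxMap P f)

/-- **`RHom(P, L) ≅ Hom•(P, L)`** for K-projective `P`. -/
theorem nonempty_RHomCx_iso (P : DRing.Cx A) [P.IsKProjective] [DRing.HasRHomCx P]
    (L : DRing.Cx A) :
    Nonempty ((DRing.RHomCx P).obj (DRing.toD L) ≅ DRing.toD (DRing.homCx P L)) := by
  haveI := Functor.isIso_of_isRightDerivedFunctor_of_inverts (L := DerivedCategory.Q)
    (DRing.RHomCx P) ((DRing.homCxQ P).totalRightDerivedUnit DerivedCategory.Q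
      (HomologicalComplex.quasiIso (ModuleCat.{u} A) (ComplexShape.up ℤ)))
    (isInvertedBy_homCxQ P)
  exact ⟨(asIso (((DRing.homCxQ P).totalRightDerivedUnit DerivedCategory.Q
    (HomologicalComplex.quasiIso (ModuleCat.{u} A) (ComplexShape.up ℤ))).app L)).symm⟩

/-- a bounded above complex of projective modules is K-projective -/
theorem isKProjective_of_vanishesAbove (P : DRing.Cx A) (b : ℤ) (hb : DRing.VanishesAbove P b)
    (hP : ∀ i : ℤ, Module.Projective A (P.X i)) : P.IsKProjective := by
  haveI : P.IsStrictlyLE b := (CochainComplex.isStrictlyLE_iff P b).2 (fun i hi => hb i hi)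
  haveI : ∀ n, Projective (P.X n) := fun n => by
    haveI := hP n
    exact ModuleCat.projective_of_categoryTheory_projective (P.X n)
  exact isKProjective_of_projective P b

/-- **S6996** -/
theorem main (P : DRing.Cx A) (b : ℤ) (hb : DRing.VanishesAbove P b)
    (hP : ∀ i : ℤ, Module.Projective A (P.X i)) [DRing.HasRHomCx P] (L : DRing.Cx A) :
    Nonempty ((DRing.RHomCx P).obj (DRing.toD L) ≅ DRing.toD (DRing.homCx P L)) := by
  haveI := isKProjective_of_vanishesAbove P b hb hP
  exact nonempty_RHomCx_iso P L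

end Groth.Agent.Lib.Helper5.HomCxQis
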