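import Mathlib
import Groth.Prelude.Def_DTen3
import Groth.Agent.Lib.Helper1DT3
import Groth.Agent.Lib.Helper5HomCxQis
import Groth.Agent.Lib.Helper10TensHom
import Groth.Agent.Lib.Helper10DTenB
import Groth.Agent.Lib.Helper10DistPair
set_option backward.isDefEq.respectTransparency.types false

/-!
# `RHom(Q P, Q Y) ≅ Q Hom•(P, Y)` for K-projective `P`, naturally in `P` (helper10)
-/

set_option autoImplicit false
universe u
open CategoryTheory CategoryTheory.Limits MonoidalCategory CategoryTheory.Pretriangulated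
attribute [local instance] HasDerivedCategory.standard

namespace Groth.Agent.Lib.Helper10.TensHomD

open DerivedCategory Groth.Agent.Lib.Helper1.KF Groth.Agent.Lib.Helper1.DT DTen
  Groth.Agent.Lib.Helper10.TensHom Groth.Agent.Lib.Helper10.DTenB CochainComplex
  Groth.Agent.Lib.Helper5.HomCxQis Groth.Agent.Lib.Helper10.DistPair

variable {A : Type u} [CommRing A] [HasLTen A]

set_option quotPrecheck false in
local notation "⟪" f ", " g "⟫" => CategoryTheory.Functor.map (LTen₂ A) (Prod.mkHom f g)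

section

variable (P : Cx A) [P.IsKProjective]

/-- the functor on `D(A)` induced by `Hom•(P, -)` for K-projective `P` -/
noncomputable def RP : Dual.D A ⥤ Dual.D A :=
  Localization.lift (DRing.homCxQ P) (isInvertedBy_homCxQ P) Q

noncomputable def RPIso : Q ⋙ RP P ≅ DRing.homCxFunctor P ⋙ Q :=
  Localization.fac (DRing.homCxQ P) (isInvertedBy_homCxQ P) Q

noncomputable instance : CatCommSq (DRing.homCxFunctor P) Q Q (RP P) := ⟨(RPIso P).symm⟩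

instance isIso_εRight : IsIso (εRight A P) := by
  haveI : ∀ K, IsIso ((εRight A P).app K) := fun K =>
    isIso_ε_of_kflat K P (Or.inr (kflat_of_isKProjective P))
  exact NatIso.isIso_of_isIso_app _

noncomputable instance : CatCommSq (tensorRight P) Q Q (tensorRightD A (Q.obj P)) :=
  ⟨(asIso (εRight A P)).symm⟩

/-- the derived adjunction `- ⊗^L QP ⊣ RP P` -/
noncomputable def adjD : tensorRightD A (Q.obj P) ⊣ RP P :=
  (adj P).localization Q (qis A) Q (qis A) (tensorRightD A (Q.obj P)) (RP P)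

lemma adjD_counit_app (Y : Cx A) :
    (adjD P).counit.app (Q.obj Y) =
      ⟪(RPIso P).hom.app Y, 𝟙 (Q.obj P)⟫ ≫ (ε A).app (DRing.homCx P Y, P) ≫
        Q.map (TensHom.ev P Y) := by
  have h := Adjunction.localization_counit_app (adj P) Q (qis A) Q (qis A)
    (tensorRightD A (Q.obj P)) (RP P) Y
  rw [adj_counit_app] at h
  exact h

variable [HasRHom A]

/-- comparison with the chosen right adjoint -/
noncomputable def uniq : RP P ≅ RHomR A (Q.obj P) :=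
  (adjD P).rightAdjointUniq (rhomAdj A (Q.obj P))

/-- `Q Hom•(P, Y) ≅ RHom(QP, QY)` for K-projective `P` -/
noncomputable def θ (Y : Cx A) :
    Q.obj (DRing.homCx P Y) ≅ (RHomR A (Q.obj P)).obj (Q.obj Y) :=
  (RPIso P).symm.app Y ≪≫ (uniq P).app (Q.obj Y)

lemma θ_ev (Y : Cx A) :
    ⟪(θ P Y).hom, 𝟙 (Q.obj P)⟫ ≫ DTen.ev (Q.obj P) (Q.obj Y) =
      (ε A).app (DRing.homCx P Y, P) ≫ Q.map (TensHom.ev P Y) := by
  have h1 := Adjunction.rightAdjointUniq_hom_app_counit (adjD P) (rhomAdj A (Q.obj P)) (Q.obj Y)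
  rw [adjD_counit_app] at h1
  obtain ⟨i, hi⟩ : ∃ i : Q.obj (DRing.homCx P Y) ⟶ (RP P).obj (Q.obj Y),
    i = (RPIso P).inv.app Y := ⟨_, rfl⟩
  obtain ⟨j, hj⟩ : ∃ j : (RP P).obj (Q.obj Y) ⟶ Q.obj (DRing.homCx P Y),
    j = (RPIso P).hom.app Y := ⟨_, rfl⟩
  have hij : i ≫ j = 𝟙 _ := by
    rw [hi, hj]
    exact (RPIso P).inv_hom_id_app Y
  have h2 : ⟪(θ P Y).hom, 𝟙 (Q.obj P)⟫ =
      ⟪i, 𝟙 (Q.obj P)⟫ ≫ ⟪(uniq P).hom.app (Q.obj Y), 𝟙 (Q.obj P)⟫ := by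
    rw [← tm_comp, Category.comp_id, hi]
    rfl
  have h1' : ⟪(uniq P).hom.app (Q.obj Y), 𝟙 (Q.obj P)⟫ ≫ DTen.ev (Q.obj P) (Q.obj Y) =
      ⟪j, 𝟙 (Q.obj P)⟫ ≫ (ε A).app (DRing.homCx P Y, P) ≫ Q.map (TensHom.ev P Y) := by
    rw [hj]
    exact h1
  rw [h2, Category.assoc, h1', ← tm_comp_assoc, Category.comp_id, hij, tm_id, Category.id_comp]

end

section Nat

variable [HasRHom A] {P P' : Cx A} [P.IsKProjective] [P'.IsKProjective]

/-- naturality of `θ` in the K-projective complex -/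
lemma θ_naturality (a : P ⟶ P') (Y : Cx A) :
    Q.map (homCxPre a Y) ≫ (θ P Y).hom = (θ P' Y).hom ≫ RHomMap (Q.map a) (Q.obj Y) := by
  apply ((rhomAdj A (Q.obj P)).homEquiv _ _).symm.injective
  rw [Adjunction.homEquiv_counit, Adjunction.homEquiv_counit]
  change ⟪Q.map (homCxPre a Y) ≫ (θ P Y).hom, 𝟙 (Q.obj P)⟫ ≫ DTen.ev (Q.obj P) (Q.obj Y) =
    ⟪(θ P' Y).hom ≫ RHomMap (Q.map a) (Q.obj Y), 𝟙 (Q.obj P)⟫ ≫ DTen.ev (Q.obj P) (Q.obj Y)
  have e1 : ⟪Q.map (homCxPre a Y) ≫ (θ P Y).hom, 𝟙 (Q.obj P)⟫ =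
      ⟪Q.map (homCxPre a Y), 𝟙 (Q.obj P)⟫ ≫ ⟪(θ P Y).hom, 𝟙 (Q.obj P)⟫ := by
    rw [← tm_comp, Category.comp_id]
  have e2 : ⟪(θ P' Y).hom ≫ RHomMap (Q.map a) (Q.obj Y), 𝟙 (Q.obj P)⟫ =
      ⟪(θ P' Y).hom, 𝟙 (Q.obj P)⟫ ≫ ⟪RHomMap (Q.map a) (Q.obj Y), 𝟙 (Q.obj P)⟫ := by
    rw [← tm_comp, Category.comp_id]
  rw [e1, e2, Category.assoc, Category.assoc, θ_ev, RHom_map_ev]
  have n1 := (ε A).naturality (Prod.mkHom (homCxPre a Y) (𝟙 P))
  have n2 := (ε A).naturality (Prod.mkHom (𝟙 (DRing.homCx P' Y)) a)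
  dsimp at n1 n2
  rw [CategoryTheory.Functor.map_id] at n1 n2
  simp only [MonoidalCategory.whiskerLeft_id, Category.comp_id, MonoidalCategory.id_whiskerRight,
    Category.id_comp] at n1 n2
  rw [reassoc_of% n1, ← Q.map_comp, homCxPre_ev, Q.map_comp, ← reassoc_of% n2]
  rw [← tm_comp_assoc, Category.id_comp, Category.comp_id]
  have e3 : ⟪(θ P' Y).hom, Q.map a⟫ = ⟪𝟙 _, Q.map a⟫ ≫ ⟪(θ P' Y).hom, 𝟙 (Q.obj P')⟫ := by
    rw [← tm_comp, Category.id_comp, Category.comp_id]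
  rw [e3, Category.assoc, θ_ev]

end Nat

section Cone

/-- the mapping cone of a map between K-projective complexes is K-projective -/
instance isKProjective_mappingCone {P₁ P₂ : Cx A} [h₁ : P₁.IsKProjective] [h₂ : P₂.IsKProjective]
    (φ : P₁ ⟶ P₂) : (mappingCone φ).IsKProjective := by
  rw [isKProjective_iff_leftOrthogonal] at h₁ h₂ ⊢
  exact ObjectProperty.ext_of_isTriangulatedClosed₃ _ _
    (HomotopyCategory.mappingCone_triangleh_distinguished φ) h₁ h₂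

end Cone

section Standard

omit [HasLTen A] in
/-- every distinguished pair in `D(A)` is isomorphic to `(inr φ, δ)` for a map `φ` between
K-projective complexes -/
lemma exists_standard {X Y Z : Dual.D A} (f : X ⟶ Y) (g : Y ⟶ Z) (h : IsDistPair f g) :
    ∃ (P₁ P₂ : Cx A) (_ : P₁.IsKProjective) (_ : P₂.IsKProjective) (φ : P₁ ⟶ P₂)
      (e₁ : X ≅ Q.obj P₂) (e₂ : Y ≅ Q.obj (mappingCone φ)) (e₃ : Z ≅ Q.obj (P₁⟦(1 : ℤ)⟧)),
      f ≫ e₂.hom = e₁.hom ≫ Q.map (mappingCone.inr φ) ∧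
      g ≫ e₃.hom = e₂.hom ≫ Q.map (mappingCone.triangle φ).mor₃ := by
  obtain ⟨k, hk⟩ := h
  have hT' := inv_rot_of_distTriang _ hk
  obtain ⟨P₁, hP₁, -, ⟨a₁⟩⟩ := exists_kproj_iso (Z⟦(-1 : ℤ)⟧)
  obtain ⟨P₂, hP₂, -, ⟨a₂⟩⟩ := exists_kproj_iso X
  obtain ⟨m₁, hm₁⟩ : ∃ m₁ : Z⟦(-1 : ℤ)⟧ ⟶ X, m₁ = (Triangle.mk f g k).invRotate.mor₁ := ⟨_, rfl⟩
  obtain ⟨φ, hφ⟩ := Q_map_surjective P₁ P₂ (a₁.hom ≫ m₁ ≫ a₂.inv)
  have hTφ := mappingCone_triangle_distinguished φ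
  have comm : Q.map φ ≫ a₂.hom = a₁.hom ≫ m₁ := by
    rw [hφ, Category.assoc, Category.assoc, Iso.inv_hom_id, Category.comp_id]
  let e := isoTriangleOfIso₁₂ (Q.mapTriangle.obj (mappingCone.triangle φ))
    (Triangle.mk f g k).invRotate hTφ hT' a₁ a₂ (by rw [← hm₁]; exact comm)
  have c2 := e.hom.comm₂
  have c3 := e.hom.comm₃
  have e1 : e.hom.hom₁ = a₁.hom := isoTriangleOfIso₁₂_hom_hom₁ _ _ _ _ _ _ _
  have e2 : e.hom.hom₂ = a₂.hom := isoTriangleOfIso₁₂_hom_hom₂ _ _ _ _ _ _ _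
  rw [e2] at c2
  rw [e1] at c3
  let e₃' : Q.obj (mappingCone φ) ≅ Y := Triangle.π₃.mapIso e
  have he₃' : e₃'.hom = e.hom.hom₃ := rfl
  rw [← he₃'] at c2 c3
  obtain ⟨cs, hcs⟩ : ∃ cs : Q.obj (P₁⟦(1 : ℤ)⟧) ≅ (Q.obj P₁)⟦(1 : ℤ)⟧,
    cs = (Q.commShiftIso (1 : ℤ)).app P₁ := ⟨_, rfl⟩
  obtain ⟨cz, hcz⟩ : ∃ cz : Z ≅ (Z⟦(-1 : ℤ)⟧)⟦(1 : ℤ)⟧,
    cz = (shiftEquiv (Dual.D A) (1 : ℤ)).counitIso.symm.app Z := ⟨_, rfl⟩
  obtain ⟨δ, hδ⟩ : ∃ δ : mappingCone φ ⟶ P₁⟦(1 : ℤ)⟧, δ = (mappingCone.triangle φ).mor₃ :=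
    ⟨_, rfl⟩
  have c2' : Q.map (mappingCone.inr φ) ≫ e₃'.hom = a₂.hom ≫ f := c2
  have c3' : Q.map δ ≫ cs.hom ≫ a₁.hom⟦(1 : ℤ)⟧' = e₃'.hom ≫ g ≫ cz.hom := by
    rw [hδ, hcs, hcz, ← Category.assoc]
    exact c3
  refine ⟨P₁, P₂, hP₁, hP₂, φ, a₂.symm, e₃'.symm,
    cz ≪≫ ((CategoryTheory.shiftFunctor (Dual.D A) (1 : ℤ)).mapIso a₁.symm) ≪≫ cs.symm, ?_, ?_⟩
  · change f ≫ e₃'.inv = a₂.inv ≫ Q.map (mappingCone.inr φ)
    rw [Iso.comp_inv_eq, Category.assoc, c2', Iso.inv_hom_id_assoc]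
  · rw [← hδ]
    change g ≫ cz.hom ≫ a₁.inv⟦(1 : ℤ)⟧' ≫ cs.inv = e₃'.inv ≫ Q.map δ
    rw [Iso.eq_inv_comp, ← reassoc_of% c3', ← Functor.map_comp_assoc, Iso.hom_inv_id,
      CategoryTheory.Functor.map_id, Category.id_comp, Iso.hom_inv_id, Category.comp_id]

end Standard

section ClaimC

omit [HasLTen A] in
lemma isDistPair_homCxPre {P₁ P₂ : Cx A} (φ : P₁ ⟶ P₂) (Y : Cx A) :
    IsDistPair (Q.map (homCxPre (mappingCone.triangle φ).mor₃ Y))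
      (Q.map (homCxPre (mappingCone.inr φ) Y)) := by
  have hS := homCxPre_shortExact (mappingCone.triangleRotateShortComplex φ)
    (mappingCone.triangleRotateShortComplexSplitting φ) Y
  exact isDistPair_of_distTriang _ (triangleOfSES_distinguished hS)

variable [HasRHom A]

lemma isDistPair_RHomMap_Q {P₁ P₂ : Cx A} [P₁.IsKProjective] [P₂.IsKProjective] (φ : P₁ ⟶ P₂)
    (Y : Cx A) :
    IsDistPair (RHomMap (Q.map (mappingCone.triangle φ).mor₃) (Q.obj Y))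
      (RHomMap (Q.map (mappingCone.inr φ)) (Q.obj Y)) :=
  (isDistPair_homCxPre φ Y).of_iso (θ (P₁⟦(1 : ℤ)⟧) Y) (θ (mappingCone φ) Y) (θ P₂ Y)
    (θ_naturality (P := mappingCone φ) (P' := P₁⟦(1 : ℤ)⟧) (mappingCone.triangle φ).mor₃ Y)
    (θ_naturality (mappingCone.inr φ) Y)

/-- **`RHom(-, L)` sends distinguished triangles to distinguished triangles.** -/
theorem hdistOp_RHom (L : Dual.D A) : HDistOp ((RHom A).flip.obj L) := by
  apply hdistOp_of_standard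
  intro X Y Z f g hfg
  obtain ⟨P₁, P₂, hP₁, hP₂, φ, e₁, e₂, e₃, c₁, c₂⟩ := exists_standard f g hfg
  refine ⟨_, _, _, _, _, e₁, e₂, e₃, c₁, c₂, ?_⟩
  let Y' : Cx A := Q.objPreimage L
  let e : Q.obj Y' ≅ L := Q.objObjPreimageIso L
  refine (isDistPair_RHomMap_Q φ Y').of_iso ((RHomR A _).mapIso e) ((RHomR A _).mapIso e)
    ((RHomR A _).mapIso e) ?_ ?_
  · exact (((RHom A).map (Q.map (mappingCone.triangle φ).mor₃).op).naturality e.hom).symm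
  · exact (((RHom A).map (Q.map (mappingCone.inr φ)).op).naturality e.hom).symm

end ClaimC

end Groth.Agent.Lib.Helper10.TensHomD
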