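import Mathlib.Algebra.Homology.DerivedCategory.Fractions
import Mathlib.Algebra.Homology.Functor
import Mathlib.Algebra.Homology.HomologicalComplexLimits
import Mathlib.CategoryTheory.Abelian.GrothendieckAxioms.Basic
import Mathlib.Algebra.Homology.HomotopyCategory.HomComplex

/-!
# The localization functor to the derived category preserves exact products (helper17)
-/

set_option autoImplicit false

universe w w' v u

open CategoryTheory CategoryTheory.Limits HomologicalComplex DerivedCategory CochainComplex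
  HomComplex

namespace Groth.Agent.Lib.Helper17.QProd

section Fam

variable {C : Type u} [Category.{v} C] [Abelian C] {J : Type w'}

/-- the complex in the functor category attached to a family of complexes. -/
@[simps]
def famCx (X : J → CochainComplex C ℤ) : CochainComplex (Discrete J ⥤ C) ℤ where
  X n := Discrete.functor (fun j => (X j).X n)
  d n m := Discrete.natTrans (fun j => (X j.as).d n m)
  shape n m h := by
    ext ⟨j⟩
    exact (X j).shape n m h
  d_comp_d' n m k _ _ := by
    ext ⟨j⟩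
    exact (X j).d_comp_d n m k

/-- the morphism in the functor category attached to a family of morphisms. -/
@[simps]
def famCxMap {X X' : J → CochainComplex C ℤ} (s : ∀ j, X j ⟶ X' j) : famCx X ⟶ famCx X' where
  f n := Discrete.natTrans (fun j => (s j.as).f n)
  comm' n m _ := by
    ext ⟨j⟩
    exact (s j).comm n m

lemma quasiIso_famCxMap {X X' : J → CochainComplex C ℤ} (s : ∀ j, X j ⟶ X' j)
    (hs : ∀ j, QuasiIso (s j)) : QuasiIso (famCxMap s) := by
  rw [HomologicalComplex.quasiIso_iff_evaluation]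
  rintro ⟨j⟩
  exact hs j

end Fam

section Prod

variable {C : Type u} [Category.{v} C] [Abelian C] {J : Type w'}
  [HasLimitsOfShape (Discrete J) C] [HasExactLimitsOfShape (Discrete J) C]

omit [HasExactLimitsOfShape (Discrete J) C] in
instance : (lim : (Discrete J ⥤ C) ⥤ C).Additive :=
  Functor.additive_of_preserves_binary_products _

omit [HasExactLimitsOfShape (Discrete J) C] in
instance : PreservesFiniteLimits (lim : (Discrete J ⥤ C) ⥤ C) := by
  haveI : PreservesLimitsOfSize.{0, 0} (lim : (Discrete J ⥤ C) ⥤ C) :=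
    constLimAdj.rightAdjoint_preservesLimits
  infer_instance

/-- the product complex. -/
noncomputable def prodCx (X : J → CochainComplex C ℤ) : CochainComplex C ℤ :=
  ((lim : (Discrete J ⥤ C) ⥤ C).mapHomologicalComplex (ComplexShape.up ℤ)).obj (famCx X)

/-- the projections from the product complex. -/
noncomputable def prodCxπ (X : J → CochainComplex C ℤ) (j : J) : prodCx X ⟶ X j where
  f n := limit.π (Discrete.functor (fun j => (X j).X n)) ⟨j⟩
  comm' n m _ := by
    dsimp [prodCx]
    erw [limMap_π]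
    rfl

/-- the map between product complexes. -/
noncomputable def prodCxMap {X X' : J → CochainComplex C ℤ} (s : ∀ j, X j ⟶ X' j) :
    prodCx X ⟶ prodCx X' :=
  ((lim : (Discrete J ⥤ C) ⥤ C).mapHomologicalComplex (ComplexShape.up ℤ)).map (famCxMap s)

omit [HasExactLimitsOfShape (Discrete J) C] in
@[reassoc (attr := simp)]
lemma prodCxMap_π {X X' : J → CochainComplex C ℤ} (s : ∀ j, X j ⟶ X' j) (j : J) :
    prodCxMap s ≫ prodCxπ X' j = prodCxπ X j ≫ s j := by
  ext n
  dsimp [prodCxMap, prodCxπ]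
  erw [limMap_π]
  rfl

instance quasiIso_prodCxMap {X X' : J → CochainComplex C ℤ} (s : ∀ j, X j ⟶ X' j)
    [hs : ∀ j, QuasiIso (s j)] : QuasiIso (prodCxMap s) := by
  haveI := quasiIso_famCxMap s hs
  exact HomologicalComplex.quasiIso_map_of_preservesHomology _ _

/-- the cone in degree `n` attached to a fan. -/
def prodCone {X : J → CochainComplex C ℤ} (t : Fan X) (n : ℤ) : Cone ((famCx X).X n) :=
  Fan.mk (t.pt.X n) (fun j => (t.proj j).f n)

/-- the product complex is a product. -/
noncomputable def isLimitProdCx (X : J → CochainComplex C ℤ) :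
    IsLimit (Fan.mk (prodCx X) (prodCxπ X)) :=
  mkFanLimit _
    (fun t =>
      { f := fun n => limit.lift ((famCx X).X n) (prodCone t n)
        comm' := fun n m _ => by
          apply limit.hom_ext
          rintro ⟨j⟩
          have h1 : (lim.map ((famCx X).d n m)) ≫ limit.π ((famCx X).X m) ⟨j⟩ =
              limit.π ((famCx X).X n) ⟨j⟩ ≫ (X j).d n m := limMap_π _ _
          have h2 : limit.lift ((famCx X).X m) (prodCone t m) ≫ limit.π ((famCx X).X m) ⟨j⟩ =
              (t.proj j).f m := limit.lift_π _ _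
          have h3 : limit.lift ((famCx X).X n) (prodCone t n) ≫ limit.π ((famCx X).X n) ⟨j⟩ =
              (t.proj j).f n := limit.lift_π _ _
          exact (Category.assoc _ _ _).trans ((congrArg (_ ≫ ·) h1).trans
            ((Category.assoc _ _ _).symm.trans ((congrArg (· ≫ _) h3).trans
            (((t.proj j).comm n m).trans ((congrArg (_ ≫ ·) h2.symm).trans
            (Category.assoc _ _ _).symm))))) })
    (fun t j => by
      ext n
      exact limit.lift_π (prodCone t n) ⟨j⟩)
    (fun t m hm => by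
      ext n
      apply limit.hom_ext
      rintro ⟨j⟩
      have h3 : limit.lift ((famCx X).X n) (prodCone t n) ≫ limit.π ((famCx X).X n) ⟨j⟩ =
          (t.proj j).f n := limit.lift_π _ _
      exact (HomologicalComplex.congr_hom (hm j) n).trans h3.symm)

omit [HasExactLimitsOfShape (Discrete J) C] in
lemma homotopy_zero_of_prodCxπ (X : J → CochainComplex C ℤ) {K : CochainComplex C ℤ}
    (f : K ⟶ prodCx X) (h : ∀ j, Nonempty (Homotopy (f ≫ prodCxπ X j) 0)) :
    Nonempty (Homotopy f 0) := by
  classical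
  have key : ∀ j, ∃ hj : Cochain K (X j) (-1),
      δ (-1) 0 hj = Cochain.ofHom (f ≫ prodCxπ X j) := by
    intro j
    obtain ⟨H0⟩ := h j
    obtain ⟨h0, hh0⟩ := Cochain.equivHomotopy _ _ H0
    simp only [Int.reduceNeg, Cochain.ofHom_zero, add_zero] at hh0
    exact ⟨h0, hh0.symm⟩
  choose ht hht using key
  let cn : ∀ (p q : ℤ) (_ : p + (-1) = q), Cone ((famCx X).X q) := fun p q hpq =>
    Fan.mk (K.X p) (fun j => (ht j).v p q hpq)
  let hh : Cochain K (prodCx X) (-1) := Cochain.mk (fun p q hpq =>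
    limit.lift ((famCx X).X q) (cn p q hpq))
  have hfac : ∀ j, hh.comp (Cochain.ofHom (prodCxπ X j)) (add_zero _) = ht j := by
    intro j
    ext p q hpq
    rw [Cochain.comp_zero_cochain_v, Cochain.ofHom_v, Cochain.mk_v]
    exact limit.lift_π (cn p q hpq) ⟨j⟩
  refine ⟨(Cochain.equivHomotopy f 0).symm ⟨hh, ?_⟩⟩
  rw [Cochain.ofHom_zero, add_zero]
  ext p
  apply limit.hom_ext
  rintro ⟨j⟩
  have e1 := Cochain.congr_v (congrArg (δ (-1) 0) (hfac j)) p p (add_zero p)
  rw [δ_comp_ofHom, hht j, Cochain.comp_zero_cochain_v, Cochain.ofHom_v, Cochain.ofHom_v] at e1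
  simp only [Cochain.ofHom_v]
  exact e1.symm

end Prod

section QProd

variable {C : Type u} [Category.{v} C] [Abelian C] [HasDerivedCategory.{w} C] {J : Type w'}
  [HasLimitsOfShape (Discrete J) C] [HasExactLimitsOfShape (Discrete J) C]

omit [HasLimitsOfShape (Discrete J) C] [HasExactLimitsOfShape (Discrete J) C] in
lemma exists_quasiIso_comp_homotopy_zero {K L : CochainComplex C ℤ} (f : K ⟶ L)
    (hf : (Q : _ ⥤ DerivedCategory C).map f = 0) :
    ∃ (L' : CochainComplex C ℤ) (t : L ⟶ L'), QuasiIso t ∧ Nonempty (Homotopy (f ≫ t) 0) := by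
  have h1 : Qh.map ((HomotopyCategory.quotient _ _).map f) =
      Qh.map ((HomotopyCategory.quotient _ _).map (0 : K ⟶ L)) := by
    rw [← cancel_mono ((quotientCompQhIso C).hom.app L), quotientCompQhIso_hom_naturality,
      quotientCompQhIso_hom_naturality, hf, Functor.map_zero]
  obtain ⟨Z, s, hs, eq⟩ := (MorphismProperty.map_eq_iff_postcomp Qh
    (HomotopyCategory.quasiIso C (ComplexShape.up ℤ)) _ _).1 h1
  obtain ⟨L', rfl⟩ := HomotopyCategory.quotient_obj_surjective Z
  obtain ⟨t, rfl⟩ := (HomotopyCategory.quotient _ _).map_surjective s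
  rw [HomotopyCategory.quotient_map_mem_quasiIso_iff] at hs
  refine ⟨L', t, (HomologicalComplex.mem_quasiIso_iff t).1 hs,
    ⟨HomotopyCategory.homotopyOfEq _ _ ?_⟩⟩
  rw [Functor.map_comp, eq, Functor.map_zero, Functor.map_zero, zero_comp]

lemma Q_prodCx_hom_ext (X : J → CochainComplex C ℤ) {W : DerivedCategory C}
    (m : W ⟶ Q.obj (prodCx X)) (hm : ∀ j, m ≫ Q.map (prodCxπ X j) = 0) : m = 0 := by
  obtain ⟨L, ⟨e⟩⟩ : ∃ L : CochainComplex C ℤ, Nonempty (Q.obj L ≅ W) :=
    ⟨_, ⟨Q.objObjPreimageIso W⟩⟩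
  suffices e.hom ≫ m = 0 by rw [← cancel_epi e.hom, this, comp_zero]
  obtain ⟨L', s, hs, g, hg⟩ := right_fac (e.hom ≫ m)
  have hg' : Q.map g = Q.map s ≫ e.hom ≫ m := by rw [hg, IsIso.hom_inv_id_assoc]
  have h0 : ∀ j, Q.map (g ≫ prodCxπ X j) = 0 := fun j => by
    rw [Functor.map_comp, hg', Category.assoc, Category.assoc, hm j, comp_zero, comp_zero]
  choose Y t ht hH using fun j => exists_quasiIso_comp_homotopy_zero _ (h0 j)
  haveI := ht
  obtain ⟨H⟩ : Nonempty (Homotopy (g ≫ prodCxMap t) 0) :=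
    homotopy_zero_of_prodCxπ Y _ (fun j => by
      obtain ⟨H⟩ := hH j
      exact ⟨(Homotopy.ofEq (by rw [Category.assoc, prodCxMap_π, Category.assoc])).trans H⟩)
  have h1 : Q.map g ≫ Q.map (prodCxMap t) = 0 := by
    rw [← Functor.map_comp, DerivedCategory.Q_map_eq_of_homotopy C H, Functor.map_zero]
  have h2 : Q.map g = 0 := by rw [← cancel_mono (Q.map (prodCxMap t)), h1, zero_comp]
  rw [hg, h2, comp_zero]

lemma Q_prodCx_exists_lift (X : J → CochainComplex C ℤ) {W : DerivedCategory C}
    (p : ∀ j, W ⟶ Q.obj (X j)) :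
    ∃ l : W ⟶ Q.obj (prodCx X), ∀ j, l ≫ Q.map (prodCxπ X j) = p j := by
  obtain ⟨L, ⟨e⟩⟩ : ∃ L : CochainComplex C ℤ, Nonempty (Q.obj L ≅ W) :=
    ⟨_, ⟨Q.objObjPreimageIso W⟩⟩
  choose Y g t ht hfac using fun j => left_fac (e.hom ≫ p j)
  haveI : ∀ j, QuasiIso (t j) := fun j => (isIso_Q_map_iff_quasiIso (C := C) (t j)).1 (ht j)
  obtain ⟨G, hG⟩ : ∃ G : L ⟶ prodCx Y, ∀ j, G ≫ prodCxπ Y j = g j :=
    ⟨(isLimitProdCx Y).lift (Fan.mk L g), fun j => (isLimitProdCx Y).fac (Fan.mk L g) ⟨j⟩⟩
  refine ⟨e.inv ≫ Q.map G ≫ inv (Q.map (prodCxMap t)), fun j => ?_⟩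
  have h1 : inv (Q.map (prodCxMap t)) ≫ Q.map (prodCxπ X j) =
      Q.map (prodCxπ Y j) ≫ inv (Q.map (t j)) := by
    rw [IsIso.inv_comp_eq, ← Category.assoc, IsIso.eq_comp_inv, ← Functor.map_comp,
      ← Functor.map_comp, prodCxMap_π]
  rw [Category.assoc, Category.assoc, h1, ← Category.assoc (Q.map G), ← Functor.map_comp, hG,
    ← hfac j, Iso.inv_hom_id_assoc]

/-- `Q` sends the product complex to a product. -/
noncomputable def isLimitQProdCx (X : J → CochainComplex C ℤ) :
    IsLimit (Fan.mk ((Q : _ ⥤ DerivedCategory C).obj (prodCx X))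
      (fun j => Q.map (prodCxπ X j))) :=
  mkFanLimit _ (fun s => (Q_prodCx_exists_lift X s.proj).choose)
    (fun s j => (Q_prodCx_exists_lift X s.proj).choose_spec j)
    (fun s m hm => by
      rw [← sub_eq_zero]
      apply Q_prodCx_hom_ext X
      intro j
      rw [Preadditive.sub_comp, sub_eq_zero]
      exact (hm j).trans ((Q_prodCx_exists_lift X s.proj).choose_spec j).symm)

/-- `Q` sends any product fan to a product fan. -/
noncomputable def isLimitQMapFan {X : J → CochainComplex C ℤ} (c : Fan X) (hc : IsLimit c) :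
    IsLimit (Fan.mk ((Q : _ ⥤ DerivedCategory C).obj c.pt) (fun j => Q.map (c.proj j))) :=
  IsLimit.ofIsoLimit (isLimitQProdCx X)
    (Fan.ext (Q.mapIso (hc.conePointUniqueUpToIso (isLimitProdCx X))) (fun j => by
      dsimp
      rw [← Functor.map_comp]
      congr 1
      exact (IsLimit.conePointUniqueUpToIso_hom_comp hc (isLimitProdCx X) ⟨j⟩).symm)).symm

end QProd

end Groth.Agent.Lib.Helper17.QProd
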