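import Groth.Agent.Lib.Helper17KInjD4
import Groth.Agent.Lib.Helper17KInjD1
import Groth.Agent.Lib.Helper17QProd1
import Mathlib.Algebra.Homology.HomotopyCategory.MappingCocone
import Mathlib.CategoryTheory.Triangulated.Orthogonal

/-!
# Right derived functors on K-injective complexes and derived limits (helper17)
-/

set_option autoImplicit false

universe w w₁ w₂ w' v v' u u'

open CategoryTheory CategoryTheory.Limits HomologicalComplex MorphismProperty DerivedCategory
  CochainComplex Pretriangulated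

namespace Groth.Agent.Lib.Helper17.KInj

open QProd

section KInjGeneral

variable {C : Type u} [Category.{v} C] [Abelian C]

lemma isKInjective_mappingCone {K L : CochainComplex C ℤ} [K.IsKInjective] [L.IsKInjective]
    (φ : K ⟶ L) : (mappingCone φ).IsKInjective := by
  rw [isKInjective_iff_rightOrthogonal]
  exact (HomotopyCategory.subcategoryAcyclic C).rightOrthogonal.ext_of_isTriangulatedClosed₃ _
    (HomotopyCategory.mappingCone_triangleh_distinguished φ)
    (IsKInjective.rightOrthogonal K) (IsKInjective.rightOrthogonal L)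

instance isKInjective_mappingCocone {K L : CochainComplex C ℤ} [K.IsKInjective]
    [L.IsKInjective] (φ : K ⟶ L) : (mappingCocone φ).IsKInjective := by
  haveI := isKInjective_mappingCone φ
  dsimp only [mappingCocone]
  infer_instance

variable {J : Type w'} [HasLimitsOfShape (Discrete J) C]

instance isKInjective_prodCx (X : J → CochainComplex C ℤ) [∀ j, (X j).IsKInjective] :
    (prodCx X).IsKInjective :=
  ⟨fun {_} f hK => homotopy_zero_of_prodCxπ X f
    (fun _ => IsKInjective.nonempty_homotopy_zero _ hK)⟩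

variable [HasDerivedCategory.{w} C]

lemma homotopyEquiv_of_quasiIso {K L : CochainComplex C ℤ} [K.IsKInjective] [L.IsKInjective]
    (f : K ⟶ L) [QuasiIso f] : ∃ e : HomotopyEquiv K L, e.hom = f := by
  obtain ⟨r, hr⟩ := exists_Q_map_eq (inv ((Q : _ ⥤ DerivedCategory C).map f))
  obtain ⟨H1⟩ := homotopy_of_Q_map_eq (C := C) (g := f ≫ r) (g' := 𝟙 K) (by
    rw [Functor.map_comp, hr, IsIso.hom_inv_id, CategoryTheory.Functor.map_id])
  obtain ⟨H2⟩ := homotopy_of_Q_map_eq (C := C) (g := r ≫ f) (g' := 𝟙 L) (by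
    rw [Functor.map_comp, hr, IsIso.inv_hom_id, CategoryTheory.Functor.map_id])
  exact ⟨⟨f, r, H1, H2⟩, rfl⟩

/-- `Q` sends a product of K-injective complexes to a product. -/
noncomputable def isLimitQProdCxOfIsKInjective (X : J → CochainComplex C ℤ)
    [∀ j, (X j).IsKInjective] :
    IsLimit (Fan.mk ((Q : _ ⥤ DerivedCategory C).obj (prodCx X))
      (fun j => Q.map (prodCxπ X j))) := by
  have hext : ∀ {W : DerivedCategory C} (m : W ⟶ Q.obj (prodCx X)),
      (∀ j, m ≫ Q.map (prodCxπ X j) = 0) → m = 0 := by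
    intro W m hm
    obtain ⟨L, ⟨e⟩⟩ : ∃ L : CochainComplex C ℤ, Nonempty (Q.obj L ≅ W) :=
      ⟨_, ⟨Q.objObjPreimageIso W⟩⟩
    suffices e.hom ≫ m = 0 by rw [← cancel_epi e.hom, this, comp_zero]
    obtain ⟨g, hg⟩ := exists_Q_map_eq (e.hom ≫ m)
    obtain ⟨H⟩ := homotopy_zero_of_prodCxπ X g (fun j => by
      apply homotopy_of_Q_map_eq (C := C)
      rw [Functor.map_comp, hg, Category.assoc, hm j, comp_zero, Functor.map_zero])
    rw [← hg, DerivedCategory.Q_map_eq_of_homotopy C H, Functor.map_zero]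
  have hlift : ∀ {W : DerivedCategory C} (p : ∀ j, W ⟶ Q.obj (X j)),
      ∃ l : W ⟶ Q.obj (prodCx X), ∀ j, l ≫ Q.map (prodCxπ X j) = p j := by
    intro W p
    obtain ⟨L, ⟨e⟩⟩ : ∃ L : CochainComplex C ℤ, Nonempty (Q.obj L ≅ W) :=
      ⟨_, ⟨Q.objObjPreimageIso W⟩⟩
    choose g hg using fun j => exists_Q_map_eq (e.hom ≫ p j)
    refine ⟨e.inv ≫ Q.map ((isLimitProdCx X).lift (Fan.mk L g)), fun j => ?_⟩
    rw [Category.assoc, ← Functor.map_comp]
    have : (isLimitProdCx X).lift (Fan.mk L g) ≫ prodCxπ X j = g j :=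
      (isLimitProdCx X).fac (Fan.mk L g) ⟨j⟩
    rw [this, hg, Iso.inv_hom_id_assoc]
  exact mkFanLimit _ (fun s => (hlift s.proj).choose)
    (fun s j => (hlift s.proj).choose_spec j)
    (fun s m hm => by
      rw [← sub_eq_zero]
      apply hext
      intro j
      rw [Preadditive.sub_comp, sub_eq_zero]
      exact (hm j).trans ((hlift s.proj).choose_spec j).symm)

end KInjGeneral

section Unit

variable {A : Type u} [Category.{v} A] [Abelian A] {B : Type u'} [Category.{v'} B] [Abelian B]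
  [IsGrothendieckAbelian.{w} B] [HasDerivedCategory.{w₁} A] [HasDerivedCategory.{w₂} B]
  (G : B ⥤ A) [G.Additive]
  (RG : DerivedCategory B ⥤ DerivedCategory A)
  (β : G.mapHomologicalComplex (ComplexShape.up ℤ) ⋙ DerivedCategory.Q ⟶
    DerivedCategory.Q ⋙ RG)
  [RG.IsRightDerivedFunctor β (HomologicalComplex.quasiIso B (ComplexShape.up ℤ))]

lemma isIso_app_of_fibrant' (I : CochainComplex B ℤ) (hI : fibrant B I) : IsIso (β.app I) :=
  (fibLocalizerMorphism_derives _
    (isInvertedBy_mapHomologicalComplex_comp_Q G)).isIso_of_isRightDerivedFunctor β ⟨I, hI⟩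

lemma isIso_app_of_isKInjective (I : CochainComplex B ℤ) [I.IsKInjective] : IsIso (β.app I) := by
  have hι := trivCof_fibReplι₀ B I
  haveI := hι.2
  haveI := (fibrant_fibRepl₀ B I).isKInjective
  obtain ⟨ι, hι'⟩ : ∃ ι : I ⟶ (fibRepl₀ B).obj I, ι = (fibReplι₀ B).app I := ⟨_, rfl⟩
  haveI : QuasiIso ι := by rw [hι']; infer_instance
  obtain ⟨e, he⟩ := homotopyEquiv_of_quasiIso ι
  rw [hι'] at he
  haveI := isIso_app_of_fibrant' G RG β _ (fibrant_fibRepl₀ B I)
  have nat := β.naturality ((fibReplι₀ B).app I)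
  haveI : IsIso ((G.mapHomologicalComplex (ComplexShape.up ℤ) ⋙ DerivedCategory.Q).map
      ((fibReplι₀ B).app I)) :=
    isInvertedBy_mapHomologicalComplex_comp_Q G _ ⟨e, he⟩
  haveI : IsIso ((DerivedCategory.Q ⋙ RG).map ((fibReplι₀ B).app I)) := by
    dsimp
    infer_instance
  have h2 : β.app I = (G.mapHomologicalComplex (ComplexShape.up ℤ) ⋙ DerivedCategory.Q).map
      ((fibReplι₀ B).app I) ≫ β.app ((fibRepl₀ B).obj I) ≫
      inv ((DerivedCategory.Q ⋙ RG).map ((fibReplι₀ B).app I)) := by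
    rw [← Category.assoc, IsIso.eq_comp_inv]
    exact nat.symm
  rw [h2]
  infer_instance

end Unit

section Rlim

variable {A : Type u} [Category.{v} A] [Abelian A] [IsGrothendieckAbelian.{w} A]
  [HasDerivedCategory.{w₁} A]
  {B : Type u'} [Category.{v'} B] [Abelian B] [HasDerivedCategory.{w₂} B]
  [HasLimitsOfShape (Discrete ℕ) B] [HasExactLimitsOfShape (Discrete ℕ) B]
  (F : A ⥤ B) [F.Additive] [PreservesLimitsOfShape (Discrete ℕ) F]
  (RF : DerivedCategory A ⥤ DerivedCategory B)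
  (β : F.mapHomologicalComplex (ComplexShape.up ℤ) ⋙ DerivedCategory.Q ⟶
    DerivedCategory.Q ⋙ RF)
  [RF.IsRightDerivedFunctor β (HomologicalComplex.quasiIso A (ComplexShape.up ℤ))]

omit [IsGrothendieckAbelian.{w} A] [HasDerivedCategory.{w₁} A] [HasDerivedCategory.{w₂} B]
  [HasLimitsOfShape (Discrete ℕ) B] [HasExactLimitsOfShape (Discrete ℕ) B] in
lemma preservesLimitsOfShape_mapHomologicalComplex [HasLimitsOfShape (Discrete ℕ) A] :
    PreservesLimitsOfShape (Discrete ℕ) (F.mapHomologicalComplex (ComplexShape.up ℤ)) :=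
  HomologicalComplex.preservesLimitsOfShape_of_eval _ (fun i =>
    preservesLimitsOfShape_of_natIso (F := HomologicalComplex.eval A (ComplexShape.up ℤ) i ⋙ F)
      (NatIso.ofComponents (fun _ => Iso.refl _) (by
        intro X Y f
        exact (Category.comp_id _).trans (Category.id_comp _).symm)))

include F β in
theorem exists_rlim_triangle (K : ℕ → DerivedCategory A) (t : ∀ n, K (n + 1) ⟶ K n)
    (L : DerivedCategory A) [HasProduct K] [HasProduct fun n => RF.obj (K n)]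
    (a : L ⟶ ∏ᶜ K) (c : ∏ᶜ K ⟶ L⟦(1 : ℤ)⟧)
    (h : Triangle.mk a (Pi.lift fun n => Pi.π K n - Pi.π K (n + 1) ≫ t n) c ∈
      distTriang (DerivedCategory A)) :
    ∃ (a' : RF.obj L ⟶ ∏ᶜ fun n => RF.obj (K n))
      (c' : (∏ᶜ fun n => RF.obj (K n)) ⟶ (RF.obj L)⟦(1 : ℤ)⟧),
      Triangle.mk a' (Pi.lift fun n => Pi.π (fun n => RF.obj (K n)) n -
        Pi.π (fun n => RF.obj (K n)) (n + 1) ≫ RF.map (t n)) c' ∈
        distTriang (DerivedCategory B) := by
  classical
  haveI : HasLimitsOfSize.{0, 0} A := hasLimitsOfSizeShrink.{0, 0, w, w} A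
  haveI : HasLimitsOfShape (Discrete ℕ) A := inferInstance
  haveI := preservesLimitsOfShape_mapHomologicalComplex F
  -- Step 1: K-injective representatives
  have hres : ∀ n, ∃ (I : CochainComplex A ℤ), I.IsKInjective ∧
      Nonempty ((Q : _ ⥤ DerivedCategory A).obj I ≅ K n) := fun n => by
    obtain ⟨I, f, hI, hf, -, -⟩ := exists_kInjective_resolution.{w} A
      ((Q : _ ⥤ DerivedCategory A).objPreimage (K n))
    haveI := hf
    exact ⟨I, hI, ⟨(asIso (Q.map f)).symm ≪≫ Q.objObjPreimageIso (K n)⟩⟩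
  choose I hI e₀ using hres
  haveI := hI
  obtain ⟨e, -⟩ : ∃ e' : ∀ n, (Q : _ ⥤ DerivedCategory A).obj (I n) ≅ K n, True :=
    ⟨fun n => (e₀ n).some, trivial⟩
  -- Step 2: transition maps
  choose τ hτ using fun n => exists_Q_map_eq ((e (n + 1)).hom ≫ t n ≫ (e n).inv)
  -- Step 3: the map `1 - shift`
  obtain ⟨φ, hφ⟩ : ∃ φ : prodCx I ⟶ prodCx I,
      ∀ n, φ ≫ prodCxπ I n = prodCxπ I n - prodCxπ I (n + 1) ≫ τ n :=
    ⟨(isLimitProdCx I).lift (Fan.mk _ (fun n => prodCxπ I n - prodCxπ I (n + 1) ≫ τ n)),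
      fun n => (isLimitProdCx I).fac _ ⟨n⟩⟩
  -- Step 4: the product in `D(A)`
  obtain ⟨eP, heP⟩ : ∃ eP : (Q : _ ⥤ DerivedCategory A).obj (prodCx I) ≅ ∏ᶜ K,
      ∀ n, eP.hom ≫ Pi.π K n = Q.map (prodCxπ I n) ≫ (e n).hom :=
    ⟨IsLimit.conePointsIsoOfNatIso (isLimitQProdCxOfIsKInjective I) (productIsProduct K)
      (Discrete.natIso (fun ⟨n⟩ => e n)), fun n =>
      IsLimit.conePointsIsoOfNatIso_hom_comp (isLimitQProdCxOfIsKInjective I)
        (productIsProduct K) (Discrete.natIso (fun ⟨n⟩ => e n)) ⟨n⟩⟩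
  have hψ : (Q : _ ⥤ DerivedCategory A).map φ ≫ eP.hom =
      eP.hom ≫ Pi.lift (fun n => Pi.π K n - Pi.π K (n + 1) ≫ t n) := by
    apply Pi.hom_ext
    intro n
    rw [Category.assoc, Category.assoc, Pi.lift_π, heP, ← Functor.map_comp_assoc, hφ,
      Functor.map_sub, Functor.map_comp, Preadditive.sub_comp, Preadditive.comp_sub, heP,
      reassoc_of% (heP (n + 1)), Category.assoc, hτ]
    simp
  -- Step 5: `L` is the mapping cocone
  have hT₂ := DerivedCategory.mappingCocone_triangle_distinguished (C := A) φ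
  obtain ⟨e', -, -⟩ := exists_iso_of_arrow_iso _ _ (rot_of_distTriang _ h)
    (rot_of_distTriang _ hT₂) (Arrow.isoMk eP.symm eP.symm (by
      dsimp
      rw [Iso.inv_comp_eq, ← Category.assoc, Iso.eq_comp_inv]
      exact hψ))
  obtain ⟨eL⟩ : Nonempty (L ≅ (Q : _ ⥤ DerivedCategory A).obj (mappingCocone φ)) :=
    ⟨(CategoryTheory.shiftFunctor (DerivedCategory A) (1 : ℤ)).preimageIso (Triangle.π₃.mapIso e')⟩
  -- Step 6: the product in `D(B)`
  have hQFP := isLimitQMapFan (C := B) _ (isLimitFanMkObjOfIsLimit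
    (F.mapHomologicalComplex (ComplexShape.up ℤ)) I (prodCxπ I) (isLimitProdCx I))
  haveI : ∀ n, IsIso (β.app (I n)) := fun n => isIso_app_of_isKInjective F RF β (I n)
  obtain ⟨eP', heP'⟩ : ∃ eP' : (Q : _ ⥤ DerivedCategory B).obj
      ((F.mapHomologicalComplex (ComplexShape.up ℤ)).obj (prodCx I)) ≅
        ∏ᶜ (fun n => RF.obj (K n)),
      ∀ n, eP'.hom ≫ Pi.π (fun n => RF.obj (K n)) n =
        Q.map ((F.mapHomologicalComplex (ComplexShape.up ℤ)).map (prodCxπ I n)) ≫
          β.app (I n) ≫ RF.map (e n).hom :=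
    ⟨IsLimit.conePointsIsoOfNatIso hQFP (productIsProduct (fun n => RF.obj (K n)))
      (Discrete.natIso (fun ⟨n⟩ => asIso (β.app (I n)) ≪≫ RF.mapIso (e n))), fun n =>
      (IsLimit.conePointsIsoOfNatIso_hom_comp hQFP (productIsProduct (fun n => RF.obj (K n)))
        (Discrete.natIso (fun ⟨n⟩ => asIso (β.app (I n)) ≪≫ RF.mapIso (e n))) ⟨n⟩).trans
        (by rfl)⟩
  have hψ' : (Q : _ ⥤ DerivedCategory B).map
      ((F.mapHomologicalComplex (ComplexShape.up ℤ)).map φ) ≫ eP'.hom =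
      eP'.hom ≫ Pi.lift (fun n => Pi.π (fun n => RF.obj (K n)) n -
        Pi.π (fun n => RF.obj (K n)) (n + 1) ≫ RF.map (t n)) := by
    apply Pi.hom_ext
    intro n
    have nat : Q.map ((F.mapHomologicalComplex (ComplexShape.up ℤ)).map (τ n)) ≫ β.app (I n) =
        β.app (I (n + 1)) ≫ RF.map (Q.map (τ n)) := β.naturality (τ n)
    rw [Category.assoc, Category.assoc, Pi.lift_π, heP', ← Functor.map_comp_assoc,
      ← Functor.map_comp, hφ, Functor.map_sub, Functor.map_sub, Functor.map_comp,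
      Functor.map_comp, Preadditive.sub_comp, Preadditive.comp_sub, heP',
      reassoc_of% (heP' (n + 1)), Category.assoc, reassoc_of% nat, hτ, ← Functor.map_comp,
      ← Functor.map_comp]
    simp
  -- Step 7: the distinguished triangle in `D(B)`
  have hT₃ := DerivedCategory.mappingCocone_triangle_distinguished (C := B)
    ((F.mapHomologicalComplex (ComplexShape.up ℤ)).map φ)
  haveI : IsIso (β.app (mappingCocone φ)) := isIso_app_of_isKInjective F RF β _
  obtain ⟨κ⟩ : Nonempty ((F.mapHomologicalComplex (ComplexShape.up ℤ)).obj (mappingCocone φ) ≅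
      mappingCocone ((F.mapHomologicalComplex (ComplexShape.up ℤ)).map φ)) :=
    ⟨((F.mapHomologicalComplex (ComplexShape.up ℤ)).commShiftIso (-1 : ℤ)).app (mappingCone φ) ≪≫
      (CategoryTheory.shiftFunctor (CochainComplex B ℤ) (-1 : ℤ)).mapIso
        (mappingCone.mapHomologicalComplexIso φ F)⟩
  obtain ⟨θ⟩ : Nonempty (RF.obj L ≅ (Q : _ ⥤ DerivedCategory B).obj
      (mappingCocone ((F.mapHomologicalComplex (ComplexShape.up ℤ)).map φ))) :=
    ⟨RF.mapIso eL ≪≫ (asIso (β.app (mappingCocone φ))).symm ≪≫ Q.mapIso κ⟩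
  obtain ⟨m₁, m₃, hT₃'⟩ : ∃ (m₁ : (Q : _ ⥤ DerivedCategory B).obj
      (mappingCocone ((F.mapHomologicalComplex (ComplexShape.up ℤ)).map φ)) ⟶
        Q.obj ((F.mapHomologicalComplex (ComplexShape.up ℤ)).obj (prodCx I)))
      (m₃ : (Q : _ ⥤ DerivedCategory B).obj
        ((F.mapHomologicalComplex (ComplexShape.up ℤ)).obj (prodCx I)) ⟶
        ((Q : _ ⥤ DerivedCategory B).obj
          (mappingCocone ((F.mapHomologicalComplex (ComplexShape.up ℤ)).map φ)))⟦(1 : ℤ)⟧),
      Triangle.mk m₁ (Q.map ((F.mapHomologicalComplex (ComplexShape.up ℤ)).map φ)) m₃ ∈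
        distTriang (DerivedCategory B) := ⟨_, _, hT₃⟩
  have hh : Pi.lift (fun n => Pi.π (fun n => RF.obj (K n)) n -
        Pi.π (fun n => RF.obj (K n)) (n + 1) ≫ RF.map (t n)) ≫ eP'.inv =
      eP'.inv ≫ Q.map ((F.mapHomologicalComplex (ComplexShape.up ℤ)).map φ) := by
    rw [Iso.comp_inv_eq, Category.assoc, Iso.eq_inv_comp]
    exact hψ'.symm
  refine ⟨θ.hom ≫ m₁ ≫ eP'.hom, eP'.inv ≫ m₃ ≫ θ.inv⟦(1 : ℤ)⟧', ?_⟩
  refine isomorphic_distinguished _ hT₃' _ (Triangle.isoMk _ _ θ eP'.symm eP'.symm ?_ ?_ ?_)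
  · exact (Category.assoc _ _ _).trans (congrArg (θ.hom ≫ ·) ((Category.assoc _ _ _).trans
      ((congrArg (m₁ ≫ ·) eP'.hom_inv_id).trans (Category.comp_id _))))
  · exact hh
  · have h3 : (θ.inv⟦(1 : ℤ)⟧') ≫ (θ.hom⟦(1 : ℤ)⟧') = 𝟙 _ := by
      rw [← Functor.map_comp, Iso.inv_hom_id, CategoryTheory.Functor.map_id]
    exact (Category.assoc _ _ _).trans (congrArg (eP'.inv ≫ ·) ((Category.assoc _ _ _).trans
      ((congrArg (m₃ ≫ ·) h3).trans (Category.comp_id _))))

end Rlim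

end Groth.Agent.Lib.Helper17.KInj
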