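import Mathlib
import Groth.Prelude.Def_DRing4
import Groth.Agent.Lib.Helper10TensHom
import Groth.Agent.Lib.Helper5HomCxQis
import Groth.Agent.Lib.Helper17KInjD5
import Groth.Agent.Lib.Helper10TensHomD
set_option backward.isDefEq.respectTransparency.types false

/-!
# `RHom(E, -)` (the right derived functor of `Hom•(E, -)`) is computed by a K-projective
resolution of `E` (helper10)
-/

set_option autoImplicit false
universe u
open CategoryTheory CategoryTheory.Limits HomologicalComplex CochainComplex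
  CochainComplex.HomComplex
attribute [local instance] HasDerivedCategory.standard

namespace Groth.Agent.Lib.Helper10.RHomCx

open DerivedCategory Groth.Agent.Lib.Helper1.KF Groth.Agent.Lib.Helper10.TensHom
  Groth.Agent.Lib.Helper5.HomCxQis

variable {A : Type u} [CommRing A]

section Homotopy

/-- composition with a fixed cochain, as a linear map -/
noncomputable def compLin (E : Cx A) {L L' : Cx A} {m : ℤ} (z₀ : Cochain L L' m) (p q : ℤ)
    (hpq : p + m = q) : Cochain E L p →ₗ[A] Cochain E L' q where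
  toFun c := c.comp z₀ hpq
  map_add' c c' := by simp
  map_smul' a c := by simp

/-- `Hom•(E, -)` preserves homotopies -/
noncomputable def homCxHomotopy (E : Cx A) {L L' : Cx A} {f g : L ⟶ L'} (h : Homotopy f g) :
    Homotopy (DRing.homCxMap E f) (DRing.homCxMap E g) := by
  obtain ⟨z₀, hz⟩ := Cochain.equivHomotopy f g h
  refine (Cochain.equivHomotopy _ _).symm ⟨Cochain.mk (fun p q hpq =>
    ModuleCat.ofHom (compLin E z₀ p q hpq)), ?_⟩
  refine Cochain.ext _ _ (fun p q hpq => ?_)
  obtain rfl : p = q := by omega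
  rw [Cochain.add_v, δ_v (-1) 0 (by simp) _ p p (add_zero p) (p - 1) (p + 1) rfl rfl,
    Cochain.ofHom_v, Cochain.ofHom_v, Int.negOnePow_zero, one_smul, Cochain.mk_v, Cochain.mk_v]
  ext (c : Cochain E L p)
  change c.comp (Cochain.ofHom f) (add_zero p) =
    δ (p - 1) p (c.comp z₀ (by omega)) + (δ p (p + 1) c).comp z₀ (by omega) +
      c.comp (Cochain.ofHom g) (add_zero p)
  rw [δ_comp c z₀ (show p + (-1) = p - 1 by omega) (p + 1) 0 p
    (by omega) rfl (by simp), hz, Cochain.comp_add]
  simp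

end Homotopy

section Inverts

/-- `Hom•(E, -)` sends homotopy equivalences to homotopy equivalences -/
noncomputable def homCxHomotopyEquiv (E : Cx A) {L L' : Cx A} (e : HomotopyEquiv L L') :
    HomotopyEquiv (DRing.homCx E L) (DRing.homCx E L') where
  hom := DRing.homCxMap E e.hom
  inv := DRing.homCxMap E e.inv
  homotopyHomInvId :=
    (Homotopy.ofEq ((DRing.homCxFunctor E).map_comp e.hom e.inv).symm).trans
      ((homCxHomotopy E e.homotopyHomInvId).trans
        (Homotopy.ofEq ((DRing.homCxFunctor E).map_id L)))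
  homotopyInvHomId :=
    (Homotopy.ofEq ((DRing.homCxFunctor E).map_comp e.inv e.hom).symm).trans
      ((homCxHomotopy E e.homotopyInvHomId).trans
        (Homotopy.ofEq ((DRing.homCxFunctor E).map_id L')))

lemma isInvertedBy_homCxQ_homotopyEquivalences (E : Cx A) :
    (HomologicalComplex.homotopyEquivalences (ModuleCat.{u} A) (ComplexShape.up ℤ)).IsInvertedBy
      (DRing.homCxQ E) := by
  rintro L L' _ ⟨e, rfl⟩
  have h1 : QuasiIso (DRing.homCxMap E e.hom) := (homCxHomotopyEquiv E e).quasiIso_hom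
  exact (DerivedCategory.isIso_Q_map_iff_quasiIso _ _).2 h1

end Inverts

section KInj

variable {C : Type*} [Category C] [Abelian C] [HasDerivedCategory C]

/-- precomposition with a quasi-isomorphism is bijective on homotopy classes into a K-injective
complex -/
theorem bijective_precomp (I : CochainComplex C ℤ) [I.IsKInjective] {M M' : CochainComplex C ℤ}
    (g : M ⟶ M') [QuasiIso g] :
    Function.Bijective
      (fun φ : (HomotopyCategory.quotient C (.up ℤ)).obj M' ⟶
          (HomotopyCategory.quotient C (.up ℤ)).obj I =>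
        (HomotopyCategory.quotient C (.up ℤ)).map g ≫ φ) := by
  have hg : IsIso (DerivedCategory.Qh.map ((HomotopyCategory.quotient C (.up ℤ)).map g)) := by
    have h1 : IsIso (DerivedCategory.Q.map g) :=
      (DerivedCategory.isIso_Q_map_iff_quasiIso _ g).2 inferInstance
    exact (NatIso.isIso_map_iff (DerivedCategory.quotientCompQhIso C) g).2 h1
  constructor
  · intro φ φ' h
    apply (IsKInjective.Qh_map_bijective _ I).injective
    have h2 : DerivedCategory.Qh.map ((HomotopyCategory.quotient C (.up ℤ)).map g ≫ φ) =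
        DerivedCategory.Qh.map ((HomotopyCategory.quotient C (.up ℤ)).map g ≫ φ') :=
      congrArg (fun t => DerivedCategory.Qh.map t) h
    rw [Functor.map_comp, Functor.map_comp] at h2
    exact (cancel_epi _).1 h2
  · intro ψ
    obtain ⟨φ, hφ⟩ := (IsKInjective.Qh_map_bijective _ I).surjective
      (inv (DerivedCategory.Qh.map ((HomotopyCategory.quotient C (.up ℤ)).map g)) ≫
        DerivedCategory.Qh.map ψ)
    refine ⟨φ, ?_⟩
    apply (IsKInjective.Qh_map_bijective _ I).injective
    show DerivedCategory.Qh.map (_ ≫ φ) = DerivedCategory.Qh.map ψ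
    rw [Functor.map_comp, hφ, IsIso.hom_inv_id_assoc]

theorem mem_coboundaries_of_precomp (I : CochainComplex C ℤ) [I.IsKInjective]
    {L L' : CochainComplex C ℤ} (f : L ⟶ L') [QuasiIso f] (n : ℤ)
    (z : Cocycle L' I n) (h : z.precomp f ∈ coboundaries L I n) : z ∈ coboundaries L' I n := by
  rw [← CohomologyClass.toHom_mk_eq_zero_iff] at h ⊢
  rw [CohomologyClass.toHom_mk, Cocycle.equivHomShift_symm_precomp, Functor.map_comp] at h
  rw [CohomologyClass.toHom_mk]
  haveI : (I⟦n⟧).IsKInjective := inferInstance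
  exact (bijective_precomp (I⟦n⟧) f).injective (h.trans comp_zero.symm)

theorem exists_precomp_sub_mem (I : CochainComplex C ℤ) [I.IsKInjective]
    {L L' : CochainComplex C ℤ} (f : L ⟶ L') [QuasiIso f] (n : ℤ)
    (z' : Cocycle L I n) : ∃ z : Cocycle L' I n, z' - z.precomp f ∈ coboundaries L I n := by
  haveI : (I⟦n⟧).IsKInjective := inferInstance
  obtain ⟨φ, hφ⟩ := (bijective_precomp (I⟦n⟧) f).surjective
    (CohomologyClass.toHom (CohomologyClass.mk z'))
  have hφ' : (HomotopyCategory.quotient C (.up ℤ)).map f ≫ φ =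
      CohomologyClass.toHom (CohomologyClass.mk z') := hφ
  obtain ⟨c, hc⟩ := (CohomologyClass.toHom_bijective L' I n).surjective φ
  obtain ⟨z, rfl⟩ := c.mk_surjective
  refine ⟨z, ?_⟩
  rw [← CohomologyClass.toHom_mk_eq_zero_iff, CohomologyClass.mk_sub, map_sub, sub_eq_zero,
    ← hφ', ← hc, CohomologyClass.toHom_mk, CohomologyClass.toHom_mk,
    Cocycle.equivHomShift_symm_precomp, Functor.map_comp]

end KInj

section QisPre

/-- `Hom•(-, I)` sends quasi-isomorphisms to quasi-isomorphisms for K-injective `I` -/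
theorem quasiIso_homCxPre (I : Cx A) [I.IsKInjective] {P E : Cx A} (a : P ⟶ E) [QuasiIso a] :
    QuasiIso (homCxPre a I) := by
  rw [quasiIso_iff]
  intro n
  rw [quasiIsoAt_iff' _ (n - 1) n (n + 1) (by simp) (by simp)]
  apply Groth.Agent.Lib.Helper17.HOne.quasiIso_of_elements
  · intro x₂ hx₂
    obtain ⟨x₂, rfl⟩ : ∃ x : Cochain P I n, x = x₂ := ⟨x₂, rfl⟩
    have hx : δ n (n + 1) x₂ = 0 := hx₂
    obtain ⟨z, hz⟩ := exists_precomp_sub_mem I a n (Cocycle.mk x₂ (n + 1) rfl hx)
    rw [mem_coboundaries_iff _ (n - 1) (by omega)] at hz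
    obtain ⟨β, hβ⟩ := hz
    have hβ' : δ (n - 1) n β = x₂ - (Cochain.ofHom a).comp z.1 (zero_add n) := hβ
    refine ⟨z.1, z.δ_eq_zero (n + 1), (-β : Cochain P I (n - 1)), ?_⟩
    show (Cochain.ofHom a).comp z.1 (zero_add n) = x₂ + δ (n - 1) n (-β)
    rw [δ_neg, hβ']
    abel
  · intro x₁ hx₁ hy
    obtain ⟨x₁, rfl⟩ : ∃ x : Cochain E I n, x = x₁ := ⟨x₁, rfl⟩
    obtain ⟨y, hy⟩ := hy
    obtain ⟨y, rfl⟩ : ∃ y' : Cochain P I (n - 1), y' = y := ⟨y, rfl⟩
    have hx : δ n (n + 1) x₁ = 0 := hx₁
    have hy' : (Cochain.ofHom a).comp x₁ (zero_add n) = δ (n - 1) n y := hy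
    have h1 : (Cocycle.mk x₁ (n + 1) rfl hx).precomp a ∈ coboundaries P I n :=
      (mem_coboundaries_iff _ (n - 1) (by omega)).2 ⟨y, hy'.symm⟩
    have h2 := mem_coboundaries_of_precomp I a n (Cocycle.mk x₁ (n + 1) rfl hx) h1
    obtain ⟨β, hβ⟩ := (mem_coboundaries_iff _ (n - 1) (by omega)).1 h2
    exact ⟨β, hβ⟩

end QisPre

section Key

open Groth.Agent.Lib.Helper10.TensHomD Groth.Agent.Lib.Helper17.KInj

lemma homCxMap_comp_homCxPre {P E : Cx A} (a : P ⟶ E) {Y Y' : Cx A} (f : Y ⟶ Y') :
    DRing.homCxMap E f ≫ homCxPre a Y' = homCxPre a Y ≫ DRing.homCxMap P f := by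
  ext n : 1
  ext (z : Cochain E Y n)
  change (Cochain.ofHom a).comp (z.comp (Cochain.ofHom f) (add_zero n)) (zero_add n) =
    ((Cochain.ofHom a).comp z (zero_add n)).comp (Cochain.ofHom f) (add_zero n)
  simp

variable {P E : Cx A} [P.IsKProjective] (a : P ⟶ E)

omit [P.IsKProjective] in
/-- the natural transformation `Q Hom•(E, -) ⟶ Q Hom•(P, -)` induced by `a : P ⟶ E` -/
noncomputable def preNat : DRing.homCxQ E ⟶ DRing.homCxQ P where
  app Y := Q.map (homCxPre a Y)
  naturality Y Y' f := by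
    change Q.map (DRing.homCxMap E f) ≫ Q.map (homCxPre a Y') =
      Q.map (homCxPre a Y) ≫ Q.map (DRing.homCxMap P f)
    rw [← Q.map_comp, ← Q.map_comp, homCxMap_comp_homCxPre]

/-- the natural transformation `Q Hom•(E, -) ⟶ Q ⋙ RP P` induced by `a : P ⟶ E` -/
noncomputable def preUnit : DRing.homCxQ E ⟶ Q ⋙ RP P := preNat a ≫ (RPIso P).inv

lemma preUnit_app (Y : Cx A) :
    (preUnit a).app Y = Q.map (homCxPre a Y) ≫ (RPIso P).inv.app Y := rfl

variable [QuasiIso a]

/-- `(RP P, preUnit a)` is a right derived functor of `Q Hom•(E, -)` -/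
instance isRightDerivedFunctor_RP :
    (RP P).IsRightDerivedFunctor (preUnit a)
      (HomologicalComplex.quasiIso (ModuleCat.{u} A) (ComplexShape.up ℤ)) := by
  apply (fibLocalizerMorphism_derives (DRing.homCxQ E)
    (isInvertedBy_homCxQ_homotopyEquivalences E)).isRightDerivedFunctor_of_isIso
  intro I
  haveI : (I.obj : Cx A).IsKInjective := I.property.isKInjective
  haveI : QuasiIso (homCxPre a I.obj) := quasiIso_homCxPre I.obj a
  have h1 : IsIso (Q.map (homCxPre a I.obj)) :=
    (DerivedCategory.isIso_Q_map_iff_quasiIso _ _).2 inferInstance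
  change IsIso ((preUnit a).app I.obj)
  rw [preUnit_app]
  have h2 : IsIso ((RPIso P).inv.app I.obj) := inferInstance
  exact @IsIso.comp_isIso _ _ _ _ _ _ _ h1 h2

/-- **Key lemma**: the right derived functor `RHom(E, -)` of `Hom•(E, -)` is computed by a
K-projective resolution of `E`. -/
noncomputable def RHomCxIso [DRing.HasRHomCx E] : DRing.RHomCx E ≅ RP P :=
  Functor.rightDerivedUnique (DRing.RHomCx E) (RP P)
    ((DRing.homCxQ E).totalRightDerivedUnit Q
      (HomologicalComplex.quasiIso (ModuleCat.{u} A) (ComplexShape.up ℤ)))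
    (preUnit a) (HomologicalComplex.quasiIso (ModuleCat.{u} A) (ComplexShape.up ℤ))

/-- `RHom(E, Q Y) ≅ Q Hom•(P, Y)` for a K-projective resolution `P ⟶ E` -/
noncomputable def RHomCxObjIso [DRing.HasRHomCx E] (Y : Cx A) :
    (DRing.RHomCx E).obj (Q.obj Y) ≅ Q.obj (DRing.homCx P Y) :=
  (RHomCxIso a).app (Q.obj Y) ≪≫ (RPIso P).app Y

end Key

end Groth.Agent.Lib.Helper10.RHomCx
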