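import Mathlib
import Groth.Prelude.Def_DRing4
import Groth.Agent.Lib.Helper10RHomCx
set_option backward.isDefEq.respectTransparency.types false

/-!
# The derived adjunction `- ⊗ P ⊣ Hom•(P, -)` on `D(A)` for a K-projective complex `P`,
without any hypothesis on the existence of the derived tensor bifunctor (helper10)
-/

set_option autoImplicit false
universe u
open CategoryTheory CategoryTheory.Limits HomologicalComplex CochainComplex MonoidalCategory
attribute [local instance] HasDerivedCategory.standard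

namespace Groth.Agent.Lib.Helper10.DCAdj

open DerivedCategory Groth.Agent.Lib.Helper1.KF Groth.Agent.Lib.Helper10.TensHom
  Groth.Agent.Lib.Helper10.TensHomD

variable {A : Type u} [CommRing A]

abbrev qis (A : Type u) [CommRing A] : MorphismProperty (Cx A) :=
  HomologicalComplex.quasiIso (ModuleCat.{u} A) (ComplexShape.up ℤ)

lemma isZero_Q_of_acyc (K : Cx A) (h : Acyc K) : IsZero (Q.obj K) := by
  have h1 : CochainComplex.IsLE K 0 := by
    rw [CochainComplex.isLE_iff]
    exact fun i _ => (K.exactAt_iff_isZero_homology i).2 (h i)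
  have h2 : CochainComplex.IsGE K 1 := by
    rw [CochainComplex.isGE_iff]
    exact fun i _ => (K.exactAt_iff_isZero_homology i).2 (h i)
  have : (Q.obj K).IsLE 0 := (DerivedCategory.isLE_Q_obj_iff _ _).2 h1
  have : (Q.obj K).IsGE 1 := (DerivedCategory.isGE_Q_obj_iff _ _).2 h2
  exact DerivedCategory.TStructure.t.isZero (Q.obj K) 0 1 (by simp)

section

variable (P : Cx A)

lemma isInvertedBy_tensorRight_Q (hP : KFlat P) : (qis A).IsInvertedBy (tensorRight P ⋙ Q) := by
  intro X Y f hf
  haveI : QuasiIso f := hf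
  have h : QuasiIso (f ▷ P) := quasiIso_whiskerRight_of_kflat f P hP
  exact (DerivedCategory.isIso_Q_map_iff_quasiIso _ (f ▷ P)).2 h

variable [P.IsKProjective]

/-- the functor `- ⊗ P` on `D(A)` -/
noncomputable def LP : Dual.D A ⥤ Dual.D A :=
  Localization.lift (tensorRight P ⋙ Q) (isInvertedBy_tensorRight_Q P (kflat_of_isKProjective P)) Q

noncomputable def LPIso : Q ⋙ LP P ≅ tensorRight P ⋙ Q :=
  Localization.fac (tensorRight P ⋙ Q)
    (isInvertedBy_tensorRight_Q P (kflat_of_isKProjective P)) Q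

noncomputable instance : CatCommSq (tensorRight P) Q Q (LP P) := ⟨(LPIso P).symm⟩

/-- the derived adjunction -/
noncomputable def adjLR : LP P ⊣ RP P :=
  (adj P).localization Q (qis A) Q (qis A) (LP P) (RP P)

/-- `Hom(Q(X ⊗ P), Y) ≃ Hom(QX, RHom(P, Y))` -/
noncomputable def homEquivLR (X : Cx A) (Y : Dual.D A) :
    (Q.obj (X ⊗ P) ⟶ Y) ≃ (Q.obj X ⟶ (RP P).obj Y) :=
  ((LPIso P).app X).homFromEquiv.symm.trans ((adjLR P).homEquiv (Q.obj X) Y)

lemma homEquivLR_naturality (X : Cx A) {Y Y' : Dual.D A} (x : Q.obj (X ⊗ P) ⟶ Y) (g : Y ⟶ Y') :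
    homEquivLR P X Y' (x ≫ g) = homEquivLR P X Y x ≫ (RP P).map g := by
  change (adjLR P).homEquiv _ _ (((LPIso P).app X).hom ≫ x ≫ g) =
    (adjLR P).homEquiv _ _ (((LPIso P).app X).hom ≫ x) ≫ (RP P).map g
  rw [← Category.assoc, Adjunction.homEquiv_naturality_right]

/-- if `X ⊗ P` is acyclic, there are no nonzero maps `QX ⟶ RHom(P, Y)` -/
lemma subsingleton_hom_RP (X : Cx A) (hX : Acyc (X ⊗ P)) (Y : Dual.D A) :
    Subsingleton (Q.obj X ⟶ (RP P).obj Y) := by
  have hz : IsZero (Q.obj (X ⊗ P)) := isZero_Q_of_acyc _ hX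
  haveI : Subsingleton (Q.obj (X ⊗ P) ⟶ Y) := ⟨fun a b => hz.eq_of_src a b⟩
  exact (homEquivLR P X Y).symm.subsingleton

end

end Groth.Agent.Lib.Helper10.DCAdj
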