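import Groth.Agent.Lib.Helper17KInj11
import Mathlib.Algebra.Homology.HomotopyCategory.KInjective
import Mathlib.Algebra.Homology.HomotopyCategory.Pretriangulated

/-!
# K-injective resolutions in Grothendieck abelian categories (helper17)
-/

set_option autoImplicit false

universe w v u

open CategoryTheory CategoryTheory.Limits HomologicalComplex Cardinal MorphismProperty Category
  ZeroObject

namespace Groth.Agent.Lib.Helper17.KInj

section Abelian

variable {A : Type u} [Category.{v} A] [Abelian A]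

lemma quasiIso_of_acyclic {K L : CochainComplex A ℤ} (f : K ⟶ L) (hK : K.Acyclic)
    (hL : L.Acyclic) : QuasiIso f := by
  rw [quasiIso_iff]
  intro i
  rw [quasiIsoAt_iff_exactAt f i (hK i)]
  exact hL i

lemma acyclic_of_homotopy_id_zero {K : CochainComplex A ℤ} (h : Homotopy (𝟙 K) 0) :
    K.Acyclic := by
  intro i
  rw [exactAt_iff_isZero_homology, IsZero.iff_id_eq_zero, ← homologyMap_id, h.homologyMap_eq i,
    homologyMap_zero]

lemma mono_diskMap {X Y : A} (u : X ⟶ Y) [Mono u] (n₀ n₁ : ℤ) (h : n₀ + 1 = n₁) :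
    Mono (diskMap u n₀ n₁ h) := by
  apply HomologicalComplex.mono_of_mono_f
  intro i
  by_cases h₀ : i = n₀
  · subst h₀
    rw [diskMap_f₀]
    infer_instance
  · by_cases h₁ : i = n₁
    · subst h₁
      rw [diskMap_f₁]
      infer_instance
    · exact ⟨fun _ _ _ => (isZero_disk_X X n₀ n₁ h i h₀ h₁).eq_of_tgt _ _⟩

lemma trivCof_diskMap {X Y : A} (u : X ⟶ Y) [Mono u] (n₀ n₁ : ℤ) (h : n₀ + 1 = n₁) :
    trivCof (diskMap u n₀ n₁ h) :=
  ⟨mono_diskMap u n₀ n₁ h, quasiIso_of_acyclic _ (disk_acyclic _ _ _ _) (disk_acyclic _ _ _ _)⟩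

lemma trivCof_inr_mappingCone_id {K : CochainComplex A ℤ} (hK : K.Acyclic) :
    trivCof (CochainComplex.mappingCone.inr (𝟙 K)) := by
  refine ⟨?_, quasiIso_of_acyclic _ hK
    (acyclic_of_homotopy_id_zero (CochainComplex.mappingCone.homotopyToZeroOfId K))⟩
  apply HomologicalComplex.mono_of_mono_f
  intro i
  exact mono_of_mono_fac (CochainComplex.mappingCone.inr_f_snd_v (𝟙 K) i)

variable {I : CochainComplex A ℤ} (hI : (trivCof (A := A)).rlp (0 : I ⟶ 0))

include hI

lemma injective_X_of_rlp (n : ℤ) : Injective (I.X n) := by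
  refine ⟨fun {X Y} g u _ => ?_⟩
  haveI : HasLiftingProperty (diskMap u n (n + 1) rfl) (0 : I ⟶ 0) :=
    hI _ (trivCof_diskMap u n (n + 1) rfl)
  have sq : CommSq (fromDisk rfl g) (diskMap u n (n + 1) rfl) (0 : I ⟶ 0) 0 := ⟨by simp⟩
  refine ⟨(diskIso₀ Y n (n + 1) rfl).inv ≫ sq.lift.f n, ?_⟩
  have := HomologicalComplex.congr_hom sq.fac_left n
  rw [HomologicalComplex.comp_f, diskMap_f₀, fromDisk_f₀] at this
  have := (diskIso₀ X n (n + 1) rfl).inv ≫= this
  simpa using this

lemma isKInjective_of_rlp : I.IsKInjective := by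
  refine ⟨fun {K} f hK => ?_⟩
  haveI : HasLiftingProperty (CochainComplex.mappingCone.inr (𝟙 K)) (0 : I ⟶ 0) :=
    hI _ (trivCof_inr_mappingCone_id hK)
  have sq : CommSq f (CochainComplex.mappingCone.inr (𝟙 K)) (0 : I ⟶ 0) 0 := ⟨by simp⟩
  have hz := CochainComplex.mappingCone.homotopyToZeroOfId K
  have h1 := (hz.compLeft (CochainComplex.mappingCone.inr (𝟙 K))).compRight sq.lift
  refine ⟨(Homotopy.ofEq ?_).trans (h1.trans (Homotopy.ofEq ?_))⟩
  · rw [Category.comp_id, sq.fac_left]
  · simp

end Abelian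

section Grothendieck

variable {A : Type u} [Category.{v} A] [Abelian A] [IsGrothendieckAbelian.{w} A]
  {U : A} {𝔾 : CochainComplex A ℤ} {κ : Cardinal.{w}}

lemma genTrivCof_le_monomorphisms :
    genTrivCof 𝔾 κ ≤ MorphismProperty.monomorphisms (CochainComplex A ℤ) := by
  rintro _ _ _ ⟨i⟩
  exact inferInstanceAs (Mono (genMap i.1))

open IsGrothendieckAbelian in
instance : HasSmallObjectArgument.{w} (genTrivCof 𝔾 κ) := by
  obtain ⟨κ', hκ', hκ''⟩ := HasCardinalLT.exists_regular_cardinal_forall.{w}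
    (fun (i : {i : GenIdx 𝔾 κ // QuasiIso (genMap i)}) =>
      Subobject (i.1.2 : CochainComplex A ℤ))
  have : Fact κ'.IsRegular := ⟨hκ'⟩
  have : Nonempty κ'.ord.ToType := by simpa using hκ'.ne_zero
  have := WellFoundedLT.toOrderBot κ'.ord.ToType
  exact ⟨κ', inferInstance, inferInstance,
    { preservesColimit {A' B X Y} i hi f hf := by
        let hf' : (monomorphisms (CochainComplex A ℤ)).TransfiniteCompositionOfShape
            κ'.ord.ToType f :=
          { toTransfiniteCompositionOfShape := hf.toTransfiniteCompositionOfShape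
            map_mem j hj := by
              have := (hf.attachCells j hj).pushouts_coproducts
              simp only [ofHoms_homFamily] at this
              refine (?_ : _ ≤ monomorphisms (CochainComplex A ℤ)) _ this
              simp only [pushouts_le_iff, coproducts_le_iff]
              exact genTrivCof_le_monomorphisms }
        have (j j' : κ'.ord.ToType) (φ : j ⟶ j') : Mono (hf'.F.map φ) := hf'.mem_map φ
        apply preservesColimit_coyoneda_obj_of_mono (Y := hf'.F) (κ := κ')
        obtain ⟨S⟩ := hi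
        exact hκ'' S }⟩

variable (A) in
theorem exists_kInjective_resolution (M : CochainComplex A ℤ) :
    ∃ (I : CochainComplex A ℤ) (f : M ⟶ I), I.IsKInjective ∧ QuasiIso f ∧ (∀ n, Mono (f.f n)) ∧
      ∀ n, Injective (I.X n) := by
  obtain ⟨κ, h⟩ := exists_kappaOK.{w} A
  obtain ⟨Z, i, p, hi0, hp0⟩ : ∃ (Z : CochainComplex A ℤ) (i : M ⟶ Z) (p : Z ⟶ 0),
      (genTrivCof (separator (CochainComplex A ℤ)) κ).rlp.llp i ∧
      (genTrivCof (separator (CochainComplex A ℤ)) κ).rlp p :=
    ⟨_, _, _,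
      ((functorialFactorizationData (genTrivCof (separator (CochainComplex A ℤ)) κ).rlp.llp
        (genTrivCof (separator (CochainComplex A ℤ)) κ).rlp).factorizationData (0 : M ⟶ 0)).hi,
      ((functorialFactorizationData (genTrivCof (separator (CochainComplex A ℤ)) κ).rlp.llp
        (genTrivCof (separator (CochainComplex A ℤ)) κ).rlp).factorizationData (0 : M ⟶ 0)).hp⟩
  have hi : trivCof i := by
    rwa [genTrivCof_rlp h, trivCof_rlp_llp] at hi0
  have hp : (trivCof (A := A)).rlp (0 : Z ⟶ 0) := by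
    rw [genTrivCof_rlp h] at hp0
    rwa [(isZero_zero _).eq_of_tgt p 0] at hp0
  haveI := hi.1
  refine ⟨Z, i, isKInjective_of_rlp hp, hi.2, fun n => ?_, fun n => injective_X_of_rlp hp n⟩
  exact inferInstanceAs (Mono ((HomologicalComplex.eval A (ComplexShape.up ℤ) n).map i))

end Grothendieck

end Groth.Agent.Lib.Helper17.KInj
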