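import Mathlib
import Groth.Agent.Lib.Helper1DT3
import Groth.Prelude.Def_DTen4
set_option backward.isDefEq.respectTransparency.types false

/-!
# Derived base change on K-projective complexes; the splitting comparison (helper1, DTen part 4)
-/

set_option autoImplicit false
set_option maxHeartbeats 400000
universe u
open CategoryTheory CategoryTheory.Limits MonoidalCategory HomologicalComplex
attribute [local instance] HasDerivedCategory.standard

namespace Groth.Agent.Lib.Helper1.DT

section general

variable {C D : Type*} [Category C] [Category D] [Preadditive C] [Preadditive D]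
  {F : C ⥤ D} {G : D ⥤ C} [F.Additive] [G.Additive] (adj : F ⊣ G) {ι : Type*} (c : ComplexShape ι)

/-- an adjunction between additive functors induces an adjunction on homological complexes -/
noncomputable def mapHomologicalComplexAdj :
    F.mapHomologicalComplex c ⊣ G.mapHomologicalComplex c :=
  Adjunction.mkOfUnitCounit
    { unit :=
        { app := fun K =>
            { f := fun i => adj.unit.app (K.X i)
              comm' := fun i j _ => by
                have := adj.unit.naturality (K.d i j)
                dsimp at this ⊢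
                exact this.symm }
          naturality := fun K K' f => HomologicalComplex.hom_ext _ _ (fun i => by
            have := adj.unit.naturality (f.f i)
            dsimp at this ⊢
            exact this) }
      counit :=
        { app := fun K =>
            { f := fun i => adj.counit.app (K.X i)
              comm' := fun i j _ => by
                have := adj.counit.naturality (K.d i j)
                dsimp at this ⊢
                exact this.symm }
          naturality := fun K K' f => HomologicalComplex.hom_ext _ _ (fun i => by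
            have := adj.counit.naturality (f.f i)
            dsimp at this ⊢
            exact this) }
      left_triangle := by
        ext K i
        dsimp
        rw [Category.id_comp]
        exact adj.left_triangle_components (K.X i)
      right_triangle := by
        ext K i
        dsimp
        rw [Category.id_comp]
        exact adj.right_triangle_components (K.X i) }

@[simp]
lemma mapHomologicalComplexAdj_unit_app_f (K : HomologicalComplex C c) (i : ι) :
    ((mapHomologicalComplexAdj adj c).unit.app K).f i = adj.unit.app (K.X i) := rfl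

@[simp]
lemma mapHomologicalComplexAdj_counit_app_f (K : HomologicalComplex D c) (i : ι) :
    ((mapHomologicalComplexAdj adj c).counit.app K).f i = adj.counit.app (K.X i) := rfl

end general

section base

open DerivedCategory Groth.Agent.Lib.Helper1.KF DTen

variable {R A : Type u} [CommRing R] [CommRing A] (φ : R →+* A)

/-- the adjunction between termwise extension and restriction of scalars on complexes -/
noncomputable def extResAdj : extCx φ ⊣ resCx φ :=
  mapHomologicalComplexAdj (ModuleCat.extendRestrictScalarsAdj.{u, u, u} φ) _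

lemma extResAdj_unit : (extResAdj φ).unit = unitCx φ := rfl

lemma acyclic_resCx (Y : Cx A) (hY : Y.Acyclic) : ((resCx φ).obj Y).Acyclic :=
  fun i => ShortComplex.Exact.map (hY i) (ModuleCat.restrictScalars.{u} φ)

lemma homotopy_of_homotopy_homEquiv {P : Cx R} {Y : Cx A} (s s' : (extCx φ).obj P ⟶ Y)
    (h : Homotopy ((extResAdj φ).homEquiv P Y s) ((extResAdj φ).homEquiv P Y s')) :
    Nonempty (Homotopy s s') := by
  have hs : ∀ t : (extCx φ).obj P ⟶ Y,
      t = (extCx φ).map ((extResAdj φ).homEquiv P Y t) ≫ (extResAdj φ).counit.app Y := fun t => by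
    have := ((extResAdj φ).homEquiv P Y).symm_apply_apply t
    rw [Adjunction.homEquiv_counit] at this
    exact this.symm
  rw [hs s, hs s']
  exact ⟨((ModuleCat.extendScalars.{u, u, u} φ).mapHomotopy h).compRight _⟩

instance isKProjective_extCx (P : Cx R) [P.IsKProjective] :
    ((extCx φ).obj P).IsKProjective where
  nonempty_homotopy_zero {Y} f hY := by
    have hg : Homotopy ((extResAdj φ).homEquiv P Y f) ((extResAdj φ).homEquiv P Y 0) :=
      (CochainComplex.IsKProjective.homotopyZero _ (acyclic_resCx φ Y hY)).trans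
        (Homotopy.ofEq (by
          rw [Adjunction.homEquiv_unit, Functor.map_zero, comp_zero]))
    exact homotopy_of_homotopy_homEquiv φ f 0 hg

variable [HasLBase φ]

lemma baseγ_comp_map_Q (P : Cx R) {Y : Cx A} (s : (extCx φ).obj P ⟶ Y) :
    (baseγ φ).app P ≫ (DRing.restrictD φ).map (Q.map s) =
      Q.map ((extResAdj φ).homEquiv P Y s) ≫ (resFactors φ).inv.app Y := by
  have h := (resFactors φ).inv.naturality s
  dsimp at h
  dsimp [baseγ]
  rw [Category.assoc, ← h, ← Category.assoc, ← Functor.map_comp, Adjunction.homEquiv_unit,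
    extResAdj_unit]

/-- the comparison from derived to termwise base change is an isomorphism on K-projectives -/
theorem isIso_baseCmp_of_isKProjective (P : Cx R) [P.IsKProjective] :
    IsIso ((baseCmp φ).app P) := by
  apply isIso_of_coyoneda_map_bijective
  intro T
  let Y := Q.objPreimage T
  let e : Q.obj Y ≅ T := Q.objObjPreimageIso T
  suffices h : Function.Bijective
      (fun x : Q.obj ((extCx φ).obj P) ⟶ Q.obj Y => (baseCmp φ).app P ≫ x) by
    have h1 : (fun x : (extCx φ ⋙ Q).obj P ⟶ T => (baseCmp φ).app P ≫ x) =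
        (fun y => y ≫ e.hom) ∘ (fun x : Q.obj ((extCx φ).obj P) ⟶ Q.obj Y =>
          (baseCmp φ).app P ≫ x) ∘ (fun x => x ≫ e.inv) := by
      funext x
      simp
    rw [h1]
    refine Function.Bijective.comp ?_ (Function.Bijective.comp h ?_)
    · exact ⟨fun a b hab => by simpa using hab, fun b => ⟨b ≫ e.inv, by simp⟩⟩
    · exact ⟨fun a b hab => by simpa using hab, fun b => ⟨b ≫ e.hom, by simp⟩⟩
  have key : ∀ x : Q.obj ((extCx φ).obj P) ⟶ Q.obj Y,
      (baseAdj φ).homEquiv _ _ ((baseCmp φ).app P ≫ x) =
        (baseγ φ).app P ≫ (DRing.restrictD φ).map x := by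
    intro x
    rw [Adjunction.homEquiv_unit, Functor.map_comp, ← Category.assoc]
    congr 1
    exact baseCmp_fac φ P
  rw [← Function.Bijective.of_comp_iff' ((baseAdj φ).homEquiv _ _).bijective]
  constructor
  · intro x x' hxx'
    obtain ⟨s, rfl⟩ := Q_map_surjective _ _ x
    obtain ⟨s', rfl⟩ := Q_map_surjective _ _ x'
    simp only [Function.comp_apply, key, baseγ_comp_map_Q] at hxx'
    rw [cancel_mono] at hxx'
    obtain ⟨h1⟩ := homotopy_of_Q_map_eq _ _ _ _ hxx'
    obtain ⟨h2⟩ := homotopy_of_homotopy_homEquiv φ s s' h1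
    exact Q_map_eq_of_homotopy h2
  · intro u
    obtain ⟨v, hv⟩ := Q_map_surjective P ((resCx φ).obj Y) (u ≫ (resFactors φ).hom.app Y)
    refine ⟨Q.map (((extResAdj φ).homEquiv P Y).symm v), ?_⟩
    simp only [Function.comp_apply, key, baseγ_comp_map_Q, Equiv.apply_symm_apply, hv,
      Category.assoc, Iso.hom_inv_id_app]
    exact Category.comp_id _

section mix

variable [HasLTenMix φ]

omit [HasLBase φ] in
/-- the counit of the mixed derived tensor product is an isomorphism on pairs of K-projectives -/
theorem isIso_εMix_of_isKProjective (P : Cx R) (P' : Cx A) [P.IsKProjective] [P'.IsKProjective] :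
    IsIso ((εMix φ).app (P, P')) := by
  have := Functor.IsLeftDerivedFunctor.isRightKanExtension (LTenMix φ) (εMix φ) (qisMix R A)
  have hsm : ∀ Z : Dual.D R × Dual.D A, Small.{u} ((QMix R A).obj (P, P') ⟶ Z) := fun Z => by
    show Small.{u} ((Q.obj P ⟶ Z.1) × (Q.obj P' ⟶ Z.2))
    infer_instance
  refine isIso_counit_app'.{u} (QMix R A) (mix₂ φ) (LTenMix φ) (εMix φ) (P, P') ?_ ?_
  · rintro ⟨Y₁, Y₂⟩ ⟨g₁, g₂⟩
    obtain ⟨f₁, rfl⟩ := Q_map_surjective P Y₁ g₁
    obtain ⟨f₂, rfl⟩ := Q_map_surjective P' Y₂ g₂
    exact ⟨(f₁, f₂), rfl⟩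
  · rintro ⟨Y₁, Y₂⟩ ⟨f₁, f₂⟩ ⟨g₁, g₂⟩ h
    obtain ⟨h1⟩ := homotopy_of_Q_map_eq P Y₁ f₁ g₁ (congrArg Prod.fst h)
    obtain ⟨h2⟩ := homotopy_of_Q_map_eq P' Y₂ f₂ g₂ (congrArg Prod.snd h)
    obtain ⟨h3⟩ := homotopy_tensorHom ((ModuleCat.extendScalars.{u, u, u} φ).mapHomotopy h1) h2
    dsimp
    rw [← MonoidalCategory.tensorHom_def, ← MonoidalCategory.tensorHom_def]
    exact Q_map_eq_of_homotopy h3

variable [HasLTen A]

lemma isIso_split_app_Q (P : Cx R) (P' : Cx A) [P.IsKProjective] [P'.IsKProjective] :
    IsIso ((split φ).app ((QMix R A).obj (P, P'))) := by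
  have h := split_fac φ (P, P')
  have h1 := isIso_εMix_of_isKProjective φ P P'
  have h2 : IsIso ((splitβ φ).app (P, P')) := by
    dsimp [splitβ]
    have i1 : IsIso ((baseCmp φ).app P) := isIso_baseCmp_of_isKProjective φ P
    have i2 : IsIso ((ε A).app ((extCx φ).obj P, P')) :=
      isIso_ε_of_kflat _ _ (Or.inr (kflat_of_isKProjective P'))
    have i3 : IsIso (Prod.mkHom ((baseCmp φ).app P) (𝟙 (Q.obj P'))) := by
      rw [isIso_prod_iff]
      exact ⟨i1, inferInstanceAs (IsIso (𝟙 (Q.obj P')))⟩
    have i5 : IsIso ((LTen₂ A).map (Prod.mkHom ((baseCmp φ).app P) (𝟙 (Q.obj P')))) :=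
      Functor.map_isIso _ _
    exact IsIso.comp_isIso' i5 i2
  have h3 : (split φ).app ((QMix R A).obj (P, P')) =
      (splitβ φ).app (P, P') ≫ inv ((εMix φ).app (P, P')) := by
    rw [IsIso.eq_comp_inv]; exact h
  rw [h3]
  infer_instance

/-- the comparison `(E ⊗^L_R A) ⊗^L_A N ⟶ E ⊗^L_R N` is an isomorphism -/
theorem isIso_split_app (E : Dual.D R) (N : Dual.D A) : IsIso ((split φ).app (E, N)) := by
  obtain ⟨P, hP, -, ⟨e⟩⟩ := exists_kproj_iso E
  obtain ⟨P', hP', -, ⟨e'⟩⟩ := exists_kproj_iso N
  have := isIso_split_app_Q φ P P'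
  exact (NatTrans.isIso_app_iff_of_iso (split φ) (Iso.prod e e')).1 this

end mix

end base

end Groth.Agent.Lib.Helper1.DT
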