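import Mathlib
import Groth.Agent.Lib.Helper1DT4
set_option backward.isDefEq.respectTransparency.types false

/-!
# Tensoring with a module in degree `0`; extension of scalars of acyclic K-flat complexes
(helper1, DTen part 5)
-/

set_option autoImplicit false
set_option maxHeartbeats 400000
universe u
open CategoryTheory CategoryTheory.Limits MonoidalCategory HomologicalComplex
attribute [local instance] HasDerivedCategory.standard

namespace Groth.Agent.Lib.Helper1.DT

open DerivedCategory Groth.Agent.Lib.Helper1.KF DTen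

section single

variable {R : Type u} [CommRing R] (M : ModuleCat.{u} R) (C : Cx R)

/-- the module `M` as a complex in degree `0` -/
noncomputable abbrev sgl : Cx R :=
  (HomologicalComplex.single (ModuleCat.{u} R) (ComplexShape.up ℤ) 0).obj M

/-- the termwise tensor product `M ⊗ C^n` -/
noncomputable abbrev TCx : Cx R :=
  ((tensorLeft M).mapHomologicalComplex (ComplexShape.up ℤ)).obj C

lemma isZero_sgl_tensor (p : ℤ) (hp : p ≠ 0) (Y : ModuleCat.{u} R) :
    IsZero ((sgl M).X p ⊗ Y) :=
  (tensorRight Y).map_isZero (isZero_single_obj_X (ComplexShape.up ℤ) 0 M p hp)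

/-- the inclusion of `M ⊗ C^n` into `(M[0] ⊗ C)^n` -/
noncomputable def sglι (n : ℤ) : M ⊗ C.X n ⟶ (sgl M ⊗ C).X n :=
  ((singleObjXSelf (ComplexShape.up ℤ) 0 M).inv ▷ C.X n) ≫ ιTensorObj (sgl M) C 0 n n (zero_add n)

/-- the projection of `(M[0] ⊗ C)^n` onto `M ⊗ C^n` -/
noncomputable def sglπ (n : ℤ) : (sgl M ⊗ C).X n ⟶ M ⊗ C.X n :=
  mapBifunctorDesc (K₁ := sgl M) (K₂ := C) (F := curriedTensor (ModuleCat.{u} R))
    (c := ComplexShape.up ℤ) (fun p q hpq =>
      if hp : p = 0 then
        ((sgl M).XIsoOfEq hp).hom ▷ C.X q ≫ (singleObjXSelf (ComplexShape.up ℤ) 0 M).hom ▷ C.X q ≫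
          M ◁ (C.XIsoOfEq (show q = n by subst hp; simpa using hpq)).hom
      else 0)

lemma ι_sglπ_zero (n : ℤ) :
    ιTensorObj (sgl M) C 0 n n (zero_add n) ≫ sglπ M C n =
      (singleObjXSelf (ComplexShape.up ℤ) 0 M).hom ▷ C.X n := by
  unfold sglπ
  erw [ι_mapBifunctorDesc]
  rw [dif_pos rfl]
  simp only [XIsoOfEq_rfl, Iso.refl_hom, id_whiskerRight, MonoidalCategory.whiskerLeft_id]
  exact (Category.id_comp _).trans (Category.comp_id _)

lemma sglι_sglπ (n : ℤ) : sglι M C n ≫ sglπ M C n = 𝟙 _ := by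
  unfold sglι
  rw [Category.assoc, ι_sglπ_zero, ← comp_whiskerRight, Iso.inv_hom_id, id_whiskerRight]

lemma sglπ_sglι (n : ℤ) : sglπ M C n ≫ sglι M C n = 𝟙 _ := by
  apply tensor_hom_ext
  intro p q hpq
  by_cases hp : p = 0
  · subst hp
    obtain rfl : q = n := by omega
    rw [← Category.assoc, ι_sglπ_zero]
    unfold sglι
    rw [← Category.assoc, ← comp_whiskerRight, Iso.hom_inv_id, id_whiskerRight, Category.id_comp]
    exact (Category.comp_id _).symm
  · exact (isZero_sgl_tensor M p hp (C.X q)).eq_of_src _ _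

lemma sglι_comm (n : ℤ) :
    sglι M C n ≫ (sgl M ⊗ C).d n (n + 1) = (M ◁ C.d n (n + 1)) ≫ sglι M C (n + 1) := by
  unfold sglι
  rw [Category.assoc, ι_tensor_d (sgl M) C 0 n n (zero_add n) 1 (n + 1) (n + 1) rfl rfl rfl,
    single_obj_d, MonoidalPreadditive.zero_whiskerRight, zero_comp, zero_add,
    Int.negOnePow_zero, one_smul, ← Category.assoc, ← Category.assoc, whisker_exchange]

/-- `M ⊗ C` computed termwise is the tensor product with `M` in degree `0` -/
noncomputable def singleTensorIso : TCx M C ≅ sgl M ⊗ C :=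
  HomologicalComplex.Hom.isoOfComponents
    (fun n => { hom := sglι M C n, inv := sglπ M C n, hom_inv_id := sglι_sglπ M C n,
                inv_hom_id := sglπ_sglι M C n })
    (fun n n' h => by
      obtain rfl : n + 1 = n' := h
      exact sglι_comm M C n)

end single

section kflatAcyclic

variable {R : Type u} [CommRing R]

/-- if `C` is K-flat and acyclic then `L ⊗ C` is acyclic for every complex `L` -/
lemma acyc_tensor_of_kflat_of_acyc {C : Cx R} (hC : KFlat C) (hCa : Acyc C) (L : Cx R) :
    Acyc (L ⊗ C) := by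
  obtain ⟨L', π, hL', -, hπ, -⟩ := exists_kprojective_resolution L
  have h1 : Acyc (L' ⊗ C) := (kflat_of_isKProjective L').kflatL C hCa
  have h2 : QuasiIso (π ▷ C) := quasiIso_whiskerRight_of_kflat π C hC
  intro i
  exact IsZero.of_iso (h1 i) (asIso (homologyMap (π ▷ C) i)).symm

lemma acyc_TCx_of_kflat_of_acyc {C : Cx R} (hC : KFlat C) (hCa : Acyc C) (M : ModuleCat.{u} R) :
    Acyc (TCx M C) :=
  Acyc.of_iso (singleTensorIso M C).symm (acyc_tensor_of_kflat_of_acyc hC hCa (sgl M))

end kflatAcyclic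

section ext

variable {R A : Type u} [CommRing R] [CommRing A] (φ : R →+* A)

/-- `A` as an `R`-module -/
noncomputable abbrev resA : ModuleCat.{u} R :=
  (ModuleCat.restrictScalars.{u} φ).obj (ModuleCat.of A A)

lemma extendScalars_map_apply {X Y : ModuleCat.{u} R} (l : X ⟶ Y)
    (x : TensorProduct R (resA φ) X) :
    ((ModuleCat.extendScalars.{u, u, u} φ).map l).hom x = (resA φ ◁ l).hom x := by
  induction x using TensorProduct.induction_on with
  | zero => rw [map_zero]; exact (map_zero (resA φ ◁ l).hom).symm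
  | tmul a m => rfl
  | add x y hx hy =>
    have e1 : ((ModuleCat.extendScalars.{u, u, u} φ).map l).hom
        ((x : ((ModuleCat.extendScalars.{u, u, u} φ).obj X)) + y) =
        ((ModuleCat.extendScalars.{u, u, u} φ).map l).hom x +
          ((ModuleCat.extendScalars.{u, u, u} φ).map l).hom y := map_add _ _ _
    have e2 : (resA φ ◁ l).hom (x + y) = (resA φ ◁ l).hom x + (resA φ ◁ l).hom y :=
      map_add _ _ _
    exact e1.trans ((congrArg₂ (· + ·) hx hy).trans e2.symm)

lemma exactAt_extCx_iff (C : Cx R) (n : ℤ) :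
    ((extCx φ).obj C).ExactAt n ↔ (TCx (resA φ) C).ExactAt n := by
  rw [exactAt_iff' _ (n - 1) n (n + 1) (by simp) (by simp),
    exactAt_iff' _ (n - 1) n (n + 1) (by simp) (by simp),
    ShortComplex.ShortExact.moduleCat_exact_iff_function_exact,
    ShortComplex.ShortExact.moduleCat_exact_iff_function_exact]
  have h1 : ∀ x, ((ModuleCat.extendScalars.{u, u, u} φ).map (C.d (n - 1) n)).hom x =
      (resA φ ◁ C.d (n - 1) n).hom x := extendScalars_map_apply φ _
  have h2 : ∀ x, ((ModuleCat.extendScalars.{u, u, u} φ).map (C.d n (n + 1))).hom x =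
      (resA φ ◁ C.d n (n + 1)).hom x := extendScalars_map_apply φ _
  constructor
  · intro h y
    have := h y
    constructor
    · intro hy
      obtain ⟨x, hx⟩ := this.1 ((h2 y).trans hy)
      exact ⟨x, (h1 x).symm.trans hx⟩
    · rintro ⟨x, hx⟩
      exact (h2 y).symm.trans (this.2 ⟨x, (h1 x).trans hx⟩)
  · intro h y
    have := h y
    constructor
    · intro hy
      obtain ⟨x, hx⟩ := this.1 ((h2 y).symm.trans hy)
      exact ⟨x, (h1 x).trans hx⟩
    · rintro ⟨x, hx⟩
      exact (h2 y).trans (this.2 ⟨x, (h1 x).symm.trans hx⟩)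

lemma acyc_extCx_of_kflat_of_acyc {C : Cx R} (hC : KFlat C) (hCa : Acyc C) :
    Acyc ((extCx φ).obj C) := by
  intro n
  rw [← exactAt_iff_isZero_homology, exactAt_extCx_iff, exactAt_iff_isZero_homology]
  exact acyc_TCx_of_kflat_of_acyc hC hCa (resA φ) n

open CochainComplex in
/-- extension of scalars preserves quasi-isomorphisms between K-flat complexes -/
lemma quasiIso_extCx_map_of_kflat {P K : Cx R} (π : P ⟶ K) [QuasiIso π] (hP : KFlat P)
    (hK : KFlat K) : QuasiIso ((extCx φ).map π) := by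
  apply quasiIso_of_acyc_cone
  have h1 : Acyc (mappingCone π) := acyc_cone_of_quasiIso π
  have h2 : KFlat (mappingCone π) := KFlat.cone π hP hK
  exact Acyc.of_iso (mappingCone.mapHomologicalComplexIso π (ModuleCat.extendScalars.{u, u, u} φ))
    (acyc_extCx_of_kflat_of_acyc φ h2 h1)

/-- the comparison from derived to termwise base change is an isomorphism on K-flat complexes -/
theorem isIso_baseCmp_of_kflat [HasLBase φ] (K : Cx R) (hK : KFlat K) :
    IsIso ((baseCmp φ).app K) := by
  obtain ⟨P, π, hP, -, hπ, -⟩ := exists_kprojective_resolution K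
  have hPf : KFlat P := kflat_of_isKProjective P
  have e := (baseCmp φ).naturality π
  have h1 : IsIso ((baseCmp φ).app P) := isIso_baseCmp_of_isKProjective φ P
  have h2 : IsIso ((Q ⋙ LBase φ).map π) := by
    have : IsIso (Q.map π) := (DerivedCategory.isIso_Q_map_iff_quasiIso (φ := π)).2 hπ
    exact Functor.map_isIso (LBase φ) _
  have h3 : IsIso ((extCx φ ⋙ Q).map π) := by
    have hq := quasiIso_extCx_map_of_kflat φ π hPf hK
    exact (DerivedCategory.isIso_Q_map_iff_quasiIso (φ := (extCx φ).map π)).2 hq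
  have h4 : (baseCmp φ).app K =
      inv ((Q ⋙ LBase φ).map π) ≫ (baseCmp φ).app P ≫ (extCx φ ⋙ Q).map π := by
    rw [IsIso.eq_inv_comp]
    exact e
  rw [h4]
  infer_instance

end ext

end Groth.Agent.Lib.Helper1.DT
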