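import Mathlib
import Groth.Agent.Lib.Helper1KF9
set_option backward.isDefEq.respectTransparency.types false

/-!
# Bounded above complexes of flat modules are K-flat (helper1, K-flat cluster, part 12)

* `acyc_tensor_of_nullHomotopic`: `L ⊗ P` is acyclic as soon as all chain maps from `P` to the
  duals `Hom(L, J)[-n]` (`J` injective) are null-homotopic.
* `nullHomotopic_of_lifting`: descending construction of a null-homotopy on a bounded above complex.
* `kflat_of_boundedAbove_flat`.
-/

set_option autoImplicit false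
universe u
open CategoryTheory CategoryTheory.Limits MonoidalCategory HomologicalComplex

namespace Groth.Agent.Lib.Helper1.KF

variable {R : Type u} [CommRing R]

theorem acyc_tensor_of_nullHomotopic (L P : Cx R)
    (H : ∀ (J : ModuleCat.{u} R) [Injective J] (n : ℤ) (ψ : P ⟶ dualCx L J n),
      Nonempty (Homotopy ψ 0)) : Acyc (L ⊗ P) := by
  intro n
  rw [← exactAt_iff_isZero_homology, exactAt_iff' _ (n - 1) n (n + 1) (by simp) (by simp)]
  apply exact_of_injective_test
  intro J _ φ hφ
  change (L ⊗ P).X n ⟶ J at φ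
  have hφ' : (L ⊗ P).d (n - 1) n ≫ φ = 0 := hφ
  let ψ := toDual φ (n - 1) (by omega) hφ'
  obtain ⟨h⟩ := H J n ψ
  refine ⟨mapBifunctorDesc (K₁ := L) (K₂ := P) (F := curriedTensor _) (c := ComplexShape.up ℤ)
    (fun p q' hpq => chiComp h p q' hpq), ?_⟩
  apply tensor_hom_ext
  intro p q hpq
  obtain rfl : p = n - q := by omega
  have e1 : ιTensorObj L P (n - q) q n hpq ≫ φ = MonoidalClosed.uncurry (ψ.f q) := by
    rw [toDual_f, MonoidalClosed.uncurry_curry]
  have e2 := h.comm q
  rw [dNext_eq _ (show (ComplexShape.up ℤ).Rel q (q+1) from rfl),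
    prevD_eq _ (show (ComplexShape.up ℤ).Rel (q-1) q by simp), HomologicalComplex.zero_f,
    add_zero] at e2
  have e3 : MonoidalClosed.uncurry (ψ.f q) =
      (L.X (n - q) ◁ P.d q (q + 1)) ≫ MonoidalClosed.uncurry (h.hom (q + 1) q) +
      (n - (q - 1)).negOnePow • (L.d (n - q) (n - (q - 1)) ▷ P.X q) ≫
        MonoidalClosed.uncurry (h.hom q (q - 1)) := by
    rw [e2]
    refine (uncurry_add' _ _).trans ?_
    congr 1
    · exact MonoidalClosed.uncurry_natural_left _ _
    · rw [dualCx_d L J n (q - 1) q (by omega)]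
      exact uncurry_comp_smul_pre _ _ _
  rw [e1, e3]
  show _ = ιTensorObj L P (n - q) q n hpq ≫ (L ⊗ P).d n (n + 1) ≫ _
  rw [← Category.assoc, ι_tensor_d L P (n - q) q n hpq (n - (q - 1)) (q + 1) (n + 1) (by omega)
    rfl rfl, Preadditive.add_comp, Category.assoc, Linear.units_smul_comp, Category.assoc]
  erw [ι_mapBifunctorDesc, ι_mapBifunctorDesc]
  rw [chiComp_eq h (n - (q - 1)) q _ (q - 1) (by omega) rfl,
    chiComp_eq h (n - q) (q + 1) _ q rfl rfl]
  simp only [XIsoOfEq_rfl, Iso.refl_hom, id_whiskerRight, Category.id_comp, Linear.comp_units_smul,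
    smul_smul, Int.units_mul_self, one_smul]
  exact add_comm _ _

section descending

variable {C : Type*} [Category C] [Preadditive C] {P D : CochainComplex C ℤ} (ψ : P ⟶ D) (b : ℤ)

open Classical in
/-- one step of the descending construction -/
noncomputable def descStep (q r : ℤ) (h' : P.X (q + 1) ⟶ D.X q) : P.X q ⟶ D.X r :=
  if hc : ∃ h : P.X q ⟶ D.X r, h ≫ D.d r q = ψ.f q - P.d q (q + 1) ≫ h' then hc.choose else 0

lemma descStep_spec (q r : ℤ) (h' : P.X (q + 1) ⟶ D.X q)
    (hc : ∃ h : P.X q ⟶ D.X r, h ≫ D.d r q = ψ.f q - P.d q (q + 1) ≫ h') :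
    descStep ψ q r h' ≫ D.d r q = ψ.f q - P.d q (q + 1) ≫ h' := by
  unfold descStep
  rw [dif_pos hc]
  exact hc.choose_spec

/-- the descending sequence of maps -/
noncomputable def descSeq (q r : ℤ) : P.X q ⟶ D.X r :=
  if hq : b < q then 0 else descStep ψ q r (descSeq (q + 1) q)
termination_by (b + 1 - q).toNat
decreasing_by omega

lemma descSeq_of_lt (q r : ℤ) (hq : b < q) : descSeq ψ b q r = 0 := by
  rw [descSeq, dif_pos hq]

lemma descSeq_of_le (q r : ℤ) (hq : q ≤ b) :
    descSeq ψ b q r = descStep ψ q r (descSeq ψ b (q + 1) q) := by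
  rw [descSeq, dif_neg (by omega)]

variable (hb : ∀ q : ℤ, b < q → IsZero (P.X q))
  (hlift : ∀ (q r : ℤ) (_ : r + 1 = q) (g : P.X q ⟶ D.X q), g ≫ D.d q (q + 1) = 0 →
    ∃ h : P.X q ⟶ D.X r, h ≫ D.d r q = g)

include hb hlift in
lemma descSeq_comm_aux (k : ℕ) : ∀ (q r : ℤ), q + k = b → r + 1 = q →
    ψ.f q = P.d q (q + 1) ≫ descSeq ψ b (q + 1) q + descSeq ψ b q r ≫ D.d r q := by
  induction k with
  | zero =>
    intro q r hq hr
    obtain rfl : q = b := by simpa using hq
    rw [descSeq_of_le ψ q q r le_rfl, descSeq_of_lt ψ q (q + 1) q (by omega), descStep_spec]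
    · simp
    · apply hlift q r hr
      simp only [comp_zero, sub_zero]
      rw [ψ.comm, (hb (q + 1) (by omega)).eq_of_src (ψ.f (q + 1)) 0, comp_zero]
  | succ k ih =>
    intro q r hq hr
    have h1 := ih (q + 1) q (by push_cast at hq; omega) rfl
    rw [descSeq_of_le ψ b q r (by push_cast at hq; omega), descStep_spec]
    · abel
    · apply hlift q r hr
      have h2 : descSeq ψ b (q + 1) q ≫ D.d q (q + 1) =
          ψ.f (q + 1) - P.d (q + 1) (q + 1 + 1) ≫ descSeq ψ b (q + 1 + 1) (q + 1) :=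
        eq_sub_of_add_eq' h1.symm
      rw [Preadditive.sub_comp, Category.assoc, h2, Preadditive.comp_sub,
        P.d_comp_d_assoc, zero_comp, sub_zero, ψ.comm, sub_self]

include hb hlift in
lemma descSeq_comm (q r : ℤ) (hr : r + 1 = q) :
    ψ.f q = P.d q (q + 1) ≫ descSeq ψ b (q + 1) q + descSeq ψ b q r ≫ D.d r q := by
  by_cases hq : b < q
  · exact (hb q hq).eq_of_src _ _
  · exact descSeq_comm_aux ψ b hb hlift (b - q).toNat q r (by omega) hr

include hb hlift in
/-- a chain map from a bounded above complex `P` to a complex `D` such that every `P.X q` lifts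
against the differentials of `D` is null-homotopic -/
theorem nullHomotopic_of_lifting : Nonempty (Homotopy ψ 0) := by
  classical
  refine ⟨{ hom := fun q r => if r + 1 = q then descSeq ψ b q r else 0
            zero := fun q r h => if_neg h
            comm := fun q => ?_ }⟩
  rw [dNext_eq _ (show (ComplexShape.up ℤ).Rel q (q+1) from rfl),
    prevD_eq _ (show (ComplexShape.up ℤ).Rel (q-1) q by simp), HomologicalComplex.zero_f,
    add_zero, if_pos rfl, if_pos (by omega)]
  exact descSeq_comm ψ b hb hlift q (q - 1) (by omega)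

end descending

section flat

variable {J : ModuleCat.{u} R}

lemma lifting_aux [Injective J] {A B C F : ModuleCat.{u} R} (d₁ : A ⟶ B) (d₂ : B ⟶ C)
    (w : d₁ ▷ F ≫ d₂ ▷ F = 0) (hex : (ShortComplex.mk (d₁ ▷ F) (d₂ ▷ F) w).Exact) (ε₁ ε₂ : ℤˣ)
    (g : F ⟶ (ihom B).obj J) (hg : g ≫ (ε₁ • (MonoidalClosed.pre d₁).app J) = 0) :
    ∃ h : F ⟶ (ihom C).obj J, h ≫ (ε₂ • (MonoidalClosed.pre d₂).app J) = g := by
  have h0 : d₁ ▷ F ≫ MonoidalClosed.uncurry g = 0 := by
    have h1 := congrArg MonoidalClosed.uncurry hg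
    rw [uncurry_comp_smul_pre] at h1
    have h2 : MonoidalClosed.uncurry (0 : F ⟶ (ihom A).obj J) = 0 := by
      apply MonoidalClosed.curry_injective
      rw [MonoidalClosed.curry_uncurry]
      exact ((ihom.adjunction A).homAddEquiv_zero _ _).symm
    rw [h2] at h1
    exact (smul_eq_zero_iff_eq _).mp h1
  refine ⟨ε₂ • MonoidalClosed.curry (hex.descToInjective (MonoidalClosed.uncurry g) h0), ?_⟩
  apply MonoidalClosed.uncurry_injective
  rw [uncurry_comp_smul_pre, uncurry_units_smul, MonoidalClosed.uncurry_curry,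
    Linear.comp_units_smul, smul_smul, Int.units_mul_self, one_smul]
  exact hex.comp_descToInjective _ _

lemma dualCx_lifting (L : Cx R) (hL : Acyc L) [Injective J] (n : ℤ) (F : ModuleCat.{u} R)
    [Module.Flat R F] (q r : ℤ) (hr : r + 1 = q) (g : F ⟶ (dualCx L J n).X q)
    (hg : g ≫ (dualCx L J n).d q (q + 1) = 0) :
    ∃ h : F ⟶ (dualCx L J n).X r, h ≫ (dualCx L J n).d r q = g := by
  obtain rfl : r = q - 1 := by omega
  have hex : (L.sc' (n - (q + 1)) (n - q) (n - (q - 1))).Exact := by
    rw [← exactAt_iff' _ _ _ _ (by simp; omega) (by simp; omega), exactAt_iff_isZero_homology]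
    exact hL _
  have : PreservesFiniteColimits (tensorRight F) := by
    have : (tensorRight F).IsLeftAdjoint := inferInstance
    infer_instance
  have hex' := hex.map (tensorRight F)
  rw [dualCx_d L J n q (q + 1) rfl] at hg
  rw [dualCx_d L J n (q - 1) q (by omega)]
  exact lifting_aux _ _ _ hex' _ _ g hg

theorem kflat_of_boundedAbove_flat (P : Cx R) (b : ℤ) (hb : ∀ q : ℤ, b < q → IsZero (P.X q))
    (hP : ∀ q, Module.Flat R (P.X q)) : KFlat P := by
  intro L hL
  apply acyc_tensor_of_nullHomotopic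
  intro J _ n ψ
  refine nullHomotopic_of_lifting ψ b hb (fun q r hr g hg => ?_)
  have := hP q
  exact dualCx_lifting L hL n (P.X q) q r hr g hg

end flat

end Groth.Agent.Lib.Helper1.KF
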