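import Mathlib
import Groth.Prelude.Def_DRing4
import Groth.Agent.Lib.Helper10RHomCx
import Groth.Agent.Lib.Helper1DT5
import Groth.Agent.Lib.Helper1KF12
import Groth.Agent.Lib.Helper17KInj12
import Groth.Agent.S6997
set_option backward.isDefEq.respectTransparency.types false

/-!
# `RHom(E₁, RHom(E₂, K)) ≅ RHom(E₁ ⊗ E₂, K)` for `E₁` K-flat (helper10)
-/

set_option autoImplicit false
universe u
open CategoryTheory CategoryTheory.Limits HomologicalComplex CochainComplex MonoidalCategory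
attribute [local instance] HasDerivedCategory.standard

namespace Groth.Agent.Lib.Helper10.RHomComp

open DerivedCategory Groth.Agent.Lib.Helper1.KF Groth.Agent.Lib.Helper10.TensHom
  Groth.Agent.Lib.Helper10.RHomCx

variable {A : Type u} [CommRing A]

theorem nonempty_RHomCx_comp_iso (E₁ E₂ E₃ : Cx A) [DRing.HasRHomCx E₁] [DRing.HasRHomCx E₂]
    [DRing.HasRHomCx E₃] (hE₁ : KFlatL E₁) (e : E₁ ⊗ E₂ ≅ E₃) (K : Dual.D A) :
    Nonempty ((DRing.RHomCx E₁).obj ((DRing.RHomCx E₂).obj K) ≅ (DRing.RHomCx E₃).obj K) := by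
  obtain ⟨M, ⟨eM⟩⟩ : ∃ M : Cx A, Nonempty (Q.obj M ≅ K) := ⟨_, ⟨Q.objObjPreimageIso K⟩⟩
  obtain ⟨I, ι, hI, hι, -, -⟩ := Groth.Agent.Lib.Helper17.KInj.exists_kInjective_resolution.{u} (ModuleCat.{u} A) M
  haveI := hI
  haveI : IsIso (Q.map ι) := (DerivedCategory.isIso_Q_map_iff_quasiIso _ _).2 hι
  let eK : K ≅ Q.obj I := eM.symm ≪≫ asIso (Q.map ι)
  obtain ⟨P₁, p₁, hP₁, -, hp₁, -⟩ := exists_kprojective_resolution E₁
  obtain ⟨P₂, p₂, hP₂, -, hp₂, -⟩ := exists_kprojective_resolution E₂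
  obtain ⟨P₃, p₃, hP₃, -, hp₃, -⟩ := exists_kprojective_resolution E₃
  haveI := hP₁; haveI := hP₂; haveI := hP₃; haveI := hp₁; haveI := hp₂; haveI := hp₃
  let i1 : (DRing.RHomCx E₂).obj K ≅ Q.obj (DRing.homCx P₂ I) :=
    (DRing.RHomCx E₂).mapIso eK ≪≫ RHomCxObjIso p₂ I
  let i2 : (DRing.RHomCx E₁).obj ((DRing.RHomCx E₂).obj K) ≅
      Q.obj (DRing.homCx P₁ (DRing.homCx P₂ I)) :=
    (DRing.RHomCx E₁).mapIso i1 ≪≫ RHomCxObjIso p₁ (DRing.homCx P₂ I)
  obtain ⟨i3⟩ := Groth.Agent.S6997.result A P₁ P₂ I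
  have hb1 : QuasiIso (p₁ ▷ P₂) := quasiIso_whiskerRight_of_kflat p₁ P₂ (kflat_of_isKProjective P₂)
  have hb2 : QuasiIso (E₁ ◁ p₂) := quasiIso_whiskerLeft_of_kflatL p₂ E₁ hE₁
  haveI : QuasiIso ((p₁ ▷ P₂) ≫ (E₁ ◁ p₂) ≫ e.hom) := inferInstance
  haveI := quasiIso_homCxPre I ((p₁ ▷ P₂) ≫ (E₁ ◁ p₂) ≫ e.hom)
  haveI := quasiIso_homCxPre I p₃
  haveI : IsIso (Q.map (homCxPre ((p₁ ▷ P₂) ≫ (E₁ ◁ p₂) ≫ e.hom) I)) :=
    (DerivedCategory.isIso_Q_map_iff_quasiIso _ _).2 inferInstance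
  haveI : IsIso (Q.map (homCxPre p₃ I)) :=
    (DerivedCategory.isIso_Q_map_iff_quasiIso _ _).2 inferInstance
  let i6 : (DRing.RHomCx E₃).obj K ≅ Q.obj (DRing.homCx P₃ I) :=
    (DRing.RHomCx E₃).mapIso eK ≪≫ RHomCxObjIso p₃ I
  exact ⟨i2 ≪≫ Q.mapIso i3 ≪≫ (asIso (Q.map (homCxPre ((p₁ ▷ P₂) ≫ (E₁ ◁ p₂) ≫ e.hom) I))).symm ≪≫
    asIso (Q.map (homCxPre p₃ I)) ≪≫ i6.symm⟩

section single

open Groth.Agent.Lib.Helper1.DT

lemma kflatL_sgl (M : ModuleCat.{u} A) [Module.Flat A M] : KFlatL (sgl M) := by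
  refine (kflat_of_boundedAbove_flat (sgl M) 0 ?_ ?_).kflatL
  · intro q hq
    exact isZero_single_obj_X (ComplexShape.up ℤ) 0 M q (by omega)
  · intro q
    by_cases hq : q = 0
    · subst hq
      exact Module.Flat.of_linearEquiv (singleObjXSelf (ComplexShape.up ℤ) 0 M).toLinearEquiv
    · haveI : Subsingleton ((sgl M).X q) :=
        ModuleCat.subsingleton_of_isZero (isZero_single_obj_X _ 0 M q hq)
      infer_instance

/-- `M[0] ⊗ N[0] ≅ (M ⊗ N)[0]` -/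
noncomputable def sglTensorSglIso (M N : ModuleCat.{u} A) : sgl M ⊗ sgl N ≅ sgl (M ⊗ N) :=
  (singleTensorIso M (sgl N)).symm ≪≫
    (HomologicalComplex.singleMapHomologicalComplex (tensorLeft M) (ComplexShape.up ℤ) 0).app N

/-- `A_f ⊗ A_g ≃ A_{fg}` -/
noncomputable def awayTensorEquiv (f g : A) :
    TensorProduct A (Localization.Away f) (Localization.Away g) ≃ₗ[A] Localization.Away (f * g) := by
  haveI : IsLocalization.Away (algebraMap A (Localization.Away f) g)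
      (TensorProduct A (Localization.Away f) (Localization.Away g)) :=
    IsLocalization.Away.tensor g (Localization.Away g)
  haveI : IsLocalization.Away (f * g)
      (TensorProduct A (Localization.Away f) (Localization.Away g)) :=
    IsLocalization.Away.mul' (Localization.Away f) _ f g
  exact (IsLocalization.algEquiv (Submonoid.powers (f * g)) _ _).toLinearEquiv

/-- `A_f[0] ⊗ A_g[0] ≅ A_{fg}[0]` -/
noncomputable def sglAwayIso (f g : A) :
    sgl (ModuleCat.of A (Localization.Away f)) ⊗ sgl (ModuleCat.of A (Localization.Away g)) ≅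
      sgl (ModuleCat.of A (Localization.Away (f * g))) :=
  sglTensorSglIso _ _ ≪≫
    (HomologicalComplex.single (ModuleCat.{u} A) (ComplexShape.up ℤ) 0).mapIso
      (awayTensorEquiv f g).toModuleIso

end single

end Groth.Agent.Lib.Helper10.RHomComp
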