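import Mathlib
import Groth.Prelude.Def_DRing2
import Groth.Agent.Lib.Helper1DT2
set_option backward.isDefEq.respectTransparency.types false

/-!
# Maps out of the shifts of the ring in `D(A)` detect cohomology (helper10)

`U i = A[-i]` (the ring placed in cohomological degree `i`).  Maps `U i ⟶ Q Z` vanish iff
`H^i(Z) = 0`; they detect `IsLE`, zero objects and isomorphisms.
-/

set_option autoImplicit false
universe u
open CategoryTheory CategoryTheory.Limits CategoryTheory.Pretriangulated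
attribute [local instance] HasDerivedCategory.standard

namespace Groth.Agent.Lib.Helper10.UnitHom

open DerivedCategory Groth.Agent.Lib.Helper1.KF Groth.Agent.Lib.Helper1.DT

variable {A : Type u} [CommRing A]

/-- the complex `A[-i]` -/
noncomputable abbrev S (A : Type u) [CommRing A] (i : ℤ) : Cx A :=
  (CochainComplex.singleFunctor (ModuleCat.{u} A) i).obj (ModuleCat.of A A)

/-- the object `A[-i]` of `D(A)` -/
noncomputable abbrev U (A : Type u) [CommRing A] (i : ℤ) : Dual.D A :=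
  (DerivedCategory.singleFunctor (ModuleCat.{u} A) i).obj (ModuleCat.of A A)

instance projective_S_X (i n : ℤ) : Projective ((S A i).X n) := by
  by_cases h : n = i
  · subst h
    haveI : Projective (ModuleCat.of A A) :=
      ModuleCat.projective_of_categoryTheory_projective (ModuleCat.of A A)
    exact Projective.of_iso (HomologicalComplex.singleObjXSelf (ComplexShape.up ℤ) n
      (ModuleCat.of A A)).symm inferInstance
  · exact (HomologicalComplex.isZero_single_obj_X (ComplexShape.up ℤ) i (ModuleCat.of A A) n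
      h).projective

instance isKProjective_S (i : ℤ) : (S A i).IsKProjective :=
  CochainComplex.isKProjective_of_projective (S A i) i

noncomputable def UIso (i : ℤ) : U A i ≅ Q.obj (S A i) :=
  (singleFunctorIsoCompQ (ModuleCat.{u} A) i).app (ModuleCat.of A A)

/-- if `Z^i = 0` then every map `A[-i] ⟶ Q Z` vanishes -/
lemma hom_eq_zero_of_isZero (i : ℤ) (Z : Cx A) (h : IsZero (Z.X i)) (φ : U A i ⟶ Q.obj Z) :
    φ = 0 := by
  obtain ⟨g, hg⟩ := Q_map_surjective (S A i) Z ((UIso i).inv ≫ φ)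
  have hg0 : g = 0 := by
    apply HomologicalComplex.from_single_hom_ext
    exact h.eq_of_tgt _ _
  rw [hg0, Functor.map_zero] at hg
  rw [← cancel_epi (UIso (A := A) i).inv, ← hg, comp_zero]

/-- if every map `A[-i] ⟶ Q Z` vanishes then `H^i(Z) = 0` -/
lemma exactAt_of_hom_eq_zero (i : ℤ) (Z : Cx A) (h : ∀ φ : U A i ⟶ Q.obj Z, φ = 0) :
    Z.ExactAt i := by
  rw [Z.exactAt_iff' (i - 1) i (i + 1) (by simp) (by simp), ShortComplex.moduleCat_exact_iff]
  intro (x : Z.X i) (hx : (Z.d i (i + 1)).hom x = 0)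
  let φ₀ : ModuleCat.of A A ⟶ Z.X i := ModuleCat.ofHom (LinearMap.toSpanSingleton A _ x)
  have hφ₀ : ∀ k : ℤ, (ComplexShape.up ℤ).Rel i k → φ₀ ≫ Z.d i k = 0 := by
    intro k hk
    obtain rfl : i + 1 = k := hk
    ext
    simp [φ₀, hx]
  let g : S A i ⟶ Z := HomologicalComplex.mkHomFromSingle φ₀ hφ₀
  have hg : Q.map g = Q.map (0 : S A i ⟶ Z) := by
    rw [Functor.map_zero, ← cancel_epi (UIso (A := A) i).hom, comp_zero]
    exact h _
  obtain ⟨H⟩ := homotopy_of_Q_map_eq (S A i) Z g 0 hg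
  have hc := H.comm i
  rw [dNext_eq H.hom (show (ComplexShape.up ℤ).Rel i (i + 1) from rfl),
    prevD_eq H.hom (show (ComplexShape.up ℤ).Rel (i - 1) i by simp),
    HomologicalComplex.zero_f, add_zero] at hc
  have hd : (S A i).d i (i + 1) = 0 :=
    (HomologicalComplex.isZero_single_obj_X (ComplexShape.up ℤ) i (ModuleCat.of A A) (i + 1)
      (by omega)).eq_of_tgt _ _
  rw [hd, zero_comp, zero_add, HomologicalComplex.mkHomFromSingle_f] at hc
  refine ⟨((HomologicalComplex.singleObjXSelf (ComplexShape.up ℤ) i (ModuleCat.of A A)).inv ≫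
    H.hom i (i - 1)).hom (1 : A), ?_⟩
  obtain ⟨k, hk⟩ : ∃ k : ModuleCat.of A A ⟶ Z.X (i - 1),
      k = (HomologicalComplex.singleObjXSelf (ComplexShape.up ℤ) i (ModuleCat.of A A)).inv ≫
        H.hom i (i - 1) := ⟨_, rfl⟩
  have hc' : φ₀ = k ≫ Z.d (i - 1) i := by
    rw [hk, Category.assoc]
    erw [← hc]
    rw [Iso.inv_hom_id_assoc]
  have h1 : φ₀.hom (1 : A) = x := by simp [φ₀]
  rw [← h1, hc', ← hk]
  rfl

lemma isLE_of_hom_eq_zero (z : ℤ) (Z : Dual.D A)
    (h : ∀ i : ℤ, z < i → ∀ φ : U A i ⟶ Z, φ = 0) : Z.IsLE z := by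
  let Z' := Q.objPreimage Z
  let e : Q.obj Z' ≅ Z := Q.objObjPreimageIso Z
  have : Z'.IsLE z := by
    rw [CochainComplex.isLE_iff]
    intro i hi
    apply exactAt_of_hom_eq_zero
    intro φ
    rw [← cancel_mono e.hom, zero_comp]
    exact h i hi _
  exact TStructure.t.isLE_of_iso e z

lemma hom_eq_zero_of_isLE (z : ℤ) (Z : Dual.D A) [Z.IsLE z] (i : ℤ) (hi : z < i)
    (φ : U A i ⟶ Z) : φ = 0 := by
  obtain ⟨Z', hZ', ⟨e⟩⟩ := Z.exists_iso_Q_obj_of_isLE z
  rw [← cancel_mono e.hom, zero_comp]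
  exact hom_eq_zero_of_isZero i Z' (Z'.isZero_of_isStrictlyLE z i hi) _

lemma isZero_of_hom_eq_zero (Z : Dual.D A) (h : ∀ i : ℤ, ∀ φ : U A i ⟶ Z, φ = 0) : IsZero Z := by
  let Z' := Q.objPreimage Z
  let e : Q.obj Z' ≅ Z := Q.objObjPreimageIso Z
  have hacyc : Z'.Acyclic := by
    intro i
    apply exactAt_of_hom_eq_zero
    intro φ
    rw [← cancel_mono e.hom, zero_comp]
    exact h i _
  have h1 : CochainComplex.IsLE Z' 0 := by
    rw [CochainComplex.isLE_iff]
    exact fun i _ => hacyc i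
  have h2 : CochainComplex.IsGE Z' 1 := by
    rw [CochainComplex.isGE_iff]
    exact fun i _ => hacyc i
  have : (Q.obj Z').IsLE 0 := (DerivedCategory.isLE_Q_obj_iff _ _).2 h1
  have : (Q.obj Z').IsGE 1 := (DerivedCategory.isGE_Q_obj_iff _ _).2 h2
  exact (TStructure.t.isZero (Q.obj Z') 0 1 (by simp)).of_iso e.symm

/-- `A[-(i+1)] ≅ A[-i]⟦-1⟧` -/
noncomputable def UShiftIso (i : ℤ) : (U A i)⟦(-1 : ℤ)⟧ ≅ U A (i + 1) :=
  ((DerivedCategory.singleFunctors (ModuleCat.{u} A)).shiftIso (-1) (i + 1) i (by omega)).app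
    (ModuleCat.of A A)

/-- a map in `D(A)` which induces bijections on maps out of all `A[-i]` is an isomorphism -/
theorem isIso_of_bijective {X Y : Dual.D A} (f : X ⟶ Y)
    (h : ∀ i : ℤ, Function.Bijective (fun φ : U A i ⟶ X => φ ≫ f)) : IsIso f := by
  obtain ⟨C, g, k, hT⟩ := distinguished_cocone_triangle f
  have hinj : ∀ (i : ℤ) (ξ : U A i ⟶ X⟦(1 : ℤ)⟧), ξ ≫ f⟦(1 : ℤ)⟧' = 0 → ξ = 0 := by
    intro i ξ hξ
    have n := (shiftFunctorCompIsoId (Dual.D A) (1 : ℤ) (-1) (by simp)).hom.naturality f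
    dsimp at n
    have h0 : ((UShiftIso i).inv ≫ ξ⟦(-1 : ℤ)⟧' ≫
        (shiftFunctorCompIsoId (Dual.D A) (1 : ℤ) (-1) (by simp)).hom.app X) ≫ f = 0 := by
      rw [Category.assoc, Category.assoc, ← n, ← Functor.map_comp_assoc, hξ, Functor.map_zero,
        zero_comp, comp_zero]
    have h1 : (UShiftIso i).inv ≫ ξ⟦(-1 : ℤ)⟧' ≫
        (shiftFunctorCompIsoId (Dual.D A) (1 : ℤ) (-1) (by simp)).hom.app X = 0 :=
      (h (i + 1)).1 (by simpa using h0)
    have h2 : ξ⟦(-1 : ℤ)⟧' = 0 := by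
      rw [← cancel_epi (UShiftIso (A := A) i).inv,
        ← cancel_mono ((shiftFunctorCompIsoId (Dual.D A) (1 : ℤ) (-1) (by simp)).hom.app X),
        Category.assoc, h1, comp_zero, zero_comp]
    exact (CategoryTheory.shiftFunctor (Dual.D A) (-1 : ℤ)).map_injective
      (by rw [h2, Functor.map_zero])
  have hC : IsZero C := by
    apply isZero_of_hom_eq_zero
    intro i φ
    have h1 : φ ≫ k = 0 := by
      apply hinj
      rw [Category.assoc]
      have : k ≫ f⟦(1 : ℤ)⟧' = 0 := comp_distTriang_mor_zero₃₁ _ hT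
      rw [this, comp_zero]
    obtain ⟨ψ, hψ⟩ : ∃ ψ : U A i ⟶ Y, φ = ψ ≫ g := Triangle.coyoneda_exact₃ _ hT φ h1
    obtain ⟨χ, hχ⟩ : ∃ χ : U A i ⟶ X, χ ≫ f = ψ := (h i).2 ψ
    have hfg : f ≫ g = 0 := comp_distTriang_mor_zero₁₂ _ hT
    rw [hψ, ← hχ, Category.assoc, hfg, comp_zero]
  exact (Triangle.isZero₃_iff_isIso₁ _ hT).1 hC

end Groth.Agent.Lib.Helper10.UnitHom
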