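import Mathlib
import Groth.Prelude.Def_DRing4
import Groth.Agent.Lib.Helper10DCAdj
import Groth.Agent.Lib.Helper10UnitHom
import Groth.Agent.Lib.Helper10RHomComp
set_option backward.isDefEq.respectTransparency.types false

/-!
# `f`-local complexes versus derived `f`-complete objects (helper10)

If `f` acts invertibly on the complex `X` and `E ∈ D(A)` is derived `f`-complete, then
`Hom_{D(A)}(X, E) = 0`.
-/

set_option autoImplicit false
universe u
open CategoryTheory CategoryTheory.Limits HomologicalComplex CochainComplex MonoidalCategory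
attribute [local instance] HasDerivedCategory.standard

namespace Groth.Agent.Lib.Helper10.DCLoc

open DerivedCategory Groth.Agent.Lib.Helper1.KF Groth.Agent.Lib.Helper1.DT
  Groth.Agent.Lib.Helper10.TensHom Groth.Agent.Lib.Helper10.TensHomD
  Groth.Agent.Lib.Helper10.DCAdj Groth.Agent.Lib.Helper10.UnitHom

variable {A : Type u} [CommRing A]

/-- derived `f`-completeness of an object of `D(A)` -/
def FC (f : A) (E : Dual.D A) : Prop :=
  ∀ n : ℤ, Subsingleton (Dual.inD A (Localization.Away f) ⟶ E⟦n⟧)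

lemma FC.of_iso {f : A} {E E' : Dual.D A} (h : FC f E) (e : E ≅ E') : FC f E' := fun n =>
  haveI := h n
  (((CategoryTheory.shiftFunctor (Dual.D A) n).mapIso e).homToEquiv
    (Z := Dual.inD A (Localization.Away f))).symm.subsingleton

lemma FC.shift {f : A} {E : Dual.D A} (h : FC f E) (m : ℤ) : FC f (E⟦m⟧) := fun n =>
  haveI := h (m + n)
  (((CategoryTheory.shiftFunctorAdd' (Dual.D A) m n (m + n) rfl).app E).homToEquiv
    (Z := Dual.inD A (Localization.Away f))).symm.subsingleton

/-- `X ◁ π` is a quasi-isomorphism if `π` is a quasi-isomorphism between K-flat complexes -/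
lemma quasiIso_whiskerLeft_of_kflat {P L : Cx A} (π : P ⟶ L) [QuasiIso π] (hP : KFlat P)
    (hL : KFlat L) (X : Cx A) : QuasiIso (X ◁ π) := by
  obtain ⟨X', q, hX', -, hq, -⟩ := exists_kprojective_resolution X
  have h1 : QuasiIso (X' ◁ π) :=
    quasiIso_whiskerLeft_of_kflatL π X' (kflat_of_isKProjective X').kflatL
  have h2 : QuasiIso (q ▷ P) := quasiIso_whiskerRight_of_kflat q P hP
  have h3 : QuasiIso (q ▷ L) := quasiIso_whiskerRight_of_kflat q L hL
  have e : (q ▷ P) ≫ (X ◁ π) = (X' ◁ π) ≫ (q ▷ L) := (whisker_exchange q π).symm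
  have h4 : QuasiIso ((q ▷ P) ≫ (X ◁ π)) := by rw [e]; infer_instance
  exact quasiIso_of_comp_left (q ▷ P) (X ◁ π)

section Away

variable (f : A)

/-- the natural map `M ⟶ A_f ⊗ M` -/
noncomputable def awayUnit :
    𝟭 (ModuleCat.{u} A) ⟶ tensorLeft (ModuleCat.of A (Localization.Away f)) where
  app M := (λ_ M).inv ≫ (ModuleCat.ofHom (Algebra.linearMap A (Localization.Away f)) ▷ M)
  naturality M N g := by
    dsimp
    rw [← Category.assoc, leftUnitor_inv_naturality, Category.assoc, Category.assoc,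
      whisker_exchange]

lemma awayUnit_app_apply (M : ModuleCat.{u} A) (m : M) :
    ((awayUnit f).app M).hom m = (1 : Localization.Away f) ⊗ₜ[A] m := by
  change ((λ_ M).inv ≫ (ModuleCat.ofHom (Algebra.linearMap A (Localization.Away f)) ▷ M)).hom m = _
  rw [ModuleCat.hom_comp, LinearMap.comp_apply]
  erw [ModuleCat.MonoidalCategory.leftUnitor_inv_apply]
  erw [ModuleCat.MonoidalCategory.whiskerRight_apply]
  simp

lemma bijective_of_isLocalizedModule_powers {M N : Type*} [AddCommGroup M] [Module A M]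
    [AddCommGroup N] [Module A N] (g : M →ₗ[A] N) [IsLocalizedModule (Submonoid.powers f) g]
    (hf : Function.Bijective (fun m : M => f • m)) : Function.Bijective g := by
  have hs : ∀ s : Submonoid.powers f, Function.Bijective (fun m : M => s • m) := by
    rintro ⟨s, n, rfl⟩
    induction n with
    | zero =>
      have : (fun m : M => (⟨f ^ 0, 0, rfl⟩ : Submonoid.powers f) • m) = _root_.id := by
        funext m
        change f ^ 0 • m = m
        rw [pow_zero, one_smul]
      rw [this]
      exact Function.bijective_id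
    | succ n ih =>
      have : (fun m : M => (⟨f ^ (n + 1), n + 1, rfl⟩ : Submonoid.powers f) • m) =
          (fun m : M => f • m) ∘ (fun m : M => (⟨f ^ n, n, rfl⟩ : Submonoid.powers f) • m) := by
        funext m
        change f ^ (n + 1) • m = f • (f ^ n • m)
        rw [pow_succ', mul_smul]
      rw [this]
      exact hf.comp ih
  constructor
  · intro m m' h
    obtain ⟨s, hs'⟩ := (IsLocalizedModule.eq_iff_exists (Submonoid.powers f) g).1 h
    exact (hs s).1 hs'
  · intro y
    obtain ⟨⟨m, s⟩, h⟩ := IsLocalizedModule.surj (Submonoid.powers f) g y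
    obtain ⟨m', rfl⟩ := (hs s).2 m
    refine ⟨m', ?_⟩
    apply IsLocalizedModule.smul_injective g s
    change s • g m' = s • y
    rw [h]
    exact (map_smul g (s : A) m').symm

/-- the natural map of complexes `X ⟶ A_f ⊗ X` (termwise) -/
noncomputable def toTCx (X : Cx A) : X ⟶ TCx (ModuleCat.of A (Localization.Away f)) X where
  f n := (awayUnit f).app (X.X n)
  comm' i j _ := ((awayUnit f).naturality (X.d i j)).symm

lemma isIso_toTCx (X : Cx A) (hX : IsIso (f • 𝟙 X)) : IsIso (toTCx f X) := by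
  have : ∀ n, IsIso ((toTCx f X).f n) := by
    intro n
    apply (ConcreteCategory.isIso_iff_bijective _).2
    have hn : IsIso ((f • 𝟙 X : X ⟶ X).f n) :=
      (HomologicalComplex.eval _ _ n).map_isIso (f • 𝟙 X)
    have hb := (ConcreteCategory.isIso_iff_bijective _).1 hn
    have hb' : Function.Bijective (fun m : X.X n => f • m) := hb
    have := bijective_of_isLocalizedModule_powers f
      (TensorProduct.mk A (Localization.Away f) (X.X n) 1) hb'
    have e : (⇑(ConcreteCategory.hom ((toTCx f X).f n)) : X.X n → _) =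
        ⇑((TensorProduct.mk A (Localization.Away f) ↑(X.X n)) 1) := by
      funext m
      exact awayUnit_app_apply f (X.X n) m
    rw [e]
    exact this
  exact HomologicalComplex.Hom.isIso_of_components _

end Away

section PieceA

variable (f : A)

/-- hom-sets out of a shifted object -/
noncomputable def shiftHomEquiv (Y E : Dual.D A) (n : ℤ) : (Y⟦-n⟧ ⟶ E) ≃ (Y ⟶ E⟦n⟧) :=
  (shiftEquiv (Dual.D A) n).symm.toAdjunction.homEquiv Y E

variable {Pf : Cx A} [Pf.IsKProjective]
  (π : Pf ⟶ sgl (ModuleCat.of A (Localization.Away f))) [QuasiIso π]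

/-- `Q(P_f) ≅ A_f` in `D(A)` -/
noncomputable def QPfIso : Q.obj Pf ≅ Dual.inD A (Localization.Away f) :=
  haveI : IsIso (Q.map π) := (DerivedCategory.isIso_Q_map_iff_quasiIso _ π).2 inferInstance
  asIso (Q.map π) ≪≫ ((singleFunctorIsoCompQ (ModuleCat.{u} A) 0).app
    (ModuleCat.of A (Localization.Away f))).symm

include π in
lemma subsingleton_U_hom (E : Dual.D A) (hE : FC f E) (i : ℤ) :
    Subsingleton (U A i ⟶ (RP Pf).obj E) := by
  haveI := hE i
  let e₀ : (𝟙_ (Cx A))⟦-i⟧ ≅ S A i :=
    ((CochainComplex.singleFunctors (ModuleCat.{u} A)).shiftIso (-i) i 0 (by omega)).app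
      (ModuleCat.of A A)
  let e₁ : U A i ≅ Q.obj ((𝟙_ (Cx A))⟦-i⟧) := UIso i ≪≫ Q.mapIso e₀.symm
  let e₂ : Q.obj (((𝟙_ (Cx A))⟦-i⟧) ⊗ Pf) ≅ (Dual.inD A (Localization.Away f))⟦-i⟧ :=
    Q.mapIso (tensorShiftLeftIso (𝟙_ (Cx A)) Pf (-i) ≪≫
      (CategoryTheory.shiftFunctor (Cx A) (-i)).mapIso (λ_ Pf)) ≪≫
    (Q.commShiftIso (-i)).app Pf ≪≫
    (CategoryTheory.shiftFunctor (Dual.D A) (-i)).mapIso (QPfIso f π)
  exact (e₁.homFromEquiv.trans ((homEquivLR Pf _ E).symm.trans
    (e₂.homFromEquiv.trans (shiftHomEquiv _ E i)))).subsingleton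

include π in
lemma isZero_RP_of_FC (E : Dual.D A) (hE : FC f E) : IsZero ((RP Pf).obj E) := by
  apply isZero_of_hom_eq_zero
  intro i φ
  haveI := subsingleton_U_hom f π E hE i
  exact Subsingleton.elim _ _

end PieceA

/-- **Key vanishing**: if `f` acts invertibly on the complex `X` and `E` is derived `f`-complete,
then `Hom_{D(A)}(X, E) = 0`. -/
theorem subsingleton_hom_of_isIso_smul (f : A) (X : Cx A) (hX : IsIso (f • 𝟙 X)) (E : Dual.D A)
    (hE : FC f E) : Subsingleton (Q.obj X ⟶ E) := by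
  obtain ⟨Pf, π, hPf, -, hπ, -⟩ :=
    exists_kprojective_resolution (sgl (ModuleCat.of A (Localization.Away f)))
  have hz := isZero_RP_of_FC f π E hE
  haveI : Subsingleton (Q.obj X ⟶ (RP Pf).obj E) := ⟨fun a b => hz.eq_of_tgt a b⟩
  haveI : Subsingleton (Q.obj (X ⊗ Pf) ⟶ E) := (homEquivLR Pf X E).subsingleton
  have hq : QuasiIso (X ◁ π) := quasiIso_whiskerLeft_of_kflat π (kflat_of_isKProjective Pf)
    (Groth.Agent.Lib.Helper10.RHomComp.kflatL_sgl _).kflat X
  haveI : IsIso (Q.map (X ◁ π)) := (isIso_Q_map_iff_quasiIso _ _).2 hq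
  haveI := isIso_toTCx f X hX
  let e : Q.obj (X ⊗ Pf) ≅ Q.obj X := asIso (Q.map (X ◁ π)) ≪≫
    Q.mapIso (swapIso X (sgl _) ≪≫ (singleTensorIso _ X).symm ≪≫ (asIso (toTCx f X)).symm)
  exact e.homFromEquiv.symm.subsingleton

end Groth.Agent.Lib.Helper10.DCLoc
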