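import Mathlib
import Groth.Prelude.Def_DRing4
import Groth.Agent.Lib.Helper10DCLoc
import Groth.Agent.Lib.Helper10DistPair
import Groth.Agent.Lib.Helper1ExtCech4
import Groth.Agent.Lib.Helper17KInj12
set_option backward.isDefEq.respectTransparency.types false

/-!
# `RHom(Č, -)` is the derived completion: the chain-level core (helper10)
-/

set_option autoImplicit false
universe u
open CategoryTheory CategoryTheory.Limits HomologicalComplex CochainComplex MonoidalCategory
attribute [local instance] HasDerivedCategory.standard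

namespace Groth.Agent.Lib.Helper10.DCCech

open DerivedCategory Groth.Agent.Lib.Helper1.KF Groth.Agent.Lib.Helper1.DT
  Groth.Agent.Lib.Helper10.TensHom Groth.Agent.Lib.Helper10.TensHomD
  Groth.Agent.Lib.Helper10.DCAdj Groth.Agent.Lib.Helper10.DCLoc
  Groth.Agent.Lib.Helper10.DistPair HomComplex

variable {A : Type u} [CommRing A]

section Cocone

variable {K L : Cx A} (φ : K ⟶ L)

/-- the cochain underlying `mappingCocone.inr` -/
noncomputable def inrC : Cochain L (mappingCocone φ) 1 := (mappingCocone.inr φ).1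

lemma inrC_v_fst_f (p q : ℤ) (hpq : p + 1 = q) :
    (inrC φ).v p q hpq ≫ (mappingCocone.fst φ).f q = 0 := mappingCocone.inr_v_fst_f φ p q hpq

lemma inrC_v_snd_v (p q : ℤ) (hpq : p + 1 = q) :
    (inrC φ).v p q hpq ≫ (mappingCocone.snd φ).v q p (by omega) = 𝟙 _ :=
  mappingCocone.inr_v_snd_v φ p q hpq

lemma id_X' (p q : ℤ) (hpq : p + -1 = q) :
    (mappingCocone.fst φ).f p ≫ (mappingCocone.inl φ).v p p (add_zero p) +
      (mappingCocone.snd φ).v p q hpq ≫ (inrC φ).v q p (by omega) = 𝟙 _ :=
  mappingCocone.id_X φ p q hpq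

/-- the inclusion `L⟦-1⟧ ⟶ mappingCocone φ` -/
noncomputable def coconeι : L⟦(-1 : ℤ)⟧ ⟶ mappingCocone φ :=
  Cocycle.homOf ((mappingCocone.inr φ).leftShift (-1) 0 (by omega))

lemma coconeι_f (p : ℤ) :
    (coconeι φ).f p = -(inrC φ).v (p + -1) p (by omega) := by
  change ((inrC φ).leftShift (-1) 0 (by omega)).v p p (add_zero p) = _
  rw [Cochain.leftShift_v _ (-1) 0 (by omega) p p (add_zero p) (p + -1) (by omega)]
  have : ((-1 : ℤ) * 0 + ((-1 : ℤ) * (-1 - 1)) / 2).negOnePow = -1 := by
    norm_num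
  rw [this]
  simp only [shiftFunctorObjXIso, HomologicalComplex.XIsoOfEq_rfl, Iso.refl_hom]
  erw [Category.id_comp]
  simp only [Units.neg_smul, one_smul]
  rfl

/-- the degreewise split short exact sequence `0 ⟶ L⟦-1⟧ ⟶ mappingCocone φ ⟶ K ⟶ 0` -/
noncomputable def coconeSC : ShortComplex (Cx A) :=
  ShortComplex.mk (coconeι φ) (mappingCocone.fst φ) (by
    refine HomologicalComplex.hom_ext _ _ (fun p => ?_)
    rw [HomologicalComplex.comp_f, coconeι_f, HomologicalComplex.zero_f]
    exact (Preadditive.neg_comp _ _).trans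
      ((congrArg Neg.neg (inrC_v_fst_f φ (p + -1) p (by omega))).trans neg_zero))

noncomputable def coconeSplitting (n : ℤ) :
    ((coconeSC φ).map (HomologicalComplex.eval _ _ n)).Splitting where
  r := -(mappingCocone.snd φ).v n (n + -1) rfl
  s := (mappingCocone.inl φ).v n n (add_zero n)
  f_r := by
    change (coconeι φ).f n ≫ (-(mappingCocone.snd φ).v n (n + -1) rfl) = 𝟙 _
    rw [coconeι_f]
    exact (Preadditive.neg_comp _ _).trans ((congrArg Neg.neg (Preadditive.comp_neg _ _)).trans
      ((neg_neg _).trans (inrC_v_snd_v φ (n + -1) n (by omega))))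
  s_g := mappingCocone.inl_v_fst_f φ n
  id := by
    change (-(mappingCocone.snd φ).v n (n + -1) rfl) ≫ (coconeι φ).f n +
      (mappingCocone.fst φ).f n ≫ (mappingCocone.inl φ).v n n (add_zero n) = 𝟙 _
    rw [coconeι_f, Preadditive.neg_comp, Preadditive.comp_neg, neg_neg, add_comm]
    exact id_X' φ n (n + -1) rfl

lemma isDistPair_homCxPre_cocone (Y : Cx A) :
    IsDistPair (Q.map (homCxPre (mappingCocone.fst φ) Y)) (Q.map (homCxPre (coconeι φ) Y)) := by
  have hS := homCxPre_shortExact (coconeSC φ) (coconeSplitting φ) Y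
  exact isDistPair_of_distTriang _ (triangleOfSES_distinguished hS)

end Cocone

section LES

open Pretriangulated

/-- if the third vertex of a distinguished triangle has no maps to `E` and `E⟦1⟧`, then
precomposition with the first map is bijective on `Hom(-, E)` -/
lemma bijective_precomp_of_isDistPair {X Y Z : Dual.D A} {φ : X ⟶ Y} {g : Y ⟶ Z}
    (h : IsDistPair φ g) (E : Dual.D A) (h0 : Subsingleton (Z ⟶ E))
    (h1 : Subsingleton (Z ⟶ E⟦(1 : ℤ)⟧)) :
    Function.Bijective (fun ψ : Y ⟶ E => φ ≫ ψ) := by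
  constructor
  · intro ψ ψ' hψ
    have h2 : φ ≫ (ψ - ψ') = 0 := by
      rw [Preadditive.comp_sub]
      exact sub_eq_zero.2 hψ
    obtain ⟨y, hy⟩ := h.coexact (ψ - ψ') h2
    have : y = 0 := Subsingleton.elim _ _
    rw [this, comp_zero] at hy
    exact (sub_eq_zero.1 hy.symm)
  · intro χ
    obtain ⟨k, hk⟩ := h
    have hT := inv_rot_of_distTriang _ hk
    have hz : (Triangle.mk φ g k).invRotate.mor₁ ≫ χ = 0 :=
      (shiftHomEquiv Z E 1).injective (Subsingleton.elim _ _)
    obtain ⟨ψ, hψ⟩ := Triangle.yoneda_exact₂ _ hT χ hz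
    exact ⟨ψ, hψ.symm⟩

end LES

section Induction

open Groth.Agent.Lib.Helper1.ExtCech4

lemma homCxPre_id (X Y : Cx A) : homCxPre (𝟙 X) Y = 𝟙 _ := by
  ext n : 1
  ext z
  refine Cochain.ext _ _ (fun p q hpq => ?_)
  erw [homCxPre_f_apply_v]
  simp

/-- termwise bijectivity of `f` gives an automorphism `f • 𝟙` -/
lemma isIso_smul_of_termwise (f : A) (M : Cx A)
    (h : ∀ n, Function.Bijective (fun x : M.X n => f • x)) : IsIso (f • 𝟙 M) := by
  have : ∀ n, IsIso ((f • 𝟙 M : M ⟶ M).f n) := by
    intro n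
    apply (ConcreteCategory.isIso_iff_bijective _).2
    exact h n
  exact HomologicalComplex.Hom.isIso_of_components _

lemma termwise_of_isIso_smul (f : A) (M : Cx A) (h : IsIso (f • 𝟙 M)) (n : ℤ) :
    Function.Bijective (fun x : M.X n => f • x) := by
  have hn : IsIso ((f • 𝟙 M : M ⟶ M).f n) := (HomologicalComplex.eval _ _ n).map_isIso (f • 𝟙 M)
  exact (ConcreteCategory.isIso_iff_bijective _).1 hn

lemma isIso_smul_shift (f : A) (M : Cx A) (h : IsIso (f • 𝟙 M)) (a : ℤ) :
    IsIso (f • 𝟙 (M⟦a⟧)) :=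
  isIso_smul_of_termwise f _ (fun n => termwise_of_isIso_smul f M h (n + a))

lemma isIso_smul_homCx (f : A) (X Y : Cx A) (h : IsIso (f • 𝟙 X)) :
    IsIso (f • 𝟙 (DRing.homCx X Y)) := by
  have e : f • 𝟙 (DRing.homCx X Y) = homCxPre (f • 𝟙 X) Y := by
    ext n : 1
    ext (z : Cochain X Y n)
    refine Cochain.ext _ _ (fun p q hpq => ?_)
    erw [homCxPre_f_apply_v]
    change (f • z).v p q hpq = _
    simp
  rw [e]
  refine ⟨homCxPre (inv (f • 𝟙 X)) Y, ?_, ?_⟩
  · rw [← homCxPre_comp, IsIso.inv_hom_id, homCxPre_id]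
  · rw [← homCxPre_comp, IsIso.hom_inv_id, homCxPre_id]

lemma isIso_smul_locCx (f : A) (M : Cx A) :
    IsIso (f • 𝟙 ((DerCA.locCx (Submonoid.powers f)).obj M)) := by
  apply isIso_smul_of_termwise
  intro n
  have h := IsLocalizedModule.map_units (S := Submonoid.powers f)
    (LocalizedModule.mkLinearMap (Submonoid.powers f) (M.X n)) ⟨f, 1, pow_one f⟩
  exact (Module.End.isUnit_iff _).1 h

/-- **Induction**: the augmentation `Č(fs) ⟶ A[0]` induces, for every complex `Y`, a map
`Hom•(A[0], Y) ⟶ Hom•(Č(fs), Y)` which becomes bijective after applying `Hom_{D(A)}(-, E)` for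
every `E` derived complete with respect to the elements of `fs`. -/
theorem bijective_precomp_aug (Y : Cx A) : ∀ (fs : List A) (E : Dual.D A), (∀ g ∈ fs, FC g E) →
    Function.Bijective (fun ψ : Q.obj (DRing.homCx (DerCA.extCech (ModuleCat.of A A) fs) Y) ⟶ E =>
      Q.map (homCxPre (aug (ModuleCat.of A A) fs) Y) ≫ ψ)
  | [], E, _ => by
    have e : homCxPre (aug (ModuleCat.of A A) []) Y =
        𝟙 (DRing.homCx (DerCA.extCech (ModuleCat.of A A) []) Y) := homCxPre_id _ Y
    have : (fun ψ : Q.obj (DRing.homCx (DerCA.extCech (ModuleCat.of A A) []) Y) ⟶ E =>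
      Q.map (homCxPre (aug (ModuleCat.of A A) []) Y) ≫ ψ) = _root_.id := by
      funext ψ
      have e' : Q.map (homCxPre (aug (ModuleCat.of A A) []) Y) =
          𝟙 (Q.obj (DRing.homCx (DerCA.extCech (ModuleCat.of A A) []) Y)) := by
        rw [e]
        exact Q.map_id _
      exact (congrArg (fun x => x ≫ ψ) e').trans (Category.id_comp ψ)
    rw [this]
    exact Function.bijective_id
  | f :: fs, E, hE => by
    have ih := bijective_precomp_aug Y fs E (fun g hg => hE g (List.mem_cons_of_mem _ hg))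
    have hf : FC f E := hE f (List.mem_cons_self)
    obtain ⟨u, hu⟩ : ∃ u : DerCA.extCech (ModuleCat.of A A) fs ⟶
        (DerCA.locCx (Submonoid.powers f)).obj (DerCA.extCech (ModuleCat.of A A) fs),
        u = DerCA.locCxUnit (Submonoid.powers f) (DerCA.extCech (ModuleCat.of A A) fs) := ⟨_, rfl⟩
    have hloc : IsIso (f • 𝟙 (DRing.homCx
        (((DerCA.locCx (Submonoid.powers f)).obj
          (DerCA.extCech (ModuleCat.of A A) fs))⟦(-1 : ℤ)⟧) Y)) :=
      isIso_smul_homCx f _ Y (isIso_smul_shift f _ (isIso_smul_locCx f _) (-1))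
    have hb := bijective_precomp_of_isDistPair (isDistPair_homCxPre_cocone u Y) E
      (subsingleton_hom_of_isIso_smul f _ hloc E hf)
      (subsingleton_hom_of_isIso_smul f _ hloc _ (hf.shift 1))
    subst hu
    have e : homCxPre (aug (ModuleCat.of A A) (f :: fs)) Y =
        homCxPre (aug (ModuleCat.of A A) fs) Y ≫ homCxPre (mappingCocone.fst
          (DerCA.locCxUnit (Submonoid.powers f) (DerCA.extCech (ModuleCat.of A A) fs))) Y := by
      exact (congrArg (fun a => homCxPre a Y) (aug_cons (ModuleCat.of A A) f fs)).trans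
        (homCxPre_comp _ _ Y)
    have : (fun ψ : Q.obj (DRing.homCx (DerCA.extCech (ModuleCat.of A A) (f :: fs)) Y) ⟶ E =>
        Q.map (homCxPre (aug (ModuleCat.of A A) (f :: fs)) Y) ≫ ψ) =
        (fun ψ => Q.map (homCxPre (aug (ModuleCat.of A A) fs) Y) ≫ ψ) ∘
          (fun ψ => Q.map (homCxPre (mappingCocone.fst
            (DerCA.locCxUnit (Submonoid.powers f) (DerCA.extCech (ModuleCat.of A A) fs))) Y) ≫ ψ) := by
      funext ψ
      have e' : Q.map (homCxPre (aug (ModuleCat.of A A) (f :: fs)) Y) =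
          Q.map (homCxPre (aug (ModuleCat.of A A) fs) Y) ≫ Q.map (homCxPre (mappingCocone.fst
            (DerCA.locCxUnit (Submonoid.powers f) (DerCA.extCech (ModuleCat.of A A) fs))) Y) :=
        (congrArg (fun a => Q.map a) e).trans (Q.map_comp _ _)
      exact (congrArg (fun x => x ≫ ψ) e').trans (Category.assoc _ _ _)
    rw [this]
    exact ih.comp hb

end Induction

section Complete

open Groth.Agent.Lib.Helper1.ExtCech

/-- `A_g ⊗ N = 0` if `N` is `g`-power torsion -/
lemma subsingleton_away_tensor (g : A) (N : Type*) [AddCommGroup N] [Module A N] (h : PT g N) :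
    Subsingleton (TensorProduct A (Localization.Away g) N) := by
  refine ⟨fun x y => ?_⟩
  have hz : ∀ z : TensorProduct A (Localization.Away g) N, z = 0 := by
    intro z
    induction z using TensorProduct.induction_on with
    | zero => rfl
    | tmul x n =>
      obtain ⟨k, hk⟩ := h n
      have hu : IsUnit (algebraMap A (Localization.Away g) (g ^ k)) :=
        IsLocalization.map_units _ (⟨g ^ k, k, rfl⟩ : Submonoid.powers g)
      obtain ⟨u, hu'⟩ := hu
      have : x = (g ^ k) • ((↑u⁻¹ : Localization.Away g) * x) := by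
        rw [Algebra.smul_def, ← hu', ← mul_assoc, Units.mul_inv, one_mul]
      rw [this, TensorProduct.smul_tmul, hk, TensorProduct.tmul_zero]
    | add a b ha hb => rw [ha, hb, add_zero]
  rw [hz x, hz y]

lemma acyc_TCx_away (g : A) (C : Cx A) (h : ∀ q, PT g (C.homology q)) :
    Acyc (TCx (ModuleCat.of A (Localization.Away g)) C) := by
  intro q
  haveI : Module.Flat A ↑(ModuleCat.of A (Localization.Away g)) :=
    (inferInstance : Module.Flat A (Localization.Away g))
  let e := (C.sc q).mapHomologyIso (tensorLeft (ModuleCat.of A (Localization.Away g)))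
  have hz : IsZero ((tensorLeft (ModuleCat.of A (Localization.Away g))).obj (C.homology q)) := by
    haveI : Subsingleton ↑((tensorLeft (ModuleCat.of A (Localization.Away g))).obj
        (C.homology q)) := subsingleton_away_tensor g (C.homology q) (h q)
    exact ModuleCat.isZero_of_subsingleton _
  exact IsZero.of_iso hz e

/-- `RHom(P, M)` is derived `g`-complete for every `g ∈ fs`, `P` a K-projective resolution of
the extended Čech complex -/
theorem fc_RP (fs : List A) {P : Cx A} [P.IsKProjective]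
    (π : P ⟶ DerCA.extCech (ModuleCat.of A A) fs) [QuasiIso π]
    (g : A) (hg : g ∈ fs) (M : Dual.D A) : FC g ((RP P).obj M) := by
  intro n
  have hacyc : Acyc ((sgl (ModuleCat.of A (Localization.Away g)))⟦-n⟧ ⊗ P) := by
    have h1 : Acyc (TCx (ModuleCat.of A (Localization.Away g))
        (DerCA.extCech (ModuleCat.of A A) fs)) :=
      acyc_TCx_away g _ (fun q => pt_extCechH fs _ g hg q)
    have h2 : Acyc (sgl (ModuleCat.of A (Localization.Away g)) ⊗
        DerCA.extCech (ModuleCat.of A A) fs) := h1.of_iso (singleTensorIso _ _)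
    haveI : Module.Flat A ↑(ModuleCat.of A (Localization.Away g)) :=
      (inferInstance : Module.Flat A (Localization.Away g))
    have h3 : QuasiIso (sgl (ModuleCat.of A (Localization.Away g)) ◁ π) :=
      quasiIso_whiskerLeft_of_kflatL π _ (Groth.Agent.Lib.Helper10.RHomComp.kflatL_sgl _)
    have h4 : Acyc (sgl (ModuleCat.of A (Localization.Away g)) ⊗ P) := fun i =>
      IsZero.of_iso (h2 i)
        (asIso (homologyMap (sgl (ModuleCat.of A (Localization.Away g)) ◁ π) i))
    exact (h4.shift (-n)).of_iso (tensorShiftLeftIso _ P (-n)).symm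
  haveI := subsingleton_hom_RP P _ hacyc M
  let e : (Dual.inD A (Localization.Away g))⟦-n⟧ ≅
      Q.obj ((sgl (ModuleCat.of A (Localization.Away g)))⟦-n⟧) :=
    ((Q.commShiftIso (-n)).app _).symm
  exact ((shiftHomEquiv _ _ n).symm.trans e.homFromEquiv).subsingleton

end Complete

end Groth.Agent.Lib.Helper10.DCCech
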