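import Mathlib
import Groth.Prelude.Def_DRing3

/-!
# Derived completeness of modules: the elementwise criterion

`A_f` has the free resolution `0 → A[X] --(fX-1)--> A[X] → A_f → 0`; hence
`Ext^n(A_f, M) = 0` for `n ≥ 2` and `Ext^0`, `Ext^1` are described by sequences in `M`.
-/

set_option autoImplicit false
universe u
open CategoryTheory Limits Polynomial

attribute [local instance] HasDerivedCategory.standard

namespace Groth.Agent.Lib.Helper10.DerComplete

noncomputable section

variable {A : Type u} [CommRing A] (f : A)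

/-- The polynomial `f X - 1`. -/
abbrev p₀ : A[X] := C f * X - 1

lemma p₀_mul_monomial (n : ℕ) (a : A) :
    p₀ f * monomial n a = monomial (n + 1) (f * a) - monomial n a := by
  rw [p₀, sub_mul, one_mul, C_mul_X_eq_monomial, monomial_mul_monomial, add_comm 1 n]

lemma eq_zero_of_p₀_mul_eq_zero (x : A[X]) (h : p₀ f * x = 0) : x = 0 := by
  have h0 : ∀ n, x.coeff n = 0 := by
    intro n
    induction n with
    | zero =>
      have := congrArg (fun p => p.coeff 0) h
      simpa [p₀, sub_mul, mul_assoc] using this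
    | succ n ih =>
      have := congrArg (fun p => p.coeff (n + 1)) h
      simpa [p₀, sub_mul, mul_assoc, coeff_X_mul, ih] using this
  ext n
  simp [h0]

/-- The canonical map `A[X] → A_f`, `X ↦ 1/f`. -/
def toAway : A[X] →ₐ[A] Localization.Away f :=
  ((Localization.awayEquivAdjoin f).symm : AdjoinRoot (C f * X - 1) →ₐ[A] Localization.Away f).comp
    (AdjoinRoot.mkₐ (C f * X - 1))

lemma toAway_surjective : Function.Surjective (toAway f) := by
  intro y
  obtain ⟨p, hp⟩ := AdjoinRoot.mk_surjective (Localization.awayEquivAdjoin f y)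
  refine ⟨p, ?_⟩
  change (Localization.awayEquivAdjoin f).symm (AdjoinRoot.mk _ p) = y
  rw [hp, AlgEquiv.symm_apply_apply]

lemma toAway_eq_zero_iff (x : A[X]) : toAway f x = 0 ↔ ∃ c, p₀ f * c = x := by
  change (Localization.awayEquivAdjoin f).symm (AdjoinRoot.mk _ x) = 0 ↔ _
  rw [EmbeddingLike.map_eq_zero_iff, AdjoinRoot.mk_eq_zero]
  exact ⟨fun ⟨c, hc⟩ => ⟨c, hc.symm⟩, fun ⟨c, hc⟩ => ⟨c, hc.symm⟩⟩

/-- The short complex `A[X] → A[X] → A_f`. -/
abbrev S : ShortComplex (ModuleCat.{u} A) :=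
  ShortComplex.mk (X₁ := ModuleCat.of A A[X]) (X₂ := ModuleCat.of A A[X])
    (X₃ := ModuleCat.of A (Localization.Away f))
    (ModuleCat.ofHom (LinearMap.mulLeft A (p₀ f))) (ModuleCat.ofHom (toAway f).toLinearMap)
    (ModuleCat.hom_ext (LinearMap.ext fun x => (toAway_eq_zero_iff f _).mpr ⟨x, rfl⟩))

lemma S_shortExact : (S f).ShortExact where
  exact := by
    rw [ShortComplex.moduleCat_exact_iff]
    intro (x : A[X]) hx
    obtain ⟨c, hc⟩ := (toAway_eq_zero_iff f x).mp hx
    exact ⟨c, hc⟩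
  mono_f := by
    rw [ModuleCat.mono_iff_injective]
    intro (x : A[X]) (y : A[X]) hxy
    have hxy' : p₀ f * x = p₀ f * y := hxy
    have : p₀ f * (x - y) = 0 := by
      rw [mul_sub, sub_eq_zero]; exact hxy'
    exact sub_eq_zero.mp (eq_zero_of_p₀_mul_eq_zero f _ this)
  epi_g := by
    rw [ModuleCat.epi_iff_surjective]
    exact toAway_surjective f

instance : Projective (ModuleCat.of A A[X]) :=
  (IsProjective.iff_projective (R := A) (P := A[X])).mp inferInstance

instance hasProjectiveDimensionLT_away :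
    HasProjectiveDimensionLT (ModuleCat.of A (Localization.Away f)) 2 :=
  (S_shortExact f).hasProjectiveDimensionLT_X₃ 1
    (inferInstanceAs (HasProjectiveDimensionLT (ModuleCat.of A A[X]) 1))
    (hasProjectiveDimensionLT_of_ge (ModuleCat.of A A[X]) 1 2 (by norm_num))

variable (M : Type u) [AddCommGroup M] [Module A M]

open Abelian

/-- Morphisms `A_f ⟶ M[n]` in the derived category are `Ext^n`. -/
lemma subsingleton_hom_iff_ext (n : ℕ) :
    Subsingleton (Dual.inD A (Localization.Away f) ⟶ (Dual.inD A M)⟦(n : ℤ)⟧) ↔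
      Subsingleton (Ext.{u} (ModuleCat.of A (Localization.Away f)) (ModuleCat.of A M) n) :=
  (Ext.homEquiv (X := ModuleCat.of A (Localization.Away f)) (Y := ModuleCat.of A M)
    (n := n)).subsingleton_congr.symm

lemma subsingleton_ext_of_two_le (n : ℕ) (hn : 2 ≤ n) :
    Subsingleton (Ext.{u} (ModuleCat.of A (Localization.Away f)) (ModuleCat.of A M) n) :=
  HasProjectiveDimensionLT.subsingleton (ModuleCat.of A (Localization.Away f)) 2 n hn _

/-- `Ext^0(A_f, M) = 0` iff maps `A[X] → M` killing `(fX-1)A[X]` vanish. -/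
lemma subsingleton_ext_zero_iff :
    Subsingleton (Ext.{u} (ModuleCat.of A (Localization.Away f)) (ModuleCat.of A M) 0) ↔
      ∀ ψ : A[X] →ₗ[A] M, (∀ x, ψ (p₀ f * x) = 0) → ψ = 0 := by
  have hS := S_shortExact f
  constructor
  · intro h ψ hψ
    have h1 : (S f).f ≫ ModuleCat.ofHom ψ = 0 :=
      ModuleCat.hom_ext (LinearMap.ext fun x => hψ x)
    have h2 : (Ext.mk₀ (S f).f).comp (Ext.mk₀ (ModuleCat.ofHom ψ)) (zero_add 0) = 0 := by
      rw [Ext.mk₀_comp_mk₀, h1, Ext.mk₀_zero]
    obtain ⟨x₁, hx₁⟩ := Ext.contravariant_sequence_exact₂ hS (ModuleCat.of A M) _ h2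
    have : x₁ = 0 := Subsingleton.elim _ _
    rw [this, Ext.comp_zero] at hx₁
    have h3 : ModuleCat.ofHom ψ = 0 := by
      apply (Ext.mk₀_bijective _ _).1
      rw [Ext.mk₀_zero]
      exact hx₁.symm
    have := congrArg ModuleCat.Hom.hom h3
    simpa using this
  · intro h
    refine ⟨fun a b => ?_⟩
    obtain ⟨α, rfl⟩ := (Ext.mk₀_bijective _ _).2 a
    obtain ⟨β, rfl⟩ := (Ext.mk₀_bijective _ _).2 b
    congr 1
    have key : ∀ γ : ModuleCat.of A (Localization.Away f) ⟶ ModuleCat.of A M, γ = 0 := by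
      intro γ
      have h1 : ((S f).g ≫ γ).hom = 0 := by
        apply h
        intro x
        have := congrArg (fun φ => φ.hom x) ((S f).zero)
        change γ.hom ((S f).g.hom ((S f).f.hom x)) = 0
        change (S f).g.hom ((S f).f.hom x) = 0 at this
        erw [this, map_zero]
      have h2 : (S f).g ≫ γ = 0 := ModuleCat.hom_ext h1
      haveI := hS.epi_g
      rw [← cancel_epi (S f).g, h2, Limits.comp_zero]
    rw [key α, key β]

/-- `Ext^1(A_f, M) = 0` iff every map `A[X] → M` extends along multiplication by `fX-1`. -/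
lemma subsingleton_ext_one_iff :
    Subsingleton (Ext.{u} (ModuleCat.of A (Localization.Away f)) (ModuleCat.of A M) 1) ↔
      ∀ φ : A[X] →ₗ[A] M, ∃ ψ : A[X] →ₗ[A] M, ∀ x, ψ (p₀ f * x) = φ x := by
  have hS := S_shortExact f
  constructor
  · intro h φ
    have h1 : hS.extClass.comp (Ext.mk₀ (ModuleCat.ofHom φ)) (add_zero 1) = 0 :=
      Subsingleton.elim _ _
    obtain ⟨x₂, hx₂⟩ := Ext.contravariant_sequence_exact₁ hS (ModuleCat.of A M)
      (Ext.mk₀ (ModuleCat.ofHom φ)) (add_zero 1) h1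
    obtain ⟨ψ, rfl⟩ := (Ext.mk₀_bijective _ _).2 x₂
    rw [Ext.mk₀_comp_mk₀] at hx₂
    have h2 := (Ext.mk₀_bijective _ _).1 hx₂
    refine ⟨ψ.hom, fun x => ?_⟩
    have := congrArg (fun γ => γ.hom x) h2
    exact this
  · intro h
    refine ⟨fun a b => ?_⟩
    have key : ∀ x₃ : Ext.{u} (ModuleCat.of A (Localization.Away f)) (ModuleCat.of A M) 1,
        x₃ = 0 := by
      intro x₃
      have h1 : (Ext.mk₀ (S f).g).comp x₃ (zero_add 1) = 0 :=
        Ext.eq_zero_of_projective (P := ModuleCat.of A A[X]) _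
      obtain ⟨x₁, hx₁⟩ := Ext.contravariant_sequence_exact₃ hS (ModuleCat.of A M) x₃ h1
        (add_zero 1)
      obtain ⟨φ, rfl⟩ := (Ext.mk₀_bijective _ _).2 x₁
      obtain ⟨ψ, hψ⟩ := h φ.hom
      have h2 : φ = (S f).f ≫ ModuleCat.ofHom ψ :=
        ModuleCat.hom_ext (LinearMap.ext fun x => (hψ x).symm)
      rw [← hx₁, h2, ← Ext.mk₀_comp_mk₀, ← Ext.comp_assoc_of_second_deg_zero, hS.extClass_comp,
        Ext.zero_comp]
    rw [key a, key b]

variable {M}

/-- The linear map `A[X] → M` with `X^n ↦ m n`. -/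
def ofSeq (m : ℕ → M) : A[X] →ₗ[A] M := (Polynomial.basisMonomials A).constr A m

lemma ofSeq_monomial (m : ℕ → M) (n : ℕ) (a : A) : ofSeq m (monomial n a) = a • m n := by
  have h1 : monomial n a = a • (Polynomial.basisMonomials A) n := by
    rw [Polynomial.coe_basisMonomials, smul_monomial, smul_eq_mul, mul_one]
  rw [h1, map_smul, ofSeq, Module.Basis.constr_basis]

lemma map_p₀_mul_monomial (ψ : A[X] →ₗ[A] M) (n : ℕ) (a : A) :
    ψ (p₀ f * monomial n a) = a • (f • ψ (monomial (n + 1) 1) - ψ (monomial n 1)) := by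
  have h1 : monomial (n + 1) (f * a) = (a * f) • (monomial (n + 1) (1 : A)) := by
    rw [smul_monomial, smul_eq_mul, mul_one, mul_comm]
  have h2 : monomial n a = a • (monomial n (1 : A)) := by
    rw [smul_monomial, smul_eq_mul, mul_one]
  rw [p₀_mul_monomial, map_sub, smul_sub, smul_smul, h1, h2, map_smul, map_smul]

lemma eq_zero_of_forall_monomial (ψ : A[X] →ₗ[A] M) (h : ∀ n, ψ (monomial n 1) = 0) : ψ = 0 := by
  refine Polynomial.lhom_ext' fun n => LinearMap.ext_ring ?_
  simpa using h n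

variable (M)

lemma crit_zero : (∀ ψ : A[X] →ₗ[A] M, (∀ x, ψ (p₀ f * x) = 0) → ψ = 0) ↔
    ∀ m : ℕ → M, (∀ n, m n = f • m (n + 1)) → ∀ n, m n = 0 := by
  constructor
  · intro h m hm n
    have h1 : ofSeq m ∘ₗ LinearMap.mulLeft A (p₀ f) = 0 := by
      refine eq_zero_of_forall_monomial _ fun k => ?_
      rw [LinearMap.comp_apply, LinearMap.mulLeft_apply, map_p₀_mul_monomial, ofSeq_monomial,
        ofSeq_monomial, one_smul, one_smul, one_smul, ← hm k, sub_self]
    have h2 := h (ofSeq m) fun x => LinearMap.congr_fun h1 x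
    have := LinearMap.congr_fun h2 (monomial n 1)
    rwa [ofSeq_monomial, one_smul] at this
  · intro h ψ hψ
    refine eq_zero_of_forall_monomial _ ?_
    refine h (fun n => ψ (monomial n 1)) fun n => ?_
    have := hψ (monomial n 1)
    rw [map_p₀_mul_monomial, one_smul, sub_eq_zero] at this
    exact this.symm

lemma crit_one : (∀ φ : A[X] →ₗ[A] M, ∃ ψ : A[X] →ₗ[A] M, ∀ x, ψ (p₀ f * x) = φ x) ↔
    ∀ y : ℕ → M, ∃ m : ℕ → M, ∀ n, m n - f • m (n + 1) = y n := by
  constructor
  · intro h y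
    obtain ⟨ψ, hψ⟩ := h (ofSeq fun n => - y n)
    refine ⟨fun n => ψ (monomial n 1), fun n => ?_⟩
    have := hψ (monomial n 1)
    rw [map_p₀_mul_monomial, ofSeq_monomial, one_smul, one_smul] at this
    rw [← neg_sub, this, neg_neg]
  · intro h φ
    obtain ⟨m, hm⟩ := h fun n => - φ (monomial n 1)
    refine ⟨ofSeq m, fun x => ?_⟩
    have h1 : ofSeq m ∘ₗ LinearMap.mulLeft A (p₀ f) - φ = 0 := by
      refine eq_zero_of_forall_monomial _ fun k => ?_
      rw [LinearMap.sub_apply, LinearMap.comp_apply, LinearMap.mulLeft_apply, map_p₀_mul_monomial,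
        ofSeq_monomial, ofSeq_monomial, one_smul, one_smul, one_smul, ← neg_sub (m k), hm k, neg_neg,
        sub_self]
    have := LinearMap.congr_fun h1 x
    rwa [LinearMap.sub_apply, LinearMap.comp_apply, LinearMap.mulLeft_apply, LinearMap.zero_apply,
      sub_eq_zero] at this

/-- **Elementwise criterion** for derived `f`-completeness of a module placed in degree `0`. -/
theorem dc_iff : (∀ n : ℤ, Subsingleton (Dual.inD A (Localization.Away f) ⟶ (Dual.inD A M)⟦n⟧)) ↔
    (∀ m : ℕ → M, (∀ n, m n = f • m (n + 1)) → ∀ n, m n = 0) ∧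
      ∀ y : ℕ → M, ∃ m : ℕ → M, ∀ n, m n - f • m (n + 1) = y n := by
  rw [← crit_zero, ← crit_one, ← subsingleton_ext_zero_iff, ← subsingleton_ext_one_iff,
    ← subsingleton_hom_iff_ext, ← subsingleton_hom_iff_ext]
  constructor
  · intro h
    exact ⟨h _, h _⟩
  · rintro ⟨h0, h1⟩ n
    by_cases hn : n < 0
    · refine ⟨fun a b => ?_⟩
      have : DerivedCategory.TStructure.t.IsGE ((Dual.inD A M)⟦n⟧) (-n) :=
        DerivedCategory.TStructure.t.isGE_shift (Dual.inD A M) 0 n (-n) (by lia)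
      rw [DerivedCategory.TStructure.t.zero a 0 (-n) (by lia),
        DerivedCategory.TStructure.t.zero b 0 (-n) (by lia)]
    · obtain ⟨k, rfl⟩ := Int.eq_ofNat_of_zero_le (not_lt.mp hn)
      match k with
      | 0 => exact h0
      | 1 => exact h1
      | (k + 2) =>
        rw [subsingleton_hom_iff_ext]
        exact subsingleton_ext_of_two_le f M _ (by lia)

/-- Derived completeness of a module w.r.t. an ideal, elementwise. -/
theorem isDerivedComplete_iff (I : Ideal A) :
    DRing.IsDerivedComplete I (Dual.inD A M) ↔ ∀ f ∈ I,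
      (∀ m : ℕ → M, (∀ n, m n = f • m (n + 1)) → ∀ n, m n = 0) ∧
        ∀ y : ℕ → M, ∃ m : ℕ → M, ∀ n, m n - f • m (n + 1) = y n :=
  forall₂_congr fun f _ => dc_iff f M

end

end Groth.Agent.Lib.Helper10.DerComplete
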