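import Mathlib
import Groth.Agent.Lib.Helper10DerComplete

/-!
# Derived completeness of modules: permanence properties via the elementwise criterion
-/

set_option autoImplicit false
universe u
open CategoryTheory

attribute [local instance] HasDerivedCategory.standard

namespace Groth.Agent.Lib.Helper10.DerComplete

variable {A : Type u} [CommRing A]

/-- The elementwise criterion for derived `f`-completeness of a module. -/
def Crit (f : A) (M : Type*) [AddCommGroup M] [Module A M] : Prop :=
  (∀ m : ℕ → M, (∀ n, m n = f • m (n + 1)) → ∀ n, m n = 0) ∧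
    ∀ y : ℕ → M, ∃ m : ℕ → M, ∀ n, m n - f • m (n + 1) = y n

theorem isDerivedComplete_iff_crit (I : Ideal A) (M : Type u) [AddCommGroup M] [Module A M] :
    DRing.IsDerivedComplete I (Dual.inD A M) ↔ ∀ f ∈ I, Crit f M :=
  isDerivedComplete_iff M I

variable {M N : Type*} [AddCommGroup M] [Module A M] [AddCommGroup N] [Module A N]

theorem Crit.ker {f : A} (u : M →ₗ[A] N) (hM : Crit f M) (hN : Crit f N) :
    Crit f (LinearMap.ker u) := by
  obtain ⟨hMU, hME⟩ := hM
  obtain ⟨hNU, hNE⟩ := hN
  constructor
  · intro m hm n
    have := hMU (fun n => (m n : M)) (fun n => by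
      have := congrArg (Subtype.val) (hm n)
      simpa using this) n
    exact Subtype.ext this
  · intro y
    obtain ⟨m, hm⟩ := hME (fun n => (y n : M))
    have h0 : ∀ n, u (m n) = 0 := by
      apply hNU (fun n => u (m n))
      intro n
      have := congrArg u (hm n)
      rw [map_sub, map_smul, (y n).2, sub_eq_zero] at this
      exact this
    refine ⟨fun n => ⟨m n, h0 n⟩, fun n => Subtype.ext ?_⟩
    simpa using hm n

theorem Crit.coker {f : A} (u : M →ₗ[A] N) (hM : Crit f M) (hN : Crit f N) :
    Crit f (N ⧸ LinearMap.range u) := by
  obtain ⟨hMU, hME⟩ := hM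
  obtain ⟨hNU, hNE⟩ := hN
  constructor
  · intro c hc n
    have hsurj := Submodule.mkQ_surjective (LinearMap.range u)
    choose nt hnt using fun n => hsurj (c n)
    have hz : ∀ n, nt n - f • nt (n + 1) ∈ LinearMap.range u := by
      intro n
      rw [← Submodule.Quotient.mk_eq_zero, Submodule.Quotient.mk_sub, Submodule.Quotient.mk_smul]
      change (LinearMap.range u).mkQ (nt n) - f • (LinearMap.range u).mkQ (nt (n + 1)) = 0
      rw [hnt, hnt, sub_eq_zero]
      exact hc n
    choose w hw using hz
    obtain ⟨m', hm'⟩ := hME w
    have h0 : ∀ n, nt n - u (m' n) = 0 := by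
      apply hNU (fun n => nt n - u (m' n))
      intro n
      have h1 := congrArg u (hm' n)
      rw [hw n, map_sub, map_smul] at h1
      rw [smul_sub]
      have h2 : nt n - f • nt (n + 1) = u (m' n) - f • u (m' (n + 1)) := h1.symm
      rw [sub_eq_sub_iff_add_eq_add] at h2 ⊢
      rw [h2, add_comm]
    rw [← hnt n, sub_eq_zero.mp (h0 n)]
    exact (Submodule.Quotient.mk_eq_zero _).mpr ⟨m' n, rfl⟩
  · intro y
    have hsurj := Submodule.mkQ_surjective (LinearMap.range u)
    choose yt hyt using fun n => hsurj (y n)
    obtain ⟨m, hm⟩ := hNE yt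
    refine ⟨fun n => (LinearMap.range u).mkQ (m n), fun n => ?_⟩
    rw [← map_smul, ← map_sub, hm n, hyt n]

/-- If multiplication by `f` is surjective on a derived `f`-complete module, the module is zero. -/
theorem Crit.eq_zero_of_surjective {f : A} (hM : Crit f M)
    (hs : Function.Surjective fun x : M => f • x) (x : M) : x = 0 := by
  obtain ⟨r, hr⟩ := hs.hasRightInverse
  have := hM.1 (fun n => r^[n] x) (fun n => by
    rw [Function.iterate_succ_apply']
    exact (hr _).symm) 0
  simpa using this

/-- **Derived Nakayama**: a module which is derived complete with respect to each element of a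
finite set `s` and satisfies `(s) M = M` is zero. -/
theorem subsingleton_of_crit_of_smul_top_eq_top (s : Finset A) :
    ∀ (M : Type u) [AddCommGroup M] [Module A M], (∀ f ∈ s, Crit f M) →
      Ideal.span (s : Set A) • (⊤ : Submodule A M) = ⊤ → Subsingleton M := by
  classical
  induction s using Finset.induction_on with
  | empty =>
    intro M _ _ _ h
    rw [Finset.coe_empty, Ideal.span_empty, Submodule.bot_smul] at h
    exact (Submodule.subsingleton_iff A).mp (subsingleton_of_bot_eq_top h)
  | insert a s ha ih =>
    intro M _ _ hc h
    let u : M →ₗ[A] M := LinearMap.lsmul A M a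
    have hM' : Subsingleton (M ⧸ LinearMap.range u) := by
      apply ih
      · intro g hg
        exact Crit.coker u (hc g (Finset.mem_insert_of_mem hg)) (hc g (Finset.mem_insert_of_mem hg))
      · rw [eq_top_iff]
        rintro x' -
        obtain ⟨x, rfl⟩ := Submodule.mkQ_surjective _ x'
        have hx : x ∈ Ideal.span ((insert a s : Finset A) : Set A) • (⊤ : Submodule A M) := by
          rw [h]; trivial
        rw [Finset.coe_insert, Ideal.span_insert, Submodule.sup_smul, Submodule.mem_sup] at hx
        obtain ⟨y, hy, z, hz, rfl⟩ := hx
        rw [map_add]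
        have hy0 : (LinearMap.range u).mkQ y = 0 := by
          rw [Submodule.mkQ_apply, Submodule.Quotient.mk_eq_zero]
          rw [Submodule.ideal_span_singleton_smul, Submodule.mem_smul_pointwise_iff_exists] at hy
          obtain ⟨w, -, rfl⟩ := hy
          exact ⟨w, rfl⟩
        rw [hy0, zero_add]
        have := Submodule.mem_map_of_mem (f := (LinearMap.range u).mkQ) hz
        rw [Submodule.map_smul''] at this
        exact Submodule.smul_mono le_rfl le_top this
    have hsurj : Function.Surjective fun x : M => a • x := by
      intro x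
      have : (LinearMap.range u).mkQ x = 0 := Subsingleton.elim _ _
      rw [Submodule.mkQ_apply, Submodule.Quotient.mk_eq_zero] at this
      exact this
    exact ⟨fun x y => by
      rw [(hc a (Finset.mem_insert_self a s)).eq_zero_of_surjective hsurj x,
        (hc a (Finset.mem_insert_self a s)).eq_zero_of_surjective hsurj y]⟩

end Groth.Agent.Lib.Helper10.DerComplete
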