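import Mathlib
import Groth.Agent.Lib.Helper10DerComplete2
import Groth.Agent.S14388
import Groth.Agent.S0973
import Groth.Agent.S7077

/-!
# Derived completeness of complexes: reduction to cohomology modules

`V f Y` : all maps `A_f[0] ⟶ Y` vanish.  Main results:
* `V_shift_iff` : `(∀ n, V f (K⟦n⟧)) ↔ ∀ i, V f (H^i K [0]) ∧ V f (H^i K [0]⟦1⟧)`
* `V_shift_iff_crit` : `(∀ n, V f (K⟦n⟧)) ↔ ∀ i, Crit f (H^i K)`.
-/

set_option autoImplicit false
universe u
open CategoryTheory Limits Pretriangulated DerivedCategory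
open scoped Polynomial
open Groth.Agent.S14388

attribute [local instance] HasDerivedCategory.standard

namespace Groth.Agent.Lib.Helper10.DerComplete

noncomputable section

variable {A : Type u} [CommRing A] (f : A)

/-- all maps `A_f[0] ⟶ Y` vanish. -/
def V (Y : Dual.D A) : Prop := ∀ φ : Dual.inD A (Localization.Away f) ⟶ Y, φ = 0

lemma V_iff_subsingleton (Y : Dual.D A) :
    V f Y ↔ Subsingleton (Dual.inD A (Localization.Away f) ⟶ Y) :=
  ⟨fun h => ⟨fun a b => by rw [h a, h b]⟩, fun h φ => Subsingleton.elim _ _⟩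

variable {f} in
lemma V.of_iso {Y Y' : Dual.D A} (h : V f Y) (e : Y ≅ Y') : V f Y' := fun φ => by
  have := h (φ ≫ e.inv)
  exact (cancel_mono e.inv).1 (this.trans Limits.zero_comp.symm)

lemma V_of_isGE (Y : Dual.D A) [Y.IsGE 1] : V f Y := fun φ =>
  tt.zero_of_isLE_of_isGE φ 0 1 (by lia) inferInstance inferInstance

lemma V_of_isLE (Y : Dual.D A) [Y.IsLE (-2)] : V f Y := fun φ => by
  have hS := S_shortExact f
  have hT := hS.singleTriangle_distinguished
  have h1 : (hS.singleTriangle).mor₂ ≫ φ = 0 :=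
    Groth.Agent.S7077.hom_single_proj_eq_zero (ModuleCat.of A A[X]) 0 (-2) (by lia) Y _
  obtain ⟨ψ, hψ⟩ := Triangle.yoneda_exact₃ _ hT φ h1
  have h2 : ψ = 0 := by
    let e := ((singleFunctors (ModuleCat.{u} A)).shiftIso 1 (-1) 0 (by lia)).app
      (ModuleCat.of A A[X])
    have := Groth.Agent.S7077.hom_single_proj_eq_zero (ModuleCat.of A A[X]) (-1) (-2) (by lia) Y
      (e.inv ≫ ψ)
    exact (cancel_epi e.inv).1 (this.trans Limits.comp_zero.symm)
  rw [hψ, h2]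
  exact Limits.comp_zero

lemma V_truncGE (m : ℤ) (hm : m ≤ 0) (Y : Dual.D A) (h : V f Y) :
    V f ((tt.truncGE m).obj Y) := fun φ => by
  have hT := tt.triangleLTGE_distinguished m Y
  have i0 : ((tt.truncLT m).obj Y).IsLE (m - 1) := inferInstance
  have i1 : (((tt.truncLT m).obj Y)⟦(1 : ℤ)⟧).IsLE (m - 2) :=
    tt.isLE_shift ((tt.truncLT m).obj Y) (m - 1) 1 (m - 2) (by lia)
  have i3 : (((tt.truncLT m).obj Y)⟦(1 : ℤ)⟧).IsLE (-2) :=
    tt.isLE_of_le _ (m - 2) (-2) (by lia)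
  have hz : φ ≫ (tt.truncGEδLT m).app Y = 0 :=
    V_of_isLE f (((tt.truncLT m).obj Y)⟦(1 : ℤ)⟧) _
  obtain ⟨φ', hφ'⟩ := Triangle.coyoneda_exact₃ _ hT φ hz
  rw [hφ', h φ']
  exact Limits.zero_comp

lemma V_truncLT (m : ℤ) (hm : 0 ≤ m) (Y : Dual.D A) (h : V f Y) :
    V f ((tt.truncLT m).obj Y) := fun φ => by
  have : tt.IsLE (Dual.inD A (Localization.Away f)) m := tt.isLE_of_le _ 0 m hm
  exact lemmaB φ (h _)

lemma V_of_truncGE (m : ℤ) (hm : m ≤ -1) (Y : Dual.D A) (h : V f ((tt.truncGE m).obj Y)) :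
    V f Y := fun φ => by
  have hT := tt.triangleLTGE_distinguished m Y
  obtain ⟨ψ, hψ⟩ := Triangle.coyoneda_exact₂ _ hT φ (h _)
  have : ((tt.truncLT m).obj Y).IsLE (m - 1) := inferInstance
  have : ((tt.truncLT m).obj Y).IsLE (-2) := tt.isLE_of_le _ (m - 1) (-2) (by lia)
  have hψ0 : ψ = 0 := V_of_isLE f ((tt.truncLT m).obj Y) ψ
  rw [hψ, hψ0]
  exact Limits.zero_comp

lemma V_of_truncLT (m : ℤ) (hm : 1 ≤ m) (Y : Dual.D A) (h : V f ((tt.truncLT m).obj Y)) :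
    V f Y := fun φ => by
  have hT := tt.triangleLTGE_distinguished m Y
  have : ((tt.truncGE m).obj Y).IsGE 1 := tt.isGE_of_ge _ 1 m hm
  obtain ⟨ψ, hψ⟩ := Triangle.coyoneda_exact₂ _ hT φ (V_of_isGE f ((tt.truncGE m).obj Y) _)
  have hψ0 : ψ = 0 := h ψ
  rw [hψ, hψ0]
  exact Limits.zero_comp

lemma V_of_triangle (T : Triangle (Dual.D A)) (hT : T ∈ distTriang _) (h1 : V f T.obj₁)
    (h3 : V f T.obj₃) : V f T.obj₂ := fun φ => by
  obtain ⟨ψ, hψ⟩ := Triangle.coyoneda_exact₂ _ hT φ (h3 _)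
  rw [hψ, h1 ψ]
  exact Limits.zero_comp

/-- `H^j(Y) ≅ H^j(τ≥m Y)` for `m ≤ j`. -/
def hGE (m j : ℤ) (hj : m ≤ j) (Y : Dual.D A) :
    (homologyFunctor (ModuleCat.{u} A) j).obj Y ≅
      (homologyFunctor (ModuleCat.{u} A) j).obj ((tt.truncGE m).obj Y) :=
  have := isIso_homology_truncGEπ m j hj Y
  asIso ((homologyFunctor (ModuleCat.{u} A) j).map ((tt.truncGEπ m).app Y))

/-- `H^j(τ<m Y) ≅ H^j(Y)` for `j < m`. -/
def hLT (m j : ℤ) (hj : j < m) (Y : Dual.D A) :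
    (homologyFunctor (ModuleCat.{u} A) j).obj ((tt.truncLT m).obj Y) ≅
      (homologyFunctor (ModuleCat.{u} A) j).obj Y :=
  have := isIso_homology_truncLTι m j hj Y
  asIso ((homologyFunctor (ModuleCat.{u} A) j).map ((tt.truncLTι m).app Y))

lemma V_amp_iff (c : ℤ) (Z : Dual.D A) [Z.IsGE c] [Z.IsLE c] (M : ModuleCat.{u} A)
    (e : (homologyFunctor (ModuleCat.{u} A) c).obj Z ≅ M) :
    V f Z ↔ V f ((singleFunctor (ModuleCat.{u} A) c).obj M) := by
  obtain ⟨e₀⟩ := Groth.Agent.S0973.iso_single_of_amp Z c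
  exact ⟨fun h => h.of_iso (e₀ ≪≫ (singleFunctor _ c).mapIso e),
    fun h => h.of_iso (e₀ ≪≫ (singleFunctor _ c).mapIso e).symm⟩

lemma V_H0 (L : Dual.D A) (h : V f L) :
    V f ((singleFunctor (ModuleCat.{u} A) 0).obj ((homologyFunctor (ModuleCat.{u} A) 0).obj L)) := by
  have h1 := V_truncLT f 1 (by lia) _ (V_truncGE f 0 le_rfl L h)
  have : ((tt.truncLT 1).obj ((tt.truncGE 0).obj L)).IsLE 0 := tt.isLE_truncLT_obj _ 1 0
  have : ((tt.truncLT 1).obj ((tt.truncGE 0).obj L)).IsGE 0 := inferInstance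
  exact (V_amp_iff f 0 _ _ (hLT 1 0 (by lia) _ ≪≫ (hGE 0 0 le_rfl L).symm)).1 h1

lemma V_Hm1 (L : Dual.D A) (h : V f L) :
    V f ((singleFunctor (ModuleCat.{u} A) (-1)).obj
      ((homologyFunctor (ModuleCat.{u} A) (-1)).obj L)) := by
  have h1 := V_truncGE f (-1) (by lia) _ (V_truncLT f 0 le_rfl L h)
  have : ((tt.truncLT 0).obj L).IsLE (-1) := tt.isLE_truncLT_obj _ 0 (-1)
  have : ((tt.truncGE (-1)).obj ((tt.truncLT 0).obj L)).IsLE (-1) := inferInstance
  have : ((tt.truncGE (-1)).obj ((tt.truncLT 0).obj L)).IsGE (-1) := inferInstance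
  exact (V_amp_iff f (-1) _ _ ((hGE (-1) (-1) le_rfl _).symm ≪≫ hLT 0 (-1) (by lia) L)).1 h1

lemma V_of_H (L : Dual.D A)
    (h0 : V f ((singleFunctor (ModuleCat.{u} A) 0).obj
      ((homologyFunctor (ModuleCat.{u} A) 0).obj L)))
    (h1 : V f ((singleFunctor (ModuleCat.{u} A) (-1)).obj
      ((homologyFunctor (ModuleCat.{u} A) (-1)).obj L))) : V f L := by
  apply V_of_truncGE f (-1) le_rfl
  apply V_of_truncLT f 1 le_rfl
  obtain ⟨L1, hL1⟩ : ∃ L1, L1 = (tt.truncGE (-1)).obj L := ⟨_, rfl⟩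
  obtain ⟨L2, hL2⟩ : ∃ L2, L2 = (tt.truncLT 1).obj L1 := ⟨_, rfl⟩
  rw [← hL1, ← hL2]
  have : L1.IsGE (-1) := by rw [hL1]; infer_instance
  have : L2.IsGE (-1) := by rw [hL2]; infer_instance
  have : L2.IsLE 0 := by rw [hL2]; exact tt.isLE_truncLT_obj _ 1 0
  refine V_of_triangle f _ (tt.triangleLTGE_distinguished 0 L2) ?_ ?_
  · have : ((tt.truncLT 0).obj L2).IsLE (-1) := tt.isLE_truncLT_obj _ 0 (-1)
    have : ((tt.truncLT 0).obj L2).IsGE (-1) := inferInstance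
    have e : (homologyFunctor (ModuleCat.{u} A) (-1)).obj ((tt.truncLT 0).obj L2) ≅
        (homologyFunctor (ModuleCat.{u} A) (-1)).obj L := by
      refine hLT 0 (-1) (by lia) L2 ≪≫ ?_
      rw [hL2]
      refine hLT 1 (-1) (by lia) L1 ≪≫ ?_
      rw [hL1]
      exact (hGE (-1) (-1) le_rfl L).symm
    exact (V_amp_iff f (-1) ((tt.truncLT 0).obj L2) _ e).2 h1
  · have : ((tt.truncGE 0).obj L2).IsLE 0 := inferInstance
    have : ((tt.truncGE 0).obj L2).IsGE 0 := inferInstance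
    have e : (homologyFunctor (ModuleCat.{u} A) 0).obj ((tt.truncGE 0).obj L2) ≅
        (homologyFunctor (ModuleCat.{u} A) 0).obj L := by
      refine (hGE 0 0 le_rfl L2).symm ≪≫ ?_
      rw [hL2]
      refine hLT 1 0 (by lia) L1 ≪≫ ?_
      rw [hL1]
      exact (hGE (-1) 0 (by lia) L).symm
    exact (V_amp_iff f 0 ((tt.truncGE 0).obj L2) _ e).2 h0

/-- homology of a shift. -/
def hShift (K : Dual.D A) (n a a' : ℤ) (h : n + a = a') :
    (homologyFunctor (ModuleCat.{u} A) a).obj (K⟦n⟧) ≅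
      (homologyFunctor (ModuleCat.{u} A) a').obj K :=
  ((homologyFunctor (ModuleCat.{u} A) 0).shiftIso n a a' h).app K

lemma V_single_shift (M : ModuleCat.{u} A)
    (h0 : V f ((singleFunctor (ModuleCat.{u} A) 0).obj M))
    (h1 : V f (((singleFunctor (ModuleCat.{u} A) 0).obj M)⟦(1 : ℤ)⟧)) (n : ℤ) :
    V f (((singleFunctor (ModuleCat.{u} A) 0).obj M)⟦n⟧) := by
  rcases lt_trichotomy n 0 with hn | rfl | hn
  · have i1 : (((singleFunctor (ModuleCat.{u} A) 0).obj M)⟦n⟧).IsGE (-n) :=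
      tt.isGE_shift _ 0 n (-n) (by lia)
    have i2 : (((singleFunctor (ModuleCat.{u} A) 0).obj M)⟦n⟧).IsGE 1 :=
      tt.isGE_of_ge _ 1 (-n) (by lia)
    exact V_of_isGE f _
  · exact h0.of_iso ((shiftFunctorZero _ ℤ).app _).symm
  · rcases (by lia : n = 1 ∨ 2 ≤ n) with rfl | hn2
    · exact h1
    · have i1 : (((singleFunctor (ModuleCat.{u} A) 0).obj M)⟦n⟧).IsLE (-n) :=
        tt.isLE_shift _ 0 n (-n) (by lia)
      have i2 : (((singleFunctor (ModuleCat.{u} A) 0).obj M)⟦n⟧).IsLE (-2) :=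
        tt.isLE_of_le _ (-n) (-2) (by lia)
      exact V_of_isLE f _

/-- `single_{-1} M ≅ (single_0 M)⟦1⟧`. -/
def singleShiftOne (M : ModuleCat.{u} A) :
    ((singleFunctor (ModuleCat.{u} A) 0).obj M)⟦(1 : ℤ)⟧ ≅
      (singleFunctor (ModuleCat.{u} A) (-1)).obj M :=
  ((singleFunctors (ModuleCat.{u} A)).shiftIso 1 (-1) 0 (by lia)).app M

theorem V_shift_iff (K : Dual.D A) :
    (∀ n : ℤ, V f (K⟦n⟧)) ↔ ∀ i : ℤ, ∀ n : ℤ, V f ((Dual.inD A (Dual.HD A K i))⟦n⟧) := by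
  constructor
  · intro h i
    apply V_single_shift
    · exact (V_H0 f _ (h i)).of_iso ((singleFunctor _ 0).mapIso (hShift K i 0 i (by lia)))
    · have := (V_Hm1 f _ (h (i + 1))).of_iso
        ((singleFunctor _ (-1)).mapIso (hShift K (i + 1) (-1) i (by lia)))
      exact this.of_iso (singleShiftOne _).symm
  · intro h n
    apply V_of_H
    · have := (h n 0).of_iso ((shiftFunctorZero _ ℤ).app _)
      exact this.of_iso ((singleFunctor _ 0).mapIso (hShift K n 0 n (by lia)).symm)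
    · have := (h (n - 1) 1).of_iso (singleShiftOne _)
      exact this.of_iso ((singleFunctor _ (-1)).mapIso (hShift K n (-1) (n - 1) (by lia)).symm)

theorem V_shift_iff_crit (K : Dual.D A) :
    (∀ n : ℤ, V f (K⟦n⟧)) ↔ ∀ i : ℤ, Crit f (Dual.HD A K i) := by
  rw [V_shift_iff]
  refine forall_congr' fun i => ?_
  simp only [V_iff_subsingleton]
  exact dc_iff f _

theorem isDerivedComplete_iff_V (I : Ideal A) (K : Dual.D A) :
    DRing.IsDerivedComplete I K ↔ ∀ f ∈ I, ∀ n : ℤ, V f (K⟦n⟧) := by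
  simp only [V_iff_subsingleton]
  rfl

theorem isDerivedComplete_iff_forall_crit (I : Ideal A) (K : Dual.D A) :
    DRing.IsDerivedComplete I K ↔ ∀ f ∈ I, ∀ i : ℤ, Crit f (Dual.HD A K i) := by
  rw [isDerivedComplete_iff_V]
  exact forall₂_congr fun f _ => V_shift_iff_crit f K

theorem isDerivedComplete_iff_cohomology (I : Ideal A) (K : Dual.D A) :
    DRing.IsDerivedComplete I K ↔
      ∀ i : ℤ, DRing.IsDerivedComplete I (Dual.inD A (Dual.HD A K i)) := by
  rw [isDerivedComplete_iff_forall_crit]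
  simp only [isDerivedComplete_iff_crit]
  exact ⟨fun h i f hf => h f hf i, fun h f hf i => h i f hf⟩

end

end Groth.Agent.Lib.Helper10.DerComplete
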