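import Mathlib
import Groth.Agent.Lib.Helper10DerComplete2

/-!
# The set of `f` with `M` derived `f`-complete is a radical ideal

Key lemma `Crit.bijective_id_sub`: if `N` is derived `f`-complete and `T : N → N` is linear then
`1 - f T` is bijective.
-/

set_option autoImplicit false
universe u
open CategoryTheory

namespace Groth.Agent.Lib.Helper10.DerComplete

variable {A : Type u} [CommRing A]
variable {M N : Type*} [AddCommGroup M] [Module A M] [AddCommGroup N] [Module A N]

/-- the shift operator on sequences. -/
def shiftL (A : Type u) [CommRing A] (M : Type*) [AddCommGroup M] [Module A M] :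
    (ℕ → M) →ₗ[A] (ℕ → M) where
  toFun m n := m (n + 1)
  map_add' _ _ := rfl
  map_smul' _ _ := rfl

@[simp] lemma shiftL_apply (m : ℕ → M) (n : ℕ) : shiftL A M m n = m (n + 1) := rfl

lemma crit_iff_bijective (f : A) :
    Crit f M ↔ Function.Bijective (LinearMap.id - f • shiftL A M : (ℕ → M) →ₗ[A] (ℕ → M)) := by
  constructor
  · rintro ⟨hU, hE⟩
    constructor
    · rw [← LinearMap.ker_eq_bot, LinearMap.ker_eq_bot']
      intro m hm
      funext n
      apply hU m
      intro n
      have := congrFun hm n
      simp only [LinearMap.sub_apply, LinearMap.id_apply, LinearMap.smul_apply, Pi.sub_apply,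
        Pi.smul_apply, shiftL_apply, Pi.zero_apply] at this
      exact sub_eq_zero.mp this
    · intro y
      obtain ⟨m, hm⟩ := hE y
      refine ⟨m, funext fun n => ?_⟩
      simp only [LinearMap.sub_apply, LinearMap.id_apply, LinearMap.smul_apply, Pi.sub_apply,
        Pi.smul_apply, shiftL_apply]
      exact hm n
  · rintro ⟨hi, hs⟩
    constructor
    · intro m hm n
      have : m = 0 := by
        apply hi
        rw [map_zero]
        funext n
        simp only [LinearMap.sub_apply, LinearMap.id_apply, LinearMap.smul_apply, Pi.sub_apply,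
          Pi.smul_apply, shiftL_apply, Pi.zero_apply]
        exact sub_eq_zero.mpr (hm n)
      rw [this]; rfl
    · intro y
      obtain ⟨m, hm⟩ := hs y
      refine ⟨m, fun n => ?_⟩
      have := congrFun hm n
      simp only [LinearMap.sub_apply, LinearMap.id_apply, LinearMap.smul_apply, Pi.sub_apply,
        Pi.smul_apply, shiftL_apply] at this
      exact this

lemma Crit.pi {f : A} (ι : Type*) (h : Crit f M) : Crit f (ι → M) := by
  obtain ⟨hU, hE⟩ := h
  constructor
  · intro m hm n
    funext j
    exact hU (fun n => m n j) (fun n => congrFun (hm n) j) n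
  · intro y
    choose m hm using fun j => hE (fun n => y n j)
    exact ⟨fun n j => m j n, fun n => funext fun j => hm j n⟩

/-- **Key lemma**: on a derived `f`-complete module, `1 - f T` is bijective for every
endomorphism `T`. -/
lemma Crit.bijective_id_sub {f : A} (h : Crit f N) (T : N →ₗ[A] N) :
    Function.Bijective (LinearMap.id - f • T : N →ₗ[A] N) := by
  obtain ⟨hU, hE⟩ := h
  constructor
  · rw [← LinearMap.ker_eq_bot, LinearMap.ker_eq_bot']
    intro m hm
    have hm' : m = f • T m := by
      simp only [LinearMap.sub_apply, LinearMap.id_apply, LinearMap.smul_apply] at hm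
      exact sub_eq_zero.mp hm
    have := hU (fun k => (T ^ k) m) (fun k => by
      change (T ^ k) m = f • (T ^ (k + 1)) m
      rw [pow_succ, Module.End.mul_apply, ← map_smul, ← hm']) 0
    simpa using this
  · intro y
    obtain ⟨m, hm⟩ := hE (fun k => (T ^ k) y)
    have hd : ∀ k, T (m k) - m (k + 1) = 0 := by
      apply hU (fun k => T (m k) - m (k + 1))
      intro k
      have h1 := congrArg T (hm k)
      have h2 := hm (k + 1)
      rw [map_sub, map_smul] at h1
      have h3 : T ((T ^ k) y) = (T ^ (k + 1)) y := by rw [pow_succ', Module.End.mul_apply]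
      rw [h3] at h1
      have h4 := h1.trans h2.symm
      rw [smul_sub]
      rw [sub_eq_sub_iff_add_eq_add] at h4 ⊢
      rw [h4, add_comm]
    refine ⟨m 0, ?_⟩
    have h0 := hm 0
    simp only [pow_zero, Module.End.one_apply] at h0
    simp only [LinearMap.sub_apply, LinearMap.id_apply, LinearMap.smul_apply]
    rw [sub_eq_zero.mp (hd 0)]
    exact h0

/-- the set of `f` such that `M` is derived `f`-complete, as an ideal. -/
def critIdeal (A : Type u) [CommRing A] (M : Type*) [AddCommGroup M] [Module A M] : Ideal A where
  carrier := {f | Crit f M}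
  zero_mem' := ⟨fun m hm n => by rw [hm n, zero_smul],
    fun y => ⟨y, fun n => by rw [zero_smul, sub_zero]⟩⟩
  add_mem' := by
    intro f g hf hg
    change Crit (f + g) M
    rw [crit_iff_bijective]
    have hf' := (Crit.pi ℕ hf).bijective_id_sub (shiftL A M)
    let e := LinearEquiv.ofBijective _ hf'
    have hg' := (Crit.pi ℕ hg).bijective_id_sub (e.symm.toLinearMap ∘ₗ shiftL A M)
    have key : (LinearMap.id - (f + g) • shiftL A M : (ℕ → M) →ₗ[A] (ℕ → M)) =
        (LinearMap.id - f • shiftL A M) ∘ₗ
          (LinearMap.id - g • (e.symm.toLinearMap ∘ₗ shiftL A M)) := by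
      refine LinearMap.ext fun m => ?_
      have h1 : (LinearMap.id - f • shiftL A M : (ℕ → M) →ₗ[A] (ℕ → M))
          (e.symm (shiftL A M m)) = shiftL A M m := e.apply_symm_apply _
      have h2 : (LinearMap.id - g • (e.symm.toLinearMap ∘ₗ shiftL A M) :
          (ℕ → M) →ₗ[A] (ℕ → M)) m = m - g • e.symm (shiftL A M m) := rfl
      rw [LinearMap.comp_apply, h2, map_sub, map_smul, h1]
      simp only [LinearMap.sub_apply, LinearMap.id_apply, LinearMap.smul_apply, add_smul,
        LinearMap.add_apply]
      abel
    rw [key]
    exact hf'.comp hg'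
  smul_mem' := by
    intro a f hf
    change Crit (a • f) M
    rw [crit_iff_bijective, smul_eq_mul]
    have := (Crit.pi ℕ hf).bijective_id_sub (a • shiftL A M)
    rwa [smul_smul, mul_comm] at this

lemma mem_critIdeal {f : A} : f ∈ critIdeal A M ↔ Crit f M := Iff.rfl

lemma critIdeal_isRadical : (critIdeal A M).IsRadical := by
  rintro f ⟨n, hn⟩
  rcases Nat.eq_zero_or_pos n with rfl | hpos
  · rw [pow_zero] at hn
    rw [(Ideal.eq_top_iff_one _).mpr hn]
    trivial
  · rw [mem_critIdeal, crit_iff_bijective]
    have hb := (Crit.pi ℕ (mem_critIdeal.mp hn)).bijective_id_sub ((shiftL A M) ^ n)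
    let x : Module.End A (ℕ → M) := f • shiftL A M
    have hx : (LinearMap.id - f ^ n • (shiftL A M) ^ n : Module.End A (ℕ → M)) = 1 - x ^ n := by
      rw [smul_pow]; rfl
    have h1 : (1 - x) * (∑ i ∈ Finset.range n, x ^ i) = 1 - x ^ n := mul_neg_geom_sum x n
    have h2 : (∑ i ∈ Finset.range n, x ^ i) * (1 - x) = 1 - x ^ n := geom_sum_mul_neg x n
    rw [hx] at hb
    change Function.Bijective (1 - x : Module.End A (ℕ → M))
    constructor
    · have : Function.Injective ((∑ i ∈ Finset.range n, x ^ i) * (1 - x) : Module.End A (ℕ → M)) := by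
        rw [h2]; exact hb.1
      exact Function.Injective.of_comp (f := (∑ i ∈ Finset.range n, x ^ i : Module.End A (ℕ → M)))
        this
    · have : Function.Surjective ((1 - x) * (∑ i ∈ Finset.range n, x ^ i) : Module.End A (ℕ → M)) := by
        rw [h1]; exact hb.2
      exact Function.Surjective.of_comp (g := (∑ i ∈ Finset.range n, x ^ i : Module.End A (ℕ → M)))
        this

end Groth.Agent.Lib.Helper10.DerComplete
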