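import Mathlib
import Groth.Prelude.Def_DRing4
import Groth.Agent.Lib.Helper10DCCech
import Groth.Agent.Lib.Helper10DerComplete5
import Groth.Agent.Lib.Helper10DerComplete4
set_option backward.isDefEq.respectTransparency.types false

/-!
# Derived completion exists for finitely generated ideals and equals `RHom(Č, -)` (helper10)
-/

set_option autoImplicit false
universe u
open CategoryTheory CategoryTheory.Limits HomologicalComplex CochainComplex MonoidalCategory
attribute [local instance] HasDerivedCategory.standard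

namespace Groth.Agent.Lib.Helper10.DCMain

open DerivedCategory Groth.Agent.Lib.Helper1.KF Groth.Agent.Lib.Helper1.DT
  Groth.Agent.Lib.Helper10.TensHom Groth.Agent.Lib.Helper10.TensHomD
  Groth.Agent.Lib.Helper10.DCAdj Groth.Agent.Lib.Helper10.DCLoc
  Groth.Agent.Lib.Helper10.DCCech Groth.Agent.Lib.Helper10.RHomCx HomComplex

variable {A : Type u} [CommRing A]

section Eta

/-- `Hom•(𝟙, -) ≅ id` -/
noncomputable def unitHomIso : DRing.homCxFunctor (𝟙_ (Cx A)) ≅ 𝟭 (Cx A) :=
  ((adj (𝟙_ (Cx A))).ofNatIsoLeft (rightUnitorNatIso (Cx A))).rightAdjointUniq Adjunction.id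

variable {P : Cx A} (a : P ⟶ 𝟙_ (Cx A))

/-- chain-level unit `Y ⟶ Hom•(P, Y)` induced by an augmentation `a : P ⟶ 𝟙` -/
noncomputable def ηc : 𝟭 (Cx A) ⟶ DRing.homCxFunctor P where
  app Y := unitHomIso.inv.app Y ≫ homCxPre a Y
  naturality Y Y' g := by
    have h1 : g ≫ unitHomIso.inv.app Y' =
        unitHomIso.inv.app Y ≫ DRing.homCxMap (𝟙_ (Cx A)) g := unitHomIso.inv.naturality g
    have h2 := homCxMap_comp_homCxPre a g
    change g ≫ unitHomIso.inv.app Y' ≫ homCxPre a Y' =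
      (unitHomIso.inv.app Y ≫ homCxPre a Y) ≫ DRing.homCxMap P g
    exact (Category.assoc _ _ _).symm.trans ((congrArg (fun x => x ≫ homCxPre a Y') h1).trans
      ((Category.assoc _ _ _).trans ((congrArg (fun x => unitHomIso.inv.app Y ≫ x) h2).trans
        (Category.assoc _ _ _).symm)))

variable [P.IsKProjective]

/-- the unit `M ⟶ RHom(P, M)` on `D(A)` induced by an augmentation `a : P ⟶ 𝟙` -/
noncomputable def ηD : 𝟭 (Dual.D A) ⟶ RP P :=
  letI : Localization.Lifting Q (qis A) (DRing.homCxFunctor P ⋙ Q) (RP P) := ⟨RPIso P⟩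
  Localization.liftNatTrans Q (qis A) Q (DRing.homCxFunctor P ⋙ Q) (𝟭 _) (RP P)
    ((Functor.leftUnitor Q).inv ≫ Functor.whiskerRight (ηc a) Q)

lemma ηD_app (Y : Cx A) :
    (ηD a).app (Q.obj Y) = Q.map ((ηc a).app Y) ≫ (RPIso P).inv.app Y := by
  letI : Localization.Lifting Q (qis A) (DRing.homCxFunctor P ⋙ Q) (RP P) := ⟨RPIso P⟩
  have := Localization.liftNatTrans_app Q (qis A) Q (DRing.homCxFunctor P ⋙ Q) (𝟭 _) (RP P)
    ((Functor.leftUnitor Q).inv ≫ Functor.whiskerRight (ηc a) Q) Y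
  refine this.trans ?_
  simp [Localization.Lifting.iso]
  rfl

end Eta

section Univ

open Groth.Agent.Lib.Helper1.ExtCech4 Groth.Agent.Lib.Helper17.KInj

/-- the augmentation of the extended Čech complex of `A`, as a map to the monoidal unit -/
noncomputable def aug' (fs : List A) : DerCA.extCech (ModuleCat.of A A) fs ⟶ 𝟙_ (Cx A) :=
  aug (ModuleCat.of A A) fs

lemma bijective_precomp_of_isIso {X Y : Dual.D A} (f : X ⟶ Y) [IsIso f] (E : Dual.D A) :
    Function.Bijective (fun ψ : Y ⟶ E => f ≫ ψ) :=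
  (asIso f).homFromEquiv.symm.bijective

/-- **Universal property** of `M ⟶ RHom(P, M)`, `P` a K-projective resolution of the extended
Čech complex: it is initial among maps from `M` to objects which are derived complete with
respect to the elements of `fs`. -/
theorem bijective_ηD (fs : List A) {P : Cx A} [P.IsKProjective]
    (π : P ⟶ DerCA.extCech (ModuleCat.of A A) fs) [QuasiIso π] (M E : Dual.D A)
    (hE : ∀ g ∈ fs, FC g E) :
    Function.Bijective (fun ψ : (RP P).obj M ⟶ E => (ηD (π ≫ aug' fs)).app M ≫ ψ) := by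
  obtain ⟨I₀, j, hI₀, hj, -, -⟩ :=
    exists_kInjective_resolution.{u} (ModuleCat.{u} A) (Q.objPreimage M)
  haveI : IsIso (Q.map j) := (isIso_Q_map_iff_quasiIso _ j).2 hj
  let e : M ≅ Q.obj I₀ := (Q.objObjPreimageIso M).symm ≪≫ asIso (Q.map j)
  have hnat : (ηD (π ≫ aug' fs)).app M =
      e.hom ≫ (ηD (π ≫ aug' fs)).app (Q.obj I₀) ≫ (RP P).map e.inv := by
    have h := (ηD (π ≫ aug' fs)).naturality e.hom
    have h' : e.hom ≫ (ηD (π ≫ aug' fs)).app (Q.obj I₀) =
        (ηD (π ≫ aug' fs)).app M ≫ (RP P).map e.hom := h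
    rw [← Category.assoc, h', Category.assoc, ← Functor.map_comp, Iso.hom_inv_id,
      CategoryTheory.Functor.map_id, Category.comp_id]
  haveI : QuasiIso (homCxPre π I₀) := quasiIso_homCxPre I₀ π
  haveI : IsIso (Q.map (homCxPre π I₀)) := (isIso_Q_map_iff_quasiIso _ _).2 inferInstance
  let αi : M ≅ Q.obj (DRing.homCx (𝟙_ (Cx A)) I₀) := e ≪≫ Q.mapIso (unitHomIso.symm.app I₀)
  let γi : Q.obj (DRing.homCx P I₀) ≅ (RP P).obj M :=
    (RPIso P).symm.app I₀ ≪≫ (RP P).mapIso e.symm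
  obtain ⟨α, hα⟩ : ∃ α : M ⟶ Q.obj (DRing.homCx (𝟙_ (Cx A)) I₀), α = αi.hom := ⟨_, rfl⟩
  obtain ⟨γ, hγ⟩ : ∃ γ : Q.obj (DRing.homCx (DerCA.extCech (ModuleCat.of A A) fs) I₀) ⟶
      (RP P).obj M, γ = Q.map (homCxPre π I₀) ≫ γi.hom := ⟨_, rfl⟩
  haveI : IsIso α := by rw [hα]; infer_instance
  haveI : IsIso γ := by rw [hγ]; infer_instance
  have h1 : Q.map ((ηc (π ≫ aug' fs)).app I₀) =
      Q.map (unitHomIso.inv.app I₀) ≫ Q.map (homCxPre (aug' fs) I₀) ≫
        Q.map (homCxPre π I₀) := by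
    have h0 : (ηc (π ≫ aug' fs)).app I₀ =
        unitHomIso.inv.app I₀ ≫ homCxPre (aug' fs) I₀ ≫ homCxPre π I₀ :=
      congrArg (fun x => unitHomIso.inv.app I₀ ≫ x) (homCxPre_comp π (aug' fs) I₀)
    exact (congrArg (fun x => Q.map x) h0).trans ((Q.map_comp _ _).trans
      (congrArg (fun x => Q.map (unitHomIso.inv.app I₀) ≫ x) (Q.map_comp _ _)))
  have hfac : (ηD (π ≫ aug' fs)).app M = α ≫ Q.map (homCxPre (aug' fs) I₀) ≫ γ := by
    rw [hnat, ηD_app, h1, hα, hγ]
    change e.hom ≫ ((Q.map (unitHomIso.inv.app I₀) ≫ Q.map (homCxPre (aug' fs) I₀) ≫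
      Q.map (homCxPre π I₀)) ≫ (RPIso P).inv.app I₀) ≫ (RP P).map e.inv =
      (e.hom ≫ Q.map (unitHomIso.inv.app I₀)) ≫ Q.map (homCxPre (aug' fs) I₀) ≫
        Q.map (homCxPre π I₀) ≫ (RPIso P).inv.app I₀ ≫ (RP P).map e.inv
    simp only [Category.assoc]
  have hcomp : (fun ψ : (RP P).obj M ⟶ E => (ηD (π ≫ aug' fs)).app M ≫ ψ) =
      (fun ψ => α ≫ ψ) ∘ (fun ψ => Q.map (homCxPre (aug' fs) I₀) ≫ ψ) ∘ (fun ψ => γ ≫ ψ) := by
    funext ψ
    simp only [Function.comp_apply, hfac, Category.assoc]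
  rw [hcomp]
  exact (bijective_precomp_of_isIso α E).comp
    ((bijective_precomp_aug I₀ fs E hE).comp (bijective_precomp_of_isIso γ E))

end Univ

section Exists

open Groth.Agent.Lib.Helper10.DerComplete

lemma isDerivedComplete_of_fc (fs : List A) (E : Dual.D A) (h : ∀ g ∈ fs, FC g E) :
    DRing.IsDerivedComplete (Ideal.span {x : A | x ∈ fs}) E := by
  rw [isDerivedComplete_iff_forall_crit]
  intro f hf i
  have hle : Ideal.span {x : A | x ∈ fs} ≤ critIdeal A (Dual.HD A E i) := by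
    rw [Ideal.span_le]
    intro g hg
    exact (V_shift_iff_crit g E).1 (fun n => (V_iff_subsingleton g _).2 (h g hg n)) i
  exact hle hf

/-- **Existence of derived completion** with respect to the ideal generated by a finite list:
the left adjoint is `M ↦ RHom(P, M)`, `P` a K-projective resolution of the extended Čech
complex. -/
theorem hasDerivedCompletion_span (fs : List A) :
    DRing.HasDerivedCompletion (Ideal.span {x : A | x ∈ fs}) := by
  obtain ⟨P, π, hP, -, hπ, -⟩ :=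
    exists_kprojective_resolution (DerCA.extCech (ModuleCat.of A A) fs)
  let Fobj : Dual.D A → DRing.DComp (Ideal.span {x : A | x ∈ fs}) := fun M =>
    ⟨(RP P).obj M, isDerivedComplete_of_fc fs _ (fun g hg => fc_RP fs π g hg M)⟩
  let e : ∀ (M : Dual.D A) (Y : DRing.DComp (Ideal.span {x : A | x ∈ fs})),
      (Fobj M ⟶ Y) ≃ (M ⟶ (ObjectProperty.ι _).obj Y) := fun M Y =>
    ((ObjectProperty.fullyFaithfulι _).homEquiv).trans
      (Equiv.ofBijective _ (bijective_ηD fs π M Y.obj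
        (fun g hg => Y.property g (Ideal.subset_span hg))))
  have he : ∀ X Y Y' g h, e X Y' (h ≫ g) = e X Y h ≫ (ObjectProperty.ι _).map g := by
    intro X Y Y' g h
    change (ηD (π ≫ aug' fs)).app X ≫ (h ≫ g).hom =
      ((ηD (π ≫ aug' fs)).app X ≫ h.hom) ≫ g.hom
    simp
  exact (Adjunction.adjunctionOfEquivLeft e he).isRightAdjoint

end Exists

end Groth.Agent.Lib.Helper10.DCMain
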