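import Mathlib
import Groth.Prelude.Def_DRing4
import Groth.Agent.Lib.Helper10DCMain
set_option backward.isDefEq.respectTransparency.types false

/-!
# Derived completion: uniqueness, and compatibility with `RHom(K, -)` (helper10)
-/

set_option autoImplicit false
universe u
open CategoryTheory CategoryTheory.Limits HomologicalComplex CochainComplex MonoidalCategory
attribute [local instance] HasDerivedCategory.standard

namespace Groth.Agent.Lib.Helper10.DCMain

open DerivedCategory Groth.Agent.Lib.Helper1.KF Groth.Agent.Lib.Helper1.DT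
  Groth.Agent.Lib.Helper10.TensHom Groth.Agent.Lib.Helper10.TensHomD
  Groth.Agent.Lib.Helper10.DCAdj Groth.Agent.Lib.Helper10.DCLoc
  Groth.Agent.Lib.Helper10.DCCech Groth.Agent.Lib.Helper10.RHomCx HomComplex

section General

variable {D : Type*} [Category D] (Pr : ObjectProperty D)

/-- two universal arrows to `Pr`-objects are isomorphic -/
lemma exists_iso_of_universal {X W W' : D} (η : X ⟶ W) (η' : X ⟶ W') (hW : Pr W) (hW' : Pr W')
    (h : ∀ E, Pr E → Function.Bijective (fun ψ : W ⟶ E => η ≫ ψ))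
    (h' : ∀ E, Pr E → Function.Bijective (fun ψ : W' ⟶ E => η' ≫ ψ)) :
    ∃ e : W ≅ W', η ≫ e.hom = η' := by
  obtain ⟨a, ha⟩ := (h W' hW').2 η'
  obtain ⟨b, hb⟩ := (h' W hW).2 η
  have ha' : η ≫ a = η' := ha
  have hb' : η' ≫ b = η := hb
  refine ⟨⟨a, b, ?_, ?_⟩, ha'⟩
  · apply (h W hW).1
    change η ≫ a ≫ b = η ≫ 𝟙 W
    rw [← Category.assoc, ha', hb', Category.comp_id]
  · apply (h' W' hW').1
    change η' ≫ b ≫ a = η' ≫ 𝟙 W'
    rw [← Category.assoc, hb', ha', Category.comp_id]

variable (Lam : D ⥤ D) (η : 𝟭 D ⟶ Lam) (hLam : ∀ M, Pr (Lam.obj M))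
  (hη : ∀ M E, Pr E → Function.Bijective (fun ψ : Lam.obj M ⟶ E => η.app M ≫ ψ))

include hη in
lemma bijective_of_isIso_map {M M' : D} (ψ : M ⟶ M') (h : IsIso (Lam.map ψ)) (E : D) (hE : Pr E) :
    Function.Bijective (fun φ : M' ⟶ E => ψ ≫ φ) := by
  have nat : η.app M ≫ Lam.map ψ = ψ ≫ η.app M' := (η.naturality ψ).symm
  constructor
  · intro φ₁ φ₂ h12
    have h12' : ψ ≫ φ₁ = ψ ≫ φ₂ := h12
    obtain ⟨x₁, hx₁⟩ := (hη M' E hE).2 φ₁
    obtain ⟨x₂, hx₂⟩ := (hη M' E hE).2 φ₂
    have hx₁' : η.app M' ≫ x₁ = φ₁ := hx₁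
    have hx₂' : η.app M' ≫ x₂ = φ₂ := hx₂
    rw [← hx₁', ← hx₂', ← Category.assoc, ← Category.assoc, ← nat, Category.assoc,
      Category.assoc] at h12'
    have h3 : Lam.map ψ ≫ x₁ = Lam.map ψ ≫ x₂ := (hη M E hE).1 h12'
    have h4 : x₁ = x₂ := (cancel_epi (Lam.map ψ)).1 h3
    rw [← hx₁', ← hx₂', h4]
  · intro χ
    obtain ⟨χ', hχ'⟩ := (hη M E hE).2 χ
    have hχ'' : η.app M ≫ χ' = χ := hχ'
    refine ⟨η.app M' ≫ inv (Lam.map ψ) ≫ χ', ?_⟩
    change ψ ≫ η.app M' ≫ inv (Lam.map ψ) ≫ χ' = χ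
    rw [← Category.assoc, ← nat, Category.assoc, IsIso.hom_inv_id_assoc, hχ'']

include hLam hη in
lemma isIso_map_of_bijective {M M' : D} (ψ : M ⟶ M')
    (h : ∀ E, Pr E → Function.Bijective (fun φ : M' ⟶ E => ψ ≫ φ)) : IsIso (Lam.map ψ) := by
  have nat : η.app M ≫ Lam.map ψ = ψ ≫ η.app M' := (η.naturality ψ).symm
  have hB : ∀ E, Pr E → Function.Bijective (fun x : Lam.obj M' ⟶ E => Lam.map ψ ≫ x) := by
    intro E hE
    constructor
    · intro x y hxy
      have hxy' : Lam.map ψ ≫ x = Lam.map ψ ≫ y := hxy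
      have h1 : ψ ≫ (η.app M' ≫ x) = ψ ≫ (η.app M' ≫ y) := by
        rw [← Category.assoc, ← nat, Category.assoc, hxy', ← Category.assoc, nat, Category.assoc]
      exact (hη M' E hE).1 ((h E hE).1 h1)
    · intro z
      obtain ⟨w, hw⟩ := (h E hE).2 (η.app M ≫ z)
      have hw' : ψ ≫ w = η.app M ≫ z := hw
      obtain ⟨x, hx⟩ := (hη M' E hE).2 w
      have hx' : η.app M' ≫ x = w := hx
      refine ⟨x, ?_⟩
      apply (hη M E hE).1
      change η.app M ≫ Lam.map ψ ≫ x = η.app M ≫ z
      rw [← Category.assoc, nat, Category.assoc, hx', hw']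
  obtain ⟨r, hr⟩ := (hB _ (hLam M)).2 (𝟙 _)
  have hr' : Lam.map ψ ≫ r = 𝟙 _ := hr
  refine ⟨r, hr', ?_⟩
  apply (hB _ (hLam M')).1
  change Lam.map ψ ≫ r ≫ Lam.map ψ = Lam.map ψ ≫ 𝟙 _
  rw [← Category.assoc, hr', Category.id_comp, Category.comp_id]

end General

variable {A : Type u} [CommRing A]

section Abs

/-- the abstract unit `L ⟶ L^` is universal among maps to derived complete objects -/
lemma bijective_toDerivedCompletion (I : Ideal A) [DRing.HasDerivedCompletion I] (L E : Dual.D A)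
    (hE : DRing.IsDerivedComplete I E) :
    Function.Bijective (fun ψ : ((DRing.derivedCompletion I).obj L).obj ⟶ E =>
      DRing.toDerivedCompletion I L ≫ ψ) := by
  have h1 := ((DRing.derivedCompletionAdj I).homEquiv L ⟨E, hE⟩).bijective
  have h2 := ((ObjectProperty.fullyFaithfulι (DRing.IsDerivedComplete I)).homEquiv
    (X := (DRing.derivedCompletion I).obj L) (Y := ⟨E, hE⟩)).symm.bijective
  have h3 := h1.comp h2
  have e : (fun ψ : ((DRing.derivedCompletion I).obj L).obj ⟶ E =>
      DRing.toDerivedCompletion I L ≫ ψ) =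
      ⇑((DRing.derivedCompletionAdj I).homEquiv L ⟨E, hE⟩) ∘
        ⇑((ObjectProperty.fullyFaithfulι (DRing.IsDerivedComplete I)).homEquiv
          (X := (DRing.derivedCompletion I).obj L) (Y := ⟨E, hE⟩)).symm := by
    funext ψ
    rw [Function.comp_apply, Adjunction.homEquiv_unit]
    rfl
  rw [e]
  exact h3

end Abs

section Uniq

open Groth.Agent.Lib.Helper1.ExtCech4

/-- the derived completion (any left adjoint of the inclusion) is computed by `RHom(P, -)`,
`P` a K-projective resolution of the extended Čech complex, compatibly with the units -/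
theorem exists_derivedCompletion_iso (fs : List A) (I : Ideal A)
    (hI : Ideal.span {x : A | x ∈ fs} = I) [DRing.HasDerivedCompletion I]
    {P : Cx A} [P.IsKProjective] (π : P ⟶ DerCA.extCech (ModuleCat.of A A) fs) [QuasiIso π]
    (L : Dual.D A) :
    ∃ e : ((DRing.derivedCompletion I).obj L).obj ≅ (RP P).obj L,
      DRing.toDerivedCompletion I L ≫ e.hom = (ηD (π ≫ aug' fs)).app L := by
  subst hI
  refine exists_iso_of_universal (DRing.IsDerivedComplete (Ideal.span {x : A | x ∈ fs})) _ _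
    ((DRing.derivedCompletion _).obj L).property
    (isDerivedComplete_of_fc fs _ (fun g hg => fc_RP fs π g hg L))
    (fun E hE => bijective_toDerivedCompletion _ L E hE)
    (fun E hE => bijective_ηD fs π L E (fun g hg => hE g (Ideal.subset_span hg)))

end Uniq

section Commute

variable (P P' : Cx A) [P.IsKProjective] [P'.IsKProjective]

lemma homEquivLR_symm_naturality (X : Cx A) {Y Y' : Dual.D A} (y : Q.obj X ⟶ (RP P).obj Y)
    (g : Y ⟶ Y') :
    (homEquivLR P X Y').symm (y ≫ (RP P).map g) = (homEquivLR P X Y).symm y ≫ g := by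
  apply (homEquivLR P X Y').injective
  rw [Equiv.apply_symm_apply, homEquivLR_naturality, Equiv.apply_symm_apply]

/-- the comparison `Hom(QX, RHom(P, RHom(P', Y))) ≃ Hom(Q(X ⊗ P'), RHom(P, Y))` -/
noncomputable def swapEquiv (X : Cx A) (Y : Dual.D A) :
    (Q.obj X ⟶ (RP P).obj ((RP P').obj Y)) ≃ (Q.obj (X ⊗ P') ⟶ (RP P).obj Y) :=
  (homEquivLR P X _).symm.trans ((homEquivLR P' (X ⊗ P) Y).symm.trans
    ((Q.mapIso (α_ X P P' ≪≫ whiskerLeftIso X (swapIso P P') ≪≫
      (α_ X P' P).symm)).homFromEquiv.trans (homEquivLR P (X ⊗ P') Y)))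

lemma swapEquiv_naturality (X : Cx A) {Y Y' : Dual.D A} (g : Y ⟶ Y')
    (x : Q.obj X ⟶ (RP P).obj ((RP P').obj Y)) :
    swapEquiv P P' X Y' (x ≫ (RP P).map ((RP P').map g)) =
      swapEquiv P P' X Y x ≫ (RP P).map g := by
  simp only [swapEquiv, Equiv.trans_apply]
  rw [homEquivLR_symm_naturality, homEquivLR_symm_naturality]
  simp only [Iso.homFromEquiv_apply]
  rw [← Category.assoc, homEquivLR_naturality]

/-- if `RHom(P, g)` is an isomorphism then so is `RHom(P, RHom(P', g))` -/
theorem isIso_RP_map_RP_map {L L' : Dual.D A} (g : L ⟶ L') (hg : IsIso ((RP P).map g)) :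
    IsIso ((RP P).map ((RP P').map g)) := by
  apply isIso_of_yoneda_map_bijective
  intro W
  obtain ⟨X, ⟨w⟩⟩ : ∃ X : Cx A, Nonempty (Q.obj X ≅ W) := ⟨_, ⟨Q.objObjPreimageIso W⟩⟩
  constructor
  · intro x y hxy
    have hxy' : x ≫ (RP P).map ((RP P').map g) = y ≫ (RP P).map ((RP P').map g) := hxy
    have h1 : swapEquiv P P' X L' ((w.hom ≫ x) ≫ (RP P).map ((RP P').map g)) =
        swapEquiv P P' X L' ((w.hom ≫ y) ≫ (RP P).map ((RP P').map g)) := by
      rw [Category.assoc, Category.assoc, hxy']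
    rw [swapEquiv_naturality, swapEquiv_naturality] at h1
    have h2 := (cancel_mono ((RP P).map g)).1 h1
    have h3 := (swapEquiv P P' X L).injective h2
    exact (cancel_epi w.hom).1 h3
  · intro z
    refine ⟨w.inv ≫ (swapEquiv P P' X L).symm
      (swapEquiv P P' X L' (w.hom ≫ z) ≫ inv ((RP P).map g)), ?_⟩
    change (w.inv ≫ (swapEquiv P P' X L).symm
      (swapEquiv P P' X L' (w.hom ≫ z) ≫ inv ((RP P).map g))) ≫
        (RP P).map ((RP P').map g) = z
    rw [Category.assoc, Iso.inv_comp_eq]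
    apply (swapEquiv P P' X L').injective
    rw [swapEquiv_naturality, Equiv.apply_symm_apply, Category.assoc, IsIso.inv_hom_id,
      Category.comp_id]

end Commute

section RPComplete

lemma bijective_smul_away_tensor (f : A) (N : Type*) [AddCommGroup N] [Module A N] :
    Function.Bijective (fun z : TensorProduct A (Localization.Away f) N => f • z) := by
  have hu : IsUnit (algebraMap A (Localization.Away f) f) :=
    IsLocalization.map_units _ (⟨f, 1, pow_one f⟩ : Submonoid.powers f)
  obtain ⟨u, hu'⟩ := hu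
  have e : (fun z : TensorProduct A (Localization.Away f) N => f • z) = (fun z => u • z) := by
    funext z
    rw [Units.smul_def, hu', algebraMap_smul]
  rw [e]
  exact MulAction.bijective u

/-- `RHom(P', E)` is derived `f`-complete if `E` is -/
theorem fc_RP_of_fc (f : A) (P' : Cx A) [P'.IsKProjective] (E : Dual.D A) (hE : FC f E) :
    FC f ((RP P').obj E) := by
  intro n
  have hZ : IsIso (f • 𝟙 ((TCx (ModuleCat.of A (Localization.Away f)) P')⟦-n⟧)) := by
    apply isIso_smul_shift
    apply isIso_smul_of_termwise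
    intro m
    exact bijective_smul_away_tensor f (P'.X m)
  haveI : Subsingleton (Q.obj ((TCx (ModuleCat.of A (Localization.Away f)) P')⟦-n⟧) ⟶ E) :=
    subsingleton_hom_of_isIso_smul f _ hZ E hE
  let c : (sgl (ModuleCat.of A (Localization.Away f)))⟦-n⟧ ⊗ P' ≅
      (TCx (ModuleCat.of A (Localization.Away f)) P')⟦-n⟧ :=
    tensorShiftLeftIso _ P' (-n) ≪≫
      (CategoryTheory.shiftFunctor (Cx A) (-n)).mapIso (singleTensorIso _ P').symm
  haveI : Subsingleton (Q.obj ((sgl (ModuleCat.of A (Localization.Away f)))⟦-n⟧ ⊗ P') ⟶ E) :=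
    (Q.mapIso c).homFromEquiv.subsingleton
  haveI : Subsingleton (Q.obj ((sgl (ModuleCat.of A (Localization.Away f)))⟦-n⟧) ⟶
      (RP P').obj E) := (homEquivLR P' _ E).symm.subsingleton
  let e : (Dual.inD A (Localization.Away f))⟦-n⟧ ≅
      Q.obj ((sgl (ModuleCat.of A (Localization.Away f)))⟦-n⟧) :=
    ((Q.commShiftIso (-n)).app _).symm
  exact ((shiftHomEquiv _ _ n).symm.trans e.homFromEquiv).subsingleton

lemma isDerivedComplete_RP (I : Ideal A) (P' : Cx A) [P'.IsKProjective] (E : Dual.D A)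
    (hE : DRing.IsDerivedComplete I E) : DRing.IsDerivedComplete I ((RP P').obj E) :=
  fun f hf => fc_RP_of_fc f P' E (hE f hf)

lemma isDerivedComplete_of_iso (I : Ideal A) {E E' : Dual.D A} (e : E ≅ E')
    (hE : DRing.IsDerivedComplete I E) : DRing.IsDerivedComplete I E' :=
  fun f hf => FC.of_iso (hE f hf) e

end RPComplete

section Final

/-- `RHom(P', -)` commutes with derived completion (K-projective form of S7101) -/
theorem derivedCompletion_RP (I : Ideal A) (hI : I.FG) [DRing.HasDerivedCompletion I]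
    (P' : Cx A) [P'.IsKProjective] (L : Dual.D A) :
    DRing.IsDerivedComplete I ((RP P').obj ((DRing.derivedCompletion I).obj L).obj) ∧
      ∀ E : Dual.D A, DRing.IsDerivedComplete I E →
        Function.Bijective (fun φ : (RP P').obj ((DRing.derivedCompletion I).obj L).obj ⟶ E =>
          (RP P').map (DRing.toDerivedCompletion I L) ≫ φ) := by
  refine ⟨isDerivedComplete_RP I P' _ ((DRing.derivedCompletion I).obj L).property, ?_⟩
  obtain ⟨S, hS⟩ := hI
  have hfs : Ideal.span {x : A | x ∈ S.toList} = I := by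
    rw [← hS]
    congr 1
    ext x
    simp
  obtain ⟨P, π, hP, -, hπ, -⟩ :=
    exists_kprojective_resolution (DerCA.extCech (ModuleCat.of A A) S.toList)
  have hLam : ∀ M, DRing.IsDerivedComplete I ((RP P).obj M) := by
    intro M
    rw [← hfs]
    exact isDerivedComplete_of_fc S.toList _ (fun g hg => fc_RP S.toList π g hg M)
  have hη : ∀ M E, DRing.IsDerivedComplete I E → Function.Bijective
      (fun ψ : (RP P).obj M ⟶ E => (ηD (π ≫ aug' S.toList)).app M ≫ ψ) := by
    intro M E hE
    exact bijective_ηD S.toList π M E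
      (fun g hg => hE g (by rw [← hfs]; exact Ideal.subset_span hg))
  have ha : IsIso ((RP P).map (DRing.toDerivedCompletion I L)) :=
    isIso_map_of_bijective (DRing.IsDerivedComplete I) (RP P) (ηD (π ≫ aug' S.toList)) hLam hη _
      (fun E hE => bijective_toDerivedCompletion I L E hE)
  have hb := isIso_RP_map_RP_map P P' (DRing.toDerivedCompletion I L) ha
  intro E hE
  exact bijective_of_isIso_map (DRing.IsDerivedComplete I) (RP P) (ηD (π ≫ aug' S.toList)) hη _
    hb E hE

end Final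

end Groth.Agent.Lib.Helper10.DCMain
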