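import Mathlib
import Groth.Prelude.Def_DRing4
import Groth.Agent.Lib.Helper10DCMain2
set_option backward.isDefEq.respectTransparency.types false

/-!
# Cohomological amplitude of derived completion (helper10)
-/

set_option autoImplicit false
universe u
open CategoryTheory CategoryTheory.Limits HomologicalComplex CochainComplex MonoidalCategory
attribute [local instance] HasDerivedCategory.standard

namespace Groth.Agent.Lib.Helper10.DCAmp

open DerivedCategory Groth.Agent.Lib.Helper1.KF Groth.Agent.Lib.Helper1.DT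
  Groth.Agent.Lib.Helper10.TensHom Groth.Agent.Lib.Helper10.TensHomD
  Groth.Agent.Lib.Helper10.DCAdj Groth.Agent.Lib.Helper10.DCLoc
  Groth.Agent.Lib.Helper10.DCCech Groth.Agent.Lib.Helper10.DCMain
  Groth.Agent.Lib.Helper10.UnitHom Groth.Agent.Lib.Helper10.DistPair HomComplex

variable {A : Type u} [CommRing A]

section LocTensor

/-- localisation at the powers of `f` is tensoring with `A_f` -/
noncomputable def locTensorIso (f : A) :
    DerCA.locFunctor (Submonoid.powers f) ≅
      tensorLeft (ModuleCat.of A (Localization.Away f)) :=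
  NatIso.ofComponents
    (fun M => ((LocalizedModule.equivTensorProduct (Submonoid.powers f) M).restrictScalars
      A).toModuleIso)
    (by
      intro M N g
      ext x
      induction x using LocalizedModule.induction_on with
      | h m s =>
        change (LocalizedModule.equivTensorProduct (Submonoid.powers f) N)
          ((IsLocalizedModule.map (Submonoid.powers f)
            (LocalizedModule.mkLinearMap (Submonoid.powers f) M)
            (LocalizedModule.mkLinearMap (Submonoid.powers f) N) g.hom)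
              (LocalizedModule.mk m s)) =
          ((ModuleCat.of A (Localization.Away f)) ◁ g).hom
            ((LocalizedModule.equivTensorProduct (Submonoid.powers f) M)
              (LocalizedModule.mk m s))
        rw [IsLocalizedModule.map_LocalizedModules,
          LocalizedModule.equivTensorProduct_apply_mk,
          LocalizedModule.equivTensorProduct_apply_mk]
        exact (ModuleCat.MonoidalCategory.whiskerLeft_apply
          (ModuleCat.of A (Localization.Away f)) g (Localization.mk 1 s) m).symm)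

/-- `K_f ≅ A_f ⊗ K` termwise -/
noncomputable def locCxIso (f : A) (K : Cx A) :
    (DerCA.locCx (Submonoid.powers f)).obj K ≅ TCx (ModuleCat.of A (Localization.Away f)) K :=
  (NatIso.mapHomologicalComplex (locTensorIso f) (ComplexShape.up ℤ)).app K

variable (f : A) {Pf : Cx A} [Pf.IsKProjective]
  (π : Pf ⟶ sgl (ModuleCat.of A (Localization.Away f))) [QuasiIso π]

/-- `Q(X ⊗ P_f) ≅ Q(X_f)` -/
noncomputable def QTensorPfIso (X : Cx A) :
    Q.obj (X ⊗ Pf) ≅ Q.obj ((DerCA.locCx (Submonoid.powers f)).obj X) :=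
  haveI : IsIso (Q.map (X ◁ π)) := (isIso_Q_map_iff_quasiIso _ _).2
    (quasiIso_whiskerLeft_of_kflat π (kflat_of_isKProjective Pf)
      (Groth.Agent.Lib.Helper10.RHomComp.kflatL_sgl _).kflat X)
  asIso (Q.map (X ◁ π)) ≪≫
    Q.mapIso (swapIso X (sgl _) ≪≫ (singleTensorIso _ X).symm ≪≫ (locCxIso f X).symm)

end LocTensor

section UHom

/-- `Hom(A[-i], RHom(P, E)) ≃ Hom(P, E[i])` -/
noncomputable def uHomEquiv (P : Cx A) [P.IsKProjective] (E : Dual.D A) (i : ℤ) :
    (U A i ⟶ (RP P).obj E) ≃ (Q.obj P ⟶ E⟦i⟧) :=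
  let e₀ : (𝟙_ (Cx A))⟦-i⟧ ≅ S A i :=
    ((CochainComplex.singleFunctors (ModuleCat.{u} A)).shiftIso (-i) i 0 (by omega)).app
      (ModuleCat.of A A)
  let e₁ : U A i ≅ Q.obj ((𝟙_ (Cx A))⟦-i⟧) := UIso i ≪≫ Q.mapIso e₀.symm
  let e₂ : Q.obj (((𝟙_ (Cx A))⟦-i⟧) ⊗ P) ≅ (Q.obj P)⟦-i⟧ :=
    Q.mapIso (tensorShiftLeftIso (𝟙_ (Cx A)) P (-i) ≪≫
      (CategoryTheory.shiftFunctor (Cx A) (-i)).mapIso (λ_ P)) ≪≫
    (Q.commShiftIso (-i)).app P
  e₁.homFromEquiv.trans ((homEquivLR P _ E).symm.trans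
    (e₂.homFromEquiv.trans (shiftHomEquiv _ E i)))

lemma isGE_of_hom_eq_zero (z : ℤ) (Z : Dual.D A)
    (h : ∀ i : ℤ, i < z → ∀ φ : U A i ⟶ Z, φ = 0) : Z.IsGE z := by
  let Z' := Q.objPreimage Z
  let e : Q.obj Z' ≅ Z := Q.objObjPreimageIso Z
  have : Z'.IsGE z := by
    rw [CochainComplex.isGE_iff]
    intro i hi
    apply exactAt_of_hom_eq_zero
    intro φ
    rw [← cancel_mono e.hom, zero_comp]
    exact h i hi _
  have : (Q.obj Z').IsGE z := (DerivedCategory.isGE_Q_obj_iff _ _).2 this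
  exact TStructure.t.isGE_of_iso e z

/-- vanishing of `H^i` from vanishing of `Hom(A[-i], -)` -/
lemma subsingleton_HD_of_hom_eq_zero (Z : Dual.D A) (i : ℤ) (h : ∀ φ : U A i ⟶ Z, φ = 0) :
    Subsingleton (Dual.HD A Z i) := by
  let Z' := Q.objPreimage Z
  let e : Q.obj Z' ≅ Z := Q.objObjPreimageIso Z
  have hex : Z'.ExactAt i := by
    apply exactAt_of_hom_eq_zero
    intro φ
    rw [← cancel_mono e.hom, zero_comp]
    exact h _
  have hz : IsZero (Z'.homology i) := (Z'.exactAt_iff_isZero_homology i).1 hex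
  have hz' : IsZero ((DerivedCategory.homologyFunctor (ModuleCat.{u} A) i).obj Z) :=
    IsZero.of_iso hz (((DerivedCategory.homologyFunctor (ModuleCat.{u} A) i).mapIso e).symm ≪≫
      (DerivedCategory.homologyFunctorFactors (ModuleCat.{u} A) i).app Z')
  exact ModuleCat.subsingleton_of_isZero hz'

end UHom

section AmpPf

open Groth.Agent.Lib.Helper10.DerComplete

variable (f : A) {Pf : Cx A} [Pf.IsKProjective]
  (π : Pf ⟶ sgl (ModuleCat.of A (Localization.Away f))) [QuasiIso π]

include π in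
/-- `RHom(A_f, -)` raises the upper cohomological bound by at most one (`pd A_f ≤ 1`) -/
lemma isLE_RP_Pf (T : Dual.D A) (m : ℤ) [T.IsLE m] : ((RP Pf).obj T).IsLE (m + 1) := by
  apply isLE_of_hom_eq_zero
  intro i hi φ
  haveI : (T⟦i⟧).IsLE (m - i) := TStructure.t.isLE_shift T m i (m - i) (by omega)
  haveI : (T⟦i⟧).IsLE (-2) := TStructure.t.isLE_of_le (T⟦i⟧) (m - i) (-2) (by omega)
  have hV := V_of_isLE f (T⟦i⟧)
  apply ((uHomEquiv Pf T i).trans (QPfIso f π).homFromEquiv).injective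
  exact (hV _).trans (hV _).symm

include π in
/-- `RHom(A_f, -)` preserves lower cohomological bounds -/
lemma isGE_RP_Pf (T : Dual.D A) (m : ℤ) [T.IsGE m] : ((RP Pf).obj T).IsGE m := by
  apply isGE_of_hom_eq_zero
  intro i hi φ
  haveI : (T⟦i⟧).IsGE (m - i) := TStructure.t.isGE_shift T m i (m - i) (by omega)
  haveI : (T⟦i⟧).IsGE 1 := TStructure.t.isGE_of_ge (T⟦i⟧) 1 (m - i) (by omega)
  have hV := V_of_isGE f (T⟦i⟧)
  apply ((uHomEquiv Pf T i).trans (QPfIso f π).homFromEquiv).injective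
  exact (hV _).trans (hV _).symm

end AmpPf

section Claim

open Groth.Agent.Lib.Helper1.ExtCech4 Pretriangulated

lemma coconeSC_shortExact {K L : Cx A} (φ : K ⟶ L) : (coconeSC φ).ShortExact := by
  apply HomologicalComplex.shortExact_of_degreewise_shortExact
  intro n
  exact (coconeSplitting φ n).shortExact

/-- **Generic induction over the list**: vanishing of `Hom_{D(A)}(Č(fs), T)` for all `T` in a
class of objects which is stable under `T ↦ RHom(A_f, T[1])`. -/
theorem subsingleton_hom_extCech (Pr : List A → Dual.D A → Prop)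
    (h0 : ∀ T, Pr [] T → Subsingleton (Q.obj (DerCA.extCech (ModuleCat.of A A) []) ⟶ T))
    (h1 : ∀ f fs T, Pr (f :: fs) T → Pr fs T)
    (h2 : ∀ f fs T, Pr (f :: fs) T → ∀ (Pf : Cx A) [Pf.IsKProjective]
      (π : Pf ⟶ sgl (ModuleCat.of A (Localization.Away f))) [QuasiIso π],
      Pr fs ((RP Pf).obj (T⟦(1 : ℤ)⟧))) :
    ∀ (fs : List A) (T : Dual.D A), Pr fs T →
      Subsingleton (Q.obj (DerCA.extCech (ModuleCat.of A A) fs) ⟶ T)
  | [], T, h => h0 T h
  | f :: fs, T, h => by
    obtain ⟨Pf, π, hPf, -, hπ, -⟩ :=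
      exists_kprojective_resolution (sgl (ModuleCat.of A (Localization.Away f)))
    haveI ih1 := subsingleton_hom_extCech Pr h0 h1 h2 fs T (h1 f fs T h)
    haveI ih2 := subsingleton_hom_extCech Pr h0 h1 h2 fs _ (h2 f fs T h Pf π)
    obtain ⟨u, hu⟩ : ∃ u : DerCA.extCech (ModuleCat.of A A) fs ⟶
        (DerCA.locCx (Submonoid.powers f)).obj (DerCA.extCech (ModuleCat.of A A) fs),
        u = DerCA.locCxUnit (Submonoid.powers f) (DerCA.extCech (ModuleCat.of A A) fs) := ⟨_, rfl⟩
    have hT := triangleOfSES_distinguished (coconeSC_shortExact u)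
    haveI hL : Subsingleton (Q.obj (((DerCA.locCx (Submonoid.powers f)).obj
        (DerCA.extCech (ModuleCat.of A A) fs))⟦(-1 : ℤ)⟧) ⟶ T) :=
      ((((Q.commShiftIso (-1 : ℤ)).app _).homFromEquiv).trans
        ((shiftHomEquiv _ T 1).trans ((QTensorPfIso f π _).symm.homFromEquiv.trans
          (homEquivLR Pf _ _)))).subsingleton
    have key : ∀ ψ : Q.obj (mappingCocone u) ⟶ T, ψ = 0 := by
      intro ψ
      have hz : Q.map (coconeι u) ≫ ψ = 0 := Subsingleton.elim _ _
      obtain ⟨y, hy⟩ := Triangle.yoneda_exact₂ _ hT ψ hz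
      obtain ⟨y', hy'⟩ : ∃ y' : Q.obj (DerCA.extCech (ModuleCat.of A A) fs) ⟶ T, y' = y :=
        ⟨y, rfl⟩
      have hy0 : y' = 0 := Subsingleton.elim _ _
      rw [hy, ← hy', hy0]
      exact comp_zero
    subst hu
    exact ⟨fun ψ ψ' => (key ψ).trans (key ψ').symm⟩

end Claim

section Amp

/-- `Hom_{D(A)}(Č(fs), T) = 0` for `T ∈ D^{≤ -1}` -/
theorem subsingleton_hom_extCech_of_isLE (fs : List A) (T : Dual.D A) [T.IsLE (-1)] :
    Subsingleton (Q.obj (DerCA.extCech (ModuleCat.of A A) fs) ⟶ T) := by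
  refine subsingleton_hom_extCech (fun _ T => T.IsLE (-1)) ?_ (fun _ _ _ h => h) ?_ fs T
    inferInstance
  · intro T hT
    haveI := hT
    refine ⟨fun a b => ?_⟩
    have ha := hom_eq_zero_of_isLE (-1) T 0 (by omega) ((UIso 0).hom ≫ a)
    have hb := hom_eq_zero_of_isLE (-1) T 0 (by omega) ((UIso 0).hom ≫ b)
    exact (cancel_epi (UIso 0).hom).1 (ha.trans hb.symm)
  · intro f fs T hT Pf _ π _
    haveI := hT
    haveI : (T⟦(1 : ℤ)⟧).IsLE (-2) := TStructure.t.isLE_shift T (-1) 1 (-2) (by omega)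
    exact isLE_RP_Pf f π (T⟦(1 : ℤ)⟧) (-2)

/-- `Hom_{D(A)}(Č(fs), T) = 0` for `T ∈ D^{≥ r + 1}`, `r` the length of the list -/
theorem subsingleton_hom_extCech_of_isGE (fs : List A) (T : Dual.D A)
    [T.IsGE ((fs.length : ℤ) + 1)] :
    Subsingleton (Q.obj (DerCA.extCech (ModuleCat.of A A) fs) ⟶ T) := by
  refine subsingleton_hom_extCech (fun fs T => T.IsGE ((fs.length : ℤ) + 1)) ?_ ?_ ?_ fs T
    inferInstance
  · intro T hT
    haveI : T.IsGE 1 := by simpa using hT
    refine ⟨fun a b => ?_⟩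
    have h : ∀ x : U A 0 ⟶ T, x = 0 := fun x =>
      TStructure.t.zero_of_isLE_of_isGE x 0 1 (by omega) inferInstance inferInstance
    have ha := h ((UIso 0).hom ≫ a)
    have hb := h ((UIso 0).hom ≫ b)
    exact (cancel_epi (UIso 0).hom).1 (ha.trans hb.symm)
  · intro f fs T hT
    haveI : T.IsGE (((f :: fs).length : ℤ) + 1) := hT
    exact TStructure.t.isGE_of_ge T ((fs.length : ℤ) + 1) (((f :: fs).length : ℤ) + 1)
      (by simp)
  · intro f fs T hT Pf _ π _
    haveI : T.IsGE (((f :: fs).length : ℤ) + 1) := hT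
    haveI : (T⟦(1 : ℤ)⟧).IsGE ((fs.length : ℤ) + 1) :=
      TStructure.t.isGE_shift T (((f :: fs).length : ℤ) + 1) 1 ((fs.length : ℤ) + 1)
        (by simp; omega)
    exact isGE_RP_Pf f π (T⟦(1 : ℤ)⟧) ((fs.length : ℤ) + 1)

/-- **Amplitude of `RHom(Č, K)`**: `H^i` vanishes as soon as `K[i] ∈ D^{≤ -1}` or
`K[i] ∈ D^{≥ r+1}`. -/
theorem subsingleton_HD_RP (fs : List A) {P : Cx A} [P.IsKProjective]
    (π : P ⟶ DerCA.extCech (ModuleCat.of A A) fs) [QuasiIso π] (K : Dual.D A) (i : ℤ)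
    (h : (K⟦i⟧).IsLE (-1) ∨ (K⟦i⟧).IsGE ((fs.length : ℤ) + 1)) :
    Subsingleton (Dual.HD A ((RP P).obj K) i) := by
  apply subsingleton_HD_of_hom_eq_zero
  intro φ
  haveI : IsIso (Q.map π) := (isIso_Q_map_iff_quasiIso _ π).2 inferInstance
  haveI : Subsingleton (Q.obj (DerCA.extCech (ModuleCat.of A A) fs) ⟶ K⟦i⟧) := by
    rcases h with h | h
    · haveI := h
      exact subsingleton_hom_extCech_of_isLE fs _
    · haveI := h
      exact subsingleton_hom_extCech_of_isGE fs _
  apply ((uHomEquiv P K i).trans (asIso (Q.map π)).homFromEquiv).injective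
  exact Subsingleton.elim _ _

end Amp

end Groth.Agent.Lib.Helper10.DCAmp
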