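import Mathlib
import Groth.Prelude.Def_DRing4
import Groth.Agent.Lib.Helper10DCAmp
set_option backward.isDefEq.respectTransparency.types false

/-!
# Derived completion and maps which are isomorphisms in high / low degrees (helper10)
-/

set_option autoImplicit false
universe u
open CategoryTheory CategoryTheory.Limits HomologicalComplex CochainComplex MonoidalCategory
attribute [local instance] HasDerivedCategory.standard

namespace Groth.Agent.Lib.Helper10.DCAmp

open DerivedCategory Groth.Agent.Lib.Helper1.KF Groth.Agent.Lib.Helper1.DT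
  Groth.Agent.Lib.Helper10.TensHom Groth.Agent.Lib.Helper10.TensHomD
  Groth.Agent.Lib.Helper10.DCAdj Groth.Agent.Lib.Helper10.DCLoc
  Groth.Agent.Lib.Helper10.DCCech Groth.Agent.Lib.Helper10.DCMain
  Groth.Agent.Lib.Helper10.UnitHom Groth.Agent.Lib.Helper10.DistPair HomComplex Pretriangulated
  Opposite

variable {A : Type u} [CommRing A]

section Nat

lemma shiftHomEquiv_naturality (Y : Dual.D A) {E E' : Dual.D A} (g : E ⟶ E') (n : ℤ)
    (x : Y⟦-n⟧ ⟶ E) :
    shiftHomEquiv Y E' n (x ≫ g) = shiftHomEquiv Y E n x ≫ g⟦n⟧' :=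
  Adjunction.homEquiv_naturality_right _ _ _

lemma uHomEquiv_naturality (P : Cx A) [P.IsKProjective] {E E' : Dual.D A} (g : E ⟶ E') (i : ℤ)
    (x : U A i ⟶ (RP P).obj E) :
    uHomEquiv P E' i (x ≫ (RP P).map g) = uHomEquiv P E i x ≫ g⟦i⟧' := by
  dsimp only [uHomEquiv]
  simp only [Equiv.trans_apply, Iso.homFromEquiv_apply]
  rw [← Category.assoc, homEquivLR_symm_naturality, ← Category.assoc,
    shiftHomEquiv_naturality]

end Nat

section Cone

/-- the cone of `f` has no maps from `A[-i]` if `Hom(A[-i], f)` is surjective and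
`Hom(A[-i-1], f)` is injective -/
lemma hom_cone_eq_zero {X Y C : Dual.D A} (f : X ⟶ Y) (g : Y ⟶ C) (k : C ⟶ X⟦(1 : ℤ)⟧)
    (hT : Triangle.mk f g k ∈ distTriang _) (i : ℤ)
    (hs : Function.Surjective (fun φ : U A i ⟶ X => φ ≫ f))
    (hi : Function.Injective (fun φ : U A (i + 1) ⟶ X => φ ≫ f)) (φ : U A i ⟶ C) : φ = 0 := by
  have hinj : ∀ (ξ : U A i ⟶ X⟦(1 : ℤ)⟧), ξ ≫ f⟦(1 : ℤ)⟧' = 0 → ξ = 0 := by
    intro ξ hξ
    have n := (shiftFunctorCompIsoId (Dual.D A) (1 : ℤ) (-1) (by simp)).hom.naturality f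
    dsimp at n
    have h0 : ((UShiftIso i).inv ≫ ξ⟦(-1 : ℤ)⟧' ≫
        (shiftFunctorCompIsoId (Dual.D A) (1 : ℤ) (-1) (by simp)).hom.app X) ≫ f = 0 := by
      rw [Category.assoc, Category.assoc, ← n, ← Functor.map_comp_assoc, hξ, Functor.map_zero,
        zero_comp, comp_zero]
    have h1 : (UShiftIso i).inv ≫ ξ⟦(-1 : ℤ)⟧' ≫
        (shiftFunctorCompIsoId (Dual.D A) (1 : ℤ) (-1) (by simp)).hom.app X = 0 :=
      hi (by simpa using h0)
    have h2 : ξ⟦(-1 : ℤ)⟧' = 0 := by
      rw [← cancel_epi (UShiftIso (A := A) i).inv,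
        ← cancel_mono ((shiftFunctorCompIsoId (Dual.D A) (1 : ℤ) (-1) (by simp)).hom.app X),
        Category.assoc, h1, comp_zero, zero_comp]
    exact (CategoryTheory.shiftFunctor (Dual.D A) (-1 : ℤ)).map_injective
      (by rw [h2, Functor.map_zero])
  have h1 : φ ≫ k = 0 := by
    apply hinj
    rw [Category.assoc]
    have : k ≫ f⟦(1 : ℤ)⟧' = 0 := comp_distTriang_mor_zero₃₁ _ hT
    rw [this, comp_zero]
  obtain ⟨ψ, hψ⟩ : ∃ ψ : U A i ⟶ Y, φ = ψ ≫ g := Triangle.coyoneda_exact₃ _ hT φ h1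
  obtain ⟨χ, hχ⟩ : ∃ χ : U A i ⟶ X, χ ≫ f = ψ := hs ψ
  have hfg : f ≫ g = 0 := comp_distTriang_mor_zero₁₂ _ hT
  rw [hψ, ← hχ, Category.assoc, hfg, comp_zero]

end Cone

section Core

variable (P : Cx A) [P.IsKProjective] {K L N : Dual.D A} (φ : K ⟶ L) (g : L ⟶ N)
  (h : N ⟶ K⟦(1 : ℤ)⟧) (hT : Triangle.mk φ g h ∈ distTriang _)

include hT in
lemma surjective_comp_RP_map (i : ℤ) (hN : Subsingleton (Q.obj P ⟶ N⟦i⟧)) :
    Function.Surjective (fun x : U A i ⟶ (RP P).obj K => x ≫ (RP P).map φ) := by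
  intro y
  let F := preadditiveCoyoneda.obj (op (Q.obj P))
  have hex := F.homologySequence_exact₂ _ hT i
  rw [ShortComplex.ab_exact_iff] at hex
  have hy0 : (show Q.obj P ⟶ L⟦i⟧ from uHomEquiv P L i y) ≫ g⟦i⟧' = 0 := Subsingleton.elim _ _
  obtain ⟨x', hx'⟩ := hex (uHomEquiv P L i y) hy0
  have hx'' : (show Q.obj P ⟶ K⟦i⟧ from x') ≫ φ⟦i⟧' = uHomEquiv P L i y := hx'
  refine ⟨(uHomEquiv P K i).symm x', ?_⟩
  apply (uHomEquiv P L i).injective
  change uHomEquiv P L i ((uHomEquiv P K i).symm x' ≫ (RP P).map φ) = _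
  rw [uHomEquiv_naturality, Equiv.apply_symm_apply]
  exact hx''

include hT in
lemma injective_comp_RP_map (i : ℤ) (hN : Subsingleton (Q.obj P ⟶ N⟦i⟧)) :
    Function.Injective (fun x : U A (i + 1) ⟶ (RP P).obj K => x ≫ (RP P).map φ) := by
  intro x₁ x₂ h12
  have h12' : x₁ ≫ (RP P).map φ = x₂ ≫ (RP P).map φ := h12
  let F := preadditiveCoyoneda.obj (op (Q.obj P))
  have hex := F.homologySequence_exact₁ _ hT i (i + 1) rfl
  rw [ShortComplex.ab_exact_iff] at hex
  have h0 : (uHomEquiv P K (i + 1) x₁ - uHomEquiv P K (i + 1) x₂) ≫ φ⟦i + 1⟧' = 0 := by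
    rw [Preadditive.sub_comp, ← uHomEquiv_naturality, ← uHomEquiv_naturality, h12', sub_self]
  obtain ⟨z, hz⟩ := hex (uHomEquiv P K (i + 1) x₁ - uHomEquiv P K (i + 1) x₂) h0
  obtain ⟨z', hz'⟩ : ∃ z' : Q.obj P ⟶ N⟦i⟧, z' = z := ⟨z, rfl⟩
  have hz0 : z' = 0 := Subsingleton.elim _ _
  have hz1 : z = 0 := by rw [← hz', hz0]; rfl
  rw [hz1, map_zero] at hz
  apply (uHomEquiv P K (i + 1)).injective
  exact (sub_eq_zero.1 hz.symm)

include hT in
/-- **Core**: if `Hom(Č, N[i]) = 0`, `N` the cone of `φ`, then the cone of `RHom(P, φ)` has no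
maps from `A[-i]`. -/
theorem hom_cone_RP_eq_zero {N' : Dual.D A} (g' : (RP P).obj L ⟶ N')
    (h' : N' ⟶ ((RP P).obj K)⟦(1 : ℤ)⟧)
    (hT' : Triangle.mk ((RP P).map φ) g' h' ∈ distTriang _) (i : ℤ)
    (hN : Subsingleton (Q.obj P ⟶ N⟦i⟧)) (χ : U A i ⟶ N') : χ = 0 :=
  hom_cone_eq_zero _ g' h' hT' i (surjective_comp_RP_map P φ g h hT i hN)
    (injective_comp_RP_map P φ g h hT i hN) χ

end Core

section HomologyCone

variable (T : Triangle (Dual.D A)) (hT : T ∈ distTriang _)

include hT in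
lemma isZero_homology_obj₃_iff (n : ℤ) :
    IsZero ((DerivedCategory.homologyFunctor (ModuleCat.{u} A) n).obj T.obj₃) ↔
      Epi ((DerivedCategory.homologyFunctor (ModuleCat.{u} A) n).map T.mor₁) ∧
        Mono ((DerivedCategory.homologyFunctor (ModuleCat.{u} A) (n + 1)).map T.mor₁) := by
  rw [HomologySequence.epi_homologyMap_mor₁_iff T hT n,
    HomologySequence.mono_homologyMap_mor₁_iff T hT n (n + 1) rfl]
  constructor
  · intro hz
    exact ⟨hz.eq_of_tgt _ _, hz.eq_of_src _ _⟩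
  · rintro ⟨h1, h2⟩
    exact (HomologySequence.exact₃ T hT n (n + 1) rfl).isZero_of_both_zeros h1 h2

end HomologyCone

section Main

variable (fs : List A) {P : Cx A} [P.IsKProjective]
  (π : P ⟶ DerCA.extCech (ModuleCat.of A A) fs) [QuasiIso π] {K L : Dual.D A} (φ : K ⟶ L)

include π in
/-- iso in degrees `≥ 1` and epi in degree `0` is preserved by `RHom(Č, -)` -/
theorem RP_map_high
    (hiso : ∀ i : ℤ, 1 ≤ i → IsIso ((DerivedCategory.homologyFunctor (ModuleCat.{u} A) i).map φ))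
    (hepi : Epi ((DerivedCategory.homologyFunctor (ModuleCat.{u} A) 0).map φ)) :
    (∀ i : ℤ, 1 ≤ i → IsIso ((DerivedCategory.homologyFunctor (ModuleCat.{u} A) i).map
        ((RP P).map φ))) ∧
      Epi ((DerivedCategory.homologyFunctor (ModuleCat.{u} A) 0).map ((RP P).map φ)) := by
  obtain ⟨N, g, h, hT⟩ := distinguished_cocone_triangle φ
  haveI hN : N.IsLE (-1) := by
    rw [DerivedCategory.isLE_iff]
    intro n hn
    refine (isZero_homology_obj₃_iff _ hT n).2 ⟨?_, ?_⟩
    · by_cases h0 : n = 0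
      · subst h0
        exact hepi
      · haveI : IsIso ((DerivedCategory.homologyFunctor (ModuleCat.{u} A) n).map φ) := hiso n (by omega)
        exact (inferInstance : Epi ((DerivedCategory.homologyFunctor (ModuleCat.{u} A) n).map φ))
    · haveI : IsIso ((DerivedCategory.homologyFunctor (ModuleCat.{u} A) (n + 1)).map φ) := hiso (n + 1) (by omega)
      exact (inferInstance : Mono ((DerivedCategory.homologyFunctor (ModuleCat.{u} A) (n + 1)).map φ))
  obtain ⟨N', g', h', hT'⟩ := distinguished_cocone_triangle ((RP P).map φ)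
  haveI : IsIso (Q.map π) := (isIso_Q_map_iff_quasiIso _ π).2 inferInstance
  have hN' : N'.IsLE (-1) := by
    apply isLE_of_hom_eq_zero
    intro i hi χ
    haveI : (N⟦i⟧).IsLE (-1 - i) := TStructure.t.isLE_shift N (-1) i (-1 - i) (by omega)
    haveI : (N⟦i⟧).IsLE (-1) := TStructure.t.isLE_of_le (N⟦i⟧) (-1 - i) (-1) (by omega)
    haveI := subsingleton_hom_extCech_of_isLE fs (N⟦i⟧)
    exact hom_cone_RP_eq_zero P φ g h hT g' h' hT' i
      ((asIso (Q.map π)).homFromEquiv.subsingleton) χ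
  rw [DerivedCategory.isLE_iff] at hN'
  refine ⟨?_, ?_⟩
  · intro i hi
    obtain ⟨j, rfl⟩ : ∃ j : ℤ, i = j + 1 := ⟨i - 1, by omega⟩
    haveI h1 : Epi ((DerivedCategory.homologyFunctor (ModuleCat.{u} A) (j + 1)).map ((RP P).map φ)) :=
      ((isZero_homology_obj₃_iff _ hT' (j + 1)).1 (hN' (j + 1) (by omega))).1
    haveI h2 : Mono ((DerivedCategory.homologyFunctor (ModuleCat.{u} A) (j + 1)).map ((RP P).map φ)) :=
      ((isZero_homology_obj₃_iff _ hT' j).1 (hN' j (by omega))).2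
    exact isIso_of_mono_of_epi _
  · exact ((isZero_homology_obj₃_iff _ hT' 0).1 (hN' 0 (by omega))).1

include π in
/-- iso in degrees `≤ -1` and mono in degree `0` becomes iso in degrees `≤ -r-1` and mono in
degree `-r` after applying `RHom(Č, -)` -/
theorem RP_map_low
    (hiso : ∀ i : ℤ, i ≤ -1 → IsIso ((DerivedCategory.homologyFunctor (ModuleCat.{u} A) i).map φ))
    (hmono : Mono ((DerivedCategory.homologyFunctor (ModuleCat.{u} A) 0).map φ)) :
    (∀ i : ℤ, i ≤ -(fs.length : ℤ) - 1 →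
        IsIso ((DerivedCategory.homologyFunctor (ModuleCat.{u} A) i).map ((RP P).map φ))) ∧
      Mono ((DerivedCategory.homologyFunctor (ModuleCat.{u} A) (-(fs.length : ℤ))).map
        ((RP P).map φ)) := by
  obtain ⟨N, g, h, hT⟩ := distinguished_cocone_triangle φ
  haveI hN : N.IsGE 0 := by
    rw [DerivedCategory.isGE_iff]
    intro n hn
    refine (isZero_homology_obj₃_iff _ hT n).2 ⟨?_, ?_⟩
    · haveI : IsIso ((DerivedCategory.homologyFunctor (ModuleCat.{u} A) n).map φ) := hiso n (by omega)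
      exact (inferInstance : Epi ((DerivedCategory.homologyFunctor (ModuleCat.{u} A) n).map φ))
    · by_cases h0 : n + 1 = 0
      · rw [h0]
        exact hmono
      · haveI : IsIso ((DerivedCategory.homologyFunctor (ModuleCat.{u} A) (n + 1)).map φ) := hiso (n + 1) (by omega)
        exact (inferInstance : Mono ((DerivedCategory.homologyFunctor (ModuleCat.{u} A) (n + 1)).map φ))
  obtain ⟨N', g', h', hT'⟩ := distinguished_cocone_triangle ((RP P).map φ)
  haveI : IsIso (Q.map π) := (isIso_Q_map_iff_quasiIso _ π).2 inferInstance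
  have hN' : N'.IsGE (-(fs.length : ℤ)) := by
    apply isGE_of_hom_eq_zero
    intro i hi χ
    haveI : (N⟦i⟧).IsGE (0 - i) := TStructure.t.isGE_shift N 0 i (0 - i) (by omega)
    haveI : (N⟦i⟧).IsGE ((fs.length : ℤ) + 1) :=
      TStructure.t.isGE_of_ge (N⟦i⟧) ((fs.length : ℤ) + 1) (0 - i) (by omega)
    haveI := subsingleton_hom_extCech_of_isGE fs (N⟦i⟧)
    exact hom_cone_RP_eq_zero P φ g h hT g' h' hT' i
      ((asIso (Q.map π)).homFromEquiv.subsingleton) χ
  rw [DerivedCategory.isGE_iff] at hN'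
  refine ⟨?_, ?_⟩
  · intro i hi
    obtain ⟨j, rfl⟩ : ∃ j : ℤ, i = j + 1 := ⟨i - 1, by omega⟩
    haveI h1 : Epi ((DerivedCategory.homologyFunctor (ModuleCat.{u} A) (j + 1)).map ((RP P).map φ)) :=
      ((isZero_homology_obj₃_iff _ hT' (j + 1)).1 (hN' (j + 1) (by omega))).1
    haveI h2 : Mono ((DerivedCategory.homologyFunctor (ModuleCat.{u} A) (j + 1)).map ((RP P).map φ)) :=
      ((isZero_homology_obj₃_iff _ hT' j).1 (hN' j (by omega))).2
    exact isIso_of_mono_of_epi _
  · have := ((isZero_homology_obj₃_iff _ hT' (-(fs.length : ℤ) - 1)).1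
      (hN' (-(fs.length : ℤ) - 1) (by omega))).2
    have e : -(fs.length : ℤ) - 1 + 1 = -(fs.length : ℤ) := by omega
    rw [e] at this
    exact this

end Main

section Transfer

/-- the abstract completed map is isomorphic (as an arrow) to `RHom(P, φ)` -/
theorem exists_arrow_iso (fs : List A) (I : Ideal A) (hI : Ideal.span {x : A | x ∈ fs} = I)
    [DRing.HasDerivedCompletion I] {P : Cx A} [P.IsKProjective]
    (π : P ⟶ DerCA.extCech (ModuleCat.of A A) fs) [QuasiIso π] {K L : Dual.D A} (φ : K ⟶ L) :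
    Nonempty (Arrow.mk ((DRing.derivedCompletion I).map φ).hom ≅ Arrow.mk ((RP P).map φ)) := by
  obtain ⟨eK, hK⟩ := exists_derivedCompletion_iso fs I hI π K
  obtain ⟨eL, hL⟩ := exists_derivedCompletion_iso fs I hI π L
  have hcomplete : DRing.IsDerivedComplete I ((RP P).obj L) := by
    rw [← hI]
    exact isDerivedComplete_of_fc fs _ (fun g hg => fc_RP fs π g hg L)
  have hnat : DRing.toDerivedCompletion I K ≫ ((DRing.derivedCompletion I).map φ).hom =
      φ ≫ DRing.toDerivedCompletion I L :=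
    ((DRing.derivedCompletionAdj I).unit.naturality φ).symm
  have hnat' : (ηD (π ≫ aug' fs)).app K ≫ (RP P).map φ = φ ≫ (ηD (π ≫ aug' fs)).app L :=
    ((ηD (π ≫ aug' fs)).naturality φ).symm
  refine ⟨Arrow.isoMk eK eL ?_⟩
  change eK.hom ≫ (RP P).map φ = ((DRing.derivedCompletion I).map φ).hom ≫ eL.hom
  apply (bijective_toDerivedCompletion I K _ hcomplete).1
  change DRing.toDerivedCompletion I K ≫ eK.hom ≫ (RP P).map φ =
    DRing.toDerivedCompletion I K ≫ ((DRing.derivedCompletion I).map φ).hom ≫ eL.hom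
  rw [← Category.assoc, hK, hnat', ← Category.assoc, hnat, Category.assoc, hL]

variable {K L : Dual.D A} (φ : K ⟶ L)

/-- S7091 in list form -/
theorem derivedCompletion_map_high (fs : List A) (I : Ideal A)
    (hI : Ideal.span {x : A | x ∈ fs} = I) [DRing.HasDerivedCompletion I]
    (hiso : ∀ i : ℤ, 1 ≤ i → IsIso ((DerivedCategory.homologyFunctor (ModuleCat.{u} A) i).map φ))
    (hepi : Epi ((DerivedCategory.homologyFunctor (ModuleCat.{u} A) 0).map φ)) :
    (∀ i : ℤ, 1 ≤ i → IsIso ((DerivedCategory.homologyFunctor (ModuleCat.{u} A) i).map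
        ((DRing.derivedCompletion I).map φ).hom)) ∧
      Epi ((DerivedCategory.homologyFunctor (ModuleCat.{u} A) 0).map
        ((DRing.derivedCompletion I).map φ).hom) := by
  obtain ⟨P, π, hP, -, hπ, -⟩ :=
    exists_kprojective_resolution (DerCA.extCech (ModuleCat.of A A) fs)
  obtain ⟨e⟩ := exists_arrow_iso fs I hI π φ
  obtain ⟨h1, h2⟩ := RP_map_high fs π φ hiso hepi
  refine ⟨fun i hi => ?_, ?_⟩
  · exact ((MorphismProperty.isomorphisms _).arrow_mk_iso_iff
      ((DerivedCategory.homologyFunctor (ModuleCat.{u} A) i).mapArrow.mapIso e)).2 (h1 i hi)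
  · exact ((MorphismProperty.epimorphisms _).arrow_mk_iso_iff
      ((DerivedCategory.homologyFunctor (ModuleCat.{u} A) 0).mapArrow.mapIso e)).2 h2

/-- S7092 in list form -/
theorem derivedCompletion_map_low (fs : List A) (I : Ideal A)
    (hI : Ideal.span {x : A | x ∈ fs} = I) [DRing.HasDerivedCompletion I]
    (hiso : ∀ i : ℤ, i ≤ -1 → IsIso ((DerivedCategory.homologyFunctor (ModuleCat.{u} A) i).map φ))
    (hmono : Mono ((DerivedCategory.homologyFunctor (ModuleCat.{u} A) 0).map φ)) :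
    (∀ i : ℤ, i ≤ -(fs.length : ℤ) - 1 →
        IsIso ((DerivedCategory.homologyFunctor (ModuleCat.{u} A) i).map
          ((DRing.derivedCompletion I).map φ).hom)) ∧
      Mono ((DerivedCategory.homologyFunctor (ModuleCat.{u} A) (-(fs.length : ℤ))).map
        ((DRing.derivedCompletion I).map φ).hom) := by
  obtain ⟨P, π, hP, -, hπ, -⟩ :=
    exists_kprojective_resolution (DerCA.extCech (ModuleCat.of A A) fs)
  obtain ⟨e⟩ := exists_arrow_iso fs I hI π φ
  obtain ⟨h1, h2⟩ := RP_map_low fs π φ hiso hmono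
  refine ⟨fun i hi => ?_, ?_⟩
  · exact ((MorphismProperty.isomorphisms _).arrow_mk_iso_iff
      ((DerivedCategory.homologyFunctor (ModuleCat.{u} A) i).mapArrow.mapIso e)).2 (h1 i hi)
  · exact ((MorphismProperty.monomorphisms _).arrow_mk_iso_iff
      ((DerivedCategory.homologyFunctor (ModuleCat.{u} A) (-(fs.length : ℤ))).mapArrow.mapIso
        e)).2 h2

end Transfer

end Groth.Agent.Lib.Helper10.DCAmp
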