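import Mathlib
import Groth.Prelude.Def_Wider

/-!
# Power torsion modules and flat base change with `A/I ≅ B/IB` (helper10)

Let `A → B` be flat, `I ⊆ A` an ideal such that `A → B/IB` is surjective with kernel `I`.
Then for every `I`-power torsion `A`-module `M`, the map `M → B ⊗_A M`, `m ↦ 1 ⊗ m` is bijective
(`bijective_of_isPowerTorsion`).
-/

set_option autoImplicit false
universe u v
open scoped TensorProduct

namespace Groth.Agent.Lib.Helper10.PTA

variable {A B : Type u} [CommRing A] [CommRing B] [Algebra A B] (I : Ideal A)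

/-- `m ↦ 1 ⊗ m` is bijective -/
def Good (A B : Type u) [CommRing A] [CommRing B] [Algebra A B]
    (V : Type v) [AddCommGroup V] [Module A V] : Prop :=
  Function.Bijective (TensorProduct.mk A B V 1)

section Killed

variable (hs : Function.Surjective
    ((Ideal.Quotient.mk (I.map (algebraMap A B))).comp (algebraMap A B)))
  (hk : RingHom.ker ((Ideal.Quotient.mk (I.map (algebraMap A B))).comp (algebraMap A B)) = I)

/-- the ring map `B → A/I` inverse to `A/I ≅ B/IB` -/
noncomputable def ψ : B →+* A ⧸ I :=
  ((Ideal.quotEquivOfEq hk).toRingHom.comp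
    (RingHom.quotientKerEquivOfSurjective hs).symm.toRingHom).comp
      (Ideal.Quotient.mk (I.map (algebraMap A B)))

lemma ψ_algebraMap (a : A) : ψ I hs hk (algebraMap A B a) = Ideal.Quotient.mk I a := by
  change (Ideal.quotEquivOfEq hk) ((RingHom.quotientKerEquivOfSurjective hs).symm
    (((Ideal.Quotient.mk (I.map (algebraMap A B))).comp (algebraMap A B)) a)) = _
  rw [RingHom.quotientKerEquivOfSurjective_symm_apply]
  rfl

include hs in
lemma exists_rep (b : B) : ∃ a : A, b - algebraMap A B a ∈ I.map (algebraMap A B) := by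
  obtain ⟨a, ha⟩ := hs (Ideal.Quotient.mk _ b)
  refine ⟨a, ?_⟩
  rw [← Ideal.Quotient.eq]
  exact ha.symm

variable {V : Type v} [AddCommGroup V] [Module A V]

lemma tmul_eq_zero_of_mem_map (hV : ∀ a ∈ I, ∀ v : V, a • v = 0) (y : B)
    (hy : y ∈ I.map (algebraMap A B)) (v : V) : y ⊗ₜ[A] v = 0 := by
  refine Submodule.span_induction (p := fun y _ => y ⊗ₜ[A] v = 0) ?_ ?_ ?_ ?_ hy
  · rintro _ ⟨a, ha, rfl⟩
    rw [Algebra.algebraMap_eq_smul_one, TensorProduct.smul_tmul, hV a ha, TensorProduct.tmul_zero]
  · exact TensorProduct.zero_tmul _ _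
  · intro b b' _ _ hb hb'
    rw [TensorProduct.add_tmul, hb, hb', add_zero]
  · intro c b _ hb
    have : (c • b) ⊗ₜ[A] v = c • (b ⊗ₜ[A] v) := rfl
    rw [this, hb, smul_zero]

include hs in
lemma surjective_of_killed (hV : ∀ a ∈ I, ∀ v : V, a • v = 0) :
    Function.Surjective (TensorProduct.mk A B V 1) := by
  intro t
  induction t using TensorProduct.induction_on with
  | zero => exact ⟨0, map_zero _⟩
  | tmul b v =>
    obtain ⟨a, ha⟩ := exists_rep I hs b
    refine ⟨a • v, ?_⟩
    have h1 : b ⊗ₜ[A] v = (b - algebraMap A B a) ⊗ₜ[A] v + (algebraMap A B a) ⊗ₜ[A] v := by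
      rw [← TensorProduct.add_tmul, sub_add_cancel]
    rw [h1, tmul_eq_zero_of_mem_map I hV _ ha, zero_add, Algebra.algebraMap_eq_smul_one,
      TensorProduct.smul_tmul]
    rfl
  | add x y hx hy =>
    obtain ⟨x', rfl⟩ := hx
    obtain ⟨y', rfl⟩ := hy
    exact ⟨x' + y', map_add _ _ _⟩

include hs hk in
lemma injective_of_killed (hV : ∀ a ∈ I, ∀ v : V, a • v = 0) :
    Function.Injective (TensorProduct.mk A B V 1) := by
  have hT : Module.IsTorsionBySet A V (I : Set A) := fun v a => hV a.1 a.2 v
  letI : Module (A ⧸ I) V := hT.module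
  have hmk : ∀ (a : A) (v : V), (Ideal.Quotient.mk I a) • v = a • v := fun a v => rfl
  let β : B →ₗ[A] V →ₗ[A] V := LinearMap.mk₂ A (fun b v => ψ I hs hk b • v)
    (fun b b' v => by rw [map_add, add_smul])
    (fun c b v => by
      rw [Algebra.smul_def, map_mul, ψ_algebraMap, mul_smul, hmk])
    (fun b v v' => smul_add _ _ _)
    (fun c b v => by
      obtain ⟨a, ha⟩ := Ideal.Quotient.mk_surjective (ψ I hs hk b)
      rw [← ha, hmk, hmk, smul_comm])
  let ρ : B ⊗[A] V →ₗ[A] V := TensorProduct.lift β
  have hρ : ∀ v : V, ρ (TensorProduct.mk A B V 1 v) = v := by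
    intro v
    change ρ ((1 : B) ⊗ₜ[A] v) = v
    rw [TensorProduct.lift.tmul]
    change ψ I hs hk 1 • v = v
    rw [map_one, one_smul]
  intro v v' h
  rw [← hρ v, ← hρ v', h]

include hs hk in
lemma good_of_killed (hV : ∀ a ∈ I, ∀ v : V, a • v = 0) : Good A B V :=
  ⟨injective_of_killed I hs hk hV, surjective_of_killed I hs hV⟩

end Killed

section Ses

variable [Module.Flat A B] {V : Type v} [AddCommGroup V] [Module A V]

lemma good_of_ses (V' : Submodule A V) (h1 : Good A B V') (h2 : Good A B (V ⧸ V')) :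
    Good A B V := by
  have hinj : Function.Injective (V'.subtype.lTensor B) :=
    Module.Flat.lTensor_preserves_injective_linearMap _ V'.subtype_injective
  have hex : Function.Exact (V'.subtype.lTensor B) (V'.mkQ.lTensor B) :=
    lTensor_exact B (LinearMap.exact_subtype_mkQ V') (Submodule.mkQ_surjective V')
  constructor
  · intro v w h
    rw [← sub_eq_zero]
    have h0 : TensorProduct.mk A B V 1 (v - w) = 0 := by rw [map_sub, h, sub_self]
    set x := v - w
    have hx1 : TensorProduct.mk A B (V ⧸ V') 1 (V'.mkQ x) = 0 := by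
      have := congrArg (V'.mkQ.lTensor B) h0
      rw [map_zero] at this
      exact this
    have hx2 : V'.mkQ x = 0 := h2.1 (hx1.trans (map_zero _).symm)
    have hx3 : x ∈ V' := (Submodule.Quotient.mk_eq_zero V').1 hx2
    have hx4 : V'.subtype.lTensor B (TensorProduct.mk A B V' 1 ⟨x, hx3⟩) = 0 := h0
    have hx5 : TensorProduct.mk A B V' 1 ⟨x, hx3⟩ = 0 := hinj (hx4.trans (map_zero _).symm)
    have hx6 : (⟨x, hx3⟩ : V') = 0 := h1.1 (hx5.trans (map_zero _).symm)
    exact congrArg Subtype.val hx6
  · intro t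
    obtain ⟨w', hw'⟩ := h2.2 (V'.mkQ.lTensor B t)
    obtain ⟨w, rfl⟩ := Submodule.mkQ_surjective V' w'
    have h3 : V'.mkQ.lTensor B (t - TensorProduct.mk A B V 1 w) = 0 := by
      rw [map_sub, ← hw']
      exact sub_self _
    obtain ⟨t', ht'⟩ := (hex _).1 h3
    obtain ⟨v', rfl⟩ := h1.2 t'
    refine ⟨w + V'.subtype v', ?_⟩
    rw [map_add]
    have : TensorProduct.mk A B V 1 (V'.subtype v') =
        V'.subtype.lTensor B (TensorProduct.mk A B V' 1 v') := rfl
    rw [this, ht']
    abel

end Ses

section Pow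

variable [Module.Flat A B]
  (hs : Function.Surjective
    ((Ideal.Quotient.mk (I.map (algebraMap A B))).comp (algebraMap A B)))
  (hk : RingHom.ker ((Ideal.Quotient.mk (I.map (algebraMap A B))).comp (algebraMap A B)) = I)

include hs hk in
lemma good_of_pow_killed (n : ℕ) : ∀ (V : Type v) [AddCommGroup V] [Module A V],
    (∀ a ∈ I ^ n, ∀ v : V, a • v = 0) → Good A B V := by
  induction n with
  | zero =>
    intro V _ _ hV
    have hsub : Subsingleton V := ⟨fun v w => by
      have h1 := hV 1 (by rw [pow_zero, Ideal.one_eq_top]; exact Submodule.mem_top) v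
      have h2 := hV 1 (by rw [pow_zero, Ideal.one_eq_top]; exact Submodule.mem_top) w
      rw [one_smul] at h1 h2
      rw [h1, h2]⟩
    constructor
    · intro v w _
      exact Subsingleton.elim _ _
    · intro t
      refine ⟨0, ?_⟩
      induction t using TensorProduct.induction_on with
      | zero => exact map_zero _
      | tmul b v =>
        rw [Subsingleton.elim v 0, TensorProduct.tmul_zero, map_zero]
      | add x y hx hy => rw [← hx, ← hy, map_zero, add_zero]
  | succ n ih =>
    intro V _ _ hV
    let V' : Submodule A V := I • (⊤ : Submodule A V)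
    have h1 : Good A B V' := by
      apply ih
      rintro x hx ⟨v, hv⟩
      apply Subtype.ext
      change x • v = 0
      refine Submodule.smul_induction_on (p := fun v => x • v = 0) hv ?_ ?_
      · intro a ha w _
        rw [← mul_smul]
        exact hV _ (by rw [pow_succ]; exact Ideal.mul_mem_mul hx ha) w
      · intro w w' hw hw'
        rw [smul_add, hw, hw', add_zero]
    have h2 : Good A B (V ⧸ V') := by
      apply good_of_killed I hs hk
      intro a ha w
      obtain ⟨w, rfl⟩ := Submodule.mkQ_surjective V' w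
      rw [← map_smul]
      exact (Submodule.Quotient.mk_eq_zero V').2 (Submodule.smul_mem_smul ha Submodule.mem_top)
    exact good_of_ses V' h1 h2

include hs hk in
/-- for an `I`-power torsion module `M`, `m ↦ 1 ⊗ m : M → B ⊗_A M` is bijective -/
theorem bijective_of_isPowerTorsion (M : Type v) [AddCommGroup M] [Module A M]
    (hM : LocCoh.IsPowerTorsion I M) : Function.Bijective (TensorProduct.mk A B M 1) := by
  let W : ℕ → Submodule A M := fun n =>
    { carrier := {m | ∀ a ∈ I ^ n, a • m = 0}
      zero_mem' := fun a _ => smul_zero a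
      add_mem' := fun {m m'} hm hm' a ha => by rw [smul_add, hm a ha, hm' a ha, add_zero]
      smul_mem' := fun c m hm a ha => by rw [smul_comm, hm a ha, smul_zero] }
  have hW : ∀ n, Good A B (W n) := fun n => by
    apply good_of_pow_killed I hs hk n
    rintro a ha ⟨m, hm⟩
    exact Subtype.ext (hm a ha)
  have hinj : ∀ n, Function.Injective ((W n).subtype.lTensor B) := fun n =>
    Module.Flat.lTensor_preserves_injective_linearMap _ (W n).subtype_injective
  constructor
  · intro m m' h
    rw [← sub_eq_zero]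
    have h0 : TensorProduct.mk A B M 1 (m - m') = 0 := by rw [map_sub, h, sub_self]
    set x := m - m'
    obtain ⟨n, hn⟩ := hM x
    have hx4 : (W n).subtype.lTensor B (TensorProduct.mk A B (W n) 1 ⟨x, hn⟩) = 0 := h0
    have hx5 : TensorProduct.mk A B (W n) 1 ⟨x, hn⟩ = 0 :=
      hinj n (hx4.trans (map_zero _).symm)
    have hx6 : (⟨x, hn⟩ : W n) = 0 := (hW n).1 (hx5.trans (map_zero _).symm)
    exact congrArg Subtype.val hx6
  · intro t
    induction t using TensorProduct.induction_on with
    | zero => exact ⟨0, map_zero _⟩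
    | tmul b m =>
      obtain ⟨n, hn⟩ := hM m
      obtain ⟨v, hv⟩ := (hW n).2 (b ⊗ₜ[A] (⟨m, hn⟩ : W n))
      refine ⟨(W n).subtype v, ?_⟩
      have : TensorProduct.mk A B M 1 ((W n).subtype v) =
          (W n).subtype.lTensor B (TensorProduct.mk A B (W n) 1 v) := rfl
      rw [this, hv]
      rfl
    | add x y hx hy =>
      obtain ⟨x', rfl⟩ := hx
      obtain ⟨y', rfl⟩ := hy
      exact ⟨x' + y', map_add _ _ _⟩

end Pow

end Groth.Agent.Lib.Helper10.PTA
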