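import Mathlib
import Groth.Agent.Lib.Helper10DCCech
import Groth.Agent.Lib.Helper1ExtCech5
set_option backward.isDefEq.respectTransparency.types false

/-!
# Maps from power torsion objects into extended Čech complexes (helper10)

`LO f W`: the object `W` of `D(A)` has no nonzero maps to complexes on which `f` acts invertibly.
`LO_inD`: this holds for `W = M[0]` with `M` an `f`-power torsion module.
`bijective_postcomp_aug`: if `LO f W` for all `f ∈ fs`, then the augmentation
`extCech V fs ⟶ V[0]` induces a bijection on `Hom_{D(A)}(W, -)`, even after applying a termwise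
functor `Gc` preserving locality and degreewise split exact sequences.
-/

set_option autoImplicit false
set_option maxHeartbeats 400000
universe u
open CategoryTheory CategoryTheory.Limits HomologicalComplex CochainComplex
attribute [local instance] HasDerivedCategory.standard

namespace Groth.Agent.Lib.Helper10.PTB

open DerivedCategory Groth.Agent.Lib.Helper1.KF
  Groth.Agent.Lib.Helper10.DCLoc Groth.Agent.Lib.Helper10.DCCech
  Groth.Agent.Lib.Helper10.DistPair Groth.Agent.Lib.Helper1.ExtCech
  Groth.Agent.Lib.Helper1.ExtCech4 DerCA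

variable {A : Type u} [CommRing A]

section LES

open Pretriangulated

/-- if the first vertex `X` of a distinguished triangle receives no maps from `W` into `X` and
`X⟦1⟧`, then postcomposition with the second map is bijective on `Hom(W, -)` -/
lemma bijective_postcomp_of_isDistPair {X Y Z : Dual.D A} {φ : X ⟶ Y} {g : Y ⟶ Z}
    (h : IsDistPair φ g) (W : Dual.D A) (h0 : Subsingleton (W ⟶ X))
    (h1 : Subsingleton (W ⟶ X⟦(1 : ℤ)⟧)) :
    Function.Bijective (fun ψ : W ⟶ Y => ψ ≫ g) := by
  constructor
  · intro ψ ψ' hψ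
    have h2 : (ψ - ψ') ≫ g = 0 := by
      rw [Preadditive.sub_comp]
      exact sub_eq_zero.2 hψ
    obtain ⟨y, hy⟩ := h.exact (ψ - ψ') h2
    have : y = 0 := Subsingleton.elim _ _
    rw [this, zero_comp] at hy
    exact (sub_eq_zero.1 hy.symm)
  · intro χ
    obtain ⟨k, hk⟩ := h
    have hT := rot_of_distTriang _ hk
    have hz : χ ≫ (Triangle.mk φ g k).rotate.mor₂ = 0 := h1.elim _ _
    obtain ⟨ψ, hψ⟩ := Triangle.coyoneda_exact₂ _ hT χ hz
    exact ⟨ψ, hψ.symm⟩

end LES

/-- `W` has no nonzero maps to complexes on which `f` acts invertibly -/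
def LO (f : A) (W : Dual.D A) : Prop :=
  ∀ Y : Cx A, IsIso (f • 𝟙 Y) → Subsingleton (W ⟶ Q.obj Y)

lemma LO.of_iso {f : A} {W W' : Dual.D A} (h : LO f W) (e : W ≅ W') : LO f W' := fun Y hY =>
  haveI := h Y hY
  (e.homFromEquiv (Z := Q.obj Y)).symm.subsingleton

lemma LO.shift {f : A} {W : Dual.D A} (h : LO f W) (n : ℤ) : LO f (W⟦-n⟧) := fun Y hY => by
  have h' : Subsingleton (W ⟶ Q.obj (Y⟦n⟧)) := h (Y⟦n⟧) (isIso_smul_shift f Y hY n)
  haveI : Subsingleton (W ⟶ (CategoryTheory.shiftFunctor (CochainComplex (ModuleCat.{u} A) ℤ) n ⋙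
      Q).obj Y) := h'
  haveI : Subsingleton (W ⟶ (Q.obj Y)⟦n⟧) :=
    (((Q.commShiftIso n).app Y).homToEquiv (Z := W)).symm.subsingleton
  exact (shiftHomEquiv W (Q.obj Y) n).subsingleton

lemma smul_homology (K : Cx A) (p : ℤ) (a : A) (y : K.homology p) :
    (HomologicalComplex.homologyMap (a • 𝟙 K) p).hom y = a • y := by
  have h : HomologicalComplex.homologyMap (a • 𝟙 K) p = a • 𝟙 (K.homology p) := by
    have e : (HomologicalComplex.shortComplexFunctor (ModuleCat.{u} A) (ComplexShape.up ℤ) p).map
        (a • 𝟙 K) =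
        a • (HomologicalComplex.shortComplexFunctor (ModuleCat.{u} A) (ComplexShape.up ℤ) p).map
          (𝟙 K) := by
      ext <;> rfl
    change ShortComplex.homologyMap
      ((HomologicalComplex.shortComplexFunctor (ModuleCat.{u} A) (ComplexShape.up ℤ) p).map
        (a • 𝟙 K)) = _
    rw [e, ShortComplex.homologyMap_smul, CategoryTheory.Functor.map_id,
      ShortComplex.homologyMap_id]
    rfl
  rw [h]
  rfl

lemma bijective_smul_homology (f : A) (Y : Cx A) (hY : IsIso (f • 𝟙 Y)) (n : ℤ) :
    Function.Bijective (fun x : Y.homology n => f • x) := by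
  have h1 : IsIso (HomologicalComplex.homologyMap (f • 𝟙 Y) n) :=
    (HomologicalComplex.homologyFunctor _ _ n).map_isIso _
  have h2 := (ConcreteCategory.isIso_iff_bijective _).1 h1
  have h3 : (fun x : Y.homology n => f • x) =
      ⇑(ConcreteCategory.hom (HomologicalComplex.homologyMap (f • 𝟙 Y) n)) := by
    funext x
    exact (smul_homology Y n f x).symm
  rw [h3]
  exact h2

/-- a quasi-isomorphism transports bijectivity of `f` on cohomology -/
lemma bijective_smul_homology_of_quasiIso (f : A) {Y Y' : Cx A} (s : Y ⟶ Y') [QuasiIso s]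
    (n : ℤ) (h : Function.Bijective (fun x : Y.homology n => f • x)) :
    Function.Bijective (fun x : Y'.homology n => f • x) := by
  have hs : IsIso (HomologicalComplex.homologyMap s n) := inferInstance
  have hb := (ConcreteCategory.isIso_iff_bijective _).1 hs
  let e : Y.homology n ≃ₗ[A] Y'.homology n :=
    LinearEquiv.ofBijective (HomologicalComplex.homologyMap s n).hom hb
  have h3 : (fun x : Y'.homology n => f • x) = e ∘ (fun x : Y.homology n => f • x) ∘ e.symm := by
    funext x
    change f • x = e (f • e.symm x)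
    rw [map_smul, LinearEquiv.apply_symm_apply]
  rw [h3]
  exact e.bijective.comp (h.comp e.symm.bijective)

lemma quasiIso_locCxUnit (f : A) (Y : Cx A)
    (h : ∀ n, Function.Bijective (fun x : Y.homology n => f • x)) :
    QuasiIso (locCxUnit (Submonoid.powers f) Y) := by
  rw [quasiIso_iff]
  intro n
  rw [quasiIsoAt_iff_isIso_homologyMap]
  apply (ConcreteCategory.isIso_iff_bijective _).2
  haveI := isLocalizedModule_homologyMap (Submonoid.powers f) Y n
  exact bijective_of_isLocalizedModule_powers f _ (h n)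

lemma isZero_locCx_single (f : A) (M : ModuleCat.{u} A) (hM : PT f M) :
    IsZero ((locCx (Submonoid.powers f)).obj
      ((HomologicalComplex.single (ModuleCat.{u} A) (ComplexShape.up ℤ) 0).obj M)) := by
  rw [IsZero.iff_id_eq_zero]
  ext n : 1
  apply IsZero.eq_of_src
  suffices hsub : Subsingleton (LocalizedModule (Submonoid.powers f)
      (((HomologicalComplex.single (ModuleCat.{u} A) (ComplexShape.up ℤ) 0).obj M).X n)) from
    ModuleCat.isZero_of_subsingleton (ModuleCat.of A (LocalizedModule (Submonoid.powers f)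
      (((HomologicalComplex.single (ModuleCat.{u} A) (ComplexShape.up ℤ) 0).obj M).X n)))
  refine ⟨fun x y => ?_⟩
  have key : ∀ z : LocalizedModule (Submonoid.powers f)
      (((HomologicalComplex.single (ModuleCat.{u} A) (ComplexShape.up ℤ) 0).obj M).X n),
      z = 0 := by
    intro z
    induction z using LocalizedModule.induction_on with
    | h m s =>
      by_cases hn : n = 0
      · subst hn
        let e := (HomologicalComplex.singleObjXSelf (ComplexShape.up ℤ) (0 : ℤ) M)
        obtain ⟨k, hk⟩ := hM (e.hom.hom m)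
        have hm : f ^ k • m = 0 := by
          have : e.hom.hom (f ^ k • m) = 0 := by rw [map_smul, hk]
          have h2 := congrArg e.inv.hom this
          rw [map_zero] at h2
          rw [← h2]
          change f ^ k • m = (e.hom ≫ e.inv).hom (f ^ k • m)
          rw [e.hom_inv_id]
          rfl
        rw [← LocalizedModule.zero_mk s]
        rw [LocalizedModule.mk_eq]
        refine ⟨⟨f ^ k, k, rfl⟩, ?_⟩
        rw [smul_zero, smul_zero]
        change f ^ k • (s • m) = 0
        rw [smul_comm, hm, smul_zero]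
      · have hz : IsZero (((HomologicalComplex.single (ModuleCat.{u} A) (ComplexShape.up ℤ) 0).obj
            M).X n) := HomologicalComplex.isZero_single_obj_X _ _ _ _ hn
        have hm : m = 0 := by
          haveI := ModuleCat.subsingleton_of_isZero hz
          exact Subsingleton.elim _ _
        rw [hm, LocalizedModule.zero_mk]
  rw [key x, key y]

/-- **Vanishing**: no nonzero maps in `D(A)` from an `f`-power torsion module to an `f`-local
complex -/
theorem LO_Q_single (f : A) (M : ModuleCat.{u} A) (hM : PT f M) :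
    LO f (Q.obj ((HomologicalComplex.single (ModuleCat.{u} A) (ComplexShape.up ℤ) 0).obj M)) := by
  intro Y hY
  suffices h : ∀ φ : Q.obj ((HomologicalComplex.single (ModuleCat.{u} A)
      (ComplexShape.up ℤ) 0).obj M) ⟶ Q.obj Y, φ = 0 from
    ⟨fun a b => (h a).trans (h b).symm⟩
  intro φ
  obtain ⟨Y', g, s, hs, rfl⟩ := left_fac φ
  haveI : QuasiIso s := (DerivedCategory.isIso_Q_map_iff_quasiIso _ s).1 hs
  have hqi : QuasiIso (locCxUnit (Submonoid.powers f) Y') :=
    quasiIso_locCxUnit f Y' (fun n =>
      bijective_smul_homology_of_quasiIso f s n (bijective_smul_homology f Y hY n))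
  have hnat := locCxUnit_naturality (Submonoid.powers f) g
  have hz : Q.map g ≫ Q.map (locCxUnit (Submonoid.powers f) Y') = 0 := by
    rw [← Q.map_comp, ← hnat, Q.map_comp]
    have : IsZero (Q.obj ((locCx (Submonoid.powers f)).obj
        ((HomologicalComplex.single (ModuleCat.{u} A) (ComplexShape.up ℤ) 0).obj M))) :=
      Q.map_isZero (isZero_locCx_single f M hM)
    rw [this.eq_of_tgt (Q.map (locCxUnit (Submonoid.powers f) _)) 0, zero_comp]
  haveI : IsIso (Q.map (locCxUnit (Submonoid.powers f) Y')) :=
    (DerivedCategory.isIso_Q_map_iff_quasiIso _ _).2 hqi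
  have hg : Q.map g = 0 := by
    rw [← cancel_mono (Q.map (locCxUnit (Submonoid.powers f) Y')), hz, zero_comp]
  rw [hg, zero_comp]

theorem LO_inD (f : A) (M : ModuleCat.{u} A) (hM : PT f M) :
    LO f ((DerivedCategory.singleFunctor (ModuleCat.{u} A) 0).obj M) :=
  (LO_Q_single f M hM).of_iso ((DerivedCategory.singleFunctorIsoCompQ (ModuleCat.{u} A) 0).app M).symm

/-- functors on complexes preserving locality and degreewise split short exact sequences -/
structure GoodFunctor (Gc : Cx A ⥤ Cx A) [Gc.Additive] : Prop where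
  loc : ∀ (f : A) (Y : Cx A), IsIso (f • 𝟙 Y) → IsIso (f • 𝟙 (Gc.obj Y))
  ses : ∀ (S : ShortComplex (Cx A)),
    (∀ n, Nonempty (S.map (HomologicalComplex.eval _ _ n)).Splitting) → (S.map Gc).ShortExact

/-- **Induction**: the augmentation of the extended Čech complex induces bijections on maps
from `W` as soon as `W` is left orthogonal to `f`-local complexes for all `f ∈ fs`. -/
theorem bijective_postcomp_aug (Gc : Cx A ⥤ Cx A) [Gc.Additive] (hG : GoodFunctor Gc)
    (W : Dual.D A) (V : ModuleCat.{u} A) : ∀ (fs : List A), (∀ f ∈ fs, LO f W) →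
    Function.Bijective (fun ψ : W ⟶ Q.obj (Gc.obj (extCech V fs)) =>
      ψ ≫ Q.map (Gc.map (aug V fs)))
  | [], _ => by
    have : (fun ψ : W ⟶ Q.obj (Gc.obj (extCech V [])) => ψ ≫ Q.map (Gc.map (aug V []))) =
        _root_.id := by
      funext ψ
      change ψ ≫ Q.map (Gc.map (𝟙 _)) = ψ
      rw [Gc.map_id, Q.map_id]
      exact Category.comp_id ψ
    rw [this]
    exact Function.bijective_id
  | f :: fs, hW => by
    have ih := bijective_postcomp_aug Gc hG W V fs (fun g hg => hW g (List.mem_cons_of_mem _ hg))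
    let X := extCech V fs
    let u := locCxUnit (Submonoid.powers f) X
    have hdp : IsDistPair (Q.map (Gc.map (coconeι u))) (Q.map (Gc.map (mappingCocone.fst u))) := by
      have hS := hG.ses (coconeSC u) (fun n => ⟨coconeSplitting u n⟩)
      exact isDistPair_of_distTriang _ (triangleOfSES_distinguished hS)
    have hloc : IsIso (f • 𝟙 (Gc.obj (((locCx (Submonoid.powers f)).obj X)⟦(-1 : ℤ)⟧))) :=
      hG.loc f _ (isIso_smul_shift f _ (isIso_smul_locCx f X) (-1))
    have hf : LO f W := hW f List.mem_cons_self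
    have h0 : Subsingleton (W ⟶ Q.obj (Gc.obj (((locCx (Submonoid.powers f)).obj X)⟦(-1 : ℤ)⟧))) :=
      hf _ hloc
    have h1 : Subsingleton
        (W ⟶ (Q.obj (Gc.obj (((locCx (Submonoid.powers f)).obj X)⟦(-1 : ℤ)⟧)))⟦(1 : ℤ)⟧) := by
      have h' := hf _ (isIso_smul_shift f _ hloc 1)
      haveI : Subsingleton (W ⟶ (CategoryTheory.shiftFunctor (CochainComplex (ModuleCat.{u} A) ℤ)
          (1 : ℤ) ⋙ Q).obj (Gc.obj (((locCx (Submonoid.powers f)).obj X)⟦(-1 : ℤ)⟧))) := h'
      exact (((Q.commShiftIso (1 : ℤ)).app _).homToEquiv (Z := W)).symm.subsingleton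
    have hb := bijective_postcomp_of_isDistPair hdp W h0 h1
    have : (fun ψ : W ⟶ Q.obj (Gc.obj (extCech V (f :: fs))) =>
        ψ ≫ Q.map (Gc.map (aug V (f :: fs)))) =
        (fun ψ : W ⟶ Q.obj (Gc.obj (extCech V fs)) => ψ ≫ Q.map (Gc.map (aug V fs))) ∘
          (fun ψ : W ⟶ Q.obj (Gc.obj (mappingCocone u)) =>
            ψ ≫ Q.map (Gc.map (mappingCocone.fst u))) := by
      funext ψ
      change ψ ≫ Q.map (Gc.map (mappingCocone.fst u ≫ aug V fs)) = _
      rw [Gc.map_comp, Q.map_comp, ← Category.assoc]
      rfl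
    rw [this]
    exact ih.comp hb

end Groth.Agent.Lib.Helper10.PTB
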