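import Groth.Agent.Lib.Helper17KInjD5
import Groth.Agent.Lib.Helper17Cpt2
import Groth.Prelude.Def_DRing3

/-!
# `RΓ_I` on K-injective complexes (helper17)

The unit `Q(Γ_I J) ⟶ RΓ_I(Q J)` of the total right derived functor of `Γ_I` is an isomorphism for
K-injective `J`.
-/

set_option autoImplicit false

universe u

open CategoryTheory CategoryTheory.Limits HomologicalComplex DerivedCategory

attribute [local instance] HasDerivedCategory.standard

namespace Groth.Agent.Lib.Helper17.RGam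

open Groth.Agent.Lib.Helper17.KInj Groth.Agent.Lib.Helper17.Cpt

variable {A : Type u} [CommRing A] (I : Ideal A) [DRing.HasRgammaI I]

/-- the unit of `RΓ_I` on the homotopy category. -/
noncomputable abbrev βK : DRing.gammaIKh I ⟶ DerivedCategory.Qh ⋙ DRing.RgammaI I :=
  (DRing.gammaIKh I).totalRightDerivedUnit DerivedCategory.Qh
    (HomotopyCategory.quasiIso (ModuleCat.{u} A) (ComplexShape.up ℤ))

/-- the unit of `RΓ_I` on complexes. -/
noncomputable def unitCx :
    (DRing.gammaI I).mapHomologicalComplex (ComplexShape.up ℤ) ⋙ DerivedCategory.Q ⟶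
      DerivedCategory.Q ⋙ DRing.RgammaI I :=
  unitOfK (DRing.gammaI I) (DRing.RgammaI I) (βK I)

instance : (DRing.RgammaI I).IsRightDerivedFunctor (unitCx I)
    (HomologicalComplex.quasiIso (ModuleCat.{u} A) (ComplexShape.up ℤ)) :=
  isRightDerivedFunctor_unitOfK (DRing.gammaI I) (DRing.RgammaI I) (βK I)

lemma isIso_unitCx_app (J : CochainComplex (ModuleCat.{u} A) ℤ) [J.IsKInjective] :
    IsIso ((unitCx I).app J) :=
  isIso_app_of_isKInjective (DRing.gammaI I) (DRing.RgammaI I) (unitCx I) J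

/-- `RΓ_I(Q J) ≅ Q(Γ_I J)` for `J` K-injective. -/
noncomputable def isoOfIsKInjective (J : CochainComplex (ModuleCat.{u} A) ℤ) [J.IsKInjective] :
    (Q : _ ⥤ Dual.D A).obj (((DRing.gammaI I).mapHomologicalComplex (ComplexShape.up ℤ)).obj J) ≅
      (DRing.RgammaI I).obj ((Q : _ ⥤ Dual.D A).obj J) :=
  haveI := isIso_unitCx_app I J
  asIso ((unitCx I).app J)

/-- `RΓ_I(Q K) ≅ Q(Γ_I J)` for a quasi-isomorphism `K ⟶ J` to a K-injective complex. -/
noncomputable def isoOfQuasiIso {K J : CochainComplex (ModuleCat.{u} A) ℤ} [J.IsKInjective]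
    (q : K ⟶ J) [QuasiIso q] :
    (DRing.RgammaI I).obj ((Q : _ ⥤ Dual.D A).obj K) ≅
      (Q : _ ⥤ Dual.D A).obj (((DRing.gammaI I).mapHomologicalComplex (ComplexShape.up ℤ)).obj J) :=
  haveI : IsIso ((Q : _ ⥤ Dual.D A).map q) := by
    rw [DerivedCategory.isIso_Q_map_iff_quasiIso]; infer_instance
  (DRing.RgammaI I).mapIso (asIso ((Q : _ ⥤ Dual.D A).map q)) ≪≫ (isoOfIsKInjective I J).symm

/-- a complex with zero terms is zero in the derived category. -/
lemma isZero_Q_obj_of_isZero_X (L : CochainComplex (ModuleCat.{u} A) ℤ)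
    (h : ∀ n, IsZero (L.X n)) : IsZero ((Q : _ ⥤ Dual.D A).obj L) := by
  apply isZero_Q_obj_of_acyclic
  intro n
  exact ShortComplex.exact_of_isZero_X₂ _ (h n)

end Groth.Agent.Lib.Helper17.RGam
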