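import Groth.Agent.Lib.Helper10RGamA
import Groth.Agent.Lib.Helper17RGam1
import Groth.Agent.Lib.Helper17KInj12

/-! `RΓ_I` over a Noetherian ring via complexes of injectives (helper10): the unit
`Q(Γ_I C) ⟶ RΓ_I(Q C)` is an isomorphism for every complex of injectives, `ε : RΓ_I K ⟶ K` is
`Q(Γ_I C ⊆ C)` under this identification, and `ε` is an isomorphism on objects with `I`-power
torsion cohomology. -/

set_option autoImplicit false
set_option maxHeartbeats 400000
universe u
open CategoryTheory CategoryTheory.Limits HomologicalComplex DerivedCategory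

attribute [local instance] HasDerivedCategory.standard

namespace Groth.Agent.Lib.Helper10.RGamB

open Groth.Agent.Lib.Helper10.RGamA Groth.Agent.Lib.Helper17.RGam Groth.Agent.Lib.Helper17.KInj

variable {A : Type u} [CommRing A] (I : Ideal A) [DRing.HasRgammaI I]

lemma βK_ε (X : HomotopyCategory (ModuleCat.{u} A) (ComplexShape.up ℤ)) :
    (βK I).app X ≫ (DRing.RgammaIε I).app (Qh.obj X) = (DRing.gammaIτ I).app X := by
  simp [DRing.RgammaIε]

lemma unitCx_ε (J : DRing.Cx A) :
    (unitCx I).app J ≫ (DRing.RgammaIε I).app (Q.obj J) = Q.map (ιC I J) := by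
  simp only [unitCx, unitOfK, isoF₀, γOfK]
  simp
  rw [reassoc_of% (βK_ε I)]
  have h1 : (DRing.gammaIτ I).app ((HomotopyCategory.quotient (ModuleCat A) (ComplexShape.up ℤ)).obj J) =
      (DRing.gammaIτ0 I).app J := rfl
  rw [h1]
  simp [DRing.gammaIτ0]
  rw [← Functor.map_comp]
  congr 1

omit [DRing.HasRgammaI I] in
lemma isZero_Q_obj_iff (K : DRing.Cx A) :
    IsZero ((Q : _ ⥤ Dual.D A).obj K) ↔ ∀ j, IsZero (K.homology j) := by
  constructor
  · intro h j
    exact ((DerivedCategory.homologyFunctor (ModuleCat.{u} A) j).map_isZero h).of_iso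
      ((DerivedCategory.homologyFunctorFactors (ModuleCat.{u} A) j).app K).symm
  · intro h
    exact Groth.Agent.Lib.Helper17.Cpt.isZero_Q_obj_of_acyclic K
      (fun j => (K.exactAt_iff_isZero_homology j).2 (h j))

omit [DRing.HasRgammaI I] in
lemma quasiIso_iff_mappingCone {C D : DRing.Cx A} (φ : C ⟶ D) :
    QuasiIso φ ↔ ∀ j, IsZero ((CochainComplex.mappingCone φ).homology j) := by
  rw [← isZero_Q_obj_iff, ← DerivedCategory.isIso_Q_map_iff_quasiIso (C := ModuleCat.{u} A)]
  exact (Pretriangulated.Triangle.isZero₃_iff_isIso₁ _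
    (DerivedCategory.mappingCone_triangle_distinguished φ)).symm

omit [DRing.HasRgammaI I] in
lemma TI_mappingCone {C D : DRing.Cx A} (hC : TI C) (hD : TI D) (φ : C ⟶ D) :
    TI (CochainComplex.mappingCone φ) := by
  intro n
  haveI : Injective (C.X (n + 1)) := by
    haveI := hC (n + 1)
    exact Module.injective_object_of_injective_module (R := A) (M := C.X (n + 1))
  haveI : Injective (D.X n) := by
    haveI := hD n
    exact Module.injective_object_of_injective_module (R := A) (M := D.X n)
  haveI : Injective ((CochainComplex.mappingCone φ).X n) :=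
    Injective.of_iso (HomologicalComplex.homotopyCofiber.XIsoBiprod φ n (n + 1) rfl).symm
      inferInstance
  exact Module.injective_module_of_injective_object (R := A) (M := (CochainComplex.mappingCone φ).X n)

omit [DRing.HasRgammaI I] in
/-- over a Noetherian ring, `Γ_I` preserves quasi-isomorphisms between complexes of injectives -/
theorem quasiIso_G_map [IsNoetherianRing A] {C D : DRing.Cx A} (hC : TI C) (hD : TI D) (φ : C ⟶ D)
    [QuasiIso φ] : QuasiIso ((G I).map φ) := by
  rw [quasiIso_iff_mappingCone]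
  intro j
  have h := isZero_homology_G I (TI_mappingCone hC hD φ)
    ((quasiIso_iff_mappingCone φ).1 inferInstance) j
  exact h.of_iso ((HomologicalComplex.homologyFunctor _ _ j).mapIso
    (CochainComplex.mappingCone.mapHomologicalComplexIso φ (DRing.gammaI I))).symm

omit [DRing.HasRgammaI I] in
lemma TI_of_injective {J : DRing.Cx A} (h : ∀ n, Injective (J.X n)) : TI J := fun n =>
  haveI := h n
  Module.injective_module_of_injective_object (R := A) (M := J.X n)

/-- over a Noetherian ring, the unit `Q(Γ_I C) ⟶ RΓ_I(Q C)` is an isomorphism for every complex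
of injectives `C` (not necessarily K-injective). -/
theorem isIso_unitCx_app_of_TI [IsNoetherianRing A] (C : DRing.Cx A) (hC : TI C) :
    IsIso ((unitCx I).app C) := by
  obtain ⟨J, j, hJ, hj, -, hJI⟩ := exists_kInjective_resolution.{u} (ModuleCat.{u} A) C
  have hJT : TI J := TI_of_injective hJI
  have nat := (unitCx I).naturality j
  haveI := isIso_unitCx_app I J
  haveI : QuasiIso ((G I).map j) := quasiIso_G_map I hC hJT j
  haveI : IsIso ((Q : _ ⥤ Dual.D A).map ((G I).map j)) := by
    rw [DerivedCategory.isIso_Q_map_iff_quasiIso]; infer_instance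
  haveI : IsIso ((Q : _ ⥤ Dual.D A).map j) := by
    rw [DerivedCategory.isIso_Q_map_iff_quasiIso]; infer_instance
  haveI : IsIso ((Q ⋙ DRing.RgammaI I).map j) := by
    dsimp; infer_instance
  haveI : IsIso (((G I) ⋙ (Q : _ ⥤ Dual.D A)).map j) := by
    dsimp; infer_instance
  have h2 : IsIso ((unitCx I).app C ≫ (Q ⋙ DRing.RgammaI I).map j) := by
    rw [← nat]; infer_instance
  exact IsIso.of_isIso_comp_right _ ((Q ⋙ DRing.RgammaI I).map j)

section Torsion

omit [DRing.HasRgammaI I]

lemma isPowerTorsion_of_injective {M N : Type*} [AddCommGroup M] [Module A M] [AddCommGroup N]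
    [Module A N] (f : N →ₗ[A] M) (hf : Function.Injective f) (h : LocCoh.IsPowerTorsion I M) :
    LocCoh.IsPowerTorsion I N := fun x => by
  obtain ⟨n, hn⟩ := h (f x)
  exact ⟨n, fun a ha => hf (by rw [map_smul, hn a ha, map_zero])⟩

lemma isPowerTorsion_of_surjective {M N : Type*} [AddCommGroup M] [Module A M] [AddCommGroup N]
    [Module A N] (f : M →ₗ[A] N) (hf : Function.Surjective f) (h : LocCoh.IsPowerTorsion I M) :
    LocCoh.IsPowerTorsion I N := fun y => by
  obtain ⟨x, rfl⟩ := hf y
  obtain ⟨n, hn⟩ := h x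
  exact ⟨n, fun a ha => by rw [← map_smul, hn a ha, map_zero]⟩

lemma isPowerTorsion_of_iso {M N : ModuleCat.{u} A} (e : M ≅ N) (h : LocCoh.IsPowerTorsion I M) :
    LocCoh.IsPowerTorsion I N :=
  isPowerTorsion_of_injective I e.inv.hom
    ((ModuleCat.mono_iff_injective e.inv).1 inferInstance) h

lemma isPowerTorsion_torsionSub (M : Type u) [AddCommGroup M] [Module A M] :
    LocCoh.IsPowerTorsion I (DRing.torsionSub I M) := fun x => by
  obtain ⟨n, hn⟩ := x.2
  exact ⟨n, fun a ha => Subtype.ext (hn a ha)⟩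

/-- the cohomology of `Γ_I C` is `I`-power torsion -/
lemma isPowerTorsion_homology_G (C : DRing.Cx A) (j : ℤ) :
    LocCoh.IsPowerTorsion I (((G I).obj C).homology j) := by
  have h1 : LocCoh.IsPowerTorsion I (((G I).obj C).cycles j) :=
    isPowerTorsion_of_injective I (((G I).obj C).iCycles j).hom
      ((ModuleCat.mono_iff_injective _).1 inferInstance) (isPowerTorsion_torsionSub I (C.X j))
  exact isPowerTorsion_of_surjective I (((G I).obj C).homologyπ j).hom
    ((ModuleCat.epi_iff_surjective _).1 inferInstance) h1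

/-- `H^j(Q C) ≅ H^j(C)` -/
noncomputable def HDIso (C : DRing.Cx A) (j : ℤ) :
    (DerivedCategory.homologyFunctor (ModuleCat.{u} A) j).obj ((Q : _ ⥤ Dual.D A).obj C) ≅
      C.homology j :=
  (DerivedCategory.homologyFunctorFactors (ModuleCat.{u} A) j).app C

end Torsion

/-- `ε` at `Q J` for a complex of injectives: `ε = unit⁻¹ ≫ Q(ι)` -/
lemma isIso_ε_app_Q_iff [IsNoetherianRing A] (C : DRing.Cx A) (hC : TI C) :
    IsIso ((DRing.RgammaIε I).app ((Q : _ ⥤ Dual.D A).obj C)) ↔ QuasiIso (ιC I C) := by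
  haveI := isIso_unitCx_app_of_TI I C hC
  rw [← DerivedCategory.isIso_Q_map_iff_quasiIso (C := ModuleCat.{u} A), ← unitCx_ε]
  constructor
  · intro h; infer_instance
  · intro h; exact IsIso.of_isIso_comp_left ((unitCx I).app C) _

/-- every object of `D(A)` is the image of a K-injective complex of injectives -/
lemma exists_TI_model (K : Dual.D A) : ∃ (J : DRing.Cx A) (_ : J.IsKInjective) (_ : TI J),
    Nonempty ((Q : _ ⥤ Dual.D A).obj J ≅ K) := by
  obtain ⟨J, j, hJ, hj, -, hJI⟩ :=
    exists_kInjective_resolution.{u} (ModuleCat.{u} A) ((Q : _ ⥤ Dual.D A).objPreimage K)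
  haveI : IsIso ((Q : _ ⥤ Dual.D A).map j) := by
    rw [DerivedCategory.isIso_Q_map_iff_quasiIso]; infer_instance
  exact ⟨J, hJ, TI_of_injective hJI,
    ⟨(asIso ((Q : _ ⥤ Dual.D A).map j)).symm ≪≫ (Q : _ ⥤ Dual.D A).objObjPreimageIso K⟩⟩

/-- S1813: over a Noetherian ring `RΓ_I(K) ⟶ K` is an isomorphism when the cohomology of `K` is
`I`-power torsion -/
theorem isIso_ε_app_of_torsion [IsNoetherianRing A] (K : Dual.D A)
    (hK : ∀ i : ℤ, LocCoh.IsPowerTorsion I (Dual.HD A K i)) :
    IsIso ((DRing.RgammaIε I).app K) := by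
  obtain ⟨J, _, hJT, ⟨e⟩⟩ := exists_TI_model K
  rw [← NatTrans.isIso_app_iff_of_iso _ e, isIso_ε_app_Q_iff I J hJT]
  apply quasiIso_ιC I hJT
  intro j
  exact isPowerTorsion_of_iso I
    ((DerivedCategory.homologyFunctor (ModuleCat.{u} A) j).mapIso e.symm ≪≫ HDIso J j) (hK j)

end Groth.Agent.Lib.Helper10.RGamB
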