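import Mathlib

/-!
# Two-out-of-three for classes of objects of `D(R)` represented by bounded above complexes of
projective modules of a given type (helper1)
-/
set_option autoImplicit false
universe u
open CategoryTheory CategoryTheory.Limits CategoryTheory.Pretriangulated
attribute [local instance] HasDerivedCategory.standard

namespace Groth.Agent.Lib.Helper1.Cone

open DerivedCategory

variable {R : Type u} [CommRing R]

/-- `K` is represented by a bounded above complex (bounded if `bb` holds) with terms in `PP` -/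
def Rep (PP : ModuleCat.{u} R → Prop) (bb : Prop) (K : DerivedCategory (ModuleCat.{u} R)) : Prop :=
  ∃ E : CochainComplex (ModuleCat.{u} R) ℤ, (∃ b : ℤ, ∀ i : ℤ, b < i → IsZero (E.X i)) ∧
    (bb → ∃ a : ℤ, ∀ i : ℤ, i < a → IsZero (E.X i)) ∧ (∀ i : ℤ, PP (E.X i)) ∧
    Nonempty (Q.obj E ≅ K)

variable {PP : ModuleCat.{u} R → Prop} {bb : Prop}

lemma Rep.of_iso {K K' : DerivedCategory (ModuleCat.{u} R)} (e : K ≅ K') (h : Rep PP bb K) :
    Rep PP bb K' := by
  obtain ⟨E, h1, h2, h3, ⟨e'⟩⟩ := h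
  exact ⟨E, h1, h2, h3, ⟨e' ≪≫ e⟩⟩

lemma Rep.shift {K : DerivedCategory (ModuleCat.{u} R)} (h : Rep PP bb K) (n : ℤ) :
    Rep PP bb (K⟦n⟧) := by
  obtain ⟨E, ⟨b, hb⟩, h2, h3, ⟨e⟩⟩ := h
  refine ⟨E⟦n⟧, ⟨b - n, fun i hi => hb (i + n) (by lia)⟩, fun hbb => ?_, fun i => h3 (i + n),
    ⟨(Q.commShiftIso n).app E ≪≫ (shiftFunctor _ n).mapIso e⟩⟩
  obtain ⟨a, ha⟩ := h2 hbb
  exact ⟨a - n, fun i hi => ha (i + n) (by lia)⟩

lemma exists_chain_map (P L : CochainComplex (ModuleCat.{u} R) ℤ) [P.IsKProjective]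
    (φ : Q.obj P ⟶ Q.obj L) : ∃ f : P ⟶ L, Q.map f = φ := by
  obtain ⟨g, hg⟩ := (CochainComplex.IsKProjective.Qh_map_bijective P
    ((HomotopyCategory.quotient _ (ComplexShape.up ℤ)).obj L)).2 φ
  obtain ⟨f, rfl⟩ := (HomotopyCategory.quotient _ (ComplexShape.up ℤ)).map_surjective g
  exact ⟨f, hg⟩

variable (hproj : ∀ X : ModuleCat.{u} R, PP X → Module.Projective R X)
  (hiso : ∀ (X Y : ModuleCat.{u} R), (X ≅ Y) → PP X → PP Y)
  (hsum : ∀ X Y : ModuleCat.{u} R, PP X → PP Y → PP (X ⊞ Y))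

include hproj hiso hsum in
/-- the cone of a map between objects of the class is in the class -/
lemma Rep.cone (T : Triangle (DerivedCategory (ModuleCat.{u} R)))
    (hT : T ∈ distTriang (DerivedCategory (ModuleCat.{u} R)))
    (h₁ : Rep PP bb T.obj₁) (h₂ : Rep PP bb T.obj₂) : Rep PP bb T.obj₃ := by
  obtain ⟨E, ⟨b, hb⟩, hEa, hE, ⟨e₁⟩⟩ := h₁
  obtain ⟨F, ⟨b', hb'⟩, hFa, hF, ⟨e₂⟩⟩ := h₂
  have hEle : E.IsStrictlyLE b := by
    rw [CochainComplex.isStrictlyLE_iff]
    exact hb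
  have : ∀ i : ℤ, Projective (E.X i) := fun i =>
    have := hproj _ (hE i)
    ModuleCat.projective_of_categoryTheory_projective _
  have : E.IsKProjective := CochainComplex.isKProjective_of_projective E b
  obtain ⟨c, hc⟩ := exists_chain_map E F (e₁.hom ≫ T.mor₁ ≫ e₂.inv)
  have hT' := DerivedCategory.mappingCone_triangle_distinguished c
  have comm : (Q.mapTriangle.obj (CochainComplex.mappingCone.triangle c)).mor₁ ≫ e₂.hom =
      e₁.hom ≫ T.mor₁ := by
    show Q.map c ≫ e₂.hom = e₁.hom ≫ T.mor₁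
    rw [hc, Category.assoc, Category.assoc, Iso.inv_hom_id, Category.comp_id]
  have e₃ : Q.obj (CochainComplex.mappingCone c) ≅ T.obj₃ :=
    Triangle.π₃.mapIso (isoTriangleOfIso₁₂ _ _ hT' hT e₁ e₂ comm)
  refine ⟨CochainComplex.mappingCone c, ⟨max b b', fun i hi => ?_⟩, fun hbb => ?_, fun i => ?_, ⟨e₃⟩⟩
  · rw [CochainComplex.mappingCone.isZero_X_iff]
    exact ⟨hb _ (by have := le_max_left b b'; lia), hb' _ (by have := le_max_right b b'; lia)⟩
  · obtain ⟨a, ha⟩ := hEa hbb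
    obtain ⟨a', ha'⟩ := hFa hbb
    refine ⟨min a a' - 1, fun i hi => ?_⟩
    rw [CochainComplex.mappingCone.isZero_X_iff]
    exact ⟨ha _ (by have := min_le_left a a'; lia), ha' _ (by have := min_le_right a a'; lia)⟩
  · have := HomologicalComplex.HasHomotopyCofiber.hasBinaryBiproduct c i (i + 1) rfl
    exact hiso _ _ (HomologicalComplex.homotopyCofiber.XIsoBiprod c i (i + 1) rfl).symm
      (hsum _ _ (hE _) (hF _))

include hproj hiso hsum in
/-- two out of three -/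
theorem Rep.two_out_of_three (T : Triangle (DerivedCategory (ModuleCat.{u} R)))
    (hT : T ∈ distTriang (DerivedCategory (ModuleCat.{u} R))) :
    (Rep PP bb T.obj₁ → Rep PP bb T.obj₂ → Rep PP bb T.obj₃) ∧
      (Rep PP bb T.obj₁ → Rep PP bb T.obj₃ → Rep PP bb T.obj₂) ∧
      (Rep PP bb T.obj₂ → Rep PP bb T.obj₃ → Rep PP bb T.obj₁) := by
  refine ⟨Rep.cone hproj hiso hsum T hT, fun h₁ h₃ => ?_, fun h₂ h₃ => ?_⟩
  · exact Rep.cone hproj hiso hsum T.invRotate (inv_rot_of_distTriang _ hT) (h₃.shift (-1)) h₁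
  · have h := Rep.cone hproj hiso hsum T.rotate (rot_of_distTriang _ hT) h₂ h₃
    exact (h.shift (-1)).of_iso ((shiftEquiv _ (1 : ℤ)).unitIso.symm.app T.obj₁)

end Groth.Agent.Lib.Helper1.Cone
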