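import Mathlib

/-!
# Duality for `ℤ`-indexed cochain complexes (helper23)

For `K : CochainComplex A ℤ`, `dual K : CochainComplex Aᵒᵖ ℤ` has `(dual K).X n = op (K.X (-n))`;
`dual' M : CochainComplex A ℤ` for `M : CochainComplex Aᵒᵖ ℤ` has `(dual' M).X n = unop (M.X (-n))`.
`dualMap`, `dualMap'` are the (contravariant) actions on morphisms, which preserve and reflect
quasi-isomorphisms (`quasiIso_dualMap_iff`, `quasiIso_dualMap'_iff`), and
`ddIso K : dual' (dual K) ≅ K` is natural (`ddIso_naturality`).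
`isStrictlyGE_dual`, `isStrictlyLE_dual'` transfer boundedness.
-/

set_option autoImplicit false
universe v u
open CategoryTheory CategoryTheory.Limits Opposite

namespace Groth.Agent.Lib.Helper23Dual

section neg

variable {V : Type u} [Category.{v} V] [HasZeroMorphisms V]

/-- reindexing along `n ↦ -n`. -/
def negCplx (K : HomologicalComplex V (ComplexShape.up ℤ).symm) : CochainComplex V ℤ where
  X n := K.X (-n)
  d i j := K.d (-i) (-j)
  shape i j h := K.shape _ _ (fun h' => h (by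
    have : -j + 1 = -i := h'
    show i + 1 = j
    lia))
  d_comp_d' _ _ _ _ _ := K.d_comp_d _ _ _

/-- reindexing along `n ↦ -n` (morphisms). -/
def negMap {K L : HomologicalComplex V (ComplexShape.up ℤ).symm} (f : K ⟶ L) :
    negCplx K ⟶ negCplx L where
  f n := f.f (-n)
  comm' _ _ _ := f.comm _ _

@[simp]
theorem negMap_f {K L : HomologicalComplex V (ComplexShape.up ℤ).symm} (f : K ⟶ L) (n : ℤ) :
    (negMap f).f n = f.f (-n) := rfl

theorem negMap_id (K : HomologicalComplex V (ComplexShape.up ℤ).symm) :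
    negMap (𝟙 K) = 𝟙 _ := rfl

theorem negMap_comp {K L M : HomologicalComplex V (ComplexShape.up ℤ).symm} (f : K ⟶ L)
    (g : L ⟶ M) : negMap (f ≫ g) = negMap f ≫ negMap g := rfl

theorem quasiIsoAt_negMap_iff {K L : HomologicalComplex V (ComplexShape.up ℤ).symm} (f : K ⟶ L)
    (n : ℤ) [CategoryWithHomology V] :
    QuasiIsoAt (negMap f) n ↔ QuasiIsoAt f (-n) := by
  have hp : (ComplexShape.up ℤ).symm.prev (-n) = -(n - 1) :=
    (ComplexShape.up ℤ).symm.prev_eq' (by show -n + 1 = -(n - 1); lia)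
  have hn : (ComplexShape.up ℤ).symm.next (-n) = -(n + 1) :=
    (ComplexShape.up ℤ).symm.next_eq' (by show -(n + 1) + 1 = -n; lia)
  rw [quasiIsoAt_iff' (negMap f) (n - 1) n (n + 1) (by simp) (by simp),
    quasiIsoAt_iff' f (-(n - 1)) (-n) (-(n + 1)) hp hn]
  exact Iff.rfl

theorem quasiIso_negMap_iff {K L : HomologicalComplex V (ComplexShape.up ℤ).symm} (f : K ⟶ L)
    [CategoryWithHomology V] : QuasiIso (negMap f) ↔ QuasiIso f := by
  simp only [quasiIso_iff, quasiIsoAt_negMap_iff]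
  constructor
  · intro h n
    simpa using h (-n)
  · intro h n
    exact h (-n)

end neg

section dual

variable {A : Type u} [Category.{v} A] [Abelian A]

/-- the dual complex, in the opposite category: `(dual K).X n = op (K.X (-n))`. -/
def dual (K : CochainComplex A ℤ) : CochainComplex Aᵒᵖ ℤ := negCplx K.op

/-- the dual of a morphism. -/
def dualMap {K L : CochainComplex A ℤ} (f : K ⟶ L) : dual L ⟶ dual K :=
  negMap ((HomologicalComplex.opFunctor A _).map f.op)

theorem dualMap_f {K L : CochainComplex A ℤ} (f : K ⟶ L) (n : ℤ) :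
    (dualMap f).f n = (f.f (-n)).op := rfl

theorem dualMap_id (K : CochainComplex A ℤ) : dualMap (𝟙 K) = 𝟙 _ := rfl

theorem dualMap_comp {K L M : CochainComplex A ℤ} (f : K ⟶ L) (g : L ⟶ M) :
    dualMap (f ≫ g) = dualMap g ≫ dualMap f := rfl

theorem quasiIso_dualMap_iff {K L : CochainComplex A ℤ} (f : K ⟶ L) :
    QuasiIso (dualMap f) ↔ QuasiIso f :=
  (quasiIso_negMap_iff ((HomologicalComplex.opFunctor A _).map f.op)).trans
    (HomologicalComplex.quasiIso_opFunctor_map_iff f)

/-- the dual complex of a complex in the opposite category. -/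
def dual' (M : CochainComplex Aᵒᵖ ℤ) : CochainComplex A ℤ := negCplx M.unop

/-- the dual of a morphism. -/
def dualMap' {M N : CochainComplex Aᵒᵖ ℤ} (g : M ⟶ N) : dual' N ⟶ dual' M :=
  negMap ((HomologicalComplex.unopFunctor A _).map g.op)

theorem dualMap'_f {M N : CochainComplex Aᵒᵖ ℤ} (g : M ⟶ N) (n : ℤ) :
    (dualMap' g).f n = (g.f (-n)).unop := rfl

theorem dualMap'_id (M : CochainComplex Aᵒᵖ ℤ) : dualMap' (𝟙 M) = 𝟙 _ := rfl

theorem dualMap'_comp {K L M : CochainComplex Aᵒᵖ ℤ} (f : K ⟶ L) (g : L ⟶ M) :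
    dualMap' (f ≫ g) = dualMap' g ≫ dualMap' f := rfl

theorem quasiIso_dualMap'_iff {M N : CochainComplex Aᵒᵖ ℤ} (g : M ⟶ N) :
    QuasiIso (dualMap' g) ↔ QuasiIso g :=
  (quasiIso_negMap_iff ((HomologicalComplex.unopFunctor A _).map g.op)).trans
    (HomologicalComplex.quasiIso_unopFunctor_map_iff g)

/-- the double dual is isomorphic to the original complex. -/
def ddIso (K : CochainComplex A ℤ) : dual' (dual K) ≅ K :=
  HomologicalComplex.Hom.isoOfComponents (fun n => K.XIsoOfEq (neg_neg n)) (by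
    intro i j _
    show (K.XIsoOfEq (neg_neg i)).hom ≫ K.d i j =
      K.d (- -i) (- -j) ≫ (K.XIsoOfEq (neg_neg j)).hom
    rw [K.XIsoOfEq_hom_comp_d, K.d_comp_XIsoOfEq_hom])

theorem ddIso_hom_f (K : CochainComplex A ℤ) (n : ℤ) :
    (ddIso K).hom.f n = (K.XIsoOfEq (neg_neg n)).hom := rfl

theorem ddIso_naturality {K L : CochainComplex A ℤ} (f : K ⟶ L) :
    dualMap' (dualMap f) ≫ (ddIso L).hom = (ddIso K).hom ≫ f := by
  ext n
  show f.f (- -n) ≫ (L.XIsoOfEq (neg_neg n)).hom = (K.XIsoOfEq (neg_neg n)).hom ≫ f.f n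
  exact HomologicalComplex.XIsoOfEq_hom_naturality f (neg_neg n)

theorem isStrictlyGE_dual (K : CochainComplex A ℤ) (a : ℤ) [K.IsStrictlyLE a] :
    (dual K).IsStrictlyGE (-a) := by
  rw [CochainComplex.isStrictlyGE_iff]
  intro i hi
  exact (K.isZero_of_isStrictlyLE a (-i) (by lia)).op

theorem isStrictlyLE_dual' (M : CochainComplex Aᵒᵖ ℤ) (a : ℤ) [M.IsStrictlyGE (-a)] :
    (dual' M).IsStrictlyLE a := by
  rw [CochainComplex.isStrictlyLE_iff]
  intro i hi
  exact (M.isZero_of_isStrictlyGE (-a) (-i) (by lia)).unop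

end dual

end Groth.Agent.Lib.Helper23Dual
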