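import Mathlib
import Groth.Agent.Lib.Helper23Dual

/-!
# Projective resolutions of bounded above complexes (helper1)

Obtained by dualizing Mathlib's injective resolutions of bounded below complexes, using
helper23's duality library.
-/
set_option autoImplicit false
universe w v u
open CategoryTheory CategoryTheory.Limits Opposite

namespace Groth.Agent.Lib.Helper1.ProjRes

open Groth.Agent.Lib.Helper23Dual

variable {A : Type u} [Category.{v} A] [Abelian A] [EnoughProjectives A]

open CochainComplex.Plus.modelCategoryQuillen in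
/-- a bounded above complex admits a quasi-isomorphism from a complex of projectives with the
same bound -/
theorem exists_proj_res (K : CochainComplex A ℤ) (n : ℤ) [K.IsStrictlyLE n] :
    ∃ (P : CochainComplex A ℤ) (f : P ⟶ K), QuasiIso f ∧ (∀ k : ℤ, Projective (P.X k)) ∧
      P.IsStrictlyLE n := by
  have i₁ : (dual K).IsStrictlyGE (-n) := isStrictlyGE_dual K n
  obtain ⟨L, i, hi, hL, hLb⟩ := exists_quasiIso_injective (dual K) (-n)
  refine ⟨dual' L, dualMap' i ≫ (ddIso K).hom, ?_, fun k => ?_, isStrictlyLE_dual' L n⟩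
  · have := (quasiIso_dualMap'_iff i).2 hi
    infer_instance
  · have := hL (-k)
    show Projective (unop (L.X (-k)))
    infer_instance

/-- an object of `D^{≤ n}` is represented by a complex of projectives in degrees `≤ n` -/
theorem exists_iso_Q_proj [HasDerivedCategory.{w} A] (K : DerivedCategory A) (n : ℤ) [K.IsLE n] :
    ∃ (P : CochainComplex A ℤ), P.IsStrictlyLE n ∧ (∀ k : ℤ, Projective (P.X k)) ∧
      Nonempty (DerivedCategory.Q.obj P ≅ K) := by
  obtain ⟨K', hK', ⟨e⟩⟩ := K.exists_iso_Q_obj_of_isLE n
  obtain ⟨P, f, hf, hP, hPn⟩ := exists_proj_res K' n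
  have : IsIso (DerivedCategory.Q.map f) := (DerivedCategory.isIso_Q_map_iff_quasiIso (φ := f)).2 hf
  exact ⟨P, hPn, hP, ⟨asIso (DerivedCategory.Q.map f) ≪≫ e.symm⟩⟩

end Groth.Agent.Lib.Helper1.ProjRes
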