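import Mathlib
import Groth.Prelude.Def_DDual2
import Groth.Prelude.Def_DRing2

/-!
# Tor amplitude via tensor-vanishing (helper1)

Module-level flatness lemmas, the tensor functors `T M = M ⊗ -` on complexes, the intrinsic
condition `TorVan K a b` and the main lemma (flatness of cokernels).
-/
set_option autoImplicit false
universe u
open CategoryTheory CategoryTheory.Limits MonoidalCategory
attribute [local instance] HasDerivedCategory.standard

namespace Groth.Agent.Lib.Helper1.Tor

open TensorProduct

section ModuleLevel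

variable {R : Type u} [CommRing R]

/-- In a short exact sequence `0 → M' → M → M'' → 0` with `M` and `M''` flat, `M'` is flat.
(Same argument as `Helper22.flat_of_exact_of_flat_flat`.) -/
theorem flat_ker {M' M M'' : Type*} [AddCommGroup M'] [AddCommGroup M] [AddCommGroup M'']
    [Module R M'] [Module R M] [Module R M''] [Module.Flat R M] [Module.Flat R M'']
    (ι : M' →ₗ[R] M) (δ : M →ₗ[R] M'') (hι : Function.Injective ι) (hδ : Function.Surjective δ)
    (hex : Function.Exact ι δ) : Module.Flat R M' := by
  rw [Module.Flat.iff_rTensor_injective']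
  intro I
  have h1 : Function.Injective (ι.lTensor I) :=
    LinearMap.lTensor_injective_of_exact_of_flat δ hδ ι hι hex I
  have h2 : Function.Injective (LinearMap.rTensor M (Submodule.subtype I)) :=
    Module.Flat.rTensor_preserves_injective_linearMap _ (Submodule.subtype_injective I)
  have h3 : (LinearMap.rTensor M (Submodule.subtype I)) ∘ₗ (ι.lTensor I) =
      (ι.lTensor R) ∘ₗ (LinearMap.rTensor M' (Submodule.subtype I)) := by
    rw [LinearMap.rTensor_comp_lTensor, LinearMap.lTensor_comp_rTensor]
  have h4 : Function.Injective ((ι.lTensor R) ∘ₗ (LinearMap.rTensor M' (Submodule.subtype I))) := by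
    rw [← h3]
    exact h2.comp h1
  exact Function.Injective.of_comp h4

/-- the range of `g` is flat if `g, h` is exact, the target of `g` is flat and the range of `h`
is flat. -/
theorem flat_range_of_exact {Y Z W : Type*} [AddCommGroup Y] [AddCommGroup Z] [AddCommGroup W]
    [Module R Y] [Module R Z] [Module R W] [Module.Flat R Z]
    (g : Y →ₗ[R] Z) (h : Z →ₗ[R] W) (hgh : Function.Exact g h)
    [Module.Flat R (LinearMap.range h)] : Module.Flat R (LinearMap.range g) := by
  have hex : Function.Exact (LinearMap.range g).subtype h.rangeRestrict := by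
    intro z
    constructor
    · intro hz
      have : h z = 0 := congrArg Subtype.val hz
      obtain ⟨y, rfl⟩ := (hgh z).1 this
      exact ⟨⟨g y, ⟨y, rfl⟩⟩, rfl⟩
    · rintro ⟨⟨_, ⟨y, rfl⟩⟩, rfl⟩
      apply Subtype.ext
      exact (hgh (g y)).2 ⟨y, rfl⟩
  exact flat_ker (LinearMap.range g).subtype h.rangeRestrict (Submodule.subtype_injective _)
    h.surjective_rangeRestrict hex

/-- tensoring an exact sequence `X → Y → Z → W` (exact at `Y` and `Z`) with the range of the last
map flat stays exact at `Y`. -/
theorem exact_lTensor_of_flat_range {X Y Z W : Type*} [AddCommGroup X] [AddCommGroup Y]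
    [AddCommGroup Z] [AddCommGroup W] [Module R X] [Module R Y] [Module R Z] [Module R W]
    (f : X →ₗ[R] Y) (g : Y →ₗ[R] Z) (h : Z →ₗ[R] W) (hfg : Function.Exact f g)
    (hgh : Function.Exact g h) [Module.Flat R (LinearMap.range h)]
    (M : Type*) [AddCommGroup M] [Module R M] :
    Function.Exact (f.lTensor M) (g.lTensor M) := by
  -- `g = ι ∘ g'` with `ι : range g → Z`
  set ι := (LinearMap.range g).subtype with hι
  set g' := g.rangeRestrict with hg'
  have hgι : g = ι ∘ₗ g' := by ext y; rfl
  have hex : Function.Exact ι h.rangeRestrict := by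
    intro z
    constructor
    · intro hz
      have : h z = 0 := congrArg Subtype.val hz
      obtain ⟨y, rfl⟩ := (hgh z).1 this
      exact ⟨⟨g y, ⟨y, rfl⟩⟩, rfl⟩
    · rintro ⟨⟨_, ⟨y, rfl⟩⟩, rfl⟩
      apply Subtype.ext
      exact (hgh (g y)).2 ⟨y, rfl⟩
  have hinj : Function.Injective (ι.lTensor M) :=
    LinearMap.lTensor_injective_of_exact_of_flat h.rangeRestrict h.surjective_rangeRestrict ι
      (Submodule.subtype_injective _) hex M
  have hfg' : Function.Exact f g' := by
    intro y
    rw [← hfg y]
    constructor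
    · intro hy
      exact congrArg Subtype.val hy
    · intro hy
      exact Subtype.ext hy
  have hex2 : Function.Exact (f.lTensor M) (g'.lTensor M) :=
    lTensor_exact M hfg' g.surjective_rangeRestrict
  have hg2 : g.lTensor M = (ι.lTensor M) ∘ₗ (g'.lTensor M) := by
    rw [← LinearMap.lTensor_comp]
    exact congrArg (LinearMap.lTensor M) hgι
  intro y
  rw [← hex2 y, hg2, LinearMap.comp_apply]
  constructor
  · intro hy
    exact hinj (by rw [hy, map_zero])
  · intro hy
    rw [hy, map_zero]

/-- converse flatness criterion (same argument as `Helper14.flat_of_exact_of_rTensor_quotient_injective`,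
via `lTensor_injective_of_exact_of_exact_of_rTensor_injective`) -/
theorem flat_of_lTensor_quotient_injective {M₁ M₂ M₃ : Type*} [AddCommGroup M₁] [Module R M₁]
    [AddCommGroup M₂] [Module R M₂] [AddCommGroup M₃] [Module R M₃] (f : M₁ →ₗ[R] M₂)
    (g : M₂ →ₗ[R] M₃) (hexact : Function.Exact f g) (hg : Function.Surjective g)
    [Module.Flat R M₂]
    (hf : ∀ I : Ideal R, Function.Injective (f.lTensor (R ⧸ I))) :
    Module.Flat R M₃ := by
  rw [Module.Flat.iff_lTensor_injective']
  intro I
  exact lTensor_injective_of_exact_of_exact_of_rTensor_injective (R := R)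
    hexact hg (LinearMap.exact_subtype_mkQ I) (Submodule.mkQ_surjective I)
    ((LinearMap.lTensor_inj_iff_rTensor_inj _ _).1 (hf I))
    (Module.Flat.lTensor_preserves_injective_linearMap _ (Submodule.subtype_injective I))

/-- main lemma, module level: `X → Y → Z → C → 0` with `Z` flat, exact at `Y`, `Z`, `C`, and
staying exact at `Y` after tensoring with every `R ⧸ I`: then `C` is flat. -/
theorem flat_of_forall_exact_lTensor {X Y Z C : Type*} [AddCommGroup X] [AddCommGroup Y]
    [AddCommGroup Z] [AddCommGroup C] [Module R X] [Module R Y] [Module R Z] [Module R C]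
    (f : X →ₗ[R] Y) (g : Y →ₗ[R] Z) (p : Z →ₗ[R] C) [Module.Flat R Z]
    (hp : Function.Surjective p) (hgp : Function.Exact g p) (hfg : Function.Exact f g)
    (hT : ∀ I : Ideal R, Function.Exact (f.lTensor (R ⧸ I)) (g.lTensor (R ⧸ I))) :
    Module.Flat R C := by
  set ι := (LinearMap.range g).subtype with hι
  set g' := g.rangeRestrict with hg'
  have hgι : g = ι ∘ₗ g' := by ext y; rfl
  have hιp : Function.Exact ι p := by
    intro z
    rw [hgp z]
    constructor
    · rintro ⟨y, rfl⟩
      exact ⟨⟨g y, ⟨y, rfl⟩⟩, rfl⟩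
    · rintro ⟨⟨_, ⟨y, rfl⟩⟩, rfl⟩
      exact ⟨y, rfl⟩
  have hfg' : Function.Exact f g' := by
    intro y
    rw [← hfg y]
    constructor
    · intro hy
      exact congrArg Subtype.val hy
    · intro hy
      exact Subtype.ext hy
  refine flat_of_lTensor_quotient_injective ι p hιp hp (fun I => ?_)
  rw [injective_iff_map_eq_zero]
  intro z hz
  obtain ⟨y, rfl⟩ := LinearMap.lTensor_surjective (R ⧸ I) g.surjective_rangeRestrict z
  have hg2 : g.lTensor (R ⧸ I) = (ι.lTensor (R ⧸ I)) ∘ₗ (g'.lTensor (R ⧸ I)) := by
    rw [← LinearMap.lTensor_comp]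
    exact congrArg (LinearMap.lTensor (R ⧸ I)) hgι
  have h1 : g.lTensor (R ⧸ I) y = 0 := by
    rw [hg2, LinearMap.comp_apply]
    exact hz
  obtain ⟨x, rfl⟩ := (hT I y).1 h1
  rw [← LinearMap.comp_apply, ← LinearMap.lTensor_comp, hfg'.linearMap_comp_eq_zero,
    LinearMap.lTensor_zero, LinearMap.zero_apply]


/-- In a short exact sequence `0 → M' → M → M'' → 0` with `M'` and `M''` flat, `M` is flat.
(Same argument as `Helper22.flat_of_exact_of_flat_flat'`.) -/
theorem flat_mid {M' M M'' : Type*} [AddCommGroup M'] [AddCommGroup M] [AddCommGroup M'']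
    [Module R M'] [Module R M] [Module R M''] [Module.Flat R M'] [Module.Flat R M'']
    (ι : M' →ₗ[R] M) (δ : M →ₗ[R] M'') (hι : Function.Injective ι) (hδ : Function.Surjective δ)
    (hex : Function.Exact ι δ) : Module.Flat R M := by
  rw [Module.Flat.iff_rTensor_injective']
  intro I
  have hex2 : Function.Exact (ι.lTensor I) (δ.lTensor I) := lTensor_exact I hex hδ
  have h1 : Function.Injective (LinearMap.rTensor M' (Submodule.subtype I)) :=
    Module.Flat.rTensor_preserves_injective_linearMap _ (Submodule.subtype_injective I)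
  have h2 : Function.Injective (LinearMap.rTensor M'' (Submodule.subtype I)) :=
    Module.Flat.rTensor_preserves_injective_linearMap _ (Submodule.subtype_injective I)
  have hιR : Function.Injective (ι.lTensor R) :=
    Module.Flat.lTensor_preserves_injective_linearMap _ hι
  rw [injective_iff_map_eq_zero]
  intro x hx
  have e1 : (LinearMap.rTensor M'' (Submodule.subtype I)) ((δ.lTensor I) x) = 0 := by
    rw [← LinearMap.comp_apply, LinearMap.rTensor_comp_lTensor, ← LinearMap.lTensor_comp_rTensor,
      LinearMap.comp_apply, hx, map_zero]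
  have e2 : (δ.lTensor I) x = 0 := h2 (by rw [e1, map_zero])
  obtain ⟨y, rfl⟩ := (hex2 x).mp e2
  have e3 : (ι.lTensor R) ((LinearMap.rTensor M' (Submodule.subtype I)) y) = 0 := by
    rw [← LinearMap.comp_apply, LinearMap.lTensor_comp_rTensor, ← LinearMap.rTensor_comp_lTensor,
      LinearMap.comp_apply, hx]
  have e4 : y = 0 := h1 (by rw [map_zero]; exact hιR (by rw [e3, map_zero]))
  rw [e4, map_zero]

/-- A product of two flat modules is flat (as `Helper22.flat_prod`). -/
theorem flat_prod {M N : Type*} [AddCommGroup M] [AddCommGroup N] [Module R M] [Module R N]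
    [Module.Flat R M] [Module.Flat R N] : Module.Flat R (M × N) :=
  flat_mid (LinearMap.inl R M N) (LinearMap.snd R M N)
    LinearMap.inl_injective LinearMap.snd_surjective
    (fun x => by
      constructor
      · intro h
        exact ⟨x.1, Prod.ext rfl (by simpa using h.symm)⟩
      · rintro ⟨m, rfl⟩
        rfl)

end ModuleLevel

variable {R : Type u} [CommRing R]

/-- kernel-type objects: `N ↪ Z → W` exact with `Z` and `range` flat -/
theorem flat_of_exact_of_flat_range {N Z W : Type*} [AddCommGroup N] [AddCommGroup Z]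
    [AddCommGroup W] [Module R N] [Module R Z] [Module R W] [Module.Flat R Z]
    (ι : N →ₗ[R] Z) (h : Z →ₗ[R] W) (hι : Function.Injective ι) (hex : Function.Exact ι h)
    [Module.Flat R (LinearMap.range h)] : Module.Flat R N := by
  refine flat_ker ι h.rangeRestrict hι h.surjective_rangeRestrict ?_
  intro z
  rw [← hex z]
  constructor
  · intro hz
    exact congrArg Subtype.val hz
  · intro hz
    exact Subtype.ext hz

/-- tensor functor `M ⊗ -` -/
noncomputable abbrev T (M : ModuleCat.{u} R) : ModuleCat.{u} R ⥤ ModuleCat.{u} R := tensorLeft M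

noncomputable abbrev TC (M : ModuleCat.{u} R) : DRing.Cx R ⥤ DRing.Cx R :=
  (T M).mapHomologicalComplex (ComplexShape.up ℤ)

lemma exactAt_iff_fexact (K : DRing.Cx R) (i j k : ℤ) (hij : i + 1 = j) (hjk : j + 1 = k) :
    K.ExactAt j ↔ Function.Exact (K.d i j).hom (K.d j k).hom := by
  rw [HomologicalComplex.exactAt_iff' K i j k (by simp; lia) (by simp [hjk]),
    ShortComplex.ShortExact.moduleCat_exact_iff_function_exact]
  rfl

lemma exactAt_TC_iff (M : ModuleCat.{u} R) (K : DRing.Cx R) (i j k : ℤ) (hij : i + 1 = j)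
    (hjk : j + 1 = k) :
    ((TC M).obj K).ExactAt j ↔
      Function.Exact ((K.d i j).hom.lTensor M) ((K.d j k).hom.lTensor M) := by
  rw [exactAt_iff_fexact _ i j k hij hjk]
  rfl

/-- Lemma Z: ranges of differentials are flat above the exactness bound -/
lemma flat_range_d (K : DRing.Cx R) (b : ℤ) (hb : DRing.VanishesAbove K b)
    (hflat : DRing.TermwiseFlat K) (n : ℤ) (hex : ∀ j : ℤ, n < j → K.ExactAt j) :
    ∀ i : ℤ, n ≤ i → Module.Flat R (LinearMap.range (K.d i (i + 1)).hom) := by
  have key : ∀ (k : ℕ) (i : ℤ), n ≤ i → b ≤ i + k →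
      Module.Flat R (LinearMap.range (K.d i (i + 1)).hom) := by
    intro k
    induction k with
    | zero =>
      intro i _ hbi
      have hz : IsZero (K.X (i + 1)) := hb (i + 1) (by lia)
      have := ModuleCat.subsingleton_of_isZero hz
      infer_instance
    | succ k ih =>
      intro i hni hbi
      have h1 : Module.Flat R (LinearMap.range (K.d (i + 1) (i + 1 + 1)).hom) :=
        ih (i + 1) (by lia) (by push_cast at hbi; lia)
      have h2 := (exactAt_iff_fexact K i (i + 1) (i + 1 + 1) rfl rfl).1 (hex (i + 1) (by lia))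
      have := hflat (i + 1)
      exact flat_range_of_exact _ _ h2
  intro i hi
  exact key (b - i).toNat i hi (by lia)

/-- Lemma A: tensoring preserves exactness of bounded above flat complexes above the bound -/
lemma exactAt_TC_of_flat (K : DRing.Cx R) (b : ℤ) (hb : DRing.VanishesAbove K b)
    (hflat : DRing.TermwiseFlat K) (n : ℤ) (hex : ∀ j : ℤ, n < j → K.ExactAt j)
    (M : ModuleCat.{u} R) (j : ℤ) (hj : n < j) : ((TC M).obj K).ExactAt j := by
  rw [exactAt_TC_iff M K (j - 1) j (j + 1) (by lia) rfl]
  have h1 := (exactAt_iff_fexact K (j - 1) j (j + 1) (by lia) rfl).1 (hex j hj)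
  have h2 := (exactAt_iff_fexact K j (j + 1) (j + 1 + 1) rfl rfl).1 (hex (j + 1) (by lia))
  have := flat_range_d K b hb hflat n hex (j + 1) (by lia)
  exact exact_lTensor_of_flat_range _ _ _ h1 h2 M

/-- tensor-vanishing outside `[a, b]` for all modules -/
def TorVan (K : DRing.Cx R) (a b : ℤ) : Prop :=
  ∀ (M : ModuleCat.{u} R) (i : ℤ), (i < a ∨ b < i) → ((TC M).obj K).ExactAt i

lemma TorVan.exactAt {K : DRing.Cx R} {a b : ℤ} (h : TorVan K a b) (i : ℤ) (hi : i < a ∨ b < i) :
    K.ExactAt i := by
  have h1 := h (ModuleCat.of R R) i hi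
  rw [exactAt_TC_iff _ K (i - 1) i (i + 1) (by lia) rfl] at h1
  rw [exactAt_iff_fexact K (i - 1) i (i + 1) (by lia) rfl]
  refine Function.Exact.of_ladder_linearEquiv_of_exact (e₁ := TensorProduct.lid R _)
    (e₂ := TensorProduct.lid R _) (e₃ := TensorProduct.lid R _) ?_ ?_ h1
  · ext x
    simp
  · ext x
    simp

/-- Main lemma: the opcycles in degree `a` are flat -/
theorem flat_of_torVan (K : DRing.Cx R) (hflat : DRing.TermwiseFlat K) (a c : ℤ)
    (h : TorVan K a c) {C : Type*} [AddCommGroup C] [Module R C] (p : K.X a →ₗ[R] C)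
    (hp : Function.Surjective p) (hdp : Function.Exact (K.d (a - 1) a).hom p) :
    Module.Flat R C := by
  have := hflat a
  refine flat_of_forall_exact_lTensor (K.d (a - 1 - 1) (a - 1)).hom (K.d (a - 1) a).hom p hp hdp ?_ ?_
  · exact (exactAt_iff_fexact K (a - 1 - 1) (a - 1) a (by lia) (by lia)).1
      (h.exactAt (a - 1) (Or.inl (by lia)))
  · intro I
    have h1 := h (ModuleCat.of R (R ⧸ I)) (a - 1) (Or.inl (by lia))
    rw [exactAt_TC_iff _ K (a - 1 - 1) (a - 1) a (by lia) (by lia)] at h1
    exact h1


end Groth.Agent.Lib.Helper1.Tor
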