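import Mathlib
import Groth.Agent.S14388

/-!
# Truncation toolkit in the derived category (helper21)

* `eq_zero_of_isLE_of_isGE_of_homology`: `h : U ⟶ V`, `U ≤ m`, `V ≥ m`, `H^m(h) = 0` ⇒ `h = 0`.
* bridge between `CochainComplex.truncLE/truncGE` and the t-structure truncations:
  `exists_iso_truncLE`, `exists_iso_truncGE`.
-/

universe w v u
open CategoryTheory Limits Pretriangulated DerivedCategory

namespace Groth.Agent.Lib.Helper21.DTrunc

open Groth.Agent.S14388

variable {C : Type u} [Category.{v} C] [Abelian C] [HasDerivedCategory.{w} C]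

theorem eq_zero_of_isLE_of_isGE_of_homology {U V : DerivedCategory C} (m : ℤ) [U.IsLE m]
    [V.IsGE m] (h : U ⟶ V) (hh : (homologyFunctor C m).map h = 0) : h = 0 := by
  -- factor through `τ_{≥m} U` and `τ_{<m+1} V`
  have e1 : h = (tt.truncGEπ m).app U ≫ tt.descTruncGE h m := (tt.π_descTruncGE h m).symm
  set h₁ := tt.descTruncGE h m with hh₁
  have i1 : tt.IsLE ((tt.truncGE m).obj U) m := inferInstance
  have e2 : h₁ = tt.liftTruncLT h₁ m (m + 1) rfl ≫ (tt.truncLTι (m + 1)).app V :=
    (tt.liftTruncLT_ι h₁ m (m + 1) rfl).symm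
  set h₂ := tt.liftTruncLT h₁ m (m + 1) rfl with hh₂
  have i2 : tt.IsGE ((tt.truncGE m).obj U) m := inferInstance
  have i3 : tt.IsGE ((tt.truncLT (m + 1)).obj V) m := inferInstance
  have i4 : tt.IsLE ((tt.truncLT (m + 1)).obj V) m := inferInstance
  have hz : h₂ = 0 := by
    apply Groth.Agent.S14100.eq_zero_of_amp_zero m
    have j1 := isIso_homology_truncGEπ m m le_rfl U
    have j2 := isIso_homology_truncLTι (m + 1) m (by omega) V
    rw [← cancel_epi ((homologyFunctor C m).map ((tt.truncGEπ m).app U)),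
      ← cancel_mono ((homologyFunctor C m).map ((tt.truncLTι (m + 1)).app V)),
      comp_zero, zero_comp, Category.assoc, ← Functor.map_comp, ← e2, ← Functor.map_comp, ← e1, hh]
  rw [e1, e2, hz, zero_comp, comp_zero]

theorem homologyFunctor_map_Q_eq {K L : CochainComplex C ℤ} (f : K ⟶ L) (q : ℤ) :
    ∃ (φK : (homologyFunctor C q).obj (Q.obj K) ≅ K.homology q)
      (φL : (homologyFunctor C q).obj (Q.obj L) ≅ L.homology q),
      (homologyFunctor C q).map (Q.map f) =
        φK.hom ≫ HomologicalComplex.homologyMap f q ≫ φL.inv := by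
  refine ⟨(homologyFunctorFactors C q).app K, (homologyFunctorFactors C q).app L, ?_⟩
  have h := homologyFunctorFactors_hom_naturality f q
  rw [← Category.assoc, Iso.eq_comp_inv]
  exact h

theorem isIso_homologyFunctor_map_Q_iff {K L : CochainComplex C ℤ} (f : K ⟶ L) (q : ℤ) :
    IsIso ((homologyFunctor C q).map (Q.map f)) ↔ QuasiIsoAt f q := by
  rw [quasiIsoAt_iff_isIso_homologyMap]
  obtain ⟨φK, φL, h⟩ := homologyFunctor_map_Q_eq f q
  constructor
  · intro hi
    have h2 : HomologicalComplex.homologyMap f q =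
        φK.inv ≫ (homologyFunctor C q).map (Q.map f) ≫ φL.hom := by
      rw [h]; simp
    rw [h2]
    infer_instance
  · intro hi
    rw [h]
    infer_instance

theorem homologyFunctor_map_Q_eq_zero_iff {K L : CochainComplex C ℤ} (f : K ⟶ L) (q : ℤ) :
    (homologyFunctor C q).map (Q.map f) = 0 ↔ HomologicalComplex.homologyMap f q = 0 := by
  obtain ⟨φK, φL, h⟩ := homologyFunctor_map_Q_eq f q
  constructor
  · intro hz
    have h2 : HomologicalComplex.homologyMap f q =
        φK.inv ≫ (homologyFunctor C q).map (Q.map f) ≫ φL.hom := by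
      rw [h]; simp
    rw [h2, hz, zero_comp, comp_zero]
  · intro hz
    rw [h, hz, zero_comp, comp_zero]

theorem isZero_homologyFunctor_obj_Q_iff (K : CochainComplex C ℤ) (q : ℤ) :
    IsZero ((homologyFunctor C q).obj (Q.obj K)) ↔ IsZero (K.homology q) :=
  ((homologyFunctorFactors C q).app K).isZero_iff

/-- Comparison: `Q(K.truncLE m) ≅ τ_{<m+1} Q(K)` compatibly with the maps to `Q(K)`. -/
theorem exists_iso_truncLE (K : CochainComplex C ℤ) (m : ℤ) :
    ∃ e : Q.obj (K.truncLE m) ≅ (tt.truncLT (m + 1)).obj (Q.obj K),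
      e.hom ≫ (tt.truncLTι (m + 1)).app (Q.obj K) = Q.map (K.ιTruncLE m) := by
  have i0 : (Q.obj (K.truncLE m)).IsLE m := inferInstance
  set l := tt.liftTruncLT (Q.map (K.ιTruncLE m)) m (m + 1) rfl with hl
  have hlι : l ≫ (tt.truncLTι (m + 1)).app (Q.obj K) = Q.map (K.ιTruncLE m) :=
    tt.liftTruncLT_ι _ m (m + 1) rfl
  have il : IsIso l := by
    rw [DerivedCategory.isIso_iff]
    intro j
    by_cases hj : j ≤ m
    · have j1 := isIso_homology_truncLTι (m + 1) j (by omega) (Q.obj K)
      have j2 : IsIso ((homologyFunctor C j).map (Q.map (K.ιTruncLE m))) :=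
        (isIso_homologyFunctor_map_Q_iff _ j).mpr (K.quasiIsoAt_ιTruncLE m j hj)
      have : IsIso ((homologyFunctor C j).map l ≫
          (homologyFunctor C j).map ((tt.truncLTι (m + 1)).app (Q.obj K))) := by
        rw [← Functor.map_comp, hlι]; exact j2
      exact IsIso.of_isIso_comp_right _
        ((homologyFunctor C j).map ((tt.truncLTι (m + 1)).app (Q.obj K)))
    · have i1 : tt.IsLE ((tt.truncLT (m + 1)).obj (Q.obj K)) m := inferInstance
      exact isIso_of_isZero_isZero _ (isZero_of_isLE _ m j (by omega))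
        (isZero_of_isLE _ m j (by omega))
  exact ⟨asIso l, hlι⟩

/-- Comparison: `τ_{≥m} Q(K) ≅ Q(K.truncGE m)` compatibly with the maps from `Q(K)`. -/
theorem exists_iso_truncGE (K : CochainComplex C ℤ) (m : ℤ) :
    ∃ e : (tt.truncGE m).obj (Q.obj K) ≅ Q.obj (K.truncGE m),
      (tt.truncGEπ m).app (Q.obj K) ≫ e.hom = Q.map (K.πTruncGE m) := by
  have i0 : (Q.obj (K.truncGE m)).IsGE m := inferInstance
  set l := tt.descTruncGE (Q.map (K.πTruncGE m)) m with hl
  have hlπ : (tt.truncGEπ m).app (Q.obj K) ≫ l = Q.map (K.πTruncGE m) :=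
    tt.π_descTruncGE _ m
  have il : IsIso l := by
    rw [DerivedCategory.isIso_iff]
    intro j
    by_cases hj : m ≤ j
    · have j1 := isIso_homology_truncGEπ m j hj (Q.obj K)
      have j2 : IsIso ((homologyFunctor C j).map (Q.map (K.πTruncGE m))) :=
        (isIso_homologyFunctor_map_Q_iff _ j).mpr (K.quasiIsoAt_πTruncGE m j hj)
      have : IsIso ((homologyFunctor C j).map ((tt.truncGEπ m).app (Q.obj K)) ≫
          (homologyFunctor C j).map l) := by
        rw [← Functor.map_comp, hlπ]; exact j2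
      exact IsIso.of_isIso_comp_left
        ((homologyFunctor C j).map ((tt.truncGEπ m).app (Q.obj K))) _
    · have i1 : tt.IsGE ((tt.truncGE m).obj (Q.obj K)) m := inferInstance
      exact isIso_of_isZero_isZero _ (isZero_of_isGE _ m j (by omega))
        (isZero_of_isGE _ m j (by omega))
  exact ⟨asIso l, hlπ⟩

end Groth.Agent.Lib.Helper21.DTrunc
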