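import Mathlib
import Groth.Agent.Lib.Helper1Tor
import Groth.Agent.Lib.Helper1Cone
import Groth.Agent.Lib.Helper1ProjRes
import Groth.Agent.Lib.Helper21DTrunc

/-!
# Tor amplitude: characterization of `DRing.HasTorAmplitudeIn` by tensor-vanishing (helper1)
-/
set_option autoImplicit false
universe u
open CategoryTheory CategoryTheory.Limits MonoidalCategory
attribute [local instance] HasDerivedCategory.standard

namespace Groth.Agent.Lib.Helper1.Tor

open DerivedCategory Pretriangulated Groth.Agent.Lib.Helper21.DTrunc Groth.Agent.S14388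
open Groth.Agent.Lib.Helper1.Cone Groth.Agent.Lib.Helper1.ProjRes

variable {R : Type u} [CommRing R]

lemma exactAt_iff_isZero_H (K : DRing.Cx R) (j : ℤ) :
    K.ExactAt j ↔ IsZero ((homologyFunctor (ModuleCat.{u} R) j).obj (Q.obj K)) := by
  rw [isZero_homologyFunctor_obj_Q_iff, ← HomologicalComplex.exactAt_iff_isZero_homology]

lemma exactAt_of_Q_iso {K L : DRing.Cx R} (e : Q.obj K ≅ Q.obj L) (j : ℤ) (h : K.ExactAt j) :
    L.ExactAt j := by
  rw [exactAt_iff_isZero_H] at h ⊢
  exact h.of_iso ((homologyFunctor (ModuleCat.{u} R) j).mapIso e.symm)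

lemma exactAt_of_isZero_Q (K : DRing.Cx R) (h : IsZero (Q.obj K)) (j : ℤ) : K.ExactAt j := by
  rw [exactAt_iff_isZero_H]
  exact (homologyFunctor (ModuleCat.{u} R) j).map_isZero h

lemma isZero_Q_of_exactAt (K : DRing.Cx R) (h : ∀ j : ℤ, K.ExactAt j) : IsZero (Q.obj K) := by
  have h1 : CochainComplex.IsLE K 0 := by
    rw [CochainComplex.isLE_iff]
    exact fun i _ => h i
  have h2 : CochainComplex.IsGE K 1 := by
    rw [CochainComplex.isGE_iff]
    exact fun i _ => h i
  have : (Q.obj K).IsLE 0 := (DerivedCategory.isLE_Q_obj_iff _ _).2 h1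
  have : (Q.obj K).IsGE 1 := (DerivedCategory.isGE_Q_obj_iff _ _).2 h2
  exact tt.isZero (Q.obj K) 0 1 (by simp)

lemma exactAt_of_isZero_X (K : DRing.Cx R) (j : ℤ) (h : IsZero (K.X j)) : K.ExactAt j :=
  ShortComplex.exact_of_isZero_X₂ _ h

instance flat_biprod (X Y : ModuleCat.{u} R) [Module.Flat R X] [Module.Flat R Y] :
    Module.Flat R ↑(X ⊞ Y) :=
  have : Module.Flat R (↑X × ↑Y) := flat_prod
  Module.Flat.of_linearEquiv (ModuleCat.biprodIsoProd X Y).toLinearEquiv

lemma termwiseFlat_mappingCone {P E : DRing.Cx R} (f : P ⟶ E) (hP : DRing.TermwiseFlat P)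
    (hE : DRing.TermwiseFlat E) : DRing.TermwiseFlat (CochainComplex.mappingCone f) := by
  intro i
  have := HomologicalComplex.HasHomotopyCofiber.hasBinaryBiproduct f i (i + 1) rfl
  have := hP (i + 1)
  have := hE i
  exact Module.Flat.of_linearEquiv
    (HomologicalComplex.homotopyCofiber.XIsoBiprod f i (i + 1) rfl).toLinearEquiv

lemma vanishesAbove_mappingCone {P E : DRing.Cx R} (f : P ⟶ E) (b b' : ℤ)
    (hP : DRing.VanishesAbove P b) (hE : DRing.VanishesAbove E b') :
    DRing.VanishesAbove (CochainComplex.mappingCone f) (max b b') := by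
  intro i hi
  rw [CochainComplex.mappingCone.isZero_X_iff]
  exact ⟨hP _ (by have := le_max_left b b'; lia), hE _ (by have := le_max_right b b'; lia)⟩

/-- Lemma T: a quasi-isomorphism between bounded above termwise flat complexes stays a
quasi-isomorphism after tensoring. -/
theorem isIso_Q_map_TC {P E : DRing.Cx R} (f : P ⟶ E) (b b' : ℤ) (hPb : DRing.VanishesAbove P b)
    (hEb : DRing.VanishesAbove E b') (hP : DRing.TermwiseFlat P) (hE : DRing.TermwiseFlat E)
    (hf : IsIso (Q.map f)) (M : ModuleCat.{u} R) : IsIso (Q.map ((TC M).map f)) := by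
  have hT := DerivedCategory.mappingCone_triangle_distinguished f
  have hz : IsZero (Q.obj (CochainComplex.mappingCone f)) :=
    (Triangle.isZero₃_iff_isIso₁ _ hT).2 hf
  have hex : ∀ j : ℤ, (CochainComplex.mappingCone f).ExactAt j := exactAt_of_isZero_Q _ hz
  have hex' : ∀ j : ℤ, ((TC M).obj (CochainComplex.mappingCone f)).ExactAt j := fun j =>
    exactAt_TC_of_flat _ _ (vanishesAbove_mappingCone f b b' hPb hEb)
      (termwiseFlat_mappingCone f hP hE) (j - 1) (fun k _ => hex k) M j (by lia)
  have hz' : IsZero (Q.obj ((TC M).obj (CochainComplex.mappingCone f))) := isZero_Q_of_exactAt _ hex'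
  have e := CochainComplex.mappingCone.mapHomologicalComplexIso f (T M)
  have hz'' : IsZero (Q.obj (CochainComplex.mappingCone ((TC M).map f))) :=
    hz'.of_iso (Q.mapIso e).symm
  have hT' := DerivedCategory.mappingCone_triangle_distinguished ((TC M).map f)
  exact (Triangle.isZero₃_iff_isIso₁ _ hT').1 hz''


/-- characterization, `⟹`: a bounded above flat complex isomorphic in `D(R)` to a flat complex
in `[a, b]` has tensor-vanishing outside `[a, b]`. -/
theorem torVan_of_iso (G E : DRing.Cx R) (bG : ℤ) (hGb : DRing.VanishesAbove G bG)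
    (hG : DRing.TermwiseFlat G) (a b : ℤ) (hE : DRing.VanishesOutside E a b)
    (hEf : DRing.TermwiseFlat E) (e : Q.obj E ≅ Q.obj G) : TorVan G a b := by
  have hGle : G.IsStrictlyLE bG := by
    rw [CochainComplex.isStrictlyLE_iff]
    exact hGb
  obtain ⟨P, p, hp, hPproj, hPle⟩ := exists_proj_res G bG
  have hKP : P.IsKProjective := CochainComplex.isKProjective_of_projective P bG
  have hpi : IsIso (Q.map p) := (DerivedCategory.isIso_Q_map_iff_quasiIso (φ := p)).2 hp
  obtain ⟨g, hg⟩ := exists_chain_map P E (Q.map p ≫ e.inv)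
  have hgi : IsIso (Q.map g) := by
    rw [hg]
    infer_instance
  have hPb : DRing.VanishesAbove P bG := fun i hi => P.isZero_of_isStrictlyLE bG i hi
  have hPf : DRing.TermwiseFlat P := fun i =>
    have := hPproj i
    have : Module.Projective R (P.X i) := ModuleCat.projective_of_module_projective _
    inferInstance
  have hEb : DRing.VanishesAbove E b := fun i hi => hE i (Or.inr hi)
  intro M i hi
  have h1 : ((TC M).obj E).ExactAt i :=
    exactAt_of_isZero_X _ i ((T M).map_isZero (hE i hi))
  have i1 := isIso_Q_map_TC g bG b hPb hEb hPf hEf hgi M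
  have i2 := isIso_Q_map_TC p bG bG hPb hGb hPf hG hpi M
  exact exactAt_of_Q_iso ((asIso (Q.map ((TC M).map g))).symm ≪≫ asIso (Q.map ((TC M).map p))) i h1

lemma fexact_d_pOpcycles (G : DRing.Cx R) (a : ℤ) :
    Function.Exact (G.d (a - 1) a).hom (G.pOpcycles a).hom := by
  have hcok := G.opcyclesIsCokernel (a - 1) a (by simp)
  have hS : (ShortComplex.mk (G.d (a - 1) a) (G.pOpcycles a) (G.d_pOpcycles (a - 1) a)).Exact :=
    ShortComplex.exact_of_g_is_cokernel _ hcok
  rw [ShortComplex.ShortExact.moduleCat_exact_iff_function_exact] at hS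
  exact hS

lemma fexact_iCycles_d (G : DRing.Cx R) (b : ℤ) :
    Function.Exact (G.iCycles b).hom (G.d b (b + 1)).hom := by
  have hker := G.cyclesIsKernel b (b + 1) (by simp)
  have hS : (ShortComplex.mk (G.iCycles b) (G.d b (b + 1)) (G.iCycles_d b (b + 1))).Exact :=
    ShortComplex.exact_of_f_is_kernel _ hker
  rw [ShortComplex.ShortExact.moduleCat_exact_iff_function_exact] at hS
  exact hS

/-- the truncation `τ_{≥ a}` of a flat complex with tensor-vanishing below `a` is flat -/
lemma termwiseFlat_truncGE (G : DRing.Cx R) (hG : DRing.TermwiseFlat G) (a b : ℤ)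
    (h : TorVan G a b) : DRing.TermwiseFlat (G.truncGE a) := by
  intro i
  obtain hi | rfl | hi := lt_trichotomy i a
  · have := ModuleCat.subsingleton_of_isZero ((G.truncGE a).isZero_of_isStrictlyGE a i hi)
    infer_instance
  · have : Module.Flat R (G.opcycles i) :=
      flat_of_torVan G hG i b h (G.pOpcycles i).hom
        ((ModuleCat.epi_iff_surjective _).1 inferInstance) (fexact_d_pOpcycles G i)
    exact Module.Flat.of_linearEquiv (G.truncGEXIsoOpcycles i).toLinearEquiv
  · have := hG i
    exact Module.Flat.of_linearEquiv (G.truncGEXIso a i hi).toLinearEquiv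

/-- the truncation `τ_{≤ b}` of a bounded above flat complex exact above `b` is flat -/
lemma termwiseFlat_truncLE (G : DRing.Cx R) (bG : ℤ) (hGb : DRing.VanishesAbove G bG)
    (hG : DRing.TermwiseFlat G) (b : ℤ) (hex : ∀ j : ℤ, b < j → G.ExactAt j) :
    DRing.TermwiseFlat (G.truncLE b) := by
  intro i
  obtain hi | rfl | hi := lt_trichotomy i b
  · have := hG i
    exact Module.Flat.of_linearEquiv (G.truncLEXIso b i hi).toLinearEquiv
  · have := hG i
    have := flat_range_d G bG hGb hG i hex i le_rfl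
    have : Module.Flat R (G.cycles i) :=
      flat_of_exact_of_flat_range (G.iCycles i).hom (G.d i (i + 1)).hom
        ((ModuleCat.mono_iff_injective _).1 inferInstance) (fexact_iCycles_d G i)
    exact Module.Flat.of_linearEquiv (G.truncLEXIsoCycles i).toLinearEquiv
  · have := ModuleCat.subsingleton_of_isZero ((G.truncLE b).isZero_of_isStrictlyLE b i hi)
    infer_instance

/-- characterization, `⟸` -/
theorem hasTorAmp_of_torVan (G : DRing.Cx R) (bG : ℤ) (hGb : DRing.VanishesAbove G bG)
    (hG : DRing.TermwiseFlat G) (a b : ℤ) (h : TorVan G a b) :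
    DRing.HasTorAmplitudeIn R a b (DRing.toD G) := by
  have hGge : CochainComplex.IsGE G a := by
    rw [CochainComplex.isGE_iff]
    exact fun i hi => h.exactAt i (Or.inl hi)
  have hq : QuasiIso (G.πTruncGE a) := (G.quasiIso_πTruncGE_iff a).2 hGge
  have hiso : IsIso (Q.map (G.πTruncGE a)) :=
    (DerivedCategory.isIso_Q_map_iff_quasiIso (φ := G.πTruncGE a)).2 hq
  set G' := G.truncGE a with hG'
  have hG'f : DRing.TermwiseFlat G' := termwiseFlat_truncGE G hG a b h
  have hG'b : DRing.VanishesAbove G' (max bG a) := by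
    intro i hi
    have hi1 : a < i := lt_of_le_of_lt (le_max_right _ _) hi
    have hi2 : bG < i := lt_of_le_of_lt (le_max_left _ _) hi
    exact (hGb i hi2).of_iso (G.truncGEXIso a i hi1)
  have hex' : ∀ j : ℤ, b < j → G'.ExactAt j := fun j hj =>
    exactAt_of_Q_iso (asIso (Q.map (G.πTruncGE a))) j (h.exactAt j (Or.inr hj))
  have hG'le : CochainComplex.IsLE G' b := by
    rw [CochainComplex.isLE_iff]
    exact hex'
  have hq' : QuasiIso (G'.ιTruncLE b) := (G'.quasiIso_ιTruncLE_iff b).2 hG'le
  have hiso' : IsIso (Q.map (G'.ιTruncLE b)) :=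
    (DerivedCategory.isIso_Q_map_iff_quasiIso (φ := G'.ιTruncLE b)).2 hq'
  refine ⟨G'.truncLE b, ?_, termwiseFlat_truncLE G' _ hG'b hG'f b hex',
    ⟨asIso (Q.map (G'.ιTruncLE b)) ≪≫ (asIso (Q.map (G.πTruncGE a))).symm⟩⟩
  intro i hi
  by_cases hib : b < i
  · exact (G'.truncLE b).isZero_of_isStrictlyLE b i hib
  · have hia : i < a := by
      rcases hi with hi | hi
      · exact hi
      · exact absurd hi hib
    have hz : IsZero (G'.X i) := G'.isZero_of_isStrictlyGE a i hia
    obtain hib' | rfl := lt_or_eq_of_le (not_lt.1 hib)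
    · exact hz.of_iso (G'.truncLEXIso b i hib')
    · have : IsZero (G'.cycles i) := IsZero.of_mono (G'.iCycles i) hz
      exact this.of_iso (G'.truncLEXIsoCycles i)


end Groth.Agent.Lib.Helper1.Tor
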