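import Mathlib

set_option autoImplicit false
universe w w' v v' u u'
open CategoryTheory CategoryTheory.Limits CochainComplex HomComplex DerivedCategory

namespace Groth.Agent.Lib.Helper23InjAmp

variable {C : Type u} [Category.{v} C] [Abelian C] [HasDerivedCategory.{w} C]

/-- the comparison map from cohomology classes to morphisms in the derived category. -/
noncomputable def Ψ (K L : CochainComplex C ℤ) (n : ℤ) (x : CohomologyClass K L n) :
    Q.obj K ⟶ (Q.obj L)⟦n⟧ :=
  (Iso.homCongr ((quotientCompQhIso C).symm.app K)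
    ((Q.commShiftIso n).symm.app L ≪≫ (quotientCompQhIso C).symm.app (L⟦n⟧))).symm
      (Qh.map (CohomologyClass.toHom x))

theorem Ψ_bijective (K L : CochainComplex C ℤ) (n : ℤ) [L.IsKInjective] :
    Function.Bijective (Ψ K L n) :=
  (Equiv.bijective _).comp ((CochainComplex.IsKInjective.Qh_map_bijective _ _).comp
    (CohomologyClass.toHom_bijective K L n))

theorem Ψ_zero (K L : CochainComplex C ℤ) (n : ℤ) : Ψ K L n 0 = 0 := by
  simp [Ψ]

theorem forall_eq_zero_iff (K L : CochainComplex C ℤ) (n : ℤ) [L.IsKInjective] :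
    (∀ φ : Q.obj K ⟶ (Q.obj L)⟦n⟧, φ = 0) ↔ ∀ z : Cocycle K L n, z ∈ coboundaries K L n := by
  constructor
  · intro h z
    rw [← CohomologyClass.mk_eq_zero_iff]
    apply (Ψ_bijective K L n).1
    rw [Ψ_zero]
    exact h _
  · intro h φ
    obtain ⟨x, rfl⟩ := (Ψ_bijective K L n).2 φ
    obtain ⟨z, rfl⟩ := x.mk_surjective
    rw [(CohomologyClass.mk_eq_zero_iff z).2 (h z), Ψ_zero]

theorem single_forall_eq_zero_iff (Y : C) (J : CochainComplex C ℤ) [J.IsKInjective] (i j k : ℤ)
    (hj : j + 1 = i) (hk : i + 1 = k) :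
    (∀ φ : (DerivedCategory.singleFunctor C 0).obj Y ⟶ (Q.obj J)⟦i⟧, φ = 0) ↔
      ∀ f : Y ⟶ J.X i, f ≫ J.d i k = 0 → ∃ g : Y ⟶ J.X j, g ≫ J.d j i = f := by
  obtain rfl : j = i - 1 := by lia
  obtain rfl : k = i + 1 := by lia
  have h0 : (∀ φ : (DerivedCategory.singleFunctor C 0).obj Y ⟶ (Q.obj J)⟦i⟧, φ = 0) ↔
      ∀ φ : Q.obj ((CochainComplex.singleFunctor C 0).obj Y) ⟶ (Q.obj J)⟦i⟧, φ = 0 := Iff.rfl
  rw [h0, forall_eq_zero_iff]
  constructor
  · intro h f hf
    have := h (Cocycle.fromSingleMk f (zero_add i) (i + 1) rfl hf)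
    rwa [Cocycle.fromSingleMk_mem_coboundaries_iff _ _ _ _ _ (i - 1) (by lia)] at this
  · intro h z
    obtain ⟨f, hf, rfl⟩ := Cocycle.fromSingleMk_surjective z i (zero_add i) (i + 1) rfl
    rw [Cocycle.fromSingleMk_mem_coboundaries_iff _ _ _ _ _ (i - 1) (by lia)]
    exact h f hf


theorem core (J : CochainComplex C ℤ) (a b : ℤ) (hab : a ≤ b) [J.IsStrictlyGE a]
    (hJ : ∀ n, Injective (J.X n))
    (h : ∀ (Y : C) (i : ℤ), b < i →
      ∀ φ : (DerivedCategory.singleFunctor C 0).obj Y ⟶ (Q.obj J)⟦i⟧, φ = 0) :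
    J.IsLE b ∧ (J.truncLE b).IsStrictlyGE a ∧ (J.truncLE b).IsStrictlyLE b ∧
      ∀ n, Injective ((J.truncLE b).X n) := by
  have hK : J.IsKInjective := isKInjective_of_injective J a
  -- sections
  have hs : ∀ (i j : ℤ), j + 1 = i → b < i →
      ∃ g : J.cycles i ⟶ J.X j, g ≫ J.toCycles j i = 𝟙 _ := by
    intro i j hj hi
    obtain ⟨g, hg⟩ := (single_forall_eq_zero_iff (J.cycles i) J i j (i + 1) hj rfl).1
      (h _ i hi) (J.iCycles i) (by simp)
    refine ⟨g, ?_⟩
    rw [← cancel_mono (J.iCycles i), Category.assoc, J.toCycles_i, hg, Category.id_comp]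
  have hLE : J.IsLE b := by
    rw [CochainComplex.isLE_iff]
    intro i hi
    obtain ⟨g, hg⟩ := hs i (i - 1) (by lia) hi
    rw [HomologicalComplex.exactAt_iff_isZero_homology]
    have h1 : Epi (J.toCycles (i - 1) i) := epi_of_epi_fac hg
    have h2 : J.homologyπ i = 0 := by
      rw [← cancel_epi (J.toCycles (i - 1) i), J.toCycles_comp_homologyπ, comp_zero]
    exact IsZero.of_epi_eq_zero _ h2
  have hZ : Injective (J.cycles b) := by
    obtain ⟨g, hg⟩ := hs (b + 1) b rfl (by lia)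
    have h1 : J.iCycles b ≫ J.toCycles b (b + 1) = 0 := by
      rw [← cancel_mono (J.iCycles (b + 1)), Category.assoc, J.toCycles_i, J.iCycles_d, zero_comp]
    let r : J.X b ⟶ J.cycles b := J.liftCycles (𝟙 _ - J.toCycles b (b + 1) ≫ g) (b + 1) (by simp) (by
      have h3 : J.toCycles b (b + 1) ≫ g ≫ J.d b (b + 1) = J.d b (b + 1) := by
        rw [← J.toCycles_i b (b + 1), reassoc_of% hg]
      rw [Preadditive.sub_comp, Category.id_comp, Category.assoc, h3, sub_self])
    have hr : J.iCycles b ≫ r = 𝟙 _ := by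
      rw [← cancel_mono (J.iCycles b), Category.assoc, J.liftCycles_i, Preadditive.comp_sub,
        Category.comp_id, reassoc_of% h1, zero_comp, sub_zero, Category.id_comp]
    have := hJ b
    exact Retract.injective ⟨J.iCycles b, r, hr⟩
  have hInj : ∀ n, Injective ((J.truncLE b).X n) := by
    intro n
    rcases lt_trichotomy n b with hn | rfl | hn
    · have := hJ n
      exact Injective.of_iso (J.truncLEXIso b n hn).symm inferInstance
    · exact Injective.of_iso (J.truncLEXIsoCycles n).symm inferInstance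
    · exact ((J.truncLE b).isZero_of_isStrictlyLE b n hn).injective
  refine ⟨hLE, ?_, inferInstance, hInj⟩
  rw [CochainComplex.isStrictlyGE_iff]
  intro i hi
  exact (J.isZero_of_isStrictlyGE a i hi).of_iso (J.truncLEXIso b i (by lia))

end Groth.Agent.Lib.Helper23InjAmp
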