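import Groth.Agent.Lib.Helper17DRingAdj1
import Mathlib.Algebra.Homology.DerivedCategory.TStructure

/-!
# Detection of zero objects of `D(B)` by maps from shifts of `B[0]`; the main vanishing lemma
(helper17)
-/

set_option autoImplicit false

universe u

open CategoryTheory CategoryTheory.Limits HomologicalComplex DerivedCategory

attribute [local instance] HasDerivedCategory.standard

namespace Groth.Agent.Lib.Helper17.DRingAdj

section Zero

variable {B : Type u} [CommRing B]

lemma isZero_homologyFunctor_zero (M : Dual.D B) (h : Subsingleton (Dual.inD B B ⟶ M)) :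
    IsZero ((DerivedCategory.homologyFunctor (ModuleCat.{u} B) 0).obj M) := by
  let L := (Q : _ ⥤ Dual.D B).objPreimage M
  let e : (Q : _ ⥤ Dual.D B).obj L ≅ M := Q.objObjPreimageIso M
  have h' : Subsingleton (Dual.inD B B ⟶ (Q : _ ⥤ Dual.D B).obj L) :=
    (e.homToEquiv (Z := Dual.inD B B)).subsingleton
  have := isZero_homology_zero L h'
  exact this.of_iso ((DerivedCategory.homologyFunctor (ModuleCat.{u} B) 0).mapIso e.symm ≪≫
    (DerivedCategory.homologyFunctorFactors (ModuleCat.{u} B) 0).app L)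

theorem isZero_of_forall_subsingleton (M : Dual.D B)
    (h : ∀ n : ℤ, Subsingleton (Dual.inD B B ⟶ M⟦n⟧)) : IsZero M := by
  have hH : ∀ n : ℤ, IsZero ((DerivedCategory.homologyFunctor (ModuleCat.{u} B) n).obj M) := by
    intro n
    have h1 := isZero_homologyFunctor_zero (M⟦n⟧) (h n)
    exact h1.of_iso (((DerivedCategory.homologyFunctor (ModuleCat.{u} B) 0).shiftIso n 0 n
      (by simp)).app M).symm
  haveI : M.IsLE 0 := (DerivedCategory.isLE_iff M 0).2 (fun i _ => hH i)
  haveI : M.IsGE 1 := (DerivedCategory.isGE_iff M 1).2 (fun i _ => hH i)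
  exact DerivedCategory.TStructure.t.isZero M 0 1 (by simp)

end Zero

section Main

variable {A B : Type u} [CommRing A] [CommRing B] (φ : A →+* B)

/-- If all maps `res(B)[0] ⟶ K⟦n⟧` vanish, then all maps `res E ⟶ K` vanish. -/
theorem subsingleton_hom_restrictD (K : Dual.D A)
    (h : ∀ n : ℤ, Subsingleton ((DRing.restrictD φ).obj (Dual.inD B B) ⟶ K⟦n⟧))
    (E : Dual.D B) : Subsingleton ((DRing.restrictD φ).obj E ⟶ K) := by
  obtain ⟨RG, ⟨adj⟩⟩ := exists_rightAdjoint_restrictD φ
  letI : RG.CommShift ℤ := adj.rightAdjointCommShift ℤ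
  have hz : IsZero (RG.obj K) := by
    apply isZero_of_forall_subsingleton
    intro n
    have e1 : (Dual.inD B B ⟶ (RG.obj K)⟦n⟧) ≃ (Dual.inD B B ⟶ RG.obj (K⟦n⟧)) :=
      ((RG.commShiftIso n).app K).symm.homToEquiv
    have e2 : (Dual.inD B B ⟶ RG.obj (K⟦n⟧)) ≃
        ((DRing.restrictD φ).obj (Dual.inD B B) ⟶ K⟦n⟧) := (adj.homEquiv _ _).symm
    haveI := h n
    exact (e1.trans e2).subsingleton
  have e3 : ((DRing.restrictD φ).obj E ⟶ K) ≃ (E ⟶ RG.obj K) := adj.homEquiv _ _
  haveI : Subsingleton (E ⟶ RG.obj K) := ⟨fun a b => hz.eq_of_tgt a b⟩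
  exact e3.subsingleton

/-- restriction of scalars of `B[0]`. -/
noncomputable def restrictDInD (M : Type u) [AddCommGroup M] [Module B M] :
    (DRing.restrictD φ).obj (Dual.inD B M) ≅
      (DerivedCategory.singleFunctor (ModuleCat.{u} A) 0).obj
        ((ModuleCat.restrictScalars.{u} φ).obj (ModuleCat.of B M)) :=
  ((ModuleCat.restrictScalars.{u} φ).mapDerivedCategorySingleFunctor 0).app (ModuleCat.of B M)

end Main

end Groth.Agent.Lib.Helper17.DRingAdj
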