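import Groth.Agent.Lib.Helper28Depth
import Mathlib.RingTheory.Regular.Flat
import Mathlib.RingTheory.Ideal.AssociatedPrime.Localization
import Mathlib.RingTheory.Ideal.AssociatedPrime.Finiteness
import Mathlib.RingTheory.KrullDimension.Regular
import Mathlib.RingTheory.LocalProperties.Basic
import Mathlib.RingTheory.Localization.Finiteness
import Mathlib.RingTheory.Support

/-!
# Depth library, part 2 (helper28): depth zero, localization, depth ≤ dim, Serre conditions
-/

set_option autoImplicit false
universe u v w u' v'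

namespace Groth.Agent.Lib.Helper28
open RingTheory.Sequence CategoryTheory Abelian

section MonoIdeal

variable {R : Type u} [CommRing R] {I J : Ideal R} (M : Type v) [AddCommGroup M] [Module R M]

theorem idealDepth_mono_ideal (h : I ≤ J) : LocCoh.idealDepth I M ≤ LocCoh.idealDepth J M := by
  by_cases hJ : J • (⊤ : Submodule R M) = ⊤
  · rw [idealDepth_eq_top_of_smul_top_eq_top J M hJ]; exact le_top
  · have hI : I • (⊤ : Submodule R M) ≠ ⊤ := fun hI =>
      hJ (top_le_iff.mp (le_trans (le_of_eq hI.symm)
        (Submodule.smul_mono_left h : I • (⊤ : Submodule R M) ≤ J • (⊤ : Submodule R M))))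
    rw [idealDepth_eq_iSup_of_smul_top_ne_top I M hI, idealDepth_eq_iSup_of_smul_top_ne_top J M hJ]
    exact iSup₂_le fun rs hrs => le_iSup₂_of_le rs ⟨hrs.1, fun r hr => h (hrs.2 r hr)⟩ le_rfl

end MonoIdeal

section DepthZero

variable {R : Type u} [CommRing R] {I : Ideal R} {M : Type v} [AddCommGroup M] [Module R M]

theorem not_isSMulRegular_of_mem_associatedPrimes [IsNoetherianRing R] {p : Ideal R}
    (hp : p ∈ associatedPrimes R M) {r : R} (hr : r ∈ p) : ¬ IsSMulRegular M r := by
  have h1 : r ∈ ⋃ p ∈ associatedPrimes R M, (p : Set R) := Set.mem_iUnion₂_of_mem hp hr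
  rw [biUnion_associatedPrimes_eq_compl_regular R M] at h1
  exact h1

theorem exists_le_mem_associatedPrimes_of_forall_not_isSMulRegular [IsNoetherianRing R]
    [Module.Finite R M] [Nontrivial M] (h : ∀ r ∈ I, ¬ IsSMulRegular M r) :
    ∃ p ∈ associatedPrimes R M, I ≤ p := by
  rcases associatedPrimes.nonempty R M with ⟨Ia, hIa⟩
  apply (Ideal.subset_union_prime_finite (associatedPrimes.finite R M) Ia Ia _).mp
  · rw [biUnion_associatedPrimes_eq_compl_regular R M]
    exact fun r hr ↦ h r hr
  · exact fun I hin _ _ ↦ IsAssociatedPrime.isPrime hin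

theorem nontrivial_of_smul_top_ne_top (hIM : I • (⊤ : Submodule R M) ≠ ⊤) : Nontrivial M := by
  by_contra hM
  rw [not_nontrivial_iff_subsingleton] at hM
  exact hIM (Subsingleton.elim _ _)

theorem idealDepth_eq_zero_iff [IsNoetherianRing R] [Module.Finite R M]
    (hIM : I • (⊤ : Submodule R M) ≠ ⊤) :
    LocCoh.idealDepth I M = 0 ↔ ∃ p ∈ associatedPrimes R M, I ≤ p := by
  have := nontrivial_of_smul_top_ne_top hIM
  constructor
  · intro h0
    apply exists_le_mem_associatedPrimes_of_forall_not_isSMulRegular
    intro r hr hreg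
    have h1 : 1 ≤ LocCoh.idealDepth I M := (one_le_idealDepth_iff hIM).mpr ⟨r, hr, hreg⟩
    rw [h0] at h1
    exact absurd h1 (by simp)
  · rintro ⟨p, hp, hIp⟩
    exact idealDepth_eq_zero_of_forall_not_isSMulRegular hIM fun r hr =>
      not_isSMulRegular_of_mem_associatedPrimes hp (hIp hr)

end DepthZero

section LocalNakayama

variable {R : Type u} [CommRing R] [IsLocalRing R] {M : Type v} [AddCommGroup M] [Module R M]

theorem maximalIdeal_smul_top_ne_top [Module.Finite R M] [Nontrivial M] :
    IsLocalRing.maximalIdeal R • (⊤ : Submodule R M) ≠ ⊤ := by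
  intro h
  have hfg : (⊤ : Submodule R M).FG := Module.Finite.fg_top
  have := Submodule.eq_bot_of_le_smul_of_le_jacobson_bot (IsLocalRing.maximalIdeal R) ⊤ hfg
    (le_of_eq h.symm) (IsLocalRing.maximalIdeal_le_jacobson _)
  exact top_ne_bot this

theorem smul_top_ne_top_of_le_maximalIdeal [Module.Finite R M] [Nontrivial M] {I : Ideal R}
    (hI : I ≤ IsLocalRing.maximalIdeal R) : I • (⊤ : Submodule R M) ≠ ⊤ := fun h =>
  maximalIdeal_smul_top_ne_top (M := M)
    (top_le_iff.mp (le_trans (le_of_eq h.symm) (Submodule.smul_mono_left hI :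
      I • (⊤ : Submodule R M) ≤ IsLocalRing.maximalIdeal R • (⊤ : Submodule R M))))

theorem depth_eq_top_of_subsingleton [Subsingleton M] : LocCoh.depth R M = ⊤ :=
  idealDepth_eq_top_of_subsingleton _ M

theorem depth_eq_zero_iff [IsNoetherianRing R] [Module.Finite R M] :
    LocCoh.depth R M = 0 ↔ IsLocalRing.maximalIdeal R ∈ associatedPrimes R M := by
  rcases subsingleton_or_nontrivial M with hM | hM
  · rw [depth_eq_top_of_subsingleton]
    simp only [ENat.top_ne_zero, false_iff]
    rw [associatedPrimes.eq_empty_of_subsingleton]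
    exact Set.notMem_empty _
  · unfold LocCoh.depth
    rw [idealDepth_eq_zero_iff maximalIdeal_smul_top_ne_top]
    constructor
    · rintro ⟨p, hp, hle⟩
      have hpp : p.IsPrime := hp.isPrime
      have : p = IsLocalRing.maximalIdeal R :=
        le_antisymm (IsLocalRing.le_maximalIdeal hpp.ne_top) hle
      exact this ▸ hp
    · intro h
      exact ⟨_, h, le_rfl⟩

end LocalNakayama


section Localization

variable {R : Type u} [CommRing R] (T : Submonoid R) (R' : Type u') [CommRing R'] [Algebra R R']
  [IsLocalization T R'] {M : Type v} [AddCommGroup M] [Module R M] {M' : Type v'}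
  [AddCommGroup M'] [Module R M'] [Module R' M'] [IsScalarTower R R' M']
  (f : M →ₗ[R] M') [IsLocalizedModule T f]

include T f in
theorem localized'_smul_top (I : Ideal R) :
    (I • (⊤ : Submodule R M)).localized' R' T f =
      I.map (algebraMap R R') • (⊤ : Submodule R' M') := by
  rw [Submodule.localized'_smul, Ideal.localized'_eq_map, Submodule.localized'_top]

include T f in
theorem map_smul_top_eq_top_of_isLocalizedModule (I : Ideal R)
    (h : I • (⊤ : Submodule R M) = ⊤) :
    I.map (algebraMap R R') • (⊤ : Submodule R' M') = ⊤ := by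
  rw [← localized'_smul_top T R' f I, h, Submodule.localized'_top]

include T f in
theorem idealDepth_le_of_isLocalizedModule (I : Ideal R) :
    LocCoh.idealDepth I M ≤ LocCoh.idealDepth (I.map (algebraMap R R')) M' := by
  by_cases h' : I.map (algebraMap R R') • (⊤ : Submodule R' M') = ⊤
  · rw [idealDepth_eq_top_of_smul_top_eq_top _ M' h']; exact le_top
  · have h : I • (⊤ : Submodule R M) ≠ ⊤ := fun h =>
      h' (map_smul_top_eq_top_of_isLocalizedModule T R' f I h)
    rw [idealDepth_eq_iSup_of_smul_top_ne_top I M h]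
    refine iSup₂_le fun rs hrs => ?_
    have h1 : IsWeaklyRegular M' (rs.map (algebraMap R R')) :=
      hrs.1.of_isLocalizedModule R' T f
    have h2 : ∀ r ∈ rs.map (algebraMap R R'), r ∈ I.map (algebraMap R R') := by
      intro r hr
      obtain ⟨a, ha, rfl⟩ := List.mem_map.mp hr
      exact Ideal.mem_map_of_mem _ (hrs.2 a ha)
    have := length_le_idealDepth h1 h2
    simpa using this

end Localization


section AtPrime

variable {R : Type u} [CommRing R] (p : Ideal R) [p.IsPrime] (M : Type v) [AddCommGroup M]
  [Module R M]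

theorem idealDepth_le_depth_localization {I : Ideal R} (hI : I ≤ p) :
    LocCoh.idealDepth I M ≤
      LocCoh.depth (Localization.AtPrime p) (LocalizedModule p.primeCompl M) := by
  refine (idealDepth_le_of_isLocalizedModule p.primeCompl (Localization.AtPrime p)
    (LocalizedModule.mkLinearMap p.primeCompl M) I).trans ?_
  apply idealDepth_mono_ideal
  rw [← Localization.AtPrime.map_eq_maximalIdeal]
  exact Ideal.map_mono hI

/-- The quotient of the localization by the image of a list is the localization of the quotient. -/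
noncomputable def localizedQuotOfListEquiv (rs : List R) :
    (LocalizedModule p.primeCompl M ⧸
      (Ideal.ofList (rs.map (algebraMap R (Localization.AtPrime p))) •
        (⊤ : Submodule (Localization.AtPrime p) (LocalizedModule p.primeCompl M))))
      ≃ₗ[Localization.AtPrime p]
    LocalizedModule p.primeCompl (M ⧸ (Ideal.ofList rs • ⊤ : Submodule R M)) :=
  Submodule.quotEquivOfEq _ _ (by
    rw [Submodule.localized, localized'_smul_top, Ideal.map_ofList]) ≪≫ₗ
    localizedQuotientEquiv p.primeCompl (Ideal.ofList rs • ⊤ : Submodule R M)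

end AtPrime

section Exists

variable {R : Type u} [CommRing R] [IsNoetherianRing R] [Small.{v} R] {I : Ideal R}
  {M : Type v} [AddCommGroup M] [Module R M] [Module.Finite R M]

theorem exists_prime_depth_localization_eq (hIM : I • (⊤ : Submodule R M) ≠ ⊤) :
    ∃ p : PrimeSpectrum R, I ≤ p.asIdeal ∧ p ∈ Module.support R M ∧
      LocCoh.depth (Localization.AtPrime p.asIdeal) (LocalizedModule p.asIdeal.primeCompl M) =
        LocCoh.idealDepth I M := by
  obtain ⟨rs, -, hreg, hmem, hmax⟩ :=
    exists_maximal_extension hIM [] (IsWeaklyRegular.nil R M) (by simp)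
  have hlen := length_eq_idealDepth_of_maximal hIM rs hreg hmem hmax
  set N := M ⧸ (Ideal.ofList rs • ⊤ : Submodule R M) with hN
  have hIN : I • (⊤ : Submodule R N) ≠ ⊤ := smul_top_quot_ofList_ne_top I hmem hIM
  have hNnt : Nontrivial N := nontrivial_of_smul_top_ne_top hIN
  have hnr : ∀ r ∈ I, ¬ IsSMulRegular N r := fun r hr hreg' =>
    hmax r hr ((isWeaklyRegular_append_iff M rs [r]).mpr
      ⟨hreg, (isWeaklyRegular_singleton_iff _ r).mpr hreg'⟩)
  obtain ⟨q, hq, hIq⟩ := exists_le_mem_associatedPrimes_of_forall_not_isSMulRegular hnr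
  have hqp : q.IsPrime := hq.isPrime
  let P : PrimeSpectrum R := ⟨q, hqp⟩
  have hass := Module.associatedPrimes.mem_associatedPrimes_atPrime_of_mem_associatedPrimes hq
  have hNq : Nontrivial (LocalizedModule q.primeCompl N) := by
    by_contra h
    rw [not_nontrivial_iff_subsingleton] at h
    rw [associatedPrimes.eq_empty_of_subsingleton] at hass
    exact hass
  have hPN : P ∈ Module.support R N := Module.mem_support_iff.mpr hNq
  have hPM : P ∈ Module.support R M :=
    Module.support_subset_of_surjective _ (Submodule.mkQ_surjective _) hPN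
  have hMq : Nontrivial (LocalizedModule q.primeCompl M) := Module.mem_support_iff.mp hPM
  refine ⟨P, hIq, hPM, ?_⟩
  have hd0 : LocCoh.depth (Localization.AtPrime q) (LocalizedModule q.primeCompl N) = 0 :=
    depth_eq_zero_iff.mpr hass
  have hreg' : IsWeaklyRegular (LocalizedModule q.primeCompl M)
      (rs.map (algebraMap R (Localization.AtPrime q))) :=
    hreg.of_isLocalizedModule (Localization.AtPrime q) q.primeCompl
      (LocalizedModule.mkLinearMap q.primeCompl M)
  have hmem' : ∀ r ∈ rs.map (algebraMap R (Localization.AtPrime q)),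
      r ∈ IsLocalRing.maximalIdeal (Localization.AtPrime q) := by
    intro r hr
    obtain ⟨a, ha, rfl⟩ := List.mem_map.mp hr
    rw [← Localization.AtPrime.map_eq_maximalIdeal]
    exact Ideal.mem_map_of_mem _ (hIq (hmem a ha))
  have key := idealDepth_quot_ofList_add_length
    (IsLocalRing.maximalIdeal (Localization.AtPrime q)) (LocalizedModule q.primeCompl M)
    maximalIdeal_smul_top_ne_top _ hmem' hreg'
  rw [idealDepth_congr (localizedQuotOfListEquiv q M rs)] at key
  change LocCoh.depth (Localization.AtPrime q) (LocalizedModule q.primeCompl N) + _ = _ at key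
  rw [hd0, zero_add, List.length_map] at key
  change LocCoh.idealDepth _ _ = _
  rw [← key, hlen]

end Exists


section IInf

variable {R : Type u} [CommRing R] [IsNoetherianRing R] [Small.{v} R] (I : Ideal R)
  (M : Type v) [AddCommGroup M] [Module R M] [Module.Finite R M]

theorem idealDepth_eq_iInf_depth_localization :
    LocCoh.idealDepth I M = ⨅ (p : PrimeSpectrum R) (_ : I ≤ p.asIdeal),
      LocCoh.depth (Localization.AtPrime p.asIdeal) (LocalizedModule p.asIdeal.primeCompl M) := by
  apply le_antisymm
  · exact le_iInf₂ fun p hp => idealDepth_le_depth_localization p.asIdeal M hp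
  · by_cases hIM : I • (⊤ : Submodule R M) = ⊤
    · rw [idealDepth_eq_top_of_smul_top_eq_top _ _ hIM]; exact le_top
    · obtain ⟨p, hp, -, h⟩ := exists_prime_depth_localization_eq hIM
      exact (iInf₂_le p hp).trans h.le

end IInf

section DepthLeDim

variable {R : Type u} [CommRing R] [IsNoetherianRing R] [IsLocalRing R]
  {M : Type v} [AddCommGroup M] [Module R M] [Module.Finite R M]

theorem length_le_supportDim_of_isRegular (rs : List R) (reg : IsRegular M rs) :
    ((rs.length : ℕ∞) : WithBot ℕ∞) ≤ Module.supportDim R M := by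
  have h := Module.supportDim_add_length_eq_supportDim_of_isRegular rs reg
  have hnt : Nontrivial (M ⧸ (Ideal.ofList rs • ⊤ : Submodule R M)) :=
    Submodule.Quotient.nontrivial_iff.mpr reg.2.symm
  have h0 : (0 : WithBot ℕ∞) ≤ Module.supportDim R (M ⧸ (Ideal.ofList rs • ⊤ : Submodule R M)) := by
    have := Module.supportDim_ne_bot_of_nontrivial R
      (M ⧸ (Ideal.ofList rs • ⊤ : Submodule R M))
    rcases hd : Module.supportDim R (M ⧸ (Ideal.ofList rs • ⊤ : Submodule R M)) with _ | d
    · exact absurd hd this
    · exact WithBot.coe_le_coe.mpr (zero_le)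
  rw [← h]
  calc ((rs.length : ℕ∞) : WithBot ℕ∞) = 0 + ((rs.length : ℕ∞) : WithBot ℕ∞) := by rw [zero_add]
    _ ≤ _ := by
      have : ((rs.length : ℕ∞) : WithBot ℕ∞) = ((rs.length : ℕ) : WithBot ℕ∞) := rfl
      rw [this]
      exact add_le_add_left h0 _

theorem depth_le_supportDim [Nontrivial M] :
    ((LocCoh.depth R M : ℕ∞) : WithBot ℕ∞) ≤ Module.supportDim R M := by
  have hIM : IsLocalRing.maximalIdeal R • (⊤ : Submodule R M) ≠ ⊤ := maximalIdeal_smul_top_ne_top
  unfold LocCoh.depth
  rw [idealDepth_eq_iSup_of_smul_top_ne_top _ M hIM]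
  rcases hd : Module.supportDim R M with _ | d
  · exact absurd hd (Module.supportDim_ne_bot_of_nontrivial R M)
  · refine WithBot.coe_le_coe.mpr (iSup₂_le fun rs hrs => ?_)
    have := length_le_supportDim_of_isRegular rs
      (isRegular_of_isWeaklyRegular_of_mem hrs.1 hrs.2 hIM)
    rw [hd] at this
    exact WithBot.coe_le_coe.mp this

end DepthLeDim

section LeDimLoc

variable {R : Type u} [CommRing R] [IsNoetherianRing R]
  (M : Type v) [AddCommGroup M] [Module R M] [Module.Finite R M] (I : Ideal R)

theorem idealDepth_le_supportDim_localization (p : PrimeSpectrum R) (hIp : I ≤ p.asIdeal)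
    (hp : p ∈ Module.support R M) :
    ((LocCoh.idealDepth I M : ℕ∞) : WithBot ℕ∞) ≤
      Module.supportDim (Localization.AtPrime p.asIdeal)
        (LocalizedModule p.asIdeal.primeCompl M) := by
  have : Nontrivial (LocalizedModule p.asIdeal.primeCompl M) := Module.mem_support_iff.mp hp
  exact (WithBot.coe_le_coe.mpr (idealDepth_le_depth_localization p.asIdeal M hIp)).trans
    depth_le_supportDim

end LeDimLoc

section Sk

variable {R : Type u} [CommRing R] [IsNoetherianRing R] [Small.{v} R]
  (M : Type v) [AddCommGroup M] [Module R M] [Module.Finite R M] (I : Ideal R)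

theorem le_idealDepth_of_hasSk (k : ℕ) (hS : LocCoh.HasSk k R M)
    (hcodim : ∀ p : PrimeSpectrum R, I ≤ p.asIdeal → p ∈ Module.support R M →
      (k : WithBot ℕ∞) ≤ Module.supportDim (Localization.AtPrime p.asIdeal)
        (LocalizedModule p.asIdeal.primeCompl M)) :
    (k : ℕ∞) ≤ LocCoh.idealDepth I M := by
  rw [idealDepth_eq_iInf_depth_localization]
  refine le_iInf₂ fun p hp => ?_
  by_cases hpM : p ∈ Module.support R M
  · have h1 := hS p.asIdeal
    rw [min_eq_left (hcodim p hp hpM)] at h1
    exact_mod_cast h1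
  · rw [Module.notMem_support_iff] at hpM
    rw [depth_eq_top_of_subsingleton]
    exact le_top

end Sk

end Groth.Agent.Lib.Helper28
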