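import Groth.Prelude.Def_CAlg
import Mathlib.RingTheory.Depth.Rees
import Mathlib.RingTheory.Nakayama
import Mathlib.Algebra.Homology.ShortComplex.ModuleCat
import Mathlib.LinearAlgebra.Dual.Basis

/-!
# Depth library (helper28)

Glue between `LocCoh.idealDepth` (supremum of lengths of weakly regular sequences) and
Mathlib's Rees theorem (`ModuleCat.exists_isRegular_tfae`), plus the standard consequences.
-/

set_option autoImplicit false

universe u v w

namespace Groth.Agent.Lib.Helper28

open RingTheory.Sequence CategoryTheory Abelian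

section Basic

variable {R : Type u} [CommRing R] (I : Ideal R) (M : Type v) [AddCommGroup M] [Module R M]

theorem idealDepth_eq_top_of_smul_top_eq_top (h : I • (⊤ : Submodule R M) = ⊤) :
    LocCoh.idealDepth I M = ⊤ := by
  classical
  unfold LocCoh.idealDepth
  rw [if_pos h]

theorem idealDepth_eq_iSup_of_smul_top_ne_top (h : I • (⊤ : Submodule R M) ≠ ⊤) :
    LocCoh.idealDepth I M = ⨆ (rs : List R) (_ : IsWeaklyRegular M rs ∧ ∀ r ∈ rs, r ∈ I),
      (rs.length : ℕ∞) := by
  classical
  unfold LocCoh.idealDepth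
  rw [if_neg h]

variable {I M}

theorem length_le_idealDepth {rs : List R} (hrs : IsWeaklyRegular M rs) (hI : ∀ r ∈ rs, r ∈ I) :
    (rs.length : ℕ∞) ≤ LocCoh.idealDepth I M := by
  by_cases h : I • (⊤ : Submodule R M) = ⊤
  · rw [idealDepth_eq_top_of_smul_top_eq_top I M h]; exact le_top
  · rw [idealDepth_eq_iSup_of_smul_top_ne_top I M h]
    exact le_iSup₂_of_le rs ⟨hrs, hI⟩ le_rfl

theorem ofList_le_of_forall_mem {rs : List R} (hI : ∀ r ∈ rs, r ∈ I) : Ideal.ofList rs ≤ I :=
  Ideal.span_le.mpr fun r hr => hI r hr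

theorem isRegular_of_isWeaklyRegular_of_mem {rs : List R} (hrs : IsWeaklyRegular M rs)
    (hI : ∀ r ∈ rs, r ∈ I) (h : I • (⊤ : Submodule R M) ≠ ⊤) : IsRegular M rs := by
  refine ⟨hrs, fun h' => h ?_⟩
  have h1 : Ideal.ofList rs ≤ I := ofList_le_of_forall_mem hI
  have h2 : Ideal.ofList rs • (⊤ : Submodule R M) ≤ I • (⊤ : Submodule R M) :=
    Submodule.smul_mono_left h1
  exact top_le_iff.mp (h'.le.trans h2)

theorem IsWeaklyRegular.take' {rs : List R} (hrs : IsWeaklyRegular M rs) (n : ℕ) :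
    IsWeaklyRegular M (rs.take n) := by
  have h : IsWeaklyRegular M (rs.take n ++ rs.drop n) := by rwa [List.take_append_drop]
  exact ((isWeaklyRegular_append_iff M _ _).mp h).1

/-- Key lemma: for `IM ≠ M`, `n ≤ depth_I M` iff there is an `M`-regular sequence of length `n`
in `I`. -/
theorem natCast_le_idealDepth_iff (h : I • (⊤ : Submodule R M) ≠ ⊤) (n : ℕ) :
    (n : ℕ∞) ≤ LocCoh.idealDepth I M ↔
      ∃ rs : List R, rs.length = n ∧ (∀ r ∈ rs, r ∈ I) ∧ IsRegular M rs := by
  constructor
  · intro hn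
    rw [idealDepth_eq_iSup_of_smul_top_ne_top I M h] at hn
    rcases Nat.eq_zero_or_pos n with rfl | hpos
    · refine ⟨[], rfl, by simp, ?_⟩
      exact isRegular_of_isWeaklyRegular_of_mem (IsWeaklyRegular.nil R M) (by simp) h
    · have hlt : ((n - 1 : ℕ) : ℕ∞) < (n : ℕ∞) := by
        exact_mod_cast Nat.sub_lt hpos Nat.one_pos
      have hlt' := lt_of_lt_of_le hlt hn
      rw [lt_iSup_iff] at hlt'
      obtain ⟨rs, hrs⟩ := hlt'
      rw [lt_iSup_iff] at hrs
      obtain ⟨⟨hreg, hmem⟩, hlen⟩ := hrs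
      have hlen' : n ≤ rs.length := by
        have : (n - 1 : ℕ) < rs.length := by exact_mod_cast hlen
        omega
      refine ⟨rs.take n, by simp [hlen'], fun r hr => hmem r (List.mem_of_mem_take hr), ?_⟩
      exact isRegular_of_isWeaklyRegular_of_mem (IsWeaklyRegular.take' hreg n)
        (fun r hr => hmem r (List.mem_of_mem_take hr)) h
  · rintro ⟨rs, rfl, hmem, hreg⟩
    exact length_le_idealDepth hreg.toIsWeaklyRegular hmem

end Basic


section ExtGlue

variable {R : Type u} [CommRing R] [Small.{v} R]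

theorem ext_smul_eq_zero_of_mem_annihilator_right {N M : ModuleCat.{v} R} {r : R}
    (hr : r ∈ Module.annihilator R M) {n : ℕ} (x : Ext N M n) : r • x = 0 := by
  rw [Ext.smul_eq_comp_mk₀]
  have : r • 𝟙 M = 0 := by
    ext m
    exact Module.mem_annihilator.mp hr m
  rw [this, Ext.mk₀_zero, Ext.comp_zero]

theorem ext_smul_eq_zero_of_mem_annihilator_left {N M : ModuleCat.{v} R} {r : R}
    (hr : r ∈ Module.annihilator R N) {n : ℕ} (x : Ext N M n) : r • x = 0 := by
  have h0 : r • 𝟙 N = 0 := by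
    ext m
    exact Module.mem_annihilator.mp hr m
  have h1 : r • x = (Ext.mk₀ (r • 𝟙 N)).comp x (zero_add n) := by simp [Ext.mk₀_smul]
  rw [h1, h0, Ext.mk₀_zero, Ext.zero_comp]

theorem natCast_le_idealDepth_iff_ext [IsNoetherianRing R] (I : Ideal R) (M : Type v)
    [AddCommGroup M] [Module R M] [Module.Finite R M] (n : ℕ) :
    (n : ℕ∞) ≤ LocCoh.idealDepth I M ↔
      ∀ i < n, Subsingleton (Ext (ModuleCat.of R (Shrink.{v} (R ⧸ I))) (ModuleCat.of R M) i) := by
  by_cases h : I • (⊤ : Submodule R M) = ⊤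
  · rw [idealDepth_eq_top_of_smul_top_eq_top I M h]
    simp only [le_top, true_iff]
    intro i _
    obtain ⟨r, hr1, hr0⟩ := Submodule.exists_sub_one_mem_and_smul_eq_zero_of_fg_of_le_smul I
      (⊤ : Submodule R M) Module.Finite.fg_top h.ge
    have key : ∀ z : Ext (ModuleCat.of R (Shrink.{v} (R ⧸ I))) (ModuleCat.of R M) i, z = 0 := by
      intro z
      have h1 : r • z = 0 := ext_smul_eq_zero_of_mem_annihilator_right
        (Module.mem_annihilator.mpr fun m => hr0 m trivial) z
      have h2 : (r - 1) • z = 0 := ext_smul_eq_zero_of_mem_annihilator_left (by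
        change r - 1 ∈ Module.annihilator R (Shrink.{v} (R ⧸ I))
        rw [(Shrink.linearEquiv R (R ⧸ I)).annihilator_eq, Ideal.annihilator_quotient]
        exact hr1) z
      have : z = r • z - (r - 1) • z := by rw [sub_smul, one_smul]; abel
      rw [this, h1, h2, sub_zero]
    exact ⟨fun x y => by rw [key x, key y]⟩
  · have hlt : I • (⊤ : Submodule R M) < ⊤ := lt_top_iff_ne_top.mpr h
    rw [natCast_le_idealDepth_iff h n]
    have := (ModuleCat.exists_isRegular_tfae I n (ModuleCat.of R M) hlt).out 1 3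
    exact this.symm

end ExtGlue


section ExtSES

variable {C : Type u} [Category.{v} C] [Abelian C] [HasExt.{w} C]
variable (X : C) {S : ShortComplex C} (hS : S.ShortExact)
include hS

theorem ext_subsingleton_mid (n : ℕ) (h1 : Subsingleton (Ext X S.X₁ n))
    (h3 : Subsingleton (Ext X S.X₃ n)) : Subsingleton (Ext X S.X₂ n) := by
  refine ⟨fun x y => ?_⟩
  have key : ∀ z : Ext X S.X₂ n, z = 0 := by
    intro z
    obtain ⟨x₁, hx₁⟩ := Ext.covariant_sequence_exact₂ X hS z (Subsingleton.elim _ _)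
    rw [← hx₁, Subsingleton.elim x₁ 0, Ext.zero_comp]
  rw [key x, key y]

theorem ext_subsingleton_right (n : ℕ) (h2 : Subsingleton (Ext X S.X₂ n))
    (h1 : Subsingleton (Ext X S.X₁ (n + 1))) : Subsingleton (Ext X S.X₃ n) := by
  refine ⟨fun x y => ?_⟩
  have key : ∀ z : Ext X S.X₃ n, z = 0 := by
    intro z
    obtain ⟨x₂, hx₂⟩ := Ext.covariant_sequence_exact₃ X hS z rfl (Subsingleton.elim _ _)
    rw [← hx₂, Subsingleton.elim x₂ 0, Ext.zero_comp]
  rw [key x, key y]

theorem ext_subsingleton_left_succ (n : ℕ) (h2 : Subsingleton (Ext X S.X₂ (n + 1)))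
    (h3 : Subsingleton (Ext X S.X₃ n)) : Subsingleton (Ext X S.X₁ (n + 1)) := by
  refine ⟨fun x y => ?_⟩
  have key : ∀ z : Ext X S.X₁ (n + 1), z = 0 := by
    intro z
    obtain ⟨x₃, hx₃⟩ := Ext.covariant_sequence_exact₁ X hS z (Subsingleton.elim _ _) rfl
    rw [← hx₃, Subsingleton.elim x₃ 0, Ext.zero_comp]
  rw [key x, key y]

theorem ext_subsingleton_left_zero (h2 : Subsingleton (Ext X S.X₂ 0)) :
    Subsingleton (Ext X S.X₁ 0) := by
  have := hS.mono_f
  exact (Ext.postcomp_mk₀_injective_of_mono X S.f).subsingleton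

end ExtSES


section DepthSES

variable {R : Type u} [CommRing R] [Small.{v} R]

/-- `Ext^i(R/I, M) = 0` for all `i < n`. -/
def ExtVanish (I : Ideal R) (M : Type v) [AddCommGroup M] [Module R M] (n : ℕ) : Prop :=
  ∀ i < n, Subsingleton (Ext (ModuleCat.of R (Shrink.{v} (R ⧸ I))) (ModuleCat.of R M) i)

theorem enat_succ_le_of_le_sub_one {n : ℕ} (hn : 0 < n) {a : ℕ∞} (h : (n : ℕ∞) ≤ a - 1) :
    ((n + 1 : ℕ) : ℕ∞) ≤ a := by
  induction a using ENat.recTopCoe with
  | top => exact le_top
  | coe m =>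
    have h' : n ≤ m - 1 := by
      have : (n : ℕ∞) ≤ ((m - 1 : ℕ) : ℕ∞) := by simpa using h
      exact_mod_cast this
    have : n + 1 ≤ m := by omega
    exact_mod_cast this

theorem enat_pred_le_of_le_add_one {n : ℕ} {a : ℕ∞} (h : (n : ℕ∞) ≤ a + 1) :
    ((n - 1 : ℕ) : ℕ∞) ≤ a := by
  induction a using ENat.recTopCoe with
  | top => exact le_top
  | coe m =>
    have h' : n ≤ m + 1 := by exact_mod_cast h
    have : n - 1 ≤ m := by omega
    exact_mod_cast this

theorem natCast_le_idealDepth_iff_extVanish [IsNoetherianRing R] (I : Ideal R) (M : Type v)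
    [AddCommGroup M] [Module R M] [Module.Finite R M] (n : ℕ) :
    (n : ℕ∞) ≤ LocCoh.idealDepth I M ↔ ExtVanish I M n :=
  natCast_le_idealDepth_iff_ext I M n

theorem ExtVanish.mono {I : Ideal R} {M : Type v} [AddCommGroup M] [Module R M] {n m : ℕ}
    (h : ExtVanish I M n) (hmn : m ≤ n) : ExtVanish I M m :=
  fun i hi => h i (lt_of_lt_of_le hi hmn)

variable (I : Ideal R)
variable {N' N N'' : Type v} [AddCommGroup N'] [Module R N'] [AddCommGroup N] [Module R N]
  [AddCommGroup N''] [Module R N'']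
variable (f : N' →ₗ[R] N) (g : N →ₗ[R] N'') (hf : Function.Injective f)
  (hg : Function.Surjective g) (hfg : Function.Exact f g)
include hf hg hfg

omit [Small.{v} R] in
theorem shortExact_of_exact :
    (ModuleCat.shortComplexOfCompEqZero f g hfg.linearMap_comp_eq_zero).ShortExact :=
  ModuleCat.shortComplex_shortExact _ hfg hf hg

theorem extVanish_mid (n : ℕ) (h1 : ExtVanish I N' n) (h3 : ExtVanish I N'' n) :
    ExtVanish I N n := fun i hi =>
  ext_subsingleton_mid _ (shortExact_of_exact f g hf hg hfg) i (h1 i hi) (h3 i hi)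

theorem extVanish_right (n : ℕ) (h2 : ExtVanish I N n) (h1 : ExtVanish I N' (n + 1)) :
    ExtVanish I N'' n := fun i hi =>
  ext_subsingleton_right _ (shortExact_of_exact f g hf hg hfg) i (h2 i hi)
    (h1 (i + 1) (by omega))

theorem extVanish_left (n : ℕ) (h2 : ExtVanish I N n) (h3 : ExtVanish I N'' (n - 1)) :
    ExtVanish I N' n := by
  intro i hi
  cases i with
  | zero => exact ext_subsingleton_left_zero _ (shortExact_of_exact f g hf hg hfg) (h2 0 hi)
  | succ j =>
    exact ext_subsingleton_left_succ _ (shortExact_of_exact f g hf hg hfg) j (h2 (j + 1) hi)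
      (h3 j (by omega))

variable [IsNoetherianRing R] [Module.Finite R N'] [Module.Finite R N] [Module.Finite R N'']

/-- Depth lemma, middle term. -/
theorem min_idealDepth_le_mid :
    min (LocCoh.idealDepth I N') (LocCoh.idealDepth I N'') ≤ LocCoh.idealDepth I N := by
  rw [← ENat.forall_natCast_le_iff_le]
  intro n hn
  rw [le_min_iff] at hn
  rw [natCast_le_idealDepth_iff_extVanish] at hn ⊢
  rw [natCast_le_idealDepth_iff_extVanish] at hn
  exact extVanish_mid I f g hf hg hfg n hn.1 hn.2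

/-- Depth lemma, right term. -/
theorem min_idealDepth_le_right :
    min (LocCoh.idealDepth I N) (LocCoh.idealDepth I N' - 1) ≤ LocCoh.idealDepth I N'' := by
  rw [← ENat.forall_natCast_le_iff_le]
  intro n hn
  rw [le_min_iff] at hn
  rcases Nat.eq_zero_or_pos n with rfl | hpos
  · simp
  have h1 : ((n + 1 : ℕ) : ℕ∞) ≤ LocCoh.idealDepth I N' := enat_succ_le_of_le_sub_one hpos hn.2
  rw [natCast_le_idealDepth_iff_extVanish] at h1 ⊢
  have h2 := hn.1
  rw [natCast_le_idealDepth_iff_extVanish] at h2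
  exact extVanish_right I f g hf hg hfg n h2 h1

/-- Depth lemma, left term. -/
theorem min_idealDepth_le_left :
    min (LocCoh.idealDepth I N) (LocCoh.idealDepth I N'' + 1) ≤ LocCoh.idealDepth I N' := by
  rw [← ENat.forall_natCast_le_iff_le]
  intro n hn
  rw [le_min_iff] at hn
  have h3 : ((n - 1 : ℕ) : ℕ∞) ≤ LocCoh.idealDepth I N'' := enat_pred_le_of_le_add_one hn.2
  rw [natCast_le_idealDepth_iff_extVanish] at h3 ⊢
  have h2 := hn.1
  rw [natCast_le_idealDepth_iff_extVanish] at h2
  exact extVanish_left I f g hf hg hfg n h2 h3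

end DepthSES


section IsoExt

variable {C : Type u} [Category.{v} C] [Abelian C] [HasExt.{w} C]

theorem subsingleton_ext_of_iso_left {X X' Y : C} (e : X ≅ X') (n : ℕ)
    (h : Subsingleton (Ext X Y n)) : Subsingleton (Ext X' Y n) := by
  refine ⟨fun x y => ?_⟩
  have key : ∀ z : Ext X' Y n, z = (Ext.mk₀ e.inv).comp ((Ext.mk₀ e.hom).comp z (zero_add n))
      (zero_add n) := by
    intro z
    rw [← Ext.comp_assoc_of_second_deg_zero, Ext.mk₀_comp_mk₀, e.inv_hom_id, Ext.mk₀_id_comp]
  rw [key x, key y, Subsingleton.elim ((Ext.mk₀ e.hom).comp x (zero_add n))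
    ((Ext.mk₀ e.hom).comp y (zero_add n))]

theorem subsingleton_ext_iff_of_iso_left {X X' Y : C} (e : X ≅ X') (n : ℕ) :
    Subsingleton (Ext X Y n) ↔ Subsingleton (Ext X' Y n) :=
  ⟨subsingleton_ext_of_iso_left e n, subsingleton_ext_of_iso_left e.symm n⟩

theorem subsingleton_ext_of_iso_right {X Y Y' : C} (e : Y ≅ Y') (n : ℕ)
    (h : Subsingleton (Ext X Y n)) : Subsingleton (Ext X Y' n) := by
  refine ⟨fun x y => ?_⟩
  have key : ∀ z : Ext X Y' n, z = ((z.comp (Ext.mk₀ e.inv) (add_zero n)).comp (Ext.mk₀ e.hom)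
      (add_zero n)) := by
    intro z
    rw [Ext.comp_assoc_of_third_deg_zero, Ext.mk₀_comp_mk₀, e.inv_hom_id, Ext.comp_mk₀_id]
  rw [key x, key y, Subsingleton.elim (x.comp (Ext.mk₀ e.inv) (add_zero n))
    (y.comp (Ext.mk₀ e.inv) (add_zero n))]

theorem subsingleton_ext_iff_of_iso_right {X Y Y' : C} (e : Y ≅ Y') (n : ℕ) :
    Subsingleton (Ext X Y n) ↔ Subsingleton (Ext X Y' n) :=
  ⟨subsingleton_ext_of_iso_right e n, subsingleton_ext_of_iso_right e.symm n⟩

end IsoExt

section SameUniverse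

variable {R : Type u} [CommRing R] [IsNoetherianRing R] (I : Ideal R) (M : Type u)
  [AddCommGroup M] [Module R M] [Module.Finite R M]

/-- Version of the Rees glue without `Shrink`, for modules in the universe of the ring. -/
theorem natCast_le_idealDepth_iff_ext' (n : ℕ) :
    (n : ℕ∞) ≤ LocCoh.idealDepth I M ↔
      ∀ i < n, Subsingleton (Ext (ModuleCat.of R (R ⧸ I)) (ModuleCat.of R M) i) := by
  rw [natCast_le_idealDepth_iff_ext]
  refine forall₂_congr fun i _ => ?_
  exact subsingleton_ext_iff_of_iso_left (Shrink.linearEquiv R (R ⧸ I)).toModuleIso i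

end SameUniverse


theorem enat_eq_natCast_iff {a : ℕ∞} {n : ℕ} :
    a = n ↔ (n : ℕ∞) ≤ a ∧ ¬ ((n + 1 : ℕ) : ℕ∞) ≤ a := by
  induction a using ENat.recTopCoe with
  | top => simp
  | coe m =>
    simp only [Nat.cast_inj, Nat.cast_le]
    omega

section SameUniverse2

variable {R : Type u} [CommRing R] [IsNoetherianRing R] (I : Ideal R) (M : Type u)
  [AddCommGroup M] [Module R M] [Module.Finite R M]

theorem idealDepth_eq_natCast_iff_ext' (n : ℕ) :
    LocCoh.idealDepth I M = n ↔
      ((∀ i : ℕ, i < n → Subsingleton (Ext (ModuleCat.of R (R ⧸ I)) (ModuleCat.of R M) i)) ∧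
        Nontrivial (Ext (ModuleCat.of R (R ⧸ I)) (ModuleCat.of R M) n)) := by
  rw [enat_eq_natCast_iff, natCast_le_idealDepth_iff_ext', natCast_le_idealDepth_iff_ext']
  constructor
  · rintro ⟨h1, h2⟩
    refine ⟨h1, ?_⟩
    rw [← not_subsingleton_iff_nontrivial]
    intro hs
    apply h2
    intro i hi
    rcases Nat.lt_succ_iff_lt_or_eq.mp hi with h | rfl
    · exact h1 i h
    · exact hs
  · rintro ⟨h1, h2⟩
    refine ⟨h1, fun h => ?_⟩
    exact (not_subsingleton_iff_nontrivial.mpr h2) (h n (Nat.lt_succ_self n))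

end SameUniverse2


section QuotRegular
open Pointwise

variable {R : Type u} [CommRing R]

theorem smul_top_quotSMulTop_ne_top {M : Type v} [AddCommGroup M]
    [Module R M] {I : Ideal R} {r : R} (hr : r ∈ I)
    (hI : I • (⊤ : Submodule R M) ≠ ⊤) :
    I • (⊤ : Submodule R (QuotSMulTop r M)) ≠ ⊤ := by
  by_contra eq
  absurd congrArg (Submodule.comap (Submodule.mkQ _)) eq
  simpa [Submodule.comap_smul_top_of_surjective I _ (Submodule.mkQ_surjective _),
    Submodule.smul_mono_left ((Ideal.span_singleton_le_iff_mem I).mpr hr),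
    ← Submodule.ideal_span_singleton_smul] using hI

variable [Small.{v} R] [IsNoetherianRing R] (I : Ideal R) (M : Type v) [AddCommGroup M]
  [Module R M] [Module.Finite R M]

theorem idealDepth_quotSMulTop_add_one (hIM : I • (⊤ : Submodule R M) ≠ ⊤) (x : R) (hx : x ∈ I)
    (hreg : IsSMulRegular M x) :
    LocCoh.idealDepth I (QuotSMulTop x M) + 1 = LocCoh.idealDepth I M := by
  have hIM' := smul_top_quotSMulTop_ne_top hx hIM
  apply le_antisymm
  · rw [← ENat.forall_natCast_le_iff_le]
    intro m hm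
    rcases Nat.eq_zero_or_pos m with rfl | hpos
    · simp
    obtain ⟨k, rfl⟩ : ∃ k, m = k + 1 := ⟨m - 1, by omega⟩
    have hk : (k : ℕ∞) ≤ LocCoh.idealDepth I (QuotSMulTop x M) := by
      rw [Nat.cast_add, Nat.cast_one] at hm
      exact (ENat.add_le_add_iff_right ENat.one_ne_top).mp hm
    rw [natCast_le_idealDepth_iff hIM'] at hk
    obtain ⟨rs, hlen, hmem, hrs⟩ := hk
    rw [natCast_le_idealDepth_iff hIM]
    refine ⟨x :: rs, by simp [hlen], ?_, ?_⟩
    · intro r hr
      rcases List.mem_cons.mp hr with rfl | h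
      · exact hx
      · exact hmem r h
    · exact (isRegular_cons_iff M x rs).mpr ⟨hreg, hrs⟩
  · rw [← ENat.forall_natCast_le_iff_le]
    intro m hm
    rcases Nat.eq_zero_or_pos m with rfl | hpos
    · simp
    obtain ⟨k, rfl⟩ : ∃ k, m = k + 1 := ⟨m - 1, by omega⟩
    rw [natCast_le_idealDepth_iff_extVanish] at hm
    have hk : ExtVanish I (QuotSMulTop x M) k :=
      extVanish_right I (LinearMap.lsmul R M x) (x • (⊤ : Submodule R M)).mkQ hreg
        (Submodule.mkQ_surjective _) (LinearMap.exact_lsmul_mkQ_smul_top M x) k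
        (hm.mono (Nat.le_succ k)) hm
    rw [← natCast_le_idealDepth_iff_extVanish] at hk
    rw [Nat.cast_add, Nat.cast_one]
    exact add_le_add_left hk 1

end QuotRegular


section Congr

variable {R : Type u} [CommRing R] {M : Type v} {M' : Type w} [AddCommGroup M] [Module R M]
  [AddCommGroup M'] [Module R M']

theorem smul_top_eq_top_of_linearEquiv (e : M ≃ₗ[R] M') (I : Ideal R)
    (h : I • (⊤ : Submodule R M) = ⊤) : I • (⊤ : Submodule R M') = ⊤ := by
  have := congrArg (Submodule.map e.toLinearMap) h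
  rwa [Submodule.map_smul'', Submodule.map_top, LinearMap.range_eq_top.mpr e.surjective] at this

theorem smul_top_eq_top_iff_of_linearEquiv (e : M ≃ₗ[R] M') (I : Ideal R) :
    I • (⊤ : Submodule R M) = ⊤ ↔ I • (⊤ : Submodule R M') = ⊤ :=
  ⟨smul_top_eq_top_of_linearEquiv e I, smul_top_eq_top_of_linearEquiv e.symm I⟩

theorem idealDepth_congr (e : M ≃ₗ[R] M') (I : Ideal R) :
    LocCoh.idealDepth I M = LocCoh.idealDepth I M' := by
  by_cases h : I • (⊤ : Submodule R M) = ⊤
  · rw [idealDepth_eq_top_of_smul_top_eq_top I M h,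
      idealDepth_eq_top_of_smul_top_eq_top I M' ((smul_top_eq_top_iff_of_linearEquiv e I).mp h)]
  · rw [idealDepth_eq_iSup_of_smul_top_ne_top I M h,
      idealDepth_eq_iSup_of_smul_top_ne_top I M'
        (fun h' => h ((smul_top_eq_top_iff_of_linearEquiv e I).mpr h'))]
    refine iSup_congr fun rs => ?_
    exact iSup_congr_Prop (and_congr (e.isWeaklyRegular_congr rs) Iff.rfl) fun _ => rfl

end Congr

section ListQuot

variable {R : Type u} [CommRing R] [Small.{v} R] [IsNoetherianRing R] (I : Ideal R)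

omit [Small.{v} R] [IsNoetherianRing R] in
theorem smul_top_quot_ofList_ne_top {M : Type v} [AddCommGroup M] [Module R M] {rs : List R}
    (hmem : ∀ r ∈ rs, r ∈ I) (hIM : I • (⊤ : Submodule R M) ≠ ⊤) :
    I • (⊤ : Submodule R (M ⧸ (Ideal.ofList rs • ⊤ : Submodule R M))) ≠ ⊤ := by
  intro h
  apply hIM
  have h1 := congrArg (Submodule.comap (Submodule.mkQ (Ideal.ofList rs • ⊤ : Submodule R M))) h
  rw [Submodule.comap_smul_top_of_surjective I _ (Submodule.mkQ_surjective _),
    Submodule.ker_mkQ, Submodule.comap_top] at h1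
  have h2 : (Ideal.ofList rs • ⊤ : Submodule R M) ≤ I • ⊤ :=
    Submodule.smul_mono_left (ofList_le_of_forall_mem hmem)
  rwa [sup_eq_left.mpr h2] at h1

theorem idealDepth_quot_ofList_add_length (M : Type v) [AddCommGroup M] [Module R M]
    [Module.Finite R M] (hIM : I • (⊤ : Submodule R M) ≠ ⊤) (rs : List R)
    (hmem : ∀ r ∈ rs, r ∈ I) (hreg : IsWeaklyRegular M rs) :
    LocCoh.idealDepth I (M ⧸ (Ideal.ofList rs • ⊤ : Submodule R M)) + rs.length =
      LocCoh.idealDepth I M := by
  induction rs generalizing M with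
  | nil =>
    simp only [List.length_nil, Nat.cast_zero, add_zero]
    refine idealDepth_congr (Submodule.quotEquivOfEqBot _ ?_) I
    rw [Ideal.ofList_nil, Submodule.bot_smul]
  | cons r rs ih =>
    rw [isWeaklyRegular_cons_iff] at hreg
    have hr : r ∈ I := hmem r List.mem_cons_self
    have hmem' : ∀ x ∈ rs, x ∈ I := fun x hx => hmem x (List.mem_cons_of_mem r hx)
    have hIM' := smul_top_quotSMulTop_ne_top hr hIM
    have h1 := ih (QuotSMulTop r M) hIM' hmem' hreg.2
    have h2 := idealDepth_quotSMulTop_add_one I M hIM r hr hreg.1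
    have e := Submodule.quotOfListConsSMulTopEquivQuotSMulTopInner M r rs
    rw [idealDepth_congr e I, List.length_cons, Nat.cast_add, Nat.cast_one, ← add_assoc, h1, h2]

end ListQuot


section Maximal

variable {R : Type u} [CommRing R] {I : Ideal R} {M : Type v} [AddCommGroup M] [Module R M]

theorem idealDepth_eq_zero_of_forall_not_isSMulRegular (hIM : I • (⊤ : Submodule R M) ≠ ⊤)
    (h : ∀ r ∈ I, ¬ IsSMulRegular M r) : LocCoh.idealDepth I M = 0 := by
  rw [idealDepth_eq_iSup_of_smul_top_ne_top I M hIM]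
  rw [← nonpos_iff_eq_zero]
  refine iSup₂_le fun rs hrs => ?_
  obtain ⟨hreg, hmem⟩ := hrs
  cases rs with
  | nil => simp
  | cons r rs =>
    exact absurd ((isWeaklyRegular_cons_iff M r rs).mp hreg).1 (h r (hmem r List.mem_cons_self))

theorem one_le_idealDepth_iff (hIM : I • (⊤ : Submodule R M) ≠ ⊤) :
    1 ≤ LocCoh.idealDepth I M ↔ ∃ r ∈ I, IsSMulRegular M r := by
  have := natCast_le_idealDepth_iff hIM 1
  rw [Nat.cast_one] at this
  rw [this]
  constructor
  · rintro ⟨rs, hlen, hmem, hreg⟩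
    match rs, hlen with
    | [r], _ =>
      exact ⟨r, hmem r List.mem_cons_self, ((isRegular_cons_iff M r []).mp hreg).1⟩
  · rintro ⟨r, hr, hreg⟩
    refine ⟨[r], rfl, by simpa using hr, ?_⟩
    exact isRegular_of_isWeaklyRegular_of_mem ((isWeaklyRegular_singleton_iff M r).mpr hreg)
      (by simpa using hr) hIM

theorem ofList_smul_top_lt_of_isWeaklyRegular_append (hIM : I • (⊤ : Submodule R M) ≠ ⊤)
    {rs : List R} (hmem : ∀ r ∈ rs, r ∈ I) {r : R} (hr : IsWeaklyRegular M (rs ++ [r])) :
    (Ideal.ofList rs • ⊤ : Submodule R M) < Ideal.ofList (rs ++ [r]) • ⊤ := by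
  have hle : (Ideal.ofList rs • ⊤ : Submodule R M) ≤ Ideal.ofList (rs ++ [r]) • ⊤ := by
    rw [Ideal.ofList_append]
    exact Submodule.smul_mono_left le_sup_left
  refine lt_of_le_of_ne hle fun heq => hIM ?_
  have hreg : IsSMulRegular (M ⧸ (Ideal.ofList rs • ⊤ : Submodule R M)) r := by
    have := ((isWeaklyRegular_append_iff M rs [r]).mp hr).2
    exact (isWeaklyRegular_singleton_iff _ r).mp this
  have htop : (Ideal.ofList rs • ⊤ : Submodule R M) = ⊤ := by
    rw [eq_top_iff]
    intro m _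
    have hm : r • m ∈ (Ideal.ofList rs • ⊤ : Submodule R M) :=
      heq.ge (Submodule.smul_mem_smul (Ideal.subset_span (by simp)) Submodule.mem_top)
    have h0 : r • (Submodule.Quotient.mk m : M ⧸ (Ideal.ofList rs • ⊤ : Submodule R M))
        = r • 0 := by
      rw [smul_zero, ← Submodule.Quotient.mk_smul, Submodule.Quotient.mk_eq_zero]
      exact hm
    exact (Submodule.Quotient.mk_eq_zero _).mp (hreg h0)
  have h2 : (Ideal.ofList rs • ⊤ : Submodule R M) ≤ I • (⊤ : Submodule R M) :=
    Submodule.smul_mono_left (ofList_le_of_forall_mem hmem)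
  exact top_le_iff.mp (htop.ge.trans h2)

theorem exists_maximal_extension [IsNoetherian R M] (hIM : I • (⊤ : Submodule R M) ≠ ⊤)
    (rs : List R) (hreg : IsWeaklyRegular M rs) (hmem : ∀ r ∈ rs, r ∈ I) :
    ∃ rs' : List R, rs <+: rs' ∧ IsWeaklyRegular M rs' ∧ (∀ r ∈ rs', r ∈ I) ∧
      ∀ r ∈ I, ¬ IsWeaklyRegular M (rs' ++ [r]) := by
  suffices H : ∀ N : Submodule R M, ∀ rs : List R, (Ideal.ofList rs • ⊤ : Submodule R M) = N →
      IsWeaklyRegular M rs → (∀ r ∈ rs, r ∈ I) →
      ∃ rs' : List R, rs <+: rs' ∧ IsWeaklyRegular M rs' ∧ (∀ r ∈ rs', r ∈ I) ∧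
        ∀ r ∈ I, ¬ IsWeaklyRegular M (rs' ++ [r]) from H _ rs rfl hreg hmem
  intro N
  induction N using WellFoundedGT.induction with
  | ind N ih =>
    intro rs hN hreg hmem
    by_cases hmax : ∀ r ∈ I, ¬ IsWeaklyRegular M (rs ++ [r])
    · exact ⟨rs, List.prefix_refl _, hreg, hmem, hmax⟩
    · push Not at hmax
      obtain ⟨r, hrI, hr⟩ := hmax
      have hlt : N < Ideal.ofList (rs ++ [r]) • ⊤ :=
        hN ▸ ofList_smul_top_lt_of_isWeaklyRegular_append hIM hmem hr
      have hmem' : ∀ x ∈ rs ++ [r], x ∈ I := by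
        intro x hx
        rcases List.mem_append.mp hx with h | h
        · exact hmem x h
        · rw [List.mem_singleton.mp h]; exact hrI
      obtain ⟨rs', hpre, h1, h2, h3⟩ := ih _ hlt (rs ++ [r]) rfl hr hmem'
      exact ⟨rs', (List.prefix_append rs [r]).trans hpre, h1, h2, h3⟩

end Maximal


section Maximal2

variable {R : Type u} [CommRing R] [Small.{v} R] [IsNoetherianRing R] {I : Ideal R}
  {M : Type v} [AddCommGroup M] [Module R M] [Module.Finite R M]

theorem length_eq_idealDepth_of_maximal (hIM : I • (⊤ : Submodule R M) ≠ ⊤) (rs : List R)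
    (hreg : IsWeaklyRegular M rs) (hmem : ∀ r ∈ rs, r ∈ I)
    (hmax : ∀ r ∈ I, ¬ IsWeaklyRegular M (rs ++ [r])) :
    (rs.length : ℕ∞) = LocCoh.idealDepth I M := by
  have h1 := idealDepth_quot_ofList_add_length I M hIM rs hmem hreg
  have h0 : LocCoh.idealDepth I (M ⧸ (Ideal.ofList rs • ⊤ : Submodule R M)) = 0 := by
    apply idealDepth_eq_zero_of_forall_not_isSMulRegular (smul_top_quot_ofList_ne_top I hmem hIM)
    intro r hr hreg'
    exact hmax r hr ((isWeaklyRegular_append_iff M rs [r]).mpr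
      ⟨hreg, (isWeaklyRegular_singleton_iff _ r).mpr hreg'⟩)
  rw [h0, zero_add] at h1
  exact h1

theorem idealDepth_ne_top (hIM : I • (⊤ : Submodule R M) ≠ ⊤) : LocCoh.idealDepth I M ≠ ⊤ := by
  obtain ⟨rs, -, h1, h2, h3⟩ := exists_maximal_extension hIM [] (IsWeaklyRegular.nil R M) (by simp)
  rw [← length_eq_idealDepth_of_maximal hIM rs h1 h2 h3]
  exact ENat.natCast_ne_top _

theorem idealDepth_eq_top_iff : LocCoh.idealDepth I M = ⊤ ↔ I • (⊤ : Submodule R M) = ⊤ :=
  ⟨fun h => by_contra fun h' => idealDepth_ne_top h' h,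
    idealDepth_eq_top_of_smul_top_eq_top I M⟩

end Maximal2


section Kernel

variable {R : Type u} [CommRing R] [Small.{v} R] (I : Ideal R)

theorem extVanish_one_of_injective {N' N : Type v} [AddCommGroup N'] [Module R N']
    [AddCommGroup N] [Module R N] (f : N' →ₗ[R] N) (hf : Function.Injective f)
    (h : ExtVanish I N 1) : ExtVanish I N' 1 := by
  intro i hi
  obtain rfl : i = 0 := by omega
  have : Mono (ModuleCat.ofHom f) := (ModuleCat.mono_iff_injective _).mpr hf
  have := h 0 Nat.one_pos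
  exact (Ext.postcomp_mk₀_injective_of_mono (ModuleCat.of R (Shrink.{v} (R ⧸ I)))
    (ModuleCat.ofHom f)).subsingleton

variable [IsNoetherianRing R]

theorem one_le_idealDepth_of_injective {N' N : Type v} [AddCommGroup N'] [Module R N']
    [Module.Finite R N'] [AddCommGroup N] [Module R N] [Module.Finite R N]
    (f : N' →ₗ[R] N) (hf : Function.Injective f)
    (h : 1 ≤ LocCoh.idealDepth I N) : 1 ≤ LocCoh.idealDepth I N' := by
  have h' : ((1 : ℕ) : ℕ∞) ≤ LocCoh.idealDepth I N := by simpa using h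
  rw [natCast_le_idealDepth_iff_extVanish] at h'
  have := extVanish_one_of_injective I f hf h'
  rw [← natCast_le_idealDepth_iff_extVanish] at this
  simpa using this

theorem idealDepth_ker {E0 E1 : Type v} [AddCommGroup E0] [Module R E0] [Module.Finite R E0]
    [AddCommGroup E1] [Module R E1] [Module.Finite R E1] (u : E0 →ₗ[R] E1) :
    (1 ≤ LocCoh.idealDepth I E0 → 1 ≤ LocCoh.idealDepth I (LinearMap.ker u)) ∧
    (2 ≤ LocCoh.idealDepth I E0 → 1 ≤ LocCoh.idealDepth I E1 →
      2 ≤ LocCoh.idealDepth I (LinearMap.ker u)) := by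
  refine ⟨fun h => one_le_idealDepth_of_injective I (LinearMap.ker u).subtype
    (Submodule.injective_subtype _) h, fun h0 h1 => ?_⟩
  have h0' : ((2 : ℕ) : ℕ∞) ≤ LocCoh.idealDepth I E0 := by simpa using h0
  have h1' : ((1 : ℕ) : ℕ∞) ≤ LocCoh.idealDepth I E1 := by simpa using h1
  rw [natCast_le_idealDepth_iff_extVanish] at h0' h1'
  have hr : ExtVanish I (LinearMap.range u) 1 :=
    extVanish_one_of_injective I (LinearMap.range u).subtype (Submodule.injective_subtype _) h1'
  have hk : ExtVanish I (LinearMap.ker u) 2 :=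
    extVanish_left I (LinearMap.ker u).subtype u.rangeRestrict (Submodule.injective_subtype _)
      u.surjective_rangeRestrict (by
        intro x
        constructor
        · intro hx
          have hx' : u x = 0 := congrArg Subtype.val hx
          exact ⟨⟨x, hx'⟩, rfl⟩
        · rintro ⟨⟨y, hy⟩, rfl⟩
          exact Subtype.ext hy) 2 h0' hr
  rw [← natCast_le_idealDepth_iff_extVanish] at hk
  simpa using hk

end Kernel


section PiFin

variable {R : Type u} [CommRing R]

theorem idealDepth_eq_top_of_subsingleton (I : Ideal R) (M : Type v) [AddCommGroup M] [Module R M]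
    [Subsingleton M] : LocCoh.idealDepth I M = ⊤ :=
  idealDepth_eq_top_of_smul_top_eq_top I M (Subsingleton.elim _ _)

variable [Small.{v} R] [IsNoetherianRing R] (I : Ideal R) (M : Type v) [AddCommGroup M]
  [Module R M] [Module.Finite R M]

theorem idealDepth_le_idealDepth_pi_fin (n : ℕ) :
    LocCoh.idealDepth I M ≤ LocCoh.idealDepth I (Fin n → M) := by
  induction n with
  | zero => rw [idealDepth_eq_top_of_subsingleton I (Fin 0 → M)]; exact le_top
  | succ n ih =>
    let f : M →ₗ[R] (Fin (n + 1) → M) := LinearMap.single R (fun _ => M) 0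
    let g : (Fin (n + 1) → M) →ₗ[R] (Fin n → M) :=
      LinearMap.pi fun i => LinearMap.proj i.succ
    have hf : Function.Injective f := Pi.single_injective (M := fun _ : Fin (n + 1) => M) 0
    have hg : Function.Surjective g := by
      intro v
      refine ⟨Fin.cons 0 v, ?_⟩
      ext i
      simp [g]
    have hfg : Function.Exact f g := by
      intro v
      constructor
      · intro hv
        refine ⟨v 0, ?_⟩
        ext i
        refine Fin.cases ?_ (fun j => ?_) i
        · simp [f]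
        · have := congrFun hv j
          simp only [g, LinearMap.pi_apply, LinearMap.proj_apply, Pi.zero_apply] at this
          simp [f, this]
      · rintro ⟨m, rfl⟩
        ext i
        simp [f, g]
    have := min_idealDepth_le_mid I f g hf hg hfg
    exact le_trans (le_min le_rfl ih) this

end PiFin


section Dual

variable {B : Type u} [CommRing B] [IsNoetherianRing B] (I : Ideal B) (M : Type v)
  [AddCommGroup M] [Module B M] [Module.Finite B M]

/-- The dual of a finite module is the kernel of a map between duals of finite free modules. -/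
theorem exists_dual_equiv_ker :
    ∃ (n m : ℕ) (u : ((Fin n → B) →ₗ[B] B) →ₗ[B] ((Fin m → B) →ₗ[B] B)),
      Nonempty ((M →ₗ[B] B) ≃ₗ[B] LinearMap.ker u) := by
  obtain ⟨n, π, hπ⟩ := Module.Finite.exists_fin' B M
  obtain ⟨m, ρ, hρ⟩ := Module.Finite.exists_fin' B (LinearMap.ker π)
  let φ : (Fin m → B) →ₗ[B] (Fin n → B) := (LinearMap.ker π).subtype ∘ₗ ρ
  have hφ : LinearMap.range φ = LinearMap.ker π := by
    rw [LinearMap.range_comp, LinearMap.range_eq_top.mpr hρ, Submodule.map_top,
      Submodule.range_subtype]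
  let u : ((Fin n → B) →ₗ[B] B) →ₗ[B] ((Fin m → B) →ₗ[B] B) := φ.dualMap
  have hmem : ∀ f : M →ₗ[B] B, π.dualMap f ∈ LinearMap.ker u := by
    intro f
    rw [LinearMap.mem_ker]
    have hx : ∀ y, π (φ y) = 0 := by
      intro y
      have : φ y ∈ LinearMap.ker π := hφ ▸ LinearMap.mem_range_self φ y
      exact this
    ext x
    simp [u, LinearMap.dualMap_apply, hx]
  let e0 : (M →ₗ[B] B) →ₗ[B] LinearMap.ker u := LinearMap.codRestrict _ π.dualMap hmem
  have he0 : Function.Bijective e0 := by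
    constructor
    · intro f g hfg
      have h1 : π.dualMap f = π.dualMap g := congrArg Subtype.val hfg
      ext x
      obtain ⟨y, rfl⟩ := hπ x
      exact LinearMap.congr_fun h1 y
    · rintro ⟨g, hg⟩
      have hle : LinearMap.ker π ≤ LinearMap.ker g := by
        rw [← hφ]
        rintro _ ⟨x, rfl⟩
        rw [LinearMap.mem_ker] at hg ⊢
        exact LinearMap.congr_fun hg x
      let f : M →ₗ[B] B :=
        ((LinearMap.ker π).liftQ g hle) ∘ₗ (π.quotKerEquivOfSurjective hπ).symm.toLinearMap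
      refine ⟨f, Subtype.ext ?_⟩
      ext x
      change f (π (Pi.single x 1)) = g (Pi.single x 1)
      simp only [f, LinearMap.comp_apply, LinearEquiv.coe_coe]
      have : (π.quotKerEquivOfSurjective hπ).symm (π (Pi.single x 1))
          = Submodule.Quotient.mk (Pi.single x 1) := by
        rw [LinearEquiv.symm_apply_eq]
        rfl
      rw [this, Submodule.liftQ_apply]
  exact ⟨n, m, u, ⟨LinearEquiv.ofBijective e0 he0⟩⟩

omit [IsNoetherianRing B] in
theorem idealDepth_dual_pi_fin (n : ℕ) :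
    LocCoh.idealDepth I ((Fin n → B) →ₗ[B] B) = LocCoh.idealDepth I (Fin n → B) :=
  (idealDepth_congr (Pi.basisFun B (Fin n)).toDualEquiv I).symm

theorem two_le_idealDepth_dual (h : 2 ≤ LocCoh.idealDepth I B) :
    2 ≤ LocCoh.idealDepth I (M →ₗ[B] B) := by
  obtain ⟨n, m, u, ⟨e⟩⟩ := exists_dual_equiv_ker (B := B) M
  have he : LocCoh.idealDepth I (M →ₗ[B] B) = LocCoh.idealDepth I (LinearMap.ker u) :=
    idealDepth_congr e I
  rw [he]
  refine (idealDepth_ker I u).2 ?_ ?_
  · rw [idealDepth_dual_pi_fin]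
    exact h.trans (idealDepth_le_idealDepth_pi_fin I B n)
  · rw [idealDepth_dual_pi_fin]
    exact (le_trans (by norm_num) h).trans (idealDepth_le_idealDepth_pi_fin I B m)

theorem one_le_idealDepth_dual (h : 1 ≤ LocCoh.idealDepth I B) :
    1 ≤ LocCoh.idealDepth I (M →ₗ[B] B) := by
  obtain ⟨n, m, u, ⟨e⟩⟩ := exists_dual_equiv_ker (B := B) M
  have he : LocCoh.idealDepth I (M →ₗ[B] B) = LocCoh.idealDepth I (LinearMap.ker u) :=
    idealDepth_congr e I
  rw [he]
  refine (idealDepth_ker I u).1 ?_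
  rw [idealDepth_dual_pi_fin]
  exact h.trans (idealDepth_le_idealDepth_pi_fin I B n)

end Dual

end Groth.Agent.Lib.Helper28
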