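import Mathlib
import Groth.Agent.Lib.Helper28Depth

/-!
# Depth zero (helper5, on top of helper28's depth library)

* `forall_not_isSMulRegular_iff_maximalIdeal_mem_associatedPrimes`
* `depth_eq_zero_iff_maximalIdeal_mem_associatedPrimes`: EGA 0_IV 16.4.6 (i).
* `depth_self_eq_zero_iff_isField`: a reduced Noetherian local ring has depth 0 iff it is a field.
-/

set_option autoImplicit false
universe u v w

namespace Groth.Agent.Lib.Helper5

open Module Submodule

section
variable {A : Type u} [CommRing A] [IsLocalRing A] [IsNoetherianRing A]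
  {M : Type v} [AddCommGroup M] [Module A M] [Module.Finite A M]

omit [IsNoetherianRing A] in
theorem maximalIdeal_smul_top_ne_top [Nontrivial M] :
    IsLocalRing.maximalIdeal A • (⊤ : Submodule A M) ≠ ⊤ :=
  (Submodule.top_ne_ideal_smul_of_le_jacobson_annihilator
    (IsLocalRing.maximalIdeal_le_jacobson _)).symm

/-- No element of the maximal ideal is `M`-regular iff the maximal ideal is associated to `M`. -/
theorem forall_not_isSMulRegular_iff_maximalIdeal_mem_associatedPrimes :
    (∀ r ∈ IsLocalRing.maximalIdeal A, ¬ IsSMulRegular M r) ↔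
      IsLocalRing.maximalIdeal A ∈ associatedPrimes A M := by
  constructor
  · intro h
    by_cases hM : Subsingleton M
    · exact absurd (fun a b _ => Subsingleton.elim a b : IsSMulRegular M (0 : A))
        (h 0 (zero_mem _))
    rw [not_subsingleton_iff_nontrivial] at hM
    have hsub : ((IsLocalRing.maximalIdeal A : Ideal A) : Set A) ⊆
        ⋃ p ∈ associatedPrimes A M, (p : Set A) := by
      rw [biUnion_associatedPrimes_eq_compl_regular A M]
      intro r hr
      exact h r hr
    obtain ⟨p0, hp0⟩ := associatedPrimes.nonempty A M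
    obtain ⟨p, hpA, hle⟩ := (Ideal.subset_union_prime_finite (associatedPrimes.finite A M) p0 p0
      (fun I hI _ _ => IsAssociatedPrime.isPrime hI)).mp hsub
    have hpp : p.IsPrime := IsAssociatedPrime.isPrime hpA
    have : IsLocalRing.maximalIdeal A = p :=
      (IsLocalRing.maximalIdeal.isMaximal A).eq_of_le hpp.ne_top hle
    rw [this]
    exact hpA
  · intro h r hr hreg
    obtain ⟨hprime, x, hx⟩ := (isAssociatedPrime_iff).mp h
    have hx0 : x ≠ 0 := by
      rintro rfl
      apply hprime.ne_top
      rw [hx, eq_top_iff]
      intro a _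
      rw [Submodule.mem_colon_singleton, smul_zero]
      exact Submodule.zero_mem _
    rw [hx, Submodule.mem_colon_singleton, Submodule.mem_bot] at hr
    apply hx0
    apply hreg
    change r • x = r • 0
    rw [hr, smul_zero]

/-- EGA 0_IV 16.4.6 (i): depth zero iff the maximal ideal is an associated prime. -/
theorem depth_eq_zero_iff_maximalIdeal_mem_associatedPrimes :
    LocCoh.depth A M = 0 ↔ IsLocalRing.maximalIdeal A ∈ associatedPrimes A M := by
  by_cases hM : Subsingleton M
  · constructor
    · intro h
      rw [LocCoh.depth, Groth.Agent.Lib.Helper28.idealDepth_eq_top_of_subsingleton] at h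
      simp at h
    · intro h
      rw [associatedPrimes.eq_empty_of_subsingleton] at h
      exact absurd h (Set.notMem_empty _)
  rw [not_subsingleton_iff_nontrivial] at hM
  have hIM := maximalIdeal_smul_top_ne_top (A := A) (M := M)
  rw [← forall_not_isSMulRegular_iff_maximalIdeal_mem_associatedPrimes]
  have h1 := Groth.Agent.Lib.Helper28.one_le_idealDepth_iff hIM
  rw [LocCoh.depth]
  constructor
  · intro h r hr hreg
    have : 1 ≤ LocCoh.idealDepth (IsLocalRing.maximalIdeal A) M := h1.mpr ⟨r, hr, hreg⟩
    rw [h] at this
    simp at this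
  · intro h
    exact Groth.Agent.Lib.Helper28.idealDepth_eq_zero_of_forall_not_isSMulRegular hIM h


/-- EGA 0_IV 16.4.6 (ii)-style: a reduced Noetherian local ring has depth 0 iff it is a field. -/
theorem depth_self_eq_zero_iff_isField [IsReduced A] : LocCoh.depth A A = 0 ↔ IsField A := by
  rw [depth_eq_zero_iff_maximalIdeal_mem_associatedPrimes, IsLocalRing.isField_iff_maximalIdeal_eq]
  constructor
  · intro h
    obtain ⟨hprime, x, hx⟩ := (isAssociatedPrime_iff).mp h
    have hx0 : x ≠ 0 := by
      rintro rfl
      apply hprime.ne_top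
      rw [hx, eq_top_iff]
      intro a _
      rw [Submodule.mem_colon_singleton, smul_zero]
      exact Submodule.zero_mem _
    have hxm : x ∉ IsLocalRing.maximalIdeal A := by
      intro hxm
      have h1 : x ∈ (⊥ : Submodule A A).colon {x} := hx ▸ hxm
      rw [Submodule.mem_colon_singleton, Submodule.mem_bot, smul_eq_mul] at h1
      have : x ^ 2 = 0 := by rw [pow_two]; exact h1
      exact hx0 (pow_eq_zero_iff (n := 2) (by norm_num) |>.mp this)
    have hu : IsUnit x := by
      by_contra hnu
      exact hxm ((IsLocalRing.mem_maximalIdeal x).mpr hnu)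
    rw [eq_bot_iff]
    intro y hy
    rw [hx, Submodule.mem_colon_singleton, Submodule.mem_bot, smul_eq_mul] at hy
    rw [Ideal.mem_bot]
    exact (hu.mul_left_eq_zero).mp hy
  · intro h
    have hfield : IsField A := IsLocalRing.isField_iff_maximalIdeal_eq.mpr h
    rw [h]
    rw [AssociatedPrimes.mem_iff, isAssociatedPrime_iff]
    have hdom : IsDomain A := hfield.isDomain
    refine ⟨Ideal.isPrime_bot, 1, ?_⟩
    ext a
    rw [Submodule.mem_colon_singleton, Submodule.mem_bot, smul_eq_mul, mul_one, Ideal.mem_bot]


end

end Groth.Agent.Lib.Helper5
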