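import Mathlib
import Groth.Agent.S14388
import Groth.Agent.S0973

/-!
# Dévissage in the derived category (helper1)

* `induction_homology`: a property of objects of `D(A)` that is closed under isomorphisms, contains
  the zero objects and is closed under extensions holds for every cohomologically bounded object
  as soon as it holds for the shifted cohomology objects `H^j(K)[-j]`.
* `exists_step`: peeling off the top term of a bounded complex (stupid truncation) as a
  distinguished triangle.
* `induction_terms`: same for a bounded complex and its terms `K^j[-j]`.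
-/
set_option autoImplicit false
universe w v u
open CategoryTheory CategoryTheory.Limits

namespace Groth.Agent.Lib.Helper1.Devissage

open DerivedCategory Pretriangulated HomologicalComplex
open Groth.Agent.S14388

variable {A : Type u} [Category.{v} A] [Abelian A] [HasDerivedCategory.{w} A]

/-- dévissage along the canonical truncations -/
theorem induction_homology (P : ObjectProperty (DerivedCategory A)) [P.IsClosedUnderIsomorphisms]
    (hzero : ∀ K : DerivedCategory A, IsZero K → P K)
    (hext : ∀ T : Triangle (DerivedCategory A), T ∈ distTriang (DerivedCategory A) →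
      P T.obj₁ → P T.obj₃ → P T.obj₂) (k : ℕ) :
    ∀ (K : DerivedCategory A) (a : ℤ), K.IsGE a → K.IsLE (a + k - 1) →
      (∀ j : ℤ, a ≤ j → j ≤ a + k - 1 →
        P ((singleFunctor A j).obj ((homologyFunctor A j).obj K))) → P K := by
  induction k with
  | zero =>
    intro K a hGE hLE _
    exact hzero K (tt.isZero K (a + ((0 : ℕ) : ℤ) - 1) a (by simp))
  | succ k ih =>
    intro K a hGE hLE hP
    have hc : a + ((k + 1 : ℕ) : ℤ) - 1 = a + k := by push_cast; ring
    rw [hc] at hLE
    obtain ⟨c, hcdef⟩ : ∃ c : ℤ, c = a + k := ⟨_, rfl⟩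
    rw [← hcdef] at hLE
    have hT := tt.triangleLTGE_distinguished c K
    have hQGE : ((tt.truncGE c).obj K).IsGE c := inferInstance
    have hQLE : ((tt.truncGE c).obj K).IsLE c := inferInstance
    obtain ⟨eQ⟩ := Groth.Agent.S0973.iso_single_of_amp ((tt.truncGE c).obj K) c
    have hπiso := isIso_homology_truncGEπ c c le_rfl K
    let eH : (homologyFunctor A c).obj ((tt.truncGE c).obj K) ≅ (homologyFunctor A c).obj K :=
      (asIso ((homologyFunctor A c).map ((tt.truncGEπ c).app K))).symm
    let e : (tt.truncGE c).obj K ≅ (singleFunctor A c).obj ((homologyFunctor A c).obj K) :=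
      eQ ≪≫ (singleFunctor A c).mapIso eH
    have hP3 : P ((tt.truncGE c).obj K) :=
      P.prop_of_iso e.symm (hP c (by omega) (by rw [hc]; omega))
    have hP1 : P ((tt.truncLT c).obj K) := by
      apply ih ((tt.truncLT c).obj K) a inferInstance
      · have : ((tt.truncLT c).obj K).IsLE (c - 1) := inferInstance
        have e' : a + (k : ℤ) - 1 = c - 1 := by rw [hcdef]
        rw [e']
        exact this
      · intro j hj1 hj2
        have hjc : j < c := by omega
        have hιiso := isIso_homology_truncLTι c j hjc K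
        let eJ : (homologyFunctor A j).obj ((tt.truncLT c).obj K) ≅ (homologyFunctor A j).obj K :=
          asIso ((homologyFunctor A j).map ((tt.truncLTι c).app K))
        exact P.prop_of_iso ((singleFunctor A j).mapIso eJ).symm (hP j hj1 (by rw [hc]; omega))
    exact hext _ hT hP1 hP3

/-- dévissage along the canonical truncations, interval form -/
theorem induction_homology' (P : ObjectProperty (DerivedCategory A)) [P.IsClosedUnderIsomorphisms]
    (hzero : ∀ K : DerivedCategory A, IsZero K → P K)
    (hext : ∀ T : Triangle (DerivedCategory A), T ∈ distTriang (DerivedCategory A) →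
      P T.obj₁ → P T.obj₃ → P T.obj₂)
    (K : DerivedCategory A) (a b : ℤ)
    (hK : ∀ i : ℤ, (i < a ∨ b < i) → IsZero ((homologyFunctor A i).obj K))
    (hP : ∀ j : ℤ, a ≤ j → j ≤ b → P ((singleFunctor A j).obj ((homologyFunctor A j).obj K))) :
    P K := by
  have hGE : K.IsGE a := (DerivedCategory.isGE_iff K a).2 (fun i hi => hK i (Or.inl hi))
  have hLE : K.IsLE b := (DerivedCategory.isLE_iff K b).2 (fun i hi => hK i (Or.inr hi))
  by_cases hab : a ≤ b + 1
  · obtain ⟨k, hk⟩ : ∃ k : ℕ, (k : ℤ) = b + 1 - a := ⟨(b + 1 - a).toNat, Int.toNat_of_nonneg (by omega)⟩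
    have hb : a + (k : ℤ) - 1 = b := by omega
    apply induction_homology P hzero hext k K a hGE (by rw [hb]; exact hLE)
    intro j hj1 hj2
    exact hP j hj1 (by omega)
  · exact hzero K (tt.isZero K b a (by omega))

section complexes

/-- peeling off the top term of a bounded complex -/
lemma exists_step (E : CochainComplex A ℤ) (b : ℤ) (hE : ∀ i : ℤ, b < i → IsZero (E.X i)) :
    ∃ (C : CochainComplex A ℤ) (f : (singleFunctor A b).obj (E.X b) ⟶ Q.obj E)
      (g : Q.obj E ⟶ Q.obj C) (δ : Q.obj C ⟶ ((singleFunctor A b).obj (E.X b))⟦(1 : ℤ)⟧),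
      Triangle.mk f g δ ∈ distTriang (DerivedCategory A) ∧ IsZero (C.X b) ∧
        ∀ i : ℤ, i ≠ b → Nonempty (E.X i ≅ C.X i) := by
  obtain ⟨ι, hι⟩ : ∃ ι : (single A (ComplexShape.up ℤ) b).obj (E.X b) ⟶ E,
      ι.f b = (singleObjXSelf (ComplexShape.up ℤ) b (E.X b)).hom :=
    ⟨mkHomFromSingle (𝟙 _) (fun k hk => by
      obtain rfl : b + 1 = k := hk
      exact (hE (b + 1) (by lia)).eq_of_tgt _ _), by
      rw [mkHomFromSingle_f, Category.comp_id]⟩
  have hmono : Mono ι := by
    apply HomologicalComplex.mono_of_mono_f
    intro i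
    by_cases hi : i = b
    · subst hi
      rw [hι]
      infer_instance
    · exact (isZero_single_obj_X (ComplexShape.up ℤ) b (E.X b) i hi).mono _
  let S : ShortComplex (CochainComplex A ℤ) :=
    ShortComplex.mk ι (cokernel.π ι) (cokernel.condition ι)
  have hS : S.ShortExact :=
    { exact := ShortComplex.exact_cokernel ι
      mono_f := hmono
      epi_g := inferInstanceAs (Epi (cokernel.π ι)) }
  have hSi : ∀ i : ℤ, (S.map (eval _ _ i)).ShortExact :=
    (HomologicalComplex.shortExact_iff_degreewise_shortExact S).1 hS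
  have hiso : ∀ i : ℤ, i ≠ b → IsIso ((cokernel.π ι).f i) := fun i hi =>
    (hSi i).isIso_g_iff.2 (isZero_single_obj_X (ComplexShape.up ℤ) b (E.X b) i hi)
  have hzero : IsZero ((cokernel ι).X b) :=
    (hSi b).isIso_f_iff.1 (by
      show IsIso (ι.f b)
      rw [hι]
      infer_instance)
  refine ⟨cokernel ι, Q.map ι, Q.map (cokernel.π ι), triangleOfSESδ hS,
    triangleOfSES_distinguished hS, hzero, fun i hi => ?_⟩
  have := hiso i hi
  exact ⟨asIso ((cokernel.π ι).f i)⟩

/-- dévissage along the stupid truncations -/
theorem induction_terms (P : ObjectProperty (DerivedCategory A)) [P.IsClosedUnderIsomorphisms]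
    (hzero : ∀ K : DerivedCategory A, IsZero K → P K)
    (hext : ∀ T : Triangle (DerivedCategory A), T ∈ distTriang (DerivedCategory A) →
      P T.obj₁ → P T.obj₃ → P T.obj₂)
    (hiso : ∀ (j : ℤ) (X Y : A), Nonempty (X ≅ Y) → P ((singleFunctor A j).obj X) →
      P ((singleFunctor A j).obj Y)) (k : ℕ) :
    ∀ (E : CochainComplex A ℤ) (a : ℤ),
      (∀ i : ℤ, (i < a ∨ a + k - 1 < i) → IsZero (E.X i)) →
      (∀ j : ℤ, a ≤ j → j ≤ a + k - 1 → P ((singleFunctor A j).obj (E.X j))) → P (Q.obj E) := by
  induction k with
  | zero =>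
    intro E a hE _
    apply hzero
    have : IsZero E := by
      rw [IsZero.iff_id_eq_zero]
      ext i : 1
      exact (hE i (by
        by_cases h : i < a
        · exact Or.inl h
        · exact Or.inr (by push_cast; omega))).eq_of_src _ _
    exact Q.map_isZero this
  | succ k ih =>
    intro E a hE hP
    have hc : a + ((k + 1 : ℕ) : ℤ) - 1 = a + k := by push_cast; ring
    rw [hc] at hE hP
    obtain ⟨C, f, g, δ, hT, hCb, hCi⟩ := exists_step E (a + k) (fun i hi => hE i (Or.inr hi))
    have hP3 : P (Q.obj C) := by
      apply ih C a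
      · intro i hi
        by_cases hib : i = a + k
        · subst hib
          exact hCb
        · obtain ⟨e⟩ := hCi i hib
          exact (hE i (by omega)).of_iso e.symm
      · intro j hj1 hj2
        obtain ⟨e⟩ := hCi j (by omega)
        exact hiso j _ _ ⟨e⟩ (hP j hj1 (by omega))
    exact hext _ hT (hP (a + k) (by omega) le_rfl) hP3

/-- dévissage along the stupid truncations, interval form -/
theorem induction_terms' (P : ObjectProperty (DerivedCategory A)) [P.IsClosedUnderIsomorphisms]
    (hzero : ∀ K : DerivedCategory A, IsZero K → P K)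
    (hext : ∀ T : Triangle (DerivedCategory A), T ∈ distTriang (DerivedCategory A) →
      P T.obj₁ → P T.obj₃ → P T.obj₂)
    (hiso : ∀ (j : ℤ) (X Y : A), Nonempty (X ≅ Y) → P ((singleFunctor A j).obj X) →
      P ((singleFunctor A j).obj Y))
    (E : CochainComplex A ℤ) (a b : ℤ) (hE : ∀ i : ℤ, (i < a ∨ b < i) → IsZero (E.X i))
    (hP : ∀ j : ℤ, a ≤ j → j ≤ b → P ((singleFunctor A j).obj (E.X j))) : P (Q.obj E) := by
  by_cases hab : a ≤ b + 1
  · obtain ⟨k, hk⟩ : ∃ k : ℕ, (k : ℤ) = b + 1 - a := ⟨(b + 1 - a).toNat, Int.toNat_of_nonneg (by omega)⟩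
    have hb : a + (k : ℤ) - 1 = b := by omega
    apply induction_terms P hzero hext hiso k E a
    · intro i hi
      exact hE i (by omega)
    · intro j hj1 hj2
      exact hP j hj1 (by omega)
  · apply hzero
    have : IsZero E := by
      rw [IsZero.iff_id_eq_zero]
      ext i : 1
      exact (hE i (by omega)).eq_of_src _ _
    exact Q.map_isZero this

end complexes

end Groth.Agent.Lib.Helper1.Devissage
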