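import Mathlib
import Groth.Agent.S6965
import Groth.Agent.S7036
import Groth.Agent.Lib.Helper1Devissage

/-!
# Finiteness of `Hom` modules in `D(A)` over a Noetherian ring (helper1)
-/
set_option autoImplicit false
universe u
open CategoryTheory CategoryTheory.Limits
attribute [local instance] HasDerivedCategory.standard

namespace Groth.Agent.Lib.Helper1.HomFinite

open DerivedCategory Pretriangulated Groth.Agent.S14388
open Groth.Agent.Lib.Helper1.Devissage

variable {A : Type u} [CommRing A]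

/-- middle term of a (half) exact sequence of modules over a Noetherian ring -/
lemma finite_of_exact [IsNoetherianRing A] {M₁ M₂ M₃ : Type*} [AddCommGroup M₁] [Module A M₁]
    [AddCommGroup M₂] [Module A M₂] [AddCommGroup M₃] [Module A M₃]
    (f : M₁ →ₗ[A] M₂) (g : M₂ →ₗ[A] M₃) (h : ∀ x, g x = 0 → ∃ y, f y = x)
    [Module.Finite A M₁] [Module.Finite A M₃] : Module.Finite A M₂ := by
  have hN3 : IsNoetherian A M₃ := isNoetherian_of_isNoetherianRing_of_finite A M₃
  have hfr : Module.Finite A (LinearMap.range f) := Module.Finite.range f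
  have hNr : IsNoetherian A (LinearMap.range f) := isNoetherian_of_isNoetherianRing_of_finite A _
  refine ⟨(⊤ : Submodule A M₂).fg_of_fg_map_of_fg_inf_ker g ?_ ?_⟩
  · exact IsNoetherian.noetherian _
  · rw [top_inf_eq]
    refine (isNoetherian_submodule.1 hNr) _ ?_
    intro x hx
    obtain ⟨y, hy⟩ := h x hx
    exact ⟨y, hy⟩

variable (A) in
/-- `Hom(M[0], N[n])` is finite for finite modules over a Noetherian ring -/
lemma finite_hom_single₀ [IsNoetherianRing A] (M N : ModuleCat.{u} A) [Module.Finite A M]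
    [Module.Finite A N] (n : ℤ) :
    Module.Finite A ((singleFunctor (ModuleCat.{u} A) 0).obj M ⟶
      (shiftFunctor (DerivedCategory (ModuleCat.{u} A)) n).obj ((singleFunctor (ModuleCat.{u} A) 0).obj N)) := by
  by_cases hn : n < 0
  · have hs : Subsingleton ((singleFunctor (ModuleCat.{u} A) 0).obj M ⟶
        (shiftFunctor (DerivedCategory (ModuleCat.{u} A)) n).obj
          ((singleFunctor (ModuleCat.{u} A) 0).obj N)) := by
      refine ⟨fun f g => ?_⟩
      have h1 : ((shiftFunctor (DerivedCategory (ModuleCat.{u} A)) n).obj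
          ((singleFunctor (ModuleCat.{u} A) 0).obj N)).IsGE (-n) :=
        tt.isGE_shift ((singleFunctor (ModuleCat.{u} A) 0).obj N) 0 n (-n) (by omega)
      rw [tt.zero_of_isLE_of_isGE f 0 (-n) (by omega) inferInstance h1,
        tt.zero_of_isLE_of_isGE g 0 (-n) (by omega) inferInstance h1]
    infer_instance
  · obtain ⟨m, rfl⟩ : ∃ m : ℕ, n = m := ⟨n.toNat, (Int.toNat_of_nonneg (by omega)).symm⟩
    exact Module.Finite.equiv (Abelian.Ext.homLinearEquiv (R := A) (X := M) (Y := N) (n := m))

variable (A) in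
/-- `Hom(M[-j], N[-l])` is finite for finite modules over a Noetherian ring -/
lemma finite_hom_single [IsNoetherianRing A] (M N : ModuleCat.{u} A) [Module.Finite A M]
    [Module.Finite A N] (j l : ℤ) :
    Module.Finite A ((singleFunctor (ModuleCat.{u} A) j).obj M ⟶
      (singleFunctor (ModuleCat.{u} A) l).obj N) := by
  obtain ⟨α, -⟩ : ∃ α : (shiftFunctor (DerivedCategory (ModuleCat.{u} A)) j).obj
      ((singleFunctor (ModuleCat.{u} A) j).obj M) ≅ (singleFunctor (ModuleCat.{u} A) 0).obj M,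
      α = ((DerivedCategory.singleFunctors (ModuleCat.{u} A)).shiftIso j 0 j (by lia)).app M :=
    ⟨_, rfl⟩
  obtain ⟨β₁, -⟩ : ∃ β₁ : (singleFunctor (ModuleCat.{u} A) l).obj N ≅
      (shiftFunctor (DerivedCategory (ModuleCat.{u} A)) (-l)).obj
        ((singleFunctor (ModuleCat.{u} A) 0).obj N),
      β₁ = (((DerivedCategory.singleFunctors (ModuleCat.{u} A)).shiftIso (-l) l 0 (by lia)).app N).symm :=
    ⟨_, rfl⟩
  obtain ⟨β₂, -⟩ : ∃ β₂ : (shiftFunctor (DerivedCategory (ModuleCat.{u} A)) j).obj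
      ((shiftFunctor (DerivedCategory (ModuleCat.{u} A)) (-l)).obj
        ((singleFunctor (ModuleCat.{u} A) 0).obj N)) ≅
      (shiftFunctor (DerivedCategory (ModuleCat.{u} A)) (j - l)).obj
        ((singleFunctor (ModuleCat.{u} A) 0).obj N),
      β₂ = ((shiftFunctorAdd' (DerivedCategory (ModuleCat.{u} A)) (-l) j (j - l) (by lia)).app _).symm :=
    ⟨_, rfl⟩
  obtain ⟨γ, hγ⟩ : ∃ γ : (shiftFunctor (DerivedCategory (ModuleCat.{u} A)) j).obj
      ((singleFunctor (ModuleCat.{u} A) l).obj N) ≅
      (shiftFunctor (DerivedCategory (ModuleCat.{u} A)) (j - l)).obj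
        ((singleFunctor (ModuleCat.{u} A) 0).obj N),
      γ = (shiftFunctor (DerivedCategory (ModuleCat.{u} A)) j).mapIso β₁ ≪≫ β₂ := ⟨_, rfl⟩
  let Φ : ((singleFunctor (ModuleCat.{u} A) j).obj M ⟶ (singleFunctor (ModuleCat.{u} A) l).obj N) →ₗ[A]
      ((singleFunctor (ModuleCat.{u} A) 0).obj M ⟶
        (shiftFunctor (DerivedCategory (ModuleCat.{u} A)) (j - l)).obj
          ((singleFunctor (ModuleCat.{u} A) 0).obj N)) :=
    (Linear.leftComp A _ α.inv).comp ((Linear.rightComp A _ γ.hom).comp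
      ((shiftFunctor (DerivedCategory (ModuleCat.{u} A)) j).mapLinearMap A))
  have hΦ : Function.Injective Φ := by
    rw [← LinearMap.ker_eq_bot, LinearMap.ker_eq_bot']
    intro f hf
    have h1 : α.inv ≫ (shiftFunctor (DerivedCategory (ModuleCat.{u} A)) j).map f ≫ γ.hom = 0 := hf
    have h2 : (shiftFunctor (DerivedCategory (ModuleCat.{u} A)) j).map f = 0 := by
      have h3 : α.hom ≫ (α.inv ≫ (shiftFunctor (DerivedCategory (ModuleCat.{u} A)) j).map f ≫ γ.hom) ≫
          γ.inv = 0 := by rw [h1, zero_comp, comp_zero]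
      simpa using h3
    exact (shiftFunctor (DerivedCategory (ModuleCat.{u} A)) j).map_injective
      (by rw [h2, Functor.map_zero])
  have hfin := finite_hom_single₀ A M N (j - l)
  have hN : IsNoetherian A ((singleFunctor (ModuleCat.{u} A) 0).obj M ⟶
        (shiftFunctor (DerivedCategory (ModuleCat.{u} A)) (j - l)).obj
          ((singleFunctor (ModuleCat.{u} A) 0).obj N)) :=
    isNoetherian_of_isNoetherianRing_of_finite A _
  exact Module.Finite.of_injective Φ hΦ

/-- objects `Y` with `Hom(S, Y)` finite -/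
def finHomFrom (A : Type u) [CommRing A] (S : DerivedCategory (ModuleCat.{u} A)) :
    ObjectProperty (DerivedCategory (ModuleCat.{u} A)) := fun Y => Module.Finite A (S ⟶ Y)

/-- objects `X` with `Hom(X, Y)` finite -/
def finHomTo (A : Type u) [CommRing A] (Y : DerivedCategory (ModuleCat.{u} A)) :
    ObjectProperty (DerivedCategory (ModuleCat.{u} A)) := fun X => Module.Finite A (X ⟶ Y)

instance (S : DerivedCategory (ModuleCat.{u} A)) : (finHomFrom A S).IsClosedUnderIsomorphisms :=
  ⟨fun {Y Y'} e (h : Module.Finite A (S ⟶ Y)) =>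
    Module.Finite.of_surjective (Linear.rightComp A S e.hom) (fun f => ⟨f ≫ e.inv, by simp⟩)⟩

instance (Y : DerivedCategory (ModuleCat.{u} A)) : (finHomTo A Y).IsClosedUnderIsomorphisms :=
  ⟨fun {X X'} e (h : Module.Finite A (X ⟶ Y)) =>
    Module.Finite.of_surjective (Linear.leftComp A Y e.inv) (fun f => ⟨e.hom ≫ f, by simp⟩)⟩

lemma finHomFrom_zero (S Y : DerivedCategory (ModuleCat.{u} A)) (hY : IsZero Y) :
    finHomFrom A S Y := by
  have : Subsingleton (S ⟶ Y) := ⟨fun f g => hY.eq_of_tgt f g⟩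
  exact inferInstanceAs (Module.Finite A (S ⟶ Y))

lemma finHomTo_zero (X Y : DerivedCategory (ModuleCat.{u} A)) (hX : IsZero X) :
    finHomTo A Y X := by
  have : Subsingleton (X ⟶ Y) := ⟨fun f g => hX.eq_of_src f g⟩
  exact inferInstanceAs (Module.Finite A (X ⟶ Y))

lemma finHomFrom_ext [IsNoetherianRing A] (S : DerivedCategory (ModuleCat.{u} A))
    (T : Triangle (DerivedCategory (ModuleCat.{u} A)))
    (hT : T ∈ distTriang (DerivedCategory (ModuleCat.{u} A)))
    (h1 : finHomFrom A S T.obj₁) (h3 : finHomFrom A S T.obj₃) : finHomFrom A S T.obj₂ := by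
  have i1 : Module.Finite A (S ⟶ T.obj₁) := h1
  have i3 : Module.Finite A (S ⟶ T.obj₃) := h3
  exact finite_of_exact (Linear.rightComp A S T.mor₁) (Linear.rightComp A S T.mor₂) (fun f hf => by
    obtain ⟨g, hg⟩ := Triangle.coyoneda_exact₂ T hT f hf
    exact ⟨g, hg.symm⟩)

lemma finHomTo_ext [IsNoetherianRing A] (Y : DerivedCategory (ModuleCat.{u} A))
    (T : Triangle (DerivedCategory (ModuleCat.{u} A)))
    (hT : T ∈ distTriang (DerivedCategory (ModuleCat.{u} A)))
    (h1 : finHomTo A Y T.obj₁) (h3 : finHomTo A Y T.obj₃) : finHomTo A Y T.obj₂ := by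
  have i1 : Module.Finite A (T.obj₁ ⟶ Y) := h1
  have i3 : Module.Finite A (T.obj₃ ⟶ Y) := h3
  exact finite_of_exact (Linear.leftComp A Y T.mor₂) (Linear.leftComp A Y T.mor₁) (fun f hf => by
    obtain ⟨g, hg⟩ := Triangle.yoneda_exact₂ T hT f hf
    exact ⟨g, hg.symm⟩)

/-- `Hom(M[-j], Y)` is finite for a finite module `M` and `Y` in `D^b_coh` -/
lemma finite_hom_single_of_bounded [IsNoetherianRing A] (M : ModuleCat.{u} A) [Module.Finite A M]
    (j : ℤ) (Y : DerivedCategory (ModuleCat.{u} A)) (a b : ℤ)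
    (hY : ∀ i : ℤ, (i < a ∨ b < i) → IsZero ((homologyFunctor (ModuleCat.{u} A) i).obj Y))
    (hfin : ∀ i : ℤ, Module.Finite A ((homologyFunctor (ModuleCat.{u} A) i).obj Y)) :
    Module.Finite A ((singleFunctor (ModuleCat.{u} A) j).obj M ⟶ Y) := by
  apply induction_homology' (finHomFrom A ((singleFunctor (ModuleCat.{u} A) j).obj M))
    (fun Y hY => finHomFrom_zero _ Y hY) (fun T hT h1 h3 => finHomFrom_ext _ T hT h1 h3) Y a b hY
  intro l _ _
  have := hfin l
  exact finite_hom_single A M _ j l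

/-- `Hom(X, Y)` is finite for `X`, `Y` in `D^b_coh` of a Noetherian ring -/
lemma finite_hom_of_bounded [IsNoetherianRing A] (X Y : DerivedCategory (ModuleCat.{u} A)) (a b : ℤ)
    (hX : ∀ i : ℤ, (i < a ∨ b < i) → IsZero ((homologyFunctor (ModuleCat.{u} A) i).obj X))
    (hXfin : ∀ i : ℤ, Module.Finite A ((homologyFunctor (ModuleCat.{u} A) i).obj X)) (a' b' : ℤ)
    (hY : ∀ i : ℤ, (i < a' ∨ b' < i) → IsZero ((homologyFunctor (ModuleCat.{u} A) i).obj Y))
    (hYfin : ∀ i : ℤ, Module.Finite A ((homologyFunctor (ModuleCat.{u} A) i).obj Y)) :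
    Module.Finite A (X ⟶ Y) := by
  apply induction_homology' (finHomTo A Y)
    (fun X hX => finHomTo_zero X Y hX) (fun T hT h1 h3 => finHomTo_ext _ T hT h1 h3) X a b hX
  intro j _ _
  have := hXfin j
  exact finite_hom_single_of_bounded _ j Y a' b' hY hYfin

/-- no maps from `D^{≥ b+1}` into a bounded below complex of injectives living in degrees `≤ b` -/
lemma hom_eq_zero_of_inj (E : DRing.Cx A) (a b : ℤ) (hE : DRing.VanishesOutside E a b)
    (hinj : DRing.TermwiseInjective E) (X : DerivedCategory (ModuleCat.{u} A)) [X.IsGE (b + 1)]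
    (f : X ⟶ Q.obj E) : f = 0 := by
  have hinj' : ∀ n : ℤ, Injective (E.X n) := fun n =>
    Module.injective_object_of_injective_module A (E.X n) (inj := hinj n)
  have hge : E.IsStrictlyGE a := by
    rw [CochainComplex.isStrictlyGE_iff]
    intro n hn
    exact hE n (Or.inl hn)
  have hKI : E.IsKInjective := CochainComplex.isKInjective_of_injective _ a
  obtain ⟨X', hX', ⟨e'⟩⟩ := X.exists_iso_Q_obj_of_isGE (b + 1)
  obtain ⟨c, hc⟩ := Groth.Agent.S6965.exists_chain_map_inj X' E (e'.inv ≫ f)
  have hc0 : c = 0 := by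
    ext n : 1
    by_cases hn : n ≤ b
    · exact (X'.isZero_of_isStrictlyGE (b + 1) n (by omega)).eq_of_src _ _
    · exact (hE n (Or.inr (by omega))).eq_of_tgt _ _
  rw [← cancel_epi e'.inv, comp_zero, ← hc, hc0, Functor.map_zero]

/-- `Hom(K, L)` is finite when `K`, `L` have finite cohomology modules and `L` has finite injective
dimension -/
theorem finite_hom_of_finInj [IsNoetherianRing A] (K L : DerivedCategory (ModuleCat.{u} A))
    (hK : ∀ i : ℤ, Module.Finite A ((homologyFunctor (ModuleCat.{u} A) i).obj K))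
    (hL : ∀ i : ℤ, Module.Finite A ((homologyFunctor (ModuleCat.{u} A) i).obj L))
    (hLi : DRing.HasFiniteInjDim A L) : Module.Finite A (K ⟶ L) := by
  obtain ⟨a, b, E, hE, hinj, ⟨e⟩⟩ := hLi
  have hLz : ∀ i : ℤ, (i < a ∨ b < i) → IsZero ((homologyFunctor (ModuleCat.{u} A) i).obj L) := by
    intro i hi
    have hz : IsZero (E.homology i) := ShortComplex.isZero_homology_of_isZero_X₂ _ (hE i hi)
    exact hz.of_iso ((homologyFunctor (ModuleCat.{u} A) i).mapIso e.symm ≪≫
      (homologyFunctorFactors (ModuleCat.{u} A) i).app E)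
  have hLge : L.IsGE a := (DerivedCategory.isGE_iff L a).2 (fun i hi => hLz i (Or.inl hi))
  have hV : ∀ (X : DerivedCategory (ModuleCat.{u} A)), X.IsGE (b + 1) → ∀ f : X ⟶ L, f = 0 := by
    intro X hX f
    have := hom_eq_zero_of_inj E a b hE hinj X (f ≫ e.inv)
    rw [← cancel_mono e.inv, this, zero_comp]
  obtain ⟨K₁, hK₁⟩ : ∃ K₁ : DerivedCategory (ModuleCat.{u} A), K₁ = (tt.truncGE a).obj K := ⟨_, rfl⟩
  have hK₁ge : K₁.IsGE a := by rw [hK₁]; infer_instance
  obtain ⟨K₂, hK₂⟩ : ∃ K₂ : DerivedCategory (ModuleCat.{u} A), K₂ = (tt.truncLT (b + 1)).obj K₁ :=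
    ⟨_, rfl⟩
  have hK₂ge : K₂.IsGE a := by rw [hK₂]; infer_instance
  have hK₂le : K₂.IsLE b := by rw [hK₂]; exact tt.isLE_truncLT_obj K₁ (b + 1) b (by omega)
  have hfin2 : Module.Finite A (K₂ ⟶ L) := by
    apply finite_hom_of_bounded K₂ L a b ?_ ?_ a b hLz hL
    · intro i hi
      rcases hi with hi | hi
      · exact isZero_of_isGE _ a i hi
      · exact isZero_of_isLE _ b i hi
    · intro i
      by_cases hi : i < b + 1
      · by_cases hia : a ≤ i
        · have j1 := isIso_homology_truncLTι (b + 1) i hi K₁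
          have j2 := isIso_homology_truncGEπ a i hia K
          have := hK i
          subst hK₂ hK₁
          let eI : (homologyFunctor (ModuleCat.{u} A) i).obj K ≅
              (homologyFunctor (ModuleCat.{u} A) i).obj
                ((tt.truncLT (b + 1)).obj ((tt.truncGE a).obj K)) :=
            asIso ((homologyFunctor (ModuleCat.{u} A) i).map
              ((tt.truncGEπ a).app K)) ≪≫ (asIso ((homologyFunctor (ModuleCat.{u} A) i).map
              ((tt.truncLTι (b + 1)).app ((tt.truncGE a).obj K)))).symm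
          exact Module.Finite.equiv eI.toLinearEquiv
        · have hz : IsZero ((homologyFunctor (ModuleCat.{u} A) i).obj K₂) :=
            isZero_of_isGE _ a i (by omega)
          have := ModuleCat.subsingleton_of_isZero hz
          infer_instance
      · have hz : IsZero ((homologyFunctor (ModuleCat.{u} A) i).obj K₂) :=
          isZero_of_isLE _ b i (by omega)
        have := ModuleCat.subsingleton_of_isZero hz
        infer_instance
  have hfin1 : Module.Finite A (K₁ ⟶ L) := by
    have hN : IsNoetherian A (K₂ ⟶ L) := isNoetherian_of_isNoetherianRing_of_finite A _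
    subst hK₂
    refine Module.Finite.of_injective (Linear.leftComp A L ((tt.truncLTι (b + 1)).app K₁)) ?_
    rw [← LinearMap.ker_eq_bot, LinearMap.ker_eq_bot']
    intro f hf
    obtain ⟨g, hg⟩ := Triangle.yoneda_exact₂ _ (tt.triangleLTGE_distinguished (b + 1) K₁) f hf
    rw [hg, hV _ inferInstance g, comp_zero]
    rfl
  subst hK₁
  refine Module.Finite.of_surjective (Linear.leftComp A L ((tt.truncGEπ a).app K)) ?_
  intro f
  have h0 : (tt.truncLTι a).app K ≫ f = 0 :=
    tt.zero_of_isLE_of_isGE _ (a - 1) a (by omega) inferInstance hLge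
  obtain ⟨g, hg⟩ := Triangle.yoneda_exact₂ _ (tt.triangleLTGE_distinguished a K) f h0
  exact ⟨g, hg.symm⟩

end Groth.Agent.Lib.Helper1.HomFinite
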