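import Mathlib
import Groth.Agent.S1746
import Groth.Agent.S6965
import Groth.Agent.Lib.Helper1Devissage

/-!
# Normalized dualizing complexes: vanishing of positive Ext of finite modules (helper5)
-/

set_option autoImplicit false
universe u
open CategoryTheory CategoryTheory.Limits
attribute [local instance] HasDerivedCategory.standard

namespace Groth.Agent.Lib.Helper5.NormDual

open DerivedCategory Pretriangulated

variable {A : Type u} [CommRing A]

/-- transfer along a linear equivalence -/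
noncomputable def inDIso {M N : Type u} [AddCommGroup M] [Module A M] [AddCommGroup N]
    [Module A N] (e : M ≃ₗ[A] N) : Dual.inD A M ≅ Dual.inD A N :=
  (singleFunctor (ModuleCat.{u} A) 0).mapIso e.toModuleIso

lemma hasFiniteInjDim_of_isDualizing (ω : Dual.D A) (hω : Dual.IsDualizing A ω) :
    DRing.HasFiniteInjDim A ω := by
  obtain ⟨a, b, h⟩ := hω.finite_injective_dimension
  exact ⟨a, b, ((Groth.Agent.S6965.result A ω a b).out 1 0).mp h⟩

lemma finite_HD_inD (M : Type u) [AddCommGroup M] [Module A M] [Module.Finite A M] (j : ℤ) :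
    Module.Finite A (Dual.HD A (Dual.inD A M) j) := by
  by_cases hj : j = 0
  · subst hj
    let e := (singleFunctorCompHomologyFunctorIso (ModuleCat.{u} A) 0).app (ModuleCat.of A M)
    haveI : Module.Finite A ↑((𝟭 (ModuleCat.{u} A)).obj (ModuleCat.of A M)) :=
      ‹Module.Finite A M›
    exact Module.Finite.equiv e.symm.toLinearEquiv
  · have hz : IsZero ((homologyFunctor (ModuleCat.{u} A) j).obj (Dual.inD A M)) := by
      rcases lt_or_gt_of_ne hj with h | h
      · exact isZero_of_isGE _ 0 j h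
      · exact isZero_of_isLE _ 0 j h
    have := ModuleCat.subsingleton_of_isZero hz
    infer_instance

lemma finite_ext [IsNoetherianRing A] (ω : Dual.D A) (hω : Dual.IsDualizing A ω)
    (M : Type u) [AddCommGroup M] [Module A M] [Module.Finite A M] (i : ℤ) :
    Module.Finite A (Dual.inD A M ⟶ ω⟦i⟧) :=
  Groth.Agent.S1746.result A (Dual.inD A M) ω (finite_HD_inD M) hω.finite_cohomology
    (hasFiniteInjDim_of_isDualizing ω hω) i

lemma eq_zero_of_shortExact (S : ShortComplex (ModuleCat.{u} A)) (hS : S.ShortExact)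
    (Y : Dual.D A)
    (h1 : ∀ g : (singleFunctor (ModuleCat.{u} A) 0).obj S.X₁ ⟶ Y, g = 0)
    (h3 : ∀ g : (singleFunctor (ModuleCat.{u} A) 0).obj S.X₃ ⟶ Y, g = 0)
    (g : (singleFunctor (ModuleCat.{u} A) 0).obj S.X₂ ⟶ Y) : g = 0 := by
  obtain ⟨g', hg'⟩ := Triangle.yoneda_exact₂ _ hS.singleTriangle_distinguished g (h1 _)
  have hg0 : g' = 0 := h3 g'
  subst hg0
  exact hg'.trans comp_zero

lemma exists_factor_of_shortExact (S : ShortComplex (ModuleCat.{u} A)) (hS : S.ShortExact)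
    (Y : Dual.D A)
    (h3 : ∀ g : (singleFunctor (ModuleCat.{u} A) 0).obj S.X₃ ⟶ Y⟦(1 : ℤ)⟧, g = 0)
    (h : (singleFunctor (ModuleCat.{u} A) 0).obj S.X₁ ⟶ Y) :
    ∃ g : (singleFunctor (ModuleCat.{u} A) 0).obj S.X₂ ⟶ Y,
      h = (singleFunctor (ModuleCat.{u} A) 0).map S.f ≫ g := by
  have hT := hS.singleTriangle_distinguished
  have hT2 := rot_of_distTriang _ (rot_of_distTriang _ hT)
  obtain ⟨g', hg'⟩ := Triangle.yoneda_exact₂ _ hT2 (h⟦(1 : ℤ)⟧') (h3 _)
  obtain ⟨g4, rfl⟩ := (shiftFunctor (DerivedCategory (ModuleCat.{u} A)) (1 : ℤ)).map_surjective g'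
  obtain ⟨g'', rfl⟩ : ∃ g3 : (singleFunctor (ModuleCat.{u} A) 0).obj S.X₂ ⟶ Y, g3 = g4 := ⟨g4, rfl⟩
  have e : (h⟦(1 : ℤ)⟧') = (-((singleFunctor (ModuleCat.{u} A) 0).map S.f)⟦(1 : ℤ)⟧') ≫
      g''⟦(1 : ℤ)⟧' := hg'
  have e2 : (shiftFunctor (DerivedCategory (ModuleCat.{u} A)) (1 : ℤ)).map h =
      (shiftFunctor (DerivedCategory (ModuleCat.{u} A)) (1 : ℤ)).map
        (-((singleFunctor (ModuleCat.{u} A) 0).map S.f ≫ g'')) := by
    rw [e, Functor.map_neg, Functor.map_comp, Preadditive.neg_comp]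
  refine ⟨-g'', ?_⟩
  exact ((shiftFunctor (DerivedCategory (ModuleCat.{u} A)) (1 : ℤ)).map_injective e2).trans
    (Preadditive.comp_neg _ _).symm

lemma subsingleton_of_smul_surjective [IsLocalRing A] {E : Type*} [AddCommGroup E] [Module A E]
    [Module.Finite A E] (x : A) (hx : x ∈ IsLocalRing.maximalIdeal A)
    (h : ∀ e : E, ∃ e' : E, e = x • e') : Subsingleton E := by
  have htop : (⊤ : Submodule A E) = ⊥ := by
    refine Submodule.eq_bot_of_le_smul_of_le_jacobson_bot (IsLocalRing.maximalIdeal A) ⊤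
      Module.Finite.fg_top ?_ (IsLocalRing.maximalIdeal_le_jacobson _)
    intro e _
    obtain ⟨e', rfl⟩ := h e
    exact Submodule.smul_mem_smul hx Submodule.mem_top
  refine ⟨fun a b => ?_⟩
  have ha : a ∈ (⊤ : Submodule A E) := Submodule.mem_top
  have hb : b ∈ (⊤ : Submodule A E) := Submodule.mem_top
  rw [htop] at ha hb
  rw [(Submodule.mem_bot A).mp ha, (Submodule.mem_bot A).mp hb]

lemma quot_killed (J : Ideal A) : ∀ a ∈ J, ∀ m : A ⧸ J, a • m = 0 := by
  intro a ha m
  obtain ⟨b, rfl⟩ := Submodule.Quotient.mk_surjective J m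
  rw [← Submodule.Quotient.mk_smul, Submodule.Quotient.mk_eq_zero]
  exact J.mul_mem_right b ha

/-- the quotient map `A/q → A/(q + x)` -/
noncomputable def quotMap (q : Ideal A) (x : A) : (A ⧸ q) →ₗ[A] (A ⧸ (q ⊔ Ideal.span {x})) :=
  Submodule.mapQ q (q ⊔ Ideal.span {x}) LinearMap.id
    (by intro a ha; exact Ideal.mem_sup_left ha)

lemma quotMap_mk (q : Ideal A) (x : A) (a : A) :
    quotMap q x (Submodule.Quotient.mk a) = Submodule.Quotient.mk a := rfl

/-- `0 → A/q --x--> A/q → A/(q + x) → 0` -/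
noncomputable def mulSC (q : Ideal A) (x : A) : ShortComplex (ModuleCat.{u} A) where
  X₁ := ModuleCat.of A (A ⧸ q)
  X₂ := ModuleCat.of A (A ⧸ q)
  X₃ := ModuleCat.of A (A ⧸ (q ⊔ Ideal.span {x}))
  f := x • 𝟙 _
  g := ModuleCat.ofHom (quotMap q x)
  zero := by
    refine ModuleCat.hom_ext (LinearMap.ext fun y => ?_)
    obtain ⟨a, rfl⟩ := Submodule.Quotient.mk_surjective q y
    show quotMap q x (x • (Submodule.Quotient.mk a : A ⧸ q)) = 0
    rw [← Submodule.Quotient.mk_smul, quotMap_mk, Submodule.Quotient.mk_eq_zero]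
    exact Ideal.mem_sup_right (Ideal.mul_mem_right a _ (Ideal.subset_span rfl))

lemma mulSC_shortExact (q : Ideal A) [hq : q.IsPrime] (x : A) (hx : x ∉ q) :
    (mulSC q x).ShortExact := by
  refine ModuleCat.shortComplex_shortExact _ ?_ ?_ ?_
  · intro y
    constructor
    · intro hy
      obtain ⟨a, rfl⟩ := Submodule.Quotient.mk_surjective q y
      have h1 : (Submodule.Quotient.mk a : A ⧸ (q ⊔ Ideal.span {x})) = 0 := hy
      rw [Submodule.Quotient.mk_eq_zero] at h1
      obtain ⟨b, hb, c, hc, rfl⟩ := Submodule.mem_sup.mp h1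
      obtain ⟨d, rfl⟩ := Ideal.mem_span_singleton'.mp hc
      refine ⟨Submodule.Quotient.mk d, ?_⟩
      show x • (Submodule.Quotient.mk d : A ⧸ q) = Submodule.Quotient.mk (b + d * x)
      rw [← Submodule.Quotient.mk_smul, eq_comm, ← sub_eq_zero, ← Submodule.Quotient.mk_sub,
        Submodule.Quotient.mk_eq_zero]
      have : b + d * x - x • d = b := by
        rw [smul_eq_mul]; ring
      rw [this]
      exact hb
    · rintro ⟨z, rfl⟩
      exact ShortComplex.moduleCat_zero_apply _ z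
  · show Function.Injective ((mulSC q x).f.hom)
    rw [injective_iff_map_eq_zero]
    intro y hy
    obtain ⟨a, rfl⟩ := Submodule.Quotient.mk_surjective q y
    have h1 : (Submodule.Quotient.mk (x • a) : A ⧸ q) = 0 := hy
    rw [Submodule.Quotient.mk_eq_zero] at h1
    show (Submodule.Quotient.mk a : A ⧸ q) = 0
    rw [Submodule.Quotient.mk_eq_zero]
    exact (hq.mem_or_mem h1).resolve_left hx
  · intro y
    obtain ⟨a, rfl⟩ := Submodule.Quotient.mk_surjective _ y
    exact ⟨Submodule.Quotient.mk a, rfl⟩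

lemma prime_case [IsNoetherianRing A] [IsLocalRing A] (ω : Dual.D A) (hω : Dual.IsDualizing A ω)
    (hn : Dual.IsNormalized A ω) (q : Ideal A) [hq : q.IsPrime]
    (IH : ∀ J : Ideal A, q < J → ∀ (M : Type u) [AddCommGroup M] [Module A M] [Module.Finite A M],
      (∀ a ∈ J, ∀ m : M, a • m = 0) → ∀ i : ℤ, 0 < i → ∀ g : Dual.inD A M ⟶ ω⟦i⟧, g = 0)
    (i : ℤ) (hi : 0 < i) (g : Dual.inD A (A ⧸ q) ⟶ ω⟦i⟧) : g = 0 := by
  by_cases hqm : q = IsLocalRing.maximalIdeal A
  · have hsub := hn i (ne_of_gt hi)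
    let e : (A ⧸ q) ≃ₗ[A] IsLocalRing.ResidueField A := Submodule.quotEquivOfEq _ _ hqm
    have : (inDIso e).inv ≫ g = 0 := Subsingleton.elim _ _
    rw [← cancel_epi (inDIso e).inv, this, comp_zero]
  · have hlt : q < IsLocalRing.maximalIdeal A :=
      lt_of_le_of_ne (IsLocalRing.le_maximalIdeal hq.ne_top) hqm
    obtain ⟨x, hxm, hxq⟩ := SetLike.exists_of_lt hlt
    have hqJ : q < q ⊔ Ideal.span {x} := by
      refine lt_of_le_of_ne le_sup_left ?_
      intro h
      apply hxq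
      rw [h]
      exact Ideal.mem_sup_right (Ideal.subset_span rfl)
    have hS : (mulSC q x).ShortExact := mulSC_shortExact q x hxq
    haveI hfinE : Module.Finite A (Dual.inD A (A ⧸ q) ⟶ ω⟦i⟧) := finite_ext ω hω (A ⧸ q) i
    have h3 : ∀ g' : (singleFunctor (ModuleCat.{u} A) 0).obj (mulSC q x).X₃ ⟶
        (ω⟦i⟧)⟦(1 : ℤ)⟧, g' = 0 := by
      intro g'
      have := IH _ hqJ (A ⧸ (q ⊔ Ideal.span {x})) (quot_killed _) (i + 1) (by omega)
        (g' ≫ (shiftFunctorAdd' (DerivedCategory (ModuleCat.{u} A)) i 1 (i + 1) rfl).inv.app ω)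
      exact (cancel_mono ((shiftFunctorAdd' (DerivedCategory (ModuleCat.{u} A)) i 1 (i + 1)
        rfl).inv.app ω)).mp (this.trans zero_comp.symm)
    have hsurj : ∀ e : (Dual.inD A (A ⧸ q) ⟶ ω⟦i⟧), ∃ e', e = x • e' := by
      intro e
      obtain ⟨e4, he'⟩ := exists_factor_of_shortExact (mulSC q x) hS (ω⟦i⟧) h3 e
      obtain ⟨e', rfl⟩ : ∃ e3 : Dual.inD A (A ⧸ q) ⟶ ω⟦i⟧, e3 = e4 := ⟨e4, rfl⟩
      refine ⟨e', ?_⟩
      rw [he']
      show (singleFunctor (ModuleCat.{u} A) 0).map (x • 𝟙 (ModuleCat.of A (A ⧸ q))) ≫ e' = _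
      rw [Functor.map_smul, CategoryTheory.Functor.map_id, Linear.smul_comp, Category.id_comp]
    haveI := subsingleton_of_smul_surjective x hxm hsurj
    exact Subsingleton.elim _ _

theorem ext_pos_vanish [IsNoetherianRing A] [IsLocalRing A] (ω : Dual.D A)
    (hω : Dual.IsDualizing A ω) (hn : Dual.IsNormalized A ω) (I : Ideal A) :
    ∀ (M : Type u) [AddCommGroup M] [Module A M] [Module.Finite A M],
      (∀ a ∈ I, ∀ m : M, a • m = 0) → ∀ i : ℤ, 0 < i → ∀ g : Dual.inD A M ⟶ ω⟦i⟧, g = 0 := by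
  refine IsNoetherian.induction (P := fun I : Submodule A A =>
    ∀ (M : Type u) [AddCommGroup M] [Module A M] [Module.Finite A M],
      (∀ a ∈ I, ∀ m : M, a • m = 0) → ∀ i : ℤ, 0 < i → ∀ g : Dual.inD A M ⟶ ω⟦i⟧, g = 0) ?_ I
  intro I IH M _ _ hfin
  induction hfin using IsNoetherianRing.induction_on_isQuotientEquivQuotientPrime A with
  | subsingleton N =>
    intro _ i _ g
    have hz : IsZero (Dual.inD A N) :=
      Functor.map_isZero _ (ModuleCat.isZero_of_subsingleton _)
    exact hz.eq_of_src _ _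
  | quotient N p e =>
    intro hkill i hi g
    have hIp : I ≤ p.asIdeal := by
      intro a ha
      have h1 := hkill a ha (e.symm 1)
      have h2 : a • (1 : A ⧸ p.asIdeal) = 0 := by
        have := congrArg e h1
        simpa using this
      have h3 : (Submodule.Quotient.mk (a • (1 : A)) : A ⧸ p.asIdeal) = 0 := h2
      have h4 := (Submodule.Quotient.mk_eq_zero _).mp h3
      simpa using h4
    have key : ∀ g' : Dual.inD A (A ⧸ p.asIdeal) ⟶ ω⟦i⟧, g' = 0 := by
      intro g'
      rcases eq_or_lt_of_le hIp with h | h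
      · haveI := p.isPrime
        exact prime_case ω hω hn p.asIdeal (fun J hJ => IH J (h ▸ hJ)) i hi g'
      · exact IH p.asIdeal h (A ⧸ p.asIdeal) (quot_killed _) i hi g'
    have := key ((inDIso e).inv ≫ g)
    rw [← cancel_epi (inDIso e).inv, this, comp_zero]
  | exact N₁ N₂ N₃ f g hf hg hfg h₁ h₃ =>
    intro hkill i hi g'
    have hk1 : ∀ a ∈ I, ∀ m : N₁, a • m = 0 := fun a ha m =>
      hf (by rw [map_smul, hkill a ha, map_zero])
    have hk3 : ∀ a ∈ I, ∀ m : N₃, a • m = 0 := fun a ha m => by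
      obtain ⟨m', rfl⟩ := hg m
      rw [← map_smul, hkill a ha, map_zero]
    let S := ModuleCat.shortComplexOfCompEqZero f g hfg.linearMap_comp_eq_zero
    have hS : S.ShortExact := ModuleCat.shortComplex_shortExact S hfg hf hg
    exact eq_zero_of_shortExact S hS _ (h₁ hk1 i hi) (h₃ hk3 i hi) g'

theorem main [IsNoetherianRing A] [IsLocalRing A] (ω : Dual.D A) (hω : Dual.IsDualizing A ω)
    (hn : Dual.IsNormalized A ω) (N : Dual.D A) (hfin : ∀ i : ℤ, Module.Finite A (Dual.HD A N i))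
    (b : ℤ) (hb : ∀ i : ℤ, b < i → Subsingleton (Dual.HD A N i))
    (hge : ∀ i : ℤ, i < 0 → Subsingleton (Dual.HD A N i))
    (i : ℤ) (hi : 0 < i) : Subsingleton (N ⟶ ω⟦i⟧) := by
  let P : ObjectProperty (DerivedCategory (ModuleCat.{u} A)) :=
    fun K => ∀ i : ℤ, 0 < i → ∀ g : K ⟶ ω⟦i⟧, g = 0
  haveI : P.IsClosedUnderIsomorphisms := ⟨fun {X Y} e h i hi g => by
    have := h i hi (e.hom ≫ g)
    rw [← cancel_epi e.hom, this, comp_zero]⟩
  have hP : P N := by
    apply Groth.Agent.Lib.Helper1.Devissage.induction_homology' P ?_ ?_ N 0 b ?_ ?_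
    · intro K hK i hi g
      exact hK.eq_of_src _ _
    · intro T hT h1 h3 i hi g
      obtain ⟨g', hg'⟩ := Triangle.yoneda_exact₂ T hT g (h1 i hi _)
      rw [hg', h3 i hi g', comp_zero]
    · intro j hj
      rcases hj with hj | hj
      · haveI := hge j hj
        exact ModuleCat.isZero_of_subsingleton _
      · haveI := hb j hj
        exact ModuleCat.isZero_of_subsingleton _
    · intro j hj0 hjb i hi g
      haveI := hfin j
      let e' := ((singleFunctors (ModuleCat.{u} A)).shiftIso j 0 j (add_zero j)).app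
        ((homologyFunctor (ModuleCat.{u} A) j).obj N)
      have hz := ext_pos_vanish ω hω hn ⊥ (Dual.HD A N j)
        (by intro a ha m; rw [(Submodule.mem_bot A).mp ha, zero_smul]) (i + j) (by omega)
        (e'.inv ≫ g⟦j⟧' ≫
          (shiftFunctorAdd' (DerivedCategory (ModuleCat.{u} A)) i j (i + j) rfl).inv.app ω)
      apply (shiftFunctor (DerivedCategory (ModuleCat.{u} A)) j).map_injective
      rw [Functor.map_zero]
      have h5 : g⟦j⟧' ≫
          (shiftFunctorAdd' (DerivedCategory (ModuleCat.{u} A)) i j (i + j) rfl).inv.app ω = 0 :=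
        (cancel_epi e'.inv).mp (hz.trans comp_zero.symm)
      exact (cancel_mono ((shiftFunctorAdd' (DerivedCategory (ModuleCat.{u} A)) i j (i + j)
        rfl).inv.app ω)).mp (h5.trans zero_comp.symm)
  exact ⟨fun g g' => by rw [hP i hi g, hP i hi g']⟩

end Groth.Agent.Lib.Helper5.NormDual
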