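import Mathlib
import Groth.Agent.Lib.Helper5NormDual
import Groth.Agent.Lib.Helper28DepthLoc
import Groth.Agent.Lib.Helper5Depth
import Groth.Agent.Lib.Helper17DRingAdj2

/-!
# Ext into a normalized dualizing complex over a Noetherian local ring: depth and dimension
(helper5)

Everything is done without localization: long exact sequences for multiplication by a regular
element, Nakayama, prime filtrations and induction on the dimension of the support.
-/

set_option autoImplicit false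
universe u
open CategoryTheory CategoryTheory.Limits
attribute [local instance] HasDerivedCategory.standard

namespace Groth.Agent.Lib.Helper5.DualLocal

open DerivedCategory Pretriangulated
open Groth.Agent.Lib.Helper5.NormDual

variable {A : Type u} [CommRing A]

section LES

/-- exactness of `Hom(-, Y[1])` at `X₃`. -/
lemma exists_of_g_comp_eq_zero (S : ShortComplex (ModuleCat.{u} A)) (hS : S.ShortExact)
    (Y : Dual.D A) (h : (singleFunctor (ModuleCat.{u} A) 0).obj S.X₃ ⟶ Y⟦(1 : ℤ)⟧)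
    (hh : (singleFunctor (ModuleCat.{u} A) 0).map S.g ≫ h = 0) :
    ∃ k : (singleFunctor (ModuleCat.{u} A) 0).obj S.X₁ ⟶ Y,
      h = hS.singleδ ≫ k⟦(1 : ℤ)⟧' := by
  have hT1 := rot_of_distTriang _ hS.singleTriangle_distinguished
  obtain ⟨k', hk'⟩ := Triangle.yoneda_exact₂ _ hT1 h hh
  obtain ⟨k, rfl⟩ := (shiftFunctor (DerivedCategory (ModuleCat.{u} A)) (1 : ℤ)).map_surjective k'
  exact ⟨k, hk'⟩

/-- exactness of `Hom(-, Y)` at `X₁` (refined form). -/
lemma exists_factor_of_δ_comp_eq_zero (S : ShortComplex (ModuleCat.{u} A)) (hS : S.ShortExact)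
    (Y : Dual.D A) (h : (singleFunctor (ModuleCat.{u} A) 0).obj S.X₁ ⟶ Y)
    (hh : hS.singleδ ≫ h⟦(1 : ℤ)⟧' = 0) :
    ∃ g : (singleFunctor (ModuleCat.{u} A) 0).obj S.X₂ ⟶ Y,
      h = (singleFunctor (ModuleCat.{u} A) 0).map S.f ≫ g := by
  have hT := hS.singleTriangle_distinguished
  have hT2 := rot_of_distTriang _ (rot_of_distTriang _ hT)
  obtain ⟨g', hg'⟩ := Triangle.yoneda_exact₂ _ hT2 (h⟦(1 : ℤ)⟧') hh
  obtain ⟨g4, rfl⟩ := (shiftFunctor (DerivedCategory (ModuleCat.{u} A)) (1 : ℤ)).map_surjective g'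
  obtain ⟨g'', rfl⟩ : ∃ g3 : (singleFunctor (ModuleCat.{u} A) 0).obj S.X₂ ⟶ Y, g3 = g4 := ⟨g4, rfl⟩
  have e : (h⟦(1 : ℤ)⟧') = (-((singleFunctor (ModuleCat.{u} A) 0).map S.f)⟦(1 : ℤ)⟧') ≫
      g''⟦(1 : ℤ)⟧' := hg'
  have e2 : (shiftFunctor (DerivedCategory (ModuleCat.{u} A)) (1 : ℤ)).map h =
      (shiftFunctor (DerivedCategory (ModuleCat.{u} A)) (1 : ℤ)).map
        (-((singleFunctor (ModuleCat.{u} A) 0).map S.f ≫ g'')) := by
    rw [e, Functor.map_neg, Functor.map_comp, Preadditive.neg_comp]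
  refine ⟨-g'', ?_⟩
  exact ((shiftFunctor (DerivedCategory (ModuleCat.{u} A)) (1 : ℤ)).map_injective e2).trans
    (Preadditive.comp_neg _ _).symm

lemma eq_zero_of_shortExact₃ (S : ShortComplex (ModuleCat.{u} A)) (hS : S.ShortExact)
    (Y : Dual.D A)
    (h2 : ∀ g : (singleFunctor (ModuleCat.{u} A) 0).obj S.X₂ ⟶ Y⟦(1 : ℤ)⟧, g = 0)
    (h1 : ∀ g : (singleFunctor (ModuleCat.{u} A) 0).obj S.X₁ ⟶ Y, g = 0)
    (h : (singleFunctor (ModuleCat.{u} A) 0).obj S.X₃ ⟶ Y⟦(1 : ℤ)⟧) : h = 0 := by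
  obtain ⟨k, hk⟩ := exists_of_g_comp_eq_zero S hS Y h (h2 _)
  rw [hk, h1 k, Functor.map_zero, comp_zero]

lemma δ_comp_f (S : ShortComplex (ModuleCat.{u} A)) (hS : S.ShortExact) :
    hS.singleδ ≫ ((singleFunctor (ModuleCat.{u} A) 0).map S.f)⟦(1 : ℤ)⟧' = 0 :=
  comp_distTriang_mor_zero₃₁ _ hS.singleTriangle_distinguished

lemma forall_eq_zero_shift_iff (ω X : Dual.D A) (i j : ℤ) (hij : i + 1 = j) :
    (∀ g : X ⟶ ω⟦j⟧, g = 0) ↔ (∀ g : X ⟶ (ω⟦i⟧)⟦(1 : ℤ)⟧, g = 0) := by
  constructor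
  · intro h g
    have := h (g ≫ (shiftFunctorAdd' (DerivedCategory (ModuleCat.{u} A)) i 1 j hij).inv.app ω)
    exact (cancel_mono ((shiftFunctorAdd' (DerivedCategory (ModuleCat.{u} A)) i 1 j
      hij).inv.app ω)).mp (this.trans zero_comp.symm)
  · intro h g
    have := h (g ≫ (shiftFunctorAdd' (DerivedCategory (ModuleCat.{u} A)) i 1 j hij).hom.app ω)
    exact (cancel_mono ((shiftFunctorAdd' (DerivedCategory (ModuleCat.{u} A)) i 1 j
      hij).hom.app ω)).mp (this.trans zero_comp.symm)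

lemma forall_eq_zero_cast (ω X : Dual.D A) (i j : ℤ) (hij : i = j)
    (h : ∀ g : X ⟶ ω⟦i⟧, g = 0) : ∀ g : X ⟶ ω⟦j⟧, g = 0 := by
  subst hij
  exact h

lemma subsingleton_iff_forall_eq_zero {X Y : Dual.D A} :
    Subsingleton (X ⟶ Y) ↔ ∀ g : X ⟶ Y, g = 0 :=
  ⟨fun _ _ => Subsingleton.elim _ _, fun h => ⟨fun a b => (h a).trans (h b).symm⟩⟩

lemma nontrivial_iff_not_forall_eq_zero {X Y : Dual.D A} :
    Nontrivial (X ⟶ Y) ↔ ¬ ∀ g : X ⟶ Y, g = 0 := by
  rw [← not_subsingleton_iff_nontrivial, subsingleton_iff_forall_eq_zero]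

lemma eq_zero_of_subsingleton (M : Type u) [AddCommGroup M] [Module A M] [Subsingleton M]
    (Y : Dual.D A) (g : Dual.inD A M ⟶ Y) : g = 0 := by
  have hz : IsZero (Dual.inD A M) :=
    Functor.map_isZero _ (ModuleCat.isZero_of_subsingleton _)
  exact hz.eq_of_src _ _

end LES

section Smul

/-- if `Hom(M/xM, ω[j]) = 0`, then `x` is surjective on `Hom(M, ω[j-1])`. -/
lemma smul_surj (ω : Dual.D A) (M : Type u) [AddCommGroup M] [Module A M] (x : A)
    (hreg : IsSMulRegular M x) (i j : ℤ) (hij : i + 1 = j)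
    (h3 : ∀ g : Dual.inD A (QuotSMulTop x M) ⟶ ω⟦j⟧, g = 0) (e : Dual.inD A M ⟶ ω⟦i⟧) :
    ∃ e' : Dual.inD A M ⟶ ω⟦i⟧, e = x • e' := by
  have hS : (ModuleCat.smulShortComplex (ModuleCat.of A M) x).ShortExact :=
    IsSMulRegular.smulShortComplex_shortExact (M := ModuleCat.of A M) hreg
  have h3' : ∀ g : (singleFunctor (ModuleCat.{u} A) 0).obj
      (ModuleCat.smulShortComplex (ModuleCat.of A M) x).X₃ ⟶ (ω⟦i⟧)⟦(1 : ℤ)⟧, g = 0 :=
    (forall_eq_zero_shift_iff ω _ i j hij).mp h3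
  obtain ⟨e4, he'⟩ := exists_factor_of_shortExact _ hS (ω⟦i⟧) h3' e
  obtain ⟨e', rfl⟩ : ∃ e3 : Dual.inD A M ⟶ ω⟦i⟧, e3 = e4 := ⟨e4, rfl⟩
  refine ⟨e', ?_⟩
  rw [he']
  show (singleFunctor (ModuleCat.{u} A) 0).map (x • 𝟙 (ModuleCat.of A M)) ≫ e' = _
  rw [Functor.map_smul, CategoryTheory.Functor.map_id, Linear.smul_comp, Category.id_comp]

lemma vanish_quot_of_vanish (ω : Dual.D A) (M : Type u) [AddCommGroup M] [Module A M] (x : A)
    (hreg : IsSMulRegular M x) (i j : ℤ) (hij : i + 1 = j)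
    (h2 : ∀ g : Dual.inD A M ⟶ ω⟦j⟧, g = 0) (h1 : ∀ g : Dual.inD A M ⟶ ω⟦i⟧, g = 0) :
    ∀ g : Dual.inD A (QuotSMulTop x M) ⟶ ω⟦j⟧, g = 0 := by
  have hS : (ModuleCat.smulShortComplex (ModuleCat.of A M) x).ShortExact :=
    IsSMulRegular.smulShortComplex_shortExact (M := ModuleCat.of A M) hreg
  rw [forall_eq_zero_shift_iff ω _ i j hij]
  have h2' := (forall_eq_zero_shift_iff ω _ i j hij).mp h2
  exact eq_zero_of_shortExact₃ _ hS (ω⟦i⟧) h2' h1

variable [IsNoetherianRing A] [IsLocalRing A]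

lemma vanish_pos (ω : Dual.D A) (hω : Dual.IsDualizing A ω) (hn : Dual.IsNormalized A ω)
    (M : Type u) [AddCommGroup M] [Module A M] [Module.Finite A M] (i : ℤ) (hi : 0 < i)
    (g : Dual.inD A M ⟶ ω⟦i⟧) : g = 0 :=
  ext_pos_vanish ω hω hn ⊥ M
    (by intro a ha m; rw [(Submodule.mem_bot A).mp ha, zero_smul]) i hi g

lemma vanish_of_quot (ω : Dual.D A) (hω : Dual.IsDualizing A ω) (M : Type u) [AddCommGroup M]
    [Module A M] [Module.Finite A M] (x : A) (hx : x ∈ IsLocalRing.maximalIdeal A)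
    (hreg : IsSMulRegular M x) (i j : ℤ) (hij : i + 1 = j)
    (h3 : ∀ g : Dual.inD A (QuotSMulTop x M) ⟶ ω⟦j⟧, g = 0) (g : Dual.inD A M ⟶ ω⟦i⟧) :
    g = 0 := by
  haveI : Module.Finite A (Dual.inD A M ⟶ ω⟦i⟧) := finite_ext ω hω M i
  haveI := subsingleton_of_smul_surjective x hx (smul_surj ω M x hreg i j hij h3)
  exact Subsingleton.elim _ _

open RingTheory.Sequence in
lemma vanish_of_isWeaklyRegular (ω : Dual.D A) (hω : Dual.IsDualizing A ω)
    (hn : Dual.IsNormalized A ω) :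
    ∀ (rs : List A) (M : Type u) [AddCommGroup M] [Module A M] [Module.Finite A M],
      IsWeaklyRegular M rs → (∀ r ∈ rs, r ∈ IsLocalRing.maximalIdeal A) →
      ∀ δ : ℕ, δ < rs.length → ∀ g : Dual.inD A M ⟶ ω⟦(-(δ : ℤ))⟧, g = 0 := by
  intro rs
  induction rs with
  | nil =>
    intro M _ _ _ _ _ δ hδ
    exact absurd hδ (Nat.not_lt_zero _)
  | cons x rs IH =>
    intro M _ _ _ hreg hmem δ hδ g
    rw [isWeaklyRegular_cons_iff] at hreg
    have hx : x ∈ IsLocalRing.maximalIdeal A := hmem x List.mem_cons_self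
    have hmem' : ∀ r ∈ rs, r ∈ IsLocalRing.maximalIdeal A :=
      fun r hr => hmem r (List.mem_cons_of_mem x hr)
    refine vanish_of_quot ω hω M x hx hreg.1 (-(δ : ℤ)) (-(δ : ℤ) + 1) rfl ?_ g
    rcases Nat.eq_zero_or_pos δ with h0 | hpos
    · intro g'
      exact vanish_pos ω hω hn _ _ (by rw [h0]; simp) g'
    · obtain ⟨δ', rfl⟩ : ∃ δ', δ = δ' + 1 := ⟨δ - 1, by omega⟩
      refine forall_eq_zero_cast ω _ (-(δ' : ℤ)) _ (by push_cast; ring) ?_
      exact IH (QuotSMulTop x M) hreg.2 hmem' δ' (by rw [List.length_cons] at hδ; omega)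

end Smul

section Dim

omit [CommRing A] in
lemma natCast_lt_succ (k : ℕ) : ((k : ℕ) : WithBot ℕ∞) < ((k + 1 : ℕ) : WithBot ℕ∞) := by
  rw [Nat.cast_add, Nat.cast_one, ENat.WithBot.lt_add_one_iff]

omit [CommRing A] in
lemma lt_of_add_one_lt_succ (a : WithBot ℕ∞) (d : ℕ)
    (h : a + 1 < ((d + 1 : ℕ) : WithBot ℕ∞)) : a < (d : WithBot ℕ∞) := by
  rw [Nat.cast_add, Nat.cast_one, ENat.WithBot.lt_add_one_iff] at h
  exact ENat.WithBot.add_one_le_natCast_iff.mp h

lemma isSMulRegular_quot_prime (q : Ideal A) [hq : q.IsPrime] (x : A) (hx : x ∉ q) :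
    IsSMulRegular (A ⧸ q) x := by
  intro a b hab
  have hab' : x • a = x • b := hab
  have h0 : x • (a - b) = 0 := by rw [smul_sub, hab', sub_self]
  obtain ⟨c, hc⟩ := Submodule.Quotient.mk_surjective q (a - b)
  rw [← hc, ← Submodule.Quotient.mk_smul, Submodule.Quotient.mk_eq_zero, smul_eq_mul] at h0
  have hcq : c ∈ q := (hq.mem_or_mem h0).resolve_left hx
  have h1 : a - b = 0 := by
    rw [← hc, Submodule.Quotient.mk_eq_zero]
    exact hcq
  exact sub_eq_zero.mp h1

variable [IsNoetherianRing A] [IsLocalRing A]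

lemma exists_nat_gt_supportDim (M : Type u) [AddCommGroup M] [Module A M] :
    ∃ d : ℕ, Module.supportDim A M < (d : WithBot ℕ∞) := by
  have h1 : Module.supportDim A M ≤ ringKrullDim A := Module.supportDim_le_ringKrullDim A M
  have h2 : ringKrullDim A < ⊤ := ringKrullDim_lt_top
  have h3 : Module.supportDim A M < ⊤ := lt_of_le_of_lt h1 h2
  generalize Module.supportDim A M = x at h3
  induction x with
  | bot => exact ⟨0, WithBot.bot_lt_coe ((0 : ℕ) : ℕ∞)⟩
  | coe n =>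
    induction n using ENat.recTopCoe with
    | top => exact absurd h3 (lt_irrefl _)
    | coe k =>
      exact ⟨k + 1, WithBot.coe_lt_coe.mpr (by exact_mod_cast Nat.lt_succ_self k)⟩

/-- General vanishing by induction on the dimension of the support. -/
theorem vanish_by_dim (ω : Dual.D A) (hω : Dual.IsDualizing A ω) (T : ℕ → ℤ → Prop)
    (hT : ∀ (d : ℕ) (i : ℤ), T (d + 1) i → T d (i + 1))
    (hκ : ∀ (d : ℕ) (i : ℤ), T (d + 1) i →
      ∀ g : Dual.inD A (IsLocalRing.ResidueField A) ⟶ ω⟦i⟧, g = 0) :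
    ∀ (d : ℕ) (M : Type u) [AddCommGroup M] [Module A M] [Module.Finite A M],
      Module.supportDim A M < (d : WithBot ℕ∞) → ∀ i : ℤ, T d i →
        ∀ g : Dual.inD A M ⟶ ω⟦i⟧, g = 0 := by
  intro d
  induction d with
  | zero =>
    intro M _ _ _ hdim i _ g
    rw [Nat.cast_zero, WithBot.lt_zero_iff_eq_bot,
      Module.supportDim_eq_bot_iff_subsingleton] at hdim
    haveI := hdim
    exact eq_zero_of_subsingleton M _ g
  | succ d IH =>
    intro M _ _ hfin
    induction hfin using IsNoetherianRing.induction_on_isQuotientEquivQuotientPrime A with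
    | subsingleton N =>
      intro _ i _ g
      exact eq_zero_of_subsingleton N _ g
    | quotient N p e =>
      intro hdim i hTi g
      rw [Module.supportDim_eq_of_equiv e] at hdim
      have key : ∀ g' : Dual.inD A (A ⧸ p.asIdeal) ⟶ ω⟦i⟧, g' = 0 := by
        by_cases hpm : p.asIdeal = IsLocalRing.maximalIdeal A
        · intro g'
          let e2 : (A ⧸ p.asIdeal) ≃ₗ[A] IsLocalRing.ResidueField A :=
            Submodule.quotEquivOfEq _ _ hpm
          have := hκ d i hTi ((inDIso e2).inv ≫ g')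
          rw [← cancel_epi (inDIso e2).inv, this, comp_zero]
        · have hlt : p.asIdeal < IsLocalRing.maximalIdeal A :=
            lt_of_le_of_ne (IsLocalRing.le_maximalIdeal p.isPrime.ne_top) hpm
          obtain ⟨x, hxm, hxp⟩ := SetLike.exists_of_lt hlt
          haveI := p.isPrime
          have hreg : IsSMulRegular (A ⧸ p.asIdeal) x := isSMulRegular_quot_prime p.asIdeal x hxp
          have hq : Module.supportDim A (QuotSMulTop x (A ⧸ p.asIdeal)) < (d : WithBot ℕ∞) := by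
            have h1 := Module.supportDim_quotSMulTop_succ_eq_supportDim hreg hxm
            rw [← h1] at hdim
            exact lt_of_add_one_lt_succ _ d hdim
          exact vanish_of_quot ω hω (A ⧸ p.asIdeal) x hxm hreg i (i + 1) rfl
            (IH (QuotSMulTop x (A ⧸ p.asIdeal)) hq (i + 1) (hT d i hTi))
      have := key ((inDIso e).inv ≫ g)
      rw [← cancel_epi (inDIso e).inv, this, comp_zero]
    | exact N₁ N₂ N₃ f g hf hg hfg h₁ h₃ =>
      intro hdim i hTi g'
      have hd1 : Module.supportDim A N₁ < ((d + 1 : ℕ) : WithBot ℕ∞) :=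
        lt_of_le_of_lt (Module.supportDim_le_of_injective f hf) hdim
      have hd3 : Module.supportDim A N₃ < ((d + 1 : ℕ) : WithBot ℕ∞) :=
        lt_of_le_of_lt (Module.supportDim_le_of_surjective g hg) hdim
      let S := ModuleCat.shortComplexOfCompEqZero f g hfg.linearMap_comp_eq_zero
      have hS : S.ShortExact := ModuleCat.shortComplex_shortExact S hfg hf hg
      exact eq_zero_of_shortExact S hS _ (h₁ hd1 i hTi) (h₃ hd3 i hTi) g'

/-- `Hom(M, ω[i]) = 0` for `i ≤ -d` when `dim Supp M < d`. -/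
theorem vanish_above_dim (ω : Dual.D A) (hω : Dual.IsDualizing A ω)
    (hn : Dual.IsNormalized A ω) (M : Type u) [AddCommGroup M] [Module A M] [Module.Finite A M]
    (d : ℕ) (hd : Module.supportDim A M < (d : WithBot ℕ∞)) (i : ℤ) (hi : i ≤ -(d : ℤ))
    (g : Dual.inD A M ⟶ ω⟦i⟧) : g = 0 := by
  refine vanish_by_dim ω hω (fun d i => i ≤ -(d : ℤ)) ?_ ?_ d M hd i hi g
  · intro d i h
    have h' : i ≤ -((d + 1 : ℕ) : ℤ) := h
    show i + 1 ≤ -(d : ℤ)
    push_cast at h'
    omega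
  · intro d i h g
    have h' : i ≤ -((d + 1 : ℕ) : ℤ) := h
    have hi : i ≠ 0 := by push_cast at h'; omega
    haveI := hn i hi
    exact Subsingleton.elim _ _

/-- The residue field has a nonzero map to `ω[0]`. -/
theorem exists_residue_ne_zero (ω : Dual.D A) (hω : Dual.IsDualizing A ω)
    (hn : Dual.IsNormalized A ω) :
    ∃ g : Dual.inD A (IsLocalRing.ResidueField A) ⟶ ω⟦(0 : ℤ)⟧, g ≠ 0 := by
  by_contra hcon
  push Not at hcon
  have hκ : ∀ i : ℤ, ∀ g : Dual.inD A (IsLocalRing.ResidueField A) ⟶ ω⟦i⟧, g = 0 := by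
    intro i g
    by_cases hi : i = 0
    · subst hi; exact hcon g
    · haveI := hn i hi; exact Subsingleton.elim _ _
  have hall : ∀ (M : Type u) [AddCommGroup M] [Module A M] [Module.Finite A M] (i : ℤ)
      (g : Dual.inD A M ⟶ ω⟦i⟧), g = 0 := by
    intro M _ _ _ i g
    obtain ⟨d, hd⟩ := exists_nat_gt_supportDim (A := A) M
    exact vanish_by_dim ω hω (fun _ _ => True) (fun _ _ _ => trivial) (fun _ i _ => hκ i)
      d M hd i trivial g
  obtain ⟨a, b, hab⟩ := hω.finite_injective_dimension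
  have hHz : ∀ i : ℤ, (i < a ∨ b < i) →
      IsZero ((homologyFunctor (ModuleCat.{u} A) i).obj ω) := by
    intro i hi
    have hsub := hab A i hi
    have h1 := Groth.Agent.Lib.Helper17.DRingAdj.isZero_homologyFunctor_zero (ω⟦i⟧) hsub
    exact h1.of_iso (((DerivedCategory.homologyFunctor (ModuleCat.{u} A) 0).shiftIso i 0 i
      (by simp)).app ω).symm
  let P : ObjectProperty (DerivedCategory (ModuleCat.{u} A)) :=
    fun K => ∀ i : ℤ, ∀ g : K ⟶ ω⟦i⟧, g = 0
  haveI : P.IsClosedUnderIsomorphisms := ⟨fun {X Y} e h i g => by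
    have := h i (e.hom ≫ g)
    rw [← cancel_epi e.hom, this, comp_zero]⟩
  have hP : P ω := by
    apply Groth.Agent.Lib.Helper1.Devissage.induction_homology' P ?_ ?_ ω a b hHz ?_
    · intro K hK i g
      exact hK.eq_of_src _ _
    · intro T hT h1 h3 i g
      obtain ⟨g', hg'⟩ := Triangle.yoneda_exact₂ T hT g (h1 i _)
      rw [hg', h3 i g', comp_zero]
    · intro j _ _ i g
      haveI := hω.finite_cohomology j
      let e' := ((singleFunctors (ModuleCat.{u} A)).shiftIso j 0 j (add_zero j)).app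
        ((homologyFunctor (ModuleCat.{u} A) j).obj ω)
      have hz := hall (Dual.HD A ω j) (i + j)
        (e'.inv ≫ g⟦j⟧' ≫
          (shiftFunctorAdd' (DerivedCategory (ModuleCat.{u} A)) i j (i + j) rfl).inv.app ω)
      apply (shiftFunctor (DerivedCategory (ModuleCat.{u} A)) j).map_injective
      rw [Functor.map_zero]
      have h5 : g⟦j⟧' ≫
          (shiftFunctorAdd' (DerivedCategory (ModuleCat.{u} A)) i j (i + j) rfl).inv.app ω = 0 :=
        (cancel_epi e'.inv).mp (hz.trans comp_zero.symm)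
      exact (cancel_mono ((shiftFunctorAdd' (DerivedCategory (ModuleCat.{u} A)) i j (i + j)
        rfl).inv.app ω)).mp (h5.trans zero_comp.symm)
  have hid : 𝟙 ω = 0 := by
    have h0 := hP 0 ((shiftFunctorZero (DerivedCategory (ModuleCat.{u} A)) ℤ).inv.app ω)
    have h1 : (shiftFunctorZero (DerivedCategory (ModuleCat.{u} A)) ℤ).inv.app ω ≫
        (shiftFunctorZero (DerivedCategory (ModuleCat.{u} A)) ℤ).hom.app ω = 𝟙 ω :=
      Iso.inv_hom_id_app _ _
    rw [← h1, h0, zero_comp]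
  have h10 : (1 : A) = 0 := by
    apply hω.toEnd_bijective.1
    show (1 : A) • 𝟙 ω = (0 : A) • 𝟙 ω
    rw [one_smul, zero_smul, hid]
  exact one_ne_zero h10

end Dim

end Groth.Agent.Lib.Helper5.DualLocal
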