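import Mathlib
import Groth.Agent.Lib.Helper5DualLocal

/-!
# Depth, Cohen–Macaulayness and supports via Ext into a normalized dualizing complex (helper5)
-/

set_option autoImplicit false
universe u
open CategoryTheory CategoryTheory.Limits
attribute [local instance] HasDerivedCategory.standard

namespace Groth.Agent.Lib.Helper5.DualLocal

open DerivedCategory Pretriangulated Pointwise
open Groth.Agent.Lib.Helper5.NormDual

variable {A : Type u} [CommRing A]

section Depth

variable [IsNoetherianRing A] [IsLocalRing A]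

/-- depth zero: `Hom(M, ω[0]) ≠ 0`. -/
theorem not_vanish_of_depth_zero (ω : Dual.D A) (hω : Dual.IsDualizing A ω)
    (hn : Dual.IsNormalized A ω) (M : Type u) [AddCommGroup M] [Module A M] [Module.Finite A M]
    (h0 : LocCoh.depth A M = 0) : ¬ ∀ g : Dual.inD A M ⟶ ω⟦(0 : ℤ)⟧, g = 0 := by
  intro hV
  obtain ⟨h, hh⟩ := exists_residue_ne_zero ω hω hn
  have hass : IsAssociatedPrime (IsLocalRing.maximalIdeal A) M :=
    (Groth.Agent.Lib.Helper5.depth_eq_zero_iff_maximalIdeal_mem_associatedPrimes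
      (A := A) (M := M)).mp h0
  obtain ⟨_, f, hf⟩ :=
    (isAssociatedPrime_iff_exists_injective_linearMap (IsLocalRing.maximalIdeal A) M).mp hass
  have hg : Function.Surjective (LinearMap.range f).mkQ := Submodule.mkQ_surjective _
  have hfg : Function.Exact f (LinearMap.range f).mkQ := LinearMap.exact_map_mkQ_range f
  let S := ModuleCat.shortComplexOfCompEqZero f (LinearMap.range f).mkQ
    hfg.linearMap_comp_eq_zero
  have hS : S.ShortExact := ModuleCat.shortComplex_shortExact S hfg hf hg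
  have h3 : ∀ g' : (singleFunctor (ModuleCat.{u} A) 0).obj S.X₃ ⟶
      (ω⟦(0 : ℤ)⟧)⟦(1 : ℤ)⟧, g' = 0 :=
    (forall_eq_zero_shift_iff ω _ 0 1 (by norm_num)).mp
      (fun g' => vanish_pos ω hω hn (M ⧸ LinearMap.range f) 1 one_pos g')
  let eκ : (A ⧸ IsLocalRing.maximalIdeal A) ≃ₗ[A] IsLocalRing.ResidueField A :=
    Submodule.quotEquivOfEq _ _ rfl
  have hh' : (inDIso eκ).hom ≫ h ≠ 0 := by
    intro h0'
    apply hh
    rw [← cancel_epi (inDIso eκ).hom, h0', comp_zero]
  obtain ⟨g2, hg2⟩ := exists_factor_of_shortExact S hS (ω⟦(0 : ℤ)⟧) h3 ((inDIso eκ).hom ≫ h)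
  apply hh'
  rw [hg2, hV g2, comp_zero]

open RingTheory.Sequence in
/-- depth `n`: `Hom(M, ω[-n]) ≠ 0`. -/
theorem not_vanish_of_depth (ω : Dual.D A) (hω : Dual.IsDualizing A ω)
    (hn : Dual.IsNormalized A ω) :
    ∀ (n : ℕ) (M : Type u) [AddCommGroup M] [Module A M] [Module.Finite A M] [Nontrivial M],
      LocCoh.depth A M = n → ¬ ∀ g : Dual.inD A M ⟶ ω⟦(-(n : ℤ))⟧, g = 0 := by
  intro n
  induction n with
  | zero =>
    intro M _ _ _ _ h0 hV
    refine not_vanish_of_depth_zero ω hω hn M (by simpa using h0) ?_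
    exact forall_eq_zero_cast ω _ _ _ (by simp) hV
  | succ n IH =>
    intro M _ _ _ _ hdep hV
    have hIM : IsLocalRing.maximalIdeal A • (⊤ : Submodule A M) ≠ ⊤ :=
      Groth.Agent.Lib.Helper5.maximalIdeal_smul_top_ne_top
    have hle : ((n + 1 : ℕ) : ℕ∞) ≤ LocCoh.idealDepth (IsLocalRing.maximalIdeal A) M :=
      le_of_eq hdep.symm
    obtain ⟨rs, hlen, hmem, hreg⟩ :=
      (Groth.Agent.Lib.Helper28.natCast_le_idealDepth_iff hIM (n + 1)).mp hle
    cases rs with
    | nil => simp at hlen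
    | cons x rs' =>
      have hx : x ∈ IsLocalRing.maximalIdeal A := hmem x List.mem_cons_self
      have hsm : IsSMulRegular M x := ((isRegular_cons_iff M x rs').mp hreg).1
      have hd1 := Groth.Agent.Lib.Helper28.idealDepth_quotSMulTop_add_one
        (IsLocalRing.maximalIdeal A) M hIM x hx hsm
      have hdq : LocCoh.depth A (QuotSMulTop x M) = n := by
        have h2 : LocCoh.idealDepth (IsLocalRing.maximalIdeal A) (QuotSMulTop x M) + 1 =
            (n : ℕ∞) + 1 := by
          rw [hd1]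
          exact hdep.trans (by push_cast; rfl)
        exact le_antisymm ((ENat.add_le_add_iff_right ENat.one_ne_top).mp h2.le)
          ((ENat.add_le_add_iff_right ENat.one_ne_top).mp h2.ge)
      haveI : Nontrivial (QuotSMulTop x M) :=
        Groth.Agent.Lib.Helper28.nontrivial_of_smul_top_ne_top
          (Groth.Agent.Lib.Helper28.smul_top_quotSMulTop_ne_top hx hIM)
      have hVn : ∀ g : Dual.inD A M ⟶ ω⟦(-(n : ℤ))⟧, g = 0 :=
        vanish_of_isWeaklyRegular ω hω hn (x :: rs') M hreg.toIsWeaklyRegular hmem n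
          (by rw [hlen]; omega)
      have hq : ∀ g : Dual.inD A (QuotSMulTop x M) ⟶ ω⟦(-(n : ℤ))⟧, g = 0 :=
        vanish_quot_of_vanish ω M x hsm (-((n + 1 : ℕ) : ℤ)) (-(n : ℤ))
          (by push_cast; ring) hVn hV
      exact IH (QuotSMulTop x M) hdq hq

open RingTheory.Sequence in
theorem depth_eq_iff (ω : Dual.D A) (hω : Dual.IsDualizing A ω) (hn : Dual.IsNormalized A ω)
    (M : Type u) [AddCommGroup M] [Module A M] [Module.Finite A M] [Nontrivial M] (n : ℕ) :
    LocCoh.depth A M = n ↔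
      ((∀ δ : ℕ, δ < n → ∀ g : Dual.inD A M ⟶ ω⟦(-(δ : ℤ))⟧, g = 0) ∧
        ¬ ∀ g : Dual.inD A M ⟶ ω⟦(-(n : ℤ))⟧, g = 0) := by
  have hIM : IsLocalRing.maximalIdeal A • (⊤ : Submodule A M) ≠ ⊤ :=
    Groth.Agent.Lib.Helper5.maximalIdeal_smul_top_ne_top
  have key : ∀ n' : ℕ, LocCoh.depth A M = n' →
      ((∀ δ : ℕ, δ < n' → ∀ g : Dual.inD A M ⟶ ω⟦(-(δ : ℤ))⟧, g = 0) ∧
        ¬ ∀ g : Dual.inD A M ⟶ ω⟦(-(n' : ℤ))⟧, g = 0) := by
    intro n' h
    refine ⟨?_, not_vanish_of_depth ω hω hn n' M h⟩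
    intro δ hδ
    have hle : ((n' : ℕ) : ℕ∞) ≤ LocCoh.idealDepth (IsLocalRing.maximalIdeal A) M :=
      le_of_eq h.symm
    obtain ⟨rs, hlen, hmem, hreg⟩ :=
      (Groth.Agent.Lib.Helper28.natCast_le_idealDepth_iff hIM n').mp hle
    exact vanish_of_isWeaklyRegular ω hω hn rs M hreg.toIsWeaklyRegular hmem δ
      (by rw [hlen]; exact hδ)
  constructor
  · exact key n
  · rintro ⟨h1, h2⟩
    have hne : LocCoh.depth A M ≠ ⊤ := Groth.Agent.Lib.Helper28.idealDepth_ne_top hIM
    obtain ⟨n', hn'⟩ := ENat.ne_top_iff_exists.mp hne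
    obtain ⟨k1, k2⟩ := key n' hn'.symm
    rcases lt_trichotomy n n' with hlt | heq | hgt
    · exact absurd (k1 n hlt) h2
    · rw [← hn', heq]
    · exact absurd (h1 n' hgt) k2

theorem cm_iff (ω : Dual.D A) (hω : Dual.IsDualizing A ω) (hn : Dual.IsNormalized A ω)
    (M : Type u) [AddCommGroup M] [Module A M] [Module.Finite A M] [Nontrivial M] (d : ℕ)
    (hd : Module.supportDim A M = d) :
    LocCoh.IsCohenMacaulayModule A M ↔
      ∀ i : ℤ, i ≠ d → ∀ g : Dual.inD A M ⟶ ω⟦(-i)⟧, g = 0 := by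
  have hIM : IsLocalRing.maximalIdeal A • (⊤ : Submodule A M) ≠ ⊤ :=
    Groth.Agent.Lib.Helper5.maximalIdeal_smul_top_ne_top
  have hne : LocCoh.depth A M ≠ ⊤ := Groth.Agent.Lib.Helper28.idealDepth_ne_top hIM
  obtain ⟨n', hn'⟩ := ENat.ne_top_iff_exists.mp hne
  obtain ⟨k1, k2⟩ := (depth_eq_iff ω hω hn M n').mp hn'.symm
  have hcm : LocCoh.IsCohenMacaulayModule A M ↔ n' = d := by
    unfold LocCoh.IsCohenMacaulayModule
    rw [hd, ← hn']
    constructor
    · intro h
      have h1 : ((d : ℕ) : ℕ∞) = ((n' : ℕ) : ℕ∞) := WithBot.coe_injective h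
      exact (Nat.cast_injective h1).symm
    · intro h
      rw [h]
      rfl
  rw [hcm]
  constructor
  · intro hnd i hi g
    subst hnd
    rcases lt_trichotomy i (n' : ℤ) with hlt | heq | hgt
    · rcases lt_or_ge i 0 with hneg | hnonneg
      · exact vanish_pos ω hω hn M (-i) (by omega) g
      · obtain ⟨δ, rfl⟩ := Int.eq_ofNat_of_zero_le hnonneg
        exact k1 δ (by exact_mod_cast hlt) g
    · exact absurd heq hi
    · exact vanish_above_dim ω hω hn M (n' + 1) (by rw [hd]; exact natCast_lt_succ n') (-i)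
        (by push_cast; omega) g
  · intro h
    by_contra hne'
    exact k2 (h n' (by exact_mod_cast hne'))

end Depth

section Support

lemma support_subset_union_of_exact {R : Type*} [CommRing R] {M N P : Type*} [AddCommGroup M]
    [Module R M] [AddCommGroup N] [Module R N] [AddCommGroup P] [Module R P]
    {f : M →ₗ[R] N} {g : N →ₗ[R] P} (h : Function.Exact f g) :
    Module.support R N ⊆ Module.support R M ∪ Module.support R P := by
  intro x
  contrapose
  simp only [Set.mem_union, not_or, and_imp, Module.notMem_support_iff']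
  intro H₁ H₂ m
  obtain ⟨r, hr, e₁⟩ := H₂ (g m)
  rw [← map_smul, h] at e₁
  obtain ⟨m', hm'⟩ := e₁
  obtain ⟨s, hs, e₁⟩ := H₁ m'
  exact ⟨_, x.asIdeal.primeCompl.mul_mem hs hr,
    by rw [mul_smul, ← hm', ← map_smul, e₁, map_zero]⟩

lemma supportDim_le_of_exact {R : Type*} [CommRing R] {M N P : Type*} [AddCommGroup M]
    [Module R M] [AddCommGroup N] [Module R N] [AddCommGroup P] [Module R P]
    {f : M →ₗ[R] N} {g : N →ₗ[R] P} (h : Function.Exact f g) (c : WithBot ℕ∞)
    (h1 : Module.supportDim R M ≤ c) (h2 : Module.supportDim R P ≤ c) :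
    Module.supportDim R N ≤ c := by
  unfold Module.supportDim at h1 h2 ⊢
  unfold Order.krullDim
  refine iSup_le fun p => ?_
  rcases support_subset_union_of_exact h p.head.2 with hh | hh
  · let q : LTSeries (Module.support R M) :=
      { length := p.length
        toFun := fun i => ⟨(p i).1, Module.mem_support_mono (p.head_le i) hh⟩
        step := fun i => p.step i }
    exact le_trans (Order.LTSeries.length_le_krullDim q) h1
  · let q : LTSeries (Module.support R P) :=
      { length := p.length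
        toFun := fun i => ⟨(p i).1, Module.mem_support_mono (p.head_le i) hh⟩
        step := fun i => p.step i }
    exact le_trans (Order.LTSeries.length_le_krullDim q) h2

lemma supportDim_le_zero_of_killed [IsLocalRing A] (N : Type*) [AddCommGroup N] [Module A N]
    (hk : ∀ a ∈ IsLocalRing.maximalIdeal A, ∀ n : N, a • n = 0) :
    Module.supportDim A N ≤ 0 := by
  unfold Module.supportDim
  haveI : Subsingleton (Module.support A N) := by
    refine ⟨fun p q => ?_⟩
    have hp : ∀ r : Module.support A N, r.1.asIdeal = IsLocalRing.maximalIdeal A := by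
      intro r
      have h1 : Module.annihilator A N ≤ r.1.asIdeal := Module.annihilator_le_of_mem_support r.2
      have h2 : IsLocalRing.maximalIdeal A ≤ Module.annihilator A N := by
        intro a ha
        rw [Module.mem_annihilator]
        exact hk a ha
      exact ((IsLocalRing.maximalIdeal.isMaximal A).eq_of_le r.1.isPrime.ne_top
        (h2.trans h1)).symm
    apply Subtype.ext
    apply PrimeSpectrum.ext
    rw [hp p, hp q]
  exact Order.krullDim_nonpos_of_subsingleton

lemma δ_comp_map_f_comp (S : ShortComplex (ModuleCat.{u} A)) (hS : S.ShortExact) (Y : Dual.D A)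
    (g' : (singleFunctor (ModuleCat.{u} A) 0).obj S.X₂ ⟶ Y) :
    hS.singleδ ≫ ((singleFunctor (ModuleCat.{u} A) 0).map S.f ≫ g')⟦(1 : ℤ)⟧' = 0 := by
  rw [Functor.map_comp, ← Category.assoc, δ_comp_f, zero_comp]

variable [IsNoetherianRing A] [IsLocalRing A]

/-- `dim Ext^i(M, ω) ≤ dim Ext^{i+1}(M/xM, ω) + 1` for `x` in the maximal ideal, `M`-regular. -/
theorem supportDim_ext_le_succ (ω : Dual.D A) (hω : Dual.IsDualizing A ω) (M : Type u)
    [AddCommGroup M] [Module A M] [Module.Finite A M] (x : A)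
    (hx : x ∈ IsLocalRing.maximalIdeal A) (hreg : IsSMulRegular M x) (i j : ℤ)
    (hij : i + 1 = j) :
    Module.supportDim A (Dual.inD A M ⟶ ω⟦i⟧) ≤
      Module.supportDim A (Dual.inD A (QuotSMulTop x M) ⟶ ω⟦j⟧) + 1 := by
  have hS : (ModuleCat.smulShortComplex (ModuleCat.of A M) x).ShortExact :=
    IsSMulRegular.smulShortComplex_shortExact (M := ModuleCat.of A M) hreg
  haveI : Module.Finite A (Dual.inD A M ⟶ ω⟦i⟧) := finite_ext ω hω M i
  let φ : (Dual.inD A M ⟶ ω⟦i⟧) →ₗ[A]
      ((singleFunctor (ModuleCat.{u} A) 0).obj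
        (ModuleCat.smulShortComplex (ModuleCat.of A M) x).X₃ ⟶ (ω⟦i⟧)⟦(1 : ℤ)⟧) :=
    (Linear.leftComp A ((ω⟦i⟧)⟦(1 : ℤ)⟧) hS.singleδ) ∘ₗ
      ((shiftFunctor (DerivedCategory (ModuleCat.{u} A)) (1 : ℤ)).mapLinearMap A)
  have hsmul : ∀ h : Dual.inD A M ⟶ ω⟦i⟧, x • h =
      (singleFunctor (ModuleCat.{u} A) 0).map
        (ModuleCat.smulShortComplex (ModuleCat.of A M) x).f ≫ h := by
    intro h
    show _ = (singleFunctor (ModuleCat.{u} A) 0).map (x • 𝟙 (ModuleCat.of A M)) ≫ h
    rw [Functor.map_smul, CategoryTheory.Functor.map_id, Linear.smul_comp, Category.id_comp]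
  have hker : ∀ h : Dual.inD A M ⟶ ω⟦i⟧,
      φ h = 0 ↔ h ∈ (x • (⊤ : Submodule A (Dual.inD A M ⟶ ω⟦i⟧))) := by
    intro h
    rw [Submodule.mem_smul_pointwise_iff_exists]
    constructor
    · intro hφ
      obtain ⟨g4, hg⟩ := exists_factor_of_δ_comp_eq_zero _ hS (ω⟦i⟧) h hφ
      obtain ⟨g, rfl⟩ : ∃ g3 : Dual.inD A M ⟶ ω⟦i⟧, g3 = g4 := ⟨g4, rfl⟩
      exact ⟨g, Submodule.mem_top, (hsmul g).trans hg.symm⟩
    · rintro ⟨g, -, rfl⟩
      exact (congrArg φ (hsmul g)).trans (δ_comp_map_f_comp _ hS _ g)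
  have hle : (x • (⊤ : Submodule A (Dual.inD A M ⟶ ω⟦i⟧))) ≤ LinearMap.ker φ :=
    fun h hh => LinearMap.mem_ker.mpr ((hker h).mpr hh)
  have hψ : Function.Injective (Submodule.liftQ _ φ hle) := by
    rw [← LinearMap.ker_eq_bot]
    exact Submodule.ker_liftQ_eq_bot _ _ _ (fun h hh => (hker h).mp (LinearMap.mem_ker.mp hh))
  have h1 := Module.supportDim_le_supportDim_quotSMulTop_succ (R := A)
    (M := (Dual.inD A M ⟶ ω⟦i⟧)) hx
  have h2 := Module.supportDim_le_of_injective (Submodule.liftQ _ φ hle) hψ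
  have hχ : Function.Injective (Linear.rightComp A ((singleFunctor (ModuleCat.{u} A) 0).obj
        (ModuleCat.smulShortComplex (ModuleCat.of A M) x).X₃)
      ((shiftFunctorAdd' (DerivedCategory (ModuleCat.{u} A)) i 1 j hij).inv.app ω)) :=
    fun a b hab => (cancel_mono _).mp hab
  have h3 := Module.supportDim_le_of_injective _ hχ
  exact h1.trans (add_le_add (h2.trans h3) le_rfl)

theorem supportDim_ext_le_aux (ω : Dual.D A) (hω : Dual.IsDualizing A ω) (i i' : ℤ)
    (hii' : i + 1 = i') (c : WithBot ℕ∞) (hc0 : 0 ≤ c)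
    (hstep : ∀ (Q : Type u) [AddCommGroup Q] [Module A Q] [Module.Finite A Q],
      Module.supportDim A (Dual.inD A Q ⟶ ω⟦i'⟧) + 1 ≤ c) :
    ∀ (M : Type u) [AddCommGroup M] [Module A M] [Module.Finite A M],
      Module.supportDim A (Dual.inD A M ⟶ ω⟦i⟧) ≤ c := by
  intro M _ _ hfin
  induction hfin using IsNoetherianRing.induction_on_isQuotientEquivQuotientPrime A with
  | subsingleton N =>
    haveI : Subsingleton (Dual.inD A N ⟶ ω⟦i⟧) :=
      subsingleton_iff_forall_eq_zero.mpr (fun g => eq_zero_of_subsingleton N _ g)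
    rw [Module.supportDim_eq_bot_of_subsingleton]
    exact bot_le
  | quotient N p e =>
    have h1 : Module.supportDim A (Dual.inD A N ⟶ ω⟦i⟧) ≤
        Module.supportDim A (Dual.inD A (A ⧸ p.asIdeal) ⟶ ω⟦i⟧) :=
      Module.supportDim_le_of_injective (Linear.leftComp A (ω⟦i⟧) (inDIso e).inv)
        (fun a b hab => (cancel_epi (inDIso e).inv).mp hab)
    refine h1.trans ?_
    by_cases hpm : p.asIdeal = IsLocalRing.maximalIdeal A
    · refine (supportDim_le_zero_of_killed _ ?_).trans hc0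
      intro a ha g
      have hz : a • 𝟙 (Dual.inD A (A ⧸ p.asIdeal)) = 0 := by
        show a • 𝟙 ((singleFunctor (ModuleCat.{u} A) 0).obj
          (ModuleCat.of A (A ⧸ p.asIdeal))) = 0
        rw [← CategoryTheory.Functor.map_id, ← Functor.map_smul]
        have hz' : a • 𝟙 (ModuleCat.of A (A ⧸ p.asIdeal)) = 0 := by
          refine ModuleCat.hom_ext (LinearMap.ext fun y => ?_)
          exact quot_killed p.asIdeal a (hpm ▸ ha) y
        rw [hz', Functor.map_zero]
      calc a • g = (a • 𝟙 _) ≫ g := by rw [Linear.smul_comp, Category.id_comp]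
        _ = 0 := by rw [hz, zero_comp]
    · have hlt : p.asIdeal < IsLocalRing.maximalIdeal A :=
        lt_of_le_of_ne (IsLocalRing.le_maximalIdeal p.isPrime.ne_top) hpm
      obtain ⟨x, hxm, hxp⟩ := SetLike.exists_of_lt hlt
      haveI := p.isPrime
      have hreg : IsSMulRegular (A ⧸ p.asIdeal) x := isSMulRegular_quot_prime p.asIdeal x hxp
      exact (supportDim_ext_le_succ ω hω (A ⧸ p.asIdeal) x hxm hreg i i' hii').trans
        (hstep _)
  | exact N₁ N₂ N₃ f g hf hg hfg h₁ h₃ =>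
    let S := ModuleCat.shortComplexOfCompEqZero f g hfg.linearMap_comp_eq_zero
    have hS : S.ShortExact := ModuleCat.shortComplex_shortExact S hfg hf hg
    refine supportDim_le_of_exact
      (f := Linear.leftComp A (ω⟦i⟧) ((singleFunctor (ModuleCat.{u} A) 0).map S.g))
      (g := Linear.leftComp A (ω⟦i⟧) ((singleFunctor (ModuleCat.{u} A) 0).map S.f)) ?_ c h₃ h₁
    intro h
    constructor
    · intro hh
      obtain ⟨g', hg'⟩ := Triangle.yoneda_exact₂ _ hS.singleTriangle_distinguished h hh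
      exact ⟨g', hg'.symm⟩
    · rintro ⟨g', rfl⟩
      show (singleFunctor (ModuleCat.{u} A) 0).map S.f ≫
        (singleFunctor (ModuleCat.{u} A) 0).map S.g ≫ g' = 0
      rw [← Category.assoc, ← Functor.map_comp, S.zero, Functor.map_zero, zero_comp]

omit [CommRing A] [IsNoetherianRing A] [IsLocalRing A] in
lemma zero_le_natCast (k : ℕ) : (0 : WithBot ℕ∞) ≤ ((k : ℕ) : WithBot ℕ∞) := by
  show ((0 : ℕ∞) : WithBot ℕ∞) ≤ (((k : ℕ) : ℕ∞) : WithBot ℕ∞)
  exact WithBot.coe_le_coe.mpr (by simp)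

theorem supportDim_ext_le (ω : Dual.D A) (hω : Dual.IsDualizing A ω)
    (hn : Dual.IsNormalized A ω) :
    ∀ (j : ℕ) (M : Type u) [AddCommGroup M] [Module A M] [Module.Finite A M],
      Module.supportDim A (Dual.inD A M ⟶ ω⟦(-(j : ℤ))⟧) ≤ (j : WithBot ℕ∞) := by
  intro j
  induction j with
  | zero =>
    intro M _ _ _
    refine supportDim_ext_le_aux ω hω (-((0 : ℕ) : ℤ)) 1 (by simp) _ (zero_le_natCast 0) ?_ M
    intro Q _ _ _
    haveI : Subsingleton (Dual.inD A Q ⟶ ω⟦(1 : ℤ)⟧) :=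
      subsingleton_iff_forall_eq_zero.mpr (fun g => vanish_pos ω hω hn Q 1 one_pos g)
    rw [Module.supportDim_eq_bot_of_subsingleton, WithBot.bot_add]
    exact bot_le
  | succ j IH =>
    intro M _ _ _
    refine supportDim_ext_le_aux ω hω (-((j + 1 : ℕ) : ℤ)) (-(j : ℤ)) (by push_cast; ring) _
      (zero_le_natCast (j + 1)) ?_ M
    intro Q _ _ _
    rw [Nat.cast_add, Nat.cast_one]
    exact add_le_add (IH Q) le_rfl

theorem vanishing_and_support (ω : Dual.D A) (hω : Dual.IsDualizing A ω)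
    (hn : Dual.IsNormalized A ω) (M : Type u) [AddCommGroup M] [Module A M]
    [Module.Finite A M] (d : ℕ) (hd : Module.supportDim A M = d) (i : ℤ) :
    (Nontrivial (Dual.inD A M ⟶ ω⟦i⟧) → (-(d : ℤ) ≤ i ∧ i ≤ 0)) ∧
      Module.supportDim A (Dual.inD A M ⟶ ω⟦i⟧) ≤ ((-i).toNat : WithBot ℕ∞) := by
  constructor
  · intro hnt
    rw [nontrivial_iff_not_forall_eq_zero] at hnt
    constructor
    · by_contra hlt
      push Not at hlt
      exact hnt (fun g => vanish_above_dim ω hω hn M (d + 1)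
        (by rw [hd]; exact natCast_lt_succ d) i (by push_cast; omega) g)
    · by_contra hpos
      push Not at hpos
      exact hnt (fun g => vanish_pos ω hω hn M i hpos g)
  · rcases lt_or_ge 0 i with hpos | hle
    · haveI : Subsingleton (Dual.inD A M ⟶ ω⟦i⟧) :=
        subsingleton_iff_forall_eq_zero.mpr (fun g => vanish_pos ω hω hn M i hpos g)
      rw [Module.supportDim_eq_bot_of_subsingleton]
      exact bot_le
    · obtain ⟨j, hj⟩ : ∃ j : ℕ, i = -(j : ℤ) := ⟨(-i).toNat, by omega⟩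
      subst hj
      have h1 : (-(-(j : ℤ))).toNat = j := by simp
      rw [h1]
      exact supportDim_ext_le ω hω hn j M

end Support

end Groth.Agent.Lib.Helper5.DualLocal
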