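import Mathlib
import Groth.Agent.Lib.Helper5DualLocal2

/-!
# `Hom(A[0], K[i])` vanishes iff `H^i(K)` vanishes; depth of a local ring via its normalized
dualizing complex (helper5)
-/

set_option autoImplicit false
universe u
open CategoryTheory CategoryTheory.Limits
attribute [local instance] HasDerivedCategory.standard

namespace Groth.Agent.Lib.Helper5.DualLocal

open DerivedCategory CochainComplex.HomComplex

variable {A : Type u} [CommRing A]

/-- the complex `A[0]` -/
noncomputable abbrev sA (A : Type u) [CommRing A] : CochainComplex (ModuleCat.{u} A) ℤ :=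
  (CochainComplex.singleFunctor (ModuleCat.{u} A) 0).obj (ModuleCat.of A A)

instance isKProjective_sA : (sA A).IsKProjective := by
  haveI : ∀ n : ℤ, Projective ((sA A).X n) := by
    intro n
    by_cases hn : n = 0
    · subst hn
      exact Projective.of_iso (HomologicalComplex.singleObjXSelf (ComplexShape.up ℤ) 0
        (ModuleCat.of A A)).symm inferInstance
    · exact (HomologicalComplex.isZero_single_obj_X (ComplexShape.up ℤ) 0
        (ModuleCat.of A A) n hn).projective
  exact CochainComplex.isKProjective_of_projective (sA A) 0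

theorem hom_sA_eq_zero_of_exactAt (L : CochainComplex (ModuleCat.{u} A) ℤ) (i : ℤ)
    (hL : L.ExactAt i)
    (φ : (HomotopyCategory.quotient (ModuleCat.{u} A) (ComplexShape.up ℤ)).obj (sA A) ⟶
      (HomotopyCategory.quotient (ModuleCat.{u} A) (ComplexShape.up ℤ)).obj (L⟦i⟧)) :
    φ = 0 := by
  obtain ⟨c, rfl⟩ := (CohomologyClass.toHom_bijective (sA A) L i).2 φ
  obtain ⟨z, rfl⟩ := c.mk_surjective
  obtain ⟨f, hf, rfl⟩ := Cocycle.fromSingleMk_surjective z i (zero_add i) (i + 1) rfl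
  have hex : (L.sc' (i - 1) i (i + 1)).Exact :=
    (HomologicalComplex.exactAt_iff' L (i - 1) i (i + 1) (by simp) (by simp)).mp hL
  rw [ShortComplex.moduleCat_exact_iff] at hex
  have hz : (L.d i (i + 1)).hom (f.hom 1) = 0 := by
    have := congrArg (fun m => m.hom (1 : A)) hf
    simpa using this
  obtain ⟨w, hw⟩ := hex (f.hom 1) hz
  have hmem : Cocycle.fromSingleMk f (zero_add i) (i + 1) rfl hf ∈ coboundaries _ _ _ := by
    rw [Cocycle.fromSingleMk_mem_coboundaries_iff f (zero_add i) (i + 1) rfl hf (i - 1)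
      (by ring)]
    refine ⟨ModuleCat.ofHom (LinearMap.toSpanSingleton A (L.X (i - 1)) w), ?_⟩
    refine ModuleCat.hom_ext (LinearMap.ext_ring ?_)
    show (L.d (i - 1) i).hom ((LinearMap.toSpanSingleton A (L.X (i - 1)) w) 1) = f.hom 1
    rw [LinearMap.toSpanSingleton_apply, one_smul]
    exact hw
  rw [(CohomologyClass.mk_eq_zero_iff _).mpr hmem, map_zero]

theorem hom_inD_self_eq_zero (L : CochainComplex (ModuleCat.{u} A) ℤ) (i : ℤ)
    (hL : L.ExactAt i) (g : Dual.inD A A ⟶ ((Q : _ ⥤ Dual.D A).obj L)⟦i⟧) : g = 0 := by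
  let e0 : Dual.inD A A ≅ (Q : _ ⥤ Dual.D A).obj (sA A) :=
    (DerivedCategory.singleFunctorIsoCompQ (ModuleCat.{u} A) 0).app (ModuleCat.of A A)
  let e1 : ((Q : _ ⥤ Dual.D A).obj L)⟦i⟧ ≅ (Q : _ ⥤ Dual.D A).obj (L⟦i⟧) :=
    ((Q.commShiftIso i).app L).symm
  let q1 := (quotientCompQhIso (ModuleCat.{u} A)).app (sA A)
  let q2 := (quotientCompQhIso (ModuleCat.{u} A)).app (L⟦i⟧)
  obtain ⟨φ, hφ⟩ := (CochainComplex.IsKProjective.Qh_map_bijective (sA A)
    ((HomotopyCategory.quotient _ _).obj (L⟦i⟧))).2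
      (q1.hom ≫ e0.inv ≫ g ≫ e1.hom ≫ q2.inv)
  have h0 : φ = 0 := hom_sA_eq_zero_of_exactAt L i hL φ
  rw [h0, Functor.map_zero] at hφ
  have h1 : e0.inv ≫ g ≫ e1.hom ≫ q2.inv = 0 :=
    (cancel_epi q1.hom).mp (hφ.symm.trans comp_zero.symm)
  have h2 : g ≫ (e1.hom ≫ q2.inv) = 0 := (cancel_epi e0.inv).mp (h1.trans comp_zero.symm)
  exact (cancel_mono (e1.hom ≫ q2.inv)).mp (h2.trans zero_comp.symm)

theorem forall_eq_zero_iff_subsingleton_HD (ω : Dual.D A) (i : ℤ) :
    (∀ g : Dual.inD A A ⟶ ω⟦i⟧, g = 0) ↔ Subsingleton (Dual.HD A ω i) := by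
  constructor
  · intro h
    have hsub : Subsingleton (Dual.inD A A ⟶ ω⟦i⟧) := subsingleton_iff_forall_eq_zero.mpr h
    have h1 := Groth.Agent.Lib.Helper17.DRingAdj.isZero_homologyFunctor_zero (ω⟦i⟧) hsub
    have h2 : IsZero ((homologyFunctor (ModuleCat.{u} A) i).obj ω) :=
      h1.of_iso (((DerivedCategory.homologyFunctor (ModuleCat.{u} A) 0).shiftIso i 0 i
        (by simp)).app ω).symm
    exact ModuleCat.subsingleton_of_isZero h2
  · intro hsub g
    let L := (Q : _ ⥤ Dual.D A).objPreimage ω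
    let e : (Q : _ ⥤ Dual.D A).obj L ≅ ω := Q.objObjPreimageIso ω
    have hz : IsZero ((homologyFunctor (ModuleCat.{u} A) i).obj ω) :=
      ModuleCat.isZero_of_subsingleton _
    have hzL : IsZero (L.homology i) :=
      hz.of_iso (((DerivedCategory.homologyFunctor (ModuleCat.{u} A) i).mapIso e.symm ≪≫
        (DerivedCategory.homologyFunctorFactors (ModuleCat.{u} A) i).app L).symm)
    have hL : L.ExactAt i := (HomologicalComplex.exactAt_iff_isZero_homology L i).mpr hzL
    have h0 := hom_inD_self_eq_zero L i hL (g ≫ (e.inv)⟦i⟧')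
    exact (cancel_mono ((e.inv)⟦i⟧')).mp (h0.trans zero_comp.symm)

theorem depth_self_eq_iff [IsNoetherianRing A] [IsLocalRing A] (ω : Dual.D A)
    (hω : Dual.IsDualizing A ω) (hn : Dual.IsNormalized A ω) (n : ℕ) :
    LocCoh.depth A A = n ↔
      ((∀ δ : ℕ, δ < n → Subsingleton (Dual.HD A ω (-(δ : ℤ)))) ∧
        Nontrivial (Dual.HD A ω (-(n : ℤ)))) := by
  rw [depth_eq_iff ω hω hn A n]
  refine and_congr (forall₂_congr fun δ _ => forall_eq_zero_iff_subsingleton_HD ω _) ?_
  rw [forall_eq_zero_iff_subsingleton_HD, not_subsingleton_iff_nontrivial]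

end Groth.Agent.Lib.Helper5.DualLocal
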