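import Mathlib
import Groth.Agent.Lib.Helper5DualLocal3
import Groth.Agent.Lib.Helper1TorD
import Groth.Agent.Lib.Helper23InjAmp

/-!
# Biduality for finite modules, chain level part (helper5)

For a complex `E` of `A`-modules and a module `M`, `dualCx E M` is the complex
`p ↦ Hom_A(M, E^p)`.  It is contravariant in `M` (`dualMap`), carries evaluation maps
`ev m : dualCx E M ⟶ E`, and turns short exact sequences of modules into short exact sequences
of complexes when `E` is termwise injective.  We also record the two exactness statements for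
`Hom(-, Y)` in `D(A)` attached to a short exact sequence of complexes.
-/

set_option autoImplicit false
universe u
open CategoryTheory CategoryTheory.Limits
attribute [local instance] HasDerivedCategory.standard

namespace Groth.Agent.Lib.Helper5.BiDual

open DerivedCategory Pretriangulated

variable {A : Type u} [CommRing A]

section Cx

variable (E : CochainComplex (ModuleCat.{u} A) ℤ)

/-- `D(M)^p = Hom_A(M, E^p)`. -/
noncomputable def dualCx (M : ModuleCat.{u} A) : CochainComplex (ModuleCat.{u} A) ℤ where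
  X p := ModuleCat.of A (M ⟶ E.X p)
  d p q := ModuleCat.ofHom (Linear.rightComp A M (E.d p q))
  shape p q h := by
    refine ModuleCat.hom_ext (LinearMap.ext fun f => ?_)
    show f ≫ E.d p q = 0
    rw [E.shape p q h, comp_zero]
  d_comp_d' p q r _ _ := by
    refine ModuleCat.hom_ext (LinearMap.ext fun f => ?_)
    show (f ≫ E.d p q) ≫ E.d q r = 0
    rw [Category.assoc, E.d_comp_d, comp_zero]

lemma dualCx_d_apply (M : ModuleCat.{u} A) (p q : ℤ) (f : M ⟶ E.X p) :
    ((dualCx E M).d p q).hom f = f ≫ E.d p q := rfl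

/-- precomposition -/
noncomputable def dualMap {M N : ModuleCat.{u} A} (f : M ⟶ N) : dualCx E N ⟶ dualCx E M where
  f p := ModuleCat.ofHom (Linear.leftComp A (E.X p) f)
  comm' p q _ := by
    refine ModuleCat.hom_ext (LinearMap.ext fun g => ?_)
    show (f ≫ g) ≫ E.d p q = f ≫ (g ≫ E.d p q)
    rw [Category.assoc]

lemma dualMap_f_apply {M N : ModuleCat.{u} A} (f : M ⟶ N) (p : ℤ) (g : N ⟶ E.X p) :
    ((dualMap E f).f p).hom g = f ≫ g := rfl

/-- evaluation at `m`, degreewise -/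
noncomputable def evLin (M : ModuleCat.{u} A) (m : M) (p : ℤ) : (M ⟶ E.X p) →ₗ[A] E.X p where
  toFun g := g.hom m
  map_add' _ _ := rfl
  map_smul' _ _ := rfl

/-- evaluation at `m` -/
noncomputable def ev (M : ModuleCat.{u} A) (m : M) : dualCx E M ⟶ E where
  f p := ModuleCat.ofHom (evLin E M m p)
  comm' p q _ := by
    refine ModuleCat.hom_ext (LinearMap.ext fun g => ?_)
    rfl

lemma ev_f_apply (M : ModuleCat.{u} A) (m : M) (p : ℤ) (g : M ⟶ E.X p) :
    ((ev E M m).f p).hom g = g.hom m := rfl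

lemma dualMap_comp_ev {M N : ModuleCat.{u} A} (f : M ⟶ N) (m : M) :
    dualMap E f ≫ ev E M m = ev E N (f.hom m) := by
  refine HomologicalComplex.hom_ext _ _ fun p => ModuleCat.hom_ext (LinearMap.ext fun g => ?_)
  rfl

lemma ev_add (M : ModuleCat.{u} A) (m m' : M) : ev E M (m + m') = ev E M m + ev E M m' := by
  refine HomologicalComplex.hom_ext _ _ fun p => ModuleCat.hom_ext (LinearMap.ext fun g => ?_)
  show g.hom (m + m') = g.hom m + g.hom m'
  exact map_add _ _ _

lemma ev_sub (M : ModuleCat.{u} A) (m m' : M) : ev E M (m - m') = ev E M m - ev E M m' := by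
  refine HomologicalComplex.hom_ext _ _ fun p => ModuleCat.hom_ext (LinearMap.ext fun g => ?_)
  show g.hom (m - m') = g.hom m - g.hom m'
  exact map_sub _ _ _

lemma ev_zero (M : ModuleCat.{u} A) : ev E M 0 = 0 := by
  refine HomologicalComplex.hom_ext _ _ fun p => ModuleCat.hom_ext (LinearMap.ext fun g => ?_)
  show g.hom 0 = 0
  exact map_zero _

lemma ev_smul (M : ModuleCat.{u} A) (a : A) (m : M) : ev E M (a • m) = a • ev E M m := by
  refine HomologicalComplex.hom_ext _ _ fun p => ModuleCat.hom_ext (LinearMap.ext fun g => ?_)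
  show g.hom (a • m) = a • g.hom m
  exact map_smul _ _ _

/-- the dual of a short complex of modules -/
noncomputable def dualSC (S : ShortComplex (ModuleCat.{u} A)) :
    ShortComplex (CochainComplex (ModuleCat.{u} A) ℤ) where
  X₁ := dualCx E S.X₃
  X₂ := dualCx E S.X₂
  X₃ := dualCx E S.X₁
  f := dualMap E S.g
  g := dualMap E S.f
  zero := by
    refine HomologicalComplex.hom_ext _ _ fun p => ModuleCat.hom_ext (LinearMap.ext fun h => ?_)
    show S.f ≫ (S.g ≫ h) = 0
    rw [← Category.assoc, S.zero, zero_comp]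

theorem dualSC_shortExact (hE : ∀ p, Injective (E.X p)) (S : ShortComplex (ModuleCat.{u} A))
    (hS : S.ShortExact) : (dualSC E S).ShortExact := by
  refine HomologicalComplex.shortExact_of_degreewise_shortExact _ fun p => ?_
  haveI := hS.mono_f
  haveI := hS.epi_g
  haveI := hE p
  refine ModuleCat.shortComplex_shortExact _ ?_ ?_ ?_
  · intro (h : S.X₂ ⟶ E.X p)
    constructor
    · intro (hh : S.f ≫ h = 0)
      exact ⟨hS.exact.desc h hh, hS.exact.g_desc h hh⟩
    · rintro ⟨(k : S.X₃ ⟶ E.X p), rfl⟩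
      show S.f ≫ (S.g ≫ k) = 0
      rw [← Category.assoc, S.zero, zero_comp]
  · intro (h : S.X₃ ⟶ E.X p) (h' : S.X₃ ⟶ E.X p) (hh : S.g ≫ h = S.g ≫ h')
    exact (cancel_epi S.g).mp hh
  · intro (k : S.X₁ ⟶ E.X p)
    exact ⟨Injective.factorThru k S.f, Injective.comp_factorThru k S.f⟩

lemma isZero_dualCx_X (M : ModuleCat.{u} A) (p : ℤ) (h : IsZero (E.X p)) :
    IsZero ((dualCx E M).X p) := by
  haveI : Subsingleton ↑((dualCx E M).X p) :=
    show Subsingleton (M ⟶ E.X p) from ⟨fun f g => h.eq_of_tgt f g⟩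
  exact ModuleCat.isZero_of_subsingleton _

lemma isZero_dualCx_of_isZero (M : ModuleCat.{u} A) (h : IsZero M) : IsZero (dualCx E M) := by
  rw [IsZero.iff_id_eq_zero]
  refine HomologicalComplex.hom_ext _ _ fun p => ModuleCat.hom_ext (LinearMap.ext fun g => ?_)
  show g = 0
  exact h.eq_of_src _ _

end Cx

section LES

variable (S : ShortComplex (CochainComplex (ModuleCat.{u} A) ℤ)) (hS : S.ShortExact)

include hS in
/-- exactness of `Hom(-, Y)` at `X₂`. -/
lemma exists_of_f_comp_eq_zero (Y : Dual.D A) (φ : Q.obj S.X₂ ⟶ Y)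
    (h : Q.map S.f ≫ φ = 0) : ∃ ψ : Q.obj S.X₃ ⟶ Y, φ = Q.map S.g ≫ ψ :=
  Triangle.yoneda_exact₂ _ (triangleOfSES_distinguished hS) φ h

include hS in
/-- exactness of `Hom(-, Y)` at `X₁`, when `Hom(X₃, Y[1]) = 0`. -/
lemma exists_factor (Y : Dual.D A) (hY : ∀ g : Q.obj S.X₃ ⟶ Y⟦(1 : ℤ)⟧, g = 0)
    (φ : Q.obj S.X₁ ⟶ Y) : ∃ ψ : Q.obj S.X₂ ⟶ Y, φ = Q.map S.f ≫ ψ := by
  have hT := triangleOfSES_distinguished hS
  have hT2 := rot_of_distTriang _ (rot_of_distTriang _ hT)
  have hh : triangleOfSESδ hS ≫ φ⟦(1 : ℤ)⟧' = 0 := hY _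
  obtain ⟨g', hg'⟩ := Triangle.yoneda_exact₂ _ hT2 (φ⟦(1 : ℤ)⟧') hh
  obtain ⟨g4, rfl⟩ := (shiftFunctor (DerivedCategory (ModuleCat.{u} A)) (1 : ℤ)).map_surjective g'
  obtain ⟨g'', rfl⟩ : ∃ g3 : Q.obj S.X₂ ⟶ Y, g3 = g4 := ⟨g4, rfl⟩
  have e : (φ⟦(1 : ℤ)⟧') = (-(Q.map S.f)⟦(1 : ℤ)⟧') ≫ g''⟦(1 : ℤ)⟧' := hg'
  have e2 : (shiftFunctor (DerivedCategory (ModuleCat.{u} A)) (1 : ℤ)).map φ =
      (shiftFunctor (DerivedCategory (ModuleCat.{u} A)) (1 : ℤ)).map
        (-(Q.map S.f ≫ g'')) := by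
    rw [e, Functor.map_neg, Functor.map_comp, Preadditive.neg_comp]
  refine ⟨-g'', ?_⟩
  exact ((shiftFunctor (DerivedCategory (ModuleCat.{u} A)) (1 : ℤ)).map_injective e2).trans
    (Preadditive.comp_neg _ _).symm

end LES

end Groth.Agent.Lib.Helper5.BiDual
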