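import Mathlib
import Groth.Agent.Lib.Helper5BiDualA

/-!
# Biduality for finite modules over a ring with a dualizing complex (helper5)

Let `ω` be a dualizing complex over the Noetherian ring `A`, represented by a bounded complex `E`
of injective modules, and `D(M) = Hom_A(M, E)`.  For every finite module `M`:
* `Hom_{D(A)}(D(M), ω[n]) = 0` for `n ≥ 1` (`vanD_pos`);
* every morphism `D(M) ⟶ ω` in `D(A)` is (the class of) an evaluation map (`surjD`);
* for cyclic `M = A/J` the evaluation at `x` is zero in `D(A)` only if `x ∈ J`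
  (`mem_of_ev_eq_zero`).
-/

set_option autoImplicit false
universe u
open CategoryTheory CategoryTheory.Limits
attribute [local instance] HasDerivedCategory.standard

namespace Groth.Agent.Lib.Helper5.BiDual

open DerivedCategory Pretriangulated
open Groth.Agent.Lib.Helper5.DualLocal Groth.Agent.Lib.Helper5.NormDual

variable {A : Type u} [CommRing A]

section KInj

lemma exists_Q_map_eq {K L : CochainComplex (ModuleCat.{u} A) ℤ} [L.IsKInjective]
    (y : Q.obj K ⟶ Q.obj L) : ∃ g : K ⟶ L, Q.map g = y := by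
  obtain ⟨g', hg'⟩ := (CochainComplex.IsKInjective.Qh_map_bijective
    ((HomotopyCategory.quotient _ _).obj K) L).surjective
      ((quotientCompQhIso (ModuleCat.{u} A)).hom.app K ≫ y ≫
        (quotientCompQhIso (ModuleCat.{u} A)).inv.app L)
  obtain ⟨g, rfl⟩ := (HomotopyCategory.quotient _ _).map_surjective g'
  refine ⟨g, ?_⟩
  have h1 := quotientCompQhIso_hom_naturality g
  rw [hg'] at h1
  simp only [Category.assoc, Iso.inv_hom_id_app, Category.comp_id] at h1
  exact ((cancel_epi ((quotientCompQhIso (ModuleCat.{u} A)).hom.app K)).1 h1).symm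

end KInj

/-- a bounded complex of injectives representing `ω` -/
structure Res (ω : Dual.D A) where
  /-- the complex -/
  E : CochainComplex (ModuleCat.{u} A) ℤ
  /-- lower bound -/
  a : ℤ
  /-- upper bound -/
  b : ℤ
  van : DRing.VanishesOutside E a b
  inj : DRing.TermwiseInjective E
  /-- the comparison isomorphism -/
  e : Q.obj E ≅ ω

lemma nonempty_res (ω : Dual.D A) (hω : Dual.IsDualizing A ω) : Nonempty (Res ω) := by
  obtain ⟨a, b, E, h1, h2, ⟨e⟩⟩ := hasFiniteInjDim_of_isDualizing ω hω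
  exact ⟨⟨E, a, b, h1, h2, e⟩⟩

namespace Res

variable {ω : Dual.D A} (R : Res ω)

lemma injective_X (p : ℤ) : Injective (R.E.X p) := by
  haveI := R.inj p
  exact Module.injective_object_of_injective_module (R := A) (M := R.E.X p)

instance isKInjective : R.E.IsKInjective := by
  haveI : R.E.IsStrictlyGE R.a := by
    rw [CochainComplex.isStrictlyGE_iff]
    exact fun i hi => R.van i (Or.inl hi)
  haveI : ∀ n : ℤ, Injective (R.E.X n) := R.injective_X
  exact CochainComplex.isKInjective_of_injective R.E R.a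

lemma vanishesOutside_dualCx (M : ModuleCat.{u} A) :
    DRing.VanishesOutside (dualCx R.E M) R.a R.b :=
  fun i hi => isZero_dualCx_X R.E M i (R.van i hi)

end Res

theorem eq_zero_of_bound (E : CochainComplex (ModuleCat.{u} A) ℤ) [E.IsKInjective] (a b : ℤ)
    (hE : DRing.VanishesOutside E a b) (X : CochainComplex (ModuleCat.{u} A) ℤ)
    (hX : DRing.VanishesOutside X a b) (n : ℤ) (hn : b - a < n)
    (φ : Q.obj X ⟶ (Q.obj E)⟦n⟧) : φ = 0 := by
  let e1 : (Q.obj E)⟦n⟧ ≅ Q.obj (E⟦n⟧) := ((Q.commShiftIso n).app E).symm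
  obtain ⟨g, hg⟩ := exists_Q_map_eq (φ ≫ e1.hom)
  have hg0 : g = 0 := by
    refine HomologicalComplex.hom_ext _ _ fun p => ?_
    by_cases hp : p < a ∨ b < p
    · exact (hX p hp).eq_of_src _ _
    · push Not at hp
      have hz : IsZero ((E⟦n⟧).X p) := hE (p + n) (Or.inr (by lia))
      exact hz.eq_of_tgt _ _
  rw [hg0, Functor.map_zero] at hg
  exact (cancel_mono e1.hom).mp (hg.symm.trans zero_comp.symm)

section Base

variable (E : CochainComplex (ModuleCat.{u} A) ℤ)

instance isIso_ev_one : IsIso (ev E (ModuleCat.of A A) (1 : A)) := by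
  haveI : ∀ p, IsIso ((ev E (ModuleCat.of A A) (1 : A)).f p) := by
    intro p
    rw [ConcreteCategory.isIso_iff_bijective]
    constructor
    · intro (g : ModuleCat.of A A ⟶ E.X p) (g' : ModuleCat.of A A ⟶ E.X p)
        (h : g.hom (1 : A) = g'.hom (1 : A))
      exact ModuleCat.hom_ext (LinearMap.ext_ring h)
    · intro x
      refine ⟨ModuleCat.ofHom (LinearMap.toSpanSingleton A (E.X p) x), ?_⟩
      show (LinearMap.toSpanSingleton A (E.X p) x) (1 : A) = x
      rw [LinearMap.toSpanSingleton_apply, one_smul]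
  exact HomologicalComplex.Hom.isIso_of_components _

lemma ev_self (x : A) : ev E (ModuleCat.of A A) x = x • ev E (ModuleCat.of A A) (1 : A) := by
  rw [← ev_smul]
  congr 1
  exact (mul_one x).symm

end Base

variable {ω : Dual.D A}

/-- `Hom(D(M), ω[n]) = 0` -/
def VanD (R : Res ω) (M : ModuleCat.{u} A) (n : ℤ) : Prop :=
  ∀ ψ : Q.obj (dualCx R.E M) ⟶ ω⟦n⟧, ψ = 0

/-- every map `D(M) ⟶ ω` is an evaluation -/
def SurjD (R : Res ω) (M : ModuleCat.{u} A) : Prop :=
  ∀ ψ : Q.obj (dualCx R.E M) ⟶ ω, ∃ m : M, ψ = Q.map (ev R.E M m) ≫ R.e.hom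

/-- the isomorphism `D(A) ≅ ω` -/
noncomputable def ιA (R : Res ω) : Q.obj (dualCx R.E (ModuleCat.of A A)) ≅ ω :=
  asIso (Q.map (ev R.E (ModuleCat.of A A) (1 : A))) ≪≫ R.e

lemma ιA_hom (R : Res ω) :
    (ιA R).hom = Q.map (ev R.E (ModuleCat.of A A) (1 : A)) ≫ R.e.hom := rfl

lemma map_ev_self (R : Res ω) (x : A) :
    Q.map (ev R.E (ModuleCat.of A A) x) ≫ R.e.hom = x • (ιA R).hom := by
  rw [ev_self, Functor.map_smul, Linear.smul_comp, ιA_hom]

lemma vanD_base (hω : Dual.IsDualizing A ω) (R : Res ω) (n : ℤ) (hn : n ≠ 0) :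
    VanD R (ModuleCat.of A A) n := by
  intro ψ
  haveI := hω.ext_self_subsingleton n hn
  have h : (ιA R).inv ≫ ψ = 0 := Subsingleton.elim _ _
  exact (cancel_epi (ιA R).inv).mp (h.trans comp_zero.symm)

lemma surjD_base (hω : Dual.IsDualizing A ω) (R : Res ω) : SurjD R (ModuleCat.of A A) := by
  intro ψ
  obtain ⟨a, ha⟩ := hω.toEnd_bijective.2 ((ιA R).inv ≫ ψ)
  have ha' : a • 𝟙 ω = (ιA R).inv ≫ ψ := ha
  refine ⟨a, ?_⟩
  rw [map_ev_self]
  have : ψ = (ιA R).hom ≫ (ιA R).inv ≫ ψ := by simp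
  rw [this, ← ha', Linear.comp_smul, Category.comp_id]

section Lin

variable (E : CochainComplex (ModuleCat.{u} A) ℤ) (hE : ∀ p, Injective (E.X p))
  {N₁ N₂ N₃ : Type u} [AddCommGroup N₁] [Module A N₁] [AddCommGroup N₂] [Module A N₂]
  [AddCommGroup N₃] [Module A N₃] (f : N₁ →ₗ[A] N₂) (g : N₂ →ₗ[A] N₃)
  (hf : Function.Injective f) (hg : Function.Surjective g) (hfg : Function.Exact f g)

lemma dualMap_ofHom_comp_ev (m : N₂) :
    dualMap E (ModuleCat.ofHom g) ≫ ev E (ModuleCat.of A N₂) m =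
      ev E (ModuleCat.of A N₃) (g m) :=
  dualMap_comp_ev E (ModuleCat.ofHom g) m

include hE hf hg hfg in
lemma lin_exists_of_comp_eq_zero (Y : Dual.D A)
    (φ : Q.obj (dualCx E (ModuleCat.of A N₂)) ⟶ Y)
    (h : Q.map (dualMap E (ModuleCat.ofHom g)) ≫ φ = 0) :
    ∃ ψ : Q.obj (dualCx E (ModuleCat.of A N₁)) ⟶ Y,
      φ = Q.map (dualMap E (ModuleCat.ofHom f)) ≫ ψ := by
  let S := ModuleCat.shortComplexOfCompEqZero f g hfg.linearMap_comp_eq_zero
  have hS : S.ShortExact := ModuleCat.shortComplex_shortExact S hfg hf hg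
  exact exists_of_f_comp_eq_zero (dualSC E S) (dualSC_shortExact E hE S hS) Y φ h

include hE hf hg hfg in
lemma lin_exists_factor (Y : Dual.D A)
    (hY : ∀ k : Q.obj (dualCx E (ModuleCat.of A N₁)) ⟶ Y⟦(1 : ℤ)⟧, k = 0)
    (φ : Q.obj (dualCx E (ModuleCat.of A N₃)) ⟶ Y) :
    ∃ ψ : Q.obj (dualCx E (ModuleCat.of A N₂)) ⟶ Y,
      φ = Q.map (dualMap E (ModuleCat.ofHom g)) ≫ ψ := by
  let S := ModuleCat.shortComplexOfCompEqZero f g hfg.linearMap_comp_eq_zero
  have hS : S.ShortExact := ModuleCat.shortComplex_shortExact S hfg hf hg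
  exact exists_factor (dualSC E S) (dualSC_shortExact E hE S hS) Y hY φ

end Lin

/-- the map `A → N` for `N ≃ A/I`. -/
noncomputable abbrev quotMap (I : Ideal A) {N : Type u} [AddCommGroup N] [Module A N]
    (e' : N ≃ₗ[A] A ⧸ I) : A →ₗ[A] N := e'.symm.toLinearMap ∘ₗ Submodule.mkQ I

lemma quotMap_exact (I : Ideal A) {N : Type u} [AddCommGroup N] [Module A N]
    (e' : N ≃ₗ[A] A ⧸ I) : Function.Exact (Submodule.subtype I) (quotMap I e') := by
  intro x
  show e'.symm (Submodule.mkQ I x) = 0 ↔ _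
  rw [LinearEquiv.map_eq_zero_iff]
  exact LinearMap.exact_subtype_mkQ I x

lemma quotMap_surjective (I : Ideal A) {N : Type u} [AddCommGroup N] [Module A N]
    (e' : N ≃ₗ[A] A ⧸ I) : Function.Surjective (quotMap I e') :=
  e'.symm.surjective.comp (Submodule.mkQ_surjective I)

section Main

variable (hω : Dual.IsDualizing A ω) (R : Res ω)

include hω in
theorem vanD_pos_aux : ∀ (k : ℕ) (n : ℤ), 1 ≤ n → R.b - R.a < n + k →
    ∀ (M : Type u) [AddCommGroup M] [Module A M] [Module.Finite A M],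
      VanD R (ModuleCat.of A M) n := by
  haveI := hω.isNoetherianRing
  intro k
  induction k with
  | zero =>
    intro n _ hk M _ _ _ ψ
    have h0 := eq_zero_of_bound R.E R.a R.b R.van _ (R.vanishesOutside_dualCx (ModuleCat.of A M))
      n (by simpa using hk) (ψ ≫ (R.e.inv)⟦n⟧')
    exact (cancel_mono ((R.e.inv)⟦n⟧')).mp (h0.trans zero_comp.symm)
  | succ k IH =>
    intro n hn hk M _ _ hfin
    have IH' : ∀ (K : Type u) [AddCommGroup K] [Module A K] [Module.Finite A K],
        VanD R (ModuleCat.of A K) (n + 1) := fun K _ _ _ =>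
      IH (n + 1) (by lia) (by push_cast at hk; lia) K
    induction hfin using IsNoetherianRing.induction_on_isQuotientEquivQuotientPrime A with
    | subsingleton N =>
      intro ψ
      exact (Functor.map_isZero Q (isZero_dualCx_of_isZero R.E _
        (ModuleCat.isZero_of_subsingleton (ModuleCat.of A N)))).eq_of_src _ _
    | quotient N p e' =>
      intro ψ
      have hY : ∀ k : Q.obj (dualCx R.E (ModuleCat.of A p.asIdeal)) ⟶ (ω⟦n⟧)⟦(1 : ℤ)⟧, k = 0 :=
        (forall_eq_zero_shift_iff ω _ n (n + 1) rfl).mp (IH' p.asIdeal)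
      obtain ⟨ψ', hψ'⟩ := lin_exists_factor R.E R.injective_X _ _ Subtype.val_injective
        (quotMap_surjective p.asIdeal e') (quotMap_exact p.asIdeal e') (ω⟦n⟧) hY ψ
      have h0 := vanD_base hω R n (by lia) ψ'
      rw [hψ', h0]
      exact comp_zero
    | exact N₁ N₂ N₃ f g hf hg hfg h₁ h₃ =>
      intro ψ
      obtain ⟨ψ', hψ'⟩ := lin_exists_of_comp_eq_zero R.E R.injective_X f g hf hg hfg (ω⟦n⟧) ψ
        (h₃ _)
      have h0 := h₁ ψ'
      rw [hψ', h0]
      exact comp_zero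

include hω in
theorem vanD_pos (n : ℤ) (hn : 1 ≤ n) (M : Type u) [AddCommGroup M] [Module A M]
    [Module.Finite A M] : VanD R (ModuleCat.of A M) n := by
  obtain ⟨k, hk⟩ : ∃ k : ℕ, R.b - R.a < n + k := ⟨(R.b - R.a).toNat + 1, by
    have := Int.self_le_toNat (R.b - R.a)
    push_cast
    lia⟩
  exact vanD_pos_aux hω R k n hn hk M

include hω in
theorem surjD (M : Type u) [AddCommGroup M] [Module A M] [hfin : Module.Finite A M] :
    SurjD R (ModuleCat.of A M) := by
  haveI := hω.isNoetherianRing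
  induction hfin using IsNoetherianRing.induction_on_isQuotientEquivQuotientPrime A with
  | subsingleton N =>
    intro ψ
    exact ⟨0, (Functor.map_isZero Q (isZero_dualCx_of_isZero R.E _
      (ModuleCat.isZero_of_subsingleton (ModuleCat.of A N)))).eq_of_src _ _⟩
  | quotient N p e' =>
    intro ψ
    have hY : ∀ k : Q.obj (dualCx R.E (ModuleCat.of A p.asIdeal)) ⟶ ω⟦(1 : ℤ)⟧, k = 0 :=
      vanD_pos hω R 1 le_rfl p.asIdeal
    obtain ⟨ψ', hψ'⟩ := lin_exists_factor R.E R.injective_X _ _ Subtype.val_injective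
      (quotMap_surjective p.asIdeal e') (quotMap_exact p.asIdeal e') ω hY ψ
    obtain ⟨x, hx⟩ := surjD_base hω R ψ'
    refine ⟨quotMap p.asIdeal e' x, ?_⟩
    rw [hψ', hx, ← dualMap_ofHom_comp_ev, Functor.map_comp, Category.assoc]
  | exact N₁ N₂ N₃ f g hf hg hfg h₁ h₃ =>
    intro ψ
    obtain ⟨m₃, hm₃⟩ := h₃ (Q.map (dualMap R.E (ModuleCat.ofHom g)) ≫ ψ)
    obtain ⟨m₂, rfl⟩ := hg m₃
    have h0 : Q.map (dualMap R.E (ModuleCat.ofHom g)) ≫
        (ψ - Q.map (ev R.E (ModuleCat.of A N₂) m₂) ≫ R.e.hom) = 0 := by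
      rw [Preadditive.comp_sub, hm₃, ← Category.assoc, ← Functor.map_comp,
        dualMap_ofHom_comp_ev, sub_self]
    obtain ⟨ψ₁, hψ₁⟩ := lin_exists_of_comp_eq_zero R.E R.injective_X f g hf hg hfg ω _ h0
    obtain ⟨m₁, hm₁⟩ := h₁ ψ₁
    refine ⟨f m₁ + m₂, ?_⟩
    rw [ev_add, Functor.map_add, Preadditive.add_comp, ← dualMap_ofHom_comp_ev,
      Functor.map_comp, Category.assoc, ← hm₁, ← hψ₁, sub_add_cancel]

include hω in
theorem mem_of_ev_eq_zero (J : Ideal A) (x : A)
    (h : Q.map (ev R.E (ModuleCat.of A (A ⧸ J)) (Submodule.Quotient.mk x)) ≫ R.e.hom = 0) :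
    x ∈ J := by
  haveI := hω.isNoetherianRing
  have h0 : Q.map (dualMap R.E (ModuleCat.ofHom (Submodule.mkQ J))) ≫
      (Q.map (ev R.E (ModuleCat.of A A) x) ≫ R.e.hom) = 0 := by
    rw [← Category.assoc, ← Functor.map_comp, dualMap_ofHom_comp_ev]
    exact h
  obtain ⟨ψ, hψ⟩ := lin_exists_of_comp_eq_zero R.E R.injective_X (Submodule.subtype J)
    (Submodule.mkQ J) Subtype.val_injective (Submodule.mkQ_surjective J)
    (LinearMap.exact_subtype_mkQ J) ω _ h0
  obtain ⟨y, hy⟩ := surjD hω R J ψ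
  have h1 : dualMap R.E (ModuleCat.ofHom (Submodule.subtype J)) ≫ ev R.E (ModuleCat.of A J) y =
      ev R.E (ModuleCat.of A A) (y : A) := dualMap_ofHom_comp_ev R.E (Submodule.subtype J) y
  have h2 : Q.map (ev R.E (ModuleCat.of A A) (x - y)) ≫ R.e.hom = 0 := by
    rw [ev_sub, Functor.map_sub, Preadditive.sub_comp, hψ, hy, ← h1, Functor.map_comp,
      Category.assoc]
    exact sub_self _
  rw [map_ev_self] at h2
  have h3 : (x - (y : A)) • 𝟙 ω = (0 : A) • 𝟙 ω := by
    rw [zero_smul]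
    have : (x - (y : A)) • 𝟙 ω = (ιA R).inv ≫ ((x - (y : A)) • (ιA R).hom) := by
      rw [Linear.comp_smul, Iso.inv_hom_id]
    rw [this, h2, comp_zero]
  have h4 : x - (y : A) = 0 := hω.toEnd_bijective.1 h3
  rw [sub_eq_zero.mp h4]
  exact y.2

end Main

end Groth.Agent.Lib.Helper5.BiDual
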