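import Mathlib
import Groth.Agent.Lib.Helper5BiDualB
import Groth.Agent.Lib.Helper17KInjD1
set_option backward.isDefEq.respectTransparency.types false

/-!
# Cohomology of `Hom_A(N, E)` for a K-injective complex `E` (helper5)

`homologyDualCxEquiv`: `H^i(Hom_A(N, E)) ≃ₗ Hom_{D(A)}(N[-i], E)` for a K-injective complex `E`.
-/

set_option autoImplicit false
universe u
open CategoryTheory CategoryTheory.Limits
attribute [local instance] HasDerivedCategory.standard

namespace Groth.Agent.Lib.Helper5.BiDual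

open DerivedCategory HomologicalComplex CochainComplex.HomComplex

variable {A : Type u} [CommRing A]

section Cyc

variable (E : CochainComplex (ModuleCat.{u} A) ℤ) (N : ModuleCat.{u} A) (i : ℤ)

/-- the complex `N[-i]` -/
noncomputable abbrev sCx : CochainComplex (ModuleCat.{u} A) ℤ :=
  (CochainComplex.singleFunctor (ModuleCat.{u} A) i).obj N

/-- the object `N[-i]` of `D(A)` -/
noncomputable abbrev sD : Dual.D A :=
  (DerivedCategory.singleFunctor (ModuleCat.{u} A) i).obj N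

/-- comparison -/
noncomputable def sIso : sD N i ≅ Q.obj (sCx N i) :=
  (singleFunctorIsoCompQ (ModuleCat.{u} A) i).app N

/-- the chain map `N[-i] ⟶ E` attached to a cycle -/
noncomputable def cyc (f : N ⟶ E.X i) (hf : f ≫ E.d i (i + 1) = 0) : sCx N i ⟶ E :=
  HomologicalComplex.mkHomFromSingle f (fun k hk => by
    obtain rfl : i + 1 = k := hk
    exact hf)

lemma cyc_f (f : N ⟶ E.X i) (hf : f ≫ E.d i (i + 1) = 0) :
    (cyc E N i f hf).f i = (singleObjXSelf (ComplexShape.up ℤ) i N).hom ≫ f :=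
  HomologicalComplex.mkHomFromSingle_f _ _

lemma cyc_add (f g : N ⟶ E.X i) (hf : f ≫ E.d i (i + 1) = 0) (hg : g ≫ E.d i (i + 1) = 0)
    (hfg : (f + g) ≫ E.d i (i + 1) = 0) :
    cyc E N i (f + g) hfg = cyc E N i f hf + cyc E N i g hg := by
  apply HomologicalComplex.from_single_hom_ext
  rw [HomologicalComplex.add_f_apply, cyc_f, cyc_f, cyc_f, Preadditive.comp_add]
  rfl

lemma cyc_smul (a : A) (f : N ⟶ E.X i) (hf : f ≫ E.d i (i + 1) = 0)
    (haf : (a • f) ≫ E.d i (i + 1) = 0) :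
    cyc E N i (a • f) haf = a • cyc E N i f hf := by
  apply HomologicalComplex.from_single_hom_ext
  rw [HomologicalComplex.smul_f_apply, cyc_f, cyc_f, Linear.comp_smul]
  rfl

lemma exists_cyc (g : sCx N i ⟶ E) :
    ∃ (f : N ⟶ E.X i) (hf : f ≫ E.d i (i + 1) = 0), cyc E N i f hf = g := by
  refine ⟨(singleObjXSelf (ComplexShape.up ℤ) i N).inv ≫ g.f i, ?_, ?_⟩
  · have h1 : g.f i ≫ E.d i (i + 1) = (sCx N i).d i (i + 1) ≫ g.f (i + 1) := g.comm i (i + 1)
    have hd : (sCx N i).d i (i + 1) = 0 := HomologicalComplex.single_obj_d _ _ _ _ _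
    rw [hd, zero_comp] at h1
    rw [Category.assoc]
    exact (congrArg (fun t => (singleObjXSelf (ComplexShape.up ℤ) i N).inv ≫ t) h1).trans comp_zero
  · apply HomologicalComplex.from_single_hom_ext
    rw [cyc_f, Iso.hom_inv_id_assoc]

lemma cyc_boundary_iff [E.IsKInjective] (f : N ⟶ E.X i) (hf : f ≫ E.d i (i + 1) = 0) :
    (Q : _ ⥤ Dual.D A).map (cyc E N i f hf) = 0 ↔
      ∃ k : N ⟶ E.X (i - 1), k ≫ E.d (i - 1) i = f := by
  constructor
  · intro h
    obtain ⟨H⟩ := Groth.Agent.Lib.Helper17.KInj.homotopy_of_Q_map_eq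
      (g := cyc E N i f hf) (g' := 0) (by rw [h, Functor.map_zero])
    have hc := H.comm i
    rw [dNext_eq H.hom (show (ComplexShape.up ℤ).Rel i (i + 1) from rfl),
      prevD_eq H.hom (show (ComplexShape.up ℤ).Rel (i - 1) i by simp),
      HomologicalComplex.zero_f, add_zero] at hc
    have hd : (sCx N i).d i (i + 1) = 0 := HomologicalComplex.single_obj_d _ _ _ _ _
    rw [hd, zero_comp, zero_add, cyc_f] at hc
    refine ⟨(singleObjXSelf (ComplexShape.up ℤ) i N).inv ≫ H.hom i (i - 1), ?_⟩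
    have h2 : (singleObjXSelf (ComplexShape.up ℤ) i N).inv ≫
        ((singleObjXSelf (ComplexShape.up ℤ) i N).hom ≫ f) =
        (singleObjXSelf (ComplexShape.up ℤ) i N).inv ≫ (H.hom i (i - 1) ≫ E.d (i - 1) i) :=
      congrArg (fun t => (singleObjXSelf (ComplexShape.up ℤ) i N).inv ≫ t) hc
    rw [Iso.inv_hom_id_assoc] at h2
    rw [Category.assoc]
    exact h2.symm
  · rintro ⟨k, rfl⟩
    have hH : Homotopy (cyc E N i (k ≫ E.d (i - 1) i) hf) 0 := by
      refine (Cochain.equivHomotopy _ _).symm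
        ⟨Cochain.fromSingleMk k (show i + (-1) = i - 1 by lia), ?_⟩
      rw [Cochain.δ_fromSingleMk k _ 0 i (by lia : i + 0 = i), Cochain.ofHom_zero, add_zero]
      apply (Cochain.fromSingleEquiv (show i + 0 = i by lia)).injective
      rw [Cochain.fromSingleEquiv_fromSingleMk]
      show (singleObjXSelf (ComplexShape.up ℤ) i N).inv ≫
        (Cochain.ofHom (cyc E N i _ hf)).v i i _ = _
      rw [Cochain.ofHom_v, cyc_f, Iso.inv_hom_id_assoc]
    rw [DerivedCategory.Q_map_eq_of_homotopy (ModuleCat.{u} A) hH, Functor.map_zero]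

end Cyc

section Equiv

variable (E : CochainComplex (ModuleCat.{u} A) ℤ) [E.IsKInjective] (N : ModuleCat.{u} A) (i : ℤ)

lemma mem_ker_iff (z : N ⟶ E.X i) :
    z ∈ LinearMap.ker ((dualCx E N).sc' (i - 1) i (i + 1)).g.hom ↔ z ≫ E.d i (i + 1) = 0 :=
  Iff.rfl

/-- cycles of `dualCx E N` in degree `i` to maps in `D(A)` -/
noncomputable def cycMap :
    LinearMap.ker ((dualCx E N).sc' (i - 1) i (i + 1)).g.hom →ₗ[A] (sD N i ⟶ Q.obj E) where
  toFun z := (sIso N i).hom ≫ Q.map (cyc E N i z.1 ((mem_ker_iff E N i z.1).mp z.2))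
  map_add' z z' := by
    have h := cyc_add E N i z.1 z'.1 ((mem_ker_iff E N i z.1).mp z.2)
      ((mem_ker_iff E N i z'.1).mp z'.2) ((mem_ker_iff E N i _).mp (z + z').2)
    exact (congrArg (fun t => (sIso N i).hom ≫ (Q : _ ⥤ Dual.D A).map t) h).trans
      (by rw [Functor.map_add, Preadditive.comp_add])
  map_smul' a z := by
    have h := cyc_smul E N i a z.1 ((mem_ker_iff E N i z.1).mp z.2)
      ((mem_ker_iff E N i _).mp (a • z).2)
    exact (congrArg (fun t => (sIso N i).hom ≫ (Q : _ ⥤ Dual.D A).map t) h).trans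
      (by rw [Functor.map_smul, Linear.comp_smul]; rfl)

lemma cycMap_apply (z : LinearMap.ker ((dualCx E N).sc' (i - 1) i (i + 1)).g.hom) :
    cycMap E N i z =
      (sIso N i).hom ≫ Q.map (cyc E N i z.1 ((mem_ker_iff E N i z.1).mp z.2)) := rfl

lemma cycMap_surjective : Function.Surjective (cycMap E N i) := by
  intro t
  obtain ⟨g, hg⟩ := exists_Q_map_eq ((sIso N i).inv ≫ t)
  obtain ⟨f, hf, rfl⟩ := exists_cyc E N i g
  refine ⟨⟨f, (mem_ker_iff E N i f).mpr hf⟩, ?_⟩
  rw [cycMap_apply]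
  show (sIso N i).hom ≫ Q.map (cyc E N i f _) = t
  rw [hg, Iso.hom_inv_id_assoc]

lemma ker_cycMap : LinearMap.ker (cycMap E N i) =
    LinearMap.range ((dualCx E N).sc' (i - 1) i (i + 1)).moduleCatToCycles := by
  ext z
  rw [LinearMap.mem_ker, LinearMap.mem_range]
  have hz : (z.1 : N ⟶ E.X i) ≫ E.d i (i + 1) = 0 := (mem_ker_iff E N i z.1).mp z.2
  have h1 : cycMap E N i z = 0 ↔ (Q : _ ⥤ Dual.D A).map (cyc E N i z.1 hz) = 0 := by
    rw [cycMap_apply]
    constructor
    · intro h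
      exact (cancel_epi (sIso N i).hom).mp (h.trans comp_zero.symm)
    · intro h
      rw [h, comp_zero]
  rw [h1, cyc_boundary_iff]
  constructor
  · rintro ⟨k, hk⟩
    exact ⟨k, Subtype.ext hk⟩
  · rintro ⟨k, hk⟩
    exact ⟨k, congrArg Subtype.val hk⟩

/-- `H^i(Hom_A(N, E)) ≃ Hom_{D(A)}(N[-i], E)` -/
noncomputable def homologyDualCxEquiv :
    (dualCx E N).homology i ≃ₗ[A] (sD N i ⟶ Q.obj E) :=
  ((((dualCx E N).homologyIsoSc' (i - 1) i (i + 1) (by simp) (by simp)) ≪≫
    ((dualCx E N).sc' (i - 1) i (i + 1)).moduleCatHomologyIso).toLinearEquiv :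
      (dualCx E N).homology i ≃ₗ[A]
        (LinearMap.ker ((dualCx E N).sc' (i - 1) i (i + 1)).g.hom ⧸
          LinearMap.range ((dualCx E N).sc' (i - 1) i (i + 1)).moduleCatToCycles)) ≪≫ₗ
  (Submodule.quotEquivOfEq _ _ (ker_cycMap E N i).symm) ≪≫ₗ
  (cycMap E N i).quotKerEquivOfSurjective (cycMap_surjective E N i)

lemma isZero_homology_dualCx (h : ∀ t : sD N i ⟶ Q.obj E, t = 0) :
    IsZero ((dualCx E N).homology i) := by
  haveI : Subsingleton (sD N i ⟶ Q.obj E) := ⟨fun s t => by rw [h s, h t]⟩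
  haveI : Subsingleton ((dualCx E N).homology i) :=
    (homologyDualCxEquiv E N i).toEquiv.subsingleton
  exact ModuleCat.isZero_of_subsingleton _

end Equiv

end Groth.Agent.Lib.Helper5.BiDual
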