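import Mathlib

/-! Finite length modules over a (Noetherian) local ring: support at the closed point, and
dévissage by the residue field (helper19). -/

set_option autoImplicit false
universe u

namespace Groth.Agent.Lib.Helper19FinLenLocal

variable {R : Type u} [CommRing R]

theorem isFiniteLength_of_exact {N₁ N₂ N₃ : Type u} [AddCommGroup N₁] [Module R N₁]
    [AddCommGroup N₂] [Module R N₂] [AddCommGroup N₃] [Module R N₃]
    (f : N₁ →ₗ[R] N₂) (g : N₂ →ₗ[R] N₃) (hf : Function.Injective f) (hg : Function.Surjective g)
    (hfg : Function.Exact f g) (h₁ : IsFiniteLength R N₁) (h₃ : IsFiniteLength R N₃) :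
    IsFiniteLength R N₂ := by
  rw [← Module.length_ne_top_iff] at h₁ h₃ ⊢
  rw [Module.length_eq_add_of_exact f g hf hg hfg]
  exact WithTop.add_ne_top.mpr ⟨h₁, h₃⟩

variable [IsLocalRing R]

theorem support_quotient_maximalIdeal :
    Module.support R (R ⧸ IsLocalRing.maximalIdeal R) = {IsLocalRing.closedPoint R} := by
  rw [Module.support_eq_zeroLocus, Ideal.annihilator_quotient]
  ext p
  rw [PrimeSpectrum.mem_zeroLocus, Set.mem_singleton_iff, SetLike.coe_subset_coe]
  constructor
  · intro h
    apply PrimeSpectrum.ext
    exact (IsLocalRing.eq_maximalIdeal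
      ((IsLocalRing.maximalIdeal.isMaximal R).eq_of_le p.2.ne_top h ▸
        IsLocalRing.maximalIdeal.isMaximal R)).trans rfl
  · rintro rfl
    exact le_refl _

/-- a simple module over a local ring is the residue field -/
theorem nonempty_equiv_of_isSimpleModule (M : Type u) [AddCommGroup M] [Module R M]
    [IsSimpleModule R M] : Nonempty (M ≃ₗ[R] R ⧸ IsLocalRing.maximalIdeal R) := by
  obtain ⟨I, hI, ⟨e⟩⟩ := isSimpleModule_iff_quot_maximal.mp (inferInstance : IsSimpleModule R M)
  have : I = IsLocalRing.maximalIdeal R := IsLocalRing.eq_maximalIdeal hI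
  subst this
  exact ⟨e⟩

theorem support_subset_of_isFiniteLength (M : Type u) [AddCommGroup M] [Module R M]
    (h : IsFiniteLength R M) : Module.support R M ⊆ {IsLocalRing.closedPoint R} := by
  induction h with
  | of_subsingleton =>
    rw [Module.support_eq_empty]
    exact Set.empty_subset _
  | @of_simple_quotient M _ _ N _ _ ih =>
    rw [Module.support_of_exact (f := N.subtype) (g := N.mkQ)
      (LinearMap.exact_subtype_mkQ N) N.injective_subtype N.mkQ_surjective]
    obtain ⟨e⟩ := nonempty_equiv_of_isSimpleModule (R := R) (M ⧸ N)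
    rw [e.support_eq, support_quotient_maximalIdeal]
    exact Set.union_subset ih (le_refl _)

theorem isFiniteLength_of_support_subset [IsNoetherianRing R] (M : Type u) [AddCommGroup M]
    [Module R M] (hM : Module.Finite R M)
    (h : Module.support R M ⊆ {IsLocalRing.closedPoint R}) : IsFiniteLength R M := by
  induction hM using IsNoetherianRing.induction_on_isQuotientEquivQuotientPrime R with
  | subsingleton N => exact IsFiniteLength.of_subsingleton
  | quotient N p e =>
    rw [e.support_eq, Module.support_eq_zeroLocus, Ideal.annihilator_quotient] at h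
    have hp : p ∈ PrimeSpectrum.zeroLocus (p.asIdeal : Set R) := by
      rw [PrimeSpectrum.mem_zeroLocus]
    have hp' := h hp
    rw [Set.mem_singleton_iff] at hp'
    have : IsSimpleModule R (R ⧸ p.asIdeal) := by
      rw [hp']
      exact isSimpleModule_iff_quot_maximal.mpr
        ⟨_, IsLocalRing.maximalIdeal.isMaximal R, ⟨LinearEquiv.refl _ _⟩⟩
    have h2 : IsFiniteLength R (R ⧸ p.asIdeal) :=
      isFiniteLength_of_exists_compositionSeries
        (by
          rw [← isFiniteLength_iff_exists_compositionSeries, isFiniteLength_iff_isNoetherian_isArtinian]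
          exact ⟨inferInstance, inferInstance⟩)
    exact e.symm.isFiniteLength h2
  | exact N₁ N₂ N₃ f g hf hg hfg h₁ h₃ =>
    rw [Module.support_of_exact hfg hf hg] at h
    exact isFiniteLength_of_exact f g hf hg hfg
      (h₁ (Set.subset_union_left.trans h)) (h₃ (Set.subset_union_right.trans h))

/-- dévissage of finite length modules over a local ring by the residue field. -/
theorem induction_on_isFiniteLength
    {motive : ∀ (M : Type u) [AddCommGroup M] [Module R M], Prop}
    (zero : ∀ (M : Type u) [AddCommGroup M] [Module R M] [Subsingleton M], motive M)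
    (step : ∀ (M : Type u) [AddCommGroup M] [Module R M] (N : Submodule R M)
      (_ : (M ⧸ N) ≃ₗ[R] R ⧸ IsLocalRing.maximalIdeal R), IsFiniteLength R N → motive N → motive M)
    (M : Type u) [AddCommGroup M] [Module R M] (h : IsFiniteLength R M) : motive M := by
  induction h with
  | of_subsingleton => exact zero _
  | @of_simple_quotient M _ _ N _ hN ih =>
    obtain ⟨e⟩ := nonempty_equiv_of_isSimpleModule (R := R) (M ⧸ N)
    exact step M N e hN ih

end Groth.Agent.Lib.Helper19FinLenLocal
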