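import Mathlib
import Groth.Agent.Lib.Helper5BiDualB

/-!
# `Hom(κ, ω[i])` for a maximal ideal and a dualizing complex (helper5)

For a dualizing complex `ω` over a Noetherian ring `A` and a maximal ideal `m`, the groups
`Hom_{D(A)}(A/m, ω[i])` vanish except in one degree, where the group is `≅ A/m`.
-/

set_option autoImplicit false
universe u
open CategoryTheory CategoryTheory.Limits
attribute [local instance] HasDerivedCategory.standard

namespace Groth.Agent.Lib.Helper5.BiDual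

open DerivedCategory Pretriangulated
open Groth.Agent.Lib.Helper5.DualLocal Groth.Agent.Lib.Helper5.NormDual

variable {A : Type u} [CommRing A]

section Shift

variable {ω : Dual.D A}

lemma forall_eq_zero_shift_add_iff (ω X : Dual.D A) (n j i : ℤ) (h : n + j = i) :
    (∀ g : X ⟶ ω⟦i⟧, g = 0) ↔ (∀ g : X ⟶ (ω⟦n⟧)⟦j⟧, g = 0) := by
  constructor
  · intro h0 g
    have := h0 (g ≫ (shiftFunctorAdd' (DerivedCategory (ModuleCat.{u} A)) n j i h).inv.app ω)
    exact (cancel_mono ((shiftFunctorAdd' (DerivedCategory (ModuleCat.{u} A)) n j i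
      h).inv.app ω)).mp (this.trans zero_comp.symm)
  · intro h0 g
    have := h0 (g ≫ (shiftFunctorAdd' (DerivedCategory (ModuleCat.{u} A)) n j i h).hom.app ω)
    exact (cancel_mono ((shiftFunctorAdd' (DerivedCategory (ModuleCat.{u} A)) n j i
      h).hom.app ω)).mp (this.trans zero_comp.symm)

theorem isDualizing_shift (hω : Dual.IsDualizing A ω) (i : ℤ) : Dual.IsDualizing A (ω⟦i⟧) where
  isNoetherianRing := hω.isNoetherianRing
  finite_injective_dimension := by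
    obtain ⟨a, b, h⟩ := hω.finite_injective_dimension
    refine ⟨a - i, b - i, fun M _ _ j hj => ?_⟩
    haveI := h M (i + j) (by lia)
    rw [subsingleton_iff_forall_eq_zero]
    exact (forall_eq_zero_shift_add_iff ω _ i j (i + j) rfl).mp
      (fun g => Subsingleton.elim _ _)
  finite_cohomology := fun j => by
    have h1 : Module.Finite A ↑((homologyFunctor (ModuleCat.{u} A) (i + j)).obj ω) :=
      hω.finite_cohomology (i + j)
    let e : (homologyFunctor (ModuleCat.{u} A) j).obj (ω⟦i⟧) ≅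
        (homologyFunctor (ModuleCat.{u} A) (i + j)).obj ω :=
      ((homologyFunctor (ModuleCat.{u} A) 0).shiftIso i j (i + j) rfl).app ω
    exact Module.Finite.equiv e.symm.toLinearEquiv
  toEnd_bijective := by
    constructor
    · intro a b (h : a • 𝟙 (ω⟦i⟧) = b • 𝟙 (ω⟦i⟧))
      apply hω.toEnd_bijective.1
      show a • 𝟙 ω = b • 𝟙 ω
      apply (shiftFunctor (DerivedCategory (ModuleCat.{u} A)) i).map_injective
      rw [Functor.map_smul, Functor.map_smul, CategoryTheory.Functor.map_id]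
      exact h
    · intro φ
      obtain ⟨ψ, rfl⟩ := (shiftFunctor (DerivedCategory (ModuleCat.{u} A)) i).map_surjective φ
      obtain ⟨a, ha⟩ := hω.toEnd_bijective.2 ψ
      have ha' : a • 𝟙 ω = ψ := ha
      refine ⟨a, ?_⟩
      show a • 𝟙 (ω⟦i⟧) = (shiftFunctor (DerivedCategory (ModuleCat.{u} A)) i).map ψ
      rw [← ha', Functor.map_smul, CategoryTheory.Functor.map_id]
  ext_self_subsingleton := fun j hj => by
    haveI := hω.ext_self_subsingleton j hj
    rw [subsingleton_iff_forall_eq_zero]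
    intro f
    let c : (ω⟦i⟧)⟦j⟧ ≅ (ω⟦j⟧)⟦i⟧ :=
      (shiftFunctorComm (DerivedCategory (ModuleCat.{u} A)) i j).app ω
    obtain ⟨ψ, hψ⟩ := (shiftFunctor (DerivedCategory (ModuleCat.{u} A)) i).map_surjective
      (f ≫ c.hom)
    have h0 : ψ = 0 := Subsingleton.elim _ _
    rw [h0, Functor.map_zero] at hψ
    exact (cancel_mono c.hom).mp (hψ.symm.trans zero_comp.symm)

/-- the shifted resolution -/
noncomputable def Res.shift (R : Res ω) (i : ℤ) : Res (ω⟦i⟧) where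
  E := R.E⟦i⟧
  a := R.a - i
  b := R.b - i
  van := fun p hp => R.van (p + i) (by lia)
  inj := fun p => R.inj (p + i)
  e := (Q.commShiftIso i).app R.E ≪≫ (shiftFunctor (DerivedCategory (ModuleCat.{u} A)) i).mapIso R.e

end Shift

section Functional

lemma smul_hom_eq_zero (m : Ideal A) (Z : ModuleCat.{u} A) (a : A) (ha : a ∈ m)
    (x : ModuleCat.of A (A ⧸ m) ⟶ Z) : a • x = 0 := by
  refine ModuleCat.hom_ext (LinearMap.ext fun y => ?_)
  show a • x.hom y = 0
  rw [← map_smul]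
  have : a • y = 0 := by
    obtain ⟨b, rfl⟩ := Submodule.Quotient.mk_surjective m y
    rw [← Submodule.Quotient.mk_smul, Submodule.Quotient.mk_eq_zero]
    exact m.mul_mem_right b ha
  rw [this, map_zero]

lemma exists_functional (m : Ideal A) [hm : m.IsMaximal] (N : Type u) [AddCommGroup N]
    [Module A N] (hN : ∀ a ∈ m, ∀ x : N, a • x = 0) (B : Submodule A N) (z : N) (hz : z ∉ B) :
    ∃ l : N →ₗ[A] (A ⧸ m), l z = 1 ∧ ∀ x ∈ B, l x = 0 := by
  have hT : Module.IsTorsionBySet A N (m : Set A) := fun x a => hN a.1 a.2 x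
  letI : Field (A ⧸ m) := Ideal.Quotient.field m
  letI : Module (A ⧸ m) N := hT.module
  haveI : IsScalarTower A (A ⧸ m) N := hT.isScalarTower
  let B' : Submodule (A ⧸ m) N :=
    { carrier := B
      add_mem' := B.add_mem
      zero_mem' := B.zero_mem
      smul_mem' := fun c x hx => by
        obtain ⟨a, rfl⟩ := Ideal.Quotient.mk_surjective c
        rw [hT.mk_smul]
        exact B.smul_mem a hx }
  have hz' : z ∉ B' := hz
  obtain ⟨f, hfz, hf⟩ := Submodule.exists_le_ker_of_notMem hz'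
  refine ⟨((f z)⁻¹ • f).restrictScalars A, ?_, ?_⟩
  · show (f z)⁻¹ • f z = 1
    rw [smul_eq_mul, inv_mul_cancel₀ hfz]
  · intro x hx
    show (f z)⁻¹ • f x = 0
    have : f x = 0 := LinearMap.mem_ker.mp (hf hx)
    rw [this, smul_zero]

end Functional

section Retract

lemma conj_id {C : Type*} [Category C] {X Y Z : C} (s : X ≅ Y) (f : Y ⟶ Z) (g : Z ⟶ Y)
    (h : f ≫ g = 𝟙 Y) : (s.hom ≫ f) ≫ g ≫ s.inv = 𝟙 X := by
  rw [Category.assoc, reassoc_of% h, Iso.hom_inv_id]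

variable (E : CochainComplex (ModuleCat.{u} A) ℤ) (m : Ideal A)

/-- the residue module -/
noncomputable abbrev kM : ModuleCat.{u} A := ModuleCat.of A (A ⧸ m)

/-- the residue module in degree `0` -/
noncomputable abbrev S0 : CochainComplex (ModuleCat.{u} A) ℤ :=
  (CochainComplex.singleFunctor (ModuleCat.{u} A) 0).obj (kM m)

variable (z : kM m ⟶ E.X 0) (hz : z ≫ E.d 0 1 = 0)
  (l : (kM m ⟶ E.X 0) →ₗ[A] (A ⧸ m)) (hl1 : l z = 1)
  (hl0 : ∀ g : kM m ⟶ E.X (-1), l (g ≫ E.d (-1) 0) = 0)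

/-- `c ↦ c • z` -/
noncomputable def ιlin : (A ⧸ m) →ₗ[A] (kM m ⟶ E.X 0) :=
  Submodule.liftQ m (LinearMap.toSpanSingleton A (kM m ⟶ E.X 0) z) (fun a ha => by
    rw [LinearMap.mem_ker, LinearMap.toSpanSingleton_apply]
    exact smul_hom_eq_zero m _ a ha z)

lemma ιlin_mk (a : A) : ιlin E m z (Submodule.Quotient.mk a) = a • z := by
  rw [ιlin, Submodule.liftQ_apply, LinearMap.toSpanSingleton_apply]

include hz in
lemma ιlin_comp_d : (ModuleCat.ofHom (ιlin E m z) : kM m ⟶ (dualCx E (kM m)).X 0) ≫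
    (dualCx E (kM m)).d 0 1 = 0 := by
  refine ModuleCat.hom_ext (LinearMap.ext fun c => ?_)
  obtain ⟨a, rfl⟩ := Submodule.Quotient.mk_surjective m c
  show (ιlin E m z (Submodule.Quotient.mk a)) ≫ E.d 0 1 = 0
  rw [ιlin_mk, Linear.smul_comp, hz, smul_zero]

/-- the inclusion of `κ[0]` in `D(κ)` given by a cocycle -/
noncomputable def ιc : S0 m ⟶ dualCx E (kM m) :=
  HomologicalComplex.mkHomFromSingle
    (ModuleCat.ofHom (ιlin E m z) : kM m ⟶ (dualCx E (kM m)).X 0) (by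
      intro k hk
      obtain rfl : k = 1 := by
        have : (0 : ℤ) + 1 = k := hk
        lia
      exact ιlin_comp_d E m z hz)

include hl0 in
lemma d_comp_l : (dualCx E (kM m)).d (-1) 0 ≫
    (ModuleCat.ofHom l : (dualCx E (kM m)).X 0 ⟶ kM m) = 0 := by
  refine ModuleCat.hom_ext (LinearMap.ext fun g => ?_)
  exact hl0 g

/-- the retraction of `D(κ)` onto `κ[0]` given by a functional -/
noncomputable def lamc : dualCx E (kM m) ⟶ S0 m :=
  HomologicalComplex.mkHomToSingle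
    (ModuleCat.ofHom l : (dualCx E (kM m)).X 0 ⟶ kM m) (by
      intro i hi
      obtain rfl : i = -1 := by
        have : i + 1 = (0 : ℤ) := hi
        lia
      exact d_comp_l E m l hl0)

include hl1 in
lemma ιc_comp_lamc : ιc E m z hz ≫ lamc E m l hl0 = 𝟙 (S0 m) := by
  apply HomologicalComplex.from_single_hom_ext
  rw [HomologicalComplex.comp_f, ιc, lamc, HomologicalComplex.mkHomFromSingle_f,
    HomologicalComplex.mkHomToSingle_f, HomologicalComplex.id_f]
  have h : (ModuleCat.ofHom (ιlin E m z) : kM m ⟶ (dualCx E (kM m)).X 0) ≫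
      (ModuleCat.ofHom l : (dualCx E (kM m)).X 0 ⟶ kM m) = 𝟙 (kM m) := by
    refine ModuleCat.hom_ext (LinearMap.ext fun c => ?_)
    obtain ⟨a, rfl⟩ := Submodule.Quotient.mk_surjective m c
    show l (ιlin E m z (Submodule.Quotient.mk a)) = Submodule.Quotient.mk a
    rw [ιlin_mk, map_smul, hl1]
    have h1 : (1 : A ⧸ m) = Submodule.Quotient.mk (1 : A) := rfl
    rw [h1, ← Submodule.Quotient.mk_smul]
    congr 1
    exact mul_one a
  exact conj_id _ _ _ h

end Retract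

section Z

variable {ω : Dual.D A} (hω : Dual.IsDualizing A ω) (R : Res ω) (m : Ideal A) [hm : m.IsMaximal]

include hω R in
/-- nonvanishing in some degree -/
theorem exists_ne_zero : ∃ (i : ℤ) (f : Dual.inD A (A ⧸ m) ⟶ ω⟦i⟧), f ≠ 0 := by
  by_contra hcon
  push Not at hcon
  have hV : ∀ i : ℤ, (dualCx R.E (kM m)).ExactAt i := by
    intro i
    have key := (Groth.Agent.Lib.Helper23InjAmp.single_forall_eq_zero_iff (kM m) R.E i (i - 1)
      (i + 1) (by lia) rfl).mp (by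
        intro φ
        have := hcon i (φ ≫ (R.e.hom)⟦i⟧')
        exact (cancel_mono ((R.e.hom)⟦i⟧')).mp (this.trans zero_comp.symm))
    rw [HomologicalComplex.exactAt_iff' _ (i - 1) i (i + 1) (by simp) (by simp),
      ShortComplex.moduleCat_exact_iff]
    intro (x₂ : kM m ⟶ R.E.X i) (hx₂ : x₂ ≫ R.E.d i (i + 1) = 0)
    obtain ⟨g, hg⟩ := key x₂ hx₂
    exact ⟨g, hg⟩
  have hz : IsZero (Q.obj (dualCx R.E (kM m))) :=
    Groth.Agent.Lib.Helper1.Tor.isZero_Q_of_exactAt _ hV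
  have h1 : (1 : A) ∈ m := mem_of_ev_eq_zero hω R m 1 (hz.eq_of_src _ _)
  exact hm.ne_top ((Ideal.eq_top_iff_one m).mpr h1)

include hω R in
/-- if `Hom(κ, ω) ≠ 0`, then `Hom(κ, ω[j]) = 0` for `j ≥ 1` and `Hom(κ, ω)` is cyclic -/
theorem theoremZ (hne : ¬ ∀ φ : Dual.inD A (A ⧸ m) ⟶ ω, φ = 0) :
    (∀ j : ℤ, 1 ≤ j → ∀ g : Dual.inD A (A ⧸ m) ⟶ ω⟦j⟧, g = 0) ∧
      ∃ g₁ : Dual.inD A (A ⧸ m) ⟶ ω, ∀ g : Dual.inD A (A ⧸ m) ⟶ ω, ∃ a : A, g = a • g₁ := by
  haveI := hω.isNoetherianRing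
  -- a cocycle which is not a coboundary
  obtain ⟨z, hz, hzB⟩ : ∃ z : kM m ⟶ R.E.X 0, z ≫ R.E.d 0 1 = 0 ∧
      ∀ g : kM m ⟶ R.E.X (-1), g ≫ R.E.d (-1) 0 ≠ z := by
    by_contra hcon
    push Not at hcon
    apply hne
    have key := (Groth.Agent.Lib.Helper23InjAmp.single_forall_eq_zero_iff (kM m) R.E 0 (-1)
      1 (by lia) (by lia)).mpr (fun f hf => hcon f hf)
    intro φ
    have := key (φ ≫ R.e.inv ≫
      (shiftFunctorZero (DerivedCategory (ModuleCat.{u} A)) ℤ).inv.app (Q.obj R.E))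
    have h2 : φ ≫ (R.e.inv ≫
      (shiftFunctorZero (DerivedCategory (ModuleCat.{u} A)) ℤ).inv.app (Q.obj R.E)) = 0 := this
    exact (cancel_mono (R.e.inv ≫
      (shiftFunctorZero (DerivedCategory (ModuleCat.{u} A)) ℤ).inv.app (Q.obj R.E))).mp
      (h2.trans zero_comp.symm)
  -- the functional
  obtain ⟨l, hl1, hl0'⟩ := exists_functional m (kM m ⟶ R.E.X 0)
    (fun a ha x => smul_hom_eq_zero m _ a ha x)
    (LinearMap.range (Linear.rightComp A (kM m) (R.E.d (-1) 0))) z (by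
      rintro ⟨g, hg⟩
      exact hzB g hg)
  have hl0 : ∀ g : kM m ⟶ R.E.X (-1), l (g ≫ R.E.d (-1) 0) = 0 :=
    fun g => hl0' _ ⟨g, rfl⟩
  let s0 : Dual.inD A (A ⧸ m) ≅ Q.obj (S0 m) :=
    (DerivedCategory.singleFunctorIsoCompQ (ModuleCat.{u} A) 0).app (kM m)
  have hret : Q.map (ιc R.E m z hz) ≫ Q.map (lamc R.E m l hl0) = 𝟙 (Q.obj (S0 m)) := by
    rw [← Functor.map_comp, ιc_comp_lamc R.E m z hz l hl1 hl0, CategoryTheory.Functor.map_id]
  have hfac : ∀ (Y : Dual.D A) (g : Dual.inD A (A ⧸ m) ⟶ Y),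
      g = s0.hom ≫ Q.map (ιc R.E m z hz) ≫ (Q.map (lamc R.E m l hl0) ≫ s0.inv ≫ g) := by
    intro Y g
    rw [reassoc_of% hret, Iso.hom_inv_id_assoc]
  refine ⟨fun j hj g => ?_, ?_⟩
  · have h0 := vanD_pos hω R j hj (A ⧸ m) (Q.map (lamc R.E m l hl0) ≫ s0.inv ≫ g)
    rw [hfac _ g, h0, comp_zero, comp_zero]
  · refine ⟨s0.hom ≫ Q.map (ιc R.E m z hz) ≫
      (Q.map (ev R.E (kM m) (Submodule.Quotient.mk 1)) ≫ R.e.hom), fun g => ?_⟩
    obtain ⟨c, hc⟩ := surjD hω R (A ⧸ m) (Q.map (lamc R.E m l hl0) ≫ s0.inv ≫ g)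
    obtain ⟨a, rfl⟩ := Submodule.Quotient.mk_surjective m c
    refine ⟨a, ?_⟩
    have h1 : (Submodule.Quotient.mk a : A ⧸ m) = a • (Submodule.Quotient.mk 1 : A ⧸ m) := by
      rw [← Submodule.Quotient.mk_smul]
      congr 1
      exact (mul_one a).symm
    rw [h1, ev_smul, Functor.map_smul, Linear.smul_comp] at hc
    conv_lhs => rw [hfac _ g, hc]
    rw [Linear.comp_smul, Linear.comp_smul]

end Z

section Main

theorem main (A : Type u) [CommRing A] [IsNoetherianRing A] (ω : Dual.D A)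
    (hω : Dual.IsDualizing A ω) (m : Ideal A) [hm : m.IsMaximal] :
    ∃ n : ℤ, (∀ i : ℤ, i ≠ n → Subsingleton (Dual.inD A (A ⧸ m) ⟶ ω⟦i⟧)) ∧
      Nonempty ((Dual.inD A (A ⧸ m) ⟶ ω⟦n⟧) ≃ₗ[A] (A ⧸ m)) := by
  obtain ⟨R⟩ := nonempty_res ω hω
  obtain ⟨n, f, hf⟩ := exists_ne_zero hω R m
  have hZ : ∀ (i : ℤ), (¬ ∀ φ : Dual.inD A (A ⧸ m) ⟶ ω⟦i⟧, φ = 0) →
      (∀ j : ℤ, 1 ≤ j → ∀ g : Dual.inD A (A ⧸ m) ⟶ (ω⟦i⟧)⟦j⟧, g = 0) ∧
      ∃ g₁ : Dual.inD A (A ⧸ m) ⟶ ω⟦i⟧, ∀ g : Dual.inD A (A ⧸ m) ⟶ ω⟦i⟧, ∃ a : A, g = a • g₁ :=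
    fun i hne => theoremZ (isDualizing_shift hω i) (R.shift i) m hne
  have hnen : ¬ ∀ φ : Dual.inD A (A ⧸ m) ⟶ ω⟦n⟧, φ = 0 := fun h => hf (h f)
  obtain ⟨hZ1, g₁, hg₁⟩ := hZ n hnen
  refine ⟨n, fun i hi => ?_, ?_⟩
  · rw [subsingleton_iff_forall_eq_zero]
    rcases lt_or_gt_of_ne hi with hlt | hgt
    · by_contra hne
      obtain ⟨hZ1', -⟩ := hZ i hne
      exact hnen ((forall_eq_zero_shift_add_iff ω _ i (n - i) n (by lia)).mpr
        (hZ1' (n - i) (by lia)))
    · exact (forall_eq_zero_shift_add_iff ω _ n (i - n) i (by lia)).mpr (hZ1 (i - n) (by lia))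
  · let π : A →ₗ[A] (Dual.inD A (A ⧸ m) ⟶ ω⟦n⟧) :=
      LinearMap.toSpanSingleton A _ g₁
    have hπ : Function.Surjective π := by
      intro g
      obtain ⟨a, ha⟩ := hg₁ g
      exact ⟨a, by rw [ha]; rfl⟩
    have hg₁ne : g₁ ≠ 0 := by
      intro h0
      apply hf
      obtain ⟨a, ha⟩ := hg₁ f
      rw [ha, h0, smul_zero]
    have hker : LinearMap.ker π = m := by
      have hle : m ≤ LinearMap.ker π := by
        intro a ha
        rw [LinearMap.mem_ker]
        show a • g₁ = 0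
        have h1 : a • 𝟙 (Dual.inD A (A ⧸ m)) = 0 := by
          have h2 : a • 𝟙 (ModuleCat.of A (A ⧸ m)) = 0 := smul_hom_eq_zero m _ a ha _
          have h3 : (DerivedCategory.singleFunctor (ModuleCat.{u} A) 0).map
              (a • 𝟙 (ModuleCat.of A (A ⧸ m))) = a • 𝟙 (Dual.inD A (A ⧸ m)) := by
            rw [Functor.map_smul, CategoryTheory.Functor.map_id]
          rw [← h3, h2, Functor.map_zero]
        have h4 : a • g₁ = (a • 𝟙 (Dual.inD A (A ⧸ m))) ≫ g₁ := by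
          rw [Linear.smul_comp, Category.id_comp]
        rw [h4, h1, zero_comp]
      have hne : LinearMap.ker π ≠ ⊤ := by
        intro htop
        apply hg₁ne
        have : (1 : A) ∈ LinearMap.ker π := htop ▸ Submodule.mem_top
        rw [LinearMap.mem_ker] at this
        have h5 : (1 : A) • g₁ = 0 := this
        rwa [one_smul] at h5
      exact (hm.eq_of_le hne hle).symm
    exact ⟨((Submodule.quotEquivOfEq m (LinearMap.ker π) hker.symm).trans
      (LinearMap.quotKerEquivOfSurjective π hπ)).symm⟩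

end Main

end Groth.Agent.Lib.Helper5.BiDual
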