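import Mathlib
import Groth.Agent.Lib.Helper5BiDualC
import Groth.Agent.Lib.Helper19FinLenLocal
import Groth.Agent.S5155

/-!
# Duality for modules of finite length via a normalized dualizing complex (helper5)

For a Noetherian local ring `A` with normalized dualizing complex `ω` and injective hull `E` of the
residue field: `Hom(N, ω[i]) = 0` for `i ≠ 0` and `Hom(N, ω) ≅ Hom_A(N, E)` for `N` of finite
length.  The comparison map is `t ↦ (x ↦ j (ρ_x ≫ t))` where `ρ_x : A/𝔞 → N` sends `1` to `x` and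
`j : Hom(A/𝔞, ω) → E` is a linear map which does not kill the socle.
-/

set_option autoImplicit false
universe u
open CategoryTheory CategoryTheory.Limits
attribute [local instance] HasDerivedCategory.standard

namespace Groth.Agent.Lib.Helper5.DualFL

open DerivedCategory Pretriangulated
open Groth.Agent.Lib.Helper5.DualLocal Groth.Agent.Lib.Helper5.NormDual

variable {A : Type u} [CommRing A]

section InDMap

variable {M N P : Type u} [AddCommGroup M] [Module A M] [AddCommGroup N] [Module A N]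
  [AddCommGroup P] [Module A P]

/-- the morphism of `D(A)` induced by a linear map -/
noncomputable def inDMap (g : M →ₗ[A] N) : Dual.inD A M ⟶ Dual.inD A N :=
  (singleFunctor (ModuleCat.{u} A) 0).map (ModuleCat.ofHom g)

lemma inDMap_comp (g : M →ₗ[A] N) (h : N →ₗ[A] P) :
    inDMap (h ∘ₗ g) = inDMap g ≫ inDMap h := by
  unfold inDMap
  rw [ModuleCat.ofHom_comp, Functor.map_comp]

lemma inDMap_id : inDMap (LinearMap.id : M →ₗ[A] M) = 𝟙 _ := by
  unfold inDMap
  rw [ModuleCat.ofHom_id, CategoryTheory.Functor.map_id]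

lemma inDMap_add (g g' : M →ₗ[A] N) : inDMap (g + g') = inDMap g + inDMap g' := by
  unfold inDMap
  have h : ModuleCat.ofHom (g + g') = ModuleCat.ofHom g + ModuleCat.ofHom g' := rfl
  rw [h, Functor.map_add]

lemma inDMap_smul (a : A) (g : M →ₗ[A] N) : inDMap (a • g) = a • inDMap g := by
  unfold inDMap
  have h : ModuleCat.ofHom (a • g) = a • ModuleCat.ofHom g := rfl
  rw [h, Functor.map_smul]

end InDMap

section Exact

variable {N₁ N₂ N₃ : Type u} [AddCommGroup N₁] [Module A N₁] [AddCommGroup N₂] [Module A N₂]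
  [AddCommGroup N₃] [Module A N₃] (f : N₁ →ₗ[A] N₂) (g : N₂ →ₗ[A] N₃)
  (hf : Function.Injective f) (hg : Function.Surjective g) (hfg : Function.Exact f g)

include hf hg hfg

lemma sc_shortExact :
    (ModuleCat.shortComplexOfCompEqZero f g hfg.linearMap_comp_eq_zero).ShortExact :=
  ModuleCat.shortComplex_shortExact _ hfg hf hg

/-- `Hom(N₃, Y) → Hom(N₂, Y)` is injective if `Hom(N₁, Y[-1]) = 0` -/
lemma T_inj (Y : Dual.D A) (h1 : ∀ k : Dual.inD A N₁ ⟶ Y⟦(-1 : ℤ)⟧, k = 0)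
    (t : Dual.inD A N₃ ⟶ Y) (ht : inDMap g ≫ t = 0) : t = 0 := by
  have hS := sc_shortExact f g hf hg hfg
  let e : (Y⟦(-1 : ℤ)⟧)⟦(1 : ℤ)⟧ ≅ Y :=
    (shiftFunctorCompIsoId (DerivedCategory (ModuleCat.{u} A)) (-1 : ℤ) 1 (by norm_num)).app Y
  have h2 : (singleFunctor (ModuleCat.{u} A) 0).map
      (ModuleCat.shortComplexOfCompEqZero f g hfg.linearMap_comp_eq_zero).g ≫ (t ≫ e.inv) = 0 := by
    have h3 : (singleFunctor (ModuleCat.{u} A) 0).map
      (ModuleCat.shortComplexOfCompEqZero f g hfg.linearMap_comp_eq_zero).g = inDMap g := rfl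
    rw [h3, ← Category.assoc, ht, zero_comp]
  obtain ⟨k, hk⟩ := exists_of_g_comp_eq_zero _ hS (Y⟦(-1 : ℤ)⟧) (t ≫ e.inv) h2
  have hk0 : k = 0 := h1 k
  rw [hk0, Functor.map_zero, comp_zero] at hk
  exact (cancel_mono e.inv).mp (hk.trans zero_comp.symm)

/-- exactness of `Hom(-, Y)` in the middle -/
lemma T_mid (Y : Dual.D A) (t : Dual.inD A N₂ ⟶ Y) (ht : inDMap f ≫ t = 0) :
    ∃ t' : Dual.inD A N₃ ⟶ Y, t = inDMap g ≫ t' := by
  have hS := sc_shortExact f g hf hg hfg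
  exact Triangle.yoneda_exact₂ _ hS.singleTriangle_distinguished t ht

/-- `Hom(N₂, Y) → Hom(N₁, Y)` is surjective if `Hom(N₃, Y[1]) = 0` -/
lemma T_surj (Y : Dual.D A) (h3 : ∀ k : Dual.inD A N₃ ⟶ Y⟦(1 : ℤ)⟧, k = 0)
    (t : Dual.inD A N₁ ⟶ Y) : ∃ t' : Dual.inD A N₂ ⟶ Y, t = inDMap f ≫ t' := by
  have hS := sc_shortExact f g hf hg hfg
  exact exists_factor_of_shortExact _ hS Y h3 t

end Exact

section Vanish

variable [IsLocalRing A]

lemma vanish_of_equiv_residue (ω : Dual.D A) (hn : Dual.IsNormalized A ω) (i : ℤ) (hi : i ≠ 0)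
    {S : Type u} [AddCommGroup S] [Module A S] (e : S ≃ₗ[A] IsLocalRing.ResidueField A)
    (t : Dual.inD A S ⟶ ω⟦i⟧) : t = 0 := by
  haveI := hn i hi
  have h : (inDIso e).inv ≫ t = 0 := Subsingleton.elim _ _
  exact (cancel_epi (inDIso e).inv).mp (h.trans comp_zero.symm)

/-- `Hom(N, ω[i]) = 0` for `i ≠ 0` and `N` of finite length -/
theorem vanish_of_isFiniteLength (ω : Dual.D A) (hn : Dual.IsNormalized A ω) (i : ℤ)
    (hi : i ≠ 0) (N : Type u) [AddCommGroup N] [Module A N] (hN : IsFiniteLength A N) :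
    ∀ t : Dual.inD A N ⟶ ω⟦i⟧, t = 0 := by
  refine Groth.Agent.Lib.Helper19FinLenLocal.induction_on_isFiniteLength
    (motive := fun (M : Type u) [AddCommGroup M] [Module A M] =>
      ∀ t : Dual.inD A M ⟶ ω⟦i⟧, t = 0) ?_ ?_ N hN
  · intro M _ _ _ t
    exact eq_zero_of_subsingleton M _ t
  · intro M _ _ N' e _ ih t
    obtain ⟨t', rfl⟩ := T_mid N'.subtype N'.mkQ N'.injective_subtype N'.mkQ_surjective
      (LinearMap.exact_subtype_mkQ N') _ t (ih _)
    have e' : (M ⧸ N') ≃ₗ[A] IsLocalRing.ResidueField A := e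
    rw [vanish_of_equiv_residue ω hn i hi e' t', comp_zero]

/-- a module of finite length is killed by a power of the maximal ideal -/
lemma exists_pow_killed (N : Type u) [AddCommGroup N] [Module A N] (hN : IsFiniteLength A N) :
    ∃ n : ℕ, ∀ a ∈ (IsLocalRing.maximalIdeal A) ^ (n + 1), ∀ x : N, a • x = 0 := by
  refine Groth.Agent.Lib.Helper19FinLenLocal.induction_on_isFiniteLength
    (motive := fun (M : Type u) [AddCommGroup M] [Module A M] =>
      ∃ n : ℕ, ∀ a ∈ (IsLocalRing.maximalIdeal A) ^ (n + 1), ∀ x : M, a • x = 0) ?_ ?_ N hN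
  · intro M _ _ _
    exact ⟨0, fun a _ x => Subsingleton.elim _ _⟩
  · intro M _ _ N' e _ ih
    obtain ⟨n, hn⟩ := ih
    refine ⟨n + 1, fun a ha x => ?_⟩
    rw [pow_succ] at ha
    refine Submodule.mul_induction_on (C := fun a => a • x = 0) ha ?_ ?_
    · intro b hb c hc
      have hcx : c • x ∈ N' := by
        rw [← Submodule.Quotient.mk_eq_zero, Submodule.Quotient.mk_smul]
        apply e.injective
        rw [map_smul, map_zero]
        exact quot_killed _ c hc _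
      have h1 := hn b hb ⟨c • x, hcx⟩
      have h2 := congrArg Subtype.val h1
      rw [mul_smul]
      exact h2
    · intro a₁ a₂ h₁ h₂
      rw [add_smul, h₁, h₂, add_zero]

/-- a finite module killed by a power of the maximal ideal has finite length -/
lemma isFiniteLength_of_killed [IsNoetherianRing A] (M : Type u) [AddCommGroup M] [Module A M]
    [Module.Finite A M] (n : ℕ)
    (h : ∀ a ∈ (IsLocalRing.maximalIdeal A) ^ n, ∀ x : M, a • x = 0) : IsFiniteLength A M := by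
  refine Groth.Agent.Lib.Helper19FinLenLocal.isFiniteLength_of_support_subset M inferInstance ?_
  rw [Module.support_eq_zeroLocus]
  intro p hp
  rw [PrimeSpectrum.mem_zeroLocus] at hp
  have h1 : (IsLocalRing.maximalIdeal A) ^ n ≤ p.asIdeal :=
    fun a ha => hp (Module.mem_annihilator.mpr (h a ha))
  haveI := p.isPrime
  have h2 : IsLocalRing.maximalIdeal A ≤ p.asIdeal := Ideal.IsPrime.le_of_pow_le h1
  rw [Set.mem_singleton_iff]
  exact PrimeSpectrum.ext
    ((IsLocalRing.maximalIdeal.isMaximal A).eq_of_le p.isPrime.ne_top h2).symm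

end Vanish

section Rho

variable (𝔞 : Ideal A) {N : Type u} [AddCommGroup N] [Module A N]
  (hN : ∀ a ∈ 𝔞, ∀ x : N, a • x = 0)

/-- `A/𝔞 → N`, `1 ↦ x` -/
noncomputable def rho (x : N) : (A ⧸ 𝔞) →ₗ[A] N :=
  Submodule.liftQ 𝔞 (LinearMap.toSpanSingleton A N x) (by
    intro a ha
    rw [LinearMap.mem_ker, LinearMap.toSpanSingleton_apply]
    exact hN a ha x)

lemma rho_mk (x : N) (a : A) : rho 𝔞 hN x (Submodule.Quotient.mk a) = a • x := by
  unfold rho
  rw [Submodule.liftQ_apply, LinearMap.toSpanSingleton_apply]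

lemma rho_add (x y : N) : rho 𝔞 hN (x + y) = rho 𝔞 hN x + rho 𝔞 hN y := by
  refine LinearMap.ext fun b => ?_
  obtain ⟨a, rfl⟩ := Submodule.Quotient.mk_surjective 𝔞 b
  rw [LinearMap.add_apply, rho_mk, rho_mk, rho_mk, smul_add]

lemma rho_smul (c : A) (x : N) : rho 𝔞 hN (c • x) = c • rho 𝔞 hN x := by
  refine LinearMap.ext fun b => ?_
  obtain ⟨a, rfl⟩ := Submodule.Quotient.mk_surjective 𝔞 b
  rw [LinearMap.smul_apply, rho_mk, rho_mk, smul_comm]

lemma comp_rho {N' : Type u} [AddCommGroup N'] [Module A N']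
    (hN' : ∀ a ∈ 𝔞, ∀ x : N', a • x = 0) (g : N →ₗ[A] N') (x : N) :
    g ∘ₗ rho 𝔞 hN x = rho 𝔞 hN' (g x) := by
  refine LinearMap.ext fun b => ?_
  obtain ⟨a, rfl⟩ := Submodule.Quotient.mk_surjective 𝔞 b
  rw [LinearMap.comp_apply, rho_mk, rho_mk, map_smul]

lemma rho_self_mk (a : A) :
    rho 𝔞 (quot_killed 𝔞) (Submodule.Quotient.mk a : A ⧸ 𝔞) = a • LinearMap.id := by
  refine LinearMap.ext fun b => ?_
  obtain ⟨c, rfl⟩ := Submodule.Quotient.mk_surjective 𝔞 b
  rw [rho_mk, LinearMap.smul_apply, LinearMap.id_apply, ← Submodule.Quotient.mk_smul,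
    ← Submodule.Quotient.mk_smul, smul_eq_mul, smul_eq_mul, mul_comm]

variable (ω : Dual.D A)

/-- `Hom(N, ω) → Hom_A(N, Hom(A/𝔞, ω))` -/
noncomputable def Phi (t : Dual.inD A N ⟶ ω) : N →ₗ[A] (Dual.inD A (A ⧸ 𝔞) ⟶ ω) where
  toFun x := inDMap (rho 𝔞 hN x) ≫ t
  map_add' x y := by rw [rho_add, inDMap_add, Preadditive.add_comp]
  map_smul' c x := by
    rw [rho_smul, inDMap_smul, Linear.smul_comp]
    rfl

lemma Phi_apply (t : Dual.inD A N ⟶ ω) (x : N) :
    Phi 𝔞 hN ω t x = inDMap (rho 𝔞 hN x) ≫ t := rfl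

lemma Phi_add (t t' : Dual.inD A N ⟶ ω) : Phi 𝔞 hN ω (t + t') = Phi 𝔞 hN ω t + Phi 𝔞 hN ω t' := by
  refine LinearMap.ext fun x => ?_
  rw [LinearMap.add_apply, Phi_apply, Phi_apply, Phi_apply, Preadditive.comp_add]

lemma Phi_smul (c : A) (t : Dual.inD A N ⟶ ω) : Phi 𝔞 hN ω (c • t) = c • Phi 𝔞 hN ω t := by
  refine LinearMap.ext fun x => ?_
  rw [LinearMap.smul_apply, Phi_apply, Phi_apply, Linear.comp_smul]

lemma Phi_nat {N' : Type u} [AddCommGroup N'] [Module A N']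
    (hN' : ∀ a ∈ 𝔞, ∀ x : N', a • x = 0) (g : N' →ₗ[A] N) (t : Dual.inD A N ⟶ ω) (x' : N') :
    Phi 𝔞 hN' ω (inDMap g ≫ t) x' = Phi 𝔞 hN ω t (g x') := by
  rw [Phi_apply, Phi_apply, ← comp_rho 𝔞 hN' hN g x', inDMap_comp, Category.assoc]

variable {E : Type u} [AddCommGroup E] [Module A E]
  (j : (Dual.inD A (A ⧸ 𝔞) ⟶ ω) →ₗ[A] E)

/-- the comparison map `Hom(N, ω) → Hom_A(N, E)` -/
noncomputable def PsiL : (Dual.inD A N ⟶ ω) →ₗ[A] (N →ₗ[A] E) where
  toFun t := j ∘ₗ Phi 𝔞 hN ω t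
  map_add' t t' := by rw [Phi_add, LinearMap.comp_add]
  map_smul' c t := by
    rw [Phi_smul, LinearMap.comp_smul]
    rfl

lemma PsiL_apply (t : Dual.inD A N ⟶ ω) (x : N) :
    PsiL 𝔞 hN ω j t x = j (inDMap (rho 𝔞 hN x) ≫ t) := rfl

lemma PsiL_nat {N' : Type u} [AddCommGroup N'] [Module A N']
    (hN' : ∀ a ∈ 𝔞, ∀ x : N', a • x = 0) (g : N' →ₗ[A] N) (t : Dual.inD A N ⟶ ω) :
    PsiL 𝔞 hN' ω j (inDMap g ≫ t) = PsiL 𝔞 hN ω j t ∘ₗ g := by
  refine LinearMap.ext fun x' => ?_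
  rw [PsiL_apply, LinearMap.comp_apply, PsiL_apply]
  exact congrArg j (Phi_nat 𝔞 hN ω hN' g t x')

/-- transport of bijectivity along a linear equivalence -/
lemma bijective_of_equiv {S S' : Type u} [AddCommGroup S] [Module A S] [AddCommGroup S']
    [Module A S'] (hS : ∀ a ∈ 𝔞, ∀ x : S, a • x = 0) (hS' : ∀ a ∈ 𝔞, ∀ x : S', a • x = 0)
    (φ : S ≃ₗ[A] S') (h : Function.Bijective (PsiL 𝔞 hS' ω j)) :
    Function.Bijective (PsiL 𝔞 hS ω j) := by
  have hid : inDMap φ.toLinearMap ≫ inDMap φ.symm.toLinearMap = 𝟙 (Dual.inD A S) := by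
    rw [← inDMap_comp]
    have h1 : φ.symm.toLinearMap ∘ₗ φ.toLinearMap = LinearMap.id :=
      LinearMap.ext fun x => φ.symm_apply_apply x
    rw [h1, inDMap_id]
  constructor
  · rw [injective_iff_map_eq_zero]
    intro t ht
    have h1 : PsiL 𝔞 hS' ω j (inDMap φ.symm.toLinearMap ≫ t) = 0 := by
      rw [PsiL_nat 𝔞 hS ω j hS' φ.symm.toLinearMap t, ht, LinearMap.zero_comp]
    have h2 : inDMap φ.symm.toLinearMap ≫ t = 0 := (injective_iff_map_eq_zero _).mp h.1 _ h1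
    calc t = (inDMap φ.toLinearMap ≫ inDMap φ.symm.toLinearMap) ≫ t := by
          rw [hid, Category.id_comp]
      _ = 0 := by rw [Category.assoc, h2, comp_zero]
  · intro h'
    obtain ⟨t', ht'⟩ := h.2 (h' ∘ₗ φ.symm.toLinearMap)
    refine ⟨inDMap φ.toLinearMap ≫ t', ?_⟩
    rw [PsiL_nat 𝔞 hS' ω j hS φ.toLinearMap t', ht']
    refine LinearMap.ext fun x => ?_
    rw [LinearMap.comp_apply, LinearMap.comp_apply]
    exact congrArg h' (φ.symm_apply_apply x)

end Rho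

section Main

variable [IsLocalRing A] [IsNoetherianRing A]

lemma killed_residue (𝔞 : Ideal A) (h𝔞 : 𝔞 ≤ IsLocalRing.maximalIdeal A) :
    ∀ a ∈ 𝔞, ∀ x : IsLocalRing.ResidueField A, a • x = 0 :=
  fun a ha x => quot_killed (IsLocalRing.maximalIdeal A) a (h𝔞 ha) x

lemma isSimpleModule_residue : IsSimpleModule A (IsLocalRing.ResidueField A) :=
  isSimpleModule_iff_quot_maximal.mpr
    ⟨_, IsLocalRing.maximalIdeal.isMaximal A, ⟨LinearEquiv.refl _ _⟩⟩

lemma simple_T (ω : Dual.D A) (hω : Dual.IsDualizing A ω) (hn : Dual.IsNormalized A ω) :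
    IsSimpleModule A (Dual.inD A (IsLocalRing.ResidueField A) ⟶ ω) := by
  obtain ⟨n, _, ⟨e⟩⟩ := Groth.Agent.Lib.Helper5.BiDual.main A ω hω (IsLocalRing.maximalIdeal A)
  haveI : IsSimpleModule A (IsLocalRing.ResidueField A) := isSimpleModule_residue
  have e' : (Dual.inD A (IsLocalRing.ResidueField A) ⟶ ω⟦n⟧) ≃ₗ[A]
      IsLocalRing.ResidueField A := e
  have hn0 : n = 0 := by
    by_contra hne
    haveI : Subsingleton (Dual.inD A (IsLocalRing.ResidueField A) ⟶ ω⟦n⟧) := hn n hne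
    haveI : Nontrivial (IsLocalRing.ResidueField A) := inferInstance
    haveI : Nontrivial (Dual.inD A (IsLocalRing.ResidueField A) ⟶ ω⟦n⟧) :=
      e'.symm.injective.nontrivial
    exact false_of_nontrivial_of_subsingleton
      (Dual.inD A (IsLocalRing.ResidueField A) ⟶ ω⟦n⟧)
  subst hn0
  let e0 : (Dual.inD A (IsLocalRing.ResidueField A) ⟶ ω) ≃ₗ[A]
      (Dual.inD A (IsLocalRing.ResidueField A) ⟶ ω⟦(0 : ℤ)⟧) :=
    Linear.homCongr A (Iso.refl _)
      ((shiftFunctorZero (DerivedCategory (ModuleCat.{u} A)) ℤ).app ω).symm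
  exact IsSimpleModule.congr (e0.trans e')

variable (𝔞 : Ideal A) (ω : Dual.D A) {E : Type u} [AddCommGroup E] [Module A E]
  (j : (Dual.inD A (A ⧸ 𝔞) ⟶ ω) →ₗ[A] E)

lemma bijective_residue (hω : Dual.IsDualizing A ω) (hn : Dual.IsNormalized A ω)
    (f : IsLocalRing.ResidueField A →ₗ[A] E) (hf : InjHull.IsInjectiveHull f)
    (hκ : ∀ a ∈ 𝔞, ∀ x : IsLocalRing.ResidueField A, a • x = 0)
    (hj : ∃ t₀ : Dual.inD A (IsLocalRing.ResidueField A) ⟶ ω,
      j (inDMap (rho 𝔞 hκ 1) ≫ t₀) ≠ 0) :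
    Function.Bijective (PsiL 𝔞 hκ ω j) := by
  haveI : IsSimpleModule A (IsLocalRing.ResidueField A →ₗ[A] E) :=
    ((Groth.Agent.S5155.result A E).mp ⟨f, hf⟩).2.2
  haveI : IsSimpleModule A (Dual.inD A (IsLocalRing.ResidueField A) ⟶ ω) := simple_T ω hω hn
  refine LinearMap.bijective_of_ne_zero ?_
  intro h0
  obtain ⟨t₀, ht₀⟩ := hj
  apply ht₀
  have h1 := LinearMap.congr_fun (LinearMap.congr_fun h0 t₀) 1
  exact h1

/-- the comparison map is bijective on modules of finite length killed by `𝔞` -/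
theorem bijective_PsiL (hω : Dual.IsDualizing A ω) (hn : Dual.IsNormalized A ω)
    (f : IsLocalRing.ResidueField A →ₗ[A] E) (hf : InjHull.IsInjectiveHull f)
    (h𝔞 : 𝔞 ≤ IsLocalRing.maximalIdeal A)
    (hj : ∃ t₀ : Dual.inD A (IsLocalRing.ResidueField A) ⟶ ω,
      j (inDMap (rho 𝔞 (killed_residue 𝔞 h𝔞) 1) ≫ t₀) ≠ 0)
    (M : Type u) [AddCommGroup M] [Module A M] (hfl : IsFiniteLength A M)
    (hM : ∀ a ∈ 𝔞, ∀ x : M, a • x = 0) : Function.Bijective (PsiL 𝔞 hM ω j) := by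
  revert hM
  refine Groth.Agent.Lib.Helper19FinLenLocal.induction_on_isFiniteLength
    (motive := fun (M : Type u) [AddCommGroup M] [Module A M] =>
      ∀ hM : (∀ a ∈ 𝔞, ∀ x : M, a • x = 0), Function.Bijective (PsiL 𝔞 hM ω j)) ?_ ?_ M hfl
  · intro M _ _ _ hM
    constructor
    · intro t t' _
      rw [eq_zero_of_subsingleton M ω t, eq_zero_of_subsingleton M ω t']
    · intro h
      refine ⟨0, LinearMap.ext fun x => ?_⟩
      rw [Subsingleton.elim x 0, map_zero, map_zero]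
  · intro M _ _ N' e _ ih hM
    have hN' : ∀ a ∈ 𝔞, ∀ x : N', a • x = 0 := fun a ha x => Subtype.ext (hM a ha x.1)
    have hQ : ∀ a ∈ 𝔞, ∀ x : M ⧸ N', a • x = 0 := by
      intro a ha x
      obtain ⟨y, rfl⟩ := N'.mkQ_surjective x
      rw [← map_smul, hM a ha y, map_zero]
    have ihN := ih hN'
    have e' : (M ⧸ N') ≃ₗ[A] IsLocalRing.ResidueField A := e
    have hS : Function.Bijective (PsiL 𝔞 hQ ω j) :=
      bijective_of_equiv 𝔞 ω j hQ (killed_residue 𝔞 h𝔞) e'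
        (bijective_residue 𝔞 ω j hω hn f hf _ hj)
    have hv1 : ∀ k : Dual.inD A (M ⧸ N') ⟶ ω⟦(1 : ℤ)⟧, k = 0 :=
      fun k => vanish_of_equiv_residue ω hn 1 one_ne_zero e' k
    constructor
    · rw [injective_iff_map_eq_zero]
      intro t ht
      have h1 : inDMap N'.subtype ≫ t = 0 := by
        apply (injective_iff_map_eq_zero _).mp ihN.1
        rw [PsiL_nat 𝔞 hM ω j hN' N'.subtype t, ht, LinearMap.zero_comp]
      obtain ⟨t'', rfl⟩ := T_mid N'.subtype N'.mkQ N'.injective_subtype N'.mkQ_surjective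
        (LinearMap.exact_subtype_mkQ N') ω t h1
      have h2 : PsiL 𝔞 hQ ω j t'' = 0 := by
        refine LinearMap.ext fun x => ?_
        obtain ⟨y, rfl⟩ := N'.mkQ_surjective x
        have h3 := LinearMap.congr_fun (PsiL_nat 𝔞 hQ ω j hM N'.mkQ t'') y
        rw [ht] at h3
        exact h3.symm
      rw [(injective_iff_map_eq_zero _).mp hS.1 t'' h2, comp_zero]
    · intro h
      obtain ⟨t', ht'⟩ := ihN.2 (h ∘ₗ N'.subtype)
      obtain ⟨t, rfl⟩ := T_surj N'.subtype N'.mkQ N'.injective_subtype N'.mkQ_surjective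
        (LinearMap.exact_subtype_mkQ N') ω hv1 t'
      have hh₁ : N' ≤ LinearMap.ker (h - PsiL 𝔞 hM ω j t) := by
        intro y hy
        rw [LinearMap.mem_ker, LinearMap.sub_apply]
        have h3 := LinearMap.congr_fun ht' ⟨y, hy⟩
        rw [PsiL_nat 𝔞 hM ω j hN' N'.subtype t] at h3
        have h4 : PsiL 𝔞 hM ω j t y = h y := h3
        rw [h4, sub_self]
      obtain ⟨t'', ht''⟩ := hS.2 (N'.liftQ (h - PsiL 𝔞 hM ω j t) hh₁)
      refine ⟨t + inDMap N'.mkQ ≫ t'', ?_⟩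
      rw [map_add, PsiL_nat 𝔞 hQ ω j hM N'.mkQ t'', ht'']
      refine LinearMap.ext fun y => ?_
      rw [LinearMap.add_apply, LinearMap.comp_apply, Submodule.mkQ_apply, Submodule.liftQ_apply,
        LinearMap.sub_apply]
      abel

/-- existence of a linear map `Hom(A/𝔞, ω) → E` which does not kill the socle -/
theorem exists_j (hω : Dual.IsDualizing A ω) (hn : Dual.IsNormalized A ω)
    (f : IsLocalRing.ResidueField A →ₗ[A] E) (hf : InjHull.IsInjectiveHull f)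
    (h𝔞 : 𝔞 ≤ IsLocalRing.maximalIdeal A) (hB : IsFiniteLength A (A ⧸ 𝔞)) :
    ∃ j : (Dual.inD A (A ⧸ 𝔞) ⟶ ω) →ₗ[A] E,
      ∃ t₀ : Dual.inD A (IsLocalRing.ResidueField A) ⟶ ω,
        j (inDMap (rho 𝔞 (killed_residue 𝔞 h𝔞) 1) ≫ t₀) ≠ 0 := by
  haveI := simple_T ω hω hn
  haveI : Nontrivial (Dual.inD A (IsLocalRing.ResidueField A) ⟶ ω) :=
    IsSimpleModule.nontrivial A _
  obtain ⟨t₀, ht₀⟩ := exists_ne (0 : Dual.inD A (IsLocalRing.ResidueField A) ⟶ ω)
  have hπ : Function.Surjective (rho 𝔞 (killed_residue 𝔞 h𝔞) (1 : IsLocalRing.ResidueField A)) := by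
    intro x
    obtain ⟨a, rfl⟩ := IsLocalRing.residue_surjective x
    refine ⟨Submodule.Quotient.mk a, ?_⟩
    rw [rho_mk, Algebra.smul_def, mul_one]
    rfl
  have hw₀ : inDMap (rho 𝔞 (killed_residue 𝔞 h𝔞) (1 : IsLocalRing.ResidueField A)) ≫ t₀ ≠ 0 := by
    intro h0
    apply ht₀
    refine T_inj (LinearMap.ker (rho 𝔞 (killed_residue 𝔞 h𝔞)
      (1 : IsLocalRing.ResidueField A))).subtype _ (Submodule.injective_subtype _) hπ
      (LinearMap.exact_subtype_ker_map _) ω ?_ t₀ h0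
    exact vanish_of_isFiniteLength ω hn (-1) (by norm_num) _
      (IsFiniteLength.of_injective hB (Submodule.injective_subtype _))
  let σ : IsLocalRing.ResidueField A →ₗ[A] (Dual.inD A (A ⧸ 𝔞) ⟶ ω) :=
    Phi 𝔞 (killed_residue 𝔞 h𝔞) ω t₀
  have hσ1 : σ 1 = inDMap (rho 𝔞 (killed_residue 𝔞 h𝔞) (1 : IsLocalRing.ResidueField A)) ≫ t₀ :=
    rfl
  have hσ : Function.Injective σ := by
    haveI : IsSimpleModule A (IsLocalRing.ResidueField A) := isSimpleModule_residue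
    rcases LinearMap.injective_or_eq_zero σ with h | h
    · exact h
    · exfalso
      apply hw₀
      rw [← hσ1, h, LinearMap.zero_apply]
  haveI := hf.isInjective
  obtain ⟨j, hjσ⟩ := Module.Injective.extension_property A E _ _ σ hσ f
  refine ⟨j, t₀, ?_⟩
  have h1 : j (σ 1) = f 1 := LinearMap.congr_fun hjσ 1
  rw [← hσ1, h1]
  intro h0
  exact one_ne_zero (hf.injective (h0.trans (map_zero f).symm))

/-- the finite length duality statement -/
theorem main (ω : Dual.D A) (hω : Dual.IsDualizing A ω) (hn : Dual.IsNormalized A ω)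
    (E : Type u) [AddCommGroup E] [Module A E] (f : IsLocalRing.ResidueField A →ₗ[A] E)
    (hf : InjHull.IsInjectiveHull f) (N : Type u) [AddCommGroup N] [Module A N]
    (hN : IsFiniteLength A N) :
    (∀ i : ℤ, i ≠ 0 → Subsingleton (Dual.inD A N ⟶ ω⟦i⟧)) ∧
      Nonempty ((Dual.inD A N ⟶ ω) ≃ₗ[A] (N →ₗ[A] E)) := by
  refine ⟨fun i hi => subsingleton_iff_forall_eq_zero.mpr
    (vanish_of_isFiniteLength ω hn i hi N hN), ?_⟩
  obtain ⟨n, hn'⟩ := exists_pow_killed N hN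
  have h𝔞 : (IsLocalRing.maximalIdeal A) ^ (n + 1) ≤ IsLocalRing.maximalIdeal A :=
    Ideal.pow_le_self (Nat.succ_ne_zero n)
  have hB : IsFiniteLength A (A ⧸ (IsLocalRing.maximalIdeal A) ^ (n + 1)) :=
    isFiniteLength_of_killed _ (n + 1) (quot_killed _)
  obtain ⟨j, hj⟩ := exists_j _ ω hω hn f hf h𝔞 hB
  exact ⟨LinearEquiv.ofBijective (PsiL _ hn' ω j)
    (bijective_PsiL _ ω j hω hn f hf h𝔞 hj N hN hn')⟩

end Main

end Groth.Agent.Lib.Helper5.DualFL
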