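import Mathlib
import Groth.Agent.Lib.Helper5DualFLA
import Groth.Agent.S0311
import Groth.Prelude.Def_DualLC

/-!
# Local cohomology of a normalized dualizing complex (helper5)

`colim_n Hom(A/m^n, ω[i])` is `E` for `i = 0` and `0` otherwise.
-/

set_option autoImplicit false
universe u w
open CategoryTheory CategoryTheory.Limits
attribute [local instance] HasDerivedCategory.standard

namespace Groth.Agent.Lib.Helper5.DualFL

open DerivedCategory Pretriangulated Opposite
open Groth.Agent.Lib.Helper5.DualLocal Groth.Agent.Lib.Helper5.NormDual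

variable {A : Type u} [CommRing A]

section Colim

variable {J : Type} [SmallCategory J] (F : J ⥤ ModuleCat.{w} A) [HasColimit F]

lemma subsingleton_colimit (h : ∀ j, Subsingleton (F.obj j)) :
    Subsingleton ((colimit F : ModuleCat.{w} A) : Type w) := by
  have h0 : 𝟙 (colimit F) = 0 := by
    apply colimit.hom_ext
    intro j
    have hz : IsZero (F.obj j) := ModuleCat.isZero_of_subsingleton _
    exact hz.eq_of_src _ _
  exact ModuleCat.subsingleton_of_isZero ((IsZero.iff_id_eq_zero _).mpr h0)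

lemma ι_map_apply {j k : J} (f : j ⟶ k) (y : F.obj j) :
    (colimit.ι F k).hom ((F.map f).hom y) = (colimit.ι F j).hom y := by
  have h := congrArg (fun g => g.hom y) (colimit.w F f)
  exact h

/-- every element of a filtered colimit of modules comes from some stage -/
lemma exists_rep [IsFiltered J] (x : ((colimit F : ModuleCat.{w} A) : Type w)) :
    ∃ (j : J) (y : F.obj j), (colimit.ι F j).hom y = x := by
  let U : Submodule A ((colimit F : ModuleCat.{w} A) : Type w) :=
    { carrier := {x | ∃ (j : J) (y : F.obj j), (colimit.ι F j).hom y = x}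
      add_mem' := by
        rintro _ _ ⟨j, y, rfl⟩ ⟨j', y', rfl⟩
        refine ⟨IsFiltered.max j j', (F.map (IsFiltered.leftToMax j j')).hom y +
          (F.map (IsFiltered.rightToMax j j')).hom y', ?_⟩
        rw [map_add, ι_map_apply, ι_map_apply]
      zero_mem' := ⟨(IsFiltered.nonempty : Nonempty J).some, 0, map_zero _⟩
      smul_mem' := by
        rintro a _ ⟨j, y, rfl⟩
        exact ⟨j, a • y, map_smul _ _ _⟩ }
  have hU : U = ⊤ := by
    let q : colimit F ⟶ ModuleCat.of A (((colimit F : ModuleCat.{w} A) : Type w) ⧸ U) :=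
      ModuleCat.ofHom U.mkQ
    have hq : q = 0 := by
      apply colimit.hom_ext
      intro j
      rw [comp_zero]
      refine ModuleCat.hom_ext (LinearMap.ext fun y => ?_)
      show U.mkQ ((colimit.ι F j).hom y) = 0
      exact (Submodule.Quotient.mk_eq_zero U).mpr ⟨j, y, rfl⟩
    rw [eq_top_iff]
    intro x _
    have h1 : U.mkQ x = 0 := congrArg (fun g => g.hom x) hq
    exact (Submodule.Quotient.mk_eq_zero U).mp h1
  have hx : x ∈ U := hU ▸ Submodule.mem_top
  exact hx

end Colim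

section Seq

variable [IsLocalRing A] [IsNoetherianRing A]

/-- the quotient map `A/m^n' → A/m^n` -/
noncomputable def qmap {n n' : ℕ} (h : n ≤ n') :
    (A ⧸ (IsLocalRing.maximalIdeal A) ^ n') →ₗ[A] (A ⧸ (IsLocalRing.maximalIdeal A) ^ n) :=
  Submodule.mapQ _ _ LinearMap.id
    (Ideal.pow_le_pow_right h : (IsLocalRing.maximalIdeal A) ^ n' ≤ (IsLocalRing.maximalIdeal A) ^ n)

lemma qmap_mk {n n' : ℕ} (h : n ≤ n') (a : A) :
    qmap h (Submodule.Quotient.mk a) = Submodule.Quotient.mk a := rfl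

lemma qmap_surjective {n n' : ℕ} (h : n ≤ n') : Function.Surjective (qmap (A := A) h) := by
  intro b
  obtain ⟨a, rfl⟩ := Submodule.Quotient.mk_surjective _ b
  exact ⟨Submodule.Quotient.mk a, rfl⟩

lemma qmap_comp {n n' n'' : ℕ} (h : n ≤ n') (h' : n' ≤ n'') :
    qmap (A := A) h ∘ₗ qmap h' = qmap (h.trans h') := by
  refine LinearMap.ext fun b => ?_
  obtain ⟨a, rfl⟩ := Submodule.Quotient.mk_surjective _ b
  rfl

lemma qmap_refl (n : ℕ) : qmap (A := A) (le_refl n) = LinearMap.id := by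
  refine LinearMap.ext fun b => ?_
  obtain ⟨a, rfl⟩ := Submodule.Quotient.mk_surjective _ b
  rfl

lemma rho_comp_qmap {n n' : ℕ} (h : n ≤ n') {N : Type u} [AddCommGroup N] [Module A N]
    (hN : ∀ a ∈ (IsLocalRing.maximalIdeal A) ^ n, ∀ x : N, a • x = 0)
    (hN' : ∀ a ∈ (IsLocalRing.maximalIdeal A) ^ n', ∀ x : N, a • x = 0) (x : N) :
    rho _ hN x ∘ₗ qmap h = rho _ hN' x := by
  refine LinearMap.ext fun b => ?_
  obtain ⟨a, rfl⟩ := Submodule.Quotient.mk_surjective _ b
  rw [LinearMap.comp_apply, qmap_mk, rho_mk, rho_mk]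

variable (ω : Dual.D A)

/-- the transition map `Hom(A/m^n, ω) → Hom(A/m^n', ω)` -/
noncomputable def tau {n n' : ℕ} (h : n ≤ n') :
    (Dual.inD A (A ⧸ (IsLocalRing.maximalIdeal A) ^ n) ⟶ ω) →ₗ[A]
      (Dual.inD A (A ⧸ (IsLocalRing.maximalIdeal A) ^ n') ⟶ ω) :=
  Linear.leftComp A ω (inDMap (qmap h))

lemma tau_apply {n n' : ℕ} (h : n ≤ n')
    (t : Dual.inD A (A ⧸ (IsLocalRing.maximalIdeal A) ^ n) ⟶ ω) :
    tau ω h t = inDMap (qmap h) ≫ t := rfl

lemma tau_trans {n n' n'' : ℕ} (h : n ≤ n') (h' : n' ≤ n'')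
    (t : Dual.inD A (A ⧸ (IsLocalRing.maximalIdeal A) ^ n) ⟶ ω) :
    tau ω h' (tau ω h t) = tau ω (h.trans h') t := by
  rw [tau_apply, tau_apply, tau_apply, ← Category.assoc, ← inDMap_comp, qmap_comp]

lemma tau_refl (n : ℕ) (t : Dual.inD A (A ⧸ (IsLocalRing.maximalIdeal A) ^ n) ⟶ ω) :
    tau ω (le_refl n) t = t := by
  rw [tau_apply, qmap_refl, inDMap_id, Category.id_comp]

lemma isFiniteLength_quot_pow (n : ℕ) :
    IsFiniteLength A (A ⧸ (IsLocalRing.maximalIdeal A) ^ n) :=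
  isFiniteLength_of_killed _ n (quot_killed _)

lemma tau_injective (hn : Dual.IsNormalized A ω) {n n' : ℕ} (h : n ≤ n') :
    Function.Injective (tau ω h) := by
  rw [injective_iff_map_eq_zero]
  intro t ht
  refine T_inj (LinearMap.ker (qmap (A := A) h)).subtype (qmap h) (Submodule.injective_subtype _)
    (qmap_surjective h) (LinearMap.exact_subtype_ker_map _) ω ?_ t ht
  exact vanish_of_isFiniteLength ω hn (-1) (by norm_num) _
    (IsFiniteLength.of_injective (isFiniteLength_quot_pow n') (Submodule.injective_subtype _))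

variable {E : Type u} [AddCommGroup E] [Module A E]

lemma ext_exists (hn : Dual.IsNormalized A ω) (f : IsLocalRing.ResidueField A →ₗ[A] E)
    (hf : InjHull.IsInjectiveHull f) (n : ℕ)
    (g : (Dual.inD A (A ⧸ (IsLocalRing.maximalIdeal A) ^ n) ⟶ ω) →ₗ[A] E) :
    ∃ h : (Dual.inD A (A ⧸ (IsLocalRing.maximalIdeal A) ^ (n + 1)) ⟶ ω) →ₗ[A] E,
      h ∘ₗ tau ω (Nat.le_succ n) = g := by
  haveI := hf.isInjective
  exact Module.Injective.extension_property A E _ _ (tau ω (Nat.le_succ n))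
    (tau_injective ω hn _) g

lemma pow_one_le : (IsLocalRing.maximalIdeal A) ^ 1 ≤ IsLocalRing.maximalIdeal A :=
  Ideal.pow_le_self one_ne_zero

variable (hω : Dual.IsDualizing A ω) (hn : Dual.IsNormalized A ω)
  (f : IsLocalRing.ResidueField A →ₗ[A] E) (hf : InjHull.IsInjectiveHull f)

/-- a compatible system of linear maps `Hom(A/m^n, ω) → E` -/
noncomputable def jseq :
    (n : ℕ) → ((Dual.inD A (A ⧸ (IsLocalRing.maximalIdeal A) ^ n) ⟶ ω) →ₗ[A] E)
  | 0 => 0
  | 1 => Classical.choose (exists_j ((IsLocalRing.maximalIdeal A) ^ 1) ω hω hn f hf pow_one_le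
      (isFiniteLength_quot_pow 1))
  | (n + 2) => Classical.choose (ext_exists ω hn f hf (n + 1) (jseq (n + 1)))

lemma jseq_one_spec : ∃ t₀ : Dual.inD A (IsLocalRing.ResidueField A) ⟶ ω,
    jseq ω hω hn f hf 1 (inDMap (rho ((IsLocalRing.maximalIdeal A) ^ 1)
      (killed_residue _ pow_one_le) 1) ≫ t₀) ≠ 0 :=
  Classical.choose_spec (exists_j ((IsLocalRing.maximalIdeal A) ^ 1) ω hω hn f hf pow_one_le
      (isFiniteLength_quot_pow 1))

lemma subsingleton_quot_pow_zero : Subsingleton (A ⧸ (IsLocalRing.maximalIdeal A) ^ 0) := by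
  rw [pow_zero, Ideal.one_eq_top]
  exact Ideal.Quotient.subsingleton_iff.mpr rfl

lemma jseq_succ (n : ℕ) :
    jseq ω hω hn f hf (n + 1) ∘ₗ tau ω (Nat.le_succ n) = jseq ω hω hn f hf n := by
  cases n with
  | zero =>
    refine LinearMap.ext fun t => ?_
    haveI := subsingleton_quot_pow_zero (A := A)
    rw [eq_zero_of_subsingleton _ ω t, map_zero, map_zero]
  | succ k =>
    exact Classical.choose_spec (ext_exists ω hn f hf (k + 1) (jseq ω hω hn f hf (k + 1)))

lemma jseq_le {n n' : ℕ} (h : n ≤ n')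
    (t : Dual.inD A (A ⧸ (IsLocalRing.maximalIdeal A) ^ n) ⟶ ω) :
    jseq ω hω hn f hf n' (tau ω h t) = jseq ω hω hn f hf n t := by
  induction n', h using Nat.le_induction with
  | base => rw [tau_refl]
  | succ k hk ih =>
    rw [← tau_trans ω hk (Nat.le_succ k) t]
    have h1 := LinearMap.congr_fun (jseq_succ ω hω hn f hf k) (tau ω hk t)
    rw [LinearMap.comp_apply] at h1
    rw [h1, ih]

lemma pow_succ_le (k : ℕ) : (IsLocalRing.maximalIdeal A) ^ (k + 1) ≤ IsLocalRing.maximalIdeal A :=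
  Ideal.pow_le_self (Nat.succ_ne_zero k)

lemma jseq_hj (k : ℕ) : ∃ t₀ : Dual.inD A (IsLocalRing.ResidueField A) ⟶ ω,
    jseq ω hω hn f hf (k + 1) (inDMap (rho ((IsLocalRing.maximalIdeal A) ^ (k + 1))
      (killed_residue _ (pow_succ_le k)) 1) ≫ t₀) ≠ 0 := by
  obtain ⟨t₀, ht₀⟩ := jseq_one_spec ω hω hn f hf
  refine ⟨t₀, ?_⟩
  have h1 := jseq_le ω hω hn f hf (show 1 ≤ k + 1 by lia)
    (inDMap (rho ((IsLocalRing.maximalIdeal A) ^ 1) (killed_residue _ pow_one_le) 1) ≫ t₀)
  rw [tau_apply, ← Category.assoc, ← inDMap_comp,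
    rho_comp_qmap (show 1 ≤ k + 1 by lia) (killed_residue _ pow_one_le)
      (killed_residue _ (pow_succ_le k))] at h1
  rw [h1]
  exact ht₀

lemma bij_quot (k : ℕ) :
    Function.Bijective (PsiL ((IsLocalRing.maximalIdeal A) ^ (k + 1))
      (quot_killed ((IsLocalRing.maximalIdeal A) ^ (k + 1))) ω (jseq ω hω hn f hf (k + 1))) :=
  bijective_PsiL _ ω _ hω hn f hf (pow_succ_le k) (jseq_hj ω hω hn f hf k) _
    (isFiniteLength_quot_pow (k + 1)) (quot_killed _)

lemma PsiL_quot_apply (n : ℕ)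
    (j : (Dual.inD A (A ⧸ (IsLocalRing.maximalIdeal A) ^ n) ⟶ ω) →ₗ[A] E)
    (t : Dual.inD A (A ⧸ (IsLocalRing.maximalIdeal A) ^ n) ⟶ ω) (a : A) :
    PsiL ((IsLocalRing.maximalIdeal A) ^ n) (quot_killed _) ω j t (Submodule.Quotient.mk a) =
      a • j t := by
  rw [PsiL_apply, rho_self_mk, inDMap_smul, Linear.smul_comp, inDMap_id, Category.id_comp,
    map_smul]

lemma jseq_injective (n : ℕ) : Function.Injective (jseq ω hω hn f hf n) := by
  cases n with
  | zero =>
    intro t t' _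
    haveI := subsingleton_quot_pow_zero (A := A)
    rw [eq_zero_of_subsingleton _ ω t, eq_zero_of_subsingleton _ ω t']
  | succ k =>
    rw [injective_iff_map_eq_zero]
    intro t ht
    apply (injective_iff_map_eq_zero _).mp (bij_quot ω hω hn f hf k).1
    refine LinearMap.ext fun b => ?_
    obtain ⟨a, rfl⟩ := Submodule.Quotient.mk_surjective _ b
    rw [PsiL_quot_apply, ht, smul_zero, LinearMap.zero_apply]

lemma jseq_surj (k : ℕ) (e : E) (he : ∀ a ∈ (IsLocalRing.maximalIdeal A) ^ (k + 1), a • e = 0) :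
    ∃ t, jseq ω hω hn f hf (k + 1) t = e := by
  let h : (A ⧸ (IsLocalRing.maximalIdeal A) ^ (k + 1)) →ₗ[A] E :=
    Submodule.liftQ _ (LinearMap.toSpanSingleton A E e) (by
      intro a ha
      rw [LinearMap.mem_ker, LinearMap.toSpanSingleton_apply]
      exact he a ha)
  obtain ⟨t, ht⟩ := (bij_quot ω hω hn f hf k).2 h
  refine ⟨t, ?_⟩
  have h1 := LinearMap.congr_fun ht (Submodule.Quotient.mk 1)
  rw [PsiL_quot_apply, one_smul] at h1
  rw [h1]
  show (LinearMap.toSpanSingleton A E e) 1 = e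
  rw [LinearMap.toSpanSingleton_apply, one_smul]

end Seq

section LC

variable [IsLocalRing A] [IsNoetherianRing A] (ω : Dual.D A)

/-- the diagram defining `Dual2.HDI` -/
noncomputable abbrev Fd (i : ℤ) : ℕᵒᵖᵒᵖ ⥤ ModuleCat.{u + 1} A :=
  (localCohomology.ringModIdeals (localCohomology.idealPowersDiagram (IsLocalRing.maximalIdeal A)) ⋙
      DerivedCategory.singleFunctor (ModuleCat.{u} A) 0).op ⋙
    (linearYoneda A (Dual.D A)).obj (ω⟦i⟧)

variable {E : Type u} [AddCommGroup E] [Module A E]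
  (hω : Dual.IsDualizing A ω) (hn : Dual.IsNormalized A ω)
  (f : IsLocalRing.ResidueField A →ₗ[A] E) (hf : InjHull.IsInjectiveHull f)

/-- the cocone maps -/
noncomputable def cmap (n : ℕ) :
    (Dual.inD A (A ⧸ (IsLocalRing.maximalIdeal A) ^ n) ⟶ ω⟦(0 : ℤ)⟧) →ₗ[A] ULift.{u + 1} E :=
  ULift.moduleEquiv.symm.toLinearMap ∘ₗ jseq ω hω hn f hf n ∘ₗ
    Linear.rightComp A _ ((shiftFunctorZero (DerivedCategory (ModuleCat.{u} A)) ℤ).app ω).hom

lemma cmap_apply (n : ℕ) (t : Dual.inD A (A ⧸ (IsLocalRing.maximalIdeal A) ^ n) ⟶ ω⟦(0 : ℤ)⟧) :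
    cmap ω hω hn f hf n t = ULift.up (jseq ω hω hn f hf n
      (t ≫ ((shiftFunctorZero (DerivedCategory (ModuleCat.{u} A)) ℤ).app ω).hom)) := rfl

lemma cmap_injective (n : ℕ) : Function.Injective (cmap ω hω hn f hf n) := by
  intro t t' h
  rw [cmap_apply, cmap_apply] at h
  have h1 := jseq_injective ω hω hn f hf n (ULift.up_injective h)
  exact (cancel_mono _).mp h1

lemma cmap_compat {n n' : ℕ} (h : n ≤ n')
    (t : Dual.inD A (A ⧸ (IsLocalRing.maximalIdeal A) ^ n) ⟶ ω⟦(0 : ℤ)⟧) :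
    cmap ω hω hn f hf n' (inDMap (qmap h) ≫ t) = cmap ω hω hn f hf n t := by
  rw [cmap_apply, cmap_apply, Category.assoc, ← tau_apply, jseq_le]

/-- the cocone on `E` -/
noncomputable def cocone : Cocone (Fd ω 0) where
  pt := ModuleCat.of A (ULift.{u + 1} E)
  ι :=
    { app := fun X => ModuleCat.ofHom (cmap ω hω hn f hf X.unop.unop)
      naturality := by
        intro X Y g
        refine ModuleCat.hom_ext (LinearMap.ext fun t => ?_)
        exact cmap_compat ω hω hn f hf (leOfHom g.unop.unop) t }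

include hω hn f hf in
theorem main_lc : Nonempty (Dual2.HDI A (IsLocalRing.maximalIdeal A) ω 0 ≃ₗ[A] E) ∧
    ∀ i : ℤ, i ≠ 0 → Subsingleton (Dual2.HDI A (IsLocalRing.maximalIdeal A) ω i) := by
  constructor
  · let Θ := colimit.desc (Fd ω 0) (cocone ω hω hn f hf)
    have hΘ : ∀ (X : ℕᵒᵖᵒᵖ) (t : (Fd ω 0).obj X),
        Θ.hom ((colimit.ι (Fd ω 0) X).hom t) = cmap ω hω hn f hf X.unop.unop t :=
      fun X t => congrArg (fun g => g.hom t) (colimit.ι_desc (cocone ω hω hn f hf) X)
    have hinj : Function.Injective Θ.hom := by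
      rw [injective_iff_map_eq_zero]
      intro x hx
      obtain ⟨X, y, rfl⟩ := exists_rep (Fd ω 0) x
      rw [hΘ] at hx
      have h1 : y = 0 := cmap_injective ω hω hn f hf _ (hx.trans (map_zero _).symm)
      rw [h1, map_zero]
    have hsurj : Function.Surjective Θ.hom := by
      intro e'
      obtain ⟨n, hn'⟩ := Groth.Agent.S0311.result A E f hf e'.down
      have he : ∀ a ∈ (IsLocalRing.maximalIdeal A) ^ (n + 1), a • e'.down = 0 :=
        fun a ha => hn' a (Ideal.pow_le_pow_right (Nat.le_succ n) ha)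
      obtain ⟨t, ht⟩ := jseq_surj ω hω hn f hf n e'.down he
      refine ⟨(colimit.ι (Fd ω 0) (op (op (n + 1)))).hom
        (t ≫ ((shiftFunctorZero (DerivedCategory (ModuleCat.{u} A)) ℤ).app ω).inv), ?_⟩
      rw [hΘ]
      show cmap ω hω hn f hf (n + 1)
        (t ≫ ((shiftFunctorZero (DerivedCategory (ModuleCat.{u} A)) ℤ).app ω).inv) = e'
      rw [cmap_apply, Category.assoc, Iso.inv_hom_id, Category.comp_id, ht]
      rfl
    exact ⟨(LinearEquiv.ofBijective Θ.hom ⟨hinj, hsurj⟩).trans ULift.moduleEquiv⟩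
  · intro i hi
    refine subsingleton_colimit _ (fun X => ?_)
    exact subsingleton_iff_forall_eq_zero.mpr (vanish_of_isFiniteLength ω hn i hi _
      (isFiniteLength_quot_pow X.unop.unop))

end LC

end Groth.Agent.Lib.Helper5.DualFL
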