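import Mathlib
import Groth.Prelude.Def_DualLC
import Groth.Agent.Lib.Helper10RGamB
import Groth.Agent.Lib.Helper5DualCxHom
import Groth.Agent.Lib.Helper5DualFLB
import Groth.Agent.Lib.Helper1ExtCech5
set_option backward.isDefEq.respectTransparency.types false

/-!
# `H^q(RΓ_I K)` is the colimit of `Hom_{D(A)}(A/I^n, K[q])` (helper10)
-/

set_option autoImplicit false
set_option maxHeartbeats 400000
universe u
open CategoryTheory CategoryTheory.Limits HomologicalComplex
attribute [local instance] HasDerivedCategory.standard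

namespace Groth.Agent.Lib.Helper10.RGamE

open DerivedCategory Groth.Agent.Lib.Helper10.RGamA Groth.Agent.Lib.Helper10.RGamB
  Groth.Agent.Lib.Helper5.BiDual Groth.Agent.Lib.Helper1.ExtCech5 Groth.Agent.Lib.Helper17.RGam

variable {A : Type u} [CommRing A] (I : Ideal A)

/-- `A/I^n` -/
noncomputable abbrev Nn (n : ℕ) : ModuleCat.{u} A := ModuleCat.of A (A ⧸ I ^ n)

/-- the transition map `A/I^m ⟶ A/I^n` for `n ≤ m` -/
noncomputable def πN {n m : ℕ} (h : n ≤ m) : Nn I m ⟶ Nn I n :=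
  ModuleCat.ofHom (Submodule.mapQ _ _ LinearMap.id (Ideal.pow_le_pow_right h))

/-- the class of `1` -/
noncomputable def one (n : ℕ) : Nn I n := (Submodule.Quotient.mk (1 : A) : A ⧸ I ^ n)

lemma πN_one {n m : ℕ} (h : n ≤ m) : (πN I h).hom (one I m) = one I n := rfl

lemma smul_one_eq_zero (n : ℕ) (a : A) (ha : a ∈ I ^ n) : a • one I n = 0 := by
  change (Submodule.Quotient.mk (a • (1 : A)) : A ⧸ I ^ n) = 0
  rw [Submodule.Quotient.mk_eq_zero]
  simpa using ha

lemma hom_ext_one {n : ℕ} {M : ModuleCat.{u} A} (g g' : Nn I n ⟶ M)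
    (h : g.hom (one I n) = g'.hom (one I n)) : g = g' := by
  refine ModuleCat.hom_ext (LinearMap.ext fun x => ?_)
  obtain ⟨a, rfl⟩ := Submodule.Quotient.mk_surjective _ x
  have e : (Submodule.Quotient.mk a : A ⧸ I ^ n) = a • one I n := by
    change _ = (Submodule.Quotient.mk (a • (1 : A)) : A ⧸ I ^ n)
    simp
  change g.hom (Submodule.Quotient.mk a) = g'.hom (Submodule.Quotient.mk a)
  rw [e, map_smul, map_smul, h]

/-- the map `A/I^n ⟶ M` attached to an element killed by `I^n` -/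
noncomputable def ofElt (n : ℕ) {M : ModuleCat.{u} A} (x : M) (hx : ∀ a ∈ I ^ n, a • x = 0) :
    Nn I n ⟶ M :=
  ModuleCat.ofHom (Submodule.liftQ (I ^ n) (LinearMap.toSpanSingleton A M x) (fun a ha => by
    rw [LinearMap.mem_ker, LinearMap.toSpanSingleton_apply]
    exact hx a ha))

lemma ofElt_one (n : ℕ) {M : ModuleCat.{u} A} (x : M) (hx : ∀ a ∈ I ^ n, a • x = 0) :
    (ofElt I n x hx).hom (one I n) = x := by
  change (LinearMap.toSpanSingleton A M x) 1 = x
  simp

variable (J : DRing.Cx A)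

/-- evaluation at `1`, landing in the `I`-power torsion -/
noncomputable def ev1 (n : ℕ) (p : ℤ) : (Nn I n ⟶ J.X p) →ₗ[A] DRing.torsionSub I (J.X p) where
  toFun g := ⟨g.hom (one I n), n, fun a ha => by
    rw [← map_smul, smul_one_eq_zero I n a ha, map_zero]⟩
  map_add' _ _ := rfl
  map_smul' _ _ := rfl

variable [J.IsKInjective] (i : ℤ)

/-- cycles of `Hom(A/I^n, J)` in degree `i` -/
noncomputable abbrev Zn (n : ℕ) :=
  LinearMap.ker ((dualCx J (Nn I n)).sc' (i - 1) i (i + 1)).g.hom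

/-- evaluation at `1` on cycles -/
noncomputable def evZ (n : ℕ) : ModuleCat.of A (Zn I J i n) ⟶ ((G I).obj J).X i :=
  ModuleCat.ofHom ((ev1 I J n i) ∘ₗ (Zn I J i n).subtype)

omit [J.IsKInjective] in
lemma evZ_apply (n : ℕ) (z : Zn I J i n) :
    ((evZ I J i n).hom z : DRing.torsionSub I (J.X i)) = ev1 I J n i z.1 := rfl

lemma evZ_d (n : ℕ) : evZ I J i n ≫ ((G I).obj J).d i (i + 1) = 0 := by
  refine ModuleCat.hom_ext (LinearMap.ext fun z => ?_)
  apply Subtype.ext
  have hz : (z.1 : Nn I n ⟶ J.X i) ≫ J.d i (i + 1) = 0 := (mem_ker_iff J (Nn I n) i z.1).mp z.2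
  exact congrArg (fun t => t.hom (one I n)) hz

/-- the cycle of `Γ_I J` attached to a cycle of `Hom(A/I^n, J)` -/
noncomputable def cycZ (n : ℕ) : ModuleCat.of A (Zn I J i n) ⟶ ((G I).obj J).cycles i :=
  ((G I).obj J).liftCycles (evZ I J i n) (i + 1) (by simp) (evZ_d I J i n)

lemma iCycles_cycZ (n : ℕ) (z : Zn I J i n) :
    (((G I).obj J).iCycles i).hom ((cycZ I J i n).hom z) = ev1 I J n i z.1 :=
  congrArg (fun t => t.hom z) (((G I).obj J).liftCycles_i (evZ I J i n) (i + 1) (by simp)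
    (evZ_d I J i n))

/-- the class in `H^i(Γ_I J)` attached to a cycle of `Hom(A/I^n, J)` -/
noncomputable def ζ (n : ℕ) : Zn I J i n →ₗ[A] ((G I).obj J).homology i :=
  (cycZ I J i n ≫ ((G I).obj J).homologyπ i).hom

lemma ζ_apply (n : ℕ) (z : Zn I J i n) :
    ζ I J i n z = (((G I).obj J).homologyπ i).hom ((cycZ I J i n).hom z) := rfl

lemma ζ_boundary (n : ℕ) (z : Zn I J i n) (k : Nn I n ⟶ J.X (i - 1))
    (hk : k ≫ J.d (i - 1) i = z.1) : ζ I J i n z = 0 := by
  have h1 : (cycZ I J i n).hom z =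
      (((G I).obj J).toCycles (i - 1) i).hom (ev1 I J n (i - 1) k) := by
    apply iCycles_injective
    rw [iCycles_cycZ, iCycles_toCycles]
    apply Subtype.ext
    exact (congrArg (fun t => t.hom (one I n)) hk).symm
  rw [ζ_apply, h1, homologyπ_toCycles]


/-- precomposition of cycles with `A/I^m ⟶ A/I^n` -/
noncomputable def resZ {n m : ℕ} (h : n ≤ m) (z : Zn I J i n) : Zn I J i m :=
  ⟨πN I h ≫ z.1, (mem_ker_iff J (Nn I m) i _).mpr (by
    rw [Category.assoc, (mem_ker_iff J (Nn I n) i z.1).mp z.2, comp_zero])⟩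

lemma ζ_resZ {n m : ℕ} (h : n ≤ m) (z : Zn I J i n) :
    ζ I J i m (resZ I J i h z) = ζ I J i n z := by
  have h1 : (cycZ I J i m).hom (resZ I J i h z) = (cycZ I J i n).hom z := by
    apply iCycles_injective
    rw [iCycles_cycZ, iCycles_cycZ]
    rfl
  rw [ζ_apply, ζ_apply, h1]

lemma map_comp_cycMap {n m : ℕ} (h : n ≤ m) (z : Zn I J i n) :
    (DerivedCategory.singleFunctor (ModuleCat.{u} A) i).map (πN I h) ≫ cycMap J (Nn I n) i z =
      cycMap J (Nn I m) i (resZ I J i h z) := by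
  rw [cycMap_apply, cycMap_apply]
  have h1 : (DerivedCategory.singleFunctor (ModuleCat.{u} A) i).map (πN I h) ≫
      (sIso (Nn I n) i).hom = (sIso (Nn I m) i).hom ≫
        Q.map ((CochainComplex.singleFunctor (ModuleCat.{u} A) i).map (πN I h)) :=
    (singleFunctorIsoCompQ (ModuleCat.{u} A) i).hom.naturality (πN I h)
  rw [← Category.assoc, h1, Category.assoc, ← Functor.map_comp]
  congr 2
  apply HomologicalComplex.from_single_hom_ext
  rw [HomologicalComplex.comp_f, cyc_f, cyc_f]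
  change ((HomologicalComplex.single (ModuleCat.{u} A) (ComplexShape.up ℤ) i).map (πN I h)).f i ≫ _ = _
  rw [HomologicalComplex.single_map_f_self, Category.assoc, Category.assoc, Iso.inv_hom_id_assoc]
  rfl

lemma ker_cycMap_le (n : ℕ) :
    LinearMap.ker (cycMap J (Nn I n) i) ≤ LinearMap.ker (ζ I J i n) := by
  intro z hz
  rw [ker_cycMap, LinearMap.mem_range] at hz
  obtain ⟨k, hk⟩ := hz
  rw [LinearMap.mem_ker]
  exact ζ_boundary I J i n z k (congrArg Subtype.val hk)

/-- the stage map `Hom_D(A/I^n[-i], Q J) ⟶ H^i(Γ_I J)` -/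
noncomputable def φ (n : ℕ) :
    (sD (Nn I n) i ⟶ Q.obj J) →ₗ[A] ((G I).obj J).homology i :=
  (LinearMap.ker (cycMap J (Nn I n) i)).liftQ (ζ I J i n) (ker_cycMap_le I J i n) ∘ₗ
    ((cycMap J (Nn I n) i).quotKerEquivOfSurjective (cycMap_surjective J (Nn I n) i)).symm.toLinearMap

lemma φ_cycMap (n : ℕ) (z : Zn I J i n) :
    φ I J i n (cycMap J (Nn I n) i z) = ζ I J i n z := by
  have h1 : ((cycMap J (Nn I n) i).quotKerEquivOfSurjective
      (cycMap_surjective J (Nn I n) i)).symm (cycMap J (Nn I n) i z) =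
      Submodule.Quotient.mk z := by
    rw [LinearEquiv.symm_apply_eq, LinearMap.quotKerEquivOfSurjective_apply_mk]
  change (LinearMap.ker (cycMap J (Nn I n) i)).liftQ (ζ I J i n) (ker_cycMap_le I J i n)
    (((cycMap J (Nn I n) i).quotKerEquivOfSurjective
      (cycMap_surjective J (Nn I n) i)).symm (cycMap J (Nn I n) i z)) = _
  rw [h1, Submodule.liftQ_apply]

lemma φ_compat {n m : ℕ} (h : n ≤ m) (t : sD (Nn I n) i ⟶ Q.obj J) :
    φ I J i m ((DerivedCategory.singleFunctor (ModuleCat.{u} A) i).map (πN I h) ≫ t) =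
      φ I J i n t := by
  obtain ⟨z, rfl⟩ := cycMap_surjective J (Nn I n) i t
  rw [map_comp_cycMap, φ_cycMap, φ_cycMap, ζ_resZ]

lemma φ_surjective (y : ((G I).obj J).homology i) :
    ∃ (n : ℕ) (t : sD (Nn I n) i ⟶ Q.obj J), φ I J i n t = y := by
  obtain ⟨c, rfl⟩ := homologyπ_surjective ((G I).obj J) i y
  obtain ⟨c₀, hc₀⟩ : ∃ c₀ : DRing.torsionSub I (J.X i),
      c₀ = (((G I).obj J).iCycles i).hom c := ⟨_, rfl⟩
  obtain ⟨n, hn⟩ := c₀.2
  have hd : (J.d i (i + 1)).hom c₀.1 = 0 := by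
    have h1 := d_iCycles ((G I).obj J) i c
    rw [← hc₀] at h1
    exact congrArg Subtype.val h1
  let f : Nn I n ⟶ J.X i := ofElt I n c₀.1 hn
  have hf : f ≫ J.d i (i + 1) = 0 := by
    apply hom_ext_one
    change (J.d i (i + 1)).hom (f.hom (one I n)) = 0
    rw [ofElt_one]
    exact hd
  let z : Zn I J i n := ⟨f, (mem_ker_iff J (Nn I n) i f).mpr hf⟩
  refine ⟨n, cycMap J (Nn I n) i z, ?_⟩
  rw [φ_cycMap, ζ_apply]
  congr 1
  apply iCycles_injective
  rw [iCycles_cycZ, ← hc₀]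
  apply Subtype.ext
  exact ofElt_one I n c₀.1 hn

lemma φ_eq_zero {n : ℕ} (t : sD (Nn I n) i ⟶ Q.obj J) (ht : φ I J i n t = 0) :
    ∃ (m : ℕ) (h : n ≤ m),
      (DerivedCategory.singleFunctor (ModuleCat.{u} A) i).map (πN I h) ≫ t = 0 := by
  obtain ⟨z, rfl⟩ := cycMap_surjective J (Nn I n) i t
  rw [φ_cycMap, ζ_apply] at ht
  obtain ⟨w, hw⟩ := exists_of_homologyπ_eq_zero ((G I).obj J) i _ ht
  obtain ⟨w₀, hw₀⟩ : ∃ w₀ : DRing.torsionSub I (J.X (i - 1)), w₀ = w := ⟨_, rfl⟩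
  obtain ⟨m', hm'⟩ := w₀.2
  have hdw : (J.d (i - 1) i).hom w₀.1 = (z.1 : Nn I n ⟶ J.X i).hom (one I n) := by
    have h1 := congrArg (((G I).obj J).iCycles i).hom hw
    rw [iCycles_toCycles, iCycles_cycZ, ← hw₀] at h1
    exact congrArg Subtype.val h1
  refine ⟨max n m', le_max_left _ _, ?_⟩
  rw [map_comp_cycMap]
  have hk : ∀ a ∈ I ^ (max n m'), a • w₀.1 = 0 := fun a ha =>
    hm' a (Ideal.pow_le_pow_right (le_max_right _ _) ha)
  have hmem : resZ I J i (le_max_left n m') z ∈ LinearMap.ker (cycMap J (Nn I (max n m')) i) := by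
    rw [ker_cycMap, LinearMap.mem_range]
    refine ⟨ofElt I (max n m') w₀.1 hk, ?_⟩
    apply Subtype.ext
    change ofElt I (max n m') w₀.1 hk ≫ J.d (i - 1) i = πN I (le_max_left n m') ≫ z.1
    apply hom_ext_one
    change (J.d (i - 1) i).hom ((ofElt I (max n m') w₀.1 hk).hom (one I _)) =
      (z.1 : Nn I n ⟶ J.X i).hom ((πN I (le_max_left n m')).hom (one I _))
    rw [ofElt_one, πN_one, hdw]
  exact hmem


section Colim

universe w

variable {Jc : Type} [SmallCategory Jc] [IsFiltered Jc] (F : Jc ⥤ ModuleCat.{w} A) [HasColimit F]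
  (c : Cocone F)

omit [J.IsKInjective] in
/-- criterion for a cocone over a filtered diagram of modules to induce a bijection from the
colimit -/
lemma bijective_desc
    (hs : ∀ x : c.pt, ∃ (j : Jc) (y : F.obj j), (c.ι.app j).hom y = x)
    (hi : ∀ (j : Jc) (y : F.obj j), (c.ι.app j).hom y = 0 →
      ∃ (k : Jc) (f : j ⟶ k), (F.map f).hom y = 0) :
    Function.Bijective (colimit.desc F c).hom := by
  have hΘ : ∀ (j : Jc) (y : F.obj j),
      (colimit.desc F c).hom ((colimit.ι F j).hom y) = (c.ι.app j).hom y :=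
    fun j y => congrArg (fun g => g.hom y) (colimit.ι_desc c j)
  constructor
  · rw [injective_iff_map_eq_zero]
    intro x hx
    obtain ⟨j, y, rfl⟩ := Groth.Agent.Lib.Helper5.DualFL.exists_rep F x
    rw [hΘ] at hx
    obtain ⟨k, f, hf⟩ := hi j y hx
    rw [← Groth.Agent.Lib.Helper5.DualFL.ι_map_apply F f y, hf, map_zero]
  · intro x
    obtain ⟨j, y, rfl⟩ := hs x
    exact ⟨(colimit.ι F j).hom y, hΘ j y⟩

end Colim

section Main0

variable (L : Dual.D A)

/-- the diagram defining `Dual2.HDI` -/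
noncomputable abbrev Fd : ℕᵒᵖᵒᵖ ⥤ ModuleCat.{u + 1} A :=
  (localCohomology.ringModIdeals (localCohomology.idealPowersDiagram I) ⋙
      DerivedCategory.singleFunctor (ModuleCat.{u} A) 0).op ⋙
    (linearYoneda A (Dual.D A)).obj L

variable {L} (e : L ≅ Q.obj J)

/-- the cocone maps -/
noncomputable def cmap (n : ℕ) :
    (sD (Nn I n) 0 ⟶ L) →ₗ[A] ULift.{u + 1} (((G I).obj J).homology 0) :=
  ULift.moduleEquiv.symm.toLinearMap ∘ₗ φ I J 0 n ∘ₗ Linear.rightComp A _ e.hom

lemma cmap_apply (n : ℕ) (t : sD (Nn I n) 0 ⟶ L) :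
    cmap I J e n t = ULift.up (φ I J 0 n (t ≫ e.hom)) := rfl

lemma cmap_compat {n m : ℕ} (h : n ≤ m) (t : sD (Nn I n) 0 ⟶ L) :
    cmap I J e m ((DerivedCategory.singleFunctor (ModuleCat.{u} A) 0).map (πN I h) ≫ t) =
      cmap I J e n t := by
  rw [cmap_apply, cmap_apply, Category.assoc, φ_compat]

/-- the cocone on `H^0(Γ_I J)` -/
noncomputable def cocone : Cocone (Fd I L) where
  pt := ModuleCat.of A (ULift.{u + 1} (((G I).obj J).homology 0))
  ι :=
    { app := fun X => ModuleCat.ofHom (cmap I J e X.unop.unop)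
      naturality := by
        intro X Y g
        refine ModuleCat.hom_ext (LinearMap.ext fun t => ?_)
        exact cmap_compat I J e (leOfHom g.unop.unop) t }

include e in
theorem main0 : Nonempty ((colimit (Fd I L) : ModuleCat.{u + 1} A) ≃ₗ[A]
    ((G I).obj J).homology 0) := by
  have hb := bijective_desc (Fd I L) (cocone I J e) ?_ ?_
  · exact ⟨(LinearEquiv.ofBijective (colimit.desc (Fd I L) (cocone I J e)).hom hb).trans
      ULift.moduleEquiv⟩
  · intro x
    obtain ⟨n, t, ht⟩ := φ_surjective I J 0 x.down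
    refine ⟨Opposite.op (Opposite.op n), t ≫ e.inv, ?_⟩
    change cmap I J e n (t ≫ e.inv) = x
    rw [cmap_apply, Category.assoc, Iso.inv_hom_id, Category.comp_id, ht]
    rfl
  · intro X y hy
    have h1 : φ I J 0 X.unop.unop (y ≫ e.hom) = 0 := congrArg ULift.down hy
    obtain ⟨m, h, hm⟩ := φ_eq_zero I J 0 _ h1
    refine ⟨Opposite.op (Opposite.op m), (homOfLE h).op.op, ?_⟩
    change (DerivedCategory.singleFunctor (ModuleCat.{u} A) 0).map (πN I h) ≫ y = 0
    rw [← Category.assoc] at hm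
    exact (cancel_mono e.hom).mp (hm.trans zero_comp.symm)

end Main0


section Main

omit [J.IsKInjective] in
/-- `H^0(Γ_I(J[q])) ≅ H^q(Γ_I J)` -/
noncomputable def homologyShiftIso (q : ℤ) :
    ((G I).obj (J⟦q⟧)).homology 0 ≅ ((G I).obj J).homology q :=
  (HomologicalComplex.homologyFunctor (ModuleCat.{u} A) (ComplexShape.up ℤ) 0).mapIso
      (((DRing.gammaI I).mapCochainComplexShiftIso q).app J) ≪≫
    (CochainComplex.ShiftSequence.shiftIso (ModuleCat.{u} A) q 0 q (add_zero q)).app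
      ((G I).obj J)

omit J [J.IsKInjective] in
theorem main [DRing.HasRgammaI I] (K : Dual.D A) (q : ℤ) :
    Nonempty (Dual.HD A ((DRing.RgammaI I).obj K) q ≃ₗ[A] Dual2.HDI A I K q) := by
  obtain ⟨J, _, -, ⟨e0⟩⟩ := exists_TI_model K
  let eL : K⟦q⟧ ≅ (Q : _ ⥤ Dual.D A).obj (J⟦q⟧) :=
    (shiftFunctor (Dual.D A) q).mapIso e0.symm ≪≫ ((Q.commShiftIso q).app J).symm
  obtain ⟨E1⟩ := main0 I (J⟦q⟧) eL
  have E2 : Dual.HD A ((DRing.RgammaI I).obj K) q ≃ₗ[A] ((G I).obj J).homology q :=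
    ((DerivedCategory.homologyFunctor (ModuleCat.{u} A) q).mapIso
      ((DRing.RgammaI I).mapIso e0.symm ≪≫ (isoOfIsKInjective I J).symm) ≪≫
        HDIso ((G I).obj J) q).toLinearEquiv
  exact ⟨E2.trans ((homologyShiftIso I J q).toLinearEquiv.symm.trans E1.symm)⟩

end Main

end Groth.Agent.Lib.Helper10.RGamE
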