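import Mathlib
import Groth.Agent.Lib.Helper10RGamB

/-!
# `Γ_I` on complexes of "good" modules (helper10)

Generalisation of `Helper10RGamA`: instead of injective terms we only ask that, along a generating
list `f₁, …, f_r` of `I`, the `(f_{j+1}, …, f_r)`-power torsion of each term is divisible by `f_j`
modulo `f_j`-power torsion (`Good`).  Then `Γ_I` of an acyclic complex is acyclic and `Γ_I`
preserves quasi-isomorphisms between such complexes.  Injective modules over a Noetherian ring are
good, and so are restrictions of scalars of injective modules over a Noetherian algebra.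
-/

set_option autoImplicit false
set_option maxHeartbeats 400000
universe u
open CategoryTheory CategoryTheory.Limits

namespace Groth.Agent.Lib.Helper10.RGamF

open DerCA HomologicalComplex Groth.Agent.Lib.Helper1.ExtCech Groth.Agent.Lib.Helper10.RGamA
  Groth.Agent.Lib.Helper10.RGamB

variable {R : Type u} [CommRing R]

/-- divisibility by `f` of the `I`-power torsion of `M`, modulo `f`-power torsion -/
def DivAt (I : Ideal R) (f : R) (M : Type u) [AddCommGroup M] [Module R M] : Prop :=
  ∀ y : M, y ∈ DRing.torsionSub I M → ∀ k : ℕ,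
    ∃ y' : M, y' ∈ DRing.torsionSub I M ∧ ∃ t : ℕ, f ^ t • (f ^ k • y' - y) = 0

/-- `M` is good for the list `fs` -/
def Good (fs : List R) (M : Type u) [AddCommGroup M] [Module R M] : Prop :=
  ∀ (f : R) (gs : List R), (f :: gs) <:+ fs → DivAt (Ideal.span {x : R | x ∈ gs}) f M

lemma good_cons_iff (f : R) (fs : List R) (M : Type u) [AddCommGroup M] [Module R M] :
    Good (f :: fs) M ↔ Good fs M ∧ DivAt (Ideal.span {x : R | x ∈ fs}) f M := by
  constructor
  · intro h
    exact ⟨fun g gs hg => h g gs (hg.trans (List.suffix_cons f fs)),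
      h f fs (List.suffix_refl _)⟩
  · rintro ⟨h1, h2⟩ g gs hg
    rcases List.suffix_cons_iff.1 hg with h | h
    · obtain ⟨rfl, rfl⟩ := List.cons.inj h
      exact h2
    · exact h1 g gs h

lemma DivAt.of_linearEquiv {I : Ideal R} {f : R} {M N : Type u} [AddCommGroup M] [Module R M]
    [AddCommGroup N] [Module R N] (e : M ≃ₗ[R] N) (h : DivAt I f M) : DivAt I f N := by
  intro y hy k
  obtain ⟨y', hy', t, ht⟩ := h (e.symm y) (DRing.map_mem_torsionSub I e.symm.toLinearMap hy) k
  refine ⟨e y', DRing.map_mem_torsionSub I e.toLinearMap hy', t, ?_⟩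
  have := congrArg e ht
  simpa using this

lemma DivAt.prod {I : Ideal R} {f : R} {M N : Type u} [AddCommGroup M] [Module R M]
    [AddCommGroup N] [Module R N] (hM : DivAt I f M) (hN : DivAt I f N) : DivAt I f (M × N) := by
  intro y hy k
  obtain ⟨y₁, hy₁, t₁, ht₁⟩ := hM y.1 (DRing.map_mem_torsionSub I (LinearMap.fst R M N) hy) k
  obtain ⟨y₂, hy₂, t₂, ht₂⟩ := hN y.2 (DRing.map_mem_torsionSub I (LinearMap.snd R M N) hy) k
  refine ⟨(y₁, y₂), ?_, t₁ + t₂, ?_⟩
  · obtain ⟨n₁, hn₁⟩ := hy₁
    obtain ⟨n₂, hn₂⟩ := hy₂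
    refine ⟨n₁ + n₂, fun a ha => ?_⟩
    ext
    · exact hn₁ a (Ideal.pow_le_pow_right (Nat.le_add_right _ _) ha)
    · exact hn₂ a (Ideal.pow_le_pow_right (Nat.le_add_left _ _) ha)
  · ext
    · change f ^ (t₁ + t₂) • (f ^ k • y₁ - y.1) = 0
      rw [add_comm, pow_add, mul_smul, ht₁, smul_zero]
    · change f ^ (t₁ + t₂) • (f ^ k • y₂ - y.2) = 0
      rw [pow_add, mul_smul, ht₂, smul_zero]

lemma Good.of_linearEquiv {fs : List R} {M N : Type u} [AddCommGroup M] [Module R M]
    [AddCommGroup N] [Module R N] (e : M ≃ₗ[R] N) (h : Good fs M) : Good fs N :=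
  fun f gs hg => (h f gs hg).of_linearEquiv e

lemma Good.prod {fs : List R} {M N : Type u} [AddCommGroup M] [Module R M]
    [AddCommGroup N] [Module R N] (hM : Good fs M) (hN : Good fs N) : Good fs (M × N) :=
  fun f gs hg => (hM f gs hg).prod (hN f gs hg)

lemma divAt_of_injective [IsNoetherianRing R] (I : Ideal R) (f : R) (M : Type u) [AddCommGroup M]
    [Module R M] [Module.Injective R M] : DivAt I f M := by
  intro y hy k
  haveI := injective_torsionSub I M
  obtain ⟨y', t, ht⟩ := exists_div_of_injective (DRing.torsionSub I M) f ⟨y, hy⟩ k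
  exact ⟨y'.1, y'.2, t, congrArg Subtype.val ht⟩

lemma good_of_injective [IsNoetherianRing R] (fs : List R) (M : Type u) [AddCommGroup M]
    [Module R M] [Module.Injective R M] : Good fs M :=
  fun f _ _ => divAt_of_injective _ f M

/-- termwise good complexes -/
def TG (fs : List R) (C : DRing.Cx R) : Prop := ∀ n : ℤ, Good fs (C.X n)

lemma TG_of_TI [IsNoetherianRing R] (fs : List R) {C : DRing.Cx R} (hC : TI C) : TG fs C :=
  fun n => by
    haveI := hC n
    exact good_of_injective fs (C.X n)

lemma sc_shortExact_of_div (I : Ideal R) (f : R) {C : DRing.Cx R}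
    (hC : ∀ n, DivAt I f (C.X n)) : (sc I f C).ShortExact := by
  apply HomologicalComplex.shortExact_of_degreewise_shortExact
  intro n
  apply ModuleCat.shortComplex_shortExact
  · intro y
    constructor
    · intro hy
      change LocalizedModule.mkLinearMap (Submonoid.powers f) _ y = 0 at hy
      rw [IsLocalizedModule.eq_zero_iff (Submonoid.powers f)] at hy
      obtain ⟨⟨_, k, rfl⟩, hk⟩ := hy
      have hk' : f ^ k • y.1 = 0 := congrArg Subtype.val hk
      exact ⟨⟨y.1, (mem_torsionSub_sup_iff I f (C.X n) y.1).2 ⟨y.2, k, hk'⟩⟩, rfl⟩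
    · rintro ⟨x, rfl⟩
      exact congrArg (fun φ => (φ.f n).hom x) (sc I f C).zero
  · intro x x' h
    apply Subtype.ext
    have h' := congrArg Subtype.val h
    exact h'
  · intro z
    induction z using LocalizedModule.induction_on with
    | h y s =>
      obtain ⟨_, k, rfl⟩ := s
      obtain ⟨y₀, hy₀, t, ht⟩ := hC n y.1 y.2 k
      obtain ⟨y', rfl⟩ : ∃ y' : ((G I).obj C).X n, y'.1 = y₀ := ⟨⟨y₀, hy₀⟩, rfl⟩
      refine ⟨y', ?_⟩
      change LocalizedModule.mkLinearMap (Submonoid.powers f) _ y' = _
      rw [LocalizedModule.mkLinearMap_apply, LocalizedModule.mk_eq]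
      refine ⟨⟨f ^ t, t, rfl⟩, ?_⟩
      rw [smul_sub, sub_eq_zero] at ht
      change f ^ t • (f ^ k • y') = f ^ t • ((1 : R) • y)
      rw [one_smul]
      exact Subtype.ext ht

lemma isZero_homology_step_of_div (I : Ideal R) (f : R) {C : DRing.Cx R}
    (hC : ∀ n, DivAt I f (C.X n)) (h : ∀ j, IsZero (((G I).obj C).homology j)) (j : ℤ) :
    IsZero (((G (Ideal.span {f} ⊔ I)).obj C).homology j) := by
  have hS := sc_shortExact_of_div I f hC
  have h3 : ∀ j, IsZero ((sc I f C).X₃.homology j) := fun j => by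
    apply isZero_homology_loc
    haveI : Subsingleton (((G I).obj C).homology j) := ModuleCat.subsingleton_of_isZero (h j)
    exact PT_of_subsingleton f _
  exact (hS.homology_exact₁ (j - 1) j (by simp)).isZero_of_both_zeros
    ((h3 (j - 1)).eq_of_src _ _) ((h j).eq_of_tgt _ _)

/-- `Γ_I` of an acyclic complex of good modules is acyclic -/
theorem isZero_homology_G_of_TG (fs : List R) {C : DRing.Cx R}
    (hC : TG fs C) (h : ∀ j, IsZero (C.homology j)) (j : ℤ) :
    IsZero (((G (Ideal.span {x : R | x ∈ fs})).obj C).homology j) := by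
  induction fs generalizing j with
  | nil =>
    have h0 : Ideal.span {x : R | x ∈ ([] : List R)} = ⊥ := by simp
    rw [h0]
    haveI := isIso_ιC_bot C
    exact (h j).of_iso ((HomologicalComplex.homologyFunctor _ _ j).mapIso (asIso (ιC (⊥ : Ideal R) C)))
  | cons f fs ih =>
    rw [span_cons]
    exact isZero_homology_step_of_div _ f (fun n => ((good_cons_iff f fs _).1 (hC n)).2)
      (ih (fun n => ((good_cons_iff f fs _).1 (hC n)).1)) j

lemma TG_mappingCone {fs : List R} {C D : DRing.Cx R} (hC : TG fs C) (hD : TG fs D) (φ : C ⟶ D) :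
    TG fs (CochainComplex.mappingCone φ) := by
  intro n
  have e : (CochainComplex.mappingCone φ).X n ≅ ModuleCat.of R (C.X (n + 1) × D.X n) :=
    HomologicalComplex.homotopyCofiber.XIsoBiprod φ n (n + 1) rfl ≪≫
      ModuleCat.biprodIsoProd (C.X (n + 1)) (D.X n)
  exact ((hC (n + 1)).prod (hD n)).of_linearEquiv e.toLinearEquiv.symm

/-- `Γ_I` preserves quasi-isomorphisms between complexes of good modules -/
theorem quasiIso_G_map_of_TG (fs : List R) {C D : DRing.Cx R} (hC : TG fs C) (hD : TG fs D)
    (φ : C ⟶ D) [QuasiIso φ] : QuasiIso ((G (Ideal.span {x : R | x ∈ fs})).map φ) := by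
  rw [quasiIso_iff_mappingCone]
  intro j
  have h := isZero_homology_G_of_TG fs (TG_mappingCone hC hD φ)
    ((quasiIso_iff_mappingCone φ).1 inferInstance) j
  exact h.of_iso ((HomologicalComplex.homologyFunctor _ _ j).mapIso
    (CochainComplex.mappingCone.mapHomologicalComplexIso φ
      (DRing.gammaI (Ideal.span {x : R | x ∈ fs})))).symm

end Groth.Agent.Lib.Helper10.RGamF
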