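import Mathlib
import Groth.Prelude.Def_DualLC
import Groth.Prelude.Def_DDual2
import Groth.Agent.Lib.Helper10RGamE
import Groth.Agent.Lib.Helper10RGamF
set_option backward.isDefEq.respectTransparency.types false

/-!
# `Dual2.HDI` and restriction of scalars (helper10)

* `mainQ`: `HDI A I K q ≃ H^q(Γ_I J)` for a K-injective model `J` of `K` (no `RΓ_I` needed);
* `hdi_restrict`: for Noetherian `A → B` and `K ∈ D(B)`, `H^i_I(K|_A) ≅ H^i_{IB}(K)|_A`.
-/

set_option autoImplicit false
set_option maxHeartbeats 400000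
universe u v w
open CategoryTheory CategoryTheory.Limits HomologicalComplex
attribute [local instance] HasDerivedCategory.standard

namespace Groth.Agent.Lib.Helper10.RGamG

open DerivedCategory Groth.Agent.Lib.Helper10.RGamA Groth.Agent.Lib.Helper10.RGamB
  Groth.Agent.Lib.Helper10.RGamE Groth.Agent.Lib.Helper10.RGamF Groth.Agent.Lib.Helper17.KInj

section MainQ

variable {A : Type u} [CommRing A] (I : Ideal A)

theorem mainQ (J : DRing.Cx A) [J.IsKInjective] {K : Dual.D A} (e : K ≅ Q.obj J) (q : ℤ) :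
    Nonempty (Dual2.HDI A I K q ≃ₗ[A] ((G I).obj J).homology q) := by
  let eL : K⟦q⟧ ≅ (Q : _ ⥤ Dual.D A).obj (J⟦q⟧) :=
    (shiftFunctor (Dual.D A) q).mapIso e ≪≫ ((Q.commShiftIso q).app J).symm
  obtain ⟨E1⟩ := main0 I (J⟦q⟧) eL
  exact ⟨E1.trans (homologyShiftIso I J q).toLinearEquiv⟩

end MainQ

section Res

variable {A B : Type u} [CommRing A] [CommRing B] (φ : A →+* B) (I : Ideal A)

lemma mem_torsionSub_res_iff (N : ModuleCat.{u} B) (x : N) :
    (show ((ModuleCat.restrictScalars φ).obj N) from x) ∈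
      DRing.torsionSub I ((ModuleCat.restrictScalars φ).obj N) ↔
    x ∈ DRing.torsionSub (I.map φ) N := by
  constructor
  · rintro ⟨n, hn⟩
    refine ⟨n, fun b hb => ?_⟩
    rw [← Ideal.map_pow] at hb
    refine Submodule.span_induction (p := fun b _ => b • x = 0) ?_ ?_ ?_ ?_ hb
    · rintro _ ⟨a, ha, rfl⟩
      exact hn a ha
    · exact zero_smul _ _
    · intro b b' _ _ hb hb'
      rw [add_smul, hb, hb', add_zero]
    · intro c b _ hb
      rw [smul_eq_mul, mul_smul, hb, smul_zero]
  · rintro ⟨n, hn⟩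
    refine ⟨n, fun a ha => ?_⟩
    exact hn (φ a) (by rw [← Ideal.map_pow]; exact Ideal.mem_map_of_mem φ ha)

lemma good_res [IsNoetherianRing B] (fs : List A) (N : ModuleCat.{u} B) [Module.Injective B N] :
    Good fs ((ModuleCat.restrictScalars φ).obj N) := by
  intro f gs _ y hy k
  have hy' := (mem_torsionSub_res_iff φ (Ideal.span {x : A | x ∈ gs}) N y).1 hy
  obtain ⟨y', hy'', t, ht⟩ :=
    divAt_of_injective ((Ideal.span {x : A | x ∈ gs}).map φ) (φ f) N y hy' k
  refine ⟨y', (mem_torsionSub_res_iff φ (Ideal.span {x : A | x ∈ gs}) N y').2 hy'', t, ?_⟩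
  change φ (f ^ t) • (φ (f ^ k) • y' - (show N from y)) = 0
  rw [map_pow, map_pow]
  exact ht

variable (JB : DRing.Cx B)

/-- restriction of scalars of a complex -/
noncomputable abbrev resCx : DRing.Cx A :=
  ((ModuleCat.restrictScalars φ).mapHomologicalComplex (ComplexShape.up ℤ)).obj JB

lemma TG_resCx [IsNoetherianRing B] (fs : List A) (h : TI JB) : TG fs (resCx φ JB) := fun n => by
  haveI := h n
  exact good_res φ fs (JB.X n)

/-- `Γ_I(J|_A) ≅ Γ_{IB}(J)|_A` -/
noncomputable def gammaResIso : (G I).obj (resCx φ JB) ≅ resCx φ ((G (I.map φ)).obj JB) :=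
  HomologicalComplex.Hom.isoOfComponents (fun n =>
    (LinearEquiv.toModuleIso
      ({ toFun := fun x => ⟨x.1, (mem_torsionSub_res_iff φ I (JB.X n) x.1).1 x.2⟩
         invFun := fun x => ⟨x.1, (mem_torsionSub_res_iff φ I (JB.X n) x.1).2 x.2⟩
         map_add' := fun _ _ => rfl
         map_smul' := fun _ _ => rfl
         left_inv := fun _ => rfl
         right_inv := fun _ => rfl } :
        ((G I).obj (resCx φ JB)).X n ≃ₗ[A] (resCx φ ((G (I.map φ)).obj JB)).X n) :
      ((G I).obj (resCx φ JB)).X n ≅ (resCx φ ((G (I.map φ)).obj JB)).X n))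
    (fun _ _ _ => rfl)

/-- restriction of scalars commutes with homology -/
noncomputable def resHomologyIso (X : DRing.Cx B) (i : ℤ) :
    (resCx φ X).homology i ≅ (ModuleCat.restrictScalars φ).obj (X.homology i) :=
  (X.sc i).mapHomologyIso (ModuleCat.restrictScalars φ)

/-- a `B`-linear equivalence is `A`-linear -/
def resEquiv {M : ModuleCat.{v} B} {N : ModuleCat.{w} B} (e : M ≃ₗ[B] N) :
    (ModuleCat.restrictScalars φ).obj M ≃ₗ[A] (ModuleCat.restrictScalars φ).obj N :=
  { toFun := e
    invFun := e.symm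
    map_add' := e.map_add
    map_smul' := fun a x => e.map_smul (φ a) x
    left_inv := e.left_inv
    right_inv := e.right_inv }

end Res


section Main

variable (A B : Type u) [CommRing A] [CommRing B] [Algebra A B] [IsNoetherianRing A]
  [IsNoetherianRing B]

theorem hdi_restrict (I : Ideal A) (K : Dual.D B) (i : ℤ) :
    Nonempty (Dual2.HDI A I ((DRing.restrictD (algebraMap A B)).obj K) i ≅
      (ModuleCat.restrictScalars (algebraMap A B)).obj
        (Dual2.HDI B (I.map (algebraMap A B)) K i)) := by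
  obtain ⟨fs, rfl⟩ := exists_list_span I
  obtain ⟨JB, hJB, hTI, ⟨eB⟩⟩ := exists_TI_model K
  haveI := hJB
  obtain ⟨EB⟩ := mainQ ((Ideal.span {x : A | x ∈ fs}).map (algebraMap A B)) JB eB.symm i
  let eC : (DRing.restrictD (algebraMap A B)).obj K ≅
      (Q : _ ⥤ Dual.D A).obj (resCx (algebraMap A B) JB) :=
    (DRing.restrictD (algebraMap A B)).mapIso eB.symm ≪≫
      ((ModuleCat.restrictScalars (algebraMap A B)).mapDerivedCategoryFactors.app JB)
  obtain ⟨JA, j, hJA, hj, -, hInj⟩ :=
    exists_kInjective_resolution.{u} (ModuleCat.{u} A) (resCx (algebraMap A B) JB)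
  haveI := hJA
  haveI := hj
  haveI : IsIso ((Q : _ ⥤ Dual.D A).map j) := by
    rw [DerivedCategory.isIso_Q_map_iff_quasiIso]; infer_instance
  obtain ⟨EA⟩ := mainQ (Ideal.span {x : A | x ∈ fs}) JA
    (eC ≪≫ asIso ((Q : _ ⥤ Dual.D A).map j)) i
  haveI : QuasiIso ((G (Ideal.span {x : A | x ∈ fs})).map j) :=
    quasiIso_G_map_of_TG fs (TG_resCx (algebraMap A B) JB fs hTI)
      (TG_of_TI fs (TI_of_injective hInj)) j
  let e1 : ((G (Ideal.span {x : A | x ∈ fs})).obj (resCx (algebraMap A B) JB)).homology i ≅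
      ((G (Ideal.span {x : A | x ∈ fs})).obj JA).homology i :=
    asIso (HomologicalComplex.homologyMap ((G (Ideal.span {x : A | x ∈ fs})).map j) i)
  let e2 : ((G (Ideal.span {x : A | x ∈ fs})).obj (resCx (algebraMap A B) JB)).homology i ≅
      (ModuleCat.restrictScalars (algebraMap A B)).obj
        (((G ((Ideal.span {x : A | x ∈ fs}).map (algebraMap A B))).obj JB).homology i) :=
    (HomologicalComplex.homologyFunctor _ _ i).mapIso
      (gammaResIso (algebraMap A B) (Ideal.span {x : A | x ∈ fs}) JB) ≪≫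
    resHomologyIso (algebraMap A B) _ i
  exact ⟨(EA.trans ((e1.symm ≪≫ e2).toLinearEquiv.trans
    (resEquiv (algebraMap A B) EB).symm)).toModuleIso⟩

end Main

end Groth.Agent.Lib.Helper10.RGamG
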