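import Mathlib
import Groth.Prelude.Def_DRing2
import Groth.Agent.S6990
import Groth.Agent.S7017
import Groth.Agent.S0973
import Groth.Agent.Lib.Helper1Cone

set_option autoImplicit false
universe u
open CategoryTheory CategoryTheory.Limits
attribute [local instance] HasDerivedCategory.standard

namespace Groth.Agent.Lib.Helper1.PC

open DerivedCategory Pretriangulated Groth.Agent.Lib.Helper1.Cone Groth.Agent.S7017
open Groth.Agent.S14388 ZeroObject

variable {A : Type u} [CommRing A]

/-- `α` is `m`-connected: iso on `H^i` for `i > m`, epi on `H^m` -/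
def Conn (m : ℤ) {X Y : DerivedCategory (ModuleCat.{u} A)} (α : X ⟶ Y) : Prop :=
  (∀ i : ℤ, m < i → IsIso ((homologyFunctor (ModuleCat.{u} A) i).map α)) ∧
    Epi ((homologyFunctor (ModuleCat.{u} A) m).map α)

lemma Conn.comp {m : ℤ} {X Y Z : DerivedCategory (ModuleCat.{u} A)} {α : X ⟶ Y} {β : Y ⟶ Z}
    (hα : Conn m α) (hβ : Conn m β) : Conn m (α ≫ β) := by
  refine ⟨fun i hi => ?_, ?_⟩
  · have := hα.1 i hi
    have := hβ.1 i hi
    rw [Functor.map_comp]
    infer_instance
  · have := hα.2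
    have := hβ.2
    rw [Functor.map_comp]
    infer_instance

lemma Conn.of_isIso (m : ℤ) {X Y : DerivedCategory (ModuleCat.{u} A)} (α : X ⟶ Y) [IsIso α] :
    Conn m α :=
  ⟨fun _ _ => inferInstance, inferInstance⟩

lemma Conn.mono {m m' : ℤ} (h : m ≤ m') {X Y : DerivedCategory (ModuleCat.{u} A)} {α : X ⟶ Y}
    (hα : Conn m α) : Conn m' α := by
  refine ⟨fun i hi => hα.1 i (by lia), ?_⟩
  rcases h.eq_or_lt with rfl | h
  · exact hα.2
  · have := hα.1 m' h
    infer_instance

/-- connectivity of the first map of a distinguished triangle in terms of the cone -/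
lemma conn_iff_of_distTriang (T : Triangle (DerivedCategory (ModuleCat.{u} A)))
    (hT : T ∈ distTriang _) (m : ℤ) : Conn m T.mor₁ ↔ T.obj₃.IsLE (m - 1) := by
  rw [DerivedCategory.isLE_iff]
  constructor
  · rintro ⟨h1, h2⟩ i hi
    -- H^i(mor₁) epi, H^{i+1}(mor₁) mono
    have hepi : Epi ((homologyFunctor (ModuleCat.{u} A) i).map T.mor₁) := by
      rcases (show m ≤ i by lia).eq_or_lt with rfl | h
      · exact h2
      · have := h1 i h
        infer_instance
    have hmono : Mono ((homologyFunctor (ModuleCat.{u} A) (i + 1)).map T.mor₁) := by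
      have := h1 (i + 1) (by lia)
      infer_instance
    have e1 := (HomologySequence.epi_homologyMap_mor₁_iff T hT i).1 hepi
    have e2 := (HomologySequence.mono_homologyMap_mor₁_iff T hT i (i + 1) rfl).1 hmono
    have ex := HomologySequence.exact₃ T hT i (i + 1) rfl
    exact ex.isZero_of_both_zeros e1 e2
  · intro h
    have hepi : ∀ i : ℤ, m ≤ i → Epi ((homologyFunctor (ModuleCat.{u} A) i).map T.mor₁) := by
      intro i hi
      rw [HomologySequence.epi_homologyMap_mor₁_iff T hT i]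
      exact (h i (by lia)).eq_of_tgt _ _
    have hmono : ∀ i : ℤ, m < i → Mono ((homologyFunctor (ModuleCat.{u} A) i).map T.mor₁) := by
      intro i hi
      rw [HomologySequence.mono_homologyMap_mor₁_iff T hT (i - 1) i (by lia)]
      exact (h (i - 1) (by lia)).eq_of_src _ _
    refine ⟨fun i hi => ?_, hepi m le_rfl⟩
    have := hepi i hi.le
    have := hmono i hi
    exact isIso_of_mono_of_epi _


/-- the subcomplex of `E` given by a family of submodules stable under `d` -/
def subCx (E : DRing.Cx A) (N : ∀ i, Submodule A (E.X i))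
    (hN : ∀ i j, N i ≤ (N j).comap (E.d i j).hom) : DRing.Cx A where
  X i := ModuleCat.of A (N i)
  d i j := ModuleCat.ofHom ((E.d i j).hom.restrict (hN i j))
  shape i j h := by
    apply ModuleCat.hom_ext
    apply LinearMap.ext
    intro x
    apply Subtype.ext
    simp [E.shape i j h]
  d_comp_d' i j k _ _ := by
    apply ModuleCat.hom_ext
    apply LinearMap.ext
    intro x
    apply Subtype.ext
    exact congrArg (fun k => k.hom x.1) (E.d_comp_d i j k)

/-- the inclusion of a subcomplex -/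
def subCxι (E : DRing.Cx A) (N : ∀ i, Submodule A (E.X i))
    (hN : ∀ i j, N i ≤ (N j).comap (E.d i j).hom) : subCx E N hN ⟶ E where
  f i := ModuleCat.ofHom (N i).subtype
  comm' i j _ := by
    apply ModuleCat.hom_ext
    apply LinearMap.ext
    intro x
    rfl

instance (E : DRing.Cx A) (N : ∀ i, Submodule A (E.X i))
    (hN : ∀ i j, N i ≤ (N j).comap (E.d i j).hom) : Mono (subCxι E N hN) := by
  have : ∀ i, Mono ((subCxι E N hN).f i) := fun i => by
    rw [ModuleCat.mono_iff_injective]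
    exact Subtype.val_injective
  exact HomologicalComplex.mono_of_mono_f _ this

/-- submodules defining the brutal truncation -/
def truncN (E : DRing.Cx A) (n : ℤ) (i : ℤ) : Submodule A (E.X i) := if n ≤ i then ⊤ else ⊥

lemma truncN_le (E : DRing.Cx A) (n : ℤ) (i j : ℤ) :
    truncN E n i ≤ (truncN E n j).comap (E.d i j).hom := by
  intro x hx
  rw [Submodule.mem_comap]
  unfold truncN at hx ⊢
  by_cases hj : n ≤ j
  · rw [if_pos hj]; trivial
  · rw [if_neg hj]
    by_cases hij : i + 1 = j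
    · rw [if_neg (by lia)] at hx
      rw [(Submodule.mem_bot A).1 hx, map_zero]
      exact Submodule.zero_mem _
    · rw [E.shape i j hij]
      exact Submodule.zero_mem _

/-- brutal truncation `σ_{≥ n} E` -/
def sigmaGE (E : DRing.Cx A) (n : ℤ) : DRing.Cx A := subCx E (truncN E n) (truncN_le E n)

/-- the inclusion `σ_{≥ n} E ⟶ E` -/
def sigmaGEι (E : DRing.Cx A) (n : ℤ) : sigmaGE E n ⟶ E := subCxι E (truncN E n) (truncN_le E n)

instance (E : DRing.Cx A) (n : ℤ) : Mono (sigmaGEι E n) :=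
  inferInstanceAs (Mono (subCxι E (truncN E n) (truncN_le E n)))

lemma isZero_sigmaGE_X (E : DRing.Cx A) (n i : ℤ) (hi : i < n) : IsZero ((sigmaGE E n).X i) := by
  have : Subsingleton ((sigmaGE E n).X i) := by
    show Subsingleton (truncN E n i)
    unfold truncN
    rw [if_neg (by lia)]
    infer_instance
  exact ModuleCat.isZero_of_subsingleton _

/-- in degrees `≥ n` the truncation agrees with `E` -/
noncomputable def sigmaGEXIso (E : DRing.Cx A) (n i : ℤ) (hi : n ≤ i) : (sigmaGE E n).X i ≅ E.X i :=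
  (LinearEquiv.ofEq (truncN E n i) ⊤ (by unfold truncN; rw [if_pos hi]) ≪≫ₗ
    Submodule.topEquiv).toModuleIso

lemma sigmaGEXIso_hom (E : DRing.Cx A) (n i : ℤ) (hi : n ≤ i) :
    (sigmaGEXIso E n i hi).hom = (sigmaGEι E n).f i := by
  apply ModuleCat.hom_ext
  apply LinearMap.ext
  intro x
  rfl

lemma isIso_sigmaGEι_f (E : DRing.Cx A) (n i : ℤ) (hi : n ≤ i) : IsIso ((sigmaGEι E n).f i) := by
  rw [← sigmaGEXIso_hom E n i hi]
  infer_instance

lemma isZero_sigmaGE_X' (E : DRing.Cx A) (n i : ℤ) (h : IsZero (E.X i)) :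
    IsZero ((sigmaGE E n).X i) := by
  have : Subsingleton (E.X i) := ModuleCat.subsingleton_of_isZero h
  have : Subsingleton ((sigmaGE E n).X i) := by
    show Subsingleton (truncN E n i)
    infer_instance
  exact ModuleCat.isZero_of_subsingleton _

lemma FF_sigmaGE (E : DRing.Cx A) (n i : ℤ) (h : FF (E.X i)) : FF ((sigmaGE E n).X i) := by
  by_cases hi : n ≤ i
  · exact FF_iso _ _ (sigmaGEXIso E n i hi).symm h
  · have : Subsingleton ((sigmaGE E n).X i) :=
      ModuleCat.subsingleton_of_isZero (isZero_sigmaGE_X E n i (by lia))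
    exact ⟨inferInstance, inferInstance⟩

/-- a monomorphism of complexes which is an isomorphism in degrees `≥ n` is `n`-connected -/
lemma conn_Q_map_of_isIso_f {E' E : DRing.Cx A} (ι : E' ⟶ E) [Mono ι] (n : ℤ)
    (h : ∀ i, n ≤ i → IsIso (ι.f i)) : Conn n (Q.map ι) := by
  let S : ShortComplex (DRing.Cx A) := ShortComplex.mk ι (cokernel.π ι) (cokernel.condition ι)
  have hS : S.ShortExact :=
    { exact := ShortComplex.exact_cokernel ι
      mono_f := inferInstanceAs (Mono ι)
      epi_g := inferInstanceAs (Epi (cokernel.π ι)) }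
  have hT := triangleOfSES_distinguished hS
  refine (conn_iff_of_distTriang _ hT n).2 ?_
  have : (cokernel ι).IsStrictlyLE (n - 1) := by
    rw [CochainComplex.isStrictlyLE_iff]
    intro i hi
    have := h i (by lia)
    exact IsZero.of_iso (isZero_cokernel_of_epi (ι.f i))
      (PreservesCokernel.iso (HomologicalComplex.eval _ _ i) ι)
  show (Q.obj (cokernel ι)).IsLE (n - 1)
  infer_instance

lemma conn_sigmaGEι (E : DRing.Cx A) (n : ℤ) : Conn n (Q.map (sigmaGEι E n)) :=
  conn_Q_map_of_isIso_f _ n (fun i hi => isIso_sigmaGEι_f E n i hi)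



/-- `P` is represented by a bounded complex of finite free modules living in degrees `≥ n` -/
def RepGE (n : ℤ) (P : DerivedCategory (ModuleCat.{u} A)) : Prop :=
  ∃ E : DRing.Cx A, (∃ b : ℤ, ∀ i : ℤ, b < i → IsZero (E.X i)) ∧
    (∀ i : ℤ, i < n → IsZero (E.X i)) ∧ (∀ i : ℤ, FF (E.X i)) ∧ Nonempty (Q.obj E ≅ P)

lemma RepGE.rep {n : ℤ} {P : DerivedCategory (ModuleCat.{u} A)} (h : RepGE n P) :
    Rep (FF (R := A)) True P := by
  obtain ⟨E, hb, ha, hE, he⟩ := h
  exact ⟨E, hb, fun _ => ⟨n, ha⟩, hE, he⟩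

lemma RepGE.hom_eq_zero {n : ℤ} {P : DerivedCategory (ModuleCat.{u} A)} (h : RepGE n P)
    (Y : DerivedCategory (ModuleCat.{u} A)) [Y.IsLE (n - 1)] (φ : P ⟶ Y) : φ = 0 := by
  obtain ⟨E, ⟨b, hb⟩, ha, hE, ⟨e⟩⟩ := h
  have : ∀ i : ℤ, Projective (E.X i) := fun i =>
    have := FF_proj _ (hE i)
    ModuleCat.projective_of_categoryTheory_projective _
  have h0 := Groth.Agent.S6990.hom_eq_zero E n b (fun i hi => hi.elim (ha i) (hb i)) Y (e.hom ≫ φ)
  rw [← cancel_epi e.hom, h0, comp_zero]

lemma isPC_iff (m : ℤ) (K : DerivedCategory (ModuleCat.{u} A)) :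
    DRing.IsPseudoCoherent A m K ↔
      ∃ (P : DerivedCategory (ModuleCat.{u} A)) (α : P ⟶ K), Rep (FF (R := A)) True P ∧ Conn m α := by
  constructor
  · rintro ⟨E, a, b, α, hE, hff, h1, h2⟩
    exact ⟨Q.obj E, α, ⟨E, ⟨b, fun i hi => hE i (Or.inr hi)⟩, fun _ => ⟨a, fun i hi => hE i (Or.inl hi)⟩,
      hff, ⟨Iso.refl _⟩⟩, h1, h2⟩
  · rintro ⟨P, α, ⟨E, ⟨b, hb⟩, ha, hff, ⟨e⟩⟩, hα⟩
    obtain ⟨a, ha⟩ := ha trivial
    have hc := (Conn.of_isIso m e.hom).comp hα
    exact ⟨E, a, b, e.hom ≫ α, fun i hi => hi.elim (ha i) (hb i), hff, hc.1, hc.2⟩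

lemma isPC_iff_GE (m : ℤ) (K : DerivedCategory (ModuleCat.{u} A)) :
    DRing.IsPseudoCoherent A m K ↔
      ∃ (P : DerivedCategory (ModuleCat.{u} A)) (α : P ⟶ K), RepGE m P ∧ Conn m α := by
  constructor
  · rintro ⟨E, a, b, α, hE, hff, h1, h2⟩
    refine ⟨Q.obj (sigmaGE E m), Q.map (sigmaGEι E m) ≫ α, ⟨sigmaGE E m, ⟨b, fun i hi => ?_⟩,
      fun i hi => isZero_sigmaGE_X E m i hi, fun i => FF_sigmaGE E m i (hff i), ⟨Iso.refl _⟩⟩,
      (conn_sigmaGEι E m).comp ⟨h1, h2⟩⟩
    exact isZero_sigmaGE_X' E m i (hE i (Or.inr hi))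
  · rintro ⟨P, α, hP, hα⟩
    exact (isPC_iff m K).2 ⟨P, α, hP.rep, hα⟩

lemma isPC_of_iso {m : ℤ} {K K' : DerivedCategory (ModuleCat.{u} A)} (e : K ≅ K')
    (h : DRing.IsPseudoCoherent A m K) : DRing.IsPseudoCoherent A m K' := by
  obtain ⟨P, α, hP, hα⟩ := (isPC_iff m K).1 h
  exact (isPC_iff m K').2 ⟨P, α ≫ e.hom, hP, hα.comp (Conn.of_isIso m e.hom)⟩

lemma isPC_mono {m m' : ℤ} (hm : m ≤ m') {K : DerivedCategory (ModuleCat.{u} A)}
    (h : DRing.IsPseudoCoherent A m K) : DRing.IsPseudoCoherent A m' K := by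
  obtain ⟨P, α, hP, hα⟩ := (isPC_iff m K).1 h
  exact (isPC_iff m' K).2 ⟨P, α, hP, hα.mono hm⟩

lemma isPC_of_rep (m : ℤ) {K : DerivedCategory (ModuleCat.{u} A)} (h : Rep (FF (R := A)) True K) :
    DRing.IsPseudoCoherent A m K :=
  (isPC_iff m K).2 ⟨K, 𝟙 K, h, Conn.of_isIso m _⟩

lemma rep_zero : Rep (FF (R := A)) True (0 : DerivedCategory (ModuleCat.{u} A)) := by
  refine ⟨0, ⟨0, fun i _ => ?_⟩, fun _ => ⟨0, fun i _ => ?_⟩, fun i => ?_, ⟨?_⟩⟩
  · exact (HomologicalComplex.eval _ _ i).map_isZero (isZero_zero _)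
  · exact (HomologicalComplex.eval _ _ i).map_isZero (isZero_zero _)
  · have hz : IsZero ((0 : DRing.Cx A).X i) :=
      (HomologicalComplex.eval _ _ i).map_isZero (isZero_zero _)
    have : Subsingleton ((0 : DRing.Cx A).X i) := ModuleCat.subsingleton_of_isZero hz
    exact ⟨inferInstance, inferInstance⟩
  · exact (Q.map_isZero (isZero_zero _)).iso (isZero_zero _)

lemma isPC_of_isLE (m : ℤ) (K : DerivedCategory (ModuleCat.{u} A)) [K.IsLE (m - 1)] :
    DRing.IsPseudoCoherent A m K := by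
  refine (isPC_iff m K).2 ⟨0, 0, rep_zero, ?_⟩
  have hT : Triangle.mk (0 : (0 : DerivedCategory (ModuleCat.{u} A)) ⟶ K) (𝟙 K) 0 ∈ distTriang _ :=
    contractible_distinguished₁ K
  exact (conn_iff_of_distTriang _ hT m).2 (by show K.IsLE (m - 1); infer_instance)

/-- transport of `IsIso` along a natural isomorphism of functors -/
lemma epi_map_iff_of_natIso {C D : Type*} [Category C] [Category D] {F G : C ⥤ D} (e : F ≅ G)
    {X Y : C} (f : X ⟶ Y) : Epi (F.map f) ↔ Epi (G.map f) := by
  constructor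
  · intro h
    have : G.map f = e.inv.app X ≫ F.map f ≫ e.hom.app Y := by simp
    rw [this]; infer_instance
  · intro h
    have : F.map f = e.hom.app X ≫ G.map f ≫ e.inv.app Y := by simp
    rw [this]; infer_instance

lemma Conn.shift {m : ℤ} {X Y : DerivedCategory (ModuleCat.{u} A)} {α : X ⟶ Y} (hα : Conn m α)
    (n m' : ℤ) (hm' : m' + n = m) : Conn m' (α⟦n⟧') := by
  refine ⟨fun i hi => ?_, ?_⟩
  · have e := (homologyFunctor (ModuleCat.{u} A) 0).shiftIso n i (n + i) rfl
    exact (NatIso.isIso_map_iff e α).2 (hα.1 (n + i) (by lia))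
  · have e := (homologyFunctor (ModuleCat.{u} A) 0).shiftIso n m' m (by lia)
    exact (epi_map_iff_of_natIso e α).2 hα.2

lemma isPC_shift {m : ℤ} {K : DerivedCategory (ModuleCat.{u} A)}
    (h : DRing.IsPseudoCoherent A m K) (n m' : ℤ) (hm' : m' + n = m) :
    DRing.IsPseudoCoherent A m' (K⟦n⟧) := by
  obtain ⟨P, α, hP, hα⟩ := (isPC_iff m K).1 h
  exact (isPC_iff m' _).2 ⟨P⟦n⟧, α⟦n⟧', hP.shift n, hα.shift n m' hm'⟩

/-- Stacks 064V (1) -/
theorem isPC_obj₃ (T : Triangle (DerivedCategory (ModuleCat.{u} A))) (hT : T ∈ distTriang _) (m : ℤ)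
    (h₁ : DRing.IsPseudoCoherent A (m + 1) T.obj₁) (h₂ : DRing.IsPseudoCoherent A m T.obj₂) :
    DRing.IsPseudoCoherent A m T.obj₃ := by
  obtain ⟨P₁, α, hP₁, hα⟩ := (isPC_iff_GE (m + 1) _).1 h₁
  obtain ⟨P₂, β, hP₂, hβ⟩ := (isPC_iff m _).1 h₂
  obtain ⟨C, v, w, hC⟩ := distinguished_cocone_triangle β
  have hCle : C.IsLE (m - 1) := (conn_iff_of_distTriang _ hC m).1 hβ
  have hCle' : C.IsLE (m + 1 - 1) := tt.isLE_of_le C (m - 1) (m + 1 - 1) (by lia)
  have hz : (α ≫ T.mor₁) ≫ v = 0 := hP₁.hom_eq_zero C _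
  obtain ⟨γ, hγ⟩ := Triangle.coyoneda_exact₂ _ hC (α ≫ T.mor₁) hz
  obtain ⟨P₃, v', w', h3⟩ := distinguished_cocone_triangle γ
  have hP₃ : Rep (FF (R := A)) True P₃ := Rep.cone FF_proj FF_iso FF_sum _ h3 hP₁.rep hP₂
  obtain ⟨W, v₁₃, w₁₃, h13⟩ := distinguished_cocone_triangle (α ≫ T.mor₁)
  -- first octahedron
  have oct1 := Triangulated.someOctahedron (show γ ≫ β = α ≫ T.mor₁ from hγ.symm) h3 hC h13
  have c1 : Conn m oct1.m₁ := (conn_iff_of_distTriang _ oct1.mem m).2 hCle
  -- second octahedron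
  obtain ⟨Cα, vα, wα, hCα⟩ := distinguished_cocone_triangle α
  have hCαle : Cα.IsLE (m + 1 - 1) := (conn_iff_of_distTriang _ hCα (m + 1)).1 hα
  have oct2 := Triangulated.someOctahedron (show α ≫ T.mor₁ = α ≫ T.mor₁ from rfl) hCα
    (show Triangle.mk T.mor₁ T.mor₂ T.mor₃ ∈ distTriang _ from hT) h13
  have hrot := rot_of_distTriang _ oct2.mem
  have hsh : (Cα⟦(1 : ℤ)⟧).IsLE (m - 1) := tt.isLE_shift Cα (m + 1 - 1) 1 (m - 1) (by lia)
  have c2 : Conn m oct2.m₃ := (conn_iff_of_distTriang _ hrot m).2 hsh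
  exact (isPC_iff m _).2 ⟨P₃, oct1.m₁ ≫ oct2.m₃, hP₃, c1.comp c2⟩

/-- Stacks 064V (2) -/
theorem isPC_obj₂ (T : Triangle (DerivedCategory (ModuleCat.{u} A))) (hT : T ∈ distTriang _) (m : ℤ)
    (h₁ : DRing.IsPseudoCoherent A m T.obj₁) (h₃ : DRing.IsPseudoCoherent A m T.obj₃) :
    DRing.IsPseudoCoherent A m T.obj₂ :=
  isPC_obj₃ T.invRotate (inv_rot_of_distTriang _ hT) m (isPC_shift h₃ (-1) (m + 1) (by lia)) h₁

/-- Stacks 064V (3) -/
theorem isPC_obj₁ (T : Triangle (DerivedCategory (ModuleCat.{u} A))) (hT : T ∈ distTriang _) (m : ℤ)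
    (h₂ : DRing.IsPseudoCoherent A (m + 1) T.obj₂) (h₃ : DRing.IsPseudoCoherent A m T.obj₃) :
    DRing.IsPseudoCoherent A (m + 1) T.obj₁ := by
  have h := isPC_obj₃ T.rotate (rot_of_distTriang _ hT) m h₂ h₃
  exact isPC_of_iso ((shiftEquiv _ (1 : ℤ)).unitIso.symm.app T.obj₁)
    (isPC_shift h (-1) (m + 1) (by lia))



/-- kernel of `f` is a finite projective direct summand when `0 → ker f → M → ker g → 0` is exact
with `ker g` projective -/
lemma ker_finite_projective_step {M N L : Type u} [AddCommGroup M] [Module A M] [AddCommGroup N]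
    [Module A N] [AddCommGroup L] [Module A L] (f : M →ₗ[A] N) (g : N →ₗ[A] L)
    (hgf : ∀ x, g (f x) = 0) (hex : ∀ y, g y = 0 → ∃ x, f x = y) [Module.Finite A M]
    [Module.Projective A M] [Module.Projective A (LinearMap.ker g)] :
    Module.Finite A (LinearMap.ker f) ∧ Module.Projective A (LinearMap.ker f) := by
  let p : M →ₗ[A] LinearMap.ker g := f.codRestrict _ hgf
  have hp : Function.Surjective p := by
    rintro ⟨y, hy⟩
    obtain ⟨x, hx⟩ := hex y hy
    exact ⟨x, Subtype.ext hx⟩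
  obtain ⟨s, hs⟩ := Module.projective_lifting_property p LinearMap.id hp
  have hs' : ∀ z, p (s z) = z := fun z => congrArg (fun k => k z) hs
  let r : M →ₗ[A] LinearMap.ker f := (LinearMap.id - s ∘ₗ p).codRestrict _ (fun x => by
    have h1 : (p (x - s (p x))).1 = f (x - s (p x)) := rfl
    have h2 : p (x - s (p x)) = 0 := by rw [map_sub, hs', sub_self]
    show f (x - s (p x)) = 0
    rw [← h1, h2]; rfl)
  have hr : r ∘ₗ (LinearMap.ker f).subtype = LinearMap.id := by
    apply LinearMap.ext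
    rintro ⟨z, hz⟩
    apply Subtype.ext
    have hpz : p z = 0 := Subtype.ext hz
    show z - s (p z) = z
    rw [hpz, map_zero, sub_zero]
  have hrs : Function.Surjective r := fun z => ⟨z.1, congrArg (fun k => k z) hr⟩
  exact ⟨Module.Finite.of_surjective r hrs, Module.Projective.of_split _ r hr⟩

/-- element-wise exactness of a complex of modules -/
lemma exactAt_elem (E : DRing.Cx A) (i : ℤ) (h : E.ExactAt i) (x : E.X i)
    (hx : (E.d i (i + 1)).hom x = 0) : ∃ y : E.X (i - 1), (E.d (i - 1) i).hom y = x := by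
  have h' := (E.exactAt_iff' (i - 1) i (i + 1) (by simp) (by simp)).1 h
  rw [ShortComplex.moduleCat_exact_iff] at h'
  exact h' x hx

/-- cycles of a bounded above complex with finite projective terms in degrees `≥ n`, exact in
degrees `> n`, are finite projective in degrees `≥ n` -/
lemma ker_d_finite_projective (E : DRing.Cx A) (n b : ℤ) (hb : ∀ i : ℤ, b < i → IsZero (E.X i))
    (hfp : ∀ i : ℤ, n ≤ i → Module.Finite A (E.X i) ∧ Module.Projective A (E.X i))
    (hex : ∀ i : ℤ, n < i → E.ExactAt i) :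
    ∀ i : ℤ, n ≤ i → Module.Finite A (LinearMap.ker (E.d i (i + 1)).hom) ∧
      Module.Projective A (LinearMap.ker (E.d i (i + 1)).hom) := by
  have key : ∀ (k : ℕ) (i : ℤ), n ≤ i → b < i + k →
      Module.Finite A (LinearMap.ker (E.d i (i + 1)).hom) ∧
        Module.Projective A (LinearMap.ker (E.d i (i + 1)).hom) := by
    intro k
    induction k with
    | zero =>
      intro i _ hi
      have : Subsingleton (E.X i) := ModuleCat.subsingleton_of_isZero (hb i (by simpa using hi))
      have : Subsingleton (LinearMap.ker (E.d i (i + 1)).hom) := inferInstance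
      exact ⟨inferInstance, inferInstance⟩
    | succ k ih =>
      intro i hn hi
      obtain ⟨h1, h2⟩ := ih (i + 1) (by lia) (by push_cast at hi; lia)
      obtain ⟨h3, h4⟩ := hfp i hn
      have hd : ∀ x, (E.d (i + 1) (i + 1 + 1)).hom ((E.d i (i + 1)).hom x) = 0 := fun x =>
        congrArg (fun k => k.hom x) (E.d_comp_d i (i + 1) (i + 1 + 1))
      have hex' : ∀ y, (E.d (i + 1) (i + 1 + 1)).hom y = 0 → ∃ x, (E.d i (i + 1)).hom x = y := by
        intro y hy
        obtain ⟨x, hx⟩ := exactAt_elem E (i + 1) (hex (i + 1) (by lia)) y hy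
        have e : i + 1 - 1 = i := by ring
        revert x
        rw [e]
        exact fun x hx => ⟨x, hx⟩
      exact ker_finite_projective_step (E.d i (i + 1)).hom (E.d (i + 1) (i + 1 + 1)).hom hd hex'
  intro i hi
  exact key (b + 1 - i).toNat i hi (by lia)

/-- the homology of a complex of modules as a quotient of the kernel -/
noncomputable def homologyIsoQuot (E : DRing.Cx A) (n : ℤ) :
    E.homology n ≅ ModuleCat.of A (LinearMap.ker (E.d n (n + 1)).hom ⧸
      LinearMap.range (E.sc' (n - 1) n (n + 1)).moduleCatToCycles) :=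
  ShortComplex.homologyMapIso (E.isoSc' (n - 1) n (n + 1) (by simp) (by simp)) ≪≫
    (E.sc' (n - 1) n (n + 1)).moduleCatHomologyIso

lemma finite_homology_of_ker (E : DRing.Cx A) (n : ℤ)
    (h : Module.Finite A (LinearMap.ker (E.d n (n + 1)).hom)) : Module.Finite A (E.homology n) := by
  have h0 : Module.Finite A (LinearMap.ker (E.sc' (n - 1) n (n + 1)).g.hom) := h
  have : Module.Finite A (LinearMap.ker (E.sc' (n - 1) n (n + 1)).g.hom ⧸
      LinearMap.range (E.sc' (n - 1) n (n + 1)).moduleCatToCycles) := Module.Finite.quotient _ _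
  exact Module.Finite.equiv (homologyIsoQuot E n).symm.toLinearEquiv

lemma fp_homology_of_ker (E : DRing.Cx A) (n : ℤ)
    (h : Module.FinitePresentation A (LinearMap.ker (E.d n (n + 1)).hom))
    (h' : Module.Finite A (E.X (n - 1))) : Module.FinitePresentation A (E.homology n) := by
  have h0 : Module.FinitePresentation A (LinearMap.ker (E.sc' (n - 1) n (n + 1)).g.hom) := h
  have h1 : Module.Finite A (E.sc' (n - 1) n (n + 1)).X₁ := h'
  have : Module.FinitePresentation A (LinearMap.ker (E.sc' (n - 1) n (n + 1)).g.hom ⧸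
      LinearMap.range (E.sc' (n - 1) n (n + 1)).moduleCatToCycles) := by
    refine Module.finitePresentation_of_surjective
      (LinearMap.range (E.sc' (n - 1) n (n + 1)).moduleCatToCycles).mkQ
      (Submodule.mkQ_surjective _) ?_
    rw [Submodule.ker_mkQ, LinearMap.range_eq_map]
    exact Submodule.FG.map _ (Module.Finite.fg_top)
  exact Module.FinitePresentation.of_equiv (homologyIsoQuot E n).symm.toLinearEquiv



lemma FF_of_subsingleton (X : ModuleCat.{u} A) [Subsingleton X] : FF X :=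
  ⟨inferInstance, inferInstance⟩

/-- a finite free module placed in a single degree is represented by a bounded complex of finite
free modules -/
lemma rep_single (F : ModuleCat.{u} A) (hF : FF F) (n : ℤ) :
    Rep (FF (R := A)) True ((singleFunctor (ModuleCat.{u} A) n).obj F) := by
  refine ⟨(HomologicalComplex.single _ (ComplexShape.up ℤ) n).obj F, ⟨n, fun i hi => ?_⟩,
    fun _ => ⟨n, fun i hi => ?_⟩, fun i => ?_, ⟨((singleFunctorIsoCompQ _ n).app F).symm⟩⟩
  · exact HomologicalComplex.isZero_single_obj_X _ _ _ _ (by lia)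
  · exact HomologicalComplex.isZero_single_obj_X _ _ _ _ (by lia)
  · by_cases hi : i = n
    · subst hi
      exact FF_iso _ _ (HomologicalComplex.singleObjXSelf (ComplexShape.up ℤ) i F).symm hF
    · have := ModuleCat.subsingleton_of_isZero
        (HomologicalComplex.isZero_single_obj_X (ComplexShape.up ℤ) n F i hi)
      exact FF_of_subsingleton _

lemma isZero_homology_single (M : ModuleCat.{u} A) (n i : ℤ) (hi : i ≠ n) :
    IsZero ((homologyFunctor (ModuleCat.{u} A) i).obj ((singleFunctor (ModuleCat.{u} A) n).obj M)) :=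
  isZero_homology_of_amp _ n i hi

/-- `H^n(M[-n]) ≅ M` -/
noncomputable def homologySingleIso (M : ModuleCat.{u} A) (n : ℤ) :
    (homologyFunctor (ModuleCat.{u} A) n).obj ((singleFunctor (ModuleCat.{u} A) n).obj M) ≅ M :=
  (singleFunctorCompHomologyFunctorIso (ModuleCat.{u} A) n).app M

/-- a finite module placed in degree `n` is `n`-pseudo-coherent -/
lemma isPC_single_of_finite (M : ModuleCat.{u} A) [Module.Finite A M] (n : ℤ) :
    DRing.IsPseudoCoherent A n ((singleFunctor (ModuleCat.{u} A) n).obj M) := by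
  obtain ⟨k, π, hπ⟩ := Module.Finite.exists_fin' A M
  have hF : FF (ModuleCat.of A (Fin k → A)) :=
    ⟨inferInstanceAs (Module.Finite A (Fin k → A)), inferInstanceAs (Module.Free A (Fin k → A))⟩
  refine (isPC_iff n _).2 ⟨_, (singleFunctor (ModuleCat.{u} A) n).map (ModuleCat.ofHom π),
    rep_single _ hF n, fun i hi => ?_, ?_⟩
  · exact isIso_of_isZero_isZero _ (isZero_homology_single _ n i (by lia))
      (isZero_homology_single _ n i (by lia))
  · have : Epi (ModuleCat.ofHom π) := (ModuleCat.epi_iff_surjective _).2 hπ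
    exact (epi_map_iff_of_natIso (singleFunctorCompHomologyFunctorIso (ModuleCat.{u} A) n)
      (ModuleCat.ofHom π)).2 (by dsimp; infer_instance)

/-- a finitely presented module placed in degree `0` is `(-1)`-pseudo-coherent -/
lemma isPC_single_of_fp (M : ModuleCat.{u} A) [Module.FinitePresentation A M] :
    DRing.IsPseudoCoherent A (-1) ((singleFunctor (ModuleCat.{u} A) 0).obj M) := by
  obtain ⟨k, π, hπ⟩ := Module.Finite.exists_fin' A M
  have hF : FF (ModuleCat.of A (Fin k → A)) :=
    ⟨inferInstanceAs (Module.Finite A (Fin k → A)), inferInstanceAs (Module.Free A (Fin k → A))⟩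
  have hker : (LinearMap.ker π).FG := Module.FinitePresentation.fg_ker π hπ
  have hS := LinearMap.shortExact_shortComplexKer hπ
  have hT := hS.singleTriangle_distinguished
  have : Module.Finite A (ModuleCat.of A (LinearMap.ker π)) := Module.Finite.iff_fg.2 hker
  have h1 := isPC_single_of_finite (ModuleCat.of A (LinearMap.ker π)) 0
  have h2 : DRing.IsPseudoCoherent A (-1)
      ((singleFunctor (ModuleCat.{u} A) 0).obj (ModuleCat.of A (Fin k → A))) :=
    isPC_of_rep (-1) (rep_single _ hF 0)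
  exact isPC_obj₃ _ hT (-1) h1 h2



/-- an object of `D^{≤ n}` with finite `H^n` is `n`-pseudo-coherent -/
lemma isPC_of_isLE_of_finite (X : DerivedCategory (ModuleCat.{u} A)) (n : ℤ) [X.IsLE n]
    (h : Module.Finite A ((homologyFunctor (ModuleCat.{u} A) n).obj X)) :
    DRing.IsPseudoCoherent A n X := by
  have hT := tt.triangleLTGE_distinguished n X
  have hGE : ((tt.truncGE n).obj X).IsGE n := inferInstance
  have hLE : ((tt.truncGE n).obj X).IsLE n := inferInstance
  obtain ⟨e⟩ := Groth.Agent.S0973.iso_single_of_amp ((tt.truncGE n).obj X) n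
  have hiso := isIso_homology_truncGEπ n n le_rfl X
  have h' : Module.Finite A ((homologyFunctor (ModuleCat.{u} A) n).obj
      ((𝟭 (DerivedCategory (ModuleCat.{u} A))).obj X)) := h
  have hfin : Module.Finite A ((homologyFunctor (ModuleCat.{u} A) n).obj ((tt.truncGE n).obj X)) :=
    Module.Finite.equiv (asIso ((homologyFunctor _ n).map ((tt.truncGEπ n).app X))).toLinearEquiv
  have h3 : DRing.IsPseudoCoherent A n ((tt.truncGE n).obj X) :=
    isPC_of_iso e.symm (isPC_single_of_finite _ n)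
  have hLT : ((tt.truncLT n).obj X).IsLE (n - 1) := inferInstance
  have h1 : DRing.IsPseudoCoherent A n ((tt.truncLT n).obj X) := isPC_of_isLE n _
  exact isPC_obj₂ _ hT n h1 h3

/-- a finitely presented module placed in degree `n + 1` is `n`-pseudo-coherent -/
lemma isPC_single_of_fp' (M : ModuleCat.{u} A) [Module.FinitePresentation A M] (n : ℤ) :
    DRing.IsPseudoCoherent A n ((singleFunctor (ModuleCat.{u} A) (n + 1)).obj M) :=
  isPC_of_iso (((singleFunctors (ModuleCat.{u} A)).shiftIso (-(n + 1)) (n + 1) 0 (by lia)).app M)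
    (isPC_shift (isPC_single_of_fp M) (-(n + 1)) n (by lia))

/-- Stacks: `H^i(K) = 0` for `i > n + 1`, `H^{n+1}(K)` finitely presented and `H^n(K)` finite imply
that `K` is `n`-pseudo-coherent -/
lemma isPC_of_isLE_of_fp (X : DerivedCategory (ModuleCat.{u} A)) (n : ℤ) [X.IsLE (n + 1)]
    (hfp : Module.FinitePresentation A ((homologyFunctor (ModuleCat.{u} A) (n + 1)).obj X))
    (hfin : Module.Finite A ((homologyFunctor (ModuleCat.{u} A) n).obj X)) :
    DRing.IsPseudoCoherent A n X := by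
  have hT := tt.triangleLTGE_distinguished (n + 1) X
  have hGE : ((tt.truncGE (n + 1)).obj X).IsGE (n + 1) := inferInstance
  have hLE : ((tt.truncGE (n + 1)).obj X).IsLE (n + 1) := inferInstance
  obtain ⟨e⟩ := Groth.Agent.S0973.iso_single_of_amp ((tt.truncGE (n + 1)).obj X) (n + 1)
  have hiso := isIso_homology_truncGEπ (n + 1) (n + 1) le_rfl X
  have h' : Module.FinitePresentation A ((homologyFunctor (ModuleCat.{u} A) (n + 1)).obj
      ((𝟭 (DerivedCategory (ModuleCat.{u} A))).obj X)) := hfp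
  have h'' : Module.Finite A ((homologyFunctor (ModuleCat.{u} A) n).obj
      ((𝟭 (DerivedCategory (ModuleCat.{u} A))).obj X)) := hfin
  have hfp' : Module.FinitePresentation A
      ((homologyFunctor (ModuleCat.{u} A) (n + 1)).obj ((tt.truncGE (n + 1)).obj X)) :=
    Module.FinitePresentation.of_equiv
      (asIso ((homologyFunctor _ (n + 1)).map ((tt.truncGEπ (n + 1)).app X))).toLinearEquiv
  have h3 : DRing.IsPseudoCoherent A n ((tt.truncGE (n + 1)).obj X) :=
    isPC_of_iso e.symm (isPC_single_of_fp' _ n)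
  have hLT : ((tt.truncLT (n + 1)).obj X).IsLE (n + 1 - 1) := inferInstance
  have hLT' : ((tt.truncLT (n + 1)).obj X).IsLE n := by
    have e : n + 1 - 1 = n := by ring
    rw [e] at hLT
    exact hLT
  have hiso' := isIso_homology_truncLTι (n + 1) n (by lia) X
  have hfin' : Module.Finite A
      ((homologyFunctor (ModuleCat.{u} A) n).obj ((tt.truncLT (n + 1)).obj X)) :=
    Module.Finite.equiv
      (asIso ((homologyFunctor _ n).map ((tt.truncLTι (n + 1)).app X))).symm.toLinearEquiv
  have h1 : DRing.IsPseudoCoherent A n ((tt.truncLT (n + 1)).obj X) :=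
    isPC_of_isLE_of_finite _ n hfin'
  exact isPC_obj₂ _ hT n h1 h3



lemma repGE_single (F : ModuleCat.{u} A) (hF : FF F) (n : ℤ) :
    RepGE n ((singleFunctor (ModuleCat.{u} A) n).obj F) := by
  refine ⟨(HomologicalComplex.single _ (ComplexShape.up ℤ) n).obj F, ⟨n, fun i hi => ?_⟩,
    fun i hi => ?_, fun i => ?_, ⟨((singleFunctorIsoCompQ _ n).app F).symm⟩⟩
  · exact HomologicalComplex.isZero_single_obj_X _ _ _ _ (by lia)
  · exact HomologicalComplex.isZero_single_obj_X _ _ _ _ (by lia)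
  · by_cases hi : i = n
    · subst hi
      exact FF_iso _ _ (HomologicalComplex.singleObjXSelf (ComplexShape.up ℤ) i F).symm hF
    · have := ModuleCat.subsingleton_of_isZero
        (HomologicalComplex.isZero_single_obj_X (ComplexShape.up ℤ) n F i hi)
      exact FF_of_subsingleton _

/-- for `X ∈ D^{≤ s}` with finite `H^s`, there is an `s`-connected map from a finite free module
placed in degree `s` -/
lemma exists_single_conn (X : DerivedCategory (ModuleCat.{u} A)) (s : ℤ) [X.IsLE s]
    (h : Module.Finite A ((homologyFunctor (ModuleCat.{u} A) s).obj X)) :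
    ∃ (F : ModuleCat.{u} A) (ψ : (singleFunctor (ModuleCat.{u} A) s).obj F ⟶ X), FF F ∧ Conn s ψ := by
  obtain ⟨k, π, hπ⟩ := Module.Finite.exists_fin' A ((homologyFunctor (ModuleCat.{u} A) s).obj X)
  have hF : FF (ModuleCat.of A (Fin k → A)) :=
    ⟨inferInstanceAs (Module.Finite A (Fin k → A)), inferInstanceAs (Module.Free A (Fin k → A))⟩
  have hT := tt.triangleLTGE_distinguished s X
  have hGE : ((tt.truncGE s).obj X).IsGE s := inferInstance
  have hLE : ((tt.truncGE s).obj X).IsLE s := inferInstance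
  obtain ⟨e⟩ := Groth.Agent.S0973.iso_single_of_amp ((tt.truncGE s).obj X) s
  have hiso := isIso_homology_truncGEπ s s le_rfl X
  let eH : (homologyFunctor (ModuleCat.{u} A) s).obj X ≅
      (homologyFunctor (ModuleCat.{u} A) s).obj ((tt.truncGE s).obj X) :=
    asIso ((homologyFunctor _ s).map ((tt.truncGEπ s).app X))
  let g : (singleFunctor (ModuleCat.{u} A) s).obj (ModuleCat.of A (Fin k → A)) ⟶
      (tt.truncGE s).obj X :=
    (singleFunctor (ModuleCat.{u} A) s).map (ModuleCat.ofHom π ≫ eH.hom) ≫ e.inv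
  have hLT : ((tt.truncLT s).obj X).IsLE (s - 1) := inferInstance
  have hsh1 : (((tt.truncLT s).obj X)⟦(1 : ℤ)⟧).IsLE (s - 1 - 1) :=
    tt.isLE_shift ((tt.truncLT s).obj X) (s - 1) 1 (s - 1 - 1) (by lia)
  have hsh : (((tt.truncLT s).obj X)⟦(1 : ℤ)⟧).IsLE (s - 1) :=
    tt.isLE_of_le _ (s - 1 - 1) (s - 1) (by lia)
  have hz : g ≫ ((tt.triangleLTGE s).obj X).mor₃ = 0 :=
    @RepGE.hom_eq_zero _ _ _ _ (repGE_single _ hF s) (((tt.truncLT s).obj X)⟦(1 : ℤ)⟧) hsh _
  obtain ⟨ψ, hψ'⟩ : ∃ ψ : (singleFunctor (ModuleCat.{u} A) s).obj (ModuleCat.of A (Fin k → A)) ⟶ X,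
      g = ψ ≫ (tt.truncGEπ s).app X := Triangle.coyoneda_exact₃ _ hT g hz
  refine ⟨_, ψ, hF, fun i hi => ?_, ?_⟩
  · refine isIso_of_isZero_isZero _ (isZero_homology_single _ s i (by lia)) ?_
    exact (DerivedCategory.isLE_iff X s).1 inferInstance i hi
  · have hg : Epi ((homologyFunctor (ModuleCat.{u} A) s).map g) := by
      have : Epi (ModuleCat.ofHom π ≫ eH.hom) := by
        have : Epi (ModuleCat.ofHom π) := (ModuleCat.epi_iff_surjective _).2 hπ
        infer_instance
      have h1 : Epi ((homologyFunctor (ModuleCat.{u} A) s).map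
          ((singleFunctor (ModuleCat.{u} A) s).map (ModuleCat.ofHom π ≫ eH.hom))) :=
        (epi_map_iff_of_natIso (singleFunctorCompHomologyFunctorIso (ModuleCat.{u} A) s)
          (ModuleCat.ofHom π ≫ eH.hom)).2 (by dsimp; infer_instance)
      rw [Functor.map_comp]
      infer_instance
    have hfac : (homologyFunctor (ModuleCat.{u} A) s).map ψ =
        (homologyFunctor (ModuleCat.{u} A) s).map g ≫ eH.inv := by
      rw [hψ', Functor.map_comp]
      show _ = (_ ≫ eH.hom) ≫ eH.inv
      rw [Category.assoc, Iso.hom_inv_id, Category.comp_id]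
    rw [hfac]
    infer_instance

/-- chain-level version -/
lemma exists_attach (C : DRing.Cx A) (s : ℤ) [(Q.obj C).IsLE s]
    (h : Module.Finite A ((homologyFunctor (ModuleCat.{u} A) s).obj (Q.obj C))) :
    ∃ (F : ModuleCat.{u} A) (Ψ : (HomologicalComplex.single _ (ComplexShape.up ℤ) s).obj F ⟶ C),
      FF F ∧ Conn s (Q.map Ψ) := by
  obtain ⟨F, ψ, hF, hψ⟩ := exists_single_conn (Q.obj C) s h
  let S : CochainComplex (ModuleCat.{u} A) ℤ :=
    (HomologicalComplex.single (ModuleCat.{u} A) (ComplexShape.up ℤ) s).obj F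
  have hS : S.IsStrictlyLE s := by
    rw [CochainComplex.isStrictlyLE_iff]
    intro i hi
    exact HomologicalComplex.isZero_single_obj_X _ _ _ _ (by lia)
  have : ∀ i : ℤ, Projective (S.X i) := fun i => by
    by_cases hi : i = s
    · subst hi
      have := FF_proj _ hF
      have : Projective F := ModuleCat.projective_of_categoryTheory_projective _
      exact Projective.of_iso (HomologicalComplex.singleObjXSelf (ComplexShape.up ℤ) i F).symm
        inferInstance
    · exact (HomologicalComplex.isZero_single_obj_X (ComplexShape.up ℤ) s F i hi).projective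
  have : S.IsKProjective := CochainComplex.isKProjective_of_projective S s
  let e : (singleFunctor (ModuleCat.{u} A) s).obj F ≅ Q.obj S := (singleFunctorIsoCompQ _ s).app F
  obtain ⟨Ψ, hΨ⟩ := exists_chain_map S C (e.inv ≫ ψ)
  refine ⟨F, Ψ, hF, ?_⟩
  rw [hΨ]
  exact (Conn.of_isIso s e.inv).comp hψ


end Groth.Agent.Lib.Helper1.PC
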