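import Mathlib
import Groth.Prelude.Def_DRing2
import Groth.Agent.Lib.Helper1PC
import Groth.Agent.Lib.Helper1Devissage
import Groth.Agent.S2068

set_option autoImplicit false
universe u
open CategoryTheory CategoryTheory.Limits
attribute [local instance] HasDerivedCategory.standard

namespace Groth.Agent.Lib.Helper1.PCTower

open DerivedCategory Pretriangulated Groth.Agent.Lib.Helper1.Cone Groth.Agent.S7017
open Groth.Agent.S14388 ZeroObject Groth.Agent.Lib.Helper1.PC
open CochainComplex HomComplex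
open Groth.Agent.Lib.Helper1.Devissage

section MappingConeSES

variable {C : Type*} [Category C] [Abelian C]
variable {S X G K' : CochainComplex C ℤ} (φ : S ⟶ X) (i : K' ⟶ X) (q : X ⟶ G)

lemma map_f (k : ℤ) :
    (mappingCone.map φ (φ ≫ q) (𝟙 _) q (by simp)).f k =
      (mappingCone.fst φ).1.v k (k + 1) rfl ≫ (mappingCone.inl (φ ≫ q)).v (k + 1) k (by lia) +
        (mappingCone.snd φ).v k k (add_zero k) ≫ q.f k ≫ (mappingCone.inr (φ ≫ q)).f k := by
  simp [mappingCone.map, mappingCone.desc_f _ _ _ _ k (k + 1) rfl]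

lemma map_f_fst (k : ℤ) :
    (mappingCone.map φ (φ ≫ q) (𝟙 _) q (by simp)).f k ≫
      (mappingCone.fst (φ ≫ q)).1.v k (k + 1) rfl = (mappingCone.fst φ).1.v k (k + 1) rfl := by
  rw [map_f]
  simp

lemma map_f_snd (k : ℤ) :
    (mappingCone.map φ (φ ≫ q) (𝟙 _) q (by simp)).f k ≫
      (mappingCone.snd (φ ≫ q)).v k k (add_zero k) =
      (mappingCone.snd φ).v k k (add_zero k) ≫ q.f k := by
  rw [map_f]
  simp

lemma inr_map :
    mappingCone.inr φ ≫ mappingCone.map φ (φ ≫ q) (𝟙 _) q (by simp) =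
      q ≫ mappingCone.inr (φ ≫ q) := by
  simp [mappingCone.map]

lemma exists_lift_map (w : i ≫ q = 0) (k : ℤ)
    (hker : IsLimit (KernelFork.ofι (i.f k) (show i.f k ≫ q.f k = 0 by
      rw [← HomologicalComplex.comp_f, w, HomologicalComplex.zero_f])))
    {T : C} (t : T ⟶ (mappingCone φ).X k)
    (ht : t ≫ (mappingCone.map φ (φ ≫ q) (𝟙 _) q (by simp)).f k = 0) :
    ∃ l : T ⟶ K'.X k, l ≫ (i ≫ mappingCone.inr φ).f k = t := by
  have h1 : t ≫ (mappingCone.fst φ).1.v k (k + 1) rfl = 0 := by
    rw [← map_f_fst φ q k, reassoc_of% ht, zero_comp]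
  have h2 : (t ≫ (mappingCone.snd φ).v k k (add_zero k)) ≫ q.f k = 0 := by
    rw [Category.assoc, ← map_f_snd φ q k, reassoc_of% ht, zero_comp]
  obtain ⟨l, h3⟩ : ∃ l : T ⟶ K'.X k, l ≫ i.f k = t ≫ (mappingCone.snd φ).v k k (add_zero k) :=
    ⟨hker.lift (KernelFork.ofι _ h2), hker.fac _ WalkingParallelPair.zero⟩
  refine ⟨l, ?_⟩
  rw [HomologicalComplex.comp_f, reassoc_of% h3]
  have hid := mappingCone.id_X φ k (k + 1) rfl
  calc t ≫ (mappingCone.snd φ).v k k (add_zero k) ≫ (mappingCone.inr φ).f k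
      = t ≫ ((mappingCone.fst φ).1.v k (k + 1) rfl ≫ (mappingCone.inl φ).v (k + 1) k (by lia) +
          (mappingCone.snd φ).v k k (add_zero k) ≫ (mappingCone.inr φ).f k) := by
        rw [Preadditive.comp_add, reassoc_of% h1, zero_comp, zero_add]
    _ = t := by rw [hid, Category.comp_id]

lemma shortExact_map (w : i ≫ q = 0) (hse : (ShortComplex.mk i q w).ShortExact) :
    (ShortComplex.mk (i ≫ mappingCone.inr φ) (mappingCone.map φ (φ ≫ q) (𝟙 _) q (by simp))
      (by rw [Category.assoc, inr_map, reassoc_of% w, zero_comp])).ShortExact := by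
  apply HomologicalComplex.shortExact_of_degreewise_shortExact
  intro k
  have hk := (HomologicalComplex.shortExact_iff_degreewise_shortExact _).1 hse k
  have hmono : Mono (i.f k) := hk.mono_f
  have hepi : Epi (q.f k) := hk.epi_g
  have hker := by
    haveI := hk.mono_f
    exact hk.exact.fIsKernel
  have hm : Mono ((i ≫ mappingCone.inr φ).f k) := by
    have : Mono ((mappingCone.inr φ).f k) :=
      mono_of_mono_fac (mappingCone.inr_f_snd_v φ k)
    rw [HomologicalComplex.comp_f]
    infer_instance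
  have he : Epi ((mappingCone.map φ (φ ≫ q) (𝟙 _) q (by simp)).f k) := by
    constructor
    intro Z t t' htt
    rw [mappingCone.ext_from_iff (φ ≫ q) (k + 1) k rfl]
    have h1 := congrArg (fun z => (mappingCone.inl φ).v (k + 1) k (by lia) ≫ z) htt
    have h2 := congrArg (fun z => (mappingCone.inr φ).f k ≫ z) htt
    simp only [map_f, Preadditive.comp_add, Preadditive.add_comp, Category.assoc,
      mappingCone.inl_v_fst_v_assoc, mappingCone.inl_v_snd_v_assoc, zero_comp, add_zero,
      mappingCone.inr_f_fst_v_assoc, mappingCone.inr_f_snd_v_assoc, zero_add] at h1 h2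
    exact ⟨h1, (cancel_epi (q.f k)).1 h2⟩
  refine ShortComplex.ShortExact.mk' ?_ hm he
  apply ShortComplex.exact_of_f_is_kernel
  exact KernelFork.IsLimit.ofι' _ _ (fun {T} t ht =>
    ⟨(exists_lift_map φ i q w k hker t ht).choose, (exists_lift_map φ i q w k hker t ht).choose_spec⟩)
    (hi := hm)

end MappingConeSES

variable {A : Type u} [CommRing A]

/-- `inr` is an isomorphism in the degrees where the source of the map vanishes one step up -/
lemma isIso_inr_f {K L : DRing.Cx A} (φ : K ⟶ L) (k : ℤ) (h : IsZero (K.X (k + 1))) :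
    IsIso ((mappingCone.inr φ).f k) := by
  refine ⟨(mappingCone.snd φ).v k k (add_zero k), mappingCone.inr_f_snd_v φ k, ?_⟩
  have hid := mappingCone.id_X φ k (k + 1) rfl
  rw [h.eq_of_tgt ((mappingCone.fst φ).1.v k (k + 1) rfl) 0, zero_comp, zero_add] at hid
  exact hid

/-- the complex of a single finite free module is represented -/
lemma rep_Q_single (F : ModuleCat.{u} A) (hF : FF F) (n : ℤ) :
    Rep (FF (R := A)) True (Q.obj ((HomologicalComplex.single _ (ComplexShape.up ℤ) n).obj F)) :=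
  (rep_single F hF n).of_iso ((singleFunctorIsoCompQ _ n).app F)

lemma FF_single_X (F : ModuleCat.{u} A) (hF : FF F) (n i : ℤ) :
    FF (((HomologicalComplex.single (ModuleCat.{u} A) (ComplexShape.up ℤ) n).obj F).X i) := by
  by_cases hi : i = n
  · subst hi
    exact FF_iso _ _ (HomologicalComplex.singleObjXSelf (ComplexShape.up ℤ) i F).symm hF
  · have := ModuleCat.subsingleton_of_isZero
      (HomologicalComplex.isZero_single_obj_X (ComplexShape.up ℤ) n F i hi)
    exact FF_of_subsingleton _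

/-- the state of the construction at stage `n` -/
structure St (K' : DRing.Cx A) (b : ℤ) (n : ℕ) where
  C : DRing.Cx A
  G : DRing.Cx A
  i : K' ⟶ C
  q : C ⟶ G
  w : i ≫ q = 0
  se : (ShortComplex.mk i q w).ShortExact
  le : (Q.obj C).IsLE (b - n)
  pc : ∀ m : ℤ, DRing.IsPseudoCoherent A m (Q.obj C)
  ff : ∀ k : ℤ, FF (G.X k)
  zero : ∀ k : ℤ, (k < b - n ∨ b ≤ k) → IsZero (G.X k)

namespace St

variable {K' : DRing.Cx A} {b : ℤ} {n : ℕ} (S : St K' b n)

lemma exists_attach' : ∃ (F : ModuleCat.{u} A)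
    (Ψ : (HomologicalComplex.single _ (ComplexShape.up ℤ) (b - n)).obj F ⟶ S.C),
    FF F ∧ Conn (b - n) (Q.map Ψ) := by
  have := S.le
  have hfin := (Groth.Agent.S2068.result (Q.obj S.C) (b - n) (S.pc (b - n))).1
    (fun i hi => (DerivedCategory.isLE_iff _ (b - n)).1 S.le i hi)
  exact exists_attach S.C (b - n) hfin

/-- the finite free module attached at stage `n` -/
noncomputable def F : ModuleCat.{u} A := S.exists_attach'.choose

/-- the attaching map -/
noncomputable def Ψ : (HomologicalComplex.single _ (ComplexShape.up ℤ) (b - n)).obj S.F ⟶ S.C :=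
  S.exists_attach'.choose_spec.choose

lemma F_ff : FF S.F := S.exists_attach'.choose_spec.choose_spec.1

lemma Ψ_conn : Conn (b - n) (Q.map S.Ψ) := S.exists_attach'.choose_spec.choose_spec.2

/-- the next stage -/
noncomputable def next : St K' b (n + 1) where
  C := mappingCone S.Ψ
  G := mappingCone (S.Ψ ≫ S.q)
  i := S.i ≫ mappingCone.inr S.Ψ
  q := mappingCone.map S.Ψ (S.Ψ ≫ S.q) (𝟙 _) S.q (by simp)
  w := by rw [Category.assoc, inr_map, reassoc_of% S.w, zero_comp]
  se := shortExact_map S.Ψ S.i S.q S.w S.se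
  le := by
    have hT := DerivedCategory.mappingCone_triangle_distinguished S.Ψ
    have h := (conn_iff_of_distTriang _ hT (b - n)).1 S.Ψ_conn
    have e : b - ((n + 1 : ℕ) : ℤ) = b - n - 1 := by push_cast; ring
    rw [e]
    exact h
  pc := fun m => by
    have hT := DerivedCategory.mappingCone_triangle_distinguished S.Ψ
    exact isPC_obj₃ _ hT m (isPC_of_rep (m + 1) (rep_Q_single _ S.F_ff _)) (S.pc m)
  ff := fun k => by
    have := HomologicalComplex.HasHomotopyCofiber.hasBinaryBiproduct (S.Ψ ≫ S.q) k (k + 1) rfl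
    exact FF_iso _ _ (HomologicalComplex.homotopyCofiber.XIsoBiprod (S.Ψ ≫ S.q) k (k + 1) rfl).symm
      (FF_sum _ _ (FF_single_X _ S.F_ff _ _) (S.ff k))
  zero := fun k hk => by
    rw [mappingCone.isZero_X_iff]
    have e : b - ((n + 1 : ℕ) : ℤ) = b - n - 1 := by push_cast; ring
    rw [e] at hk
    refine ⟨HomologicalComplex.isZero_single_obj_X _ _ _ _ (by lia), S.zero k (by lia)⟩

/-- transition maps -/
noncomputable def jC : S.C ⟶ S.next.C := mappingCone.inr S.Ψ

noncomputable def jG : S.G ⟶ S.next.G := mappingCone.inr (S.Ψ ≫ S.q)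

lemma i_jC : S.i ≫ S.jC = S.next.i := rfl

lemma jC_q : S.jC ≫ S.next.q = S.q ≫ S.jG := inr_map S.Ψ S.q

lemma isIso_jC_f (k : ℤ) (hk : b - n ≤ k) : IsIso (S.jC.f k) :=
  isIso_inr_f _ k (HomologicalComplex.isZero_single_obj_X _ _ _ _ (by lia))

lemma isIso_jG_f (k : ℤ) (hk : b - n ≤ k) : IsIso (S.jG.f k) :=
  isIso_inr_f _ k (HomologicalComplex.isZero_single_obj_X _ _ _ _ (by lia))

end St


section Seq

/-- maps of a sequence are isomorphisms after applying `H` beyond the stage where the steps are -/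
lemma isIso_map_ofSequence {D E : Type*} [Category D] [Category E] {X : ℕ → D}
    (f : ∀ n, X n ⟶ X (n + 1)) (H : D ⥤ E) (n₀ : ℕ) (h : ∀ n, n₀ ≤ n → IsIso (H.map (f n)))
    (i j : ℕ) (hi : n₀ ≤ i) (hij : i ≤ j) :
    IsIso (H.map ((Functor.ofSequence f).map (homOfLE hij))) := by
  induction j, hij using Nat.le_induction with
  | base =>
    have : homOfLE (le_refl i) = 𝟙 i := rfl
    rw [this, CategoryTheory.Functor.map_id, CategoryTheory.Functor.map_id]
    infer_instance
  | succ j hij ih =>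
    have e : homOfLE (hij.trans (Nat.le_add_right j 1)) =
        homOfLE hij ≫ homOfLE (Nat.le_add_right j 1) := rfl
    have h1 := h j (hi.trans hij)
    rw [e, Functor.map_comp, Functor.map_comp, Functor.ofSequence_map_homOfLE_succ]
    exact @IsIso.comp_isIso _ _ _ _ _ _ _ ih h1

lemma isEventuallyConstantFrom_ofSequence {D E : Type*} [Category D] [Category E] {X : ℕ → D}
    (f : ∀ n, X n ⟶ X (n + 1)) (H : D ⥤ E) (n₀ : ℕ) (h : ∀ n, n₀ ≤ n → IsIso (H.map (f n))) :
    (Functor.ofSequence f ⋙ H).IsEventuallyConstantFrom n₀ := by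
  intro j φ
  have := isIso_map_ofSequence f H n₀ h n₀ j le_rfl (leOfHom φ)
  exact this

variable (X : ℕ → DRing.Cx A) (f : ∀ n, X n ⟶ X (n + 1))

lemma isIso_colimit_ι_f (k : ℤ) (n₀ : ℕ) (h : ∀ n, n₀ ≤ n → IsIso ((f n).f k)) (n : ℕ)
    (hn : n₀ ≤ n) : IsIso ((colimit.ι (Functor.ofSequence f) n).f k) := by
  have hq := isEventuallyConstantFrom_ofSequence f
    (HomologicalComplex.eval (ModuleCat.{u} A) (ComplexShape.up ℤ) k) n₀ h
  exact hq.isIso_ι_of_isColimit'
    (isColimitOfPreserves (HomologicalComplex.eval (ModuleCat.{u} A) (ComplexShape.up ℤ) k)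
      (colimit.isColimit (Functor.ofSequence f))) n (homOfLE hn)

lemma quasiIsoAt_colimit_ι (k : ℤ) (n : ℕ)
    (h₀ : IsIso ((colimit.ι (Functor.ofSequence f) n).f (k - 1)))
    (h₁ : IsIso ((colimit.ι (Functor.ofSequence f) n).f k))
    (h₂ : IsIso ((colimit.ι (Functor.ofSequence f) n).f (k + 1))) :
    QuasiIsoAt (colimit.ι (Functor.ofSequence f) n) k := by
  rw [quasiIsoAt_iff' _ (k - 1) k (k + 1) (by simp) (by simp)]
  let φ := (HomologicalComplex.shortComplexFunctor' (ModuleCat.{u} A) (ComplexShape.up ℤ)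
    (k - 1) k (k + 1)).map (colimit.ι (Functor.ofSequence f) n)
  have : IsIso φ.τ₁ := h₀
  have : IsIso φ.τ₂ := h₁
  have : IsIso φ.τ₃ := h₂
  apply ShortComplex.quasiIso_of_epi_of_isIso_of_mono

end Seq


section Main

variable (K' : DRing.Cx A) (b : ℤ) (hle : (Q.obj K').IsLE b)
  (hpc : ∀ m : ℤ, DRing.IsPseudoCoherent A m (Q.obj K'))

/-- the initial state -/
noncomputable def St.init : St K' b 0 where
  C := K'
  G := 0
  i := 𝟙 K'
  q := 0
  w := comp_zero
  se := by
    refine ShortComplex.ShortExact.mk' ?_ (inferInstanceAs (Mono (𝟙 K'))) ?_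
    · rw [ShortComplex.exact_iff_epi _ rfl]
      exact inferInstanceAs (Epi (𝟙 K'))
    · exact (isZero_zero _).epi (0 : K' ⟶ 0)
  le := by
    have e : b - ((0 : ℕ) : ℤ) = b := by simp
    rw [e]; exact hle
  pc := hpc
  ff := fun k => by
    have hz : IsZero ((0 : DRing.Cx A).X k) :=
      (HomologicalComplex.eval _ _ k).map_isZero (isZero_zero _)
    have : Subsingleton ((0 : DRing.Cx A).X k) := ModuleCat.subsingleton_of_isZero hz
    exact FF_of_subsingleton _
  zero := fun k _ => (HomologicalComplex.eval _ _ k).map_isZero (isZero_zero _)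

/-- the sequence of states -/
noncomputable def st : ∀ n : ℕ, St K' b n
  | 0 => St.init K' b hle hpc
  | n + 1 => (st n).next

/-- the sequence of the `C`'s -/
noncomputable abbrev FC : ℕ ⥤ DRing.Cx A :=
  Functor.ofSequence (X := fun n => (st K' b hle hpc n).C) (fun n => (st K' b hle hpc n).jC)

/-- the sequence of the `G`'s -/
noncomputable abbrev FG : ℕ ⥤ DRing.Cx A :=
  Functor.ofSequence (X := fun n => (st K' b hle hpc n).G) (fun n => (st K' b hle hpc n).jG)

/-- the maps `q` assemble -/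
noncomputable def qNat : FC K' b hle hpc ⟶ FG K' b hle hpc :=
  NatTrans.ofSequence (fun n => (st K' b hle hpc n).q) (fun n => by
    rw [Functor.ofSequence_map_homOfLE_succ, Functor.ofSequence_map_homOfLE_succ]
    exact (st K' b hle hpc n).jC_q)

/-- the colimit of the `C`'s -/
noncomputable abbrev CC : DRing.Cx A := colimit (FC K' b hle hpc)

/-- the colimit of the `G`'s -/
noncomputable abbrev GC : DRing.Cx A := colimit (FG K' b hle hpc)

noncomputable def iC : K' ⟶ CC K' b hle hpc :=
  (st K' b hle hpc 0).i ≫ colimit.ι (FC K' b hle hpc) 0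

noncomputable def qC : CC K' b hle hpc ⟶ GC K' b hle hpc := colimMap (qNat K' b hle hpc)

lemma i_ι (n : ℕ) :
    (st K' b hle hpc n).i ≫ colimit.ι (FC K' b hle hpc) n = iC K' b hle hpc := by
  induction n with
  | zero => rfl
  | succ n ih =>
    rw [← ih]
    have h2 : (st K' b hle hpc n).jC ≫ colimit.ι (FC K' b hle hpc) (n + 1) =
        colimit.ι (FC K' b hle hpc) n := by
      have h2 := colimit.w (FC K' b hle hpc) (homOfLE (Nat.le_add_right n 1))
      rw [Functor.ofSequence_map_homOfLE_succ] at h2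
      exact h2
    exact (Category.assoc (st K' b hle hpc n).i (st K' b hle hpc n).jC
      (colimit.ι (FC K' b hle hpc) (n + 1))).trans (congrArg (fun z => (st K' b hle hpc n).i ≫ z) h2)

lemma ι_qC (n : ℕ) :
    colimit.ι (FC K' b hle hpc) n ≫ qC K' b hle hpc =
      (st K' b hle hpc n).q ≫ colimit.ι (FG K' b hle hpc) n :=
  ι_colimMap _ _

lemma wC : iC K' b hle hpc ≫ qC K' b hle hpc = 0 := by
  have h1 : iC K' b hle hpc ≫ qC K' b hle hpc = (st K' b hle hpc 0).i ≫
      (colimit.ι (FC K' b hle hpc) 0 ≫ qC K' b hle hpc) := Category.assoc _ _ _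
  have h2 : (st K' b hle hpc 0).i ≫ ((st K' b hle hpc 0).q ≫ colimit.ι (FG K' b hle hpc) 0) = 0 :=
    (Category.assoc _ _ _).symm.trans (by rw [(st K' b hle hpc 0).w, zero_comp])
  rw [h1]
  exact (congrArg (fun z => (st K' b hle hpc 0).i ≫ z) (ι_qC K' b hle hpc 0)).trans h2

lemma isIso_ιC (k : ℤ) (n : ℕ) (hn : (b - k).toNat ≤ n) :
    IsIso ((colimit.ι (FC K' b hle hpc) n).f k) :=
  isIso_colimit_ι_f _ _ k (b - k).toNat (fun n hn => (st K' b hle hpc n).isIso_jC_f k (by lia)) n hn

lemma isIso_ιG (k : ℤ) (n : ℕ) (hn : (b - k).toNat ≤ n) :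
    IsIso ((colimit.ι (FG K' b hle hpc) n).f k) :=
  isIso_colimit_ι_f _ _ k (b - k).toNat (fun n hn => (st K' b hle hpc n).isIso_jG_f k (by lia)) n hn

lemma seC : (ShortComplex.mk (iC K' b hle hpc) (qC K' b hle hpc) (wC K' b hle hpc)).ShortExact := by
  apply HomologicalComplex.shortExact_of_degreewise_shortExact
  intro k
  have hk := (HomologicalComplex.shortExact_iff_degreewise_shortExact _).1
    (st K' b hle hpc (b - k).toNat).se k
  have h1 := isIso_ιC K' b hle hpc k (b - k).toNat le_rfl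
  have h2 := isIso_ιG K' b hle hpc k (b - k).toNat le_rfl
  have e : (ShortComplex.mk (st K' b hle hpc (b - k).toNat).i (st K' b hle hpc (b - k).toNat).q
      (st K' b hle hpc (b - k).toNat).w).map (HomologicalComplex.eval _ _ k) ≅
      (ShortComplex.mk (iC K' b hle hpc) (qC K' b hle hpc) (wC K' b hle hpc)).map
        (HomologicalComplex.eval _ _ k) := by
    refine ShortComplex.isoMk (Iso.refl _)
      (@asIso _ _ _ _ ((colimit.ι (FC K' b hle hpc) (b - k).toNat).f k) h1)
      (@asIso _ _ _ _ ((colimit.ι (FG K' b hle hpc) (b - k).toNat).f k) h2) ?_ ?_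
    · show 𝟙 _ ≫ (iC K' b hle hpc).f k = (st K' b hle hpc (b - k).toNat).i.f k ≫
        (colimit.ι (FC K' b hle hpc) (b - k).toNat).f k
      rw [Category.id_comp, ← i_ι K' b hle hpc (b - k).toNat]
      rfl
    · show (colimit.ι (FC K' b hle hpc) (b - k).toNat).f k ≫ (qC K' b hle hpc).f k =
        (st K' b hle hpc (b - k).toNat).q.f k ≫ (colimit.ι (FG K' b hle hpc) (b - k).toNat).f k
      have := congrArg (fun z => z.f k) (ι_qC K' b hle hpc (b - k).toNat)
      exact this
  exact ShortComplex.shortExact_of_iso e hk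

lemma isZero_Q_CC : IsZero (Q.obj (CC K' b hle hpc)) := by
  have hz : ∀ k : ℤ, IsZero ((homologyFunctor (ModuleCat.{u} A) k).obj (Q.obj (CC K' b hle hpc))) := by
    intro k
    have hq : QuasiIsoAt (colimit.ι (FC K' b hle hpc) (b - k + 2).toNat) k :=
      quasiIsoAt_colimit_ι _ _ k _ (isIso_ιC K' b hle hpc (k - 1) _ (by lia))
        (isIso_ιC K' b hle hpc k _ (by lia)) (isIso_ιC K' b hle hpc (k + 1) _ (by lia))
    have h0 : IsZero ((homologyFunctor (ModuleCat.{u} A) k).obj
        (Q.obj (st K' b hle hpc (b - k + 2).toNat).C)) :=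
      (DerivedCategory.isLE_iff _ (b - ((b - k + 2).toNat : ℤ))).1
        (st K' b hle hpc (b - k + 2).toNat).le k (by lia)
    have h0' : IsZero ((st K' b hle hpc (b - k + 2).toNat).C.homology k) :=
      ((homologyFunctorFactors (ModuleCat.{u} A) k).app _).isZero_iff.1 h0
    rw [quasiIsoAt_iff_isIso_homologyMap] at hq
    have h1 : IsZero ((CC K' b hle hpc).homology k) :=
      IsZero.of_iso h0' (asIso (HomologicalComplex.homologyMap
        (colimit.ι (FC K' b hle hpc) (b - k + 2).toNat) k)).symm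
    exact ((homologyFunctorFactors (ModuleCat.{u} A) k).app _).isZero_iff.2 h1
  have : (Q.obj (CC K' b hle hpc)).IsLE 0 := (DerivedCategory.isLE_iff _ 0).2 (fun i _ => hz i)
  have : (Q.obj (CC K' b hle hpc)).IsGE 1 := (DerivedCategory.isGE_iff _ 1).2 (fun i _ => hz i)
  exact tt.isZero _ 0 1 (by lia)

lemma ff_GC (k : ℤ) : FF ((GC K' b hle hpc).X k) := by
  have h2 := isIso_ιG K' b hle hpc k (b - k).toNat le_rfl
  exact FF_iso _ _ (asIso ((colimit.ι (FG K' b hle hpc) (b - k).toNat).f k))
    ((st K' b hle hpc (b - k).toNat).ff k)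

lemma isZero_GC (k : ℤ) (hk : b ≤ k) : IsZero ((GC K' b hle hpc).X k) := by
  have h2 := isIso_ιG K' b hle hpc k (b - k).toNat le_rfl
  exact IsZero.of_iso ((st K' b hle hpc (b - k).toNat).zero k (Or.inr hk))
    (asIso ((colimit.ι (FG K' b hle hpc) (b - k).toNat).f k)).symm

include hle hpc in
/-- an object of `D^{≤ b}` which is `m`-pseudo-coherent for all `m` is represented by a complex
of finite free modules vanishing above `b` -/
theorem exists_bddAbove_ff : ∃ E : DRing.Cx A, (∀ i : ℤ, b < i → IsZero (E.X i)) ∧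
    (∀ i : ℤ, FF (E.X i)) ∧ Nonempty (Q.obj E ≅ Q.obj K') := by
  have hS := seC K' b hle hpc
  have hT := triangleOfSES_distinguished hS
  have hz : IsZero (triangleOfSES hS).obj₂ := isZero_Q_CC K' b hle hpc
  have hiso : IsIso (triangleOfSES hS).mor₃ := (Triangle.isZero₂_iff_isIso₃ _ hT).1 hz
  let e : Q.obj (GC K' b hle hpc) ≅ (Q.obj K')⟦(1 : ℤ)⟧ :=
    @asIso _ _ _ _ (triangleOfSES hS).mor₃ hiso
  refine ⟨(GC K' b hle hpc)⟦(-1 : ℤ)⟧, fun i hi => ?_, fun i => ?_,
    ⟨(Q.commShiftIso (-1 : ℤ)).app (GC K' b hle hpc) ≪≫ (CategoryTheory.shiftFunctor _ (-1 : ℤ)).mapIso e ≪≫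
      (shiftEquiv _ (1 : ℤ)).unitIso.symm.app (Q.obj K')⟩⟩
  · exact isZero_GC K' b hle hpc (i + -1) (by lia)
  · exact ff_GC K' b hle hpc (i + -1)

end Main


lemma isPC_of_conn {m : ℤ} {X Y : DerivedCategory (ModuleCat.{u} A)} (α : X ⟶ Y) (hα : Conn m α)
    (h : DRing.IsPseudoCoherent A m X) : DRing.IsPseudoCoherent A m Y := by
  obtain ⟨P, β, hP, hβ⟩ := (isPC_iff m X).1 h
  exact (isPC_iff m Y).2 ⟨P, β ≫ α, hP, hβ.comp hα⟩

lemma isPC_of_isZero (m : ℤ) (K : DerivedCategory (ModuleCat.{u} A)) (hK : IsZero K) :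
    DRing.IsPseudoCoherent A m K :=
  isPC_of_iso ((isZero_zero _).iso hK) (isPC_of_rep m rep_zero)

/-- `m`-pseudo-coherence as an object property -/
def pcProp (m : ℤ) : ObjectProperty (DerivedCategory (ModuleCat.{u} A)) :=
  fun K => DRing.IsPseudoCoherent A m K

instance (m : ℤ) : (pcProp (A := A) m).IsClosedUnderIsomorphisms where
  of_iso e h := isPC_of_iso e h

/-- a bounded complex all of whose terms, placed in their degree, are `m`-pseudo-coherent is
`m`-pseudo-coherent -/
lemma isPC_of_terms (m : ℤ) (E : DRing.Cx A) (a b : ℤ)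
    (hE : ∀ i : ℤ, (i < a ∨ b < i) → IsZero (E.X i))
    (hP : ∀ j : ℤ, a ≤ j → j ≤ b →
      DRing.IsPseudoCoherent A m ((DerivedCategory.singleFunctor (ModuleCat.{u} A) j).obj (E.X j))) :
    DRing.IsPseudoCoherent A m (Q.obj E) :=
  induction_terms' (pcProp (A := A) m) (fun K hK => isPC_of_isZero m K hK)
    (fun T hT h1 h3 => isPC_obj₂ T hT m h1 h3)
    (fun j _ _ ⟨e⟩ h => isPC_of_iso ((DerivedCategory.singleFunctor (ModuleCat.{u} A) j).mapIso e) h)
    E a b hE hP

lemma ker_finite_projective_of_surjective {F P : Type u} [AddCommGroup F] [Module A F]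
    [AddCommGroup P] [Module A P] (π : F →ₗ[A] P) (hπ : Function.Surjective π)
    [Module.Finite A F] [Module.Projective A F] [Module.Projective A P] :
    Module.Finite A (LinearMap.ker π) ∧ Module.Projective A (LinearMap.ker π) := by
  obtain ⟨s, hs⟩ := Module.projective_lifting_property π LinearMap.id hπ
  have hs' : ∀ z, π (s z) = z := fun z => congrArg (fun k => k z) hs
  let r : F →ₗ[A] LinearMap.ker π := (LinearMap.id - s ∘ₗ π).codRestrict _ (fun x => by
    show π (x - s (π x)) = 0
    rw [map_sub, hs', sub_self])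
  have hr : r ∘ₗ (LinearMap.ker π).subtype = LinearMap.id := by
    apply LinearMap.ext
    rintro ⟨z, hz⟩
    apply Subtype.ext
    have hpz : π z = 0 := hz
    show z - s (π z) = z
    rw [hpz, map_zero, sub_zero]
  have hrs : Function.Surjective r := fun z => ⟨z.1, congrArg (fun k => k z) hr⟩
  exact ⟨Module.Finite.of_surjective r hrs, Module.Projective.of_split _ r hr⟩

/-- a finite projective module in degree `0` is `(-k)`-pseudo-coherent for all `k` -/
lemma isPC_single_of_finProj_aux (k : ℕ) : ∀ (P : ModuleCat.{u} A) [Module.Finite A P]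
    [Module.Projective A P],
    DRing.IsPseudoCoherent A (-(k : ℤ)) ((DerivedCategory.singleFunctor (ModuleCat.{u} A) 0).obj P) := by
  induction k with
  | zero =>
    intro P _ _
    exact isPC_single_of_finite P 0
  | succ k ih =>
    intro P _ _
    obtain ⟨r, π, hπ⟩ := Module.Finite.exists_fin' A P
    have hF : FF (ModuleCat.of A (Fin r → A)) :=
      ⟨inferInstanceAs (Module.Finite A (Fin r → A)), inferInstanceAs (Module.Free A (Fin r → A))⟩
    obtain ⟨h1, h2⟩ := ker_finite_projective_of_surjective π hπ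
    have hS := LinearMap.shortExact_shortComplexKer hπ
    have hT := hS.singleTriangle_distinguished
    have i1 : Module.Finite A (ModuleCat.of A (LinearMap.ker π)) := h1
    have i2 : Module.Projective A (ModuleCat.of A (LinearMap.ker π)) := h2
    have hk := ih (ModuleCat.of A (LinearMap.ker π))
    have e : -((k + 1 : ℕ) : ℤ) + 1 = -(k : ℤ) := by push_cast; ring
    have h3 : DRing.IsPseudoCoherent A (-((k + 1 : ℕ) : ℤ))
        ((DerivedCategory.singleFunctor (ModuleCat.{u} A) 0).obj (ModuleCat.of A (Fin r → A))) :=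
      isPC_of_rep _ (rep_single _ hF 0)
    exact isPC_obj₃ _ hT (-((k + 1 : ℕ) : ℤ)) (by rw [e]; exact hk) h3

/-- a finite projective module placed in any degree is `m`-pseudo-coherent for all `m` -/
lemma isPC_single_of_finProj (P : ModuleCat.{u} A) [Module.Finite A P] [Module.Projective A P]
    (n m : ℤ) : DRing.IsPseudoCoherent A m ((DerivedCategory.singleFunctor (ModuleCat.{u} A) n).obj P) := by
  have h := isPC_single_of_finProj_aux (n - m).toNat P
  have h' : DRing.IsPseudoCoherent A (m - n) ((DerivedCategory.singleFunctor (ModuleCat.{u} A) 0).obj P) :=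
    isPC_mono (by lia) h
  exact isPC_of_iso (((DerivedCategory.singleFunctors (ModuleCat.{u} A)).shiftIso (-n) n 0 (by lia)).app P)
    (isPC_shift h' (-n) m (by lia))

/-- a bounded complex of finite projective modules is `m`-pseudo-coherent for all `m` -/
lemma isPC_of_bdd_finProj (E : DRing.Cx A) (a b : ℤ) (hE : DRing.VanishesOutside E a b)
    (hP : ∀ i : ℤ, Module.Finite A (E.X i) ∧ Module.Projective A (E.X i)) (m : ℤ) :
    DRing.IsPseudoCoherent A m (Q.obj E) :=
  isPC_of_terms m E a b hE (fun j _ _ => by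
    have := (hP j).1
    have := (hP j).2
    exact isPC_single_of_finProj (E.X j) j m)

/-- a bounded above complex of finite projective modules is `m`-pseudo-coherent for all `m` -/
lemma isPC_of_bddAbove_finProj (E : DRing.Cx A) (b : ℤ) (hE : DRing.VanishesAbove E b)
    (hP : ∀ i : ℤ, Module.Finite A (E.X i) ∧ Module.Projective A (E.X i)) (m : ℤ) :
    DRing.IsPseudoCoherent A m (Q.obj E) := by
  refine isPC_of_conn _ (conn_sigmaGEι E m) (isPC_of_bdd_finProj (sigmaGE E m) m b ?_ ?_ m)
  · rintro i (hi | hi)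
    · exact isZero_sigmaGE_X E m i hi
    · exact isZero_sigmaGE_X' E m i (hE i hi)
  · intro i
    by_cases hi : m ≤ i
    · have e := (sigmaGEXIso E m i hi).toLinearEquiv
      have := (hP i).1
      have := (hP i).2
      exact ⟨Module.Finite.equiv e.symm, Module.Projective.of_equiv e.symm⟩
    · have : Subsingleton ((sigmaGE E m).X i) :=
        ModuleCat.subsingleton_of_isZero (isZero_sigmaGE_X E m i (by lia))
      exact ⟨inferInstance, inferInstance⟩

/-- pseudo-coherent for all `m` implies represented by a bounded above complex of finite free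
modules -/
theorem isPseudoCoherent'_of_forall (K : DerivedCategory (ModuleCat.{u} A))
    (h : ∀ m : ℤ, DRing.IsPseudoCoherent A m K) : DRing.IsPseudoCoherent' A K := by
  obtain ⟨E, a, b, α, hE, hff, h1, h2⟩ := h 0
  have hEle : E.IsStrictlyLE b := by
    rw [CochainComplex.isStrictlyLE_iff]
    exact fun i hi => hE i (Or.inr hi)
  have hQle : (Q.obj E).IsLE b := inferInstance
  have hK : K.IsLE (max b 0) := by
    rw [DerivedCategory.isLE_iff]
    intro i hi
    have := h1 i (by have := le_max_right b 0; lia)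
    exact IsZero.of_iso ((DerivedCategory.isLE_iff _ b).1 hQle i
      (by have := le_max_left b 0; lia)) (asIso ((homologyFunctor _ i).map α)).symm
  let K' := Q.objPreimage K
  let e : Q.obj K' ≅ K := Q.objObjPreimageIso K
  have hle : (Q.obj K').IsLE (max b 0) := tt.isLE_of_iso e.symm _
  have hpc : ∀ m : ℤ, DRing.IsPseudoCoherent A m (Q.obj K') := fun m => isPC_of_iso e.symm (h m)
  obtain ⟨E', h1', h2', ⟨e'⟩⟩ := exists_bddAbove_ff K' (max b 0) hle hpc
  exact ⟨E', max b 0, h1', h2', ⟨e' ≪≫ e⟩⟩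


end Groth.Agent.Lib.Helper1.PCTower
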