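import Mathlib
import Groth.Prelude.Def_DRing2
import Groth.Agent.Lib.Helper1PC
import Groth.Agent.Lib.Helper1PCTower
import Groth.Agent.S2068

set_option autoImplicit false
universe u
open CategoryTheory CategoryTheory.Limits
attribute [local instance] HasDerivedCategory.standard

namespace Groth.Agent.Lib.Helper1.PCBiprod

open DerivedCategory Pretriangulated Groth.Agent.Lib.Helper1.Cone Groth.Agent.S7017
open Groth.Agent.S14388 ZeroObject Groth.Agent.Lib.Helper1.PC Groth.Agent.Lib.Helper1.PCTower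

/-- products indexed by `WalkingPair` are binary biproducts -/
noncomputable def piIsoBiprod {C : Type*} [Category C] [Preadditive C] [HasBinaryBiproducts C]
    (g : WalkingPair → C) [HasProduct g] : ∏ᶜ g ≅ g .left ⊞ g .right where
  hom := biprod.lift (Pi.π g .left) (Pi.π g .right)
  inv := Pi.lift (fun j => match j with
    | .left => biprod.fst
    | .right => biprod.snd)
  hom_inv_id := by
    apply Pi.hom_ext
    intro j
    cases j <;> simp
  inv_hom_id := by
    apply biprod.hom_ext <;> simp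

variable {A : Type u} [CommRing A]

lemma rep_biprod {P₁ P₂ : DerivedCategory (ModuleCat.{u} A)} (h₁ : Rep (FF (R := A)) True P₁)
    (h₂ : Rep (FF (R := A)) True P₂) : Rep (FF (R := A)) True (P₁ ⊞ P₂) :=
  (Rep.two_out_of_three FF_proj FF_iso FF_sum _ (binaryBiproductTriangle_distinguished P₁ P₂)).2.1
    h₁ h₂

/-- the pair of triangles -/
def pairT (T₁ T₂ : Triangle (DerivedCategory (ModuleCat.{u} A))) :
    WalkingPair → Triangle (DerivedCategory (ModuleCat.{u} A))
  | .left => T₁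
  | .right => T₂

/-- sum of triangles, pseudo-coherent version of Stacks 064V (1) -/
lemma isPC_biprod_obj₃ (T₁ T₂ : Triangle (DerivedCategory (ModuleCat.{u} A)))
    (hT₁ : T₁ ∈ distTriang _) (hT₂ : T₂ ∈ distTriang _) (m : ℤ)
    (h₁ : DRing.IsPseudoCoherent A (m + 1) (T₁.obj₁ ⊞ T₂.obj₁))
    (h₂ : DRing.IsPseudoCoherent A m (T₁.obj₂ ⊞ T₂.obj₂)) :
    DRing.IsPseudoCoherent A m (T₁.obj₃ ⊞ T₂.obj₃) := by
  have hT : productTriangle (pairT T₁ T₂) ∈ distTriang _ :=
    productTriangle_distinguished _ (fun j => by cases j <;> assumption)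
  have e₁ : (productTriangle (pairT T₁ T₂)).obj₁ ≅ T₁.obj₁ ⊞ T₂.obj₁ :=
    piIsoBiprod (fun j => (pairT T₁ T₂ j).obj₁)
  have e₂ : (productTriangle (pairT T₁ T₂)).obj₂ ≅ T₁.obj₂ ⊞ T₂.obj₂ :=
    piIsoBiprod (fun j => (pairT T₁ T₂ j).obj₂)
  have e₃ : (productTriangle (pairT T₁ T₂)).obj₃ ≅ T₁.obj₃ ⊞ T₂.obj₃ :=
    piIsoBiprod (fun j => (pairT T₁ T₂ j).obj₃)
  exact isPC_of_iso e₃ (isPC_obj₃ _ hT m (isPC_of_iso e₁.symm h₁) (isPC_of_iso e₂.symm h₂))

lemma isLE_biprod (K L : DerivedCategory (ModuleCat.{u} A)) (n : ℤ) [K.IsLE n] [L.IsLE n] :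
    (K ⊞ L).IsLE n :=
  tt.isLE₂ _ (binaryBiproductTriangle_distinguished K L) n (inferInstanceAs (K.IsLE n))
    (inferInstanceAs (L.IsLE n))

lemma finite_homology_fst (K L : DerivedCategory (ModuleCat.{u} A)) (n : ℤ)
    (h : Module.Finite A ((homologyFunctor (ModuleCat.{u} A) n).obj (K ⊞ L))) :
    Module.Finite A ((homologyFunctor (ModuleCat.{u} A) n).obj K) := by
  have hs : Function.Surjective ((homologyFunctor (ModuleCat.{u} A) n).map
      (biprod.fst : K ⊞ L ⟶ K)).hom := by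
    intro x
    refine ⟨((homologyFunctor (ModuleCat.{u} A) n).map (biprod.inl : K ⟶ K ⊞ L)).hom x, ?_⟩
    have h1 : (homologyFunctor (ModuleCat.{u} A) n).map (biprod.inl : K ⟶ K ⊞ L) ≫
        (homologyFunctor (ModuleCat.{u} A) n).map (biprod.fst : K ⊞ L ⟶ K) = 𝟙 _ := by
      rw [← Functor.map_comp, biprod.inl_fst, CategoryTheory.Functor.map_id]
    exact congrArg (fun f => f.hom x) h1
  exact Module.Finite.of_surjective _ hs

lemma finite_homology_snd (K L : DerivedCategory (ModuleCat.{u} A)) (n : ℤ)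
    (h : Module.Finite A ((homologyFunctor (ModuleCat.{u} A) n).obj (K ⊞ L))) :
    Module.Finite A ((homologyFunctor (ModuleCat.{u} A) n).obj L) := by
  have hs : Function.Surjective ((homologyFunctor (ModuleCat.{u} A) n).map
      (biprod.snd : K ⊞ L ⟶ L)).hom := by
    intro x
    refine ⟨((homologyFunctor (ModuleCat.{u} A) n).map (biprod.inr : L ⟶ K ⊞ L)).hom x, ?_⟩
    have h1 : (homologyFunctor (ModuleCat.{u} A) n).map (biprod.inr : L ⟶ K ⊞ L) ≫
        (homologyFunctor (ModuleCat.{u} A) n).map (biprod.snd : K ⊞ L ⟶ L) = 𝟙 _ := by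
      rw [← Functor.map_comp, biprod.inr_snd, CategoryTheory.Functor.map_id]
    exact congrArg (fun f => f.hom x) h1
  exact Module.Finite.of_surjective _ hs

/-- Stacks 064X -/
lemma isPC_biprod_aux (m : ℤ) (k : ℕ) : ∀ (K L : DerivedCategory (ModuleCat.{u} A)) (n : ℤ),
    n < m + k → K.IsLE n → L.IsLE n → DRing.IsPseudoCoherent A m (K ⊞ L) →
    DRing.IsPseudoCoherent A m K ∧ DRing.IsPseudoCoherent A m L := by
  induction k with
  | zero =>
    intro K L n hn hK hL _
    have : K.IsLE (m - 1) := tt.isLE_of_le K n (m - 1) (by push_cast at hn; lia)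
    have : L.IsLE (m - 1) := tt.isLE_of_le L n (m - 1) (by push_cast at hn; lia)
    exact ⟨isPC_of_isLE m K, isPC_of_isLE m L⟩
  | succ k ih =>
    intro K L n hn hK hL h
    by_cases hn' : n < m + k
    · exact ih K L n hn' hK hL h
    have hmn : m ≤ n := by lia
    have hKL : (K ⊞ L).IsLE n := isLE_biprod K L n
    have hfin := (Groth.Agent.S2068.result (K ⊞ L) n (isPC_mono hmn h)).1
      (fun i hi => (DerivedCategory.isLE_iff _ n).1 hKL i hi)
    obtain ⟨F₁, ψ₁, hF₁, hψ₁⟩ := exists_single_conn K n (finite_homology_fst K L n hfin)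
    obtain ⟨F₂, ψ₂, hF₂, hψ₂⟩ := exists_single_conn L n (finite_homology_snd K L n hfin)
    obtain ⟨K', v₁, w₁, hT₁⟩ := distinguished_cocone_triangle ψ₁
    obtain ⟨L', v₂, w₂, hT₂⟩ := distinguished_cocone_triangle ψ₂
    have hK' : K'.IsLE (n - 1) := (conn_iff_of_distTriang _ hT₁ n).1 hψ₁
    have hL' : L'.IsLE (n - 1) := (conn_iff_of_distTriang _ hT₂ n).1 hψ₂
    have hP : DRing.IsPseudoCoherent A (m + 1)
        ((DerivedCategory.singleFunctor (ModuleCat.{u} A) n).obj F₁ ⊞
          (DerivedCategory.singleFunctor (ModuleCat.{u} A) n).obj F₂) :=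
      isPC_of_rep _ (rep_biprod (rep_single F₁ hF₁ n) (rep_single F₂ hF₂ n))
    have h' : DRing.IsPseudoCoherent A m (K' ⊞ L') :=
      isPC_biprod_obj₃ _ _ hT₁ hT₂ m hP h
    obtain ⟨hK'pc, hL'pc⟩ := ih K' L' (n - 1) (by push_cast at hn; lia) hK' hL' h'
    exact ⟨isPC_obj₂ _ hT₁ m (isPC_of_rep m (rep_single F₁ hF₁ n)) hK'pc,
      isPC_obj₂ _ hT₂ m (isPC_of_rep m (rep_single F₂ hF₂ n)) hL'pc⟩

theorem isPC_of_biprod (m : ℤ) (K L : DerivedCategory (ModuleCat.{u} A))
    (h : DRing.IsPseudoCoherent A m (K ⊞ L)) :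
    DRing.IsPseudoCoherent A m K ∧ DRing.IsPseudoCoherent A m L := by
  -- `K ⊞ L` is bounded above
  obtain ⟨E, a, b, α, hE, hff, h1, h2⟩ := h
  have hEle : E.IsStrictlyLE b := by
    rw [CochainComplex.isStrictlyLE_iff]
    exact fun i hi => hE i (Or.inr hi)
  have hQle : (Q.obj E).IsLE b := inferInstance
  have hz : ∀ i : ℤ, max b m < i →
      IsZero ((homologyFunctor (ModuleCat.{u} A) i).obj (K ⊞ L)) := by
    intro i hi
    have := h1 i (by have := le_max_right b m; lia)
    exact IsZero.of_iso ((DerivedCategory.isLE_iff _ b).1 hQle i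
      (by have := le_max_left b m; lia)) (asIso ((homologyFunctor _ i).map α)).symm
  have hzK : ∀ (X : DerivedCategory (ModuleCat.{u} A)) (ι : X ⟶ K ⊞ L) (π : K ⊞ L ⟶ X),
      ι ≫ π = 𝟙 X → X.IsLE (max b m) := by
    intro X ι π hιπ
    rw [DerivedCategory.isLE_iff]
    intro i hi
    rw [IsZero.iff_id_eq_zero, ← CategoryTheory.Functor.map_id, ← hιπ, Functor.map_comp,
      (hz i hi).eq_of_tgt ((homologyFunctor (ModuleCat.{u} A) i).map ι) 0, zero_comp]
  have hK := hzK K biprod.inl biprod.fst biprod.inl_fst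
  have hL := hzK L biprod.inr biprod.snd biprod.inr_snd
  exact isPC_biprod_aux m (max b m - m + 1).toNat K L (max b m)
    (by have := le_max_right b m; lia) hK hL ⟨E, a, b, α, hE, hff, h1, h2⟩

end Groth.Agent.Lib.Helper1.PCBiprod
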