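import Mathlib
import Groth.Prelude.Def_DDual2
import Groth.Agent.Lib.Helper1PCTower
import Groth.Agent.S6938

set_option autoImplicit false
universe u
open CategoryTheory CategoryTheory.Limits
attribute [local instance] HasDerivedCategory.standard

namespace Groth.Agent.Lib.Helper1.Restrict

open DerivedCategory Pretriangulated Groth.Agent.Lib.Helper1.Cone Groth.Agent.S7017
open Groth.Agent.S14388 ZeroObject Groth.Agent.Lib.Helper1.PC Groth.Agent.Lib.Helper1.PCTower

variable {A B : Type u} [CommRing A] [CommRing B] (φ : A →+* B)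

noncomputable def restrictQIso (K : DRing.Cx B) :
    (DRing.restrictD φ).obj (Q.obj K) ≅ Q.obj ((DRing.restrictCx φ).obj K) :=
  (Functor.mapDerivedCategoryFactors (ModuleCat.restrictScalars.{u} φ)).app K

lemma exactAt_restrict_iff (K : DRing.Cx B) (i : ℤ) :
    ((DRing.restrictCx φ).obj K).ExactAt i ↔ K.ExactAt i := by
  rw [HomologicalComplex.exactAt_iff, HomologicalComplex.exactAt_iff]
  exact ShortComplex.exact_map_iff_of_faithful (K.sc i) (ModuleCat.restrictScalars.{u} φ)

lemma isLE_restrictCx_iff (K : DRing.Cx B) (n : ℤ) :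
    ((DRing.restrictCx φ).obj K).IsLE n ↔ K.IsLE n := by
  rw [CochainComplex.isLE_iff, CochainComplex.isLE_iff]
  exact forall_congr' fun i => imp_congr_right fun _ => exactAt_restrict_iff φ K i

lemma isGE_restrictCx_iff (K : DRing.Cx B) (n : ℤ) :
    ((DRing.restrictCx φ).obj K).IsGE n ↔ K.IsGE n := by
  rw [CochainComplex.isGE_iff, CochainComplex.isGE_iff]
  exact forall_congr' fun i => imp_congr_right fun _ => exactAt_restrict_iff φ K i

lemma isLE_restrictD_iff (X : Dual.D B) (n : ℤ) :
    ((DRing.restrictD φ).obj X).IsLE n ↔ X.IsLE n := by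
  obtain ⟨K, ⟨e⟩⟩ : ∃ K : DRing.Cx B, Nonempty (Q.obj K ≅ X) := ⟨_, ⟨(Q.objObjPreimageIso X)⟩⟩
  have e' : (DRing.restrictD φ).obj X ≅ Q.obj ((DRing.restrictCx φ).obj K) :=
    (DRing.restrictD φ).mapIso e.symm ≪≫ restrictQIso φ K
  constructor
  · intro h
    have h1 : (Q.obj ((DRing.restrictCx φ).obj K)).IsLE n := tt.isLE_of_iso e' n
    rw [DerivedCategory.isLE_Q_obj_iff, isLE_restrictCx_iff] at h1
    have : (Q.obj K).IsLE n := (DerivedCategory.isLE_Q_obj_iff _ _).2 h1
    exact tt.isLE_of_iso e n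
  · intro h
    have h1 : (Q.obj K).IsLE n := tt.isLE_of_iso e.symm n
    rw [DerivedCategory.isLE_Q_obj_iff, ← isLE_restrictCx_iff φ] at h1
    have : (Q.obj ((DRing.restrictCx φ).obj K)).IsLE n := (DerivedCategory.isLE_Q_obj_iff _ _).2 h1
    exact tt.isLE_of_iso e'.symm n

lemma isGE_restrictD_iff (X : Dual.D B) (n : ℤ) :
    ((DRing.restrictD φ).obj X).IsGE n ↔ X.IsGE n := by
  obtain ⟨K, ⟨e⟩⟩ : ∃ K : DRing.Cx B, Nonempty (Q.obj K ≅ X) := ⟨_, ⟨(Q.objObjPreimageIso X)⟩⟩
  have e' : (DRing.restrictD φ).obj X ≅ Q.obj ((DRing.restrictCx φ).obj K) :=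
    (DRing.restrictD φ).mapIso e.symm ≪≫ restrictQIso φ K
  constructor
  · intro h
    have h1 : (Q.obj ((DRing.restrictCx φ).obj K)).IsGE n := tt.isGE_of_iso e' n
    rw [DerivedCategory.isGE_Q_obj_iff, isGE_restrictCx_iff] at h1
    have : (Q.obj K).IsGE n := (DerivedCategory.isGE_Q_obj_iff _ _).2 h1
    exact tt.isGE_of_iso e n
  · intro h
    have h1 : (Q.obj K).IsGE n := tt.isGE_of_iso e.symm n
    rw [DerivedCategory.isGE_Q_obj_iff, ← isGE_restrictCx_iff φ] at h1
    have : (Q.obj ((DRing.restrictCx φ).obj K)).IsGE n := (DerivedCategory.isGE_Q_obj_iff _ _).2 h1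
    exact tt.isGE_of_iso e'.symm n

lemma conn_restrictD_iff {X Y : Dual.D B} (α : X ⟶ Y) (m : ℤ) :
    Conn m ((DRing.restrictD φ).map α) ↔ Conn m α := by
  obtain ⟨Z, v, w, hT⟩ := distinguished_cocone_triangle α
  have hT' := (DRing.restrictD φ).map_distinguished _ hT
  have h1 := conn_iff_of_distTriang _ hT m
  have h2 := conn_iff_of_distTriang _ hT' m
  have h3 := isLE_restrictD_iff φ Z (m - 1)
  exact h2.trans (h3.trans h1.symm)


lemma isPC_biprod (m : ℤ) (K L : DerivedCategory (ModuleCat.{u} A))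
    (hK : DRing.IsPseudoCoherent A m K) (hL : DRing.IsPseudoCoherent A m L) :
    DRing.IsPseudoCoherent A m (K ⊞ L) :=
  isPC_obj₂ _ (binaryBiproductTriangle_distinguished K L) m hK hL

/-- the composite functor `Mod B ⥤ D(A)` -/
noncomputable abbrev G : ModuleCat.{u} B ⥤ DerivedCategory (ModuleCat.{u} A) :=
  ModuleCat.restrictScalars.{u} φ ⋙ DerivedCategory.singleFunctor (ModuleCat.{u} A) 0

/-- `B` is pseudo-coherent as an `A`-module (via `φ`) -/
def BPC : Prop := ∀ j : ℤ, DRing.IsPseudoCoherent A j ((G φ).obj (ModuleCat.of B B))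

lemma isPC_G_pi (hB : BPC φ) (n : ℕ) (j : ℤ) :
    DRing.IsPseudoCoherent A j ((G φ).obj (ModuleCat.of B (Fin n → B))) := by
  induction n with
  | zero =>
    refine isPC_of_isZero j _ ((G φ).map_isZero ?_)
    exact ModuleCat.isZero_of_subsingleton _
  | succ n ih =>
    let e : ModuleCat.of B (Fin (n + 1) → B) ≅ ModuleCat.of B B ⊞ ModuleCat.of B (Fin n → B) :=
      (Fin.consLinearEquiv B (fun _ : Fin (n + 1) => B)).symm.toModuleIso ≪≫
        (ModuleCat.biprodIsoProd (ModuleCat.of B B) (ModuleCat.of B (Fin n → B))).symm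
    have := preservesBinaryBiproducts_of_preservesBiproducts (G φ)
    exact isPC_of_iso ((G φ).mapIso e ≪≫ (G φ).mapBiprod _ _).symm (isPC_biprod j _ _ (hB j) ih)

lemma isPC_G_of_FF (hB : BPC φ) (F : ModuleCat.{u} B) (hF : FF F) (j : ℤ) :
    DRing.IsPseudoCoherent A j ((G φ).obj F) := by
  have := hF.1
  have := hF.2
  let e : F ≃ₗ[B] (Fin (Fintype.card (Module.Free.ChooseBasisIndex B F)) → B) :=
    ((Module.Free.chooseBasis B F).reindex (Fintype.equivFin _)).equivFun
  exact isPC_of_iso ((G φ).mapIso e.toModuleIso).symm (isPC_G_pi φ hB _ j)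

/-- (⇒) -/
lemma isPC_restrictD (hB : BPC φ) (K : Dual.D B) (m : ℤ) (h : DRing.IsPseudoCoherent B m K) :
    DRing.IsPseudoCoherent A m ((DRing.restrictD φ).obj K) := by
  obtain ⟨E, a, b, α, hE, hff, h1, h2⟩ := h
  have hα : Conn m α := ⟨h1, h2⟩
  refine isPC_of_conn ((DRing.restrictD φ).map α) ((conn_restrictD_iff φ α m).2 hα) ?_
  refine isPC_of_iso (restrictQIso φ E).symm ?_
  refine Groth.Agent.S6938.isPC_of_termwise m _ b (fun i hi => ?_) (fun i => ?_)
  · exact (ModuleCat.restrictScalars.{u} φ).map_isZero (hE i (Or.inr hi))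
  · exact isPC_G_of_FF φ hB (E.X i) (hff i) (m - i)


/-- homology commutes with restriction of scalars (chain level) -/
noncomputable def homologyRestrictCxIso (E : DRing.Cx B) (n : ℤ) :
    ((DRing.restrictCx φ).obj E).homology n ≅
      (ModuleCat.restrictScalars.{u} φ).obj (E.homology n) :=
  ShortComplex.mapHomologyIso (E.sc n) (ModuleCat.restrictScalars.{u} φ)

/-- homology commutes with restriction of scalars (derived level, objectwise) -/
noncomputable def homologyRestrictDIso (E : DRing.Cx B) (n : ℤ) :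
    (homologyFunctor (ModuleCat.{u} A) n).obj ((DRing.restrictD φ).obj (Q.obj E)) ≅
      (ModuleCat.restrictScalars.{u} φ).obj ((homologyFunctor (ModuleCat.{u} B) n).obj (Q.obj E)) :=
  (homologyFunctor (ModuleCat.{u} A) n).mapIso (restrictQIso φ E) ≪≫
    (homologyFunctorFactors (ModuleCat.{u} A) n).app _ ≪≫ homologyRestrictCxIso φ E n ≪≫
    (ModuleCat.restrictScalars.{u} φ).mapIso ((homologyFunctorFactors (ModuleCat.{u} B) n).app E).symm

lemma finite_of_restrictScalars (M : ModuleCat.{u} B)
    (h : Module.Finite A ((ModuleCat.restrictScalars.{u} φ).obj M)) : Module.Finite B M := by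
  let : Algebra A B := φ.toAlgebra
  let : Module A M := Module.compHom M φ
  have : IsScalarTower A B M := ⟨fun a b x => by
    show (φ a * b) • x = φ a • (b • x)
    rw [mul_smul]⟩
  have h' : Module.Finite A M := h
  exact Module.Finite.of_restrictScalars_finite A B M

lemma finite_homology_of_restrictD (X : Dual.D B) (n : ℤ)
    (h : Module.Finite A ((homologyFunctor (ModuleCat.{u} A) n).obj ((DRing.restrictD φ).obj X))) :
    Module.Finite B ((homologyFunctor (ModuleCat.{u} B) n).obj X) := by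
  obtain ⟨E, ⟨e⟩⟩ : ∃ K : DRing.Cx B, Nonempty (Q.obj K ≅ X) := ⟨_, ⟨(Q.objObjPreimageIso X)⟩⟩
  have e1 : (homologyFunctor (ModuleCat.{u} A) n).obj ((DRing.restrictD φ).obj X) ≅
      (ModuleCat.restrictScalars.{u} φ).obj ((homologyFunctor (ModuleCat.{u} B) n).obj X) :=
    (homologyFunctor (ModuleCat.{u} A) n).mapIso ((DRing.restrictD φ).mapIso e.symm) ≪≫
      homologyRestrictDIso φ E n ≪≫
      (ModuleCat.restrictScalars.{u} φ).mapIso ((homologyFunctor (ModuleCat.{u} B) n).mapIso e)
  have h2 : Module.Finite A ((ModuleCat.restrictScalars.{u} φ).obj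
      ((homologyFunctor (ModuleCat.{u} B) n).obj X)) :=
    Module.Finite.equiv e1.toLinearEquiv
  exact finite_of_restrictScalars φ _ h2


/-- restriction of a single -/
noncomputable def restrictDSingleIso (F : ModuleCat.{u} B) (n : ℤ) :
    (DRing.restrictD φ).obj ((DerivedCategory.singleFunctor (ModuleCat.{u} B) n).obj F) ≅
      (DerivedCategory.singleFunctor (ModuleCat.{u} A) n).obj ((ModuleCat.restrictScalars.{u} φ).obj F) :=
  ((ModuleCat.restrictScalars.{u} φ).mapDerivedCategorySingleFunctor n).app F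

lemma isPC_of_restrictD_aux (hB : BPC φ) (m : ℤ) (k : ℕ) : ∀ (K : Dual.D B) (n : ℤ),
    n < m + k → K.IsLE n → DRing.IsPseudoCoherent A m ((DRing.restrictD φ).obj K) →
    DRing.IsPseudoCoherent B m K := by
  induction k with
  | zero =>
    intro K n hn hK _
    have : K.IsLE (m - 1) := tt.isLE_of_le K n (m - 1) (by push_cast at hn; lia)
    exact isPC_of_isLE m K
  | succ k ih =>
    intro K n hn hK h
    by_cases hn' : n < m + k
    · exact ih K n hn' hK h
    have hmn : m ≤ n := by lia
    have hKA : ((DRing.restrictD φ).obj K).IsLE n := (isLE_restrictD_iff φ K n).2 hK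
    have hfinA := (Groth.Agent.S2068.result ((DRing.restrictD φ).obj K) n (isPC_mono hmn h)).1
      (fun i hi => (DerivedCategory.isLE_iff _ n).1 hKA i hi)
    have hfinB := finite_homology_of_restrictD φ K n hfinA
    obtain ⟨F, ψ, hF, hψ⟩ := exists_single_conn K n hfinB
    obtain ⟨K', v, w, hT⟩ := distinguished_cocone_triangle ψ
    have hK' : K'.IsLE (n - 1) := (conn_iff_of_distTriang _ hT n).1 hψ
    have hT' := (DRing.restrictD φ).map_distinguished _ hT
    have h1 : DRing.IsPseudoCoherent A (m + 1)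
        ((DRing.restrictD φ).obj ((DerivedCategory.singleFunctor (ModuleCat.{u} B) n).obj F)) := by
      refine isPC_of_iso (restrictDSingleIso φ F n).symm ?_
      have h0 := Groth.Agent.S6938.isPC_single_shift ((ModuleCat.restrictScalars.{u} φ).obj F)
        (m + 1 - n) n (isPC_G_of_FF φ hB F hF (m + 1 - n))
      rwa [show m + 1 - n + n = m + 1 by ring] at h0
    have h' : DRing.IsPseudoCoherent A m ((DRing.restrictD φ).obj K') :=
      isPC_obj₃ _ hT' m h1 h
    have hK'pc := ih K' (n - 1) (by push_cast at hn; lia) hK' h'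
    exact isPC_obj₂ _ hT m (isPC_of_rep m (rep_single F hF n)) hK'pc

lemma exists_isLE_of_isPC (m : ℤ) (K : DerivedCategory (ModuleCat.{u} A))
    (h : DRing.IsPseudoCoherent A m K) : ∃ n : ℤ, K.IsLE n := by
  obtain ⟨E, a, b, α, hE, hff, h1, h2⟩ := h
  have hEle : E.IsStrictlyLE b := by
    rw [CochainComplex.isStrictlyLE_iff]
    exact fun i hi => hE i (Or.inr hi)
  have hQle : (Q.obj E).IsLE b := inferInstance
  refine ⟨max b m, ?_⟩
  rw [DerivedCategory.isLE_iff]
  intro i hi
  have := h1 i (by have := le_max_right b m; lia)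
  exact IsZero.of_iso ((DerivedCategory.isLE_iff _ b).1 hQle i
    (by have := le_max_left b m; lia)) (asIso ((homologyFunctor _ i).map α)).symm

/-- Stacks 064Z -/
theorem isPC_restrictD_iff (hB : BPC φ) (K : Dual.D B) (m : ℤ) :
    DRing.IsPseudoCoherent B m K ↔ DRing.IsPseudoCoherent A m ((DRing.restrictD φ).obj K) := by
  refine ⟨isPC_restrictD φ hB K m, fun h => ?_⟩
  obtain ⟨n, hn⟩ := exists_isLE_of_isPC m _ h
  have hK : K.IsLE n := (isLE_restrictD_iff φ K n).1 hn
  exact isPC_of_restrictD_aux φ hB m (n - m + 1).toNat K n (by lia) hK h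

theorem isPC'_restrictD_iff (hB : BPC φ) (K : Dual.D B) :
    DRing.IsPseudoCoherent' B K ↔ DRing.IsPseudoCoherent' A ((DRing.restrictD φ).obj K) := by
  constructor
  · intro h
    exact isPseudoCoherent'_of_forall _ (fun m =>
      (isPC_restrictD_iff φ hB K m).1 (Groth.Agent.S6938.isPC_of_pc' K h m))
  · intro h
    exact isPseudoCoherent'_of_forall _ (fun m =>
      (isPC_restrictD_iff φ hB K m).2 (Groth.Agent.S6938.isPC_of_pc' _ h m))

section
variable {A B : Type u} [CommRing A] [CommRing B] [Algebra A B]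
  (N : Type u) [AddCommGroup N] [Module B N] [Module A N] [IsScalarTower A B N]

/-- restriction along `algebraMap` agrees with the given `A`-module structure -/
def restrictToOf :
    ((ModuleCat.restrictScalars.{u} (algebraMap A B)).obj (ModuleCat.of B N)) →ₗ[A] N where
  toFun x := x
  map_add' _ _ := rfl
  map_smul' a x := by
    show (algebraMap A B a) • (show N from x) = a • (show N from x)
    rw [algebraMap_smul]

def ofToRestrict :
    N →ₗ[A] ((ModuleCat.restrictScalars.{u} (algebraMap A B)).obj (ModuleCat.of B N)) where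
  toFun x := x
  map_add' _ _ := rfl
  map_smul' a x := by
    show a • (show N from x) = (algebraMap A B a) • (show N from x)
    rw [algebraMap_smul]

noncomputable def restrictScalarsAlgebraIso :
    (ModuleCat.restrictScalars.{u} (algebraMap A B)).obj (ModuleCat.of B N) ≅ ModuleCat.of A N where
  hom := ConcreteCategory.ofHom (C := ModuleCat.{u} A) (restrictToOf N)
  inv := ConcreteCategory.ofHom (C := ModuleCat.{u} A) (ofToRestrict N)
  hom_inv_id := rfl
  inv_hom_id := rfl

end

lemma bpc_of_algebra {A B : Type u} [CommRing A] [CommRing B] [Algebra A B]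
    (hB : DRing.IsPseudoCoherentModule' A B) : BPC (algebraMap A B) := by
  intro j
  exact isPC_of_iso ((DerivedCategory.singleFunctor (ModuleCat.{u} A) 0).mapIso
    (restrictScalarsAlgebraIso (A := A) (B := B) B)).symm
    (Groth.Agent.S6938.isPC_of_pc' _ hB j)

end Groth.Agent.Lib.Helper1.Restrict
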