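import Mathlib
import Groth.Prelude.Def_DDual2
import Groth.Agent.Lib.Helper1Restrict

set_option autoImplicit false
universe u
open CategoryTheory CategoryTheory.Limits
attribute [local instance] HasDerivedCategory.standard

namespace Groth.Agent.Lib.Helper1.Extend

open DerivedCategory Pretriangulated Groth.Agent.Lib.Helper1.Cone Groth.Agent.S7017
open Groth.Agent.S14388 ZeroObject Groth.Agent.Lib.Helper1.PC Groth.Agent.Lib.Helper1.PCTower
open Groth.Agent.Lib.Helper1.Restrict

section ExactFunctor

variable {A B : Type u} [CommRing A] [CommRing B]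
  (F : ModuleCat.{u} A ⥤ ModuleCat.{u} B) [F.Additive] [PreservesFiniteLimits F]
  [PreservesFiniteColimits F]

noncomputable def mapQIso (K : DRing.Cx A) :
    F.mapDerivedCategory.obj (Q.obj K) ≅ Q.obj ((F.mapHomologicalComplex (ComplexShape.up ℤ)).obj K) :=
  F.mapDerivedCategoryFactors.app K

lemma exactAt_map (K : DRing.Cx A) (i : ℤ) (h : K.ExactAt i) :
    ((F.mapHomologicalComplex (ComplexShape.up ℤ)).obj K).ExactAt i := by
  rw [HomologicalComplex.exactAt_iff] at h ⊢
  exact h.map F

lemma isLE_map (X : Dual.D A) (n : ℤ) (h : X.IsLE n) : (F.mapDerivedCategory.obj X).IsLE n := by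
  obtain ⟨K, ⟨e⟩⟩ : ∃ K : DRing.Cx A, Nonempty (Q.obj K ≅ X) := ⟨_, ⟨(Q.objObjPreimageIso X)⟩⟩
  have e' : F.mapDerivedCategory.obj X ≅ Q.obj ((F.mapHomologicalComplex (ComplexShape.up ℤ)).obj K) :=
    F.mapDerivedCategory.mapIso e.symm ≪≫ mapQIso F K
  have h1 : (Q.obj K).IsLE n := tt.isLE_of_iso e.symm n
  rw [DerivedCategory.isLE_Q_obj_iff, CochainComplex.isLE_iff] at h1
  have h2 : CochainComplex.IsLE ((F.mapHomologicalComplex (ComplexShape.up ℤ)).obj K) n := by
    rw [CochainComplex.isLE_iff]
    exact fun i hi => exactAt_map F K i (h1 i hi)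
  have : (Q.obj ((F.mapHomologicalComplex (ComplexShape.up ℤ)).obj K)).IsLE n :=
    (DerivedCategory.isLE_Q_obj_iff _ _).2 h2
  exact tt.isLE_of_iso e'.symm n

lemma isGE_map (X : Dual.D A) (n : ℤ) (h : X.IsGE n) : (F.mapDerivedCategory.obj X).IsGE n := by
  obtain ⟨K, ⟨e⟩⟩ : ∃ K : DRing.Cx A, Nonempty (Q.obj K ≅ X) := ⟨_, ⟨(Q.objObjPreimageIso X)⟩⟩
  have e' : F.mapDerivedCategory.obj X ≅ Q.obj ((F.mapHomologicalComplex (ComplexShape.up ℤ)).obj K) :=
    F.mapDerivedCategory.mapIso e.symm ≪≫ mapQIso F K
  have h1 : (Q.obj K).IsGE n := tt.isGE_of_iso e.symm n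
  rw [DerivedCategory.isGE_Q_obj_iff, CochainComplex.isGE_iff] at h1
  have h2 : CochainComplex.IsGE ((F.mapHomologicalComplex (ComplexShape.up ℤ)).obj K) n := by
    rw [CochainComplex.isGE_iff]
    exact fun i hi => exactAt_map F K i (h1 i hi)
  have : (Q.obj ((F.mapHomologicalComplex (ComplexShape.up ℤ)).obj K)).IsGE n :=
    (DerivedCategory.isGE_Q_obj_iff _ _).2 h2
  exact tt.isGE_of_iso e'.symm n

lemma conn_map {X Y : Dual.D A} (α : X ⟶ Y) (m : ℤ) (h : Conn m α) :
    Conn m (F.mapDerivedCategory.map α) := by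
  obtain ⟨Z, v, w, hT⟩ := distinguished_cocone_triangle α
  have hT' := F.mapDerivedCategory.map_distinguished _ hT
  have h1 := conn_iff_of_distTriang _ hT m
  have h2 := conn_iff_of_distTriang _ hT' m
  exact h2.2 (isLE_map F Z (m - 1) (h1.1 h))

/-- image of a single -/
noncomputable def mapSingleIso (M : ModuleCat.{u} A) (n : ℤ) :
    F.mapDerivedCategory.obj ((DerivedCategory.singleFunctor (ModuleCat.{u} A) n).obj M) ≅
      (DerivedCategory.singleFunctor (ModuleCat.{u} B) n).obj (F.obj M) :=
  (F.mapDerivedCategorySingleFunctor n).app M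

/-- homology commutes with exact functors (chain level) -/
noncomputable def homologyMapCxIso (E : DRing.Cx A) (n : ℤ) :
    ((F.mapHomologicalComplex (ComplexShape.up ℤ)).obj E).homology n ≅ F.obj (E.homology n) :=
  ShortComplex.mapHomologyIso (E.sc n) F

/-- homology commutes with exact functors (derived level, objectwise) -/
noncomputable def homologyMapDIso (X : Dual.D A) (n : ℤ) :
    (homologyFunctor (ModuleCat.{u} B) n).obj (F.mapDerivedCategory.obj X) ≅
      F.obj ((homologyFunctor (ModuleCat.{u} A) n).obj X) :=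
  (homologyFunctor (ModuleCat.{u} B) n).mapIso
      (F.mapDerivedCategory.mapIso (Q.objObjPreimageIso X).symm ≪≫ mapQIso F _) ≪≫
    (homologyFunctorFactors (ModuleCat.{u} B) n).app _ ≪≫ homologyMapCxIso F _ n ≪≫
    F.mapIso (((homologyFunctorFactors (ModuleCat.{u} A) n).app _).symm ≪≫
      (homologyFunctor (ModuleCat.{u} A) n).mapIso (Q.objObjPreimageIso X))

end ExactFunctor

section Ext

variable (A B : Type u) [CommRing A] [CommRing B] [Algebra A B]

/-- extension of scalars along `algebraMap` -/
noncomputable abbrev ext : ModuleCat.{u} A ⥤ ModuleCat.{u} B :=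
  ModuleCat.extendScalars.{u, u, u} (algebraMap A B)

instance [Module.Flat A B] : PreservesFiniteLimits (ext A B) :=
  ModuleCat.preservesFiniteLimits_extendScalars_of_flat
    ((RingHom.flat_algebraMap_iff (R := A) (S := B)).2 inferInstance)

instance : PreservesFiniteColimits (ext A B) := by
  have : (ext A B).IsLeftAdjoint := (ModuleCat.extendRestrictScalarsAdj (algebraMap A B)).isLeftAdjoint
  infer_instance

variable {A} in
/-- `B` with `A`-module structure via restriction is `B` -/
noncomputable def e₀ : ((ModuleCat.restrictScalars.{u} (algebraMap A B)).obj (ModuleCat.of B B)) ≃ₗ[A] B :=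
  LinearEquiv.ofLinearMap (restrictToOf (A := A) (B := B) B) (ofToRestrict (A := A) (B := B) B) rfl rfl

variable {A B} in
noncomputable def c₀ (M : Type u) [AddCommGroup M] [Module A M] :
    TensorProduct A ((ModuleCat.restrictScalars.{u} (algebraMap A B)).obj (ModuleCat.of B B)) M ≃ₗ[A]
      TensorProduct A B M :=
  TensorProduct.congr (e₀ B) (LinearEquiv.refl A M)

variable {A B} in
lemma c₀_tmul (M : Type u) [AddCommGroup M] [Module A M] (b : B) (m : M) :
    c₀ (A := A) (B := B) M (TensorProduct.tmul A (show ((ModuleCat.restrictScalars.{u} (algebraMap A B)).obj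
      (ModuleCat.of B B)) from b) m) = TensorProduct.tmul A b m := rfl

variable {A B} in
/-- the `B`-linear identification of `extendScalars` with the tensor product -/
noncomputable def extEquiv (M : Type u) [AddCommGroup M] [Module A M] :
    ((ext A B).obj (ModuleCat.of A M)) ≃ₗ[B] TensorProduct A B M where
  toFun x := c₀ M x
  invFun y := (c₀ M).symm y
  left_inv x := (c₀ M).symm_apply_apply x
  right_inv y := (c₀ M).apply_symm_apply y
  map_add' x y := (c₀ M).map_add x y
  map_smul' b x := by
    show c₀ M (b • x) = b • c₀ M x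
    induction x using TensorProduct.induction_on with
    | zero =>
      have h1 : b • (0 : ((ext A B).obj (ModuleCat.of A M))) = 0 := smul_zero b
      have h2 : c₀ (A := A) (B := B) M 0 = 0 := map_zero _
      exact (congrArg (c₀ M) h1).trans (h2.trans ((congrArg (fun z => b • z) h2).trans (smul_zero b)).symm)
    | tmul b' m =>
      rfl
    | add x y hx hy =>
      have h1 : b • ((show ((ext A B).obj (ModuleCat.of A M)) from x) +
          (show ((ext A B).obj (ModuleCat.of A M)) from y)) = b • _ + b • _ := smul_add b _ _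
      have h2 : c₀ (A := A) (B := B) M (x + y) = c₀ M x + c₀ M y := map_add _ _ _
      refine (congrArg (c₀ M) h1).trans (((c₀ (A := A) (B := B) M).map_add _ _).trans ?_)
      refine (congrArg₂ (· + ·) hx hy).trans ?_
      exact ((congrArg (fun z => b • z) h2).trans (smul_add b _ _)).symm

variable {A B} in
noncomputable def extIso (M : Type u) [AddCommGroup M] [Module A M] :
    (ext A B).obj (ModuleCat.of A M) ≅ ModuleCat.of B (TensorProduct A B M) :=
  (extEquiv (A := A) (B := B) M).toModuleIso

variable {A B} in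
lemma FF_ext (F : ModuleCat.{u} A) (hF : FF F) : FF ((ext A B).obj F) := by
  have := hF.1
  have := hF.2
  refine FF_iso _ _ (extIso (A := A) (B := B) F).symm ⟨?_, ?_⟩
  · exact inferInstanceAs (Module.Finite B (TensorProduct A B F))
  · exact inferInstanceAs (Module.Free B (TensorProduct A B F))

end Ext


section Flat

variable {A B : Type u} [CommRing A] [CommRing B] [Algebra A B] [Module.Flat A B]

variable (A B) in
/-- derived extension of scalars along a flat map -/
noncomputable abbrev extD : Dual.D A ⥤ Dual.D B := (ext A B).mapDerivedCategory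

variable (A B) in
/-- termwise extension of scalars -/
noncomputable abbrev extCx : DRing.Cx A ⥤ DRing.Cx B :=
  (ext A B).mapHomologicalComplex (ComplexShape.up ℤ)

/-- image of a module -/
noncomputable def extDInDIso (M : Type u) [AddCommGroup M] [Module A M] :
    (extD A B).obj (Dual.inD A M) ≅ Dual.inD B (TensorProduct A B M) :=
  mapSingleIso (ext A B) (ModuleCat.of A M) 0 ≪≫
    (DerivedCategory.singleFunctor (ModuleCat.{u} B) 0).mapIso (extIso M)

theorem isPC_extD (K : Dual.D A) (m : ℤ) (h : DRing.IsPseudoCoherent A m K) :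
    DRing.IsPseudoCoherent B m ((extD A B).obj K) := by
  obtain ⟨E, a, b, α, hE, hff, h1, h2⟩ := h
  have hα : Conn m α := ⟨h1, h2⟩
  refine (isPC_iff m _).2 ⟨(extD A B).obj (Q.obj E), (extD A B).map α, ?_, conn_map _ α m hα⟩
  refine ⟨(extCx A B).obj E, ⟨b, fun i hi => ?_⟩, fun _ => ⟨a, fun i hi => ?_⟩, fun i => ?_,
    ⟨(mapQIso (ext A B) E).symm⟩⟩
  · exact (ext A B).map_isZero (hE i (Or.inr hi))
  · exact (ext A B).map_isZero (hE i (Or.inl hi))
  · exact FF_ext _ (hff i)

theorem isPC'_extD (K : Dual.D A) (h : DRing.IsPseudoCoherent' A K) :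
    DRing.IsPseudoCoherent' B ((extD A B).obj K) := by
  obtain ⟨E, b, hE, hff, ⟨e⟩⟩ := h
  refine ⟨(extCx A B).obj E, b, fun i hi => ?_, fun i => ?_,
    ⟨(mapQIso (ext A B) E).symm ≪≫ (extD A B).mapIso e⟩⟩
  · exact (ext A B).map_isZero (hE i hi)
  · exact FF_ext _ (hff i)

theorem isPerfect_extD (K : Dual.D A) (h : DRing.IsPerfect A K) :
    DRing.IsPerfect B ((extD A B).obj K) := by
  obtain ⟨E, a, b, hE, hP, ⟨e⟩⟩ := h
  refine ⟨(extCx A B).obj E, a, b, fun i hi => ?_, fun i => ?_,
    ⟨(mapQIso (ext A B) E).symm ≪≫ (extD A B).mapIso e⟩⟩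
  · exact (ext A B).map_isZero (hE i hi)
  · have := (hP i).1
    have := (hP i).2
    have e' := (extEquiv (A := A) (B := B) (E.X i))
    exact ⟨Module.Finite.equiv e'.symm, Module.Projective.of_equiv e'.symm⟩

theorem hasTorAmp_extD (K : Dual.D A) (a b : ℤ) (h : DRing.HasTorAmplitudeIn A a b K) :
    DRing.HasTorAmplitudeIn B a b ((extD A B).obj K) := by
  obtain ⟨E, hE, hP, ⟨e⟩⟩ := h
  refine ⟨(extCx A B).obj E, fun i hi => ?_, fun i => ?_,
    ⟨(mapQIso (ext A B) E).symm ≪≫ (extD A B).mapIso e⟩⟩
  · exact (ext A B).map_isZero (hE i hi)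
  · have := hP i
    have e' := (extEquiv (A := A) (B := B) (E.X i))
    exact Module.Flat.of_linearEquiv e'

end Flat

section FaithfullyFlat

variable {A B : Type u} [CommRing A] [CommRing B] [Algebra A B] [Module.FaithfullyFlat A B]

lemma isZero_of_isZero_ext (H : ModuleCat.{u} A) (h : IsZero ((ext A B).obj H)) : IsZero H := by
  have h1 : Subsingleton ((ext A B).obj H) := ModuleCat.subsingleton_of_isZero h
  have h2 : Subsingleton (TensorProduct A B H) :=
    (extEquiv (A := A) (B := B) H).symm.injective.subsingleton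
  have : Subsingleton H := Module.FaithfullyFlat.lTensor_reflects_triviality A B H
  exact ModuleCat.isZero_of_subsingleton H

lemma finite_of_finite_ext (H : ModuleCat.{u} A) (h : Module.Finite B ((ext A B).obj H)) :
    Module.Finite A H := by
  have : Module.Finite B (TensorProduct A B H) := Module.Finite.equiv (extEquiv (A := A) (B := B) H)
  exact Module.Finite.of_finite_tensorProduct_of_faithfullyFlat B

lemma isLE_of_extD (X : Dual.D A) (n : ℤ) (h : ((extD A B).obj X).IsLE n) : X.IsLE n := by
  rw [DerivedCategory.isLE_iff] at h ⊢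
  intro i hi
  exact isZero_of_isZero_ext _ ((h i hi).of_iso (homologyMapDIso (ext A B) X i).symm)

lemma finite_homology_of_extD (X : Dual.D A) (n : ℤ)
    (h : Module.Finite B ((homologyFunctor (ModuleCat.{u} B) n).obj ((extD A B).obj X))) :
    Module.Finite A ((homologyFunctor (ModuleCat.{u} A) n).obj X) :=
  finite_of_finite_ext _ (Module.Finite.equiv (homologyMapDIso (ext A B) X n).toLinearEquiv)

lemma isPC_of_extD_aux (m : ℤ) (k : ℕ) : ∀ (K : Dual.D A) (n : ℤ),
    n < m + k → K.IsLE n → DRing.IsPseudoCoherent B m ((extD A B).obj K) →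
    DRing.IsPseudoCoherent A m K := by
  induction k with
  | zero =>
    intro K n hn hK _
    have : K.IsLE (m - 1) := tt.isLE_of_le K n (m - 1) (by push_cast at hn; lia)
    exact isPC_of_isLE m K
  | succ k ih =>
    intro K n hn hK h
    by_cases hn' : n < m + k
    · exact ih K n hn' hK h
    have hmn : m ≤ n := by lia
    have hKB : ((extD A B).obj K).IsLE n := isLE_map (ext A B) K n hK
    have hfinB := (Groth.Agent.S2068.result ((extD A B).obj K) n (isPC_mono hmn h)).1
      (fun i hi => (DerivedCategory.isLE_iff _ n).1 hKB i hi)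
    have hfinA := finite_homology_of_extD K n hfinB
    obtain ⟨F, ψ, hF, hψ⟩ := exists_single_conn K n hfinA
    obtain ⟨K', v, w, hT⟩ := distinguished_cocone_triangle ψ
    have hK' : K'.IsLE (n - 1) := (conn_iff_of_distTriang _ hT n).1 hψ
    have hT' := (extD A B).map_distinguished _ hT
    have h1 : DRing.IsPseudoCoherent B (m + 1)
        ((extD A B).obj ((DerivedCategory.singleFunctor (ModuleCat.{u} A) n).obj F)) :=
      isPC_of_iso (mapSingleIso (ext A B) F n).symm
        (isPC_of_rep (m + 1) (rep_single _ (FF_ext F hF) n))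
    have h' : DRing.IsPseudoCoherent B m ((extD A B).obj K') := isPC_obj₃ _ hT' m h1 h
    have hK'pc := ih K' (n - 1) (by push_cast at hn; lia) hK' h'
    exact isPC_obj₂ _ hT m (isPC_of_rep m (rep_single F hF n)) hK'pc

/-- Stacks 068R -/
theorem isPC_of_extD (K : Dual.D A) (m : ℤ) (h : DRing.IsPseudoCoherent B m ((extD A B).obj K)) :
    DRing.IsPseudoCoherent A m K := by
  obtain ⟨n, hn⟩ := exists_isLE_of_isPC m _ h
  have hK : K.IsLE n := isLE_of_extD K n hn
  exact isPC_of_extD_aux m (n - m + 1).toNat K n (by lia) hK h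

theorem isPC'_of_extD (K : Dual.D A) (h : DRing.IsPseudoCoherent' B ((extD A B).obj K)) :
    DRing.IsPseudoCoherent' A K :=
  isPseudoCoherent'_of_forall _ (fun m => isPC_of_extD K m (Groth.Agent.S6938.isPC_of_pc' _ h m))

end FaithfullyFlat

end Groth.Agent.Lib.Helper1.Extend
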