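import Mathlib
import Groth.Agent.Lib.Helper1LDer
import Groth.Agent.Lib.Helper1Extend

/-!
# Derived base change computed on K-projective complexes (helper1)

`lbcCounit φ : Q ⋙ LBaseChange φ ⟶ bcCx φ ⋙ Q` is an isomorphism at K-projective complexes
(`lbcIso`), in particular at bounded above complexes of projective modules.
-/

set_option autoImplicit false

namespace Groth.Agent.Lib.Helper1.LDer

open CategoryTheory Limits DerivedCategory

universe u

attribute [local instance] HasDerivedCategory.standard

section LBC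

variable {A B : Type u} [CommRing A] [CommRing B] (φ : A →+* B)

/-- termwise base change of complexes. -/
noncomputable abbrev bcCx : CochainComplex (ModuleCat.{u} A) ℤ ⥤ CochainComplex (ModuleCat.{u} B) ℤ :=
  (ModuleCat.extendScalars.{u, u, u} φ).mapHomologicalComplex (ComplexShape.up ℤ)

variable [DRing.HasLBaseChange φ]

/-- The canonical map `K ⊗^L B ⟶ K ⊗ B` (natural in the complex `K`). -/
noncomputable def lbcCounit :
    (DerivedCategory.Q ⋙ DRing.LBaseChange φ : CochainComplex (ModuleCat.{u} A) ℤ ⥤ _) ⟶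
      bcCx φ ⋙ DerivedCategory.Q :=
  (Functor.whiskerLeft (HomotopyCategory.quotient _ _)
    ((DRing.baseChangeKh φ).totalLeftDerivedCounit Qh
      (HomotopyCategory.quasiIso (ModuleCat.{u} A) (ComplexShape.up ℤ))) :) ≫
  (Functor.whiskerRight ((ModuleCat.extendScalars.{u, u, u} φ).mapHomotopyCategoryFactors
    (ComplexShape.up ℤ)).hom Qh :)

instance isIso_lbcCounit_app (P : CochainComplex (ModuleCat.{u} A) ℤ) [P.IsKProjective] :
    IsIso ((lbcCounit φ).app P) := by
  have := isIso_counit_app_of_isKProjective (DRing.baseChangeKh φ) (DRing.LBaseChange φ)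
    ((DRing.baseChangeKh φ).totalLeftDerivedCounit Qh
      (HomotopyCategory.quasiIso (ModuleCat.{u} A) (ComplexShape.up ℤ))) P
  dsimp [lbcCounit]
  have h2 : IsIso (Qh.map (((ModuleCat.extendScalars.{u, u, u} φ).mapHomotopyCategoryFactors
      (ComplexShape.up ℤ)).hom.app P)) := inferInstance
  exact IsIso.comp_isIso' this h2

/-- `K ⊗^L B ≅ K ⊗ B` for K-projective `K`. -/
noncomputable def lbcIso (P : CochainComplex (ModuleCat.{u} A) ℤ) [P.IsKProjective] :
    (DRing.LBaseChange φ).obj (DerivedCategory.Q.obj P) ≅ DerivedCategory.Q.obj ((bcCx φ).obj P) :=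
  asIso ((lbcCounit φ).app P)

lemma lbcIso_hom_naturality {P P' : CochainComplex (ModuleCat.{u} A) ℤ} [P.IsKProjective]
    [P'.IsKProjective] (f : P ⟶ P') :
    (DRing.LBaseChange φ).map (DerivedCategory.Q.map f) ≫ (lbcIso φ P').hom =
      (lbcIso φ P).hom ≫ DerivedCategory.Q.map ((bcCx φ).map f) :=
  (lbcCounit φ).naturality f

end LBC

section Terms

variable {A B : Type u} [CommRing A] [CommRing B] (φ : A →+* B)

/-- a bounded above complex of projective modules is K-projective. -/
lemma isKProjective_of_vanishesAbove (E : DRing.Cx A) (b : ℤ) (hb : DRing.VanishesAbove E b)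
    (hp : ∀ i : ℤ, Module.Projective A (E.X i)) : E.IsKProjective := by
  have hEle : E.IsStrictlyLE b := by
    rw [CochainComplex.isStrictlyLE_iff]
    exact hb
  have : ∀ i : ℤ, Projective (E.X i) := fun i =>
    have := hp i
    ModuleCat.projective_of_categoryTheory_projective _
  exact CochainComplex.isKProjective_of_projective E b

/-- the `B`-linear identification of `extendScalars φ` with the tensor product. -/
noncomputable def bcEquiv (M : ModuleCat.{u} A) :
    letI := φ.toAlgebra
    ((ModuleCat.extendScalars.{u, u, u} φ).obj M) ≃ₗ[B] TensorProduct A B M :=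
  letI := φ.toAlgebra
  Groth.Agent.Lib.Helper1.Extend.extEquiv (A := A) (B := B) M

lemma finite_bc (M : ModuleCat.{u} A) [Module.Finite A M] :
    Module.Finite B ((ModuleCat.extendScalars.{u, u, u} φ).obj M) := by
  let _ := φ.toAlgebra
  exact Module.Finite.equiv (bcEquiv φ M).symm

lemma projective_bc (M : ModuleCat.{u} A) [Module.Projective A M] :
    Module.Projective B ((ModuleCat.extendScalars.{u, u, u} φ).obj M) := by
  let _ := φ.toAlgebra
  exact Module.Projective.of_equiv (bcEquiv φ M).symm

lemma free_bc (M : ModuleCat.{u} A) [Module.Free A M] :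
    Module.Free B ((ModuleCat.extendScalars.{u, u, u} φ).obj M) := by
  let _ := φ.toAlgebra
  exact Module.Free.of_equiv (bcEquiv φ M).symm

lemma flat_bc (M : ModuleCat.{u} A) [Module.Flat A M] :
    Module.Flat B ((ModuleCat.extendScalars.{u, u, u} φ).obj M) := by
  let _ := φ.toAlgebra
  exact Module.Flat.of_linearEquiv (bcEquiv φ M)

lemma vanishesAbove_bc (E : DRing.Cx A) (b : ℤ) (hb : DRing.VanishesAbove E b) :
    DRing.VanishesAbove ((bcCx φ).obj E) b :=
  fun i hi => (ModuleCat.extendScalars.{u, u, u} φ).map_isZero (hb i hi)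

lemma vanishesOutside_bc (E : DRing.Cx A) (a b : ℤ) (h : DRing.VanishesOutside E a b) :
    DRing.VanishesOutside ((bcCx φ).obj E) a b :=
  fun i hi => (ModuleCat.extendScalars.{u, u, u} φ).map_isZero (h i hi)

lemma termwiseFiniteFree_bc (E : DRing.Cx A) (h : DRing.TermwiseFiniteFree E) :
    DRing.TermwiseFiniteFree ((bcCx φ).obj E) := fun i =>
  have := (h i).1
  have := (h i).2
  ⟨finite_bc φ (E.X i), free_bc φ (E.X i)⟩

lemma termwiseFiniteProjective_bc (E : DRing.Cx A) (h : DRing.TermwiseFiniteProjective E) :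
    DRing.TermwiseFiniteProjective ((bcCx φ).obj E) := fun i =>
  have := (h i).1
  have := (h i).2
  ⟨finite_bc φ (E.X i), projective_bc φ (E.X i)⟩

lemma termwiseFlat_bc (E : DRing.Cx A) (h : DRing.TermwiseFlat E) :
    DRing.TermwiseFlat ((bcCx φ).obj E) := fun i =>
  have := h i
  flat_bc φ (E.X i)

end Terms

end Groth.Agent.Lib.Helper1.LDer
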