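import Mathlib
import Groth.Agent.Lib.Helper10RGamG
import Groth.Agent.Lib.Helper1LBC
import Groth.Agent.Lib.Helper1KF8
set_option backward.isDefEq.respectTransparency.types false
set_option backward.isDefEq.respectTransparency false

/-!
# `Dual2.HDI` and flat base change (helper10)

`hdi_flat`: for a flat map `A → B` of Noetherian rings, `H^i_{IB}(K ⊗^L_A B) ≅ B ⊗_A H^i_I(K)`.
Key inputs: `exists_of_mem_torsionSub_ext` (`Γ_{IB}(B ⊗ M) = B ⊗ Γ_I M` for flat `B`),
`good_ext` (flat base change of an injective module is `Good`), `gammaExtIso`,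
`isIso_lbcCounit_app_of_flat` (flat base change is computed termwise on every complex).
-/


set_option autoImplicit false
set_option maxHeartbeats 400000
universe u v w
open CategoryTheory CategoryTheory.Limits HomologicalComplex ChangeOfRings
attribute [local instance] HasDerivedCategory.standard

namespace Groth.Agent.Lib.Helper10.RGamH

open DerivedCategory Groth.Agent.Lib.Helper10.RGamA Groth.Agent.Lib.Helper10.RGamB
  Groth.Agent.Lib.Helper10.RGamE Groth.Agent.Lib.Helper10.RGamF Groth.Agent.Lib.Helper10.RGamG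
  Groth.Agent.Lib.Helper17.KInj

variable {A B : Type u} [CommRing A] [CommRing B] (φ : A →+* B)

/-- extension of scalars -/
noncomputable abbrev ext : ModuleCat.{u} A ⥤ ModuleCat.{u} B := ModuleCat.extendScalars.{u, u, u} φ

lemma ext_induction {M : ModuleCat.{u} A} {P : (ext φ).obj M → Prop} (z : (ext φ).obj M)
    (h0 : P 0) (ht : ∀ (s : B) (m : M), P (s ⊗ₜ[A,φ] m))
    (ha : ∀ x y : (ext φ).obj M, P x → P y → P (x + y)) : P z :=
  TensorProduct.induction_on (motive := fun z => P z) z h0 ht ha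

lemma ext_map_smul (a : A) (M : ModuleCat.{u} A) (z : (ext φ).obj M) :
    ((ext φ).map (a • 𝟙 M)).hom z = φ a • z := by
  refine ext_induction φ (P := fun z => ((ext φ).map (a • 𝟙 M)).hom z = φ a • z) z ?_ ?_ ?_
  · rw [map_zero, smul_zero]
  · intro s m
    exact (TensorProduct.smul_tmul a
      (show (ModuleCat.restrictScalars φ).obj (ModuleCat.of B B) from s) m).symm
  · intro x y hx hy
    rw [map_add, smul_add, hx, hy]


lemma smul_tmul_eq (a : A) {M : ModuleCat.{u} A} (s : B) (x : M) :
    (φ a • (s ⊗ₜ[A,φ] x : (ext φ).obj M)) = s ⊗ₜ[A,φ] (a • x) := by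
  have h := ext_map_smul φ a M (s ⊗ₜ[A,φ] x)
  exact h.symm

/-- pure tensors in `B ⊗ M` -/
noncomputable def tm {M : ModuleCat.{u} A} (s : B) (x : M) : (ext φ).obj M := s ⊗ₜ[A,φ] x

lemma smul_tm (a : A) {M : ModuleCat.{u} A} (s : B) (x : M) :
    φ a • tm φ s x = tm φ s (a • x) := smul_tmul_eq φ a s x

lemma tm_sub {M : ModuleCat.{u} A} (s : B) (x x' : M) :
    tm φ s (x - x') = tm φ s x - tm φ s x' := TensorProduct.tmul_sub _ _ _

lemma tm_zero {M : ModuleCat.{u} A} (s : B) : tm φ s (0 : M) = 0 := TensorProduct.tmul_zero _ _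

instance : (ext φ).Additive := (ModuleCat.extendRestrictScalarsAdj φ).left_adjoint_additive

lemma preservesFiniteColimits_ext : PreservesFiniteColimits (ext φ) := by
  haveI : PreservesColimitsOfSize.{0, 0} (ext φ) :=
    (ModuleCat.extendRestrictScalarsAdj φ).leftAdjoint_preservesColimits
  exact PreservesColimitsOfSize.preservesFiniteColimits _

variable (I : Ideal A)

/-- the image of `B ⊗ Γ_I M` in `B ⊗ M` is `IB`-power torsion -/
lemma ext_ι_mem (M : ModuleCat.{u} A) (w : (ext φ).obj ((DRing.gammaI I).obj M)) :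
    ((ext φ).map ((DRing.gammaIι I).app M)).hom w ∈
      DRing.torsionSub (I.map φ) ((ext φ).obj M) := by
  refine ext_induction φ (P := fun w => ((ext φ).map ((DRing.gammaIι I).app M)).hom w ∈
      DRing.torsionSub (I.map φ) ((ext φ).obj M)) w ?_ ?_ ?_
  · rw [map_zero]
    exact zero_mem _
  · intro s e
    obtain ⟨n, hn⟩ := (e : DRing.torsionSub I M).2
    refine ⟨n, fun b hb => ?_⟩
    rw [← Ideal.map_pow] at hb
    change b • (s ⊗ₜ[A,φ] (e : DRing.torsionSub I M).1 : (ext φ).obj M) = 0
    refine Submodule.span_induction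
      (p := fun b _ => b • (s ⊗ₜ[A,φ] (e : DRing.torsionSub I M).1 : (ext φ).obj M) = 0)
      ?_ ?_ ?_ ?_ hb
    · rintro _ ⟨a, ha, rfl⟩
      rw [smul_tmul_eq, hn a ha, TensorProduct.tmul_zero]
    · exact zero_smul _ _
    · intro b b' _ _ hb hb'
      rw [add_smul, hb, hb', add_zero]
    · intro c b _ hb
      rw [smul_eq_mul, mul_smul, hb, smul_zero]
  · intro x y hx hy
    rw [map_add]
    exact add_mem hx hy


/-- for flat `φ` and finitely generated `I`, every `IB`-power torsion element of `B ⊗ M` comes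
from `B ⊗ Γ_I M` -/
lemma exists_of_mem_torsionSub_ext (hφ : φ.Flat) (hI : I.FG) (M : ModuleCat.{u} A)
    (y : (ext φ).obj M) (hy : y ∈ DRing.torsionSub (I.map φ) ((ext φ).obj M)) :
    ∃ w : (ext φ).obj ((DRing.gammaI I).obj M),
      ((ext φ).map ((DRing.gammaIι I).app M)).hom w = y := by
  classical
  haveI : PreservesFiniteLimits (ext φ) := ModuleCat.preservesFiniteLimits_extendScalars_of_flat hφ
  haveI : PreservesFiniteColimits (ext φ) := preservesFiniteColimits_ext φ
  obtain ⟨n, hn⟩ := hy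
  obtain ⟨s, hs⟩ := (hI.pow (n := n))
  let N : Submodule A M :=
    { carrier := {m | ∀ g ∈ s, g • m = 0}
      zero_mem' := fun g _ => smul_zero g
      add_mem' := fun {m m'} hm hm' g hg => by rw [smul_add, hm g hg, hm' g hg, add_zero]
      smul_mem' := fun c m hm g hg => by rw [smul_comm, hm g hg, smul_zero] }
  have hN : N ≤ DRing.torsionSub I M := by
    intro m hm
    refine ⟨n, fun a ha => ?_⟩
    rw [← hs] at ha
    refine Submodule.span_induction (p := fun a _ => a • m = 0) ?_ ?_ ?_ ?_ ha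
    · intro g hg
      exact hm g hg
    · exact zero_smul _ _
    · intro b b' _ _ hb hb'
      rw [add_smul, hb, hb', add_zero]
    · intro c b _ hb
      rw [smul_eq_mul, mul_smul, hb, smul_zero]
  let ψ : M ⟶ ModuleCat.of A (s → M) :=
    ModuleCat.ofHom (LinearMap.pi fun g : s => (g : A) • LinearMap.id)
  let S : ShortComplex (ModuleCat.{u} A) :=
    ShortComplex.mk (ModuleCat.ofHom N.subtype) ψ (by
      refine ModuleCat.hom_ext (LinearMap.ext fun x => ?_)
      funext g
      exact x.2 g.1 g.2)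
  have hS : S.Exact := by
    rw [ShortComplex.moduleCat_exact_iff]
    intro m hm
    refine ⟨⟨m, fun g hg => ?_⟩, rfl⟩
    exact congrFun hm ⟨g, hg⟩
  have hS' : (S.map (ext φ)).Exact := hS.map (ext φ)
  have hy0 : ((ext φ).map ψ).hom y = 0 := by
    have hg : ∀ g : s, ((ext φ).map (ψ ≫ ModuleCat.ofHom (LinearMap.proj g))).hom y = 0 := by
      intro g
      have h1 : ψ ≫ ModuleCat.ofHom (LinearMap.proj g) = (g : A) • 𝟙 M := rfl
      rw [h1, ext_map_smul]
      apply hn
      rw [← Ideal.map_pow, ← hs]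
      exact Ideal.mem_map_of_mem φ (Ideal.subset_span g.2)
    have hid : 𝟙 (ModuleCat.of A (s → M)) = ∑ g : s,
        ModuleCat.ofHom (LinearMap.proj g) ≫
          ModuleCat.ofHom (LinearMap.single A (fun _ : s => (M : Type u)) g) := by
      refine ModuleCat.hom_ext (LinearMap.ext fun x => ?_)
      rw [ModuleCat.hom_sum, LinearMap.sum_apply]
      exact (Finset.univ_sum_single x).symm
    have h2 : ((ext φ).map ψ).hom y =
        ((ext φ).map (ψ ≫ 𝟙 (ModuleCat.of A (s → M)))).hom y := by
      rw [Category.comp_id]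
    rw [h2, hid, Preadditive.comp_sum, Functor.map_sum, ModuleCat.hom_sum, LinearMap.sum_apply]
    refine Finset.sum_eq_zero fun g _ => ?_
    rw [← Category.assoc, Functor.map_comp]
    change ((ext φ).map _).hom (((ext φ).map (ψ ≫ ModuleCat.ofHom (LinearMap.proj g))).hom y) = 0
    rw [hg g, map_zero]
  obtain ⟨w₀, hw₀⟩ := (ShortComplex.moduleCat_exact_iff _).1 hS' y hy0
  refine ⟨((ext φ).map (ModuleCat.ofHom (Submodule.inclusion hN))).hom w₀, ?_⟩
  rw [← hw₀]
  have h3 : ModuleCat.ofHom (Submodule.inclusion hN) ≫ (DRing.gammaIι I).app M =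
      ModuleCat.ofHom N.subtype := rfl
  exact congrArg (fun t => t.hom w₀) (((ext φ).map_comp _ _).symm.trans
    (congrArg (ext φ).map h3))


lemma divAt_ext [IsNoetherianRing A] (hφ : φ.Flat) (f : A) (E : ModuleCat.{u} A)
    [Module.Injective A E] : DivAt (I.map φ) (φ f) ((ext φ).obj E) := by
  intro y hy k
  obtain ⟨w, rfl⟩ := exists_of_mem_torsionSub_ext φ I hφ (IsNoetherian.noetherian I) E y hy
  have key : ∃ (w' : (ext φ).obj ((DRing.gammaI I).obj E)) (t : ℕ),
      φ f ^ t • (φ f ^ k • w' - w) = 0 := by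
    refine ext_induction φ (P := fun w => ∃ (w' : (ext φ).obj ((DRing.gammaI I).obj E)) (t : ℕ),
      φ f ^ t • (φ f ^ k • w' - w) = 0) w ?_ ?_ ?_
    · exact ⟨0, 0, by simp⟩
    · intro s e
      haveI := Groth.Agent.Lib.Helper1.ExtCech.injective_torsionSub I E
      obtain ⟨e₀, t, ht⟩ := Groth.Agent.Lib.Helper1.ExtCech.exists_div_of_injective
        (DRing.torsionSub I E) f (e : DRing.torsionSub I E) k
      obtain ⟨e', rfl⟩ : ∃ e' : (DRing.gammaI I).obj E, e' = e₀ := ⟨e₀, rfl⟩
      refine ⟨tm φ s e', t, ?_⟩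
      change φ f ^ t • (φ f ^ k • tm φ s e' - tm φ s e) = 0
      have ht' : f ^ t • (f ^ k • e' - e) = 0 := ht
      rw [← map_pow, ← map_pow, smul_tm, ← tm_sub, smul_tm, ht', tm_zero]
    · rintro x x' ⟨w₁, t₁, h₁⟩ ⟨w₂, t₂, h₂⟩
      refine ⟨w₁ + w₂, t₁ + t₂, ?_⟩
      have e1 : φ f ^ k • (w₁ + w₂) - (x + x') =
          (φ f ^ k • w₁ - x) + (φ f ^ k • w₂ - x') := by
        rw [smul_add]; abel
      rw [e1, smul_add]
      have e2 : φ f ^ (t₁ + t₂) • (φ f ^ k • w₁ - x) = 0 := by
        rw [add_comm, pow_add, mul_smul, h₁, smul_zero]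
      have e3 : φ f ^ (t₁ + t₂) • (φ f ^ k • w₂ - x') = 0 := by
        rw [pow_add, mul_smul, h₂, smul_zero]
      rw [e2, e3, add_zero]
  obtain ⟨w', t, ht⟩ := key
  refine ⟨((ext φ).map ((DRing.gammaIι I).app E)).hom w', ext_ι_mem φ I E w', t, ?_⟩
  have h := congrArg ((ext φ).map ((DRing.gammaIι I).app E)).hom ht
  rw [map_smul, map_sub, map_smul, map_zero] at h
  exact h

lemma span_map (fs : List A) :
    Ideal.span {x : B | x ∈ fs.map φ} = (Ideal.span {x : A | x ∈ fs}).map φ := by
  rw [Ideal.map_span]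
  congr 1
  ext x
  simp [List.mem_map]

lemma good_ext [IsNoetherianRing A] (hφ : φ.Flat) (fs : List A) (E : ModuleCat.{u} A)
    [Module.Injective A E] : Good (fs.map φ) ((ext φ).obj E) := by
  induction fs with
  | nil =>
    intro f gs h
    simp at h
  | cons f fs ih =>
    rw [List.map_cons, good_cons_iff]
    refine ⟨ih, ?_⟩
    rw [span_map]
    exact divAt_ext φ _ hφ f E


/-- extension of scalars of a complex -/
noncomputable abbrev extCx (J : DRing.Cx A) : DRing.Cx B :=
  ((ext φ).mapHomologicalComplex (ComplexShape.up ℤ)).obj J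

lemma TG_extCx [IsNoetherianRing A] (hφ : φ.Flat) (fs : List A) {J : DRing.Cx A} (h : TI J) :
    TG (fs.map φ) (extCx φ J) := fun n => by
  haveI := h n
  exact good_ext φ hφ fs (J.X n)

/-- the comparison `B ⊗ Γ_I M ⟶ Γ_{IB}(B ⊗ M)` -/
noncomputable def κ (M : ModuleCat.{u} A) :
    (ext φ).obj ((DRing.gammaI I).obj M) ⟶ (DRing.gammaI (I.map φ)).obj ((ext φ).obj M) :=
  ModuleCat.ofHom (LinearMap.codRestrict _ ((ext φ).map ((DRing.gammaIι I).app M)).hom
    (ext_ι_mem φ I M))

lemma κ_ι (M : ModuleCat.{u} A) :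
    κ φ I M ≫ (DRing.gammaIι (I.map φ)).app ((ext φ).obj M) =
      (ext φ).map ((DRing.gammaIι I).app M) := rfl

lemma κ_naturality {M M' : ModuleCat.{u} A} (g : M ⟶ M') :
    (ext φ).map ((DRing.gammaI I).map g) ≫ κ φ I M' =
      κ φ I M ≫ (DRing.gammaI (I.map φ)).map ((ext φ).map g) := by
  haveI : Mono ((DRing.gammaIι (I.map φ)).app ((ext φ).obj M')) := by
    rw [ModuleCat.mono_iff_injective]
    exact Subtype.val_injective
  rw [← cancel_mono ((DRing.gammaIι (I.map φ)).app ((ext φ).obj M')), Category.assoc,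
    Category.assoc, κ_ι, (DRing.gammaIι (I.map φ)).naturality, ← Category.assoc, κ_ι,
    ← Functor.map_comp, (DRing.gammaIι I).naturality]
  exact (ext φ).map_comp _ _

lemma isIso_κ (hφ : φ.Flat) (hI : I.FG) (M : ModuleCat.{u} A) : IsIso (κ φ I M) := by
  haveI : PreservesFiniteLimits (ext φ) := ModuleCat.preservesFiniteLimits_extendScalars_of_flat hφ
  rw [ConcreteCategory.isIso_iff_bijective]
  constructor
  · haveI : Mono ((DRing.gammaIι I).app M) := by
      rw [ModuleCat.mono_iff_injective]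
      exact Subtype.val_injective
    have hm : Mono ((ext φ).map ((DRing.gammaIι I).app M)) := inferInstance
    rw [ModuleCat.mono_iff_injective] at hm
    intro x x' hx
    apply hm
    exact congrArg Subtype.val hx
  · intro y
    obtain ⟨w, hw⟩ := exists_of_mem_torsionSub_ext φ I hφ hI M y.1 y.2
    exact ⟨w, Subtype.ext hw⟩

/-- `B ⊗ Γ_I J ≅ Γ_{IB}(B ⊗ J)` for flat `φ` -/
noncomputable def gammaExtIso (hφ : φ.Flat) (hI : I.FG) (J : DRing.Cx A) :
    extCx φ ((G I).obj J) ≅ (G (I.map φ)).obj (extCx φ J) :=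
  HomologicalComplex.Hom.isoOfComponents
    (fun n => haveI := isIso_κ φ I hφ hI (J.X n); asIso (κ φ I (J.X n)))
    (fun i j _ => (κ_naturality φ I (J.d i j)).symm)

/-- extension of scalars along a flat map commutes with homology -/
noncomputable def extHomologyIso (hφ : φ.Flat) (X : DRing.Cx A) (i : ℤ) :
    (extCx φ X).homology i ≅ (ext φ).obj (X.homology i) :=
  haveI : PreservesFiniteLimits (ext φ) := ModuleCat.preservesFiniteLimits_extendScalars_of_flat hφ
  haveI : PreservesFiniteColimits (ext φ) := preservesFiniteColimits_ext φ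
  (X.sc i).mapHomologyIso (ext φ)


section LBC

open Groth.Agent.Lib.Helper1.LDer Groth.Agent.Lib.Helper1.KF

/-- for flat `φ`, derived base change is computed termwise on every complex -/
lemma isIso_lbcCounit_app_of_flat [DRing.HasLBaseChange φ] (hφ : φ.Flat) (C : DRing.Cx A) :
    IsIso ((lbcCounit φ).app C) := by
  haveI : PreservesFiniteLimits (ext φ) := ModuleCat.preservesFiniteLimits_extendScalars_of_flat hφ
  haveI : PreservesFiniteColimits (ext φ) := preservesFiniteColimits_ext φ
  obtain ⟨P, π, hP, -, hπ, -⟩ := exists_kprojective_resolution C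
  haveI := hP
  haveI := hπ
  have nat := (lbcCounit φ).naturality π
  haveI : IsIso ((Q : _ ⥤ Dual.D A).map π) := by
    rw [DerivedCategory.isIso_Q_map_iff_quasiIso]; infer_instance
  haveI : IsIso ((Q ⋙ DRing.LBaseChange φ).map π) := by
    dsimp; infer_instance
  haveI : QuasiIso ((bcCx φ).map π) := inferInstance
  haveI : IsIso ((bcCx φ ⋙ (Q : _ ⥤ Dual.D B)).map π) := by
    dsimp
    rw [DerivedCategory.isIso_Q_map_iff_quasiIso]; infer_instance
  have h2 : IsIso ((Q ⋙ DRing.LBaseChange φ).map π ≫ (lbcCounit φ).app C) := by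
    rw [nat]; infer_instance
  exact IsIso.of_isIso_comp_left ((Q ⋙ DRing.LBaseChange φ).map π) _

end LBC

/-- base change of a linear equivalence, across universes -/
noncomputable def extEquiv {M : ModuleCat.{v} A} {N : ModuleCat.{w} A} (e : M ≃ₗ[A] N) :
    (ModuleCat.extendScalars.{u, u, v} φ).obj M ≃ₗ[B]
      (ModuleCat.extendScalars.{u, u, w} φ).obj N :=
  { toFun := LinearMap.lTensor _ e.toLinearMap
    invFun := LinearMap.lTensor _ e.symm.toLinearMap
    map_add' := map_add _
    map_smul' := fun b z => by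
      induction z using TensorProduct.induction_on with
      | zero => simp
      | tmul s m => rfl
      | add x y hx hy =>
        rw [smul_add, map_add, map_add, smul_add, hx, hy]
    left_inv := fun z => by
      rw [← LinearMap.comp_apply, ← LinearMap.lTensor_comp]
      simp
    right_inv := fun z => by
      rw [← LinearMap.comp_apply, ← LinearMap.lTensor_comp]
      simp }


section Main

open Groth.Agent.Lib.Helper1.LDer

theorem hdi_flat (A B : Type u) [CommRing A] [CommRing B] [Algebra A B] [IsNoetherianRing A]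
    [IsNoetherianRing B] [Module.Flat A B] [DRing.HasLBaseChange (algebraMap A B)]
    (I : Ideal A) (K : Dual.D A) (i : ℤ) :
    Nonempty (Dual2.HDI B (I.map (algebraMap A B))
        ((DRing.LBaseChange (algebraMap A B)).obj K) i ≅
      (ModuleCat.extendScalars (algebraMap A B)).obj (Dual2.HDI A I K i)) := by
  have hφ : (algebraMap A B).Flat := RingHom.flat_algebraMap_iff.2 inferInstance
  obtain ⟨fs, rfl⟩ := exists_list_span I
  obtain ⟨JA, hJA, hTI, ⟨eA⟩⟩ := exists_TI_model K
  haveI := hJA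
  obtain ⟨EA⟩ := mainQ (Ideal.span {x : A | x ∈ fs}) JA eA.symm i
  haveI := isIso_lbcCounit_app_of_flat (algebraMap A B) hφ JA
  let eC : (DRing.LBaseChange (algebraMap A B)).obj K ≅
      (Q : _ ⥤ Dual.D B).obj (extCx (algebraMap A B) JA) :=
    (DRing.LBaseChange (algebraMap A B)).mapIso eA.symm ≪≫
      asIso ((lbcCounit (algebraMap A B)).app JA)
  obtain ⟨JB, j, hJB, hj, -, hInj⟩ :=
    exists_kInjective_resolution.{u} (ModuleCat.{u} B) (extCx (algebraMap A B) JA)
  haveI := hJB
  haveI := hj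
  haveI : IsIso ((Q : _ ⥤ Dual.D B).map j) := by
    rw [DerivedCategory.isIso_Q_map_iff_quasiIso]; infer_instance
  obtain ⟨EB⟩ := mainQ ((Ideal.span {x : A | x ∈ fs}).map (algebraMap A B)) JB
    (eC ≪≫ asIso ((Q : _ ⥤ Dual.D B).map j)) i
  have hspan := span_map (algebraMap A B) fs
  haveI : QuasiIso ((G ((Ideal.span {x : A | x ∈ fs}).map (algebraMap A B))).map j) := by
    rw [← hspan]
    exact quasiIso_G_map_of_TG (fs.map (algebraMap A B))
      (TG_extCx (algebraMap A B) hφ fs hTI) (TG_of_TI _ (TI_of_injective hInj)) j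
  let e1 : ((G ((Ideal.span {x : A | x ∈ fs}).map (algebraMap A B))).obj
        (extCx (algebraMap A B) JA)).homology i ≅
      ((G ((Ideal.span {x : A | x ∈ fs}).map (algebraMap A B))).obj JB).homology i :=
    asIso (HomologicalComplex.homologyMap
      ((G ((Ideal.span {x : A | x ∈ fs}).map (algebraMap A B))).map j) i)
  let e2 : ((G ((Ideal.span {x : A | x ∈ fs}).map (algebraMap A B))).obj
        (extCx (algebraMap A B) JA)).homology i ≅
      (ext (algebraMap A B)).obj (((G (Ideal.span {x : A | x ∈ fs})).obj JA).homology i) :=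
    (HomologicalComplex.homologyFunctor _ _ i).mapIso
      (gammaExtIso (algebraMap A B) (Ideal.span {x : A | x ∈ fs}) hφ
        (IsNoetherian.noetherian _) JA).symm ≪≫
    extHomologyIso (algebraMap A B) hφ _ i
  exact ⟨(EB.trans ((e1.symm ≪≫ e2).toLinearEquiv.trans
    (extEquiv (algebraMap A B) EA.symm))).toModuleIso⟩

end Main

end Groth.Agent.Lib.Helper10.RGamH
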