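import Mathlib
import Groth.Agent.Lib.Helper10PTA
import Groth.Agent.Lib.Helper10PTB
import Groth.Agent.Lib.Helper10RGamH
import Groth.Agent.Lib.Helper1Extend
import Groth.Agent.Lib.Helper1DT4
set_option backward.isDefEq.respectTransparency.types false
set_option backward.isDefEq.respectTransparency false

/-!
# `Ext` of power torsion modules and flat base change with `A/I ≅ B/IB` (helper10)

`main`: for `A → B` flat, `I` finitely generated with `A/I ≅ B/IB`, `M` an `I`-power torsion
module and `N` any module, `Hom_{D(A)}(M, N[i]) ≃+ Hom_{D(B)}(B ⊗ M, (B ⊗ N)[i])`.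
-/

set_option autoImplicit false
set_option maxHeartbeats 400000
universe u
open CategoryTheory CategoryTheory.Limits HomologicalComplex CochainComplex
open scoped TensorProduct
attribute [local instance] HasDerivedCategory.standard

namespace Groth.Agent.Lib.Helper10.PTC

open DerivedCategory Groth.Agent.Lib.Helper1.KF Groth.Agent.Lib.Helper1.Extend
  Groth.Agent.Lib.Helper1.DT
  Groth.Agent.Lib.Helper10.PTB Groth.Agent.Lib.Helper10.DCLoc Groth.Agent.Lib.Helper10.DCCech
  Groth.Agent.Lib.Helper1.ExtCech Groth.Agent.Lib.Helper1.ExtCech4 DerCA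

section General

variable {C : Type*} [Category C] [Preadditive C]

/-- isomorphisms induce additive equivalences of hom groups -/
def homAddEquivOfIsos {X X' Y Y' : C} (e₁ : X ≅ X') (e₂ : Y ≅ Y') : (X ⟶ Y) ≃+ (X' ⟶ Y') where
  toFun f := e₁.inv ≫ f ≫ e₂.hom
  invFun g := e₁.hom ≫ g ≫ e₂.inv
  left_inv f := by simp
  right_inv g := by simp
  map_add' f g := by simp

omit [Preadditive C] in
/-- postcomposition with an isomorphism -/
lemma bijective_postcomp_of_isIso {W Y Z : C} (g : Y ⟶ Z) [IsIso g] :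
    Function.Bijective (fun ψ : W ⟶ Y => ψ ≫ g) :=
  ⟨fun a b h => (cancel_mono g).1 h, fun b => ⟨b ≫ inv g, by simp⟩⟩

/-- a bijective postcomposition as an additive equivalence -/
noncomputable def postcompAddEquiv {W Y Z : C} (g : Y ⟶ Z)
    (h : Function.Bijective (fun ψ : W ⟶ Y => ψ ≫ g)) : (W ⟶ Y) ≃+ (W ⟶ Z) :=
  AddEquiv.ofBijective (Preadditive.rightComp W g) h

end General

/-- hom-sets out of a shifted object, additively -/
noncomputable def shiftHomAddEquiv {R : Type u} [CommRing R] (Y E : Dual.D R) (n : ℤ) :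
    (Y⟦-n⟧ ⟶ E) ≃+ (Y ⟶ E⟦n⟧) :=
  haveI : (shiftEquiv (Dual.D R) n).symm.functor.Additive :=
    inferInstanceAs (CategoryTheory.shiftFunctor (Dual.D R) (-n)).Additive
  (shiftEquiv (Dual.D R) n).symm.toAdjunction.homAddEquiv Y E

section GoodId

variable {A : Type u} [CommRing A]

lemma goodFunctor_id : GoodFunctor (𝟭 (Cx A)) where
  loc f Y h := h
  ses S σ := by
    apply HomologicalComplex.shortExact_of_degreewise_shortExact
    intro n
    exact (σ n).some.shortExact

end GoodId

section Adj

variable (A B : Type u) [CommRing A] [CommRing B] [Algebra A B]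

/-- restriction of scalars along `algebraMap` -/
noncomputable abbrev resF : ModuleCat.{u} B ⥤ ModuleCat.{u} A :=
  ModuleCat.restrictScalars.{u} (algebraMap A B)

noncomputable abbrev resCx : Cx B ⥤ Cx A :=
  (resF A B).mapHomologicalComplex (ComplexShape.up ℤ)

noncomputable abbrev resD : Dual.D B ⥤ Dual.D A := (resF A B).mapDerivedCategory

noncomputable abbrev extCx' : Cx A ⥤ Cx B :=
  (ext A B).mapHomologicalComplex (ComplexShape.up ℤ)

instance : (ext A B).Additive :=
  (ModuleCat.extendRestrictScalarsAdj (algebraMap A B)).left_adjoint_additive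

noncomputable def adjCx : extCx' A B ⊣ resCx A B :=
  mapHomologicalComplexAdj (ModuleCat.extendRestrictScalarsAdj.{u, u, u} (algebraMap A B)) _

/-- extension then restriction, termwise on complexes -/
noncomputable abbrev Gc : Cx A ⥤ Cx A := extCx' A B ⋙ resCx A B

variable {A B}

lemma bijective_smul_G (f : A) (V : ModuleCat.{u} A)
    (h : Function.Bijective (fun v : V => f • v)) :
    Function.Bijective (fun z : (resF A B).obj ((ext A B).obj V) => f • z) := by
  have h1 : IsIso (f • 𝟙 V) := (ConcreteCategory.isIso_iff_bijective _).2 h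
  have h2 : IsIso ((ext A B).map (f • 𝟙 V)) := inferInstance
  have h3 := (ConcreteCategory.isIso_iff_bijective _).1 h2
  have h4 : (fun z : (resF A B).obj ((ext A B).obj V) => f • z) =
      ⇑(ConcreteCategory.hom ((ext A B).map (f • 𝟙 V))) := by
    funext z
    exact (Groth.Agent.Lib.Helper10.RGamH.ext_map_smul (algebraMap A B) f V z).symm
  rw [h4]
  exact h3

lemma goodFunctor_Gc : GoodFunctor (Gc A B) where
  loc f Y h := by
    apply isIso_smul_of_termwise
    intro n
    exact bijective_smul_G f (Y.X n) (termwise_of_isIso_smul f Y h n)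
  ses S σ := by
    apply HomologicalComplex.shortExact_of_degreewise_shortExact
    intro n
    exact ((σ n).some.map (ext A B ⋙ resF A B)).shortExact

/-- `v ↦ 1 ⊗ v` bijective means the unit of the adjunction is an isomorphism -/
lemma isIso_unit_of_good (V : ModuleCat.{u} A) (h : Groth.Agent.Lib.Helper10.PTA.Good A B V) :
    IsIso ((ModuleCat.extendRestrictScalarsAdj.{u, u, u} (algebraMap A B)).unit.app V) := by
  apply (ConcreteCategory.isIso_iff_bijective _).2
  have h1 : (c₀ (A := A) (B := B) V) ∘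
      ⇑(ConcreteCategory.hom
        ((ModuleCat.extendRestrictScalarsAdj.{u, u, u} (algebraMap A B)).unit.app V)) =
      ⇑(TensorProduct.mk A B V 1) := by
    funext v
    rfl
  have h2 : Function.Bijective ((c₀ (A := A) (B := B) V) ∘
      ⇑(ConcreteCategory.hom
        ((ModuleCat.extendRestrictScalarsAdj.{u, u, u} (algebraMap A B)).unit.app V))) := by
    rw [h1]
    exact h
  exact (Function.Bijective.of_comp_iff' (c₀ (A := A) (B := B) V).bijective _).1 h2

variable [Module.Flat A B]

/-- the unit `K ⟶ (B ⊗ K)|_A` is a quasi-isomorphism when the unit is an isomorphism on the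
cohomology modules -/
lemma quasiIso_unit (K : Cx A)
    (hK : ∀ n, IsIso ((ModuleCat.extendRestrictScalarsAdj.{u, u, u} (algebraMap A B)).unit.app
      (K.homology n))) :
    QuasiIso ((adjCx A B).unit.app K) := by
  rw [quasiIso_iff]
  intro n
  rw [quasiIsoAt_iff_isIso_homologyMap]
  have h := ShortComplex.homologyMap_mapNatTrans (K.sc n)
    (ModuleCat.extendRestrictScalarsAdj.{u, u, u} (algebraMap A B)).unit
  have e : HomologicalComplex.homologyMap ((adjCx A B).unit.app K) n =
      ShortComplex.homologyMap ((K.sc n).mapNatTrans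
        (ModuleCat.extendRestrictScalarsAdj.{u, u, u} (algebraMap A B)).unit) := rfl
  rw [e, h]
  haveI : IsIso ((ModuleCat.extendRestrictScalarsAdj.{u, u, u} (algebraMap A B)).unit.app
      (K.sc n).homology) := hK n
  infer_instance

noncomputable def adjD : extD A B ⊣ resD A B :=
  letI : CatCommSq (extCx' A B) Q Q (extD A B) := ⟨((ext A B).mapDerivedCategoryFactors).symm⟩
  letI : CatCommSq (resCx A B) Q Q (resD A B) := ⟨((resF A B).mapDerivedCategoryFactors).symm⟩
  (adjCx A B).localization Q (HomologicalComplex.quasiIso _ _) Q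
    (HomologicalComplex.quasiIso _ _) (extD A B) (resD A B)

end Adj

section Main

variable {A B : Type u} [CommRing A] [CommRing B] [Algebra A B] [Module.Flat A B]
  (I : Ideal A)

lemma pt_of_isPowerTorsion {M : Type*} [AddCommGroup M] [Module A M]
    (hM : LocCoh.IsPowerTorsion I M) (f : A) (hf : f ∈ I) : PT f M := by
  intro x
  obtain ⟨n, hn⟩ := hM x
  exact ⟨n, hn _ (Ideal.pow_mem_pow hf n)⟩

lemma isPowerTorsion_of_pt (fs : List A) (hI : I = Ideal.span {x | x ∈ fs}) (hfg : I.FG)
    {N : Type*} [AddCommGroup N] [Module A N] (h : ∀ f ∈ fs, PT f N) :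
    LocCoh.IsPowerTorsion I N := by
  intro x
  let J : Ideal A := LinearMap.ker (LinearMap.toSpanSingleton A N x)
  have hJ : ∀ a, a ∈ J ↔ a • x = 0 := fun a => by
    change LinearMap.toSpanSingleton A N x a = 0 ↔ _
    rw [LinearMap.toSpanSingleton_apply]
  have hle : I ≤ J.radical := by
    rw [hI, Ideal.span_le]
    intro g hg
    obtain ⟨n, hn⟩ := h g hg x
    exact ⟨n, (hJ _).2 hn⟩
  obtain ⟨k, hk⟩ := Ideal.exists_pow_le_of_le_radical_of_fg hle hfg
  exact ⟨k, fun a ha => (hJ a).1 (hk ha)⟩

variable (hs : Function.Surjective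
    ((Ideal.Quotient.mk (I.map (algebraMap A B))).comp (algebraMap A B)))
  (hk : RingHom.ker ((Ideal.Quotient.mk (I.map (algebraMap A B))).comp (algebraMap A B)) = I)

include hs hk in
/-- **Ext of power torsion modules is insensitive to flat base change with `A/I ≅ B/IB`** -/
theorem main (hI : I.FG) (M N : Type u) [AddCommGroup M] [Module A M] [AddCommGroup N]
    [Module A N] (hM : LocCoh.IsPowerTorsion I M) (i : ℤ) :
    Nonempty ((Dual.inD A M ⟶ (Dual.inD A N)⟦i⟧) ≃+
      (Dual.inD B (B ⊗[A] M) ⟶ (Dual.inD B (B ⊗[A] N))⟦i⟧)) := by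
  classical
  obtain ⟨s, hs'⟩ := hI
  let fs := s.toList
  have hspan : I = Ideal.span {x | x ∈ fs} := by
    rw [← hs']
    congr 1
    ext x
    simp [fs]
  let W : Dual.D A := (Dual.inD A M)⟦-i⟧
  have hW : ∀ f ∈ fs, LO f W := fun f hf =>
    (LO_inD f (ModuleCat.of A M) (pt_of_isPowerTorsion I hM f
      (by rw [hspan]; exact Ideal.subset_span hf))).shift i
  let Nm : ModuleCat.{u} A := ModuleCat.of A N
  let Č : Cx A := extCech Nm fs
  let S : Cx A := (HomologicalComplex.single (ModuleCat.{u} A) (ComplexShape.up ℤ) 0).obj Nm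
  have b1 := bijective_postcomp_aug (𝟭 (Cx A)) goodFunctor_id W Nm fs hW
  have b3 := bijective_postcomp_aug (Gc A B) goodFunctor_Gc W Nm fs hW
  have hqi : QuasiIso ((adjCx A B).unit.app Č) :=
    quasiIso_unit Č (fun n => isIso_unit_of_good _
      (Groth.Agent.Lib.Helper10.PTA.bijective_of_isPowerTorsion I hs hk _
        (isPowerTorsion_of_pt I fs hspan ⟨s, hs'⟩ (fun f hf => pt_extCechH fs Nm f hf n))))
  haveI : IsIso (Q.map ((adjCx A B).unit.app Č)) :=
    (DerivedCategory.isIso_Q_map_iff_quasiIso _ _).2 hqi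
  let e0 := (shiftHomAddEquiv (Dual.inD A M) (Dual.inD A N) i).symm
  let e1 : (W ⟶ Q.obj Č) ≃+ (W ⟶ Q.obj S) := postcompAddEquiv _ b1
  let e2 : (W ⟶ Q.obj Č) ≃+ (W ⟶ Q.obj ((Gc A B).obj Č)) :=
    postcompAddEquiv (Q.map ((adjCx A B).unit.app Č)) (bijective_postcomp_of_isIso _)
  let e3 : (W ⟶ Q.obj ((Gc A B).obj Č)) ≃+ (W ⟶ Q.obj ((Gc A B).obj S)) :=
    postcompAddEquiv _ b3
  let e4 : (W ⟶ Q.obj ((Gc A B).obj S)) ≃+
      (W ⟶ (resD A B).obj (Q.obj ((extCx' A B).obj S))) :=
    homAddEquivOfIsos (Iso.refl W)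
      (((resF A B).mapDerivedCategoryFactors.app ((extCx' A B).obj S)).symm)
  let e5 := (adjD (A := A) (B := B)).homAddEquiv W (Q.obj ((extCx' A B).obj S))
  let iso1 : (extD A B).obj W ≅ (Dual.inD B (B ⊗[A] M))⟦-i⟧ :=
    ((extD A B).commShiftIso (-i)).app _ ≪≫
      (CategoryTheory.shiftFunctor (Dual.D B) (-i)).mapIso (extDInDIso M)
  let iso2 : Q.obj ((extCx' A B).obj S) ≅ Dual.inD B (B ⊗[A] N) :=
    (mapQIso (ext A B) S).symm ≪≫ extDInDIso N
  let e6 := homAddEquivOfIsos iso1 iso2
  let e7 := shiftHomAddEquiv (Dual.inD B (B ⊗[A] M)) (Dual.inD B (B ⊗[A] N)) i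
  exact ⟨e0.trans (e1.symm.trans (e2.trans (e3.trans (e4.trans (e5.symm.trans (e6.trans e7))))))⟩

end Main

end Groth.Agent.Lib.Helper10.PTC
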