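import Groth.Agent.Lib.Helper10RGamB

/-! `RΓ_I` over a Noetherian ring (helper10), part C: `RΓ_I K` has `I`-power torsion cohomology,
`RΓ_I(ε_K)` is an isomorphism equal to `ε_{RΓ_I K}`, `RΓ_I` is right adjoint to the inclusion of
the objects with `I`-power torsion cohomology, and `RΓ_J ∘ RΓ_I ≅ RΓ_{I+J}`. -/

set_option autoImplicit false
set_option maxHeartbeats 400000
universe u
open CategoryTheory CategoryTheory.Limits HomologicalComplex DerivedCategory

attribute [local instance] HasDerivedCategory.standard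

namespace Groth.Agent.Lib.Helper10.RGamC

open Groth.Agent.Lib.Helper10.RGamA Groth.Agent.Lib.Helper10.RGamB Groth.Agent.Lib.Helper17.RGam
  Groth.Agent.Lib.Helper17.KInj

variable {A : Type u} [CommRing A] (I : Ideal A) [DRing.HasRgammaI I]

/-- `RΓ_I K` has `I`-power torsion cohomology -/
theorem isPowerTorsion_HD_RgammaI (K : Dual.D A) (i : ℤ) :
    LocCoh.IsPowerTorsion I (Dual.HD A ((DRing.RgammaI I).obj K) i) := by
  obtain ⟨J, hJ, _, ⟨e⟩⟩ := exists_TI_model K
  haveI := hJ
  haveI := isIso_unitCx_app I J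
  exact isPowerTorsion_of_iso I
    ((HDIso ((G I).obj J) i).symm ≪≫
      (DerivedCategory.homologyFunctor (ModuleCat.{u} A) i).mapIso
        (asIso ((unitCx I).app J) ≪≫ (DRing.RgammaI I).mapIso e))
    (isPowerTorsion_homology_G I J i)

omit [DRing.HasRgammaI I] in
lemma isIso_G_map_ιC (C : DRing.Cx A) : IsIso ((G I).map (ιC I C)) := by
  haveI : ∀ n, IsIso (((G I).map (ιC I C)).f n) := fun n => by
    rw [ConcreteCategory.isIso_iff_bijective]
    constructor
    · intro x x' hx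
      apply Subtype.ext
      apply Subtype.ext
      exact congrArg Subtype.val hx
    · intro y
      obtain ⟨n, hn⟩ := y.2
      exact ⟨⟨⟨y.1, y.2⟩, n, fun a ha => Subtype.ext (hn a ha)⟩, rfl⟩
  exact HomologicalComplex.Hom.isIso_of_components _

/-- `RΓ_I(ε_K)` is an isomorphism -/
theorem isIso_RgammaI_map_ε [IsNoetherianRing A] (K : Dual.D A) :
    IsIso ((DRing.RgammaI I).map ((DRing.RgammaIε I).app K)) := by
  obtain ⟨J, hJ, hJT, ⟨e⟩⟩ := exists_TI_model K
  haveI := hJ
  rw [← Functor.whiskerRight_app, ← NatTrans.isIso_app_iff_of_iso _ e, Functor.whiskerRight_app]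
  haveI := isIso_unitCx_app I J
  haveI := isIso_unitCx_app_of_TI I _ (TI_G I hJT)
  haveI := isIso_G_map_ιC I J
  have h1 : (DRing.RgammaIε I).app ((Q : _ ⥤ Dual.D A).obj J) =
      inv ((unitCx I).app J) ≫ Q.map (ιC I J) := by
    rw [← unitCx_ε, IsIso.inv_hom_id_assoc]
  have nat := (unitCx I).naturality (ιC I J)
  have h2 : IsIso ((unitCx I).app ((G I).obj J) ≫ (Q ⋙ DRing.RgammaI I).map (ιC I J)) := by
    rw [← nat]
    dsimp
    infer_instance
  have h3 : IsIso ((Q ⋙ DRing.RgammaI I).map (ιC I J)) :=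
    IsIso.of_isIso_comp_left ((unitCx I).app ((G I).obj J)) _
  rw [h1, Functor.map_comp]
  haveI : IsIso ((DRing.RgammaI I).map ((Q : _ ⥤ Dual.D A).map (ιC I J))) := h3
  infer_instance

/-- `ε_L` as an isomorphism, for `L` with `I`-power torsion cohomology -/
noncomputable def εIso [IsNoetherianRing A] (L : Dual.D A)
    (hL : ∀ i : ℤ, LocCoh.IsPowerTorsion I (Dual.HD A L i)) : (DRing.RgammaI I).obj L ≅ L :=
  haveI := isIso_ε_app_of_torsion I L hL
  asIso ((DRing.RgammaIε I).app L)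

@[simp]
lemma εIso_hom [IsNoetherianRing A] (L : Dual.D A)
    (hL : ∀ i : ℤ, LocCoh.IsPowerTorsion I (Dual.HD A L i)) :
    (εIso I L hL).hom = (DRing.RgammaIε I).app L := rfl

lemma comp_ε_injective [IsNoetherianRing A] (L K : Dual.D A)
    (hL : ∀ i : ℤ, LocCoh.IsPowerTorsion I (Dual.HD A L i)) :
    Function.Injective (fun ψ : L ⟶ (DRing.RgammaI I).obj K => ψ ≫ (DRing.RgammaIε I).app K) := by
  intro ψ ψ' h
  haveI := isIso_RgammaI_map_ε I K
  have h1 : (DRing.RgammaI I).map ψ = (DRing.RgammaI I).map ψ' := by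
    rw [← cancel_mono ((DRing.RgammaI I).map ((DRing.RgammaIε I).app K)), ← Functor.map_comp,
      ← Functor.map_comp]
    exact congrArg _ h
  have n1 := (DRing.RgammaIε I).naturality ψ
  have n2 := (DRing.RgammaIε I).naturality ψ'
  rw [← cancel_epi (εIso I L hL).hom]
  simp only [Functor.id_obj, Functor.id_map, εIso_hom] at n1 n2 ⊢
  rw [← n1, ← n2, h1]

/-- `RΓ_I(ε_K) = ε_{RΓ_I K}` -/
theorem RgammaI_map_ε [IsNoetherianRing A] (K : Dual.D A) :
    (DRing.RgammaI I).map ((DRing.RgammaIε I).app K) =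
      (DRing.RgammaIε I).app ((DRing.RgammaI I).obj K) := by
  apply comp_ε_injective I _ K (isPowerTorsion_HD_RgammaI I _)
  exact (DRing.RgammaIε I).naturality ((DRing.RgammaIε I).app K)

/-- `RΓ_I`, corestricted to objects with `I`-power torsion cohomology, is right adjoint to the
inclusion -/
noncomputable def adj [IsNoetherianRing A]
    (h : ∀ K : Dual.D A, (fun L : Dual.D A => ∀ i : ℤ, LocCoh.IsPowerTorsion I (Dual.HD A L i))
      ((DRing.RgammaI I).obj K)) :
    ObjectProperty.ι (fun L : Dual.D A => ∀ i : ℤ, LocCoh.IsPowerTorsion I (Dual.HD A L i)) ⊣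
      ObjectProperty.lift (fun L : Dual.D A => ∀ i : ℤ, LocCoh.IsPowerTorsion I (Dual.HD A L i))
        (DRing.RgammaI I) h :=
  Adjunction.mkOfHomEquiv
    { homEquiv := fun L K =>
        { toFun := fun φ => ObjectProperty.homMk
            ((εIso I L.obj L.property).inv ≫ (DRing.RgammaI I).map φ)
          invFun := fun g => g.hom ≫ (DRing.RgammaIε I).app K
          left_inv := fun φ => by
            have n1 : (DRing.RgammaI I).map φ ≫ (DRing.RgammaIε I).app K =
                (DRing.RgammaIε I).app L.obj ≫ φ := (DRing.RgammaIε I).naturality φ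
            change ((εIso I L.obj L.property).inv ≫ (DRing.RgammaI I).map φ) ≫
              (DRing.RgammaIε I).app K = φ
            rw [Category.assoc, n1, ← εIso_hom I L.obj L.property, Iso.inv_hom_id_assoc]
          right_inv := fun g => by
            apply ObjectProperty.hom_ext
            change (εIso I L.obj L.property).inv ≫
              (DRing.RgammaI I).map (g.hom ≫ (DRing.RgammaIε I).app K) = g.hom
            have n1 : (DRing.RgammaI I).map g.hom ≫
                (DRing.RgammaIε I).app ((DRing.RgammaI I).obj K) =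
                (DRing.RgammaIε I).app L.obj ≫ g.hom := (DRing.RgammaIε I).naturality g.hom
            rw [Functor.map_comp, RgammaI_map_ε, n1, ← εIso_hom I L.obj L.property,
              Iso.inv_hom_id_assoc] }
      homEquiv_naturality_left_symm := fun f g => by
        change (f ≫ g).hom ≫ _ = f.hom ≫ g.hom ≫ _
        rw [← Category.assoc]
        rfl
      homEquiv_naturality_right := fun f g => by
        apply ObjectProperty.hom_ext
        change (εIso I _ _).inv ≫ (DRing.RgammaI I).map (f ≫ g) =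
          ((εIso I _ _).inv ≫ (DRing.RgammaI I).map f) ≫ (DRing.RgammaI I).map g
        rw [Functor.map_comp, Category.assoc] }

section Comp

omit [DRing.HasRgammaI I]

variable (J : Ideal A)

lemma mem_torsionSub_sup {M : Type u} [AddCommGroup M] [Module A M] (m : M)
    (h1 : m ∈ DRing.torsionSub I M) (h2 : m ∈ DRing.torsionSub J M) :
    m ∈ DRing.torsionSub (I ⊔ J) M := by
  obtain ⟨n, hn⟩ := h1
  obtain ⟨k, hk⟩ := h2
  refine ⟨n + k, fun a ha => ?_⟩
  have h := Ideal.sup_pow_add_le_pow_sup_pow (I := I) (J := J) (n := n) (m := k) ha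
  obtain ⟨a₁, ha₁, a₂, ha₂, rfl⟩ := Submodule.mem_sup.1 h
  rw [add_smul, hn a₁ ha₁, hk a₂ ha₂, add_zero]

/-- `Γ_J(Γ_I M) ≃ Γ_{I+J} M` -/
noncomputable def torsionSubCompEquiv (M : Type u) [AddCommGroup M] [Module A M] :
    DRing.torsionSub J (DRing.torsionSub I M) ≃ₗ[A] DRing.torsionSub (I ⊔ J) M where
  toFun x := ⟨x.1.1, mem_torsionSub_sup I J x.1.1 x.1.2 (by
    obtain ⟨k, hk⟩ := x.2
    exact ⟨k, fun a ha => congrArg Subtype.val (hk a ha)⟩)⟩
  map_add' _ _ := rfl
  map_smul' _ _ := rfl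
  invFun m := ⟨⟨m.1, torsionSub_mono (le_sup_left : I ≤ I ⊔ J) M m.2⟩, by
    obtain ⟨k, hk⟩ := torsionSub_mono (le_sup_right : J ≤ I ⊔ J) M m.2
    exact ⟨k, fun a ha => Subtype.ext (hk a ha)⟩⟩
  left_inv _ := rfl
  right_inv _ := rfl

/-- `Γ_I ⋙ Γ_J ≅ Γ_{I+J}` -/
noncomputable def gammaComp : DRing.gammaI I ⋙ DRing.gammaI J ≅ DRing.gammaI (I ⊔ J) :=
  NatIso.ofComponents (fun M => (torsionSubCompEquiv I J M).toModuleIso) (fun _ => rfl)

/-- `Γ_J(Γ_I C) ≅ Γ_{I+J} C` for complexes -/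
noncomputable def GComp (C : DRing.Cx A) : (G J).obj ((G I).obj C) ≅ (G (I ⊔ J)).obj C :=
  (NatIso.mapHomologicalComplex (gammaComp I J) (ComplexShape.up ℤ)).app C

end Comp

/-- S1816: `RΓ_J(RΓ_I K) ≅ RΓ_{I+J} K` over a Noetherian ring -/
theorem nonempty_RgammaI_comp_iso [IsNoetherianRing A] (J : Ideal A) [DRing.HasRgammaI J]
    [DRing.HasRgammaI (I ⊔ J)] (K : Dual.D A) :
    Nonempty ((DRing.RgammaI J).obj ((DRing.RgammaI I).obj K) ≅ (DRing.RgammaI (I ⊔ J)).obj K) := by
  obtain ⟨J₀, hJ₀, hT, ⟨e⟩⟩ := exists_TI_model K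
  haveI := hJ₀
  haveI := isIso_unitCx_app I J₀
  haveI := isIso_unitCx_app (I ⊔ J) J₀
  haveI := isIso_unitCx_app_of_TI J _ (TI_G I hT)
  exact ⟨(DRing.RgammaI J).mapIso ((DRing.RgammaI I).mapIso e.symm ≪≫
      (asIso ((unitCx I).app J₀)).symm) ≪≫
    (asIso ((unitCx J).app ((G I).obj J₀))).symm ≪≫
    (Q : _ ⥤ Dual.D A).mapIso (GComp I J J₀) ≪≫
    asIso ((unitCx (I ⊔ J)).app J₀) ≪≫ (DRing.RgammaI (I ⊔ J)).mapIso e⟩

end Groth.Agent.Lib.Helper10.RGamC
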