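import Mathlib
import Groth.Prelude.Def_DRing4
import Groth.Agent.Lib.Helper10DCMain2
import Groth.Agent.Lib.Helper10RGamC
set_option backward.isDefEq.respectTransparency.types false

/-!
# Greenlees–May duality over a Noetherian ring (helper10)
`RΓ_I(K^) ≅ RΓ_I(K)` and `(RΓ_I K)^ ≅ K^`.
-/

set_option autoImplicit false
set_option maxHeartbeats 400000
universe u
open CategoryTheory CategoryTheory.Limits HomologicalComplex CochainComplex MonoidalCategory
attribute [local instance] HasDerivedCategory.standard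

namespace Groth.Agent.Lib.Helper10.RGamD

open DerivedCategory Groth.Agent.Lib.Helper1.KF Groth.Agent.Lib.Helper1.DT
  Groth.Agent.Lib.Helper10.TensHom Groth.Agent.Lib.Helper10.TensHomD
  Groth.Agent.Lib.Helper10.DCAdj Groth.Agent.Lib.Helper10.DCLoc
  Groth.Agent.Lib.Helper10.DCCech Groth.Agent.Lib.Helper10.DCMain
  Groth.Agent.Lib.Helper10.DistPair Groth.Agent.Lib.Helper10.RHomCx HomComplex
  Groth.Agent.Lib.Helper10.RGamA Groth.Agent.Lib.Helper10.RGamB Groth.Agent.Lib.Helper10.RGamC
  Groth.Agent.Lib.Helper1.ExtCech Groth.Agent.Lib.Helper1.ExtCech4 Groth.Agent.Lib.Helper17.RGam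

variable {A : Type u} [CommRing A]

section ClaimV

/-- the localisation map `X ⟶ X_f` is an isomorphism if `f` acts invertibly on `X` -/
lemma isIso_locCxUnit_of_isIso_smul (f : A) (X : Cx A) (hX : IsIso (f • 𝟙 X)) :
    IsIso (DerCA.locCxUnit (Submonoid.powers f) X) := by
  haveI : ∀ n, IsIso ((DerCA.locCxUnit (Submonoid.powers f) X).f n) := fun n => by
    rw [ConcreteCategory.isIso_iff_bijective]
    exact bijective_of_isLocalizedModule_powers f
      (LocalizedModule.mkLinearMap (Submonoid.powers f) (X.X n)) (termwise_of_isIso_smul f X hX n)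
  exact HomologicalComplex.Hom.isIso_of_components _

/-- **no maps from `f`-power torsion objects to objects on which `f` is invertible** -/
theorem subsingleton_hom_of_PT (f : A) (W X : Cx A) (hW : ∀ q, PT f (W.homology q))
    (hX : IsIso (f • 𝟙 X)) : Subsingleton (Q.obj W ⟶ Q.obj X) := by
  suffices h : ∀ ψ : Q.obj W ⟶ Q.obj X, ψ = 0 from ⟨fun a b => (h a).trans (h b).symm⟩
  intro ψ
  obtain ⟨W₁, s, hs, t, rfl⟩ := DerivedCategory.right_fac ψ
  haveI := hs
  have hs' : QuasiIso s := (DerivedCategory.isIso_Q_map_iff_quasiIso _ s).1 hs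
  have hW₁ : ∀ q, PT f (W₁.homology q) := by
    intro q x
    have hiso : IsIso (HomologicalComplex.homologyMap s q) := inferInstance
    obtain ⟨n, hn⟩ := hW q ((HomologicalComplex.homologyMap s q).hom x)
    refine ⟨n, ?_⟩
    apply ((ConcreteCategory.isIso_iff_bijective _).1 hiso).1
    rw [map_smul, hn, map_zero]
  have hz : IsZero (Q.obj ((DerCA.locCx (Submonoid.powers f)).obj W₁)) :=
    (isZero_Q_obj_iff _).2 (fun q => isZero_homology_loc f W₁ q (hW₁ q))
  haveI := isIso_locCxUnit_of_isIso_smul f X hX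
  have nat := locCxUnit_naturality (Submonoid.powers f) t
  have h1 : t = DerCA.locCxUnit (Submonoid.powers f) W₁ ≫
      (DerCA.locCx (Submonoid.powers f)).map t ≫ inv (DerCA.locCxUnit (Submonoid.powers f) X) := by
    rw [← Category.assoc, nat, Category.assoc, IsIso.hom_inv_id, Category.comp_id]
  rw [h1, Functor.map_comp, hz.eq_of_tgt (Q.map (DerCA.locCxUnit (Submonoid.powers f) W₁)) 0,
    zero_comp, comp_zero]

/-- variant for an object of `D(A)` -/
theorem subsingleton_hom_of_PT' (f : A) (W : Dual.D A) (X : Cx A)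
    (hW : ∀ q, PT f (Dual.HD A W q)) (hX : IsIso (f • 𝟙 X)) : Subsingleton (W ⟶ Q.obj X) := by
  let e : Q.obj (Q.objPreimage W) ≅ W := Q.objObjPreimageIso W
  haveI := subsingleton_hom_of_PT f (Q.objPreimage W) X (fun q x => by
    let eq : (Q.objPreimage W).homology q ≅
        (DerivedCategory.homologyFunctor (ModuleCat.{u} A) q).obj W :=
      (HDIso (Q.objPreimage W) q).symm ≪≫
        (DerivedCategory.homologyFunctor (ModuleCat.{u} A) q).mapIso e
    obtain ⟨n, hn⟩ := hW q (eq.hom.hom x)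
    refine ⟨n, ?_⟩
    apply (ModuleCat.mono_iff_injective eq.hom).1 inferInstance
    rw [map_smul, hn, map_zero]) hX
  exact (e.homFromEquiv (Z := Q.obj X)).symm.subsingleton

/-- variant with a shift of the target -/
theorem subsingleton_hom_shift_of_PT (f : A) (W : Dual.D A) (X : Cx A)
    (hW : ∀ q, PT f (Dual.HD A W q)) (hX : IsIso (f • 𝟙 X)) (a : ℤ) :
    Subsingleton (W ⟶ (Q.obj X)⟦a⟧) := by
  haveI : Subsingleton (W ⟶ (CategoryTheory.shiftFunctor (CochainComplex (ModuleCat A) ℤ) a ⋙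
      Q).obj X) := subsingleton_hom_of_PT' f W (X⟦a⟧) hW (isIso_smul_shift f X hX a)
  exact (((Q.commShiftIso a).app X).homToEquiv (Z := W)).symm.subsingleton

end ClaimV

section LES

open Pretriangulated

/-- if `W` has no maps to the third vertex `Z` of a distinguished triangle nor to `Z⟦-1⟧`, then
postcomposition with the first map is bijective on `Hom(W, -)` -/
lemma bijective_postcomp_of_isDistPair {X Y Z : Dual.D A} {φ : X ⟶ Y} {g : Y ⟶ Z}
    (h : IsDistPair φ g) (W : Dual.D A) (h0 : Subsingleton (W ⟶ Z))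
    (h1 : Subsingleton (W ⟶ Z⟦(-1 : ℤ)⟧)) :
    Function.Bijective (fun ψ : W ⟶ X => ψ ≫ φ) := by
  constructor
  · intro ψ ψ' hψ
    have h2 : (ψ - ψ') ≫ φ = 0 := by
      rw [Preadditive.sub_comp]
      exact sub_eq_zero.2 hψ
    obtain ⟨k, hk⟩ := h
    have hT := inv_rot_of_distTriang _ hk
    obtain ⟨y, hy⟩ := Triangle.coyoneda_exact₂ _ hT (ψ - ψ') h2
    have hy0 : y = 0 := Subsingleton.elim (α := W ⟶ Z⟦(-1 : ℤ)⟧) _ _
    rw [hy0, zero_comp] at hy
    exact sub_eq_zero.1 hy
  · intro χ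
    obtain ⟨ψ, hψ⟩ := h.exact χ (Subsingleton.elim _ _)
    exact ⟨ψ, hψ⟩

end LES

section PartA

lemma bijective_postcomp_of_isIso {X Y : Dual.D A} (f : X ⟶ Y) [IsIso f] (W : Dual.D A) :
    Function.Bijective (fun ψ : W ⟶ X => ψ ≫ f) :=
  ((asIso f).homToEquiv (Z := W)).bijective

/-- **Induction**: the augmentation `Č(fs) ⟶ A[0]` induces, for every complex `Y`, a map
`Hom•(A[0], Y) ⟶ Hom•(Č(fs), Y)` which becomes bijective after applying `Hom_{D(A)}(W, -)` for
every `W` whose cohomology is `g`-power torsion for all `g ∈ fs`. -/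
theorem bijective_postcomp_aug (Y : Cx A) : ∀ (fs : List A) (W : Dual.D A),
    (∀ g ∈ fs, ∀ q, PT g (Dual.HD A W q)) →
    Function.Bijective (fun ψ : W ⟶ Q.obj (DRing.homCx (DerCA.extCech (ModuleCat.of A A) []) Y) =>
      ψ ≫ Q.map (homCxPre (aug (ModuleCat.of A A) fs) Y))
  | [], W, _ => by
    have e' : Q.map (homCxPre (aug (ModuleCat.of A A) []) Y) =
        𝟙 (Q.obj (DRing.homCx (DerCA.extCech (ModuleCat.of A A) []) Y)) := by
      have e : homCxPre (aug (ModuleCat.of A A) []) Y =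
          𝟙 (DRing.homCx (DerCA.extCech (ModuleCat.of A A) []) Y) := homCxPre_id _ Y
      rw [e]
      exact Q.map_id _
    have : (fun ψ : W ⟶ Q.obj (DRing.homCx (DerCA.extCech (ModuleCat.of A A) []) Y) =>
      ψ ≫ Q.map (homCxPre (aug (ModuleCat.of A A) []) Y)) = _root_.id := by
      funext ψ
      exact (congrArg (fun x => ψ ≫ x) e').trans (Category.comp_id ψ)
    rw [this]
    exact Function.bijective_id
  | f :: fs, W, hW => by
    have ih := bijective_postcomp_aug Y fs W (fun g hg => hW g (List.mem_cons_of_mem _ hg))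
    have hf : ∀ q, PT f (Dual.HD A W q) := hW f List.mem_cons_self
    obtain ⟨u, hu⟩ : ∃ u : DerCA.extCech (ModuleCat.of A A) fs ⟶
        (DerCA.locCx (Submonoid.powers f)).obj (DerCA.extCech (ModuleCat.of A A) fs),
        u = DerCA.locCxUnit (Submonoid.powers f) (DerCA.extCech (ModuleCat.of A A) fs) := ⟨_, rfl⟩
    have hloc : IsIso (f • 𝟙 (DRing.homCx
        (((DerCA.locCx (Submonoid.powers f)).obj
          (DerCA.extCech (ModuleCat.of A A) fs))⟦(-1 : ℤ)⟧) Y)) :=
      isIso_smul_homCx f _ Y (isIso_smul_shift f _ (isIso_smul_locCx f _) (-1))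
    have hb := bijective_postcomp_of_isDistPair (isDistPair_homCxPre_cocone u Y) W
      (subsingleton_hom_of_PT' f W _ hf hloc)
      (subsingleton_hom_shift_of_PT f W _ hf hloc (-1))
    subst hu
    have e : homCxPre (aug (ModuleCat.of A A) (f :: fs)) Y =
        homCxPre (aug (ModuleCat.of A A) fs) Y ≫ homCxPre (mappingCocone.fst
          (DerCA.locCxUnit (Submonoid.powers f) (DerCA.extCech (ModuleCat.of A A) fs))) Y := by
      exact (congrArg (fun a => homCxPre a Y) (aug_cons (ModuleCat.of A A) f fs)).trans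
        (homCxPre_comp _ _ Y)
    have : (fun ψ : W ⟶ Q.obj (DRing.homCx (DerCA.extCech (ModuleCat.of A A) []) Y) =>
        ψ ≫ Q.map (homCxPre (aug (ModuleCat.of A A) (f :: fs)) Y)) =
        (fun ψ => ψ ≫ Q.map (homCxPre (mappingCocone.fst
            (DerCA.locCxUnit (Submonoid.powers f) (DerCA.extCech (ModuleCat.of A A) fs))) Y)) ∘
          (fun ψ => ψ ≫ Q.map (homCxPre (aug (ModuleCat.of A A) fs) Y)) := by
      funext ψ
      have e' : Q.map (homCxPre (aug (ModuleCat.of A A) (f :: fs)) Y) =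
          Q.map (homCxPre (aug (ModuleCat.of A A) fs) Y) ≫ Q.map (homCxPre (mappingCocone.fst
            (DerCA.locCxUnit (Submonoid.powers f) (DerCA.extCech (ModuleCat.of A A) fs))) Y) :=
        (congrArg (fun a => Q.map a) e).trans (Q.map_comp _ _)
      exact (congrArg (fun x => ψ ≫ x) e').trans (Category.assoc _ _ _).symm
    rw [this]
    exact hb.comp ih

open Groth.Agent.Lib.Helper17.KInj in
/-- **Dual universal property** of `M ⟶ RHom(P, M)`, `P` a K-projective resolution of the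
extended Čech complex: it induces a bijection on maps from objects whose cohomology is `g`-power
torsion for all `g ∈ fs`. -/
theorem bijective_postcomp_ηD (fs : List A) {P : Cx A} [P.IsKProjective]
    (π : P ⟶ DerCA.extCech (ModuleCat.of A A) fs) [QuasiIso π] (M W : Dual.D A)
    (hW : ∀ g ∈ fs, ∀ q, PT g (Dual.HD A W q)) :
    Function.Bijective (fun ψ : W ⟶ M => ψ ≫ (ηD (π ≫ aug' fs)).app M) := by
  obtain ⟨I₀, j, hI₀, hj, -, -⟩ :=
    exists_kInjective_resolution.{u} (ModuleCat.{u} A) (Q.objPreimage M)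
  haveI : IsIso (Q.map j) := (isIso_Q_map_iff_quasiIso _ j).2 hj
  let e : M ≅ Q.obj I₀ := (Q.objObjPreimageIso M).symm ≪≫ asIso (Q.map j)
  have hnat : (ηD (π ≫ aug' fs)).app M =
      e.hom ≫ (ηD (π ≫ aug' fs)).app (Q.obj I₀) ≫ (RP P).map e.inv := by
    have h := (ηD (π ≫ aug' fs)).naturality e.hom
    have h' : e.hom ≫ (ηD (π ≫ aug' fs)).app (Q.obj I₀) =
        (ηD (π ≫ aug' fs)).app M ≫ (RP P).map e.hom := h
    rw [← Category.assoc, h', Category.assoc, ← Functor.map_comp, Iso.hom_inv_id,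
      CategoryTheory.Functor.map_id, Category.comp_id]
  haveI : QuasiIso (homCxPre π I₀) := quasiIso_homCxPre I₀ π
  haveI : IsIso (Q.map (homCxPre π I₀)) := (isIso_Q_map_iff_quasiIso _ _).2 inferInstance
  let αi : M ≅ Q.obj (DRing.homCx (𝟙_ (Cx A)) I₀) := e ≪≫ Q.mapIso (unitHomIso.symm.app I₀)
  let γi : Q.obj (DRing.homCx P I₀) ≅ (RP P).obj M :=
    (RPIso P).symm.app I₀ ≪≫ (RP P).mapIso e.symm
  obtain ⟨α, hα⟩ : ∃ α : M ⟶ Q.obj (DRing.homCx (𝟙_ (Cx A)) I₀), α = αi.hom := ⟨_, rfl⟩
  obtain ⟨γ, hγ⟩ : ∃ γ : Q.obj (DRing.homCx (DerCA.extCech (ModuleCat.of A A) fs) I₀) ⟶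
      (RP P).obj M, γ = Q.map (homCxPre π I₀) ≫ γi.hom := ⟨_, rfl⟩
  haveI : IsIso α := by rw [hα]; infer_instance
  haveI : IsIso γ := by rw [hγ]; infer_instance
  have h1 : Q.map ((ηc (π ≫ aug' fs)).app I₀) =
      Q.map (unitHomIso.inv.app I₀) ≫ Q.map (homCxPre (aug' fs) I₀) ≫
        Q.map (homCxPre π I₀) := by
    have h0 : (ηc (π ≫ aug' fs)).app I₀ =
        unitHomIso.inv.app I₀ ≫ homCxPre (aug' fs) I₀ ≫ homCxPre π I₀ :=
      congrArg (fun x => unitHomIso.inv.app I₀ ≫ x) (homCxPre_comp π (aug' fs) I₀)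
    exact (congrArg (fun x => Q.map x) h0).trans ((Q.map_comp _ _).trans
      (congrArg (fun x => Q.map (unitHomIso.inv.app I₀) ≫ x) (Q.map_comp _ _)))
  have hfac : (ηD (π ≫ aug' fs)).app M = α ≫ Q.map (homCxPre (aug' fs) I₀) ≫ γ := by
    rw [hnat, ηD_app, h1, hα, hγ]
    change e.hom ≫ ((Q.map (unitHomIso.inv.app I₀) ≫ Q.map (homCxPre (aug' fs) I₀) ≫
      Q.map (homCxPre π I₀)) ≫ (RPIso P).inv.app I₀) ≫ (RP P).map e.inv =
      (e.hom ≫ Q.map (unitHomIso.inv.app I₀)) ≫ Q.map (homCxPre (aug' fs) I₀) ≫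
        Q.map (homCxPre π I₀) ≫ (RPIso P).inv.app I₀ ≫ (RP P).map e.inv
    simp only [Category.assoc]
  have hcomp : (fun ψ : W ⟶ M => ψ ≫ (ηD (π ≫ aug' fs)).app M) =
      (fun ψ => ψ ≫ γ) ∘ (fun ψ => ψ ≫ Q.map (homCxPre (aug' fs) I₀)) ∘ (fun ψ => ψ ≫ α) := by
    funext ψ
    simp only [Function.comp_apply, hfac, Category.assoc]
  rw [hcomp]
  exact (bijective_postcomp_of_isIso γ W).comp
    ((bijective_postcomp_aug I₀ fs W hW).comp (bijective_postcomp_of_isIso α W))

/-- maps from `I`-power torsion objects to `K` and to its derived completion agree -/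
theorem bijective_postcomp_toDerivedCompletion [IsNoetherianRing A] (I : Ideal A)
    [DRing.HasDerivedCompletion I] (K W : Dual.D A)
    (hW : ∀ i : ℤ, LocCoh.IsPowerTorsion I (Dual.HD A W i)) :
    Function.Bijective (fun ψ : W ⟶ K => ψ ≫ DRing.toDerivedCompletion I K) := by
  obtain ⟨fs, hfs⟩ := exists_list_span I
  obtain ⟨P, π, hP, -, hπ, -⟩ :=
    exists_kprojective_resolution (DerCA.extCech (ModuleCat.of A A) fs)
  haveI := hP
  haveI := hπ
  obtain ⟨e, he⟩ := exists_derivedCompletion_iso fs I hfs.symm π K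
  have hPT : ∀ g ∈ fs, ∀ q, PT g (Dual.HD A W q) := fun g hg q =>
    PT_of_isPowerTorsion (I := I) (by rw [hfs]; exact Ideal.subset_span hg) (hW q)
  have hb := bijective_postcomp_ηD fs π K W hPT
  have e' : (fun ψ : W ⟶ K => ψ ≫ DRing.toDerivedCompletion I K) =
      (fun ψ => ψ ≫ e.inv) ∘ (fun ψ : W ⟶ K => ψ ≫ (ηD (π ≫ aug' fs)).app K) := by
    funext ψ
    simp only [Function.comp_apply, ← he, Category.assoc, Iso.hom_inv_id, Category.comp_id]
  rw [e']
  exact (bijective_postcomp_of_isIso e.inv W).comp hb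

lemma bijective_comp_ε [IsNoetherianRing A] (I : Ideal A) [DRing.HasRgammaI I] (L K : Dual.D A)
    (hL : ∀ i : ℤ, LocCoh.IsPowerTorsion I (Dual.HD A L i)) :
    Function.Bijective (fun ψ : L ⟶ (DRing.RgammaI I).obj K => ψ ≫ (DRing.RgammaIε I).app K) := by
  refine ⟨comp_ε_injective I L K hL, fun φ => ?_⟩
  refine ⟨(εIso I L hL).inv ≫ (DRing.RgammaI I).map φ, ?_⟩
  have n1 : (DRing.RgammaI I).map φ ≫ (DRing.RgammaIε I).app K =
      (DRing.RgammaIε I).app L ≫ φ := (DRing.RgammaIε I).naturality φ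
  change ((εIso I L hL).inv ≫ (DRing.RgammaI I).map φ) ≫ (DRing.RgammaIε I).app K = φ
  rw [Category.assoc, n1, ← εIso_hom I L hL, Iso.inv_hom_id_assoc]

/-- `RΓ_I(K) ⟶ RΓ_I(K^)` is an isomorphism -/
theorem isIso_RgammaI_map_toDerivedCompletion [IsNoetherianRing A] (I : Ideal A)
    [DRing.HasRgammaI I] [DRing.HasDerivedCompletion I] (K : Dual.D A) :
    IsIso ((DRing.RgammaI I).map (DRing.toDerivedCompletion I K)) := by
  have key : ∀ (L : Dual.D A) (_ : ∀ i : ℤ, LocCoh.IsPowerTorsion I (Dual.HD A L i)),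
      Function.Bijective (fun ψ : L ⟶ (DRing.RgammaI I).obj K =>
        ψ ≫ (DRing.RgammaI I).map (DRing.toDerivedCompletion I K)) := by
    intro L hL
    have h1 := bijective_comp_ε I L K hL
    have h2 := bijective_comp_ε I L ((DRing.derivedCompletion I).obj K).obj hL
    have h3 := bijective_postcomp_toDerivedCompletion I K L hL
    have hc : (fun ψ : L ⟶ (DRing.RgammaI I).obj ((DRing.derivedCompletion I).obj K).obj =>
        ψ ≫ (DRing.RgammaIε I).app _) ∘ (fun ψ : L ⟶ (DRing.RgammaI I).obj K =>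
        ψ ≫ (DRing.RgammaI I).map (DRing.toDerivedCompletion I K)) =
        (fun ψ : L ⟶ K => ψ ≫ DRing.toDerivedCompletion I K) ∘
          (fun ψ : L ⟶ (DRing.RgammaI I).obj K => ψ ≫ (DRing.RgammaIε I).app K) := by
      funext ψ
      have n1 : (DRing.RgammaI I).map (DRing.toDerivedCompletion I K) ≫
          (DRing.RgammaIε I).app ((DRing.derivedCompletion I).obj K).obj =
          (DRing.RgammaIε I).app K ≫ DRing.toDerivedCompletion I K :=
        (DRing.RgammaIε I).naturality (DRing.toDerivedCompletion I K)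
      simp only [Function.comp_apply, Category.assoc, n1]
    have h4 := h3.comp h1
    rw [← hc] at h4
    exact (Function.Bijective.of_comp_iff' h2 _).1 h4
  obtain ⟨g, hg⟩ := (key _ (isPowerTorsion_HD_RgammaI I _)).2 (𝟙 _)
  refine ⟨g, ?_, hg⟩
  apply (key _ (isPowerTorsion_HD_RgammaI I K)).1
  change ((DRing.RgammaI I).map (DRing.toDerivedCompletion I K) ≫ g) ≫
    (DRing.RgammaI I).map (DRing.toDerivedCompletion I K) =
    𝟙 _ ≫ (DRing.RgammaI I).map (DRing.toDerivedCompletion I K)
  have hg' : g ≫ (DRing.RgammaI I).map (DRing.toDerivedCompletion I K) = 𝟙 _ := hg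
  rw [Category.assoc, hg', Category.comp_id, Category.id_comp]

end PartA

section PartB

open Groth.Agent.Lib.Helper10.RGamA

/-- **maps to derived complete objects do not see the difference between `C` and `Γ_I C`**, for
a complex of injectives `C` over a Noetherian ring -/
theorem bijective_precomp_Q_ιC [IsNoetherianRing A] (fs : List A) {C : Cx A} (hC : TI C)
    (E : Dual.D A) (hE : ∀ g ∈ fs, FC g E) :
    Function.Bijective (fun ψ : Q.obj C ⟶ E =>
      Q.map (ιC (Ideal.span {x : A | x ∈ fs}) C) ≫ ψ) := by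
  induction fs with
  | nil =>
    have h0 : Ideal.span {x : A | x ∈ ([] : List A)} = ⊥ := by simp
    rw [h0]
    haveI := isIso_ιC_bot C
    exact bijective_precomp_of_isIso (Q.map (ιC (⊥ : Ideal A) C)) E
  | cons f fs ih =>
    have ih' := ih (fun g hg => hE g (List.mem_cons_of_mem _ hg))
    have hf : FC f E := hE f List.mem_cons_self
    have hS := sc_shortExact (Ideal.span {x : A | x ∈ fs}) f hC
    have hdp : IsDistPair (Q.map (sc (Ideal.span {x : A | x ∈ fs}) f C).f)
        (Q.map (sc (Ideal.span {x : A | x ∈ fs}) f C).g) :=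
      isDistPair_of_distTriang _ (triangleOfSES_distinguished hS)
    have hloc : IsIso (f • 𝟙 ((DerCA.locCx (Submonoid.powers f)).obj
        ((G (Ideal.span {x : A | x ∈ fs})).obj C))) := isIso_smul_locCx f _
    have hb := bijective_precomp_of_isDistPair hdp E
      (subsingleton_hom_of_isIso_smul f _ hloc E hf)
      (subsingleton_hom_of_isIso_smul f _ hloc _ (hf.shift 1))
    have key : ∀ (I' : Ideal A) (hI' : I' = Ideal.span {f} ⊔ Ideal.span {x : A | x ∈ fs}),
        Function.Bijective (fun ψ : Q.obj C ⟶ E => Q.map (ιC I' C) ≫ ψ) := by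
      intro I' hI'
      subst hI'
      have e : (fun ψ : Q.obj C ⟶ E =>
          Q.map (ιC (Ideal.span {f} ⊔ Ideal.span {x : A | x ∈ fs}) C) ≫ ψ) =
          (fun ψ => Q.map (sc (Ideal.span {x : A | x ∈ fs}) f C).f ≫ ψ) ∘
            (fun ψ => Q.map (ιC (Ideal.span {x : A | x ∈ fs}) C) ≫ ψ) := by
        funext ψ
        change _ = Q.map (leC le_sup_right C) ≫ Q.map (ιC _ C) ≫ ψ
        rw [← Category.assoc, ← Functor.map_comp, leC_ιC]
      rw [e]
      exact hb.comp ih'
    exact key _ (span_cons f fs)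

/-- precomposition with `ε_K : RΓ_I K ⟶ K` is bijective on maps to derived complete objects -/
theorem bijective_precomp_ε [IsNoetherianRing A] (I : Ideal A) [DRing.HasRgammaI I]
    (K E : Dual.D A) (hE : DRing.IsDerivedComplete I E) :
    Function.Bijective (fun ψ : K ⟶ E => (DRing.RgammaIε I).app K ≫ ψ) := by
  obtain ⟨fs, hfs⟩ := exists_list_span I
  obtain ⟨J, hJ, hT, ⟨e⟩⟩ := exists_TI_model K
  haveI := hJ
  haveI := isIso_unitCx_app I J
  have hFC : ∀ g ∈ fs, FC g E := fun g hg => hE g (by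
    rw [hfs]; exact Ideal.subset_span hg)
  have hb : Function.Bijective (fun ψ : Q.obj J ⟶ E => Q.map (ιC I J) ≫ ψ) := by
    have := bijective_precomp_Q_ιC fs hT E hFC
    rwa [← hfs] at this
  have nat : (DRing.RgammaIε I).app K =
      ((DRing.RgammaI I).map e.inv ≫ inv ((unitCx I).app J)) ≫ Q.map (ιC I J) ≫ e.hom := by
    have n1 : (DRing.RgammaI I).map e.inv ≫ (DRing.RgammaIε I).app (Q.obj J) =
        (DRing.RgammaIε I).app K ≫ e.inv := (DRing.RgammaIε I).naturality e.inv
    rw [← unitCx_ε]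
    simp only [Category.assoc, IsIso.inv_hom_id_assoc]
    rw [reassoc_of% n1, Iso.inv_hom_id, Category.comp_id]
  have e' : (fun ψ : K ⟶ E => (DRing.RgammaIε I).app K ≫ ψ) =
      (fun ψ => ((DRing.RgammaI I).map e.inv ≫ inv ((unitCx I).app J)) ≫ ψ) ∘
        (fun ψ => Q.map (ιC I J) ≫ ψ) ∘ (fun ψ => e.hom ≫ ψ) := by
    funext ψ
    simp only [Function.comp_apply, nat, Category.assoc]
  rw [e']
  exact (bijective_precomp_of_isIso _ E).comp (hb.comp (bijective_precomp_of_isIso e.hom E))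

/-- the derived completion of `ε_K : RΓ_I K ⟶ K` is an isomorphism -/
theorem isIso_derivedCompletion_map_ε [IsNoetherianRing A] (I : Ideal A) [DRing.HasRgammaI I]
    [DRing.HasDerivedCompletion I] (K : Dual.D A) :
    IsIso ((DRing.derivedCompletion I).map ((DRing.RgammaIε I).app K)) := by
  apply isIso_of_coyoneda_map_bijective
  intro M
  have e' : (fun x : (DRing.derivedCompletion I).obj K ⟶ M =>
      (DRing.derivedCompletion I).map ((DRing.RgammaIε I).app K) ≫ x) =
      ((DRing.derivedCompletionAdj I).homEquiv _ M).symm ∘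
        (fun ψ : K ⟶ M.obj => (DRing.RgammaIε I).app K ≫ ψ) ∘
          ((DRing.derivedCompletionAdj I).homEquiv K M) := by
    funext x
    simp only [Function.comp_apply]
    rw [Equiv.eq_symm_apply, Adjunction.homEquiv_naturality_left]
    rfl
  have hb : Function.Bijective (fun x : (DRing.derivedCompletion I).obj K ⟶ M =>
      (DRing.derivedCompletion I).map ((DRing.RgammaIε I).app K) ≫ x) := by
    rw [e']
    exact (Equiv.bijective _).comp ((bijective_precomp_ε I K M.obj M.property).comp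
      (Equiv.bijective _))
  exact hb

end PartB

/-- S1814 (Greenlees–May duality over a Noetherian ring) -/
theorem greenlees_may [IsNoetherianRing A] (I : Ideal A) [DRing.HasRgammaI I]
    [DRing.HasDerivedCompletion I] (K : Dual.D A) :
    Nonempty ((DRing.RgammaI I).obj ((DRing.derivedCompletion I).obj K).obj ≅
      (DRing.RgammaI I).obj K) ∧
    Nonempty ((DRing.derivedCompletion I).obj ((DRing.RgammaI I).obj K) ≅
      (DRing.derivedCompletion I).obj K) := by
  haveI := isIso_RgammaI_map_toDerivedCompletion I K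
  haveI := isIso_derivedCompletion_map_ε I K
  exact ⟨⟨(asIso ((DRing.RgammaI I).map (DRing.toDerivedCompletion I K))).symm⟩,
    ⟨asIso ((DRing.derivedCompletion I).map ((DRing.RgammaIε I).app K))⟩⟩


end Groth.Agent.Lib.Helper10.RGamD
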