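import Mathlib
import Groth.Agent.Lib.Helper10PTC
import Groth.Agent.Lib.Helper10RGamD
import Groth.Agent.Lib.Helper10RGamE
import Groth.Agent.Lib.Helper10DCAmp2
import Groth.Agent.S7048
set_option backward.isDefEq.respectTransparency.types false
set_option backward.isDefEq.respectTransparency false

/-!
# The derived completion of a finite module over a Noetherian ring is its adic completion (helper10)

* `bijective_postcomp_unit`: for `A → B` flat with `A/I ≅ B/IB`, maps from objects left orthogonal to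
  `f`-local complexes (`f ∈ I`) to `N[0]` and to `(B ⊗ N)[0]` agree.
* `CA I C`: `C` has no nonzero maps to derived `I`-complete objects; `CA_of_hom_eq_zero`: this holds
  as soon as `Hom(A/I^n[-i], C) = 0` for all `n`, `i` (`A` Noetherian).
* `bijective_precomp_unit`: `N[0] ⟶ (B ⊗ N)[0]` induces bijections on maps to derived complete
  objects.
* `exists_derivedCompletion_iso_adic`: `(M[0])^ ≅ M^[0]` compatibly with the canonical maps, for `M`
  finite over Noetherian `A`.
-/

set_option autoImplicit false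
set_option maxHeartbeats 400000
universe u
open CategoryTheory CategoryTheory.Limits HomologicalComplex CochainComplex
open scoped TensorProduct
attribute [local instance] HasDerivedCategory.standard

namespace Groth.Agent.Lib.Helper10.DCFin

open DerivedCategory Groth.Agent.Lib.Helper1.KF Groth.Agent.Lib.Helper1.Extend
  Groth.Agent.Lib.Helper1.DT
  Groth.Agent.Lib.Helper10.PTB Groth.Agent.Lib.Helper10.PTC Groth.Agent.Lib.Helper10.DCLoc
  Groth.Agent.Lib.Helper10.DCCech
  Groth.Agent.Lib.Helper1.ExtCech Groth.Agent.Lib.Helper1.ExtCech4 DerCA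

section T2

variable {A B : Type u} [CommRing A] [CommRing B] [Algebra A B] [Module.Flat A B]
  (I : Ideal A)
  (hs : Function.Surjective
    ((Ideal.Quotient.mk (I.map (algebraMap A B))).comp (algebraMap A B)))
  (hk : RingHom.ker ((Ideal.Quotient.mk (I.map (algebraMap A B))).comp (algebraMap A B)) = I)

/-- the module `N` in degree `0` as a complex -/
noncomputable abbrev sg (N : ModuleCat.{u} A) : Cx A :=
  (HomologicalComplex.single (ModuleCat.{u} A) (ComplexShape.up ℤ) 0).obj N

include hs hk in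
/-- maps from objects left orthogonal to `f`-local complexes (`f ∈ fs`, `I = (fs)`) to `N[0]` and
to `(B ⊗ N)[0]` agree, for `A → B` flat with `A/I ≅ B/IB`. -/
theorem bijective_postcomp_unit (fs : List A) (hspan : I = Ideal.span {x | x ∈ fs}) (hfg : I.FG)
    (W : Dual.D A) (hW : ∀ f ∈ fs, LO f W) (N : ModuleCat.{u} A) :
    Function.Bijective (fun ψ : W ⟶ Q.obj (sg N) =>
      ψ ≫ Q.map ((adjCx A B).unit.app (sg N))) := by
  have b1 := bijective_postcomp_aug (𝟭 (Cx A)) goodFunctor_id W N fs hW
  have b3 := bijective_postcomp_aug (Gc A B) goodFunctor_Gc W N fs hW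
  have hqi : QuasiIso ((adjCx A B).unit.app (extCech N fs)) :=
    quasiIso_unit (extCech N fs) (fun n => isIso_unit_of_good _
      (Groth.Agent.Lib.Helper10.PTA.bijective_of_isPowerTorsion I hs hk _
        (isPowerTorsion_of_pt I fs hspan hfg (fun f hf => pt_extCechH fs N f hf n))))
  haveI : IsIso (Q.map ((adjCx A B).unit.app (extCech N fs))) :=
    (DerivedCategory.isIso_Q_map_iff_quasiIso _ _).2 hqi
  have b2 : Function.Bijective (fun ψ : W ⟶ Q.obj (extCech N fs) =>
      ψ ≫ Q.map ((adjCx A B).unit.app (extCech N fs))) := bijective_postcomp_of_isIso _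
  have nat := (adjCx A B).unit.naturality (aug N fs)
  have hcomp : (fun ψ : W ⟶ Q.obj (sg N) => ψ ≫ Q.map ((adjCx A B).unit.app (sg N))) ∘
      (fun ψ : W ⟶ Q.obj ((𝟭 (Cx A)).obj (extCech N fs)) =>
        ψ ≫ Q.map ((𝟭 (Cx A)).map (aug N fs))) =
      (fun ψ : W ⟶ Q.obj ((Gc A B).obj (extCech N fs)) =>
        ψ ≫ Q.map ((Gc A B).map (aug N fs))) ∘
      (fun ψ : W ⟶ Q.obj (extCech N fs) =>
        ψ ≫ Q.map ((adjCx A B).unit.app (extCech N fs))) := by
    funext ψ
    simp only [Function.comp_apply, Category.assoc, ← Functor.map_comp]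
    congr 2
  have h4 := b3.comp b2
  rw [← hcomp] at h4
  exact (Function.Bijective.of_comp_iff _ b1).1 h4

end T2

section LES

open Pretriangulated Groth.Agent.Lib.Helper10.DerComplete

variable {A : Type u} [CommRing A]

/-- the cone of `f` receives no maps from `W` if `Hom(W, f)` is surjective and `Hom(W[-1], f)` is
injective -/
lemma hom_cone_eq_zero' {X Y C : Dual.D A} (f : X ⟶ Y) (g : Y ⟶ C) (k : C ⟶ X⟦(1 : ℤ)⟧)
    (hT : Triangle.mk f g k ∈ distTriang _) (W : Dual.D A)
    (hs : Function.Surjective (fun φ : W ⟶ X => φ ≫ f))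
    (hi : Function.Injective (fun φ : W⟦(-1 : ℤ)⟧ ⟶ X => φ ≫ f)) (φ : W ⟶ C) : φ = 0 := by
  have hi' : Function.Injective (fun ξ : W ⟶ X⟦(1 : ℤ)⟧ => ξ ≫ f⟦(1 : ℤ)⟧') := by
    intro ξ ξ' h
    obtain ⟨x, rfl⟩ := (shiftHomEquiv W X 1).surjective ξ
    obtain ⟨x', rfl⟩ := (shiftHomEquiv W X 1).surjective ξ'
    have h' : shiftHomEquiv W X 1 x ≫ f⟦(1 : ℤ)⟧' = shiftHomEquiv W X 1 x' ≫ f⟦(1 : ℤ)⟧' := h
    rw [← Groth.Agent.Lib.Helper10.DCAmp.shiftHomEquiv_naturality,
      ← Groth.Agent.Lib.Helper10.DCAmp.shiftHomEquiv_naturality] at h'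
    rw [hi ((shiftHomEquiv W Y 1).injective h')]
  have h1 : (φ ≫ k) ≫ f⟦(1 : ℤ)⟧' = 0 := by
    rw [Category.assoc]
    have : k ≫ f⟦(1 : ℤ)⟧' = 0 := comp_distTriang_mor_zero₃₁ _ hT
    rw [this, comp_zero]
  have h2 : φ ≫ k = 0 := hi' (by simpa using h1)
  obtain ⟨ψ, hψ⟩ := Triangle.coyoneda_exact₃ _ hT φ h2
  obtain ⟨χ, hχ⟩ := hs ψ
  have hχ' : χ ≫ f = ψ := hχ
  have hψ' : φ = ψ ≫ g := hψ
  have : f ≫ g = 0 := comp_distTriang_mor_zero₁₂ _ hT
  rw [hψ', ← hχ', Category.assoc, this, comp_zero]

/-- shifts of derived complete objects are derived complete -/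
lemma isDerivedComplete_shift (I : Ideal A) (E : Dual.D A) (h : DRing.IsDerivedComplete I E)
    (m : ℤ) : DRing.IsDerivedComplete I (E⟦m⟧) := by
  rw [isDerivedComplete_iff_V] at h ⊢
  intro f hf n
  exact (h f hf (m + n)).of_iso ((CategoryTheory.shiftFunctorAdd' (Dual.D A) m n (m + n) rfl).app _)

/-- `C` has no nonzero maps to derived complete objects -/
def CA (I : Ideal A) (C : Dual.D A) : Prop :=
  ∀ E : Dual.D A, DRing.IsDerivedComplete I E → ∀ φ : C ⟶ E, φ = 0

/-- if the cone of `f` has no maps to derived complete objects, `f` induces bijections on maps to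
derived complete objects -/
lemma bijective_precomp_of_CA (I : Ideal A) {X Y C : Dual.D A} (f : X ⟶ Y) (g : Y ⟶ C)
    (k : C ⟶ X⟦(1 : ℤ)⟧) (hT : Triangle.mk f g k ∈ distTriang _) (hC : CA I C)
    (E : Dual.D A) (hE : DRing.IsDerivedComplete I E) :
    Function.Bijective (fun ψ : Y ⟶ E => f ≫ ψ) := by
  constructor
  · intro ψ ψ' h
    have h' : f ≫ (ψ - ψ') = 0 := by
      rw [Preadditive.comp_sub]
      exact sub_eq_zero.2 h
    obtain ⟨c, hc⟩ := Triangle.yoneda_exact₂ _ hT (ψ - ψ') h'
    rw [hC E hE c, comp_zero] at hc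
    exact sub_eq_zero.1 hc
  · intro χ
    have hT' := inv_rot_of_distTriang _ hT
    have hz : (Triangle.mk f g k).invRotate.mor₁ ≫ χ = 0 := by
      apply (shiftHomEquiv C E 1).injective
      rw [hC _ (isDerivedComplete_shift I E hE 1) (shiftHomEquiv C E 1 _),
        hC _ (isDerivedComplete_shift I E hE 1) (shiftHomEquiv C E 1 0)]
    obtain ⟨ψ, hψ⟩ := Triangle.yoneda_exact₂ _ hT' χ hz
    exact ⟨ψ, hψ.symm⟩

end LES

section Gamma

open Groth.Agent.Lib.Helper10.RGamA Groth.Agent.Lib.Helper10.RGamB Groth.Agent.Lib.Helper10.RGamD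
  Groth.Agent.Lib.Helper10.RGamE Groth.Agent.Lib.Helper5.BiDual

variable {A : Type u} [CommRing A] [IsNoetherianRing A] (I : Ideal A)

/-- an object receiving no maps from the `A/I^n[-i]` has no maps to derived complete objects -/
theorem CA_of_hom_eq_zero (C : Dual.D A)
    (h : ∀ (n : ℕ) (i : ℤ) (t : sD (Nn I n) i ⟶ C), t = 0) : CA I C := by
  obtain ⟨J, hJ, hT, ⟨e⟩⟩ := exists_TI_model C
  haveI := hJ
  obtain ⟨fs, hfs⟩ := exists_list_span I
  have hz : IsZero ((Q : _ ⥤ Dual.D A).obj ((G I).obj J)) := by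
    rw [isZero_Q_obj_iff]
    intro i
    have hsub : Subsingleton (((G I).obj J).homology i) := by
      refine ⟨fun y y' => ?_⟩
      have key : ∀ y : ((G I).obj J).homology i, y = 0 := by
        intro y
        obtain ⟨n, t, rfl⟩ := φ_surjective I J i y
        have ht : t = 0 := by
          have h1 := h n i (t ≫ e.hom)
          exact (cancel_mono e.hom).1 (h1.trans zero_comp.symm)
        rw [ht, map_zero]
      rw [key y, key y']
    exact ModuleCat.isZero_of_subsingleton _
  intro E hE φ
  have hFC : ∀ g ∈ fs, FC g E := fun g hg => hE g (by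
    rw [hfs]; exact Ideal.subset_span hg)
  have hb : Function.Bijective (fun ψ : Q.obj J ⟶ E => Q.map (ιC I J) ≫ ψ) := by
    have := bijective_precomp_Q_ιC fs hT E hFC
    rwa [← hfs] at this
  have h0 : e.hom ≫ φ = 0 := hb.1 (hz.eq_of_src _ _)
  exact (cancel_epi e.hom).1 (h0.trans comp_zero.symm)

end Gamma

section Flat

open Pretriangulated Groth.Agent.Lib.Helper10.RGamA Groth.Agent.Lib.Helper10.RGamE
  Groth.Agent.Lib.Helper5.BiDual

variable {A B : Type u} [CommRing A] [IsNoetherianRing A] [CommRing B] [Algebra A B]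
  [Module.Flat A B] (I : Ideal A)
  (hs : Function.Surjective
    ((Ideal.Quotient.mk (I.map (algebraMap A B))).comp (algebraMap A B)))
  (hk : RingHom.ker ((Ideal.Quotient.mk (I.map (algebraMap A B))).comp (algebraMap A B)) = I)

omit [IsNoetherianRing A] in
lemma PT_Nn (f : A) (hf : f ∈ I) (n : ℕ) : PT f (Nn I n) := by
  intro x
  obtain ⟨b, rfl⟩ := Submodule.Quotient.mk_surjective _ x
  refine ⟨n, ?_⟩
  change (Submodule.Quotient.mk (f ^ n • b) : A ⧸ I ^ n) = 0
  rw [Submodule.Quotient.mk_eq_zero]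
  exact Ideal.mul_mem_right _ _ (Ideal.pow_mem_pow hf n)

omit [IsNoetherianRing A] in
lemma LO_sD (f : A) (hf : f ∈ I) (n : ℕ) (i : ℤ) : LO f (sD (Nn I n) i) :=
  ((LO_inD f (Nn I n) (PT_Nn I f hf n)).shift i).of_iso
    (((DerivedCategory.singleFunctors (ModuleCat.{u} A)).shiftIso (-i) i 0 (by lia)).app (Nn I n))

include hs hk in
/-- **Key**: for `A → B` flat with `A/I ≅ B/IB`, `A` Noetherian, the map `N[0] ⟶ (B ⊗ N)[0]` induces
bijections on maps to derived complete objects. -/
theorem bijective_precomp_unit (N : ModuleCat.{u} A) (E : Dual.D A)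
    (hE : DRing.IsDerivedComplete I E) :
    Function.Bijective (fun ψ : Q.obj ((Gc A B).obj (sg N)) ⟶ E =>
      Q.map ((adjCx A B).unit.app (sg N)) ≫ ψ) := by
  obtain ⟨fs, hfs⟩ := exists_list_span I
  have hfg : I.FG := IsNoetherian.noetherian I
  obtain ⟨C, g, k, hT⟩ := distinguished_cocone_triangle (Q.map ((adjCx A B).unit.app (sg N)))
  refine bijective_precomp_of_CA I _ g k hT ?_ E hE
  apply CA_of_hom_eq_zero
  intro n i t
  have hLO : ∀ f ∈ fs, LO f (sD (Nn I n) i) := fun f hf =>
    LO_sD I f (by rw [hfs]; exact Ideal.subset_span hf) n i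
  have hLO' : ∀ f ∈ fs, LO f ((sD (Nn I n) i)⟦(-1 : ℤ)⟧) := fun f hf => (hLO f hf).shift 1
  exact hom_cone_eq_zero' _ g k hT _
    (bijective_postcomp_unit I hs hk fs hfs hfg _ hLO N).2
    (bijective_postcomp_unit I hs hk fs hfs hfg _ hLO' N).1 t

end Flat

section Completion

open Groth.Agent.Lib.Helper1.Restrict

variable {A : Type u} [CommRing A] [IsNoetherianRing A] (I : Ideal A)
  (M : Type u) [AddCommGroup M] [Module A M] [Module.Finite A M]

omit [IsNoetherianRing A] in
lemma hs_compl (hfg : I.FG) : Function.Surjective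
    ((Ideal.Quotient.mk (I.map (algebraMap A (AdicCompletion I A)))).comp
      (algebraMap A (AdicCompletion I A))) := by
  intro y
  obtain ⟨y, rfl⟩ := Ideal.Quotient.mk_surjective y
  obtain ⟨a, ha⟩ := Ideal.Quotient.mk_surjective (AdicCompletion.evalOneₐ I y)
  refine ⟨a, ?_⟩
  rw [RingHom.comp_apply, Ideal.Quotient.eq, ← AdicCompletion.ker_evalOneₐ_eq_map I hfg,
    RingHom.mem_ker, map_sub]
  have h1 : (AdicCompletion.evalOneₐ I).toRingHom (algebraMap A (AdicCompletion I A) a) =
      Ideal.Quotient.mk I a := by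
    have := AdicCompletion.evalOneₐ_comp_algebraMap_eq_mk I
    exact congr($this a)
  rw [h1, ha]
  exact sub_self _

omit [IsNoetherianRing A] in
lemma hk_compl (hfg : I.FG) : RingHom.ker
    ((Ideal.Quotient.mk (I.map (algebraMap A (AdicCompletion I A)))).comp
      (algebraMap A (AdicCompletion I A))) = I := by
  ext a
  rw [RingHom.mem_ker, RingHom.comp_apply, Ideal.Quotient.eq_zero_iff_mem,
    ← AdicCompletion.ker_evalOneₐ_eq_map I hfg, RingHom.mem_ker]
  have h1 : (AdicCompletion.evalOneₐ I).toRingHom (algebraMap A (AdicCompletion I A) a) =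
      Ideal.Quotient.mk I a := by
    have := AdicCompletion.evalOneₐ_comp_algebraMap_eq_mk I
    exact congr($this a)
  rw [h1, Ideal.Quotient.eq_zero_iff_mem]

/-- `(Â ⊗ M)|_A ≅ M^` for a finite module over a Noetherian ring -/
noncomputable def θ : (resF A (AdicCompletion I A)).obj
    ((ext A (AdicCompletion I A)).obj (ModuleCat.of A M)) ≅
      ModuleCat.of A (AdicCompletion I M) :=
  (resF A (AdicCompletion I A)).mapIso
    (((extEquiv (A := A) (B := AdicCompletion I A) M).trans
      (AdicCompletion.ofTensorProductEquivOfFiniteNoetherian I M)).toModuleIso) ≪≫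
    restrictScalarsAlgebraIso (A := A) (B := AdicCompletion I A) (AdicCompletion I M)

lemma unit_θ :
    (ModuleCat.extendRestrictScalarsAdj.{u, u, u} (algebraMap A (AdicCompletion I A))).unit.app
      (ModuleCat.of A M) ≫ (θ I M).hom = ModuleCat.ofHom (AdicCompletion.of I M) := by
  refine ModuleCat.hom_ext (LinearMap.ext fun m => ?_)
  change AdicCompletion.ofTensorProductEquivOfFiniteNoetherian I M
    ((1 : AdicCompletion I A) ⊗ₜ[A] m) = AdicCompletion.of I M m
  rw [AdicCompletion.ofTensorProductEquivOfFiniteNoetherian_apply,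
    AdicCompletion.ofTensorProduct_tmul, one_smul]

/-- `Gc (M[0]) ≅ M^[0]` at the level of complexes -/
noncomputable def κ : (Gc A (AdicCompletion I A)).obj (sg (ModuleCat.of A M)) ≅
    sg (ModuleCat.of A (AdicCompletion I M)) :=
  (resCx A (AdicCompletion I A)).mapIso
    ((HomologicalComplex.singleMapHomologicalComplex (ext A (AdicCompletion I A))
      (ComplexShape.up ℤ) 0).app (ModuleCat.of A M)) ≪≫
  (HomologicalComplex.singleMapHomologicalComplex (resF A (AdicCompletion I A))
      (ComplexShape.up ℤ) 0).app _ ≪≫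
  (HomologicalComplex.single (ModuleCat.{u} A) (ComplexShape.up ℤ) 0).mapIso (θ I M)

lemma unit_κ : (adjCx A (AdicCompletion I A)).unit.app (sg (ModuleCat.of A M)) ≫ (κ I M).hom =
    (HomologicalComplex.single (ModuleCat.{u} A) (ComplexShape.up ℤ) 0).map
      (ModuleCat.ofHom (AdicCompletion.of I M)) := by
  apply HomologicalComplex.from_single_hom_ext
  rw [← unit_θ I M]
  have nat := (ModuleCat.extendRestrictScalarsAdj.{u, u, u}
    (algebraMap A (AdicCompletion I A))).unit.naturality
    (HomologicalComplex.singleObjXSelf (ComplexShape.up ℤ) 0 (ModuleCat.of A M)).hom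
  simp only [Functor.id_obj, Functor.id_map, Functor.comp_obj, Functor.comp_map] at nat
  simp only [κ, adjCx, Iso.trans_hom, Functor.mapIso_hom, Iso.app_hom, HomologicalComplex.comp_f,
    Functor.mapHomologicalComplex_map_f, HomologicalComplex.singleMapHomologicalComplex_hom_app_self,
    HomologicalComplex.single_map_f_self, Functor.map_comp, Category.assoc]
  change (ModuleCat.extendRestrictScalarsAdj.{u, u, u} (algebraMap A (AdicCompletion I A))).unit.app
    ((sg (ModuleCat.of A M)).X 0) ≫ _ = _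
  rw [reassoc_of% nat]
  simp

/-- the canonical map `M[0] ⟶ M^[0]` -/
noncomputable def uM : Dual.inD A M ⟶ Dual.inD A (AdicCompletion I M) :=
  (DerivedCategory.singleFunctor (ModuleCat.{u} A) 0).map
    (ModuleCat.ofHom (AdicCompletion.of I M))

/-- **Universal property**: for a finite module `M` over a Noetherian ring, `M[0] ⟶ M^[0]` induces
bijections on maps to derived complete objects. -/
theorem bijective_precomp_uM (E : Dual.D A) (hE : DRing.IsDerivedComplete I E) :
    Function.Bijective (fun ψ : Dual.inD A (AdicCompletion I M) ⟶ E => uM I M ≫ ψ) := by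
  have hfg : I.FG := IsNoetherian.noetherian I
  have hb := bijective_precomp_unit (B := AdicCompletion I A) I (hs_compl I hfg) (hk_compl I hfg)
    (ModuleCat.of A M) E hE
  have e : (fun ψ : Dual.inD A (AdicCompletion I M) ⟶ E => uM I M ≫ ψ) =
      (fun ψ : Q.obj ((Gc A (AdicCompletion I A)).obj (sg (ModuleCat.of A M))) ⟶ E =>
        Q.map ((adjCx A (AdicCompletion I A)).unit.app (sg (ModuleCat.of A M))) ≫ ψ) ∘
      (fun ψ : Dual.inD A (AdicCompletion I M) ⟶ E => (Q.mapIso (κ I M)).hom ≫ ψ) := by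
    funext ψ
    change Q.map ((HomologicalComplex.single (ModuleCat.{u} A) (ComplexShape.up ℤ) 0).map
      (ModuleCat.ofHom (AdicCompletion.of I M))) ≫ ψ = _
    rw [← unit_κ I M, Q.map_comp, Category.assoc]
    rfl
  rw [e]
  exact hb.comp (Groth.Agent.Lib.Helper10.DCMain.bijective_precomp_of_isIso _ E)

omit [IsNoetherianRing A] [Module.Finite A M] in
lemma isDerivedComplete_inD_adicCompletion (hfg : I.FG) :
    DRing.IsDerivedComplete I (Dual.inD A (AdicCompletion I M)) := by
  haveI : IsAdicComplete I (AdicCompletion I M) := AdicCompletion.isAdicComplete hfg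
  exact Groth.Agent.S7048.result I (AdicCompletion I M)

/-- **The derived completion of a finite module over a Noetherian ring is its adic completion.** -/
theorem exists_derivedCompletion_iso_adic [DRing.HasDerivedCompletion I] :
    ∃ e : ((DRing.derivedCompletion I).obj (Dual.inD A M)).obj ≅ Dual.inD A (AdicCompletion I M),
      DRing.toDerivedCompletion I (Dual.inD A M) ≫ e.hom = uM I M :=
  Groth.Agent.Lib.Helper10.DCMain.exists_iso_of_universal (DRing.IsDerivedComplete I) _ _
    ((DRing.derivedCompletion I).obj (Dual.inD A M)).property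
    (isDerivedComplete_inD_adicCompletion I M (IsNoetherian.noetherian I))
    (fun E hE => Groth.Agent.Lib.Helper10.DCMain.bijective_toDerivedCompletion I _ E hE)
    (fun E hE => bijective_precomp_uM I M E hE)

end Completion

end Groth.Agent.Lib.Helper10.DCFin
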