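import Mathlib
import Groth.Agent.Lib.Helper10DCFinA
import Groth.Agent.Lib.Helper1Devissage
set_option backward.isDefEq.respectTransparency.types false
set_option backward.isDefEq.respectTransparency false

/-!
# Cohomology of the derived completion of a complex with finite cohomology (helper10)

`A` Noetherian, `I` an ideal.
* `exists_derivedCompletion_iso_adic_single`: `(M[-n])^ ≅ M^[-n]` compatibly with the units, `M` finite.
* `isIso_homology_RP_map`, `isIso_homology_completion_map`: if `Hom(P, Z[n-1]) = Hom(P, Z[n]) = 0`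
  (`P` a K-projective resolution of the extended Čech complex, `Z` the cone of `φ`) then
  `H^n(φ^)` is an isomorphism.
* `subsingleton_hom_of_isLE/_of_isGE/_of_finite`: vanishing of `Hom(P, Z[i])`.
* `IsComplArrow I φ`: `φ : M ⟶ N` is isomorphic under `M` to `M ⟶ M^`.
* `isComplArrow_homology_toDerivedCompletion`: `H^n(K) ⟶ H^n(K^)` is the adic completion of `H^n(K)`
  when all cohomology modules of `K` are finite.
-/

set_option autoImplicit false
set_option maxHeartbeats 400000
universe u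
open CategoryTheory CategoryTheory.Limits HomologicalComplex CochainComplex
open scoped TensorProduct
attribute [local instance] HasDerivedCategory.standard

namespace Groth.Agent.Lib.Helper10.DCFinB

open DerivedCategory Groth.Agent.Lib.Helper1.KF Groth.Agent.Lib.Helper1.DT
  Groth.Agent.Lib.Helper10.DCLoc Groth.Agent.Lib.Helper10.DCFin
  Groth.Agent.Lib.Helper10.DerComplete Pretriangulated

section Shift

variable {A : Type u} [CommRing A] [IsNoetherianRing A] (I : Ideal A)
  (M : Type u) [AddCommGroup M] [Module A M] [Module.Finite A M]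

/-- the canonical map `M[-n] ⟶ M^[-n]` -/
noncomputable def vM (n : ℤ) :
    (DerivedCategory.singleFunctor (ModuleCat.{u} A) n).obj (ModuleCat.of A M) ⟶
      (DerivedCategory.singleFunctor (ModuleCat.{u} A) n).obj
        (ModuleCat.of A (AdicCompletion I M)) :=
  (DerivedCategory.singleFunctor (ModuleCat.{u} A) n).map
    (ModuleCat.ofHom (AdicCompletion.of I M))

/-- `(N[0])[-n] ≅ N[-n]` -/
noncomputable def σ (n : ℤ) (N : ModuleCat.{u} A) :
    ((DerivedCategory.singleFunctor (ModuleCat.{u} A) 0).obj N)⟦-n⟧ ≅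
      (DerivedCategory.singleFunctor (ModuleCat.{u} A) n).obj N :=
  ((DerivedCategory.singleFunctors (ModuleCat.{u} A)).shiftIso (-n) n 0 (by lia)).app N

omit [IsNoetherianRing A] in
lemma σ_naturality (n : ℤ) {N N' : ModuleCat.{u} A} (f : N ⟶ N') :
    ((DerivedCategory.singleFunctor (ModuleCat.{u} A) 0).map f)⟦-n⟧' ≫ (σ n N').hom =
      (σ n N).hom ≫ (DerivedCategory.singleFunctor (ModuleCat.{u} A) n).map f :=
  ((DerivedCategory.singleFunctors (ModuleCat.{u} A)).shiftIso (-n) n 0 (by lia)).hom.naturality f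

omit [IsNoetherianRing A] in
lemma isDerivedComplete_of_iso' (I : Ideal A) {K K' : Dual.D A} (e : K ≅ K')
    (h : DRing.IsDerivedComplete I K) : DRing.IsDerivedComplete I K' := by
  rw [isDerivedComplete_iff_V] at h ⊢
  intro f hf n
  exact (h f hf n).of_iso ((CategoryTheory.shiftFunctor (Dual.D A) n).mapIso e)

omit [IsNoetherianRing A] [Module.Finite A M] in
lemma isDerivedComplete_single_adicCompletion (hfg : I.FG) (n : ℤ) :
    DRing.IsDerivedComplete I ((DerivedCategory.singleFunctor (ModuleCat.{u} A) n).obj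
      (ModuleCat.of A (AdicCompletion I M))) :=
  isDerivedComplete_of_iso' I (σ n _)
    (isDerivedComplete_shift I _ (isDerivedComplete_inD_adicCompletion I M hfg) (-n))

/-- **Universal property** of `M[-n] ⟶ M^[-n]` -/
theorem bijective_precomp_vM (n : ℤ) (E : Dual.D A) (hE : DRing.IsDerivedComplete I E) :
    Function.Bijective (fun ψ : (DerivedCategory.singleFunctor (ModuleCat.{u} A) n).obj
      (ModuleCat.of A (AdicCompletion I M)) ⟶ E => vM I M n ≫ ψ) := by
  have hb := bijective_precomp_uM I M (E⟦n⟧) (isDerivedComplete_shift I E hE n)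
  have e : (fun ψ : (DerivedCategory.singleFunctor (ModuleCat.{u} A) n).obj
      (ModuleCat.of A (AdicCompletion I M)) ⟶ E => vM I M n ≫ ψ) =
      (fun ψ => (σ n (ModuleCat.of A M)).inv ≫ ψ) ∘
      (shiftHomEquiv (Dual.inD A M) E n).symm ∘
      (fun ψ : Dual.inD A (AdicCompletion I M) ⟶ E⟦n⟧ => uM I M ≫ ψ) ∘
      (shiftHomEquiv (Dual.inD A (AdicCompletion I M)) E n) ∘
      (fun ψ => (σ n (ModuleCat.of A (AdicCompletion I M))).hom ≫ ψ) := by
    funext ψ
    simp only [Function.comp_apply]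
    rw [Iso.eq_inv_comp]
    apply (shiftHomEquiv (Dual.inD A M) E n).injective
    rw [Equiv.apply_symm_apply]
    have h1 := σ_naturality n (ModuleCat.ofHom (AdicCompletion.of I M))
    dsimp only [vM]
    rw [← Category.assoc, ← h1, Category.assoc]
    exact Adjunction.homEquiv_naturality_left _ _ _
  rw [e]
  refine Function.Bijective.comp ?_ (Function.Bijective.comp (Equiv.bijective _)
    (Function.Bijective.comp hb (Function.Bijective.comp (Equiv.bijective _) ?_)))
  · exact Groth.Agent.Lib.Helper10.DCMain.bijective_precomp_of_isIso _ E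
  · exact Groth.Agent.Lib.Helper10.DCMain.bijective_precomp_of_isIso _ E

/-- the derived completion of `M[-n]` is `M^[-n]` -/
theorem exists_derivedCompletion_iso_adic_single [DRing.HasDerivedCompletion I] (n : ℤ) :
    ∃ e : ((DRing.derivedCompletion I).obj
        ((DerivedCategory.singleFunctor (ModuleCat.{u} A) n).obj (ModuleCat.of A M))).obj ≅
        (DerivedCategory.singleFunctor (ModuleCat.{u} A) n).obj
          (ModuleCat.of A (AdicCompletion I M)),
      DRing.toDerivedCompletion I _ ≫ e.hom = vM I M n :=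
  Groth.Agent.Lib.Helper10.DCMain.exists_iso_of_universal (DRing.IsDerivedComplete I) _ _
    ((DRing.derivedCompletion I).obj _).property
    (isDerivedComplete_single_adicCompletion I M (IsNoetherian.noetherian I) n)
    (fun E hE => Groth.Agent.Lib.Helper10.DCMain.bijective_toDerivedCompletion I _ E hE)
    (fun E hE => bijective_precomp_vM I M n E hE)

end Shift

section Amp

open Groth.Agent.Lib.Helper10.DCAmp Groth.Agent.Lib.Helper10.UnitHom
  Groth.Agent.Lib.Helper10.TensHomD Groth.Agent.Lib.Helper10.DCMain Groth.Agent.S14388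
  Groth.Agent.Lib.Helper10.RGamA

variable {A : Type u} [CommRing A] {P : Cx A} [P.IsKProjective]

/-- **F1**: if `Hom(P, Z[n-1]) = Hom(P, Z[n]) = 0` for the cone `Z` of `φ` then `H^n(RHom(P, φ))` is
an isomorphism. -/
theorem isIso_homology_RP_map {X Y Z : Dual.D A} (φ : X ⟶ Y) (g : Y ⟶ Z) (h : Z ⟶ X⟦(1 : ℤ)⟧)
    (hT : Triangle.mk φ g h ∈ distTriang _) (n : ℤ)
    (h1 : Subsingleton (Q.obj P ⟶ Z⟦n - 1⟧)) (h2 : Subsingleton (Q.obj P ⟶ Z⟦n⟧)) :
    IsIso ((DerivedCategory.homologyFunctor (ModuleCat.{u} A) n).map ((RP P).map φ)) := by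
  obtain ⟨N', g', h', hT'⟩ := distinguished_cocone_triangle ((RP P).map φ)
  have z1 : IsZero ((DerivedCategory.homologyFunctor (ModuleCat.{u} A) (n - 1)).obj N') := by
    haveI := subsingleton_HD_of_hom_eq_zero N' (n - 1)
      (fun χ => hom_cone_RP_eq_zero P φ g h hT g' h' hT' (n - 1) h1 χ)
    exact ModuleCat.isZero_of_subsingleton _
  have z2 : IsZero ((DerivedCategory.homologyFunctor (ModuleCat.{u} A) n).obj N') := by
    haveI := subsingleton_HD_of_hom_eq_zero N' n
      (fun χ => hom_cone_RP_eq_zero P φ g h hT g' h' hT' n h2 χ)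
    exact ModuleCat.isZero_of_subsingleton _
  have m := ((isZero_homology_obj₃_iff _ hT' (n - 1)).1 z1).2
  have e := ((isZero_homology_obj₃_iff _ hT' n).1 z2).1
  rw [show n - 1 + 1 = n by omega] at m
  haveI : Mono ((DerivedCategory.homologyFunctor (ModuleCat.{u} A) n).map ((RP P).map φ)) := m
  haveI : Epi ((DerivedCategory.homologyFunctor (ModuleCat.{u} A) n).map ((RP P).map φ)) := e
  exact isIso_of_mono_of_epi _

/-- transfer of **F1** to the derived completion -/
theorem isIso_homology_completion_map (fs : List A) (I : Ideal A)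
    (hI : Ideal.span {x : A | x ∈ fs} = I) [DRing.HasDerivedCompletion I]
    (π : P ⟶ DerCA.extCech (ModuleCat.of A A) fs) [QuasiIso π]
    {X Y Z : Dual.D A} (φ : X ⟶ Y) (g : Y ⟶ Z) (h : Z ⟶ X⟦(1 : ℤ)⟧)
    (hT : Triangle.mk φ g h ∈ distTriang _) (n : ℤ)
    (h1 : Subsingleton (Q.obj P ⟶ Z⟦n - 1⟧)) (h2 : Subsingleton (Q.obj P ⟶ Z⟦n⟧)) :
    IsIso ((DerivedCategory.homologyFunctor (ModuleCat.{u} A) n).map
      ((DRing.derivedCompletion I).map φ).hom) := by
  obtain ⟨e⟩ := exists_arrow_iso fs I hI π φ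
  exact ((MorphismProperty.isomorphisms _).arrow_mk_iso_iff
    ((DerivedCategory.homologyFunctor (ModuleCat.{u} A) n).mapArrow.mapIso e)).2
    (isIso_homology_RP_map φ g h hT n h1 h2)

omit [P.IsKProjective] in
/-- **F2** -/
lemma subsingleton_hom_of_isLE (fs : List A)
    (π : P ⟶ DerCA.extCech (ModuleCat.of A A) fs) [QuasiIso π] (Z : Dual.D A) (i m : ℤ)
    (hm : m < i) [Z.IsLE m] : Subsingleton (Q.obj P ⟶ Z⟦i⟧) := by
  haveI : IsIso (Q.map π) := (isIso_Q_map_iff_quasiIso _ π).2 inferInstance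
  haveI : (Z⟦i⟧).IsLE (m - i) := TStructure.t.isLE_shift Z m i (m - i) (by omega)
  haveI : (Z⟦i⟧).IsLE (-1) := TStructure.t.isLE_of_le (Z⟦i⟧) (m - i) (-1) (by omega)
  haveI := subsingleton_hom_extCech_of_isLE fs (Z⟦i⟧)
  exact (asIso (Q.map π)).homFromEquiv.subsingleton

omit [P.IsKProjective] in
/-- **F3** -/
lemma subsingleton_hom_of_isGE (fs : List A)
    (π : P ⟶ DerCA.extCech (ModuleCat.of A A) fs) [QuasiIso π] (Z : Dual.D A) (i m : ℤ)
    (hm : i + (fs.length : ℤ) < m) [Z.IsGE m] : Subsingleton (Q.obj P ⟶ Z⟦i⟧) := by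
  haveI : IsIso (Q.map π) := (isIso_Q_map_iff_quasiIso _ π).2 inferInstance
  haveI : (Z⟦i⟧).IsGE (m - i) := TStructure.t.isGE_shift Z m i (m - i) (by omega)
  haveI : (Z⟦i⟧).IsGE ((fs.length : ℤ) + 1) :=
    TStructure.t.isGE_of_ge (Z⟦i⟧) ((fs.length : ℤ) + 1) (m - i) (by omega)
  haveI := subsingleton_hom_extCech_of_isGE fs (Z⟦i⟧)
  exact (asIso (Q.map π)).homFromEquiv.subsingleton

/-- `Hom(W, -[i])` is exact in the middle -/
lemma subsingleton_hom_of_triangle (W : Dual.D A) (T : Triangle (Dual.D A))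
    (hT : T ∈ distTriang _) (i : ℤ) (h1 : Subsingleton (W ⟶ T.obj₁⟦i⟧))
    (h3 : Subsingleton (W ⟶ T.obj₃⟦i⟧)) : Subsingleton (W ⟶ T.obj₂⟦i⟧) := by
  have hT' := Triangle.shift_distinguished T hT i
  refine ⟨fun y y' => ?_⟩
  have key : ∀ y : W ⟶ T.obj₂⟦i⟧, y = 0 := by
    intro y
    obtain ⟨x, hx⟩ := Triangle.coyoneda_exact₂ _ hT' y
      (Subsingleton.elim (α := W ⟶ T.obj₃⟦i⟧) _ _)
    have hx0 : x = 0 := Subsingleton.elim (α := W ⟶ T.obj₁⟦i⟧) _ _
    rw [hx, hx0, zero_comp]
  rw [key y, key y']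

section Fin

variable [IsNoetherianRing A] (fs : List A) (I : Ideal A)
  (hI : Ideal.span {x : A | x ∈ fs} = I) [DRing.HasDerivedCompletion I]
  (π : P ⟶ DerCA.extCech (ModuleCat.of A A) fs) [QuasiIso π]

include hI π in
/-- `Hom(P, M[-j][i]) = 0` for `i ≠ j`, `M` a finite module -/
theorem subsingleton_hom_single (M : Type u) [AddCommGroup M] [Module A M] [Module.Finite A M]
    (j i : ℤ) (hij : i ≠ j) :
    Subsingleton (Q.obj P ⟶
      ((DerivedCategory.singleFunctor (ModuleCat.{u} A) j).obj (ModuleCat.of A M))⟦i⟧) := by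
  obtain ⟨m, hm⟩ : ∃ m : ℤ, m = i - j := ⟨_, rfl⟩
  have hm0 : m ≠ 0 := by omega
  obtain ⟨e1, -⟩ := exists_derivedCompletion_iso fs I hI π (Dual.inD A M)
  obtain ⟨e2, -⟩ := exists_derivedCompletion_iso_adic I M
  have key : ∀ φ : U A m ⟶ Dual.inD A (AdicCompletion I M), φ = 0 := by
    intro φ
    have := hom_eq_zero_of_isZero m (sg (ModuleCat.of A (AdicCompletion I M)))
      (HomologicalComplex.isZero_single_obj_X _ _ _ _ hm0)
      (φ ≫ ((singleFunctorIsoCompQ (ModuleCat.{u} A) 0).app _).hom)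
    exact (cancel_mono _).1 (this.trans zero_comp.symm)
  haveI s1 : Subsingleton (U A m ⟶ Dual.inD A (AdicCompletion I M)) :=
    ⟨fun a b => (key a).trans (key b).symm⟩
  haveI s2 : Subsingleton (U A m ⟶ (RP P).obj (Dual.inD A M)) :=
    (e1.symm ≪≫ e2).homToEquiv.subsingleton
  haveI s3 : Subsingleton (Q.obj P ⟶ (Dual.inD A M)⟦m⟧) :=
    (uHomEquiv P (Dual.inD A M) m).symm.subsingleton
  let ε : ((DerivedCategory.singleFunctor (ModuleCat.{u} A) j).obj (ModuleCat.of A M))⟦i⟧ ≅
      (Dual.inD A M)⟦m⟧ :=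
    (CategoryTheory.shiftFunctor (Dual.D A) i).mapIso (σ j (ModuleCat.of A M)).symm ≪≫
      ((CategoryTheory.shiftFunctorAdd' (Dual.D A) (-j) i m (by omega)).app _).symm
  exact ε.homToEquiv.subsingleton

include hI π in
/-- **F4**: `Hom(P, Z[i]) = 0` for `i < a` if `Z ∈ D^{≥ a}` has finite cohomology modules -/
theorem subsingleton_hom_of_finite (Z : Dual.D A) (a : ℤ) [Z.IsGE a]
    (hZ : ∀ j : ℤ, Module.Finite A (Dual.HD A Z j)) (i : ℤ) (hi : i < a) :
    Subsingleton (Q.obj P ⟶ Z⟦i⟧) := by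
  obtain ⟨N, hN⟩ : ∃ N : ℤ, N = i + fs.length := ⟨_, rfl⟩
  have hT := tt.triangleLTGE_distinguished (N + 1) Z
  refine subsingleton_hom_of_triangle (Q.obj P) _ hT i ?_ ?_
  · change Subsingleton (Q.obj P ⟶ ((tt.truncLT (N + 1)).obj Z)⟦i⟧)
    let Pr : ObjectProperty (Dual.D A) := fun W => Subsingleton (Q.obj P ⟶ W⟦i⟧)
    haveI : Pr.IsClosedUnderIsomorphisms := ⟨fun {X Y} e hX =>
      @Equiv.subsingleton _ _ ((CategoryTheory.shiftFunctor (Dual.D A) i).mapIso e).symm.homToEquiv
        hX⟩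
    refine Groth.Agent.Lib.Helper1.Devissage.induction_homology' Pr ?_ ?_
      ((tt.truncLT (N + 1)).obj Z) a N ?_ ?_
    · intro K hK
      exact ⟨fun x y => ((CategoryTheory.shiftFunctor (Dual.D A) i).map_isZero hK).eq_of_tgt _ _⟩
    · intro T hT h1 h3
      exact subsingleton_hom_of_triangle _ T hT i h1 h3
    · intro j hj
      rcases hj with hj | hj
      · exact DerivedCategory.isZero_of_isGE _ a j hj
      · exact DerivedCategory.isZero_of_isLE _ N j hj
    · intro j hj1 hj2
      haveI := isIso_homology_truncLTι (N + 1) j (by omega) Z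
      haveI : Module.Finite A ((DerivedCategory.homologyFunctor (ModuleCat.{u} A) j).obj
          ((tt.truncLT (N + 1)).obj Z)) :=
        haveI : Module.Finite A ((DerivedCategory.homologyFunctor (ModuleCat.{u} A) j).obj
          ((𝟭 (DerivedCategory (ModuleCat.{u} A))).obj Z)) := hZ j
        Module.Finite.equiv (asIso ((DerivedCategory.homologyFunctor
          (ModuleCat.{u} A) j).map ((tt.truncLTι (N + 1)).app Z))).symm.toLinearEquiv
      exact subsingleton_hom_single fs I hI π
        ((DerivedCategory.homologyFunctor (ModuleCat.{u} A) j).obj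
          ((tt.truncLT (N + 1)).obj Z)) j i (by omega)
  · exact subsingleton_hom_of_isGE fs π _ i (N + 1) (by omega)

end Fin

end Amp

section Main

open Groth.Agent.Lib.Helper10.DCAmp Groth.Agent.Lib.Helper10.UnitHom
  Groth.Agent.Lib.Helper10.TensHomD Groth.Agent.Lib.Helper10.DCMain Groth.Agent.S14388
  Groth.Agent.Lib.Helper10.RGamA

variable {A : Type u} [CommRing A] (I : Ideal A)

/-- `φ : M ⟶ N` is isomorphic (under `M`) to the canonical map to the `I`-adic completion -/
def IsComplArrow {M N : ModuleCat.{u} A} (φ : M ⟶ N) : Prop :=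
  ∃ e : N ≅ ModuleCat.of A (AdicCompletion I M),
    φ ≫ e.hom = ModuleCat.ofHom (AdicCompletion.of I M)

lemma isComplArrow_of (M : ModuleCat.{u} A) :
    IsComplArrow I (ModuleCat.ofHom (AdicCompletion.of I M)) :=
  ⟨Iso.refl _, Category.comp_id _⟩

variable {I} in
lemma IsComplArrow.of_iso {M N M' N' : ModuleCat.{u} A} {φ : M ⟶ N} {φ' : M' ⟶ N'}
    (h : IsComplArrow I φ) (a : M ≅ M') (b : N ≅ N') (w : a.hom ≫ φ' = φ ≫ b.hom) :
    IsComplArrow I φ' := by
  obtain ⟨c, hc⟩ := h
  let κ : ModuleCat.of A (AdicCompletion I M) ≅ ModuleCat.of A (AdicCompletion I M') :=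
    ((AdicCompletion.congr I a.toLinearEquiv).restrictScalars A).toModuleIso
  have hκ : ModuleCat.ofHom (AdicCompletion.of I M) ≫ κ.hom =
      a.hom ≫ ModuleCat.ofHom (AdicCompletion.of I M') := by
    refine ModuleCat.hom_ext (LinearMap.ext fun m => ?_)
    exact AdicCompletion.map_of I _ m
  refine ⟨b.symm ≪≫ c ≪≫ κ, ?_⟩
  have hφ' : φ' = a.inv ≫ φ ≫ b.hom := by rw [← w, Iso.inv_hom_id_assoc]
  rw [hφ']
  simp only [Iso.trans_hom, Iso.symm_hom, Category.assoc, Iso.hom_inv_id_assoc]
  rw [reassoc_of% hc, hκ, Iso.inv_hom_id_assoc]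

lemma isComplArrow_iff_of_map [DRing.HasDerivedCompletion I] {X Y : Dual.D A} (φ : X ⟶ Y) (n : ℤ)
    (h1 : IsIso ((DerivedCategory.homologyFunctor (ModuleCat.{u} A) n).map φ))
    (h2 : IsIso ((DerivedCategory.homologyFunctor (ModuleCat.{u} A) n).map
      ((DRing.derivedCompletion I).map φ).hom)) :
    IsComplArrow I ((DerivedCategory.homologyFunctor (ModuleCat.{u} A) n).map
      (DRing.toDerivedCompletion I X)) ↔
    IsComplArrow I ((DerivedCategory.homologyFunctor (ModuleCat.{u} A) n).map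
      (DRing.toDerivedCompletion I Y)) := by
  have hnat : DRing.toDerivedCompletion I X ≫ ((DRing.derivedCompletion I).map φ).hom =
      φ ≫ DRing.toDerivedCompletion I Y :=
    ((DRing.derivedCompletionAdj I).unit.naturality φ).symm
  have hnat' : (DerivedCategory.homologyFunctor (ModuleCat.{u} A) n).map
      (DRing.toDerivedCompletion I X) ≫ (DerivedCategory.homologyFunctor (ModuleCat.{u} A) n).map
      ((DRing.derivedCompletion I).map φ).hom =
      (DerivedCategory.homologyFunctor (ModuleCat.{u} A) n).map φ ≫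
        (DerivedCategory.homologyFunctor (ModuleCat.{u} A) n).map
          (DRing.toDerivedCompletion I Y) := by
    rw [← Functor.map_comp, ← Functor.map_comp, hnat]
  constructor
  · intro h
    exact h.of_iso (asIso ((DerivedCategory.homologyFunctor (ModuleCat.{u} A) n).map φ))
      (asIso ((DerivedCategory.homologyFunctor (ModuleCat.{u} A) n).map
        ((DRing.derivedCompletion I).map φ).hom)) hnat'.symm
  · intro h
    refine h.of_iso (asIso ((DerivedCategory.homologyFunctor (ModuleCat.{u} A) n).map φ)).symm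
      (asIso ((DerivedCategory.homologyFunctor (ModuleCat.{u} A) n).map
        ((DRing.derivedCompletion I).map φ).hom)).symm ?_
    simp only [Iso.symm_hom, asIso_inv, IsIso.eq_comp_inv, Category.assoc, IsIso.inv_comp_eq]
    exact hnat'

omit I in
lemma finite_homology_truncGE (K : Dual.D A)
    (hK : ∀ j : ℤ, Module.Finite A (Dual.HD A K j)) (m : ℤ) (j : ℤ) :
    Module.Finite A (Dual.HD A ((tt.truncGE m).obj K) j) := by
  by_cases hj : m ≤ j
  · haveI := isIso_homology_truncGEπ m j hj K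
    haveI : Module.Finite A ((DerivedCategory.homologyFunctor (ModuleCat.{u} A) j).obj
      ((𝟭 (DerivedCategory (ModuleCat.{u} A))).obj K)) := hK j
    exact Module.Finite.equiv (asIso ((DerivedCategory.homologyFunctor
      (ModuleCat.{u} A) j).map ((tt.truncGEπ m).app K))).toLinearEquiv
  · haveI : Subsingleton (Dual.HD A ((tt.truncGE m).obj K) j) :=
      ModuleCat.subsingleton_of_isZero (DerivedCategory.isZero_of_isGE _ m j (by omega))
    infer_instance

/-- **Main theorem**: for `K` with finite cohomology modules over a Noetherian ring,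
`H^n(K) ⟶ H^n(K^)` is the `I`-adic completion of `H^n(K)`. -/
theorem isComplArrow_homology_toDerivedCompletion [IsNoetherianRing A]
    [DRing.HasDerivedCompletion I] (K : Dual.D A)
    (hK : ∀ n : ℤ, Module.Finite A (Dual.HD A K n)) (n : ℤ) :
    IsComplArrow I ((DerivedCategory.homologyFunctor (ModuleCat.{u} A) n).map
      (DRing.toDerivedCompletion I K)) := by
  obtain ⟨fs, hfs⟩ := exists_list_span I
  obtain ⟨P, π, hP, -, hπ, -⟩ :=
    exists_kprojective_resolution (DerCA.extCech (ModuleCat.of A A) fs)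
  -- step 1: `K ⟶ τ_{≥ n} K`
  let L := (tt.truncGE n).obj K
  have hT1 := rot_of_distTriang _ (tt.triangleLTGE_distinguished n K)
  haveI : (((tt.truncLT n).obj K)⟦(1 : ℤ)⟧).IsLE (n - 2) :=
    TStructure.t.isLE_shift _ (n - 1) 1 (n - 2) (by omega)
  have i1 := isIso_homology_truncGEπ n n le_rfl K
  have s1 : Subsingleton (Q.obj P ⟶ (((tt.truncLT n).obj K)⟦(1 : ℤ)⟧)⟦n - 1⟧) :=
    subsingleton_hom_of_isLE fs π _ (n - 1) (n - 2) (by omega)
  have s2 : Subsingleton (Q.obj P ⟶ (((tt.truncLT n).obj K)⟦(1 : ℤ)⟧)⟦n⟧) :=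
    subsingleton_hom_of_isLE fs π _ n (n - 2) (by omega)
  have i1' := isIso_homology_completion_map fs I hfs.symm π _ _ _ hT1 n s1 s2
  refine (isComplArrow_iff_of_map I ((tt.truncGEπ n).app K) n i1 i1').2 ?_
  have hL : ∀ j : ℤ, Module.Finite A (Dual.HD A L j) := finite_homology_truncGE K hK n
  -- step 2: `τ_{≤ n} L ⟶ L`
  have hT2 := tt.triangleLTGE_distinguished (n + 1) L
  have hG : ∀ j : ℤ, Module.Finite A (Dual.HD A ((tt.truncGE (n + 1)).obj L) j) :=
    finite_homology_truncGE L hL (n + 1)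
  have t1 : Subsingleton (Q.obj P ⟶ ((tt.truncGE (n + 1)).obj L)⟦n - 1⟧) :=
    subsingleton_hom_of_finite fs I hfs.symm π _ (n + 1) hG (n - 1) (by omega)
  have t2 : Subsingleton (Q.obj P ⟶ ((tt.truncGE (n + 1)).obj L)⟦n⟧) :=
    subsingleton_hom_of_finite fs I hfs.symm π _ (n + 1) hG n (by omega)
  have i2 := isIso_homology_truncLTι (n + 1) n (by omega) L
  have i2' := isIso_homology_completion_map fs I hfs.symm π _ _ _ hT2 n t1 t2
  refine (isComplArrow_iff_of_map I ((tt.truncLTι (n + 1)).app L) n i2 i2').1 ?_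
  -- step 3: `τ_{≤ n} L ≅ M[-n]`
  let L' := (tt.truncLT (n + 1)).obj L
  haveI : L'.IsGE n := inferInstance
  haveI : L'.IsLE n := inferInstance
  obtain ⟨ε⟩ := Groth.Agent.S0973.iso_single_of_amp L' n
  refine (isComplArrow_iff_of_map I ε.hom n inferInstance inferInstance).2 ?_
  -- step 4: the completion of `M[-n]`
  obtain ⟨M, hM⟩ : ∃ M : ModuleCat.{u} A,
    M = (DerivedCategory.homologyFunctor (ModuleCat.{u} A) n).obj L' := ⟨_, rfl⟩
  rw [← hM]
  haveI : Module.Finite A M := by
    rw [hM]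
    haveI : Module.Finite A ((DerivedCategory.homologyFunctor (ModuleCat.{u} A) n).obj
      ((𝟭 (DerivedCategory (ModuleCat.{u} A))).obj L)) := hL n
    exact Module.Finite.equiv (asIso ((DerivedCategory.homologyFunctor
      (ModuleCat.{u} A) n).map ((tt.truncLTι (n + 1)).app L))).symm.toLinearEquiv
  obtain ⟨e, he⟩ := exists_derivedCompletion_iso_adic_single I M n
  let ψ := DerivedCategory.singleFunctorCompHomologyFunctorIso (ModuleCat.{u} A) n
  have h5 : IsComplArrow I ((DerivedCategory.homologyFunctor (ModuleCat.{u} A) n).map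
      (vM I M n)) := by
    refine (isComplArrow_of I M).of_iso (ψ.app M).symm
      (ψ.app (ModuleCat.of A (AdicCompletion I M))).symm ?_
    exact (ψ.inv.naturality (ModuleCat.ofHom (AdicCompletion.of I M))).symm
  refine h5.of_iso (Iso.refl _)
    ((DerivedCategory.homologyFunctor (ModuleCat.{u} A) n).mapIso e).symm ?_
  rw [Iso.refl_hom, Category.id_comp, Iso.symm_hom, Functor.mapIso_inv, ← he, Functor.map_comp,
    Category.assoc, ← Functor.map_comp, Iso.hom_inv_id, CategoryTheory.Functor.map_id,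
    Category.comp_id]

end Main

end Groth.Agent.Lib.Helper10.DCFinB
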