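import Mathlib
import Groth.Agent.Lib.Helper10DerComplete4
import Groth.Agent.Lib.Helper10DerComplete5

/-!
# Derived completeness: transport along linear equivalences, homology of complexes
-/

set_option autoImplicit false
universe u
open CategoryTheory Limits DerivedCategory

attribute [local instance] HasDerivedCategory.standard

namespace Groth.Agent.Lib.Helper10.DerComplete

variable {A : Type u} [CommRing A]

section
variable {M N : Type*} [AddCommGroup M] [Module A M] [AddCommGroup N] [Module A N]

theorem Crit.of_linearEquiv {f : A} (e : M ≃ₗ[A] N) (h : Crit f M) : Crit f N := by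
  obtain ⟨hU, hE⟩ := h
  constructor
  · intro m hm n
    have := hU (fun n => e.symm (m n)) (fun n => by rw [← map_smul, ← hm n]) n
    simpa using this
  · intro y
    obtain ⟨m, hm⟩ := hE (fun n => e.symm (y n))
    refine ⟨fun n => e (m n), fun n => ?_⟩
    rw [← map_smul, ← map_sub, hm n, e.apply_symm_apply]

theorem Crit.of_finite_free {f : A} (h : Crit f A) [Module.Finite A M] [Module.Free A M] :
    Crit f M := by
  have e := (Module.Free.chooseBasis A M).equivFun
  exact (Crit.pi _ h).of_linearEquiv e.symm

end

/-- homology of a short complex of derived complete modules is derived complete. -/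
theorem Crit.shortComplex_homology {f : A} (S : ShortComplex (ModuleCat.{u} A))
    (h1 : Crit f S.X₁) (h2 : Crit f S.X₂) (h3 : Crit f S.X₃) : Crit f S.homology := by
  have hZ : Crit f (LinearMap.ker S.g.hom) := Crit.ker S.g.hom h2 h3
  have hH : Crit f (LinearMap.ker S.g.hom ⧸ LinearMap.range S.moduleCatToCycles) :=
    Crit.coker S.moduleCatToCycles h1 hZ
  exact hH.of_linearEquiv S.moduleCatHomologyIso.symm.toLinearEquiv

theorem Crit.homology {f : A} (E : CochainComplex (ModuleCat.{u} A) ℤ)
    (h : ∀ i, Crit f (E.X i)) (i : ℤ) : Crit f (E.homology i) :=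
  Crit.shortComplex_homology (E.sc i) (h _) (h _) (h _)

theorem Crit.HD_Q {f : A} (E : CochainComplex (ModuleCat.{u} A) ℤ)
    (h : ∀ i, Crit f (E.X i)) (i : ℤ) : Crit f (Dual.HD A (Q.obj E) i) :=
  (Crit.homology E h i).of_linearEquiv
    ((homologyFunctorFactors (ModuleCat.{u} A) i).app E).symm.toLinearEquiv

theorem Crit.HD_of_iso {f : A} {K K' : Dual.D A} (e : K ≅ K') (i : ℤ)
    (h : Crit f (Dual.HD A K i)) : Crit f (Dual.HD A K' i) :=
  h.of_linearEquiv ((homologyFunctor (ModuleCat.{u} A) i).mapIso e).toLinearEquiv

end Groth.Agent.Lib.Helper10.DerComplete
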