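import Mathlib
import Groth.Agent.Lib.Helper1LBC
import Groth.Agent.Lib.Helper1TorD
import Groth.Agent.Lib.Helper1PC

set_option autoImplicit false

namespace Groth.Agent.Lib.Helper1.LDer

open CategoryTheory Limits DerivedCategory Groth.Agent.Lib.Helper1.Tor

universe u

attribute [local instance] HasDerivedCategory.standard

variable {A B : Type u} [CommRing A] [CommRing B] (φ : A →+* B)

/-- right t-exactness of termwise base change on bounded above flat complexes -/
lemma exactAt_bc_of_flat (K : DRing.Cx A) (b : ℤ) (hb : DRing.VanishesAbove K b)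
    (hflat : DRing.TermwiseFlat K) (n : ℤ) (hex : ∀ j : ℤ, n < j → K.ExactAt j)
    (j : ℤ) (hj : n < j) : ((bcCx φ).obj K).ExactAt j := by
  have h := exactAt_TC_of_flat K b hb hflat n hex
    ((ModuleCat.restrictScalars.{u} φ).obj (ModuleCat.of B B)) j hj
  rw [exactAt_TC_iff _ K (j - 1) j (j + 1) (by lia) rfl] at h
  rw [exactAt_iff_fexact (R := B) _ (j - 1) j (j + 1) (by lia) rfl]
  exact h


open Groth.Agent.Lib.Helper1.PC Pretriangulated in
/-- base change preserves connectivity of maps between bounded above flat complexes -/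
theorem conn_bc {P E : DRing.Cx A} (f : P ⟶ E) (b b' : ℤ) (hPb : DRing.VanishesAbove P b)
    (hEb : DRing.VanishesAbove E b') (hP : DRing.TermwiseFlat P) (hE : DRing.TermwiseFlat E)
    (m : ℤ) (hf : Conn m (Q.map f)) : Conn m (Q.map ((bcCx φ).map f)) := by
  have hT := DerivedCategory.mappingCone_triangle_distinguished f
  have h1 : (Q.obj (CochainComplex.mappingCone f)).IsLE (m - 1) :=
    (conn_iff_of_distTriang _ hT m).1 hf
  rw [DerivedCategory.isLE_Q_obj_iff, CochainComplex.isLE_iff] at h1
  have hex' : ∀ j : ℤ, m - 1 < j → ((bcCx φ).obj (CochainComplex.mappingCone f)).ExactAt j :=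
    fun j hj => exactAt_bc_of_flat φ _ _ (vanishesAbove_mappingCone f b b' hPb hEb)
      (termwiseFlat_mappingCone f hP hE) (m - 1) h1 j hj
  have h2 : (Q.obj ((bcCx φ).obj (CochainComplex.mappingCone f))).IsLE (m - 1) := by
    rw [DerivedCategory.isLE_Q_obj_iff, CochainComplex.isLE_iff]
    exact hex'
  have e := CochainComplex.mappingCone.mapHomologicalComplexIso f (ModuleCat.extendScalars.{u, u, u} φ)
  have h3 : (Q.obj (CochainComplex.mappingCone ((bcCx φ).map f))).IsLE (m - 1) :=
    (DerivedCategory.TStructure.t).isLE_of_iso (Q.mapIso e) (m - 1)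
  have hT' := DerivedCategory.mappingCone_triangle_distinguished ((bcCx φ).map f)
  exact (conn_iff_of_distTriang _ hT' m).2 h3

/-- base change preserves quasi-isomorphisms between bounded above flat complexes -/
theorem isIso_Q_map_bc {P E : DRing.Cx A} (f : P ⟶ E) (b b' : ℤ) (hPb : DRing.VanishesAbove P b)
    (hEb : DRing.VanishesAbove E b') (hP : DRing.TermwiseFlat P) (hE : DRing.TermwiseFlat E)
    (hf : IsIso (Q.map f)) : IsIso (Q.map ((bcCx φ).map f)) := by
  have hT := DerivedCategory.mappingCone_triangle_distinguished f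
  have hz : IsZero (Q.obj (CochainComplex.mappingCone f)) :=
    (Pretriangulated.Triangle.isZero₃_iff_isIso₁ _ hT).2 hf
  have hex : ∀ j : ℤ, (CochainComplex.mappingCone f).ExactAt j := exactAt_of_isZero_Q _ hz
  have hex' : ∀ j : ℤ, ((bcCx φ).obj (CochainComplex.mappingCone f)).ExactAt j := fun j =>
    exactAt_bc_of_flat φ _ _ (vanishesAbove_mappingCone f b b' hPb hEb)
      (termwiseFlat_mappingCone f hP hE) (j - 1) (fun k _ => hex k) j (by lia)
  have hz' : IsZero (Q.obj ((bcCx φ).obj (CochainComplex.mappingCone f))) :=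
    isZero_Q_of_exactAt _ hex'
  have e := CochainComplex.mappingCone.mapHomologicalComplexIso f (ModuleCat.extendScalars.{u, u, u} φ)
  have hz'' : IsZero (Q.obj (CochainComplex.mappingCone ((bcCx φ).map f))) :=
    hz'.of_iso (Q.mapIso e).symm
  have hT' := DerivedCategory.mappingCone_triangle_distinguished ((bcCx φ).map f)
  exact (Pretriangulated.Triangle.isZero₃_iff_isIso₁ _ hT').1 hz''

end Groth.Agent.Lib.Helper1.LDer
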