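import Mathlib
import Groth.Agent.Lib.Helper1TorD

/-!
# Tor amplitude: two out of three, shifts (helper1)
-/
set_option autoImplicit false
universe u
open CategoryTheory CategoryTheory.Limits MonoidalCategory
attribute [local instance] HasDerivedCategory.standard

namespace Groth.Agent.Lib.Helper1.Tor

open DerivedCategory Pretriangulated Groth.Agent.Lib.Helper21.DTrunc Groth.Agent.S14388
open Groth.Agent.Lib.Helper1.Cone Groth.Agent.Lib.Helper1.ProjRes

variable {R : Type u} [CommRing R]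

lemma hasTorAmp_of_iso {K K' : Dual.D R} (e : K ≅ K') {a b : ℤ}
    (h : DRing.HasTorAmplitudeIn R a b K) : DRing.HasTorAmplitudeIn R a b K' := by
  obtain ⟨E, h1, h2, ⟨e'⟩⟩ := h
  exact ⟨E, h1, h2, ⟨e' ≪≫ e⟩⟩

lemma hasTorAmp_shift {K : Dual.D R} {a b : ℤ} (h : DRing.HasTorAmplitudeIn R a b K) (n : ℤ)
    (a' b' : ℤ) (ha : a' + n = a) (hb : b' + n = b) :
    DRing.HasTorAmplitudeIn R a' b' (K⟦n⟧) := by
  obtain ⟨E, h1, h2, ⟨e⟩⟩ := h
  refine ⟨E⟦n⟧, fun i hi => h1 (i + n) (by lia), fun i => h2 (i + n),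
    ⟨(Q.commShiftIso n).app E ≪≫ (shiftFunctor _ n).mapIso e⟩⟩

/-- the cone of a map from tor amplitude `[a+1, b+1]` to tor amplitude `[a, b]` has tor
amplitude `[a, b]` -/
theorem hasTorAmp_cone (Tr : Triangle (Dual.D R)) (hT : Tr ∈ distTriang (Dual.D R)) (a b : ℤ)
    (h₁ : DRing.HasTorAmplitudeIn R (a + 1) (b + 1) Tr.obj₁)
    (h₂ : DRing.HasTorAmplitudeIn R a b Tr.obj₂) : DRing.HasTorAmplitudeIn R a b Tr.obj₃ := by
  obtain ⟨E₁, hE₁, hE₁f, ⟨e₁⟩⟩ := h₁
  obtain ⟨E₂, hE₂, hE₂f, ⟨e₂⟩⟩ := h₂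
  have hE₁le : E₁.IsStrictlyLE (b + 1) := by
    rw [CochainComplex.isStrictlyLE_iff]
    exact fun i hi => hE₁ i (Or.inr hi)
  obtain ⟨P, p, hp, hPproj, hPle⟩ := exists_proj_res E₁ (b + 1)
  have hKP : P.IsKProjective := CochainComplex.isKProjective_of_projective P (b + 1)
  have hpi : IsIso (Q.map p) := (DerivedCategory.isIso_Q_map_iff_quasiIso (φ := p)).2 hp
  obtain ⟨c, hc⟩ := exists_chain_map P E₂ (Q.map p ≫ e₁.hom ≫ Tr.mor₁ ≫ e₂.inv)
  have hT' := DerivedCategory.mappingCone_triangle_distinguished c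
  obtain ⟨i₁, hi₁⟩ : ∃ i₁ : Q.obj P ≅ Tr.obj₁, i₁.hom = Q.map p ≫ e₁.hom :=
    ⟨asIso (Q.map p) ≪≫ e₁, rfl⟩
  have comm : (Q.mapTriangle.obj (CochainComplex.mappingCone.triangle c)).mor₁ ≫ e₂.hom =
      i₁.hom ≫ Tr.mor₁ := by
    rw [hi₁]
    show Q.map c ≫ e₂.hom = (Q.map p ≫ e₁.hom) ≫ Tr.mor₁
    rw [hc]
    simp only [Category.assoc, Iso.inv_hom_id, Category.comp_id]
  have e₃ : Q.obj (CochainComplex.mappingCone c) ≅ Tr.obj₃ :=
    Triangle.π₃.mapIso (isoTriangleOfIso₁₂ _ _ hT' hT i₁ e₂ comm)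
  have hPb : DRing.VanishesAbove P (b + 1) := fun i hi => P.isZero_of_isStrictlyLE (b + 1) i hi
  have hPf : DRing.TermwiseFlat P := fun i =>
    have := hPproj i
    have : Module.Projective R (P.X i) := ModuleCat.projective_of_module_projective _
    inferInstance
  have hE₂b : DRing.VanishesAbove E₂ b := fun i hi => hE₂ i (Or.inr hi)
  have hPtv : TorVan P (a + 1) (b + 1) :=
    torVan_of_iso P E₁ (b + 1) hPb hPf (a + 1) (b + 1) hE₁ hE₁f (asIso (Q.map p)).symm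
  have hCb := vanishesAbove_mappingCone c (b + 1) b hPb hE₂b
  have hCf := termwiseFlat_mappingCone c hPf hE₂f
  have hCtv : TorVan (CochainComplex.mappingCone c) a b := by
    intro M i hi
    have e' := CochainComplex.mappingCone.mapHomologicalComplexIso c (T M)
    have hT'' := DerivedCategory.mappingCone_triangle_distinguished ((TC M).map c)
    have hex := DerivedCategory.HomologySequence.exact₃ _ hT'' i (i + 1) rfl
    have z₂ : IsZero ((homologyFunctor (ModuleCat.{u} R) i).obj (Q.obj ((TC M).obj E₂))) :=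
      (exactAt_iff_isZero_H _ i).1 (exactAt_of_isZero_X _ i ((T M).map_isZero (hE₂ i hi)))
    have z₁ : IsZero ((homologyFunctor (ModuleCat.{u} R) (i + 1)).obj (Q.obj ((TC M).obj P))) :=
      (exactAt_iff_isZero_H _ (i + 1)).1 (hPtv M (i + 1) (by lia))
    have z₃ := hex.isZero_of_both_zeros (z₂.eq_of_src _ _) (z₁.eq_of_tgt _ _)
    have h3 : (CochainComplex.mappingCone ((TC M).map c)).ExactAt i :=
      (exactAt_iff_isZero_H _ i).2 z₃
    exact exactAt_of_Q_iso (Q.mapIso e').symm i h3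
  exact hasTorAmp_of_iso e₃ (hasTorAmp_of_torVan _ _ hCb hCf a b hCtv)

/-- two out of three for tor amplitude -/
theorem hasTorAmp_two_out_of_three (a b : ℤ) (Tr : Triangle (Dual.D R))
    (hT : Tr ∈ distTriang (Dual.D R)) :
    (DRing.HasTorAmplitudeIn R (a + 1) (b + 1) Tr.obj₁ → DRing.HasTorAmplitudeIn R a b Tr.obj₂ →
        DRing.HasTorAmplitudeIn R a b Tr.obj₃) ∧
      (DRing.HasTorAmplitudeIn R a b Tr.obj₁ → DRing.HasTorAmplitudeIn R a b Tr.obj₃ →
        DRing.HasTorAmplitudeIn R a b Tr.obj₂) ∧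
      (DRing.HasTorAmplitudeIn R (a + 1) (b + 1) Tr.obj₂ → DRing.HasTorAmplitudeIn R a b Tr.obj₃ →
        DRing.HasTorAmplitudeIn R (a + 1) (b + 1) Tr.obj₁) := by
  refine ⟨hasTorAmp_cone Tr hT a b, fun h₁ h₃ => ?_, fun h₂ h₃ => ?_⟩
  · exact hasTorAmp_cone Tr.invRotate (inv_rot_of_distTriang _ hT) a b
      (hasTorAmp_shift h₃ (-1) (a + 1) (b + 1) (by lia) (by lia)) h₁
  · have h := hasTorAmp_cone Tr.rotate (rot_of_distTriang _ hT) a b h₂ h₃
    exact hasTorAmp_of_iso ((shiftEquiv _ (1 : ℤ)).unitIso.symm.app Tr.obj₁)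
      (hasTorAmp_shift h (-1) (a + 1) (b + 1) (by lia) (by lia))


end Groth.Agent.Lib.Helper1.Tor
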