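import Mathlib
import Groth.Agent.Lib.Helper1TorE

/-!
# Tor amplitude: retracts, zero objects, singles (helper1)
-/
set_option autoImplicit false
universe u
open CategoryTheory CategoryTheory.Limits MonoidalCategory
attribute [local instance] HasDerivedCategory.standard

namespace Groth.Agent.Lib.Helper1.Tor

open DerivedCategory Pretriangulated Groth.Agent.Lib.Helper21.DTrunc Groth.Agent.S14388
open Groth.Agent.Lib.Helper1.Cone Groth.Agent.Lib.Helper1.ProjRes ZeroObject

variable {R : Type u} [CommRing R]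

lemma homotopy_of_Q_map_eq (S L : DRing.Cx R) [S.IsKProjective] (f g : S ⟶ L)
    (h : Q.map f = Q.map g) : Nonempty (Homotopy f g) := by
  have h2 : (HomotopyCategory.quotient (ModuleCat.{u} R) (ComplexShape.up ℤ)).map f =
      (HomotopyCategory.quotient (ModuleCat.{u} R) (ComplexShape.up ℤ)).map g := by
    apply (CochainComplex.IsKProjective.Qh_map_bijective _ _).1
    exact h
  exact ⟨HomotopyCategory.homotopyOfEq _ _ h2⟩

lemma termwiseFlat_of_projective (P : DRing.Cx R) (h : ∀ k : ℤ, Projective (P.X k)) :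
    DRing.TermwiseFlat P := fun i =>
  have := h i
  have : Module.Projective R (P.X i) := ModuleCat.projective_of_module_projective _
  inferInstance

/-- tor amplitude passes to retracts -/
theorem hasTorAmp_of_retract (X K : Dual.D R) (ι : K ⟶ X) (π : X ⟶ K) (hιπ : ι ≫ π = 𝟙 K)
    (a b : ℤ) (hX : DRing.HasTorAmplitudeIn R a b X) : DRing.HasTorAmplitudeIn R a b K := by
  obtain ⟨E, hE, hEf, ⟨e⟩⟩ := hX
  have hEle : E.IsStrictlyLE b := by
    rw [CochainComplex.isStrictlyLE_iff]
    exact fun i hi => hE i (Or.inr hi)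
  have hXle : X.IsLE b := by
    have : (Q.obj E).IsLE b := inferInstance
    exact tt.isLE_of_iso e b
  have hKle : K.IsLE b := by
    rw [DerivedCategory.isLE_iff]
    intro i hi
    have hz := (DerivedCategory.isLE_iff X b).1 hXle i hi
    rw [IsZero.iff_id_eq_zero, ← CategoryTheory.Functor.map_id, ← hιπ, Functor.map_comp,
      hz.eq_of_tgt ((homologyFunctor (ModuleCat.{u} R) i).map ι) 0, zero_comp]
  obtain ⟨PK, hPKle, hPKproj, ⟨eK⟩⟩ := exists_iso_Q_proj K b
  obtain ⟨PX, p, hp, hPXproj, hPXle⟩ := exists_proj_res E b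
  have hKPK : PK.IsKProjective := CochainComplex.isKProjective_of_projective PK b
  have hKPX : PX.IsKProjective := CochainComplex.isKProjective_of_projective PX b
  have hpi : IsIso (Q.map p) := (DerivedCategory.isIso_Q_map_iff_quasiIso (φ := p)).2 hp
  obtain ⟨ι', hι'⟩ := exists_chain_map PK PX (eK.hom ≫ ι ≫ e.inv ≫ inv (Q.map p))
  obtain ⟨π', hπ'⟩ := exists_chain_map PX PK (Q.map p ≫ e.hom ≫ π ≫ eK.inv)
  have hcomp : Q.map (ι' ≫ π') = Q.map (𝟙 PK) := by
    rw [Functor.map_comp, hι', hπ', CategoryTheory.Functor.map_id]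
    simp only [Category.assoc, IsIso.inv_hom_id_assoc, Iso.inv_hom_id_assoc]
    rw [reassoc_of% hιπ, Iso.hom_inv_id]
  obtain ⟨hh⟩ := homotopy_of_Q_map_eq PK PK _ _ hcomp
  have hPKb : DRing.VanishesAbove PK b := fun i hi => PK.isZero_of_isStrictlyLE b i hi
  have hPXb : DRing.VanishesAbove PX b := fun i hi => PX.isZero_of_isStrictlyLE b i hi
  have hPKf := termwiseFlat_of_projective PK hPKproj
  have hPXf := termwiseFlat_of_projective PX hPXproj
  have hPXtv : TorVan PX a b :=
    torVan_of_iso PX E b hPXb hPXf a b hE hEf (asIso (Q.map p)).symm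
  have hPKtv : TorVan PK a b := by
    intro M i hi
    have h1 := hPXtv M i hi
    have hh' := (T M).mapHomotopy hh
    rw [HomologicalComplex.exactAt_iff_isZero_homology] at h1 ⊢
    have h2 := hh'.homologyMap_eq i
    rw [IsZero.iff_id_eq_zero, ← HomologicalComplex.homologyMap_id]
    have h3 : ((T M).mapHomologicalComplex (ComplexShape.up ℤ)).map (𝟙 PK) = 𝟙 _ :=
      CategoryTheory.Functor.map_id _ _
    rw [← h3, ← h2, Functor.map_comp, HomologicalComplex.homologyMap_comp,
      h1.eq_of_tgt (HomologicalComplex.homologyMap _ i) 0, zero_comp]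
  exact hasTorAmp_of_iso eK (hasTorAmp_of_torVan PK b hPKb hPKf a b hPKtv)


/-- the tor-amplitude property as an object property -/
def TAProp (R : Type u) [CommRing R] (a b : ℤ) : ObjectProperty (Dual.D R) :=
  fun X => DRing.HasTorAmplitudeIn R a b X

instance (a b : ℤ) : (TAProp R a b).IsClosedUnderIsomorphisms :=
  ⟨fun e h => hasTorAmp_of_iso e h⟩

lemma hasTorAmp_of_isZero (K : Dual.D R) (hK : IsZero K) (a b : ℤ) :
    DRing.HasTorAmplitudeIn R a b K := by
  refine ⟨0, fun i _ => ?_, fun i => ?_, ⟨(Q.map_isZero (isZero_zero _)).iso hK⟩⟩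
  · exact (HomologicalComplex.eval _ _ i).map_isZero (isZero_zero _)
  · have hz : IsZero ((0 : DRing.Cx R).X i) :=
      (HomologicalComplex.eval _ _ i).map_isZero (isZero_zero _)
    have := ModuleCat.subsingleton_of_isZero hz
    infer_instance

lemma hasTorAmp_single (N : ModuleCat.{u} R) (a b j : ℤ)
    (h : DRing.HasTorAmplitudeIn R (a - j) (b - j)
      ((DerivedCategory.singleFunctor (ModuleCat.{u} R) 0).obj N)) :
    DRing.HasTorAmplitudeIn R a b ((DerivedCategory.singleFunctor (ModuleCat.{u} R) j).obj N) :=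
  hasTorAmp_of_iso
    (((DerivedCategory.singleFunctors (ModuleCat.{u} R)).shiftIso (-j) j 0 (by lia)).app N)
    (hasTorAmp_shift h (-j) a b (by lia) (by lia))

end Groth.Agent.Lib.Helper1.Tor
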