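import Mathlib
import Groth.Agent.Lib.Helper1LBC2
import Groth.Agent.Lib.Helper1TorF

set_option autoImplicit false


namespace Groth.Agent.Lib.Helper1.LDer

open CategoryTheory Limits DerivedCategory MonoidalCategory Groth.Agent.Lib.Helper1.Tor

universe u

attribute [local instance] HasDerivedCategory.standard

section LT

variable {A : Type u} [CommRing A] (M : ModuleCat.{u} A)

/-- termwise tensor product `- ⊗ M` of complexes (this is `DRing.tensorCx · M`). -/
noncomputable abbrev tCx : DRing.Cx A ⥤ DRing.Cx A :=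
  (tensorRight M).mapHomologicalComplex (ComplexShape.up ℤ)

variable [DRing.HasLTensor A M]

/-- The canonical map `K ⊗^L M ⟶ K ⊗ M` (natural in the complex `K`). -/
noncomputable def ltCounit :
    (DerivedCategory.Q ⋙ DRing.LTensor A M : DRing.Cx A ⥤ _) ⟶ tCx M ⋙ DerivedCategory.Q :=
  (Functor.whiskerLeft (HomotopyCategory.quotient _ _)
    ((DRing.tensorKh A M).totalLeftDerivedCounit Qh
      (HomotopyCategory.quasiIso (ModuleCat.{u} A) (ComplexShape.up ℤ))) :) ≫
  (Functor.whiskerRight ((tensorRight M).mapHomotopyCategoryFactors (ComplexShape.up ℤ)).hom Qh :)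

instance isIso_ltCounit_app (P : DRing.Cx A) [P.IsKProjective] : IsIso ((ltCounit M).app P) := by
  have := isIso_counit_app_of_isKProjective (DRing.tensorKh A M) (DRing.LTensor A M)
    ((DRing.tensorKh A M).totalLeftDerivedCounit Qh
      (HomotopyCategory.quasiIso (ModuleCat.{u} A) (ComplexShape.up ℤ))) P
  dsimp [ltCounit]
  have h2 : IsIso (Qh.map (((tensorRight M).mapHomotopyCategoryFactors
      (ComplexShape.up ℤ)).hom.app P)) := inferInstance
  exact IsIso.comp_isIso' this h2

/-- `K ⊗^L M ≅ K ⊗ M` for K-projective `K`. -/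
noncomputable def ltIso (P : DRing.Cx A) [P.IsKProjective] :
    (DRing.LTensor A M).obj (DerivedCategory.Q.obj P) ≅ DerivedCategory.Q.obj ((tCx M).obj P) :=
  asIso ((ltCounit M).app P)

lemma ltIso_hom_naturality {P P' : DRing.Cx A} [P.IsKProjective] [P'.IsKProjective] (f : P ⟶ P') :
    (DRing.LTensor A M).map (DerivedCategory.Q.map f) ≫ (ltIso M P').hom =
      (ltIso M P).hom ≫ DerivedCategory.Q.map ((tCx M).map f) :=
  (ltCounit M).naturality f

end LT

section Braid

variable {A : Type u} [CommRing A] (M : ModuleCat.{u} A)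

/-- `- ⊗ M` and `M ⊗ -` on complexes agree -/
noncomputable def tCxIsoTC : tCx M ≅ TC M :=
  NatIso.mapHomologicalComplex (BraidedCategory.tensorLeftIsoTensorRight M).symm (ComplexShape.up ℤ)

lemma exactAt_tCx_iff (K : DRing.Cx A) (i : ℤ) :
    ((tCx M).obj K).ExactAt i ↔ ((TC M).obj K).ExactAt i :=
  ⟨fun h => h.of_iso ((tCxIsoTC M).app K), fun h => h.of_iso ((tCxIsoTC M).app K).symm⟩

/-- `- ⊗ M` preserves quasi-isomorphisms between bounded above flat complexes -/
theorem isIso_Q_map_tCx {P E : DRing.Cx A} (f : P ⟶ E) (b b' : ℤ) (hPb : DRing.VanishesAbove P b)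
    (hEb : DRing.VanishesAbove E b') (hP : DRing.TermwiseFlat P) (hE : DRing.TermwiseFlat E)
    (hf : IsIso (Q.map f)) : IsIso (Q.map ((tCx M).map f)) := by
  have h1 : IsIso (Q.map ((TC M).map f)) := isIso_Q_map_TC f b b' hPb hEb hP hE hf M
  have h3 : (tCx M).map f = ((tCxIsoTC M).app P).hom ≫ (TC M).map f ≫ ((tCxIsoTC M).app E).inv := by
    rw [Iso.app_inv, Iso.app_hom, ← (tCxIsoTC M).hom.naturality_assoc f, Iso.hom_inv_id_app,
      Category.comp_id]
  rw [h3, Functor.map_comp, Functor.map_comp]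
  infer_instance

end Braid

section FlatM

variable {A : Type u} [CommRing A] (M : ModuleCat.{u} A) [Module.Flat A M]

/-- for flat `M`, `- ⊗ M` preserves all quasi-isomorphisms -/
lemma quasiIso_tCx_map {X Y : DRing.Cx A} (f : X ⟶ Y) [QuasiIso f] : QuasiIso ((tCx M).map f) := by
  have : PreservesFiniteColimits (tensorRight M) := by
    have : (tensorRight M).IsLeftAdjoint := inferInstance
    infer_instance
  infer_instance

lemma isInvertedBy_tensorKh_of_flat :
    (HomotopyCategory.quasiIso (ModuleCat.{u} A) (ComplexShape.up ℤ)).IsInvertedBy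
      (DRing.tensorKh A M) := by
  intro X Y f hf
  obtain ⟨X', rfl⟩ := HomotopyCategory.quotient_obj_surjective X
  obtain ⟨Y', rfl⟩ := HomotopyCategory.quotient_obj_surjective Y
  obtain ⟨f', rfl⟩ := (HomotopyCategory.quotient _ _).map_surjective f
  have hq : QuasiIso f' := by
    rw [HomotopyCategory.quotient_map_mem_quasiIso_iff] at hf
    exact (HomologicalComplex.mem_quasiIso_iff _).1 hf
  have h1 : QuasiIso ((tCx M).map f') := quasiIso_tCx_map M f'
  have h2 : IsIso (Q.map ((tCx M).map f')) :=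
    (DerivedCategory.isIso_Q_map_iff_quasiIso (φ := (tCx M).map f')).2 h1
  have h3 : ((tensorRight M).mapHomotopyCategory (ComplexShape.up ℤ)).map
      ((HomotopyCategory.quotient _ _).map f') =
        (HomotopyCategory.quotient _ _).map ((tCx M).map f') := rfl
  show IsIso (Qh.map (((tensorRight M).mapHomotopyCategory (ComplexShape.up ℤ)).map
      ((HomotopyCategory.quotient _ _).map f')))
  rw [h3]
  exact h2

variable [DRing.HasLTensor A M]

/-- for flat `M`, `K ⊗^L M ≅ K ⊗ M` for all complexes `K` -/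
instance isIso_ltCounit_app_of_flat (X : DRing.Cx A) : IsIso ((ltCounit M).app X) := by
  have h0 := Functor.isIso_of_isLeftDerivedFunctor_of_inverts
    (W := HomotopyCategory.quasiIso (ModuleCat.{u} A) (ComplexShape.up ℤ)) (DRing.LTensor A M)
    ((DRing.tensorKh A M).totalLeftDerivedCounit Qh
      (HomotopyCategory.quasiIso (ModuleCat.{u} A) (ComplexShape.up ℤ)))
    (isInvertedBy_tensorKh_of_flat M)
  have := (NatTrans.isIso_iff_isIso_app _).1 h0 ((HomotopyCategory.quotient _ _).obj X)
  dsimp [ltCounit]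
  have h2 : IsIso (Qh.map (((tensorRight M).mapHomotopyCategoryFactors
      (ComplexShape.up ℤ)).hom.app X)) := inferInstance
  exact IsIso.comp_isIso' this h2

/-- `K ⊗^L M ≅ K ⊗ M` for flat `M`. -/
noncomputable def ltIsoOfFlat (X : DRing.Cx A) :
    (DRing.LTensor A M).obj (DerivedCategory.Q.obj X) ≅ DerivedCategory.Q.obj ((tCx M).obj X) :=
  asIso ((ltCounit M).app X)

end FlatM

section Unit

variable {A : Type u} [CommRing A] [DRing.HasLTensor A (ModuleCat.of A A)]

/-- `K ⊗^L A ≅ K` -/
noncomputable def ltUnitIso (X : DRing.Cx A) :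
    (DRing.LTensor A (ModuleCat.of A A)).obj (DerivedCategory.Q.obj X) ≅ DerivedCategory.Q.obj X :=
  ltIsoOfFlat (ModuleCat.of A A) X ≪≫
    Q.mapIso ((NatIso.mapHomologicalComplex (rightUnitorNatIso (ModuleCat.{u} A))
      (ComplexShape.up ℤ)).app X ≪≫ (Functor.mapHomologicalComplexIdIso _ _).app X)

end Unit

end Groth.Agent.Lib.Helper1.LDer
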