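import Mathlib
import Groth.Agent.Lib.Helper1LT
import Groth.Agent.Lib.Helper1DT2
import Groth.Agent.Lib.Helper10DerComplete6

/-!
# Derived Nakayama (helper10)

For a finitely generated ideal `I = (f₁, …, f_r)` and a derived `I`-complete object `K` of `D(A)`:
`K ⊗^L A/I = 0` implies `K = 0` (`derived_nakayama`).

Proof: `K = Q(P)` with `P` K-projective with projective terms.
* `isZero_Q_tCx`: `P ⊗ A/I` acyclic implies `P ⊗ N` contractible for all modules `N` killed by `I`
  (the identity of `P ⊗ N` factors through `(P → P ⊗ A/I) ⊗ N`, which is null-homotopic).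
* `acyTens_mappingCone`: if `X ⊗ N` is acyclic for all `N` killed by `J + (f)`, then `cone(f on X) ⊗ N`
  is acyclic for all `N` killed by `J` (`N[f]`, `N/fN` are killed by `J + (f)`).
* `isZero_of_isZero_mappingCone`: for derived complete `Y`, `cone(f on Y) = 0` implies `Y = 0`.
-/

set_option autoImplicit false
universe u
open CategoryTheory Limits DerivedCategory MonoidalCategory TensorProduct

attribute [local instance] HasDerivedCategory.standard

namespace Groth.Agent.Lib.Helper10.DNak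

open Groth.Agent.Lib.Helper1.LDer

variable {A : Type u} [CommRing A]

section Act

variable (I : Ideal A) (N : ModuleCat.{u} A) (hN : ∀ a ∈ I, ∀ x : N, a • x = 0)

/-- the action map `A/I ⊗ N → N` for a module killed by `I` -/
noncomputable def actLin : (A ⧸ I) ⊗[A] N →ₗ[A] N :=
  TensorProduct.lift (Submodule.liftQ I (LinearMap.lsmul A N)
    (fun a ha => by
      rw [LinearMap.mem_ker]
      ext x
      exact hN a ha x))

lemma actLin_tmul (a : A) (x : N) :
    actLin I N hN ((Ideal.Quotient.mk I a) ⊗ₜ x) = a • x := by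
  rfl

/-- the action map as a morphism -/
noncomputable def act : ModuleCat.of A (A ⧸ I) ⊗ N ⟶ N := ModuleCat.ofHom (actLin I N hN)

/-- `X → X ⊗ A/I` -/
noncomputable def β (X : ModuleCat.{u} A) : X ⟶ X ⊗ ModuleCat.of A (A ⧸ I) :=
  (ρ_ X).inv ≫ X ◁ ModuleCat.ofHom (Submodule.mkQ I)

lemma β_apply (X : ModuleCat.{u} A) (x : X) :
    (β I X).hom x = x ⊗ₜ (Ideal.Quotient.mk I 1) := by
  rfl

lemma β_naturality {X Y : ModuleCat.{u} A} (g : X ⟶ Y) :
    β I X ≫ g ▷ ModuleCat.of A (A ⧸ I) = g ≫ β I Y := by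
  apply ModuleCat.hom_ext
  ext x
  rfl

/-- `(X ⊗ A/I) ⊗ N → X ⊗ N` -/
noncomputable def γ (X : ModuleCat.{u} A) : (X ⊗ ModuleCat.of A (A ⧸ I)) ⊗ N ⟶ X ⊗ N :=
  (α_ X _ N).hom ≫ X ◁ act I N hN

lemma γ_naturality {X Y : ModuleCat.{u} A} (g : X ⟶ Y) :
    (g ▷ ModuleCat.of A (A ⧸ I)) ▷ N ≫ γ I N hN Y = γ I N hN X ≫ g ▷ N := by
  dsimp only [γ]
  rw [← Category.assoc, associator_naturality_left, Category.assoc, Category.assoc,
    whisker_exchange]

lemma β_γ (X : ModuleCat.{u} A) : β I X ▷ N ≫ γ I N hN X = 𝟙 (X ⊗ N) := by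
  apply ModuleCat.MonoidalCategory.tensor_ext
  intro x n
  change (x ⊗ₜ[A] ((1 : A) • n) : (X ⊗ N : ModuleCat.{u} A)) = x ⊗ₜ n
  rw [one_smul]

end Act

section Chain

variable (I : Ideal A) (N : ModuleCat.{u} A) (hN : ∀ a ∈ I, ∀ x : N, a • x = 0)

/-- `P → P ⊗ A/I` -/
noncomputable def πc (P : DRing.Cx A) : P ⟶ (tCx (ModuleCat.of A (A ⧸ I))).obj P where
  f i := β I (P.X i)
  comm' i j _ := (β_naturality I (P.d i j)).symm

/-- `(P ⊗ A/I) ⊗ N → P ⊗ N` -/
noncomputable def γc (P : DRing.Cx A) :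
    (tCx N).obj ((tCx (ModuleCat.of A (A ⧸ I))).obj P) ⟶ (tCx N).obj P where
  f i := γ I N hN (P.X i)
  comm' i j _ := (γ_naturality I N hN (P.d i j)).symm

lemma πc_γc (P : DRing.Cx A) : (tCx N).map (πc I P) ≫ γc I N hN P = 𝟙 _ := by
  apply HomologicalComplex.hom_ext
  intro i
  exact β_γ I N hN (P.X i)

include hN in
/-- if `P` is K-projective and `P ⊗ A/I` is acyclic then `P ⊗ N` is zero in the derived category
for every module `N` killed by `I`. -/
theorem isZero_Q_tCx (P : DRing.Cx A) [P.IsKProjective]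
    (hP : ((tCx (ModuleCat.of A (A ⧸ I))).obj P).Acyclic) :
    IsZero (Q.obj ((tCx N).obj P)) := by
  have h : Homotopy (πc I P) 0 := CochainComplex.IsKProjective.homotopyZero _ hP
  have h2 : Homotopy ((tCx N).map (πc I P)) ((tCx N).map 0) :=
    (tensorRight N).mapHomotopy h
  have h3 := DerivedCategory.Q_map_eq_of_homotopy _ h2
  rw [IsZero.iff_id_eq_zero, ← Q.map_id, ← πc_γc I N hN P, Q.map_comp, h3, Functor.map_zero,
    Functor.map_zero, zero_comp]

end Chain

section Psi

variable (X : DRing.Cx A)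

/-- functoriality of `X ⊗ N` in the module `N` -/
noncomputable def Ψmap {N N' : ModuleCat.{u} A} (g : N ⟶ N') :
    (tCx N).obj X ⟶ (tCx N').obj X where
  f i := X.X i ◁ g
  comm' i j _ := whisker_exchange (X.d i j) g

@[simp] lemma Ψmap_f {N N' : ModuleCat.{u} A} (g : N ⟶ N') (i : ℤ) :
    (Ψmap X g).f i = X.X i ◁ g := rfl

lemma Ψmap_comp {N N' N'' : ModuleCat.{u} A} (g : N ⟶ N') (g' : N' ⟶ N'') :
    Ψmap X (g ≫ g') = Ψmap X g ≫ Ψmap X g' := by
  apply HomologicalComplex.hom_ext
  intro i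
  exact MonoidalCategory.whiskerLeft_comp _ _ _

lemma Ψmap_zero (N N' : ModuleCat.{u} A) : Ψmap X (0 : N ⟶ N') = 0 := by
  apply HomologicalComplex.hom_ext
  intro i
  exact MonoidalPreadditive.whiskerLeft_zero

/-- the short complex `X ⊗ S` -/
noncomputable def ΨS (S : ShortComplex (ModuleCat.{u} A)) : ShortComplex (DRing.Cx A) :=
  ShortComplex.mk (Ψmap X S.f) (Ψmap X S.g) (by rw [← Ψmap_comp, S.zero, Ψmap_zero])

lemma ΨS_shortExact (hX : DRing.TermwiseFlat X) (S : ShortComplex (ModuleCat.{u} A))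
    (hS : S.ShortExact) : (ΨS X S).ShortExact := by
  rw [HomologicalComplex.shortExact_iff_degreewise_shortExact]
  intro i
  have := hX i
  exact hS.map_of_exact (tensorLeft (X.X i))

open Pretriangulated in
lemma isIso_Q_Ψmap_g (hX : DRing.TermwiseFlat X) (S : ShortComplex (ModuleCat.{u} A))
    (hS : S.ShortExact) (h1 : IsZero (Q.obj ((tCx S.X₁).obj X))) :
    IsIso (Q.map (Ψmap X S.g)) :=
  (Triangle.isZero₁_iff_isIso₂ _ (triangleOfSES_distinguished (ΨS_shortExact X hX S hS))).1 h1

open Pretriangulated in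
lemma isIso_Q_Ψmap_f (hX : DRing.TermwiseFlat X) (S : ShortComplex (ModuleCat.{u} A))
    (hS : S.ShortExact) (h3 : IsZero (Q.obj ((tCx S.X₃).obj X))) :
    IsIso (Q.map (Ψmap X S.f)) :=
  (Triangle.isZero₃_iff_isIso₁ _ (triangleOfSES_distinguished (ΨS_shortExact X hX S hS))).1 h3

end Psi

section Step

open Pretriangulated

/-- `X ⊗ N` vanishes in `D(A)` for all modules `N` killed by `J` -/
def AcyTens (J : Ideal A) (X : DRing.Cx A) : Prop :=
  ∀ N : ModuleCat.{u} A, (∀ a ∈ J, ∀ x : N, a • x = 0) → IsZero (Q.obj ((tCx N).obj X))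

lemma isZero_Q_mappingCone {Y Z : DRing.Cx A} (g : Y ⟶ Z) :
    IsZero (Q.obj (CochainComplex.mappingCone g)) ↔ IsIso (Q.map g) :=
  Triangle.isZero₃_iff_isIso₁ _ (DerivedCategory.mappingCone_triangle_distinguished g)

lemma tCx_map_smul (X : DRing.Cx A) (N : ModuleCat.{u} A) (f : A) :
    (tCx N).map (f • 𝟙 X) = Ψmap X (f • 𝟙 N) := by
  apply HomologicalComplex.hom_ext
  intro i
  apply ModuleCat.MonoidalCategory.tensor_ext
  intro x n
  change (f • x) ⊗ₜ[A] n = x ⊗ₜ[A] (f • n)
  exact TensorProduct.smul_tmul _ _ _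

variable (N : ModuleCat.{u} A) (f : A)

/-- multiplication by `f` on `N` -/
noncomputable abbrev mulLin : N →ₗ[A] N := (f • 𝟙 N : N ⟶ N).hom

lemma mulLin_apply (x : N) : mulLin N f x = f • x := rfl

/-- `0 → N[f] → N → fN → 0` -/
noncomputable def S₁ : ShortComplex (ModuleCat.{u} A) :=
  ShortComplex.mk (ModuleCat.ofHom (LinearMap.ker (mulLin N f)).subtype)
    (ModuleCat.ofHom (mulLin N f).rangeRestrict) (by
      apply ModuleCat.hom_ext
      ext x
      exact LinearMap.mem_ker.1 x.2)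

/-- `0 → fN → N → N/fN → 0` -/
noncomputable def S₂ : ShortComplex (ModuleCat.{u} A) :=
  ShortComplex.mk (ModuleCat.ofHom (LinearMap.range (mulLin N f)).subtype)
    (ModuleCat.ofHom (LinearMap.range (mulLin N f)).mkQ) (by
      apply ModuleCat.hom_ext
      ext x
      exact (Submodule.Quotient.mk_eq_zero _).2 x.2)

lemma S₁_shortExact : (S₁ N f).ShortExact := by
  apply ModuleCat.shortComplex_shortExact
  · refine (LinearMap.exact_iff (f := (LinearMap.ker (mulLin N f)).subtype)
      (g := (mulLin N f).rangeRestrict)).2 ?_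
    rw [LinearMap.ker_rangeRestrict, Submodule.range_subtype]
  · exact Submodule.injective_subtype _
  · exact LinearMap.surjective_rangeRestrict (mulLin N f)

lemma S₂_shortExact : (S₂ N f).ShortExact := by
  apply ModuleCat.shortComplex_shortExact
  · exact LinearMap.exact_subtype_mkQ _
  · exact Submodule.injective_subtype _
  · exact Submodule.mkQ_surjective _

lemma Ψmap_smul_eq (X : DRing.Cx A) :
    Ψmap X (f • 𝟙 N) = Ψmap X (S₁ N f).g ≫ Ψmap X (S₂ N f).f := by
  have h : f • 𝟙 N = (ModuleCat.ofHom (mulLin N f).rangeRestrict) ≫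
      (ModuleCat.ofHom (LinearMap.range (mulLin N f)).subtype) := by
    apply ModuleCat.hom_ext
    ext x
    rfl
  rw [h]
  exact Ψmap_comp X _ _

theorem acyTens_mappingCone (J : Ideal A) (X : DRing.Cx A) (hX : DRing.TermwiseFlat X) (f : A)
    (h : AcyTens (J ⊔ Ideal.span {f}) X) :
    AcyTens J (CochainComplex.mappingCone (f • 𝟙 X)) := by
  intro N hN
  refine IsZero.of_iso ?_ (Q.mapIso
    (CochainComplex.mappingCone.mapHomologicalComplexIso (f • 𝟙 X) (tensorRight N)))
  rw [isZero_Q_mappingCone]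
  change IsIso (Q.map ((tCx N).map (f • 𝟙 X)))
  have e : Q.map (Ψmap X (f • 𝟙 N)) =
      Q.map (Ψmap X (S₁ N f).g) ≫ Q.map (Ψmap X (S₂ N f).f) := by
    rw [Ψmap_smul_eq]
    exact Q.map_comp _ _
  rw [tCx_map_smul, e]
  have h1 : IsIso (Q.map (Ψmap X (S₁ N f).g)) := by
    apply isIso_Q_Ψmap_g X hX _ (S₁_shortExact N f)
    apply h
    intro a ha x
    obtain ⟨j, hj, c, hc, rfl⟩ := Submodule.mem_sup.1 ha
    obtain ⟨c', rfl⟩ := Ideal.mem_span_singleton'.1 hc
    apply Subtype.ext
    change (j + c' * f) • (x.1 : N) = 0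
    have hx : f • (x.1 : N) = 0 := x.2
    rw [add_smul, mul_smul, hx, smul_zero, add_zero]
    exact hN j hj _
  have h2 : IsIso (Q.map (Ψmap X (S₂ N f).f)) := by
    apply isIso_Q_Ψmap_f X hX _ (S₂_shortExact N f)
    apply h
    intro a ha x
    obtain ⟨j, hj, c, hc, rfl⟩ := Submodule.mem_sup.1 ha
    obtain ⟨c', rfl⟩ := Ideal.mem_span_singleton'.1 hc
    obtain ⟨y, rfl⟩ := Submodule.mkQ_surjective _ x
    change (j + c' * f) • (LinearMap.range (mulLin N f)).mkQ y = 0
    rw [← map_smul, add_smul, hN j hj, zero_add, Submodule.mkQ_apply,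
      Submodule.Quotient.mk_eq_zero]
    exact ⟨c' • y, by rw [mulLin_apply, mul_smul, smul_comm]⟩
  exact IsIso.comp_isIso' h1 h2

end Step

section Main

open Pretriangulated Groth.Agent.Lib.Helper10.DerComplete

lemma isZero_Q_obj_of_acyclic (K : DRing.Cx A) (h : K.Acyclic) :
    IsZero ((Q : _ ⥤ Dual.D A).obj K) := by
  have h1 : CochainComplex.IsLE K 0 := by
    rw [CochainComplex.isLE_iff]
    exact fun i _ => h i
  have h2 : CochainComplex.IsGE K 1 := by
    rw [CochainComplex.isGE_iff]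
    exact fun i _ => h i
  have : (Q.obj K).IsLE 0 := (DerivedCategory.isLE_Q_obj_iff _ _).2 h1
  have : (Q.obj K).IsGE 1 := (DerivedCategory.isGE_Q_obj_iff _ _).2 h2
  exact DerivedCategory.TStructure.t.isZero (Q.obj K) 0 1 (by simp)

lemma smul_homology (K : DRing.Cx A) (p : ℤ) (a : A) (y : K.homology p) :
    (HomologicalComplex.homologyMap (a • 𝟙 K) p).hom y = a • y := by
  have h : HomologicalComplex.homologyMap (a • 𝟙 K) p = a • 𝟙 (K.homology p) := by
    have e : (HomologicalComplex.shortComplexFunctor (ModuleCat.{u} A) (ComplexShape.up ℤ) p).map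
        (a • 𝟙 K) =
        a • (HomologicalComplex.shortComplexFunctor (ModuleCat.{u} A) (ComplexShape.up ℤ) p).map
          (𝟙 K) := by
      ext <;> rfl
    change ShortComplex.homologyMap
      ((HomologicalComplex.shortComplexFunctor (ModuleCat.{u} A) (ComplexShape.up ℤ) p).map
        (a • 𝟙 K)) = _
    rw [e, ShortComplex.homologyMap_smul, CategoryTheory.Functor.map_id,
      ShortComplex.homologyMap_id]
    rfl
  rw [h]
  rfl

lemma isDerivedComplete_of_iso (I : Ideal A) {K K' : Dual.D A} (e : K ≅ K')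
    (h : DRing.IsDerivedComplete I K) : DRing.IsDerivedComplete I K' := by
  rw [isDerivedComplete_iff_V] at h ⊢
  intro f hf n
  exact (h f hf n).of_iso ((shiftFunctor (Dual.D A) n).mapIso e)

lemma isDerivedComplete_Q_mappingCone (I : Ideal A) (Y : DRing.Cx A) (f : A)
    (h : DRing.IsDerivedComplete I (Q.obj Y)) :
    DRing.IsDerivedComplete I (Q.obj (CochainComplex.mappingCone (f • 𝟙 Y))) := by
  rw [isDerivedComplete_iff_V] at h ⊢
  intro g hg n
  have hT := DerivedCategory.mappingCone_triangle_distinguished (f • 𝟙 Y)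
  have hT' := Triangle.shift_distinguished _ (rot_of_distTriang _ hT) n
  refine V_of_triangle g _ hT' (h g hg n) ?_
  exact (h g hg (1 + n)).of_iso ((shiftFunctorAdd' (Dual.D A) 1 n (1 + n) rfl).app _)

theorem isZero_of_isZero_mappingCone (I : Ideal A) (Y : DRing.Cx A) (f : A) (hf : f ∈ I)
    (hdc : DRing.IsDerivedComplete I (Q.obj Y))
    (hz : IsZero (Q.obj (CochainComplex.mappingCone (f • 𝟙 Y)))) : IsZero (Q.obj Y) := by
  have h1 : IsIso (Q.map (f • 𝟙 Y)) := (isZero_Q_mappingCone _).1 hz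
  have hq : QuasiIso (f • 𝟙 Y) := (DerivedCategory.isIso_Q_map_iff_quasiIso _ _).1 h1
  have hcrit := (isDerivedComplete_iff_forall_crit I _).1 hdc f hf
  apply isZero_Q_obj_of_acyclic
  intro n
  rw [HomologicalComplex.exactAt_iff_isZero_homology]
  have hc : Crit f (Y.homology n) := (hcrit n).of_linearEquiv
    ((homologyFunctorFactors (ModuleCat.{u} A) n).app Y).toLinearEquiv
  have hiso : IsIso (HomologicalComplex.homologyMap (f • 𝟙 Y) n) := inferInstance
  have hb := (ConcreteCategory.isIso_iff_bijective _).1 hiso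
  have hs : Function.Surjective (fun x : Y.homology n => f • x) := by
    intro y
    obtain ⟨x, hx⟩ := hb.2 y
    exact ⟨x, by rw [← hx]; exact (smul_homology Y n f x).symm⟩
  have : Subsingleton (Y.homology n) :=
    ⟨fun a b => by rw [hc.eq_zero_of_surjective hs a, hc.eq_zero_of_surjective hs b]⟩
  exact ModuleCat.isZero_of_subsingleton _

/-- iterated cones of multiplication maps -/
noncomputable def coneIter : List A → DRing.Cx A → DRing.Cx A
  | [], X => X
  | f :: fs, X => coneIter fs (CochainComplex.mappingCone (f • 𝟙 X))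

theorem acyTens_coneIter (fs : List A) : ∀ (J : Ideal A) (X : DRing.Cx A),
    DRing.TermwiseFlat X → AcyTens (J ⊔ Ideal.span {x | x ∈ fs}) X →
      AcyTens J (coneIter fs X) := by
  induction fs with
  | nil =>
    intro J X _ h
    have : J ⊔ Ideal.span {x | x ∈ ([] : List A)} = J := by simp
    rw [this] at h
    exact h
  | cons f fs ih =>
    intro J X hX h
    apply ih J _ (Groth.Agent.Lib.Helper1.Tor.termwiseFlat_mappingCone _ hX hX)
    apply acyTens_mappingCone _ _ hX
    have : J ⊔ Ideal.span {x | x ∈ fs} ⊔ Ideal.span {f} = J ⊔ Ideal.span {x | x ∈ f :: fs} := by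
      rw [sup_assoc, ← Ideal.span_union]
      congr 2
      ext x
      simp
    rw [this]
    exact h

theorem isZero_of_isZero_coneIter (I : Ideal A) (fs : List A) : ∀ (X : DRing.Cx A),
    (∀ f ∈ fs, f ∈ I) → DRing.IsDerivedComplete I (Q.obj X) →
      IsZero (Q.obj (coneIter fs X)) → IsZero (Q.obj X) := by
  induction fs with
  | nil => intro X _ _ h; exact h
  | cons f fs ih =>
    intro X hfs hdc hz
    apply isZero_of_isZero_mappingCone I X f (hfs f (by simp)) hdc
    exact ih _ (fun g hg => hfs g (by simp [hg])) (isDerivedComplete_Q_mappingCone I X f hdc) hz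

/-- **Derived Nakayama**: a derived complete object `K` with `K ⊗^L A/I = 0` vanishes. -/
theorem derived_nakayama (I : Ideal A) (hI : I.FG) [DRing.HasLTensor A (ModuleCat.of A (A ⧸ I))]
    (K : Dual.D A) (hc : DRing.IsDerivedComplete I K)
    (h0 : IsZero ((DRing.LTensor A (ModuleCat.of A (A ⧸ I))).obj K)) : IsZero K := by
  classical
  obtain ⟨P, hP, hproj, ⟨e⟩⟩ := Groth.Agent.Lib.Helper1.DT.exists_kproj_iso K
  have h1 : IsZero (Q.obj ((tCx (ModuleCat.of A (A ⧸ I))).obj P)) :=
    IsZero.of_iso (h0.of_iso ((DRing.LTensor A (ModuleCat.of A (A ⧸ I))).mapIso e))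
      (ltIso (ModuleCat.of A (A ⧸ I)) P).symm
  have hacyc : ((tCx (ModuleCat.of A (A ⧸ I))).obj P).Acyclic := fun j =>
    Groth.Agent.Lib.Helper1.Tor.exactAt_of_isZero_Q _ h1 j
  have hA : AcyTens I P := fun N hN => isZero_Q_tCx I N hN P hacyc
  obtain ⟨s, hs⟩ := hI
  have hflat : DRing.TermwiseFlat P := fun i => by
    have := hproj i
    have : Module.Projective A (P.X i) := (IsProjective.iff_projective (P.X i)).2 (hproj i)
    infer_instance
  have hspan : Ideal.span {x | x ∈ s.toList} = I := by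
    rw [← hs]
    congr 1
    ext x
    simp
  have h2 : AcyTens ⊥ (coneIter s.toList P) :=
    acyTens_coneIter s.toList ⊥ P hflat (by rw [bot_sup_eq, hspan]; exact hA)
  have h3 : IsZero (Q.obj (coneIter s.toList P)) :=
    IsZero.of_iso (h2 (ModuleCat.of A A) (fun a ha x => by
      rw [(Submodule.mem_bot A).1 ha, zero_smul]))
      (Q.mapIso ((NatIso.mapHomologicalComplex (rightUnitorNatIso (ModuleCat.{u} A))
        (ComplexShape.up ℤ)).app _ ≪≫ (Functor.mapHomologicalComplexIdIso _ _).app _)).symm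
  have h4 : IsZero (Q.obj P) :=
    isZero_of_isZero_coneIter I s.toList P (fun f hf => by
      rw [← hs]
      exact Ideal.subset_span (by simpa using hf))
      (isDerivedComplete_of_iso I e.symm hc) h3
  exact h4.of_iso e.symm

end Main

end Groth.Agent.Lib.Helper10.DNak
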