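import Mathlib
import Groth.Agent.Lib.Helper10DCFinA
import Groth.Agent.Lib.Helper10DCFinB
import Groth.Agent.Lib.Helper10DNakA
import Groth.Agent.Lib.Helper10AdicFlatB
set_option backward.isDefEq.respectTransparency.types false
set_option backward.isDefEq.respectTransparency false

/-!
# Derived completion of `M ⊗ N`, `M` finite, `N` flat, over a Noetherian ring (helper10)

* `bijective_lTensor_of_powerTorsion`: `V ⊗ N → V ⊗ N^` is bijective for `I`-power torsion `V`;
* `goodFunctor_tCx`, `quasiIso_Ψmap`;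
* `bijective_precomp_uMN`: `(M ⊗ N)[0] → (M ⊗ N)^[0]` is universal towards derived complete objects;
* `exists_derivedCompletion_iso_adic_tensor`.
-/

set_option autoImplicit false
set_option maxHeartbeats 400000
universe u
open CategoryTheory CategoryTheory.Limits HomologicalComplex CochainComplex MonoidalCategory
open scoped TensorProduct
attribute [local instance] HasDerivedCategory.standard

namespace Groth.Agent.Lib.Helper10.AdicFlatC

open DerivedCategory Groth.Agent.Lib.Helper1.KF Groth.Agent.Lib.Helper1.Extend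
  Groth.Agent.Lib.Helper1.DT Groth.Agent.Lib.Helper1.LDer
  Groth.Agent.Lib.Helper10.PTB Groth.Agent.Lib.Helper10.PTC Groth.Agent.Lib.Helper10.DCLoc
  Groth.Agent.Lib.Helper10.DCCech
  Groth.Agent.Lib.Helper1.ExtCech Groth.Agent.Lib.Helper1.ExtCech4 DerCA
  Groth.Agent.Lib.Helper10.DCFin Groth.Agent.Lib.Helper10.DNak Groth.Agent.Lib.Helper10.AdicFlat

section Tors

variable {A : Type u} [CommRing A] (I : Ideal A)

/-- tensoring a module killed by `J` with a surjection whose kernel lies in `J • ⊤` is bijective -/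
lemma bijective_lTensor_of_killed (J : Ideal A) (V : Type u) [AddCommGroup V] [Module A V]
    (hV : ∀ a ∈ J, ∀ v : V, a • v = 0)
    {X Y : Type u} [AddCommGroup X] [Module A X] [AddCommGroup Y] [Module A Y] (q : X →ₗ[A] Y)
    (hq : Function.Surjective q) (hker : LinearMap.ker q ≤ J • ⊤) :
    Function.Bijective (q.lTensor V) := by
  refine ⟨?_, LinearMap.lTensor_surjective V hq⟩
  have hex := lTensor_exact V (LinearMap.exact_subtype_ker_map q) hq
  have key : ∀ w : V ⊗[A] LinearMap.ker q, (LinearMap.ker q).subtype.lTensor V w = 0 := by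
    intro w
    induction w using TensorProduct.induction_on with
    | zero => simp
    | tmul v l =>
      rw [LinearMap.lTensor_tmul]
      have hl : (l : X) ∈ J • (⊤ : Submodule A X) := hker l.2
      change v ⊗ₜ[A] (l : X) = 0
      refine Submodule.smul_induction_on hl ?_ ?_
      · intro a ha x _
        rw [TensorProduct.tmul_smul, TensorProduct.smul_tmul', hV a ha v, TensorProduct.zero_tmul]
      · intro x y hx hy
        rw [TensorProduct.tmul_add, hx, hy, add_zero]
    | add x y hx hy => rw [map_add, hx, hy, add_zero]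
  rw [injective_iff_map_eq_zero]
  intro z hz
  obtain ⟨w, rfl⟩ := (hex z).1 hz
  exact key w

lemma bijective_lTensor_of_of_killed (hfg : I.FG) (N : Type u) [AddCommGroup N] [Module A N]
    (n : ℕ) (V : Type u) [AddCommGroup V] [Module A V] (hV : ∀ a ∈ I ^ n, ∀ v : V, a • v = 0) :
    Function.Bijective ((AdicCompletion.of I N).lTensor V) := by
  have h1 := bijective_lTensor_of_killed (I ^ n) V hV (Submodule.mkQ (I ^ n • ⊤ : Submodule A N))
    (Submodule.mkQ_surjective _) (by rw [Submodule.ker_mkQ])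
  have h2 := bijective_lTensor_of_killed (I ^ n) V hV (AdicCompletion.eval I N n)
    (AdicCompletion.eval_surjective I N n)
    (by rw [AdicCompletion.pow_smul_top_eq_ker_eval hfg])
  have h3 : (AdicCompletion.eval I N n).lTensor V ∘ (AdicCompletion.of I N).lTensor V =
      (Submodule.mkQ (I ^ n • ⊤ : Submodule A N)).lTensor V := by
    funext z
    rw [Function.comp_apply, ← LinearMap.comp_apply, ← LinearMap.lTensor_comp]
    congr 2
  rw [← h3] at h1
  exact (Function.Bijective.of_comp_iff' h2 _).1 h1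

/-- the `I^n`-torsion submodule -/
def tors (n : ℕ) (V : Type u) [AddCommGroup V] [Module A V] : Submodule A V where
  carrier := {v | ∀ a ∈ I ^ n, a • v = 0}
  add_mem' := fun {x y} hx hy a ha => by rw [smul_add, hx a ha, hy a ha, add_zero]
  zero_mem' := fun a _ => smul_zero a
  smul_mem' := fun c v hv a ha => by rw [smul_comm, hv a ha, smul_zero]

lemma tors_mono {m n : ℕ} (h : m ≤ n) (V : Type u) [AddCommGroup V] [Module A V] :
    tors I m V ≤ tors I n V :=
  fun _ hv a ha => hv a (Ideal.pow_le_pow_right h ha)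

lemma exists_mem_range_rTensor (V : Type u) [AddCommGroup V] [Module A V]
    (hV : ∀ v : V, ∃ n : ℕ, ∀ a ∈ I ^ n, a • v = 0)
    (X : Type u) [AddCommGroup X] [Module A X] (z : V ⊗[A] X) :
    ∃ n : ℕ, z ∈ LinearMap.range ((tors I n V).subtype.rTensor X) := by
  have mono : ∀ {m n : ℕ}, m ≤ n → LinearMap.range ((tors I m V).subtype.rTensor X) ≤
      LinearMap.range ((tors I n V).subtype.rTensor X) := by
    intro m n h
    rintro _ ⟨w, rfl⟩
    refine ⟨(Submodule.inclusion (tors_mono I h V)).rTensor X w, ?_⟩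
    rw [← LinearMap.comp_apply, ← LinearMap.rTensor_comp]
    rfl
  induction z using TensorProduct.induction_on with
  | zero => exact ⟨0, Submodule.zero_mem _⟩
  | tmul v x =>
    obtain ⟨n, hn⟩ := hV v
    exact ⟨n, ⟨(⟨v, hn⟩ : tors I n V) ⊗ₜ x, rfl⟩⟩
  | add x y hx hy =>
    obtain ⟨m, hm⟩ := hx
    obtain ⟨n, hn⟩ := hy
    exact ⟨max m n, Submodule.add_mem _ (mono (le_max_left m n) hm) (mono (le_max_right m n) hn)⟩

/-- `V ⊗ N → V ⊗ N^` is bijective for `I`-power torsion `V` (`A` Noetherian, `N` flat). -/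
theorem bijective_lTensor_of_powerTorsion [IsNoetherianRing A] (N : Type u) [AddCommGroup N]
    [Module A N] [Module.Flat A N] (V : Type u) [AddCommGroup V] [Module A V]
    (hV : ∀ v : V, ∃ n : ℕ, ∀ a ∈ I ^ n, a • v = 0) :
    Function.Bijective ((AdicCompletion.of I N).lTensor V) := by
  haveI : Module.Flat A (AdicCompletion I N) := flat_adicCompletion I N
  have hfg : I.FG := IsNoetherian.noetherian I
  have hsq : ∀ (n : ℕ) (w : tors I n V ⊗[A] N),
      (tors I n V).subtype.rTensor (AdicCompletion I N)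
        ((AdicCompletion.of I N).lTensor (tors I n V) w) =
      (AdicCompletion.of I N).lTensor V ((tors I n V).subtype.rTensor N w) := by
    intro n w
    rw [← LinearMap.comp_apply, ← LinearMap.comp_apply, LinearMap.rTensor_comp_lTensor,
      LinearMap.lTensor_comp_rTensor]
  have hb : ∀ n : ℕ, Function.Bijective ((AdicCompletion.of I N).lTensor (tors I n V)) :=
    fun n => bijective_lTensor_of_of_killed I hfg N n (tors I n V)
      (fun a ha v => Subtype.ext (v.2 a ha))
  constructor
  · rw [injective_iff_map_eq_zero]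
    intro z hz
    obtain ⟨n, w, rfl⟩ := exists_mem_range_rTensor I V hV N z
    rw [← hsq] at hz
    have hinj := Module.Flat.rTensor_preserves_injective_linearMap (M := AdicCompletion I N)
      (tors I n V).subtype (Submodule.injective_subtype _)
    have h0 := hinj (hz.trans (map_zero _).symm)
    have hw : w = 0 := (hb n).1 (h0.trans (map_zero _).symm)
    rw [hw, map_zero]
  · intro y
    obtain ⟨n, w, rfl⟩ := exists_mem_range_rTensor I V hV (AdicCompletion I N) y
    obtain ⟨w', rfl⟩ := (hb n).2 w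
    exact ⟨(tors I n V).subtype.rTensor N w', (hsq n w').symm⟩

end Tors

section Good

variable {A : Type u} [CommRing A]

lemma bijective_smul_tensor (f : A) (V T : ModuleCat.{u} A)
    (h : Function.Bijective (fun v : V => f • v)) :
    Function.Bijective (fun z : ((tensorRight T).obj V : ModuleCat.{u} A) => f • z) := by
  have h1 : IsIso (f • 𝟙 V) := (ConcreteCategory.isIso_iff_bijective _).2 h
  have h2 : IsIso ((tensorRight T).map (f • 𝟙 V)) := inferInstance
  have h4 : (tensorRight T).map (f • 𝟙 V) = f • 𝟙 ((tensorRight T).obj V) := by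
    change (f • 𝟙 V) ▷ T = f • 𝟙 (V ⊗ T)
    rw [MonoidalLinear.smul_whiskerRight, MonoidalCategory.id_whiskerRight]
  rw [h4] at h2
  exact (ConcreteCategory.isIso_iff_bijective _).1 h2

lemma goodFunctor_tCx (T : ModuleCat.{u} A) : GoodFunctor (tCx T) where
  loc f Y h := by
    apply isIso_smul_of_termwise
    intro n
    exact bijective_smul_tensor f (Y.X n) T (termwise_of_isIso_smul f Y h n)
  ses S σ := by
    apply HomologicalComplex.shortExact_of_degreewise_shortExact
    intro n
    exact ((σ n).some.map (tensorRight T)).shortExact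

/-- `X ⊗ T ⟶ X ⊗ T'` is a quasi-isomorphism for flat `T`, `T'` as soon as `H^n(X) ⊗ T ⟶ H^n(X) ⊗ T'`
is an isomorphism for all `n` -/
lemma quasiIso_Ψmap (X : Cx A) {T T' : ModuleCat.{u} A} [Module.Flat A T] [Module.Flat A T']
    (g : T ⟶ T') (h : ∀ n, IsIso (X.homology n ◁ g)) : QuasiIso (Ψmap X g) := by
  have hP : (tensorRight T).PreservesHomology :=
    Functor.preservesHomology_of_map_exact _
      (fun S hS => Module.Flat.rTensor_shortComplex_exact T S hS)
  have hP' : (tensorRight T').PreservesHomology :=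
    Functor.preservesHomology_of_map_exact _
      (fun S hS => Module.Flat.rTensor_shortComplex_exact T' S hS)
  let τ : tensorRight T ⟶ tensorRight T' := (tensoringRight (ModuleCat.{u} A)).map g
  rw [quasiIso_iff]
  intro n
  rw [quasiIsoAt_iff_isIso_homologyMap]
  have hh := ShortComplex.homologyMap_mapNatTrans (X.sc n) τ
  have e : HomologicalComplex.homologyMap (Ψmap X g) n =
      ShortComplex.homologyMap ((X.sc n).mapNatTrans τ) := rfl
  rw [e, hh]
  haveI : IsIso (τ.app (X.sc n).homology) := h n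
  infer_instance

end Good

section Main

open Pretriangulated Groth.Agent.Lib.Helper10.RGamA Groth.Agent.Lib.Helper10.RGamE
  Groth.Agent.Lib.Helper5.BiDual

variable {A : Type u} [CommRing A] [IsNoetherianRing A] (I : Ideal A)
  (M N : Type u) [AddCommGroup M] [Module A M] [AddCommGroup N] [Module A N]

/-- `N ⟶ N^` in `ModuleCat` -/
noncomputable def gN : ModuleCat.of A N ⟶ ModuleCat.of A (AdicCompletion I N) :=
  ModuleCat.ofHom (AdicCompletion.of I N)

variable [Module.Flat A N]

lemma isIso_whiskerLeft_gN (V : ModuleCat.{u} A) (hV : LocCoh.IsPowerTorsion I V) :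
    IsIso (V ◁ gN I N) := by
  apply (ConcreteCategory.isIso_iff_bijective _).2
  exact bijective_lTensor_of_powerTorsion I N V hV

/-- maps from objects left orthogonal to `f`-local complexes to `(M ⊗ N)[0]` and `(M ⊗ N^)[0]`
agree -/
theorem bijective_postcomp_Ψ (fs : List A) (hspan : I = Ideal.span {x | x ∈ fs})
    (W : Dual.D A) (hW : ∀ f ∈ fs, LO f W) :
    Function.Bijective (fun ψ : W ⟶ Q.obj ((tCx (ModuleCat.of A N)).obj (sg (ModuleCat.of A M))) =>
      ψ ≫ Q.map (Ψmap (sg (ModuleCat.of A M)) (gN I N))) := by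
  haveI : Module.Flat A (AdicCompletion I N) := flat_adicCompletion I N
  have hfg : I.FG := IsNoetherian.noetherian I
  have b1 := bijective_postcomp_aug (tCx (ModuleCat.of A N)) (goodFunctor_tCx _) W
    (ModuleCat.of A M) fs hW
  have b3 := bijective_postcomp_aug (tCx (ModuleCat.of A (AdicCompletion I N))) (goodFunctor_tCx _) W
    (ModuleCat.of A M) fs hW
  have hqi : QuasiIso (Ψmap (extCech (ModuleCat.of A M) fs) (gN I N)) :=
    quasiIso_Ψmap _ _ (fun n => isIso_whiskerLeft_gN I N _
      (isPowerTorsion_of_pt I fs hspan hfg (fun f hf => pt_extCechH fs (ModuleCat.of A M) f hf n)))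
  haveI : IsIso (Q.map (Ψmap (extCech (ModuleCat.of A M) fs) (gN I N))) :=
    (DerivedCategory.isIso_Q_map_iff_quasiIso _ _).2 hqi
  have b2 : Function.Bijective
      (fun ψ : W ⟶ Q.obj ((tCx (ModuleCat.of A N)).obj (extCech (ModuleCat.of A M) fs)) =>
        ψ ≫ Q.map (Ψmap (extCech (ModuleCat.of A M) fs) (gN I N))) := bijective_postcomp_of_isIso _
  have nat : (tCx (ModuleCat.of A N)).map (aug (ModuleCat.of A M) fs) ≫
      Ψmap (sg (ModuleCat.of A M)) (gN I N) =
      Ψmap (extCech (ModuleCat.of A M) fs) (gN I N) ≫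
        (tCx (ModuleCat.of A (AdicCompletion I N))).map (aug (ModuleCat.of A M) fs) := by
    apply HomologicalComplex.hom_ext
    intro i
    exact (whisker_exchange _ _).symm
  have hcomp : (fun ψ : W ⟶ Q.obj ((tCx (ModuleCat.of A N)).obj (sg (ModuleCat.of A M))) =>
        ψ ≫ Q.map (Ψmap (sg (ModuleCat.of A M)) (gN I N))) ∘
      (fun ψ : W ⟶ Q.obj ((tCx (ModuleCat.of A N)).obj (extCech (ModuleCat.of A M) fs)) =>
        ψ ≫ Q.map ((tCx (ModuleCat.of A N)).map (aug (ModuleCat.of A M) fs))) =
      (fun ψ : W ⟶ Q.obj ((tCx (ModuleCat.of A (AdicCompletion I N))).obj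
          (extCech (ModuleCat.of A M) fs)) =>
        ψ ≫ Q.map ((tCx (ModuleCat.of A (AdicCompletion I N))).map (aug (ModuleCat.of A M) fs))) ∘
      (fun ψ : W ⟶ Q.obj ((tCx (ModuleCat.of A N)).obj (extCech (ModuleCat.of A M) fs)) =>
        ψ ≫ Q.map (Ψmap (extCech (ModuleCat.of A M) fs) (gN I N))) := by
    funext ψ
    simp only [Function.comp_apply, Category.assoc, ← Functor.map_comp, nat]
  have h4 := b3.comp b2
  rw [← hcomp] at h4
  exact (Function.Bijective.of_comp_iff _ b1).1 h4

/-- `(M ⊗ N)[0] ⟶ (M ⊗ N^)[0]` induces bijections on maps to derived complete objects -/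
theorem bijective_precomp_Ψ (E : Dual.D A) (hE : DRing.IsDerivedComplete I E) :
    Function.Bijective (fun ψ : Q.obj ((tCx (ModuleCat.of A (AdicCompletion I N))).obj
        (sg (ModuleCat.of A M))) ⟶ E =>
      Q.map (Ψmap (sg (ModuleCat.of A M)) (gN I N)) ≫ ψ) := by
  obtain ⟨fs, hfs⟩ := exists_list_span I
  obtain ⟨C, g, k, hT⟩ := distinguished_cocone_triangle
    (Q.map (Ψmap (sg (ModuleCat.of A M)) (gN I N)))
  refine bijective_precomp_of_CA I _ g k hT ?_ E hE
  apply CA_of_hom_eq_zero
  intro n i t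
  have hLO : ∀ f ∈ fs, LO f (sD (Nn I n) i) := fun f hf =>
    LO_sD I f (by rw [hfs]; exact Ideal.subset_span hf) n i
  have hLO' : ∀ f ∈ fs, LO f ((sD (Nn I n) i)⟦(-1 : ℤ)⟧) := fun f hf => (hLO f hf).shift 1
  exact hom_cone_eq_zero' _ g k hT _
    (bijective_postcomp_Ψ I M N fs hfs _ hLO).2
    (bijective_postcomp_Ψ I M N fs hfs _ hLO').1 t

end Main

section Final

variable {A : Type u} [CommRing A] [IsNoetherianRing A] (I : Ideal A)
  (M N : Type u) [AddCommGroup M] [Module A M] [Module.Finite A M] [AddCommGroup N] [Module A N]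
  [Module.Flat A N]

/-- `M ⊗ N^ ≅ (M ⊗ N)^` in `ModuleCat` -/
noncomputable def τIso :
    (ModuleCat.of A M ⊗ ModuleCat.of A (AdicCompletion I N) : ModuleCat.{u} A) ≅
      ModuleCat.of A (AdicCompletion I (M ⊗[A] N)) :=
  (LinearEquiv.ofBijective (τ I M N) (τ_bijective I M N)).toModuleIso

lemma whiskerLeft_gN_τIso : (ModuleCat.of A M ◁ gN I N) ≫ (τIso I M N).hom =
    ModuleCat.ofHom (AdicCompletion.of I (M ⊗[A] N)) := by
  refine ModuleCat.hom_ext (TensorProduct.ext' fun m n => ?_)
  exact τ_tmul_of I M N m n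

omit [IsNoetherianRing A] [Module.Finite A M] [Module.Flat A N] in
/-- `(M[0]) ⊗ N ≅ (M ⊗ N)[0]` -/
noncomputable def κ₀ : (tCx (ModuleCat.of A N)).obj (sg (ModuleCat.of A M)) ≅
    sg (ModuleCat.of A (M ⊗[A] N)) :=
  (HomologicalComplex.singleMapHomologicalComplex (tensorRight (ModuleCat.of A N))
    (ComplexShape.up ℤ) 0).app (ModuleCat.of A M)

/-- `(M[0]) ⊗ N^ ≅ (M ⊗ N)^[0]` -/
noncomputable def κ₁ : (tCx (ModuleCat.of A (AdicCompletion I N))).obj (sg (ModuleCat.of A M)) ≅
    sg (ModuleCat.of A (AdicCompletion I (M ⊗[A] N))) :=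
  (HomologicalComplex.singleMapHomologicalComplex
    (tensorRight (ModuleCat.of A (AdicCompletion I N)))
    (ComplexShape.up ℤ) 0).app (ModuleCat.of A M) ≪≫
  (HomologicalComplex.single (ModuleCat.{u} A) (ComplexShape.up ℤ) 0).mapIso (τIso I M N)

lemma Ψmap_κ₁ : Ψmap (sg (ModuleCat.of A M)) (gN I N) ≫ (κ₁ I M N).hom =
    (κ₀ M N).hom ≫ (HomologicalComplex.single (ModuleCat.{u} A) (ComplexShape.up ℤ) 0).map
      (ModuleCat.ofHom (AdicCompletion.of I (M ⊗[A] N))) := by
  apply HomologicalComplex.to_single_hom_ext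
  rw [← whiskerLeft_gN_τIso I M N]
  simp only [κ₀, κ₁, Iso.trans_hom, Functor.mapIso_hom, Iso.app_hom, HomologicalComplex.comp_f,
    Ψmap_f, HomologicalComplex.singleMapHomologicalComplex_hom_app_self,
    HomologicalComplex.single_map_f_self, Category.assoc, Iso.inv_hom_id_assoc]
  erw [Iso.inv_hom_id_assoc]
  change _ ◁ _ ≫ (_ ▷ _) ≫ _ = (_ ▷ _) ≫ _ ◁ _ ≫ _
  rw [← Category.assoc, ← Category.assoc (_ ▷ _), whisker_exchange]

omit [IsNoetherianRing A] [Module.Finite A M] [Module.Flat A N] in
/-- the canonical map `(M ⊗ N)[0] ⟶ (M ⊗ N)^[0]` -/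
noncomputable def uMN : Dual.inD A (M ⊗[A] N) ⟶ Dual.inD A (AdicCompletion I (M ⊗[A] N)) :=
  (DerivedCategory.singleFunctor (ModuleCat.{u} A) 0).map
    (ModuleCat.ofHom (AdicCompletion.of I (M ⊗[A] N)))

/-- **Universal property**: `(M ⊗ N)[0] ⟶ (M ⊗ N)^[0]` induces bijections on maps to derived
complete objects, for `M` finite and `N` flat over a Noetherian ring. -/
theorem bijective_precomp_uMN (E : Dual.D A) (hE : DRing.IsDerivedComplete I E) :
    Function.Bijective
      (fun ψ : Dual.inD A (AdicCompletion I (M ⊗[A] N)) ⟶ E => uMN I M N ≫ ψ) := by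
  have hb := bijective_precomp_Ψ I M N E hE
  have e : (fun ψ : Dual.inD A (AdicCompletion I (M ⊗[A] N)) ⟶ E => uMN I M N ≫ ψ) =
      (fun ψ : Q.obj ((tCx (ModuleCat.of A N)).obj (sg (ModuleCat.of A M))) ⟶ E =>
        (Q.mapIso (κ₀ M N)).inv ≫ ψ) ∘
      (fun ψ : Q.obj ((tCx (ModuleCat.of A (AdicCompletion I N))).obj
          (sg (ModuleCat.of A M))) ⟶ E =>
        Q.map (Ψmap (sg (ModuleCat.of A M)) (gN I N)) ≫ ψ) ∘
      (fun ψ : Dual.inD A (AdicCompletion I (M ⊗[A] N)) ⟶ E =>
        (Q.mapIso (κ₁ I M N)).hom ≫ ψ) := by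
    funext ψ
    change Q.map ((HomologicalComplex.single (ModuleCat.{u} A) (ComplexShape.up ℤ) 0).map
      (ModuleCat.ofHom (AdicCompletion.of I (M ⊗[A] N)))) ≫ ψ = _
    simp only [Function.comp_apply, Functor.mapIso_hom, Functor.mapIso_inv]
    rw [← Category.assoc (Q.map (Ψmap _ _)), ← Q.map_comp, Ψmap_κ₁, Q.map_comp, Category.assoc,
      ← Category.assoc (Q.map (κ₀ M N).inv), ← Q.map_comp, Iso.inv_hom_id, Q.map_id,
      Category.id_comp]
  rw [e]
  exact (Groth.Agent.Lib.Helper10.DCMain.bijective_precomp_of_isIso _ E).comp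
    (hb.comp (Groth.Agent.Lib.Helper10.DCMain.bijective_precomp_of_isIso _ E))

/-- **The derived completion of `M ⊗ N` (`M` finite, `N` flat, `A` Noetherian) is its adic
completion.** -/
theorem exists_derivedCompletion_iso_adic_tensor [DRing.HasDerivedCompletion I] :
    ∃ e : ((DRing.derivedCompletion I).obj (Dual.inD A (M ⊗[A] N))).obj ≅
        Dual.inD A (AdicCompletion I (M ⊗[A] N)),
      DRing.toDerivedCompletion I (Dual.inD A (M ⊗[A] N)) ≫ e.hom = uMN I M N :=
  Groth.Agent.Lib.Helper10.DCMain.exists_iso_of_universal (DRing.IsDerivedComplete I) _ _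
    ((DRing.derivedCompletion I).obj (Dual.inD A (M ⊗[A] N))).property
    (isDerivedComplete_inD_adicCompletion I (M ⊗[A] N) (IsNoetherian.noetherian I))
    (fun E hE => Groth.Agent.Lib.Helper10.DCMain.bijective_toDerivedCompletion I _ E hE)
    (fun E hE => bijective_precomp_uMN I M N E hE)

end Final

end Groth.Agent.Lib.Helper10.AdicFlatC
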