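import Mathlib
import Groth.Agent.Lib.Helper10AdicFlatC
set_option backward.isDefEq.respectTransparency.types false
set_option backward.isDefEq.respectTransparency false

/-!
# Cohomology of the derived completion of `M ⊗ N`, `M` finite, `N` flat (helper10)
-/

set_option autoImplicit false
set_option maxHeartbeats 400000
universe u
open CategoryTheory CategoryTheory.Limits
open scoped TensorProduct
attribute [local instance] HasDerivedCategory.standard

namespace Groth.Agent.Lib.Helper10.AdicFlatD

open Groth.Agent.Lib.Helper10.AdicFlatC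

variable {A : Type u} [CommRing A] [IsNoetherianRing A] (I : Ideal A) [DRing.HasDerivedCompletion I]
  (M N : Type u) [AddCommGroup M] [Module A M] [Module.Finite A M] [AddCommGroup N] [Module A N]
  [Module.Flat A N]

theorem subsingleton_HD (i : ℤ) (hi : i ≠ 0) :
    Subsingleton (Dual.HD A ((DRing.derivedCompletion I).obj (Dual.inD A (M ⊗[A] N))).obj i) := by
  obtain ⟨e, -⟩ := exists_derivedCompletion_iso_adic_tensor I M N
  have hz : IsZero ((DerivedCategory.homologyFunctor (ModuleCat.{u} A) i).obj
      (Dual.inD A (AdicCompletion I (M ⊗[A] N)))) := by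
    rcases lt_or_gt_of_ne hi with h | h
    · exact DerivedCategory.isZero_of_isGE _ 0 i h
    · exact DerivedCategory.isZero_of_isLE _ 0 i h
  have hz' : IsZero ((DerivedCategory.homologyFunctor (ModuleCat.{u} A) i).obj
      ((DRing.derivedCompletion I).obj (Dual.inD A (M ⊗[A] N))).obj) :=
    hz.of_iso ((DerivedCategory.homologyFunctor (ModuleCat.{u} A) i).mapIso e)
  exact ModuleCat.subsingleton_of_isZero hz'

theorem exists_iso_H0 :
    ∃ e0 : (DerivedCategory.homologyFunctor (ModuleCat.{u} A) 0).obj
        ((DRing.derivedCompletion I).obj (Dual.inD A (M ⊗[A] N))).obj ≅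
        ModuleCat.of A (AdicCompletion I (M ⊗[A] N)),
      (((DerivedCategory.singleFunctorCompHomologyFunctorIso (ModuleCat.{u} A) 0).inv.app
          (ModuleCat.of A (M ⊗[A] N))) ≫
        (DerivedCategory.homologyFunctor (ModuleCat.{u} A) 0).map
          (DRing.toDerivedCompletion I (Dual.inD A (M ⊗[A] N)))) ≫ e0.hom =
        ModuleCat.ofHom (AdicCompletion.of I (M ⊗[A] N)) := by
  obtain ⟨e, he⟩ := exists_derivedCompletion_iso_adic_tensor I M N
  have he' : DRing.toDerivedCompletion I (Dual.inD A (M ⊗[A] N)) ≫ e.hom =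
      (DerivedCategory.singleFunctor (ModuleCat.{u} A) 0).map
        (ModuleCat.ofHom (AdicCompletion.of I (M ⊗[A] N))) := he
  refine ⟨(DerivedCategory.homologyFunctor (ModuleCat.{u} A) 0).mapIso e ≪≫
      (DerivedCategory.singleFunctorCompHomologyFunctorIso (ModuleCat.{u} A) 0).app
        (ModuleCat.of A (AdicCompletion I (M ⊗[A] N))), ?_⟩
  have nat := (DerivedCategory.singleFunctorCompHomologyFunctorIso (ModuleCat.{u} A) 0).hom.naturality
    (ModuleCat.ofHom (AdicCompletion.of I (M ⊗[A] N)))
  simp only [Functor.comp_map, Functor.id_map] at nat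
  simp only [Iso.trans_hom, Functor.mapIso_hom, Iso.app_hom, Category.assoc]
  rw [← Functor.map_comp_assoc, he', nat, Iso.inv_hom_id_app_assoc]

end Groth.Agent.Lib.Helper10.AdicFlatD
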