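import Groth.Agent.Lib.Helper28Equidim
import Mathlib.RingTheory.KrullDimension.Polynomial
import Mathlib.RingTheory.Jacobson.Ring
import Groth.Prelude.Def_RegImm

/-!
# Helper28FGDim: dimension theory of finitely generated algebras over a field via the
Cohen–Macaulay property of polynomial rings: maximal ideals of `k[x_1..x_n]` have height `n`,
height step rule in CM rings, comap along surjections preserves covers.
-/

set_option autoImplicit false
universe u v w u' v'

namespace Groth.Agent.Lib.Helper28
open RingTheory.Sequence CategoryTheory Abelian TensorProduct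
open scoped Pointwise

section FGDim

/-- Covering step rule in a Cohen–Macaulay ring. -/
theorem height_eq_succ_of_covBy_of_isCohenMacaulayRing {R : Type u} [CommRing R]
    [hR : LocCoh.IsCohenMacaulayRing R] {p q : PrimeSpectrum R} (hcov : p ⋖ q) :
    q.asIdeal.height = p.asIdeal.height + 1 := by
  have hN : IsNoetherianRing R := inferInstance
  have hn : Nontrivial R := by
    have := p.2.ne_top
    by_contra h
    rw [not_nontrivial_iff_subsingleton] at h
    exact this (Subsingleton.elim _ _)
  refine height_eq_succ_of_covBy (M := R) support_self_eq_univ ?_ hcov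
  intro q' hq'
  have h := (hR.isCohenMacaulayLocalRing_localization q').supportDim_eq_depth
  unfold LocCoh.IsCohenMacaulayModule
  rw [Module.supportDim_eq_of_equiv (localizedModuleSelfEquiv q'), depth_localizedModule_self]
  exact h

/-- Heights grow at least by the length along a chain of primes. -/
theorem height_head_add_le_of_ltSeries {R : Type u} [CommRing R]
    (s : LTSeries (PrimeSpectrum R)) :
    ∀ (i : ℕ) (hi : i < s.length + 1),
      s.head.asIdeal.height + i ≤ (s ⟨i, hi⟩).asIdeal.height := by
  intro i
  induction i with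
  | zero => intro hi; rw [Nat.cast_zero, add_zero]; exact le_rfl
  | succ i ih =>
    intro hi
    have hi' : i < s.length := by omega
    have h1 : s (Fin.castSucc ⟨i, hi'⟩) < s (Fin.succ ⟨i, hi'⟩) := s.step ⟨i, hi'⟩
    have h2 := ih (by omega)
    have e1 : (Fin.succ (⟨i, hi'⟩ : Fin s.length)) = ⟨i + 1, hi⟩ := rfl
    have e2 : (Fin.castSucc (⟨i, hi'⟩ : Fin s.length)) = ⟨i, by omega⟩ := rfl
    rw [e1, e2] at h1
    have hq : (s ⟨i + 1, hi⟩).asIdeal.IsPrime := (s ⟨i + 1, hi⟩).2
    have h3 : (s ⟨i, by omega⟩).asIdeal.height + 1 ≤ (s ⟨i + 1, hi⟩).asIdeal.height :=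
      Ideal.height_add_one_le_of_lt_of_isPrime h1
    push_cast
    rw [← add_assoc]
    exact le_trans (add_le_add h2 le_rfl) h3

theorem height_head_add_length_le_height_last {R : Type u} [CommRing R]
    (s : LTSeries (PrimeSpectrum R)) :
    s.head.asIdeal.height + s.length ≤ s.last.asIdeal.height :=
  height_head_add_le_of_ltSeries s s.length (by omega)

/-- Along a surjection, the comap on prime spectra is strictly monotone. -/
theorem comap_strictMono_of_surjective {P A : Type u} [CommRing P] [CommRing A] (φ : P →+* A)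
    (hφ : Function.Surjective φ) : StrictMono (PrimeSpectrum.comap φ) := by
  intro p q hpq
  refine lt_of_le_of_ne (Ideal.comap_mono hpq.le) ?_
  intro e
  have h1 : (q.asIdeal.comap φ).map φ ≤ (p.asIdeal.comap φ).map φ :=
    Ideal.map_mono (le_of_eq (congrArg PrimeSpectrum.asIdeal e.symm))
  rw [Ideal.map_comap_of_surjective φ hφ, Ideal.map_comap_of_surjective φ hφ] at h1
  exact hpq.not_ge h1

/-- Along a surjection, the comap on prime spectra preserves covers. -/
theorem comap_covBy_of_surjective {P A : Type u} [CommRing P] [CommRing A] (φ : P →+* A)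
    (hφ : Function.Surjective φ) {p q : PrimeSpectrum A} (hcov : p ⋖ q) :
    PrimeSpectrum.comap φ p ⋖ PrimeSpectrum.comap φ q := by
  have hmono : ∀ {a b : PrimeSpectrum A}, PrimeSpectrum.comap φ a ≤ PrimeSpectrum.comap φ b →
      a ≤ b := by
    intro a b hab
    have h1 : (a.asIdeal.comap φ).map φ ≤ (b.asIdeal.comap φ).map φ := Ideal.map_mono hab
    rwa [Ideal.map_comap_of_surjective φ hφ, Ideal.map_comap_of_surjective φ hφ] at h1
  refine ⟨?_, ?_⟩
  · refine lt_of_le_of_ne (Ideal.comap_mono hcov.lt.le) ?_
    intro e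
    exact hcov.lt.ne (le_antisymm hcov.lt.le (hmono (le_of_eq e.symm)))
  · intro r hr1 hr2
    have hker : RingHom.ker φ ≤ r.asIdeal := by
      refine le_trans ?_ hr1.le
      intro x hx
      change φ x ∈ p.asIdeal
      rw [RingHom.mem_ker.mp hx]
      exact p.asIdeal.zero_mem
    have hrp : (r.asIdeal.map φ).IsPrime := Ideal.map_isPrime_of_surjective hφ hker
    have hcm : (r.asIdeal.map φ).comap φ = r.asIdeal := by
      rw [Ideal.comap_map_of_surjective φ hφ]
      apply le_antisymm
      · exact sup_le le_rfl (by rw [← RingHom.ker_eq_comap_bot]; exact hker)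
      · exact le_sup_left
    let r' : PrimeSpectrum A := ⟨r.asIdeal.map φ, hrp⟩
    have hr' : PrimeSpectrum.comap φ r' = r := PrimeSpectrum.ext hcm
    have h1 : p < r' := by
      refine lt_of_le_of_ne (hmono (by rw [hr']; exact hr1.le)) ?_
      intro e
      rw [← e] at hr'
      exact hr1.ne hr'
    have h2 : r' < q := by
      refine lt_of_le_of_ne (hmono (by rw [hr']; exact hr2.le)) ?_
      intro e
      rw [e] at hr'
      exact hr2.ne hr'.symm
    exact hcov.2 h1 h2

variable (k : Type u) [Field k]

/-- Every maximal ideal of `k[x_1, …, x_n]` has height `n`. -/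
theorem height_eq_of_isMaximal_mvPolynomial_fin (n : ℕ) :
    ∀ (m : Ideal (MvPolynomial (Fin n) k)), m.IsMaximal → m.height = n := by
  induction n with
  | zero =>
    intro m hm
    let e : MvPolynomial (Fin 0) k ≃+* k := (MvPolynomial.isEmptyAlgEquiv k (Fin 0)).toRingEquiv
    have hF : IsField (MvPolynomial (Fin 0) k) := e.toMulEquiv.isField (Field.toIsField k)
    let _ : Field (MvPolynomial (Fin 0) k) := hF.toField
    have : m = ⊥ := (Ideal.eq_bot_or_top m).resolve_right hm.ne_top
    rw [this, Nat.cast_zero]
    exact Ideal.height_bot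
  | succ n ih =>
    intro m hm
    let e : MvPolynomial (Fin (n + 1)) k ≃+* Polynomial (MvPolynomial (Fin n) k) :=
      (MvPolynomial.finSuccEquiv k n).toRingEquiv
    have hm' : (m.map e).IsMaximal := Ideal.map_isMaximal_of_equiv e
    have hp : ((m.map e).comap (Polynomial.C : MvPolynomial (Fin n) k →+* _)).IsMaximal :=
      Polynomial.isMaximal_comap_C_of_isJacobsonRing (m.map e)
    have hlo : (m.map e).LiesOver ((m.map e).comap
        (Polynomial.C : MvPolynomial (Fin n) k →+* _)) := ⟨rfl⟩
    have h1 := Polynomial.height_eq_height_add_one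
      ((m.map e).comap (Polynomial.C : MvPolynomial (Fin n) k →+* _)) (m.map e)
    rw [ih _ hp, e.height_map] at h1
    rw [h1]
    push_cast
    rfl

end FGDim

section CMHeightDim

variable {R : Type u} [CommRing R] [hR : LocCoh.IsCohenMacaulayLocalRing R]

/-- In a Cohen–Macaulay local ring, `dim R ≤ dim R/J + ht J` for a proper ideal `J`. -/
theorem ringKrullDim_le_quotient_add_height_of_isCohenMacaulayLocalRing (J : Ideal R)
    (hJ : J ≠ ⊤) :
    ringKrullDim R ≤ ringKrullDim (R ⧸ J) + ((J.height : ℕ∞) : WithBot ℕ∞) := by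
  have hN : IsNoetherianRing R := inferInstance
  have hfin : J.height ≠ ⊤ := Ideal.height_ne_top hJ
  obtain ⟨n, hn⟩ := ENat.ne_top_iff_exists.mp hfin
  obtain ⟨p, hp, hJp, hpn⟩ := Ideal.exists_isPrime_height_eq hn.symm
  have h1 := ringKrullDim_eq_quotient_add_height_of_isCohenMacaulayModule (M := R)
    hR.supportDim_eq_depth support_self_eq_univ p
  rw [h1, hpn, ← hn]
  refine add_le_add ?_ le_rfl
  exact ringKrullDim_le_of_surjective (Ideal.Quotient.factor hJp)
    (Ideal.Quotient.factor_surjective hJp)

/-- In a Cohen–Macaulay local ring, `ht J + dim R/J = dim R` for a proper ideal `J`. -/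
theorem height_add_ringKrullDim_quotient_eq_of_isCohenMacaulayLocalRing (J : Ideal R)
    (hJ : J ≠ ⊤) :
    ((J.height : ℕ∞) : WithBot ℕ∞) + ringKrullDim (R ⧸ J) = ringKrullDim R := by
  apply le_antisymm (height_add_ringKrullDim_quotient_le J hJ)
  rw [add_comm]
  exact ringKrullDim_le_quotient_add_height_of_isCohenMacaulayLocalRing J hJ

end CMHeightDim

section CIatPrime

variable {A : Type u} [CommRing A] [hA : LocCoh.IsCohenMacaulayRing A]

/-- For a CM ring `A`, ideal `I` and prime `q` of `A/I` with preimage `q'`: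
`ht q' = ht q + ht (I A_{q'})`. -/
theorem height_comap_eq_height_add_height_map (I : Ideal A) (q : Ideal (A ⧸ I)) [q.IsPrime] :
    (q.comap (Ideal.Quotient.mk I)).height = q.height +
      (I.map (algebraMap A (Localization.AtPrime (q.comap (Ideal.Quotient.mk I))))).height := by
  have hN : IsNoetherianRing A := inferInstance
  have hq' : (q.comap (Ideal.Quotient.mk I)).IsPrime := Ideal.comap_isPrime _ _
  have hIq : I ≤ q.comap (Ideal.Quotient.mk I) := by
    intro x hx
    rw [Ideal.mem_comap, Ideal.Quotient.eq_zero_iff_mem.mpr hx]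
    exact q.zero_mem
  have hR := hA.isCohenMacaulayLocalRing_localization (q.comap (Ideal.Quotient.mk I))
  have hne : I.map (algebraMap A (Localization.AtPrime (q.comap (Ideal.Quotient.mk I)))) ≠ ⊤ := by
    intro htop
    have hle : I.map (algebraMap A (Localization.AtPrime (q.comap (Ideal.Quotient.mk I)))) ≤
        IsLocalRing.maximalIdeal (Localization.AtPrime (q.comap (Ideal.Quotient.mk I))) := by
      rw [← Localization.AtPrime.map_eq_maximalIdeal]
      exact Ideal.map_mono hIq
    rw [htop] at hle
    exact (IsLocalRing.maximalIdeal.isMaximal _).ne_top (top_le_iff.mp hle)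
  have h1 := height_add_ringKrullDim_quotient_eq_of_isCohenMacaulayLocalRing _ hne
  rw [← ringKrullDim_eq_of_ringEquiv (localizationQuotientEquiv I q),
    IsLocalization.AtPrime.ringKrullDim_eq_height q (Localization.AtPrime q),
    IsLocalization.AtPrime.ringKrullDim_eq_height (q.comap (Ideal.Quotient.mk I))
      (Localization.AtPrime (q.comap (Ideal.Quotient.mk I)))] at h1
  rw [add_comm]
  exact (WithBot.coe_injective h1).symm

end CIatPrime

section EqualHeight

variable {A : Type u} [CommRing A] [hA : LocCoh.IsCohenMacaulayRing A]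

omit hA in
/-- In a CM ring all of whose maximal ideals have height `N`, `dim A = N`. -/
theorem ringKrullDim_eq_of_forall_isMaximal_height_eq [Nontrivial A] (N : ℕ)
    (hN : ∀ m : Ideal A, m.IsMaximal → m.height = N) : ringKrullDim A = N := by
  apply le_antisymm
  · rw [ringKrullDim_le_iff_isMaximal_height_le]
    intro m hm
    rw [hN m hm]
    rfl
  · obtain ⟨m, hm⟩ := Ideal.exists_maximal A
    have := Ideal.height_le_ringKrullDim_of_ne_top hm.ne_top
    rw [hN m hm] at this
    exact this

/-- In a CM ring all of whose maximal ideals have height `N`: `ht p + dim A/p = N` for primes. -/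
theorem height_add_ringKrullDim_quotient_eq_of_forall_isMaximal_height_eq (N : ℕ)
    (hN : ∀ m : Ideal A, m.IsMaximal → m.height = N) (p : Ideal A) [hp : p.IsPrime] :
    ((p.height : ℕ∞) : WithBot ℕ∞) + ringKrullDim (A ⧸ p) = N := by
  have hNoeth : IsNoetherianRing A := inferInstance
  have hnt : Nontrivial A := ⟨⟨0, 1, fun h => hp.ne_top ((Ideal.eq_top_iff_one p).mpr (h ▸ p.zero_mem))⟩⟩
  apply le_antisymm
  · have := height_add_ringKrullDim_quotient_le p hp.ne_top
    rwa [ringKrullDim_eq_of_forall_isMaximal_height_eq N hN] at this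
  · obtain ⟨m', hm'⟩ := Ideal.exists_maximal (A ⧸ p)
    have hm'p : m'.IsPrime := hm'.isPrime
    have hcm : (m'.comap (Ideal.Quotient.mk p)).IsMaximal :=
      Ideal.comap_isMaximal_of_surjective _ Ideal.Quotient.mk_surjective
    have hcp : (m'.comap (Ideal.Quotient.mk p)).IsPrime := hcm.isPrime
    have hple : p ≤ m'.comap (Ideal.Quotient.mk p) := by
      intro x hx
      rw [Ideal.mem_comap, Ideal.Quotient.eq_zero_iff_mem.mpr hx]
      exact m'.zero_mem
    have h1 := height_comap_eq_height_add_height_map p m'
    rw [hN _ hcm, IsLocalization.height_map_of_disjoint (m'.comap (Ideal.Quotient.mk p)).primeCompl p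
      (by
        rw [Set.disjoint_left]
        intro x hx hxp
        exact hx (hple hxp))] at h1
    have h2 : ((m'.height : ℕ∞) : WithBot ℕ∞) ≤ ringKrullDim (A ⧸ p) :=
      Ideal.height_le_ringKrullDim_of_ne_top hm'.ne_top
    have h3 : ((N : ℕ∞) : WithBot ℕ∞) = ((m'.height + p.height : ℕ∞) : WithBot ℕ∞) := by
      rw [h1]
    rw [WithBot.coe_add, add_comm] at h3
    change ((N : ℕ∞) : WithBot ℕ∞) ≤ _
    rw [h3]
    exact add_le_add le_rfl h2

/-- In a CM ring all of whose maximal ideals have height `N`: `ht K + dim A/K = N` for proper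
ideals `K`. -/
theorem height_add_ringKrullDim_quotient_eq_of_forall_isMaximal_height_eq' (N : ℕ)
    (hN : ∀ m : Ideal A, m.IsMaximal → m.height = N) (K : Ideal A) (hK : K ≠ ⊤) :
    ((K.height : ℕ∞) : WithBot ℕ∞) + ringKrullDim (A ⧸ K) = N := by
  have hNoeth : IsNoetherianRing A := inferInstance
  have hnt : Nontrivial A := ⟨⟨0, 1, fun h => hK ((Ideal.eq_top_iff_one K).mpr (h ▸ K.zero_mem))⟩⟩
  apply le_antisymm
  · have := height_add_ringKrullDim_quotient_le K hK
    rwa [ringKrullDim_eq_of_forall_isMaximal_height_eq N hN] at this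
  · have hfin : K.height ≠ ⊤ := Ideal.height_ne_top hK
    obtain ⟨n, hn⟩ := ENat.ne_top_iff_exists.mp hfin
    obtain ⟨p, hp, hKp, hpn⟩ := Ideal.exists_isPrime_height_eq hn.symm
    have h1 := height_add_ringKrullDim_quotient_eq_of_forall_isMaximal_height_eq N hN p
    rw [← h1, hpn, ← hn]
    refine add_le_add le_rfl ?_
    exact ringKrullDim_le_of_surjective (Ideal.Quotient.factor hKp)
      (Ideal.Quotient.factor_surjective hKp)

end EqualHeight

section LocLocCM

/-- The Cohen–Macaulay property of a ring passes to a localization. -/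
theorem isCohenMacaulayLocalRing_atPrime_of_isLocalization {S : Type u} [CommRing S]
    (M : Submonoid S) (T : Type u) [CommRing T] [Algebra S T] [IsLocalization M T]
    [hT : LocCoh.IsCohenMacaulayRing T] (p : Ideal S) [hp : p.IsPrime]
    (hd : Disjoint (M : Set S) (p : Set S)) :
    LocCoh.IsCohenMacaulayLocalRing (Localization.AtPrime p) := by
  have hP : (p.map (algebraMap S T)).IsPrime := IsLocalization.isPrime_of_isPrime_disjoint M T p hp hd
  have hc : (p.map (algebraMap S T)).comap (algebraMap S T) = p :=
    IsLocalization.comap_map_of_isPrime_disjoint M T hp hd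
  have h1 := hT.isCohenMacaulayLocalRing_localization (p.map (algebraMap S T))
  have h2 := IsLocalization.isLocalization_isLocalization_atPrime_isLocalization (M := M)
    (Localization.AtPrime (p.map (algebraMap S T))) (p.map (algebraMap S T))
  have key : ∀ (p' : Ideal S) [p'.IsPrime], p' = p →
      IsLocalization.AtPrime (Localization.AtPrime (p.map (algebraMap S T))) p' →
      LocCoh.IsCohenMacaulayLocalRing (Localization.AtPrime p) := by
    intro p' hp' he h3
    subst he
    exact isCohenMacaulayLocalRing_of_ringEquiv (IsLocalization.algEquiv p'.primeCompl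
      (Localization.AtPrime (p'.map (algebraMap S T))) (Localization.AtPrime p')).toRingEquiv
  exact key _ hc h2

end LocLocCM

section GlobalCI

/-- A global complete intersection over a field is Cohen–Macaulay. -/
theorem isCohenMacaulayRing_of_isGlobalCI (k T : Type u) [Field k] [CommRing T] [Algebra k T]
    (h : Synt.IsGlobalCI k T) : LocCoh.IsCohenMacaulayRing T := by
  rcases h with hs | ⟨n, c, hcn, φ, r, hφ, hker, hdim⟩
  · have hN : IsNoetherianRing T := inferInstance
    refine { isCohenMacaulayLocalRing_localization := fun p hp => ?_ }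
    exact absurd hp.ne_top (by rw [Ne, not_not]; exact Subsingleton.elim _ _)
  · have hk : LocCoh.IsCohenMacaulayRing k := isCohenMacaulayRing_of_field k
    have hS : LocCoh.IsCohenMacaulayRing (MvPolynomial (Fin n) k) :=
      isCohenMacaulayRing_mvPolynomial_fin n
    have hnt : Nontrivial T := by
      by_contra hnot
      rw [not_nontrivial_iff_subsingleton] at hnot
      rw [ringKrullDim_eq_bot_of_subsingleton] at hdim
      exact absurd hdim (by simp)
    set xs : List (MvPolynomial (Fin n) k) := List.ofFn r with hxs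
    have hof : RingHom.ker φ.toRingHom = Ideal.ofList xs := by
      rw [hker]
      unfold Ideal.ofList
      congr 1
      ext x
      simp [hxs, List.mem_ofFn]
    have hlen : xs.length = c := by simp [hxs]
    have hKtop : RingHom.ker φ.toRingHom ≠ ⊤ := RingHom.ker_ne_top _
    let e : (MvPolynomial (Fin n) k ⧸ RingHom.ker φ.toRingHom) ≃+* T :=
      RingHom.quotientKerEquivOfSurjective (f := φ.toRingHom) hφ
    have h1 := height_add_ringKrullDim_quotient_eq_of_forall_isMaximal_height_eq' n
      (height_eq_of_isMaximal_mvPolynomial_fin k n) _ hKtop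
    rw [ringKrullDim_eq_of_ringEquiv e, hdim] at h1
    have h2 : (RingHom.ker φ.toRingHom).height + ((n - c : ℕ) : ℕ∞) = (n : ℕ∞) := by
      have : (((RingHom.ker φ.toRingHom).height + ((n - c : ℕ) : ℕ∞) : ℕ∞) : WithBot ℕ∞) =
          ((n : ℕ∞) : WithBot ℕ∞) := by
        rw [WithBot.coe_add]; exact h1
      exact WithBot.coe_injective this
    have h3 : (xs.length : ℕ∞) ≤ (RingHom.ker φ.toRingHom).height := by
      rw [hlen]
      have h4 : ((c : ℕ∞) + ((n - c : ℕ) : ℕ∞)) = (n : ℕ∞) := by
        have : c + (n - c) = n := by omega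
        exact_mod_cast this
      rw [← h4] at h2
      exact le_of_eq ((ENat.add_left_injective_of_ne_top (ENat.natCast_ne_top (n - c))) h2).symm
    obtain ⟨hCM, -⟩ := isCohenMacaulayRing_quotient_of_eq_ofList xs _ hof h3
    exact isCohenMacaulayRing_of_ringEquiv e

end GlobalCI

section FTDomain

/-- In a CM ring with all maximal ideals of height `N`, every maximal ideal of `A/p` (`p` prime)
has height `dim A/p`. -/
theorem height_eq_ringKrullDim_quotient_of_isMaximal {A : Type u} [CommRing A]
    [hA : LocCoh.IsCohenMacaulayRing A] (N : ℕ)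
    (hN : ∀ m : Ideal A, m.IsMaximal → m.height = N) (p : Ideal A) [hp : p.IsPrime]
    (M : Ideal (A ⧸ p)) [hM : M.IsMaximal] :
    ((M.height : ℕ∞) : WithBot ℕ∞) = ringKrullDim (A ⧸ p) := by
  have hNoeth : IsNoetherianRing A := inferInstance
  have hMp : M.IsPrime := hM.isPrime
  have hcm : (M.comap (Ideal.Quotient.mk p)).IsMaximal :=
    Ideal.comap_isMaximal_of_surjective _ Ideal.Quotient.mk_surjective
  have hcp : (M.comap (Ideal.Quotient.mk p)).IsPrime := hcm.isPrime
  have hple : p ≤ M.comap (Ideal.Quotient.mk p) := by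
    intro x hx
    rw [Ideal.mem_comap, Ideal.Quotient.eq_zero_iff_mem.mpr hx]
    exact M.zero_mem
  have h1 := height_comap_eq_height_add_height_map p M
  rw [hN _ hcm, IsLocalization.height_map_of_disjoint (M.comap (Ideal.Quotient.mk p)).primeCompl p
    (by
      rw [Set.disjoint_left]
      intro x hx hxp
      exact hx (hple hxp))] at h1
  have h2 := height_add_ringKrullDim_quotient_eq_of_forall_isMaximal_height_eq N hN p
  have h3 : ((N : ℕ∞) : WithBot ℕ∞) = ((M.height + p.height : ℕ∞) : WithBot ℕ∞) := by rw [h1]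
  rw [WithBot.coe_add, add_comm] at h3
  have h4 : ((p.height : ℕ∞) : WithBot ℕ∞) + ringKrullDim (A ⧸ p) =
      ((p.height : ℕ∞) : WithBot ℕ∞) + ((M.height : ℕ∞) : WithBot ℕ∞) := by
    rw [h2]; exact h3
  have hpfin : p.height ≠ ⊤ := Ideal.height_ne_top_of_isPrime
  obtain ⟨a, ha⟩ := ENat.ne_top_iff_exists.mp hpfin
  rw [← ha] at h4
  have hnb : ringKrullDim (A ⧸ p) ≠ ⊥ := by
    have : 0 ≤ ringKrullDim (A ⧸ p) := ringKrullDim_nonneg_of_nontrivial
    intro hb
    rw [hb] at this
    simp at this
  obtain ⟨x, hx⟩ := WithBot.ne_bot_iff_exists.mp hnb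
  rw [← hx] at h4 ⊢
  have h5 : ((a : ℕ∞) + x) = ((a : ℕ∞) + M.height) := by
    have : (((a : ℕ∞) + x : ℕ∞) : WithBot ℕ∞) = (((a : ℕ∞) + M.height : ℕ∞) : WithBot ℕ∞) := by
      rw [WithBot.coe_add, WithBot.coe_add]; exact h4
    exact WithBot.coe_injective this
  rw [(ENat.add_right_injective_of_ne_top (ENat.natCast_ne_top a)) h5]

variable (k : Type u) [Field k]

/-- For a finite type algebra `S` over a field and a prime `p`, every maximal ideal of `S/p` has
height `dim S/p`. -/
theorem height_eq_ringKrullDim_quotient_of_isMaximal_of_finiteType (S : Type u) [CommRing S]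
    [Algebra k S] [Algebra.FiniteType k S] (p : Ideal S) [hp : p.IsPrime]
    (M : Ideal (S ⧸ p)) [hM : M.IsMaximal] :
    ((M.height : ℕ∞) : WithBot ℕ∞) = ringKrullDim (S ⧸ p) := by
  obtain ⟨n, φ, hφ⟩ := Algebra.FiniteType.iff_quotient_mvPolynomial''.mp
    (inferInstance : Algebra.FiniteType k S)
  have hk : LocCoh.IsCohenMacaulayRing k := isCohenMacaulayRing_of_field k
  have hS : LocCoh.IsCohenMacaulayRing (MvPolynomial (Fin n) k) :=
    isCohenMacaulayRing_mvPolynomial_fin n
  let ψ : MvPolynomial (Fin n) k →+* S ⧸ p := (Ideal.Quotient.mk p).comp φ.toRingHom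
  have hψ : Function.Surjective ψ := Ideal.Quotient.mk_surjective.comp hφ
  have hker : (RingHom.ker ψ).IsPrime := RingHom.ker_isPrime ψ
  let e : (MvPolynomial (Fin n) k ⧸ RingHom.ker ψ) ≃+* S ⧸ p :=
    RingHom.quotientKerEquivOfSurjective hψ
  have hM' : (M.comap e).IsMaximal :=
    Ideal.comap_isMaximal_of_surjective e e.surjective
  have h1 := height_eq_ringKrullDim_quotient_of_isMaximal n
    (height_eq_of_isMaximal_mvPolynomial_fin k n) (RingHom.ker ψ) (M.comap e)
  rw [ringKrullDim_eq_of_ringEquiv e] at h1
  rw [← h1]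
  congr 1
  exact (e.height_comap M).symm

/-- A CM finite type algebra over a field which is equidimensional of dimension `d` has all its
maximal ideals of height `d`. -/
theorem height_eq_of_isMaximal_of_equidim (S : Type u) [CommRing S]
    [Algebra k S] [Algebra.FiniteType k S] [hS : LocCoh.IsCohenMacaulayRing S] (d : ℕ)
    (heq : ∀ p ∈ minimalPrimes S, ringKrullDim (S ⧸ p) = d) (m : Ideal S) (hm : m.IsMaximal) :
    m.height = d := by
  have hmp : m.IsPrime := hm.isPrime
  obtain ⟨p, hpmin, hpm⟩ := Ideal.exists_minimalPrimes_le (I := (⊥ : Ideal S)) (J := m) bot_le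
  have hp : p.IsPrime := hpmin.1.1
  have hM : (m.map (Ideal.Quotient.mk p)).IsMaximal :=
    Ideal.IsMaximal.map_of_surjective_of_ker_le Ideal.Quotient.mk_surjective
      (by rwa [Ideal.mk_ker])
  have hMp : (m.map (Ideal.Quotient.mk p)).IsPrime := hM.isPrime
  have hcm : (m.map (Ideal.Quotient.mk p)).comap (Ideal.Quotient.mk p) = m := by
    rw [Ideal.comap_map_of_surjective _ Ideal.Quotient.mk_surjective, ← RingHom.ker_eq_comap_bot,
      Ideal.mk_ker]
    exact sup_eq_left.mpr hpm
  have h1 := height_eq_ringKrullDim_quotient_of_isMaximal_of_finiteType k S p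
    (m.map (Ideal.Quotient.mk p))
  rw [heq p hpmin] at h1
  have h1' : (m.map (Ideal.Quotient.mk p)).height = d := by exact_mod_cast h1
  have h2 := height_comap_eq_height_add_height_map p (m.map (Ideal.Quotient.mk p))
  have hcp : ((m.map (Ideal.Quotient.mk p)).comap (Ideal.Quotient.mk p)).IsPrime :=
    Ideal.comap_isPrime _ _
  have hN : IsNoetherianRing S := inferInstance
  rw [IsLocalization.height_map_of_disjoint
    ((m.map (Ideal.Quotient.mk p)).comap (Ideal.Quotient.mk p)).primeCompl p
    (by
      rw [Set.disjoint_left]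
      intro x hx hxp
      apply hx
      rw [hcm]
      exact hpm hxp), hcm, h1', Ideal.height_eq_zero_iff.mpr hpmin, add_zero] at h2
  exact h2

end FTDomain

section KrullList

theorem height_ofList_le_length {R : Type u} [CommRing R] [IsNoetherianRing R] (f : List R)
    (h : Ideal.ofList f ≠ ⊤) : (Ideal.ofList f).height ≤ f.length := by
  classical
  obtain ⟨J, hJ⟩ := Ideal.nonempty_minimalPrimes h
  have hspan : Ideal.ofList f = Ideal.span (f.toFinset : Set R) := by
    unfold Ideal.ofList
    congr 1
    ext x
    simp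
  rw [Ideal.height_eq_inf_minimalPrimes]
  refine le_trans (iInf₂_le J hJ) ?_
  rw [hspan] at hJ
  refine le_trans (Ideal.height_le_card_of_mem_minimalPrimes_span_finset hJ) ?_
  exact_mod_cast List.toFinset_card_le f

end KrullList

section RegLoc

variable {A : Type u} [CommRing A] [hA : LocCoh.IsCohenMacaulayRing A]

/-- In a CM ring, a sequence generating an ideal of height at least its length is a regular
sequence in the localization at any prime containing it. -/
theorem isRegular_map_localization_of_length_le_height (xs : List A)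
    (h : (xs.length : ℕ∞) ≤ (Ideal.ofList xs).height) (q : Ideal A) [hq : q.IsPrime]
    (hle : Ideal.ofList xs ≤ q) :
    IsRegular (Localization.AtPrime q) (xs.map (algebraMap A (Localization.AtPrime q))) := by
  have hN : IsNoetherianRing A := inferInstance
  have hR := hA.isCohenMacaulayLocalRing_localization q
  set ys := xs.map (algebraMap A (Localization.AtPrime q)) with hys
  have hmem : ∀ y ∈ ys, y ∈ IsLocalRing.maximalIdeal (Localization.AtPrime q) := by
    intro y hy
    obtain ⟨a, ha, rfl⟩ := List.mem_map.mp hy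
    rw [← Localization.AtPrime.map_eq_maximalIdeal]
    exact Ideal.mem_map_of_mem _ (hle (Ideal.subset_span ha))
  have hht : (ys.length : ℕ∞) ≤ (Ideal.ofList ys).height := by
    rw [hys, List.length_map, ← Ideal.map_ofList,
      ← IsLocalization.height_under q.primeCompl]
    exact le_trans h (Ideal.height_mono Ideal.le_comap_map)
  obtain ⟨hreg, -, -⟩ := isWeaklyRegular_of_length_le_height ys hmem hht
  refine ⟨hreg, ?_⟩
  rw [smul_eq_mul, Ideal.mul_top]
  intro htop
  have hle' : Ideal.ofList ys ≤ IsLocalRing.maximalIdeal (Localization.AtPrime q) :=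
    ofList_le_of_forall_mem hmem
  rw [← htop] at hle'
  exact (IsLocalRing.maximalIdeal.isMaximal _).ne_top (top_le_iff.mp hle')

end RegLoc

end Groth.Agent.Lib.Helper28
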