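import Mathlib
import Groth.Agent.Lib.Helper28FGDim

/-!
# Helper10AlgIndep: algebraic independence of `x_1..x_n, Σ g_i x_i, g_j` (Bertini-type lemma)

* `key`: leading coefficient lemma: if `a` is transcendental over `B` (via `φ : B → D`), then
  `a X + c'` is transcendental over `B[X]` inside `D[X]`.
* `algebraicIndependent_linear`: if `(a, y)` is algebraically independent in `D` then
  `(a X + c', X, C ∘ y)` is algebraically independent in `D[X]`.
* `dim_formula`: `ht p + dim A/p = dim A` for finite type domains over a field (natural numbers).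
* `height_le_one_of_not_algebraicIndependent`.
-/

set_option autoImplicit false
universe u

namespace Groth.Agent.Lib.Helper10.AlgIndep

open Polynomial Groth.Agent.Lib.Helper28

/-- Leading coefficient lemma. -/
theorem key {B D : Type*} [CommRing B] [CommRing D] [IsDomain D] (φ : B →+* D) (a c' : D)
    (ha : ∀ R : Polynomial B, R ≠ 0 → R.eval₂ φ a ≠ 0)
    (Q : Polynomial (Polynomial B)) (hQ : Q ≠ 0) :
    Q.eval₂ (Polynomial.mapRingHom φ) (C a * X + C c') ≠ 0 := by
  classical
  have hφ : Function.Injective φ := by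
    rw [injective_iff_map_eq_zero]
    intro b hb
    by_contra hb0
    apply ha (C b) (by simpa using hb0)
    simp [hb]
  have hB : Nontrivial B := by
    by_contra hB
    rw [not_nontrivial_iff_subsingleton] at hB
    exact hQ (Subsingleton.elim _ _)
  have ha0 : a ≠ 0 := by
    intro h0
    apply ha X X_ne_zero
    simp [h0]
  set u : Polynomial D := C a * X + C c' with hu
  have hudeg : u.natDegree = 1 := natDegree_linear ha0
  have hulc : u.leadingCoeff = a := leadingCoeff_linear ha0
  have hu0 : u ≠ 0 := by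
    intro h
    rw [h] at hudeg
    simp at hudeg
  -- the weight function
  let wt : ℕ → ℕ := fun e => (Q.coeff e).natDegree + e
  have hsupp : Q.support.Nonempty := by
    rw [Finset.nonempty_iff_ne_empty]
    intro h
    exact hQ (Polynomial.support_eq_empty.mp h)
  obtain ⟨e₀, he₀, hmax⟩ := Finset.exists_max_image Q.support wt hsupp
  set N := wt e₀ with hN
  -- term degrees
  have hterm : ∀ e ∈ Q.support, ((Q.coeff e).map φ * u ^ e).natDegree = wt e ∧
      ((Q.coeff e).map φ * u ^ e).leadingCoeff = φ (Q.coeff e).leadingCoeff * a ^ e := by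
    intro e he
    have hq0 : Q.coeff e ≠ 0 := Polynomial.mem_support_iff.mp he
    have hq0' : (Q.coeff e).map φ ≠ 0 := (Polynomial.map_ne_zero_iff hφ).mpr hq0
    constructor
    · rw [natDegree_mul hq0' (pow_ne_zero _ hu0), natDegree_pow, hudeg, mul_one,
        natDegree_map_eq_of_injective hφ]
    · rw [leadingCoeff_mul, leadingCoeff_pow, hulc, leadingCoeff_map_of_injective hφ]
  -- the relation polynomial
  let E' := Q.support.filter (fun e => wt e = N)
  let R : Polynomial B := ∑ e ∈ E', C (Q.coeff e).leadingCoeff * X ^ e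
  have hR0 : R ≠ 0 := by
    intro h
    have h1 : R.coeff e₀ = 0 := by rw [h]; simp
    have h2 : R.coeff e₀ = (Q.coeff e₀).leadingCoeff := by
      simp only [R, finsetSum_coeff, coeff_C_mul, coeff_X_pow]
      rw [Finset.sum_eq_single e₀]
      · simp
      · intro b _ hb
        simp [Ne.symm hb]
      · intro h'
        exfalso
        apply h'
        simp [E', he₀, hN]
    rw [h2] at h1
    exact Polynomial.mem_support_iff.mp he₀ (leadingCoeff_eq_zero.mp h1)
  have hcoeff : (Q.eval₂ (Polynomial.mapRingHom φ) u).coeff N = R.eval₂ φ a := by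
    rw [eval₂_eq_sum, Polynomial.sum_def, finsetSum_coeff]
    simp only [R, eval₂_finsetSum, eval₂_mul, eval₂_C, eval₂_pow, eval₂_X]
    rw [← Finset.sum_filter_add_sum_filter_not Q.support (fun e => wt e = N)]
    have hz : ∑ e ∈ Q.support.filter (fun e => ¬ wt e = N),
        ((Polynomial.mapRingHom φ) (Q.coeff e) * u ^ e).coeff N = 0 := by
      apply Finset.sum_eq_zero
      intro e he
      rw [Finset.mem_filter] at he
      apply coeff_eq_zero_of_natDegree_lt
      rw [coe_mapRingHom, (hterm e he.1).1]
      exact lt_of_le_of_ne (hmax e he.1) he.2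
    rw [hz, add_zero]
    apply Finset.sum_congr rfl
    intro e he
    rw [Finset.mem_filter] at he
    rw [coe_mapRingHom, ← (hterm e he.1).2, ← he.2, ← (hterm e he.1).1]
    rfl
  intro h
  apply ha R hR0
  rw [← hcoeff, h]
  simp

theorem eval₂_optionEquivLeft {k D ι : Type*} [CommRing k] [CommRing D] [Algebra k D]
    (y : ι → D) (a : D) (W : MvPolynomial (Option ι) k) :
    (MvPolynomial.optionEquivLeft k ι W).eval₂ ((MvPolynomial.aeval y : MvPolynomial ι k →ₐ[k] D) : MvPolynomial ι k →+* D) a =
      MvPolynomial.aeval (fun o : Option ι => o.elim a y) W := by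
  have : (Polynomial.eval₂RingHom ((MvPolynomial.aeval y : MvPolynomial ι k →ₐ[k] D) : MvPolynomial ι k →+* D) a).comp
      (MvPolynomial.optionEquivLeft k ι : MvPolynomial (Option ι) k →+* _) =
      ((MvPolynomial.aeval (fun o : Option ι => o.elim a y) : MvPolynomial (Option ι) k →ₐ[k] D) :
        MvPolynomial (Option ι) k →+* D) := by
    apply MvPolynomial.ringHom_ext
    · intro r
      simp
    · rintro (_ | i)
      · simp
      · simp
  exact RingHom.congr_fun this W

theorem algebraicIndependent_linear {k D ι : Type*} [CommRing k] [CommRing D] [IsDomain D]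
    [Algebra k D] (y : ι → D) (a c' : D)
    (h : AlgebraicIndependent k (fun o : Option ι => o.elim a y)) :
    AlgebraicIndependent k (fun o : Option (Option ι) =>
      o.elim (C a * X + C c' : Polynomial D) (fun o' => o'.elim (X : Polynomial D) (fun i => C (y i)))) := by
  rw [algebraicIndependent_iff_injective_aeval, injective_iff_map_eq_zero]
  intro Z hZ
  by_contra hZ0
  let e1 := MvPolynomial.optionEquivLeft k (Option ι)
  let e2 := MvPolynomial.optionEquivLeft k ι
  let Q : Polynomial (Polynomial (MvPolynomial ι k)) := Polynomial.mapAlgEquiv e2 (e1 Z)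
  have hQ : Q ≠ 0 := by
    intro h0
    apply hZ0
    have := (Polynomial.mapAlgEquiv e2).injective (h0.trans (map_zero _).symm)
    exact e1.injective (this.trans (map_zero _).symm)
  have ha : ∀ R : Polynomial (MvPolynomial ι k), R ≠ 0 →
      R.eval₂ ((MvPolynomial.aeval y : MvPolynomial ι k →ₐ[k] D) : MvPolynomial ι k →+* D) a ≠ 0 := by
    intro R hR hR0
    have h1 := eval₂_optionEquivLeft (k := k) y a (e2.symm R)
    rw [AlgEquiv.apply_symm_apply, hR0] at h1
    have h2 := (injective_iff_map_eq_zero _).mp (algebraicIndependent_iff_injective_aeval.mp h) _ h1.symm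
    apply hR
    have := congrArg e2 h2
    rwa [AlgEquiv.apply_symm_apply, map_zero] at this
  apply key ((MvPolynomial.aeval y : MvPolynomial ι k →ₐ[k] D) : MvPolynomial ι k →+* D) a c' ha Q hQ
  rw [← hZ]
  have : (Polynomial.eval₂RingHom (Polynomial.mapRingHom ((MvPolynomial.aeval y : MvPolynomial ι k →ₐ[k] D) : MvPolynomial ι k →+* D))
      (C a * X + C c')).comp (((Polynomial.mapAlgEquiv e2).toAlgHom.toRingHom).comp (e1.toAlgHom.toRingHom)) =
      ((MvPolynomial.aeval (fun o : Option (Option ι) =>
      o.elim (C a * X + C c' : Polynomial D) (fun o' => o'.elim (X : Polynomial D) (fun i => C (y i)))) :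
        MvPolynomial (Option (Option ι)) k →ₐ[k] Polynomial D) :
        MvPolynomial (Option (Option ι)) k →+* Polynomial D) := by
    apply MvPolynomial.ringHom_ext
    · intro r
      simp [e1, e2]
    · rintro (_ | _ | i)
      · simp [e1, e2]
      · simp [e1, e2]
      · simp [e1, e2]
  exact RingHom.congr_fun this Z

/-- Dimension formula for finite type domains over a field. -/
theorem dim_formula (k : Type u) [Field k] {A : Type u} [CommRing A] [IsDomain A] [Algebra k A]
    [Algebra.FiniteType k A] (p : Ideal A) [hp : p.IsPrime] :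
    ∃ a b c : ℕ, p.height = a ∧ ringKrullDim (A ⧸ p) = b ∧ ringKrullDim A = c ∧ a + b = c := by
  obtain ⟨n, φ, hφ⟩ := Algebra.FiniteType.iff_quotient_mvPolynomial''.mp
    (inferInstance : Algebra.FiniteType k A)
  have hk : LocCoh.IsCohenMacaulayRing k := isCohenMacaulayRing_of_field k
  have hP : LocCoh.IsCohenMacaulayRing (MvPolynomial (Fin n) k) :=
    isCohenMacaulayRing_mvPolynomial_fin n
  have hN : IsNoetherianRing (MvPolynomial (Fin n) k) := inferInstance
  have hmax := height_eq_of_isMaximal_mvPolynomial_fin k n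
  set Q := RingHom.ker φ.toRingHom with hQdef
  have hQ : Q.IsPrime := RingHom.ker_isPrime φ.toRingHom
  let e : (MvPolynomial (Fin n) k ⧸ Q) ≃+* A := RingHom.quotientKerEquivOfSurjective hφ
  let q : Ideal (MvPolynomial (Fin n) k ⧸ Q) := p.comap e
  have hq : q.IsPrime := Ideal.comap_isPrime _ _
  set p' := q.comap (Ideal.Quotient.mk Q) with hp'def
  have hp' : p'.IsPrime := Ideal.comap_isPrime _ _
  have hQp' : Q ≤ p' := by
    intro x hx
    rw [hp'def, Ideal.mem_comap, Ideal.Quotient.eq_zero_iff_mem.mpr hx]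
    exact q.zero_mem
  have h1 := height_add_ringKrullDim_quotient_eq_of_forall_isMaximal_height_eq n hmax p'
  have h2 := height_add_ringKrullDim_quotient_eq_of_forall_isMaximal_height_eq n hmax Q
  have h3 := height_comap_eq_height_add_height_map Q q
  rw [IsLocalization.height_map_of_disjoint p'.primeCompl Q
    (by
      rw [Set.disjoint_left]
      intro x hx hxq
      exact hx (hQp' hxq))] at h3
  have hqh : q.height = p.height := e.height_comap p
  -- dim A = dim P/Q
  have hdA : ringKrullDim (MvPolynomial (Fin n) k ⧸ Q) = ringKrullDim A :=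
    ringKrullDim_eq_of_ringEquiv e
  -- dim A/p = dim P/p'
  have hdAp : ringKrullDim (MvPolynomial (Fin n) k ⧸ p') = ringKrullDim (A ⧸ p) := by
    let ψ : MvPolynomial (Fin n) k →+* A ⧸ p := (Ideal.Quotient.mk p).comp φ.toRingHom
    have hψ : Function.Surjective ψ := Ideal.Quotient.mk_surjective.comp hφ
    have hker : RingHom.ker ψ = p' := by
      ext x
      rw [RingHom.mem_ker, hp'def, Ideal.mem_comap, Ideal.mem_comap]
      change Ideal.Quotient.mk p (φ x) = 0 ↔ _
      rw [Ideal.Quotient.eq_zero_iff_mem]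
      rfl
    rw [← hker]
    exact ringKrullDim_eq_of_ringEquiv (RingHom.quotientKerEquivOfSurjective hψ)
  rw [hdAp] at h1
  rw [hdA] at h2
  rw [h3, hqh] at h1
  have hNA : IsNoetherianRing A := Algebra.FiniteType.isNoetherianRing k A
  have hpfin : p.height ≠ ⊤ := Ideal.height_ne_top_of_isPrime
  have hQfin : Q.height ≠ ⊤ := Ideal.height_ne_top_of_isPrime
  obtain ⟨a, ha⟩ := ENat.ne_top_iff_exists.mp hpfin
  obtain ⟨d, hd⟩ := ENat.ne_top_iff_exists.mp hQfin
  rw [← ha, ← hd] at h1
  rw [← hd] at h2
  have hnb1 : ringKrullDim (A ⧸ p) ≠ ⊥ := by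
    have : 0 ≤ ringKrullDim (A ⧸ p) := ringKrullDim_nonneg_of_nontrivial
    intro hb
    rw [hb] at this
    simp at this
  have hnb2 : ringKrullDim A ≠ ⊥ := by
    have : 0 ≤ ringKrullDim A := ringKrullDim_nonneg_of_nontrivial
    intro hb
    rw [hb] at this
    simp at this
  obtain ⟨x, hx⟩ := WithBot.ne_bot_iff_exists.mp hnb1
  obtain ⟨z, hz⟩ := WithBot.ne_bot_iff_exists.mp hnb2
  rw [← hx] at h1
  rw [← hz] at h2
  have h1' : ((a : ℕ∞) + d) + x = (n : ℕ∞) := by
    apply WithBot.coe_injective
    rw [WithBot.coe_add]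
    exact h1
  have h2' : (d : ℕ∞) + z = (n : ℕ∞) := by
    apply WithBot.coe_injective
    rw [WithBot.coe_add]
    exact h2
  have hxfin : x ≠ ⊤ := by
    intro h
    rw [h, add_top] at h1'
    exact ENat.top_ne_natCast n h1'
  have hzfin : z ≠ ⊤ := by
    intro h
    rw [h, add_top] at h2'
    exact ENat.top_ne_natCast n h2'
  obtain ⟨x', hx'⟩ := ENat.ne_top_iff_exists.mp hxfin
  obtain ⟨z', hz'⟩ := ENat.ne_top_iff_exists.mp hzfin
  rw [← hx'] at h1'
  rw [← hz'] at h2'
  have h1'' : a + d + x' = n := by exact_mod_cast h1'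
  have h2'' : d + z' = n := by exact_mod_cast h2'
  refine ⟨a, x', z', ha.symm, ?_, ?_, by omega⟩
  · rw [← hx, ← hx']; rfl
  · rw [← hz, ← hz']; rfl

/-- An algebraic element of a domain over a field which lies in a proper ideal is zero. -/
theorem eq_zero_of_isAlgebraic_of_mem {k R : Type*} [Field k] [CommRing R] [IsDomain R] [Algebra k R]
    {x : R} (hx : IsAlgebraic k x) (I : Ideal R) (hI : I ≠ ⊤) (hxI : x ∈ I) : x = 0 := by
  by_contra h0
  exact hI (Ideal.eq_top_of_isUnit_mem I hxI (hx.isIntegral.isUnit h0))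

theorem height_le_one_of_not_algebraicIndependent {k A : Type u} [Field k] [CommRing A] [IsDomain A]
    [Algebra k A] [IsNoetherianRing A] (g₀ g₁ : A) (p : Ideal A)
    (hp : p ∈ (Ideal.span {g₀, g₁}).minimalPrimes)
    (hdep : ¬ AlgebraicIndependent k (fun o : Option Unit => o.elim g₀ (fun _ => g₁))) :
    p.height ≤ 1 := by
  have hpp : p.IsPrime := hp.1.1
  have hle : Ideal.span {g₀, g₁} ≤ p := hp.1.2
  have hg₀p : g₀ ∈ p := hle (Ideal.subset_span (by simp))
  have hg₁p : g₁ ∈ p := hle (Ideal.subset_span (by simp))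
  -- principal cases
  have hprin : ∀ x : A, Ideal.span {g₀, g₁} = Ideal.span {x} → p.height ≤ 1 := by
    intro x hx
    rw [hx] at hp
    exact Ideal.height_le_one_of_isPrincipal_of_mem_minimalPrimes _ p hp
  by_cases h1 : g₁ = 0
  · apply hprin g₀
    rw [h1]
    apply le_antisymm
    · rw [Ideal.span_le]
      rintro x (rfl | rfl)
      · exact Ideal.subset_span rfl
      · exact Ideal.zero_mem _
    · exact Ideal.span_mono (by simp)
  by_cases h0 : g₀ = 0
  · apply hprin g₁
    rw [h0]
    apply le_antisymm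
    · rw [Ideal.span_le]
      rintro x (rfl | rfl)
      · exact Ideal.zero_mem _
      · exact Ideal.subset_span rfl
    · exact Ideal.span_mono (by simp)
  rw [AlgebraicIndependent.option_iff, not_and_or] at hdep
  rcases hdep with hdep | hdep
  · -- g₁ algebraic over k
    exfalso
    rw [algebraicIndependent_unique_type_iff] at hdep
    have halg : IsAlgebraic k g₁ := by
      simpa [Transcendental] using hdep
    exact h1 (eq_zero_of_isAlgebraic_of_mem halg p hpp.ne_top hg₁p)
  · -- g₀ algebraic over k[g₁]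
    have halg : IsAlgebraic (Algebra.adjoin k (Set.range (fun _ : Unit => g₁))) g₀ := by
      simpa [Transcendental] using hdep
    obtain ⟨b, hb0, hbdvd⟩ := halg.exists_nonzero_dvd (mem_nonZeroDivisors_of_ne_zero h0)
    obtain ⟨q₀, hq₀, hq₀p⟩ := Ideal.exists_minimalPrimes_le (I := Ideal.span {g₀}) (J := p)
      (by rw [Ideal.span_le]; rintro x rfl; exact hg₀p)
    have hq₀p' : q₀.IsPrime := hq₀.1.1
    have hg₀q : g₀ ∈ q₀ := hq₀.1.2 (Ideal.subset_span rfl)
    have hbq : (b : A) ∈ q₀ := by
      obtain ⟨c, hc⟩ := hbdvd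
      change (b : A) = g₀ * c at hc
      rw [hc]
      exact q₀.mul_mem_right _ hg₀q
    -- b = h(g₁)
    have hbmem : (b : A) ∈ Algebra.adjoin k {g₁} := by
      have := b.2
      simpa using this
    rw [Algebra.adjoin_singleton_eq_range_aeval] at hbmem
    obtain ⟨h, hh⟩ := hbmem
    have hh0 : h ≠ 0 := by
      rintro rfl
      apply hb0
      apply Subtype.ext
      rw [← hh]
      simp
    -- g₁ mod q₀ algebraic
    have halg' : IsAlgebraic k (Ideal.Quotient.mk q₀ g₁) := by
      refine ⟨h, hh0, ?_⟩
      rw [← Ideal.Quotient.mkₐ_eq_mk k, Polynomial.aeval_algHom_apply]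
      change Ideal.Quotient.mkₐ k q₀ (Polynomial.aeval g₁ h) = 0
      have : Polynomial.aeval g₁ h = (b : A) := hh
      rw [this, Ideal.Quotient.mkₐ_eq_mk, Ideal.Quotient.eq_zero_iff_mem]
      exact hbq
    have hg₁q : g₁ ∈ q₀ := by
      have hmap : Ideal.Quotient.mk q₀ g₁ ∈ p.map (Ideal.Quotient.mk q₀) :=
        Ideal.mem_map_of_mem _ hg₁p
      have hne : p.map (Ideal.Quotient.mk q₀) ≠ ⊤ := by
        intro htop
        have := Ideal.comap_map_of_surjective (Ideal.Quotient.mk q₀) Ideal.Quotient.mk_surjective p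
        rw [htop, Ideal.comap_top, ← RingHom.ker_eq_comap_bot, Ideal.mk_ker,
          sup_eq_left.mpr hq₀p] at this
        exact hpp.ne_top this.symm
      have := eq_zero_of_isAlgebraic_of_mem halg' _ hne hmap
      exact Ideal.Quotient.eq_zero_iff_mem.mp this
    have hpq : p ≤ q₀ := by
      apply hp.2 ⟨hq₀p', ?_⟩ hq₀p
      rw [Ideal.span_le]
      rintro x (rfl | rfl)
      · exact hg₀q
      · exact hg₁q
    have : p = q₀ := le_antisymm hpq hq₀p
    rw [this]
    exact Ideal.height_le_one_of_isPrincipal_of_mem_minimalPrimes _ q₀ hq₀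

end Groth.Agent.Lib.Helper10.AlgIndep
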