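import Mathlib.Algebra.Homology.DerivedCategory.TStructure
import Mathlib.Algebra.Homology.DerivedCategory.Fractions
import Mathlib.Algebra.Homology.DerivedCategory.HomologySequence

/-!
# Negative objects mapping onto the top cohomology (helper17)

Chain level lemmas for `S6707` and `S6706`.
-/

set_option autoImplicit false

universe w v u

open CategoryTheory CategoryTheory.Limits

namespace Groth.Agent.Lib.Helper17.Sib

variable {A : Type u} [Category.{v} A] [Abelian A]

/-- The single complex functor in degree `b`. -/
noncomputable abbrev sg (b : ℤ) : A ⥤ CochainComplex A ℤ :=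
  HomologicalComplex.single A (ComplexShape.up ℤ) b

/-- The inclusion of the top term of a complex which is strictly `≤ b`. -/
noncomputable def topι (K : CochainComplex A ℤ) (b : ℤ) [K.IsStrictlyLE b] :
    (sg b).obj (K.X b) ⟶ K :=
  HomologicalComplex.mkHomFromSingle (𝟙 _) (by
    intro k hk
    exact (K.isZero_of_isStrictlyLE b k (by
      have : b + 1 = k := hk
      omega)).eq_of_tgt _ _)

@[simp]
lemma topι_f (K : CochainComplex A ℤ) (b : ℤ) [K.IsStrictlyLE b] :
    (topι K b).f b = (HomologicalComplex.singleObjXSelf (ComplexShape.up ℤ) b (K.X b)).hom := by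
  simp [topι, HomologicalComplex.mkHomFromSingle_f]

/-- a chain map out of a single complex in degree `b` whose degree `b` component is an
epimorphism onto the top term of a complex strictly `≤ b` induces an epi on `H^b`. -/
lemma epi_homologyMap_of_epi_f {N : A} (K : CochainComplex A ℤ) (b : ℤ) [K.IsStrictlyLE b]
    (φ : (sg b).obj N ⟶ K) (hφ : Epi (φ.f b)) :
    Epi (HomologicalComplex.homologyMap φ b) := by
  have hK : K.d b (b + 1) = 0 := (K.isZero_of_isStrictlyLE b (b + 1)).eq_of_tgt _ _
  have hS : ((sg b).obj N).d b (b + 1) = 0 := by simp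
  haveI := K.isIso_iCycles b (b + 1) (by simp) hK
  haveI := ((sg b).obj N).isIso_iCycles b (b + 1) (by simp) hS
  have h1 : HomologicalComplex.cyclesMap φ b ≫ K.iCycles b =
      ((sg b).obj N).iCycles b ≫ φ.f b := by simp
  haveI : Epi (HomologicalComplex.cyclesMap φ b ≫ K.iCycles b) := by
    rw [h1]; infer_instance
  haveI : Epi (HomologicalComplex.cyclesMap φ b) := by
    have : HomologicalComplex.cyclesMap φ b =
      (HomologicalComplex.cyclesMap φ b ≫ K.iCycles b) ≫ inv (K.iCycles b) := by
      rw [Category.assoc, IsIso.hom_inv_id, Category.comp_id]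
    rw [this]; infer_instance
  have h2 : ((sg b).obj N).homologyπ b ≫ HomologicalComplex.homologyMap φ b =
      HomologicalComplex.cyclesMap φ b ≫ K.homologyπ b := by simp
  haveI : Epi (((sg b).obj N).homologyπ b ≫ HomologicalComplex.homologyMap φ b) := by
    rw [h2]; infer_instance
  exact epi_of_epi (((sg b).obj N).homologyπ b) _

/-- if a quasi-isomorphism `s : L ⟶ (sg b).obj M` has a source which is strictly `≤ b`, then
its component in degree `b` is an epimorphism. -/
lemma epi_f_of_quasiIso {M : A} (L : CochainComplex A ℤ) (b : ℤ) [L.IsStrictlyLE b]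
    (s : L ⟶ (sg b).obj M) [QuasiIso s] : Epi (s.f b) := by
  have hL : L.d b (b + 1) = 0 := (L.isZero_of_isStrictlyLE b (b + 1)).eq_of_tgt _ _
  have hS : ((sg b).obj M).d b (b + 1) = 0 := by simp
  have hS' : ((sg b).obj M).d (b - 1) b = 0 := by simp
  haveI := L.isIso_iCycles b (b + 1) (by simp) hL
  haveI := ((sg b).obj M).isIso_iCycles b (b + 1) (by simp) hS
  haveI := ((sg b).obj M).isIso_homologyπ (b - 1) b (by simp) hS'
  have h2 : L.homologyπ b ≫ HomologicalComplex.homologyMap s b =
      HomologicalComplex.cyclesMap s b ≫ ((sg b).obj M).homologyπ b := by simp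
  haveI : Epi (HomologicalComplex.cyclesMap s b ≫ ((sg b).obj M).homologyπ b) := by
    rw [← h2]; infer_instance
  haveI : Epi (HomologicalComplex.cyclesMap s b) := by
    have : HomologicalComplex.cyclesMap s b =
      (HomologicalComplex.cyclesMap s b ≫ ((sg b).obj M).homologyπ b) ≫
        inv (((sg b).obj M).homologyπ b) := by
      rw [Category.assoc, IsIso.hom_inv_id, Category.comp_id]
    rw [this]; infer_instance
  have h1 : HomologicalComplex.cyclesMap s b ≫ ((sg b).obj M).iCycles b =
      L.iCycles b ≫ s.f b := by simp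
  haveI : Epi (L.iCycles b ≫ s.f b) := by
    rw [← h1]; infer_instance
  exact epi_of_epi (L.iCycles b) _

end Groth.Agent.Lib.Helper17.Sib
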