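import Groth.Agent.Lib.Helper17K0Perf5
import Groth.Agent.Lib.Helper17Sib1
import Mathlib.Algebra.Homology.DerivedCategory.ShortExact

/-!
# `K₀(R) ≃ K₀(D_perf(R))` (helper17)
-/

set_option autoImplicit false

universe u

open CategoryTheory CategoryTheory.Limits CategoryTheory.Pretriangulated ZeroObject

attribute [local instance] HasDerivedCategory.standard

namespace Groth.Agent.Lib.Helper17.K0Perf

open KZero Groth.Agent.Lib.Helper17.K0a Groth.Agent.Lib.Helper17.K0b
  Groth.Agent.Lib.Helper17.K0d CochainComplex DerivedCategory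

variable {R : Type u} [CommRing R]

lemma clTr_single_succ (M : ModuleCat.{u} R) (hM : PP R M) (j : ℤ) :
    clTr (Perf R) ((DerivedCategory.singleFunctor (ModuleCat.{u} R) (j + 1)).obj M) =
      - clTr (Perf R) ((DerivedCategory.singleFunctor (ModuleCat.{u} R) j).obj M) := by
  have e : ((DerivedCategory.singleFunctor (ModuleCat.{u} R) (j + 1)).obj M)⟦(1 : ℤ)⟧ ≅
      (DerivedCategory.singleFunctor (ModuleCat.{u} R) j).obj M :=
    ((DerivedCategory.singleFunctors (ModuleCat.{u} R)).shiftIso 1 j (j + 1) (by omega)).app M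
  have h1 := perf_single M hM (j + 1)
  have h0 := perf_single M hM j
  have h2 : Perf R (((DerivedCategory.singleFunctor (ModuleCat.{u} R) (j + 1)).obj M)⟦(1 : ℤ)⟧) :=
    (Perf R).prop_of_iso e.symm h0
  rw [← clTr_of_iso (Perf R) e h2, clTr_shift_one (Perf R) _ h1 h2, neg_neg]

lemma clTr_single (M : ModuleCat.{u} R) (hM : PP R M) (j : ℤ) :
    clTr (Perf R) ((DerivedCategory.singleFunctor (ModuleCat.{u} R) j).obj M) =
      (j.negOnePow : ℤ) • clTr (Perf R) ((DerivedCategory.singleFunctor (ModuleCat.{u} R) 0).obj M) := by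
  induction j using Int.induction_on with
  | zero => simp
  | succ i ih =>
    rw [clTr_single_succ M hM, ih, Int.negOnePow_succ]
    simp
  | pred i ih =>
    have h := clTr_single_succ M hM (-(i : ℤ) - 1)
    rw [sub_add_cancel] at h
    rw [← neg_eq_iff_eq_neg] at h
    rw [← h, ih, Int.negOnePow_sub]
    simp

/-- the class of the image of a complex is given by the Euler characteristic. -/
def Good (E : DRing.Cx R) : Prop := clTr (Perf R) (DRing.toD E) = phi (chiF E)

lemma good_sgl (M : ModuleCat.{u} R) (hM : PP R M) (j : ℤ) : Good (sgl M j) := by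
  unfold Good
  rw [clTr_of_iso (Perf R) (toDSglIso M j)
    ⟨sgl M j, j, j, sgl_vanishesOutside M j, sgl_tfp M hM j, ⟨Iso.refl _⟩⟩,
    clTr_single M hM j, chiF_sgl M hM j, map_zsmul, phi_clSub M hM]

lemma good_of_shortExact (S : ShortComplex (DRing.Cx R)) (hS : S.ShortExact) (a b : ℤ)
    (h₁ : DRing.VanishesOutside S.X₁ a b) (h₂ : DRing.VanishesOutside S.X₂ a b)
    (h₃ : DRing.VanishesOutside S.X₃ a b) (p₁ : DRing.TermwiseFiniteProjective S.X₁)
    (p₂ : DRing.TermwiseFiniteProjective S.X₂) (p₃ : DRing.TermwiseFiniteProjective S.X₃)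
    (g₁ : Good S.X₁) (g₃ : Good S.X₃) : Good S.X₂ := by
  unfold Good at *
  have hT := clTr_distTriang (Perf R) _ (triangleOfSES_distinguished hS)
    ⟨S.X₁, a, b, h₁, p₁, ⟨Iso.refl _⟩⟩ ⟨S.X₂, a, b, h₂, p₂, ⟨Iso.refl _⟩⟩
    ⟨S.X₃, a, b, h₃, p₃, ⟨Iso.refl _⟩⟩
  have hT' : clTr (Perf R) (DRing.toD S.X₂) =
      clTr (Perf R) (DRing.toD S.X₁) + clTr (Perf R) (DRing.toD S.X₃) := hT
  rw [hT', g₁, g₃, ← map_add]
  congr 1
  symm
  refine chiF_add _ _ _ a b h₁ h₃ (fun i => ?_)
  exact clSub_shortExact (PP R) _ (hS.map_of_exact (HomologicalComplex.eval _ _ i))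
    (p₁ i) (p₂ i) (p₃ i)

lemma good_of_isZero (E : DRing.Cx R) (hz : ∀ i, IsZero (E.X i)) : Good E := by
  have hE0 : IsZero E := by
    rw [IsZero.iff_id_eq_zero]
    refine HomologicalComplex.hom_ext _ _ (fun i => ?_)
    exact (hz i).eq_of_src _ _
  unfold Good
  rw [clTr_of_isZero (Perf R) (Functor.map_isZero Q hE0)]
  have : chiF E = 0 := by
    unfold chiF
    simp [clSub_of_isZero (PP R) (hz _)]
  rw [this, map_zero]

lemma isStrictlyLE_of_vanishesOutside (E : DRing.Cx R) (a b : ℤ)
    (hE : DRing.VanishesOutside E a b) : E.IsStrictlyLE b := by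
  rw [CochainComplex.isStrictlyLE_iff]
  intro i hi
  exact hE i (Or.inr hi)

section Top

variable (E : DRing.Cx R) (b : ℤ) [E.IsStrictlyLE b]

instance mono_topι : Mono (Sib.topι E b) := by
  apply HomologicalComplex.mono_of_mono_f
  intro i
  by_cases hi : i = b
  · subst hi
    rw [Sib.topι_f]
    infer_instance
  · constructor
    intro Z g h _
    exact (HomologicalComplex.isZero_single_obj_X _ b (E.X b) i hi).eq_of_tgt _ _

/-- the short exact sequence `E^b[-b] → E → σ_{<b} E`. -/
noncomputable def topSC : ShortComplex (DRing.Cx R) :=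
  ShortComplex.mk (Sib.topι E b) (cokernel.π _) (cokernel.condition _)

lemma topSC_shortExact : (topSC E b).ShortExact where
  exact := ShortComplex.exact_of_g_is_cokernel _ (cokernelIsCokernel _)
  mono_f := mono_topι E b
  epi_g := by dsimp [topSC]; infer_instance

lemma topSC_eval_shortExact (i : ℤ) :
    ((topSC E b).map (HomologicalComplex.eval _ _ i)).ShortExact :=
  (topSC_shortExact E b).map_of_exact (HomologicalComplex.eval _ _ i)

lemma isZero_topSC_X₃_top : IsZero ((topSC E b).X₃.X b) := by
  have hS := topSC_eval_shortExact E b b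
  haveI : Epi ((topSC E b).map (HomologicalComplex.eval _ _ b)).f := by
    change Epi ((Sib.topι E b).f b)
    rw [Sib.topι_f]
    infer_instance
  have hg := hS.exact.epi_f_iff.1 inferInstance
  exact @IsZero.of_epi_eq_zero _ _ _ _ _ _ hS.epi_g hg

/-- away from the top degree, the quotient has the same terms. -/
noncomputable def topSCIso (i : ℤ) (hi : i ≠ b) : E.X i ≅ (topSC E b).X₃.X i := by
  have hS := topSC_eval_shortExact E b i
  have hf : ((topSC E b).map (HomologicalComplex.eval _ _ i)).f = 0 :=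
    (HomologicalComplex.isZero_single_obj_X (ComplexShape.up ℤ) b (E.X b) i hi).eq_of_src
      ((topSC E b).map (HomologicalComplex.eval _ _ i)).f 0
  haveI := hS.exact.mono_g_iff.2 hf
  haveI := hS.epi_g
  have hiso : IsIso ((topSC E b).map (HomologicalComplex.eval _ _ i)).g :=
    isIso_of_mono_of_epi _
  exact @asIso _ _ _ _ ((topSC E b).map (HomologicalComplex.eval _ _ i)).g hiso

lemma topSC_X₃_vanishesOutside (a : ℤ) (hE : DRing.VanishesOutside E a b) :
    DRing.VanishesOutside (topSC E b).X₃ a (b - 1) := by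
  intro i hi
  by_cases hib : i = b
  · subst hib
    exact isZero_topSC_X₃_top E i
  · exact IsZero.of_iso (hE i (by omega)) (topSCIso E b i hib).symm

lemma topSC_X₃_tfp (hP : DRing.TermwiseFiniteProjective E) :
    DRing.TermwiseFiniteProjective (topSC E b).X₃ := by
  intro i
  by_cases hib : i = b
  · subst hib
    exact pp_of_isZero (isZero_topSC_X₃_top E i)
  · exact (PP R).prop_of_iso (topSCIso E b i hib) (hP i)

end Top

theorem good_of_bdd (n : ℕ) : ∀ (E : DRing.Cx R) (a b : ℤ), b - a + 1 ≤ n →
    DRing.VanishesOutside E a b → DRing.TermwiseFiniteProjective E → Good E := by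
  induction n with
  | zero =>
    intro E a b hab hE hP
    exact good_of_isZero E (fun i => hE i (by omega))
  | succ n ih =>
    intro E a b hab hE hP
    by_cases hab' : b < a
    · exact good_of_isZero E (fun i => hE i (by omega))
    · haveI := isStrictlyLE_of_vanishesOutside E a b hE
      have h₃ := topSC_X₃_vanishesOutside E b a hE
      have p₃ := topSC_X₃_tfp E b hP
      refine good_of_shortExact (topSC E b) (topSC_shortExact E b) a b
        (fun i hi => sgl_vanishesOutside (E.X b) b i (by omega)) hE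
        (fun i hi => h₃ i (by omega)) (sgl_tfp _ (hP b) b) hP p₃
        (good_sgl _ (hP b) b) (ih _ a (b - 1) (by omega) h₃ p₃)

theorem good (E : DRing.Cx R) (a b : ℤ) (hE : DRing.VanishesOutside E a b)
    (hP : DRing.TermwiseFiniteProjective E) : Good E :=
  good_of_bdd (b - a + 1).toNat E a b (by omega) hE hP

theorem phi_psi (x : K0tr (Perf R)) : phi (psi x) = x := by
  induction x using QuotientAddGroup.induction_on with
  | H z =>
    induction z using FreeAbelianGroup.induction_on with
    | zero => simp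
    | of X =>
      have h1 : ((FreeAbelianGroup.of X : FreeAbelianGroup (Subtype (Perf R))) : K0tr (Perf R)) =
          clTr (Perf R) X.1 := (clTr_of_prop (Perf R) X.2).symm
      obtain ⟨E, a, b, hE, hP, ⟨e⟩⟩ := X.2
      rw [h1, psi_clTr _ X.2, psi0_eq _ _ E a b hE hP e, ← good E a b hE hP]
      exact clTr_of_iso (Perf R) e ⟨E, a, b, hE, hP, ⟨Iso.refl _⟩⟩
    | neg X ih =>
      rw [QuotientAddGroup.mk_neg, map_neg, map_neg, ih]
    | add x y hx hy =>
      rw [QuotientAddGroup.mk_add, map_add, map_add, hx, hy]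

/-- the isomorphism `K₀(R) ≃ K₀(D_perf(R))`. -/
noncomputable def equiv : K0sub (PP R) ≃+ K0tr (Perf R) :=
  { phi with
    invFun := psi
    left_inv := psi_phi
    right_inv := phi_psi }

end Groth.Agent.Lib.Helper17.K0Perf
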