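import Mathlib
import Groth.Agent.Lib.Helper17K0Perf6

/-!
# Induction principle for perfect complexes over a ring (helper10)

`perfect_induction`: a property of objects of `D(R)` which is invariant under isomorphisms, holds
for zero objects and for finite projective modules placed in any single degree, and holds for the
middle vertex of a distinguished triangle as soon as it holds for the two others, holds for all
perfect complexes (`DRing.IsPerfect`).  Built on helper17's `topSC` (brutal truncation sequence).
-/

set_option autoImplicit false
universe u
open CategoryTheory CategoryTheory.Limits CategoryTheory.Pretriangulated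
attribute [local instance] HasDerivedCategory.standard

namespace Groth.Agent.Lib.Helper10.DTenC

open Groth.Agent.Lib.Helper17.K0Perf DerivedCategory

variable {R : Type u} [CommRing R]

theorem perfect_induction (Pr : Dual.D R → Prop)
    (h_iso : ∀ {X Y : Dual.D R}, (X ≅ Y) → Pr X → Pr Y)
    (h_zero : ∀ X : Dual.D R, IsZero X → Pr X)
    (h_sgl : ∀ (M : ModuleCat.{u} R), Module.Finite R M → Module.Projective R M → ∀ j : ℤ,
      Pr ((DerivedCategory.singleFunctor (ModuleCat.{u} R) j).obj M))
    (h_tri : ∀ T ∈ distTriang (Dual.D R), Pr T.obj₁ → Pr T.obj₃ → Pr T.obj₂) :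
    ∀ K : Dual.D R, DRing.IsPerfect R K → Pr K := by
  have hzeroCx : ∀ E : DRing.Cx R, (∀ i, IsZero (E.X i)) → Pr (DRing.toD E) := by
    intro E hz
    have hE0 : IsZero E := by
      rw [IsZero.iff_id_eq_zero]
      refine HomologicalComplex.hom_ext _ _ (fun i => ?_)
      exact (hz i).eq_of_src _ _
    exact h_zero _ (Functor.map_isZero Q hE0)
  have main : ∀ (n : ℕ) (E : DRing.Cx R) (a b : ℤ), b - a + 1 ≤ n →
      DRing.VanishesOutside E a b → DRing.TermwiseFiniteProjective E → Pr (DRing.toD E) := by
    intro n
    induction n with
    | zero =>
      intro E a b hab hE hP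
      exact hzeroCx E (fun i => hE i (by omega))
    | succ n ih =>
      intro E a b hab hE hP
      by_cases hab' : b < a
      · exact hzeroCx E (fun i => hE i (by omega))
      · haveI := isStrictlyLE_of_vanishesOutside E a b hE
        have h₃ := topSC_X₃_vanishesOutside E b a hE
        have p₃ := topSC_X₃_tfp E b hP
        have hS := topSC_shortExact E b
        have hT := triangleOfSES_distinguished hS
        refine h_tri _ hT ?_ ?_
        · exact h_iso (toDSglIso (E.X b) b).symm (h_sgl _ (hP b).1 (hP b).2 b)
        · exact ih _ a (b - 1) (by omega) h₃ p₃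
  rintro K ⟨E, a, b, hE, hP, ⟨e⟩⟩
  exact h_iso e (main (b - a + 1).toNat E a b (by omega) hE hP)

end Groth.Agent.Lib.Helper10.DTenC
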