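import Mathlib
import Groth.Agent.Lib.Helper10DTenB
import Groth.Agent.Lib.Helper10DTenC
set_option backward.isDefEq.respectTransparency.types false

/-!
# `K ⊗^L RHom(M, L) ⟶ RHom(M, K ⊗^L L)` is an isomorphism for perfect `K` (helper10)
-/

set_option autoImplicit false
universe u
open CategoryTheory CategoryTheory.Limits MonoidalCategory CategoryTheory.Pretriangulated
attribute [local instance] HasDerivedCategory.standard

namespace Groth.Agent.Lib.Helper10.DTenD

open DerivedCategory Groth.Agent.Lib.Helper1.KF Groth.Agent.Lib.Helper1.DT DTen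
  Groth.Agent.Lib.Helper10.DTenA Groth.Agent.Lib.Helper10.DTenB Groth.Agent.Lib.Helper10.DTenC
  CochainComplex

variable {A : Type u} [CommRing A] [HasLTen A]

set_option quotPrecheck false in
local notation "⟪" f ", " g "⟫" => CategoryTheory.Functor.map (LTen₂ A) (Prod.mkHom f g)

section Invertible

variable [HasLTen₃ A] [IsSymMonoidal A]

/-- `U' ⊗ (U ⊗ X) ≅ X` naturally, given `U' ⊗ U ≅ A[0]` -/
noncomputable def cancelIso (U U' : Dual.D A) (u : (LTen₂ A).obj (U', U) ≅ unit A) :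
    (LTen A).obj U ⋙ (LTen A).obj U' ≅ 𝟭 (Dual.D A) :=
  NatIso.ofComponents
    (fun X => (associator U' U X).symm ≪≫ (LTen₂ A).mapIso (Iso.prod u (Iso.refl X)) ≪≫
      leftUnitor X)
    (by
      intro X Y g
      have h1 : ⟪𝟙 U', ⟪𝟙 U, g⟫⟫ ≫ (associator U' U Y).inv =
          (associator U' U X).inv ≫ ⟪𝟙 _, g⟫ := by
        rw [Iso.comp_inv_eq, Category.assoc, Iso.eq_inv_comp, ← DTenB.associator_naturality, tm_id]
      have h2 := (unitL A).naturality g
      dsimp at h2 ⊢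
      change ⟪𝟙 U', ⟪𝟙 U, g⟫⟫ ≫ (associator U' U Y).inv ≫ ⟪u.hom, 𝟙 Y⟫ ≫ (unitL A).app Y =
        ((associator U' U X).inv ≫ ⟪u.hom, 𝟙 X⟫ ≫ (unitL A).app X) ≫ g
      rw [reassoc_of% h1, ← tm_comp_assoc, Category.id_comp, Category.comp_id]
      simp only [Category.assoc]
      rw [← h2]
      change _ = _ ≫ _ ≫ ⟪𝟙 (unit A), g⟫ ≫ _
      rw [← tm_comp_assoc, Category.id_comp, Category.comp_id])

/-- `U ⊗^L -` is an equivalence when `U` is invertible -/
lemma isEquivalence_of_invertible (U U' : Dual.D A) (u : (LTen₂ A).obj (U', U) ≅ unit A)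
    (u' : (LTen₂ A).obj (U, U') ≅ unit A) : ((LTen A).obj U).IsEquivalence :=
  (CategoryTheory.Equivalence.mk ((LTen A).obj U) ((LTen A).obj U') (cancelIso U U' u).symm
    (cancelIso U' U u')).isEquivalence_functor

end Invertible

section UnitShift

omit [HasLTen A] in
lemma kflat_unit : KFlat (𝟙_ (Cx A)) := fun L hL => Acyc.of_iso (ρ_ L).symm hL

/-- `𝟙⟦a⟧ ⊗ 𝟙⟦b⟧ ≅ 𝟙` for `a + b = 0`, at the level of complexes -/
noncomputable def unitShiftTensorCx (a b : ℤ) (h : b + a = 0) :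
    ((𝟙_ (Cx A))⟦a⟧) ⊗ ((𝟙_ (Cx A))⟦b⟧) ≅ 𝟙_ (Cx A) :=
  tensorShiftLeftIso (𝟙_ (Cx A)) ((𝟙_ (Cx A))⟦b⟧) a ≪≫
    (CategoryTheory.shiftFunctor (Cx A) a).mapIso (tensorShiftRightIso (𝟙_ (Cx A)) (𝟙_ (Cx A)) b ≪≫
      (CategoryTheory.shiftFunctor (Cx A) b).mapIso (λ_ (𝟙_ (Cx A)))) ≪≫
    ((CategoryTheory.shiftFunctorAdd' (Cx A) b a 0 h).app (𝟙_ (Cx A))).symm ≪≫
    (CategoryTheory.shiftFunctorZero (Cx A) ℤ).app (𝟙_ (Cx A))

/-- `A[0]⟦a⟧ ⊗^L A[0]⟦b⟧ ≅ A[0]` for `a + b = 0` -/
noncomputable def unitShiftTensor (a b : ℤ) (h : b + a = 0) :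
    (LTen₂ A).obj ((unit A)⟦a⟧, (unit A)⟦b⟧) ≅ unit A :=
  (LTen₂ A).mapIso (Iso.prod ((Q.commShiftIso a).app (𝟙_ (Cx A))).symm
    ((Q.commShiftIso b).app (𝟙_ (Cx A))).symm) ≪≫
  (@asIso _ _ _ _ ((ε A).app ((𝟙_ (Cx A))⟦a⟧, (𝟙_ (Cx A))⟦b⟧))
    (isIso_ε_of_kflat _ _ (Or.inl (kflat_unit.shift a)))) ≪≫
  Q.mapIso (unitShiftTensorCx a b h)

variable [HasLTen₃ A] [IsSymMonoidal A]

lemma isEquivalence_unitShift (a : ℤ) : ((LTen A).obj ((unit A)⟦a⟧)).IsEquivalence :=
  isEquivalence_of_invertible ((unit A)⟦a⟧) ((unit A)⟦-a⟧)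
    (unitShiftTensor (-a) a (by omega)) (unitShiftTensor a (-a) (by omega))

end UnitShift

section Main

variable [HasLTen₃ A] [IsSymMonoidal A] [HasRHom A] (L M : Dual.D A)

instance : (tensorRightD A L ⋙ RHomR A M).PreservesZeroMorphisms :=
  ⟨fun X Y => by rw [Functor.comp_map, Functor.map_zero, Functor.map_zero]⟩

omit [HasLTen₃ A] [IsSymMonoidal A] in
lemma hexact_G : HExact (tensorRightD A L ⋙ RHomR A M) :=
  (hexact_tensorRightD L).comp_rightAdjoint (rhomAdj A M)

lemma good_unit : Good (evalTenNat L M) (unit A) := fun n => by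
  haveI := isEquivalence_unitShift (A := A) n
  exact isIso_evalTen_of_equiv ((unit A)⟦n⟧) L M

lemma good_biprod {X Y : Dual.D A} (hX : Good (evalTenNat L M) X) (hY : Good (evalTenNat L M) Y) :
    Good (evalTenNat L M) (X ⊞ Y) :=
  good_obj₂ (hexact_tensorRightD _) (hexact_G L M) (binaryBiproductTriangle X Y)
    (binaryBiproductTriangle_distinguished X Y) hX hY

/-- `A[0]` as the image of the module `A` under the single functor -/
noncomputable def singleUnitIso :
    (DerivedCategory.singleFunctor (ModuleCat.{u} A) 0).obj (ModuleCat.of A A) ≅ unit A :=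
  (singleFunctorIsoCompQ (ModuleCat.{u} A) 0).app (ModuleCat.of A A)

lemma good_free (r : ℕ) : Good (evalTenNat L M)
    ((DerivedCategory.singleFunctor (ModuleCat.{u} A) 0).obj (ModuleCat.of A (Fin r → A))) := by
  induction r with
  | zero =>
    exact good_of_isZero (Functor.map_isZero _ (ModuleCat.isZero_of_subsingleton _))
  | succ r ih =>
    let e : ModuleCat.of A (Fin (r + 1) → A) ≅ ModuleCat.of A A ⊞ ModuleCat.of A (Fin r → A) :=
      (Fin.consLinearEquiv A (fun _ : Fin (r + 1) => A)).symm.toModuleIso ≪≫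
        (ModuleCat.biprodIsoProd (ModuleCat.of A A) (ModuleCat.of A (Fin r → A))).symm
    haveI : PreservesBinaryBiproducts (DerivedCategory.singleFunctor (ModuleCat.{u} A) 0) :=
      preservesBinaryBiproducts_of_preservesBiproducts _
    refine Good.of_iso (((DerivedCategory.singleFunctor (ModuleCat.{u} A) 0).mapIso e ≪≫
      (DerivedCategory.singleFunctor (ModuleCat.{u} A) 0).mapBiprod _ _).symm) ?_
    exact good_biprod L M ((good_unit L M).of_iso singleUnitIso.symm) ih

lemma good_proj (N : ModuleCat.{u} A) [Module.Finite A N] [Module.Projective A N] :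
    Good (evalTenNat L M) ((DerivedCategory.singleFunctor (ModuleCat.{u} A) 0).obj N) := by
  obtain ⟨n, f, g, -, -, hfg⟩ := Module.Finite.exists_comp_eq_id_of_projective A N
  refine Good.of_retract ((DerivedCategory.singleFunctor (ModuleCat.{u} A) 0).map (ModuleCat.ofHom g))
    ((DerivedCategory.singleFunctor (ModuleCat.{u} A) 0).map (ModuleCat.ofHom f)) ?_ (good_free L M n)
  rw [← Functor.map_comp, ← ModuleCat.ofHom_comp, hfg]
  exact CategoryTheory.Functor.map_id _ _

lemma good_single (N : ModuleCat.{u} A) [Module.Finite A N] [Module.Projective A N] (j : ℤ) :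
    Good (evalTenNat L M) ((DerivedCategory.singleFunctor (ModuleCat.{u} A) j).obj N) :=
  ((good_proj L M N).shift (-j)).of_iso
    (((DerivedCategory.singleFunctors (ModuleCat.{u} A)).shiftIso (-j) j 0 (by omega)).app N)

/-- `K ⊗^L RHom(M, L) ⟶ RHom(M, K ⊗^L L)` is an isomorphism for perfect `K`. -/
theorem isIso_evalTen_of_isPerfect (K : Dual.D A) (hK : DRing.IsPerfect A K) :
    IsIso (evalTen K L M) := by
  have h := perfect_induction (fun K => Good (evalTenNat L M) K) (fun e h => h.of_iso e)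
    (fun X hX => good_of_isZero hX)
    (fun N h1 h2 j => by
      haveI := h1
      haveI := h2
      exact good_single L M N j)
    (fun T hT h1 h3 => good_obj₂ (hexact_tensorRightD _) (hexact_G L M) T hT h1 h3) K hK
  exact isIso_app_of_iso (evalTenNat L M) ((shiftFunctorZero _ ℤ).app K) (h 0)

end Main

end Groth.Agent.Lib.Helper10.DTenD
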