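import Mathlib
import Groth.Agent.Lib.Helper10DTenA
import Groth.Agent.Lib.Helper10DTenC

/-!
# Natural transformations between Hom-exact functors are isomorphisms on perfect complexes
as soon as they are at the shifts of the ring (helper10)

Covariant version `isIso_app_of_isPerfect` and contravariant version
`isIso_app_op_of_isPerfect` (functors out of `D(A)ᵒᵖ`, with Mathlib's pretriangulated structure
on the opposite category).
-/

set_option autoImplicit false
universe v u
open CategoryTheory CategoryTheory.Limits CategoryTheory.Pretriangulated Opposite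
attribute [local instance] HasDerivedCategory.standard

namespace Groth.Agent.Lib.Helper10.PerfInd

open DerivedCategory Groth.Agent.Lib.Helper10.DTenA Groth.Agent.Lib.Helper10.DTenC

variable {A : Type u} [CommRing A] {D : Type*} [Category D] [Preadditive D]

/-- an induction principle for perfect complexes from the ring in all degrees -/
theorem perfect_induction' (Pr : Dual.D A → Prop)
    (h_iso : ∀ {X Y : Dual.D A}, (X ≅ Y) → Pr X → Pr Y)
    (h_zero : ∀ X : Dual.D A, IsZero X → Pr X)
    (h_shift : ∀ (X : Dual.D A) (n : ℤ), Pr X → Pr (X⟦n⟧))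
    (h_retract : ∀ {X Y : Dual.D A} (i : X ⟶ Y) (p : Y ⟶ X), i ≫ p = 𝟙 X → Pr Y → Pr X)
    (h_unit : Pr ((DerivedCategory.singleFunctor (ModuleCat.{u} A) 0).obj (ModuleCat.of A A)))
    (h_tri : ∀ T ∈ distTriang (Dual.D A), Pr T.obj₁ → Pr T.obj₃ → Pr T.obj₂) :
    ∀ K : Dual.D A, DRing.IsPerfect A K → Pr K := by
  have h_biprod : ∀ X Y : Dual.D A, Pr X → Pr Y → Pr (X ⊞ Y) := fun X Y hX hY =>
    h_tri (binaryBiproductTriangle X Y) (binaryBiproductTriangle_distinguished X Y) hX hY
  have h_free : ∀ r : ℕ, Pr ((DerivedCategory.singleFunctor (ModuleCat.{u} A) 0).obj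
      (ModuleCat.of A (Fin r → A))) := by
    intro r
    induction r with
    | zero =>
      exact h_zero _ (Functor.map_isZero _ (ModuleCat.isZero_of_subsingleton _))
    | succ r ih =>
      let e : ModuleCat.of A (Fin (r + 1) → A) ≅ ModuleCat.of A A ⊞ ModuleCat.of A (Fin r → A) :=
        (Fin.consLinearEquiv A (fun _ : Fin (r + 1) => A)).symm.toModuleIso ≪≫
          (ModuleCat.biprodIsoProd (ModuleCat.of A A) (ModuleCat.of A (Fin r → A))).symm
      haveI : PreservesBinaryBiproducts (DerivedCategory.singleFunctor (ModuleCat.{u} A) 0) :=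
        preservesBinaryBiproducts_of_preservesBiproducts _
      refine h_iso (((DerivedCategory.singleFunctor (ModuleCat.{u} A) 0).mapIso e ≪≫
        (DerivedCategory.singleFunctor (ModuleCat.{u} A) 0).mapBiprod _ _).symm) ?_
      exact h_biprod _ _ h_unit ih
  have h_proj : ∀ (N : ModuleCat.{u} A), Module.Finite A N → Module.Projective A N →
      Pr ((DerivedCategory.singleFunctor (ModuleCat.{u} A) 0).obj N) := by
    intro N h1 h2
    obtain ⟨n, f, g, -, -, hfg⟩ := Module.Finite.exists_comp_eq_id_of_projective A N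
    refine h_retract
      ((DerivedCategory.singleFunctor (ModuleCat.{u} A) 0).map (ModuleCat.ofHom g))
      ((DerivedCategory.singleFunctor (ModuleCat.{u} A) 0).map (ModuleCat.ofHom f)) ?_ (h_free n)
    rw [← Functor.map_comp, ← ModuleCat.ofHom_comp, hfg]
    exact CategoryTheory.Functor.map_id _ _
  refine perfect_induction Pr h_iso h_zero ?_ h_tri
  intro N h1 h2 j
  exact h_iso (((DerivedCategory.singleFunctors (ModuleCat.{u} A)).shiftIso (-j) j 0
    (by omega)).app N) (h_shift _ (-j) (h_proj N h1 h2))

/-- covariant version -/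
theorem isIso_app_of_isPerfect {F G : Dual.D A ⥤ D} [F.PreservesZeroMorphisms]
    [G.PreservesZeroMorphisms] (η : F ⟶ G) (hF : HExact F) (hG : HExact G)
    (hunit : ∀ n : ℤ, IsIso (η.app
      (((DerivedCategory.singleFunctor (ModuleCat.{u} A) 0).obj (ModuleCat.of A A))⟦n⟧)))
    (K : Dual.D A) (hK : DRing.IsPerfect A K) : IsIso (η.app K) := by
  have h := perfect_induction' (fun K => Good η K) (fun e h => h.of_iso e)
    (fun X hX => good_of_isZero hX) (fun X n h => h.shift n)
    (fun i p hip h => h.of_retract i p hip) hunit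
    (fun T hT h1 h3 => good_obj₂ hF hG T hT h1 h3) K hK
  exact isIso_app_of_iso η ((shiftFunctorZero _ ℤ).app K) (h 0)

open Pretriangulated.Opposite in
/-- contravariant version -/
theorem isIso_app_op_of_isPerfect {F G : (Dual.D A)ᵒᵖ ⥤ D} [F.PreservesZeroMorphisms]
    [G.PreservesZeroMorphisms] (η : F ⟶ G) (hF : HExact F) (hG : HExact G)
    (hunit : ∀ n : ℤ, IsIso (η.app (op
      (((DerivedCategory.singleFunctor (ModuleCat.{u} A) 0).obj (ModuleCat.of A A))⟦n⟧))))
    (K : Dual.D A) (hK : DRing.IsPerfect A K) : IsIso (η.app (op K)) := by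
  have h := perfect_induction' (fun K => Good η (op K)) (fun e h => h.of_iso e.symm.op)
    (fun X hX => good_of_isZero hX.op)
    (fun X n h => (h.shift (-n)).of_iso ((shiftFunctorOpIso (Dual.D A) (-n) n (by omega)).app (op X)))
    (fun i p hip h => h.of_retract p.op i.op (by rw [← op_comp, hip]; rfl))
    (fun n => hunit (-n))
    (fun T hT h1 h3 => good_obj₂ hF hG _ (op_distinguished T hT) h3 h1) K hK
  exact isIso_app_of_iso η ((shiftFunctorZero _ ℤ).app (op K)) (h 0)

end Groth.Agent.Lib.Helper10.PerfInd
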