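import Mathlib
import Groth.Agent.Lib.Helper10TensHomD
import Groth.Agent.Lib.Helper10PerfInd
import Groth.Agent.Lib.Helper10DTenD
set_option backward.isDefEq.respectTransparency.types false

/-!
# `K ⊗^L RHom(M, L) ⟶ RHom(M, K ⊗^L L)` is an isomorphism for perfect `M` (helper10)
-/

set_option autoImplicit false
universe u
open CategoryTheory CategoryTheory.Limits MonoidalCategory CategoryTheory.Pretriangulated Opposite
attribute [local instance] HasDerivedCategory.standard

namespace Groth.Agent.Lib.Helper10.DTenE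

open DerivedCategory Groth.Agent.Lib.Helper1.KF Groth.Agent.Lib.Helper1.DT DTen
  Groth.Agent.Lib.Helper10.DTenA Groth.Agent.Lib.Helper10.DTenB Groth.Agent.Lib.Helper10.DTenD
  Groth.Agent.Lib.Helper10.DistPair Groth.Agent.Lib.Helper10.TensHomD
  Groth.Agent.Lib.Helper10.PerfInd CochainComplex

variable {A : Type u} [CommRing A] [HasLTen A]

set_option quotPrecheck false in
local notation "⟪" f ", " g "⟫" => CategoryTheory.Functor.map (LTen₂ A) (Prod.mkHom f g)

section Symm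

variable [HasLTen₃ A] [IsSymMonoidal A]

/-- `- ⊗^L K ≅ K ⊗^L -` -/
noncomputable def symmNatIso (K : Dual.D A) : tensorRightD A K ≅ (LTen A).obj K :=
  NatIso.ofComponents (fun L => braiding K L) (by
    intro L L' g
    have h := (symm A).naturality (X := (K, L)) (Y := (K, L')) (Prod.mkHom (𝟙 K) g)
    exact h)

variable [HasRHom A]

instance preservesZeroMorphisms_LTen_obj (K : Dual.D A) :
    ((LTen A).obj K).PreservesZeroMorphisms :=
  Functor.preservesZeroMorphisms_of_iso (symmNatIso K)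

omit [HasRHom A] in
lemma hexact_LTen_obj (K : Dual.D A) : HExact ((LTen A).obj K) :=
  (hexact_tensorRightD K).of_natIso (symmNatIso K)

end Symm

section Closed

variable [HasLTen₃ A] [IsSymMonoidal A] [HasRHom A]

omit [HasLTen₃ A] [IsSymMonoidal A] in
lemma tm_zero_left {X X' : Dual.D A} (Y : Dual.D A) : ⟪(0 : X ⟶ X'), 𝟙 Y⟫ = 0 :=
  (tensorRightD A Y).map_zero X X'

lemma tm_zero_right (X : Dual.D A) {Y Y' : Dual.D A} : ⟪𝟙 X, (0 : Y ⟶ Y')⟫ = 0 :=
  ((LTen A).obj X).map_zero Y Y'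

lemma RHomMap_zero (M M' L : Dual.D A) : RHomMap (0 : M' ⟶ M) L = 0 := by
  apply ((rhomAdj A M').homEquiv _ _).symm.injective
  rw [Adjunction.homEquiv_counit, Adjunction.homEquiv_counit]
  change ⟪RHomMap (0 : M' ⟶ M) L, 𝟙 M'⟫ ≫ ev M' L = ⟪0, 𝟙 M'⟫ ≫ ev M' L
  rw [RHom_map_ev, tm_zero_left, tm_zero_right, zero_comp, zero_comp]

instance preservesZeroMorphisms_RHom_flip (L : Dual.D A) :
    ((RHom A).flip.obj L).PreservesZeroMorphisms :=
  ⟨fun X Y => RHomMap_zero X.unop Y.unop L⟩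

/-- `evalTen` is natural in the third variable -/
lemma evalTen_naturality_right (K L : Dual.D A) {M M' : Dual.D A} (g : M' ⟶ M) :
    ⟪𝟙 K, RHomMap g L⟫ ≫ evalTen K L M' =
      evalTen K L M ≫ RHomMap g ((LTen₂ A).obj (K, L)) := by
  apply ((rhomAdj A M').homEquiv _ _).symm.injective
  rw [Adjunction.homEquiv_counit, Adjunction.homEquiv_counit]
  change ⟪⟪𝟙 K, RHomMap g L⟫ ≫ evalTen K L M', 𝟙 M'⟫ ≫ ev M' ((LTen₂ A).obj (K, L)) =
    ⟪evalTen K L M ≫ RHomMap g ((LTen₂ A).obj (K, L)), 𝟙 M'⟫ ≫ ev M' ((LTen₂ A).obj (K, L))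
  have e1 : ⟪⟪𝟙 K, RHomMap g L⟫ ≫ evalTen K L M', 𝟙 M'⟫ =
      ⟪⟪𝟙 K, RHomMap g L⟫, 𝟙 M'⟫ ≫ ⟪evalTen K L M', 𝟙 M'⟫ := by
    rw [← tm_comp, Category.comp_id]
  have e2 : ⟪evalTen K L M ≫ RHomMap g ((LTen₂ A).obj (K, L)), 𝟙 M'⟫ =
      ⟪evalTen K L M, 𝟙 M'⟫ ≫ ⟪RHomMap g ((LTen₂ A).obj (K, L)), 𝟙 M'⟫ := by
    rw [← tm_comp, Category.comp_id]
  rw [e1, e2, Category.assoc, Category.assoc, evalTen_fac, RHom_map_ev]
  have e3 : ⟪evalTen K L M, 𝟙 M'⟫ ≫ ⟪𝟙 _, g⟫ = ⟪𝟙 _, g⟫ ≫ ⟪evalTen K L M, 𝟙 M⟫ := by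
    rw [← tm_comp, ← tm_comp, Category.id_comp, Category.comp_id, Category.id_comp,
      Category.comp_id]
  rw [reassoc_of% e3, evalTen_fac]
  unfold evalTenAux
  rw [← Category.assoc, DTenB.associator_naturality, Category.assoc, ← tm_comp, RHom_map_ev,
    Category.id_comp]
  have e4 : ⟪𝟙 ((LTen₂ A).obj (K, (RHomR A M).obj L)), g⟫ = ⟪⟪𝟙 K, 𝟙 _⟫, g⟫ := by
    rw [tm_id]
  rw [e4, ← Category.assoc, DTenB.associator_naturality, Category.assoc, ← tm_comp,
    Category.id_comp]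

/-- `evalTen` as a natural transformation of contravariant functors of the third variable -/
noncomputable def evalTenNatM (K L : Dual.D A) :
    (RHom A).flip.obj L ⋙ (LTen A).obj K ⟶ (RHom A).flip.obj ((LTen₂ A).obj (K, L)) where
  app M := evalTen K L M.unop
  naturality _ _ g := evalTen_naturality_right K L g.unop

@[simp] lemma evalTenNatM_app (K L M : Dual.D A) : (evalTenNatM K L).app (op M) = evalTen K L M :=
  rfl

/-- if `- ⊗^L M` is an equivalence, then `evalTen K L M` is an isomorphism -/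
theorem isIso_evalTen_of_equivRight (K L M : Dual.D A) [(tensorRightD A M).IsEquivalence] :
    IsIso (evalTen K L M) := by
  haveI : (RHomR A M).IsEquivalence := (rhomAdj A M).isEquivalence_right_of_isEquivalence_left
  haveI : IsIso (ev M L) := inferInstanceAs (IsIso ((rhomAdj A M).counit.app L))
  haveI : IsIso (⟪𝟙 K, ev M L⟫) :=
    inferInstanceAs (IsIso (((LTen A).obj K).map (ev M L)))
  haveI : IsIso (evalTenAux K L M) := by
    unfold evalTenAux
    infer_instance
  change IsIso ((rhomAdj A M).homEquiv _ _ (evalTenAux K L M))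
  rw [Adjunction.homEquiv_unit]
  infer_instance

omit [HasRHom A] in
lemma isEquivalence_tensorRightD_unitShift (a : ℤ) :
    (tensorRightD A ((unit A)⟦a⟧)).IsEquivalence := by
  haveI := isEquivalence_unitShift (A := A) a
  exact Functor.isEquivalence_of_iso (symmNatIso ((unit A)⟦a⟧)).symm

/-- **`K ⊗^L RHom(M, L) ⟶ RHom(M, K ⊗^L L)` is an isomorphism for perfect `M`.** -/
theorem isIso_evalTen_of_isPerfect_right (K L M : Dual.D A) (hM : DRing.IsPerfect A M) :
    IsIso (evalTen K L M) := by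
  have h := isIso_app_op_of_isPerfect (evalTenNatM K L)
    ((hdistOp_RHom L).comp_hexact (hexact_LTen_obj K)) (hdistOp_RHom _).hexact ?_ M hM
  · exact h
  · intro n
    haveI := isEquivalence_tensorRightD_unitShift (A := A) n
    rw [evalTenNatM_app]
    exact isIso_app_of_iso (F := (RHom A).flip.obj L ⋙ (LTen A).obj K) (evalTenNatM K L)
      (((CategoryTheory.shiftFunctor (Dual.D A) n).mapIso singleUnitIso).symm.op).symm
      (isIso_evalTen_of_equivRight K L ((unit A)⟦n⟧))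

end Closed

end Groth.Agent.Lib.Helper10.DTenE
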