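import Mathlib
import Groth.Agent.Lib.Helper10TensHomD
import Groth.Agent.Lib.Helper10DTenE
import Groth.Agent.Lib.Helper10UnitHom
import Groth.Agent.Lib.Helper1ProjRes
import Groth.Agent.Lib.Helper17KInjD1
set_option backward.isDefEq.respectTransparency.types false

/-!
# Amplitude bounds for `⊗^L` and `RHom` on `D(A)` (helper10)
-/

set_option autoImplicit false
universe u
open CategoryTheory CategoryTheory.Limits MonoidalCategory CategoryTheory.Pretriangulated Opposite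
attribute [local instance] HasDerivedCategory.standard

namespace Groth.Agent.Lib.Helper10.Amp

open DerivedCategory Groth.Agent.Lib.Helper1.KF Groth.Agent.Lib.Helper1.DT DTen
  Groth.Agent.Lib.Helper10.DTenB Groth.Agent.Lib.Helper10.DTenD
  Groth.Agent.Lib.Helper10.TensHomD Groth.Agent.Lib.Helper10.DTenE
  Groth.Agent.Lib.Helper10.UnitHom CochainComplex HomologicalComplex

variable {A : Type u} [CommRing A]

set_option quotPrecheck false in
local notation "⟪" f ", " g "⟫" => CategoryTheory.Functor.map (LTen₂ A) (Prod.mkHom f g)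

section Tensor

/-- the tensor product of complexes bounded above by `r` and `c` is bounded above by `r + c` -/
lemma tensor_isStrictlyLE (P P' : Cx A) (r c : ℤ) [P.IsStrictlyLE r] [P'.IsStrictlyLE c] :
    (P ⊗ P').IsStrictlyLE (r + c) := by
  rw [CochainComplex.isStrictlyLE_iff]
  intro m hm
  rw [IsZero.iff_id_eq_zero]
  apply tensor_hom_ext
  intro p q hpq
  have hz : IsZero (P.X p ⊗ P'.X q) := by
    by_cases hp : r < p
    · exact (tensorRight (P'.X q)).map_isZero (P.isZero_of_isStrictlyLE r p hp)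
    · exact (tensorLeft (P.X p)).map_isZero (P'.isZero_of_isStrictlyLE c q (by omega))
  exact hz.eq_of_src _ _

variable [HasLTen A]

/-- `⊗^L` of objects of `D^{≤ r}` and `D^{≤ c}` lies in `D^{≤ r + c}` -/
lemma isLE_LTen (R C : Dual.D A) (r c : ℤ) [R.IsLE r] [C.IsLE c] :
    ((LTen₂ A).obj (R, C)).IsLE (r + c) := by
  obtain ⟨P, hP, hPp, ⟨eR⟩⟩ := Groth.Agent.Lib.Helper1.ProjRes.exists_iso_Q_proj R r
  obtain ⟨P', hP', hPp', ⟨eC⟩⟩ := Groth.Agent.Lib.Helper1.ProjRes.exists_iso_Q_proj C c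
  haveI : P.IsKProjective := CochainComplex.isKProjective_of_projective P r
  haveI : P'.IsKProjective := CochainComplex.isKProjective_of_projective P' c
  haveI := isIso_ε_of_isKProjective (A := A) P P'
  haveI := tensor_isStrictlyLE P P' r c
  let e : (LTen₂ A).obj (R, C) ≅ Q.obj (P ⊗ P') :=
    (LTen₂ A).mapIso (Iso.prod eR.symm eC.symm) ≪≫ asIso ((ε A).app (P, P'))
  exact TStructure.t.isLE_of_iso e.symm (r + c)

end Tensor

section UnitShift

variable [HasLTen A]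

/-- `A[0]⟦a⟧ ⊗^L Y ≅ Y⟦a⟧` -/
noncomputable def unitShiftTensorIso (a : ℤ) (Y : Dual.D A) :
    (LTen₂ A).obj ((unit A)⟦a⟧, Y) ≅ Y⟦a⟧ :=
  (LTen₂ A).mapIso (Iso.prod ((Q.commShiftIso a).app (𝟙_ (Cx A))).symm
    (Q.objObjPreimageIso Y).symm) ≪≫
  (@asIso _ _ _ _ ((ε A).app ((𝟙_ (Cx A))⟦a⟧, Q.objPreimage Y))
    (isIso_ε_of_kflat _ _ (Or.inl (kflat_unit.shift a)))) ≪≫
  Q.mapIso (tensorShiftLeftIso (𝟙_ (Cx A)) (Q.objPreimage Y) a ≪≫
    (CategoryTheory.shiftFunctor (Cx A) a).mapIso (λ_ (Q.objPreimage Y))) ≪≫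
  (Q.commShiftIso a).app (Q.objPreimage Y) ≪≫
  (CategoryTheory.shiftFunctor (Dual.D A) a).mapIso (Q.objObjPreimageIso Y)

/-- `A[-i] ≅ A[0]⟦-i⟧` -/
noncomputable def UIsoUnitShift (i : ℤ) : U A i ≅ (unit A)⟦-i⟧ :=
  (((DerivedCategory.singleFunctors (ModuleCat.{u} A)).shiftIso (-i) i 0 (by omega)).app
    (ModuleCat.of A A)).symm ≪≫
  (CategoryTheory.shiftFunctor (Dual.D A) (-i)).mapIso singleUnitIso

/-- `A[-i] ⊗^L Y ≅ Y⟦-i⟧` -/
noncomputable def UTensorIso (i : ℤ) (Y : Dual.D A) : (LTen₂ A).obj (U A i, Y) ≅ Y⟦-i⟧ :=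
  (LTen₂ A).mapIso (Iso.prod (UIsoUnitShift i) (Iso.refl Y)) ≪≫ unitShiftTensorIso (-i) Y

end UnitShift

section Inj

/-- maps from `D^{≥ b+1}` to a K-injective complex concentrated in degrees `≤ b` vanish -/
lemma hom_eq_zero_of_isGE_of_strictlyLE (Y : Dual.D A) (b : ℤ) [Y.IsGE (b + 1)] (I : Cx A)
    [I.IsKInjective] [I.IsStrictlyLE b] (φ : Y ⟶ Q.obj I) : φ = 0 := by
  obtain ⟨Y', hY', ⟨e⟩⟩ := Y.exists_iso_Q_obj_of_isGE (b + 1)
  obtain ⟨g, hg⟩ := Groth.Agent.Lib.Helper17.KInj.exists_Q_map_eq (e.inv ≫ φ)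
  have hg0 : g = 0 := by
    refine HomologicalComplex.hom_ext _ _ (fun j => ?_)
    by_cases hj : b < j
    · exact (I.isZero_of_isStrictlyLE b j hj).eq_of_tgt _ _
    · exact (Y'.isZero_of_isStrictlyGE (b + 1) j (by omega)).eq_of_src _ _
  rw [hg0, Functor.map_zero] at hg
  rw [← cancel_epi e.inv, ← hg, comp_zero]

/-- maps from `D^{≥ b+1}` to an object of injective amplitude `[a, b]` vanish -/
lemma hom_eq_zero_of_isGE_of_injAmp (Y M : Dual.D A) (a b : ℤ)
    (hM : DRing.HasInjAmplitudeIn A a b M) [Y.IsGE (b + 1)] (φ : Y ⟶ M) : φ = 0 := by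
  obtain ⟨E, hE, hinj, ⟨e⟩⟩ := hM
  haveI : E.IsStrictlyGE a := by
    rw [CochainComplex.isStrictlyGE_iff]
    exact fun i hi => hE i (Or.inl hi)
  haveI : E.IsStrictlyLE b := by
    rw [CochainComplex.isStrictlyLE_iff]
    exact fun i hi => hE i (Or.inr hi)
  haveI : ∀ n, Injective (E.X n) := fun n => by
    haveI := hinj n
    exact Module.injective_object_of_injective_module A (E.X n)
  haveI : E.IsKInjective := CochainComplex.isKInjective_of_injective E a
  rw [← cancel_mono e.inv, zero_comp]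
  exact hom_eq_zero_of_isGE_of_strictlyLE Y b E _

end Inj

section RHomBounds

variable [HasLTen A] [HasRHom A]

/-- `RHom(C, L) ∈ D^{≥ n - c}` for `C ∈ D^{≤ c}`, `L ∈ D^{≥ n}` -/
lemma isGE_RHom (C L : Dual.D A) (c n : ℤ) [C.IsLE c] [L.IsGE n] :
    ((RHomR A C).obj L).IsGE (n - c) := by
  obtain ⟨P, hP, hPp, ⟨eC⟩⟩ := Groth.Agent.Lib.Helper1.ProjRes.exists_iso_Q_proj C c
  obtain ⟨L', hL', ⟨eL⟩⟩ := L.exists_iso_Q_obj_of_isGE n
  haveI : P.IsKProjective := CochainComplex.isKProjective_of_projective P c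
  let e : (RHomR A C).obj L ≅ Q.obj (DRing.homCx P L') :=
    ((RHom A).mapIso eC.op).app L ≪≫ (RHomR A (Q.obj P)).mapIso eL ≪≫ (θ P L').symm
  haveI : (DRing.homCx P L').IsStrictlyGE (n - c) := by
    rw [CochainComplex.isStrictlyGE_iff]
    intro j hj
    haveI : Subsingleton (CochainComplex.HomComplex.Cochain P L' j) := by
      refine ⟨fun z z' => CochainComplex.HomComplex.Cochain.ext _ _ (fun p q hpq => ?_)⟩
      by_cases hp : c < p
      · exact (P.isZero_of_isStrictlyLE c p hp).eq_of_src _ _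
      · exact (L'.isZero_of_isStrictlyGE n q (by omega)).eq_of_tgt _ _
    exact ModuleCat.isZero_of_subsingleton (ModuleCat.of A (CochainComplex.HomComplex.Cochain P L' j))
  exact TStructure.t.isGE_of_iso e.symm (n - c)

/-- `RHom(L, M) ∈ D^{≤ b - n}` for `L ∈ D^{≥ n}` and `M` of injective amplitude `[a, b]` -/
lemma isLE_RHom_of_injAmp (L M : Dual.D A) (n a b : ℤ) [L.IsGE n]
    (hM : DRing.HasInjAmplitudeIn A a b M) : ((RHomR A L).obj M).IsLE (b - n) := by
  apply isLE_of_hom_eq_zero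
  intro i hi φ
  apply ((rhomAdj A L).homEquiv _ _).symm.injective
  haveI : (L⟦-i⟧).IsGE (b + 1) := by
    haveI : (L⟦-i⟧).IsGE (n + i) := TStructure.t.isGE_shift L n (-i) (n + i) (by omega)
    exact TStructure.t.isGE_of_ge (L⟦-i⟧) (b + 1) (n + i) (by omega)
  have h0 : ∀ ψ : (LTen₂ A).obj (U A i, L) ⟶ M, ψ = 0 := by
    intro ψ
    rw [← cancel_epi (UTensorIso i L).inv, comp_zero]
    exact hom_eq_zero_of_isGE_of_injAmp (L⟦-i⟧) M a b hM _
  rw [h0 (((rhomAdj A L).homEquiv _ _).symm φ), h0 (((rhomAdj A L).homEquiv _ _).symm 0)]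

end RHomBounds

end Groth.Agent.Lib.Helper10.Amp
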