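import Mathlib

/-!
# Completely multiplicative functions with prescribed small values at primes
-/

open Complex

namespace Groth.Agent.Lib.Helper10.FakeEuler

/-- the completely multiplicative function with prescribed values at primes -/
noncomputable def mulFun (v : ℕ → ℂ) : ℕ →*₀ ℂ where
  toFun n := if n = 0 then 0 else n.factorization.prod fun p k => v p ^ k
  map_zero' := by simp
  map_one' := by simp
  map_mul' m n := by
    by_cases hm : m = 0
    · simp [hm]
    by_cases hn : n = 0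
    · simp [hn]
    simp only [mul_eq_zero, hm, hn, or_self, if_false]
    rw [Nat.factorization_mul hm hn, Finsupp.prod_add_index']
    · intro p; simp
    · intro p a b; exact pow_add _ _ _

lemma mulFun_apply (v : ℕ → ℂ) {n : ℕ} (hn : n ≠ 0) :
    mulFun v n = n.factorization.prod fun p k => v p ^ k := by
  change (if n = 0 then 0 else _) = _
  rw [if_neg hn]

lemma mulFun_prime (v : ℕ → ℂ) {p : ℕ} (hp : p.Prime) : mulFun v p = v p := by
  rw [mulFun_apply v hp.ne_zero, hp.factorization, Finsupp.prod_single_index (by simp), pow_one]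

/-- the norm of `mulFun v` as a monoid hom to `ℝ` -/
noncomputable def normFun (v : ℕ → ℂ) : ℕ →* ℝ :=
  ((normHom : ℂ →*₀ ℝ).comp (mulFun v)).toMonoidHom

lemma normFun_apply (v : ℕ → ℂ) (n : ℕ) : normFun v n = ‖mulFun v n‖ := rfl

lemma normFun_nonneg (v : ℕ → ℂ) (n : ℕ) : 0 ≤ normFun v n := norm_nonneg (mulFun v n)

lemma inv_one_sub_le_exp {t t₀ : ℝ} (ht : 0 ≤ t) (htt : t ≤ t₀) (ht₀ : t₀ < 1) :
    (1 - t)⁻¹ ≤ Real.exp (t / (1 - t₀)) := by
  have h1 : 0 < 1 - t := by linarith
  have h0 : 0 < 1 - t₀ := by linarith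
  have h2 : (1 - t)⁻¹ = 1 + t / (1 - t) := by
    field_simp
    ring
  rw [h2]
  have h3 : t / (1 - t) ≤ t / (1 - t₀) := by
    apply div_le_div_of_nonneg_left ht h0
    linarith
  calc 1 + t / (1 - t) ≤ t / (1 - t₀) + 1 := by linarith
    _ ≤ Real.exp (t / (1 - t₀)) := Real.add_one_le_exp _

theorem summable_norm_mulFun (v : ℕ → ℂ) (t₀ : ℝ) (ht₀ : t₀ < 1) (hv : ∀ p, ‖v p‖ ≤ t₀)
    (hsum : Summable (fun n : ℕ => ‖v n‖)) : Summable (fun n => ‖mulFun v n‖) := by
  have hlt : ∀ {p : ℕ}, p.Prime → ‖normFun v p‖ < 1 := by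
    intro p hp
    rw [normFun_apply, mulFun_prime v hp, norm_norm]
    exact (hv p).trans_lt ht₀
  have h0 : 0 < 1 - t₀ := by linarith
  refine summable_of_sum_range_le (c := Real.exp ((∑' n, ‖v n‖) / (1 - t₀)))
    (fun n => norm_nonneg _) (fun N => ?_)
  obtain ⟨-, hS'⟩ :=
    EulerProduct.summable_and_hasSum_smoothNumbers_prod_primesBelow_geometric hlt N
  have hS : HasSum ((N.smoothNumbers).indicator (fun m => normFun v m)) _ :=
    (hasSum_subtype_iff_indicator (f := fun m => normFun v m)).mp hS'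
  have hle : ∑ i ∈ Finset.range N, ‖mulFun v i‖ ≤
      ∑ i ∈ Finset.range N, (N.smoothNumbers).indicator (fun m => normFun v m) i := by
    refine Finset.sum_le_sum fun i hi => ?_
    by_cases hi0 : i = 0
    · subst hi0
      rw [map_zero, norm_zero]
      exact Set.indicator_nonneg (fun m _ => normFun_nonneg v m) _
    · rw [Set.indicator_of_mem (Nat.mem_smoothNumbers_of_lt (Nat.pos_of_ne_zero hi0)
        (Finset.mem_range.mp hi))]
      rfl
  refine hle.trans ((sum_le_hasSum _ (fun i _ => Set.indicator_nonneg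
    (fun m _ => normFun_nonneg v m) _) hS).trans ?_)
  have hprod : ∏ p ∈ N.primesBelow, (1 - normFun v p)⁻¹ ≤
      ∏ p ∈ N.primesBelow, Real.exp (‖v p‖ / (1 - t₀)) := by
    refine Finset.prod_le_prod (fun p hp => ?_) (fun p hp => ?_)
    · have hpp := Nat.prime_of_mem_primesBelow hp
      rw [normFun_apply, mulFun_prime v hpp]
      have : 0 < 1 - ‖v p‖ := by linarith [hv p]
      exact inv_nonneg.mpr this.le
    · have hpp := Nat.prime_of_mem_primesBelow hp
      rw [normFun_apply, mulFun_prime v hpp]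
      exact inv_one_sub_le_exp (norm_nonneg _) (hv p) ht₀
  refine hprod.trans ?_
  rw [← Real.exp_sum, ← Finset.sum_div]
  apply Real.exp_le_exp.mpr
  apply div_le_div_of_nonneg_right _ h0.le
  exact hsum.sum_le_tsum _ (fun i _ => norm_nonneg _)

theorem tsum_mulFun_ne_zero (v : ℕ → ℂ) (t₀ : ℝ) (ht₀ : t₀ < 1) (hv : ∀ p, ‖v p‖ ≤ t₀)
    (hsum : Summable (fun n : ℕ => ‖v n‖)) : ∑' n, mulFun v n ≠ 0 := by
  rw [← EulerProduct.exp_tsum_primes_log_eq_tsum (summable_norm_mulFun v t₀ ht₀ hv hsum)]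
  exact Complex.exp_ne_zero _

end Groth.Agent.Lib.Helper10.FakeEuler
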