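import Mathlib
import Groth.Agent.Lib.Helper10FakeEuler

/-!
# Dirichlet series of "effective 0-cycles" on a countable set of points with norms
-/

open Complex

namespace Groth.Agent.Lib.Helper10.EulerBridge

open Groth.Agent.Lib.Helper10.FakeEuler

section CPow

lemma natCast_prod_cpow {ι : Type*} (S : Finset ι) (g : ι → ℕ) (z : ℂ) :
    ((∏ i ∈ S, g i : ℕ) : ℂ) ^ z = ∏ i ∈ S, (g i : ℂ) ^ z := by
  classical
  induction S using Finset.induction_on with
  | empty => simp
  | insert a S ha ih =>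
    rw [Finset.prod_insert ha, Finset.prod_insert ha, Nat.cast_mul, natCast_mul_natCast_cpow, ih]

lemma natCast_pow_cpow (N m : ℕ) (z : ℂ) : ((N ^ m : ℕ) : ℂ) ^ z = ((N : ℂ) ^ z) ^ m := by
  induction m with
  | zero => simp
  | succ m ih => rw [pow_succ, Nat.cast_mul, natCast_mul_natCast_cpow, ih, pow_succ]

end CPow

variable {P : Type*} (Nx : P → ℕ)

/-- the norm of an effective cycle -/
noncomputable def nrm (α : P →₀ ℕ) : ℕ := α.prod fun x m => Nx x ^ m

/-- the number of effective cycles of norm `n` -/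
noncomputable def cnt (n : ℕ) : ℕ := Nat.card {α : P →₀ ℕ // nrm Nx α = n}

lemma nrm_cpow (α : P →₀ ℕ) (z : ℂ) :
    ((nrm Nx α : ℕ) : ℂ) ^ z = α.prod fun x m => ((Nx x : ℂ) ^ z) ^ m := by
  unfold nrm Finsupp.prod
  rw [natCast_prod_cpow]
  exact Finset.prod_congr rfl fun x _ => natCast_pow_cpow _ _ _

lemma nrm_ne_zero (hN : ∀ x, 2 ≤ Nx x) (α : P →₀ ℕ) : nrm Nx α ≠ 0 := by
  unfold nrm Finsupp.prod
  exact Finset.prod_ne_zero_iff.mpr fun x _ => pow_ne_zero _ (by have := hN x; omega)

section Main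

variable [Countable P] (hN : ∀ x, 2 ≤ Nx x) (s : ℂ) (hs : 0 < s.re)
  (hsum : Summable fun x : P => (Nx x : ℝ) ^ (-s.re))

include hN hs hsum in
theorem main : LSeriesSummable (fun n => (cnt Nx n : ℂ)) s ∧
    LSeries (fun n => (cnt Nx n : ℂ)) s ≠ 0 := by
  classical
  obtain ⟨g, hg⟩ := exists_injective_nat P
  let e : P → ℕ := fun x => Nat.nth Nat.Prime (g x)
  have he : Function.Injective e := fun x y h =>
    hg (Nat.nth_injective Nat.infinite_setOfPred_prime h)
  have hep : ∀ x, (e x).Prime := fun x => Nat.prime_nth_prime _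
  let v : ℕ → ℂ := Function.extend e (fun x => (Nx x : ℂ) ^ (-s)) 0
  have hve : ∀ x, v (e x) = (Nx x : ℂ) ^ (-s) := fun x => he.extend_apply _ _ x
  have hv0 : ∀ p, p ∉ Set.range e → v p = 0 := fun p hp =>
    Function.extend_apply' _ _ p (by simpa using hp)
  have hnorm : ∀ x, ‖(Nx x : ℂ) ^ (-s)‖ = (Nx x : ℝ) ^ (-s.re) := fun x => by
    rw [norm_natCast_cpow_of_pos (by have := hN x; omega)]
    simp
  set t₀ : ℝ := (2 : ℝ) ^ (-s.re) with ht₀def
  have ht₀ : t₀ < 1 := Real.rpow_lt_one_of_one_lt_of_neg (by norm_num) (by linarith)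
  have hvle : ∀ p, ‖v p‖ ≤ t₀ := by
    intro p
    by_cases hp : p ∈ Set.range e
    · obtain ⟨x, rfl⟩ := hp
      rw [hve, hnorm]
      exact Real.rpow_le_rpow_of_nonpos (by norm_num) (by exact_mod_cast hN x) (by linarith)
    · rw [hv0 p hp, norm_zero]
      positivity
  have hvsum : Summable fun n => ‖v n‖ := by
    rw [← he.summable_iff (fun p hp => by rw [hv0 p hp, norm_zero])]
    refine hsum.congr (fun x => ?_)
    simp only [Function.comp_apply, hve, hnorm]
  set f := mulFun v with hf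
  have hfsum := summable_norm_mulFun v t₀ ht₀ hvle hvsum
  have hfne := tsum_mulFun_ne_zero v t₀ ht₀ hvle hvsum
  let Φ : (P →₀ ℕ) → ℕ := fun α => α.prod fun x m => e x ^ m
  have hΦmap : ∀ α, Φ α = (α.mapDomain e).prod (· ^ ·) := fun α => by
    rw [Finsupp.prod_mapDomain_index_inj he]
  have hΦfact : ∀ α, (Φ α).factorization = α.mapDomain e := fun α => by
    rw [hΦmap]
    apply Nat.prod_pow_factorization_eq_self
    intro p hp
    obtain ⟨x, -, rfl⟩ := Finset.mem_image.mp (Finsupp.mapDomain_support hp)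
    exact hep x
  have hΦinj : Function.Injective Φ := fun α β h => by
    have := congrArg Nat.factorization h
    rw [hΦfact, hΦfact] at this
    exact Finsupp.mapDomain_injective he this
  have hfΦ : ∀ α, f (Φ α) = ((nrm Nx α : ℕ) : ℂ) ^ (-s) := fun α => by
    rw [nrm_cpow]
    simp only [Φ, Finsupp.prod, map_prod, map_pow]
    refine Finset.prod_congr rfl fun x _ => ?_
    rw [hf, mulFun_prime v (hep x), hve]
  have hfsupp : Function.support f ⊆ Set.range Φ := by
    intro j hj
    rw [Function.mem_support] at hj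
    have hj0 : j ≠ 0 := fun h => hj (by rw [h, map_zero])
    rw [hf, mulFun_apply v hj0] at hj
    have hsub : ∀ p ∈ j.factorization.support, p ∈ Set.range e := by
      intro p hp
      by_contra hne
      apply hj
      apply Finset.prod_eq_zero hp
      change v p ^ (j.factorization p) = 0
      rw [hv0 p hne, zero_pow]
      exact Finsupp.mem_support_iff.mp hp
    refine ⟨j.factorization.comapDomain e he.injOn, ?_⟩
    rw [hΦmap, Finsupp.mapDomain_comapDomain _ he _ (by intro p hp; exact hsub p hp)]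
    exact Nat.prod_factorization_pow_eq_self hj0
  have hF : HasSum (fun α => ((nrm Nx α : ℕ) : ℂ) ^ (-s)) (∑' n, f n) := by
    have h1 : Summable (fun α => f (Φ α)) := (hfsum.of_norm).comp_injective hΦinj
    have h2 : ∑' α, f (Φ α) = ∑' n, f n := hΦinj.tsum_eq hfsupp
    simp_rw [← hfΦ]
    rw [← h2]
    exact h1.hasSum
  have hfib := hF.tsum_fiberwise (nrm Nx)
  have hterm : ∀ n, ∑' b : nrm Nx ⁻¹' {n}, ((nrm Nx b : ℕ) : ℂ) ^ (-s) =
      LSeries.term (fun n => (cnt Nx n : ℂ)) s n := by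
    intro n
    have hb : ∀ b : nrm Nx ⁻¹' {n}, ((nrm Nx b : ℕ) : ℂ) ^ (-s) = (n : ℂ) ^ (-s) := fun b => by
      have : nrm Nx b = n := b.2
      rw [this]
    simp_rw [hb]
    rw [tsum_const]
    by_cases hn : n = 0
    · subst hn
      rw [LSeries.term_zero]
      haveI : IsEmpty (nrm Nx ⁻¹' {0}) := ⟨fun b => nrm_ne_zero Nx hN b.1 b.2⟩
      simp
    · rw [LSeries.term_of_ne_zero hn, cpow_neg, nsmul_eq_mul, div_eq_mul_inv]
      rfl
  have hfib' : HasSum (LSeries.term (fun n => (cnt Nx n : ℂ)) s) (∑' n, f n) := by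
    have := funext hterm
    rw [← this]
    exact hfib
  exact ⟨hfib'.summable, by rw [LSeries, hfib'.tsum_eq]; exact hfne⟩

end Main

end Groth.Agent.Lib.Helper10.EulerBridge
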