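import Mathlib

/-!
# Finite-field lemmas used in counting the fixed points of Frobenius
-/

namespace Groth.Agent.Lib.Helper10.FixAlg

/-- all elements of a finite extension `L` of the finite field `K` satisfy `y^(q^m) = y`
iff `[L : K] ∣ m`. -/
lemma forall_pow_eq_iff (K L : Type*) [Field K] [Finite K] [Field L] [Algebra K L] [Finite L]
    (m : ℕ) : (∀ y : L, y ^ (Nat.card K ^ m) = y) ↔ Module.finrank K L ∣ m := by
  haveI := Fintype.ofFinite K
  rw [Nat.card_eq_fintype_card, ← FiniteField.orderOf_frobeniusAlgHom K L,
    orderOf_dvd_iff_pow_eq_one, DFunLike.ext_iff]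
  refine forall_congr' fun y => ?_
  rw [AlgHom.coe_pow, FiniteField.coe_frobeniusAlgHom, pow_iterate, AlgHom.one_apply]

/-- a field all of whose elements satisfy `y^Q = y`, `1 < Q`, is finite -/
lemma finite_of_forall_pow_eq (L : Type*) [Field L] (Q : ℕ) (hQ : 1 < Q)
    (h : ∀ y : L, y ^ Q = y) : Finite L := by
  classical
  have hne : (Polynomial.X ^ Q - Polynomial.X : Polynomial L) ≠ 0 := by
    intro h0
    have := congrArg (fun p => Polynomial.coeff p Q) h0
    simp only [Polynomial.coeff_sub, Polynomial.coeff_X_pow, Polynomial.coeff_X,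
      Polynomial.coeff_zero, if_true] at this
    rw [if_neg (by omega)] at this
    simp at this
  have : (Set.univ : Set L) ⊆ ((Polynomial.X ^ Q - Polynomial.X : Polynomial L).roots.toFinset : Set L) := by
    intro y _
    rw [Finset.mem_coe, Multiset.mem_toFinset, Polynomial.mem_roots hne, Polynomial.IsRoot,
      Polynomial.eval_sub, Polynomial.eval_pow, Polynomial.eval_X, h y, sub_self]
  exact Set.finite_univ_iff.mp ((Finset.finite_toSet _).subset this)

/-- number of embeddings of a finite extension of a finite field into an algebraically closed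
field -/
lemma card_algHom (K L k : Type*) [Field K] [Finite K] [Field L] [Algebra K L] [Finite L]
    [Field k] [Algebra K k] [IsAlgClosed k] :
    Nat.card (L →ₐ[K] k) = Module.finrank K L := by
  haveI : Module.Finite K L := Module.Finite.of_finite
  haveI : Algebra.IsAlgebraic K L := Algebra.IsAlgebraic.of_finite K L
  haveI : Algebra.IsSeparable K L := Algebra.IsAlgebraic.isSeparable_of_perfectField
  rw [← Field.finSepDegree_eq_of_isAlgClosed K L k, Field.finSepDegree_eq_finrank_of_isSeparable]

end Groth.Agent.Lib.Helper10.FixAlg
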