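import Mathlib

/-!
# Degree of a Frobenius-like endomorphism of a finitely generated field extension

`finrank_fieldRange_eq_pow`: if `L / k` is a finitely generated field extension, `φ : L →ₐ[k] L`
and `L` is generated over `k` by a set `S` of elements with `φ s = s ^ q` (`q > 0`), then
`[L : φ L] = q ^ trdeg_k L`.
-/

namespace Groth.Agent.Lib.Helper10.FrobDeg

open IntermediateField Polynomial

section OneVar

variable {E L : Type*} [Field E] [Field L] [Algebra E L]

/-- For `a` transcendental over `E`, `[E(a) : E(a^q)] = q`. -/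
lemma relfinrank_adjoin_pow (a : L) (ha : Transcendental E a) (q : ℕ) :
    (E⟮a ^ q⟯).relfinrank E⟮a⟯ = q := by
  let e := RatFunc.algEquivOfTranscendental a ha
  let f : RatFunc E →ₐ[E] L := (E⟮a⟯).val.comp e.toAlgHom
  have hfX : f RatFunc.X = a := by
    simp [f, e]
  have h1 : (E⟮(RatFunc.X : RatFunc E) ^ q⟯).map f = E⟮a ^ q⟯ := by
    rw [IntermediateField.adjoin_map]
    simp [hfX]
  have h2 : (⊤ : IntermediateField E (RatFunc E)).map f = E⟮a⟯ := by
    rw [← RatFunc.adjoin_X, IntermediateField.adjoin_map]
    simp [hfX]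
  rw [← h1, ← h2, IntermediateField.relfinrank_map_map, IntermediateField.relfinrank_top_right,
    RatFunc.finrank_eq_max_natDegree]
  have hX : ((RatFunc.X : RatFunc E) ^ q) = algebraMap E[X] (RatFunc E) (X ^ q) := by
    simp
  rw [hX, RatFunc.num_algebraMap, RatFunc.denom_algebraMap]
  simp

end OneVar

section Chain

variable {k L : Type*} [Field k] [Field L] [Algebra k L]

lemma relfinrank_adjoin_insert_pow (W : Set L) (a : L) (ha : Transcendental (adjoin k W) a)
    (q : ℕ) :
    (adjoin k (insert (a ^ q) W)).relfinrank (adjoin k (insert a W)) = q := by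
  have key := relfinrank_adjoin_pow (E := adjoin k W) a ha q
  have h1 : ∀ b : L, adjoin k (insert b W) = ((adjoin k W)⟮b⟯).restrictScalars k := by
    intro b
    rw [adjoin_adjoin_left, Set.union_singleton]
  rw [h1, h1]
  exact key

variable {ι : Type*} (t : ι → L) (q : ℕ)

/-- The field generated by `t i ^ q` for `i ∈ s` and `t i` for `i ∉ s`. -/
def mixed (s : Set ι) : IntermediateField k L :=
  adjoin k ((fun i => t i ^ q) '' s ∪ t '' sᶜ)

lemma mixed_insert_le (s : Set ι) (a : ι) : mixed (k := k) t q (insert a s) ≤ mixed t q s := by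
  unfold mixed
  rw [adjoin_le_iff]
  rintro x (⟨i, hi, rfl⟩ | ⟨i, hi, rfl⟩)
  · rcases hi with rfl | hi
    · by_cases ha : i ∈ s
      · exact IntermediateField.subset_adjoin k _ (Or.inl ⟨i, ha, rfl⟩)
      · have : t i ∈ adjoin k ((fun i => t i ^ q) '' s ∪ t '' sᶜ) :=
          IntermediateField.subset_adjoin k _ (Or.inr ⟨i, ha, rfl⟩)
        exact pow_mem this q
    · exact IntermediateField.subset_adjoin k _ (Or.inl ⟨i, hi, rfl⟩)
  · refine IntermediateField.subset_adjoin k _ (Or.inr ⟨i, fun h => hi (Or.inr h), rfl⟩)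

lemma relfinrank_mixed_insert (ht : AlgebraicIndependent k t) (s : Set ι) (a : ι) (ha : a ∉ s) :
    (mixed (k := k) t q (insert a s)).relfinrank (mixed t q s) = q := by
  set W : Set L := (fun i => t i ^ q) '' s ∪ t '' (insert a s)ᶜ with hW
  have e1 : (fun i => t i ^ q) '' (insert a s) ∪ t '' (insert a s)ᶜ = insert (t a ^ q) W := by
    rw [hW, Set.image_insert_eq, Set.insert_union]
  have e2 : (fun i => t i ^ q) '' s ∪ t '' sᶜ = insert (t a) W := by
    have : sᶜ = insert a (insert a s)ᶜ := by
      ext i
      simp only [Set.mem_compl_iff, Set.mem_insert_iff, not_or]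
      constructor
      · intro h
        by_cases hia : i = a
        · exact Or.inl hia
        · exact Or.inr ⟨hia, h⟩
      · rintro (rfl | h)
        · exact ha
        · exact h.2
    rw [hW, this, Set.image_insert_eq, Set.union_insert]
  unfold mixed
  rw [e1, e2]
  apply relfinrank_adjoin_insert_pow
  -- `t a` is transcendental over `adjoin k W`
  have h0 : Transcendental (adjoin k (t '' {a}ᶜ)) (t a) := by
    rw [IntermediateField.transcendental_adjoin_iff]
    exact ht.transcendental_adjoin (s := {a}ᶜ) (i := a) (by simp)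
  have hle : adjoin k W ≤ adjoin k (t '' {a}ᶜ) := by
    rw [adjoin_le_iff]
    rintro x (⟨i, hi, rfl⟩ | ⟨i, hi, rfl⟩)
    · have hia : i ∈ ({a}ᶜ : Set ι) := by
        simp only [Set.mem_compl_iff, Set.mem_singleton_iff]
        rintro rfl
        exact ha hi
      have : t i ∈ adjoin k (t '' {a}ᶜ) := IntermediateField.subset_adjoin k _ ⟨i, hia, rfl⟩
      exact pow_mem this q
    · have hia : i ∈ ({a}ᶜ : Set ι) := by
        simp only [Set.mem_compl_iff, Set.mem_singleton_iff]
        rintro rfl
        exact hi (Set.mem_insert _ _)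
      exact IntermediateField.subset_adjoin k _ ⟨i, hia, rfl⟩
  intro hal
  apply h0
  exact IsAlgebraic.tower_top_of_subalgebra_le
    (A := (adjoin k W).toSubalgebra) (B := (adjoin k (t '' {a}ᶜ)).toSubalgebra) hle hal

lemma mixed_le_and_relfinrank (ht : AlgebraicIndependent k t) (s : Finset ι) :
    mixed (k := k) t q (s : Set ι) ≤ mixed t q ∅ ∧
      (mixed (k := k) t q (s : Set ι)).relfinrank (mixed t q ∅) = q ^ s.card := by
  classical
  induction s using Finset.induction_on with
  | empty => simp [IntermediateField.relfinrank_self]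
  | insert a s ha ih =>
    rw [Finset.coe_insert]
    have h1 := mixed_insert_le (k := k) t q (s : Set ι) a
    have h2 := relfinrank_mixed_insert t q ht (s : Set ι) a (by simpa using ha)
    refine ⟨h1.trans ih.1, ?_⟩
    rw [← IntermediateField.relfinrank_mul_relfinrank h1 ih.1, h2, ih.2, Finset.card_insert_of_notMem ha,
      pow_succ, mul_comm]

end Chain

section Main

variable {k L : Type*} [Field k] [Field L] [Algebra k L]

/-- Finite generating set version. -/
theorem finrank_fieldRange_eq_pow_of_finite (φ : L →ₐ[k] L) (S : Set L) (hSfin : S.Finite)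
    (hS : adjoin k S = ⊤) (q : ℕ) (hφ : ∀ s ∈ S, φ s = s ^ q) :
    Module.finrank φ.fieldRange L = q ^ (Cardinal.toNat (Algebra.trdeg k L)) := by
  classical
  -- `L` is algebraic over `k[S]`
  haveI halg : Algebra.IsAlgebraic (Algebra.adjoin k S) L := by
    rw [← IntermediateField.isAlgebraic_adjoin_iff_top, hS]
    exact ⟨fun x => isAlgebraic_algebraMap (⟨x, trivial⟩ : (⊤ : IntermediateField k L))⟩
  obtain ⟨t, htS, ht⟩ := exists_isTranscendenceBasis_subset (R := k) S
  haveI : Finite t := (hSfin.subset htS).to_subtype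
  haveI : Fintype t := Fintype.ofFinite t
  have hcard : Cardinal.toNat (Algebra.trdeg k L) = Fintype.card t := by
    rw [← ht.cardinalMk_eq_trdeg, Cardinal.mk_fintype, Cardinal.toNat_natCast]
  rw [hcard]
  set x : t → L := fun i => (i : L) with hx
  set M : IntermediateField k L := adjoin k t with hM
  have hM0 : mixed (k := k) x q ∅ = M := by
    unfold mixed
    rw [Set.image_empty, Set.empty_union, Set.compl_empty, Set.image_univ, hM]
    congr 1
    exact Subtype.range_coe
  have hM1 : mixed (k := k) x q ((Finset.univ : Finset t) : Set t) = M.map φ := by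
    unfold mixed
    rw [Finset.coe_univ, Set.compl_univ, Set.image_empty, Set.union_empty, hM,
      IntermediateField.adjoin_map]
    congr 1
    ext y
    simp only [Set.image_univ, Set.mem_range, Set.mem_image, Subtype.exists, hx]
    constructor
    · rintro ⟨a, ha, rfl⟩
      exact ⟨a, ha, hφ a (htS ha)⟩
    · rintro ⟨a, ha, rfl⟩
      exact ⟨a, ha, (hφ a (htS ha)).symm⟩
  obtain ⟨hle, hrank⟩ := mixed_le_and_relfinrank (k := k) x q ht.1 Finset.univ
  rw [hM0, hM1] at hle hrank
  rw [Finset.card_univ] at hrank
  -- `L` is finite over `M`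
  haveI hMalg : Algebra.IsAlgebraic M L := by
    rw [hM, IntermediateField.isAlgebraic_adjoin_iff_top]
    have := ht.isAlgebraic
    rwa [Subtype.range_coe] at this
  have htop : adjoin M S = ⊤ := by
    rw [← IntermediateField.restrictScalars_eq_top_iff (K := k), hM, adjoin_adjoin_left,
      eq_top_iff, ← hS]
    exact adjoin.mono _ _ _ Set.subset_union_right
  haveI : Finite S := hSfin.to_subtype
  haveI hfd : FiniteDimensional M (adjoin M S) :=
    finiteDimensional_adjoin (fun y _ => (hMalg.isAlgebraic y).isIntegral)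
  haveI hfdL : FiniteDimensional M L := by
    rw [htop] at hfd
    exact (IntermediateField.topEquiv (F := M) (E := L)).toLinearEquiv.finiteDimensional
  have hd : 0 < M.relfinrank ⊤ := by
    rw [IntermediateField.relfinrank_top_right]
    exact Module.finrank_pos
  have ha := IntermediateField.relfinrank_mul_relfinrank hle (le_top : M ≤ ⊤)
  have hb := IntermediateField.relfinrank_mul_relfinrank
    (IntermediateField.map_mono φ (le_top : M ≤ ⊤)) (le_top : (⊤ : IntermediateField k L).map φ ≤ ⊤)
  rw [IntermediateField.relfinrank_map_map, ← AlgHom.fieldRange_eq_map] at hb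
  rw [hrank, ← hb, mul_comm] at ha
  have := Nat.eq_of_mul_eq_mul_left hd ha
  rw [IntermediateField.relfinrank_top_right] at this
  exact this.symm

/-- If `L / k` is a finitely generated field extension, `φ : L →ₐ[k] L` and `L` is generated
over `k` by a set `S` of elements with `φ s = s ^ q`, then `[L : φ L] = q ^ trdeg_k L`. -/
theorem finrank_fieldRange_eq_pow (φ : L →ₐ[k] L) (S : Set L) (hS : adjoin k S = ⊤)
    (hfg : (⊤ : IntermediateField k L).FG) (q : ℕ) (hφ : ∀ s ∈ S, φ s = s ^ q) :
    Module.finrank φ.fieldRange L = q ^ (Cardinal.toNat (Algebra.trdeg k L)) := by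
  classical
  obtain ⟨S₀, hS₀⟩ := hfg
  have h : ∀ y : L, ∃ T : Finset L, (T : Set L) ⊆ S ∧ y ∈ adjoin k (T : Set L) :=
    fun y => exists_finset_of_mem_adjoin (by rw [hS]; trivial)
  choose T hTS hT using h
  refine finrank_fieldRange_eq_pow_of_finite φ ((S₀.biUnion T : Finset L) : Set L)
    (Finset.finite_toSet _) ?_ q (fun s hs => hφ s ?_)
  · rw [eq_top_iff, ← hS₀, adjoin_le_iff]
    intro y hy
    refine adjoin.mono _ _ _ ?_ (hT y)
    intro z hz
    exact Finset.mem_coe.mpr (Finset.mem_biUnion.mpr ⟨y, hy, hz⟩)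
  · obtain ⟨y, _, hsy⟩ := Finset.mem_biUnion.mp (Finset.mem_coe.mp hs)
    exact hTS y hsy

end Main

end Groth.Agent.Lib.Helper10.FrobDeg
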