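import Mathlib

set_option autoImplicit false
universe u

open CategoryTheory CategoryTheory.Limits AlgebraicGeometry

namespace Groth.Agent.Lib.Helper20.ResFld

set_option backward.isDefEq.respectTransparency false in
/-- Naturality of `Spec.residueFieldIso`. -/
theorem residueFieldMap_SpecMap {R R' : CommRingCat.{u}} (φ : R ⟶ R') (x' : PrimeSpectrum R') :
    (Spec.map φ).residueFieldMap x' ≫ (Scheme.Spec.residueFieldIso R' x').hom =
      (Scheme.Spec.residueFieldIso R (x'.comap φ.hom)).hom ≫
        CommRingCat.ofHom (Ideal.ResidueField.map (x'.comap φ.hom).asIdeal x'.asIdeal φ.hom rfl) := by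
  have : Epi ((Spec R).residue (x'.comap φ.hom)) :=
    ConcreteCategory.epi_of_surjective _ (Scheme.residue_surjective _ _)
  rw [← cancel_epi ((Spec R).residue (x'.comap φ.hom))]
  have h1 := Scheme.residue_residueFieldMap_assoc (Spec.map φ) x' (Scheme.Spec.residueFieldIso R' x').hom
  erw [h1]
  rw [Scheme.Spec.residue_residueFieldIso_hom,
    Scheme.Spec.residue_residueFieldIso_hom_assoc]
  rw [← Scheme.localRingHom_comp_stalkIso]
  simp only [Category.assoc, Iso.inv_hom_id_assoc]
  rfl


set_option backward.isDefEq.respectTransparency false in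
theorem bijective_residueFieldMap_SpecMap {R R' : CommRingCat.{u}} (φ : R ⟶ R')
    (x' : PrimeSpectrum R') (I : Ideal R) [I.IsPrime] (hI : I = x'.asIdeal.comap φ.hom)
    (h : Function.Bijective (Ideal.ResidueField.map I x'.asIdeal φ.hom hI)) :
    Function.Bijective ((Spec.map φ).residueFieldMap x') := by
  subst hI
  have h1 := residueFieldMap_SpecMap φ x'
  have h2 : (Spec.map φ).residueFieldMap x' =
      ((Scheme.Spec.residueFieldIso R (x'.comap φ.hom)).hom ≫
        CommRingCat.ofHom (Ideal.ResidueField.map (x'.comap φ.hom).asIdeal x'.asIdeal φ.hom rfl)) ≫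
        (Scheme.Spec.residueFieldIso R' x').inv := by
    rw [← h1]
    exact ((Iso.comp_inv_eq _).mpr rfl).symm
  rw [h2]
  have b1 := ConcreteCategory.bijective_of_isIso (Scheme.Spec.residueFieldIso R (x'.comap φ.hom)).hom
  have b2 := ConcreteCategory.bijective_of_isIso (Scheme.Spec.residueFieldIso R' x').inv
  exact b2.comp (h.comp b1)

theorem bijective_residueFieldMap_comp {X Y Z : Scheme.{u}} (a : X ⟶ Y) (j : Y ⟶ Z) (x : X)
    (ha : Function.Bijective (a.residueFieldMap x))
    (hj : Function.Bijective (j.residueFieldMap (a x))) :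
    Function.Bijective ((a ≫ j).residueFieldMap x) := by
  rw [Scheme.residueFieldMap_comp]
  exact ha.comp hj

theorem bijective_residueFieldMap_of_isOpenImmersion {Y Z : Scheme.{u}} (j : Y ⟶ Z)
    [IsOpenImmersion j] (y : Y) : Function.Bijective (j.residueFieldMap y) :=
  ConcreteCategory.bijective_of_isIso _

open Scheme.Pullback

variable {X Y S : Scheme.{u}} {f : X ⟶ S} {g : Y ⟶ S}

set_option backward.isDefEq.respectTransparency false in
/-- canonical map `R ⟶ κ(p)` for `p ∈ Spec R`. -/
noncomputable def toResidueField (R : CommRingCat.{u}) (p : Spec R) : R ⟶ (Spec R).residueField p :=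
  CommRingCat.ofHom (algebraMap R p.asIdeal.ResidueField) ≫ (Scheme.Spec.residueFieldIso R p).inv

theorem SpecMap_toResidueField (R : CommRingCat.{u}) (p : Spec R) :
    Spec.map (toResidueField R p) = (Spec R).fromSpecResidueField p := by
  rw [toResidueField, Spec.map_comp]
  exact Scheme.Spec.map_residueFieldIso_inv_eq_fromSpecResidueField R p

set_option backward.isDefEq.respectTransparency false in
theorem exists_toResidueField_div (R : CommRingCat.{u}) (p : Spec R) (z : (Spec R).residueField p) :
    ∃ a b : R, toResidueField R p b ≠ 0 ∧ z * toResidueField R p b = toResidueField R p a := by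
  let e := Scheme.Spec.residueFieldIso R p
  have hinj : Function.Injective e.hom := (ConcreteCategory.bijective_of_isIso e.hom).1
  have htr : ∀ a : R, e.hom (toResidueField R p a) = algebraMap R p.asIdeal.ResidueField a := by
    intro a
    change (toResidueField R p ≫ e.hom) a = _
    rw [toResidueField, Category.assoc, Iso.inv_hom_id, Category.comp_id]
    rfl
  obtain ⟨x, y, hy, hxy⟩ := IsFractionRing.div_surjective (A := R ⧸ p.asIdeal) (e.hom z)
  obtain ⟨a, rfl⟩ := Ideal.Quotient.mk_surjective x
  obtain ⟨b, rfl⟩ := Ideal.Quotient.mk_surjective y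
  rw [Ideal.algebraMap_quotient_residueField_mk, Ideal.algebraMap_quotient_residueField_mk] at hxy
  have hb : algebraMap R p.asIdeal.ResidueField b ≠ 0 := by
    rw [← Ideal.algebraMap_quotient_residueField_mk]
    exact (map_ne_zero_iff _ (Ideal.injective_algebraMap_quotient_residueField _)).mpr
      (nonZeroDivisors.ne_zero hy)
  refine ⟨a, b, ?_, ?_⟩
  · intro h0
    apply hb
    rw [← htr, h0, map_zero]
  · apply hinj
    rw [map_mul, htr, htr, ← hxy, div_mul_cancel₀ _ hb]


set_option backward.isDefEq.respectTransparency false in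
theorem ofPointTensor_mem_subfield (w : ↑(pullback f g))
    (F : Subfield ((pullback f g).residueField w))
    (h1 : ∀ a, (pullback.fst f g).residueFieldMap w a ∈ F)
    (h2 : ∀ b, (pullback.snd f g).residueFieldMap w b ∈ F) (t : (Triplet.ofPoint w).tensor) :
    ofPointTensor w t ∈ F := by
  let ιF : CommRingCat.of F ⟶ (pullback f g).residueField w := CommRingCat.ofHom F.subtype
  have hιF : Function.Injective ιF := Subtype.val_injective
  let a : X.residueField (Triplet.ofPoint w).x ⟶ CommRingCat.of F :=
    CommRingCat.ofHom (((pullback.fst f g).residueFieldMap w).hom.codRestrict F.toSubring h1)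
  let b : Y.residueField (Triplet.ofPoint w).y ⟶ CommRingCat.of F :=
    CommRingCat.ofHom (((pullback.snd f g).residueFieldMap w).hom.codRestrict F.toSubring h2)
  have ha : a ≫ ιF = (pullback.fst f g).residueFieldMap w := rfl
  have hb : b ≫ ιF = (pullback.snd f g).residueFieldMap w := rfl
  have hmono : Mono ιF := ConcreteCategory.mono_of_injective _ hιF
  have hcomp : ((S.residueFieldCongr (Triplet.ofPoint w).hx).inv ≫
      f.residueFieldMap (Triplet.ofPoint w).x) ≫ a =
      ((S.residueFieldCongr (Triplet.ofPoint w).hy).inv ≫
        g.residueFieldMap (Triplet.ofPoint w).y) ≫ b := by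
    rw [← cancel_mono ιF]
    simp only [Category.assoc]
    rw [ha, hb]
    simpa only [Category.assoc] using residueFieldCongr_inv_residueFieldMap_ofPoint w
  let d : (Triplet.ofPoint w).tensor ⟶ CommRingCat.of F := pushout.desc a b hcomp
  have hd : d ≫ ιF = ofPointTensor w := by
    apply pushout.hom_ext
    · rw [pushout.inl_desc_assoc, ha]
      exact (pushout.inl_desc _ _ _).symm
    · rw [pushout.inr_desc_assoc, hb]
      exact (pushout.inr_desc _ _ _).symm
  rw [← hd]
  exact (d t).2

theorem subfield_eq_top_aux (T : Triplet f g) (p : Spec T.tensor)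
    (F : Subfield ((pullback f g).residueField (T.SpecTensorTo p)))
    (h1 : ∀ a, (pullback.fst f g).residueFieldMap (T.SpecTensorTo p) a ∈ F)
    (h2 : ∀ b, (pullback.snd f g).residueFieldMap (T.SpecTensorTo p) b ∈ F) : F = ⊤ := by
  rw [eq_top_iff]
  intro z _
  have key : (Triplet.tensorCongr (T.ofPoint_SpecTensorTo p).symm).hom ≫
      ofPointTensor (T.SpecTensorTo p) ≫ Scheme.Hom.residueFieldMap T.SpecTensorTo p =
      toResidueField T.tensor p := by
    apply Spec.map_injective
    rw [SpecMap_toResidueField, Spec.map_comp, Spec.map_comp, Category.assoc]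
    exact Triplet.Spec_ofPointTensor_SpecTensorTo T p
  obtain ⟨a, b, hb, hab⟩ := exists_toResidueField_div T.tensor p
    (Scheme.Hom.residueFieldMap T.SpecTensorTo p z)
  set tc := (Triplet.tensorCongr (T.ofPoint_SpecTensorTo p).symm).hom
  have hinj : Function.Injective (Scheme.Hom.residueFieldMap T.SpecTensorTo p) :=
    (Scheme.Hom.residueFieldMap T.SpecTensorTo p).hom.injective
  have hka : ∀ c, toResidueField T.tensor p c =
      Scheme.Hom.residueFieldMap T.SpecTensorTo p (ofPointTensor (T.SpecTensorTo p) (tc c)) := by
    intro c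
    rw [← key]
    rfl
  rw [hka a, hka b] at hab
  have hab' : z * ofPointTensor (T.SpecTensorTo p) (tc b) =
      ofPointTensor (T.SpecTensorTo p) (tc a) := by
    apply hinj
    rw [← hab]
    exact map_mul (Scheme.Hom.residueFieldMap T.SpecTensorTo p).hom _ _
  have hb' : ofPointTensor (T.SpecTensorTo p) (tc b) ≠ 0 := by
    intro h0
    apply hb
    rw [hka b, h0, map_zero]
  have hz : z = ofPointTensor (T.SpecTensorTo p) (tc a) / ofPointTensor (T.SpecTensorTo p) (tc b) := by
    rw [eq_div_iff hb', hab']
  rw [hz]
  exact F.div_mem (ofPointTensor_mem_subfield _ F h1 h2 _) (ofPointTensor_mem_subfield _ F h1 h2 _)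

/-- **Generation**: the residue field of a point of a fibre product is generated, as a field, by the
images of the residue fields of its two projections. -/
theorem subfield_eq_top (w : ↑(pullback f g))
    (F : Subfield ((pullback f g).residueField w))
    (h1 : ∀ a, (pullback.fst f g).residueFieldMap w a ∈ F)
    (h2 : ∀ b, (pullback.snd f g).residueFieldMap w b ∈ F) : F = ⊤ := by
  obtain ⟨⟨T, p⟩, rfl⟩ := (carrierEquiv (f := f) (g := g)).symm.surjective w
  exact subfield_eq_top_aux T p F h1 h2

set_option backward.isDefEq.respectTransparency false in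
/-- If `κ(g y) → κ(y)` is bijective then `κ(x) → κ(w)` is bijective for every point `w` of the
fibre product over `(x, y)`. -/
theorem bijective_fst_residueFieldMap (w : ↑(pullback f g))
    (hg : Function.Bijective (g.residueFieldMap (pullback.snd f g w))) :
    Function.Bijective ((pullback.fst f g).residueFieldMap w) := by
  refine ⟨((pullback.fst f g).residueFieldMap w).hom.injective, ?_⟩
  have hF := subfield_eq_top w ((pullback.fst f g).residueFieldMap w).hom.fieldRange
    (fun a => ⟨a, rfl⟩) (by
      intro b
      obtain ⟨t, rfl⟩ := hg.2 b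
      have h := residueFieldCongr_inv_residueFieldMap_ofPoint w
      have h' := congr($h ((S.residueFieldCongr (Triplet.ofPoint w).hy).hom t))
      have e1 : (S.residueFieldCongr (Triplet.ofPoint w).hy).inv
          ((S.residueFieldCongr (Triplet.ofPoint w).hy).hom t) = t := by
        change ((S.residueFieldCongr (Triplet.ofPoint w).hy).hom ≫
          (S.residueFieldCongr (Triplet.ofPoint w).hy).inv) t = t
        rw [Iso.hom_inv_id]
        rfl
      refine ⟨f.residueFieldMap _ ((S.residueFieldCongr (Triplet.ofPoint w).hx).inv
        ((S.residueFieldCongr (Triplet.ofPoint w).hy).hom t)), ?_⟩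
      refine h'.trans ?_
      change (pullback.snd f g).residueFieldMap w (g.residueFieldMap _
        ((S.residueFieldCongr (Triplet.ofPoint w).hy).inv
          ((S.residueFieldCongr (Triplet.ofPoint w).hy).hom t))) = _
      rw [e1])
  intro z
  have : z ∈ ((pullback.fst f g).residueFieldMap w).hom.fieldRange := by rw [hF]; trivial
  exact this

set_option backward.isDefEq.respectTransparency false in
theorem subsingleton_spec_tensor (T : Triplet f g)
    (hg : Function.Bijective (g.residueFieldMap T.y)) : Subsingleton (Spec T.tensor) := by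
  have h1 : IsIso (g.residueFieldMap T.y) := (ConcreteCategory.isIso_iff_bijective _).mpr hg
  have h2 : IsIso ((S.residueFieldCongr T.hy).inv ≫ g.residueFieldMap T.y) := inferInstance
  have h3 : IsIso T.tensorInl := by
    unfold Triplet.tensorInl
    infer_instance
  let e := (asIso T.tensorInl).commRingCatIsoToRingEquiv
  have : Subsingleton (PrimeSpectrum (X.residueField T.x)) := inferInstance
  exact (PrimeSpectrum.comapEquiv e).symm.subsingleton

/-- If `κ(g y) → κ(y)` is bijective, there is at most one point of the fibre product over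
`(x, y)`. -/
theorem eq_of_fst_eq_of_snd_eq (w w' : ↑(pullback f g))
    (h1 : pullback.fst f g w = pullback.fst f g w')
    (h2 : pullback.snd f g w = pullback.snd f g w')
    (hg : Function.Bijective (g.residueFieldMap (pullback.snd f g w'))) : w = w' := by
  apply (carrierEquiv (f := f) (g := g)).injective
  apply carrierEquiv_eq_iff.mpr
  have e : Triplet.ofPoint w = Triplet.ofPoint w' := Triplet.ext h1 h2
  refine ⟨e, ?_⟩
  have : Subsingleton (Spec (carrierEquiv w').1.tensor) :=
    subsingleton_spec_tensor (Triplet.ofPoint w') hg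
  exact Subsingleton.elim _ _

end Groth.Agent.Lib.Helper20.ResFld
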