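import Groth.Agent.Lib.Helper4VarDim4
import Mathlib.Topology.LocallyClosed

/-!
# Dimension of (locally closed subsets of) schemes locally of finite type over a field

`trdegNat k X x` is the transcendence degree of `κ(x)` over `k` as a natural number.
Main results: for `T ⊆ X` locally closed,
`topologicalKrullDim T = ⨆ t : T, trdegNat k X t`.
-/

set_option autoImplicit false
set_option linter.style.haveILetI false
universe u

open AlgebraicGeometry CategoryTheory TopologicalSpace Topology

namespace Groth.Agent.Lib.Helper4.VarDim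

section Top

theorem fin_le_of_strictMono {n : ℕ} (g : Fin (n + 1) → ℕ) (hg : StrictMono g) :
    ∀ i : Fin (n + 1), (i : ℕ) ≤ g i := by
  rintro ⟨i, hi⟩
  induction i with
  | zero => exact Nat.zero_le _
  | succ j ih =>
    have h1 := ih (by omega)
    have h2 : g ⟨j, by omega⟩ < g ⟨j + 1, hi⟩ := hg (by simp [Fin.lt_def])
    simp only at h1 ⊢
    omega

/-- Upper bound for the Krull dimension of a quasi-sober space via a rank function strictly
decreasing under proper specialization. -/
theorem topologicalKrullDim_le_of_rank {T : Type*} [TopologicalSpace T] [QuasiSober T] (h : T → ℕ)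
    (hstrict : ∀ t t' : T, t ⤳ t' → t ≠ t' → h t' < h t) (d : WithBot ℕ∞)
    (hd : ∀ t, ((h t : ℕ) : WithBot ℕ∞) ≤ d) : topologicalKrullDim T ≤ d := by
  unfold topologicalKrullDim Order.krullDim
  refine iSup_le fun p => ?_
  have hgen : ∀ i, ∃ t : T, IsGenericPoint t (p i : Set T) := fun i =>
    QuasiSober.sober (p i).2 (p i).3
  choose t ht using hgen
  have hmono : StrictMono fun i => h (t i) := by
    intro i j hij
    have hlt : p i < p j := p.strictMono hij
    have hsub : (p i : Set T) ⊆ p j := hlt.le
    have hsp : t j ⤳ t i := (ht j).specializes (hsub (ht i).mem)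
    refine hstrict _ _ hsp ?_
    intro heq
    have : (p i : Set T) = p j := by rw [← (ht i).def, ← (ht j).def, heq]
    exact hlt.ne (IrreducibleCloseds.ext this)
  have h1 := fin_le_of_strictMono _ hmono (Fin.last p.length)
  simp only [Fin.val_last] at h1
  refine le_trans ?_ (hd (t (Fin.last p.length)))
  exact_mod_cast h1

theorem quasiSober_of_isLocallyClosed {α : Type*} [TopologicalSpace α] [QuasiSober α] (T : Set α)
    (hT : IsLocallyClosed T) : QuasiSober T := by
  obtain ⟨U, Z, hU, hZ, rfl⟩ := hT
  haveI : QuasiSober U := hU.isOpenEmbedding_subtypeVal.quasiSober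
  exact QuasiSober.inter_of_isClosed_of_quasiSober_left U hZ

/-- In a quasi-sober space, a maximal point with a Noetherian open neighbourhood has an open
neighbourhood contained in its closure. -/
theorem exists_opens_subset_closure_of_maximal {α : Type*} [TopologicalSpace α] [QuasiSober α]
    (U : Opens α) [NoetherianSpace U] (η : α) (hη : η ∈ U) (hmax : ∀ y : α, y ⤳ η → y = η) :
    ∃ N : Opens α, η ∈ N ∧ (N : Set α) ⊆ closure {η} := by
  haveI : QuasiSober U := U.isOpen.isOpenEmbedding_subtypeVal.quasiSober
  have hfin : (irreducibleComponents U).Finite := NoetherianSpace.finite_irreducibleComponents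
  let S : Set (Set U) := {W ∈ irreducibleComponents U | (⟨η, hη⟩ : U) ∉ W}
  have hSfin : S.Finite := hfin.subset (fun W hW => hW.1)
  have hclosed : IsClosed (⋃₀ S) := by
    rw [Set.sUnion_eq_biUnion]
    exact hSfin.isClosed_biUnion fun W hW => isClosed_of_mem_irreducibleComponents W hW.1
  have hopen : IsOpen (Subtype.val '' (⋃₀ S)ᶜ : Set α) :=
    U.isOpen.isOpenMap_subtype_val _ hclosed.isOpen_compl
  refine ⟨⟨_, hopen⟩, ⟨⟨η, hη⟩, ?_, rfl⟩, ?_⟩
  · rintro ⟨W, hW, hηW⟩
    exact hW.2 hηW
  · rintro _ ⟨u, hu, rfl⟩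
    have hW := irreducibleComponent_mem_irreducibleComponents u
    have hηW : (⟨η, hη⟩ : U) ∈ irreducibleComponent u := by
      by_contra hcon
      exact hu ⟨_, ⟨hW, hcon⟩, mem_irreducibleComponent⟩
    obtain ⟨w, hw⟩ := QuasiSober.sober hW.1 (isClosed_of_mem_irreducibleComponents _ hW)
    have h1 : w ⤳ (⟨η, hη⟩ : U) := hw.specializes hηW
    have h2 : (w : α) ⤳ η := h1.map continuous_subtype_val
    have h3 : (w : α) = η := hmax _ h2
    have h4 : w ⤳ u := hw.specializes mem_irreducibleComponent
    have h5 : (w : α) ⤳ (u : α) := h4.map continuous_subtype_val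
    rw [h3] at h5
    exact specializes_iff_mem_closure.mp h5

end Top

section Field

variable (k : Type u) [Field k] (X : Scheme.{u}) [X.Over (Spec (CommRingCat.of k))]

attribute [local instance] sectionsAlgebra Curv2.resAlgebra

/-- The transcendence degree over `k` of the residue field at `x`, as a natural number. -/
noncomputable def trdegNat (x : X) : ℕ := Cardinal.toNat (Algebra.trdeg k (X.residueField x))

variable [LocallyOfFiniteType (X ↘ Spec (CommRingCat.of k))]

theorem trdeg_eq_trdegNat (x : X) :
    Algebra.trdeg k (X.residueField x) = (trdegNat k X x : Cardinal.{u}) := by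
  obtain ⟨U, hU, hx, -⟩ := exists_isAffineOpen_mem_and_subset (U := ⊤) (x := x) trivial
  obtain ⟨n, hn, -⟩ := exists_trdeg_eq_dim k X hU x hx
  unfold trdegNat
  rw [hn, Cardinal.toNat_natCast]

omit [LocallyOfFiniteType (X ↘ Spec (CommRingCat.of k))] in
theorem trdegNat_eq_of_trdeg_eq (x : X) (n : ℕ) (h : Algebra.trdeg k (X.residueField x) = n) :
    trdegNat k X x = n := by
  unfold trdegNat
  rw [h, Cardinal.toNat_natCast]

theorem trdegNat_le_of_specializes (x x' : X) (h : x ⤳ x') :
    trdegNat k X x' ≤ trdegNat k X x := by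
  obtain ⟨m, n, hm, hn, hle, -⟩ := trdeg_le_of_specializes k X x x' h
  rw [trdegNat_eq_of_trdeg_eq k X x m hm, trdegNat_eq_of_trdeg_eq k X x' n hn]
  exact hle

theorem trdegNat_lt_of_specializes (x x' : X) (h : x ⤳ x') (hne : x ≠ x') :
    trdegNat k X x' < trdegNat k X x := by
  obtain ⟨m, n, hm, hn, hle, heq⟩ := trdeg_le_of_specializes k X x x' h
  rw [trdegNat_eq_of_trdeg_eq k X x m hm, trdegNat_eq_of_trdeg_eq k X x' n hn]
  rcases hle.lt_or_eq with h1 | h1
  · exact h1
  · exact absurd (heq h1.symm) hne

/-- Lower bound: `trdeg κ(x) ≤ dim T` as soon as `T` contains `closure {x} ∩ U` for an affine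
open neighbourhood `U` of `x`. -/
theorem trdegNat_le_topologicalKrullDim_of_subset {U : X.Opens} (hU : IsAffineOpen U) (x : X)
    (hx : x ∈ U) (T : Set X) (hT : closure {x} ∩ (U : Set X) ⊆ T) :
    ((trdegNat k X x : ℕ) : WithBot ℕ∞) ≤ topologicalKrullDim T := by
  obtain ⟨n, hn, hdim⟩ := exists_trdeg_eq_dim k X hU x hx
  rw [trdegNat_eq_of_trdeg_eq k X x n hn]
  set p := (hU.primeIdealOf ⟨x, hx⟩).asIdeal with hp
  let ψ : PrimeSpectrum (Γ(X, U) ⧸ p) → X := fun q =>
    hU.fromSpec (PrimeSpectrum.comap (Ideal.Quotient.mk p) q)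
  have hψ : IsInducing ψ :=
    hU.fromSpec.isOpenEmbedding.isInducing.comp
      (PrimeSpectrum.isClosedEmbedding_comap_of_surjective _ _
        Ideal.Quotient.mk_surjective).isInducing
  have hr : ∀ q, ψ q ∈ T := by
    intro q
    refine hT ⟨?_, fromSpec_mem hU _⟩
    rw [← specializes_iff_mem_closure,
      ← primeIdealOf_le_iff hU x (ψ q) hx (fromSpec_mem hU _), primeIdealOf_fromSpec hU]
    intro a ha
    change Ideal.Quotient.mk p a ∈ q.asIdeal
    rw [Ideal.Quotient.eq_zero_iff_mem.mpr ha]
    exact zero_mem _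
  have h1 := (hψ.codRestrict hr).topologicalKrullDim_le
  rwa [PrimeSpectrum.topologicalKrullDim_eq_ringKrullDim, hdim] at h1

theorem topologicalKrullDim_univ_eq {α : Type*} [TopologicalSpace α] :
    topologicalKrullDim (Set.univ : Set α) = topologicalKrullDim α :=
  IsHomeomorph.topologicalKrullDim_eq _ (Homeomorph.Set.univ α).isHomeomorph

theorem trdegNat_le_topologicalKrullDim (x : X) :
    ((trdegNat k X x : ℕ) : WithBot ℕ∞) ≤ topologicalKrullDim X := by
  obtain ⟨U, hU, hx, -⟩ := exists_isAffineOpen_mem_and_subset (U := ⊤) (x := x) trivial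
  have := trdegNat_le_topologicalKrullDim_of_subset k X hU x hx Set.univ (Set.subset_univ _)
  rwa [topologicalKrullDim_univ_eq] at this

theorem trdegNat_le_topologicalKrullDim_of_isLocallyClosed (T : Set X) (hT : IsLocallyClosed T)
    (x : X) (hx : x ∈ T) : ((trdegNat k X x : ℕ) : WithBot ℕ∞) ≤ topologicalKrullDim T := by
  obtain ⟨V, Z, hV, hZ, rfl⟩ := hT
  obtain ⟨U, hU, hxU, hUV⟩ := exists_isAffineOpen_mem_and_subset (U := ⟨V, hV⟩) (x := x) hx.1
  refine trdegNat_le_topologicalKrullDim_of_subset k X hU x hxU _ ?_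
  rintro y ⟨hy1, hy2⟩
  refine ⟨hUV hy2, ?_⟩
  exact (closure_minimal (Set.singleton_subset_iff.mpr hx.2) hZ) hy1

/-- Upper bound for subspaces that are quasi-sober. -/
theorem topologicalKrullDim_le_of_forall_trdegNat_le (T : Set X) [QuasiSober T] (d : WithBot ℕ∞)
    (hd : ∀ t ∈ T, ((trdegNat k X t : ℕ) : WithBot ℕ∞) ≤ d) : topologicalKrullDim T ≤ d := by
  refine topologicalKrullDim_le_of_rank (fun t : T => trdegNat k X t) ?_ d (fun t => hd t t.2)
  intro t t' hsp hne
  refine trdegNat_lt_of_specializes k X t t' (hsp.map continuous_subtype_val) ?_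
  exact fun h => hne (Subtype.ext h)

theorem topologicalKrullDim_le_of_forall_trdegNat_le' (d : WithBot ℕ∞)
    (hd : ∀ t : X, ((trdegNat k X t : ℕ) : WithBot ℕ∞) ≤ d) : topologicalKrullDim X ≤ d :=
  topologicalKrullDim_le_of_rank (fun t : X => trdegNat k X t)
    (fun t t' hsp hne => trdegNat_lt_of_specializes k X t t' hsp hne) d hd

theorem topologicalKrullDim_eq_iSup_trdegNat :
    topologicalKrullDim X = ⨆ x : X, ((trdegNat k X x : ℕ) : WithBot ℕ∞) := by
  apply le_antisymm
  · exact topologicalKrullDim_le_of_forall_trdegNat_le' k X _ fun t => le_iSup_of_le t le_rfl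
  · exact iSup_le fun x => trdegNat_le_topologicalKrullDim k X x

theorem topologicalKrullDim_eq_iSup_trdegNat_of_isLocallyClosed (T : Set X)
    (hT : IsLocallyClosed T) :
    topologicalKrullDim T = ⨆ t : T, ((trdegNat k X t : ℕ) : WithBot ℕ∞) := by
  haveI := quasiSober_of_isLocallyClosed T hT
  apply le_antisymm
  · exact topologicalKrullDim_le_of_forall_trdegNat_le k X T _
      fun t ht => le_iSup_of_le (⟨t, ht⟩ : T) le_rfl
  · exact iSup_le fun t => trdegNat_le_topologicalKrullDim_of_isLocallyClosed k X T hT t t.2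

/-- The dimension of the closure of a point is the transcendence degree of its residue field. -/
theorem topologicalKrullDim_closure_singleton (x : X) :
    topologicalKrullDim (closure ({x} : Set X)) = ((trdegNat k X x : ℕ) : WithBot ℕ∞) := by
  apply le_antisymm
  · haveI := quasiSober_of_isLocallyClosed (closure ({x} : Set X)) isClosed_closure.isLocallyClosed
    refine topologicalKrullDim_le_of_forall_trdegNat_le k X _ _ fun t ht => ?_
    exact_mod_cast trdegNat_le_of_specializes k X x t (specializes_iff_mem_closure.mpr ht)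
  · exact trdegNat_le_topologicalKrullDim_of_isLocallyClosed k X _
      isClosed_closure.isLocallyClosed x (subset_closure rfl)

include k in
/-- A point which is not a specialization of any other point has an open neighbourhood
contained in its closure. -/
theorem exists_opens_subset_closure (η : X) (hmax : ∀ y : X, y ⤳ η → y = η) :
    ∃ N : X.Opens, η ∈ N ∧ (N : Set X) ⊆ closure {η} := by
  obtain ⟨U, hU, hx, -⟩ := exists_isAffineOpen_mem_and_subset (U := ⊤) (x := η) trivial
  haveI := finiteType_sections k X hU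
  haveI : IsNoetherianRing Γ(X, U) := Algebra.FiniteType.isNoetherianRing k Γ(X, U)
  have hN : NoetherianSpace ((U : Set X) : Type u) := noetherianSpace_of_isAffineOpen U hU
  exact @exists_opens_subset_closure_of_maximal X _ _ U hN η hx hmax

/-- Every point is a specialization of a maximal point. -/
theorem exists_maximal_specializes (x : X) :
    ∃ η : X, (∀ y : X, y ⤳ η → y = η) ∧ η ⤳ x := by
  obtain ⟨y, hy, hyx⟩ := exists_generic_specializes x
  exact ⟨y, fun z hz => eq_of_specializes_generic y z hy hz, hyx⟩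

end Field

end Groth.Agent.Lib.Helper4.VarDim
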