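import Mathlib
import Groth.Agent.Lib.Helper20ResFld
import Groth.Agent.Lib.Helper10FrobDeg
import Groth.Agent.Lib.Helper4VarDim6

/-!
# Residue degree of the geometric Frobenius at a fixed point
-/

universe u

open CategoryTheory AlgebraicGeometry Opposite

namespace Groth.Agent.Lib.Helper10.FrobGeom

section General

variable {X : Scheme.{u}}

lemma residueFieldCongr_evaluation {x y : X} (h : x = y) (U : X.Opens) (hx : x ∈ U)
    (s : Γ(X, U)) :
    (X.residueFieldCongr h).hom (X.evaluation U x hx s) = X.evaluation U y (h ▸ hx) s := by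
  subst h
  simp

lemma residueFieldCongr_hom_hom {x y : X} (e : x = y) (e' : y = x) (a : X.residueField x) :
    (X.residueFieldCongr e').hom ((X.residueFieldCongr e).hom a) = a := by
  subst e
  simp

lemma exists_evaluation_eq (x : X) (y : X.residueField x) :
    ∃ (U : X.Opens) (hx : x ∈ U) (s : Γ(X, U)), X.evaluation U x hx s = y := by
  obtain ⟨g, rfl⟩ := X.residue_surjective x y
  obtain ⟨U, hx, s, rfl⟩ := X.presheaf.exists_germ_eq g
  exact ⟨U, hx, s, rfl⟩

lemma evaluation_map {U V : X.Opens} (h : U ≤ V) (x : X) (hx : x ∈ U) (z : Γ(X, V)) :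
    X.evaluation U x hx (X.presheaf.map (homOfLE h).op z) = X.evaluation V x (h hx) z := by
  change (X.residue x) ((X.presheaf.germ U x hx) (X.presheaf.map (homOfLE h).op z)) =
    (X.residue x) ((X.presheaf.germ V x (h hx)) z)
  rw [TopCat.Presheaf.germ_res_apply]

/-- A residue-field description of the absolute `q`-Frobenius. -/
lemma residueFieldMap_frob (FX : X ⟶ X) (q : ℕ) (hle : ∀ U : X.Opens, U ≤ FX ⁻¹ᵁ U)
    (hFapp : ∀ (U : X.Opens) (s : Γ(X, U)), (FX.appLE U U (hle U)).hom s = s ^ q)
    (x : X) (hx : x = FX x) (y : X.residueField x) :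
    FX.residueFieldMap x ((X.residueFieldCongr hx).hom y) = y ^ q := by
  obtain ⟨U, hxU, s, rfl⟩ := exists_evaluation_eq x y
  rw [residueFieldCongr_evaluation hx U hxU s, Scheme.evaluation_naturality_apply,
    ← evaluation_map (hle U) x hxU, ← map_pow]
  congr 1
  exact hFapp U s

lemma residueFieldMap_of_comp_eq {P Q : Scheme.{u}} (f : P ⟶ Q) (g : Q ⟶ X) (fg : P ⟶ X)
    (h : f ≫ g = fg) (w : P) (hw : g (f w) = fg w) (a : X.residueField (g (f w))) :
    fg.residueFieldMap w ((X.residueFieldCongr hw).hom a) =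
      f.residueFieldMap w (g.residueFieldMap (f w) a) := by
  subst h
  rw [Scheme.residueFieldMap_comp]
  simp
  rfl

/-- Residue fields of a point of a fibre product (any cartesian square) are generated by the
images of the residue fields of the two projections. -/
theorem subfield_eq_top_of_isPullback {P Y S : Scheme.{u}} {fst : P ⟶ X} {snd : P ⟶ Y}
    {f : X ⟶ S} {g : Y ⟶ S} (h : IsPullback fst snd f g) (w : P)
    (F : Subfield (P.residueField w))
    (h1 : ∀ a, fst.residueFieldMap w a ∈ F) (h2 : ∀ b, snd.residueFieldMap w b ∈ F) : F = ⊤ := by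
  set e := h.isoPullback with he
  have hfst : e.hom ≫ Limits.pullback.fst f g = fst := h.isoPullback_hom_fst
  have hsnd : e.hom ≫ Limits.pullback.snd f g = snd := h.isoPullback_hom_snd
  set ρ := e.hom.residueFieldMap w with hρ
  have key := Groth.Agent.Lib.Helper20.ResFld.subfield_eq_top (f := f) (g := g) (e.hom w)
    (F.comap ρ.hom) (by
      intro a
      rw [Subfield.mem_comap]
      have h3 := residueFieldMap_of_comp_eq e.hom (Limits.pullback.fst f g) fst hfst w
        (by rw [← hfst]; rfl) a
      have h4 := h1 ((X.residueFieldCongr (by rw [← hfst]; rfl)).hom a)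
      rw [h3] at h4
      exact h4) (by
      intro b
      rw [Subfield.mem_comap]
      have h3 := residueFieldMap_of_comp_eq e.hom (Limits.pullback.snd f g) snd hsnd w
        (by rw [← hsnd]; rfl) b
      have h4 := h2 ((Y.residueFieldCongr (by rw [← hsnd]; rfl)).hom b)
      rw [h3] at h4
      exact h4)
  rw [eq_top_iff]
  intro z _
  obtain ⟨z', rfl⟩ : ∃ z', ρ z' = z :=
    (ConcreteCategory.bijective_of_isIso ρ).surjective z
  have : z' ∈ F.comap ρ.hom := by rw [key]; trivial
  exact this

end General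

section Frob

variable {k₀ : Type u} [Field k₀] [Finite k₀] {X : Scheme.{u}} (f : X ⟶ Spec (CommRingCat.of k₀))
  (FX : X ⟶ X) (hle : ∀ U : X.Opens, U ≤ FX ⁻¹ᵁ U)
  (hFapp : ∀ (U : X.Opens) (s : Γ(X, U)), (FX.appLE U U (hle U)).hom s = s ^ Nat.card k₀)

include hFapp in
/-- The absolute `q`-Frobenius of a scheme over the field with `q` elements is a morphism over
that field. -/
lemma frob_comp : FX ≫ f = f := by
  apply ext_of_isAffine
  rw [Scheme.Hom.comp_appTop]
  ext c
  have h1 : FX.appTop (f.appTop c) = (f.appTop c) ^ Nat.card k₀ := by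
    have := hFapp ⊤ (f.appTop c)
    rw [← this, Scheme.Hom.appTop, Scheme.Hom.app_eq_appLE]
    rfl
  have h2 : c ^ Nat.card k₀ = c := by
    obtain ⟨c', rfl⟩ := (ConcreteCategory.bijective_of_isIso
      (Scheme.ΓSpecIso (CommRingCat.of k₀)).inv).surjective c
    rw [← map_pow]
    congr 1
    haveI := Fintype.ofFinite k₀
    rw [Nat.card_eq_fintype_card]
    exact FiniteField.pow_card c'
  change FX.appTop (f.appTop c) = f.appTop c
  rw [h1, ← map_pow, h2]

variable (hFb : FX.base = 𝟙 _) {k : Type u} [Field k] [Algebra k₀ k]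
  (Y : Scheme.{u}) [Y.Over (Spec (CommRingCat.of k))] (π : Y ⟶ X)
  (hπ : IsPullback π (Y ↘ Spec (CommRingCat.of k)) f
    (Spec.map (CommRingCat.ofHom (algebraMap k₀ k))))
  (G : Y ⟶ Y) (hG : G ≫ π = π ≫ FX)
  (hGk : G ≫ (Y ↘ Spec (CommRingCat.of k)) = Y ↘ Spec (CommRingCat.of k))

include hFapp hπ hG hGk in
lemma isPullback_frob : IsPullback G π π FX :=
  IsPullback.of_right (by rw [hGk, frob_comp f FX hle hFapp]; exact hπ.flip) hG hπ.flip

include hFb in
lemma frob_apply (x : X) : FX x = x := by
  change FX.base x = x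
  rw [hFb]
  rfl

include hFapp hπ hG hGk hFb in
lemma surjective_frob : Surjective G := by
  have hFX : Surjective FX := ⟨fun x => ⟨x, frob_apply FX hFb x⟩⟩
  exact MorphismProperty.of_isPullback (isPullback_frob f FX hle hFapp Y π hπ G hG hGk).flip hFX

include hFapp hπ hG hGk hFb in
lemma frob_genericPoint [IrreducibleSpace Y] : G (genericPoint Y) = genericPoint Y := by
  have hs := (surjective_frob f FX hle hFapp hFb Y π hπ G hG hGk).surj
  have h1 : IsGenericPoint (G (genericPoint Y)) (⊤ : Set Y) := by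
    rw [isGenericPoint_def]
    apply eq_top_iff.mpr
    have := image_closure_subset_closure_image G.continuous (s := {genericPoint Y})
    rw [(genericPoint_spec Y).def, Set.image_singleton] at this
    refine le_trans ?_ this
    rintro y -
    obtain ⟨x, rfl⟩ := hs y
    exact ⟨x, trivial, rfl⟩
  exact h1.eq (genericPoint_spec Y)

end Frob

section Degree

open Groth.Agent.Lib.Helper4.VarDim

attribute [local instance] sectionsAlgebra Curv2.resAlgebra

variable {k : Type u} [Field k] (Y : Scheme.{u}) [Y.Over (Spec (CommRingCat.of k))]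

lemma residueFieldCongr_resMap {x y : Y} (h : x = y) (c : k) :
    (Y.residueFieldCongr h).hom (Curv2.resMap k Y x c) = Curv2.resMap k Y y c := by
  subst h
  simp

lemma resMap_eq (x : Y) (c : k) :
    Curv2.resMap k Y x c = Y.Γevaluation x
      ((Y ↘ Spec (CommRingCat.of k)).appTop ((Scheme.ΓSpecIso (CommRingCat.of k)).inv c)) := rfl

/-- The residue field map of a `k`-endomorphism is `k`-linear. -/
lemma residueFieldMap_resMap (G : Y ⟶ Y)
    (hGk : G ≫ (Y ↘ Spec (CommRingCat.of k)) = Y ↘ Spec (CommRingCat.of k)) (x : Y) (c : k) :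
    G.residueFieldMap x (Curv2.resMap k Y (G x) c) = Curv2.resMap k Y x c := by
  rw [resMap_eq, resMap_eq, Scheme.Γevaluation_naturality_apply]
  congr 1
  rw [← CommRingCat.comp_apply, ← Scheme.Hom.comp_appTop, hGk]

/-- The structure map `k → κ(p)` for a point of `Spec k` is surjective. -/
lemma exists_Γevaluation_eq (p : Spec (CommRingCat.of k))
    (b : (Spec (CommRingCat.of k)).residueField p) :
    ∃ c : k, (Spec (CommRingCat.of k)).Γevaluation p
      ((Scheme.ΓSpecIso (CommRingCat.of k)).inv c) = b := by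
  have h := Scheme.Spec.algebraMap_residueFieldIso_inv (CommRingCat.of k) p
  obtain ⟨b', rfl⟩ := (ConcreteCategory.bijective_of_isIso
    (Scheme.Spec.residueFieldIso (CommRingCat.of k) p).inv).surjective b
  haveI hp : (PrimeSpectrum.asIdeal p : Ideal k).IsPrime := PrimeSpectrum.isPrime p
  obtain ⟨c, rfl⟩ := (Ideal.algEquivResidueFieldOfField (PrimeSpectrum.asIdeal p : Ideal k)).surjective b'
  refine ⟨c, ?_⟩
  have := congr($h c)
  exact this.symm

/-- Residue fields of a scheme locally of finite type over a field are finitely generated field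
extensions. -/
lemma fg_top_residueField [LocallyOfFiniteType (Y ↘ Spec (CommRingCat.of k))] (x : Y) :
    (⊤ : IntermediateField k (Y.residueField x)).FG := by
  classical
  obtain ⟨U, hU, hx, -⟩ := exists_isAffineOpen_mem_and_subset (U := ⊤) (x := x) trivial
  haveI hft := finiteType_sections k Y hU
  obtain ⟨S₁, hS₁⟩ := hft.out
  refine ⟨S₁.image (evₐ k Y x hx), ?_⟩
  have key : ∀ a : Γ(Y, U), evₐ k Y x hx a ∈
      IntermediateField.adjoin k ((S₁.image (evₐ k Y x hx) : Finset _) : Set (Y.residueField x)) := by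
    intro a
    have ha : a ∈ Algebra.adjoin k (S₁ : Set Γ(Y, U)) := by rw [hS₁]; trivial
    have h1 : evₐ k Y x hx a ∈ (Algebra.adjoin k (S₁ : Set Γ(Y, U))).map (evₐ k Y x hx) :=
      Subalgebra.mem_map.mpr ⟨a, ha, rfl⟩
    rw [AlgHom.map_adjoin] at h1
    rw [Finset.coe_image]
    exact IntermediateField.algebra_adjoin_le_adjoin k _ h1
  rw [eq_top_iff]
  intro z _
  obtain ⟨a, s, rfl⟩ := evₐ_frac k Y hU x hx z
  exact div_mem (key a) (key s)

lemma finrank_toAlgebra_eq {K' L : Type*} [Field K'] [Field L] (ψ : K' →+* L) :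
    @Module.finrank K' L _ _ ψ.toAlgebra.toModule = Module.finrank ψ.fieldRange L := by
  letI := ψ.toAlgebra
  exact Algebra.finrank_eq_of_equiv_equiv ψ.rangeRestrictFieldEquiv (RingEquiv.refl L) (by
    ext a
    rfl)

variable {k₀ : Type u} [Field k₀] [Finite k₀] [Algebra k₀ k] {X : Scheme.{u}}
  (f : X ⟶ Spec (CommRingCat.of k₀))
  (FX : X ⟶ X) (hFb : FX.base = 𝟙 _) (hle : ∀ U : X.Opens, U ≤ FX ⁻¹ᵁ U)
  (hFapp : ∀ (U : X.Opens) (s : Γ(X, U)), (FX.appLE U U (hle U)).hom s = s ^ Nat.card k₀)
  (π : Y ⟶ X)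
  (hπ : IsPullback π (Y ↘ Spec (CommRingCat.of k)) f
    (Spec.map (CommRingCat.ofHom (algebraMap k₀ k))))
  (G : Y ⟶ Y) (hG : G ≫ π = π ≫ FX)
  (hGk : G ≫ (Y ↘ Spec (CommRingCat.of k)) = Y ↘ Spec (CommRingCat.of k))

omit [Finite k₀] in
include hFb hFapp hπ hG hGk in
/-- The residue degree of the geometric Frobenius `G = Frob × id` of `Y = X ×_{k₀} k` at a fixed
point `η` is `q ^ trdeg_k κ(η)`. -/
theorem residueDegree_frob [LocallyOfFiniteType (Y ↘ Spec (CommRingCat.of k))] (η : Y)
    (hη : G η = η) : G.residueDegree η = Nat.card k₀ ^ trdegNat k Y η := by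
  set q := Nat.card k₀ with hq
  set L := Y.residueField η with hL
  let ψ : L →+* L := (G.residueFieldMap η).hom.comp (Y.residueFieldCongr hη.symm).hom.hom
  let φ : L →ₐ[k] L :=
    { ψ with
      commutes' := fun c => by
        change G.residueFieldMap η ((Y.residueFieldCongr hη.symm).hom (Curv2.resMap k Y η c)) =
          Curv2.resMap k Y η c
        rw [residueFieldCongr_resMap, residueFieldMap_resMap Y G hGk] }
  set S : Set L := Set.range (π.residueFieldMap η).hom with hS
  have hφS : ∀ s ∈ S, φ s = s ^ q := by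
    rintro _ ⟨y, rfl⟩
    change G.residueFieldMap η ((Y.residueFieldCongr hη.symm).hom (π.residueFieldMap η y)) =
      (π.residueFieldMap η y) ^ q
    have h1 := Scheme.Hom.residueFieldMap_congr' (f := π) hη.symm
    have h1' := congr($h1 y)
    change (Y.residueFieldCongr hη.symm).hom (π.residueFieldMap η y) = _ at h1'
    rw [h1']
    set a := (X.residueFieldCongr (congrArg π hη.symm)).hom y with ha
    have h2 := residueFieldMap_of_comp_eq G π (π ≫ FX) hG η (by rw [← hG]; rfl) a
    change G.residueFieldMap η (π.residueFieldMap (G η) a) = _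
    rw [← h2, Scheme.residueFieldMap_comp]
    change π.residueFieldMap η (FX.residueFieldMap (π η) _) = _
    rw [← map_pow]
    congr 1
    have hx : π η = FX (π η) := (frob_apply FX hFb (π η)).symm
    rw [← residueFieldMap_frob FX q hle hFapp (π η) hx y]
    congr 1
    rw [ha]
    change ((X.residueFieldCongr _).hom ≫ (X.residueFieldCongr _).hom) y = _
    rw [Scheme.residueFieldCongr_trans_hom]
    rfl
  have hSgen : IntermediateField.adjoin k S = ⊤ := by
    have := subfield_eq_top_of_isPullback hπ η (IntermediateField.adjoin k S).toSubfield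
      (fun a => IntermediateField.subset_adjoin k S ⟨a, rfl⟩) (fun b => by
        obtain ⟨c, rfl⟩ := exists_Γevaluation_eq _ b
        rw [Scheme.Γevaluation_naturality_apply]
        exact (IntermediateField.adjoin k S).algebraMap_mem c)
    rw [eq_top_iff]
    intro z _
    change z ∈ (IntermediateField.adjoin k S).toSubfield
    rw [this]
    trivial
  have key := FrobDeg.finrank_fieldRange_eq_pow φ S hSgen (fg_top_residueField Y η) q hφS
  have hrange : φ.fieldRange.toSubfield = (G.residueFieldMap η).hom.fieldRange := by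
    ext z
    constructor
    · rintro ⟨a, rfl⟩
      exact ⟨_, rfl⟩
    · rintro ⟨a, rfl⟩
      refine ⟨(Y.residueFieldCongr hη).hom a, ?_⟩
      change G.residueFieldMap η ((Y.residueFieldCongr hη.symm).hom
        ((Y.residueFieldCongr hη).hom a)) = _
      rw [residueFieldCongr_hom_hom]
  unfold Scheme.Hom.residueDegree
  rw [finrank_toAlgebra_eq, ← hrange]
  exact key

end Degree

end Groth.Agent.Lib.Helper10.FrobGeom
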