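import Mathlib

/-!
# Closed points of a `k`-scheme locally of finite type and Galois orbits of `k̄`-points (helper10)
-/

set_option autoImplicit false
universe u
open CategoryTheory AlgebraicGeometry

namespace Groth.Agent.Lib.Helper10.GaloisOrbit

/-- Two `k`-embeddings of a field `L` into an algebraic closure `K` of `k` differ by a
`k`-automorphism of `K`. -/
theorem exists_algEquiv_comp {k L K : Type*} [Field k] [Field L] [Field K] [Algebra k L]
    [Algebra k K] [IsAlgClosure k K] (φ₁ φ₂ : L →ₐ[k] K) :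
    ∃ σ : K ≃ₐ[k] K, ∀ a, σ (φ₁ a) = φ₂ a := by
  let e₁ : L ≃ₐ[k] φ₁.fieldRange := AlgEquiv.ofInjectiveField φ₁
  let e₂ : L ≃ₐ[k] φ₂.fieldRange := AlgEquiv.ofInjectiveField φ₂
  let χ : φ₁.fieldRange ≃ₐ[k] φ₂.fieldRange := e₁.symm.trans e₂
  haveI : Normal k K := IsAlgClosure.normal k K
  refine ⟨χ.liftNormal K, fun a => ?_⟩
  have h1 : φ₁ a = algebraMap φ₁.fieldRange K (e₁ a) := rfl
  rw [h1, AlgEquiv.liftNormal_commutes]
  have h2 : χ (e₁ a) = e₂ a := by simp [χ]
  rw [h2]
  rfl

section scheme

variable (k K : Type u) [Field k] [Field K] [Algebra k K] {X : Scheme.{u}}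
  (f : X ⟶ Spec (CommRingCat.of k))

/-- every `K`-point is `Spec κ(x) ⟶ X` precomposed with `Spec` of a field embedding. -/
lemma exists_eq_comp (x : X) (p : Spec (CommRingCat.of K) ⟶ X)
    (hx : p (IsLocalRing.closedPoint K) = x) :
    ∃ φ : X.residueField x ⟶ CommRingCat.of K, p = Spec.map φ ≫ X.fromSpecResidueField x := by
  subst hx
  exact ⟨_, (Scheme.descResidueField_stalkClosedPointTo_fromSpecResidueField K X p).symm⟩

/-- the structure map `k → κ(x)`. -/
noncomputable def resHom (x : X) : CommRingCat.of k ⟶ X.residueField x :=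
  Spec.preimage (X.fromSpecResidueField x ≫ f)

lemma map_resHom (x : X) : Spec.map (resHom k f x) = X.fromSpecResidueField x ≫ f :=
  Spec.map_preimage _

lemma resHom_comp (x : X) (φ : X.residueField x ⟶ CommRingCat.of K)
    (h : (Spec.map φ ≫ X.fromSpecResidueField x) ≫ f =
      Spec.map (CommRingCat.ofHom (algebraMap k K))) :
    resHom k f x ≫ φ = CommRingCat.ofHom (algebraMap k K) := by
  apply Spec.map_injective
  rw [Spec.map_comp, map_resHom, ← h, Category.assoc]

lemma range_eq_singleton (p : Spec (CommRingCat.of K) ⟶ X) :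
    Set.range p = {p (IsLocalRing.closedPoint K)} := by
  ext y
  simp only [Set.mem_range, Set.mem_singleton_iff]
  constructor
  · rintro ⟨t, rfl⟩
    congr 1
    exact Subsingleton.elim (α := PrimeSpectrum K) _ _
  · rintro rfl
    exact ⟨_, rfl⟩

/-- The image of a `K`-point over `k`, `K/k` algebraic, is a closed point. -/
theorem isClosed_of_point [Algebra.IsAlgebraic k K] [LocallyOfFiniteType f]
    (p : Spec (CommRingCat.of K) ⟶ X)
    (hp : p ≫ f = Spec.map (CommRingCat.ofHom (algebraMap k K))) :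
    IsClosed ({p (IsLocalRing.closedPoint K)} : Set X) := by
  haveI : JacobsonSpace X := LocallyOfFiniteType.jacobsonSpace f
  haveI : IsIntegralHom (p ≫ f) := by
    rw [hp, IsIntegralHom.SpecMap_iff]
    exact algebraMap_isIntegral_iff.mpr inferInstance
  obtain ⟨U, hU, hxU, -⟩ := exists_isAffineOpen_mem_and_subset (U := ⊤)
    (x := p (IsLocalRing.closedPoint K)) trivial
  have hrange : Set.range p ⊆ Set.range U.ι := by
    rw [range_eq_singleton, Set.singleton_subset_iff, Scheme.Opens.range_ι]
    exact hxU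
  let p' := IsOpenImmersion.lift U.ι p hrange
  have hp' : p' ≫ U.ι = p := IsOpenImmersion.lift_fac U.ι p hrange
  haveI : IsAffine U := hU
  haveI : UniversallyClosed (p' ≫ (U.ι ≫ f)) := by
    rw [← Category.assoc, hp']; infer_instance
  haveI : UniversallyClosed p' := UniversallyClosed.of_comp_of_isSeparated p' (U.ι ≫ f)
  have hcl : IsClosed (Set.range p') := p'.isClosedMap.isClosed_range
  apply isClosed_singleton_of_isLocallyClosed_singleton
  have := hcl.isLocallyClosed.image U.ι.isOpenEmbedding.isInducing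
    U.ι.isOpenEmbedding.isOpen_range.isLocallyClosed
  rw [← Set.range_comp] at this
  have h3 : (⇑U.ι ∘ ⇑p') = ⇑p := by
    funext t
    rw [← hp']
    rfl
  rwa [h3, range_eq_singleton] at this

/-- Two `K`-points over `k` with the same image differ by an automorphism of `K`. -/
theorem exists_algEquiv_of_eq [IsAlgClosure k K] (p q : Spec (CommRingCat.of K) ⟶ X)
    (hp : p ≫ f = Spec.map (CommRingCat.ofHom (algebraMap k K)))
    (hq : q ≫ f = Spec.map (CommRingCat.ofHom (algebraMap k K)))
    (h : p (IsLocalRing.closedPoint K) = q (IsLocalRing.closedPoint K)) :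
    ∃ σ : K ≃ₐ[k] K, q = Spec.map (CommRingCat.ofHom σ.toRingHom) ≫ p := by
  obtain ⟨x, hxp⟩ : ∃ x, p (IsLocalRing.closedPoint K) = x := ⟨_, rfl⟩
  have hxq : q (IsLocalRing.closedPoint K) = x := by rw [← h]; exact hxp
  obtain ⟨φp, rfl⟩ := exists_eq_comp K x p hxp
  obtain ⟨φq, rfl⟩ := exists_eq_comp K x q hxq
  have h1 := resHom_comp k K f x φp hp
  have h2 := resHom_comp k K f x φq hq
  letI : Algebra k (X.residueField x) := (resHom k f x).hom.toAlgebra
  let φ₁ : X.residueField x →ₐ[k] K :=
    { φp.hom with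
      commutes' := fun a => congrArg (fun g : CommRingCat.of k ⟶ CommRingCat.of K => g.hom a) h1 }
  let φ₂ : X.residueField x →ₐ[k] K :=
    { φq.hom with
      commutes' := fun a => congrArg (fun g : CommRingCat.of k ⟶ CommRingCat.of K => g.hom a) h2 }
  obtain ⟨σ, hσ⟩ := exists_algEquiv_comp φ₁ φ₂
  refine ⟨σ, ?_⟩
  rw [← Category.assoc, ← Spec.map_comp]
  congr 2
  ext a
  exact (hσ a).symm

/-- a closed point of a scheme locally of finite type over `k` underlies a `K`-point, `K`
algebraically closed (argument of helper11's `exists_point_of_closedPoint`). -/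
theorem exists_point_of_isClosed [IsAlgClosed K] [LocallyOfFiniteType f] (x : X)
    (hx : IsClosed ({x} : Set X)) :
    ∃ p : Spec (CommRingCat.of K) ⟶ X,
      p ≫ f = Spec.map (CommRingCat.ofHom (algebraMap k K)) ∧
        p (IsLocalRing.closedPoint K) = x := by
  have hfin : IsFinite (X.fromSpecResidueField x ≫ f) := by
    rw [isClosed_singleton_iff_isClosedImmersion] at hx
    rw [isFinite_iff_locallyOfFiniteType_of_jacobsonSpace]
    infer_instance
  have hφ := map_resHom k f x
  have hint : (resHom k f x).hom.IsIntegral := by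
    rw [← IsIntegralHom.SpecMap_iff, hφ]; infer_instance
  algebraize [(resHom k f x).hom]
  have halg : Algebra.IsAlgebraic k (X.residueField x) := by
    have : Algebra.IsIntegral k (X.residueField x) := ⟨hint⟩
    infer_instance
  obtain ⟨ψ⟩ : Nonempty (X.residueField x →ₐ[k] K) := ⟨IsAlgClosed.lift⟩
  refine ⟨Spec.map (CommRingCat.ofHom ψ.toRingHom) ≫ X.fromSpecResidueField x, ?_, ?_⟩
  · rw [Category.assoc, ← hφ, ← Spec.map_comp]
    congr 1
    ext a
    exact ψ.commutes a
  · exact (Scheme.Hom.comp_apply _ _ _).trans (Scheme.fromSpecResidueField_apply x _)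

/-- S10828. -/
theorem main [IsAlgClosure k K] [LocallyOfFiniteType f] :
    (∀ x : X, IsClosed ({x} : Set X) ↔
        ∃ p : Spec (CommRingCat.of K) ⟶ X,
          p ≫ f = Spec.map (CommRingCat.ofHom (algebraMap k K)) ∧
          p.base (IsLocalRing.closedPoint K) = x) ∧
      ∀ p q : Spec (CommRingCat.of K) ⟶ X,
        p ≫ f = Spec.map (CommRingCat.ofHom (algebraMap k K)) →
        q ≫ f = Spec.map (CommRingCat.ofHom (algebraMap k K)) →
          (p.base (IsLocalRing.closedPoint K) = q.base (IsLocalRing.closedPoint K) ↔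
            ∃ σ : K ≃ₐ[k] K, q = Spec.map (CommRingCat.ofHom σ.toRingHom) ≫ p) := by
  haveI : IsAlgClosed K := IsAlgClosure.isAlgClosed k
  haveI : Algebra.IsAlgebraic k K := IsAlgClosure.isAlgebraic
  refine ⟨fun x => ⟨fun hx => exists_point_of_isClosed k K f x hx, ?_⟩, fun p q hp hq => ⟨?_, ?_⟩⟩
  · rintro ⟨p, hp, rfl⟩
    exact isClosed_of_point k K f p hp
  · exact exists_algEquiv_of_eq k K f p q hp hq
  · rintro ⟨σ, rfl⟩
    show p (IsLocalRing.closedPoint K) = p (Spec.map (CommRingCat.ofHom σ.toRingHom)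
      (IsLocalRing.closedPoint K))
    congr 1
    exact Subsingleton.elim (α := PrimeSpectrum K) _ _

end scheme

end Groth.Agent.Lib.Helper10.GaloisOrbit
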