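import Groth.Agent.Lib.Helper10WeilGen
import Groth.Prelude.Def_ChowOps

/-!
# Weil cohomology: degree of zero-cycles
-/

universe u v

open AlgebraicGeometry CategoryTheory CategoryTheory.Limits

namespace Groth.Agent.Lib.Helper10.WeilPt

section Surj

variable (k : Type u) [Field k]

set_option backward.isDefEq.respectTransparency.types false in
/-- `k → κ(y)` is surjective for a point `y` of `Spec k`. -/
lemma surjective_preimage_fromSpecResidueField (y : PrimeSpectrum k) :
    Function.Surjective
      (Spec.preimage ((Spec (CommRingCat.of k)).fromSpecResidueField y)).hom := by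
  have h1 : (Spec (CommRingCat.of k)).fromSpecResidueField y =
      Spec.map (StructureSheaf.toStalk k y ≫ (Spec (CommRingCat.of k)).residue y) := by
    unfold Scheme.fromSpecResidueField
    rw [Spec.fromSpecStalk_eq']
    exact (Spec.map_comp _ _).symm
  have h2 : Spec.preimage ((Spec (CommRingCat.of k)).fromSpecResidueField y) =
      StructureSheaf.toStalk k y ≫ (Spec (CommRingCat.of k)).residue y :=
    Spec.map_injective (by rw [Spec.map_preimage, h1])
  rw [h2]
  have hs1 : Function.Surjective (StructureSheaf.toStalk k y).hom := by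
    intro z
    obtain ⟨⟨a, s⟩, rfl⟩ := IsLocalization.mk'_surjective y.asIdeal.primeCompl z
    have hs0 : (s : k) ≠ 0 := fun h => s.2 (by rw [h]; exact y.asIdeal.zero_mem)
    refine ⟨a * (s : k)⁻¹, ?_⟩
    symm
    rw [IsLocalization.mk'_eq_iff_eq_mul]
    change algebraMap k _ a = algebraMap k _ (a * (s : k)⁻¹) * algebraMap k _ (s : k)
    rw [← map_mul, mul_assoc, inv_mul_cancel₀ hs0, mul_one]
  have hs2 : Function.Surjective ((Spec (CommRingCat.of k)).residue y).hom :=
    IsLocalRing.residue_surjective
  exact hs2.comp hs1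

end Surj

section Closed

variable {k : Type u} [Field k] {X : Scheme.{u}} (f : X ⟶ Spec (CommRingCat.of k))
  [LocallyOfFiniteType f]

open Groth.Agent.Lib.Helper10.GaloisOrbit in
/-- A point whose residue field is algebraic over the residue field of its image is closed. -/
lemma isClosed_of_trdeg_eq_zero (x : X)
    (h : (letI := (f.residueFieldMap x).hom.toAlgebra
      Algebra.trdeg ((Spec (CommRingCat.of k)).residueField (f x)) (X.residueField x)) = 0) :
    IsClosed ({x} : Set X) := by
  letI alg1 := (f.residueFieldMap x).hom.toAlgebra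
  have halg1 : Algebra.IsAlgebraic ((Spec (CommRingCat.of k)).residueField (f x))
      (X.residueField x) := trdeg_eq_zero_iff.mp h
  set ψ : CommRingCat.of k ⟶ (Spec (CommRingCat.of k)).residueField (f x) :=
    Spec.preimage ((Spec (CommRingCat.of k)).fromSpecResidueField (f x)) with hψ
  have hψs : Function.Surjective ψ.hom := surjective_preimage_fromSpecResidueField k (f x)
  have hfac : resHom k f x = ψ ≫ f.residueFieldMap x := by
    apply Spec.map_injective
    rw [map_resHom, Spec.map_comp, hψ, Spec.map_preimage,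
      Scheme.Hom.SpecMap_residueFieldMap_fromSpecResidueField]
  letI alg2 : Algebra k (X.residueField x) := (resHom k f x).hom.toAlgebra
  haveI : Algebra.IsAlgebraic k (X.residueField x) := by
    refine ⟨fun z => ?_⟩
    obtain ⟨q, hq0, hq⟩ := halg1.isAlgebraic z
    -- lift `q` along `ψ`
    obtain ⟨q', hq'⟩ := Polynomial.map_surjective ψ.hom hψs q
    refine ⟨q', ?_, ?_⟩
    · rintro rfl
      apply hq0
      rw [← hq', Polynomial.map_zero]
    · have e : Polynomial.aeval z q' = Polynomial.aeval z q := by
        rw [Polynomial.aeval_def, Polynomial.aeval_def, ← hq', Polynomial.eval₂_map]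
        congr 1
        change (resHom k f x).hom = (f.residueFieldMap x).hom.comp ψ.hom
        rw [hfac]
        rfl
      rw [e, hq]
  have hp : X.fromSpecResidueField x ≫ f =
      Spec.map (CommRingCat.ofHom (algebraMap k (X.residueField x))) := (map_resHom k f x).symm
  have := isClosed_of_point k (X.residueField x) f (X.fromSpecResidueField x) hp
  have e : (X.fromSpecResidueField x) (IsLocalRing.closedPoint (X.residueField x)) = x :=
    Scheme.fromSpecResidueField_apply x _
  rw [e] at this
  exact this

end Closed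

section Degree

variable {k : Type u} [Field k] [IsAlgClosed k] {K : Type v} [Field K] [CharZero K]
  (T : WeilCoh.Theory k K) (X : WeilCoh.Var k) [QuasiCompact X.obj.hom]
  (δ : ↥X.obj.left → ℤ) (hδ : Cyc.DeltaCompat X.obj.hom δ (fun _ => 0))
  (α : AlgebraicCycle X.obj.left ℤ) (hα : α ∈ Cyc.Zk X.obj.left δ 0)

include hδ hα in
omit [IsAlgClosed k] [QuasiCompact X.obj.hom] in
lemma isClosed_of_ne_zero (x : X.obj.left) (hx : α x ≠ 0) : IsClosed ({x} : Set X.obj.left) := by
  have hδx : δ x = 0 := by
    by_contra h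
    exact hx (hα x h)
  obtain ⟨n, hn, hn'⟩ := hδ x
  rw [hδx, zero_add] at hn'
  have hn0 : n = 0 := by exact_mod_cast hn'.symm
  subst hn0
  apply isClosed_of_trdeg_eq_zero X.obj.hom x
  rw [hn]; rfl

omit [IsAlgClosed k] in
lemma finite_support : (Function.support (⇑α)).Finite := by
  haveI : CompactSpace X.obj.left := QuasiCompact.compactSpace_of_compactSpace X.obj.hom
  have := α.locallyFiniteSupport.finite_inter_support_of_isCompact isCompact_univ
  rwa [Set.univ_inter] at this

include hδ hα in
lemma deg_eq_finsum : ChowOps.deg X.obj.hom δ α = ∑ᶠ x, α x := by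
  classical
  unfold ChowOps.deg AlgebraicCycle.map
  change (∑ᶠ x ∈ (X.obj.hom : X.obj.left → _) ⁻¹' {IsLocalRing.closedPoint k},
    α x * AlgebraicCycle.mapCoeff X.obj.hom δ (fun _ => 0) x) = _
  have hS : (X.obj.hom : X.obj.left → _) ⁻¹' {IsLocalRing.closedPoint k} = Set.univ := by
    ext y
    simp only [Set.mem_preimage, Set.mem_singleton_iff, Set.mem_univ, iff_true]
    exact Subsingleton.elim (α := PrimeSpectrum k) _ _
  rw [hS, finsum_mem_univ]
  refine finsum_congr fun x => ?_
  by_cases hx : α x = 0
  · rw [hx, zero_mul]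
  · have hδx : δ x = 0 := by
      by_contra h
      exact hx (hα x h)
    have hcl := isClosed_of_ne_zero X δ hδ α hα x hx
    unfold AlgebraicCycle.mapCoeff
    rw [if_pos hδx, residueDegree_eq_one X.obj.hom x hcl, Nat.cast_one, mul_one]

include hδ hα in
/-- S15459. -/
theorem deg_eq_tr_clCyc : (ChowOps.deg X.obj.hom δ α : K) = T.tr X (T.clCyc X α) := by
  have hfin := finite_support X α
  rw [deg_eq_finsum X δ hδ α hα]
  unfold WeilCoh.TheoryOn.clCyc
  have h1 : ((∑ᶠ x, α x : ℤ) : K) = ∑ᶠ x, ((α x : ℤ) : K) :=
    map_finsum (Int.castAddHom K) hfin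
  have hfin2 : (Function.support fun ξ : X.obj.left => ((α ξ : ℤ) : K) • T.cl X ξ).Finite := by
    refine hfin.subset fun ξ hξ => ?_
    rw [Function.mem_support] at hξ ⊢
    intro h0
    apply hξ
    rw [h0, Int.cast_zero, zero_smul]
  have h2 : T.tr X (∑ᶠ ξ : X.obj.left, ((α ξ : ℤ) : K) • T.cl X ξ) =
      ∑ᶠ ξ : X.obj.left, T.tr X (((α ξ : ℤ) : K) • T.cl X ξ) :=
    map_finsum (T.tr X).toAddMonoidHom hfin2
  rw [h1, h2]
  refine finsum_congr fun x => ?_
  by_cases hx : α x = 0
  · rw [hx, Int.cast_zero, zero_smul, map_zero]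
  · rw [map_smul, tr_cl_closedPoint T X x (isClosed_of_ne_zero X δ hδ α hα x hx), smul_eq_mul,
      mul_one]

include hδ hα in
omit [IsAlgClosed k] in
lemma clCyc_mem_top (T' : WeilCoh.TheoryOn k (WeilCoh.IsVar k) K) :
    T'.clCyc X α ∈ T'.gr X (2 * (WeilCoh.dim X.obj.left : ℤ)) := by
  have hfin := finite_support X α
  unfold WeilCoh.TheoryOn.clCyc
  have hfin2 : (Function.support fun ξ : X.obj.left => ((α ξ : ℤ) : K) • T'.cl X ξ).Finite := by
    refine hfin.subset fun ξ hξ => ?_
    rw [Function.mem_support] at hξ ⊢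
    intro h0
    apply hξ
    rw [h0, Int.cast_zero, zero_smul]
  rw [finsum_eq_sum _ hfin2]
  refine Submodule.sum_mem _ fun x _ => ?_
  by_cases hx : α x = 0
  · rw [hx, Int.cast_zero, zero_smul]; exact Submodule.zero_mem _
  · refine Submodule.smul_mem _ _ ?_
    have hcl := isClosed_of_ne_zero X δ hδ α hα x hx
    have := T'.cl_mem X x
    unfold WeilCoh.codim at this
    rwa [pdim_eq_zero_of_isClosed x hcl, Nat.sub_zero] at this

include hδ hα in
/-- S15441. -/
theorem isHomEquivZero_iff : T.IsHomEquivZero X α ↔ ChowOps.deg X.obj.hom δ α = 0 := by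
  have key := deg_eq_tr_clCyc T X δ hδ α hα
  unfold WeilCoh.TheoryOn.IsHomEquivZero
  constructor
  · intro h
    rw [h, map_zero] at key
    exact_mod_cast key
  · intro h
    rw [h, Int.cast_zero] at key
    have hmem := clCyc_mem_top X δ hδ α hα T
    have hinj := (T.tr_bijective X).1
    have : (⟨T.clCyc X α, hmem⟩ : T.gr X (2 * (WeilCoh.dim X.obj.left : ℤ))) = 0 := by
      apply hinj
      rw [map_zero]
      exact key.symm
    exact congrArg Subtype.val this

end Degree

end Groth.Agent.Lib.Helper10.WeilPt
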