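import Mathlib
import Groth.Agent.Lib.Helper10FrobGeom
import Groth.Agent.Lib.Helper10GaloisOrbit
import Groth.Agent.Lib.Helper10FixAlg
import Groth.Agent.Lib.Helper10WeilZero

/-!
# Fixed points of (powers of) the geometric Frobenius: points with values in fields
-/

universe u

open AlgebraicGeometry CategoryTheory CategoryTheory.Limits

namespace Groth.Agent.Lib.Helper10.FixPts

open Groth.Agent.Lib.Helper10.GaloisOrbit Groth.Agent.Lib.Helper10.FrobGeom

section General

lemma comp_fromSpec_inj {X : Scheme.{u}} {x : X} {K : CommRingCat.{u}}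
    (α β : X.residueField x ⟶ K)
    (h : Spec.map α ≫ X.fromSpecResidueField x = Spec.map β ≫ X.fromSpecResidueField x) :
    α = β :=
  Spec.map_injective ((cancel_mono _).mp h)

/-- Two sections of a morphism that agree at a point agree on its residue-field point. -/
lemma fromSpecResidueField_comp_eq_of_sections {Y P : Scheme.{u}} (p : P ⟶ Y) (d j : Y ⟶ P)
    (hd : d ≫ p = 𝟙 Y) (hj : j ≫ p = 𝟙 Y) (w : Y) (h : d w = j w) :
    Y.fromSpecResidueField w ≫ d = Y.fromSpecResidueField w ≫ j := by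
  have hpz : p (d w) = w := by
    rw [← Scheme.Hom.comp_apply, hd]; rfl
  have ha : Y.fromSpecResidueField w ≫ d =
      Spec.map (d.residueFieldMap w) ≫ P.fromSpecResidueField (d w) :=
    (Scheme.Hom.SpecMap_residueFieldMap_fromSpecResidueField d w).symm
  have hb : Y.fromSpecResidueField w ≫ j =
      Spec.map ((P.residueFieldCongr h).hom ≫ j.residueFieldMap w) ≫
        P.fromSpecResidueField (d w) := by
    rw [Spec.map_comp, Category.assoc, Scheme.residueFieldCongr_fromSpecResidueField]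
    exact (Scheme.Hom.SpecMap_residueFieldMap_fromSpecResidueField j w).symm
  have key : ∀ γ : P.residueField (d w) ⟶ Y.residueField w,
      Spec.map γ ≫ P.fromSpecResidueField (d w) ≫ p = Y.fromSpecResidueField w →
        p.residueFieldMap (d w) ≫ γ = (Y.residueFieldCongr hpz).hom := by
    intro γ hγ
    rw [← Scheme.Hom.SpecMap_residueFieldMap_fromSpecResidueField, ← Category.assoc,
      ← Spec.map_comp, ← Scheme.residueFieldCongr_fromSpecResidueField hpz] at hγ
    exact comp_fromSpec_inj _ _ hγ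
  have h1 := key (d.residueFieldMap w)
    (by rw [← Category.assoc, ← ha, Category.assoc, hd, Category.comp_id])
  have h2 := key ((P.residueFieldCongr h).hom ≫ j.residueFieldMap w)
    (by rw [← Category.assoc, ← hb, Category.assoc, hj, Category.comp_id])
  rw [ha, hb]
  congr 2
  ext y
  set y' := (Y.residueFieldCongr hpz.symm).hom (d.residueFieldMap w y) with hy'
  have e0 : (Y.residueFieldCongr hpz).hom y' = d.residueFieldMap w y :=
    residueFieldCongr_hom_hom hpz.symm hpz _
  have e1 : d.residueFieldMap w (p.residueFieldMap (d w) y') = d.residueFieldMap w y := by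
    have := congr($h1 y')
    rw [CommRingCat.comp_apply] at this
    rw [this, e0]
  have e2 : p.residueFieldMap (d w) y' = y := (d.residueFieldMap w).hom.injective e1
  have e3 := congr($h2 y')
  rw [CommRingCat.comp_apply, e2] at e3
  exact (e3.trans e0).symm

/-- `k`-valued points (sections of the structure morphism) with the same image are equal. -/
lemma kpoint_ext {k : Type u} [Field k] {Y : Scheme.{u}} (fY : Y ⟶ Spec (CommRingCat.of k))
    (s s' : Spec (CommRingCat.of k) ⟶ Y) (hs : s ≫ fY = 𝟙 _) (hs' : s' ≫ fY = 𝟙 _)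
    (h : s (IsLocalRing.closedPoint k) = s' (IsLocalRing.closedPoint k)) : s = s' := by
  obtain ⟨α, hα⟩ := exists_eq_comp k (s (IsLocalRing.closedPoint k)) s rfl
  obtain ⟨β, hβ⟩ := exists_eq_comp k (s (IsLocalRing.closedPoint k)) s' h.symm
  have hid : CommRingCat.ofHom (algebraMap k k) = 𝟙 (CommRingCat.of k) := rfl
  have h1 := resHom_comp k k fY _ α (by rw [← hα, hs, hid, Spec.map_id])
  have h2 := resHom_comp k k fY _ β (by rw [← hβ, hs', hid, Spec.map_id])
  rw [hid] at h1 h2
  rw [hα, hβ]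
  congr 2
  ext y
  have e1 : α (resHom k fY _ (α y)) = α y := by
    have := congr($h1 (α y))
    rwa [CommRingCat.comp_apply] at this
  have e2 : resHom k fY _ (α y) = y := α.hom.injective e1
  have e3 := congr($h2 (α y))
  rw [CommRingCat.comp_apply, e2] at e3
  exact e3.symm

end General

section Frob

variable {X : Scheme.{u}} (FX : X ⟶ X) (Q : ℕ) (hFb : FX.base = 𝟙 _)
  (hle : ∀ U : X.Opens, U ≤ FX ⁻¹ᵁ U)
  (hFapp : ∀ (U : X.Opens) (s : Γ(X, U)), (FX.appLE U U (hle U)).hom s = s ^ Q)

include hFb hFapp in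
/-- The `Q`-Frobenius on the residue-field point of `x`. -/
lemma fromSpecResidueField_comp_frob (x : X) :
    ∃ Φ : X.residueField x ⟶ X.residueField x, (∀ y, Φ y = y ^ Q) ∧
      X.fromSpecResidueField x ≫ FX = Spec.map Φ ≫ X.fromSpecResidueField x := by
  have hx : x = FX x := (frob_apply FX hFb x).symm
  refine ⟨(X.residueFieldCongr hx).hom ≫ FX.residueFieldMap x, fun y => ?_, ?_⟩
  · rw [CommRingCat.comp_apply]
    exact residueFieldMap_frob FX Q hle hFapp x hx y
  · rw [Spec.map_comp, Category.assoc, Scheme.residueFieldCongr_fromSpecResidueField]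
    exact (Scheme.Hom.SpecMap_residueFieldMap_fromSpecResidueField FX x).symm

include hFb hFapp in
lemma comp_frob_eq_iff (x : X) {K : CommRingCat.{u}} (φ : X.residueField x ⟶ K)
    (hφ : Function.Injective φ) :
    (Spec.map φ ≫ X.fromSpecResidueField x) ≫ FX = Spec.map φ ≫ X.fromSpecResidueField x ↔
      ∀ y : X.residueField x, y ^ Q = y := by
  obtain ⟨Φ, hΦ, hΦ'⟩ := fromSpecResidueField_comp_frob FX Q hFb hle hFapp x
  rw [Category.assoc, hΦ', ← Category.assoc, ← Spec.map_comp]
  constructor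
  · intro h y
    have h1 := comp_fromSpec_inj _ _ h
    have h2 := congr($h1 y)
    rw [CommRingCat.comp_apply, hΦ] at h2
    exact hφ h2
  · intro h
    have : Φ = 𝟙 _ := by
      ext y
      rw [hΦ, h]
      rfl
    rw [this, Category.id_comp]

end Frob


section Top

/-- a closed subset of a Noetherian quasi-sober space all of whose points are closed is finite -/
lemma finite_of_isClosed_of_forall_isClosed {T : Type*} [TopologicalSpace T]
    [TopologicalSpace.NoetherianSpace T] [QuasiSober T] (Z : Set T) (hZ : IsClosed Z)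
    (h : ∀ z ∈ Z, IsClosed ({z} : Set T)) : Z.Finite := by
  obtain ⟨S, hSf, hSc, hSi, hSU⟩ :=
    TopologicalSpace.NoetherianSpace.exists_finite_set_isClosed_irreducible hZ
  rw [hSU]
  refine Set.Finite.sUnion hSf fun t ht => ?_
  have htZ : t ⊆ Z := by rw [hSU]; exact Set.subset_sUnion_of_mem ht
  obtain ⟨ξ, hξ⟩ := QuasiSober.sober (hSi t ht) (hSc t ht)
  have hξt : ξ ∈ t := hξ.mem
  have : t = {ξ} := by
    rw [← hξ.def, (h ξ (htZ hξt)).closure_eq]
  rw [this]
  exact Set.finite_singleton ξ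

end Top

section Fix

variable {k₀ : Type u} [Field k₀] [Finite k₀] {k : Type u} [Field k] [IsAlgClosed k] [Algebra k₀ k]
  {X : Scheme.{u}} (f : X ⟶ Spec (CommRingCat.of k₀)) [LocallyOfFiniteType f]
  (FX : X ⟶ X) (Q : ℕ) (hFb : FX.base = 𝟙 _) (hle : ∀ U : X.Opens, U ≤ FX ⁻¹ᵁ U)
  (hFapp : ∀ (U : X.Opens) (s : Γ(X, U)), (FX.appLE U U (hle U)).hom s = s ^ Q)
  {Y : Scheme.{u}} (fY : Y ⟶ Spec (CommRingCat.of k)) [LocallyOfFiniteType fY]
  (π : Y ⟶ X) (hπ : IsPullback π fY f (Spec.map (CommRingCat.ofHom (algebraMap k₀ k))))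
  (g : Y ⟶ Y) (hg : g ≫ π = π ≫ FX)
  {P : Scheme.{u}} (p q : P ⟶ Y)
  (d j : Y ⟶ P) (hdp : d ≫ p = 𝟙 Y) (hdq : d ≫ q = 𝟙 Y) (hjp : j ≫ p = 𝟙 Y) (hjq : j ≫ q = g)

include hFb hFapp hg hdp hdq hjp hjq in
omit [Finite k₀] [IsAlgClosed k] [LocallyOfFiniteType f] [LocallyOfFiniteType fY] in
/-- at a point where the graph of `g` meets the diagonal, the residue field of the image in `X`
consists of `Q`-Frobenius fixed elements -/
lemma pow_eq_of_fixed (w : Y) (h : d w = j w) (y : X.residueField (π w)) : y ^ Q = y := by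
  have e1 := fromSpecResidueField_comp_eq_of_sections p d j hdp hjp w h
  have e2 : Y.fromSpecResidueField w ≫ g = Y.fromSpecResidueField w := by
    have := congr($e1 ≫ q)
    rw [Category.assoc, Category.assoc, hdq, hjq, Category.comp_id] at this
    exact this.symm
  have e3 : (Spec.map (π.residueFieldMap w) ≫ X.fromSpecResidueField (π w)) ≫ FX =
      Spec.map (π.residueFieldMap w) ≫ X.fromSpecResidueField (π w) := by
    rw [Scheme.Hom.SpecMap_residueFieldMap_fromSpecResidueField, Category.assoc, ← hg,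
      ← Category.assoc, e2]
  exact (comp_frob_eq_iff FX Q hFb hle hFapp (π w) (π.residueFieldMap w)
    (π.residueFieldMap w).hom.injective).mp e3 y

include hFb hFapp hg hdp hdq hjp hjq hπ in
omit [Finite k₀] [IsAlgClosed k] [LocallyOfFiniteType f] in
lemma isClosed_of_fixed (hQ : 1 < Q) (w : Y) (h : d w = j w) : IsClosed ({w} : Set Y) := by
  have hpow := pow_eq_of_fixed FX Q hFb hle hFapp π g hg p q d j hdp hdq hjp hjq w h
  apply Groth.Agent.Lib.Helper10.WeilPt.isClosed_of_trdeg_eq_zero fY w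
  letI := (fY.residueFieldMap w).hom.toAlgebra
  rw [trdeg_eq_zero_iff]
  set F := (algebraicClosure ((Spec (CommRingCat.of k)).residueField (fY w))
    (Y.residueField w)).toSubfield with hF
  have key := subfield_eq_top_of_isPullback hπ w F (by
    intro a
    change π.residueFieldMap w a ∈ algebraicClosure _ _
    rw [mem_algebraicClosure_iff]
    refine ⟨Polynomial.X ^ Q - Polynomial.X, ?_, ?_⟩
    · intro h0
      have := congrArg (fun p => Polynomial.coeff p Q) h0
      simp only [Polynomial.coeff_sub, Polynomial.coeff_X_pow, Polynomial.coeff_X,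
        Polynomial.coeff_zero, if_true] at this
      rw [if_neg (by omega)] at this
      simp at this
    · rw [map_sub, map_pow, Polynomial.aeval_X, ← map_pow, hpow a, sub_self]) (by
    intro b
    change algebraMap _ _ b ∈ algebraicClosure _ _
    exact algebraMap_mem _ b)
  refine ⟨fun z => ?_⟩
  have hz : z ∈ F := by rw [key]; trivial
  exact mem_algebraicClosure_iff.mp hz

end Fix


section Count

variable {k₀ : Type u} [Field k₀] {k : Type u} [Field k] [Algebra k₀ k]
  {X : Scheme.{u}} (f : X ⟶ Spec (CommRingCat.of k₀))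

/-- the `k₀`-algebra structure of a residue field -/
noncomputable abbrev resAlg (x : X) : Algebra k₀ (X.residueField x) := (resHom k₀ f x).hom.toAlgebra

variable (k) in
/-- `k₀`-embeddings of the residue field at `x` into `k` -/
abbrev Emb (x : X) : Type u := @AlgHom k₀ (X.residueField x) k _ _ _ (resAlg f x) _

/-- the `k`-valued point of `X` given by a point and an embedding of its residue field -/
noncomputable def ptHom (x : X) (φ : Emb k f x) : Spec (CommRingCat.of k) ⟶ X :=
  Spec.map (CommRingCat.ofHom (@AlgHom.toRingHom _ _ _ _ _ _ (resAlg f x) _ φ)) ≫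
    X.fromSpecResidueField x

lemma ptHom_comp (x : X) (φ : Emb k f x) :
    ptHom f x φ ≫ f = Spec.map (CommRingCat.ofHom (algebraMap k₀ k)) := by
  letI := resAlg f x
  rw [ptHom, Category.assoc, ← map_resHom, ← Spec.map_comp]
  congr 1
  ext c
  exact φ.commutes c

lemma ptHom_apply (x : X) (φ : Emb k f x) (t : Spec (CommRingCat.of k)) : ptHom f x φ t = x := by
  rw [ptHom, Scheme.Hom.comp_apply, Scheme.fromSpecResidueField_apply]

lemma ptHom_injective (x : X) (φ φ' : Emb k f x) (h : ptHom f x φ = ptHom f x φ') : φ = φ' := by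
  letI := resAlg f x
  unfold ptHom at h
  have h1 := comp_fromSpec_inj _ _ h
  ext y
  exact congr($h1 y)

variable {Y : Scheme.{u}} (fY : Y ⟶ Spec (CommRingCat.of k))
  (π : Y ⟶ X) (hπ : IsPullback π fY f (Spec.map (CommRingCat.ofHom (algebraMap k₀ k))))

/-- the `k`-point of the base change `Y` over `ptHom` -/
noncomputable def liftPt (x : X) (φ : Emb k f x) : Spec (CommRingCat.of k) ⟶ Y :=
  hπ.lift (ptHom f x φ) (𝟙 _) (by rw [ptHom_comp, Category.id_comp])

lemma liftPt_fst (x : X) (φ : Emb k f x) : liftPt f fY π hπ x φ ≫ π = ptHom f x φ :=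
  hπ.lift_fst _ _ _

lemma liftPt_snd (x : X) (φ : Emb k f x) : liftPt f fY π hπ x φ ≫ fY = 𝟙 _ :=
  hπ.lift_snd _ _ _

variable (FX : X ⟶ X) (Q : ℕ) (hFb : FX.base = 𝟙 _) (hle : ∀ U : X.Opens, U ≤ FX ⁻¹ᵁ U)
  (hFapp : ∀ (U : X.Opens) (s : Γ(X, U)), (FX.appLE U U (hle U)).hom s = s ^ Q)
  (g : Y ⟶ Y) (hg : g ≫ π = π ≫ FX) (hgk : g ≫ fY = fY)
  {P : Scheme.{u}} (p q : P ⟶ Y) (hP : IsPullback p q fY fY)
  (d j : Y ⟶ P) (hdp : d ≫ p = 𝟙 Y) (hdq : d ≫ q = 𝟙 Y) (hjp : j ≫ p = 𝟙 Y) (hjq : j ≫ q = g)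

variable (k) in
/-- points of `X` with Frobenius-fixed residue field together with an embedding into `k` -/
abbrev Pts : Type u := Σ x : {x : X // ∀ y : X.residueField x, y ^ Q = y}, Emb k f x.1

/-- the point of `Y` attached to an element of `Pts` -/
noncomputable def Ψ (t : Pts k f Q) : Y := liftPt f fY π hπ t.1.1 t.2 (IsLocalRing.closedPoint k)

lemma Ψ_injective : Function.Injective (Ψ f fY π hπ Q) := by
  rintro ⟨⟨x, hx⟩, φ⟩ ⟨⟨x', hx'⟩, φ'⟩ h
  have hs : liftPt f fY π hπ x φ = liftPt f fY π hπ x' φ' :=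
    kpoint_ext fY _ _ (liftPt_snd f fY π hπ x φ) (liftPt_snd f fY π hπ x' φ') h
  have ha : ptHom f x φ = ptHom f x' φ' := by
    rw [← liftPt_fst f fY π hπ x φ, hs, liftPt_fst]
  have hxx : x = x' := by
    have := congr($ha (IsLocalRing.closedPoint k))
    exact (ptHom_apply f x φ _).symm.trans (this.trans (ptHom_apply f x' φ' _))
  subst hxx
  have := ptHom_injective f x φ φ' ha
  subst this
  rfl

include hFb hFapp hg hgk hP hdp hdq hjp hjq in
lemma Ψ_mem (t : Pts k f Q) : d (Ψ f fY π hπ Q t) = j (Ψ f fY π hπ Q t) := by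
  obtain ⟨⟨x, hx⟩, φ⟩ := t
  letI := resAlg f x
  set s := liftPt f fY π hπ x φ with hs
  have h1 : ptHom f x φ ≫ FX = ptHom f x φ :=
    (comp_frob_eq_iff FX Q hFb hle hFapp x _ (RingHom.injective _)).mpr hx
  have h2 : s ≫ g = s := by
    apply hπ.hom_ext
    · rw [Category.assoc, hg, ← Category.assoc, liftPt_fst, h1]
    · rw [Category.assoc, hgk]
  have h3 : s ≫ d = s ≫ j := by
    apply hP.hom_ext
    · rw [Category.assoc, Category.assoc, hdp, hjp]
    · rw [Category.assoc, Category.assoc, hdq, hjq, Category.comp_id, h2]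
  exact congr($h3 (IsLocalRing.closedPoint k))

include hFb hFapp hg hdp hdq hjp hjq in
lemma exists_Ψ_eq [IsAlgClosed k] [LocallyOfFiniteType fY] (hQ : 1 < Q) (w : Y)
    (h : d w = j w) : ∃ t, Ψ f fY π hπ Q t = w := by
  have hw := isClosed_of_fixed f FX Q hFb hle hFapp fY π hπ g hg p q d j hdp hdq hjp hjq hQ w h
  obtain ⟨s, hs, hsw⟩ := exists_point_of_isClosed k k fY w hw
  have hid : CommRingCat.ofHom (algebraMap k k) = 𝟙 (CommRingCat.of k) := rfl
  rw [hid, Spec.map_id] at hs
  have h3 : s ≫ d = s ≫ j := kpoint_ext (p ≫ fY) _ _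
    (by rw [Category.assoc, ← Category.assoc d, hdp, Category.id_comp, hs])
    (by rw [Category.assoc, ← Category.assoc j, hjp, Category.id_comp, hs])
    (by
      change d (s _) = j (s _)
      rw [hsw, h])
  have h2 : s ≫ g = s := by
    have := congr($h3 ≫ q)
    rw [Category.assoc, Category.assoc, hdq, hjq, Category.comp_id] at this
    exact this.symm
  have ha : (s ≫ π) ≫ FX = s ≫ π := by rw [Category.assoc, ← hg, ← Category.assoc, h2]
  have haf : (s ≫ π) ≫ f = Spec.map (CommRingCat.ofHom (algebraMap k₀ k)) := by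
    rw [Category.assoc, hπ.w, ← Category.assoc, hs, Category.id_comp]
  have hx0 : (s ≫ π) (IsLocalRing.closedPoint k) = π w := by
    rw [← hsw]; rfl
  obtain ⟨φ₀, hφ₀⟩ := exists_eq_comp k (π w) (s ≫ π) hx0
  have hcomm := resHom_comp k₀ k f (π w) φ₀ (by rw [← hφ₀]; exact haf)
  letI := resAlg f (π w)
  let φ : Emb k f (π w) := { φ₀.hom with commutes' := fun c => congr($hcomm c) }
  have hpt : ptHom f (π w) φ = s ≫ π := by rw [hφ₀]; rfl
  have hx : ∀ y : X.residueField (π w), y ^ Q = y :=
    (comp_frob_eq_iff FX Q hFb hle hFapp (π w) φ₀ φ₀.hom.injective).mp (by rw [← hφ₀]; exact ha)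
  refine ⟨⟨⟨π w, hx⟩, φ⟩, ?_⟩
  have : liftPt f fY π hπ (π w) φ = s := by
    apply hπ.hom_ext
    · rw [liftPt_fst, hpt]
    · rw [liftPt_snd, hs]
  change liftPt f fY π hπ (π w) φ _ = w
  rw [this, hsw]

end Count

end Groth.Agent.Lib.Helper10.FixPts
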