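import Mathlib
import Groth.Agent.Lib.Helper10FixPts
import Groth.Prelude.Def_W4c1zetahwZeta

/-!
# Counting the fixed points of a power of Frobenius: `#Fix(F^m) = N_m`
-/

universe u

open AlgebraicGeometry CategoryTheory CategoryTheory.Limits

namespace Groth.Agent.Lib.Helper10.FixPts

open Groth.Agent.Lib.Helper10.GaloisOrbit Groth.Agent.Lib.Helper10.FrobGeom

section Comb

lemma card_sigma_eq {α : Type*} [Finite α] (β : α → Type*) [∀ a, Finite (β a)] (deg : α → ℕ)
    (hβ : ∀ a, Nat.card (β a) = deg a) (m : ℕ) (hdeg : ∀ a, deg a ∈ m.divisors) :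
    Nat.card (Σ a, β a) = ∑ e ∈ m.divisors, e * Nat.card {a // deg a = e} := by
  classical
  haveI := Fintype.ofFinite α
  rw [Nat.card_sigma]
  simp_rw [hβ]
  rw [← Finset.sum_fiberwise_of_maps_to (s := Finset.univ) (t := m.divisors) (g := deg)
    (fun a _ => hdeg a)]
  refine Finset.sum_congr rfl fun e _ => ?_
  rw [Finset.sum_congr rfl (fun a ha => (Finset.mem_filter.mp ha).2), Finset.sum_const,
    smul_eq_mul, mul_comm]
  congr 1
  rw [Nat.card_eq_fintype_card, Fintype.card_subtype]

end Comb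

section Deg

variable {k₀ : Type u} [Field k₀] {X : Scheme.{u}} (f : X ⟶ Spec (CommRingCat.of k₀))

/-- the prelude's residue degree over `Spec k₀` is the degree for the `k₀`-structure -/
lemma finrank_resAlg (x : X) :
    @Module.finrank k₀ (X.residueField x) _ _ (resAlg f x).toModule =
      EGA4loc.residueDegree f x := by
  unfold EGA4loc.residueDegree
  letI a1 := (f.residueFieldMap x).hom.toAlgebra
  letI a2 := resAlg f x
  set ψ : CommRingCat.of k₀ ⟶ (Spec (CommRingCat.of k₀)).residueField (f x) :=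
    Spec.preimage ((Spec (CommRingCat.of k₀)).fromSpecResidueField (f x)) with hψ
  have hψs : Function.Surjective ψ.hom :=
    Groth.Agent.Lib.Helper10.WeilPt.surjective_preimage_fromSpecResidueField k₀ (f x)
  have hfac : resHom k₀ f x = ψ ≫ f.residueFieldMap x := by
    apply Spec.map_injective
    rw [map_resHom, Spec.map_comp, hψ, Spec.map_preimage,
      Scheme.Hom.SpecMap_residueFieldMap_fromSpecResidueField]
  let e : k₀ ≃+* (Spec (CommRingCat.of k₀)).residueField (f x) :=
    RingEquiv.ofBijective ψ.hom ⟨ψ.hom.injective, hψs⟩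
  refine Algebra.finrank_eq_of_equiv_equiv e (RingEquiv.refl _) ?_
  ext c
  change f.residueFieldMap x (ψ c) = resHom k₀ f x c
  rw [hfac]
  rfl

end Deg

section Card

variable {k₀ : Type u} [Field k₀] [Finite k₀] {k : Type u} [Field k] [IsAlgClosed k] [Algebra k₀ k]
  {X : Scheme.{u}} (f : X ⟶ Spec (CommRingCat.of k₀)) [LocallyOfFiniteType f]
  (m : ℕ) (hm : m ≠ 0)

omit [LocallyOfFiniteType f] in
include hm in
lemma one_lt_Q : 1 < Nat.card k₀ ^ m := by
  haveI := Fintype.ofFinite k₀
  have h1 : 1 < Nat.card k₀ := by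
    rw [Nat.card_eq_fintype_card]; exact Fintype.one_lt_card
  exact Nat.one_lt_pow hm h1

include hm in
/-- properties of a point whose residue field is fixed by the `q^m`-Frobenius -/
lemma props_of_fixed (x : X) (hx : ∀ y : X.residueField x, y ^ (Nat.card k₀ ^ m) = y) :
    IsClosed ({x} : Set X) ∧ EGA4loc.residueDegree f x ∈ m.divisors ∧
      Finite (Emb k f x) ∧ Nat.card (Emb k f x) = EGA4loc.residueDegree f x ∧
      Nonempty (Emb k f x) := by
  letI := resAlg f x
  haveI hfin : Finite (X.residueField x) :=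
    Groth.Agent.Lib.Helper10.FixAlg.finite_of_forall_pow_eq _ _ (one_lt_Q m hm) hx
  haveI : Module.Finite k₀ (X.residueField x) := Module.Finite.of_finite
  haveI halg : Algebra.IsAlgebraic k₀ (X.residueField x) := Algebra.IsAlgebraic.of_finite _ _
  refine ⟨?_, ?_, ?_, ?_, ?_⟩
  · have hp : X.fromSpecResidueField x ≫ f =
        Spec.map (CommRingCat.ofHom (algebraMap k₀ (X.residueField x))) :=
      (map_resHom k₀ f x).symm
    have := isClosed_of_point k₀ (X.residueField x) f (X.fromSpecResidueField x) hp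
    have e : (X.fromSpecResidueField x) (IsLocalRing.closedPoint (X.residueField x)) = x :=
      Scheme.fromSpecResidueField_apply x _
    rw [e] at this
    exact this
  · rw [Nat.mem_divisors, ← finrank_resAlg]
    exact ⟨(Groth.Agent.Lib.Helper10.FixAlg.forall_pow_eq_iff k₀ _ m).mp hx, hm⟩
  · haveI : Module.Finite k₀ (X.residueField x) := Module.Finite.of_finite
    exact inferInstanceAs (Finite (X.residueField x →ₐ[k₀] k))
  · rw [← finrank_resAlg]
    exact Groth.Agent.Lib.Helper10.FixAlg.card_algHom k₀ (X.residueField x) k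
  · exact ⟨IsAlgClosed.lift⟩

omit [LocallyOfFiniteType f] [IsAlgClosed k] [Algebra k₀ k] in
/-- a point of degree dividing `m` has residue field fixed by the `q^m`-Frobenius -/
lemma fixed_of_degree (x : X) (hx : EGA4loc.residueDegree f x ∈ m.divisors)
    (y : X.residueField x) : y ^ (Nat.card k₀ ^ m) = y := by
  letI := resAlg f x
  rw [Nat.mem_divisors, ← finrank_resAlg] at hx
  have hpos : 0 < Module.finrank k₀ (X.residueField x) :=
    Nat.pos_of_ne_zero (fun h0 => hx.2 (by simpa [h0] using hx.1))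
  haveI : Module.Finite k₀ (X.residueField x) := Module.finite_of_finrank_pos hpos
  haveI : Finite (X.residueField x) := Module.finite_of_finite k₀
  exact (Groth.Agent.Lib.Helper10.FixAlg.forall_pow_eq_iff k₀ _ m).mpr hx.1 y

include hm in
/-- the number of pairs (Frobenius-fixed point of `X`, embedding of its residue field in `k`)
is `N_m`, provided it is finite -/
theorem card_pts [Finite (Pts k f (Nat.card k₀ ^ m))] :
    Nat.card (Pts k f (Nat.card k₀ ^ m)) = Zeta.nPts f m := by
  classical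
  set Q := Nat.card k₀ ^ m with hQ
  have hprops := fun (x : {x : X // ∀ y : X.residueField x, y ^ Q = y}) =>
    props_of_fixed (k := k) f m hm x.1 x.2
  haveI : ∀ x : {x : X // ∀ y : X.residueField x, y ^ Q = y}, Finite (Emb k f x.1) :=
    fun x => (hprops x).2.2.1
  haveI : Finite {x : X // ∀ y : X.residueField x, y ^ Q = y} := by
    have hsurj : Function.Surjective (fun t : Pts k f Q => t.1) := by
      intro x
      obtain ⟨φ⟩ := (hprops x).2.2.2.2
      exact ⟨⟨x, φ⟩, rfl⟩
    exact Finite.of_surjective _ hsurj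
  rw [card_sigma_eq (fun x : {x : X // ∀ y : X.residueField x, y ^ Q = y} => Emb k f x.1)
    (fun x => EGA4loc.residueDegree f x.1) (fun x => (hprops x).2.2.2.1) m
    (fun x => (hprops x).2.1)]
  unfold Zeta.nPts Zeta.degCount
  refine Finset.sum_congr rfl fun e he => ?_
  congr 1
  refine Nat.card_congr ?_
  refine (Equiv.subtypeSubtypeEquivSubtypeInter
    (fun x : X => ∀ y : X.residueField x, y ^ Q = y)
    (fun x : X => EGA4loc.residueDegree f x = e)).trans (Equiv.subtypeEquivRight fun x => ?_)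
  constructor
  · rintro ⟨h1, h2⟩
    exact ⟨(props_of_fixed (k := k) f m hm x h1).1, h2⟩
  · rintro ⟨_, h2⟩
    exact ⟨fixed_of_degree f m x (by rw [h2]; exact he), h2⟩

variable (FX : X ⟶ X) (hFb : FX.base = 𝟙 _) (hle : ∀ U : X.Opens, U ≤ FX ⁻¹ᵁ U)
  (hFapp : ∀ (U : X.Opens) (s : Γ(X, U)),
    (FX.appLE U U (hle U)).hom s = s ^ (Nat.card k₀ ^ m))
  {Y : Scheme.{u}} (fY : Y ⟶ Spec (CommRingCat.of k)) [LocallyOfFiniteType fY]
  (π : Y ⟶ X) (hπ : IsPullback π fY f (Spec.map (CommRingCat.ofHom (algebraMap k₀ k))))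
  (g : Y ⟶ Y) (hg : g ≫ π = π ≫ FX) (hgk : g ≫ fY = fY)
  {P : Scheme.{u}} (p q : P ⟶ Y) (hP : IsPullback p q fY fY)
  (d j : Y ⟶ P) (hdp : d ≫ p = 𝟙 Y) (hdq : d ≫ q = 𝟙 Y) (hjp : j ≫ p = 𝟙 Y) (hjq : j ≫ q = g)

include hm hFb hFapp hπ hg hgk hP hdp hdq hjp hjq in
/-- The fixed points of the `q^m`-Frobenius on `Y = X ×_{k₀} k`: they are closed, finite in
number, and there are `N_m` of them. -/
theorem card_fix [TopologicalSpace.NoetherianSpace Y] (hjc : IsClosed (Set.range j)) :
    (∀ w : Y, d w = j w → IsClosed ({w} : Set Y)) ∧ Set.Finite {w : Y | d w = j w} ∧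
      Nat.card {w : Y // d w = j w} = Zeta.nPts f m := by
  have hQ := one_lt_Q (k₀ := k₀) m hm
  have hcl : ∀ w : Y, d w = j w → IsClosed ({w} : Set Y) := fun w h =>
    isClosed_of_fixed f FX _ hFb hle hFapp fY π hπ g hg p q d j hdp hdq hjp hjq hQ w h
  have hFix : {w : Y | d w = j w} = d ⁻¹' (Set.range j) := by
    ext w
    constructor
    · intro h
      exact ⟨w, h.symm⟩
    · rintro ⟨w', hw'⟩
      have h1 : p (j w') = w' := by
        rw [← Scheme.Hom.comp_apply, hjp]; rfl
      have h2 : p (d w) = w := by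
        rw [← Scheme.Hom.comp_apply, hdp]; rfl
      have h3 : w' = w := by rw [← h1, hw', h2]
      subst h3
      exact hw'.symm
  have hclosed : IsClosed {w : Y | d w = j w} := by
    rw [hFix]; exact hjc.preimage d.continuous
  have hfin : Set.Finite {w : Y | d w = j w} :=
    finite_of_isClosed_of_forall_isClosed _ hclosed hcl
  refine ⟨hcl, hfin, ?_⟩
  let E : Pts k f (Nat.card k₀ ^ m) ≃ {w : Y // d w = j w} :=
    Equiv.ofBijective (fun t => ⟨Ψ f fY π hπ _ t,
      Ψ_mem f fY π hπ FX _ hFb hle hFapp g hg hgk p q hP d j hdp hdq hjp hjq t⟩)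
      ⟨fun t t' h => Ψ_injective f fY π hπ _ (congrArg Subtype.val h), fun w => by
        obtain ⟨t, ht⟩ := exists_Ψ_eq f fY π hπ FX _ hFb hle hFapp g hg p q d j hdp hdq hjp hjq
          hQ w.1 w.2
        exact ⟨t, Subtype.ext ht⟩⟩
  haveI : Finite {w : Y // d w = j w} := hfin.to_subtype
  haveI : Finite (Pts k f (Nat.card k₀ ^ m)) := Finite.of_equiv _ E.symm
  rw [← Nat.card_congr E, card_pts f m hm]

end Card

end Groth.Agent.Lib.Helper10.FixPts
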