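import Mathlib
import Groth.Agent.Lib.Helper10FixCount
import Groth.Prelude.Def_SgaExt

/-!
# Counting points of a scheme of finite type over a finite field with values in a finite extension
-/

universe u

open AlgebraicGeometry CategoryTheory CategoryTheory.Limits

namespace Groth.Agent.Lib.Helper10.FixPts

open Groth.Agent.Lib.Helper10.GaloisOrbit Groth.Agent.Lib.Helper10.FrobGeom

section Alg

/-- embeddings of a finite field extension `L/K` into a finite field `k'` all of whose
`#k'`-th power maps fix `L` -/
lemma card_algHom_finite (K L k' : Type*) [Field K] [Finite K] [Field L] [Algebra K L] [Finite L]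
    [Field k'] [Algebra K k'] [Finite k'] (h : ∀ y : L, y ^ Nat.card k' = y) :
    Nat.card (L →ₐ[K] k') = Module.finrank K L := by
  haveI := Fintype.ofFinite k'
  haveI : Module.Finite K L := Module.Finite.of_finite
  haveI : Algebra.IsAlgebraic K L := Algebra.IsAlgebraic.of_finite K L
  haveI : Algebra.IsSeparable K L := Algebra.IsAlgebraic.isSeparable_of_perfectField
  refine AlgHom.natCard_of_splits K L k' fun y => ?_
  have hdvd : minpoly K y ∣ (Polynomial.X ^ Fintype.card k' - Polynomial.X : Polynomial K) := by
    apply minpoly.dvd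
    rw [map_sub, map_pow, Polynomial.aeval_X, ← Nat.card_eq_fintype_card, h y, sub_self]
  have hsp : ((Polynomial.X ^ Fintype.card k' - Polynomial.X : Polynomial K).map
      (algebraMap K k')).Splits :=
    (FiniteField.isSplittingField_sub k' K).splits
  have hne : ((Polynomial.X ^ Fintype.card k' - Polynomial.X : Polynomial K).map
      (algebraMap K k')) ≠ 0 := by
    rw [Polynomial.map_sub, Polynomial.map_pow, Polynomial.map_X]
    exact FiniteField.X_pow_card_sub_X_ne_zero k' Fintype.one_lt_card
  exact Polynomial.Splits.of_dvd hsp hne (Polynomial.map_dvd _ hdvd)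

end Alg

section Locus

/-- the locus of points whose residue field is fixed by the `Q`-th power map is closed -/
lemma isClosed_fixedLocus (X : Scheme.{u}) (Q : ℕ) :
    IsClosed {x : X | ∀ y : X.residueField x, y ^ Q = y} := by
  rw [← isOpen_compl_iff]
  have : {x : X | ∀ y : X.residueField x, y ^ Q = y}ᶜ =
      ⋃ (U : X.Opens) (a : Γ(X, U)), (X.basicOpen (a ^ Q - a) : Set X) := by
    ext x
    simp only [Set.mem_compl_iff, Set.mem_ofPred_eq, not_forall, Set.mem_iUnion, SetLike.mem_coe]
    constructor
    · rintro ⟨y, hy⟩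
      obtain ⟨U, hxU, a, rfl⟩ := exists_evaluation_eq x y
      refine ⟨U, a, ?_⟩
      rw [← X.evaluation_ne_zero_iff_mem_basicOpen x hxU, map_sub, map_pow, sub_ne_zero]
      exact hy
    · rintro ⟨U, a, hx⟩
      have hxU : x ∈ U := X.basicOpen_le _ hx
      refine ⟨X.evaluation U x hxU a, ?_⟩
      rw [← X.evaluation_ne_zero_iff_mem_basicOpen x hxU, map_sub, map_pow, sub_ne_zero] at hx
      exact hx
  rw [this]
  exact isOpen_iUnion fun U => isOpen_iUnion fun a => (X.basicOpen _).isOpen

variable {k₀ : Type u} [Field k₀] [Finite k₀] {X : Scheme.{u}} (f : X ⟶ Spec (CommRingCat.of k₀))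
  [LocallyOfFiniteType f] [QuasiCompact f] (m : ℕ) (hm : m ≠ 0)

include f hm in
/-- a scheme of finite type over a finite field has finitely many points with residue field
inside the extension of degree `m` -/
lemma finite_fixedLocus :
    Set.Finite {x : X | ∀ y : X.residueField x, y ^ (Nat.card k₀ ^ m) = y} := by
  haveI : IsLocallyNoetherian X := LocallyOfFiniteType.isLocallyNoetherian f
  haveI : CompactSpace X := QuasiCompact.compactSpace_of_compactSpace f
  haveI : IsNoetherian X := {}
  refine finite_of_isClosed_of_forall_isClosed _ (isClosed_fixedLocus X _) fun x hx => ?_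
  exact (props_of_fixed (k := AlgebraicClosure k₀) f m hm x hx).1

include hm in
lemma finite_pts (K : Type u) [Field K] [Algebra k₀ K] : Finite (Pts K f (Nat.card k₀ ^ m)) := by
  haveI : Finite {x : X // ∀ y : X.residueField x, y ^ (Nat.card k₀ ^ m) = y} :=
    (finite_fixedLocus f m hm).to_subtype
  haveI : ∀ x : {x : X // ∀ y : X.residueField x, y ^ (Nat.card k₀ ^ m) = y},
      Finite (Emb K f x.1) := by
    intro x
    letI := resAlg f x.1
    haveI hfin : Finite (X.residueField x.1) :=
      Groth.Agent.Lib.Helper10.FixAlg.finite_of_forall_pow_eq _ _ (one_lt_Q m hm) x.2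
    haveI : Module.Finite k₀ (X.residueField x.1) := Module.Finite.of_finite
    exact inferInstanceAs (Finite (X.residueField x.1 →ₐ[k₀] K))
  exact inferInstanceAs (Finite (Σ x : {x : X // ∀ y : X.residueField x,
    y ^ (Nat.card k₀ ^ m) = y}, Emb K f x.1))

include hm in
/-- general form of the count: any target field `K` in which Frobenius-fixed residue fields of
degree `e` have exactly `e` embeddings -/
theorem card_pts_general (K : Type u) [Field K] [Algebra k₀ K]
    (hE : ∀ x : X, (∀ y : X.residueField x, y ^ (Nat.card k₀ ^ m) = y) →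
      Nat.card (Emb K f x) = EGA4loc.residueDegree f x) :
    Nat.card (Pts K f (Nat.card k₀ ^ m)) = Zeta.nPts f m := by
  classical
  set Q := Nat.card k₀ ^ m with hQ
  haveI := finite_pts f m hm K
  have hprops := fun (x : {x : X // ∀ y : X.residueField x, y ^ Q = y}) =>
    props_of_fixed (k := AlgebraicClosure k₀) f m hm x.1 x.2
  haveI : Finite {x : X // ∀ y : X.residueField x, y ^ Q = y} :=
    (finite_fixedLocus f m hm).to_subtype
  haveI : ∀ x : {x : X // ∀ y : X.residueField x, y ^ Q = y}, Finite (Emb K f x.1) := by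
    intro x
    letI := resAlg f x.1
    haveI hfin : Finite (X.residueField x.1) :=
      Groth.Agent.Lib.Helper10.FixAlg.finite_of_forall_pow_eq _ _ (one_lt_Q m hm) x.2
    haveI : Module.Finite k₀ (X.residueField x.1) := Module.Finite.of_finite
    exact inferInstanceAs (Finite (X.residueField x.1 →ₐ[k₀] K))
  rw [card_sigma_eq (fun x : {x : X // ∀ y : X.residueField x, y ^ Q = y} => Emb K f x.1)
    (fun x => EGA4loc.residueDegree f x.1) (fun x => hE x.1 x.2) m
    (fun x => (hprops x).2.1)]
  unfold Zeta.nPts Zeta.degCount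
  refine Finset.sum_congr rfl fun e he => ?_
  congr 1
  refine Nat.card_congr ?_
  refine (Equiv.subtypeSubtypeEquivSubtypeInter
    (fun x : X => ∀ y : X.residueField x, y ^ Q = y)
    (fun x : X => EGA4loc.residueDegree f x = e)).trans (Equiv.subtypeEquivRight fun x => ?_)
  constructor
  · rintro ⟨h1, h2⟩
    exact ⟨(hprops ⟨x, h1⟩).1, h2⟩
  · rintro ⟨_, h2⟩
    exact ⟨fixed_of_degree f m x (by rw [h2]; exact he), h2⟩

end Locus

section KPoints

variable {k₀ : Type u} [Field k₀] {X : Scheme.{u}} (f : X ⟶ Spec (CommRingCat.of k₀))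
  (K : Type u) [Field K] [Algebra k₀ K]

/-- `K`-points of `X` over `k₀` are pairs of a point and an embedding of its residue field. -/
noncomputable def pointsEquiv : (Σ x : X, Emb K f x) ≃
    {g : Spec (CommRingCat.of K) ⟶ X //
      g ≫ f = Spec.map (CommRingCat.ofHom (algebraMap k₀ K))} :=
  Equiv.ofBijective (fun t => ⟨ptHom f t.1 t.2, ptHom_comp f t.1 t.2⟩) (by
    constructor
    · rintro ⟨x, φ⟩ ⟨x', φ'⟩ h
      have ha : ptHom f x φ = ptHom f x' φ' := congrArg Subtype.val h
      have hxx : x = x' := by
        have := congr($ha (IsLocalRing.closedPoint K))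
        exact (ptHom_apply f x φ _).symm.trans (this.trans (ptHom_apply f x' φ' _))
      subst hxx
      have := ptHom_injective f x φ φ' ha
      subst this
      rfl
    · rintro ⟨g, hg⟩
      obtain ⟨x, hx⟩ : ∃ x, g (IsLocalRing.closedPoint K) = x := ⟨_, rfl⟩
      obtain ⟨φ₀, hφ₀⟩ := exists_eq_comp K x g hx
      have hcomm := resHom_comp k₀ K f x φ₀ (by rw [← hφ₀]; exact hg)
      letI := resAlg f x
      let φ : Emb K f x := { φ₀.hom with commutes' := fun c => congr($hcomm c) }
      refine ⟨⟨x, φ⟩, Subtype.ext ?_⟩
      change ptHom f x φ = g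
      rw [hφ₀]
      rfl)

variable [Finite k₀] [Finite K]

omit [Finite k₀] in
/-- for a finite target field, every point with an embedding of its residue field is
Frobenius-fixed -/
lemma fixed_of_emb (x : X) (φ : Emb K f x) (y : X.residueField x) : y ^ Nat.card K = y := by
  letI := resAlg f x
  haveI := Fintype.ofFinite K
  apply φ.toRingHom.injective
  rw [map_pow, Nat.card_eq_fintype_card]
  exact FiniteField.pow_card _

variable [LocallyOfFiniteType f] [QuasiCompact f]

/-- S13050: the number of points with values in a finite extension -/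
theorem pointCount_eq : SgaExt.pointCount f K = Zeta.nPts f (Module.finrank k₀ K) := by
  haveI : Module.Finite k₀ K := Module.Finite.of_finite
  have hr : Module.finrank k₀ K ≠ 0 := (Module.finrank_pos).ne'
  have hcard : Nat.card K = Nat.card k₀ ^ Module.finrank k₀ K := Module.natCard_eq_pow_finrank
  unfold SgaExt.pointCount
  rw [← Nat.card_congr (pointsEquiv f K),
    ← card_pts_general f (Module.finrank k₀ K) hr K (by
      intro x hx
      letI := resAlg f x
      haveI hfin : Finite (X.residueField x) :=
        Groth.Agent.Lib.Helper10.FixAlg.finite_of_forall_pow_eq _ _ (one_lt_Q _ hr) hx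
      rw [← finrank_resAlg]
      exact card_algHom_finite k₀ (X.residueField x) K (by rw [hcard]; exact hx))]
  refine (Nat.card_congr (Equiv.ofBijective
    (fun t : Pts K f (Nat.card k₀ ^ Module.finrank k₀ K) => (⟨t.1.1, t.2⟩ : Σ x : X, Emb K f x))
    ⟨?_, ?_⟩)).symm
  · rintro ⟨⟨x, hx⟩, φ⟩ ⟨⟨x', hx'⟩, φ'⟩ h
    cases h
    rfl
  · rintro ⟨x, φ⟩
    exact ⟨⟨⟨x, fun y => by rw [← hcard]; exact fixed_of_emb f K x φ y⟩, φ⟩, rfl⟩

end KPoints

end Groth.Agent.Lib.Helper10.FixPts
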