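import Mathlib
import Groth.Agent.Lib.Helper15Noether

/-!
Noether normalization adapted to an ideal: for a proper ideal `I` of `k[x_1..x_n]` there is a
finite `k`-algebra endomorphism `φ` with `φ⁻¹ I = (x_i : i < c)`.
-/

set_option autoImplicit false

open Polynomial

namespace Groth.Agent.Lib.Helper14.NNPrime

section poly

variable {R : Type*} [CommRing R]

/-- A ring hom into `R[X]` is integral once the constants and `X` are integral. -/
lemma isIntegral_of_C_X {S : Type*} [CommRing S] (ψ : S →+* R[X])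
    (hC : ∀ a, ψ.IsIntegralElem (C a)) (hX : ψ.IsIntegralElem X) : ψ.IsIntegral := by
  intro p
  induction p using Polynomial.induction_on' with
  | add p q hp hq => exact RingHom.IsIntegralElem.add ψ hp hq
  | monomial n a =>
    rw [← C_mul_X_pow_eq_monomial]
    refine RingHom.IsIntegralElem.mul ψ (hC a) ?_
    induction n with
    | zero => rw [pow_zero]; exact ψ.isIntegralElem_one
    | succ n ih => rw [pow_succ]; exact RingHom.IsIntegralElem.mul ψ ih hX

/-- `R[X]` is finite over `R[G]` when `G` has unit leading coefficient and positive degree. -/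
lemma finite_of_C_X (ψ : R[X] →+* R[X]) (G : R[X]) (hψC : ∀ a, ψ (C a) = C a) (hψX : ψ X = G)
    (hu : IsUnit G.leadingCoeff) (hdeg : 0 < G.natDegree) : ψ.Finite := by
  have hcomp : ψ.comp C = C := by ext a; simp [hψC]
  refine RingHom.IsIntegral.to_finite ?_ ?_
  · refine isIntegral_of_C_X ψ (fun a => ?_) ?_
    · rw [← hψC a]; exact ψ.isIntegralElem_map
    · set G₁ : R[X] := (hu.unit⁻¹ : Rˣ) • G with hG₁
      have hmon : G₁.Monic := monic_of_isUnit_leadingCoeff_inv_smul hu
      have hG₁' : G₁ = C ((hu.unit⁻¹ : Rˣ) : R) * G := by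
        rw [hG₁, Units.smul_def, smul_eq_C_mul]
      have hdeg₁ : G₁.natDegree = G.natDegree := by
        rw [hG₁]
        exact natDegree_smul_of_smul_regular G
          (IsSMulRegular.of_mul_eq_one (a := (hu.unit : R)) (by simp))
      refine ⟨G₁.map C - C (C ((hu.unit⁻¹ : Rˣ) : R) * X), ?_, ?_⟩
      · rcases subsingleton_or_nontrivial R with hR | hR
        · exact Subsingleton.elim _ _
        refine (hmon.map C).sub_of_left ?_
        rw [degree_eq_natDegree (hmon.map C).ne_zero, natDegree_map_eq_of_injective C_injective,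
          hdeg₁]
        exact lt_of_le_of_lt degree_C_le (by exact_mod_cast hdeg)
      · rw [eval₂_sub, eval₂_map, hcomp, eval₂_C_X, eval₂_C, map_mul, hψC, hψX, ← hG₁', sub_self]
  · refine RingHom.FiniteType.of_comp_finiteType (f := (C : R →+* R[X])) ?_
    rw [hcomp]
    exact RingHom.finiteType_algebraMap.mpr inferInstance

lemma finite_mapRingHom {S : Type*} [CommRing S] (φ : S →+* R) (h : φ.Finite) :
    (mapRingHom φ).Finite := by
  have hcomp : (mapRingHom φ).comp C = (C : R →+* R[X]).comp φ := by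
    ext a; simp
  refine RingHom.IsIntegral.to_finite ?_ ?_
  · refine isIntegral_of_C_X _ (fun a => ?_) ?_
    · have h1 : φ.IsIntegralElem a := h.to_isIntegral a
      have h2 := h1.map (C : R →+* R[X])
      rw [← hcomp] at h2
      exact h2.of_comp
    · have : (mapRingHom φ) X = X := by simp
      rw [← this]; exact (mapRingHom φ).isIntegralElem_map
  · refine RingHom.FiniteType.of_comp_finiteType (f := (C : S →+* S[X])) ?_
    rw [hcomp]
    exact RingHom.FiniteType.comp (RingHom.finiteType_algebraMap.mpr inferInstance)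
      h.finiteType

/-- Core computation: if `X ∈ J` then `(map φ)⁻¹ J = (X) + (φ⁻¹ (J ∩ R)) R[X]`. -/
lemma comap_mapRingHom (φ : R →+* R) (J : Ideal R[X]) (hX : X ∈ J) :
    J.comap (mapRingHom φ) =
      Ideal.span {X} ⊔ (((J.comap C).comap φ).map (C : R →+* R[X])) := by
  have key : ∀ Q : R[X], Q ∈ J ↔ C (Q.coeff 0) ∈ J := by
    intro Q
    have h1 : Q = X * Q.divX + C (Q.coeff 0) := (X_mul_divX_add Q).symm
    constructor
    · intro hQ
      have : C (Q.coeff 0) = Q - X * Q.divX := by rw [eq_sub_iff_add_eq, add_comm]; exact h1.symm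
      rw [this]; exact J.sub_mem hQ (J.mul_mem_right _ hX)
    · intro hQ
      rw [h1]; exact J.add_mem (J.mul_mem_right _ hX) hQ
  set K := (J.comap C).comap φ with hK
  apply le_antisymm
  · intro P hP
    rw [Ideal.mem_comap, key] at hP
    have hP0 : P.coeff 0 ∈ K := by
      rw [hK, Ideal.mem_comap, Ideal.mem_comap]
      simpa using hP
    rw [← X_mul_divX_add P]
    refine Submodule.add_mem_sup ?_ ?_
    · exact Ideal.mul_mem_right _ _ (Ideal.subset_span rfl)
    · exact Ideal.mem_map_of_mem _ hP0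
  · rw [sup_le_iff]
    constructor
    · rw [Ideal.span_le, Set.singleton_subset_iff]
      simpa using hX
    · rw [Ideal.map_le_iff_le_comap]
      intro a ha
      rw [hK, Ideal.mem_comap, Ideal.mem_comap] at ha
      simpa using ha

end poly

section mv

open MvPolynomial Groth.Agent.Lib.Helper15

variable {k : Type*} [Field k]

/-- One step of Nagata's trick: a nonzero nonunit `f` is the image of `X 0` under a finite
`k`-algebra endomorphism. -/
lemma exists_finite_algHom_X_zero {n : ℕ} (f : MvPolynomial (Fin (n + 1)) k) (hf0 : f ≠ 0)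
    (hfu : ¬ IsUnit f) :
    ∃ ψ : MvPolynomial (Fin (n + 1)) k →ₐ[k] MvPolynomial (Fin (n + 1)) k,
      ψ.toRingHom.Finite ∧ ψ (MvPolynomial.X 0) = f := by
  set G : (MvPolynomial (Fin n) k)[X] := finSuccEquiv k n (NN.T f f) with hG
  have hu : IsUnit G.leadingCoeff := NN.T_leadingcoeff_isUnit f hf0
  have hdeg : 0 < G.natDegree := by
    by_contra h
    have h0 : G.natDegree = 0 := by omega
    have hGC : G = Polynomial.C (G.coeff 0) := Polynomial.eq_C_of_natDegree_eq_zero h0
    have hlc : G.leadingCoeff = G.coeff 0 := by rw [Polynomial.leadingCoeff, h0]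
    have hGu : IsUnit G := by
      rw [hGC, ← hlc]; exact hu.map Polynomial.C
    have h1 : IsUnit (NN.T f f) := by
      have := hGu.map (finSuccEquiv k n).symm
      rwa [hG, AlgEquiv.symm_apply_apply] at this
    have h2 : IsUnit f := by
      have := h1.map (NN.T f).symm
      rwa [AlgEquiv.symm_apply_apply] at this
    exact hfu h2
  set ψ₀ : (MvPolynomial (Fin n) k)[X] →ₐ[k] (MvPolynomial (Fin n) k)[X] :=
    (Polynomial.aeval G : _ →ₐ[MvPolynomial (Fin n) k] _).restrictScalars k with hψ₀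
  refine ⟨(NN.T f).symm.toAlgHom.comp ((finSuccEquiv k n).symm.toAlgHom.comp
    (ψ₀.comp (finSuccEquiv k n).toAlgHom)), ?_, ?_⟩
  · have h0 : ψ₀.toRingHom.Finite :=
      finite_of_C_X ψ₀.toRingHom G (fun a => by simp [hψ₀]) (by simp [hψ₀]) hu hdeg
    exact AlgHom.Finite.comp (AlgHom.Finite.of_surjective _ (NN.T f).symm.surjective)
      (AlgHom.Finite.comp (AlgHom.Finite.of_surjective _ (finSuccEquiv k n).symm.surjective)
        (AlgHom.Finite.comp h0 (AlgHom.Finite.of_surjective _ (finSuccEquiv k n).surjective)))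
  · have h1 : ψ₀ Polynomial.X = G := by simp [hψ₀]
    show (NN.T f).symm ((finSuccEquiv k n).symm (ψ₀ (finSuccEquiv k n (MvPolynomial.X 0)))) = f
    rw [finSuccEquiv_X_zero, h1, hG, AlgEquiv.symm_apply_apply, AlgEquiv.symm_apply_apply]

/-- Extension of an endomorphism of `k[x_1..x_n]` to one more variable `x_0`, fixing `x_0`. -/
noncomputable def ext {n : ℕ} (φ' : MvPolynomial (Fin n) k →ₐ[k] MvPolynomial (Fin n) k) :
    MvPolynomial (Fin (n + 1)) k →ₐ[k] MvPolynomial (Fin (n + 1)) k :=
  (finSuccEquiv k n).symm.toAlgHom.comp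
    ((Polynomial.mapAlgHom φ').comp (finSuccEquiv k n).toAlgHom)

lemma ext_apply {n : ℕ} (φ' : MvPolynomial (Fin n) k →ₐ[k] MvPolynomial (Fin n) k)
    (x : MvPolynomial (Fin (n + 1)) k) :
    ext φ' x = (finSuccEquiv k n).symm (Polynomial.map φ'.toRingHom (finSuccEquiv k n x)) := rfl

lemma ext_finite {n : ℕ} (φ' : MvPolynomial (Fin n) k →ₐ[k] MvPolynomial (Fin n) k)
    (h : φ'.toRingHom.Finite) : (ext φ').toRingHom.Finite := by
  have h0 : (Polynomial.mapAlgHom φ').toRingHom.Finite := by
    exact finite_mapRingHom φ'.toRingHom h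
  exact AlgHom.Finite.comp (AlgHom.Finite.of_surjective _ (finSuccEquiv k n).symm.surjective)
    (AlgHom.Finite.comp h0 (AlgHom.Finite.of_surjective _ (finSuccEquiv k n).surjective))

lemma finSuccEquiv_symm_C {n : ℕ} (a : MvPolynomial (Fin n) k) :
    (finSuccEquiv k n).symm (Polynomial.C a) = rename Fin.succ a := by
  rw [AlgEquiv.symm_apply_eq, NN.finSuccEquiv_rename_succ]

lemma finSuccEquiv_symm_X {n : ℕ} :
    (finSuccEquiv k n).symm Polynomial.X = MvPolynomial.X 0 := by
  rw [AlgEquiv.symm_apply_eq, finSuccEquiv_X_zero]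

lemma comap_ext {n : ℕ} (φ' : MvPolynomial (Fin n) k →ₐ[k] MvPolynomial (Fin n) k)
    (J₀ : Ideal (MvPolynomial (Fin (n + 1)) k)) (h0 : MvPolynomial.X 0 ∈ J₀) (s' : Set (Fin n))
    (hs' : (J₀.comap (rename Fin.succ : MvPolynomial (Fin n) k →ₐ[k] _)).comap φ' =
      Ideal.span (MvPolynomial.X '' s')) :
    J₀.comap (ext φ') = Ideal.span (MvPolynomial.X '' (insert 0 (Fin.succ '' s'))) := by
  set e := finSuccEquiv k n with he
  set J : Ideal (MvPolynomial (Fin n) k)[X] := J₀.comap (e.symm : _ →+* _) with hJ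
  have hXJ : Polynomial.X ∈ J := by
    rw [hJ, Ideal.mem_comap]
    show e.symm Polynomial.X ∈ J₀
    rw [finSuccEquiv_symm_X]; exact h0
  have hJC : (J.comap Polynomial.C).comap φ'.toRingHom = Ideal.span (MvPolynomial.X '' s') := by
    rw [← hs']
    ext a
    simp only [Ideal.mem_comap, hJ]
    show e.symm (Polynomial.C (φ' a)) ∈ J₀ ↔ _
    rw [finSuccEquiv_symm_C]
  have hcore := comap_mapRingHom φ'.toRingHom J hXJ
  rw [hJC] at hcore
  set S : Set (MvPolynomial (Fin (n + 1)) k) := MvPolynomial.X '' (insert 0 (Fin.succ '' s')) with hS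
  set K : Ideal (MvPolynomial (Fin n) k)[X] :=
    Ideal.span {Polynomial.X} ⊔ (Ideal.span (MvPolynomial.X '' s')).map Polynomial.C with hK
  have hmem : ∀ x, x ∈ J₀.comap (ext φ') ↔ e x ∈ K := by
    intro x
    rw [← hcore, Ideal.mem_comap, Ideal.mem_comap, hJ, Ideal.mem_comap, ext_apply]
    rfl
  have h1 : K ≤ (Ideal.span S).comap (e.symm : _ →+* _) := by
    rw [hK, sup_le_iff]
    constructor
    · rw [Ideal.span_le, Set.singleton_subset_iff]
      show e.symm Polynomial.X ∈ Ideal.span S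
      rw [finSuccEquiv_symm_X]
      exact Ideal.subset_span ⟨0, Set.mem_insert _ _, rfl⟩
    · rw [Ideal.map_le_iff_le_comap, Ideal.span_le]
      rintro _ ⟨j, hj, rfl⟩
      show e.symm (Polynomial.C (MvPolynomial.X j)) ∈ Ideal.span S
      rw [finSuccEquiv_symm_C, rename_X]
      exact Ideal.subset_span ⟨j.succ, Set.mem_insert_of_mem _ ⟨j, hj, rfl⟩, rfl⟩
  have h2 : Ideal.span S ≤ K.comap (e : _ →+* _) := by
    rw [Ideal.span_le]
    rintro _ ⟨i, hi, rfl⟩
    rcases hi with rfl | ⟨j, hj, rfl⟩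
    · show e (MvPolynomial.X 0) ∈ K
      rw [he, finSuccEquiv_X_zero]
      exact Ideal.mem_sup_left (Ideal.subset_span rfl)
    · show e (MvPolynomial.X j.succ) ∈ K
      rw [he, finSuccEquiv_X_succ]
      exact Ideal.mem_sup_right (Ideal.mem_map_of_mem _ (Ideal.subset_span ⟨j, hj, rfl⟩))
  ext x
  rw [hmem]
  constructor
  · intro hx
    have := h1 hx
    rw [Ideal.mem_comap] at this
    simpa using this
  · intro hx
    exact h2 hx

/-- **Noether normalization adapted to an ideal.** -/
theorem exists_finite_comap_eq_span : ∀ (n : ℕ) (I : Ideal (MvPolynomial (Fin n) k)), I ≠ ⊤ →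
    ∃ c ≤ n, ∃ φ : MvPolynomial (Fin n) k →ₐ[k] MvPolynomial (Fin n) k, φ.toRingHom.Finite ∧
      I.comap φ = Ideal.span (MvPolynomial.X '' {i : Fin n | (i : ℕ) < c}) := by
  have hbot : ∀ (n : ℕ) (I : Ideal (MvPolynomial (Fin n) k)), I = ⊥ →
      ∃ c ≤ n, ∃ φ : MvPolynomial (Fin n) k →ₐ[k] MvPolynomial (Fin n) k, φ.toRingHom.Finite ∧
        I.comap φ = Ideal.span (MvPolynomial.X '' {i : Fin n | (i : ℕ) < c}) := by
    intro n I hI
    refine ⟨0, Nat.zero_le _, AlgHom.id k _, RingHom.Finite.id _, ?_⟩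
    have : {i : Fin n | (i : ℕ) < 0} = ∅ := by ext i; simp
    rw [this, Set.image_empty, Ideal.span_empty, hI]
    ext x; simp
  intro n
  induction n with
  | zero =>
    intro I hI
    apply hbot
    rw [eq_bot_iff]
    intro x hx
    by_contra hx0
    have hx0' : x ≠ 0 := by simpa using hx0
    have hxC := eq_C_of_isEmpty x
    have hc : coeff 0 x ≠ 0 := by
      intro h; rw [h, map_zero] at hxC; exact hx0' hxC
    apply hI
    apply Ideal.eq_top_of_isUnit_mem _ hx
    rw [hxC]
    exact (hc.isUnit).map MvPolynomial.C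
  | succ n ih =>
    intro I hI
    by_cases hI0 : I = ⊥
    · exact hbot _ I hI0
    obtain ⟨f, hfI, hf0⟩ := Submodule.exists_mem_ne_zero_of_ne_bot hI0
    have hfu : ¬ IsUnit f := fun hu => hI (Ideal.eq_top_of_isUnit_mem _ hfI hu)
    obtain ⟨ψ, hψfin, hψ0⟩ := exists_finite_algHom_X_zero f hf0 hfu
    set J₀ : Ideal (MvPolynomial (Fin (n + 1)) k) := I.comap ψ with hJ₀
    have hJ₀top : J₀ ≠ ⊤ := Ideal.comap_ne_top _ hI
    have hX0 : MvPolynomial.X 0 ∈ J₀ := by
      rw [hJ₀, Ideal.mem_comap, hψ0]; exact hfI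
    obtain ⟨c', hc', φ', hφ'fin, hφ'⟩ :=
      ih (J₀.comap (rename Fin.succ : MvPolynomial (Fin n) k →ₐ[k] _)) (Ideal.comap_ne_top _ hJ₀top)
    refine ⟨c' + 1, by omega, ψ.comp (ext φ'), AlgHom.Finite.comp hψfin (ext_finite φ' hφ'fin), ?_⟩
    have h1 := comap_ext φ' J₀ hX0 _ hφ'
    have hset : (insert 0 (Fin.succ '' {i : Fin n | (i : ℕ) < c'}) : Set (Fin (n + 1))) =
        {i : Fin (n + 1) | (i : ℕ) < c' + 1} := by
      ext i
      refine Fin.cases ?_ (fun j => ?_) i
      · simp
      · simp [Fin.succ_ne_zero]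
    rw [← hset, ← h1]
    rfl

section trdeg

variable {n c : ℕ}

/-- The index type of the variables not killed. -/
abbrev Tau (n c : ℕ) : Type := {i : Fin n // ¬ ((i : ℕ) < c)}

/-- Kill the variables of index `< c`. -/
noncomputable def kill (k : Type*) [Field k] (n c : ℕ) :
    MvPolynomial (Fin n) k →ₐ[k] MvPolynomial (Tau n c) k :=
  MvPolynomial.aeval fun i => if h : (i : ℕ) < c then 0 else MvPolynomial.X ⟨i, h⟩

lemma kill_X_of_lt {i : Fin n} (h : (i : ℕ) < c) : kill k n c (MvPolynomial.X i) = 0 := by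
  rw [kill, MvPolynomial.aeval_X, dif_pos h]

lemma kill_X_of_not_lt {i : Fin n} (h : ¬ (i : ℕ) < c) :
    kill k n c (MvPolynomial.X i) = MvPolynomial.X ⟨i, h⟩ := by
  rw [kill, MvPolynomial.aeval_X, dif_neg h]

lemma card_tau (hc : c ≤ n) : Fintype.card (Tau n c) = n - c := by
  rw [Fintype.card_subtype_compl, Fintype.card_fin, Fintype.card_fin_lt_of_le hc]

lemma trdeg_residueField (hc : c ≤ n) (q : Ideal (MvPolynomial (Fin n) k)) [q.IsPrime]
    (φ : MvPolynomial (Fin n) k →ₐ[k] MvPolynomial (Fin n) k) (hφ : φ.toRingHom.Finite)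
    (hq : q.comap φ = Ideal.span (MvPolynomial.X '' {i : Fin n | (i : ℕ) < c})) :
    Algebra.trdeg k q.ResidueField = ((n - c : ℕ) : Cardinal) := by
  classical
  set A := MvPolynomial (Fin n) k with hA
  set B := MvPolynomial (Tau n c) k with hB
  set incl : B →ₐ[k] A := rename Subtype.val with hincl
  set γ : A →ₐ[k] A ⧸ q := (Ideal.Quotient.mkₐ k q).comp φ with hγ
  set g : B →ₐ[k] A ⧸ q := γ.comp incl with hg
  have hγX : ∀ i : Fin n, (i : ℕ) < c → γ (MvPolynomial.X i) = 0 := by
    intro i hi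
    have : MvPolynomial.X i ∈ q.comap φ := by
      rw [hq]; exact Ideal.subset_span ⟨i, hi, rfl⟩
    rw [hγ]
    show Ideal.Quotient.mk q (φ (MvPolynomial.X i)) = 0
    rw [Ideal.Quotient.eq_zero_iff_mem]
    exact this
  have fact1 : γ = g.comp (kill k n c) := by
    apply MvPolynomial.algHom_ext
    intro i
    by_cases hi : (i : ℕ) < c
    · rw [hγX i hi, AlgHom.comp_apply, kill_X_of_lt hi, map_zero]
    · show γ (MvPolynomial.X i) = g (kill k n c (MvPolynomial.X i))
      rw [kill_X_of_not_lt hi]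
      show γ (MvPolynomial.X i) = γ (incl (MvPolynomial.X ⟨i, hi⟩))
      rw [hincl, rename_X]
  have hγfin : γ.toRingHom.Finite :=
    AlgHom.Finite.comp (AlgHom.Finite.of_surjective _ (Ideal.Quotient.mkₐ_surjective k q)) hφ
  have fact2 : g.toRingHom.Finite := by
    rw [fact1] at hγfin
    exact AlgHom.Finite.of_comp_finite hγfin
  have fact3 : Function.Injective g := by
    rw [injective_iff_map_eq_zero]
    intro p hp
    have h1 : incl p ∈ q.comap φ := by
      rw [Ideal.mem_comap, ← Ideal.Quotient.eq_zero_iff_mem]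
      exact hp
    rw [hq, mem_ideal_span_X_image] at h1
    have h2 : incl p = 0 := by
      rw [← MvPolynomial.support_eq_empty, Finset.eq_empty_iff_forall_notMem]
      intro m hm
      obtain ⟨i, hi, hmi⟩ := h1 m hm
      rw [hincl, support_rename_of_injective Subtype.val_injective, Finset.mem_image] at hm
      obtain ⟨m', -, rfl⟩ := hm
      apply hmi
      apply Finsupp.mapDomain_of_notMem_range
      rintro ⟨⟨j, hj⟩, rfl⟩
      exact hj hi
    exact (rename_injective _ Subtype.val_injective) (by rw [h2, map_zero])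
  -- algebra structures
  let algBQ : Algebra B (A ⧸ q) := g.toRingHom.toAlgebra
  let algBK : Algebra B q.ResidueField :=
    ((algebraMap (A ⧸ q) q.ResidueField).comp g.toRingHom).toAlgebra
  haveI : IsScalarTower B (A ⧸ q) q.ResidueField := IsScalarTower.of_algebraMap_eq' rfl
  haveI : IsScalarTower k B q.ResidueField := by
    refine IsScalarTower.of_algebraMap_eq fun x => ?_
    show algebraMap k q.ResidueField x =
      algebraMap (A ⧸ q) q.ResidueField (g (algebraMap k B x))
    rw [g.commutes, ← IsScalarTower.algebraMap_apply]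
  haveI : Module.Finite B (A ⧸ q) := fact2
  haveI : Algebra.IsIntegral B (A ⧸ q) := Algebra.IsIntegral.of_finite B (A ⧸ q)
  haveI : Algebra.IsAlgebraic B (A ⧸ q) := Algebra.IsIntegral.isAlgebraic
  haveI : Algebra.IsAlgebraic B q.ResidueField := Algebra.IsAlgebraic.trans B (A ⧸ q) q.ResidueField
  haveI : FaithfulSMul B q.ResidueField := by
    rw [faithfulSMul_iff_algebraMap_injective]
    exact (Ideal.injective_algebraMap_quotient_residueField q).comp fact3
  have h1 := trdeg_add_eq k B (A := q.ResidueField)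
  rw [trdeg_eq_zero (R := B) (A := q.ResidueField), add_zero] at h1
  rw [← h1]
  show Algebra.trdeg k (MvPolynomial (Tau n c) k) = _
  rw [MvPolynomial.trdeg_of_isDomain, Cardinal.mk_fintype, card_tau hc]
  simp

end trdeg

/-- `comap` of a span along an involutive ring endomorphism. -/
lemma comap_span_of_involutive {A : Type*} [CommRing A] (ρ : A →+* A) (hρ : ∀ x, ρ (ρ x) = x)
    (S : Set A) : (Ideal.span S).comap ρ = Ideal.span (ρ '' S) := by
  apply le_antisymm
  · intro x hx
    rw [Ideal.mem_comap] at hx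
    have := Ideal.mem_map_of_mem ρ hx
    rwa [hρ, Ideal.map_span] at this
  · rw [Ideal.span_le]
    rintro _ ⟨y, hy, rfl⟩
    show ρ (ρ y) ∈ Ideal.span S
    rw [hρ]; exact Ideal.subset_span hy

/-- **Noether normalization adapted to a prime** (Stacks 00OY-type). -/
theorem main (n r : ℕ) (q : Ideal (MvPolynomial (Fin n) k)) [q.IsPrime]
    (hr : Algebra.trdeg k q.ResidueField = r) :
    ∃ φ : MvPolynomial (Fin n) k →ₐ[k] MvPolynomial (Fin n) k, φ.toRingHom.Finite ∧
      q.comap φ = Ideal.span (Set.range fun i : {i : Fin n // r ≤ (i : ℕ)} =>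
        MvPolynomial.X (i : Fin n)) := by
  obtain ⟨c, hc, φ, hφ, hq⟩ := exists_finite_comap_eq_span n q (Ideal.IsPrime.ne_top inferInstance)
  have h1 := trdeg_residueField hc q φ hφ hq
  rw [hr] at h1
  have hrc : r = n - c := by exact_mod_cast h1
  set ρ : MvPolynomial (Fin n) k →ₐ[k] MvPolynomial (Fin n) k := rename Fin.rev with hρ
  have hρρ : ∀ x, ρ.toRingHom (ρ.toRingHom x) = x := by
    intro x
    show ρ (ρ x) = x
    rw [hρ, rename_rename]
    have : (Fin.rev ∘ Fin.rev : Fin n → Fin n) = id := by ext i; simp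
    rw [this, rename_id_apply]
  refine ⟨φ.comp ρ, AlgHom.Finite.comp hφ
    (AlgHom.Finite.of_surjective _ (rename_surjective _ Fin.rev_surjective)), ?_⟩
  have h2 : q.comap (φ.comp ρ) = (q.comap φ).comap ρ.toRingHom := rfl
  rw [h2, hq, comap_span_of_involutive ρ.toRingHom hρρ]
  congr 1
  ext x
  constructor
  · rintro ⟨_, ⟨i, hi, rfl⟩, rfl⟩
    refine ⟨⟨Fin.rev i, ?_⟩, ?_⟩
    · have hi' : (i : ℕ) < c := hi
      rw [Fin.val_rev]; omega
    · show MvPolynomial.X (Fin.rev i) = ρ (MvPolynomial.X i)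
      rw [hρ, rename_X]
  · rintro ⟨⟨i, hi⟩, rfl⟩
    refine ⟨MvPolynomial.X (Fin.rev i), ⟨Fin.rev i, ?_, rfl⟩, ?_⟩
    · show ((Fin.rev i : Fin n) : ℕ) < c
      rw [Fin.val_rev]
      have := i.isLt
      omega
    · show ρ (MvPolynomial.X (Fin.rev i)) = MvPolynomial.X i
      rw [hρ, rename_X, Fin.rev_rev]

end mv

end Groth.Agent.Lib.Helper14.NNPrime
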