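import Mathlib

/-!
# Krull dimension and integral extensions (helper5)

* `ringKrullDim_le_of_isIntegral`: `dim B ≤ dim A` for an integral `A`-algebra `B`.
* `ringKrullDim_le_of_isIntegral_of_injective`, `ringKrullDim_eq_of_isIntegral_of_injective`.
* `ringKrullDim_eq_ringKrullDim_quotient_ker_of_isIntegral`.
* `height_le_height_under_of_isIntegral`, `height_le_height_of_liesOver_of_hasGoingDown`.
* `finite_quotient_annihilator`, `supportDim_eq_supportDim_of_finite` (EGA 0_IV 16.1.9).
-/

set_option autoImplicit false
universe u v w

namespace Groth.Agent.Lib.Helper5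

section
variable (A : Type u) (B : Type v) [CommRing A] [CommRing B] [Algebra A B] [Algebra.IsIntegral A B]

theorem comap_strictMono_of_isIntegral :
    StrictMono (PrimeSpectrum.comap (algebraMap A B)) := by
  intro P Q hPQ
  have : P.asIdeal < Q.asIdeal := hPQ
  exact Ideal.IsIntegral.comap_lt_comap (R := A) this

theorem ringKrullDim_le_of_isIntegral : ringKrullDim B ≤ ringKrullDim A :=
  Order.krullDim_le_of_strictMono _ (comap_strictMono_of_isIntegral A B)

theorem ringKrullDim_le_of_isIntegral_of_injective
    (hinj : Function.Injective (algebraMap A B)) : ringKrullDim A ≤ ringKrullDim B := by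
  refine iSup_le fun l => ?_
  have hker : (⊥ : Ideal B).comap (algebraMap A B) ≤ l.head.asIdeal := by
    rw [← RingHom.ker_eq_comap_bot, (RingHom.injective_iff_ker_eq_bot _).mp hinj]
    exact bot_le
  obtain ⟨P, -, hP, hPl⟩ := Ideal.exists_ideal_over_prime_of_isIntegral l.head.asIdeal ⊥ hker
  have : P.LiesOver l.head.asIdeal := ⟨hPl.symm⟩
  obtain ⟨L, hL, -, -⟩ := Ideal.exists_ltSeries_of_hasGoingUp l P
  rw [← hL]
  exact Order.LTSeries.length_le_krullDim L

theorem ringKrullDim_eq_of_isIntegral_of_injective
    (hinj : Function.Injective (algebraMap A B)) : ringKrullDim B = ringKrullDim A :=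
  le_antisymm (ringKrullDim_le_of_isIntegral A B)
    (ringKrullDim_le_of_isIntegral_of_injective A B hinj)

end

open Order Module

section
variable {A : Type u} {C : Type v} [CommRing A] [CommRing C]

/-- For an integral ring homomorphism `f : A → C`, `dim C = dim A/ker f`. -/
theorem ringKrullDim_eq_ringKrullDim_quotient_ker_of_isIntegral (f : A →+* C) (hf : f.IsIntegral) :
    ringKrullDim C = ringKrullDim (A ⧸ RingHom.ker f) := by
  let _ := (RingHom.kerLift f).toAlgebra
  have hint : Algebra.IsIntegral (A ⧸ RingHom.ker f) C := ⟨hf.kerLift⟩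
  exact ringKrullDim_eq_of_isIntegral_of_injective (A ⧸ RingHom.ker f) C
    (RingHom.kerLift_injective f)

end

section
variable (A : Type u) (B : Type v) (M : Type w) [CommRing A] [CommRing B] [Algebra A B]
  [IsNoetherianRing A] [AddCommGroup M] [Module A M] [Module B M] [IsScalarTower A B M]
  [Module.Finite A M]

theorem finite_quotient_annihilator : Module.Finite A (B ⧸ Module.annihilator B M) := by
  let f : B →ₐ[A] Module.End A M := Algebra.lsmul A A M
  have hf : ∀ b, f b = 0 ↔ b ∈ Module.annihilator B M := by
    intro b
    rw [Module.mem_annihilator]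
    constructor
    · intro h m
      have := LinearMap.congr_fun h m
      simpa [f] using this
    · intro h
      ext m
      simpa [f] using h m
  let ψ : (B ⧸ Module.annihilator B M) →ₐ[A] Module.End A M :=
    Ideal.Quotient.liftₐ (Module.annihilator B M) f (fun b hb => (hf b).mpr hb)
  have hinj : Function.Injective ψ := by
    rw [injective_iff_map_eq_zero]
    intro x hx
    obtain ⟨b, rfl⟩ := Ideal.Quotient.mk_surjective x
    have : f b = 0 := by
      rw [← hx]
      exact (Ideal.Quotient.liftₐ_apply (Module.annihilator B M) f (fun b hb => (hf b).mpr hb) b).symm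
    exact Ideal.Quotient.eq_zero_iff_mem.mpr ((hf b).mp this)
  exact Module.Finite.of_injective ψ.toLinearMap hinj

/-- EGA 0_IV 16.1.9: the dimension of `M` over `A` equals its dimension over `B` when `M` is a
`B`-module finite over the Noetherian ring `A`. -/
theorem supportDim_eq_supportDim_of_finite :
    Module.supportDim A M = Module.supportDim B M := by
  have hfinB : Module.Finite B M := Module.Finite.of_restrictScalars_finite A B M
  have hfin := finite_quotient_annihilator A B M
  rw [Module.supportDim_eq_ringKrullDim_quotient_annihilator,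
    Module.supportDim_eq_ringKrullDim_quotient_annihilator]
  have hint : (algebraMap A (B ⧸ Module.annihilator B M)).IsIntegral :=
    (Algebra.IsIntegral.of_finite A (B ⧸ Module.annihilator B M)).isIntegral
  rw [ringKrullDim_eq_ringKrullDim_quotient_ker_of_isIntegral _ hint]
  have hker : RingHom.ker (algebraMap A (B ⧸ Module.annihilator B M)) = Module.annihilator A M := by
    ext a
    rw [RingHom.mem_ker, Module.mem_annihilator]
    rw [IsScalarTower.algebraMap_apply A B (B ⧸ Module.annihilator B M), Ideal.Quotient.algebraMap_eq,
      Ideal.Quotient.eq_zero_iff_mem, Module.mem_annihilator]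
    simp only [algebraMap_smul]
  rw [hker]

end

section
variable {A : Type u} {B : Type v} [CommRing A] [CommRing B] [Algebra A B]

/-- For an integral extension, `ht P ≤ ht (P ∩ A)`. -/
theorem height_le_height_under_of_isIntegral [Algebra.IsIntegral A B] (P : Ideal B) [P.IsPrime] :
    P.height ≤ (P.under A).height := by
  have h := Order.height_le_height_apply_of_strictMono _ (comap_strictMono_of_isIntegral A B)
    (⟨P, inferInstance⟩ : PrimeSpectrum B)
  rw [← PrimeSpectrum.height_eq_orderHeight, ← PrimeSpectrum.height_eq_orderHeight] at h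
  exact h

/-- With going down, `ht p ≤ ht P` for `P` over `p`. -/
theorem height_le_height_of_liesOver_of_hasGoingDown [Algebra.HasGoingDown A B]
    (p : Ideal A) [p.IsPrime] (P : Ideal B) [P.IsPrime] [P.LiesOver p] :
    p.height ≤ P.height := by
  rw [PrimeSpectrum.height_eq_orderHeight ⟨p, inferInstance⟩,
    PrimeSpectrum.height_eq_orderHeight ⟨P, inferInstance⟩, Order.height_eq_iSup_last_eq]
  refine iSup₂_le fun l hl => ?_
  have : P.LiesOver l.last.asIdeal := by rw [hl]; infer_instance
  obtain ⟨L, hlen, hlast, -⟩ := Ideal.exists_ltSeries_of_hasGoingDown l P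
  rw [← hlen, ← hlast]
  exact Order.length_le_height_last

end

end Groth.Agent.Lib.Helper5
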