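import Mathlib
import Groth.Agent.Lib.Helper5IntDim
import Groth.Agent.Lib.Helper14NNPrime

/-!
Dimension theory of finite type algebras over a field.
-/

set_option autoImplicit false

open MvPolynomial

namespace Groth.Agent.Lib.Helper14.FTDim

variable {k : Type*} [Field k]

/-- Every maximal ideal of `k[x_1..x_d]` has height `d`. -/
theorem height_of_isMaximal : ∀ (d : ℕ) (M : Ideal (MvPolynomial (Fin d) k)) [M.IsMaximal],
    M.height = d := by
  intro d
  induction d with
  | zero =>
    intro M hM
    have hF : IsField (MvPolynomial (Fin 0) k) :=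
      (MvPolynomial.isEmptyRingEquiv k (Fin 0)).toMulEquiv.isField (Field.toIsField k)
    have hbot : M = ⊥ := by
      haveI := Ring.isField_iff_isSimpleOrder_ideal.mp hF
      rcases eq_bot_or_eq_top M with h | h
      · exact h
      · exact absurd h hM.ne_top
    rw [hbot, Ideal.height_bot]; simp
  | succ d ih =>
    intro M hM
    set e : MvPolynomial (Fin (d + 1)) k ≃+* Polynomial (MvPolynomial (Fin d) k) :=
      (finSuccEquiv k d).toRingEquiv with he
    set P : Ideal (Polynomial (MvPolynomial (Fin d) k)) := M.map e with hP
    have hPmax : P.IsMaximal := Ideal.map_isMaximal_of_equiv e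
    have hht : P.height = M.height := RingEquiv.height_map e M
    set p : Ideal (MvPolynomial (Fin d) k) := P.comap Polynomial.C with hp
    haveI hpmax : p.IsMaximal := Polynomial.isMaximal_comap_C_of_isJacobsonRing P
    haveI : P.LiesOver p := ⟨rfl⟩
    rw [← hht, Polynomial.height_eq_height_add_one p P, ih p]
    push_cast; rfl

universe u

/-- A finite type domain over a field: `dim = trdeg`, and every maximal ideal has this height. -/
theorem exists_dim (k S : Type u) [Field k] [CommRing S] [IsDomain S] [Algebra k S]
    [Algebra.FiniteType k S] :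
    ∃ n : ℕ, Algebra.trdeg k (FractionRing S) = n ∧ ringKrullDim S = n ∧
      ∀ (m : Ideal S) [m.IsMaximal], m.height = n := by
  obtain ⟨d, g, hinj, hfin⟩ := exists_finite_inj_algHom_of_fg k S
  set B := MvPolynomial (Fin d) k with hB
  set F := FractionRing S with hF
  letI algBS : Algebra B S := g.toRingHom.toAlgebra
  haveI : IsScalarTower k B S := IsScalarTower.of_algebraMap_eq fun x => (g.commutes x).symm
  haveI : Module.Finite B S := hfin
  haveI : Algebra.IsIntegral B S := Algebra.IsIntegral.of_finite B S
  haveI : FaithfulSMul B S := (faithfulSMul_iff_algebraMap_injective B S).mpr hinj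
  refine ⟨d, ?_, ?_, ?_⟩
  · haveI : IsScalarTower B S F := inferInstance
    haveI : IsScalarTower k B F := by
      refine IsScalarTower.of_algebraMap_eq fun x => ?_
      rw [IsScalarTower.algebraMap_apply B S F, IsScalarTower.algebraMap_apply k S F]
      congr 1
      exact (g.commutes x).symm
    haveI : Algebra.IsAlgebraic B S := Algebra.IsIntegral.isAlgebraic
    haveI : Algebra.IsAlgebraic S F := IsLocalization.isAlgebraic F (nonZeroDivisors S)
    haveI : Algebra.IsAlgebraic B F := Algebra.IsAlgebraic.trans B S F
    haveI : FaithfulSMul B F := by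
      rw [faithfulSMul_iff_algebraMap_injective, IsScalarTower.algebraMap_eq B S F]
      exact (IsFractionRing.injective S F).comp hinj
    have h1 := trdeg_add_eq k B (A := F)
    rw [trdeg_eq_zero (R := B) (A := F), add_zero] at h1
    rw [← h1]
    show Algebra.trdeg k (MvPolynomial (Fin d) k) = _
    rw [MvPolynomial.trdeg_of_isDomain]
    simp
  · rw [Groth.Agent.Lib.Helper5.ringKrullDim_eq_of_isIntegral_of_injective B S hinj]
    show ringKrullDim (MvPolynomial (Fin d) k) = _
    rw [MvPolynomial.ringKrullDim_of_isNoetherianRing, ringKrullDim_eq_zero_of_field]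
    simp
  · intro m hm
    set m₀ : Ideal B := m.under B with hm₀
    haveI : m₀.IsMaximal := Ideal.isMaximal_comap_of_isIntegral_of_isMaximal m
    haveI : m.LiesOver m₀ := ⟨rfl⟩
    have h1 : m.height ≤ m₀.height :=
      Groth.Agent.Lib.Helper5.height_le_height_under_of_isIntegral m
    have h2 : m₀.height ≤ m.height :=
      Groth.Agent.Lib.Helper5.height_le_height_of_liesOver_of_hasGoingDown m₀ m
    rw [le_antisymm h1 h2]
    exact height_of_isMaximal d m₀

end Groth.Agent.Lib.Helper14.FTDim
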