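import Mathlib
import Groth.Agent.Lib.Helper5IntDim
import Groth.Agent.Lib.Helper14NNPrime
import Groth.Agent.Lib.Helper14FTDim

/-!
Dimension theory of finite type algebras over a field, part B:
Noether normalization adapted to an ideal for finite type algebras, heights, catenary formula.
-/

set_option autoImplicit false

open MvPolynomial

namespace Groth.Agent.Lib.Helper14.FTDim

open Groth.Agent.Lib.Helper14.NNPrime

universe u

variable {k : Type u} [Field k] {n c : ℕ}

/-- If `ψ : k[Fin n] → T` is finite with kernel `(X_i : i < c)`, then the restriction of `ψ` to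
`k[Tau n c]` is injective and finite. -/
lemma tau_comp {T : Type*} [CommRing T] [Algebra k T]
    (ψ : MvPolynomial (Fin n) k →ₐ[k] T) (hψ : ψ.toRingHom.Finite)
    (hker : RingHom.ker ψ = Ideal.span (MvPolynomial.X '' {i : Fin n | (i : ℕ) < c})) :
    Function.Injective (ψ.comp
        (rename Subtype.val : MvPolynomial (Tau n c) k →ₐ[k] MvPolynomial (Fin n) k)) ∧
      (ψ.comp
        (rename Subtype.val : MvPolynomial (Tau n c) k →ₐ[k] MvPolynomial (Fin n) k)).toRingHom.Finite := by
  classical
  set A := MvPolynomial (Fin n) k with hA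
  set B := MvPolynomial (Tau n c) k with hB
  set incl : B →ₐ[k] A := rename Subtype.val with hincl
  set g : B →ₐ[k] T := ψ.comp incl with hg
  have hψX : ∀ i : Fin n, (i : ℕ) < c → ψ (MvPolynomial.X i) = 0 := by
    intro i hi
    have : MvPolynomial.X i ∈ RingHom.ker ψ := by
      rw [hker]; exact Ideal.subset_span ⟨i, hi, rfl⟩
    exact this
  have fact1 : ψ = g.comp (kill k n c) := by
    apply MvPolynomial.algHom_ext
    intro i
    by_cases hi : (i : ℕ) < c
    · rw [hψX i hi, AlgHom.comp_apply, kill_X_of_lt hi, map_zero]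
    · show ψ (MvPolynomial.X i) = g (kill k n c (MvPolynomial.X i))
      rw [kill_X_of_not_lt hi]
      show ψ (MvPolynomial.X i) = ψ (incl (MvPolynomial.X ⟨i, hi⟩))
      rw [hincl, rename_X]
  have fact2 : g.toRingHom.Finite := by
    rw [fact1] at hψ
    exact AlgHom.Finite.of_comp_finite hψ
  have fact3 : Function.Injective g := by
    rw [injective_iff_map_eq_zero]
    intro p hp
    have h1 : incl p ∈ RingHom.ker ψ := hp
    rw [hker, mem_ideal_span_X_image] at h1
    have h2 : incl p = 0 := by
      rw [← MvPolynomial.support_eq_empty, Finset.eq_empty_iff_forall_notMem]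
      intro m hm
      obtain ⟨i, hi, hmi⟩ := h1 m hm
      rw [hincl, support_rename_of_injective Subtype.val_injective, Finset.mem_image] at hm
      obtain ⟨m', -, rfl⟩ := hm
      apply hmi
      apply Finsupp.mapDomain_of_notMem_range
      rintro ⟨⟨j, hj⟩, rfl⟩
      exact hj hi
    exact (rename_injective _ Subtype.val_injective) (by rw [h2, map_zero])
  exact ⟨fact3, fact2⟩

/-- `p - incl (kill p) ∈ (X_i : i < c)`. -/
lemma sub_rename_kill_mem (p : MvPolynomial (Fin n) k) :
    p - rename Subtype.val (kill k n c p) ∈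
      Ideal.span (MvPolynomial.X '' {i : Fin n | (i : ℕ) < c}) := by
  induction p using MvPolynomial.induction_on with
  | C a =>
    have : kill k n c (C a) = C a := by simp [kill]
    rw [this, rename_C, sub_self]; exact Ideal.zero_mem _
  | add p q hp hq =>
    rw [map_add, map_add]
    have : p + q - (rename Subtype.val (kill k n c p) + rename Subtype.val (kill k n c q)) =
        (p - rename Subtype.val (kill k n c p)) + (q - rename Subtype.val (kill k n c q)) := by ring
    rw [this]; exact Ideal.add_mem _ hp hq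
  | mul_X p i hp =>
    rw [map_mul, map_mul]
    by_cases hi : (i : ℕ) < c
    · rw [kill_X_of_lt hi, map_zero, mul_zero, sub_zero]
      exact Ideal.mul_mem_left _ _ (Ideal.subset_span ⟨i, hi, rfl⟩)
    · rw [kill_X_of_not_lt hi, rename_X]
      have : p * MvPolynomial.X i - rename Subtype.val (kill k n c p) * MvPolynomial.X i =
          (p - rename Subtype.val (kill k n c p)) * MvPolynomial.X i := by ring
      rw [this]; exact Ideal.mul_mem_right _ _ hp

lemma ker_kill : RingHom.ker (kill k n c) =
    Ideal.span (MvPolynomial.X '' {i : Fin n | (i : ℕ) < c}) := by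
  apply le_antisymm
  · intro p hp
    rw [RingHom.mem_ker] at hp
    have := sub_rename_kill_mem (k := k) (c := c) p
    rwa [hp, map_zero, sub_zero] at this
  · rw [Ideal.span_le]
    rintro _ ⟨i, hi, rfl⟩
    exact kill_X_of_lt hi

instance isPrime_span : (Ideal.span (MvPolynomial.X '' {i : Fin n | (i : ℕ) < c}) :
    Ideal (MvPolynomial (Fin n) k)).IsPrime := by
  rw [← ker_kill]
  exact RingHom.ker_isPrime _

lemma span_lt_span (hc : c < n) :
    (Ideal.span (MvPolynomial.X '' {i : Fin n | (i : ℕ) < c}) : Ideal (MvPolynomial (Fin n) k)) <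
      Ideal.span (MvPolynomial.X '' {i : Fin n | (i : ℕ) < c + 1}) := by
  refine lt_of_le_of_ne (Ideal.span_mono (Set.image_mono fun i (hi : (i : ℕ) < c) => ?_)) ?_
  · show (i : ℕ) < c + 1
    omega
  · intro h
    have hX : (MvPolynomial.X ⟨c, hc⟩ : MvPolynomial (Fin n) k) ∈
        Ideal.span (MvPolynomial.X '' {i : Fin n | (i : ℕ) < c}) := by
      rw [h]; exact Ideal.subset_span ⟨⟨c, hc⟩, by simp, rfl⟩
    rw [mem_ideal_span_X_image] at hX
    classical
    obtain ⟨i, hi, hne⟩ := hX (Finsupp.single ⟨c, hc⟩ 1) (by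
      rw [MvPolynomial.X, support_monomial]; simp)
    rw [Finsupp.single_apply] at hne
    split_ifs at hne with h'
    · have hi' : (i : ℕ) < c := hi
      rw [← h'] at hi'; simp at hi'
    · exact hne rfl

lemma height_span (hc : c ≤ n) :
    (Ideal.span (MvPolynomial.X '' {i : Fin n | (i : ℕ) < c}) :
      Ideal (MvPolynomial (Fin n) k)).height = c := by
  apply le_antisymm
  · have hfin : (MvPolynomial.X '' {i : Fin n | (i : ℕ) < c} :
        Set (MvPolynomial (Fin n) k)).Finite := (Set.toFinite _).image _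
    have := Ideal.height_le_card_of_mem_minimalPrimes_span hfin
      (p := Ideal.span (MvPolynomial.X '' {i : Fin n | (i : ℕ) < c}))
      (by rw [Ideal.minimalPrimes_eq_subsingleton_self]; rfl)
    refine this.trans ?_
    have h1 : (MvPolynomial.X '' {i : Fin n | (i : ℕ) < c} :
        Set (MvPolynomial (Fin n) k)).ncard ≤ ({i : Fin n | (i : ℕ) < c} : Set (Fin n)).ncard :=
      Set.ncard_image_le (Set.toFinite _)
    have h2 : ({i : Fin n | (i : ℕ) < c} : Set (Fin n)).ncard = c := by
      rw [Set.ncard_eq_toFinset_card', Set.toFinset_card]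
      exact Fintype.card_fin_lt_of_le hc
    exact_mod_cast h2 ▸ h1
  · induction c with
    | zero => simp
    | succ c ih =>
      have h1 := ih (by omega)
      have h2 := Ideal.height_strict_mono_of_isPrime_of_isPrime (span_lt_span (k := k) (n := n) (c := c) (by omega))
      calc ((c + 1 : ℕ) : ℕ∞) = (c : ℕ∞) + 1 := by push_cast; rfl
        _ ≤ _ := Order.add_one_le_of_lt (lt_of_le_of_lt h1 h2)

/-- A finite `k`-algebra endomorphism of a polynomial ring is injective. -/
lemma finite_endo_injective (φ : MvPolynomial (Fin n) k →ₐ[k] MvPolynomial (Fin n) k)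
    (hφ : φ.toRingHom.Finite) : Function.Injective φ := by
  have hcoe : (φ : MvPolynomial (Fin n) k → MvPolynomial (Fin n) k) = φ.toRingHom := rfl
  rw [hcoe, RingHom.injective_iff_ker_eq_bot]
  by_contra hker
  obtain ⟨r, hr, hr0⟩ := Submodule.exists_mem_ne_zero_of_ne_bot hker
  have h1 := Groth.Agent.Lib.Helper5.ringKrullDim_eq_ringKrullDim_quotient_ker_of_isIntegral
    φ.toRingHom hφ.to_isIntegral
  have h2 : ringKrullDim (MvPolynomial (Fin n) k ⧸ RingHom.ker φ.toRingHom) ≤
      ringKrullDim (MvPolynomial (Fin n) k ⧸ Ideal.span {r}) := by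
    refine ringKrullDim_le_of_surjective (Ideal.Quotient.factor
      ((Ideal.span_singleton_le_iff_mem _).mpr hr)) (Ideal.Quotient.factor_surjective _)
  have h3 := ringKrullDim_quotient_succ_le_of_nonZeroDivisor (mem_nonZeroDivisors_of_ne_zero hr0)
  have hdim : ringKrullDim (MvPolynomial (Fin n) k) = (n : WithBot ℕ∞) := by
    rw [MvPolynomial.ringKrullDim_of_isNoetherianRing, ringKrullDim_eq_zero_of_field]
    simp
  rw [← h1, hdim] at h2
  have h4 : (n : WithBot ℕ∞) + 1 ≤ (n : WithBot ℕ∞) := by
    calc (n : WithBot ℕ∞) + 1 ≤ ringKrullDim (MvPolynomial (Fin n) k ⧸ Ideal.span {r}) + 1 := by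
          gcongr
      _ ≤ ringKrullDim (MvPolynomial (Fin n) k) := h3
      _ = n := hdim
  have h5 : ((n + 1 : ℕ) : WithBot ℕ∞) ≤ ((n : ℕ) : WithBot ℕ∞) := by exact_mod_cast h4
  have h6 : n + 1 ≤ n := by exact_mod_cast h5
  omega

/-- **Noether normalization adapted to an ideal, for finite type algebras.** -/
theorem exists_finite_injective_comap_eq_span (D : Type u) [CommRing D] [Nontrivial D]
    [Algebra k D] [Algebra.FiniteType k D] (Q : Ideal D) (hQ : Q ≠ ⊤) :
    ∃ (m c : ℕ) (_ : c ≤ m) (g : MvPolynomial (Fin m) k →ₐ[k] D),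
      Function.Injective g ∧ g.toRingHom.Finite ∧
        Q.comap g = Ideal.span (MvPolynomial.X '' {i : Fin m | (i : ℕ) < c}) := by
  obtain ⟨n, π, hπ⟩ := Algebra.FiniteType.iff_quotient_mvPolynomial''.mp
    (inferInstance : Algebra.FiniteType k D)
  have hP : RingHom.ker π ≠ ⊤ := RingHom.ker_ne_top _
  obtain ⟨c₁, hc₁, φ₁, hφ₁, hcomap₁⟩ := exists_finite_comap_eq_span n (RingHom.ker π.toRingHom) hP
  -- first step
  set ψ : MvPolynomial (Fin n) k →ₐ[k] D := π.comp φ₁ with hψ
  have hψfin : ψ.toRingHom.Finite := AlgHom.Finite.comp (AlgHom.Finite.of_surjective _ hπ) hφ₁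
  have hψker : RingHom.ker ψ = Ideal.span (MvPolynomial.X '' {i : Fin n | (i : ℕ) < c₁}) := by
    rw [← hcomap₁]
    ext x
    simp only [RingHom.mem_ker, Ideal.mem_comap]
    rfl
  obtain ⟨hinj₀, hfin₀⟩ := tau_comp ψ hψfin hψker
  set m := n - c₁ with hm
  set e : Fin m ≃ Tau n c₁ := (Fintype.equivFinOfCardEq (card_tau hc₁)).symm with he
  set ρ : MvPolynomial (Fin m) k ≃ₐ[k] MvPolynomial (Tau n c₁) k := renameEquiv k e with hρ
  set g₁ : MvPolynomial (Fin m) k →ₐ[k] D :=
    (ψ.comp (rename Subtype.val : MvPolynomial (Tau n c₁) k →ₐ[k] _)).comp ρ.toAlgHom with hg₁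
  have hg₁inj : Function.Injective g₁ := hinj₀.comp ρ.injective
  have hg₁fin : g₁.toRingHom.Finite :=
    AlgHom.Finite.comp hfin₀ (AlgHom.Finite.of_surjective _ ρ.surjective)
  -- second step
  obtain ⟨c, hc, φ₂, hφ₂, hcomap₂⟩ := exists_finite_comap_eq_span m (Q.comap g₁)
    (Ideal.comap_ne_top _ hQ)
  refine ⟨m, c, hc, g₁.comp φ₂, hg₁inj.comp (finite_endo_injective φ₂ hφ₂),
    AlgHom.Finite.comp hg₁fin hφ₂, ?_⟩
  rw [← hcomap₂]
  rfl

/-- Dimension of a ring which is a finite injective extension of a polynomial ring. -/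
lemma ringKrullDim_of_finite_injective {ι : Type} [Fintype ι] {T : Type u} [CommRing T]
    [Algebra k T] (g : MvPolynomial ι k →ₐ[k] T) (hinj : Function.Injective g)
    (hfin : g.toRingHom.Finite) : ringKrullDim T = (Fintype.card ι : WithBot ℕ∞) := by
  letI algBT : Algebra (MvPolynomial ι k) T := g.toRingHom.toAlgebra
  haveI : Module.Finite (MvPolynomial ι k) T := hfin
  haveI : Algebra.IsIntegral (MvPolynomial ι k) T := Algebra.IsIntegral.of_finite _ T
  rw [Groth.Agent.Lib.Helper5.ringKrullDim_eq_of_isIntegral_of_injective (MvPolynomial ι k) T hinj,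
    MvPolynomial.ringKrullDim_of_isNoetherianRing, ringKrullDim_eq_zero_of_field,
    Nat.card_eq_fintype_card]
  simp

/-- **Catenary formula data** for a prime of a finite type domain over a field. -/
theorem exists_dim_height (D : Type u) [CommRing D] [IsDomain D] [Algebra k D]
    [Algebra.FiniteType k D] (Q : Ideal D) [Q.IsPrime] :
    ∃ (m c : ℕ), c ≤ m ∧ ringKrullDim D = (m : WithBot ℕ∞) ∧ Q.height = (c : ℕ∞) ∧
      ringKrullDim (D ⧸ Q) = ((m - c : ℕ) : WithBot ℕ∞) := by
  obtain ⟨m, c, hc, g, hinj, hfin, hcomap⟩ :=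
    exists_finite_injective_comap_eq_span (k := k) D Q (Ideal.IsPrime.ne_top inferInstance)
  refine ⟨m, c, hc, ?_, ?_, ?_⟩
  · rw [ringKrullDim_of_finite_injective g hinj hfin, Fintype.card_fin]
  · set B := MvPolynomial (Fin m) k with hB
    letI algBD : Algebra B D := g.toRingHom.toAlgebra
    haveI : Module.Finite B D := hfin
    haveI : Algebra.IsIntegral B D := Algebra.IsIntegral.of_finite B D
    haveI : FaithfulSMul B D := (faithfulSMul_iff_algebraMap_injective B D).mpr hinj
    have hunder : Q.under B = Ideal.span (MvPolynomial.X '' {i : Fin m | (i : ℕ) < c}) := hcomap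
    haveI : Q.LiesOver (Q.under B) := ⟨rfl⟩
    have h1 : Q.height ≤ (Q.under B).height :=
      Groth.Agent.Lib.Helper5.height_le_height_under_of_isIntegral Q
    have h2 : (Q.under B).height ≤ Q.height :=
      Groth.Agent.Lib.Helper5.height_le_height_of_liesOver_of_hasGoingDown (Q.under B) Q
    rw [le_antisymm h1 h2, hunder, height_span hc]
  · set ψ : MvPolynomial (Fin m) k →ₐ[k] D ⧸ Q := (Ideal.Quotient.mkₐ k Q).comp g with hψ
    have hψfin : ψ.toRingHom.Finite :=
      AlgHom.Finite.comp (AlgHom.Finite.of_surjective _ (Ideal.Quotient.mkₐ_surjective k Q)) hfin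
    have hψker : RingHom.ker ψ = Ideal.span (MvPolynomial.X '' {i : Fin m | (i : ℕ) < c}) := by
      rw [← hcomap]
      ext x
      simp only [RingHom.mem_ker, Ideal.mem_comap]
      show Ideal.Quotient.mk Q (g x) = 0 ↔ _
      rw [Ideal.Quotient.eq_zero_iff_mem]
    obtain ⟨hinj', hfin'⟩ := tau_comp ψ hψfin hψker
    rw [ringKrullDim_of_finite_injective _ hinj' hfin', card_tau hc]

end Groth.Agent.Lib.Helper14.FTDim
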