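import Mathlib
import Groth.Agent.Lib.Helper14FTDimB
import Groth.Agent.Lib.Helper10PointCount

/-!
# A bound for the number of points of a scheme of finite type over a finite field
-/

universe u

open AlgebraicGeometry CategoryTheory CategoryTheory.Limits

namespace Groth.Agent.Lib.Helper10.PtBound

section Alg

/-- the number of extensions of `p : B → K` along a finite `g : B → A` generated by `n` elements
is at most `n` (Dedekind independence of characters) -/
lemma card_fibre_le {B A K : Type*} [CommRing B] [CommRing A] [Field K] (g : B →+* A)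
    (p : B →+* K) (n : ℕ) (a : Fin n → A)
    (ha : ∀ x : A, ∃ c : Fin n → B, x = ∑ j, g (c j) * a j)
    (S : Finset (A →+* K)) (hS : ∀ φ ∈ S, φ.comp g = p) : S.card ≤ n := by
  classical
  let v : S → (Fin n → K) := fun φ j => (φ : A →+* K) (a j)
  have hli : LinearIndependent K v := by
    rw [Fintype.linearIndependent_iff]
    intro c hc
    have hfun : ∑ φ : S, c φ • (((φ : A →+* K) : A →* K) : A → K) = 0 := by
      funext x
      obtain ⟨b, rfl⟩ := ha x
      simp only [Finset.sum_apply, Pi.smul_apply, smul_eq_mul, Pi.zero_apply, MonoidHom.coe_coe,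
        map_sum, map_mul]
      have hg : ∀ (φ : S) (j : Fin n), (φ : A →+* K) (g (b j)) = p (b j) := fun φ j => by
        rw [← hS φ φ.2]; rfl
      simp_rw [hg, Finset.mul_sum]
      rw [Finset.sum_comm]
      refine Finset.sum_eq_zero fun j _ => ?_
      have h1 := congrFun hc j
      simp only [Finset.sum_apply, Pi.smul_apply, smul_eq_mul, Pi.zero_apply] at h1
      calc ∑ φ : S, c φ * (p (b j) * (φ : A →+* K) (a j))
          = p (b j) * ∑ φ : S, c φ * v φ j := by
            rw [Finset.mul_sum]; exact Finset.sum_congr rfl fun φ _ => by ring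
        _ = 0 := by rw [h1, mul_zero]
    have hli0 : LinearIndependent K (fun φ : S => (((φ : A →+* K) : A →* K) : A → K)) :=
      (linearIndependent_monoidHom A K).comp (fun φ : S => ((φ : A →+* K) : A →* K))
        (fun φ ψ h => Subtype.ext (RingHom.coe_monoidHom_injective h))
    exact Fintype.linearIndependent_iff.mp hli0 c hfun
  have := hli.fintype_card_le_finrank
  simpa using this

variable {k : Type u} [Field k]

/-- the number of points of a finite cover of affine `s`-space generated by `n` elements -/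
lemma card_algHom_le {A : Type u} [CommRing A] [Algebra k A] (s n : ℕ)
    (g : MvPolynomial (Fin s) k →ₐ[k] A) (a : Fin n → A)
    (ha : ∀ x : A, ∃ c : Fin n → MvPolynomial (Fin s) k, x = ∑ j, g (c j) * a j)
    (K : Type u) [Field K] [Algebra k K] [Finite K] :
    Finite (A →ₐ[k] K) ∧ Nat.card (A →ₐ[k] K) ≤ n * Nat.card K ^ s := by
  classical
  haveI := Fintype.ofFinite K
  have key : ∀ T : Finset (A →ₐ[k] K), T.card ≤ n * Nat.card K ^ s := by
    intro T
    let ρ : (A →ₐ[k] K) → (Fin s → K) := fun φ i => φ (g (MvPolynomial.X i))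
    have h1 := Finset.card_le_mul_card_image (f := ρ) T n (by
      intro w _
      have hinj : Function.Injective (fun φ : A →ₐ[k] K => (φ : A →+* K)) :=
        fun φ ψ h => AlgHom.coe_ringHom_injective h
      rw [← Finset.card_image_of_injective _ hinj]
      refine card_fibre_le g.toRingHom (MvPolynomial.aeval (R := k) w).toRingHom n a ha _ ?_
      intro ψ hψ
      obtain ⟨φ, hφ, rfl⟩ := Finset.mem_image.mp hψ
      have hφw : ρ φ = w := (Finset.mem_filter.mp hφ).2
      have : φ.comp g = MvPolynomial.aeval (R := k) w := by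
        apply MvPolynomial.algHom_ext
        intro i
        rw [MvPolynomial.aeval_X, ← hφw]
        rfl
      exact congrArg AlgHom.toRingHom this)
    refine h1.trans (Nat.mul_le_mul_left _ ?_)
    calc (T.image ρ).card ≤ Fintype.card (Fin s → K) := Finset.card_le_univ _
      _ = Nat.card K ^ s := by
        rw [Fintype.card_fun, Fintype.card_fin, Nat.card_eq_fintype_card]
  have hfin : Finite (A →ₐ[k] K) := by
    by_contra hinf
    rw [not_finite_iff_infinite] at hinf
    obtain ⟨T, hT⟩ := Infinite.exists_subset_card_eq (A →ₐ[k] K) (n * Nat.card K ^ s + 1)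
    have := key T
    omega
  refine ⟨hfin, ?_⟩
  haveI := Fintype.ofFinite (A →ₐ[k] K)
  rw [Nat.card_eq_fintype_card, ← Finset.card_univ]
  exact key _

/-- the bound for a finitely generated algebra of dimension at most `r` -/
theorem exists_bound (A : Type u) [CommRing A] [Algebra k A] [Algebra.FiniteType k A] (r : ℕ)
    (hr : ringKrullDim A ≤ r) :
    ∃ c : ℕ, ∀ (K : Type u) [Field K] [Algebra k K] [Finite K],
      Finite (A →ₐ[k] K) ∧ Nat.card (A →ₐ[k] K) ≤ c * Nat.card K ^ r := by
  rcases subsingleton_or_nontrivial A with hA | hA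
  · refine ⟨0, fun K _ _ _ => ?_⟩
    haveI : IsEmpty (A →ₐ[k] K) := ⟨fun φ => by
      have h1 : φ 1 = 1 := map_one φ
      rw [Subsingleton.elim (1 : A) 0, map_zero] at h1
      exact zero_ne_one h1⟩
    exact ⟨inferInstance, by simp⟩
  · obtain ⟨s, g, hinj, hfin⟩ := exists_finite_inj_algHom_of_fg k A
    have hdim := Groth.Agent.Lib.Helper14.FTDim.ringKrullDim_of_finite_injective g hinj hfin
    rw [Fintype.card_fin] at hdim
    have hsr : s ≤ r := by
      rw [hdim] at hr
      exact_mod_cast hr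
    letI := g.toRingHom.toAlgebra
    haveI : Module.Finite (MvPolynomial (Fin s) k) A := hfin
    obtain ⟨n, a, ha⟩ := Module.Finite.exists_fin (R := MvPolynomial (Fin s) k) (M := A)
    have ha' : ∀ x : A, ∃ c : Fin n → MvPolynomial (Fin s) k, x = ∑ j, g (c j) * a j := by
      intro x
      have hx : x ∈ Submodule.span (MvPolynomial (Fin s) k) (Set.range a) := by rw [ha]; trivial
      obtain ⟨c, hc⟩ := (Submodule.mem_span_range_iff_exists_fun _).mp hx
      refine ⟨c, hc.symm.trans (Finset.sum_congr rfl fun j _ => ?_)⟩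
      rw [Algebra.smul_def]
      rfl
    refine ⟨n, fun K _ _ _ => ?_⟩
    obtain ⟨h1, h2⟩ := card_algHom_le s n g a ha' K
    refine ⟨h1, h2.trans (Nat.mul_le_mul_left _ (Nat.pow_le_pow_right Nat.card_pos hsr))⟩

end Alg

section Sch

variable {k : Type u} [Field k]

/-- the affine case -/
lemma exists_bound_Spec (R : CommRingCat.{u}) (h₀ : Spec R ⟶ Spec (CommRingCat.of k))
    [LocallyOfFiniteType h₀] (r : ℕ) (hr : topologicalKrullDim (Spec R) ≤ r) :
    ∃ c : ℕ, ∀ (K : Type u) [Field K] [Algebra k K] [Finite K],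
      Finite {h : Spec (CommRingCat.of K) ⟶ Spec R //
        h ≫ h₀ = Spec.map (CommRingCat.ofHom (algebraMap k K))} ∧
      SgaExt.pointCount h₀ K ≤ c * Nat.card K ^ r := by
  obtain ⟨φ₀, rfl⟩ : ∃ φ₀ : CommRingCat.of k ⟶ R, h₀ = Spec.map φ₀ :=
    ⟨Spec.preimage h₀, (Spec.map_preimage h₀).symm⟩
  letI : Algebra k R := φ₀.hom.toAlgebra
  have hft : φ₀.hom.FiniteType :=
    (HasRingHomProperty.Spec_iff (P := @LocallyOfFiniteType)).mp inferInstance
  haveI : Algebra.FiniteType k R := hft
  have hdim : ringKrullDim R ≤ r := by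
    rw [← PrimeSpectrum.topologicalKrullDim_eq_ringKrullDim]
    exact hr
  obtain ⟨c, hc⟩ := exists_bound (k := k) R r hdim
  refine ⟨c, fun K _ _ _ => ?_⟩
  let Φ : (R →ₐ[k] K) → {h : Spec (CommRingCat.of K) ⟶ Spec R //
      h ≫ Spec.map φ₀ = Spec.map (CommRingCat.ofHom (algebraMap k K))} :=
    fun ψ => ⟨Spec.map (CommRingCat.ofHom ψ.toRingHom), by
      rw [← Spec.map_comp]
      congr 1
      ext x
      exact ψ.commutes x⟩
  have hΦ : Function.Bijective Φ := by
    constructor
    · intro ψ ψ' h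
      have h1 : Spec.map (CommRingCat.ofHom ψ.toRingHom) =
          Spec.map (CommRingCat.ofHom ψ'.toRingHom) := congrArg Subtype.val h
      have h2 := Spec.map_injective h1
      apply AlgHom.coe_ringHom_injective
      exact congrArg CommRingCat.Hom.hom h2
    · rintro ⟨h, hh⟩
      have h3 : φ₀ ≫ Spec.preimage h = CommRingCat.ofHom (algebraMap k K) := by
        apply Spec.map_injective
        rw [Spec.map_comp, Spec.map_preimage, hh]
      refine ⟨{ toRingHom := (Spec.preimage h).hom, commutes' := fun x => ?_ }, Subtype.ext ?_⟩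
      · exact congrArg (fun χ => χ.hom x) h3
      · exact Spec.map_preimage h
  obtain ⟨h1, h2⟩ := hc K
  refine ⟨Finite.of_surjective Φ hΦ.2, ?_⟩
  unfold SgaExt.pointCount
  rw [← Nat.card_congr (Equiv.ofBijective Φ hΦ)]
  exact h2

/-- the number of points of a scheme of finite type and dimension `≤ r` over `k` with values in a
finite field `K` is at most `c * |K|^r` -/
theorem exists_bound_scheme {X : Scheme.{u}} (f : X ⟶ Spec (CommRingCat.of k))
    [LocallyOfFiniteType f] [QuasiCompact f] (r : ℕ) (hr : topologicalKrullDim X ≤ r) :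
    ∃ c : ℕ, ∀ (K : Type u) [Field K] [Algebra k K] [Finite K],
      SgaExt.pointCount f K ≤ c * Nat.card K ^ r := by
  classical
  haveI : CompactSpace X := QuasiCompact.compactSpace_of_compactSpace f
  let 𝒜 := X.affineOpenCover
  obtain ⟨t, ht⟩ := isCompact_univ.elim_finite_subcover (fun i => Set.range (𝒜.f i).base)
    (fun i => (𝒜.f i).isOpenEmbedding.isOpen_range)
    (fun x _ => Set.mem_iUnion.mpr ⟨𝒜.idx x, 𝒜.covers x⟩)
  choose c hc using fun i => exists_bound_Spec (𝒜.X i) (𝒜.f i ≫ f) r
    (le_trans ((𝒜.f i).isOpenEmbedding.isInducing.topologicalKrullDim_le) hr)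
  refine ⟨∑ i ∈ t, c i, fun K _ _ _ => ?_⟩
  haveI : ∀ i : t, Finite {h : Spec (CommRingCat.of K) ⟶ Spec (𝒜.X i) //
      h ≫ 𝒜.f i ≫ f = Spec.map (CommRingCat.ofHom (algebraMap k K))} := fun i => (hc i K).1
  let Ψ : (Σ i : t, {h : Spec (CommRingCat.of K) ⟶ Spec (𝒜.X i) //
      h ≫ 𝒜.f i ≫ f = Spec.map (CommRingCat.ofHom (algebraMap k K))}) →
      {g : Spec (CommRingCat.of K) ⟶ X //
        g ≫ f = Spec.map (CommRingCat.ofHom (algebraMap k K))} :=
    fun p => ⟨p.2.1 ≫ 𝒜.f p.1, by rw [Category.assoc]; exact p.2.2⟩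
  have hΨ : Function.Surjective Ψ := by
    rintro ⟨g, hg⟩
    let pt : Spec (CommRingCat.of K) := default
    have hmem : g.base pt ∈ ⋃ i ∈ t, Set.range (𝒜.f i).base := ht (Set.mem_univ _)
    simp only [Set.mem_iUnion] at hmem
    obtain ⟨i, hi, hmem⟩ := hmem
    have hrange : Set.range g.base ⊆ Set.range (𝒜.f i).base := by
      rintro _ ⟨y, rfl⟩
      rwa [Subsingleton.elim y pt]
    refine ⟨⟨⟨i, hi⟩, ⟨IsOpenImmersion.lift (𝒜.f i) g hrange, ?_⟩⟩,
      Subtype.ext (IsOpenImmersion.lift_fac _ _ _)⟩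
    rw [← Category.assoc, IsOpenImmersion.lift_fac]
    exact hg
  calc SgaExt.pointCount f K
      ≤ Nat.card (Σ i : t, {h : Spec (CommRingCat.of K) ⟶ Spec (𝒜.X i) //
        h ≫ 𝒜.f i ≫ f = Spec.map (CommRingCat.ofHom (algebraMap k K))}) :=
        Nat.card_le_card_of_surjective Ψ hΨ
    _ = ∑ i : t, Nat.card {h : Spec (CommRingCat.of K) ⟶ Spec (𝒜.X i) //
        h ≫ 𝒜.f i ≫ f = Spec.map (CommRingCat.ofHom (algebraMap k K))} := Nat.card_sigma
    _ ≤ ∑ i : t, c i * Nat.card K ^ r := Finset.sum_le_sum fun i _ => (hc i K).2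
    _ = (∑ i ∈ t, c i) * Nat.card K ^ r := by
        rw [Finset.sum_mul, Finset.sum_coe_sort t (fun i => c i * Nat.card K ^ r)]

/-- S13062 -/
theorem exists_bound_scheme' [Finite k] {X : Scheme.{u}} (f : X ⟶ Spec (CommRingCat.of k))
    [LocallyOfFiniteType f] [QuasiCompact f] (r : ℕ) (hr : topologicalKrullDim X ≤ r) :
    ∃ c : ℕ, ∀ (k' : Type u) [Field k'] [Algebra k k'] [Finite k'],
      SgaExt.pointCount f k' ≤ c * Nat.card k ^ (r * Module.finrank k k') := by
  obtain ⟨c, hc⟩ := exists_bound_scheme f r hr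
  refine ⟨c, fun k' _ _ _ => ?_⟩
  haveI : Module.Finite k k' := Module.Finite.of_finite
  have := hc k'
  rwa [Module.natCard_eq_pow_finrank (K := k) (V := k'), ← pow_mul,
    mul_comm (Module.finrank k k') r] at this

end Sch

end Groth.Agent.Lib.Helper10.PtBound
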