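import Mathlib

/-!
# The action of `Gal(K/k)` on `A ⊗[k] K` and transitivity on the fibres of `Spec (A ⊗ K) → Spec A`
-/

universe u

open TensorProduct

namespace Groth.Agent.Lib.Helper10.GalTensor

variable (k : Type u) [Field k] (K : Type u) [Field K] [Algebra k K] (A : Type u) [CommRing A]
  [Algebra k A]

/-- the action of `Gal(K/k)` on `A ⊗[k] K` through the second factor -/
noncomputable def ρ : (K ≃ₐ[k] K) →* ((A ⊗[k] K) ≃ₐ[A] (A ⊗[k] K)) where
  toFun σ := Algebra.TensorProduct.congr AlgEquiv.refl σ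
  map_one' := Algebra.TensorProduct.congr_refl
  map_mul' σ τ := by
    have := Algebra.TensorProduct.congr_trans (S := A) (AlgEquiv.refl : A ≃ₐ[A] A) AlgEquiv.refl τ σ
    exact this

lemma ρ_tmul (σ : K ≃ₐ[k] K) (a : A) (x : K) : ρ k K A σ (a ⊗ₜ x) = a ⊗ₜ σ x := rfl

/-- the action as a `MulSemiringAction` -/
@[reducible] noncomputable def action : MulSemiringAction (K ≃ₐ[k] K) (A ⊗[k] K) :=
  MulSemiringAction.compHom _ (ρ k K A)

attribute [local instance] action

lemma smul_def (σ : K ≃ₐ[k] K) (t : A ⊗[k] K) : σ • t = ρ k K A σ t := rfl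

lemma smul_tmul' (σ : K ≃ₐ[k] K) (a : A) (x : K) : σ • (a ⊗ₜ[k] x) = a ⊗ₜ σ x := rfl

instance smulComm : SMulCommClass (K ≃ₐ[k] K) A (A ⊗[k] K) where
  smul_comm σ a t := by
    rw [smul_def, smul_def, map_smul]

theorem isInvariant [IsGalois k K] : Algebra.IsInvariant A (A ⊗[k] K) (K ≃ₐ[k] K) := by
  constructor
  intro t ht
  classical
  let ℬ := Module.Free.chooseBasis k A
  let E := TensorProduct.equivFinsuppOfBasisLeft (N := K) ℬ
  have hcoord : ∀ (σ : K ≃ₐ[k] K) (t : A ⊗[k] K) i, E (σ • t) i = σ (E t i) := by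
    intro σ t i
    induction t using TensorProduct.induction_on with
    | zero => simp
    | tmul a x =>
      rw [smul_tmul']
      simp only [E, TensorProduct.equivFinsuppOfBasisLeft_apply_tmul_apply, map_smul]
    | add t t' h h' =>
      rw [smul_add, map_add, Finsupp.add_apply, h, h', map_add, Finsupp.add_apply, map_add]
  have hfix : ∀ i, E t i ∈ Set.range (algebraMap k K) := by
    intro i
    rw [InfiniteGalois.mem_range_algebraMap_iff_fixed]
    intro σ
    rw [← hcoord, ht σ]
  choose c hc using hfix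
  refine ⟨(E t).support.sum fun i => c i • ℬ i, ?_⟩
  apply E.injective
  ext i
  rw [Algebra.TensorProduct.algebraMap_apply, Algebra.algebraMap_self, RingHom.id_apply]
  simp only [E, TensorProduct.equivFinsuppOfBasisLeft_apply_tmul_apply]
  simp only [map_sum, map_smul, Module.Basis.repr_self, Finsupp.smul_single, smul_eq_mul, mul_one,
    Finsupp.finsetSum_apply, Finsupp.single_apply, Finset.sum_ite_eq', Finsupp.mem_support_iff]
  split_ifs with h
  · rw [Algebra.smul_def, mul_one]
    exact hc i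
  · rw [zero_smul]
    push Not at h
    exact h.symm

/-- stabilizers are open in the Krull topology -/
theorem isOpen_stabilizer [Algebra.IsAlgebraic k K] (t : A ⊗[k] K) :
    IsOpen (MulAction.stabilizer (K ≃ₐ[k] K) t : Set (K ≃ₐ[k] K)) := by
  induction t using TensorProduct.induction_on with
  | zero =>
    refine Subgroup.isOpen_mono (H₁ := ⊤) (fun σ _ => ?_) isOpen_univ
    rw [MulAction.mem_stabilizer_iff, smul_zero]
  | tmul a x =>
    haveI : FiniteDimensional k (IntermediateField.adjoin k {x}) :=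
      IntermediateField.adjoin.finiteDimensional (Algebra.IsIntegral.isIntegral x)
    refine Subgroup.isOpen_mono (H₁ := (IntermediateField.adjoin k {x}).fixingSubgroup)
      (fun σ hσ => ?_) (IntermediateField.fixingSubgroup_isOpen _)
    rw [MulAction.mem_stabilizer_iff, smul_tmul']
    congr 1
    exact hσ ⟨x, IntermediateField.mem_adjoin_simple_self k x⟩
  | add t t' h h' =>
    refine Subgroup.isOpen_mono (H₁ := MulAction.stabilizer _ t ⊓ MulAction.stabilizer _ t')
      (fun σ hσ => ?_) ?_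
    · rw [MulAction.mem_stabilizer_iff, smul_add]
      rw [Subgroup.mem_inf, MulAction.mem_stabilizer_iff, MulAction.mem_stabilizer_iff] at hσ
      rw [hσ.1, hσ.2]
    · rw [Subgroup.coe_inf]
      exact h.inter h'

/-- `Gal(K/k)` acts transitively on the primes of `A ⊗[k] K` over a given prime of `A`. -/
theorem exists_comap_eq [IsGalois k K] (P Q : Ideal (A ⊗[k] K)) [P.IsPrime] [Q.IsPrime]
    (h : P.comap (algebraMap A (A ⊗[k] K)) = Q.comap (algebraMap A (A ⊗[k] K))) :
    ∃ σ : K ≃ₐ[k] K, Q = P.comap ((ρ k K A σ : (A ⊗[k] K) ≃ₐ[A] (A ⊗[k] K)) :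
      (A ⊗[k] K) →+* (A ⊗[k] K)) := by
  letI : TopologicalSpace (A ⊗[k] K) := ⊥
  haveI : DiscreteTopology (A ⊗[k] K) := ⟨rfl⟩
  haveI : Algebra.IsAlgebraic k K := inferInstance
  haveI : ContinuousSMul (K ≃ₐ[k] K) (A ⊗[k] K) :=
    continuousSMul_iff_stabilizer_isOpen.mpr (isOpen_stabilizer k K A)
  haveI := isInvariant k K A
  obtain ⟨g, hg⟩ := Algebra.IsInvariant.exists_smul_of_under_eq_of_profinite
    (A := A) (B := A ⊗[k] K) (G := K ≃ₐ[k] K) P Q h
  refine ⟨g⁻¹, ?_⟩
  rw [hg, Ideal.pointwise_smul_eq_comap]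
  rfl

end Groth.Agent.Lib.Helper10.GalTensor
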