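import Mathlib
import Groth.Agent.Lib.Helper10GalTensor

/-!
# Galois orbits on a base change `X ×_k K`: the fibres of `X_K → X` are the `Gal(K/k)`-orbits
-/

universe u

open AlgebraicGeometry CategoryTheory CategoryTheory.Limits TensorProduct

namespace Groth.Agent.Lib.Helper10.GalSch

open Groth.Agent.Lib.Helper10.GalTensor

/-- surjectivity on points of the comparison with the topological fibre product, for an abstract
pullback square -/
lemma exists_preimage_of_isPullback {P X Y S : Scheme.{u}} {fst : P ⟶ X} {snd : P ⟶ Y}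
    {f : X ⟶ S} {g : Y ⟶ S} (h : IsPullback fst snd f g) (x : X) (y : Y) (hxy : f x = g y) :
    ∃ z : P, fst z = x ∧ snd z = y := by
  obtain ⟨z, hz1, hz2⟩ := Scheme.Pullback.exists_preimage_pullback x y hxy
  refine ⟨h.isoPullback.inv z, ?_, ?_⟩
  · rw [← Scheme.Hom.comp_apply, h.isoPullback_inv_fst, hz1]
  · rw [← Scheme.Hom.comp_apply, h.isoPullback_inv_snd, hz2]

variable {k : Type u} [Field k] {K : Type u} [Field K] [Algebra k K]
  {X : Scheme.{u}} (f : X ⟶ Spec (CommRingCat.of k))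
  {Y : Scheme.{u}} (fY : Y ⟶ Spec (CommRingCat.of K))
  (π : Y ⟶ X) (hπ : IsPullback π fY f (Spec.map (CommRingCat.ofHom (algebraMap k K))))

section Chart

variable {A : Type u} [CommRing A] [Algebra k A] (j : Spec (CommRingCat.of A) ⟶ X)
  (hj : j ≫ f = Spec.map (CommRingCat.ofHom (algebraMap k A)))

/-- the chart `Spec (A ⊗[k] K) ⟶ Y` over a chart `Spec A ⟶ X` -/
noncomputable def chart : Spec (CommRingCat.of (A ⊗[k] K)) ⟶ Y :=
  hπ.lift (Spec.map (CommRingCat.ofHom Algebra.TensorProduct.includeLeftRingHom) ≫ j)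
    (Spec.map (CommRingCat.ofHom (Algebra.TensorProduct.includeRight (R := k) (A := A)
      (B := K)).toRingHom))
    (by
      rw [Category.assoc, hj, ← Spec.map_comp, ← Spec.map_comp]
      congr 1
      exact (CommRingCat.isPushout_tensorProduct k A K).w)

lemma chart_fst : chart f fY π hπ j hj ≫ π =
    Spec.map (CommRingCat.ofHom Algebra.TensorProduct.includeLeftRingHom) ≫ j :=
  hπ.lift_fst _ _ _

lemma chart_snd : chart f fY π hπ j hj ≫ fY =
    Spec.map (CommRingCat.ofHom (Algebra.TensorProduct.includeRight (R := k) (A := A)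
      (B := K)).toRingHom) :=
  hπ.lift_snd _ _ _

lemma isPullback_chart : IsPullback (chart f fY π hπ j hj)
    (Spec.map (CommRingCat.ofHom Algebra.TensorProduct.includeLeftRingHom)) π j := by
  have hbig := (isPullback_SpecMap_of_isPushout _ _ _ _
    (CommRingCat.isPushout_tensorProduct k A K)).flip
  refine IsPullback.of_right ?_ (chart_fst f fY π hπ j hj) hπ.flip
  rw [chart_snd, hj]
  exact hbig

variable (τ : (K ≃ₐ[k] K) → (Y ⟶ Y)) (hτ1 : ∀ σ, τ σ ≫ π = π)
  (hτ2 : ∀ σ, τ σ ≫ fY = fY ≫ Spec.map (CommRingCat.ofHom (σ : K →+* K)))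

include hτ1 hτ2 in
lemma chart_comp_τ (σ : K ≃ₐ[k] K) : chart f fY π hπ j hj ≫ τ σ =
    Spec.map (CommRingCat.ofHom ((ρ k K A σ : (A ⊗[k] K) ≃ₐ[A] (A ⊗[k] K)) :
      (A ⊗[k] K) →+* (A ⊗[k] K))) ≫ chart f fY π hπ j hj := by
  apply hπ.hom_ext
  · rw [Category.assoc, hτ1, Category.assoc, chart_fst, ← Category.assoc, ← Spec.map_comp]
    congr 2
    ext a
    change a ⊗ₜ[k] (1 : K) = ρ k K A σ (a ⊗ₜ 1)
    rw [ρ_tmul, map_one]
  · rw [Category.assoc, hτ2, ← Category.assoc, chart_snd, Category.assoc, chart_snd,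
      ← Spec.map_comp, ← Spec.map_comp]
    congr 1

end Chart

section Orbit

variable (τ : (K ≃ₐ[k] K) → (Y ⟶ Y)) (hτ1 : ∀ σ, τ σ ≫ π = π)
  (hτ2 : ∀ σ, τ σ ≫ fY = fY ≫ Spec.map (CommRingCat.ofHom (σ : K →+* K)))

/-- an affine chart around a point of `X`, as a `k`-algebra -/
lemma exists_chart (x₀ : X) : ∃ (A : Type u) (_ : CommRing A) (_ : Algebra k A)
    (j : Spec (CommRingCat.of A) ⟶ X), IsOpenImmersion j ∧
      j ≫ f = Spec.map (CommRingCat.ofHom (algebraMap k A)) ∧ x₀ ∈ Set.range j := by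
  obtain ⟨U, hU, hxU, -⟩ := exists_isAffineOpen_mem_and_subset (x := x₀) (U := ⊤) trivial
  let j : Spec (CommRingCat.of Γ(X, U)) ⟶ X := hU.fromSpec
  let φ : CommRingCat.of k ⟶ CommRingCat.of Γ(X, U) := Spec.preimage (j ≫ f)
  refine ⟨Γ(X, U), inferInstance, φ.hom.toAlgebra, j, hU.isOpenImmersion_fromSpec, ?_, ?_⟩
  · exact (Spec.map_preimage (j ≫ f)).symm
  · rw [hU.range_fromSpec]
    exact hxU

include hπ hτ1 hτ2 in
/-- The fibres of `X_K → X` are the `Gal(K/k)`-orbits. -/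
theorem orbit [IsGalois k K] (x y : Y) (h : π x = π y) : ∃ σ, τ σ x = y := by
  obtain ⟨A, _, _, j, -, hj, ⟨a, ha⟩⟩ := exists_chart f (π x)
  have hpb := isPullback_chart f fY π hπ j hj
  obtain ⟨x', hx', hxa⟩ := exists_preimage_of_isPullback hpb x a ha.symm
  obtain ⟨y', hy', hya⟩ := exists_preimage_of_isPullback hpb y a (h ▸ ha.symm)
  haveI := x'.isPrime
  haveI := y'.isPrime
  have hcomap : x'.asIdeal.comap (algebraMap A (A ⊗[k] K)) =
      y'.asIdeal.comap (algebraMap A (A ⊗[k] K)) := by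
    have h1 := congrArg PrimeSpectrum.asIdeal hxa
    have h2 := congrArg PrimeSpectrum.asIdeal hya
    exact h1.trans h2.symm
  obtain ⟨σ, hσ⟩ := exists_comap_eq k K A x'.asIdeal y'.asIdeal hcomap
  refine ⟨σ, ?_⟩
  have hy'' : Spec.map (CommRingCat.ofHom ((ρ k K A σ : (A ⊗[k] K) ≃ₐ[A] (A ⊗[k] K)) :
      (A ⊗[k] K) →+* (A ⊗[k] K))) x' = y' := by
    apply PrimeSpectrum.ext
    exact hσ.symm
  rw [← hx', ← Scheme.Hom.comp_apply, chart_comp_τ f fY π hπ j hj τ hτ1 hτ2 σ,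
    Scheme.Hom.comp_apply, hy'', hy']

end Orbit

end Groth.Agent.Lib.Helper10.GalSch
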