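import Mathlib
import Groth.Agent.Lib.Helper10GalSch
import Groth.Agent.Lib.Helper10FixPts

/-!
# Galois action on `X ×_k k̄` for a finite field `k`, and the geometric Frobenius
-/

universe u

open AlgebraicGeometry CategoryTheory CategoryTheory.Limits TensorProduct

namespace Groth.Agent.Lib.Helper10.GalFrob

open Groth.Agent.Lib.Helper10.GalTensor Groth.Agent.Lib.Helper10.GalSch
open Groth.Agent.Lib.Helper10.GaloisOrbit Groth.Agent.Lib.Helper10.FixPts

variable {k : Type u} [Field k] {K : Type u} [Field K] [Algebra k K]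
  {X : Scheme.{u}} (f : X ⟶ Spec (CommRingCat.of k))
  {Y : Scheme.{u}} (fY : Y ⟶ Spec (CommRingCat.of K))
  (π : Y ⟶ X) (hπ : IsPullback π fY f (Spec.map (CommRingCat.ofHom (algebraMap k K))))
  (τ : (K ≃ₐ[k] K) → (Y ⟶ Y)) (hτ1 : ∀ σ, τ σ ≫ π = π)
  (hτ2 : ∀ σ, τ σ ≫ fY = fY ≫ Spec.map (CommRingCat.ofHom (σ : K →+* K)))

section Action

include hπ hτ1 hτ2

lemma act_one : τ 1 = 𝟙 Y := by
  apply hπ.hom_ext
  · rw [hτ1, Category.id_comp]
  · rw [hτ2, Category.id_comp]
    have : CommRingCat.ofHom ((1 : K ≃ₐ[k] K) : K →+* K) = 𝟙 (CommRingCat.of K) := rfl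
    rw [this, Spec.map_id, Category.comp_id]

lemma act_mul (σ σ' : K ≃ₐ[k] K) : τ (σ * σ') = τ σ ≫ τ σ' := by
  apply hπ.hom_ext
  · rw [hτ1, Category.assoc, hτ1, hτ1]
  · rw [hτ2, Category.assoc, hτ2, ← Category.assoc, hτ2, Category.assoc, ← Spec.map_comp]
    rfl

lemma act_mul_apply (σ σ' : K ≃ₐ[k] K) (y : Y) : τ (σ * σ') y = τ σ' (τ σ y) := by
  rw [act_mul f fY π hπ τ hτ1 hτ2]
  rfl

lemma act_inv_apply (σ : K ≃ₐ[k] K) (y : Y) : τ σ⁻¹ (τ σ y) = y := by
  rw [← act_mul_apply f fY π hπ τ hτ1 hτ2, mul_inv_cancel, act_one f fY π hπ τ hτ1 hτ2]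
  rfl

lemma act_pow_apply (σ : K ≃ₐ[k] K) (n : ℕ) (y : Y) : τ (σ ^ n) y = (τ σ)^[n] y := by
  induction n generalizing y with
  | zero =>
    rw [pow_zero, act_one f fY π hπ τ hτ1 hτ2]
    rfl
  | succ n ih =>
    rw [pow_succ, act_mul_apply f fY π hπ τ hτ1 hτ2, ih, Function.iterate_succ_apply']

end Action

section Frob

variable [Fintype k] [Algebra.IsAlgebraic k K]
  (FX : X ⟶ X) (hFb : FX.base = 𝟙 _) (hle : ∀ U : X.Opens, U ≤ FX ⁻¹ᵁ U)
  (hFapp : ∀ (U : X.Opens) (s : Γ(X, U)), (FX.appLE U U (hle U)).hom s = s ^ Fintype.card k)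
  (F : Y ⟶ Y) (hF1 : F ≫ π = π ≫ FX) (hF2 : F ≫ fY = fY)

include hπ hτ1 hτ2 hFb hFapp hF1 hF2 in
/-- On points, the geometric Frobenius `Frob_X × id` is inverse to the arithmetic Frobenius
`id × Spec φ`. -/
lemma frob_act_apply (y : Y) :
    τ (FiniteField.frobeniusAlgEquivOfAlgebraic k K) (F y) = y := by
  set φ := FiniteField.frobeniusAlgEquivOfAlgebraic k K with hφ
  let c : CommRingCat.of K ⟶ Y.residueField y := resHom K fY y
  have hc : Spec.map c = Y.fromSpecResidueField y ≫ fY := map_resHom K fY y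
  letI : Algebra k (Y.residueField y) := (c.hom.comp (algebraMap k K)).toAlgebra
  let Ψ : Y.residueField y ⟶ Y.residueField y :=
    CommRingCat.ofHom (FiniteField.frobeniusAlgHom k (Y.residueField y)).toRingHom
  have hΨ : ∀ t, Ψ t = t ^ Fintype.card k := fun t => rfl
  obtain ⟨Φ, hΦ, hΦ'⟩ := fromSpecResidueField_comp_frob FX (Fintype.card k) hFb hle hFapp (π y)
  have key : Y.fromSpecResidueField y ≫ (F ≫ τ φ) = Spec.map Ψ ≫ Y.fromSpecResidueField y := by
    apply hπ.hom_ext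
    · rw [Category.assoc, Category.assoc, hτ1, hF1, ← Category.assoc,
        ← Scheme.Hom.SpecMap_residueFieldMap_fromSpecResidueField, Category.assoc, hΦ',
        ← Category.assoc, ← Spec.map_comp, Category.assoc,
        ← Scheme.Hom.SpecMap_residueFieldMap_fromSpecResidueField, ← Category.assoc,
        ← Spec.map_comp]
      congr 2
      ext t
      rw [CommRingCat.comp_apply, CommRingCat.comp_apply, hΦ, hΨ, map_pow]
    · rw [Category.assoc, Category.assoc, hτ2, ← Category.assoc F, hF2, ← Category.assoc,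
        ← hc, ← Spec.map_comp, Category.assoc, ← hc, ← Spec.map_comp]
      congr 1
      ext x
      rw [CommRingCat.comp_apply, CommRingCat.comp_apply, hΨ]
      change c (φ x) = c x ^ _
      rw [hφ, FiniteField.coe_frobeniusAlgEquivOfAlgebraic, map_pow]
  obtain ⟨pt⟩ : Nonempty (Spec (Y.residueField y)) := ⟨IsLocalRing.closedPoint _⟩
  have h2 := congr($key pt)
  have h3 : (τ φ) (F ((Y.fromSpecResidueField y) pt)) =
      (Y.fromSpecResidueField y) ((Spec.map Ψ) pt) := h2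
  rw [Scheme.fromSpecResidueField_apply, Scheme.fromSpecResidueField_apply] at h3
  exact h3

end Frob

section Stab

attribute [local instance] Groth.Agent.Lib.Helper10.GalTensor.action

/-- an affine chart of finite type around a point of `X` -/
lemma exists_chart_ft [LocallyOfFiniteType f] (x₀ : X) :
    ∃ (A : Type u) (_ : CommRing A) (_ : Algebra k A)
    (j : Spec (CommRingCat.of A) ⟶ X), Algebra.FiniteType k A ∧
      j ≫ f = Spec.map (CommRingCat.ofHom (algebraMap k A)) ∧ x₀ ∈ Set.range j := by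
  obtain ⟨U, hU, hxU, -⟩ := exists_isAffineOpen_mem_and_subset (x := x₀) (U := ⊤) trivial
  let j : Spec (CommRingCat.of Γ(X, U)) ⟶ X := hU.fromSpec
  let φ : CommRingCat.of k ⟶ CommRingCat.of Γ(X, U) := Spec.preimage (j ≫ f)
  have hφ : Spec.map φ = j ≫ f := Spec.map_preimage (j ≫ f)
  haveI : IsOpenImmersion j := hU.isOpenImmersion_fromSpec
  have h1 : LocallyOfFiniteType (Spec.map φ) := by rw [hφ]; infer_instance
  have h2 : φ.hom.FiniteType := (HasRingHomProperty.Spec_iff (P := @LocallyOfFiniteType)).mp h1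
  refine ⟨Γ(X, U), inferInstance, φ.hom.toAlgebra, j, h2, hφ.symm, ?_⟩
  rw [hU.range_fromSpec]
  exact hxU

include hπ hτ1 hτ2 in
/-- the stabilizer of a point of `X_K` contains the fixing subgroup of a finite normal
subextension -/
lemma exists_fixingSubgroup_le_stab [IsGalois k K] [LocallyOfFiniteType f] (w : Y) :
    ∃ E : IntermediateField k K, FiniteDimensional k E ∧ Normal k E ∧
      ∀ σ ∈ E.fixingSubgroup, τ σ w = w := by
  obtain ⟨A, _, _, j, hft, hj, ⟨a, ha⟩⟩ := exists_chart_ft f (π w)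
  have hpb := isPullback_chart f fY π hπ j hj
  obtain ⟨w', hw', -⟩ := exists_preimage_of_isPullback hpb w a ha.symm
  haveI : IsNoetherianRing (K ⊗[k] A) := Algebra.FiniteType.isNoetherianRing K _
  haveI : IsNoetherianRing (A ⊗[k] K) :=
    isNoetherianRing_of_ringEquiv _ (Algebra.TensorProduct.comm k K A).toRingEquiv
  obtain ⟨s, hs⟩ : (w'.asIdeal : Ideal (A ⊗[k] K)).FG := IsNoetherian.noetherian _
  have hopen : IsOpen (⋂ b ∈ s, (MulAction.stabilizer (K ≃ₐ[k] K) b : Set (K ≃ₐ[k] K))) :=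
    isOpen_biInter_finset (fun b _ => isOpen_stabilizer k K A b)
  have hmem : (⋂ b ∈ s, (MulAction.stabilizer (K ≃ₐ[k] K) b : Set (K ≃ₐ[k] K))) ∈ nhds 1 := by
    refine hopen.mem_nhds ?_
    simp only [Set.mem_iInter]
    intro b _
    exact one_mem _
  obtain ⟨E, hfd, hnorm, hE⟩ := (krullTopology_mem_nhds_one_iff_of_normal k K _).mp hmem
  refine ⟨E, hfd, hnorm, fun σ hσ => ?_⟩
  have hσb : ∀ b ∈ s, ρ k K A σ b = b := fun b hb => by
    have h1 := hE hσ
    simp only [Set.mem_iInter] at h1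
    exact h1 b hb
  have hσb' : ∀ b ∈ s, (ρ k K A σ).symm b = b := fun b hb => by
    rw [AlgEquiv.symm_apply_eq]
    exact (hσb b hb).symm
  have hfix : Spec.map (CommRingCat.ofHom ((ρ k K A σ : (A ⊗[k] K) ≃ₐ[A] (A ⊗[k] K)) :
      (A ⊗[k] K) →+* (A ⊗[k] K))) w' = w' := by
    apply PrimeSpectrum.ext
    change Ideal.comap _ w'.asIdeal = w'.asIdeal
    apply le_antisymm
    · intro t ht
      have hle' : w'.asIdeal ≤ Ideal.comap (((ρ k K A σ).symm : (A ⊗[k] K) ≃ₐ[A] (A ⊗[k] K)) :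
          (A ⊗[k] K) →+* (A ⊗[k] K)) w'.asIdeal := by
        conv_lhs => rw [← hs]
        rw [Ideal.span_le]
        intro b hb
        rw [SetLike.mem_coe, Ideal.mem_comap]
        change (ρ k K A σ).symm b ∈ _
        rw [hσb' b hb, ← hs]
        exact Ideal.subset_span hb
      have h2 := hle' ht
      rw [Ideal.mem_comap] at h2
      change (ρ k K A σ).symm (ρ k K A σ t) ∈ _ at h2
      rwa [AlgEquiv.symm_apply_apply] at h2
    · conv_lhs => rw [← hs]
      rw [Ideal.span_le]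
      intro b hb
      rw [SetLike.mem_coe, Ideal.mem_comap]
      change ρ k K A σ b ∈ _
      rw [hσb b hb, ← hs]
      exact Ideal.subset_span hb
  rw [← hw', ← Scheme.Hom.comp_apply, chart_comp_τ f fY π hπ j hj τ hτ1 hτ2 σ,
    Scheme.Hom.comp_apply, hfix]

end Stab

section Iterate

variable [Fintype k] [IsGalois k K] [LocallyOfFiniteType f]
  (FX : X ⟶ X) (hFb : FX.base = 𝟙 _) (hle : ∀ U : X.Opens, U ≤ FX ⁻¹ᵁ U)
  (hFapp : ∀ (U : X.Opens) (s : Γ(X, U)), (FX.appLE U U (hle U)).hom s = s ^ Fintype.card k)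
  (F : Y ⟶ Y) (hF1 : F ≫ π = π ≫ FX) (hF2 : F ≫ fY = fY)

include hπ hτ1 hτ2 hFb hFapp hF1 hF2 in
/-- every Galois conjugate of a point of `X ×_k k̄` (`k` finite) is an iterated image under the
geometric Frobenius -/
lemma exists_iterate_eq (σ : K ≃ₐ[k] K) (w : Y) : ∃ n : ℕ, τ σ w = F^[n] w := by
  haveI : Algebra.IsAlgebraic k K := inferInstance
  obtain ⟨E, hfd, hnorm, hE⟩ := exists_fixingSubgroup_le_stab f fY π hπ τ hτ1 hτ2 w
  haveI : Finite E := Module.finite_of_finite k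
  set φ := FiniteField.frobeniusAlgEquivOfAlgebraic k K with hφ
  set φE := FiniteField.frobeniusAlgEquivOfAlgebraic k E with hφE
  let res := AlgEquiv.restrictNormalHom (F := k) (K₁ := K) E
  have hker : ∀ s, res s = 1 → s ∈ E.fixingSubgroup := fun s hs => by
    rw [← IntermediateField.restrictNormalHom_ker]
    exact hs
  have hresφ : res φ = φE := by
    ext e
    rw [AlgEquiv.restrictNormalHom_apply]
    rfl
  obtain ⟨⟨m, hm⟩, hmσ⟩ := (FiniteField.bijective_frobeniusAlgEquivOfAlgebraic_pow k E).2 (res σ⁻¹)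
  have hr : φE ^ Module.finrank k E = 1 := by
    rw [← FiniteField.orderOf_frobeniusAlgEquivOfAlgebraic k E]
    exact pow_orderOf_eq_one _
  set n := m + Module.finrank k E with hn
  set s := (φ⁻¹) ^ n * σ⁻¹ with hs
  have hs1 : res s = 1 := by
    have hmσ' : φE ^ m = res σ⁻¹ := hmσ
    rw [hs, map_mul, map_pow, map_inv, hresφ, ← hmσ', inv_pow, hn, pow_add, hr, mul_one,
      inv_mul_cancel]
  have hsw := hE s (hker s hs1)
  have h1 : τ (s * σ) w = τ σ w := by rw [act_mul_apply f fY π hπ τ hτ1 hτ2, hsw]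
  have h2 : s * σ = (φ⁻¹) ^ n := by rw [hs, mul_assoc, inv_mul_cancel, mul_one]
  rw [h2, act_pow_apply f fY π hπ τ hτ1 hτ2] at h1
  have hF : ∀ y, F y = τ φ⁻¹ y := fun y => by
    have h3 := frob_act_apply f fY π hπ τ hτ1 hτ2 FX hFb hle hFapp F hF1 hF2 y
    have h4 := act_inv_apply f fY π hπ τ hτ1 hτ2 φ (F y)
    rw [h3] at h4
    exact h4.symm
  refine ⟨n, ?_⟩
  rw [← h1]
  exact congrFun (congrArg (fun g => g^[n]) (funext hF)).symm w

include hπ hτ1 hτ2 hFb hFapp hF1 hF2 in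
/-- A closed subset of `X ×_k k̄` (`k` finite) descends to `X` iff it is stable under the
geometric Frobenius. -/
theorem closed_descends_iff (W : Set Y) (hW : IsClosed W) :
    (∃ Z : Set X, IsClosed Z ∧ π ⁻¹' Z = W) ↔ F '' W ⊆ W := by
  constructor
  · rintro ⟨Z, -, rfl⟩
    rintro _ ⟨w, hw, rfl⟩
    change π (F w) ∈ Z
    have h1 : π (F w) = FX (π w) := by
      rw [← Scheme.Hom.comp_apply, hF1]
      rfl
    have h2 : FX (π w) = π w := by
      change FX.base (π w) = π w
      rw [hFb]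
      rfl
    rw [h1, h2]
    exact hw
  · intro hFW
    haveI : Algebra.IsAlgebraic k K := inferInstance
    haveI : IsIntegralHom (Spec.map (CommRingCat.ofHom (algebraMap k K))) := by
      rw [IsIntegralHom.SpecMap_iff]
      exact algebraMap_isIntegral_iff.mpr inferInstance
    haveI : IsIntegralHom π := MorphismProperty.of_isPullback hπ.flip inferInstance
    refine ⟨π '' W, π.isClosedMap _ hW, ?_⟩
    apply Set.Subset.antisymm
    · rintro y ⟨w, hw, hwy⟩
      obtain ⟨σ, hσ⟩ := orbit f fY π hπ τ hτ1 hτ2 w y hwy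
      obtain ⟨n, hn⟩ := exists_iterate_eq f fY π hπ τ hτ1 hτ2 FX hFb hle hFapp F hF1 hF2 σ w
      rw [← hσ, hn]
      have hmaps : Set.MapsTo F W W := fun w hw => hFW ⟨w, hw, rfl⟩
      exact hmaps.iterate n hw
    · exact Set.subset_preimage_image _ _

end Iterate

end Groth.Agent.Lib.Helper10.GalFrob
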