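import Mathlib
import Groth.Agent.Lib.Helper10GalFrob
import Groth.Agent.Lib.Helper10PointCount
import Groth.Prelude.Def_ResDeg

/-!
# Closed points of `X ×_k k̄` and Galois-invariant 0-cycles
-/

universe u

open AlgebraicGeometry CategoryTheory CategoryTheory.Limits

namespace Groth.Agent.Lib.Helper10.ZeroCyc

open Groth.Agent.Lib.Helper10.GalSch Groth.Agent.Lib.Helper10.GalFrob
open Groth.Agent.Lib.Helper10.GaloisOrbit Groth.Agent.Lib.Helper10.FixPts

variable {k : Type u} [Field k] {K : Type u} [Field K] [Algebra k K]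
  {X : Scheme.{u}} (f : X ⟶ Spec (CommRingCat.of k))
  {Y : Scheme.{u}} (fY : Y ⟶ Spec (CommRingCat.of K))
  (π : Y ⟶ X) (hπ : IsPullback π fY f (Spec.map (CommRingCat.ofHom (algebraMap k K))))

section Points

/-- the point of `Y = X ×_k K` attached to a point of `X` and an embedding of its residue
field in `K` -/
noncomputable def Θ (t : Σ x : X, Emb K f x) : Y :=
  liftPt f fY π hπ t.1 t.2 (IsLocalRing.closedPoint K)

lemma Θ_injective : Function.Injective (Θ f fY π hπ) := by
  rintro ⟨x, φ⟩ ⟨x', φ'⟩ h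
  have hs : liftPt f fY π hπ x φ = liftPt f fY π hπ x' φ' :=
    kpoint_ext fY _ _ (liftPt_snd f fY π hπ x φ) (liftPt_snd f fY π hπ x' φ') h
  have ha : ptHom f x φ = ptHom f x' φ' := by
    rw [← liftPt_fst f fY π hπ x φ, hs, liftPt_fst]
  have hxx : x = x' := by
    have := congr($ha (IsLocalRing.closedPoint K))
    exact (ptHom_apply f x φ _).symm.trans (this.trans (ptHom_apply f x' φ' _))
  subst hxx
  have := ptHom_injective f x φ φ' ha
  subst this
  rfl

lemma π_Θ (t : Σ x : X, Emb K f x) : π (Θ f fY π hπ t) = t.1 := by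
  change (liftPt f fY π hπ t.1 t.2 ≫ π) (IsLocalRing.closedPoint K) = t.1
  rw [liftPt_fst]
  exact ptHom_apply f t.1 t.2 _

lemma isClosed_Θ [LocallyOfFiniteType fY] (t : Σ x : X, Emb K f x) :
    IsClosed ({Θ f fY π hπ t} : Set Y) :=
  isClosed_of_point K K fY (liftPt f fY π hπ t.1 t.2) ((liftPt_snd f fY π hπ t.1 t.2).trans
    (by rw [show CommRingCat.ofHom (algebraMap K K) = 𝟙 (CommRingCat.of K) from rfl, Spec.map_id]))

lemma isClosed_fst [Algebra.IsAlgebraic k K] [LocallyOfFiniteType f] (t : Σ x : X, Emb K f x) :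
    IsClosed ({t.1} : Set X) := by
  have := isClosed_of_point k K f (ptHom f t.1 t.2) (ptHom_comp f t.1 t.2)
  have h2 := ptHom_apply f t.1 t.2 (IsLocalRing.closedPoint K)
  rw [← h2]
  exact this

lemma exists_Θ_eq [IsAlgClosed K] [LocallyOfFiniteType fY] (w : Y) (hw : IsClosed ({w} : Set Y)) :
    ∃ t, Θ f fY π hπ t = w := by
  obtain ⟨s, hs, hsw⟩ := exists_point_of_isClosed K K fY w hw
  have hid : CommRingCat.ofHom (algebraMap K K) = 𝟙 (CommRingCat.of K) := rfl
  rw [hid, Spec.map_id] at hs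
  have haf : (s ≫ π) ≫ f = Spec.map (CommRingCat.ofHom (algebraMap k K)) := by
    rw [Category.assoc, hπ.w, ← Category.assoc, hs, Category.id_comp]
  obtain ⟨⟨x, φ⟩, ht⟩ := (pointsEquiv f K).surjective ⟨s ≫ π, haf⟩
  have hpt : ptHom f x φ = s ≫ π := congrArg Subtype.val ht
  refine ⟨⟨x, φ⟩, ?_⟩
  have : liftPt f fY π hπ x φ = s := by
    apply hπ.hom_ext
    · rw [liftPt_fst, hpt]
    · rw [liftPt_snd, hs]
  change liftPt f fY π hπ x φ _ = w
  rw [this, hsw]

lemma exists_emb [IsAlgClosed K] [LocallyOfFiniteType f] (x : X) (hx : IsClosed ({x} : Set X)) :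
    Nonempty (Emb K f x) := by
  obtain ⟨p, hp, hpx⟩ := exists_point_of_isClosed k K f x hx
  obtain ⟨⟨x', φ⟩, ht⟩ := (pointsEquiv f K).surjective ⟨p, hp⟩
  have hpt : ptHom f x' φ = p := congrArg Subtype.val ht
  have : x' = x := by
    rw [← hpx, ← hpt]
    exact (ptHom_apply f x' φ _).symm
  subst this
  exact ⟨φ⟩

end Points

section Fibres

variable (τ : (K ≃ₐ[k] K) → (Y ⟶ Y)) (hτ1 : ∀ σ, τ σ ≫ π = π)
  (hτ2 : ∀ σ, τ σ ≫ fY = fY ≫ Spec.map (CommRingCat.ofHom (σ : K →+* K)))

include hπ in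
lemma surjective_π : Function.Surjective π := by
  haveI : Surjective (Spec.map (CommRingCat.ofHom (algebraMap k K))) :=
    ⟨fun x => ⟨IsLocalRing.closedPoint K, Subsingleton.elim (α := PrimeSpectrum k) _ _⟩⟩
  haveI : Surjective π := MorphismProperty.of_isPullback hπ.flip inferInstance
  exact π.surjective

include hπ hτ1 hτ2 in
lemma isClosed_of_isClosed_π [IsGalois k K] [IsAlgClosed K] [LocallyOfFiniteType f]
    [LocallyOfFiniteType fY] (y : Y) (hy : IsClosed ({π y} : Set X)) :
    IsClosed ({y} : Set Y) := by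
  obtain ⟨φ₀⟩ := exists_emb (K := K) f (π y) hy
  set y₀ := Θ f fY π hπ ⟨π y, φ₀⟩ with hy₀
  have h0 : IsClosed ({y₀} : Set Y) := isClosed_Θ f fY π hπ _
  have hπ0 : π y₀ = π y := π_Θ f fY π hπ _
  obtain ⟨σ, hσ⟩ := orbit f fY π hπ τ hτ1 hτ2 y₀ y hπ0
  have : ({y} : Set Y) = (τ σ⁻¹) ⁻¹' {y₀} := by
    ext z
    simp only [Set.mem_singleton_iff, Set.mem_preimage]
    constructor
    · rintro rfl
      rw [← hσ]
      exact act_inv_apply f fY π hπ τ hτ1 hτ2 σ y₀
    · intro hz
      rw [← hσ, ← hz]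
      have := act_inv_apply f fY π hπ τ hτ1 hτ2 σ⁻¹ z
      rw [inv_inv] at this
      exact this.symm
  rw [this]
  exact h0.preimage (τ σ⁻¹).continuous

include hπ in
lemma isClosed_π_of_isClosed [IsAlgClosed K] [Algebra.IsAlgebraic k K] [LocallyOfFiniteType f]
    [LocallyOfFiniteType fY] (y : Y) (hy : IsClosed ({y} : Set Y)) :
    IsClosed ({π y} : Set X) := by
  obtain ⟨t, rfl⟩ := exists_Θ_eq f fY π hπ y hy
  rw [π_Θ]
  exact isClosed_fst f t

include hπ hτ1 hτ2 in
/-- the fibre of `X_K → X` over a closed point `x` is the set of `k`-embeddings `κ(x) → K` -/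
lemma fibre_bijective [IsGalois k K] [IsAlgClosed K] [LocallyOfFiniteType f]
    [LocallyOfFiniteType fY] (x : X) (hx : IsClosed ({x} : Set X)) :
    Function.Bijective (fun φ : Emb K f x =>
      (⟨Θ f fY π hπ ⟨x, φ⟩, π_Θ f fY π hπ ⟨x, φ⟩⟩ : {y : Y // π y = x})) := by
  constructor
  · intro φ φ' h
    have h1 := Θ_injective f fY π hπ (congrArg Subtype.val h)
    cases h1
    rfl
  · rintro ⟨y, hy⟩
    have hyc : IsClosed ({y} : Set Y) :=
      isClosed_of_isClosed_π f fY π hπ τ hτ1 hτ2 y (by rw [hy]; exact hx)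
    obtain ⟨⟨x', φ⟩, rfl⟩ := exists_Θ_eq f fY π hπ y hyc
    have hxx : x' = x := by rw [← hy, π_Θ]
    subst hxx
    exact ⟨φ, rfl⟩

omit [Algebra k K] in
lemma finiteDimensional_resAlg [LocallyOfFiniteType f] (x : X) (hx : IsClosed ({x} : Set X)) :
    @FiniteDimensional k (X.residueField x) _ _ (resAlg f x).toModule := by
  letI := resAlg f x
  have hfin : IsFinite (X.fromSpecResidueField x ≫ f) := by
    rw [isClosed_singleton_iff_isClosedImmersion] at hx
    rw [isFinite_iff_locallyOfFiniteType_of_jacobsonSpace]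
    infer_instance
  rw [← map_resHom k f x, IsFinite.SpecMap_iff] at hfin
  exact hfin

include hπ hτ1 hτ2 in
lemma finite_fibre [IsGalois k K] [IsAlgClosed K] [LocallyOfFiniteType f]
    [LocallyOfFiniteType fY] (x : X) (hx : IsClosed ({x} : Set X)) :
    Finite {y : Y // π y = x} := by
  letI := resAlg f x
  haveI := finiteDimensional_resAlg f x hx
  haveI : Finite (Emb K f x) := inferInstanceAs (Finite (X.residueField x →ₐ[k] K))
  exact Finite.of_equiv _ (Equiv.ofBijective _ (fibre_bijective f fY π hπ τ hτ1 hτ2 x hx))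

include hπ hτ1 hτ2 in
/-- the fibre of `X_K → X` over a closed point `x` has `[κ(x) : k]` points (`k` perfect) -/
lemma card_fibre [PerfectField k] [IsGalois k K] [IsAlgClosed K] [LocallyOfFiniteType f]
    [LocallyOfFiniteType fY] (x : X) (hx : IsClosed ({x} : Set X)) :
    Nat.card {y : Y // π y = x} = EGA4loc.residueDegree f x := by
  rw [← Nat.card_congr (Equiv.ofBijective _ (fibre_bijective f fY π hπ τ hτ1 hτ2 x hx)),
    ← finrank_resAlg]
  letI := resAlg f x
  haveI := finiteDimensional_resAlg f x hx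
  haveI : Algebra.IsSeparable k (X.residueField x) :=
    Algebra.IsAlgebraic.isSeparable_of_perfectField
  exact AlgHom.natCard_of_splits k (X.residueField x) K (fun _ => IsAlgClosed.splits _)

include hπ hτ1 hτ2 in
/-- degree of the pulled back 0-cycle -/
lemma finsum_comp [PerfectField k] [IsGalois k K] [IsAlgClosed K] [LocallyOfFiniteType f]
    [LocallyOfFiniteType fY] (c : X → ℕ) (hc : (Function.support c).Finite)
    (hcl : ∀ x, c x ≠ 0 → IsClosed ({x} : Set X)) :
    (Function.support (c ∘ π)).Finite ∧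
      ∑ᶠ y, c (π y) = ∑ᶠ x, c x * EGA4loc.residueDegree f x := by
  classical
  have hsupp : (Function.support (c ∘ π)).Finite := by
    have : Function.support (c ∘ π) = ⋃ x ∈ Function.support c, {y : Y | π y = x} := by
      ext y
      simp only [Function.mem_support, Function.comp_apply, Set.mem_iUnion, Set.mem_ofPred_eq,
        exists_prop, exists_eq_right']
    rw [this]
    refine Set.Finite.biUnion hc fun x hx => ?_
    have hfin : Finite {y : Y // π y = x} := finite_fibre f fY π hπ τ hτ1 hτ2 x (hcl x hx)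
    exact Set.finite_coe_iff.mp hfin
  refine ⟨hsupp, ?_⟩
  set T := hsupp.toFinset with hT
  set s := hc.toFinset with hs
  have hmaps : ∀ y ∈ T, π y ∈ s := by
    intro y hy
    rw [hT, Set.Finite.mem_toFinset] at hy
    rw [hs, Set.Finite.mem_toFinset]
    exact hy
  rw [finsum_eq_sum_of_support_subset (s := T) _ (by rw [hT, Set.Finite.coe_toFinset]; rfl),
    finsum_eq_sum_of_support_subset (s := s) _ (by
      rw [hs, Set.Finite.coe_toFinset]
      intro x hx
      rw [Function.mem_support] at hx ⊢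
      exact left_ne_zero_of_mul hx),
    ← Finset.sum_fiberwise_of_maps_to' hmaps c]
  refine Finset.sum_congr rfl fun x hx => ?_
  rw [Finset.sum_const, smul_eq_mul, mul_comm]
  congr 1
  have hx' : c x ≠ 0 := by
    rw [hs, Set.Finite.mem_toFinset] at hx
    exact hx
  rw [← card_fibre f fY π hπ τ hτ1 hτ2 x (hcl x hx')]
  symm
  apply Nat.subtype_card
  intro y
  rw [Finset.mem_filter, hT, Set.Finite.mem_toFinset]
  constructor
  · exact fun h => h.2
  · intro h
    refine ⟨?_, h⟩
    rw [Function.mem_support, Function.comp_apply, h]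
    exact hx'

include hπ hτ1 hτ2 in
/-- S13083: effective 0-cycles of degree `n` on `X` correspond to Galois-invariant effective
0-cycles of degree `n` on `X ×_k k̄`. -/
theorem bijOn [PerfectField k] [IsGalois k K] [IsAlgClosed K] [LocallyOfFiniteType f]
    [LocallyOfFiniteType fY] (n : ℕ) :
    Set.BijOn (fun c : X → ℕ => c ∘ π)
      {c : X → ℕ | (Function.support c).Finite ∧ (∀ x, c x ≠ 0 → IsClosed ({x} : Set X)) ∧
        ∑ᶠ x, c x * EGA4loc.residueDegree f x = n}
      {d : Y → ℕ | (Function.support d).Finite ∧ (∀ y, d y ≠ 0 → IsClosed ({y} : Set Y)) ∧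
        ∑ᶠ y, d y = n ∧ ∀ σ y, d (τ σ y) = d y} := by
  have hsurj := surjective_π f fY π hπ
  refine ⟨?_, ?_, ?_⟩
  · rintro c ⟨hc, hcl, hdeg⟩
    obtain ⟨h1, h2⟩ := finsum_comp f fY π hπ τ hτ1 hτ2 c hc hcl
    refine ⟨h1, fun y hy => ?_, ?_, fun σ y => ?_⟩
    · exact isClosed_of_isClosed_π f fY π hπ τ hτ1 hτ2 y (hcl _ hy)
    · rw [← hdeg, ← h2]
      rfl
    · change c (π (τ σ y)) = c (π y)
      rw [← Scheme.Hom.comp_apply, hτ1]
  · intro c _ c' _ h
    exact hsurj.injective_comp_right h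
  · rintro d ⟨hd, hdcl, hdeg, hinv⟩
    set c : X → ℕ := fun x => d (Function.surjInv hsurj x) with hcdef
    have hcd : c ∘ π = d := by
      funext y
      change d (Function.surjInv hsurj (π y)) = d y
      obtain ⟨σ, hσ⟩ := orbit f fY π hπ τ hτ1 hτ2 y (Function.surjInv hsurj (π y))
        (Function.surjInv_eq hsurj (π y)).symm
      rw [← hσ, hinv]
    have hc : (Function.support c).Finite := by
      refine (hd.image π).subset ?_
      intro x hx
      exact ⟨Function.surjInv hsurj x, hx, Function.surjInv_eq hsurj x⟩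
    have hcl : ∀ x, c x ≠ 0 → IsClosed ({x} : Set X) := by
      intro x hx
      have := isClosed_π_of_isClosed f fY π hπ _ (hdcl _ hx)
      rwa [Function.surjInv_eq hsurj x] at this
    refine ⟨c, ⟨hc, hcl, ?_⟩, hcd⟩
    obtain ⟨-, h2⟩ := finsum_comp f fY π hπ τ hτ1 hτ2 c hc hcl
    rw [← h2, ← hdeg]
    exact finsum_congr fun y => congrFun hcd y

end Fibres

end Groth.Agent.Lib.Helper10.ZeroCyc
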