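import Mathlib

/-!
# Logarithmic derivatives of power series without division: `F' = F * S`
-/

namespace Groth.Agent.Lib.Helper27LogDeriv

open PowerSeries

/-- `F' = F * S`, i.e. `S` is the logarithmic derivative of `F`. -/
def LD {R : Type*} [CommRing R] (F S : R⟦X⟧) : Prop := d⁄dX R F = F * S

section Ring

variable {R : Type*} [CommRing R]

theorem LD.one : LD (1 : R⟦X⟧) 0 := by
  unfold LD
  rw [mul_zero]
  exact Derivation.map_one_eq_zero _

theorem LD.mul {F G S T : R⟦X⟧} (hF : LD F S) (hG : LD G T) : LD (F * G) (S + T) := by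
  unfold LD at *
  rw [Derivation.leibniz, hF, hG]
  simp only [smul_eq_mul]
  ring

theorem LD.pow {F S : R⟦X⟧} (hF : LD F S) (n : ℕ) : LD (F ^ n) (n • S) := by
  induction n with
  | zero =>
    rw [pow_zero, zero_smul]
    exact LD.one
  | succ n ih =>
    rw [pow_succ, succ_nsmul]
    exact ih.mul hF

theorem LD.prod {ι : Type*} (s : Finset ι) (F S : ι → R⟦X⟧) (h : ∀ i ∈ s, LD (F i) (S i)) :
    LD (∏ i ∈ s, F i) (∑ i ∈ s, S i) := by
  classical
  induction s using Finset.induction_on with
  | empty =>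
    rw [Finset.prod_empty, Finset.sum_empty]
    exact LD.one
  | insert a s ha ih =>
    rw [Finset.prod_insert ha, Finset.sum_insert ha]
    exact (h a (Finset.mem_insert_self a s)).mul
      (ih (fun i hi => h i (Finset.mem_insert_of_mem hi)))

theorem LD.coeff_succ {F S : R⟦X⟧} (h : LD F S) (n : ℕ) :
    coeff (n + 1) F * ((n : R) + 1) =
      ∑ p ∈ Finset.HasAntidiagonal.antidiagonal n, coeff p.1 F * coeff p.2 S := by
  unfold LD at h
  rw [← coeff_derivative, h, coeff_mul]

theorem LD.congr {F S T : R⟦X⟧} (h : LD F S) (hST : S = T) : LD F T := hST ▸ h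

end Ring

theorem LD.unique {F G S : ℚ⟦X⟧} (hF : LD F S) (hG : LD G S) (h0 : coeff 0 F = coeff 0 G) :
    F = G := by
  ext n
  induction n using Nat.strong_induction_on with
  | _ n ih =>
    cases n with
    | zero => exact h0
    | succ n =>
      have h1 := hF.coeff_succ n
      have h2 := hG.coeff_succ n
      have h3 : ∑ p ∈ Finset.HasAntidiagonal.antidiagonal n, coeff p.1 F * coeff p.2 S =
          ∑ p ∈ Finset.HasAntidiagonal.antidiagonal n, coeff p.1 G * coeff p.2 S := by
        refine Finset.sum_congr rfl (fun p hp => ?_)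
        rw [ih p.1 (by have := Finset.HasAntidiagonal.mem_antidiagonal.mp hp; omega)]
      have h4 : ((n : ℚ) + 1) ≠ 0 := by positivity
      rw [← h3, ← h1] at h2
      exact (mul_right_cancel₀ h4 h2).symm

theorem LD.coeff_eq_zero {F S : ℚ⟦X⟧} (h : LD F S) (n : ℕ) (hS : ∀ m, m < n → coeff m S = 0)
    (i : ℕ) (hi : 1 ≤ i) (hin : i ≤ n) : coeff i F = 0 := by
  obtain ⟨j, rfl⟩ : ∃ j, i = j + 1 := ⟨i - 1, by omega⟩
  have h1 := h.coeff_succ j
  have h2 : ∑ p ∈ Finset.HasAntidiagonal.antidiagonal j, coeff p.1 F * coeff p.2 S = 0 := by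
    refine Finset.sum_eq_zero (fun p hp => ?_)
    rw [hS p.2 (by have := Finset.HasAntidiagonal.mem_antidiagonal.mp hp; omega), mul_zero]
  rw [h2] at h1
  have h4 : ((j : ℚ) + 1) ≠ 0 := by positivity
  exact (mul_eq_zero.mp h1).resolve_right h4

theorem LD.exp_subst (L : ℚ⟦X⟧) (hL : constantCoeff L = 0) :
    LD ((PowerSeries.exp ℚ).subst L) (d⁄dX ℚ L) := by
  unfold LD
  rw [derivative_subst (HasSubst.of_constantCoeff_zero' hL), derivative_exp]

theorem coeff_zero_exp_subst (L : ℚ⟦X⟧) (hL : constantCoeff L = 0) :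
    coeff 0 ((PowerSeries.exp ℚ).subst L) = 1 := by
  rw [coeff_subst' (HasSubst.of_constantCoeff_zero' hL), finsum_eq_single _ 0]
  · simp
  · intro n hn
    rw [coeff_zero_eq_constantCoeff_apply, map_pow, hL, zero_pow hn, smul_zero]

/-- The geometric series `∑ c^m X^m`. -/
noncomputable def geom {R : Type*} [CommRing R] (c : R) : R⟦X⟧ := PowerSeries.mk fun m => c ^ m

theorem one_sub_mul_geom {R : Type*} [CommRing R] (c : R) : (1 - C c * X) * geom c = 1 := by
  ext n
  rw [sub_mul, one_mul, map_sub, mul_assoc]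
  cases n with
  | zero => simp [geom]
  | succ n =>
    rw [coeff_C_mul, coeff_succ_X_mul, geom, coeff_mk, coeff_mk, coeff_one, if_neg (by omega)]
    ring

theorem LD.one_sub_C_mul_X {R : Type*} [CommRing R] (c : R) :
    LD (1 - C c * X : R⟦X⟧) (-(C c * geom c)) := by
  unfold LD
  have h1 : d⁄dX R (1 - C c * X : R⟦X⟧) = -C c := by
    rw [map_sub, Derivation.map_one_eq_zero, zero_sub, Derivation.leibniz, derivative_X,
      derivative_C]
    simp
  rw [h1, mul_neg, ← mul_assoc, mul_comm _ (C c), mul_assoc, one_sub_mul_geom, mul_one]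

end Groth.Agent.Lib.Helper27LogDeriv
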