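import Mathlib
import Groth.Agent.Lib.Helper10PointCount
import Groth.Agent.Lib.Helper27LogDeriv

/-!
# The zeta function of the affine line over a scheme of finite type over a finite field
-/

universe u

open AlgebraicGeometry CategoryTheory CategoryTheory.Limits

namespace Groth.Agent.Lib.Helper10.ZetaA1

open Groth.Agent.Lib.Helper10.FixPts Groth.Agent.Lib.Helper27LogDeriv

section Ext

/-- a finite field has an extension of every positive degree, in its own universe -/
lemma exists_finite_extension (k : Type u) [Field k] [Finite k] (m : ℕ) (hm : m ≠ 0) :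
    ∃ (k' : Type u) (_ : Field k') (_ : Algebra k k') (_ : Finite k'),
      Module.finrank k k' = m := by
  obtain ⟨p, hp⟩ := CharP.exists k
  haveI : Fact p.Prime := ⟨CharP.char_is_prime k p⟩
  haveI : NeZero m := ⟨hm⟩
  haveI : Finite (FiniteField.Extension k p m) :=
    Module.finite_of_finite k
  refine ⟨ULift.{u} (FiniteField.Extension k p m), inferInstance, inferInstance, inferInstance, ?_⟩
  rw [(ULift.moduleEquiv (R := k) (M := FiniteField.Extension k p m)).finrank_eq]
  exact FiniteField.finrank_extension k p m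

end Ext

section Formal

/-- `exp ∘ (rescale a L) = rescale a (exp ∘ L)` -/
lemma subst_rescale (a : ℚ) (L : PowerSeries ℚ) (hL : PowerSeries.constantCoeff L = 0) :
    PowerSeries.subst (PowerSeries.rescale a L) (PowerSeries.exp ℚ) =
      PowerSeries.rescale a (PowerSeries.subst L (PowerSeries.exp ℚ)) := by
  have hder : ∀ F : PowerSeries ℚ, PowerSeries.derivative ℚ (PowerSeries.rescale a F) =
      PowerSeries.C a * PowerSeries.rescale a (PowerSeries.derivative ℚ F) := by
    intro F
    ext n
    rw [PowerSeries.coeff_derivative, PowerSeries.coeff_rescale, PowerSeries.coeff_C_mul,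
      PowerSeries.coeff_rescale, PowerSeries.coeff_derivative]
    ring
  have hL' : PowerSeries.constantCoeff (PowerSeries.rescale a L) = 0 := by
    rw [← PowerSeries.coeff_zero_eq_constantCoeff_apply, PowerSeries.coeff_rescale, pow_zero,
      one_mul, PowerSeries.coeff_zero_eq_constantCoeff_apply, hL]
  refine LD.unique (S := PowerSeries.C a * PowerSeries.rescale a (PowerSeries.derivative ℚ L))
    ((LD.exp_subst _ hL').congr (hder L)) ?_ ?_
  · have h1 := LD.exp_subst L hL
    unfold LD at h1 ⊢
    rw [hder, h1, map_mul]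
    ring
  · rw [coeff_zero_exp_subst _ hL', PowerSeries.coeff_rescale, pow_zero, one_mul,
      coeff_zero_exp_subst _ hL]

end Formal

section Points

variable {k : Type u} [Field k] {X : Scheme.{u}} (f : X ⟶ Spec (CommRingCat.of k))
  (k' : Type u) [Field k'] [Algebra k k']

/-- points of the affine line over `X` are a point of `X` and a coordinate -/
lemma pointCount_affineLine :
    SgaExt.pointCount ((𝔸(PUnit.{u + 1}; X) ↘ X) ≫ f) k' = SgaExt.pointCount f k' * Nat.card k' := by
  unfold SgaExt.pointCount
  let Φ : {a : Spec (CommRingCat.of k') ⟶ X //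
        a ≫ f = Spec.map (CommRingCat.ofHom (algebraMap k k'))} ×
      (PUnit.{u + 1} → Γ(Spec (CommRingCat.of k'), ⊤)) →
      {g : Spec (CommRingCat.of k') ⟶ 𝔸(PUnit.{u + 1}; X) //
        g ≫ (𝔸(PUnit.{u + 1}; X) ↘ X) ≫ f = Spec.map (CommRingCat.ofHom (algebraMap k k'))} :=
    fun t => ⟨AffineSpace.homOfVector t.1.1 t.2, by
      rw [AffineSpace.homOfVector_over_assoc]; exact t.1.2⟩
  have hΦ : Function.Bijective Φ := by
    constructor
    · rintro ⟨⟨a, ha⟩, v⟩ ⟨⟨a', ha'⟩, v'⟩ h
      have h1 : AffineSpace.homOfVector a v = AffineSpace.homOfVector a' v' :=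
        congrArg Subtype.val h
      have h2 : a = a' := by
        have := congr($h1 ≫ 𝔸(PUnit.{u + 1}; X) ↘ X)
        rwa [AffineSpace.homOfVector_over, AffineSpace.homOfVector_over] at this
      subst h2
      have h3 : v = v' := by
        ext i
        have := congr(($h1).appTop (AffineSpace.coord X i))
        rwa [AffineSpace.homOfVector_appTop_coord, AffineSpace.homOfVector_appTop_coord] at this
      subst h3
      rfl
    · rintro ⟨g, hg⟩
      refine ⟨⟨⟨g ≫ 𝔸(PUnit.{u + 1}; X) ↘ X, by rw [Category.assoc]; exact hg⟩,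
        fun i => g.appTop (AffineSpace.coord X i)⟩, Subtype.ext ?_⟩
      change AffineSpace.homOfVector _ _ = g
      apply AffineSpace.hom_ext
      · rw [AffineSpace.homOfVector_over]
      · intro i
        rw [AffineSpace.homOfVector_appTop_coord]
  rw [← Nat.card_congr (Equiv.ofBijective Φ hΦ), Nat.card_prod]
  congr 1
  exact Nat.card_congr ((Equiv.funUnique PUnit.{u + 1} _).trans
    (Scheme.ΓSpecIso (CommRingCat.of k')).commRingCatIsoToRingEquiv.toEquiv)

end Points

section Main

variable {k : Type u} [Field k] [Finite k] {X : Scheme.{u}} (f : X ⟶ Spec (CommRingCat.of k))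
  [LocallyOfFiniteType f] [QuasiCompact f]

lemma nPts_affineLine (m : ℕ) :
    Zeta.nPts ((𝔸(PUnit.{u + 1}; X) ↘ X) ≫ f) m = Zeta.nPts f m * Nat.card k ^ m := by
  rcases Nat.eq_zero_or_pos m with rfl | hm
  · simp [Zeta.nPts]
  obtain ⟨k', _, _, _, hk'⟩ := exists_finite_extension k m hm.ne'
  haveI : Module.Finite k k' := Module.Finite.of_finite
  rw [← hk', ← pointCount_eq, ← pointCount_eq, pointCount_affineLine,
    Module.natCard_eq_pow_finrank (K := k) (V := k')]

/-- S14455 -/
theorem zetaFun_affineLine :
    Zeta.zetaFun ((𝔸(PUnit.{u + 1}; X) ↘ X) ≫ f) =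
      PowerSeries.rescale (Nat.card k : ℚ) (Zeta.zetaFun f) := by
  unfold Zeta.zetaFun
  have hL : Zeta.logZeta ((𝔸(PUnit.{u + 1}; X) ↘ X) ≫ f) =
      PowerSeries.rescale (Nat.card k : ℚ) (Zeta.logZeta f) := by
    ext m
    rw [PowerSeries.coeff_rescale]
    simp only [Zeta.logZeta, PowerSeries.coeff_mk]
    rw [nPts_affineLine]
    push_cast
    ring
  have h0 : PowerSeries.constantCoeff (Zeta.logZeta f) = 0 := by
    rw [← PowerSeries.coeff_zero_eq_constantCoeff_apply, Zeta.logZeta, PowerSeries.coeff_mk]
    simp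
  rw [hL, subst_rescale _ _ h0]

end Main

end Groth.Agent.Lib.Helper10.ZetaA1
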