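import Groth.Agent.Lib.Helper4VarDim9
import Mathlib.AlgebraicGeometry.Fiber

/-!
# Fibres of a morphism as schemes over the residue field, and transcendence degrees
-/

set_option autoImplicit false
set_option linter.style.haveILetI false
universe u

open AlgebraicGeometry CategoryTheory TopologicalSpace Topology

namespace Groth.Agent.Lib.Helper4.VarDim

section Bridge

/-- The structure map of a residue field of a scheme over `Spec R`, via `Spec`. -/
theorem SpecMap_resMap (R : Type u) [CommRing R] (W : Scheme.{u}) [W.Over (Spec (CommRingCat.of R))]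
    (w : W) :
    Spec.map (CommRingCat.ofHom ((W.residue w).hom.comp ((W.presheaf.germ ⊤ w trivial).hom.comp
      (Coh.toGlobal (W ↘ Spec (CommRingCat.of R)))))) =
      W.fromSpecResidueField w ≫ (W ↘ Spec (CommRingCat.of R)) := by
  have h1 : (W ↘ Spec (CommRingCat.of R)) =
      W.toSpecΓ ≫ Spec.map (W ↘ Spec (CommRingCat.of R)).appTop ≫
        Spec.map (Scheme.ΓSpecIso (CommRingCat.of R)).inv := by
    rw [← Scheme.toSpecΓ_naturality_assoc, ← SpecMap_ΓSpecIso_hom, ← Spec.map_comp,
      Iso.inv_hom_id, Spec.map_id, Category.comp_id]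
  have h2 : CommRingCat.ofHom ((W.residue w).hom.comp ((W.presheaf.germ ⊤ w trivial).hom.comp
      (Coh.toGlobal (W ↘ Spec (CommRingCat.of R))))) =
      (Scheme.ΓSpecIso (CommRingCat.of R)).inv ≫ (W ↘ Spec (CommRingCat.of R)).appTop ≫
        W.presheaf.germ ⊤ w trivial ≫ W.residue w := rfl
  rw [h2, Spec.map_comp, Spec.map_comp, Spec.map_comp]
  conv_rhs => rw [h1]
  rw [Scheme.fromSpecResidueField]
  simp only [Category.assoc]
  rw [Scheme.fromSpecStalk_toSpecΓ_assoc]

/-- The transcendence degree of `L` over a residue field of `S` only depends on the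
corresponding morphism `Spec L ⟶ S`. -/
theorem trdeg_eq_of_SpecMap_comp_eq {S : Scheme.{u}} {L : Type u} [Field L] (s s' : S)
    (φ : S.residueField s ⟶ CommRingCat.of L) (φ' : S.residueField s' ⟶ CommRingCat.of L)
    (h : Spec.map φ ≫ S.fromSpecResidueField s = Spec.map φ' ≫ S.fromSpecResidueField s') :
    @Algebra.trdeg (S.residueField s) L _ _ φ.hom.toAlgebra =
      @Algebra.trdeg (S.residueField s') L _ _ φ'.hom.toAlgebra := by
  have h2 : (⟨s, φ⟩ : Σ x, S.residueField x ⟶ CommRingCat.of L) = ⟨s', φ'⟩ :=
    (Scheme.SpecToEquivOfField L S).symm.injective h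
  obtain ⟨rfl, h3⟩ := Sigma.mk.inj_iff.mp h2
  obtain rfl := eq_of_heq h3
  rfl

theorem trdeg_eq_of_bijective {K L L' : Type u} [Field K] [Field L] [Field L'] (a : K →+* L)
    (b : L →+* L') (hb : Function.Bijective b) :
    @Algebra.trdeg K L _ _ a.toAlgebra = @Algebra.trdeg K L' _ _ (b.comp a).toAlgebra := by
  letI := a.toAlgebra
  letI := (b.comp a).toAlgebra
  let e : L ≃ₐ[K] L' := { RingEquiv.ofBijective b hb with commutes' := fun c => rfl }
  exact e.trdeg_eq

theorem residueFieldMap_bijective_of_isPreimmersion {X Y : Scheme.{u}} (g : X ⟶ Y)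
    [IsPreimmersion g] (x : X) : Function.Bijective (g.residueFieldMap x).hom := by
  refine ⟨(g.residueFieldMap x).hom.injective, ?_⟩
  have h1 : Function.Surjective ((Y.residue (g x) ≫ g.residueFieldMap x).hom) := by
    rw [Scheme.residue_residueFieldMap]
    exact (IsLocalRing.residue_surjective (R := X.presheaf.stalk x)).comp
      (g.stalkMap_surjective x)
  have h2 : Function.Surjective ((g.residueFieldMap x).hom ∘ (Y.residue (g x)).hom) := h1
  exact Function.Surjective.of_comp h2

attribute [local instance] Curv2.resAlgebra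

/-- The transcendence degree of `κ(x)` over `κ(f x)` computed in the fibre. -/
theorem trdeg_fiber {X S : Scheme.{u}} (f : X ⟶ S) (s : S) (z : f.fiber s) :
    letI : (f.fiber s).Over (Spec (CommRingCat.of (S.residueField s))) :=
      ⟨f.fiberToSpecResidueField s⟩
    @Algebra.trdeg (S.residueField (f (f.fiberι s z))) (X.residueField (f.fiberι s z)) _ _
      (f.residueFieldMap (f.fiberι s z)).hom.toAlgebra =
      Algebra.trdeg (S.residueField s) ((f.fiber s).residueField z) := by
  letI : (f.fiber s).Over (Spec (CommRingCat.of (S.residueField s))) :=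
    ⟨f.fiberToSpecResidueField s⟩
  rw [trdeg_eq_of_bijective (f.residueFieldMap (f.fiberι s z)).hom
    ((f.fiberι s).residueFieldMap z).hom (residueFieldMap_bijective_of_isPreimmersion _ z)]
  have h1 : ((f.fiberι s).residueFieldMap z).hom.comp (f.residueFieldMap (f.fiberι s z)).hom =
      ((f.fiberι s ≫ f).residueFieldMap z).hom := by
    rw [Scheme.residueFieldMap_comp]
    rfl
  rw [h1]
  have h2 := SpecMap_resMap (S.residueField s) (f.fiber s) z
  have h3 : Spec.map ((f.fiberι s ≫ f).residueFieldMap z) ≫
      S.fromSpecResidueField ((f.fiberι s ≫ f) z) =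
      Spec.map (CommRingCat.ofHom (Curv2.resMap (S.residueField s) (f.fiber s) z)) ≫
        S.fromSpecResidueField s := by
    rw [Scheme.Hom.SpecMap_residueFieldMap_fromSpecResidueField, f.fiber_fac s]
    erw [h2]
    rw [Category.assoc]
    rfl
  exact trdeg_eq_of_SpecMap_comp_eq (L := (f.fiber s).residueField z) _ _ _ _ h3

instance locallyOfFiniteType_fiberToSpecResidueField {X S : Scheme.{u}} (f : X ⟶ S)
    [LocallyOfFiniteType f] (s : S) : LocallyOfFiniteType (f.fiberToSpecResidueField s) :=
  inferInstanceAs (LocallyOfFiniteType (Limits.pullback.snd f (S.fromSpecResidueField s)))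

/-- The transcendence degree of `κ(x)` over `κ(f x)` is the `trdegNat` of the corresponding
point of the fibre (a scheme locally of finite type over `κ(s)`). -/
theorem trdeg_residueFieldMap_eq_trdegNat_fiber {X S : Scheme.{u}} (f : X ⟶ S)
    [LocallyOfFiniteType f] (s : S) (z : f.fiber s) (x : X) (hx : f.fiberι s z = x) :
    letI : (f.fiber s).Over (Spec (CommRingCat.of (S.residueField s))) :=
      ⟨f.fiberToSpecResidueField s⟩
    @Algebra.trdeg (S.residueField (f x)) (X.residueField x) _ _
      (f.residueFieldMap x).hom.toAlgebra =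
      (trdegNat (S.residueField s) (f.fiber s) z : Cardinal.{u}) := by
  letI : (f.fiber s).Over (Spec (CommRingCat.of (S.residueField s))) :=
    ⟨f.fiberToSpecResidueField s⟩
  haveI : LocallyOfFiniteType ((f.fiber s) ↘ Spec (CommRingCat.of (S.residueField s))) :=
    locallyOfFiniteType_fiberToSpecResidueField f s
  subst hx
  rw [trdeg_fiber]
  exact trdeg_eq_trdegNat (S.residueField s) (f.fiber s) z

end Bridge

end Groth.Agent.Lib.Helper4.VarDim
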