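import Mathlib
import Groth.Agent.Lib.Helper10PointCount
import Groth.Agent.Lib.Helper4VarDim10
import Groth.Agent.Lib.Helper27LogDeriv

/-!
# Multiplicativity of the zeta function over a partition into subschemes
-/

universe u

open AlgebraicGeometry CategoryTheory CategoryTheory.Limits

namespace Groth.Agent.Lib.Helper10.ZetaMult

open Groth.Agent.Lib.Helper10.GaloisOrbit Groth.Agent.Lib.Helper10.FixPts

section Imm

variable {k : Type u} [Field k] {X Y : Scheme.{u}} (f : X ⟶ Spec (CommRingCat.of k))
  [LocallyOfFiniteType f] (g : Y ⟶ X) [IsImmersion g]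

include f in
/-- closed points of a subscheme of a scheme locally of finite type over a field are the closed
points of the ambient scheme lying in it -/
lemma isClosed_map_iff (y : Y) : IsClosed ({y} : Set Y) ↔ IsClosed ({g y} : Set X) := by
  constructor
  · intro hy
    have hfin : IsFinite (Y.fromSpecResidueField y ≫ (g ≫ f)) := by
      rw [isClosed_singleton_iff_isClosedImmersion] at hy
      rw [isFinite_iff_locallyOfFiniteType_of_jacobsonSpace]
      infer_instance
    have hφ := map_resHom k (g ≫ f) y
    have hint : (resHom k (g ≫ f) y).hom.IsIntegral := by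
      rw [← IsIntegralHom.SpecMap_iff, hφ]; infer_instance
    algebraize [(resHom k (g ≫ f) y).hom]
    haveI : Algebra.IsIntegral k (Y.residueField y) := ⟨hint⟩
    haveI : Algebra.IsAlgebraic k (Y.residueField y) := inferInstance
    have hp : (Y.fromSpecResidueField y ≫ g) ≫ f =
        Spec.map (CommRingCat.ofHom (algebraMap k (Y.residueField y))) := by
      rw [Category.assoc]; exact hφ.symm
    have := isClosed_of_point k (Y.residueField y) f (Y.fromSpecResidueField y ≫ g) hp
    have e : (Y.fromSpecResidueField y ≫ g) (IsLocalRing.closedPoint (Y.residueField y)) = g y := by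
      exact congrArg g (Scheme.fromSpecResidueField_apply y _)
    rw [e] at this
    exact this
  · intro h
    have : ({y} : Set Y) = g ⁻¹' {g y} := by
      ext y'
      simp only [Set.mem_singleton_iff, Set.mem_preimage]
      exact ⟨fun h => by rw [h], fun h => g.isEmbedding.injective h⟩
    rw [this]
    exact h.preimage g.continuous

omit [LocallyOfFiniteType f] in
lemma residueDegree_comp (y : Y) :
    EGA4loc.residueDegree (g ≫ f) y = EGA4loc.residueDegree f (g y) := by
  unfold EGA4loc.residueDegree
  letI a1 := ((g ≫ f).residueFieldMap y).hom.toAlgebra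
  letI a2 := (f.residueFieldMap (g y)).hom.toAlgebra
  have hb := Groth.Agent.Lib.Helper4.VarDim.residueFieldMap_bijective_of_isPreimmersion g y
  symm
  refine Algebra.finrank_eq_of_equiv_equiv (RingEquiv.refl _)
    (RingEquiv.ofBijective (g.residueFieldMap y).hom hb) ?_
  ext c
  change (g ≫ f).residueFieldMap y c = g.residueFieldMap y (f.residueFieldMap (g y) c)
  rw [Scheme.residueFieldMap_comp]
  rfl

end Imm

section Part

open Groth.Agent.Lib.Helper27LogDeriv

variable {k : Type u} [Field k] [Finite k] {X : Scheme.{u}} (f : X ⟶ Spec (CommRingCat.of k))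
  [LocallyOfFiniteType f] [QuasiCompact f]

/-- finitely many closed points of a given positive degree -/
lemma finite_degPts (e : ℕ) (he : e ≠ 0) :
    Finite {x : X // IsClosed ({x} : Set X) ∧ EGA4loc.residueDegree f x = e} := by
  refine ((finite_fixedLocus f e he).subset ?_).to_subtype
  intro x hx
  exact fixed_of_degree f e x (by rw [hx.2]; exact Nat.mem_divisors_self e he)

variable {ι : Type u} [Fintype ι] (Y : ι → Scheme.{u}) (g : ∀ i, Y i ⟶ X) [∀ i, IsImmersion (g i)]
  (hpart : ∀ x : X, IsClosed ({x} : Set X) → ∃! i, x ∈ Set.range (g i).base)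

include hpart in
lemma degCount_eq_sum (e : ℕ) (he : e ≠ 0) :
    Zeta.degCount f e = ∑ i, Zeta.degCount (g i ≫ f) e := by
  unfold Zeta.degCount
  haveI := finite_degPts f e he
  let Φ : (Σ i, {y : Y i // IsClosed ({y} : Set (Y i)) ∧ EGA4loc.residueDegree (g i ≫ f) y = e}) →
      {x : X // IsClosed ({x} : Set X) ∧ EGA4loc.residueDegree f x = e} :=
    fun t => ⟨g t.1 t.2.1, (isClosed_map_iff f (g t.1) t.2.1).mp t.2.2.1, by
      rw [← residueDegree_comp]; exact t.2.2.2⟩
  have hΦ : Function.Bijective Φ := by
    constructor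
    · rintro ⟨i, y, hy⟩ ⟨i', y', hy'⟩ h
      have h1 : g i y = g i' y' := congrArg Subtype.val h
      have hx : IsClosed ({g i y} : Set X) := (isClosed_map_iff f (g i) y).mp hy.1
      obtain ⟨i₀, _, huniq⟩ := hpart _ hx
      have e1 : i = i₀ := huniq i ⟨y, rfl⟩
      have e2 : i' = i₀ := huniq i' ⟨y', h1.symm⟩
      have e3 : i = i' := e1.trans e2.symm
      subst e3
      have : y = y' := (g i).isEmbedding.injective h1
      subst this
      rfl
    · rintro ⟨x, hx, hdeg⟩
      obtain ⟨i, ⟨y, hy⟩, _⟩ := hpart x hx
      have hy' : g i y = x := hy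
      refine ⟨⟨i, y, ?_, ?_⟩, Subtype.ext hy'⟩
      · rw [isClosed_map_iff f (g i) y, hy']; exact hx
      · rw [residueDegree_comp, hy']; exact hdeg
  haveI : ∀ i, Finite {y : Y i // IsClosed ({y} : Set (Y i)) ∧
      EGA4loc.residueDegree (g i ≫ f) y = e} := fun i =>
    Finite.of_injective (fun y => Φ ⟨i, y⟩) (by
      intro y y' h
      have := congrArg Subtype.val h
      exact Subtype.ext ((g i).isEmbedding.injective this))
  rw [← Nat.card_congr (Equiv.ofBijective Φ hΦ), Nat.card_sigma]

include hpart in
lemma nPts_eq_sum (m : ℕ) : Zeta.nPts f m = ∑ i, Zeta.nPts (g i ≫ f) m := by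
  unfold Zeta.nPts
  rw [Finset.sum_comm]
  refine Finset.sum_congr rfl fun e he => ?_
  rw [degCount_eq_sum f Y g hpart e (Nat.pos_of_mem_divisors he).ne', Finset.mul_sum]

omit [Finite k] [LocallyOfFiniteType f] [QuasiCompact f] in
lemma constantCoeff_logZeta : PowerSeries.constantCoeff (Zeta.logZeta f) = 0 := by
  rw [← PowerSeries.coeff_zero_eq_constantCoeff_apply, Zeta.logZeta, PowerSeries.coeff_mk]
  simp

include hpart in
/-- the zeta function is multiplicative over a finite partition of the closed points into
subschemes -/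
theorem zetaFun_eq_prod : Zeta.zetaFun f = ∏ i, Zeta.zetaFun (g i ≫ f) := by
  unfold Zeta.zetaFun
  have hL : Zeta.logZeta f = ∑ i, Zeta.logZeta (g i ≫ f) := by
    ext m
    rw [map_sum]
    simp only [Zeta.logZeta, PowerSeries.coeff_mk]
    rw [nPts_eq_sum f Y g hpart m, Nat.cast_sum, Finset.sum_div]
  refine LD.unique (S := PowerSeries.derivative ℚ (Zeta.logZeta f))
    (LD.exp_subst _ (constantCoeff_logZeta f)) ?_ ?_
  · rw [hL, map_sum]
    exact LD.prod _ _ _ (fun i _ => LD.exp_subst _ (constantCoeff_logZeta (g i ≫ f)))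
  · rw [coeff_zero_exp_subst _ (constantCoeff_logZeta f),
      PowerSeries.coeff_zero_eq_constantCoeff_apply, map_prod]
    symm
    refine Finset.prod_eq_one fun i _ => ?_
    rw [← PowerSeries.coeff_zero_eq_constantCoeff_apply]
    exact coeff_zero_exp_subst _ (constantCoeff_logZeta (g i ≫ f))

end Part

end Groth.Agent.Lib.Helper10.ZetaMult
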