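import Mathlib
import Groth.Agent.Lib.Helper10EulerBridge
import Groth.Agent.Lib.Helper10ZeroCyc
import Groth.Agent.Lib.Helper10ZetaMult
import Groth.Agent.Lib.Helper10ZetaA1
import Groth.Agent.Lib.Helper10PtBound
import Groth.Prelude.Def_W4c1zetahwZeta

/-!
# The Dirichlet series of effective 0-cycles of a scheme of finite type over a finite field
-/

universe u

open AlgebraicGeometry CategoryTheory CategoryTheory.Limits

namespace Groth.Agent.Lib.Helper10.ArithZeta

open Groth.Agent.Lib.Helper10.GaloisOrbit Groth.Agent.Lib.Helper10.FixPts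
open Groth.Agent.Lib.Helper10.EulerBridge

variable {k : Type u} [Field k] [Finite k] {Y : Scheme.{u}} (f : Y ⟶ Spec (CommRingCat.of k))
  [LocallyOfFiniteType f] [QuasiCompact f]

variable (Y) in
/-- closed points -/
abbrev ClPt : Type u := ↥{x : Y | IsClosed ({x} : Set Y)}

variable (Y) in
/-- the norm of a closed point -/
noncomputable def Nx (x : ClPt Y) : ℕ := Nat.card (Y.residueField x.1)

omit [QuasiCompact f] in
lemma Nx_eq (x : ClPt Y) : Nx Y x = Nat.card k ^ EGA4loc.residueDegree f x.1 ∧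
    EGA4loc.residueDegree f x.1 ≠ 0 := by
  letI := resAlg f x.1
  haveI := Groth.Agent.Lib.Helper10.ZeroCyc.finiteDimensional_resAlg f x.1 x.2
  rw [← finrank_resAlg]
  exact ⟨Module.natCard_eq_pow_finrank, Module.finrank_pos.ne'⟩

omit [QuasiCompact f] in
include f in
lemma two_le_Nx (x : ClPt Y) : 2 ≤ Nx Y x := by
  obtain ⟨h1, h2⟩ := Nx_eq f x
  rw [h1]
  have hq : 2 ≤ Nat.card k := Finite.one_lt_card
  calc 2 ≤ Nat.card k := hq
    _ = Nat.card k ^ 1 := (pow_one _).symm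
    _ ≤ Nat.card k ^ EGA4loc.residueDegree f x.1 :=
      Nat.pow_le_pow_right (by omega) (Nat.pos_of_ne_zero h2)

/-- the bound `#{closed points of degree d} ≤ c q^{rd}` -/
lemma exists_degCount_le (r : ℕ) (hr : topologicalKrullDim Y ≤ r) :
    ∃ c : ℕ, ∀ d : ℕ, Zeta.degCount f d ≤ c * Nat.card k ^ (r * d) := by
  obtain ⟨c, hc⟩ := Groth.Agent.Lib.Helper10.PtBound.exists_bound_scheme' f r hr
  refine ⟨c, fun d => ?_⟩
  by_cases hd : d = 0
  · subst hd
    have : IsEmpty {x : Y // IsClosed ({x} : Set Y) ∧ EGA4loc.residueDegree f x = 0} :=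
      ⟨fun x => (Nx_eq f ⟨x.1, x.2.1⟩).2 x.2.2⟩
    unfold Zeta.degCount
    rw [Nat.card_of_isEmpty]
    exact Nat.zero_le _
  · obtain ⟨k', _, _, _, hk'⟩ := Groth.Agent.Lib.Helper10.ZetaA1.exists_finite_extension k d hd
    have h1 := hc k'
    rw [pointCount_eq, hk'] at h1
    refine le_trans ?_ h1
    unfold Zeta.nPts
    calc Zeta.degCount f d ≤ d * Zeta.degCount f d :=
        Nat.le_mul_of_pos_left _ (Nat.pos_of_ne_zero hd)
      _ ≤ ∑ e ∈ d.divisors, e * Zeta.degCount f e :=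
        Finset.single_le_sum (f := fun e => e * Zeta.degCount f e) (fun _ _ => Nat.zero_le _)
          (Nat.mem_divisors_self d hd)


/-- the fibres of the degree map on closed points -/
abbrev DegPts (d : ℕ) : Type u :=
  {x : Y // IsClosed ({x} : Set Y) ∧ EGA4loc.residueDegree f x = d}

lemma finite_degPts' (d : ℕ) : Finite (DegPts f d) := by
  by_cases hd : d = 0
  · subst hd
    have : IsEmpty (DegPts f 0) := ⟨fun x => (Nx_eq f ⟨x.1, x.2.1⟩).2 x.2.2⟩
    infer_instance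
  · exact Groth.Agent.Lib.Helper10.ZetaMult.finite_degPts f d hd

/-- the degree-graded decomposition of closed points -/
noncomputable def sigmaEquiv : ClPt Y ≃ Σ d : ℕ, DegPts f d where
  toFun x := ⟨EGA4loc.residueDegree f x.1, ⟨x.1, x.2, rfl⟩⟩
  invFun t := ⟨t.2.1, t.2.2.1⟩
  left_inv x := rfl
  right_inv := by
    rintro ⟨d, x, hx, rfl⟩
    rfl

include f in
lemma countable_clPt : Countable (ClPt Y) := by
  haveI : ∀ d, Finite (DegPts f d) := finite_degPts' f
  exact (sigmaEquiv f).countable_iff.mpr inferInstance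

include f in
lemma summable_Nx (r : ℕ) (hr : topologicalKrullDim Y ≤ r) (σ : ℝ) (hσ : (r : ℝ) < σ) :
    Summable fun x : ClPt Y => (Nx Y x : ℝ) ^ (-σ) := by
  haveI : ∀ d, Finite (DegPts f d) := finite_degPts' f
  obtain ⟨c, hc⟩ := exists_degCount_le f r hr
  set Q : ℝ := (Nat.card k : ℝ) with hQ
  have hQ1 : 1 < Q := by
    have : 2 ≤ Nat.card k := Finite.one_lt_card
    rw [hQ]; exact_mod_cast this
  have hQ0 : 0 < Q := lt_trans zero_lt_one hQ1
  rw [← (sigmaEquiv f).symm.summable_iff]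
  rw [summable_sigma_of_nonneg (f := (fun x : ClPt Y => (Nx Y x : ℝ) ^ (-σ)) ∘ (sigmaEquiv f).symm)
    (fun _ => Real.rpow_nonneg (Nat.cast_nonneg _) _)]
  refine ⟨fun d => Summable.of_finite, ?_⟩
  set t : ℝ := Q ^ ((r : ℝ) + (-σ)) with ht
  have ht0 : 0 ≤ t := Real.rpow_nonneg hQ0.le _
  have ht1 : t < 1 := Real.rpow_lt_one_of_one_lt_of_neg hQ1 (by linarith)
  have hfib : ∀ d : ℕ, (∑' y : DegPts f d,
      ((fun x : ClPt Y => (Nx Y x : ℝ) ^ (-σ)) ∘ (sigmaEquiv f).symm) ⟨d, y⟩) =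
      (Zeta.degCount f d : ℝ) * (Q ^ (-σ)) ^ d := by
    intro d
    have h1 : ∀ y : DegPts f d,
        ((fun x : ClPt Y => (Nx Y x : ℝ) ^ (-σ)) ∘ (sigmaEquiv f).symm) ⟨d, y⟩ =
          (Q ^ (-σ)) ^ d := by
      intro y
      have h2 : Nx Y ((sigmaEquiv f).symm ⟨d, y⟩) = Nat.card k ^ d := by
        have := (Nx_eq f ((sigmaEquiv f).symm ⟨d, y⟩)).1
        rw [this]
        congr 1
        exact y.2.2
      simp only [Function.comp_apply]
      rw [h2, Nat.cast_pow, ← Real.rpow_natCast, ← Real.rpow_mul hQ0.le, mul_comm,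
        Real.rpow_mul hQ0.le, Real.rpow_natCast]
    letI := Fintype.ofFinite (DegPts f d)
    rw [tsum_fintype]
    simp only [h1]
    rw [Finset.sum_const, Finset.card_univ, nsmul_eq_mul]
    congr 2
    unfold Zeta.degCount
    rw [Nat.card_eq_fintype_card]
  refine Summable.of_nonneg_of_le (f := fun d : ℕ => (c : ℝ) * t ^ d) ?_ ?_
    ((summable_geometric_of_lt_one ht0 ht1).mul_left (c : ℝ))
  · intro d
    rw [hfib]
    exact mul_nonneg (Nat.cast_nonneg _) (pow_nonneg (Real.rpow_nonneg hQ0.le _) _)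
  · intro d
    rw [hfib]
    have h3 : (Zeta.degCount f d : ℝ) ≤ (c : ℝ) * (Q ^ (r : ℝ)) ^ d := by
      have := hc d
      have h4 : ((Zeta.degCount f d : ℕ) : ℝ) ≤ ((c * Nat.card k ^ (r * d) : ℕ) : ℝ) :=
        Nat.cast_le.mpr this
      rw [Nat.cast_mul, Nat.cast_pow, pow_mul] at h4
      rw [Real.rpow_natCast]
      exact h4
    calc (Zeta.degCount f d : ℝ) * (Q ^ (-σ)) ^ d
        ≤ ((c : ℝ) * (Q ^ (r : ℝ)) ^ d) * (Q ^ (-σ)) ^ d :=
          mul_le_mul_of_nonneg_right h3 (pow_nonneg (Real.rpow_nonneg hQ0.le _) _)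
      _ = (c : ℝ) * t ^ d := by
          rw [ht, Real.rpow_add hQ0, mul_pow, mul_assoc]

/-- the 0-cycle count in terms of closed points -/
lemma cycleNormCount_eq (n : ℕ) : Zeta.cycleNormCount Y n = cnt (Nx Y) n := by
  unfold Zeta.cycleNormCount cnt
  refine Nat.card_congr ?_
  let e1 := Finsupp.restrictSupportEquiv {x : Y | IsClosed ({x} : Set Y)} ℕ
  refine (Equiv.subtypeSubtypeEquivSubtypeInter
    (fun α : Y →₀ ℕ => (↑α.support : Set Y) ⊆ {x : Y | IsClosed ({x} : Set Y)})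
    (fun α : Y →₀ ℕ => α.prod (fun x m => Nat.card (Y.residueField x) ^ m) = n)).symm.trans ?_
  refine Equiv.subtypeEquiv e1 ?_
  intro a
  have : nrm (Nx Y) (e1 a) = a.1.prod (fun x m => Nat.card (Y.residueField x) ^ m) := by
    unfold nrm
    change (Finsupp.subtypeDomain _ a.1).prod _ = _
    exact Finsupp.prod_subtypeDomain_index (h := fun x m => Nat.card (Y.residueField x) ^ m)
      (fun x hx => a.2 (Finset.mem_coe.mpr hx))
  rw [this]

include f in
theorem main (r : ℕ) (hr : topologicalKrullDim Y ≤ r) :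
    LSeries.abscissaOfAbsConv (Zeta.arithCoeff Y) ≤ (r : ℝ) ∧
      ∀ s : ℂ, (r : ℝ) < s.re → LSeries (Zeta.arithCoeff Y) s ≠ 0 := by
  have hco : Zeta.arithCoeff Y = fun n => (cnt (Nx Y) n : ℂ) := by
    funext n
    unfold Zeta.arithCoeff
    rw [cycleNormCount_eq]
  haveI := countable_clPt f
  have key : ∀ s : ℂ, (r : ℝ) < s.re →
      LSeriesSummable (Zeta.arithCoeff Y) s ∧ LSeries (Zeta.arithCoeff Y) s ≠ 0 := by
    intro s hs
    rw [hco]
    exact EulerBridge.main (Nx Y) (two_le_Nx f) s (lt_of_le_of_lt (Nat.cast_nonneg r) hs)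
      (summable_Nx f r hr s.re hs)
  refine ⟨?_, fun s hs => (key s hs).2⟩
  refine LSeries.abscissaOfAbsConv_le_of_forall_lt_LSeriesSummable ?_
  intro y hy
  exact (key (y : ℂ) (by simpa using hy)).1

end Groth.Agent.Lib.Helper10.ArithZeta
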