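import Mathlib
import Groth.Agent.Lib.Helper5IntDim
import Groth.Agent.Lib.Helper10PtBound

/-!
# Uniform bounds for the number of points of a scheme of finite type over `ℤ`
-/

universe u

open Polynomial

namespace Groth.Agent.Lib.Helper10.IntPts

theorem isJacobsonRing_int : IsJacobsonRing ℤ := by
  rw [isJacobsonRing_iff_prime_eq]
  intro P hP
  by_cases hbot : P = ⊥
  · subst hbot
    rw [eq_bot_iff]
    intro x hx
    rw [Ideal.mem_jacobson_bot] at hx
    have h1 := hx x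
    rw [Int.isUnit_iff] at h1
    have hx2 : 0 ≤ x * x := mul_self_nonneg x
    rcases h1 with h1 | h1
    · have : x * x = 0 := by omega
      have : x = 0 := by simpa using this
      simp [this]
    · omega
  · haveI : P.IsMaximal := IsPrime.to_maximal_ideal hbot
    exact Ideal.jacobson_eq_self_of_isMaximal

/-- a field of finite type over `ℤ` is finite -/
theorem finite_of_isField_finiteType_int (K : Type*) [CommRing K] (hK : IsField K)
    [Algebra.FiniteType ℤ K] : Finite K := by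
  letI := hK.toField
  haveI := isJacobsonRing_int
  haveI : Module.Finite ℤ K := finite_of_finite_type_of_isJacobsonRing ℤ K
  obtain ⟨p, hp⟩ := CharP.exists K
  rcases CharP.char_is_prime_or_zero K p with hp' | hp'
  · haveI : Fact p.Prime := ⟨hp'⟩
    letI := ZMod.algebra K p
    haveI : Module.Finite (ZMod p) K := Module.Finite.of_restrictScalars_finite ℤ (ZMod p) K
    exact Module.finite_of_finite (ZMod p)
  · subst hp'
    haveI : CharZero K := CharP.charP_to_charZero K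
    exfalso
    have hinj : Function.Injective (algebraMap ℤ K) := (algebraMap ℤ K).injective_int
    haveI : Algebra.IsIntegral ℤ K := Algebra.IsIntegral.of_finite ℤ K
    exact Int.not_isField (isField_of_isIntegral_of_isField hinj (Field.toIsField K))

theorem ringHom_ext_of_adjoin {A : Type*} [CommRing A] {F : Type*} [CommRing F] (t : Set A)
    (ht : Algebra.adjoin ℤ t = ⊤) (ψ ψ' : A →+* F) (h : ∀ x ∈ t, ψ x = ψ' x) : ψ = ψ' := by
  have := AlgHom.ext_of_adjoin_eq_top (φ₁ := ψ.toIntAlgHom) (φ₂ := ψ'.toIntAlgHom) ht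
    (fun x hx => h x hx)
  ext x
  exact congrArg (fun χ : A →ₐ[ℤ] F => χ x) this

theorem finite_ringHom (A : Type*) [CommRing A] [Algebra.FiniteType ℤ A] (F : Type*) [CommRing F]
    [Finite F] : Finite (A →+* F) := by
  obtain ⟨t, ht⟩ := (Algebra.FiniteType.out : (⊤ : Subalgebra ℤ A).FG)
  refine Finite.of_injective (fun ψ : A →+* F => fun x : t => ψ x.1) ?_
  intro ψ ψ' h
  exact ringHom_ext_of_adjoin (t : Set A) ht ψ ψ' (fun x hx => congrFun h ⟨x, hx⟩)

/-- the number of points of a finite cover of affine `s`-space over `ℤ` generated by `n`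
elements -/
lemma card_ringHom_le {A : Type*} [CommRing A] (s n : ℕ)
    (g : MvPolynomial (Fin s) ℤ →+* A) (a : Fin n → A)
    (ha : ∀ x : A, ∃ c : Fin n → MvPolynomial (Fin s) ℤ, x = ∑ j, g (c j) * a j)
    (K : Type*) [Field K] [Finite K] (T : Finset (A →+* K)) :
    T.card ≤ n * Nat.card K ^ s := by
  classical
  haveI := Fintype.ofFinite K
  let ρ : (A →+* K) → (Fin s → K) := fun φ i => φ (g (MvPolynomial.X i))
  have h1 := Finset.card_le_mul_card_image (f := ρ) T n (by
    intro w _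
    refine PtBound.card_fibre_le g (MvPolynomial.eval₂Hom (Int.castRingHom K) w) n a ha _ ?_
    intro φ hφ
    have hφw : ρ φ = w := (Finset.mem_filter.mp hφ).2
    apply MvPolynomial.ringHom_ext
    · intro z
      exact RingHom.congr_fun (RingHom.ext_int ((φ.comp g).comp MvPolynomial.C)
        ((MvPolynomial.eval₂Hom (Int.castRingHom K) w).comp MvPolynomial.C)) z
    · intro i
      rw [MvPolynomial.eval₂Hom_X', ← hφw]
      rfl)
  refine h1.trans (Nat.mul_le_mul_left _ ?_)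
  calc (T.image ρ).card ≤ Fintype.card (Fin s → K) := Finset.card_le_univ _
    _ = Nat.card K ^ s := by
      rw [Fintype.card_fun, Fintype.card_fin, Nat.card_eq_fintype_card]


section GenNN

attribute [local instance] MvPolynomial.algebraMvPolynomial
attribute [local instance] Algebra.TensorProduct.rightAlgebra

open TensorProduct

variable (A : Type u) [CommRing A] [IsDomain A] [CharZero A] [Algebra.FiniteType ℤ A]

/-- generic Noether normalization over `ℤ` -/
theorem exists_genNN :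
    ∃ (s : ℕ) (φ : MvPolynomial (Fin s) ℤ →+* A), ((s + 1 : ℕ) : WithBot ℕ∞) ≤ ringKrullDim A ∧
      ∀ b : A, ∃ z : ℤ, z ≠ 0 ∧ φ.IsIntegralElem ((z : A) * b) := by
  classical
  let K := ℚ
  let MA : Submonoid A := Algebra.algebraMapSubmonoid A (nonZeroDivisors ℤ)
  let AK := ℚ ⊗[ℤ] A
  haveI : IsLocalization MA AK := IsLocalization.tensorRight ℚ (nonZeroDivisors ℤ)
  let ι : A →+* AK := algebraMap A AK
  have hcast : ∀ z : ℤ, z ≠ 0 → (z : A) ∈ MA := fun z hz =>
    ⟨z, mem_nonZeroDivisors_of_ne_zero hz, by simp⟩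
  have hMA : MA ≤ nonZeroDivisors A := by
    rintro _ ⟨z, hz, rfl⟩
    have hz0 : z ≠ 0 := nonZeroDivisors.ne_zero hz
    apply mem_nonZeroDivisors_of_ne_zero
    simpa using hz0
  have hι : Function.Injective ι := IsLocalization.injective AK hMA
  haveI : Nontrivial AK := hι.nontrivial
  obtain ⟨s, g, hginj, hgfin⟩ := exists_finite_inj_algHom_of_fg K AK
  -- dimension of AK
  have hdimK : ringKrullDim AK = s := by
    letI : Algebra (MvPolynomial (Fin s) K) AK := g.toRingHom.toAlgebra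
    haveI : Module.Finite (MvPolynomial (Fin s) K) AK := hgfin
    haveI : Algebra.IsIntegral (MvPolynomial (Fin s) K) AK := Algebra.IsIntegral.of_finite _ _
    rw [Groth.Agent.Lib.Helper5.ringKrullDim_eq_of_isIntegral_of_injective
      (MvPolynomial (Fin s) K) AK hginj,
      MvPolynomial.ringKrullDim_of_isNoetherianRing, ringKrullDim_eq_zero_of_field,
      Nat.card_eq_fintype_card, Fintype.card_fin, zero_add]
  have hdimA : ((s + 1 : ℕ) : WithBot ℕ∞) ≤ ringKrullDim A := by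
    have h1 : ((s : ℕ) : WithBot ℕ∞) ≤ ringKrullDim AK := hdimK.ge
    obtain ⟨l, hl⟩ := Order.le_krullDim_iff.mp h1
    have hsm : StrictMono (PrimeSpectrum.comap ι) := by
      intro P Q hPQ
      have : P.asIdeal < Q.asIdeal := hPQ
      exact (IsLocalization.orderEmbedding MA AK).strictMono this
    let l' : LTSeries (PrimeSpectrum A) := l.map (PrimeSpectrum.comap ι) hsm
    have hlast : l'.last = PrimeSpectrum.comap ι l.last := LTSeries.last_map _ _ _
    obtain ⟨𝔪, h𝔪max, hP𝔪⟩ := Ideal.exists_le_maximal l'.last.asIdeal l'.last.2.ne_top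
    haveI := h𝔪max
    haveI : @Algebra.FiniteType ℤ (A ⧸ 𝔪) _ _ (Ring.toIntAlgebra _) :=
      Algebra.FiniteType.of_surjective (Ideal.Quotient.mk 𝔪).toIntAlgHom
        Ideal.Quotient.mk_surjective
    haveI : Finite (A ⧸ 𝔪) := finite_of_isField_finiteType_int (A ⧸ 𝔪)
      ((Ideal.Quotient.maximal_ideal_iff_isField_quotient 𝔪).mp h𝔪max)
    letI : Field (A ⧸ 𝔪) := Ideal.Quotient.field 𝔪
    obtain ⟨p, hp⟩ := CharP.exists (A ⧸ 𝔪)
    have hp0 : p ≠ 0 := by
      rintro rfl
      haveI : CharZero (A ⧸ 𝔪) := CharP.charP_to_charZero _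
      exact not_finite (A ⧸ 𝔪)
    have hpm : ((p : ℤ) : A) ∈ 𝔪 := by
      rw [← Ideal.Quotient.eq_zero_iff_mem]
      simp [CharP.cast_eq_zero]
    have hpP : ((p : ℤ) : A) ∉ l'.last.asIdeal := by
      intro h
      have h2 : ι ((p : ℤ) : A) ∈ (l.last).asIdeal := by
        rw [hlast] at h; exact h
      have hu : IsUnit (ι ((p : ℤ) : A)) :=
        IsLocalization.map_units AK (⟨((p : ℤ) : A), hcast _ (by exact_mod_cast hp0)⟩ : MA)
      exact l.last.2.ne_top (Ideal.eq_top_of_isUnit_mem _ h2 hu)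
    have hlt : l'.last < ⟨𝔪, h𝔪max.isPrime⟩ :=
      lt_of_le_of_ne hP𝔪 (fun h => hpP (by rw [h]; exact hpm))
    let l'' := l'.snoc ⟨𝔪, h𝔪max.isPrime⟩ hlt
    have h3 : ((l''.length : ℕ) : WithBot ℕ∞) ≤ ringKrullDim A :=
      Order.LTSeries.length_le_krullDim l''
    have h4 : l''.length = s + 1 := by
      simp [l'', l', hl]
    rw [h4] at h3
    exact h3
  -- denominators
  have hsurj : ∀ i : Fin s, ∃ (a : A) (z : ℤ), z ≠ 0 ∧
      g (MvPolynomial.X i) * ι (z : A) = ι a := by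
    intro i
    obtain ⟨⟨a, ⟨_, z, hz, rfl⟩⟩, h⟩ := IsLocalization.surj MA (g (MvPolynomial.X i))
    exact ⟨a, z, nonZeroDivisors.ne_zero hz, by simpa using h⟩
  choose a z hz0 haz using hsurj
  let φ : MvPolynomial (Fin s) ℤ →+* A :=
    (MvPolynomial.aeval a : MvPolynomial (Fin s) ℤ →ₐ[ℤ] A).toRingHom
  have hzK : ∀ i, ((z i : ℤ) : K) ≠ 0 := fun i => Int.cast_ne_zero.mpr (hz0 i)
  let σ : MvPolynomial (Fin s) K →ₐ[K] MvPolynomial (Fin s) K :=
    MvPolynomial.aeval (fun i => MvPolynomial.C ((z i : ℤ) : K) * MvPolynomial.X i)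
  let σ' : MvPolynomial (Fin s) K →ₐ[K] MvPolynomial (Fin s) K :=
    MvPolynomial.aeval (fun i => MvPolynomial.C (((z i : ℤ) : K))⁻¹ * MvPolynomial.X i)
  have hσσ' : σ.comp σ' = AlgHom.id K _ := by
    apply MvPolynomial.algHom_ext
    intro i
    simp only [σ, σ', AlgHom.comp_apply, MvPolynomial.aeval_X, map_mul, MvPolynomial.aeval_C,
      AlgHom.id_apply]
    rw [MvPolynomial.algebraMap_eq, ← mul_assoc, ← MvPolynomial.C_mul, inv_mul_cancel₀ (hzK i),
      MvPolynomial.C_1, one_mul]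
  have hσsurj : Function.Surjective σ := fun q => ⟨σ' q, by
    rw [← AlgHom.comp_apply, hσσ']; rfl⟩
  let g' := g.comp σ
  have hg'fin : g'.toRingHom.Finite :=
    RingHom.Finite.comp hgfin (RingHom.Finite.of_surjective σ.toRingHom hσsurj)
  have hg'X : ∀ i, g' (MvPolynomial.X i) = ι (a i) := by
    intro i
    simp only [g', σ, AlgHom.comp_apply, MvPolynomial.aeval_X, map_mul]
    rw [← haz i, mul_comm]
    congr 1
    rw [← MvPolynomial.algebraMap_eq, AlgHom.commutes, map_intCast, map_intCast]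
  refine ⟨s, φ, hdimA, fun b => ?_⟩
  letI algKX : Algebra (MvPolynomial (Fin s) K) AK := g'.toRingHom.toAlgebra
  letI algZX : Algebra (MvPolynomial (Fin s) ℤ) AK :=
    (g'.toRingHom.comp (algebraMap (MvPolynomial (Fin s) ℤ) (MvPolynomial (Fin s) K))).toAlgebra
  haveI : IsScalarTower (MvPolynomial (Fin s) ℤ) (MvPolynomial (Fin s) K) AK :=
    IsScalarTower.of_algebraMap_eq (fun _ => rfl)
  haveI : Module.Finite (MvPolynomial (Fin s) K) AK := hg'fin
  have hint : IsIntegral (MvPolynomial (Fin s) K) (ι b) := Algebra.IsIntegral.isIntegral (ι b)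
  obtain ⟨⟨m, hm⟩, hmi⟩ := IsIntegral.exists_multiple_integral_of_isLocalization
    ((nonZeroDivisors ℤ).map (MvPolynomial.C (σ := Fin s))) (ι b) hint
  obtain ⟨zz, hzz, rfl⟩ := hm
  refine ⟨zz, nonZeroDivisors.ne_zero hzz, ?_⟩
  have hcomp : algebraMap (MvPolynomial (Fin s) ℤ) AK = ι.comp φ := by
    apply MvPolynomial.ringHom_ext
    · intro r
      exact RingHom.congr_fun (RingHom.ext_int
        ((algebraMap (MvPolynomial (Fin s) ℤ) AK).comp MvPolynomial.C)
        ((ι.comp φ).comp MvPolynomial.C)) r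
    · intro i
      show g' (algebraMap (MvPolynomial (Fin s) ℤ) (MvPolynomial (Fin s) K) (MvPolynomial.X i)) =
        ι (φ (MvPolynomial.X i))
      rw [MvPolynomial.algebraMap_def, MvPolynomial.map_X, hg'X]
      simp [φ]
  have hsmul : (⟨MvPolynomial.C zz, Submonoid.mem_map_of_mem _ hzz⟩ :
      (nonZeroDivisors ℤ).map (MvPolynomial.C (σ := Fin s))) • ι b = ι ((zz : A) * b) := by
    rw [Submonoid.smul_def, Algebra.smul_def, hcomp, map_mul]
    congr 1
    simp [φ]
  obtain ⟨P, hP, hP0⟩ := hmi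
  refine ⟨P, hP, hι ?_⟩
  rw [map_zero, Polynomial.hom_eval₂, ← hcomp, ← hsmul]
  exact hP0

end GenNN


section Induction

/-- the bound predicate: `#Hom(A, F) ≤ c |F|^r` for all finite fields `F`, and
`#Hom(A, F) |F| ≤ c |F|^r` for those of characteristic at least `p₀`. -/
def Bd (r : ℕ) (A : Type u) [CommRing A] : Prop :=
  ∃ c p₀ : ℕ, ∀ (F : Type u) [Field F] [Finite F],
    Nat.card (A →+* F) ≤ c * Nat.card F ^ r ∧
    (p₀ ≤ ringChar F → Nat.card (A →+* F) * Nat.card F ≤ c * Nat.card F ^ r)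

lemma finiteType_quotient (A : Type u) [CommRing A] [Algebra.FiniteType ℤ A] (I : Ideal A) :
    @Algebra.FiniteType ℤ (A ⧸ I) _ _ (Ring.toIntAlgebra _) :=
  Algebra.FiniteType.of_surjective (Ideal.Quotient.mk I).toIntAlgHom Ideal.Quotient.mk_surjective

lemma Bd_of_minimalPrimes (r : ℕ) (A : Type u) [CommRing A] [Algebra.FiniteType ℤ A]
    (h : ∀ 𝔮 ∈ minimalPrimes A, Bd r (A ⧸ 𝔮)) : Bd r A := by
  classical
  haveI : IsNoetherianRing A := Algebra.FiniteType.isNoetherianRing ℤ A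
  have hfin : (minimalPrimes A).Finite := minimalPrimes.finite_of_isNoetherianRing A
  haveI : Fintype (minimalPrimes A) := hfin.fintype
  choose c p₀ hc using fun 𝔮 : minimalPrimes A => h 𝔮.1 𝔮.2
  refine ⟨∑ 𝔮, c 𝔮, Finset.univ.sup p₀, fun F _ _ => ?_⟩
  haveI : ∀ 𝔮 : minimalPrimes A, Finite ((A ⧸ 𝔮.1) →+* F) := fun 𝔮 => by
    haveI := finiteType_quotient A 𝔮.1
    exact finite_ringHom _ F
  let Ψ : (Σ 𝔮 : minimalPrimes A, (A ⧸ 𝔮.1) →+* F) → (A →+* F) :=
    fun t => t.2.comp (Ideal.Quotient.mk t.1.1)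
  have hΨ : Function.Surjective Ψ := by
    intro ψ
    haveI : (RingHom.ker ψ).IsPrime := RingHom.ker_isPrime ψ
    obtain ⟨𝔮, h𝔮, hle⟩ := Ideal.exists_minimalPrimes_le (bot_le : (⊥ : Ideal A) ≤ RingHom.ker ψ)
    refine ⟨⟨⟨𝔮, h𝔮⟩, Ideal.Quotient.lift 𝔮 ψ (fun a ha => hle ha)⟩, ?_⟩
    ext x
    rfl
  have hcard : Nat.card (A →+* F) ≤ ∑ 𝔮 : minimalPrimes A, Nat.card ((A ⧸ 𝔮.1) →+* F) := by
    calc Nat.card (A →+* F) ≤ Nat.card (Σ 𝔮 : minimalPrimes A, (A ⧸ 𝔮.1) →+* F) :=
        Nat.card_le_card_of_surjective Ψ hΨ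
      _ = _ := Nat.card_sigma
  constructor
  · calc Nat.card (A →+* F) ≤ ∑ 𝔮 : minimalPrimes A, Nat.card ((A ⧸ 𝔮.1) →+* F) := hcard
      _ ≤ ∑ 𝔮 : minimalPrimes A, c 𝔮 * Nat.card F ^ r :=
        Finset.sum_le_sum fun 𝔮 _ => (hc 𝔮 F).1
      _ = (∑ 𝔮, c 𝔮) * Nat.card F ^ r := (Finset.sum_mul ..).symm
  · intro hp
    calc Nat.card (A →+* F) * Nat.card F
        ≤ (∑ 𝔮 : minimalPrimes A, Nat.card ((A ⧸ 𝔮.1) →+* F)) * Nat.card F :=
          Nat.mul_le_mul_right _ hcard
      _ = ∑ 𝔮 : minimalPrimes A, Nat.card ((A ⧸ 𝔮.1) →+* F) * Nat.card F := Finset.sum_mul ..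
      _ ≤ ∑ 𝔮 : minimalPrimes A, c 𝔮 * Nat.card F ^ r :=
        Finset.sum_le_sum fun 𝔮 _ => (hc 𝔮 F).2
          (le_trans (Finset.le_sup (f := p₀) (Finset.mem_univ 𝔮)) hp)
      _ = (∑ 𝔮, c 𝔮) * Nat.card F ^ r := (Finset.sum_mul ..).symm

lemma Bd_charP (r : ℕ) (A : Type u) [CommRing A] [Algebra.FiniteType ℤ A] (p : ℕ) [Fact p.Prime]
    [CharP A p] (hr : ringKrullDim A ≤ r) : Bd r A := by
  classical
  letI : Algebra (ZMod p) A := ZMod.algebra A p
  let k := ULift.{u} (ZMod p)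
  letI : Algebra k A := ULift.algebra' (ZMod p) A
  haveI : Algebra.FiniteType k A := Algebra.FiniteType.of_restrictScalars_finiteType ℤ k A
  obtain ⟨c, hc⟩ := PtBound.exists_bound (k := k) A r hr
  refine ⟨c, p + 1, fun F _ _ => ?_⟩
  by_cases hF : ringChar F = p
  · haveI : CharP F p := hF ▸ ringChar.charP F
    letI : Algebra (ZMod p) F := ZMod.algebra F p
    letI : Algebra k F := ULift.algebra' (ZMod p) F
    obtain ⟨h1, h2⟩ := hc F
    let Φ : (A →+* F) → (A →ₐ[k] F) := fun ψ =>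
      { ψ with
        commutes' := fun c => by
          have := RingHom.congr_fun (RingHom.ext_zmod (ψ.comp (algebraMap (ZMod p) A))
            (algebraMap (ZMod p) F)) c.down
          exact this }
    have hΦ : Function.Injective Φ := fun ψ ψ' h => by
      ext x
      exact congrArg (fun χ : A →ₐ[k] F => χ x) h
    have h3 : Nat.card (A →+* F) ≤ c * Nat.card F ^ r :=
      (Nat.card_le_card_of_injective Φ hΦ).trans h2
    refine ⟨h3, fun hp => ?_⟩
    omega
  · haveI : IsEmpty (A →+* F) := ⟨fun ψ => hF (by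
      have h0 : ((p : ℕ) : F) = 0 := by
        rw [← map_natCast ψ, CharP.cast_eq_zero, map_zero]
      have hd : ringChar F ∣ p := ringChar.dvd h0
      rcases (Nat.dvd_prime (Fact.out : p.Prime)).mp hd with h1 | h1
      · exact absurd h1 CharP.ringChar_ne_one
      · exact h1)⟩
    simp [Nat.card_of_isEmpty]

lemma withBot_enat_le_pred {x : WithBot ℕ∞} {r : ℕ} (h : x + 1 ≤ (r : WithBot ℕ∞)) :
    x ≤ ((r - 1 : ℕ) : WithBot ℕ∞) := by
  induction x using WithBot.recBotCoe with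
  | bot => exact bot_le
  | coe x =>
    induction x using ENat.recTopCoe with
    | top =>
      exfalso
      have h1 : (((⊤ : ℕ∞) + 1 : ℕ∞) : WithBot ℕ∞) ≤ ((r : ℕ∞) : WithBot ℕ∞) := h
      have h2 : (⊤ : ℕ∞) + 1 ≤ (r : ℕ∞) := WithBot.coe_le_coe.mp h1
      rw [top_add] at h2
      exact absurd h2 (by simp)
    | coe m =>
      have h1 : m + 1 ≤ r := by exact_mod_cast h
      have h2 : m ≤ r - 1 := by omega
      have h3 : ((m : ℕ) : WithBot ℕ∞) ≤ ((r - 1 : ℕ) : WithBot ℕ∞) := Nat.cast_le.mpr h2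
      exact h3

lemma Bd_char0 (r : ℕ) (A : Type u) [CommRing A] [IsDomain A] [CharZero A]
    [Algebra.FiniteType ℤ A] (hr : ringKrullDim A ≤ r)
    (IH : 1 ≤ r → ∀ (A' : Type u) [CommRing A'] [Algebra.FiniteType ℤ A'],
      ringKrullDim A' ≤ ((r - 1 : ℕ) : WithBot ℕ∞) → Bd (r - 1) A') : Bd r A := by
  classical
  obtain ⟨s, φ, hs, hint⟩ := exists_genNN A
  have hs1 : s + 1 ≤ r := by exact_mod_cast hs.trans hr
  obtain ⟨t, ht⟩ := (Algebra.FiniteType.out : (⊤ : Subalgebra ℤ A).FG)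
  choose z hz0 hzint using hint
  let N : ℤ := ∏ x ∈ t, z x
  have hN0 : N ≠ 0 := Finset.prod_ne_zero_iff.mpr (fun x _ => hz0 x)
  have hNA : (N : A) ≠ 0 := Int.cast_ne_zero.mpr hN0
  have hNint : ∀ x ∈ t, φ.IsIntegralElem ((N : A) * x) := by
    intro x hx
    have h1 : (N : A) = φ ((∏ x' ∈ t.erase x, z x' : ℤ) : MvPolynomial (Fin s) ℤ) * (z x : A) := by
      rw [map_intCast, ← Int.cast_mul, Finset.prod_erase_mul _ _ hx]
    rw [h1, mul_assoc]
    exact RingHom.IsIntegralElem.mul φ (φ.isIntegralElem_map) (hzint x)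
  let B := MvPolynomial (Fin s) ℤ
  letI algBA : Algebra B A := φ.toAlgebra
  let Y : Set A := (fun x => (N : A) * x) '' (t : Set A)
  let A₀ : Subalgebra B A := Algebra.adjoin B Y
  have hfg : A₀.toSubmodule.FG :=
    fg_adjoin_of_finite (t.finite_toSet.image _) (by
      rintro _ ⟨x, hx, rfl⟩
      exact hNint x hx)
  haveI : Module.Finite B A₀ := Module.Finite.iff_fg.mpr hfg
  obtain ⟨n, e, he⟩ := Module.Finite.exists_fin (R := B) (M := A₀)
  have he' : ∀ x : A₀, ∃ c : Fin n → B, x = ∑ j, (algebraMap B A₀) (c j) * e j := by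
    intro x
    have hx : x ∈ Submodule.span B (Set.range e) := by rw [he]; trivial
    obtain ⟨c, hc⟩ := (Submodule.mem_span_range_iff_exists_fun _).mp hx
    refine ⟨c, hc.symm.trans (Finset.sum_congr rfl fun j _ => ?_)⟩
    rw [Algebra.smul_def]
  -- the quotient
  let I : Ideal A := Ideal.span {(N : A)}
  have hr1 : 1 ≤ r := by omega
  have hdimI : ringKrullDim (A ⧸ I) ≤ ((r - 1 : ℕ) : WithBot ℕ∞) := by
    have h1 := ringKrullDim_quotient_succ_le_of_nonZeroDivisor (r := (N : A))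
      (mem_nonZeroDivisors_of_ne_zero hNA)
    exact withBot_enat_le_pred (h1.trans hr)
  haveI hftI := finiteType_quotient A I
  obtain ⟨c', _, hc'⟩ := @IH hr1 (A ⧸ I) _ hftI hdimI
  refine ⟨n + c', 0, fun F _ _ => ?_⟩
  haveI : Finite (A →+* F) := finite_ringHom A F
  haveI : Finite ((A ⧸ I) →+* F) := finite_ringHom _ F
  letI := Fintype.ofFinite (A →+* F)
  letI := Fintype.ofFinite ((A ⧸ I) →+* F)
  have hq1 : 1 ≤ Nat.card F := Nat.card_pos
  let T1 : Finset (A →+* F) := Finset.univ.filter (fun ψ => ψ (N : A) ≠ 0)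
  let T2 : Finset (A →+* F) := Finset.univ.filter (fun ψ => ¬ ψ (N : A) ≠ 0)
  have hsplit : Nat.card (A →+* F) = T1.card + T2.card := by
    rw [Nat.card_eq_fintype_card, ← Finset.card_univ]
    exact (Finset.card_filter_add_card_filter_not _).symm
  -- bound for T1
  have hT1 : T1.card ≤ n * Nat.card F ^ s := by
    let ρ : (A →+* F) → (A₀ →+* F) := fun ψ => ψ.comp A₀.val.toRingHom
    have hinj : Set.InjOn ρ (T1 : Set (A →+* F)) := by
      intro ψ hψ ψ' hψ' h
      have hψN : ψ (N : A) ≠ 0 := (Finset.mem_filter.mp hψ).2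
      refine ringHom_ext_of_adjoin (t : Set A) ht ψ ψ' (fun x hx => ?_)
      have hmem : (N : A) * x ∈ A₀ := Algebra.subset_adjoin ⟨x, hx, rfl⟩
      have h1 : ψ ((N : A) * x) = ψ' ((N : A) * x) :=
        congrArg (fun χ : A₀ →+* F => χ ⟨(N : A) * x, hmem⟩) h
      rw [map_mul, map_mul, map_intCast, map_intCast] at h1
      rw [map_intCast] at hψN
      exact mul_left_cancel₀ hψN h1
    rw [← Finset.card_image_of_injOn hinj]
    exact card_ringHom_le s n (algebraMap B A₀) e he' F _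
  -- bound for T2
  have hT2 : T2.card ≤ c' * Nat.card F ^ (r - 1) := by
    have hsub : T2 ⊆ Finset.univ.image (fun χ : (A ⧸ I) →+* F => χ.comp (Ideal.Quotient.mk I)) := by
      intro ψ hψ
      have hψN : ψ (N : A) = 0 := not_not.mp (Finset.mem_filter.mp hψ).2
      refine Finset.mem_image.mpr ⟨Ideal.Quotient.lift I ψ (fun a ha => ?_), Finset.mem_univ _, ?_⟩
      · obtain ⟨b, rfl⟩ := Ideal.mem_span_singleton'.mp ha
        rw [map_mul, hψN, mul_zero]
      · ext x
        simp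
    calc T2.card ≤ (Finset.univ.image
          (fun χ : (A ⧸ I) →+* F => χ.comp (Ideal.Quotient.mk I))).card := Finset.card_le_card hsub
      _ ≤ (Finset.univ : Finset ((A ⧸ I) →+* F)).card := Finset.card_image_le
      _ = Nat.card ((A ⧸ I) →+* F) := by rw [Finset.card_univ, Nat.card_eq_fintype_card]
      _ ≤ c' * Nat.card F ^ (r - 1) := (hc' F).1
  have hmain : Nat.card (A →+* F) ≤ (n + c') * Nat.card F ^ (r - 1) := by
    rw [hsplit, add_mul]
    refine Nat.add_le_add (hT1.trans (Nat.mul_le_mul_left _ ?_)) hT2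
    exact Nat.pow_le_pow_right hq1 (by omega)
  constructor
  · exact hmain.trans (Nat.mul_le_mul_left _ (Nat.pow_le_pow_right hq1 (Nat.sub_le r 1)))
  · intro _
    calc Nat.card (A →+* F) * Nat.card F ≤ (n + c') * Nat.card F ^ (r - 1) * Nat.card F :=
        Nat.mul_le_mul_right _ hmain
      _ = (n + c') * Nat.card F ^ r := by
        rw [mul_assoc, ← pow_succ, Nat.sub_add_cancel hr1]

theorem Bd_of_dim_le : ∀ (r : ℕ) (A : Type u) [CommRing A] [Algebra.FiniteType ℤ A],
    ringKrullDim A ≤ r → Bd r A := by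
  have step : ∀ (r : ℕ) (IH : 1 ≤ r → ∀ (A' : Type u) [CommRing A'] [Algebra.FiniteType ℤ A'],
      ringKrullDim A' ≤ ((r - 1 : ℕ) : WithBot ℕ∞) → Bd (r - 1) A')
      (A : Type u) [CommRing A] [Algebra.FiniteType ℤ A], ringKrullDim A ≤ r → Bd r A := by
    intro r IH A _ _ hr
    refine Bd_of_minimalPrimes r A (fun 𝔮 h𝔮 => ?_)
    haveI : 𝔮.IsPrime := Ideal.IsMinimalPrime.isPrime h𝔮
    haveI hft := finiteType_quotient A 𝔮
    have hdim : ringKrullDim (A ⧸ 𝔮) ≤ r := (ringKrullDim_quotient_le 𝔮).trans hr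
    obtain ⟨p, hp⟩ := CharP.exists (A ⧸ 𝔮)
    rcases CharP.char_is_prime_or_zero (A ⧸ 𝔮) p with hp' | hp'
    · haveI : Fact p.Prime := ⟨hp'⟩
      exact @Bd_charP r (A ⧸ 𝔮) _ hft p _ hp hdim
    · subst hp'
      haveI : CharZero (A ⧸ 𝔮) := CharP.charP_to_charZero _
      exact @Bd_char0 r (A ⧸ 𝔮) _ _ _ hft hdim IH
  intro r
  induction r with
  | zero => exact step 0 (fun h => absurd h (by omega))
  | succ r ih =>
    refine step (r + 1) (fun _ => ?_)
    intro A' _ _ h
    exact ih A' h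

end Induction

end Groth.Agent.Lib.Helper10.IntPts
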