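import Mathlib
import Groth.Agent.Lib.Helper10IntPts

/-!
# Uniform bounds for the number of points of a scheme of finite type over `ℤ`: schemes
-/

universe u

open AlgebraicGeometry CategoryTheory CategoryTheory.Limits

namespace Groth.Agent.Lib.Helper10.IntPts

/-- a ring of finite type over `ULift ℤ` is of finite type over `ℤ` -/
lemma finiteType_int_of_ulift {R : Type u} [CommRing R] (φ₀ : ULift.{u} ℤ →+* R)
    (h : φ₀.FiniteType) : Algebra.FiniteType ℤ R := by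
  letI : Algebra (ULift.{u} ℤ) R := φ₀.toAlgebra
  haveI : Algebra.FiniteType (ULift.{u} ℤ) R := h
  have h1 : Algebra.FiniteType ℤ (ULift.{u} ℤ) :=
    Algebra.FiniteType.of_surjective (Algebra.ofId ℤ (ULift.{u} ℤ)) (fun x => ⟨x.down, by
      apply ULift.down_injective
      simp⟩)
  exact @Algebra.FiniteType.trans ℤ (ULift.{u} ℤ) R _ _ _ _ _ _
    (IsScalarTower.of_algebraMap_eq' (RingHom.ext_int _ _)) h1 inferInstance

/-- the affine case -/
lemma exists_bound_Spec_int (R : CommRingCat.{u})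
    (h₀ : Spec R ⟶ Spec (CommRingCat.of (ULift.{u} ℤ)))
    [LocallyOfFiniteType h₀] (r : ℕ) (hr : topologicalKrullDim (Spec R) ≤ r) :
    ∃ c p₀ : ℕ, ∀ (F : Type u) [Field F] [Finite F],
      Finite (Spec (CommRingCat.of F) ⟶ Spec R) ∧
      Nat.card (Spec (CommRingCat.of F) ⟶ Spec R) ≤ c * Nat.card F ^ r ∧
      (p₀ ≤ ringChar F →
        Nat.card (Spec (CommRingCat.of F) ⟶ Spec R) * Nat.card F ≤ c * Nat.card F ^ r) := by
  obtain ⟨φ₀, rfl⟩ : ∃ φ₀ : CommRingCat.of (ULift.{u} ℤ) ⟶ R, h₀ = Spec.map φ₀ :=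
    ⟨Spec.preimage h₀, (Spec.map_preimage h₀).symm⟩
  have hft : φ₀.hom.FiniteType :=
    (HasRingHomProperty.Spec_iff (P := @LocallyOfFiniteType)).mp inferInstance
  haveI : Algebra.FiniteType ℤ R := finiteType_int_of_ulift φ₀.hom hft
  have hdim : ringKrullDim R ≤ r := by
    rw [← PrimeSpectrum.topologicalKrullDim_eq_ringKrullDim]
    exact hr
  obtain ⟨c, p₀, hc⟩ := Bd_of_dim_le r R hdim
  refine ⟨c, p₀, fun F _ _ => ?_⟩
  let Φ : (R →+* F) → (Spec (CommRingCat.of F) ⟶ Spec R) :=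
    fun ψ => Spec.map (CommRingCat.ofHom ψ)
  have hΦ : Function.Bijective Φ := by
    constructor
    · intro ψ ψ' h
      have h2 := Spec.map_injective h
      exact congrArg CommRingCat.Hom.hom h2
    · intro h
      exact ⟨(Spec.preimage h).hom, Spec.map_preimage h⟩
  haveI : Finite (R →+* F) := finite_ringHom R F
  obtain ⟨h1, h2⟩ := hc F
  refine ⟨Finite.of_surjective Φ hΦ.2, ?_, ?_⟩
  · rw [← Nat.card_congr (Equiv.ofBijective Φ hΦ)]
    exact h1
  · rw [← Nat.card_congr (Equiv.ofBijective Φ hΦ)]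
    exact h2

/-- the number of points of a scheme of finite type and dimension `≤ r` over `ℤ` with values in a
finite field `F` is at most `c * |F|^r`, and at most `c |F|^{r-1}` in large characteristics. -/
theorem exists_bound_scheme_int {X : Scheme.{u}} (f : X ⟶ Spec (CommRingCat.of (ULift.{u} ℤ)))
    [LocallyOfFiniteType f] [QuasiCompact f] (r : ℕ) (hr : topologicalKrullDim X ≤ r) :
    ∃ c p₀ : ℕ, ∀ (F : Type u) [Field F] [Finite F],
      Finite (Spec (CommRingCat.of F) ⟶ X) ∧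
      Nat.card (Spec (CommRingCat.of F) ⟶ X) ≤ c * Nat.card F ^ r ∧
      (p₀ ≤ ringChar F →
        Nat.card (Spec (CommRingCat.of F) ⟶ X) * Nat.card F ≤ c * Nat.card F ^ r) := by
  classical
  haveI : CompactSpace X := QuasiCompact.compactSpace_of_compactSpace f
  let 𝒜 := X.affineOpenCover
  obtain ⟨t, ht⟩ := isCompact_univ.elim_finite_subcover (fun i => Set.range (𝒜.f i).base)
    (fun i => (𝒜.f i).isOpenEmbedding.isOpen_range)
    (fun x _ => Set.mem_iUnion.mpr ⟨𝒜.idx x, 𝒜.covers x⟩)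
  choose c p₀ hc using fun i => exists_bound_Spec_int (𝒜.X i) (𝒜.f i ≫ f) r
    (le_trans ((𝒜.f i).isOpenEmbedding.isInducing.topologicalKrullDim_le) hr)
  refine ⟨∑ i ∈ t, c i, t.sup p₀, fun F _ _ => ?_⟩
  haveI : ∀ i : t, Finite (Spec (CommRingCat.of F) ⟶ Spec (𝒜.X i)) := fun i => (hc i F).1
  let Ψ : (Σ i : t, (Spec (CommRingCat.of F) ⟶ Spec (𝒜.X i))) → (Spec (CommRingCat.of F) ⟶ X) :=
    fun p => p.2 ≫ 𝒜.f p.1
  have hΨ : Function.Surjective Ψ := by
    intro g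
    let pt : Spec (CommRingCat.of F) := default
    have hmem : g.base pt ∈ ⋃ i ∈ t, Set.range (𝒜.f i).base := ht (Set.mem_univ _)
    simp only [Set.mem_iUnion] at hmem
    obtain ⟨i, hi, hmem⟩ := hmem
    have hrange : Set.range g.base ⊆ Set.range (𝒜.f i).base := by
      rintro _ ⟨y, rfl⟩
      rwa [Subsingleton.elim y pt]
    exact ⟨⟨⟨i, hi⟩, IsOpenImmersion.lift (𝒜.f i) g hrange⟩, IsOpenImmersion.lift_fac _ _ _⟩
  have hcard : Nat.card (Spec (CommRingCat.of F) ⟶ X) ≤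
      ∑ i : t, Nat.card (Spec (CommRingCat.of F) ⟶ Spec (𝒜.X i)) := by
    calc Nat.card (Spec (CommRingCat.of F) ⟶ X)
        ≤ Nat.card (Σ i : t, (Spec (CommRingCat.of F) ⟶ Spec (𝒜.X i))) :=
          Nat.card_le_card_of_surjective Ψ hΨ
      _ = _ := Nat.card_sigma
  refine ⟨Finite.of_surjective Ψ hΨ, ?_, ?_⟩
  · calc Nat.card (Spec (CommRingCat.of F) ⟶ X)
        ≤ ∑ i : t, Nat.card (Spec (CommRingCat.of F) ⟶ Spec (𝒜.X i)) := hcard
      _ ≤ ∑ i : t, c i * Nat.card F ^ r := Finset.sum_le_sum fun i _ => (hc i F).2.1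
      _ = (∑ i ∈ t, c i) * Nat.card F ^ r := by
        rw [Finset.sum_mul, Finset.sum_coe_sort t (fun i => c i * Nat.card F ^ r)]
  · intro hp
    calc Nat.card (Spec (CommRingCat.of F) ⟶ X) * Nat.card F
        ≤ (∑ i : t, Nat.card (Spec (CommRingCat.of F) ⟶ Spec (𝒜.X i))) * Nat.card F :=
          Nat.mul_le_mul_right _ hcard
      _ = ∑ i : t, Nat.card (Spec (CommRingCat.of F) ⟶ Spec (𝒜.X i)) * Nat.card F :=
          Finset.sum_mul ..
      _ ≤ ∑ i : t, c i * Nat.card F ^ r := Finset.sum_le_sum fun i _ => (hc i F).2.2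
          (le_trans (Finset.le_sup (f := p₀) i.2) hp)
      _ = (∑ i ∈ t, c i) * Nat.card F ^ r := by
        rw [Finset.sum_mul, Finset.sum_coe_sort t (fun i => c i * Nat.card F ^ r)]


/-- the characteristic of a field with `p ^ m` elements -/
lemma ringChar_eq_of_card {F : Type*} [Field F] {p m : ℕ} (hp : p.Prime) (hm : 1 ≤ m)
    (hF : Nat.card F = p ^ m) : Finite F ∧ ringChar F = p := by
  have hfin : Finite F := Nat.finite_of_card_ne_zero (by rw [hF]; exact pow_ne_zero _ hp.ne_zero)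
  refine ⟨hfin, ?_⟩
  letI := Fintype.ofFinite F
  obtain ⟨n, hp', hn⟩ := FiniteField.card F (ringChar F)
  rw [← Nat.card_eq_fintype_card, hF] at hn
  have h1 : ringChar F ∣ p ^ m := by
    rw [hn]
    exact dvd_pow_self _ n.ne_zero
  exact (Nat.prime_dvd_prime_iff_eq hp' hp).mp (hp'.dvd_of_dvd_pow h1)

/-- S13070 -/
theorem main_S13070 {X : Scheme.{u}}
    (f : X ⟶ Spec (CommRingCat.of (ULift.{u} ℤ))) [LocallyOfFiniteType f] [QuasiCompact f] (r : ℕ)
    (hr : topologicalKrullDim X ≤ r) :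
    ∃ (c : ℝ) (p₀ : ℕ), 0 < c ∧ ∀ (p m : ℕ), p.Prime → 1 ≤ m →
      ∀ (F : Type u) [Field F], Nat.card F = p ^ m →
        (p₀ ≤ p → (Nat.card (Spec (CommRingCat.of F) ⟶ X) : ℝ) ≤
            c * (p : ℝ) ^ ((m : ℝ) * ((r : ℝ) - 1))) ∧
        (p < p₀ → (Nat.card (Spec (CommRingCat.of F) ⟶ X) : ℝ) ≤ c * (p : ℝ) ^ ((m : ℝ) * r)) := by
  obtain ⟨c₀, p₀, hc⟩ := exists_bound_scheme_int f r hr
  refine ⟨(c₀ : ℝ) + 1, p₀, by positivity, fun p m hp hm F _ hF => ?_⟩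
  obtain ⟨hfin, hchar⟩ := ringChar_eq_of_card hp hm hF
  obtain ⟨-, h1, h2⟩ := hc F
  set N := Nat.card (Spec (CommRingCat.of F) ⟶ X) with hN
  have hP : (0 : ℝ) < (p : ℝ) := by exact_mod_cast hp.pos
  have hPm : (0 : ℝ) < (p : ℝ) ^ m := pow_pos hP m
  have e1 : (p : ℝ) ^ ((m : ℝ) * (r : ℝ)) = ((p : ℝ) ^ m) ^ r := by
    rw [Real.rpow_mul hP.le, Real.rpow_natCast, Real.rpow_natCast]
  have h1' : (N : ℝ) ≤ (c₀ : ℝ) * ((p : ℝ) ^ m) ^ r := by
    have : ((N : ℕ) : ℝ) ≤ ((c₀ * Nat.card F ^ r : ℕ) : ℝ) := Nat.cast_le.mpr h1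
    rw [hF] at this
    push_cast at this
    exact this
  have hc0 : (c₀ : ℝ) ≤ (c₀ : ℝ) + 1 := by linarith
  constructor
  · intro hp0
    have h2' := h2 (by rw [hchar]; exact hp0)
    have h3 : (N : ℝ) * (p : ℝ) ^ m ≤ (c₀ : ℝ) * ((p : ℝ) ^ m) ^ r := by
      have : ((N * Nat.card F : ℕ) : ℝ) ≤ ((c₀ * Nat.card F ^ r : ℕ) : ℝ) := Nat.cast_le.mpr h2'
      rw [hF] at this
      push_cast at this
      exact this
    have e2 : (p : ℝ) ^ ((m : ℝ) * ((r : ℝ) - 1)) = ((p : ℝ) ^ m) ^ r / (p : ℝ) ^ m := by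
      rw [mul_sub, mul_one, Real.rpow_sub hP, e1, Real.rpow_natCast]
    rw [e2, ← mul_div_assoc, le_div_iff₀ hPm]
    refine h3.trans ?_
    exact mul_le_mul_of_nonneg_right hc0 (pow_nonneg hPm.le r)
  · intro _
    rw [e1]
    exact h1'.trans (mul_le_mul_of_nonneg_right hc0 (pow_nonneg hPm.le r))

end Groth.Agent.Lib.Helper10.IntPts
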