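import Mathlib
import Groth.Agent.Lib.Helper10ArithZeta
import Groth.Agent.Lib.Helper10IntPtsSch

/-!
# The Dirichlet series of effective 0-cycles of a scheme of finite type over `ℤ`
-/

universe u

open AlgebraicGeometry CategoryTheory CategoryTheory.Limits

namespace Groth.Agent.Lib.Helper10.ArithZetaInt

open Groth.Agent.Lib.Helper10.ArithZeta Groth.Agent.Lib.Helper10.EulerBridge
  Groth.Agent.Lib.Helper10.IntPts

variable {X : Scheme.{u}} (f : X ⟶ Spec (CommRingCat.of (ULift.{u} ℤ))) [LocallyOfFiniteType f]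

include f in
/-- the residue field of a closed point of a scheme of finite type over `ℤ` is finite -/
lemma finite_residueField (x : X) (hx : IsClosed ({x} : Set X)) : Finite (X.residueField x) := by
  haveI := isClosed_singleton_iff_isClosedImmersion.mp hx
  have hloft : LocallyOfFiniteType (X.fromSpecResidueField x ≫ f) := inferInstance
  obtain ⟨φ₀, hφ₀⟩ : ∃ φ₀ : CommRingCat.of (ULift.{u} ℤ) ⟶ X.residueField x,
      X.fromSpecResidueField x ≫ f = Spec.map φ₀ :=
    ⟨Spec.preimage _, (Spec.map_preimage _).symm⟩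
  rw [hφ₀] at hloft
  have hft : φ₀.hom.FiniteType :=
    (HasRingHomProperty.Spec_iff (P := @LocallyOfFiniteType)).mp hloft
  haveI : Algebra.FiniteType ℤ (X.residueField x) := finiteType_int_of_ulift φ₀.hom hft
  exact finite_of_isField_finiteType_int _ (Field.toIsField _)

include f in
lemma two_le_Nx (x : ClPt X) : 2 ≤ Nx X x := by
  haveI := finite_residueField f x.1 x.2
  exact Finite.one_lt_card

include f in
lemma count_bound [QuasiCompact f] (r : ℕ) (hr : topologicalKrullDim X ≤ r) :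
    ∃ c p₀ : ℕ, ∀ n : ℕ, Finite {x : ClPt X // Nx X x = n} ∧
      Nat.card {x : ClPt X // Nx X x = n} ≤ c * n ^ r ∧
      (p₀ ≤ n.minFac → Nat.card {x : ClPt X // Nx X x = n} * n ≤ c * n ^ r) ∧
      (Nat.card {x : ClPt X // Nx X x = n} ≠ 0 → n.minFac.Prime ∧ ∃ m : ℕ, n = n.minFac ^ m) := by
  classical
  obtain ⟨c, p₀, hc⟩ := exists_bound_scheme_int f r hr
  refine ⟨c, p₀, fun n => ?_⟩
  by_cases hne : Nonempty {x : ClPt X // Nx X x = n}
  swap
  · rw [not_nonempty_iff] at hne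
    refine ⟨inferInstance, by simp, fun _ => by simp, fun h => absurd (by simp) h⟩
  obtain ⟨⟨x₀, hx₀⟩⟩ := hne
  let F : Type u := X.residueField x₀.1
  haveI : Finite F := finite_residueField f x₀.1 x₀.2
  have hF : Nat.card F = n := hx₀
  obtain ⟨hfin, h1, h2⟩ := hc F
  letI := Fintype.ofFinite F
  obtain ⟨m, hp, hm⟩ := FiniteField.card F (ringChar F)
  have hn : n = ringChar F ^ (m : ℕ) := by rw [← hF, Nat.card_eq_fintype_card, hm]
  have hmin : n.minFac = ringChar F := by rw [hn, Nat.pow_minFac m.ne_zero, hp.minFac_eq]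
  have hequiv : ∀ x : {x : ClPt X // Nx X x = n}, Nonempty (X.residueField x.1.1 ≃+* F) := by
    intro x
    haveI : Finite (X.residueField x.1.1) := finite_residueField f x.1.1 x.1.2
    letI := Fintype.ofFinite (X.residueField x.1.1)
    refine ⟨FiniteField.ringEquivOfCardEq ?_⟩
    rw [← Nat.card_eq_fintype_card, ← Nat.card_eq_fintype_card, hF]
    exact x.2
  let e : ∀ x : {x : ClPt X // Nx X x = n}, X.residueField x.1.1 ≃+* F :=
    fun x => Classical.choice (hequiv x)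
  let Φ : {x : ClPt X // Nx X x = n} → (Spec (CommRingCat.of F) ⟶ X) := fun x =>
    Spec.map (CommRingCat.ofHom (e x).toRingHom) ≫ X.fromSpecResidueField x.1.1
  have hpt : ∀ (z : {x : ClPt X // Nx X x = n}) (pt : Spec (CommRingCat.of F)),
      (Φ z).base pt = z.1.1 := by
    intro z pt
    have : (X.fromSpecResidueField z.1.1).base
        ((Spec.map (CommRingCat.ofHom (e z).toRingHom)).base pt) ∈
        Set.range (X.fromSpecResidueField z.1.1) := ⟨_, rfl⟩
    rw [Scheme.range_fromSpecResidueField] at this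
    exact this
  have hΦ : Function.Injective Φ := by
    intro x y h
    have h1 := hpt x default
    rw [h, hpt y default] at h1
    exact Subtype.ext (Subtype.ext h1.symm)
  haveI : Finite {x : ClPt X // Nx X x = n} := Finite.of_injective Φ hΦ
  have hle : Nat.card {x : ClPt X // Nx X x = n} ≤ Nat.card (Spec (CommRingCat.of F) ⟶ X) :=
    Nat.card_le_card_of_injective Φ hΦ
  rw [hF] at h1 h2
  refine ⟨inferInstance, hle.trans h1, fun hp0 => ?_, fun _ => ⟨hmin ▸ hp, m, by rw [hmin]; exact hn⟩⟩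
  exact (Nat.mul_le_mul_right _ hle).trans (h2 (hmin ▸ hp0))

include f in
lemma countable_clPt [QuasiCompact f] (r : ℕ) (hr : topologicalKrullDim X ≤ r) :
    Countable (ClPt X) := by
  obtain ⟨c, p₀, hc⟩ := count_bound f r hr
  haveI : ∀ n, Finite {x : ClPt X // Nx X x = n} := fun n => (hc n).1
  exact (Equiv.sigmaFiberEquiv (Nx X)).symm.countable_iff.mpr inferInstance

/-- the geometric series along the powers of a prime -/
lemma summable_indicator_pow (p : ℕ) (hp : p.Prime) (a : ℝ) (ha : a < 0) :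
    Summable (Set.indicator (Set.range (fun d : ℕ => p ^ d)) (fun n : ℕ => (n : ℝ) ^ a)) := by
  have hinj : Function.Injective (fun d : ℕ => p ^ d) := Nat.pow_right_injective hp.two_le
  rw [← hinj.summable_iff (fun x hx => Set.indicator_of_notMem hx _)]
  have hP0 : (0 : ℝ) < (p : ℝ) := by exact_mod_cast hp.pos
  have hP1 : (1 : ℝ) < (p : ℝ) := by exact_mod_cast hp.one_lt
  have : (Set.indicator (Set.range (fun d : ℕ => p ^ d)) (fun n : ℕ => (n : ℝ) ^ a)) ∘
      (fun d : ℕ => p ^ d) = fun d : ℕ => ((p : ℝ) ^ a) ^ d := by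
    funext d
    simp only [Function.comp_apply]
    rw [Set.indicator_of_mem (Set.mem_range_self d), Nat.cast_pow, ← Real.rpow_natCast, ← Real.rpow_mul hP0.le,
      mul_comm, Real.rpow_mul hP0.le, Real.rpow_natCast]
  rw [this]
  exact summable_geometric_of_lt_one (Real.rpow_nonneg hP0.le _)
    (Real.rpow_lt_one_of_one_lt_of_neg hP1 ha)

include f in
lemma summable_Nx [QuasiCompact f] (r : ℕ) (hr : topologicalKrullDim X ≤ r) (σ : ℝ)
    (hσ : (r : ℝ) < σ) : Summable fun x : ClPt X => (Nx X x : ℝ) ^ (-σ) := by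
  classical
  obtain ⟨c, p₀, hc⟩ := count_bound f r hr
  haveI : ∀ n, Finite {x : ClPt X // Nx X x = n} := fun n => (hc n).1
  rw [← (Equiv.sigmaFiberEquiv (Nx X)).summable_iff]
  rw [summable_sigma_of_nonneg
    (f := (fun x : ClPt X => (Nx X x : ℝ) ^ (-σ)) ∘ (Equiv.sigmaFiberEquiv (Nx X)))
    (fun _ => Real.rpow_nonneg (Nat.cast_nonneg _) _)]
  refine ⟨fun d => Summable.of_finite, ?_⟩
  have hfib : ∀ n : ℕ, (∑' y : {x : ClPt X // Nx X x = n},
      ((fun x : ClPt X => (Nx X x : ℝ) ^ (-σ)) ∘ (Equiv.sigmaFiberEquiv (Nx X))) ⟨n, y⟩) =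
      (Nat.card {x : ClPt X // Nx X x = n} : ℝ) * (n : ℝ) ^ (-σ) := by
    intro n
    have h1 : ∀ y : {x : ClPt X // Nx X x = n},
        ((fun x : ClPt X => (Nx X x : ℝ) ^ (-σ)) ∘ (Equiv.sigmaFiberEquiv (Nx X))) ⟨n, y⟩ =
          (n : ℝ) ^ (-σ) := by
      intro y
      simp only [Function.comp_apply, Equiv.sigmaFiberEquiv_apply]
      rw [y.2]
    letI := Fintype.ofFinite {x : ClPt X // Nx X x = n}
    rw [tsum_fintype]
    simp only [h1]
    rw [Finset.sum_const, Finset.card_univ, nsmul_eq_mul, Nat.card_eq_fintype_card]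
  let P : Finset ℕ := (Finset.range p₀).filter Nat.Prime
  let h : ℕ → ℕ → ℝ := fun p =>
    Set.indicator (Set.range (fun d : ℕ => p ^ d)) (fun n : ℕ => (n : ℝ) ^ ((r : ℝ) - σ))
  have hsum_h : ∀ p ∈ P, Summable (h p) := fun p hp =>
    summable_indicator_pow p (Finset.mem_filter.mp hp).2 _ (by linarith)
  have hh0 : ∀ p n, 0 ≤ h p n := fun p n =>
    Set.indicator_nonneg (fun _ _ => Real.rpow_nonneg (Nat.cast_nonneg _) _) _
  have hb : Summable (fun n : ℕ => (c : ℝ) * (n : ℝ) ^ ((r : ℝ) - 1 - σ) +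
      (c : ℝ) * ∑ p ∈ P, h p n) :=
    ((Real.summable_nat_rpow.mpr (by linarith)).mul_left _).add
      ((summable_sum hsum_h).mul_left _)
  refine Summable.of_nonneg_of_le ?_ ?_ hb
  · intro n
    rw [hfib]
    exact mul_nonneg (Nat.cast_nonneg _) (Real.rpow_nonneg (Nat.cast_nonneg _) _)
  · intro n
    rw [hfib]
    obtain ⟨-, hc1, hc2, hc3⟩ := hc n
    set M := Nat.card {x : ClPt X // Nx X x = n} with hM
    have hrhs1 : 0 ≤ (c : ℝ) * (n : ℝ) ^ ((r : ℝ) - 1 - σ) :=
      mul_nonneg (Nat.cast_nonneg _) (Real.rpow_nonneg (Nat.cast_nonneg _) _)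
    have hrhs2 : 0 ≤ (c : ℝ) * ∑ p ∈ P, h p n :=
      mul_nonneg (Nat.cast_nonneg _) (Finset.sum_nonneg fun p _ => hh0 p n)
    by_cases hM0 : M = 0
    · rw [hM0, Nat.cast_zero, zero_mul]
      exact add_nonneg hrhs1 hrhs2
    obtain ⟨hq, m, hnm⟩ := hc3 hM0
    have hn1 : 1 ≤ n := by
      rw [hnm]
      exact Nat.one_le_pow _ _ hq.pos
    have hn0 : (0 : ℝ) < (n : ℝ) := by exact_mod_cast hn1
    have hσ0 : 0 ≤ (n : ℝ) ^ (-σ) := Real.rpow_nonneg hn0.le _
    by_cases hq0 : p₀ ≤ n.minFac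
    · have h2 := hc2 hq0
      have h3 : (M : ℝ) * (n : ℝ) ≤ (c : ℝ) * (n : ℝ) ^ r := by exact_mod_cast h2
      have h4 : (M : ℝ) ≤ (c : ℝ) * (n : ℝ) ^ ((r : ℝ) - 1) := by
        rw [Real.rpow_sub hn0, Real.rpow_one, Real.rpow_natCast, ← mul_div_assoc,
          le_div_iff₀ hn0]
        exact h3
      calc (M : ℝ) * (n : ℝ) ^ (-σ) ≤ (c : ℝ) * (n : ℝ) ^ ((r : ℝ) - 1) * (n : ℝ) ^ (-σ) :=
          mul_le_mul_of_nonneg_right h4 hσ0
        _ = (c : ℝ) * (n : ℝ) ^ ((r : ℝ) - 1 - σ) := by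
          rw [mul_assoc, ← Real.rpow_add hn0, sub_eq_add_neg ((r : ℝ) - 1)]
        _ ≤ _ := le_add_of_nonneg_right hrhs2
    · have hqP : n.minFac ∈ P :=
        Finset.mem_filter.mpr ⟨Finset.mem_range.mpr (not_le.mp hq0), hq⟩
      have h3 : (M : ℝ) ≤ (c : ℝ) * (n : ℝ) ^ r := by exact_mod_cast hc1
      have h5 : h n.minFac n = (n : ℝ) ^ ((r : ℝ) - σ) :=
        Set.indicator_of_mem (show n ∈ Set.range (fun d : ℕ => n.minFac ^ d) from ⟨m, hnm.symm⟩) _
      calc (M : ℝ) * (n : ℝ) ^ (-σ) ≤ (c : ℝ) * (n : ℝ) ^ r * (n : ℝ) ^ (-σ) :=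
          mul_le_mul_of_nonneg_right h3 hσ0
        _ = (c : ℝ) * h n.minFac n := by
          rw [h5, mul_assoc, ← Real.rpow_natCast, ← Real.rpow_add hn0, sub_eq_add_neg]
        _ ≤ (c : ℝ) * ∑ p ∈ P, h p n :=
          mul_le_mul_of_nonneg_left
            (Finset.single_le_sum (f := fun p => h p n) (fun p _ => hh0 p n) hqP)
            (Nat.cast_nonneg _)
        _ ≤ _ := le_add_of_nonneg_left hrhs1

include f in
theorem main [QuasiCompact f] (r : ℕ) (hr : topologicalKrullDim X ≤ r) :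
    LSeries.abscissaOfAbsConv (Zeta.arithCoeff X) ≤ (r : ℝ) ∧
      ∀ s : ℂ, (r : ℝ) < s.re → LSeries (Zeta.arithCoeff X) s ≠ 0 := by
  have hco : Zeta.arithCoeff X = fun n => (cnt (Nx X) n : ℂ) := by
    funext n
    unfold Zeta.arithCoeff
    rw [cycleNormCount_eq]
  haveI := countable_clPt f r hr
  have key : ∀ s : ℂ, (r : ℝ) < s.re →
      LSeriesSummable (Zeta.arithCoeff X) s ∧ LSeries (Zeta.arithCoeff X) s ≠ 0 := by
    intro s hs
    rw [hco]
    exact EulerBridge.main (Nx X) (two_le_Nx f) s (lt_of_le_of_lt (Nat.cast_nonneg r) hs)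
      (summable_Nx f r hr s.re hs)
  refine ⟨?_, fun s hs => (key s hs).2⟩
  refine LSeries.abscissaOfAbsConv_le_of_forall_lt_LSeriesSummable ?_
  intro y hy
  exact (key (y : ℂ) (by simpa using hy)).1

end Groth.Agent.Lib.Helper10.ArithZetaInt
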