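import Mathlib

/-!
# Closed immersions with the Artinian lifting property (helper10, S14614)
-/

set_option autoImplicit false
universe u
open CategoryTheory CategoryTheory.Limits AlgebraicGeometry TopologicalSpace

namespace Groth.Agent.Lib.Helper10.ArtLift

/-- If `Spec (𝒪_{S,i z} ⧸ I) → S` lifts through the injective morphism `i : Z → S`, then the kernel
of the stalk map of `i` at `z` is contained in `I`. -/
theorem ker_stalkMap_le_of_lift {Z S : Scheme.{u}} (i : Z ⟶ S) (hinj : Function.Injective i)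
    (z : Z) (I : Ideal (S.presheaf.stalk (i z))) (hI : I ≠ ⊤)
    (g' : Spec (CommRingCat.of (S.presheaf.stalk (i z) ⧸ I)) ⟶ Z)
    (hg' : g' ≫ i = Spec.map (CommRingCat.ofHom (Ideal.Quotient.mk I)) ≫ S.fromSpecStalk (i z)) :
    RingHom.ker (i.stalkMap z).hom ≤ I := by
  have : Nontrivial (S.presheaf.stalk (i z) ⧸ I) := Ideal.Quotient.nontrivial_iff.mpr hI
  have : IsLocalRing (S.presheaf.stalk (i z) ⧸ I) :=
    IsLocalRing.of_surjective' (Ideal.Quotient.mk I) Ideal.Quotient.mk_surjective
  let A : CommRingCat.{u} := CommRingCat.of (S.presheaf.stalk (i z) ⧸ I)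
  have : IsLocalRing A := inferInstanceAs (IsLocalRing (S.presheaf.stalk (i z) ⧸ I))
  let q : S.presheaf.stalk (i z) ⟶ A := CommRingCat.ofHom (Ideal.Quotient.mk I)
  have : IsLocalHom q.hom :=
    IsLocalHom.of_surjective (Ideal.Quotient.mk I) Ideal.Quotient.mk_surjective
  let g₁ : Spec A ⟶ S := Spec.map q ≫ S.fromSpecStalk (i z)
  let c : Spec A := IsLocalRing.closedPoint A
  have hc : i (g' c) = i z := by
    have h1 : (g' ≫ i) c = g₁ c := by rw [hg']; rfl
    refine h1.trans ?_
    have h2 : (Spec.map q) c = IsLocalRing.closedPoint (S.presheaf.stalk (i z)) :=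
      Spec_closedPoint
    have h3 : g₁ c = S.fromSpecStalk (i z) ((Spec.map q) c) := rfl
    rw [h3, h2]
    exact Scheme.fromSpecStalk_closedPoint
  have hy : g' c = z := hinj hc
  intro a ha
  rw [RingHom.mem_ker] at ha
  rw [← Ideal.Quotient.eq_zero_iff_mem]
  obtain ⟨U, hxU, a', rfl⟩ := S.presheaf.exists_germ_eq a
  have hφ : Z.presheaf.germ (i ⁻¹ᵁ U) z hxU (i.app U a') = 0 := by
    rw [← Scheme.Hom.germ_stalkMap_apply]
    exact ha
  have hφ' : ∀ (y' : Z) (hy' : y' = z) (hm : y' ∈ i ⁻¹ᵁ U),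
      Z.presheaf.germ (i ⁻¹ᵁ U) y' hm (i.app U a') = 0 := by
    rintro _ rfl _
    exact hφ
  have hm : g' c ∈ i ⁻¹ᵁ U := by rw [hy]; exact hxU
  have key := hφ' (g' c) hy hm
  have e1 : ∀ (k : Spec A ⟶ S) (hk : k = g₁) (hU : k c ∈ U),
      (S.presheaf.germ U (k c) hU ≫ Scheme.stalkClosedPointTo k) =
        S.presheaf.germ U (i z) hxU ≫ q := by
    rintro _ rfl hU
    exact Scheme.germ_stalkClosedPointTo_Spec_fromSpecStalk q U hU
  have e2 := e1 (g' ≫ i) hg' hm
  rw [Scheme.stalkClosedPointTo_comp] at e2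
  have e3 := congrArg (fun φ => φ.hom a') e2
  have e4 : (Scheme.stalkClosedPointTo g').hom ((i.stalkMap (g' c)).hom
      ((S.presheaf.germ U (i (g' c)) hm) a')) =
      (Ideal.Quotient.mk I) (S.presheaf.germ U _ hxU a') := e3
  have e5 : (i.stalkMap (g' c)).hom ((S.presheaf.germ U (i (g' c)) hm) a') = 0 :=
    (Scheme.Hom.germ_stalkMap_apply i U (g' c) hm a').trans key
  rw [← e4, e5, map_zero]

theorem main14614 (S : Scheme.{u}) [IsLocallyNoetherian S]
    {Z : Scheme.{u}} (i : Z ⟶ S) [IsClosedImmersion i]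
    (h : ∀ (A : Type u) [CommRing A] [IsArtinianRing A] [IsLocalRing A]
      (g : Spec (CommRingCat.of A) ⟶ S),
      (∃ t : Spec (CommRingCat.of (IsLocalRing.ResidueField A)) ⟶ Z,
          t ≫ i = Spec.map (CommRingCat.ofHom (IsLocalRing.residue A)) ≫ g) →
        ∃ g' : Spec (CommRingCat.of A) ⟶ Z, g' ≫ i = g) :
    IsOpenImmersion i := by
  have hstalk : ∀ z : Z, Function.Bijective (i.stalkMap z).hom := by
    intro z
    have hsurj : Function.Surjective (i.stalkMap z).hom := i.stalkMap_surjective z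
    refine ⟨?_, hsurj⟩
    rw [RingHom.injective_iff_ker_eq_bot]
    set R := S.presheaf.stalk (i z) with hR
    set m := IsLocalRing.maximalIdeal R with hm
    set φ := (i.stalkMap z).hom with hφ
    have hkm : RingHom.ker φ ≤ m := IsLocalRing.le_maximalIdeal (RingHom.ker_ne_top φ)
    have hn : ∀ n : ℕ, RingHom.ker φ ≤ m ^ (n + 1) := by
      intro n
      have hne : m ^ (n + 1) ≠ ⊤ := by
        intro htop
        have : m ^ (n + 1) ≤ m := Ideal.pow_le_self (Nat.succ_ne_zero n)
        rw [htop] at this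
        exact (IsLocalRing.maximalIdeal.isMaximal R).ne_top (top_le_iff.mp this)
      haveI : Nontrivial (R ⧸ m ^ (n + 1)) := Ideal.Quotient.nontrivial_iff.mpr hne
      haveI : IsLocalRing (R ⧸ m ^ (n + 1)) :=
        IsLocalRing.of_surjective' (Ideal.Quotient.mk _) Ideal.Quotient.mk_surjective
      haveI : IsArtinianRing (R ⧸ m ^ (n + 1)) := by
        apply IsLocalRing.quotient_artinian_of_mem_minimalPrimes_of_isLocalRing
        refine ⟨⟨inferInstance, Ideal.pow_le_self (Nat.succ_ne_zero n)⟩, ?_⟩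
        rintro q ⟨hq, hle⟩ -
        exact hq.le_of_pow_le hle
      haveI : IsLocalHom (Ideal.Quotient.mk (m ^ (n + 1))) :=
        IsLocalHom.of_surjective _ Ideal.Quotient.mk_surjective
      -- the map to the residue field of the quotient
      let ψ : R →+* IsLocalRing.ResidueField (R ⧸ m ^ (n + 1)) :=
        (IsLocalRing.residue (R ⧸ m ^ (n + 1))).comp (Ideal.Quotient.mk (m ^ (n + 1)))
      have hψ : RingHom.ker φ ≤ RingHom.ker ψ := by
        intro a ha
        rw [RingHom.mem_ker]
        have ham : a ∈ m := hkm ha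
        change IsLocalRing.residue _ (Ideal.Quotient.mk (m ^ (n + 1)) a) = 0
        rw [IsLocalRing.residue_eq_zero_iff]
        rw [IsLocalRing.mem_maximalIdeal, mem_nonunits_iff] at ham ⊢
        intro hu
        exact ham (isUnit_of_map_unit (Ideal.Quotient.mk (m ^ (n + 1))) a hu)
      let θ : Z.presheaf.stalk z →+* IsLocalRing.ResidueField (R ⧸ m ^ (n + 1)) :=
        RingHom.liftOfSurjective φ hsurj ⟨ψ, hψ⟩
      have hθ : θ.comp φ = ψ := RingHom.liftOfRightInverse_comp _ _ _ _
      let g : Spec (CommRingCat.of (R ⧸ m ^ (n + 1))) ⟶ S :=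
        Spec.map (CommRingCat.ofHom (Ideal.Quotient.mk (m ^ (n + 1)))) ≫ S.fromSpecStalk (i z)
      let t : Spec (CommRingCat.of (IsLocalRing.ResidueField (R ⧸ m ^ (n + 1)))) ⟶ Z :=
        Spec.map (CommRingCat.ofHom θ) ≫ Z.fromSpecStalk z
      have ht : t ≫ i = Spec.map (CommRingCat.ofHom (IsLocalRing.residue (R ⧸ m ^ (n + 1)))) ≫ g := by
        simp only [t, g, Category.assoc]
        rw [← Scheme.SpecMap_stalkMap_fromSpecStalk, ← Spec.map_comp_assoc, ← Spec.map_comp_assoc]
        congr 2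
        ext a
        exact congrArg (fun k => k a) hθ
      obtain ⟨g', hg'⟩ := h (R ⧸ m ^ (n + 1)) g ⟨t, ht⟩
      exact ker_stalkMap_le_of_lift i i.injective z _ hne g' hg'
    have hle : RingHom.ker φ ≤ ⨅ n : ℕ, m ^ n := by
      refine le_iInf fun n => ?_
      cases n with
      | zero => simp
      | succ n => exact hn n
    rw [Ideal.iInf_pow_eq_bot_of_isLocalRing m (IsLocalRing.maximalIdeal.isMaximal R).ne_top] at hle
    exact le_bot_iff.mp hle
  haveI : Flat i := by
    rw [Flat.iff_flat_stalkMap]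
    intro z
    exact RingHom.Flat.of_bijective (hstalk z)
  haveI : LocallyOfFinitePresentation i :=
    LocallyOfFinitePresentation.iff_locallyOfFiniteType.mpr inferInstance
  exact IsOpenImmersion.of_flat_of_mono i

end Groth.Agent.Lib.Helper10.ArtLift
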