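/-
Helper library (helper10): morphisms to the spectrum of an artinian local ring are universally open;
products of dominant morphisms over such a base are dominant.
-/
import Mathlib

set_option autoImplicit false
universe u

open CategoryTheory CategoryTheory.Limits AlgebraicGeometry

namespace Groth.Agent.Lib.Helper10.ArtinOpen

/-- Openness of a map can be checked after base change along a surjective closed immersion. -/
theorem isOpenMap_of_isPullback_surjective_closedImmersion {P T T₀ P₀ : Scheme.{u}} {u : P ⟶ T}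
    {j : T₀ ⟶ T} {j' : P₀ ⟶ P} {u₀ : P₀ ⟶ T₀} (sq : IsPullback j' u₀ u j)
    [IsClosedImmersion j] [Surjective j] (h : IsOpenMap u₀.base) : IsOpenMap u.base := by
  intro W hW
  haveI : Surjective j' := MorphismProperty.of_isPullback (P := @Surjective) sq.flip inferInstance
  have hj : IsHomeomorph j.base := by
    rw [isHomeomorph_iff_continuous_isClosedMap_bijective]
    exact ⟨j.continuous, j.isClosedEmbedding.isClosedMap,
      j.isClosedEmbedding.injective, j.surjective⟩
  have heq : u.base '' W = j.base '' (u₀.base '' (j'.base ⁻¹' W)) := by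
    ext y
    constructor
    · rintro ⟨w, hw, rfl⟩
      obtain ⟨w₀, rfl⟩ := j'.surjective w
      refine ⟨u₀.base w₀, ⟨w₀, hw, rfl⟩, ?_⟩
      have := congrArg (fun m => m.base w₀) sq.w
      simpa using this.symm
    · rintro ⟨_, ⟨w₀, hw₀, rfl⟩, rfl⟩
      refine ⟨j'.base w₀, hw₀, ?_⟩
      have := congrArg (fun m => m.base w₀) sq.w
      simpa using this
  rw [heq]
  exact hj.isOpenMap _ (h _ (hW.preimage j'.continuous))

/-- Every morphism to the spectrum of an artinian local ring is universally open. -/
theorem universallyOpen_of_artinian_local {A : Type u} [CommRing A] [IsArtinianRing A]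
    [IsLocalRing A] {Y : Scheme.{u}} (h : Y ⟶ Spec (CommRingCat.of A)) : UniversallyOpen h := by
  let k := IsLocalRing.ResidueField A
  let i : Spec (CommRingCat.of k) ⟶ Spec (CommRingCat.of A) :=
    Spec.map (CommRingCat.ofHom (IsLocalRing.residue A))
  haveI : IsClosedImmersion i :=
    IsClosedImmersion.spec_of_surjective _ IsLocalRing.residue_surjective
  haveI : Subsingleton (Spec (CommRingCat.of A)) :=
    inferInstanceAs (Subsingleton (PrimeSpectrum A))
  haveI : Surjective i := ⟨fun x => ⟨default, Subsingleton.elim _ _⟩⟩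
  refine ⟨MorphismProperty.universally_mk' _ _ fun {T} t _ => ?_⟩
  show IsOpenMap (pullback.fst t h).base
  set u := pullback.fst t h
  let j := pullback.fst t i
  let j' := pullback.fst u j
  let u₀ := pullback.snd u j
  have sq : IsPullback j' u₀ u j := IsPullback.of_hasPullback _ _
  refine isOpenMap_of_isPullback_surjective_closedImmersion sq ?_
  -- `u₀` is a base change of `h₀ : Y₀ ⟶ Spec k`
  let h₀ := pullback.snd h i
  have hcond : (j' ≫ pullback.snd t h) ≫ h = (u₀ ≫ pullback.snd t i) ≫ i := by
    rw [Category.assoc, ← pullback.condition (f := t) (g := h), ← Category.assoc]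
    rw [show j' ≫ pullback.fst t h = u₀ ≫ j from sq.w, Category.assoc, Category.assoc]
    rw [pullback.condition (f := t) (g := i)]
  let m : pullback u j ⟶ pullback h i :=
    pullback.lift (j' ≫ pullback.snd t h) (u₀ ≫ pullback.snd t i) hcond
  have hpaste : IsPullback (j' ≫ pullback.snd t h) u₀ h (j ≫ t) :=
    sq.paste_horiz (IsPullback.of_hasPullback t h).flip
  have hm1 : m ≫ pullback.fst h i = j' ≫ pullback.snd t h := pullback.lift_fst _ _ _
  have hm2 : m ≫ pullback.snd h i = u₀ ≫ pullback.snd t i := pullback.lift_snd _ _ _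
  have hjt : j ≫ t = pullback.snd t i ≫ i := pullback.condition
  rw [← hm1, hjt] at hpaste
  have sq2 : IsPullback m u₀ h₀ (pullback.snd t i) :=
    IsPullback.of_right hpaste hm2 (IsPullback.of_hasPullback h i)
  haveI : UniversallyOpen h₀ := inferInstance
  haveI : UniversallyOpen u₀ := MorphismProperty.of_isPullback (P := @UniversallyOpen) sq2 inferInstance
  exact u₀.isOpenMap

/-- Base change of a dominant morphism along an open map is dominant. -/
theorem denseRange_of_isPullback {P X X' Z : Scheme.{u}} {fst : P ⟶ X'} {snd : P ⟶ Z}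
    {f : X' ⟶ X} {π : Z ⟶ X} (sq : IsPullback fst snd f π) (hπ : IsOpenMap π.base)
    (hf : DenseRange f.base) : DenseRange snd.base := by
  have hr : Set.range snd.base = π.base ⁻¹' Set.range f.base := by
    ext z
    constructor
    · rintro ⟨t, rfl⟩
      refine ⟨fst.base t, ?_⟩
      have := congrArg (fun m => m.base t) sq.w
      simpa using this
    · rintro ⟨x', hx'⟩
      obtain ⟨a, -, ha⟩ := Scheme.exists_preimage_of_isPullback sq x' z hx'
      exact ⟨a, ha⟩
  rw [DenseRange, hr]
  exact hf.preimage hπ

/-- A product of dominant morphisms is dominant when the relevant projections are open. -/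
theorem denseRange_pullback_map {S X X' Y Y' : Scheme.{u}} (a : X ⟶ S) (b : Y ⟶ S)
    (a' : X' ⟶ S) (b' : Y' ⟶ S) (f : X' ⟶ X) (g : Y' ⟶ Y) (ha : f ≫ a = a') (hb : g ≫ b = b')
    (hopen1 : IsOpenMap (pullback.fst a b').base) (hopen2 : IsOpenMap (pullback.snd a b).base)
    (hf : DenseRange f.base) (hg : DenseRange g.base) :
    DenseRange (pullback.map a' b' a b f g (𝟙 S) (by simp [ha]) (by simp [hb])).base := by
  subst ha hb
  let m₁ : pullback (f ≫ a) (g ≫ b) ⟶ pullback a (g ≫ b) :=
    pullback.map _ _ _ _ f (𝟙 _) (𝟙 _) (by simp) (by simp)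
  let m₂ : pullback a (g ≫ b) ⟶ pullback a b :=
    pullback.map _ _ _ _ (𝟙 _) g (𝟙 _) (by simp) (by simp)
  have h1s : m₁ ≫ pullback.snd a (g ≫ b) = pullback.snd (f ≫ a) (g ≫ b) := by
    simp only [m₁]; rw [pullback.lift_snd]; simp
  have h1f : pullback.fst (f ≫ a) (g ≫ b) ≫ f = m₁ ≫ pullback.fst a (g ≫ b) := by
    simp only [m₁]; rw [pullback.lift_fst]
  have h2f : m₂ ≫ pullback.fst a b = pullback.fst a (g ≫ b) := by
    simp only [m₂]; rw [pullback.lift_fst]; simp
  have h2s : pullback.snd a (g ≫ b) ≫ g = m₂ ≫ pullback.snd a b := by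
    simp only [m₂]; rw [pullback.lift_snd]
  have hm : pullback.map (f ≫ a) (g ≫ b) a b f g (𝟙 S) (by simp) (by simp) = m₁ ≫ m₂ := by
    apply pullback.hom_ext
    · rw [pullback.lift_fst, Category.assoc, h2f, ← h1f]
    · rw [pullback.lift_snd, Category.assoc, ← h2s, ← Category.assoc, h1s]
  have sq1 : IsPullback (pullback.fst (f ≫ a) (g ≫ b)) m₁ f (pullback.fst a (g ≫ b)) := by
    refine IsPullback.of_bot ?_ h1f (IsPullback.of_hasPullback a (g ≫ b))
    rw [h1s]
    exact IsPullback.of_hasPullback _ _
  have sq2 : IsPullback (pullback.snd a (g ≫ b)) m₂ g (pullback.snd a b) := by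
    refine IsPullback.of_bot ?_ h2s (IsPullback.of_hasPullback a b).flip
    rw [h2f]
    exact (IsPullback.of_hasPullback _ _).flip
  have d1 : DenseRange m₁.base := denseRange_of_isPullback sq1 hopen1 hf
  have d2 : DenseRange m₂.base := denseRange_of_isPullback sq2 hopen2 hg
  rw [hm]
  have : (m₁ ≫ m₂).base = m₂.base ∘ m₁.base := by
    ext x; simp
  rw [this]
  exact d2.comp d1 m₂.continuous

end Groth.Agent.Lib.Helper10.ArtinOpen
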