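import Mathlib

/-!
# Algebraic core for the scheme-level Artin approximation (helper10), part A (pure Mathlib)
-/

set_option autoImplicit false
set_option linter.style.haveILetI false
universe u

namespace Groth.Agent.Lib.Helper10.ArtinSch

open IsLocalRing AlgebraicGeometry CategoryTheory


section L1

variable {A O : Type*} [CommRing A] [CommRing O] [IsLocalRing A] [IsLocalRing O]
  (ε : A →+* O) (hε : (maximalIdeal A).map ε = maximalIdeal O)
  (N : ℕ) (hN : 1 ≤ N) (ρ : O →+* A ⧸ maximalIdeal A ^ N)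
  (hρ : ∀ a, ρ (ε a) = Ideal.Quotient.mk _ a)

include hN hρ in
/-- residue surjectivity -/
theorem exists_sub_mem_maximalIdeal (w : O) : ∃ a : A, w - ε a ∈ maximalIdeal O := by
  obtain ⟨a, ha⟩ := Ideal.Quotient.mk_surjective (ρ w)
  refine ⟨a, ?_⟩
  by_contra hnot
  have hu : IsUnit (w - ε a) := by
    by_contra h
    exact hnot ((mem_maximalIdeal _).mpr h)
  have h0 : ρ (w - ε a) = 0 := by rw [map_sub, hρ, ha, sub_self]
  have hu' := hu.map ρ
  rw [h0] at hu'
  have hnt : Nontrivial (A ⧸ maximalIdeal A ^ N) := by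
    apply Ideal.Quotient.nontrivial_iff.mpr
    intro htop
    have hle : maximalIdeal A ^ N ≤ maximalIdeal A := Ideal.pow_le_self (by omega)
    rw [htop] at hle
    exact (maximalIdeal.isMaximal A).ne_top (top_le_iff.mp hle)
  exact not_isUnit_zero hu'

include hε hN hρ in
theorem exists_sub_mem_pow (j : ℕ) (w : O) : ∃ a : A, w - ε a ∈ maximalIdeal O ^ j := by
  induction j generalizing w with
  | zero => exact ⟨0, by simp⟩
  | succ j ih =>
    obtain ⟨a, ha⟩ := ih w
    -- w - ε a ∈ n^j = (m^j) O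
    rw [← hε, ← Ideal.map_pow] at ha
    -- induction on span
    have key : ∀ d ∈ (maximalIdeal A ^ j).map ε, ∃ a' : A, d - ε a' ∈ maximalIdeal O ^ (j + 1) := by
      intro d hd
      induction hd using Submodule.span_induction with
      | mem x hx =>
        obtain ⟨μ, hμ, rfl⟩ := hx
        exact ⟨μ, by simp⟩
      | zero => exact ⟨0, by simp⟩
      | add x y _ _ hx hy =>
        obtain ⟨ax, hax⟩ := hx
        obtain ⟨ay, hay⟩ := hy
        refine ⟨ax + ay, ?_⟩
        have : x + y - ε (ax + ay) = (x - ε ax) + (y - ε ay) := by rw [map_add]; ring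
        rw [this]
        exact Ideal.add_mem _ hax hay
      | smul o x hx hxi =>
        obtain ⟨ax, hax⟩ := hxi
        obtain ⟨b, hb⟩ := exists_sub_mem_maximalIdeal ε N hN ρ hρ o
        refine ⟨b * ax, ?_⟩
        have hxmem : x ∈ maximalIdeal O ^ j := by
          have : x ∈ (maximalIdeal A ^ j).map ε := hx
          rw [Ideal.map_pow, hε] at this
          exact this
        have : o • x - ε (b * ax) = (o - ε b) * x + ε b * (x - ε ax) := by
          rw [map_mul, smul_eq_mul]; ring
        rw [this]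
        apply Ideal.add_mem
        · rw [pow_succ']
          exact Ideal.mul_mem_mul hb hxmem
        · exact Ideal.mul_mem_left _ _ hax
    obtain ⟨a', ha'⟩ := key _ ha
    refine ⟨a + a', ?_⟩
    have : w - ε (a + a') = (w - ε a) - ε a' := by rw [map_add]; ring
    rw [this]
    exact ha'

include hε hN hρ in
/-- the main congruence -/
theorem sub_mem_pow_of_eq (w : O) (a : A) (h : ρ w = Ideal.Quotient.mk _ a) :
    w - ε a ∈ maximalIdeal O ^ N := by
  obtain ⟨a', ha'⟩ := exists_sub_mem_pow ε hε N hN ρ hρ N w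
  -- ρ kills n^N
  have hkill : ∀ d ∈ maximalIdeal O ^ N, ρ d = 0 := by
    intro d hd
    have h1 : (maximalIdeal O ^ N).map ρ ≤ ⊥ := by
      rw [Ideal.map_pow, ← hε, Ideal.map_map]
      have h2 : (maximalIdeal A).map (ρ.comp ε) = (maximalIdeal A).map (Ideal.Quotient.mk (maximalIdeal A ^ N)) := by
        congr 1
        ext x
        exact hρ x
      rw [h2, ← Ideal.map_pow, Ideal.map_quotient_self]
    have := h1 (Ideal.mem_map_of_mem ρ hd)
    simpa using this
  have h1 : ρ (w - ε a') = 0 := hkill _ ha'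
  rw [map_sub, hρ, h, sub_eq_zero, Ideal.Quotient.eq] at h1
  -- a - a' ∈ m^N
  have h2 : ε (a - a') ∈ maximalIdeal O ^ N := by
    rw [← hε, ← Ideal.map_pow]
    exact Ideal.mem_map_of_mem ε h1
  have : w - ε a = (w - ε a') - ε (a - a') := by rw [map_sub]; ring
  rw [this]
  exact Ideal.sub_mem _ ha' h2

end L1



/-- A map from a finitely presented algebra to a localization `M⁻¹C` factors through `C_s`
for some `s ∈ M`. -/
theorem exists_lift_away {R C A' CY : Type u} [CommRing R] [CommRing C] [CommRing A'] [CommRing CY]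
    [Algebra R C] [Algebra C A'] [Algebra R A'] [IsScalarTower R C A'] [Algebra R CY]
    [Algebra.FinitePresentation R CY] (M : Submonoid C) [IsLocalization M A'] (β : CY →ₐ[R] A') :
    ∃ s ∈ M, ∃ β' : CY →ₐ[R] Localization.Away s,
      ∀ κ : Localization.Away s →+* A', κ.comp (algebraMap C (Localization.Away s)) = algebraMap C A' →
        ∀ c, κ (β' c) = β c := by
  classical
  obtain ⟨n, π, hπ, hker⟩ := (inferInstance : Algebra.FinitePresentation R CY).out
  let a' : Fin n → A' := fun j => β (π (MvPolynomial.X j))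
  obtain ⟨s₀, hs₀⟩ := IsLocalization.exist_integer_multiples_of_finset M (Finset.univ.image a')
  have hz : ∀ j, ∃ z : C, algebraMap C A' z = (s₀ : C) • a' j := by
    intro j
    exact hs₀ (a' j) (Finset.mem_image_of_mem _ (Finset.mem_univ j))
  choose z hz using hz
  -- first localization
  let L₀ := Localization.Away (s₀ : C)
  let a₀ : Fin n → L₀ := fun j => IsLocalization.mk' L₀ (z j) ⟨(s₀ : C), Submonoid.mem_powers _⟩
  have hs₀u : IsUnit (algebraMap C A' (s₀ : C)) := IsLocalization.map_units A' s₀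
  let κ₀ : L₀ →+* A' := IsLocalization.Away.lift (s₀ : C) hs₀u
  have hκ₀C : ∀ c : C, κ₀ (algebraMap C L₀ c) = algebraMap C A' c := fun c =>
    IsLocalization.Away.lift_eq (s₀ : C) hs₀u c
  have hκ₀a : ∀ j, κ₀ (a₀ j) = a' j := by
    intro j
    change IsLocalization.lift _ (IsLocalization.mk' L₀ (z j) _) = _
    rw [IsLocalization.lift_mk'_spec]
    rw [hz j, Algebra.smul_def]
  let γ₀ : MvPolynomial (Fin n) R →ₐ[R] L₀ := MvPolynomial.aeval a₀
  have hκγ : ∀ P : MvPolynomial (Fin n) R, κ₀ (γ₀ P) = β (π P) := by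
    intro P
    have : (κ₀.comp (γ₀ : MvPolynomial (Fin n) R →+* L₀)) =
        ((β : CY →+* A').comp (π : MvPolynomial (Fin n) R →+* CY)) := by
      apply MvPolynomial.ringHom_ext
      · intro r
        simp only [RingHom.comp_apply, RingHom.coe_coe, MvPolynomial.algHom_C, AlgHom.commutes]
        rw [IsScalarTower.algebraMap_apply R C L₀, hκ₀C, ← IsScalarTower.algebraMap_apply]
      · intro j
        simp only [RingHom.comp_apply, RingHom.coe_coe, γ₀, MvPolynomial.aeval_X]
        exact hκ₀a j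
    exact RingHom.congr_fun this P
  -- A' as localization of L₀
  let _ : Algebra L₀ A' := κ₀.toAlgebra
  have : IsScalarTower C L₀ A' := IsScalarTower.of_algebraMap_eq (fun c => (hκ₀C c).symm)
  have hloc : IsLocalization (M.map (algebraMap C L₀)) A' :=
    IsLocalization.isLocalization_of_submonoid_le L₀ A' (Submonoid.powers (s₀ : C)) M
      (Submonoid.powers_le.mpr s₀.2)
  obtain ⟨G, hG⟩ := hker
  have hkill : ∀ f ∈ G, ∃ t ∈ M, algebraMap C L₀ t * γ₀ f = 0 := by
    intro f hf
    have hfker : f ∈ RingHom.ker π.toRingHom := by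
      rw [← hG]; exact Ideal.subset_span hf
    have h0 : algebraMap L₀ A' (γ₀ f) = 0 := by
      change κ₀ (γ₀ f) = 0
      rw [hκγ]
      have : π f = 0 := hfker
      rw [this, map_zero]
    obtain ⟨⟨_, t, ht, rfl⟩, htz⟩ := (IsLocalization.map_eq_zero_iff (M.map (algebraMap C L₀)) A' _).mp h0
    exact ⟨t, ht, htz⟩
  choose! t ht htz using hkill
  let s : C := (s₀ : C) * ∏ f ∈ G, t f
  have hsM : s ∈ M := M.mul_mem s₀.2 (M.prod_mem (fun f hf => ht f hf))
  refine ⟨s, hsM, ?_⟩
  let L := Localization.Away s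
  have hs₀L : IsUnit (algebraMap C L (s₀ : C)) := by
    have hsu : IsUnit (algebraMap C L s) := IsLocalization.Away.algebraMap_isUnit s
    rw [map_mul] at hsu
    exact isUnit_of_mul_isUnit_left hsu
  have htL : ∀ f ∈ G, IsUnit (algebraMap C L (t f)) := by
    intro f hf
    have hsu : IsUnit (algebraMap C L s) := IsLocalization.Away.algebraMap_isUnit s
    have hdvd : t f ∣ s := Dvd.dvd.mul_left (Finset.dvd_prod_of_mem t hf) _
    obtain ⟨c, hc⟩ := hdvd
    have h2 : algebraMap C L s = algebraMap C L (t f) * algebraMap C L c := by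
      rw [← map_mul, ← hc]
    rw [h2] at hsu
    exact isUnit_of_mul_isUnit_left hsu
  let l₀ : L₀ →+* L := IsLocalization.Away.lift (s₀ : C) hs₀L
  have hl₀C : ∀ c : C, l₀ (algebraMap C L₀ c) = algebraMap C L c := fun c =>
    IsLocalization.Away.lift_eq (s₀ : C) hs₀L c
  let γ : MvPolynomial (Fin n) R →ₐ[R] L := MvPolynomial.aeval (fun j => l₀ (a₀ j))
  have hγ : ∀ P : MvPolynomial (Fin n) R, γ P = l₀ (γ₀ P) := by
    intro P
    have : ((γ : MvPolynomial (Fin n) R →+* L)) = l₀.comp (γ₀ : MvPolynomial (Fin n) R →+* L₀) := by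
      apply MvPolynomial.ringHom_ext
      · intro r
        simp only [RingHom.comp_apply, RingHom.coe_coe, MvPolynomial.algHom_C]
        rw [IsScalarTower.algebraMap_apply R C L₀, hl₀C, ← IsScalarTower.algebraMap_apply]
      · intro j
        simp [γ, γ₀]
    exact RingHom.congr_fun this P
  have hle : ∀ f ∈ RingHom.ker π.toRingHom, γ f = 0 := by
    have : RingHom.ker π.toRingHom ≤ RingHom.ker (γ : MvPolynomial (Fin n) R →+* L) := by
      rw [← hG, Ideal.span_le]
      intro f hf
      rw [SetLike.mem_coe, RingHom.mem_ker]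
      change γ f = 0
      rw [hγ]
      have h1 : algebraMap C L (t f) * l₀ (γ₀ f) = 0 := by
        rw [← hl₀C, ← map_mul, htz f hf, map_zero]
      exact (htL f hf).mul_right_eq_zero.mp h1
    intro f hf
    exact this hf
  let β' : CY →ₐ[R] L :=
    (Ideal.Quotient.liftₐ (RingHom.ker π.toRingHom) γ hle).comp
      (Ideal.quotientKerAlgEquivOfSurjective hπ).symm.toAlgHom
  have hβ' : ∀ P : MvPolynomial (Fin n) R, β' (π P) = γ P := by
    intro P
    change Ideal.Quotient.liftₐ _ γ hle ((Ideal.quotientKerAlgEquivOfSurjective hπ).symm (π P)) = _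
    have : (Ideal.quotientKerAlgEquivOfSurjective hπ).symm (π P) =
        Ideal.Quotient.mk (RingHom.ker π.toRingHom) P := by
      apply (Ideal.quotientKerAlgEquivOfSurjective hπ).injective
      rw [AlgEquiv.apply_symm_apply]
      rfl
    rw [this]
    rfl
  refine ⟨β', ?_⟩
  intro κ hκ c
  obtain ⟨P, rfl⟩ := hπ c
  rw [hβ', hγ, ← hκγ]
  have : κ.comp l₀ = κ₀ := by
    apply IsLocalization.ringHom_ext (Submonoid.powers (s₀ : C))
    ext c
    simp only [RingHom.comp_apply]
    rw [hl₀C, hκ₀C]
    exact RingHom.congr_fun hκ c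
  exact RingHom.congr_fun this _



/-- Spreading étaleness at a point. -/
theorem exists_etale_away {CX A A' C K : Type u} [CommRing CX] [CommRing A] [CommRing A'] [CommRing C]
    [CommRing K] [Algebra CX A] (p : Ideal CX) [p.IsPrime] [IsLocalization.AtPrime A p]
    [Algebra A A'] [Algebra.Etale A A'] [Algebra CX A'] [IsScalarTower CX A A']
    [Algebra CX C] [Algebra.FinitePresentation CX C] [Algebra C A'] [IsScalarTower CX C A']
    (M' : Submonoid C) [IsLocalization M' A'] [IsLocalRing K] (χ : A' →+* K) :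
    ∃ f : C, IsUnit (χ (algebraMap C A' f)) ∧ Algebra.Etale CX (Localization.Away f) := by
  let t : Ideal C := (maximalIdeal K).comap (χ.comp (algebraMap C A'))
  have ht : t.IsPrime := Ideal.comap_isPrime _ _
  have hM' : M' ≤ t.primeCompl := by
    intro m hm hmt
    have hu : IsUnit (algebraMap C A' m) := IsLocalization.map_units A' (⟨m, hm⟩ : M')
    have hu' : IsUnit (χ (algebraMap C A' m)) := hu.map χ
    exact (mem_maximalIdeal _).mp hmt hu'
  let T := Localization.AtPrime t
  have hunits : ∀ y : M', IsUnit (algebraMap C T y) := fun y =>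
    IsLocalization.map_units T (⟨y, hM' y.2⟩ : t.primeCompl)
  let _ : Algebra A' T := (IsLocalization.lift (M := M') (g := algebraMap C T) hunits).toAlgebra
  have tow1 : IsScalarTower C A' T := IsScalarTower.of_algebraMap_eq (fun c =>
    (IsLocalization.lift_eq (M := M') hunits c).symm)
  have hloc : IsLocalization (t.primeCompl.map (algebraMap C A')) T :=
    IsLocalization.isLocalization_of_submonoid_le A' T M' t.primeCompl hM'
  have fe1 : Algebra.FormallyEtale A' T :=
    Algebra.FormallyEtale.of_isLocalization (t.primeCompl.map (algebraMap C A'))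
  have fe2 : Algebra.FormallyEtale CX A := Algebra.FormallyEtale.of_isLocalization p.primeCompl
  let _ : Algebra A T := ((algebraMap A' T).comp (algebraMap A A')).toAlgebra
  have tow2 : IsScalarTower A A' T := IsScalarTower.of_algebraMap_eq (fun _ => rfl)
  have tow3 : IsScalarTower CX A T := by
    apply IsScalarTower.of_algebraMap_eq
    intro c
    change _ = algebraMap A' T (algebraMap A A' (algebraMap CX A c))
    rw [← IsScalarTower.algebraMap_apply CX A A', IsScalarTower.algebraMap_apply CX C A',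
      ← IsScalarTower.algebraMap_apply C A' T, ← IsScalarTower.algebraMap_apply CX C T]
  have fe3 : Algebra.FormallyEtale A T := Algebra.FormallyEtale.comp A A' T
  have fe4 : Algebra.FormallyEtale CX T := Algebra.FormallyEtale.comp CX A T
  have : Algebra.IsEtaleAt CX t := fe4
  obtain ⟨f, hf, hfet⟩ := Algebra.exists_etale_of_isEtaleAt (R := CX) t
  refine ⟨f, ?_, hfet⟩
  by_contra hnu
  exact hf ((mem_maximalIdeal _).mpr hnu)


theorem isLocalRing_quot_pow (A : Type u) [CommRing A] [IsLocalRing A] (N : ℕ) (hN : 1 ≤ N) :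
    IsLocalRing (A ⧸ maximalIdeal A ^ N) := by
  have hnt : Nontrivial (A ⧸ maximalIdeal A ^ N) := by
    apply Ideal.Quotient.nontrivial_iff.mpr
    intro htop
    have hle : maximalIdeal A ^ N ≤ maximalIdeal A := Ideal.pow_le_self (by omega)
    rw [htop] at hle
    exact (maximalIdeal.isMaximal A).ne_top (top_le_iff.mp hle)
  exact IsLocalRing.of_surjective' (Ideal.Quotient.mk _) Ideal.Quotient.mk_surjective

set_option maxHeartbeats 800000 in
theorem alg_core_aux
    {R CX CY A A' C₁ : Type u} [CommRing R] [CommRing CX] [CommRing CY] [CommRing A] [CommRing A']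
    [CommRing C₁]
    [Algebra R CX] [Algebra R CY] [Algebra CX A] [Algebra R A] [IsScalarTower R CX A]
    [Algebra.FinitePresentation R CY]
    (p : Ideal CX) [p.IsPrime] [IsLocalization.AtPrime A p] [IsLocalRing A]
    [Algebra A A'] [Algebra.Etale A A'] [Algebra CX A'] [IsScalarTower CX A A']
    [Algebra CX C₁] [Algebra.FinitePresentation CX C₁] [Algebra C₁ A'] [IsScalarTower CX C₁ A']
    [IsLocalization (Algebra.algebraMapSubmonoid C₁ p.primeCompl) A']
    (N : ℕ) (hN : 1 ≤ N)
    (ψ : A' →ₐ[A] A ⧸ maximalIdeal A ^ N)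
    (βY : CY →+* A')
    (hβY : ∀ r : R, βY (algebraMap R CY r) = algebraMap A A' (algebraMap R A r)) :
    ∃ (E : Type u) (_ : CommRing E) (_ : Algebra CX E) (_ : Algebra.Etale CX E)
      (βE : CY →+* E) (ρE : E →+* A ⧸ maximalIdeal A ^ N),
      (∀ r : R, βE (algebraMap R CY r) = algebraMap CX E (algebraMap R CX r)) ∧
      (∀ c : CX, ρE (algebraMap CX E c) = Ideal.Quotient.mk _ (algebraMap CX A c)) ∧
      (∀ c : CY, ρE (βE c) = ψ (βY c)) := by
  classical
  have hK : IsLocalRing (A ⧸ maximalIdeal A ^ N) := isLocalRing_quot_pow A N hN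
  letI : Algebra R A' := ((algebraMap CX A').comp (algebraMap R CX)).toAlgebra
  have towR1 : IsScalarTower R CX A' := IsScalarTower.of_algebraMap_eq (fun _ => rfl)
  letI : Algebra R C₁ := ((algebraMap CX C₁).comp (algebraMap R CX)).toAlgebra
  have towR2 : IsScalarTower R CX C₁ := IsScalarTower.of_algebraMap_eq (fun _ => rfl)
  have towR3 : IsScalarTower R C₁ A' := by
    apply IsScalarTower.of_algebraMap_eq
    intro r
    change algebraMap CX A' (algebraMap R CX r) =
      algebraMap C₁ A' (algebraMap CX C₁ (algebraMap R CX r))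
    rw [← IsScalarTower.algebraMap_apply CX C₁ A']
  let βYR : CY →ₐ[R] A' :=
    { βY with
      commutes' := fun r => by
        change βY (algebraMap R CY r) = algebraMap CX A' (algebraMap R CX r)
        rw [hβY, IsScalarTower.algebraMap_apply R CX A, ← IsScalarTower.algebraMap_apply CX A A'] }
  obtain ⟨s, hsM, β', hβ'⟩ := exists_lift_away (R := R) (C := C₁) (A' := A') (CY := CY)
    (Algebra.algebraMapSubmonoid C₁ p.primeCompl) βYR
  have fpC₂ : Algebra.FinitePresentation CX (Localization.Away s) :=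
    Algebra.FinitePresentation.trans CX C₁ (Localization.Away s)
  have hsu : IsUnit (algebraMap C₁ A' s) :=
    IsLocalization.map_units A' (⟨s, hsM⟩ : Algebra.algebraMapSubmonoid C₁ p.primeCompl)
  let κ : Localization.Away s →+* A' := IsLocalization.Away.lift s hsu
  have hκ : ∀ c, κ (algebraMap C₁ (Localization.Away s) c) = algebraMap C₁ A' c := fun c =>
    IsLocalization.Away.lift_eq s hsu c
  letI : Algebra (Localization.Away s) A' := κ.toAlgebra
  have tow6 : IsScalarTower C₁ (Localization.Away s) A' :=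
    IsScalarTower.of_algebraMap_eq (fun c => (hκ c).symm)
  have tow7 : IsScalarTower CX (Localization.Away s) A' := by
    apply IsScalarTower.of_algebraMap_eq
    intro c
    change _ = κ (algebraMap CX (Localization.Away s) c)
    rw [IsScalarTower.algebraMap_apply CX C₁ (Localization.Away s), hκ,
      ← IsScalarTower.algebraMap_apply]
  have hloc₂ : IsLocalization ((Algebra.algebraMapSubmonoid C₁ p.primeCompl).map
      (algebraMap C₁ (Localization.Away s))) A' :=
    IsLocalization.isLocalization_of_submonoid_le (Localization.Away s) A' (Submonoid.powers s) _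
      (Submonoid.powers_le.mpr hsM)
  obtain ⟨f', hf'u, hf'et⟩ := exists_etale_away (CX := CX) (A := A) (A' := A')
    (C := Localization.Away s) p
    ((Algebra.algebraMapSubmonoid C₁ p.primeCompl).map (algebraMap C₁ (Localization.Away s)))
    (ψ : A' →+* A ⧸ maximalIdeal A ^ N)
  let g₀ : Localization.Away s →+* A ⧸ maximalIdeal A ^ N :=
    (ψ : A' →+* A ⧸ maximalIdeal A ^ N).comp (algebraMap (Localization.Away s) A')
  have hg₀u : IsUnit (g₀ f') := hf'u
  let ρE : Localization.Away f' →+* A ⧸ maximalIdeal A ^ N := IsLocalization.Away.lift f' hg₀u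
  have hρE : ∀ z, ρE (algebraMap (Localization.Away s) (Localization.Away f') z) = g₀ z := fun z =>
    IsLocalization.Away.lift_eq f' hg₀u z
  refine ⟨Localization.Away f', inferInstance, inferInstance, hf'et,
    (algebraMap (Localization.Away s) (Localization.Away f')).comp (β' : CY →+* Localization.Away s),
    ρE, ?_, ?_, ?_⟩
  · intro r
    simp only [RingHom.comp_apply, RingHom.coe_coe, AlgHom.commutes]
    rw [IsScalarTower.algebraMap_apply CX (Localization.Away s) (Localization.Away f'),
      IsScalarTower.algebraMap_apply R C₁ (Localization.Away s),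
      IsScalarTower.algebraMap_apply CX C₁ (Localization.Away s)]
    rfl
  · intro c
    rw [IsScalarTower.algebraMap_apply CX (Localization.Away s) (Localization.Away f'), hρE]
    change ψ (algebraMap (Localization.Away s) A' (algebraMap CX (Localization.Away s) c)) = _
    rw [← IsScalarTower.algebraMap_apply CX (Localization.Away s) A',
      IsScalarTower.algebraMap_apply CX A A', AlgHom.commutes]
    rfl
  · intro c
    simp only [RingHom.comp_apply, RingHom.coe_coe]
    rw [hρE]
    change ψ (κ (β' c)) = ψ (βY c)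
    congr 1
    refine hβ' κ ?_ c
    ext z
    exact hκ z

/-- The reduction of a map into the completion sending the maximal ideal into `m Â` is local. -/
theorem not_isUnit_eval_of_mem {A B : Type u} [CommRing A] [IsLocalRing A] [CommRing B]
    (N : ℕ) (hN : 1 ≤ N)
    (φ : B →+* AdicCompletion (maximalIdeal A) A) (b : B)
    (h : φ b ∈ (maximalIdeal A).map (algebraMap A (AdicCompletion (maximalIdeal A) A))) :
    ¬ IsUnit (AdicCompletion.evalₐ (maximalIdeal A) N (φ b)) := by
  have hK : IsLocalRing (A ⧸ maximalIdeal A ^ N) := isLocalRing_quot_pow A N hN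
  have h' : (AdicCompletion.evalₐ (maximalIdeal A) N) (φ b) ∈
      ((maximalIdeal A).map (algebraMap A (AdicCompletion (maximalIdeal A) A))).map
        ((AdicCompletion.evalₐ (maximalIdeal A) N :
          AdicCompletion (maximalIdeal A) A →ₐ[A] A ⧸ maximalIdeal A ^ N) :
          AdicCompletion (maximalIdeal A) A →+* A ⧸ maximalIdeal A ^ N) :=
    Ideal.mem_map_of_mem _ h
  rw [Ideal.map_map] at h'
  have hcomp : ((AdicCompletion.evalₐ (maximalIdeal A) N :
          AdicCompletion (maximalIdeal A) A →ₐ[A] A ⧸ maximalIdeal A ^ N) :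
          AdicCompletion (maximalIdeal A) A →+* A ⧸ maximalIdeal A ^ N).comp
      (algebraMap A (AdicCompletion (maximalIdeal A) A)) =
      Ideal.Quotient.mk (maximalIdeal A ^ N) := by
    ext a
    exact (AdicCompletion.evalₐ (maximalIdeal A) N).commutes a
  rw [hcomp, IsLocalRing.map_maximalIdeal_of_surjective _ Ideal.Quotient.mk_surjective] at h'
  exact (mem_maximalIdeal _).mp h'

theorem germ_appLE' {X Y : Scheme.{u}} (f : X ⟶ Y) {V : Y.Opens} {U : X.Opens}
    (e : U ≤ f ⁻¹ᵁ V) {x : X} (hx : x ∈ U) (a : Γ(Y, V)) :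
    X.presheaf.germ U x hx ((f.appLE V U e).hom a) =
      (f.stalkMap x).hom (Y.presheaf.germ V (f x) (e hx) a) := by
  have h := Scheme.Hom.germ_stalkMap_apply f V x (e hx) a
  rw [Scheme.Hom.appLE]
  erw [h]
  simp only [CommRingCat.hom_comp, RingHom.comp_apply]
  exact TopCat.Presheaf.germ_res_apply X.presheaf (homOfLE e) x hx _

theorem stalk_comp_germ {U X : Scheme.{u}} (e : U ⟶ X) {VX : X.Opens} {WU : U.Opens}
    (iX : WU ≤ e ⁻¹ᵁ VX) {u : U} (hu : u ∈ WU) {x : X} (heu : e u = x) (hxV : x ∈ VX)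
    (c : Γ(X, VX)) :
    (e.stalkMap u).hom ((X.presheaf.stalkCongr (Inseparable.of_eq heu)).inv.hom
      ((X.presheaf.germ VX x hxV).hom c)) =
    (U.presheaf.germ WU u hu).hom ((e.appLE VX WU iX).hom c) := by
  subst heu
  erw [germ_appLE' e iX hu c]
  congr 1
  exact congr($(TopCat.Presheaf.germ_stalkSpecializes X.presheaf hxV
    (Inseparable.of_eq (rfl : e u = e u)).le) c)


set_option maxHeartbeats 1000000 in
theorem scheme_core {U X Y : Scheme.{u}} (e : U ⟶ X) [Etale e] (f : U ⟶ Y) (x : X) (y : Y)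
    {VX : X.Opens} (hVX : IsAffineOpen VX) (hxV : x ∈ VX)
    {VY : Y.Opens} (hVY : IsAffineOpen VY) (hyV : y ∈ VY)
    {WU : U.Opens} (hWU : IsAffineOpen WU) (iX : WU ≤ e ⁻¹ᵁ VX) (iY : WU ≤ f ⁻¹ᵁ VY)
    (N : ℕ) (hN : 1 ≤ N)
    (ρ : Γ(U, WU) →+* (X.presheaf.stalk x) ⧸ maximalIdeal (X.presheaf.stalk x) ^ N)
    (φN : Y.presheaf.stalk y →+* (X.presheaf.stalk x) ⧸ maximalIdeal (X.presheaf.stalk x) ^ N)
    (hφN : ∀ b ∈ maximalIdeal (Y.presheaf.stalk y), ¬ IsUnit (φN b))
    (h1 : ∀ c, ρ ((e.appLE VX WU iX).hom c) =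
      Ideal.Quotient.mk _ ((X.presheaf.germ VX x hxV).hom c))
    (h2 : ∀ c, ρ ((f.appLE VY WU iY).hom c) = φN ((Y.presheaf.germ VY y hyV).hom c)) :
    ∃ (u : U) (heu : e u = x) (hfu : f u = y),
      Function.Bijective (e.residueFieldMap u) ∧
      ∀ (b : Y.presheaf.stalk y) (c : X.presheaf.stalk x),
        φN b = Ideal.Quotient.mk (maximalIdeal (X.presheaf.stalk x) ^ N) c →
        Ideal.Quotient.mk (maximalIdeal (U.presheaf.stalk u) ^ N)
            ((f.stalkMap u).hom ((Y.presheaf.stalkCongr (Inseparable.of_eq hfu)).inv.hom b)) =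
          Ideal.Quotient.mk (maximalIdeal (U.presheaf.stalk u) ^ N)
            ((e.stalkMap u).hom ((X.presheaf.stalkCongr (Inseparable.of_eq heu)).inv.hom c)) := by
  classical
  have hK : IsLocalRing ((X.presheaf.stalk x) ⧸ maximalIdeal (X.presheaf.stalk x) ^ N) :=
    isLocalRing_quot_pow _ N hN
  -- the point
  let P : PrimeSpectrum Γ(U, WU) := ⟨(maximalIdeal _).comap ρ, inferInstance⟩
  have huW : hWU.fromSpec P ∈ WU := by
    have h := hWU.range_fromSpec
    have : hWU.fromSpec P ∈ Set.range hWU.fromSpec := ⟨P, rfl⟩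
    rw [h] at this
    exact this
  have hP : hWU.primeIdealOf ⟨hWU.fromSpec P, huW⟩ = P := by
    apply hWU.fromSpec.isOpenEmbedding.injective
    rw [hWU.fromSpec_primeIdealOf]
  have hmk : (maximalIdeal ((X.presheaf.stalk x) ⧸ maximalIdeal (X.presheaf.stalk x) ^ N)).comap
      (Ideal.Quotient.mk (maximalIdeal (X.presheaf.stalk x) ^ N)) =
      maximalIdeal (X.presheaf.stalk x) := by
    have : IsLocalHom (Ideal.Quotient.mk (maximalIdeal (X.presheaf.stalk x) ^ N)) :=
      IsLocalHom.of_surjective _ Ideal.Quotient.mk_surjective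
    exact ((local_hom_TFAE _).out 0 4).mp this
  have heu : e (hWU.fromSpec P) = x := by
    have h := IsAffineOpen.comap_primeIdealOf_appLE (f := e) VX hVX WU hWU iX huW
    rw [hP] at h
    have h' : hVX.primeIdealOf ⟨x, hxV⟩ = P.comap (e.appLE VX WU iX).hom := by
      rw [hVX.primeIdealOf_eq_map_closedPoint]
      apply PrimeSpectrum.ext
      change (maximalIdeal (X.presheaf.stalk x)).comap (X.presheaf.germ VX x hxV).hom =
        ((maximalIdeal _).comap ρ).comap (e.appLE VX WU iX).hom
      rw [Ideal.comap_comap]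
      conv_lhs => rw [← hmk]
      rw [Ideal.comap_comap]
      congr 1
      ext c
      simp [h1]
    have h3 : hVX.primeIdealOf ⟨e (hWU.fromSpec P), iX huW⟩ = hVX.primeIdealOf ⟨x, hxV⟩ := by
      rw [h', ← h]
    have h4 := congrArg hVX.fromSpec h3
    rw [hVX.fromSpec_primeIdealOf, hVX.fromSpec_primeIdealOf] at h4
    exact h4
  have hφNloc : (maximalIdeal ((X.presheaf.stalk x) ⧸ maximalIdeal (X.presheaf.stalk x) ^ N)).comap φN =
      maximalIdeal (Y.presheaf.stalk y) := by
    symm
    apply (maximalIdeal.isMaximal (Y.presheaf.stalk y)).eq_of_le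
    · exact Ideal.IsPrime.ne_top inferInstance
    · intro b hb
      exact (mem_maximalIdeal _).mpr (hφN b hb)
  have hfu : f (hWU.fromSpec P) = y := by
    have h := IsAffineOpen.comap_primeIdealOf_appLE (f := f) VY hVY WU hWU iY huW
    rw [hP] at h
    have h' : hVY.primeIdealOf ⟨y, hyV⟩ = P.comap (f.appLE VY WU iY).hom := by
      rw [hVY.primeIdealOf_eq_map_closedPoint]
      apply PrimeSpectrum.ext
      change (maximalIdeal (Y.presheaf.stalk y)).comap (Y.presheaf.germ VY y hyV).hom =
        ((maximalIdeal _).comap ρ).comap (f.appLE VY WU iY).hom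
      rw [Ideal.comap_comap]
      conv_lhs => rw [← hφNloc]
      rw [Ideal.comap_comap]
      congr 1
      ext c
      simp [h2]
    have h3 : hVY.primeIdealOf ⟨f (hWU.fromSpec P), iY huW⟩ = hVY.primeIdealOf ⟨y, hyV⟩ := by
      rw [h', ← h]
    have h4 := congrArg hVY.fromSpec h3
    rw [hVY.fromSpec_primeIdealOf, hVY.fromSpec_primeIdealOf] at h4
    exact h4
  have key : ∃ (u : U) (huW : u ∈ WU), hWU.primeIdealOf ⟨u, huW⟩ = P ∧ e u = x ∧ f u = y :=
    ⟨hWU.fromSpec P, huW, hP, heu, hfu⟩
  clear heu hfu hP huW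
  obtain ⟨u, huW, hP, heu, hfu⟩ := key
  refine ⟨u, heu, hfu, ?_⟩
  letI algO := TopCat.Presheaf.algebra_section_stalk U.presheaf ⟨u, huW⟩
  haveI locO := hWU.isLocalization_stalk ⟨u, huW⟩
  have hunits : ∀ g : (hWU.primeIdealOf ⟨u, huW⟩).asIdeal.primeCompl, IsUnit (ρ g) := by
    intro g
    by_contra hnu
    apply g.2
    have hg : (g : Γ(U, WU)) ∈ P.asIdeal := (mem_maximalIdeal _).mpr hnu
    rw [← hP] at hg
    exact hg
  let ρu : U.presheaf.stalk u →+*
      (X.presheaf.stalk x) ⧸ maximalIdeal (X.presheaf.stalk x) ^ N :=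
    IsLocalization.lift (M := (hWU.primeIdealOf ⟨u, huW⟩).asIdeal.primeCompl) hunits
  have hρu : ∀ g, ρu ((U.presheaf.germ WU u huW).hom g) = ρ g := fun g =>
    IsLocalization.lift_eq hunits g
  let ε : X.presheaf.stalk x →+* U.presheaf.stalk u :=
    (e.stalkMap u).hom.comp (X.presheaf.stalkCongr (Inseparable.of_eq heu)).inv.hom
  let δ : Y.presheaf.stalk y →+* U.presheaf.stalk u :=
    (f.stalkMap u).hom.comp (Y.presheaf.stalkCongr (Inseparable.of_eq hfu)).inv.hom
  have hεg : ∀ c, ε ((X.presheaf.germ VX x hxV).hom c) =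
      (U.presheaf.germ WU u huW).hom ((e.appLE VX WU iX).hom c) := fun c =>
    stalk_comp_germ e iX huW heu hxV c
  have hδg : ∀ c, δ ((Y.presheaf.germ VY y hyV).hom c) =
      (U.presheaf.germ WU u huW).hom ((f.appLE VY WU iY).hom c) := fun c =>
    stalk_comp_germ f iY huW hfu hyV c
  have hρ : ∀ a, ρu (ε a) = Ideal.Quotient.mk _ a := by
    letI := TopCat.Presheaf.algebra_section_stalk X.presheaf ⟨x, hxV⟩
    haveI := hVX.isLocalization_stalk ⟨x, hxV⟩
    have : (ρu.comp ε) = Ideal.Quotient.mk _ := by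
      apply IsLocalization.ringHom_ext (hVX.primeIdealOf ⟨x, hxV⟩).asIdeal.primeCompl
      ext c
      change ρu (ε ((X.presheaf.germ VX x hxV).hom c)) = _
      rw [hεg, hρu, h1]
      rfl
    exact fun a => RingHom.congr_fun this a
  have hρδ : ∀ b, ρu (δ b) = φN b := by
    letI := TopCat.Presheaf.algebra_section_stalk Y.presheaf ⟨y, hyV⟩
    haveI := hVY.isLocalization_stalk ⟨y, hyV⟩
    have : (ρu.comp δ) = φN := by
      apply IsLocalization.ringHom_ext (hVY.primeIdealOf ⟨y, hyV⟩).asIdeal.primeCompl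
      ext c
      change ρu (δ ((Y.presheaf.germ VY y hyV).hom c)) = _
      rw [hδg, hρu, h2]
      rfl
    exact fun b => RingHom.congr_fun this b
  have hε : (maximalIdeal (X.presheaf.stalk x)).map ε = maximalIdeal (U.presheaf.stalk u) := by
    have h1 : (maximalIdeal (X.presheaf.stalk x)).map
        (X.presheaf.stalkCongr (Inseparable.of_eq heu)).inv.hom =
        maximalIdeal (X.presheaf.stalk (e u)) := by
      apply IsLocalRing.map_maximalIdeal_of_surjective
      exact (ConcreteCategory.bijective_of_isIso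
        (X.presheaf.stalkCongr (Inseparable.of_eq heu)).inv).2
    have h2 : (maximalIdeal (X.presheaf.stalk (e u))).map (e.stalkMap u).hom =
        maximalIdeal (U.presheaf.stalk u) := by
      algebraize [(e.stalkMap u).hom]
      have : IsLocalHom (algebraMap (X.presheaf.stalk (e u)) (U.presheaf.stalk u)) :=
        inferInstanceAs <| IsLocalHom (e.stalkMap u).hom
      have : Algebra.EssFiniteType (X.presheaf.stalk (e u)) (U.presheaf.stalk u) := by
        rw [← RingHom.essFiniteType_algebraMap, RingHom.algebraMap_toAlgebra]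
        exact LocallyOfFiniteType.stalkMap e u
      have : Algebra.FormallyUnramified (X.presheaf.stalk (e u)) (U.presheaf.stalk u) := by
        rw [← RingHom.formallyUnramified_algebraMap, RingHom.algebraMap_toAlgebra]
        exact FormallyUnramified.stalkMap e u
      exact Algebra.FormallyUnramified.map_maximalIdeal
    rw [← Ideal.map_map, h1, h2]
  refine ⟨⟨(e.residueFieldMap u).hom.injective, ?_⟩, ?_⟩
  · intro z
    obtain ⟨w, rfl⟩ := U.residue_surjective u z
    obtain ⟨a, ha⟩ := exists_sub_mem_maximalIdeal ε N hN ρu hρ w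
    refine ⟨X.residue (e u) ((X.presheaf.stalkCongr (Inseparable.of_eq heu)).inv.hom a), ?_⟩
    have h3 := congr($(Scheme.residue_residueFieldMap e u)
      ((X.presheaf.stalkCongr (Inseparable.of_eq heu)).inv.hom a))
    refine h3.trans ?_
    change U.residue u (ε a) = U.residue u w
    symm
    rw [← sub_eq_zero, ← map_sub]
    exact (IsLocalRing.residue_eq_zero_iff _).mpr ha
  · intro b c hbc
    have h4 := sub_mem_pow_of_eq ε hε N hN ρu hρ (δ b) c ((hρδ b).trans hbc)
    exact (Ideal.Quotient.eq).mpr h4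

theorem appLE_spec {X : Scheme.{u}} {VX : X.Opens} (hVX : IsAffineOpen VX) {E : CommRingCat.{u}}
    (α : Γ(X, VX) ⟶ E) (i : (⊤ : (Spec E).Opens) ≤ (Spec.map α ≫ hVX.fromSpec) ⁻¹ᵁ VX) :
    (Spec.map α ≫ hVX.fromSpec).appLE VX ⊤ i = α ≫ (Scheme.ΓSpecIso E).inv := by
  apply Spec.map_injective
  rw [← cancel_mono hVX.fromSpec]
  rw [IsAffineOpen.SpecMap_appLE_fromSpec _ hVX (isAffineOpen_top _) i]
  rw [IsAffineOpen.fromSpec_top, Scheme.isoSpec_Spec_inv, Spec.map_comp, Category.assoc]

theorem top_le_preimage {X : Scheme.{u}} {VX : X.Opens} (hVX : IsAffineOpen VX) {Z : Scheme.{u}}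
    (g : Z ⟶ Spec Γ(X, VX)) :
    (⊤ : Z.Opens) ≤ (g ≫ hVX.fromSpec) ⁻¹ᵁ VX := by
  intro z _
  change (g ≫ hVX.fromSpec) z ∈ VX
  rw [Scheme.Hom.comp_apply]
  have h := hVX.range_fromSpec
  have : hVX.fromSpec (g z) ∈ Set.range hVX.fromSpec := ⟨g z, rfl⟩
  rw [h] at this
  exact this

theorem comp_eq_of_appLE {X Y S : Scheme.{u}} (p : X ⟶ S) (q : Y ⟶ S) {W : S.Opens}
    (hW : IsAffineOpen W) {VX : X.Opens} (hVX : IsAffineOpen VX) (iX : VX ≤ p ⁻¹ᵁ W)
    {VY : Y.Opens} (hVY : IsAffineOpen VY) (iY : VY ≤ q ⁻¹ᵁ W) {E : CommRingCat.{u}}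
    (α : Γ(X, VX) ⟶ E) (β : Γ(Y, VY) ⟶ E)
    (h : q.appLE W VY iY ≫ β = p.appLE W VX iX ≫ α) :
    (Spec.map β ≫ hVY.fromSpec) ≫ q = (Spec.map α ≫ hVX.fromSpec) ≫ p := by
  rw [Category.assoc, Category.assoc, ← IsAffineOpen.SpecMap_appLE_fromSpec q hW hVY iY,
    ← IsAffineOpen.SpecMap_appLE_fromSpec p hW hVX iX, ← Spec.map_comp_assoc,
    ← Spec.map_comp_assoc, h]

theorem etale_spec {X : Scheme.{u}} {VX : X.Opens} (hVX : IsAffineOpen VX) {E : CommRingCat.{u}}
    (α : Γ(X, VX) ⟶ E) (hα : α.hom.Etale) : Etale (Spec.map α ≫ hVX.fromSpec) := by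
  have : Etale (Spec.map α) := (HasRingHomProperty.Spec_iff (P := @Etale)).mpr hα
  infer_instance


end Groth.Agent.Lib.Helper10.ArtinSch
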