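import Mathlib
import Groth.Prelude.Def_EssEt

set_option autoImplicit false
set_option linter.style.haveILetI false

namespace Groth.Agent.Lib.Helper18EssEtale
universe u
open TensorProduct

attribute [local instance] Algebra.TensorProduct.rightAlgebra in
theorem spread_aux (S : Type u) [CommRing S] (q : Ideal S) [q.IsPrime] (T : Type u) [CommRing T]
    [Algebra S T] [IsLocalization.AtPrime T q] (C₀ : Type u) [CommRing C₀] [Algebra T C₀]
    [Algebra S C₀] [IsScalarTower S T C₀]
    (g : S) (hgq : g ∈ q.primeCompl)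
    (R₀ : Type u) [CommRing R₀] [Algebra S R₀] [IsLocalization.Away g R₀] [Algebra R₀ T]
    [IsScalarTower S R₀ T] [Algebra R₀ C₀] [IsScalarTower R₀ T C₀]
    (C₁ : Type u) [CommRing C₁] [Algebra R₀ C₁] [Algebra S C₁] [IsScalarTower S R₀ C₁]
    [Algebra.FinitePresentation R₀ C₁] (ψ : T ⊗[R₀] C₁ ≃ₐ[T] C₀) :
    ∃ (C₁ : Type u) (_ : CommRing C₁) (_ : Algebra S C₁) (_ : Algebra C₁ C₀)
      (_ : IsScalarTower S C₁ C₀),
      Algebra.FinitePresentation S C₁ ∧
        IsLocalization (Algebra.algebraMapSubmonoid C₁ q.primeCompl) C₀ := by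
  let φ : C₁ →ₐ[R₀] C₀ := (ψ.toAlgHom.restrictScalars R₀).comp
    (Algebra.TensorProduct.includeRight (R := R₀) (A := T) (B := C₁))
  letI : Algebra C₁ C₀ := φ.toRingHom.toAlgebra
  have htower : IsScalarTower S C₁ C₀ := by
    apply IsScalarTower.of_algebraMap_eq
    intro x
    change algebraMap S C₀ x = φ (algebraMap S C₁ x)
    rw [IsScalarTower.algebraMap_apply S R₀ C₁, φ.commutes,
      IsScalarTower.algebraMap_apply R₀ T C₀, ← IsScalarTower.algebraMap_apply S R₀ T,
      ← IsScalarTower.algebraMap_apply S T C₀]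
  refine ⟨C₁, inferInstance, inferInstance, inferInstance, htower, ?_, ?_⟩
  · haveI : Algebra.FinitePresentation S R₀ := IsLocalization.Away.finitePresentation g
    exact Algebra.FinitePresentation.trans S R₀ C₁
  · have hle : Submonoid.powers g ≤ q.primeCompl := (Submonoid.powers_le).mpr hgq
    haveI hN : IsLocalization (q.primeCompl.map (algebraMap S R₀)) T :=
      IsLocalization.isLocalization_of_submonoid_le R₀ T (Submonoid.powers g) q.primeCompl hle
    have h1 : IsLocalization
        (Algebra.algebraMapSubmonoid C₁ (q.primeCompl.map (algebraMap S R₀))) (T ⊗[R₀] C₁) :=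
      IsLocalization.tensorRight T (q.primeCompl.map (algebraMap S R₀))
    have hsub : Algebra.algebraMapSubmonoid C₁ (q.primeCompl.map (algebraMap S R₀)) =
        Algebra.algebraMapSubmonoid C₁ q.primeCompl :=
      Algebra.algebraMapSubmonoid_map_map q.primeCompl
    rw [hsub] at h1
    let ψ' : T ⊗[R₀] C₁ ≃ₐ[C₁] C₀ := AlgEquiv.ofRingEquiv (f := ψ.toRingEquiv) (fun x => rfl)
    exact IsLocalization.isLocalization_of_algEquiv _ ψ'

theorem spread (S : Type u) [CommRing S] (q : Ideal S) [q.IsPrime] (T : Type u) [CommRing T]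
    [Algebra S T] [IsLocalization.AtPrime T q] (C₀ : Type u) [CommRing C₀] [Algebra T C₀]
    [Algebra S C₀] [IsScalarTower S T C₀] [Algebra.FinitePresentation T C₀] :
    ∃ (C₁ : Type u) (_ : CommRing C₁) (_ : Algebra S C₁) (_ : Algebra C₁ C₀)
      (_ : IsScalarTower S C₁ C₀),
      Algebra.FinitePresentation S C₁ ∧
        IsLocalization (Algebra.algebraMapSubmonoid C₁ q.primeCompl) C₀ := by
  classical
  obtain ⟨n, m, ⟨P⟩⟩ := Algebra.Presentation.exists_presentation_fin T C₀
  obtain ⟨g, hg⟩ := IsLocalization.exist_integer_multiples_of_finset q.primeCompl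
    P.finite_coeffs.toFinset
  have hgu : IsUnit (algebraMap S T (g : S)) := IsLocalization.map_units T g
  letI : Algebra (Localization.Away (g : S)) T :=
    (IsLocalization.Away.lift (g : S) hgu).toAlgebra
  haveI : IsScalarTower S (Localization.Away (g : S)) T :=
    IsScalarTower.of_algebraMap_eq' (IsLocalization.Away.lift_comp (g : S) hgu).symm
  letI : Algebra (Localization.Away (g : S)) C₀ :=
    ((algebraMap T C₀).comp (algebraMap (Localization.Away (g : S)) T)).toAlgebra
  haveI : IsScalarTower (Localization.Away (g : S)) T C₀ := IsScalarTower.of_algebraMap_eq' rfl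
  haveI : P.HasCoeffs (Localization.Away (g : S)) := by
    refine ⟨fun c hc => ?_⟩
    obtain ⟨b, hb⟩ := hg c (by simpa using hc)
    refine ⟨IsLocalization.mk' _ b ⟨(g : S), Submonoid.mem_powers _⟩, ?_⟩
    change IsLocalization.Away.lift (g : S) hgu (IsLocalization.mk' _ b ⟨(g : S), _⟩) = c
    unfold IsLocalization.Away.lift
    rw [IsLocalization.lift_mk'_spec]
    rw [hb, Algebra.smul_def]
  exact spread_aux S q T C₀ (g : S) g.2 (Localization.Away (g : S))
    (P.ModelOfHasCoeffs (Localization.Away (g : S)))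
    (P.tensorModelOfHasCoeffsEquiv (Localization.Away (g : S)))

theorem assembly (A : Type u) [CommRing A] [IsLocalRing A] (D₁ C : Type u) [CommRing D₁] [CommRing C]
    [Algebra A D₁] [Algebra A C] [Algebra D₁ C] [IsScalarTower A D₁ C]
    [Algebra.FinitePresentation A D₁] (t : Ideal D₁) [t.IsPrime] [IsLocalization.AtPrime C t]
    [Algebra.FormallyEtale A C] (ht : t.comap (algebraMap A D₁) = IsLocalRing.maximalIdeal A) :
    EGA4loc.IsEssentiallyEtale A C := by
  have e₁ : C ≃ₐ[D₁] Localization.AtPrime t :=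
    IsLocalization.algEquiv t.primeCompl C (Localization.AtPrime t)
  haveI : Algebra.IsEtaleAt A t := Algebra.FormallyEtale.of_equiv (e₁.restrictScalars A)
  obtain ⟨f, hf, hfet⟩ := Algebra.exists_etale_of_isEtaleAt (R := A) t
  have hdisj : Disjoint (Submonoid.powers f : Set D₁) t := by
    rw [Set.disjoint_left]
    rintro x ⟨n, rfl⟩ hx
    exact hf (Ideal.IsPrime.mem_of_pow_mem ‹_› n hx)
  have hp' : (t.map (algebraMap D₁ (Localization.Away f))).IsPrime :=
    IsLocalization.isPrime_of_isPrime_disjoint (Submonoid.powers f) _ t ‹_› hdisj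
  have hcomap : (t.map (algebraMap D₁ (Localization.Away f))).comap
      (algebraMap D₁ (Localization.Away f)) = t :=
    IsLocalization.under_map_of_isPrime_disjoint (Submonoid.powers f) _ ‹_› hdisj
  haveI : IsLocalization.AtPrime
      (Localization.AtPrime (t.map (algebraMap D₁ (Localization.Away f)))) t := by
    have := IsLocalization.isLocalization_isLocalization_atPrime_isLocalization
      (Submonoid.powers f)
      (Localization.AtPrime (t.map (algebraMap D₁ (Localization.Away f))))
      (t.map (algebraMap D₁ (Localization.Away f)))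
    convert this
    exact hcomap.symm
  refine ⟨Localization.Away f, inferInstance, inferInstance,
    t.map (algebraMap D₁ (Localization.Away f)), hp', hfet, ?_, ⟨?_⟩⟩
  · rw [IsScalarTower.algebraMap_eq A D₁ (Localization.Away f), ← Ideal.comap_comap, hcomap, ht]
  · exact (IsLocalization.algEquiv t.primeCompl C
      (Localization.AtPrime (t.map (algebraMap D₁ (Localization.Away f))))).restrictScalars A


theorem main (A : Type u) [CommRing A] [IsLocalRing A]
    (B : Type u) [CommRing B] [IsLocalRing B] [Algebra A B]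
    (C : Type u) [CommRing C] [Algebra B C] [Algebra A C] [IsScalarTower A B C]
    (hB : EGA4loc.IsEssentiallyEtale A B) (hC : EGA4loc.IsEssentiallyEtale B C) :
    EGA4loc.IsEssentiallyEtale A C := by
  obtain ⟨B₀, _, _, q, _, hB₀et, hq, ⟨eB⟩⟩ := hB
  obtain ⟨C₀, _, _, r, _, hC₀et, hr, ⟨eC⟩⟩ := hC
  -- `B` as a `B₀`-algebra
  letI : Algebra B₀ B :=
    (eB.symm.toAlgHom.toRingHom.comp (algebraMap B₀ (Localization.AtPrime q))).toAlgebra
  haveI : IsScalarTower A B₀ B := by
    apply IsScalarTower.of_algebraMap_eq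
    intro a
    change _ = eB.symm (algebraMap B₀ _ (algebraMap A B₀ a))
    rw [← IsScalarTower.algebraMap_apply A B₀ (Localization.AtPrime q), eB.symm.commutes]
  haveI : IsLocalization.AtPrime B q :=
    IsLocalization.isLocalization_of_algEquiv q.primeCompl
      (AlgEquiv.ofRingEquiv (f := eB.symm.toRingEquiv) (fun x => rfl) :
        Localization.AtPrime q ≃ₐ[B₀] B)
  -- `C` as a `C₀`-algebra
  letI : Algebra C₀ C :=
    (eC.symm.toAlgHom.toRingHom.comp (algebraMap C₀ (Localization.AtPrime r))).toAlgebra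
  haveI : IsScalarTower B C₀ C := by
    apply IsScalarTower.of_algebraMap_eq
    intro a
    change _ = eC.symm (algebraMap C₀ _ (algebraMap B C₀ a))
    rw [← IsScalarTower.algebraMap_apply B C₀ (Localization.AtPrime r), eC.symm.commutes]
  haveI : IsLocalization.AtPrime C r :=
    IsLocalization.isLocalization_of_algEquiv r.primeCompl
      (AlgEquiv.ofRingEquiv (f := eC.symm.toRingEquiv) (fun x => rfl) :
        Localization.AtPrime r ≃ₐ[C₀] C)
  -- `C₀` as `B₀`- and `A`-algebra
  letI : Algebra B₀ C₀ := ((algebraMap B C₀).comp (algebraMap B₀ B)).toAlgebra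
  haveI : IsScalarTower B₀ B C₀ := IsScalarTower.of_algebraMap_eq' rfl
  letI : Algebra A C₀ := ((algebraMap B C₀).comp (algebraMap A B)).toAlgebra
  haveI : IsScalarTower A B C₀ := IsScalarTower.of_algebraMap_eq' rfl
  haveI : Algebra.FinitePresentation B C₀ := hC₀et.finitePresentation
  obtain ⟨C₁, _, _, _, htw, hfp, hloc⟩ := spread B₀ q B C₀
  letI : Algebra A C₁ := ((algebraMap B₀ C₁).comp (algebraMap A B₀)).toAlgebra
  haveI : IsScalarTower A B₀ C₁ := IsScalarTower.of_algebraMap_eq' rfl
  haveI : Algebra.FinitePresentation A B₀ := hB₀et.finitePresentation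
  haveI : Algebra.FinitePresentation A C₁ := Algebra.FinitePresentation.trans A B₀ C₁
  letI : Algebra C₁ C := ((algebraMap C₀ C).comp (algebraMap C₁ C₀)).toAlgebra
  haveI : IsScalarTower C₁ C₀ C := IsScalarTower.of_algebraMap_eq' rfl
  haveI : IsLocalization.AtPrime C (r.comap (algebraMap C₁ C₀)) :=
    IsLocalization.isLocalization_isLocalization_atPrime_isLocalization
      (Algebra.algebraMapSubmonoid C₁ q.primeCompl) C r
  -- towers over `A`
  have hAC₀ : ∀ a : A, algebraMap C₁ C₀ (algebraMap A C₁ a) = algebraMap A C₀ a := by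
    intro a
    rw [IsScalarTower.algebraMap_apply A B₀ C₁, ← IsScalarTower.algebraMap_apply B₀ C₁ C₀,
      IsScalarTower.algebraMap_apply B₀ B C₀, ← IsScalarTower.algebraMap_apply A B₀ B,
      ← IsScalarTower.algebraMap_apply A B C₀]
  haveI : IsScalarTower A C₁ C := by
    apply IsScalarTower.of_algebraMap_eq
    intro a
    rw [IsScalarTower.algebraMap_apply C₁ C₀ C, hAC₀, IsScalarTower.algebraMap_apply A B C₀,
      ← IsScalarTower.algebraMap_apply B C₀ C, ← IsScalarTower.algebraMap_apply A B C]
  -- formally etale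
  haveI : Algebra.FormallyEtale A B₀ := hB₀et.formallyEtale
  haveI : Algebra.FormallyEtale B₀ B := Algebra.FormallyEtale.of_isLocalization q.primeCompl
  haveI : Algebra.FormallyEtale A B := Algebra.FormallyEtale.comp A B₀ B
  haveI : Algebra.FormallyEtale B C₀ := hC₀et.formallyEtale
  haveI : Algebra.FormallyEtale C₀ C := Algebra.FormallyEtale.of_isLocalization r.primeCompl
  haveI : Algebra.FormallyEtale B C := Algebra.FormallyEtale.comp B C₀ C
  haveI : Algebra.FormallyEtale A C := Algebra.FormallyEtale.comp A B C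
  refine assembly A C₁ C (r.comap (algebraMap C₁ C₀)) ?_
  ext a
  simp only [Ideal.mem_comap]
  have h3 : (IsLocalRing.maximalIdeal B).comap (algebraMap B₀ B) = q :=
    IsLocalization.AtPrime.under_maximalIdeal B q
  rw [hAC₀, IsScalarTower.algebraMap_apply A B C₀, ← Ideal.mem_comap, hr,
    IsScalarTower.algebraMap_apply A B₀ B, ← Ideal.mem_comap, h3, ← Ideal.mem_comap, hq]

end Groth.Agent.Lib.Helper18EssEtale
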