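import Groth.Agent.Lib.Helper19PowerSeries
import Mathlib.RingTheory.AdicCompletion.LocalRing
import Mathlib.RingTheory.AdicCompletion.Completeness
import Mathlib.RingTheory.MvPowerSeries.Equiv

set_option autoImplicit false
universe u v w

namespace Groth.Agent.Lib.Helper19

open MvPowerSeries

section ComplNoeth

variable {R : Type u} [CommRing R]

/-- The evaluation map from a power series ring onto the adic completion at a finitely generated ideal. -/
theorem exists_surjective_mvPowerSeries_adicCompletion (I : Ideal R) (n : ℕ) (a : Fin n → R)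
    (ha : Ideal.span (Set.range a) = I) :
    ∃ ev : MvPowerSeries (Fin n) R →ₐ[R] AdicCompletion I R, Function.Surjective ev := by
  have hfg : I.FG := ha ▸ Submodule.fg_span (Set.finite_range a)
  -- the truncated evaluations
  have hnil : ∀ m : ℕ, (I.map (Ideal.Quotient.mk (I ^ m))) ^ m = ⊥ := by
    intro m
    rw [← Ideal.map_pow, Ideal.map_quotient_self]
  have hmem : ∀ (m : ℕ) (s : Fin n), Ideal.Quotient.mk (I ^ m) (a s) ∈ I.map (Ideal.Quotient.mk (I ^ m)) := by
    intro m s
    apply Ideal.mem_map_of_mem
    rw [← ha]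
    exact Ideal.subset_span ⟨s, rfl⟩
  choose evm hevm using fun m : ℕ =>
    exists_algHom_X_eq (Λ := R) (I.map (Ideal.Quotient.mk (I ^ m))) m (hnil m)
      (fun s => Ideal.Quotient.mk (I ^ m) (a s)) (hmem m)
  have hcompat : ∀ {m m' : ℕ} (hle : m ≤ m'),
      (Ideal.Quotient.factorₐ R (Ideal.pow_le_pow_right hle)).comp (evm m') = evm m := by
    intro m m' hle
    apply algHom_ext_of_X (I.map (Ideal.Quotient.mk (I ^ m))) m (hnil m)
    · intro s
      rw [AlgHom.comp_apply, hevm]
      exact hmem m s
    · intro s
      rw [AlgHom.comp_apply, hevm, hevm]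
      rfl
  let ev : MvPowerSeries (Fin n) R →ₐ[R] AdicCompletion I R := AdicCompletion.liftAlgHom I evm hcompat
  have hevX : ∀ s, ev (X s) = algebraMap R (AdicCompletion I R) (a s) := by
    intro s
    apply AdicCompletion.ext_evalₐ
    intro m
    rw [AdicCompletion.evalₐ_liftAlgHom, hevm, AlgHom.commutes]
    rfl
  refine ⟨ev, ?_⟩
  have hmapeq : Ideal.map (ev : MvPowerSeries (Fin n) R →+* AdicCompletion I R)
      (Ideal.span (Set.range X)) = I.map (algebraMap R (AdicCompletion I R)) := by
    have h1 : ∀ {T : Type u} [CommRing T] (f : R →+* T),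
        Ideal.map f I = Ideal.span (Set.range (fun s => f (a s))) := by
      intro T _ f
      rw [← ha, Ideal.map_span, ← Set.range_comp]
      rfl
    rw [h1, Ideal.map_span, ← Set.range_comp]
    congr 2
    funext s
    exact hevX s
  haveI : IsHausdorff (Ideal.map (ev : MvPowerSeries (Fin n) R →+* AdicCompletion I R)
      (Ideal.span (Set.range X))) (AdicCompletion I R) := by
    rw [hmapeq]
    exact (AdicCompletion.isAdicComplete_self I hfg).toIsHausdorff
  haveI : IsPrecomplete (Ideal.span (Set.range X) : Ideal (MvPowerSeries (Fin n) R))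
      (MvPowerSeries (Fin n) R) := IsAdicComplete.toIsPrecomplete
  apply surjective_of_mk_map_comp_surjective
    (ev : MvPowerSeries (Fin n) R →+* AdicCompletion I R) (I := Ideal.span (Set.range X))
  intro y
  obtain ⟨y, rfl⟩ := Ideal.Quotient.mk_surjective y
  obtain ⟨r, hr⟩ := Ideal.Quotient.mk_surjective (AdicCompletion.evalOneₐ I y)
  refine ⟨C r, ?_⟩
  rw [RingHom.comp_apply, Ideal.Quotient.eq, hmapeq, ← AdicCompletion.ker_evalOneₐ_eq_map I hfg,
    RingHom.mem_ker]
  have h1 : (ev : MvPowerSeries (Fin n) R →+* AdicCompletion I R) (C r) =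
      algebraMap R (AdicCompletion I R) r := by
    have h2 : (C r : MvPowerSeries (Fin n) R) = algebraMap R (MvPowerSeries (Fin n) R) r := by
      rw [MvPowerSeries.algebraMap_apply, Algebra.algebraMap_self, RingHom.id_apply]
    rw [h2]
    exact ev.commutes r
  rw [h1, map_sub]
  change AdicCompletion.evalOneₐ I (algebraMap R (AdicCompletion I R) r) - AdicCompletion.evalOneₐ I y = 0
  rw [AlgHom.commutes, ← hr]
  exact sub_self _

/-- The adic completion of a Noetherian ring is Noetherian. -/
theorem isNoetherianRing_adicCompletion [IsNoetherianRing R] (I : Ideal R) :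
    IsNoetherianRing (AdicCompletion I R) := by
  obtain ⟨n, a, ha⟩ := Submodule.fg_iff_exists_fin_generating_family.1 (IsNoetherian.noetherian I)
  obtain ⟨ev, hev⟩ := exists_surjective_mvPowerSeries_adicCompletion I n a ha
  exact isNoetherianRing_of_surjective _ _ (ev : MvPowerSeries (Fin n) R →+* AdicCompletion I R) hev

end ComplNoeth

end Groth.Agent.Lib.Helper19
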