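import Mathlib

/-!
# Symmetric algebras of projective modules and the standard-smooth trick

For `A` smooth over `R`, a localization of `Sym_A(K)` (with `Ω[A⁄R] ⊕ K` free) is standard
smooth over `R`, smooth over `A` and retracts onto `A`.
-/

set_option autoImplicit false
universe u
open TensorProduct

namespace Groth.Agent.Lib.Helper26.SymSmooth

section Sym

variable {A : Type u} [CommRing A] {K : Type u} [AddCommGroup K] [Module A K]
  {B : Type u} [CommRing B] [Algebra A B] {ι : K →ₗ[A] B}

/-- The symmetric algebra of a projective module is formally smooth. -/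
theorem formallySmooth (h : IsSymmetricAlgebra ι) [Module.Projective A K] :
    Algebra.FormallySmooth A B := by
  rw [Algebra.FormallySmooth.iff_comp_surjective]
  intro C _ _ I _ g
  let gK : K →ₗ[A] C ⧸ I := g.toLinearMap ∘ₗ ι
  obtain ⟨l, hl⟩ := Module.projective_lifting_property (Ideal.Quotient.mkₐ A I).toLinearMap gK
    Ideal.Quotient.mk_surjective
  refine ⟨h.lift l, ?_⟩
  apply h.algHom_ext
  ext k
  have := congr($hl k)
  simpa [gK] using this

/-- Kernel of a retraction from a polynomial ring is finitely generated. -/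
theorem ker_fg_of_retract {n : ℕ} (r : MvPolynomial (Fin n) A →ₐ[A] B)
    (j : B →ₐ[A] MvPolynomial (Fin n) A) (hrj : r.comp j = AlgHom.id A B) :
    (RingHom.ker r.toRingHom).FG := by
  classical
  let gen : Fin n → MvPolynomial (Fin n) A := fun m => MvPolynomial.X m - j (r (MvPolynomial.X m))
  have hrj' : ∀ b, r (j b) = b := fun b => congr($hrj b)
  have hker : RingHom.ker r.toRingHom = Ideal.span (Set.range gen) := by
    apply le_antisymm
    · intro p hp
      have key : ∀ p : MvPolynomial (Fin n) A, p - j (r p) ∈ Ideal.span (Set.range gen) := by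
        intro p
        induction p using MvPolynomial.induction_on with
        | C a =>
          have : j (r (MvPolynomial.C a)) = MvPolynomial.C a := by
            rw [← MvPolynomial.algebraMap_eq, AlgHom.commutes, AlgHom.commutes]
          rw [this, sub_self]
          exact Ideal.zero_mem _
        | add p q hp hq =>
          have : p + q - j (r (p + q)) = (p - j (r p)) + (q - j (r q)) := by
            rw [map_add, map_add]; ring
          rw [this]
          exact Ideal.add_mem _ hp hq
        | mul_X p m hp =>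
          have : p * MvPolynomial.X m - j (r (p * MvPolynomial.X m)) =
              (p - j (r p)) * MvPolynomial.X m + j (r p) * gen m := by
            simp only [gen, map_mul]; ring
          rw [this]
          exact Ideal.add_mem _ (Ideal.mul_mem_right _ _ hp)
            (Ideal.mul_mem_left _ _ (Ideal.subset_span ⟨m, rfl⟩))
      have hp0 : r p = 0 := hp
      have := key p
      rwa [hp0, map_zero, sub_zero] at this
    · rw [Ideal.span_le]
      rintro _ ⟨m, rfl⟩
      change r (gen m) = 0
      simp only [gen, map_sub, hrj', sub_self]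
  rw [hker]
  exact ⟨Finset.univ.image gen, by simp⟩

/-- The symmetric algebra of a direct summand of a finite free module is finitely presented. -/
theorem finitePresentation (h : IsSymmetricAlgebra ι) {n : ℕ}
    (i : K →ₗ[A] (Fin n → A)) (p : (Fin n → A) →ₗ[A] K) (hpi : p ∘ₗ i = LinearMap.id) :
    Algebra.FinitePresentation A B := by
  let ιP : (Fin n → A) →ₗ[A] MvPolynomial (Fin n) A :=
    (Pi.basisFun A (Fin n)).constr A MvPolynomial.X
  have hP : IsSymmetricAlgebra ιP := SymmetricAlgebra.IsSymmetricAlgebra.mvPolynomial (Fin n) (Pi.basisFun A (Fin n))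
  let j : B →ₐ[A] MvPolynomial (Fin n) A := h.lift (ιP ∘ₗ i)
  let r : MvPolynomial (Fin n) A →ₐ[A] B := hP.lift (ι ∘ₗ p)
  have hrj : r.comp j = AlgHom.id A B := by
    apply h.algHom_ext
    ext k
    have : p (i k) = k := congr($hpi k)
    simp [j, r, this]
  have hsurj : Function.Surjective r := fun b => ⟨j b, congr($hrj b)⟩
  exact Algebra.FinitePresentation.of_surjective hsurj (ker_fg_of_retract r j hrj)

end Sym

section Aug

variable {A : Type u} [CommRing A] {K : Type u} [AddCommGroup K] [Module A K]
  {B : Type u} [CommRing B] [Algebra A B] {ι : K →ₗ[A] B} (h : IsSymmetricAlgebra ι)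

/-- The augmentation `Sym K → A`. -/
noncomputable def aug : B →ₐ[A] A := h.lift 0

@[simp] theorem aug_ι (k : K) : aug h (ι k) = 0 := by simp [aug]

variable {V : Type u} [AddCommGroup V] [Module A V] [Module Aᵐᵒᵖ V] [IsCentralScalar A V]
  (g : K →ₗ[A] V)

/-- The algebra map `Sym K → A ⊕ V` induced by `g : K → V`. -/
noncomputable def theta : B →ₐ[A] TrivSqZeroExt A V :=
  h.lift ((TrivSqZeroExt.inrHom A V) ∘ₗ g)

@[simp] theorem theta_ι (k : K) : theta h g (ι k) = TrivSqZeroExt.inr (g k) := by
  simp [theta]

theorem fst_theta (x : B) : (theta h g x).fst = aug h x := by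
  have : (TrivSqZeroExt.fstHom A A V).comp (theta h g) = aug h := by
    apply h.algHom_ext
    ext k
    simp
  exact congr($this x)

/-- The "degree one part" of an element of the symmetric algebra, pushed along `g`. -/
noncomputable def deg1 : B →ₗ[A] V :=
  (TrivSqZeroExt.sndHom A V) ∘ₗ (theta h g).toLinearMap

@[simp] theorem deg1_ι (k : K) : deg1 h g (ι k) = g k := by
  simp [deg1]

@[simp] theorem deg1_algebraMap (a : A) : deg1 h g (algebraMap A B a) = 0 := by
  simp [deg1, TrivSqZeroExt.algebraMap_eq_inl]

theorem deg1_mul (x y : B) :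
    deg1 h g (x * y) = aug h x • deg1 h g y + aug h y • deg1 h g x := by
  simp only [deg1, LinearMap.comp_apply, AlgHom.toLinearMap_apply, map_mul,
    TrivSqZeroExt.sndHom_apply, TrivSqZeroExt.snd_mul, fst_theta, op_smul_eq_smul]

end Aug

section Data

open KaehlerDifferential (D)

/-- Linear algebra data attached to a smooth algebra: finitely many elements whose differentials
span `Ω[A⁄R]`, together with a section of the induced surjection `A^n → Ω[A⁄R]`. -/
structure Data (R A : Type u) [CommRing R] [CommRing A] [Algebra R A] where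
  n : ℕ
  a : Fin n → A
  s : Ω[A⁄R] →ₗ[A] (Fin n → A)
  hs : ∀ ω, ∑ i, s ω i • D R A (a i) = ω

variable {R A : Type u} [CommRing R] [CommRing A] [Algebra R A]

theorem exists_data [Algebra.Smooth R A] : Nonempty (Data R A) := by
  classical
  have hfg : (Submodule.span A (Set.range (D R A))).FG := by
    rw [KaehlerDifferential.span_range_derivation]
    exact Module.Finite.fg_top
  obtain ⟨t, ht, hspan⟩ := (Submodule.fg_span_iff_fg_span_finset_subset _).mp hfg
  rw [KaehlerDifferential.span_range_derivation] at hspan
  have hch : ∀ x : t, ∃ a : A, D R A a = x.1 := fun x => ht x.2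
  choose a' ha' using hch
  let e := t.equivFin
  let a : Fin t.card → A := fun i => a' (e.symm i)
  let π : (Fin t.card → A) →ₗ[A] Ω[A⁄R] := Fintype.linearCombination A (fun i => D R A (a i))
  have hπ : Function.Surjective π := by
    rw [← LinearMap.range_eq_top, Fintype.range_linearCombination, eq_top_iff, hspan]
    apply Submodule.span_mono
    intro x hx
    refine ⟨e ⟨x, hx⟩, ?_⟩
    simp only [a, Equiv.symm_apply_apply]
    exact ha' ⟨x, hx⟩
  obtain ⟨s, hs⟩ := Module.projective_lifting_property π LinearMap.id hπ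
  refine ⟨⟨t.card, a, s, fun ω => ?_⟩⟩
  have := congr($hs ω)
  simpa [π, Fintype.linearCombination_apply] using this

namespace Data

variable (d : Data R A)

/-- The surjection `A^n → Ω[A⁄R]`. -/
noncomputable def π : (Fin d.n → A) →ₗ[A] Ω[A⁄R] :=
  Fintype.linearCombination A (fun i => D R A (d.a i))

theorem π_apply (v : Fin d.n → A) : d.π v = ∑ i, v i • D R A (d.a i) := by
  simp [π, Fintype.linearCombination_apply]

theorem π_s (ω : Ω[A⁄R]) : d.π (d.s ω) = ω := by
  rw [π_apply]; exact d.hs ω

/-- The complement `K = ker π` of `Ω[A⁄R]` in `A^n`. -/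
noncomputable abbrev K : Submodule A (Fin d.n → A) := LinearMap.ker d.π

/-- The projection `A^n → K`. -/
noncomputable def proj : (Fin d.n → A) →ₗ[A] d.K :=
  LinearMap.codRestrict d.K (LinearMap.id - d.s ∘ₗ d.π) (fun v => by
    simp [LinearMap.mem_ker, π_s])

theorem proj_coe (v : Fin d.n → A) : (d.proj v : Fin d.n → A) = v - d.s (d.π v) := rfl

theorem proj_incl (k : d.K) : d.proj (k : Fin d.n → A) = k := by
  apply Subtype.ext
  rw [proj_coe, LinearMap.mem_ker.mp k.2, map_zero, sub_zero]

theorem proj_s (ω : Ω[A⁄R]) : d.proj (d.s ω) = 0 := by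
  apply Subtype.ext
  rw [proj_coe, π_s, sub_self]
  rfl

/-- The generators `κ_i` of `K`. -/
noncomputable def κ (i : Fin d.n) : d.K := d.proj (Pi.single i 1)

theorem proj_eq_sum (v : Fin d.n → A) : d.proj v = ∑ i, v i • d.κ i := by
  conv_lhs => rw [pi_eq_sum_univ' v]
  simp only [map_sum, map_smul, κ]

theorem eq_sum_κ (k : d.K) : k = ∑ i, (k : Fin d.n → A) i • d.κ i := by
  rw [← proj_eq_sum, proj_incl]

theorem sum_s_κ (ω : Ω[A⁄R]) : ∑ i, d.s ω i • d.κ i = 0 := by
  rw [← proj_eq_sum, proj_s]

theorem κ_coe (i : Fin d.n) :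
    (d.κ i : Fin d.n → A) = Pi.single i 1 - d.s (D R A (d.a i)) := by
  rw [κ, proj_coe, π_apply]
  congr 2
  rw [Finset.sum_eq_single i]
  · simp
  · intro j _ hj; simp [hj]
  · simp

instance : Module.Finite A d.K :=
  Module.Finite.of_surjective d.proj (fun k => ⟨k, d.proj_incl k⟩)

instance : Module.Projective A d.K :=
  Module.Projective.of_split d.K.subtype d.proj (LinearMap.ext d.proj_incl)

end Data

end Data

section Main

open KaehlerDifferential (D)
open scoped Pointwise

variable {R A : Type u} [CommRing R] [CommRing A] [Algebra R A] (d : Data R A)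
  {B : Type u} [CommRing B] [Algebra A B] [Algebra R B] [IsScalarTower R A B]
  (ι : d.K →ₗ[A] B)

/-- The coordinate functions `x_i = a_i + κ_i` on the normal bundle. -/
noncomputable def x (i : Fin d.n) : B := algebraMap A B (d.a i) + ι (d.κ i)

/-- The candidate basis map `B^n → Ω[B⁄R]`, `e_i ↦ d x_i`. -/
noncomputable def φ : (Fin d.n → B) →ₗ[B] Ω[B⁄R] :=
  Fintype.linearCombination B (fun i => D R B (x d ι i))

theorem φ_apply (v : Fin d.n → B) : φ d ι v = ∑ i, v i • D R B (x d ι i) := by
  simp [φ, Fintype.linearCombination_apply]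

variable {ι} (h : IsSymmetricAlgebra ι)

theorem ι_mem_ker_aug (k : d.K) : ι k ∈ RingHom.ker (aug h) := by
  rw [RingHom.mem_ker]; exact aug_ι h k

theorem smul_D_mem (k : d.K) (y : B) :
    ι k • D R B y ∈ (RingHom.ker (aug h)) • (⊤ : Submodule B Ω[B⁄R]) :=
  Submodule.smul_mem_smul (ι_mem_ker_aug d h k) Submodule.mem_top

theorem D_algebraMap_mem (c : A) :
    D R B (algebraMap A B c) ∈
      LinearMap.range (φ d ι) ⊔ (RingHom.ker (aug h)) • (⊤ : Submodule B Ω[B⁄R]) := by
  set ω := D R A c with hω
  -- `d(c) = Σ (sω)_i d(a_i)` in `Ω[B⁄R]`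
  have h1 : D R B (algebraMap A B c) =
      ∑ i, algebraMap A B (d.s ω i) • D R B (algebraMap A B (d.a i)) := by
    have := congrArg (KaehlerDifferential.map R R A B) (d.hs ω)
    rw [map_sum] at this
    simp only [map_smul, KaehlerDifferential.map_D] at this
    rw [hω, KaehlerDifferential.map_D] at this
    rw [← this]
    refine Finset.sum_congr rfl fun i _ => ?_
    rw [algebraMap_smul]
  -- relation from `Σ (sω)_i κ_i = 0`
  have h2 : ∑ i, (algebraMap A B (d.s ω i) • D R B (ι (d.κ i)) +
      ι (d.κ i) • D R B (algebraMap A B (d.s ω i))) = 0 := by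
    have := congrArg (fun k => D R B (ι k)) (d.sum_s_κ ω)
    simp only [map_sum, map_smul, map_zero] at this
    rw [← this]
    refine Finset.sum_congr rfl fun i _ => ?_
    rw [Algebra.smul_def, Derivation.leibniz]
  have h3 : D R B (algebraMap A B c) =
      φ d ι (fun i => algebraMap A B (d.s ω i)) +
        ∑ i, ι (d.κ i) • D R B (algebraMap A B (d.s ω i)) := by
    rw [φ_apply, h1]
    have h4 : ∀ i, D R B (algebraMap A B (d.a i)) = D R B (x d ι i) - D R B (ι (d.κ i)) := by
      intro i
      rw [x, map_add, add_sub_cancel_right]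
    simp only [h4, smul_sub, Finset.sum_sub_distrib]
    rw [Finset.sum_add_distrib] at h2
    rw [sub_eq_add_neg, add_left_cancel_iff, neg_eq_iff_add_eq_zero]
    exact h2
  rw [h3]
  exact Submodule.add_mem_sup (LinearMap.mem_range_self _ _)
    (Submodule.sum_mem _ fun i _ => smul_D_mem d h _ _)

theorem D_ι_mem (k : d.K) :
    D R B (ι k) ∈
      LinearMap.range (φ d ι) ⊔ (RingHom.ker (aug h)) • (⊤ : Submodule B Ω[B⁄R]) := by
  have hk : ι k = ∑ i, algebraMap A B ((k : Fin d.n → A) i) * ι (d.κ i) := by
    conv_lhs => rw [d.eq_sum_κ k]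
    simp only [map_sum, map_smul, Algebra.smul_def]
  rw [hk, map_sum]
  refine Submodule.sum_mem _ fun i _ => ?_
  rw [Derivation.leibniz]
  refine add_mem (Submodule.smul_mem _ _ ?_) (Submodule.mem_sup_right (smul_D_mem d h _ _))
  have h4 : D R B (ι (d.κ i)) = D R B (x d ι i) - D R B (algebraMap A B (d.a i)) := by
    rw [x, map_add, add_sub_cancel_left]
  rw [h4]
  refine sub_mem (Submodule.mem_sup_left ⟨Pi.single i 1, ?_⟩) (D_algebraMap_mem d h _)
  rw [φ_apply, Finset.sum_eq_single i]
  · simp
  · intro j _ hj; simp [hj]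
  · simp

theorem top_le_sup :
    (⊤ : Submodule B Ω[B⁄R]) ≤
      LinearMap.range (φ d ι) ⊔ (RingHom.ker (aug h)) • (⊤ : Submodule B Ω[B⁄R]) := by
  intro m _
  have hm : m ∈ Submodule.span B (Set.range (D R B)) := by
    rw [KaehlerDifferential.span_range_derivation]; trivial
  refine Submodule.span_le.mpr ?_ hm
  rintro _ ⟨y, rfl⟩
  induction y using h.induction with
  | algebraMap c => exact D_algebraMap_mem d h c
  | ι k => exact D_ι_mem d h k
  | mul y z hy hz =>
    rw [Derivation.leibniz]
    exact add_mem (Submodule.smul_mem _ _ hz) (Submodule.smul_mem _ _ hy)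
  | add y z hy hz =>
    rw [map_add]
    exact add_mem hy hz

/-- Nakayama: some `r ≡ 1` modulo the augmentation ideal multiplies `Ω[B⁄R]` into the span of
the `d x_i`. -/
theorem exists_smul_le_range [Module.Finite B Ω[B⁄R]] :
    ∃ r : B, aug h r = 1 ∧ r • (⊤ : Submodule B Ω[B⁄R]) ≤ LinearMap.range (φ d ι) := by
  obtain ⟨r, hr1, hr2⟩ := Submodule.exists_sub_one_mem_and_smul_le_of_fg_of_le_sup
    (N := LinearMap.range (φ d ι)) (I := RingHom.ker (aug h))
    (N' := (⊤ : Submodule B Ω[B⁄R])) (P := ⊤) Module.Finite.fg_top le_rfl (top_le_sup d h)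
  refine ⟨r, ?_, hr2⟩
  rw [RingHom.mem_ker, map_sub, map_one, sub_eq_zero] at hr1
  exact hr1

end Main

section Psi

open KaehlerDifferential (D)

variable {R A : Type u} [CommRing R] [CommRing A] [Algebra R A] (d : Data R A)
  {B : Type u} [CommRing B] [Algebra A B] [Algebra R B] [IsScalarTower R A B]
  {ι : d.K →ₗ[A] B} (h : IsSymmetricAlgebra ι)

/-- `A^n` regarded as a `B`-module through the augmentation. -/
def AugMod (_h : IsSymmetricAlgebra ι) : Type u := Fin d.n → A

instance : AddCommGroup (AugMod d h) := inferInstanceAs (AddCommGroup (Fin d.n → A))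
instance : Module A (AugMod d h) := inferInstanceAs (Module A (Fin d.n → A))
instance : Module R (AugMod d h) := inferInstanceAs (Module R (Fin d.n → A))
instance : IsScalarTower R A (AugMod d h) := inferInstanceAs (IsScalarTower R A (Fin d.n → A))
noncomputable instance : Module B (AugMod d h) :=
  Module.compHom (Fin d.n → A) (aug h : B →+* A)

theorem augMod_smul_def (y : B) (v : AugMod d h) :
    y • v = (aug h y • (v : Fin d.n → A) : Fin d.n → A) := rfl

theorem aug_algebraMap_R (r : R) : aug h (algebraMap R B r) = algebraMap R A r := by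
  rw [IsScalarTower.algebraMap_apply R A B, AlgHom.commutes]
  rfl

instance : IsScalarTower R B (AugMod d h) := ⟨fun r y v => by
  rw [augMod_smul_def, augMod_smul_def, Algebra.smul_def, map_mul, aug_algebraMap_R, mul_smul]
  change algebraMap R A r • (aug h y • (v : Fin d.n → A)) = r • (aug h y • (v : Fin d.n → A))
  rw [algebraMap_smul]⟩

/-- The underlying `R`-linear map of the derivation `Dbar`. -/
noncomputable def DbarLin : B →ₗ[R] AugMod d h :=
  ((d.s.restrictScalars R) ∘ₗ (D R A).toLinearMap ∘ₗ ((aug h).toLinearMap.restrictScalars R)) +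
    (deg1 h d.K.subtype).restrictScalars R

theorem DbarLin_apply (y : B) :
    DbarLin d h y = (d.s (D R A (aug h y)) + deg1 h d.K.subtype y : Fin d.n → A) := rfl

/-- The derivation `B → A^n` (through the augmentation) dual to the coordinates `x_i`. -/
noncomputable def Dbar : Derivation R B (AugMod d h) :=
  Derivation.mk' (DbarLin d h) (fun y z => by
    change (d.s (D R A (aug h (y * z))) + deg1 h d.K.subtype (y * z) : Fin d.n → A) =
      aug h y • (d.s (D R A (aug h z)) + deg1 h d.K.subtype z : Fin d.n → A) +
      aug h z • (d.s (D R A (aug h y)) + deg1 h d.K.subtype y : Fin d.n → A)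
    rw [map_mul, Derivation.leibniz, map_add, map_smul, map_smul, deg1_mul]
    simp only [smul_add]
    abel)

theorem Dbar_apply (y : B) :
    Dbar d h y = (d.s (D R A (aug h y)) + deg1 h d.K.subtype y : Fin d.n → A) := rfl

theorem Dbar_x (i : Fin d.n) : Dbar d h (x d ι i) = (Pi.single i 1 : Fin d.n → A) := by
  change (d.s (D R A (aug h (x d ι i))) + deg1 h d.K.subtype (x d ι i) : Fin d.n → A) = _
  have h1 : aug h (x d ι i) = d.a i := by
    rw [x, map_add, aug_ι, add_zero, AlgHom.commutes]
    rfl
  have h2 : deg1 h d.K.subtype (x d ι i) = (d.κ i : Fin d.n → A) := by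
    rw [x, map_add, deg1_algebraMap, deg1_ι, zero_add]
    rfl
  rw [h1, h2, d.κ_coe]
  abel

/-- The linear map `Ω[B⁄R] → A^n` induced by `Dbar`. -/
noncomputable def ψbar : Ω[B⁄R] →ₗ[B] AugMod d h := (Dbar d h).liftKaehlerDifferential

theorem ψbar_D (y : B) : ψbar d h (D R B y) = Dbar d h y :=
  Derivation.liftKaehlerDifferential_comp_D _ _

/-- Reduction `B^n → A^n` through the augmentation. -/
noncomputable def q : (Fin d.n → B) →ₗ[B] AugMod d h where
  toFun v := (fun l => aug h (v l) : Fin d.n → A)
  map_add' v w := by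
    apply funext
    intro l
    change aug h (v l + w l) = aug h (v l) + aug h (w l)
    rw [map_add]
  map_smul' y v := by
    apply funext
    intro l
    change aug h (y * v l) = aug h y * aug h (v l)
    rw [map_mul]

theorem q_apply (v : Fin d.n → B) (l : Fin d.n) : (q d h v : Fin d.n → A) l = aug h (v l) := rfl

theorem q_surjective : Function.Surjective (q d h) := fun w =>
  ⟨fun l => algebraMap A B ((w : Fin d.n → A) l), by
    apply funext
    intro l
    change aug h (algebraMap A B ((w : Fin d.n → A) l)) = _
    rw [AlgHom.commutes]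
    rfl⟩

/-- A lift `ψ : Ω[B⁄R] → B^n` of `ψbar`, with `ψ ∘ φ ≡ id` modulo the augmentation ideal. -/
theorem exists_ψ [Module.Projective B Ω[B⁄R]] :
    ∃ ψ : Ω[B⁄R] →ₗ[B] (Fin d.n → B), ∀ i l : Fin d.n,
      aug h (ψ (D R B (x d ι i)) l) = (Pi.single i 1 : Fin d.n → A) l := by
  obtain ⟨ψ, hψ⟩ := Module.projective_lifting_property (q d h) (ψbar d h) (q_surjective d h)
  refine ⟨ψ, fun i l => ?_⟩
  have := congr($hψ (D R B (x d ι i)))
  rw [LinearMap.comp_apply, ψbar_D, Dbar_x] at this
  exact congrFun this l

end Psi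

section Final

open KaehlerDifferential (D)
open scoped Pointwise

variable {R A : Type u} [CommRing R] [CommRing A] [Algebra R A] (d : Data R A)
  {B : Type u} [CommRing B] [Algebra A B] [Algebra R B] [IsScalarTower R A B]
  {ι : d.K →ₗ[A] B} (h : IsSymmetricAlgebra ι)

include h in
theorem smooth_sym : Algebra.Smooth A B := by
  haveI : Algebra.FormallySmooth A B := formallySmooth h
  haveI : Algebra.FinitePresentation A B :=
    finitePresentation h d.K.subtype d.proj (LinearMap.ext d.proj_incl)
  exact ⟨inferInstance, inferInstance⟩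

/-- Generic bijectivity criterion after localization. -/
theorem bijective_of_localization {n : ℕ} (w : Fin n → B)
    (ψ : Ω[B⁄R] →ₗ[B] (Fin n → B)) (r : B)
    (hr : r • (⊤ : Submodule B Ω[B⁄R]) ≤
      LinearMap.range (Fintype.linearCombination B (fun i => D R B (w i))))
    (c : B) (B' : Type u) [CommRing B'] [Algebra B B'] [Algebra R B'] [IsScalarTower R B B']
    [IsLocalization.Away c B']
    (hrc : r ∣ c) (hdet : (Matrix.of fun l i => ψ (D R B (w i)) l).det ∣ c) :
    Function.Bijective
      (Fintype.linearCombination B' (fun i => D R B' (algebraMap B B' (w i)))) := by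
  classical
  set φ : (Fin n → B) →ₗ[B] Ω[B⁄R] := Fintype.linearCombination B (fun i => D R B (w i)) with hφ
  set φ' : (Fin n → B') →ₗ[B'] Ω[B'⁄R] :=
    Fintype.linearCombination B' (fun i => D R B' (algebraMap B B' (w i))) with hφ'
  set Mat : Matrix (Fin n) (Fin n) B := Matrix.of fun l i => ψ (D R B (w i)) l with hMat
  let f : Ω[B⁄R] →ₗ[B] Ω[B'⁄R] := KaehlerDifferential.map R R B B'
  haveI : IsLocalization (Submonoid.powers c) B' := ‹IsLocalization.Away c B'›
  haveI : IsLocalizedModule (Submonoid.powers c) f :=
    KaehlerDifferential.isLocalizedModule_map R B B' (Submonoid.powers c)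
  have hcu : IsUnit (algebraMap B B' c) := IsLocalization.Away.algebraMap_isUnit c
  have hru : IsUnit (algebraMap B B' r) := by
    obtain ⟨r', rfl⟩ := hrc
    rw [map_mul] at hcu
    exact isUnit_of_mul_isUnit_left hcu
  have hdu : IsUnit (algebraMap B B' Mat.det) := by
    obtain ⟨r', hr'⟩ := hdet
    rw [hr', map_mul] at hcu
    exact isUnit_of_mul_isUnit_left hcu
  have htu : ∀ t : Submonoid.powers c, IsUnit (algebraMap B B' (t : B)) :=
    fun t => IsLocalization.map_units B' t
  have hfφ : ∀ v : Fin n → B, f (φ v) = φ' (fun i => algebraMap B B' (v i)) := by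
    intro v
    simp only [hφ, hφ', Fintype.linearCombination_apply, map_sum, map_smul, f,
      KaehlerDifferential.map_D, algebraMap_smul]
  have hψφ : ∀ v : Fin n → B, ψ (φ v) = Mat.mulVec v := by
    intro v
    ext l
    simp only [hφ, Fintype.linearCombination_apply, map_sum, map_smul, Finset.sum_apply,
      Pi.smul_apply, smul_eq_mul, Matrix.mulVec, dotProduct, hMat, Matrix.of_apply]
    exact Finset.sum_congr rfl fun i _ => mul_comm _ _
  constructor
  · -- injective
    rw [injective_iff_map_eq_zero]
    intro v' hv'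
    obtain ⟨b, hb⟩ := IsLocalization.exist_integer_multiples (Submonoid.powers c)
      (Finset.univ : Finset (Fin n)) v'
    have hb' : ∀ i, ∃ y : B, algebraMap B B' y = (b : B) • v' i := fun i => hb i (Finset.mem_univ i)
    choose v hv using hb'
    have h1 : f (φ v) = 0 := by
      rw [hfφ]
      have : (fun i => algebraMap B B' (v i)) = algebraMap B B' (b : B) • v' := by
        ext i
        rw [hv i, Pi.smul_apply, Algebra.smul_def, smul_eq_mul]
      rw [this, map_smul, hv', smul_zero]
    obtain ⟨t, ht⟩ := (IsLocalizedModule.eq_zero_iff (Submonoid.powers c) f).mp h1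
    have h2 : Mat.mulVec ((t : B) • v) = 0 := by
      rw [← hψφ, map_smul, ← Submonoid.smul_def, ht, map_zero]
    have h3 : Mat.det • ((t : B) • v) = 0 := by
      have := congrArg (Mat.adjugate.mulVec) h2
      rw [Matrix.mulVec_mulVec, Matrix.adjugate_mul, Matrix.smul_mulVec, Matrix.one_mulVec,
        Matrix.mulVec_zero] at this
      exact this
    ext l
    have h4 : Mat.det * ((t : B) * v l) = 0 := congrFun h3 l
    have h5 := congrArg (algebraMap B B') h4
    rw [map_mul, map_mul, map_zero, hv l, Algebra.smul_def] at h5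
    have h6 := (hdu.mul_right_eq_zero).mp h5
    have h7 := ((htu t).mul_right_eq_zero).mp h6
    exact ((htu b).mul_right_eq_zero).mp h7
  · -- surjective
    intro ω'
    obtain ⟨⟨m, t⟩, hmt⟩ := IsLocalizedModule.surj (Submonoid.powers c) f ω'
    have hm : r • m ∈ LinearMap.range φ := hr (Submodule.smul_mem_pointwise_smul m r ⊤ trivial)
    obtain ⟨v, hv⟩ := hm
    have h1 : φ' (fun i => algebraMap B B' (v i)) =
        (algebraMap B B' r * algebraMap B B' (t : B)) • ω' := by
      rw [← hfφ, hv, map_smul, ← hmt, Submonoid.smul_def, mul_smul, algebraMap_smul,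
        algebraMap_smul]
    have hu : IsUnit (algebraMap B B' r * algebraMap B B' (t : B)) := hru.mul (htu t)
    refine ⟨((hu.unit⁻¹ : B'ˣ) : B') • (fun i => algebraMap B B' (v i)), ?_⟩
    rw [map_smul, h1, smul_smul, IsUnit.val_inv_mul, one_smul]

include h in
/-- Main theorem: a localization of the symmetric algebra (at an element augmenting to `1`) is
standard smooth over `R`. -/
theorem exists_isStandardSmooth_away [Algebra.Smooth R A] :
    ∃ c : B, aug h c = 1 ∧ Algebra.IsStandardSmooth R (Localization.Away c) ∧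
      Algebra.Smooth A (Localization.Away c) := by
  classical
  haveI : Algebra.Smooth A B := smooth_sym d h
  haveI : Algebra.Smooth R B := Algebra.Smooth.comp R A B
  obtain ⟨r, hr1, hr2⟩ := exists_smul_le_range d h
  obtain ⟨ψ, hψ⟩ := exists_ψ d h
  set Mat : Matrix (Fin d.n) (Fin d.n) B := Matrix.of fun l i => ψ (D R B (x d ι i)) l with hMat
  have hmap : (aug h : B →+* A).mapMatrix Mat = 1 := by
    ext l i
    simp only [RingHom.mapMatrix_apply, Matrix.map_apply, hMat, Matrix.of_apply]
    change aug h (ψ (D R B (x d ι i)) l) = _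
    rw [hψ i l, Matrix.one_apply, Pi.single_apply]
  have hdet1 : aug h Mat.det = 1 := by
    have := RingHom.map_det (aug h : B →+* A) Mat
    rw [hmap, Matrix.det_one] at this
    exact this
  refine ⟨r * Mat.det, by rw [map_mul, hr1, hdet1, one_mul], ?_, ?_⟩
  · have hbij := bijective_of_localization (R := R) (x d ι) ψ r hr2 (r * Mat.det)
      (Localization.Away (r * Mat.det)) (dvd_mul_right _ _) (dvd_mul_left _ _)
    let e := LinearEquiv.ofBijective _ hbij
    let b : Module.Basis (Fin d.n) (Localization.Away (r * Mat.det))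
        Ω[Localization.Away (r * Mat.det)⁄R] := Module.Basis.ofEquivFun e.symm
    haveI : Algebra.Smooth R (Localization.Away (r * Mat.det)) :=
      Algebra.Smooth.comp R B (Localization.Away (r * Mat.det))
    refine Algebra.IsStandardSmooth.of_basis_kaehlerDifferential b ?_
    rintro _ ⟨i, rfl⟩
    refine ⟨algebraMap B _ (x d ι i), ?_⟩
    rw [Module.Basis.coe_ofEquivFun]
    simp only [e, LinearEquiv.symm_symm, LinearEquiv.ofBijective_apply,
      Fintype.linearCombination_apply]
    rw [Finset.sum_eq_single i]
    · simp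
    · intro j _ hj; simp [hj]
    · simp
  · exact Algebra.Smooth.comp A B (Localization.Away (r * Mat.det))

end Final

section Concrete

variable {R A : Type u} [CommRing R] [CommRing A] [Algebra R A] (d : Data R A)

/-- The symmetric algebra of `K`, as a type synonym carrying an `R`-algebra structure. -/
def SymK : Type u := SymmetricAlgebra A d.K

noncomputable instance : CommRing (SymK d) := inferInstanceAs (CommRing (SymmetricAlgebra A d.K))
noncomputable instance : Algebra A (SymK d) :=
  inferInstanceAs (Algebra A (SymmetricAlgebra A d.K))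
noncomputable instance : Algebra R (SymK d) :=
  ((algebraMap A (SymK d)).comp (algebraMap R A)).toAlgebra
instance : IsScalarTower R A (SymK d) := IsScalarTower.of_algebraMap_eq (fun _ => rfl)

/-- The canonical map `K → Sym K`. -/
noncomputable def symι : d.K →ₗ[A] SymK d := SymmetricAlgebra.ι A d.K

theorem isSym : IsSymmetricAlgebra (symι d) :=
  SymmetricAlgebra.isSymmetricAlgebra_ι (R := A) (M := d.K)

/-- Stacks-style trick: for `A` smooth over `R` there is a smooth `A`-algebra with a retraction
which is standard smooth over `R`. -/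
theorem exists_smooth_retract_isStandardSmooth (R A : Type u) [CommRing R] [CommRing A]
    [Algebra R A] [Algebra.Smooth R A] :
    ∃ (B : Type u) (_ : CommRing B) (_ : Algebra R B) (_ : Algebra A B) (_ : IsScalarTower R A B),
      Algebra.Smooth A B ∧ Nonempty (B →ₐ[A] A) ∧ Algebra.IsStandardSmooth R B := by
  obtain ⟨d⟩ := exists_data (R := R) (A := A)
  obtain ⟨c, hc, hstd, hsm⟩ := exists_isStandardSmooth_away (R := R) d (isSym d)
  refine ⟨Localization.Away c, inferInstance, inferInstance, inferInstance, inferInstance,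
    hsm, ⟨?_⟩, hstd⟩
  refine IsLocalization.liftAlgHom (M := Submonoid.powers c) (f := aug (isSym d)) ?_
  rintro ⟨_, k, rfl⟩
  rw [map_pow, hc, one_pow]
  exact isUnit_one

end Concrete

end Groth.Agent.Lib.Helper26.SymSmooth
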