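import Mathlib
import Groth.Agent.Lib.Helper26SymSmooth

/-!
# Étale-local sections of smooth algebras (helper7)

If `D` is a smooth `C`-algebra and `σ : D →ₐ[C] C ⧸ J` is a section over `V(J)`, then there is an
étale `C`-algebra `C'` with a `C`-algebra map `ψ : C' → C ⧸ J` and a lift `τ : D →ₐ[C] C'` of `σ`.
-/

set_option autoImplicit false
set_option linter.style.haveILetI false
universe u

namespace Groth.Agent.Lib.Helper7.EtaleSection

open TensorProduct

/-- Standard smooth case. -/
theorem exists_etale_section_of_isStandardSmooth {C E : Type u} [CommRing C] [CommRing E]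
    [Algebra C E] [Algebra.IsStandardSmooth C E] (J : Ideal C) (σ : E →ₐ[C] C ⧸ J) :
    ∃ (C' : Type u) (_ : CommRing C') (_ : Algebra C C') (_ : Algebra.Etale C C')
      (τ : E →ₐ[C] C') (ψ : C' →ₐ[C] C ⧸ J), ψ.comp τ = σ := by
  obtain ⟨n, g, hgC, hget⟩ := RingHom.IsStandardSmooth.exists_etale_mvPolynomial
    (f := algebraMap C E) (RingHom.isStandardSmooth_algebraMap.mpr inferInstance)
  have hch : ∀ i : Fin n, ∃ a : C, Ideal.Quotient.mk J a = σ (g (MvPolynomial.X i)) :=
    fun i => Ideal.Quotient.mk_surjective _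
  choose a ha using hch
  letI algPC : Algebra (MvPolynomial (Fin n) C) C :=
    (MvPolynomial.aeval a : _ →ₐ[C] C).toRingHom.toAlgebra
  letI algPE : Algebra (MvPolynomial (Fin n) C) E := g.toAlgebra
  haveI : Algebra.Etale (MvPolynomial (Fin n) C) E := RingHom.etale_algebraMap.mp hget
  have hgC' : ∀ r : C, g (MvPolynomial.C r) = algebraMap C E r := fun r => congr($hgC r)
  haveI : IsScalarTower C (MvPolynomial (Fin n) C) E := IsScalarTower.of_algebraMap_eq (fun r => by
    change algebraMap C E r = g (MvPolynomial.C r)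
    exact (hgC' r).symm)
  haveI : IsScalarTower C (MvPolynomial (Fin n) C) C := IsScalarTower.of_algebraMap_eq (fun r => by
    change r = MvPolynomial.aeval a (MvPolynomial.C r)
    rw [MvPolynomial.aeval_C]; rfl)
  let gA : MvPolynomial (Fin n) C →ₐ[C] E :=
    { g with commutes' := fun r => hgC' r }
  have hcomm : ∀ p : MvPolynomial (Fin n) C,
      σ (g p) = Ideal.Quotient.mk J (MvPolynomial.aeval a p) := by
    intro p
    have : σ.comp gA = (Ideal.Quotient.mkₐ C J).comp (MvPolynomial.aeval a) := by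
      apply MvPolynomial.algHom_ext
      intro i
      simp only [AlgHom.comp_apply, MvPolynomial.aeval_X, Ideal.Quotient.mkₐ_eq_mk]
      exact (ha i).symm
    exact congr($this p)
  let σ' : E →ₐ[MvPolynomial (Fin n) C] C ⧸ J :=
    { σ.toRingHom with
      commutes' := fun p => by
        change σ (g p) = Ideal.Quotient.mk J (MvPolynomial.aeval a p)
        exact hcomm p }
  haveI : Algebra.Etale C (C ⊗[MvPolynomial (Fin n) C] E) :=
    Algebra.Etale.baseChange (MvPolynomial (Fin n) C) E C
  let ψ : C ⊗[MvPolynomial (Fin n) C] E →ₐ[C] C ⧸ J :=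
    Algebra.TensorProduct.lift (Algebra.ofId C (C ⧸ J)) σ' (fun _ _ => Commute.all _ _)
  let τ₀ : E →ₐ[MvPolynomial (Fin n) C] C ⊗[MvPolynomial (Fin n) C] E :=
    Algebra.TensorProduct.includeRight
  let τ : E →ₐ[C] C ⊗[MvPolynomial (Fin n) C] E := τ₀.restrictScalars C
  refine ⟨C ⊗[MvPolynomial (Fin n) C] E, inferInstance, inferInstance, inferInstance, τ, ψ, ?_⟩
  ext e
  change ψ ((1 : C) ⊗ₜ[MvPolynomial (Fin n) C] e) = σ e
  rw [Algebra.TensorProduct.lift_tmul, map_one, one_mul]
  rfl

/-- **Étale-local sections of smooth algebras**: a section of a smooth `C`-algebra `D` over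
`V(J)` lifts to a section over an étale `C`-algebra `C'` which itself has a section over `V(J)`. -/
theorem exists_etale_section {C D : Type u} [CommRing C] [CommRing D] [Algebra C D]
    [Algebra.Smooth C D] (J : Ideal C) (σ : D →ₐ[C] C ⧸ J) :
    ∃ (C' : Type u) (_ : CommRing C') (_ : Algebra C C') (_ : Algebra.Etale C C')
      (τ : D →ₐ[C] C') (ψ : C' →ₐ[C] C ⧸ J), ψ.comp τ = σ := by
  obtain ⟨B, _, _, _, _, -, ⟨ρ⟩, hstd⟩ :=
    Groth.Agent.Lib.Helper26.SymSmooth.exists_smooth_retract_isStandardSmooth C D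
  obtain ⟨C', _, _, _, τB, ψ, h⟩ :=
    exists_etale_section_of_isStandardSmooth J (σ.comp (ρ.restrictScalars C))
  refine ⟨C', inferInstance, inferInstance, inferInstance,
    τB.comp (IsScalarTower.toAlgHom C D B), ψ, ?_⟩
  ext d
  have := congr($h (algebraMap D B d))
  simp only [AlgHom.comp_apply, AlgHom.restrictScalars_apply, AlgHom.commutes] at this
  simpa using this

end Groth.Agent.Lib.Helper7.EtaleSection
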