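import Mathlib

/-!
# Flatness descends along faithfully flat maps; completions detect flat + unramified (helper19)
-/

set_option autoImplicit false
universe u

open IsLocalRing TensorProduct

namespace Groth.Agent.Lib.Helper19

/-- If `C` is faithfully flat over `B` and flat over `A`, then `B` is flat over `A`. -/
theorem flat_of_flat_of_faithfullyFlat (A B C : Type u) [CommRing A] [CommRing B] [CommRing C]
    [Algebra A B] [Algebra B C] [Algebra A C] [IsScalarTower A B C]
    [Module.Flat A C] [Module.FaithfullyFlat B C] : Module.Flat A B := by
  rw [Module.Flat.iff_lTensor_preserves_injective_linearMap]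
  intro N P _ _ _ _ f hf
  have h1 : Function.Injective (LinearMap.lTensor C f) :=
    Module.Flat.lTensor_preserves_injective_linearMap f hf
  have h2 : Function.Injective (f.baseChange B) := by
    rw [← Module.FaithfullyFlat.lTensor_injective_iff_injective B C]
    have e' : ∀ z, (AlgebraTensorModule.cancelBaseChange A B C C P)
        (LinearMap.lTensor C (f.baseChange B) z) =
        (LinearMap.lTensor C f) ((AlgebraTensorModule.cancelBaseChange A B C C N) z) := by
      intro z
      induction z using TensorProduct.induction_on with
      | zero => simp
      | tmul c w =>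
        induction w using TensorProduct.induction_on with
        | zero => simp
        | tmul b n => simp
        | add w₁ w₂ h₁ h₂ => simp only [tmul_add, map_add, h₁, h₂]
      | add z₁ z₂ h₁ h₂ => simp only [map_add, h₁, h₂]
    intro z₁ z₂ hz
    apply (AlgebraTensorModule.cancelBaseChange A B C C N).injective
    apply h1
    rw [← e', ← e', hz]
  exact h2

/-- If the induced map on completions is bijective then `A → B` is flat and unramified. -/
theorem flat_and_map_eq_of_completion_bijective (A B : Type u) [CommRing A]
    [CommRing B] [IsLocalRing A] [IsLocalRing B] [IsNoetherianRing A] [IsNoetherianRing B]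
    [Algebra A B] [IsLocalHom (algebraMap A B)]
    (ψ : AdicCompletion (maximalIdeal A) A →+* AdicCompletion (maximalIdeal B) B)
    (hψ : ψ.comp (algebraMap A (AdicCompletion (maximalIdeal A) A)) =
      (algebraMap B (AdicCompletion (maximalIdeal B) B)).comp (algebraMap A B))
    (hbij : Function.Bijective ψ) :
    Module.Flat A B ∧
      Ideal.map (algebraMap A B) (maximalIdeal A) = maximalIdeal B := by
  haveI : IsScalarTower A B (AdicCompletion (maximalIdeal B) B) :=
    IsScalarTower.of_algebraMap_eq (fun _ => rfl)
  haveI : Module.FaithfullyFlat B (AdicCompletion (maximalIdeal B) B) :=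
    Module.FaithfullyFlat.of_flat_of_isLocalHom
  let e : AdicCompletion (maximalIdeal A) A ≃+* AdicCompletion (maximalIdeal B) B :=
    RingEquiv.ofBijective ψ hbij
  have hcomm : ∀ a : A, ψ (algebraMap A (AdicCompletion (maximalIdeal A) A) a) =
      algebraMap A (AdicCompletion (maximalIdeal B) B) a := fun a => by
    have := congrArg (fun g => g a) hψ
    exact this
  let el : AdicCompletion (maximalIdeal A) A ≃ₗ[A] AdicCompletion (maximalIdeal B) B :=
    { e with
      map_smul' := fun a x => by
        change ψ (a • x) = a • ψ x
        rw [Algebra.smul_def, map_mul, hcomm, ← Algebra.smul_def] }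
  haveI : Module.Flat A (AdicCompletion (maximalIdeal B) B) := Module.Flat.of_linearEquiv el.symm
  refine ⟨flat_of_flat_of_faithfullyFlat A B (AdicCompletion (maximalIdeal B) B), ?_⟩
  apply Ideal.map_injective_of_faithfullyFlat (A := B) (B := AdicCompletion (maximalIdeal B) B)
  change ((maximalIdeal A).map (algebraMap A B)).map
      (algebraMap B (AdicCompletion (maximalIdeal B) B)) =
    (maximalIdeal B).map (algebraMap B (AdicCompletion (maximalIdeal B) B))
  rw [← AdicCompletion.maximalIdeal_eq_map, Ideal.map_map, ← hψ, ← Ideal.map_map,
    ← AdicCompletion.maximalIdeal_eq_map]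
  exact IsLocalRing.map_ringEquiv_maximalIdeal e

end Groth.Agent.Lib.Helper19
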