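import Groth.Agent.Lib.Helper28DepthMore
import Mathlib.RingTheory.Flat.FaithfullyFlat.Algebra
import Mathlib.RingTheory.Flat.FaithfullyFlat.Basic
import Mathlib.LinearAlgebra.Quotient.Basic
import Mathlib.RingTheory.Artinian.Module
import Mathlib.RingTheory.LocalRing.RingHom.Basic
import Mathlib.Algebra.Module.Torsion.Basic

/-!
# Depth library, part 8 (helper28): change of rings (flat base change, restriction of scalars)
-/

set_option autoImplicit false
universe u v w u' v'

namespace Groth.Agent.Lib.Helper28
open RingTheory.Sequence CategoryTheory Abelian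
open scoped Pointwise TensorProduct

section FlatBC

variable {A : Type u} {B : Type u'} [CommRing A] [CommRing B] [Algebra A B]
  {M : Type v} [AddCommGroup M] [Module A M] {N : Type v'} [AddCommGroup N] [Module A N]
  [Module B N] [IsScalarTower A B N]

theorem map_smul_top_eq_top_of_isBaseChange {f : M →ₗ[A] N} (hf : IsBaseChange B f)
    (I : Ideal A) (h : I • (⊤ : Submodule A M) = ⊤) :
    I.map (algebraMap A B) • (⊤ : Submodule B N) = ⊤ := by
  rw [eq_top_iff]
  suffices H : ∀ x : N, x ∈ I.map (algebraMap A B) • (⊤ : Submodule B N) from fun x _ => H x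
  intro x
  induction x using hf.inductionOn with
  | zero => exact Submodule.zero_mem _
  | tmul m =>
    have hm : m ∈ I • (⊤ : Submodule A M) := by rw [h]; exact Submodule.mem_top
    refine Submodule.smul_induction_on hm ?_ ?_
    · intro r hr n _
      rw [map_smul, ← algebraMap_smul B r (f n)]
      exact Submodule.smul_mem_smul (Ideal.mem_map_of_mem _ hr) Submodule.mem_top
    · intro x y hx hy
      rw [map_add]
      exact Submodule.add_mem _ hx hy
  | smul s n hn => exact Submodule.smul_mem _ s hn
  | add n₁ n₂ h₁ h₂ => exact Submodule.add_mem _ h₁ h₂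

theorem idealDepth_le_of_flat_of_isBaseChange [Module.Flat A B] {f : M →ₗ[A] N}
    (hf : IsBaseChange B f) (I : Ideal A) :
    LocCoh.idealDepth I M ≤ LocCoh.idealDepth (I.map (algebraMap A B)) N := by
  by_cases h' : I.map (algebraMap A B) • (⊤ : Submodule B N) = ⊤
  · rw [idealDepth_eq_top_of_smul_top_eq_top _ N h']; exact le_top
  · have h : I • (⊤ : Submodule A M) ≠ ⊤ := fun h =>
      h' (map_smul_top_eq_top_of_isBaseChange hf I h)
    rw [idealDepth_eq_iSup_of_smul_top_ne_top I M h]
    refine iSup₂_le fun rs hrs => ?_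
    have h1 : IsWeaklyRegular N (rs.map (algebraMap A B)) := hrs.1.of_flat_of_isBaseChange hf
    have h2 : ∀ r ∈ rs.map (algebraMap A B), r ∈ I.map (algebraMap A B) := by
      intro r hr
      obtain ⟨a, ha, rfl⟩ := List.mem_map.mp hr
      exact Ideal.mem_map_of_mem _ (hrs.2 a ha)
    have := length_le_idealDepth h1 h2
    simpa using this

end FlatBC


section FFlat

variable {A : Type u} {B : Type u'} [CommRing A] [CommRing B] [Algebra A B]
  [IsNoetherianRing A] [IsNoetherianRing B] [Module.FaithfullyFlat A B] [Small.{v} A]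

theorem natCast_le_idealDepth_of_faithfullyFlat (I : Ideal A) (n : ℕ) :
    ∀ (M : Type v) [AddCommGroup M] [Module A M] [Module.Finite A M],
      (n : ℕ∞) ≤ LocCoh.idealDepth (I.map (algebraMap A B)) (B ⊗[A] M) →
      (n : ℕ∞) ≤ LocCoh.idealDepth I M := by
  induction n with
  | zero => intro M _ _ _ _; simp
  | succ n ih =>
    intro M _ _ _ hn
    by_cases hIM : I • (⊤ : Submodule A M) = ⊤
    · rw [idealDepth_eq_top_of_smul_top_eq_top I M hIM]; exact le_top
    have hbc : IsBaseChange B (TensorProduct.mk A B M 1) := TensorProduct.isBaseChange A M B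
    have hIN : I.map (algebraMap A B) • (⊤ : Submodule B (B ⊗[A] M)) ≠ ⊤ :=
      (hbc.map_smul_top_ne_top_iff_of_faithfullyFlat A M I).mpr hIM
    have hMnt : Nontrivial M := nontrivial_of_smul_top_ne_top hIM
    -- there is an `M`-regular element in `I`
    have hex : ∃ x ∈ I, IsSMulRegular M x := by
      by_contra hcon
      push Not at hcon
      obtain ⟨p, hp, hIp⟩ := exists_le_mem_associatedPrimes_of_forall_not_isSMulRegular
        (M := M) hcon
      obtain ⟨hpp, z, hz⟩ := (isAssociatedPrime_iff (M := M)).mp hp
      have hz0 : z ≠ 0 := by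
        rintro rfl
        apply hpp.ne_top
        rw [hz, eq_top_iff]
        intro r _
        simp [Submodule.mem_colon_singleton]
      have hIz : ∀ a ∈ I, a • z = 0 := by
        intro a ha
        have : a ∈ (⊥ : Submodule A M).colon {z} := hz ▸ hIp ha
        simpa [Submodule.mem_colon_singleton] using this
      have hz1 : (1 : B) ⊗ₜ[A] z ≠ 0 := by
        intro h0
        apply hz0
        apply Module.FaithfullyFlat.tensorProduct_mk_injective (A := A) (B := B) M
        simpa using h0
      have hkill : ∀ b ∈ I.map (algebraMap A B), b • ((1 : B) ⊗ₜ[A] z) = 0 := by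
        intro b hb
        refine Submodule.span_induction ?_ ?_ ?_ ?_ hb
        · rintro _ ⟨a, ha, rfl⟩
          rw [algebraMap_smul, ← TensorProduct.tmul_smul, hIz a ha, TensorProduct.tmul_zero]
        · simp
        · intro x y _ _ hx hy
          rw [add_smul, hx, hy, add_zero]
        · intro c x _ hx
          rw [smul_eq_mul, mul_smul, hx, smul_zero]
      have hd0 : LocCoh.idealDepth (I.map (algebraMap A B)) (B ⊗[A] M) = 0 := by
        apply idealDepth_eq_zero_of_forall_not_isSMulRegular hIN
        intro b hb hreg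
        exact hz1 (hreg (by simp only [hkill b hb, smul_zero]))
      rw [hd0] at hn
      exact absurd hn (by simp)
    obtain ⟨x, hxI, hreg⟩ := hex
    have hreg' : IsSMulRegular (B ⊗[A] M) (algebraMap A B x) := hreg.of_flat_of_isBaseChange hbc
    have hadd := idealDepth_quotSMulTop_add_one I M hIM x hxI hreg
    have hadd' := idealDepth_quotSMulTop_add_one (I.map (algebraMap A B)) (B ⊗[A] M) hIN
      (algebraMap A B x) (Ideal.mem_map_of_mem _ hxI) hreg'
    rw [idealDepth_congr (QuotSMulTop.algebraMapTensorEquivTensorQuotSMulTop x M B)] at hadd'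
    have hn' : (n : ℕ∞) ≤
        LocCoh.idealDepth (I.map (algebraMap A B)) (B ⊗[A] QuotSMulTop x M) := by
      rw [← hadd'] at hn
      push_cast at hn
      exact (ENat.add_le_add_iff_right ENat.one_ne_top).mp hn
    have := ih (QuotSMulTop x M) hn'
    rw [← hadd]
    push_cast
    exact add_le_add_left this 1

theorem idealDepth_baseChange_eq_of_faithfullyFlat (I : Ideal A) (M : Type v) [AddCommGroup M]
    [Module A M] [Module.Finite A M] :
    LocCoh.idealDepth (I.map (algebraMap A B)) (B ⊗[A] M) = LocCoh.idealDepth I M := by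
  apply le_antisymm
  · rw [← ENat.forall_natCast_le_iff_le]
    intro n hn
    exact natCast_le_idealDepth_of_faithfullyFlat I n M hn
  · exact idealDepth_le_of_flat_of_isBaseChange (TensorProduct.isBaseChange A M B) I

end FFlat


section FiniteAlg

variable {A : Type u} {B : Type u'} [CommRing A] [CommRing B] [Algebra A B]

section Basic

variable {M : Type v} [AddCommGroup M] [Module B M] [Module A M] [IsScalarTower A B M]

theorem map_smul_top_eq_top_iff_restrictScalars (a : Ideal A) :
    a.map (algebraMap A B) • (⊤ : Submodule B M) = ⊤ ↔ a • (⊤ : Submodule A M) = ⊤ := by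
  have h := Ideal.smul_restrictScalars (S := B) a (⊤ : Submodule B M)
  rw [Submodule.restrictScalars_top] at h
  constructor
  · intro h1
    rw [← h, h1, Submodule.restrictScalars_top]
  · intro h1
    apply Submodule.restrictScalars_injective A B M
    rw [h, h1, Submodule.restrictScalars_top]

theorem idealDepth_le_idealDepth_map_restrictScalars (a : Ideal A) :
    LocCoh.idealDepth a M ≤ LocCoh.idealDepth (a.map (algebraMap A B)) M := by
  by_cases h' : a.map (algebraMap A B) • (⊤ : Submodule B M) = ⊤
  · rw [idealDepth_eq_top_of_smul_top_eq_top _ M h']; exact le_top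
  · have h : a • (⊤ : Submodule A M) ≠ ⊤ := fun h =>
      h' ((map_smul_top_eq_top_iff_restrictScalars a).mpr h)
    rw [idealDepth_eq_iSup_of_smul_top_ne_top a M h]
    refine iSup₂_le fun rs hrs => ?_
    have h1 : IsWeaklyRegular M (rs.map (algebraMap A B)) :=
      (isWeaklyRegular_map_algebraMap_iff B M rs).mpr hrs.1
    have h2 : ∀ r ∈ rs.map (algebraMap A B), r ∈ a.map (algebraMap A B) := by
      intro r hr
      obtain ⟨c, hc, rfl⟩ := List.mem_map.mp hr
      exact Ideal.mem_map_of_mem _ (hrs.2 c hc)
    have := length_le_idealDepth h1 h2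
    simpa using this

/-- The quotient by `x` over `B` is, as an `A`-module, the quotient by `x` over `A`. -/
noncomputable def quotSMulTopRestrictScalarsEquiv (x : A) :
    QuotSMulTop x M ≃ₗ[A] QuotSMulTop (algebraMap A B x) M :=
  Submodule.quotEquivOfEq _ _ (by
    rw [← Submodule.restrictScalars_top A B M, ← element_smul_restrictScalars]) ≪≫ₗ
    Submodule.Quotient.restrictScalarsEquiv A (algebraMap A B x • (⊤ : Submodule B M))

end Basic

variable [IsNoetherianRing A] [IsNoetherianRing B] [Small.{v} A] [Small.{v} B]

theorem idealDepth_map_le_of_idealDepth_eq (a : Ideal A) (n : ℕ) :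
    ∀ (M : Type v) [AddCommGroup M] [Module B M] [Module A M] [IsScalarTower A B M]
      [Module.Finite B M] [Module.Finite A M],
      a • (⊤ : Submodule A M) ≠ ⊤ → LocCoh.idealDepth a M = n →
      LocCoh.idealDepth (a.map (algebraMap A B)) M ≤ n := by
  induction n with
  | zero =>
    intro M _ _ _ _ _ _ haM h0
    have hBM : a.map (algebraMap A B) • (⊤ : Submodule B M) ≠ ⊤ := fun h =>
      haM ((map_smul_top_eq_top_iff_restrictScalars a).mp h)
    simp only [Nat.cast_zero] at h0
    obtain ⟨p, hp, hap⟩ := (idealDepth_eq_zero_iff haM).mp h0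
    obtain ⟨hpp, z, hz⟩ := (isAssociatedPrime_iff (M := M)).mp hp
    have hz0 : z ≠ 0 := by
      rintro rfl
      apply hpp.ne_top
      rw [hz, eq_top_iff]
      intro r _
      simp [Submodule.mem_colon_singleton]
    have haz : ∀ c ∈ a, c • z = 0 := by
      intro c hc
      have : c ∈ (⊥ : Submodule A M).colon {z} := hz ▸ hap hc
      simpa [Submodule.mem_colon_singleton] using this
    have hkill : ∀ b ∈ a.map (algebraMap A B), b • z = 0 := by
      intro b hb
      refine Submodule.span_induction ?_ ?_ ?_ ?_ hb
      · rintro _ ⟨c, hc, rfl⟩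
        rw [algebraMap_smul, haz c hc]
      · simp
      · intro x y _ _ hx hy
        rw [add_smul, hx, hy, add_zero]
      · intro c x _ hx
        rw [smul_eq_mul, mul_smul, hx, smul_zero]
    rw [Nat.cast_zero, nonpos_iff_eq_zero]
    apply idealDepth_eq_zero_of_forall_not_isSMulRegular hBM
    intro b hb hreg
    exact hz0 (hreg (by simp only [hkill b hb, smul_zero]))
  | succ n ih =>
    intro M _ _ _ _ _ _ haM hn
    have hBM : a.map (algebraMap A B) • (⊤ : Submodule B M) ≠ ⊤ := fun h =>
      haM ((map_smul_top_eq_top_iff_restrictScalars a).mp h)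
    have h1 : 1 ≤ LocCoh.idealDepth a M := by
      rw [hn]; exact_mod_cast Nat.succ_le_succ (Nat.zero_le n)
    obtain ⟨x, hxa, hreg⟩ := (one_le_idealDepth_iff haM).mp h1
    have hreg' : IsSMulRegular M (algebraMap A B x) := by
      intro m₁ m₂ h
      apply hreg
      simpa only [algebraMap_smul] using h
    have hadd := idealDepth_quotSMulTop_add_one a M haM x hxa hreg
    have hadd' := idealDepth_quotSMulTop_add_one (a.map (algebraMap A B)) M hBM
      (algebraMap A B x) (Ideal.mem_map_of_mem _ hxa) hreg'
    let e := quotSMulTopRestrictScalarsEquiv (B := B) (M := M) x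
    have hfin : Module.Finite A (QuotSMulTop (algebraMap A B x) M) := Module.Finite.equiv e
    have haM' : a • (⊤ : Submodule A (QuotSMulTop (algebraMap A B x) M)) ≠ ⊤ := fun h =>
      smul_top_quotSMulTop_ne_top hxa haM ((smul_top_eq_top_iff_of_linearEquiv e a).mpr h)
    have hn' : LocCoh.idealDepth a (QuotSMulTop (algebraMap A B x) M) = n := by
      rw [← idealDepth_congr e a]
      rw [hn] at hadd
      have : LocCoh.idealDepth a (QuotSMulTop x M) + 1 = (n : ℕ∞) + 1 := by
        rw [hadd]; push_cast; rfl
      exact (ENat.add_left_injective_of_ne_top ENat.one_ne_top) this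
    have := ih (QuotSMulTop (algebraMap A B x) M) haM' hn'
    rw [← hadd']
    push_cast
    exact add_le_add_left this 1

theorem idealDepth_restrictScalars_eq_idealDepth_map (a : Ideal A) (M : Type v)
    [AddCommGroup M] [Module B M] [Module A M] [IsScalarTower A B M]
    [Module.Finite B M] [Module.Finite A M] :
    LocCoh.idealDepth a M = LocCoh.idealDepth (a.map (algebraMap A B)) M := by
  apply le_antisymm (idealDepth_le_idealDepth_map_restrictScalars a)
  by_cases haM : a • (⊤ : Submodule A M) = ⊤
  · rw [idealDepth_eq_top_of_smul_top_eq_top a M haM]; exact le_top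
  · obtain ⟨n, hn⟩ := ENat.ne_top_iff_exists.mp (idealDepth_ne_top haM)
    rw [← hn]
    exact idealDepth_map_le_of_idealDepth_eq a n M haM hn.symm

end FiniteAlg


section LocalHom

variable {A : Type u} [CommRing A] [IsLocalRing A]

/-- A finite module killed by the maximal ideal is Artinian. -/
theorem isArtinian_quotient_maximalIdeal_smul_top (M : Type v) [AddCommGroup M] [Module A M]
    [Module.Finite A M] :
    IsArtinian A (M ⧸ (IsLocalRing.maximalIdeal A • ⊤ : Submodule A M)) := by
  let k := A ⧸ IsLocalRing.maximalIdeal A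
  let Mbar := M ⧸ (IsLocalRing.maximalIdeal A • ⊤ : Submodule A M)
  have hfin : Module.Finite k Mbar := Module.Finite.of_restrictScalars_finite A k Mbar
  let _ : Field k := Ideal.Quotient.field _
  have : IsArtinian k Mbar := isArtinian_of_fg_of_artinian' 
  exact isArtinian_of_surjective_algebraMap (R := k) (S := A) (M := Mbar)
    Ideal.Quotient.mk_surjective

variable {B : Type u'} [CommRing B] [IsLocalRing B] [Algebra A B] [IsLocalHom (algebraMap A B)]
  {M : Type v} [AddCommGroup M] [Module B M] [Module A M] [IsScalarTower A B M]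
  [Module.Finite A M]

omit [IsLocalHom (algebraMap A B)] in
theorem eq_maximalIdeal_of_mem_support_of_map_le (q : PrimeSpectrum B)
    (hq : q ∈ Module.support B M)
    (hJ : (IsLocalRing.maximalIdeal A).map (algebraMap A B) ≤ q.asIdeal) :
    q.asIdeal = IsLocalRing.maximalIdeal B := by
  have hBfin : Module.Finite B M := Module.Finite.of_restrictScalars_finite A B M
  set J := (IsLocalRing.maximalIdeal A).map (algebraMap A B) with hJdef
  let Mbar := M ⧸ (J • ⊤ : Submodule B M)
  -- `Mbar` is Artinian over `A`, hence over `B`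
  let e : (M ⧸ (IsLocalRing.maximalIdeal A • ⊤ : Submodule A M)) ≃ₗ[A] Mbar :=
    Submodule.quotEquivOfEq _ _ (by
      rw [Ideal.smul_restrictScalars, Submodule.restrictScalars_top]) ≪≫ₗ
    Submodule.Quotient.restrictScalarsEquiv A (J • ⊤ : Submodule B M)
  have hArtA : IsArtinian A Mbar :=
    have := isArtinian_quotient_maximalIdeal_smul_top (A := A) M
    isArtinian_of_linearEquiv e
  have hArtB : IsArtinian B Mbar := isArtinian_of_tower A hArtA
  have hqbar : q ∈ Module.support B Mbar := by
    rw [Module.support_quotient]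
    exact ⟨hq, (PrimeSpectrum.mem_zeroLocus _ _).mpr hJ⟩
  have hann := Module.annihilator_le_of_mem_support hqbar
  apply le_antisymm (IsLocalRing.le_maximalIdeal q.2.ne_top)
  intro b hb
  obtain ⟨n, hn⟩ := IsArtinian.range_smul_pow_stabilizes Mbar b
  let N : Submodule B Mbar := LinearMap.range (b ^ n • LinearMap.id : Mbar →ₗ[B] Mbar)
  have hN : N ≤ Ideal.span {b} • N := by
    rintro _ ⟨x, rfl⟩
    have hx : (b ^ n • LinearMap.id : Mbar →ₗ[B] Mbar) x ∈
        LinearMap.range (b ^ (n + 1) • LinearMap.id : Mbar →ₗ[B] Mbar) := by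
      rw [← hn (n + 1) (Nat.le_succ n)]; exact ⟨x, rfl⟩
    obtain ⟨y, hy⟩ := hx
    rw [← hy]
    change b ^ (n + 1) • y ∈ _
    rw [pow_succ', mul_smul]
    exact Submodule.smul_mem_smul (Ideal.mem_span_singleton_self b) ⟨y, rfl⟩
  have hNfg : N.FG := by
    have : N = Submodule.map (b ^ n • LinearMap.id : Mbar →ₗ[B] Mbar) ⊤ :=
      LinearMap.range_eq_map _
    rw [this]
    exact (Module.Finite.fg_top (R := B) (M := Mbar)).map _
  have hN0 : N = ⊥ := Submodule.eq_bot_of_le_smul_of_le_jacobson_bot (Ideal.span {b}) N
    hNfg hN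
    ((Ideal.span_singleton_le_iff_mem _).mpr (IsLocalRing.maximalIdeal_le_jacobson ⊥ hb))
  have hbn : b ^ n ∈ Module.annihilator B Mbar := by
    rw [Module.mem_annihilator]
    intro x
    have : b ^ n • x ∈ N := ⟨x, rfl⟩
    rw [hN0] at this
    exact this
  exact q.2.mem_of_pow_mem n (hann hbn)


theorem depth_eq_depth_of_isLocalHom_of_finite [IsNoetherianRing A] [IsNoetherianRing B]
    [Small.{v} A] [Small.{v} B] : LocCoh.depth A M = LocCoh.depth B M := by
  have hBfin : Module.Finite B M := Module.Finite.of_restrictScalars_finite A B M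
  unfold LocCoh.depth
  rw [idealDepth_restrictScalars_eq_idealDepth_map (B := B) (IsLocalRing.maximalIdeal A) M]
  set J := (IsLocalRing.maximalIdeal A).map (algebraMap A B) with hJdef
  have hJle : J ≤ IsLocalRing.maximalIdeal B := IsLocalRing.map_maximalIdeal_le (algebraMap A B)
  apply le_antisymm (idealDepth_mono_ideal M hJle)
  by_cases hJM : J • (⊤ : Submodule B M) = ⊤
  · rw [idealDepth_eq_top_of_smul_top_eq_top J M hJM]; exact le_top
  · obtain ⟨q, hq, hsupp, hd⟩ := exists_prime_depth_localization_eq' hJM
    have hqm := eq_maximalIdeal_of_mem_support_of_map_le (A := A) q hsupp hq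
    rw [← hd]
    exact idealDepth_le_depth_localization q.asIdeal M (le_of_eq hqm.symm)

end LocalHom

end Groth.Agent.Lib.Helper28
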