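import Groth.Agent.Lib.Helper28Serre
import Groth.Agent.Lib.Helper28DepthBC
import Mathlib.RingTheory.DiscreteValuationRing.TFAE
import Mathlib.RingTheory.Localization.LocalizationLocalization
import Mathlib.RingTheory.LocalProperties.Reduced

/-!
# Serre's normality criterion (helper28)

* regular local rings of dimension `≤ 1` are integrally closed domains;
* normal Noetherian local domains: `m ∈ Ass(A/a)` forces `m` principal; dimension `≤ 1` ⇒ regular,
  dimension `≥ 2` ⇒ depth `≥ 2`;
* invariance of depth under ring isomorphisms, transfer of `(S_k)`, `(R_k)` to localizations at primes;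
* `(R_1) + (S_2)` ⇒ all local rings are domains (algebraic Hartshorne connectedness) and normal;
* `forall_isIntegrallyClosed_localization_iff_hasRk_one_and_hasSk_two` (Serre's criterion).
-/

set_option autoImplicit false
universe u v w u' v'

namespace Groth.Agent.Lib.Helper28
open RingTheory.Sequence CategoryTheory Abelian
open scoped Pointwise

section RegularDimOne

variable {A : Type u} [CommRing A] [IsLocalRing A] [IsNoetherianRing A]

/-- In a Noetherian local ring with principal maximal ideal, every non-maximal prime is zero. -/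
theorem eq_bot_of_lt_maximalIdeal_of_isPrincipal
    (hm : (IsLocalRing.maximalIdeal A).IsPrincipal) {P : Ideal A} [hP : P.IsPrime]
    (hlt : P < IsLocalRing.maximalIdeal A) : P = ⊥ := by
  obtain ⟨t, ht⟩ := hm
  have ht' : IsLocalRing.maximalIdeal A = Ideal.span {t} := ht
  have htP : t ∉ P := by
    intro h
    apply hlt.not_ge
    rw [ht']
    exact (Ideal.span_singleton_le_iff_mem P).mpr h
  apply Submodule.eq_bot_of_le_smul_of_le_jacobson_bot (IsLocalRing.maximalIdeal A) P
    ((isNoetherianRing_iff_ideal_fg A).mp inferInstance P) _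
    (IsLocalRing.maximalIdeal_le_jacobson ⊥)
  intro x hx
  have hxm : x ∈ IsLocalRing.maximalIdeal A := hlt.le hx
  rw [ht', Ideal.mem_span_singleton'] at hxm
  obtain ⟨y, rfl⟩ := hxm
  have hy : y ∈ P := (hP.mem_or_mem hx).resolve_right htP
  rw [mul_comm, ← smul_eq_mul]
  apply Submodule.smul_mem_smul _ hy
  rw [ht']
  exact Ideal.mem_span_singleton_self t

/-- A regular local ring of dimension at most one is an integrally closed domain. -/
theorem isDomain_and_isIntegrallyClosed_of_isRegularLocalRing_of_dim_le_one
    (hreg : IsRegularLocalRing A) (hdim : ringKrullDim A ≤ 1) :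
    IsDomain A ∧ IsIntegrallyClosed A := by
  have h := hreg.spanFinrank_maximalIdeal
  have hle : (IsLocalRing.maximalIdeal A).spanFinrank ≤ 1 := by
    have : (((IsLocalRing.maximalIdeal A).spanFinrank : ℕ) : WithBot ℕ∞) ≤ ((1 : ℕ) : WithBot ℕ∞) := by
      rw [h]; exact_mod_cast hdim
    exact_mod_cast this
  rcases Nat.le_one_iff_eq_zero_or_eq_one.mp hle with h0 | h1
  · have hbot : IsLocalRing.maximalIdeal A = ⊥ :=
      (Submodule.spanFinrank_eq_zero_iff_eq_bot
        ((isNoetherianRing_iff_ideal_fg A).mp inferInstance _)).mp h0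
    have hf : IsField A := IsLocalRing.isField_iff_maximalIdeal_eq.mpr hbot
    let _ := hf.toField
    exact ⟨inferInstance, inferInstance⟩
  · obtain ⟨hprinc, hne⟩ := (Submodule.spanFinrank_eq_one_iff _).mp h1
    have hdim1 : ringKrullDim A = 1 := by rw [← h, h1]; rfl
    have hht : (IsLocalRing.maximalIdeal A).height = 1 := by
      have := IsLocalRing.maximalIdeal_height_eq_ringKrullDim (R := A)
      rw [hdim1] at this
      exact_mod_cast this
    obtain ⟨P, hPmin, hPle⟩ := Ideal.exists_minimalPrimes_le
      (bot_le : (⊥ : Ideal A) ≤ IsLocalRing.maximalIdeal A)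
    have hPprime : P.IsPrime := hPmin.1.1
    have hP0 : P.height = 0 := Ideal.height_eq_zero_iff.mpr hPmin
    have hPne : P ≠ IsLocalRing.maximalIdeal A := by
      intro h'
      rw [h', hht] at hP0
      exact one_ne_zero hP0
    have hPbot : P = ⊥ := eq_bot_of_lt_maximalIdeal_of_isPrincipal hprinc (lt_of_le_of_ne hPle hPne)
    have hdom : IsDomain A := by
      rw [hPbot] at hPprime
      exact IsDomain.of_bot_isPrime A
    refine ⟨hdom, ?_⟩
    have h43 : (IsLocalRing.maximalIdeal A).IsPrincipal ↔ (IsIntegrallyClosed A ∧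
        ∀ P : Ideal A, P ≠ ⊥ → P.IsPrime → P = IsLocalRing.maximalIdeal A) :=
      (tfae_of_isNoetherianRing_of_isLocalRing_of_isDomain A).out 4 3
    exact (h43.mp hprinc).1

end RegularDimOne


section NormalLocal

variable {A : Type u} [CommRing A] [IsLocalRing A] [IsNoetherianRing A] [IsDomain A]
  [IsIntegrallyClosed A]

/-- Key lemma: in a normal Noetherian local domain, if the maximal ideal is of the form
`(a : b)` with `b ∉ (a)`, then it is principal. -/
theorem isPrincipal_maximalIdeal_of_colon {a b : A} (ha0 : a ≠ 0)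
    (ham : a ∈ IsLocalRing.maximalIdeal A) (hb : b ∉ Ideal.span {a})
    (hcolon : ∀ x ∈ IsLocalRing.maximalIdeal A, b * x ∈ Ideal.span {a}) :
    (IsLocalRing.maximalIdeal A).IsPrincipal := by
  have hb0 : b ≠ 0 := fun h => hb (h ▸ Ideal.zero_mem _)
  by_cases hcase : ∃ x ∈ IsLocalRing.maximalIdeal A, ∃ c, b * x = a * c ∧ IsUnit c
  · obtain ⟨x, hx, c, hc, hcu⟩ := hcase
    obtain ⟨u, rfl⟩ := hcu
    refine ⟨x * (↑u⁻¹ : A), ?_⟩
    have hbt : b * (x * (↑u⁻¹ : A)) = a := by
      rw [← mul_assoc, hc, mul_assoc, Units.mul_inv, mul_one]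
    apply le_antisymm
    · intro y hy
      obtain ⟨c', hc'⟩ := Ideal.mem_span_singleton'.mp (hcolon y hy)
      -- b * y = c' * a = c' * b * t
      have : b * y = b * (c' * (x * (↑u⁻¹ : A))) := by
        rw [← hc']
        rw [mul_left_comm, hbt]
      have hy' : y = c' * (x * (↑u⁻¹ : A)) := mul_left_cancel₀ hb0 this
      rw [hy']
      exact Ideal.mul_mem_left _ _ (Ideal.mem_span_singleton_self _)
    · change Ideal.span {x * (↑u⁻¹ : A)} ≤ _
      rw [Ideal.span_singleton_le_iff_mem]
      exact Ideal.mul_mem_right _ _ hx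
  · exfalso
    push Not at hcase
    have hcase' : ∀ x ∈ IsLocalRing.maximalIdeal A, ∀ c, b * x = a * c →
        c ∈ IsLocalRing.maximalIdeal A := fun x hx c hc =>
      (IsLocalRing.mem_maximalIdeal c).mpr (hcase x hx c hc)
    let K := FractionRing A
    let ι := algebraMap A K
    have hinj : Function.Injective ι := IsFractionRing.injective A K
    have hιa : ι a ≠ 0 := fun h => ha0 (hinj (by rw [h, map_zero]))
    let N : Submodule A K := Submodule.map (Algebra.linearMap A K) (IsLocalRing.maximalIdeal A)
    have hN : N ≠ ⊥ := by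
      intro h
      have : ι a ∈ N := ⟨a, ham, rfl⟩
      rw [h, Submodule.mem_bot] at this
      exact hιa this
    have hNfg : N.FG :=
      Submodule.FG.map _ ((isNoetherianRing_iff_ideal_fg A).mp inferInstance _)
    have hz : IsIntegral A (ι b / ι a) := by
      apply isIntegral_of_smul_mem_submodule N hN hNfg
      rintro _ ⟨x, hx, rfl⟩
      obtain ⟨c, hc⟩ := Ideal.mem_span_singleton'.mp (hcolon x hx)
      have hcm := hcase' x hx c (by rw [← hc, mul_comm])
      refine ⟨c, hcm, ?_⟩
      change ι c = (ι b / ι a) * ι x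
      rw [div_mul_eq_mul_div, ← map_mul, ← hc, map_mul, mul_div_assoc, div_self hιa, mul_one]
    obtain ⟨y, hy⟩ := IsIntegrallyClosed.algebraMap_eq_of_integral hz
    apply hb
    rw [Ideal.mem_span_singleton']
    refine ⟨y, hinj ?_⟩
    rw [map_mul, hy, div_mul_cancel₀ _ hιa]

/-- A normal Noetherian local domain of dimension at most one is a regular local ring. -/
theorem isRegularLocalRing_of_isIntegrallyClosed_of_dim_le_one (hdim : ringKrullDim A ≤ 1) :
    IsRegularLocalRing A := by
  have h43 : IsPrincipalIdealRing A ↔ (IsIntegrallyClosed A ∧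
      ∀ P : Ideal A, P ≠ ⊥ → P.IsPrime → P = IsLocalRing.maximalIdeal A) :=
    (tfae_of_isNoetherianRing_of_isLocalRing_of_isDomain A).out 0 3
  have : IsPrincipalIdealRing A := by
    rw [h43]
    refine ⟨inferInstance, fun P hP0 hPprime => ?_⟩
    by_contra hne
    have hlt : P < IsLocalRing.maximalIdeal A :=
      lt_of_le_of_ne (IsLocalRing.le_maximalIdeal hPprime.ne_top) hne
    have h1 : (⊥ : Ideal A).height + 1 ≤ P.height :=
      Ideal.height_add_one_le_of_lt_of_isPrime (bot_lt_iff_ne_bot.mpr hP0)
    have h2 : P.height + 1 ≤ (IsLocalRing.maximalIdeal A).height :=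
      Ideal.height_add_one_le_of_lt_of_isPrime hlt
    have h3 : ((IsLocalRing.maximalIdeal A).height : WithBot ℕ∞) ≤ 1 := by
      rw [IsLocalRing.maximalIdeal_height_eq_ringKrullDim]; exact hdim
    have h3' : (IsLocalRing.maximalIdeal A).height ≤ 1 := by exact_mod_cast h3
    rw [Ideal.height_bot, zero_add] at h1
    have : (1 : ℕ∞) + 1 ≤ 1 := (add_le_add_left h1 1).trans (h2.trans h3')
    exact absurd this (by norm_num)
  infer_instance

/-- A normal Noetherian local domain of dimension at least two has depth at least two. -/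
theorem two_le_depth_of_isIntegrallyClosed_of_two_le_dim (hdim : 2 ≤ ringKrullDim A) :
    (2 : ℕ∞) ≤ LocCoh.depth A A := by
  have hmne : IsLocalRing.maximalIdeal A ≠ ⊥ := by
    intro h
    have hf : IsField A := IsLocalRing.isField_iff_maximalIdeal_eq.mpr h
    have h0 : ringKrullDim A = 0 := ringKrullDim_eq_zero_of_isField hf
    rw [h0] at hdim
    exact absurd hdim (by norm_num)
  obtain ⟨a, ham, ha0⟩ := Submodule.exists_mem_ne_zero_of_ne_bot hmne
  have hreg : IsSMulRegular A a := (IsRegular.of_ne_zero ha0).isSMulRegular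
  have hmA : IsLocalRing.maximalIdeal A • (⊤ : Submodule A A) ≠ ⊤ := maximalIdeal_smul_top_ne_top
  have hadd := idealDepth_quotSMulTop_add_one (IsLocalRing.maximalIdeal A) A hmA a ham hreg
  have hne : LocCoh.depth A (QuotSMulTop a A) ≠ 0 := by
    intro h0
    rw [depth_eq_zero_iff] at h0
    obtain ⟨-, xbar, hx⟩ := (isAssociatedPrime_iff).mp h0
    obtain ⟨b, rfl⟩ := Submodule.Quotient.mk_surjective _ xbar
    have hmem : ∀ y : A, y ∈ IsLocalRing.maximalIdeal A ↔ b * y ∈ Ideal.span {a} := by
      intro y
      rw [hx, Submodule.mem_colon_singleton, Submodule.mem_bot, ← Submodule.Quotient.mk_smul,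
        Submodule.Quotient.mk_eq_zero, Submodule.mem_smul_pointwise_iff_exists,
        Ideal.mem_span_singleton']
      constructor
      · rintro ⟨n, -, hn⟩
        exact ⟨n, by rw [mul_comm b y, ← smul_eq_mul y b, ← hn, smul_eq_mul, mul_comm]⟩
      · rintro ⟨n, hn⟩
        exact ⟨n, Submodule.mem_top, by rw [smul_eq_mul, smul_eq_mul, mul_comm a n, hn, mul_comm]⟩
    have hb : b ∉ Ideal.span {a} := by
      intro hb
      have : (1 : A) ∈ IsLocalRing.maximalIdeal A := by
        rw [hmem, mul_one]; exact hb
      exact (IsLocalRing.maximalIdeal.isMaximal A).ne_top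
        ((Ideal.eq_top_iff_one _).mpr this)
    have hprinc := isPrincipal_maximalIdeal_of_colon ha0 ham hb (fun x hx => (hmem x).mp hx)
    have hle : ringKrullDim A ≤ ((IsLocalRing.maximalIdeal A).spanFinrank : ℕ) :=
      ringKrullDim_le_spanFinrank_maximalIdeal A
    obtain ⟨t, ht⟩ := hprinc
    have hsf : (IsLocalRing.maximalIdeal A).spanFinrank ≤ 1 := by
      rw [ht]
      have := Submodule.spanFinrank_span_le_ncard_of_finite (R := A) (Set.finite_singleton t)
      rwa [Set.ncard_singleton] at this
    have : (2 : WithBot ℕ∞) ≤ ((1 : ℕ) : WithBot ℕ∞) :=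
      hdim.trans (hle.trans (by exact_mod_cast hsf))
    exact absurd this (by decide)
  have h1le : (1 : ℕ∞) ≤ LocCoh.depth A (QuotSMulTop a A) :=
    Order.one_le_iff_pos.mpr (pos_iff_ne_zero.mpr hne)
  unfold LocCoh.depth at h1le ⊢
  rw [← hadd]
  calc (2 : ℕ∞) = 1 + 1 := by norm_num
    _ ≤ _ := add_le_add_left h1le 1

end NormalLocal


section RingEquivDepth

/-- Depth of a Noetherian local ring over itself is invariant under ring isomorphisms. -/
theorem depth_self_eq_of_ringEquiv {A : Type u} {B : Type u'} [CommRing A] [CommRing B]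
    [IsLocalRing A] [IsLocalRing B] [IsNoetherianRing A] [IsNoetherianRing B] (e : A ≃+* B) :
    LocCoh.depth A A = LocCoh.depth B B := by
  let _ : Algebra A B := e.toRingHom.toAlgebra
  have hloc : IsLocalHom (algebraMap A B) := by
    change IsLocalHom (e : A →+* B)
    exact isLocalHom_toRingHom e
  have hfin : Module.Finite A B :=
    Module.Finite.of_surjective (Algebra.linearMap A B) e.surjective
  have hsmA : Small.{u'} A := ⟨⟨B, ⟨e.toEquiv⟩⟩⟩
  let eL : A ≃ₗ[A] B := LinearEquiv.ofBijective (Algebra.linearMap A B) e.bijective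
  have h1 : LocCoh.depth A A = LocCoh.depth A B := idealDepth_congr eL _
  rw [h1]
  exact depth_eq_depth_of_isLocalHom_of_finite (A := A) (B := B) (M := B)

end RingEquivDepth

section Transfer

variable {R : Type u} [CommRing R]

theorem depth_self_congr_ideal {q1 q2 : Ideal R} [q1.IsPrime] [q2.IsPrime] (h : q1 = q2) :
    LocCoh.depth (Localization.AtPrime q1) (Localization.AtPrime q1) =
      LocCoh.depth (Localization.AtPrime q2) (Localization.AtPrime q2) := by
  subst h; rfl

theorem isRegularLocalRing_congr_ideal {q1 q2 : Ideal R} [q1.IsPrime] [q2.IsPrime] (h : q1 = q2) :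
    IsRegularLocalRing (Localization.AtPrime q1) ↔ IsRegularLocalRing (Localization.AtPrime q2) := by
  subst h; rfl

/-- `(S_k)` for the ring itself, in terms of heights and depths of the local rings. -/
theorem hasSk_self_iff (k : ℕ) :
    LocCoh.HasSk k R R ↔ ∀ (p : Ideal R) [p.IsPrime],
      min (k : WithBot ℕ∞) ((p.height : ℕ∞) : WithBot ℕ∞) ≤
        ((LocCoh.depth (Localization.AtPrime p) (Localization.AtPrime p) : ℕ∞) : WithBot ℕ∞) := by
  unfold LocCoh.HasSk
  refine forall_congr' fun p => forall_congr' fun hp => ?_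
  rw [depth_localizedModule_self, Module.supportDim_eq_of_equiv (localizedModuleSelfEquiv p),
    supportDim_localization_self]

theorem depth_localization_localization [IsNoetherianRing R] (p : Ideal R) [p.IsPrime]
    (q' : Ideal (Localization.AtPrime p)) [q'.IsPrime] :
    LocCoh.depth (Localization.AtPrime q') (Localization.AtPrime q') =
      LocCoh.depth (Localization.AtPrime (q'.comap (algebraMap R (Localization.AtPrime p))))
        (Localization.AtPrime (q'.comap (algebraMap R (Localization.AtPrime p)))) :=
  (depth_self_eq_of_ringEquiv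
    (IsLocalization.localizationLocalizationAtPrimeIsoLocalization p.primeCompl q').toRingEquiv).symm

theorem isRegularLocalRing_localization_localization (p : Ideal R) [p.IsPrime]
    (q' : Ideal (Localization.AtPrime p)) [q'.IsPrime] :
    IsRegularLocalRing (Localization.AtPrime q') ↔
      IsRegularLocalRing (Localization.AtPrime (q'.comap (algebraMap R (Localization.AtPrime p)))) :=
  ⟨fun _ => IsRegularLocalRing.of_ringEquiv
    (IsLocalization.localizationLocalizationAtPrimeIsoLocalization p.primeCompl q').toRingEquiv.symm,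
   fun _ => IsRegularLocalRing.of_ringEquiv
    (IsLocalization.localizationLocalizationAtPrimeIsoLocalization p.primeCompl q').toRingEquiv⟩

theorem height_comap_localization (p : Ideal R) [p.IsPrime]
    (q' : Ideal (Localization.AtPrime p)) :
    (q'.comap (algebraMap R (Localization.AtPrime p))).height = q'.height :=
  IsLocalization.height_under p.primeCompl q'

theorem comap_le_of_isPrime_localization (p : Ideal R) [p.IsPrime]
    (q' : Ideal (Localization.AtPrime p)) [hq' : q'.IsPrime] :
    q'.comap (algebraMap R (Localization.AtPrime p)) ≤ p := by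
  have h := Ideal.comap_mono (f := algebraMap R (Localization.AtPrime p))
    (IsLocalRing.le_maximalIdeal hq'.ne_top)
  rwa [show (IsLocalRing.maximalIdeal (Localization.AtPrime p)).comap
    (algebraMap R (Localization.AtPrime p)) = p from
      IsLocalization.AtPrime.under_maximalIdeal (Localization.AtPrime p) p] at h

theorem isPrime_map_and_comap_map_of_le (p : Ideal R) [p.IsPrime] {q : Ideal R} [hq : q.IsPrime]
    (hqp : q ≤ p) :
    (q.map (algebraMap R (Localization.AtPrime p))).IsPrime ∧
      (q.map (algebraMap R (Localization.AtPrime p))).comap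
        (algebraMap R (Localization.AtPrime p)) = q := by
  have hd : Disjoint (p.primeCompl : Set R) q := by
    rw [Set.disjoint_left]
    intro x hx hxq
    exact hx (hqp hxq)
  exact ⟨IsLocalization.isPrime_of_isPrime_disjoint p.primeCompl _ q hq hd,
    IsLocalization.under_map_of_isPrime_disjoint p.primeCompl _ hq hd⟩

/-- `(S_k)` for the local ring `R_p` in terms of the primes of `R` contained in `p`. -/
theorem hasSk_localization_atPrime_iff [IsNoetherianRing R] (k : ℕ) (p : Ideal R) [p.IsPrime] :
    LocCoh.HasSk k (Localization.AtPrime p) (Localization.AtPrime p) ↔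
      ∀ (q : Ideal R) [q.IsPrime], q ≤ p →
        min (k : WithBot ℕ∞) ((q.height : ℕ∞) : WithBot ℕ∞) ≤
          ((LocCoh.depth (Localization.AtPrime q) (Localization.AtPrime q) : ℕ∞) : WithBot ℕ∞) := by
  rw [hasSk_self_iff]
  constructor
  · intro h q hq hqp
    obtain ⟨hprime, hcomap⟩ := isPrime_map_and_comap_map_of_le p hqp
    have := h (q.map (algebraMap R (Localization.AtPrime p)))
    rw [depth_localization_localization p, ← height_comap_localization p,
      depth_self_congr_ideal hcomap, hcomap] at this
    exact this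
  · intro h q' hq'
    have := h (q'.comap (algebraMap R (Localization.AtPrime p)))
      (comap_le_of_isPrime_localization p q')
    rw [depth_localization_localization p, ← height_comap_localization p]
    exact this

/-- `(R_k)` for the local ring `R_p` in terms of the primes of `R` contained in `p`. -/
theorem hasRk_localization_atPrime_iff (k : ℕ) (p : Ideal R) [p.IsPrime] :
    LocCoh.HasRk k (Localization.AtPrime p) ↔
      ∀ (q : Ideal R) [q.IsPrime], q ≤ p → q.height ≤ k →
        IsRegularLocalRing (Localization.AtPrime q) := by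
  unfold LocCoh.HasRk
  constructor
  · intro h q hq hqp hk
    obtain ⟨hprime, hcomap⟩ := isPrime_map_and_comap_map_of_le p hqp
    have := h (q.map (algebraMap R (Localization.AtPrime p)))
      (by rw [← height_comap_localization p, hcomap]; exact hk)
    rw [isRegularLocalRing_localization_localization p, isRegularLocalRing_congr_ideal hcomap] at this
    exact this
  · intro h q' hq' hk
    rw [isRegularLocalRing_localization_localization p]
    exact h (q'.comap (algebraMap R (Localization.AtPrime p)))
      (comap_le_of_isPrime_localization p q') (by rw [height_comap_localization p]; exact hk)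

theorem hasSk_localization_atPrime [IsNoetherianRing R] {k : ℕ} (p : Ideal R) [p.IsPrime] (h : LocCoh.HasSk k R R) :
    LocCoh.HasSk k (Localization.AtPrime p) (Localization.AtPrime p) := by
  rw [hasSk_localization_atPrime_iff]
  intro q hq _
  exact (hasSk_self_iff k).mp h q

theorem hasRk_localization_atPrime {k : ℕ} (p : Ideal R) [p.IsPrime] (h : LocCoh.HasRk k R) :
    LocCoh.HasRk k (Localization.AtPrime p) := by
  rw [hasRk_localization_atPrime_iff]
  intro q hq _ hk
  exact h q hk

end Transfer


section DomainStep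

variable {R : Type u} [CommRing R]

/-- If `R_q` is a domain, there is at most one minimal prime of `R` inside `q`. -/
theorem eq_of_mem_minimalPrimes_of_le_of_isDomain_localization (q : Ideal R) [q.IsPrime]
    [IsDomain (Localization.AtPrime q)] {p1 p2 : Ideal R} (h1 : p1 ∈ minimalPrimes R)
    (h2 : p2 ∈ minimalPrimes R) (h1q : p1 ≤ q) (h2q : p2 ≤ q) : p1 = p2 := by
  have hK : (RingHom.ker (algebraMap R (Localization.AtPrime q))).IsPrime := RingHom.ker_isPrime _
  have hle : ∀ p : Ideal R, p.IsPrime → p ≤ q →
      RingHom.ker (algebraMap R (Localization.AtPrime q)) ≤ p := by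
    intro p hp hpq x hx
    rw [RingHom.mem_ker, IsLocalization.map_eq_zero_iff q.primeCompl] at hx
    obtain ⟨s, hs⟩ := hx
    have hsp : (s : R) ∉ p := fun h => s.2 (hpq h)
    have : (s : R) * x ∈ p := by rw [hs]; exact p.zero_mem
    exact (hp.mem_or_mem this).resolve_left hsp
  have e1 : p1 = RingHom.ker (algebraMap R (Localization.AtPrime q)) :=
    le_antisymm (h1.2 ⟨hK, bot_le⟩ (hle p1 h1.1.1 h1q)) (hle p1 h1.1.1 h1q)
  have e2 : p2 = RingHom.ker (algebraMap R (Localization.AtPrime q)) :=
    le_antisymm (h2.2 ⟨hK, bot_le⟩ (hle p2 h2.1.1 h2q)) (hle p2 h2.1.1 h2q)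
  rw [e1, ← e2]

/-- A reduced ring localized at a prime containing exactly one minimal prime is a domain. -/
theorem isDomain_localization_of_unique_minimalPrime [IsReduced R] (p : Ideal R) [p.IsPrime]
    (P0 : Ideal R) (hP0 : P0 ∈ minimalPrimes R) (hP0p : P0 ≤ p)
    (huniq : ∀ P ∈ minimalPrimes R, P ≤ p → P = P0) : IsDomain (Localization.AtPrime p) := by
  have hP0prime : P0.IsPrime := hP0.1.1
  obtain ⟨hprime, -⟩ := isPrime_map_and_comap_map_of_le p hP0p
  have hbot : P0.map (algebraMap R (Localization.AtPrime p)) = ⊥ := by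
    have h0 : nilradical (Localization.AtPrime p) = ⊥ := by
      rw [nilradical_eq_zero, Ideal.zero_eq_bot]
    rw [eq_bot_iff, ← h0, nilradical_eq_sInf]
    refine le_sInf fun q' hq' => ?_
    have hq'prime : q'.IsPrime := hq'
    rw [Ideal.map_le_iff_le_comap]
    obtain ⟨P, hPmin, hPle⟩ := Ideal.exists_minimalPrimes_le
      (bot_le : (⊥ : Ideal R) ≤ q'.comap (algebraMap R (Localization.AtPrime p)))
    have hPp : P ≤ p := hPle.trans (comap_le_of_isPrime_localization p q')
    rw [← huniq P hPmin hPp]
    exact hPle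
  rw [hbot] at hprime
  exact IsDomain.of_bot_isPrime _

theorem hasRk_mono {k k' : ℕ} (hk : k' ≤ k) (h : LocCoh.HasRk k R) : LocCoh.HasRk k' R :=
  fun p _ hp => h p (hp.trans (by exact_mod_cast hk))

variable [IsNoetherianRing R]

/-- Under `(R_1)` and `(S_2)`, every localization at a prime is a domain. -/
theorem isDomain_localization_of_hasRk_one_of_hasSk_two (hR1 : LocCoh.HasRk 1 R)
    (hS2 : LocCoh.HasSk 2 R R) (p : Ideal R) [hp : p.IsPrime] :
    IsDomain (Localization.AtPrime p) := by
  have hred : IsReduced R := isReduced_iff_hasRk_zero_and_hasSk_one.mpr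
    ⟨hasRk_mono (Nat.zero_le 1) hR1, hasSk_mono (by norm_num) hS2⟩
  obtain ⟨P0, hP0, hP0p⟩ := Ideal.exists_minimalPrimes_le (bot_le : (⊥ : Ideal R) ≤ p)
  refine isDomain_localization_of_unique_minimalPrime p P0 hP0 hP0p ?_
  intro P2 hP2 hP2p
  by_contra hne
  -- two distinct minimal primes `P0`, `P2` inside `p`
  have hfin : (minimalPrimes R).Finite := minimalPrimes.finite_of_isNoetherianRing R
  let S : Finset (Ideal R) := hfin.toFinset.erase P0
  let N1 : Ideal R := P0
  let N2 : Ideal R := S.inf id
  have hP2S : P2 ∈ S := by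
    simp only [S, Finset.mem_erase, Set.Finite.mem_toFinset]
    exact ⟨hne, hP2⟩
  have hN2le : N2 ≤ P2 := Finset.inf_le (f := id) hP2S
  have hinf : N1 ⊓ N2 = ⊥ := by
    have h0 : nilradical R = ⊥ := by
      rw [nilradical_eq_zero, Ideal.zero_eq_bot]
    rw [eq_bot_iff, ← h0, nilradical, ← Ideal.sInf_minimalPrimes]
    refine le_sInf fun Q hQ => ?_
    by_cases hQ0 : Q = P0
    · rw [hQ0]; exact inf_le_left
    · have hQS : Q ∈ S := by
        simp only [S, Finset.mem_erase, Set.Finite.mem_toFinset]
        exact ⟨hQ0, hQ⟩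
      exact inf_le_right.trans (Finset.inf_le (f := id) hQS)
  have hmul0 : ∀ x ∈ N1, ∀ y ∈ N2, x * y = 0 := by
    intro x hx y hy
    have : x * y ∈ N1 ⊓ N2 := ⟨Ideal.mul_mem_right _ _ hx, Ideal.mul_mem_left _ _ hy⟩
    rwa [hinf, Ideal.mem_bot] at this
  set J : Ideal R := N1 ⊔ N2 with hJ
  have hJp : J ≤ p := sup_le hP0p (hN2le.trans hP2p)
  -- depth of `J` is at least two
  have hdepth : ((2 : ℕ) : ℕ∞) ≤ LocCoh.idealDepth J R := by
    apply le_idealDepth_of_hasSk R J 2 hS2
    intro q hJq _
    rw [Module.supportDim_eq_of_equiv (localizedModuleSelfEquiv q.asIdeal),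
      supportDim_localization_self]
    by_contra hlt
    have hht : q.asIdeal.height ≤ 1 := by
      have h2 : ¬ (2 : ℕ∞) ≤ q.asIdeal.height := fun h => hlt (by
        have := WithBot.coe_le_coe.mpr h
        simpa using this)
      have hlt2 : q.asIdeal.height < 1 + 1 := by
        rw [one_add_one_eq_two]; exact not_le.mp h2
      exact (ENat.lt_add_one_iff (by simp)).mp hlt2
    have hreg : IsRegularLocalRing (Localization.AtPrime q.asIdeal) :=
      hR1 q.asIdeal (by exact_mod_cast hht)
    have hdim : ringKrullDim (Localization.AtPrime q.asIdeal) ≤ 1 := by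
      rw [IsLocalization.AtPrime.ringKrullDim_eq_height q.asIdeal]
      exact_mod_cast hht
    obtain ⟨hdom, -⟩ :=
      isDomain_and_isIntegrallyClosed_of_isRegularLocalRing_of_dim_le_one hreg hdim
    have hN2q : S.inf id ≤ q.asIdeal := le_sup_right.trans hJq
    obtain ⟨Q, hQS, hQq⟩ := (Ideal.IsPrime.inf_le' q.2).mp hN2q
    simp only [S, Finset.mem_erase, Set.Finite.mem_toFinset] at hQS
    exact hQS.1 (eq_of_mem_minimalPrimes_of_le_of_isDomain_localization q.asIdeal hQS.2 hP0 hQq
      (le_sup_left.trans hJq))
  have hJtop : J • (⊤ : Submodule R R) ≠ ⊤ := by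
    intro h
    rw [smul_eq_mul, Ideal.mul_top] at h
    exact hp.ne_top (top_le_iff.mp (h ▸ hJp))
  obtain ⟨rs, hlen, hmem, hreg⟩ := (natCast_le_idealDepth_iff hJtop 2).mp hdepth
  match rs, hlen with
  | [f, g], _ =>
    have hregw := hreg.toIsWeaklyRegular
    rw [isWeaklyRegular_cons_iff, isWeaklyRegular_cons_iff] at hregw
    obtain ⟨hf, hg, -⟩ := hregw
    have hfJ : f ∈ J := hmem f (by simp)
    have hgJ : g ∈ J := hmem g (by simp)
    obtain ⟨f1, hf1, f2, hf2, hfe⟩ := Submodule.mem_sup.mp hfJ
    obtain ⟨g1, hg1, g2, hg2, hge⟩ := Submodule.mem_sup.mp hgJ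
    -- `g * f1 = f * g1`
    have hkey : g * f1 = f * g1 := by
      have e1 : f1 * g2 = 0 := hmul0 f1 hf1 g2 hg2
      have e2 : g1 * f2 = 0 := hmul0 g1 hg1 f2 hf2
      rw [← hge, ← hfe]
      linear_combination e1 - e2
    have hzero : g • (Submodule.Quotient.mk f1 : QuotSMulTop f R) = 0 := by
      rw [← Submodule.Quotient.mk_smul, Submodule.Quotient.mk_eq_zero, smul_eq_mul, hkey,
        Submodule.mem_smul_pointwise_iff_exists]
      exact ⟨g1, Submodule.mem_top, rfl⟩
    have hf1mem : (Submodule.Quotient.mk f1 : QuotSMulTop f R) = 0 := by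
      apply hg
      change g • _ = g • (0 : QuotSMulTop f R)
      rw [hzero, smul_zero]
    rw [Submodule.Quotient.mk_eq_zero, Submodule.mem_smul_pointwise_iff_exists] at hf1mem
    obtain ⟨e, -, he⟩ := hf1mem
    rw [smul_eq_mul] at he
    -- `(1 - e) * f1 = e * f2`, both sides vanish
    have h12 : (1 - e) * f1 = e * f2 := by
      have : f1 = e * f1 + e * f2 := by
        conv_lhs => rw [← he, ← hfe]
        ring
      linear_combination this
    have hz1 : (1 - e) * f1 = 0 := by
      have : (1 - e) * f1 ∈ N1 ⊓ N2 :=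
        ⟨Ideal.mul_mem_left _ _ hf1, h12 ▸ Ideal.mul_mem_left _ _ hf2⟩
      rwa [hinf, Ideal.mem_bot] at this
    have hz2 : e * f2 = 0 := h12 ▸ hz1
    have hfnzd : f ∈ nonZeroDivisors R := by
      rw [mem_nonZeroDivisors_iff_right]
      intro x hx
      apply hf
      change f • x = f • 0
      rw [smul_zero, smul_eq_mul, mul_comm]
      exact hx
    have hcontra : ∀ P ∈ minimalPrimes R, f ∉ P := fun P hP hfP =>
      Set.disjoint_left.mp (Ideal.disjoint_nonZeroDivisors_of_mem_minimalPrimes hP) hfP hfnzd
    by_cases hep : e ∈ p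
    · have h1e : (1 - e) ∉ p := by
        intro h
        exact hp.ne_top ((Ideal.eq_top_iff_one _).mpr (by simpa using p.add_mem h hep))
      have h1e2 : (1 - e) ∉ P2 := fun h => h1e (hP2p h)
      have hf1P2 : f1 ∈ P2 := by
        have : (1 - e) * f1 ∈ P2 := by rw [hz1]; exact P2.zero_mem
        exact (hP2.1.1.mem_or_mem this).resolve_left h1e2
      apply hcontra P2 hP2
      rw [← hfe]
      exact P2.add_mem hf1P2 (hN2le hf2)
    · have he0 : e ∉ P0 := fun h => hep (hP0p h)
      have hf2P0 : f2 ∈ P0 := by
        have : e * f2 ∈ P0 := by rw [hz2]; exact P0.zero_mem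
        exact (hP0.1.1.mem_or_mem this).resolve_left he0
      apply hcontra P0 hP0
      rw [← hfe]
      exact P0.add_mem hf1 hf2P0

end DomainStep


section NormalStep

/-- A Noetherian domain satisfying `(R_1)` and `(S_2)` is integrally closed. -/
theorem isIntegrallyClosed_of_hasRk_one_of_hasSk_two {A : Type u} [CommRing A] [IsDomain A]
    [IsNoetherianRing A] (hR1 : LocCoh.HasRk 1 A) (hS2 : LocCoh.HasSk 2 A A) :
    IsIntegrallyClosed A := by
  rw [isIntegrallyClosed_iff (FractionRing A)]
  intro x hx
  apply mem_range_of_forall_depth_one x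
  intro q hq hdepth
  have hS := (hasSk_self_iff 2).mp hS2 q
  rw [hdepth] at hS
  have hht : q.height ≤ 1 := by
    by_contra hlt
    have h2 : (2 : ℕ∞) ≤ q.height := by
      rw [not_le] at hlt
      have := Order.add_one_le_of_lt hlt
      rwa [one_add_one_eq_two] at this
    have h2' : ((2 : ℕ) : WithBot ℕ∞) ≤ ((q.height : ℕ∞) : WithBot ℕ∞) := by
      have := WithBot.coe_le_coe.mpr h2
      simpa using this
    rw [min_eq_left h2'] at hS
    have hS' : ((2 : ℕ∞) : WithBot ℕ∞) ≤ ((1 : ℕ∞) : WithBot ℕ∞) := by simpa using hS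
    have : (2 : ℕ∞) ≤ 1 := WithBot.coe_le_coe.mp hS'
    exact absurd this (by norm_num)
  have hreg : IsRegularLocalRing (Localization.AtPrime q) := hR1 q (by exact_mod_cast hht)
  have hdim : ringKrullDim (Localization.AtPrime q) ≤ 1 := by
    rw [IsLocalization.AtPrime.ringKrullDim_eq_height q]
    exact_mod_cast hht
  obtain ⟨-, hic⟩ := isDomain_and_isIntegrallyClosed_of_isRegularLocalRing_of_dim_le_one hreg hdim
  have hx' : IsIntegral (Localization.AtPrime q) x := hx.tower_top
  exact IsIntegrallyClosed.algebraMap_eq_of_integral hx'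

end NormalStep

section SerreNormal

variable (R : Type u) [CommRing R] [IsNoetherianRing R]

/-- **Serre's normality criterion**: a Noetherian ring has all its local rings integrally closed
domains iff it satisfies `(R_1)` and `(S_2)`. -/
theorem forall_isIntegrallyClosed_localization_iff_hasRk_one_and_hasSk_two :
    (∀ (p : Ideal R) [p.IsPrime], IsDomain (Localization.AtPrime p) ∧
      IsIntegrallyClosed (Localization.AtPrime p)) ↔ (LocCoh.HasRk 1 R ∧ LocCoh.HasSk 2 R R) := by
  constructor
  · intro h
    constructor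
    · intro p hp hht
      obtain ⟨hdom, hic⟩ := h p
      apply isRegularLocalRing_of_isIntegrallyClosed_of_dim_le_one
      rw [IsLocalization.AtPrime.ringKrullDim_eq_height p]
      exact_mod_cast hht
    · rw [hasSk_self_iff]
      intro p hp
      obtain ⟨hdom, hic⟩ := h p
      rcases le_or_gt (2 : ℕ∞) p.height with h2 | h2
      · have hdim : (2 : WithBot ℕ∞) ≤ ringKrullDim (Localization.AtPrime p) := by
          rw [IsLocalization.AtPrime.ringKrullDim_eq_height p]
          have := WithBot.coe_le_coe.mpr h2
          simpa using this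
        have hd := two_le_depth_of_isIntegrallyClosed_of_two_le_dim hdim
        refine (min_le_left _ _).trans ?_
        have := WithBot.coe_le_coe.mpr hd
        simpa using this
      · refine (min_le_right _ _).trans ?_
        apply WithBot.coe_le_coe.mpr
        have hle1 : p.height ≤ 1 := by
          have : p.height < 1 + 1 := by rwa [one_add_one_eq_two]
          exact (ENat.lt_add_one_iff (by simp)).mp this
        rcases eq_or_ne p.height 0 with h0 | h0
        · rw [h0]; exact zero_le
        · have h1 : p.height = 1 := le_antisymm hle1 (Order.one_le_iff_pos.mpr (pos_iff_ne_zero.mpr h0))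
          rw [h1]
          -- depth at least one: not a field
          rw [Order.one_le_iff_pos, pos_iff_ne_zero]
          intro hd0
          have hf : IsField (Localization.AtPrime p) := depth_self_eq_zero_iff_isField.mp hd0
          have hk : ringKrullDim (Localization.AtPrime p) = 0 := ringKrullDim_eq_zero_of_isField hf
          rw [IsLocalization.AtPrime.ringKrullDim_eq_height p, h1] at hk
          exact absurd hk (by norm_num)
  · rintro ⟨hR1, hS2⟩ p hp
    have hdom := isDomain_localization_of_hasRk_one_of_hasSk_two hR1 hS2 p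
    exact ⟨hdom, isIntegrallyClosed_of_hasRk_one_of_hasSk_two
      (hasRk_localization_atPrime p hR1) (hasSk_localization_atPrime p hS2)⟩

end SerreNormal

end Groth.Agent.Lib.Helper28
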