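import Mathlib

/-!
# Regular local rings: embedding dimension of quotients (helper5)

* `maximalIdeal_quotient_eq_map`: `m_{R/I} = m_R (R/I)`.
* `cotV I`: the image of `I` in the cotangent space `m/m²`.
* `spanFinrank_maximalIdeal_quotient_add_finrank_cotV`: `embdim (R/I) + dim_k V(I) = embdim R`.
-/

set_option autoImplicit false
universe u

namespace Groth.Agent.Lib.Helper5

open IsLocalRing Module

section

variable {R : Type u} [CommRing R] [IsLocalRing R]

theorem isLocalRing_quotient {I : Ideal R} (hI : I ≠ ⊤) : IsLocalRing (R ⧸ I) := by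
  have : Nontrivial (R ⧸ I) := Ideal.Quotient.nontrivial_iff.mpr hI
  exact IsLocalRing.of_surjective' (Ideal.Quotient.mk I) Ideal.Quotient.mk_surjective

theorem ne_top_of_isLocalRing_quotient (I : Ideal R) [IsLocalRing (R ⧸ I)] : I ≠ ⊤ :=
  Ideal.Quotient.nontrivial_iff.mp inferInstance

theorem le_maximalIdeal_of_isLocalRing_quotient (I : Ideal R) [IsLocalRing (R ⧸ I)] :
    I ≤ maximalIdeal R :=
  IsLocalRing.le_maximalIdeal (ne_top_of_isLocalRing_quotient I)

theorem mk_mem_maximalIdeal_quotient_iff (I : Ideal R) [IsLocalRing (R ⧸ I)] (x : R) :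
    Ideal.Quotient.mk I x ∈ maximalIdeal (R ⧸ I) ↔ x ∈ maximalIdeal R := by
  rw [mem_maximalIdeal, mem_maximalIdeal, mem_nonunits_iff, mem_nonunits_iff, not_iff_not]
  constructor
  · intro h
    obtain ⟨y, hy⟩ := h.exists_right_inv
    obtain ⟨z, rfl⟩ := Ideal.Quotient.mk_surjective y
    rw [← map_mul, ← map_one (Ideal.Quotient.mk I), Ideal.Quotient.eq] at hy
    have h1 : x * z - 1 ∈ maximalIdeal R := le_maximalIdeal_of_isLocalRing_quotient I hy
    have h2 : IsUnit (x * z) := by
      by_contra hcon
      have h3 : x * z ∈ maximalIdeal R := hcon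
      have h4 : (1 : R) ∈ maximalIdeal R := by
        have := (maximalIdeal R).sub_mem h3 h1
        simpa using this
      exact (maximalIdeal.isMaximal R).ne_top ((Ideal.eq_top_iff_one _).mpr h4)
    exact isUnit_of_mul_isUnit_left h2
  · intro h
    exact h.map _

theorem maximalIdeal_quotient_eq_map (I : Ideal R) [IsLocalRing (R ⧸ I)] :
    maximalIdeal (R ⧸ I) = (maximalIdeal R).map (Ideal.Quotient.mk I) := by
  apply le_antisymm
  · intro y hy
    obtain ⟨x, rfl⟩ := Ideal.Quotient.mk_surjective y
    exact Ideal.mem_map_of_mem _ ((mk_mem_maximalIdeal_quotient_iff I x).mp hy)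
  · rw [Ideal.map_le_iff_le_comap]
    intro x hx
    exact (mk_mem_maximalIdeal_quotient_iff I x).mpr hx

/-- The image of `I` in the cotangent space. -/
noncomputable def cotV (I : Ideal R) : Submodule (ResidueField R) (CotangentSpace R) :=
  Submodule.span (ResidueField R)
    ((maximalIdeal R).toCotangent '' {z : maximalIdeal R | (z : R) ∈ I})

theorem toCotangent_mem_cotV {I : Ideal R} (z : maximalIdeal R) (hz : (z : R) ∈ I) :
    (maximalIdeal R).toCotangent z ∈ cotV I :=
  Submodule.subset_span ⟨z, hz, rfl⟩

end

section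

variable {R : Type u} [CommRing R] [IsLocalRing R] [IsNoetherianRing R]

/-- If `m = span G + I` (with `G ⊆ m`), then the images of `G` and `I` span the cotangent space. -/
theorem span_toCotangent_sup_cotV_eq_top {I : Ideal R} (hI : I ≤ maximalIdeal R) {G : Set R}
    (hG : G ⊆ maximalIdeal R) (h : Ideal.span G ⊔ I = maximalIdeal R) :
    Submodule.span (ResidueField R)
      ((maximalIdeal R).toCotangent '' {z : maximalIdeal R | (z : R) ∈ G}) ⊔ cotV I = ⊤ := by
  rw [cotV, ← Submodule.span_union, ← Set.image_union,
    CotangentSpace.span_image_eq_top_iff]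
  apply Submodule.map_injective_of_injective (maximalIdeal R).injective_subtype
  rw [Submodule.map_span, Submodule.map_top, Submodule.range_subtype, Set.image_union]
  have h1 : (maximalIdeal R).subtype '' {z : maximalIdeal R | (z : R) ∈ G} = G := by
    ext x
    constructor
    · rintro ⟨z, hz, rfl⟩
      exact hz
    · intro hx
      exact ⟨⟨x, hG hx⟩, hx, rfl⟩
  have h2 : (maximalIdeal R).subtype '' {z : maximalIdeal R | (z : R) ∈ I} = (I : Set R) := by
    ext x
    constructor
    · rintro ⟨z, hz, rfl⟩
      exact hz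
    · intro hx
      exact ⟨⟨x, hI hx⟩, hx, rfl⟩
  rw [h1, h2, Submodule.span_union]
  have h3 : Submodule.span R (I : Set R) = I := Submodule.span_eq I
  rw [h3]
  exact h

/-- Conversely. -/
theorem span_sup_eq_maximalIdeal_of_span_toCotangent_sup_cotV {I : Ideal R}
    (hI : I ≤ maximalIdeal R) {G : Set R} (hG : G ⊆ maximalIdeal R)
    (h : Submodule.span (ResidueField R)
      ((maximalIdeal R).toCotangent '' {z : maximalIdeal R | (z : R) ∈ G}) ⊔ cotV I = ⊤) :
    Ideal.span G ⊔ I = maximalIdeal R := by
  rw [cotV, ← Submodule.span_union, ← Set.image_union,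
    CotangentSpace.span_image_eq_top_iff] at h
  have h0 := congrArg (Submodule.map (maximalIdeal R).subtype) h
  rw [Submodule.map_span, Submodule.map_top, Submodule.range_subtype, Set.image_union] at h0
  have h1 : (maximalIdeal R).subtype '' {z : maximalIdeal R | (z : R) ∈ G} = G := by
    ext x
    constructor
    · rintro ⟨z, hz, rfl⟩
      exact hz
    · intro hx
      exact ⟨⟨x, hG hx⟩, hx, rfl⟩
  have h2 : (maximalIdeal R).subtype '' {z : maximalIdeal R | (z : R) ∈ I} = (I : Set R) := by
    ext x
    constructor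
    · rintro ⟨z, hz, rfl⟩
      exact hz
    · intro hx
      exact ⟨⟨x, hI hx⟩, hx, rfl⟩
  rw [h1, h2, Submodule.span_union] at h0
  have h3 : Submodule.span R (I : Set R) = I := Submodule.span_eq I
  rw [h3] at h0
  exact h0

end

section

variable {R : Type u} [CommRing R] [IsLocalRing R] [IsNoetherianRing R]

/-- `embdim R ≤ embdim (R/I) + dim V(I)`. -/
theorem spanFinrank_maximalIdeal_le_quotient_add (I : Ideal R) [IsLocalRing (R ⧸ I)] :
    (maximalIdeal R).spanFinrank ≤
      (maximalIdeal (R ⧸ I)).spanFinrank + finrank (ResidueField R) (cotV I) := by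
  classical
  have hI : I ≤ maximalIdeal R := le_maximalIdeal_of_isLocalRing_quotient I
  have hfg : (maximalIdeal (R ⧸ I)).FG := (maximalIdeal (R ⧸ I)).fg_of_isNoetherianRing
  obtain ⟨F', hF'card, hF'span⟩ := Submodule.FG.exists_span_finset_card_eq_spanFinrank hfg
  -- lifts
  have hsurj : Function.Surjective (Ideal.Quotient.mk I) := Ideal.Quotient.mk_surjective
  let σ : R ⧸ I → R := Function.surjInv hsurj
  have hσ : ∀ y, Ideal.Quotient.mk I (σ y) = y := Function.surjInv_eq hsurj
  let G : Finset R := F'.image σ
  have hGm : (G : Set R) ⊆ maximalIdeal R := by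
    intro x hx
    rw [Finset.mem_coe, Finset.mem_image] at hx
    obtain ⟨y, hy, rfl⟩ := hx
    rw [SetLike.mem_coe, ← mk_mem_maximalIdeal_quotient_iff I, hσ]
    rw [← hF'span]
    exact Submodule.subset_span hy
  have hmapG : (Ideal.span (G : Set R)).map (Ideal.Quotient.mk I) = maximalIdeal (R ⧸ I) := by
    rw [Ideal.map_span, ← hF'span]
    congr 1
    ext y
    simp only [G, Finset.coe_image, Set.mem_image, Finset.mem_coe]
    constructor
    · rintro ⟨x, ⟨z, hz, rfl⟩, rfl⟩
      rw [hσ]; exact hz
    · intro hy
      exact ⟨σ y, ⟨y, hy, rfl⟩, hσ y⟩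
  have hsup : Ideal.span (G : Set R) ⊔ I = maximalIdeal R := by
    have h1 := Ideal.comap_map_of_surjective (Ideal.Quotient.mk I) hsurj (Ideal.span (G : Set R))
    have h2 := Ideal.comap_map_of_surjective (Ideal.Quotient.mk I) hsurj (maximalIdeal R)
    rw [hmapG] at h1
    rw [← maximalIdeal_quotient_eq_map] at h2
    rw [h2] at h1
    have h3 : Ideal.comap (Ideal.Quotient.mk I) ⊥ = I := by
      rw [← RingHom.ker_eq_comap_bot, Ideal.mk_ker]
    rw [h3] at h1
    rw [← h1, sup_eq_left.mpr hI]
  have htop := span_toCotangent_sup_cotV_eq_top hI hGm hsup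
  have h4 : finrank (ResidueField R) (CotangentSpace R) ≤
      finrank (ResidueField R) (Submodule.span (ResidueField R)
        ((maximalIdeal R).toCotangent '' {z : maximalIdeal R | (z : R) ∈ (G : Set R)})) +
      finrank (ResidueField R) (cotV I) := by
    rw [← finrank_top (ResidueField R) (CotangentSpace R), ← htop]
    exact Submodule.finrank_add_le_finrank_add_finrank _ _
  -- the span of the images of `G` has dimension at most `card G`
  have h5 : finrank (ResidueField R) (Submodule.span (ResidueField R)
        ((maximalIdeal R).toCotangent '' {z : maximalIdeal R | (z : R) ∈ (G : Set R)})) ≤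
      F'.card := by
    -- the image set is the image of a finset
    let G' : Finset (CotangentSpace R) :=
      (G.attach.image fun x => (maximalIdeal R).toCotangent ⟨x.1, hGm x.2⟩)
    have h6 : (maximalIdeal R).toCotangent '' {z : maximalIdeal R | (z : R) ∈ (G : Set R)} =
        (G' : Set (CotangentSpace R)) := by
      ext t
      constructor
      · rintro ⟨z, hz, rfl⟩
        rw [Finset.mem_coe, Finset.mem_image]
        exact ⟨⟨z.1, Finset.mem_coe.mp hz⟩, Finset.mem_attach _ _, rfl⟩
      · intro ht
        rw [Finset.mem_coe, Finset.mem_image] at ht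
        obtain ⟨x, _, rfl⟩ := ht
        exact ⟨⟨x.1, hGm x.2⟩, x.2, rfl⟩
    rw [h6]
    calc finrank (ResidueField R) (Submodule.span (ResidueField R) (G' : Set (CotangentSpace R)))
        ≤ G'.card := finrank_span_finset_le_card G'
      _ ≤ G.attach.card := Finset.card_image_le
      _ = G.card := Finset.card_attach
      _ ≤ F'.card := Finset.card_image_le
  rw [spanFinrank_maximalIdeal_eq_finrank_cotangentSpace, ← hF'card]
  omega

end

section

variable {R : Type u} [CommRing R] [IsLocalRing R] [IsNoetherianRing R]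

/-- `embdim (R/I) + dim V(I) ≤ embdim R`. -/
theorem spanFinrank_maximalIdeal_quotient_add_le (I : Ideal R) [IsLocalRing (R ⧸ I)] :
    (maximalIdeal (R ⧸ I)).spanFinrank + finrank (ResidueField R) (cotV I) ≤
      (maximalIdeal R).spanFinrank := by
  classical
  have hI : I ≤ maximalIdeal R := le_maximalIdeal_of_isLocalRing_quotient I
  obtain ⟨U, hU⟩ := Submodule.exists_isCompl (cotV I)
  -- `hU : IsCompl (cotV I) U`
  have hdim : finrank (ResidueField R) (cotV I) + finrank (ResidueField R) U =
      finrank (ResidueField R) (CotangentSpace R) := Submodule.finrank_add_eq_of_isCompl hU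
  let b := Module.finBasis (ResidueField R) U
  have hsurj := (maximalIdeal R).toCotangent_surjective
  let y : Fin (finrank (ResidueField R) U) → maximalIdeal R :=
    fun j => Function.surjInv hsurj (b j : CotangentSpace R)
  have hy : ∀ j, (maximalIdeal R).toCotangent (y j) = (b j : CotangentSpace R) :=
    fun j => Function.surjInv_eq hsurj _
  let Y : Finset R := Finset.univ.image fun j => (y j : R)
  have hYm : (Y : Set R) ⊆ maximalIdeal R := by
    intro x hx
    rw [Finset.mem_coe, Finset.mem_image] at hx
    obtain ⟨j, _, rfl⟩ := hx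
    exact (y j).2
  have hUle : U ≤ Submodule.span (ResidueField R)
      ((maximalIdeal R).toCotangent '' {z : maximalIdeal R | (z : R) ∈ (Y : Set R)}) := by
    intro t ht
    have h1 : (⟨t, ht⟩ : U) ∈ Submodule.span (ResidueField R) (Set.range b) := by
      rw [b.span_eq]; trivial
    have h2 : t ∈ Submodule.map U.subtype (Submodule.span (ResidueField R) (Set.range b)) :=
      ⟨⟨t, ht⟩, h1, rfl⟩
    rw [Submodule.map_span] at h2
    refine Submodule.span_mono ?_ h2
    rintro _ ⟨_, ⟨j, rfl⟩, rfl⟩
    refine ⟨y j, ?_, hy j⟩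
    change ((y j : R)) ∈ (Y : Set R)
    rw [Finset.mem_coe, Finset.mem_image]
    exact ⟨j, Finset.mem_univ _, rfl⟩
  have htop : Submodule.span (ResidueField R)
      ((maximalIdeal R).toCotangent '' {z : maximalIdeal R | (z : R) ∈ (Y : Set R)}) ⊔ cotV I = ⊤ := by
    rw [eq_top_iff, ← hU.symm.sup_eq_top]
    exact sup_le_sup_right hUle _
  have hsup := span_sup_eq_maximalIdeal_of_span_toCotangent_sup_cotV hI hYm htop
  -- now count generators of the maximal ideal of the quotient
  have hmap : maximalIdeal (R ⧸ I) = Ideal.span ((Y.image (Ideal.Quotient.mk I) : Finset (R ⧸ I)) : Set (R ⧸ I)) := by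
    rw [maximalIdeal_quotient_eq_map, ← hsup, Ideal.map_sup, Ideal.map_span, Ideal.map_quotient_self,
      sup_bot_eq]
    congr 1
    exact (Finset.coe_image (f := Ideal.Quotient.mk I) (s := Y)).symm
  have h3 : (maximalIdeal (R ⧸ I)).spanFinrank ≤ finrank (ResidueField R) U := by
    rw [hmap]
    calc (Ideal.span ((Y.image (Ideal.Quotient.mk I) : Finset (R ⧸ I)) : Set (R ⧸ I))).spanFinrank
        ≤ ((Y.image (Ideal.Quotient.mk I) : Finset (R ⧸ I)) : Set (R ⧸ I)).ncard :=
          Submodule.spanFinrank_span_le_ncard_of_finite (Finset.finite_toSet _)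
      _ = (Y.image (Ideal.Quotient.mk I)).card := Set.ncard_coe_finset _
      _ ≤ Y.card := Finset.card_image_le
      _ ≤ (Finset.univ : Finset (Fin (finrank (ResidueField R) U))).card := Finset.card_image_le
      _ = finrank (ResidueField R) U := by rw [Finset.card_univ, Fintype.card_fin]
  rw [spanFinrank_maximalIdeal_eq_finrank_cotangentSpace (R := R)]
  omega

/-- `embdim (R/I) + dim V(I) = embdim R`. -/
theorem spanFinrank_maximalIdeal_quotient_add_finrank_cotV (I : Ideal R) [IsLocalRing (R ⧸ I)] :
    (maximalIdeal (R ⧸ I)).spanFinrank + finrank (ResidueField R) (cotV I) =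
      (maximalIdeal R).spanFinrank :=
  le_antisymm (spanFinrank_maximalIdeal_quotient_add_le I) (spanFinrank_maximalIdeal_le_quotient_add I)

end

section

variable {R : Type u} [CommRing R] [IsLocalRing R] [IsNoetherianRing R]

theorem exists_nat_ringKrullDim_eq (R : Type u) [CommRing R] [IsLocalRing R] [IsNoetherianRing R] :
    ∃ n : ℕ, ringKrullDim R = n := by
  have h1 := ringKrullDim_ne_top (R := R)
  have h2 := ringKrullDim_ne_bot (R := R)
  obtain ⟨a, ha⟩ := WithBot.ne_bot_iff_exists.mp h2
  have h3 : a ≠ ⊤ := fun h => h1 (by rw [← ha, h]; rfl)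
  obtain ⟨n, rfl⟩ := ENat.ne_top_iff_exists.mp h3
  exact ⟨n, ha.symm⟩

/-- `V((x₁,…,x_r))` is spanned by the classes of the `x_i`. -/
theorem cotV_span_range {r : ℕ} (x : Fin r → maximalIdeal R) :
    cotV (Ideal.span (Set.range fun i => (x i : R))) =
      Submodule.span (ResidueField R) (Set.range fun i => (maximalIdeal R).toCotangent (x i)) := by
  have h1 : Ideal.span (Set.range fun i => (x i : R)) =
      Submodule.map (maximalIdeal R).subtype (Submodule.span R (Set.range x)) := by
    rw [Submodule.map_span, ← Set.range_comp]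
    rfl
  have h2 : {z : maximalIdeal R | (z : R) ∈ Ideal.span (Set.range fun i => (x i : R))} =
      (Submodule.span R (Set.range x) : Set (maximalIdeal R)) := by
    ext z
    rw [Set.mem_setOf_eq, h1, SetLike.mem_coe]
    constructor
    · rintro ⟨w, hw, hwz⟩
      have : w = z := Subtype.ext hwz
      rwa [← this]
    · intro hz
      exact ⟨z, hz, rfl⟩
  rw [cotV, h2, ← Submodule.map_coe, Submodule.map_span, ← Set.range_comp,
    Submodule.span_span_of_tower]
  rfl

theorem finrank_cotV_span_range_le {r : ℕ} (x : Fin r → maximalIdeal R) :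
    finrank (ResidueField R) (cotV (Ideal.span (Set.range fun i => (x i : R)))) ≤ r := by
  rw [cotV_span_range]
  have := finrank_range_le_card (R := ResidueField R)
    (fun i => (maximalIdeal R).toCotangent (x i))
  simpa [Set.finrank] using this

theorem finrank_cotV_span_range_of_linearIndependent {r : ℕ} (x : Fin r → maximalIdeal R)
    (hli : LinearIndependent (ResidueField R) (fun i => (maximalIdeal R).toCotangent (x i))) :
    finrank (ResidueField R) (cotV (Ideal.span (Set.range fun i => (x i : R)))) = r := by
  rw [cotV_span_range, finrank_span_eq_card hli, Fintype.card_fin]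

theorem span_range_le_maximalIdeal {r : ℕ} (x : Fin r → maximalIdeal R) :
    Ideal.span (Set.range fun i => (x i : R)) ≤ maximalIdeal R := by
  rw [Ideal.span_le]
  rintro _ ⟨i, rfl⟩
  exact (x i).2

theorem isLocalRing_quotient_span_range {r : ℕ} (x : Fin r → maximalIdeal R) :
    IsLocalRing (R ⧸ Ideal.span (Set.range fun i => (x i : R))) :=
  isLocalRing_quotient (fun h => (maximalIdeal.isMaximal R).ne_top
    (top_le_iff.mp (h ▸ span_range_le_maximalIdeal x)))

/-- `dim R ≤ dim R/(x₁,…,x_r) + r`. -/
theorem ringKrullDim_le_quotient_span_range_add {r : ℕ} (x : Fin r → maximalIdeal R) :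
    ringKrullDim R ≤ ringKrullDim (R ⧸ Ideal.span (Set.range fun i => (x i : R))) + r := by
  classical
  have h1 := ringKrullDim_le_ringKrullDim_quotient_add_card
    (Finset.univ.image fun i => (x i : R)) (by
      intro y hy
      rw [Finset.mem_coe, Finset.mem_image] at hy
      obtain ⟨i, _, rfl⟩ := hy
      rw [IsLocalRing.ringJacobson_eq_maximalIdeal]
      exact (x i).2)
  have h2 : ((Finset.univ.image fun i => (x i : R) : Finset R) : Set R) =
      Set.range fun i => (x i : R) := by
    rw [Finset.coe_image, Finset.coe_univ, Set.image_univ]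
  rw [h2] at h1
  refine h1.trans (add_le_add le_rfl ?_)
  have h3 : (Finset.univ.image fun i => (x i : R)).card ≤ r := by
    calc (Finset.univ.image fun i => (x i : R)).card ≤ (Finset.univ : Finset (Fin r)).card :=
          Finset.card_image_le
      _ = r := by rw [Finset.card_univ, Fintype.card_fin]
  exact_mod_cast h3

/-- EGA 0_IV 17.1.7, one direction: quotient of a regular local ring by part of a regular system of
parameters. -/
theorem isRegularLocalRing_quotient_of_linearIndependent [IsRegularLocalRing R] {r : ℕ}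
    (x : Fin r → maximalIdeal R)
    (hli : LinearIndependent (ResidueField R) (fun i => (maximalIdeal R).toCotangent (x i)))
    [IsLocalRing (R ⧸ Ideal.span (Set.range fun i => (x i : R)))] :
    IsRegularLocalRing (R ⧸ Ideal.span (Set.range fun i => (x i : R))) ∧
      ringKrullDim (R ⧸ Ideal.span (Set.range fun i => (x i : R))) + r = ringKrullDim R := by
  obtain ⟨d, hd⟩ := exists_nat_ringKrullDim_eq R
  obtain ⟨d', hd'⟩ := exists_nat_ringKrullDim_eq (R ⧸ Ideal.span (Set.range fun i => (x i : R)))
  have hA := spanFinrank_maximalIdeal_quotient_add_finrank_cotV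
    (Ideal.span (Set.range fun i => (x i : R)))
  rw [finrank_cotV_span_range_of_linearIndependent x hli] at hA
  have hreg : ((maximalIdeal R).spanFinrank : WithBot ℕ∞) = ringKrullDim R :=
    IsRegularLocalRing.spanFinrank_maximalIdeal
  have h1 := ringKrullDim_le_quotient_span_range_add x
  have h2 := ringKrullDim_le_spanFinrank_maximalIdeal
    (R ⧸ Ideal.span (Set.range fun i => (x i : R)))
  rw [hd] at hreg h1
  rw [hd'] at h1 h2
  have hreg' : (maximalIdeal R).spanFinrank = d := by exact_mod_cast hreg
  have h1' : d ≤ d' + r := by exact_mod_cast h1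
  have h2' : d' ≤ (maximalIdeal (R ⧸ Ideal.span (Set.range fun i => (x i : R)))).spanFinrank := by
    exact_mod_cast h2
  have h3 : (maximalIdeal (R ⧸ Ideal.span (Set.range fun i => (x i : R)))).spanFinrank = d' := by
    omega
  refine ⟨?_, ?_⟩
  · rw [isRegularLocalRing_iff, hd', h3]
  · rw [hd, hd']
    have : d' + r = d := by omega
    exact_mod_cast this

/-- EGA 0_IV 17.1.7, other direction. -/
theorem isRegularLocalRing_of_quotient_span_range {r : ℕ} (x : Fin r → maximalIdeal R)
    [IsRegularLocalRing (R ⧸ Ideal.span (Set.range fun i => (x i : R)))]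
    (hdim : ringKrullDim (R ⧸ Ideal.span (Set.range fun i => (x i : R))) + r = ringKrullDim R) :
    IsRegularLocalRing R ∧
      LinearIndependent (ResidueField R) (fun i => (maximalIdeal R).toCotangent (x i)) := by
  obtain ⟨d, hd⟩ := exists_nat_ringKrullDim_eq R
  obtain ⟨d', hd'⟩ := exists_nat_ringKrullDim_eq (R ⧸ Ideal.span (Set.range fun i => (x i : R)))
  have hA := spanFinrank_maximalIdeal_quotient_add_finrank_cotV
    (Ideal.span (Set.range fun i => (x i : R)))
  have hV := finrank_cotV_span_range_le x
  have hreg : ((maximalIdeal (R ⧸ Ideal.span (Set.range fun i => (x i : R)))).spanFinrank :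
      WithBot ℕ∞) = ringKrullDim (R ⧸ Ideal.span (Set.range fun i => (x i : R))) :=
    IsRegularLocalRing.spanFinrank_maximalIdeal
  have h2 := ringKrullDim_le_spanFinrank_maximalIdeal R
  rw [hd, hd'] at hdim
  rw [hd'] at hreg
  rw [hd] at h2
  have hreg' : (maximalIdeal (R ⧸ Ideal.span (Set.range fun i => (x i : R)))).spanFinrank = d' := by
    exact_mod_cast hreg
  have hdim' : d' + r = d := by exact_mod_cast hdim
  have h2' : d ≤ (maximalIdeal R).spanFinrank := by exact_mod_cast h2
  refine ⟨?_, ?_⟩
  · rw [isRegularLocalRing_iff, hd]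
    have : (maximalIdeal R).spanFinrank = d := by omega
    rw [this]
  · have key : r = finrank (ResidueField R) (cotV (Ideal.span (Set.range fun i => (x i : R)))) := by
      omega
    rw [linearIndependent_iff_card_eq_finrank_span, Fintype.card_fin, Set.finrank,
      ← cotV_span_range]
    exact key

end

section

variable {R : Type u} [CommRing R] [IsLocalRing R] [IsNoetherianRing R]

/-- Quotient of a regular local ring by one element of `m ∖ m²`. -/
theorem isRegularLocalRing_quotient_span_singleton [IsRegularLocalRing R] {x : R}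
    (hx : x ∈ maximalIdeal R) (hx2 : x ∉ maximalIdeal R ^ 2)
    [IsLocalRing (R ⧸ Ideal.span ({x} : Set R))] :
    IsRegularLocalRing (R ⧸ Ideal.span ({x} : Set R)) ∧
      ringKrullDim (R ⧸ Ideal.span ({x} : Set R)) + 1 = ringKrullDim R := by
  have hne : (maximalIdeal R).toCotangent ⟨x, hx⟩ ≠ 0 := by
    rw [Ne, Ideal.toCotangent_eq_zero]
    exact hx2
  have hli : LinearIndependent (ResidueField R)
      (fun i : Fin 1 => (maximalIdeal R).toCotangent ((fun _ : Fin 1 => (⟨x, hx⟩ : maximalIdeal R)) i)) := by
    rw [linearIndependent_unique_iff]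
    exact hne
  have hrange : (Set.range fun i : Fin 1 => (((fun _ : Fin 1 => (⟨x, hx⟩ : maximalIdeal R)) i : maximalIdeal R) : R)) = {x} := by
    simp
  have hloc : IsLocalRing (R ⧸ Ideal.span (Set.range fun i : Fin 1 =>
      (((fun _ : Fin 1 => (⟨x, hx⟩ : maximalIdeal R)) i : maximalIdeal R) : R))) := by
    rw [hrange]; infer_instance
  have key := isRegularLocalRing_quotient_of_linearIndependent
    (fun _ : Fin 1 => (⟨x, hx⟩ : maximalIdeal R)) hli
  revert key hloc
  rw [hrange]
  intro _ key
  simpa using key

theorem exists_mem_maximalIdeal_not_mem_sq_not_mem_minimalPrimes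
    (hdim : ringKrullDim R ≠ 0) :
    ∃ x ∈ maximalIdeal R, x ∉ maximalIdeal R ^ 2 ∧ ∀ p ∈ minimalPrimes R, x ∉ p := by
  classical
  by_contra hcon
  push Not at hcon
  let S : Finset (Ideal R) :=
    insert (maximalIdeal R ^ 2) (minimalPrimes.finite_of_isNoetherianRing R).toFinset
  have hsub : ((maximalIdeal R : Ideal R) : Set R) ⊆ ⋃ i ∈ (↑S : Set (Ideal R)), ((id i : Ideal R) : Set R) := by
    intro x hx
    by_cases hx2 : x ∈ maximalIdeal R ^ 2
    · refine Set.mem_biUnion (x := maximalIdeal R ^ 2) ?_ hx2
      exact Finset.mem_coe.mpr (Finset.mem_insert_self _ _)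
    · obtain ⟨p, hp, hxp⟩ := hcon x hx hx2
      refine Set.mem_biUnion (x := p) ?_ hxp
      exact Finset.mem_coe.mpr (Finset.mem_insert_of_mem ((Set.Finite.mem_toFinset _).mpr hp))
  rw [Ideal.subset_union_prime (maximalIdeal R ^ 2) (maximalIdeal R ^ 2)] at hsub
  · obtain ⟨i, hi, hle⟩ := hsub
    rw [Finset.mem_insert] at hi
    rcases hi with rfl | hi
    · -- `m ≤ m²`
      have h1 : maximalIdeal R = ⊥ := by
        apply Submodule.eq_bot_of_le_smul_of_le_jacobson_bot (maximalIdeal R) (maximalIdeal R)
          (maximalIdeal R).fg_of_isNoetherianRing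
        · rw [smul_eq_mul, ← pow_two]; exact hle
        · rw [IsLocalRing.jacobson_eq_maximalIdeal ⊥ bot_ne_top]
      apply hdim
      have hfield : IsField R := IsLocalRing.isField_iff_maximalIdeal_eq.mpr h1
      exact ringKrullDim_eq_zero_of_isField hfield
    · rw [Set.Finite.mem_toFinset] at hi
      have h2 : maximalIdeal R = i := by
        have hi' : i.IsPrime := hi.1.1
        exact (maximalIdeal.isMaximal R).eq_of_le hi'.ne_top hle
      have h3 : (maximalIdeal R).height = 0 := by
        rw [Ideal.height_eq_zero_iff, h2]; exact hi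
      apply hdim
      rw [← IsLocalRing.maximalIdeal_height_eq_ringKrullDim, h3]
      rfl
  · intro i hi hne _
    rw [Finset.mem_insert] at hi
    rcases hi with rfl | hi
    · exact absurd rfl hne
    · rw [Set.Finite.mem_toFinset] at hi
      exact hi.1.1

end

section

/-- A regular local ring is a domain. -/
theorem isDomain_of_isRegularLocalRing_aux (d : ℕ) :
    ∀ (R : Type u) [CommRing R] [IsRegularLocalRing R], ringKrullDim R = d → IsDomain R := by
  induction d with
  | zero =>
    intro R _ _ hd
    have h1 : ((maximalIdeal R).spanFinrank : WithBot ℕ∞) = ringKrullDim R :=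
      IsRegularLocalRing.spanFinrank_maximalIdeal
    rw [hd] at h1
    have h2 : (maximalIdeal R).spanFinrank = 0 := by exact_mod_cast h1
    have h3 : maximalIdeal R = ⊥ :=
      (Submodule.spanFinrank_eq_zero_iff_eq_bot (maximalIdeal R).fg_of_isNoetherianRing).mp h2
    have hfield : IsField R := IsLocalRing.isField_iff_maximalIdeal_eq.mpr h3
    exact hfield.isDomain
  | succ d ih =>
    intro R _ _ hd
    have hdim : ringKrullDim R ≠ 0 := by
      rw [hd]
      intro h
      have : (d + 1 : ℕ) = 0 := by exact_mod_cast h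
      omega
    obtain ⟨x, hx, hx2, hxmin⟩ := exists_mem_maximalIdeal_not_mem_sq_not_mem_minimalPrimes hdim
    have hxle : Ideal.span ({x} : Set R) ≤ maximalIdeal R := by
      rw [Ideal.span_le, Set.singleton_subset_iff]; exact hx
    have hloc : IsLocalRing (R ⧸ Ideal.span ({x} : Set R)) :=
      isLocalRing_quotient (fun h => (maximalIdeal.isMaximal R).ne_top (top_le_iff.mp (h ▸ hxle)))
    obtain ⟨hreg, hdimq⟩ := isRegularLocalRing_quotient_span_singleton hx hx2
    have hdq : ringKrullDim (R ⧸ Ideal.span ({x} : Set R)) = d := by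
      obtain ⟨d', hd'⟩ := exists_nat_ringKrullDim_eq (R ⧸ Ideal.span ({x} : Set R))
      rw [hd', hd] at hdimq
      have : d' + 1 = d + 1 := by exact_mod_cast hdimq
      rw [hd']
      have : d' = d := by omega
      exact_mod_cast this
    have hdom : IsDomain (R ⧸ Ideal.span ({x} : Set R)) := ih _ hdq
    have hprime : (Ideal.span ({x} : Set R)).IsPrime :=
      (Ideal.Quotient.isDomain_iff_prime _).mp hdom
    obtain ⟨p, hp, hple⟩ := Ideal.exists_minimalPrimes_le (I := ⊥) (J := Ideal.span ({x} : Set R)) bot_le
    have hpprime : p.IsPrime := hp.1.1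
    have hxp : x ∉ p := hxmin p hp
    have hpbot : p = ⊥ := by
      apply Submodule.eq_bot_of_le_smul_of_le_jacobson_bot (maximalIdeal R) p
        p.fg_of_isNoetherianRing
      · intro y hy
        obtain ⟨a, rfl⟩ := Ideal.mem_span_singleton'.mp (hple hy)
        have ha : a ∈ p := (hpprime.mem_or_mem hy).resolve_right hxp
        rw [mul_comm]
        exact Submodule.smul_mem_smul hx ha
      · rw [IsLocalRing.jacobson_eq_maximalIdeal ⊥ bot_ne_top]
    rw [hpbot] at hpprime
    have : NoZeroDivisors R := ⟨fun {a b} hab => by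
      have := hpprime.mem_or_mem (show a * b ∈ (⊥ : Ideal R) by rw [hab]; exact Ideal.zero_mem _)
      simpa using this⟩
    exact NoZeroDivisors.to_isDomain R

theorem isDomain_of_isRegularLocalRing (R : Type u) [CommRing R] [IsRegularLocalRing R] :
    IsDomain R := by
  obtain ⟨d, hd⟩ := exists_nat_ringKrullDim_eq R
  exact isDomain_of_isRegularLocalRing_aux d R hd

end

section

variable {R : Type u} [CommRing R] [IsLocalRing R] [IsNoetherianRing R]

/-- Variant of `isRegularLocalRing_quotient_of_linearIndependent` with a free ideal variable. -/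
theorem isRegularLocalRing_quotient_of_linearIndependent' [IsRegularLocalRing R] {r : ℕ}
    (x : Fin r → maximalIdeal R)
    (hli : LinearIndependent (ResidueField R) (fun i => (maximalIdeal R).toCotangent (x i)))
    (J : Ideal R) (hJ : J = Ideal.span (Set.range fun i => (x i : R))) [IsLocalRing (R ⧸ J)] :
    IsRegularLocalRing (R ⧸ J) ∧ ringKrullDim (R ⧸ J) + r = ringKrullDim R := by
  subst hJ
  exact isRegularLocalRing_quotient_of_linearIndependent x hli

/-- Variant of `isRegularLocalRing_of_quotient_span_range` with a free ideal variable. -/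
theorem isRegularLocalRing_of_quotient_span_range' {r : ℕ} (x : Fin r → maximalIdeal R)
    (J : Ideal R) (hJ : J = Ideal.span (Set.range fun i => (x i : R)))
    [IsRegularLocalRing (R ⧸ J)] (hdim : ringKrullDim (R ⧸ J) + r = ringKrullDim R) :
    IsRegularLocalRing R ∧
      LinearIndependent (ResidueField R) (fun i => (maximalIdeal R).toCotangent (x i)) := by
  subst hJ
  exact isRegularLocalRing_of_quotient_span_range x hdim

/-- If `R/(x)` is regular and `x ∈ m` is a nonzerodivisor then `R` is regular (and `x ∉ m²`). -/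
theorem isRegularLocalRing_of_quotient_span_singleton {x : R} (hx : x ∈ maximalIdeal R)
    (hreg : x ∈ nonZeroDivisors R) [IsRegularLocalRing (R ⧸ Ideal.span ({x} : Set R))] :
    IsRegularLocalRing R ∧ x ∉ maximalIdeal R ^ 2 := by
  have hJ : Ideal.span ({x} : Set R) = Ideal.span (Set.range fun i : Fin 1 =>
      (((fun _ : Fin 1 => (⟨x, hx⟩ : maximalIdeal R)) i : maximalIdeal R) : R)) := by
    simp
  have h1 := ringKrullDim_quotient_succ_le_of_nonZeroDivisor hreg
  have h2 := ringKrullDim_le_quotient_span_range_add (fun _ : Fin 1 => (⟨x, hx⟩ : maximalIdeal R))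
  rw [← hJ] at h2
  have hdim : ringKrullDim (R ⧸ Ideal.span ({x} : Set R)) + (1 : ℕ) = ringKrullDim R :=
    le_antisymm (by exact_mod_cast h1) h2
  obtain ⟨h3, h4⟩ := isRegularLocalRing_of_quotient_span_range'
    (fun _ : Fin 1 => (⟨x, hx⟩ : maximalIdeal R)) _ hJ hdim
  refine ⟨h3, ?_⟩
  rw [linearIndependent_unique_iff] at h4
  intro hx2
  exact h4 ((Ideal.toCotangent_eq_zero _ _).mpr hx2)

end

section

variable {R : Type u} [CommRing R] [IsLocalRing R] [IsNoetherianRing R]

theorem mem_cotV_iff (I : Ideal R) (t : CotangentSpace R) :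
    t ∈ cotV I ↔ ∃ z : maximalIdeal R, (z : R) ∈ I ∧ (maximalIdeal R).toCotangent z = t := by
  constructor
  · intro ht
    induction ht using Submodule.span_induction with
    | mem t ht =>
      obtain ⟨z, hz, rfl⟩ := ht
      exact ⟨z, hz, rfl⟩
    | zero => exact ⟨0, I.zero_mem, map_zero _⟩
    | add t₁ t₂ _ _ h₁ h₂ =>
      obtain ⟨z₁, hz₁, rfl⟩ := h₁
      obtain ⟨z₂, hz₂, rfl⟩ := h₂
      exact ⟨z₁ + z₂, I.add_mem hz₁ hz₂, map_add _ _ _⟩
    | smul c t _ h =>
      obtain ⟨z, hz, rfl⟩ := h
      obtain ⟨a, rfl⟩ := IsLocalRing.residue_surjective c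
      refine ⟨a • z, I.mul_mem_left a hz, ?_⟩
      rw [map_smul]
      rfl
  · rintro ⟨z, hz, rfl⟩
    exact toCotangent_mem_cotV z hz

/-- If the classes of `x₁,…,x_r ∈ m` are linearly independent in `m/m²` (`R` regular), then
`(x₁,…,x_r)` is a prime ideal. -/
theorem isPrime_span_range_of_linearIndependent [IsRegularLocalRing R] {r : ℕ}
    (x : Fin r → maximalIdeal R)
    (hli : LinearIndependent (ResidueField R) (fun i => (maximalIdeal R).toCotangent (x i))) :
    (Ideal.span (Set.range fun i => (x i : R))).IsPrime := by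
  have hloc := isLocalRing_quotient_span_range x
  obtain ⟨hreg, _⟩ := isRegularLocalRing_quotient_of_linearIndependent x hli
  have := isDomain_of_isRegularLocalRing (R ⧸ Ideal.span (Set.range fun i => (x i : R)))
  exact (Ideal.Quotient.isDomain_iff_prime _).mp this

/-- If `R` and `R/I` are regular local rings, then `I` is generated by elements whose classes in
`m/m²` are linearly independent. -/
theorem exists_linearIndependent_span_range_eq [IsRegularLocalRing R] (I : Ideal R)
    [IsRegularLocalRing (R ⧸ I)] :
    ∃ (r : ℕ) (x : Fin r → maximalIdeal R),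
      LinearIndependent (ResidueField R) (fun i => (maximalIdeal R).toCotangent (x i)) ∧
        I = Ideal.span (Set.range fun i => (x i : R)) := by
  classical
  let b := Module.finBasis (ResidueField R) (cotV I)
  have hex : ∀ i, ∃ z : maximalIdeal R, (z : R) ∈ I ∧
      (maximalIdeal R).toCotangent z = (b i : CotangentSpace R) :=
    fun i => (mem_cotV_iff I _).mp (b i).2
  choose x hxI hxb using hex
  have hli : LinearIndependent (ResidueField R) (fun i => (maximalIdeal R).toCotangent (x i)) := by
    have h1 : (fun i => (maximalIdeal R).toCotangent (x i)) = fun i => ((cotV I).subtype (b i)) :=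
      funext hxb
    rw [h1]
    exact b.linearIndependent.map' (cotV I).subtype (Submodule.ker_subtype _)
  refine ⟨_, x, hli, ?_⟩
  -- `J ≤ I`
  have hJI : Ideal.span (Set.range fun i => (x i : R)) ≤ I := by
    rw [Ideal.span_le]
    rintro _ ⟨i, rfl⟩
    exact hxI i
  have hloc := isLocalRing_quotient_span_range x
  obtain ⟨hreg, hdimJ⟩ := isRegularLocalRing_quotient_of_linearIndependent x hli
  have hdom := isDomain_of_isRegularLocalRing (R ⧸ Ideal.span (Set.range fun i => (x i : R)))
  -- dimension of `R/I`
  obtain ⟨d, hd⟩ := exists_nat_ringKrullDim_eq R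
  obtain ⟨dI, hdI⟩ := exists_nat_ringKrullDim_eq (R ⧸ I)
  obtain ⟨dJ, hdJ⟩ := exists_nat_ringKrullDim_eq (R ⧸ Ideal.span (Set.range fun i => (x i : R)))
  have hA := spanFinrank_maximalIdeal_quotient_add_finrank_cotV I
  have hregR : ((maximalIdeal R).spanFinrank : WithBot ℕ∞) = ringKrullDim R :=
    IsRegularLocalRing.spanFinrank_maximalIdeal
  have hregI : ((maximalIdeal (R ⧸ I)).spanFinrank : WithBot ℕ∞) = ringKrullDim (R ⧸ I) :=
    IsRegularLocalRing.spanFinrank_maximalIdeal
  rw [hd] at hregR hdimJ
  rw [hdI] at hregI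
  rw [hdJ] at hdimJ
  have hregR' : (maximalIdeal R).spanFinrank = d := by exact_mod_cast hregR
  have hregI' : (maximalIdeal (R ⧸ I)).spanFinrank = dI := by exact_mod_cast hregI
  have hdimJ' : dJ + finrank (ResidueField R) (cotV I) = d := by exact_mod_cast hdimJ
  have hdIJ : dI = dJ := by omega
  -- if `I ≠ J` the dimension drops
  by_contra hne
  have hlt : Ideal.span (Set.range fun i => (x i : R)) < I := lt_of_le_of_ne hJI (Ne.symm hne)
  obtain ⟨a, haI, haJ⟩ := Set.exists_of_ssubset hlt
  have hane : Ideal.Quotient.mk (Ideal.span (Set.range fun i => (x i : R))) a ≠ 0 := by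
    rw [Ne, Ideal.Quotient.eq_zero_iff_mem]
    exact haJ
  have hnzd : Ideal.Quotient.mk (Ideal.span (Set.range fun i => (x i : R))) a ∈
      nonZeroDivisors (R ⧸ Ideal.span (Set.range fun i => (x i : R))) :=
    mem_nonZeroDivisors_of_ne_zero hane
  have h5 := ringKrullDim_succ_le_of_surjective (Ideal.Quotient.factor hJI)
    (Ideal.Quotient.factor_surjective hJI) hnzd (by
      rw [Ideal.Quotient.factor_mk, Ideal.Quotient.eq_zero_iff_mem]
      exact haI)
  rw [hdI, hdJ] at h5
  have h5' : dI + 1 ≤ dJ := by exact_mod_cast h5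
  omega

end

section

variable {R : Type u} [CommRing R] [IsLocalRing R] [IsNoetherianRing R]

/-- A regular system of parameters has linearly independent classes in `m/m²`. -/
theorem linearIndependent_toCotangent_of_span_eq [IsRegularLocalRing R] {d : ℕ}
    (hd : ringKrullDim R = d) (x : Fin d → maximalIdeal R)
    (hx : Ideal.span (Set.range fun i => (x i : R)) = maximalIdeal R) :
    LinearIndependent (ResidueField R) (fun i => (maximalIdeal R).toCotangent (x i)) := by
  have h1 : Submodule.span R (Set.range x) = ⊤ := by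
    apply Submodule.map_injective_of_injective (maximalIdeal R).injective_subtype
    rw [Submodule.map_span, Submodule.map_top, Submodule.range_subtype, ← Set.range_comp]
    exact hx
  have h2 : Submodule.span (ResidueField R) ((maximalIdeal R).toCotangent '' Set.range x) = ⊤ :=
    CotangentSpace.span_image_eq_top_iff.mpr h1
  rw [← Set.range_comp] at h2
  apply linearIndependent_of_top_le_span_of_card_eq_finrank
  · rw [top_le_iff]
    exact h2
  · rw [Fintype.card_fin, ← spanFinrank_maximalIdeal_eq_finrank_cotangentSpace]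
    have hreg : ((maximalIdeal R).spanFinrank : WithBot ℕ∞) = ringKrullDim R :=
      IsRegularLocalRing.spanFinrank_maximalIdeal
    rw [hd] at hreg
    exact_mod_cast hreg.symm

/-- In a regular local ring of dimension `d`, any `d` generators of the maximal ideal form a regular
sequence. -/
theorem isRegular_ofFn_of_span_eq_maximalIdeal [IsRegularLocalRing R] {d : ℕ}
    (hd : ringKrullDim R = d) (x : Fin d → R)
    (hx : Ideal.span (Set.range x) = maximalIdeal R) :
    RingTheory.Sequence.IsRegular R (List.ofFn x) := by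
  classical
  have hxm : ∀ i, x i ∈ maximalIdeal R := fun i => hx ▸ Ideal.subset_span ⟨i, rfl⟩
  let x' : Fin d → maximalIdeal R := fun i => ⟨x i, hxm i⟩
  have hli := linearIndependent_toCotangent_of_span_eq hd x' hx
  have hofList : ∀ (n : ℕ) (y : Fin n → R), Ideal.ofList (List.ofFn y) = Ideal.span (Set.range y) := by
    intro n y
    rw [Ideal.ofList]
    congr 1
    ext a
    exact List.mem_ofFn' y a
  refine ⟨⟨fun i hi => ?_⟩, ?_⟩
  · rw [List.length_ofFn] at hi
    have hile : i ≤ d := hi.le
    -- the ideal generated by the first `i` elements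
    have hJ : Ideal.ofList ((List.ofFn x).take i) =
        Ideal.span (Set.range fun j : Fin i => ((x' (Fin.castLE hile j) : maximalIdeal R) : R)) := by
      rw [← Fin.ofFn_take_eq_take_ofFn hile, hofList]
      rfl
    have hli' : LinearIndependent (ResidueField R)
        (fun j : Fin i => (maximalIdeal R).toCotangent (x' (Fin.castLE hile j))) :=
      hli.comp (Fin.castLE hile) (Fin.castLE_injective hile)
    have hprime := isPrime_span_range_of_linearIndependent (fun j : Fin i => x' (Fin.castLE hile j)) hli'
    -- `x i ∉ J`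
    have hnot : x ⟨i, hi⟩ ∉ Ideal.span (Set.range fun j : Fin i =>
        ((x' (Fin.castLE hile j) : maximalIdeal R) : R)) := by
      intro hmem
      have h1 : (maximalIdeal R).toCotangent (x' ⟨i, hi⟩) ∈
          cotV (Ideal.span (Set.range fun j : Fin i => ((x' (Fin.castLE hile j) : maximalIdeal R) : R))) :=
        toCotangent_mem_cotV _ hmem
      rw [cotV_span_range] at h1
      have h2 := hli.notMem_span_image (s := {k : Fin d | (k : ℕ) < i}) (x := ⟨i, hi⟩) (by simp)
      apply h2
      refine Submodule.span_mono ?_ h1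
      rintro _ ⟨j, rfl⟩
      exact ⟨Fin.castLE hile j, by simp, rfl⟩
    have hget : (List.ofFn x)[i]'(by rw [List.length_ofFn]; exact hi) = x ⟨i, hi⟩ := by simp
    rw [hget, hJ, isSMulRegular_iff_right_eq_zero_of_smul]
    intro ybar hy
    obtain ⟨y, rfl⟩ := Submodule.Quotient.mk_surjective _ ybar
    rw [← Submodule.Quotient.mk_smul, Submodule.Quotient.mk_eq_zero, smul_eq_mul, Ideal.mul_top,
      smul_eq_mul] at hy
    rw [Submodule.Quotient.mk_eq_zero, smul_eq_mul, Ideal.mul_top]
    exact (hprime.mem_or_mem hy).resolve_left hnot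
  · rw [hofList, hx, smul_eq_mul, Ideal.mul_top]
    exact (maximalIdeal.isMaximal R).ne_top.symm

end

section

variable {R : Type u} [CommRing R] [IsLocalRing R] [IsNoetherianRing R]

/-- Elements of `m` with linearly independent classes can be completed to a minimal system of
generators of `m`. -/
theorem exists_extension_span_eq_maximalIdeal {r : ℕ} (y : Fin r → maximalIdeal R)
    (hli : LinearIndependent (ResidueField R) (fun i => (maximalIdeal R).toCotangent (y i))) :
    ∃ (s : ℕ) (z : Fin s → maximalIdeal R), r + s = (maximalIdeal R).spanFinrank ∧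
      Ideal.span (Set.range fun i => (z i : R)) ⊔ Ideal.span (Set.range fun i => (y i : R)) =
        maximalIdeal R := by
  classical
  obtain ⟨U, hU⟩ := Submodule.exists_isCompl (cotV (Ideal.span (Set.range fun i => (y i : R))))
  have hdim := Submodule.finrank_add_eq_of_isCompl hU
  rw [finrank_cotV_span_range_of_linearIndependent y hli,
    ← spanFinrank_maximalIdeal_eq_finrank_cotangentSpace] at hdim
  let b := Module.finBasis (ResidueField R) U
  have hsurj := (maximalIdeal R).toCotangent_surjective
  let z : Fin (finrank (ResidueField R) U) → maximalIdeal R :=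
    fun j => Function.surjInv hsurj (b j : CotangentSpace R)
  have hz : ∀ j, (maximalIdeal R).toCotangent (z j) = (b j : CotangentSpace R) :=
    fun j => Function.surjInv_eq hsurj _
  refine ⟨_, z, hdim, ?_⟩
  apply span_sup_eq_maximalIdeal_of_span_toCotangent_sup_cotV (span_range_le_maximalIdeal y)
  · rintro _ ⟨j, rfl⟩
    exact (z j).2
  · rw [eq_top_iff, ← hU.symm.sup_eq_top]
    refine sup_le_sup_right ?_ _
    intro t ht
    have h1 : (⟨t, ht⟩ : U) ∈ Submodule.span (ResidueField R) (Set.range b) := by
      rw [b.span_eq]; trivial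
    have h2 : t ∈ Submodule.map U.subtype (Submodule.span (ResidueField R) (Set.range b)) :=
      ⟨⟨t, ht⟩, h1, rfl⟩
    rw [Submodule.map_span] at h2
    refine Submodule.span_mono ?_ h2
    rintro _ ⟨_, ⟨j, rfl⟩, rfl⟩
    exact ⟨z j, ⟨j, rfl⟩, hz j⟩

/-- EGA 0_IV 17.1.9 / Stacks 00NR: if `R` and `R/I` are regular local rings, `dim R = d`, then there
is a regular system of parameters `x₁,…,x_d` such that `I = (x₁,…,x_c)`. -/
theorem exists_regular_system_of_parameters_of_quotient [IsRegularLocalRing R] {d : ℕ}
    (hd : ringKrullDim R = d) (I : Ideal R) [IsRegularLocalRing (R ⧸ I)] :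
    ∃ (x : Fin d → R) (c : ℕ) (hc : c ≤ d), Ideal.span (Set.range x) = maximalIdeal R ∧
      I = Ideal.span (Set.range (fun i : Fin c => x (Fin.castLE hc i))) := by
  obtain ⟨r, y, hli, hI⟩ := exists_linearIndependent_span_range_eq I
  obtain ⟨s, z, hrs, hsup⟩ := exists_extension_span_eq_maximalIdeal y hli
  have hreg : ((maximalIdeal R).spanFinrank : WithBot ℕ∞) = ringKrullDim R :=
    IsRegularLocalRing.spanFinrank_maximalIdeal
  rw [hd] at hreg
  have hreg' : (maximalIdeal R).spanFinrank = d := by exact_mod_cast hreg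
  have hdrs : d = r + s := by omega
  have hc : r ≤ d := by omega
  let w : Fin (r + s) → R := Fin.append (fun i => (y i : R)) (fun i => (z i : R))
  refine ⟨fun i => w (Fin.cast hdrs i), r, hc, ?_, ?_⟩
  · have h1 : Set.range (fun i => w (Fin.cast hdrs i)) = Set.range w :=
      (Fin.castOrderIso hdrs).surjective.range_comp w
    have hrange : Set.range w =
        Set.range (fun i => (y i : R)) ∪ Set.range (fun i => (z i : R)) := by
      ext a
      constructor
      · rintro ⟨i, rfl⟩
        refine Fin.addCases (fun j => ?_) (fun j => ?_) i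
        · left; exact ⟨j, by simp [w]⟩
        · right; exact ⟨j, by simp [w]⟩
      · rintro (⟨j, rfl⟩ | ⟨j, rfl⟩)
        · exact ⟨Fin.castAdd s j, by simp [w]⟩
        · exact ⟨Fin.natAdd r j, by simp [w]⟩
    rw [h1, hrange, Ideal.span_union, sup_comm]
    exact hsup
  · rw [hI]
    congr 2
    funext i
    have h2 : Fin.cast hdrs (Fin.castLE hc i) = Fin.castAdd s i := by
      apply Fin.ext; simp
    change (y i : R) = w (Fin.cast hdrs (Fin.castLE hc i))
    rw [h2]
    simp [w]

end

end Groth.Agent.Lib.Helper5
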