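import Groth.Agent.Lib.Helper28FGDim
import Groth.Agent.Lib.Helper5RLR
import Mathlib.RingTheory.Etale.StandardEtale
import Mathlib.RingTheory.Unramified.LocalRing
import Mathlib.RingTheory.Unramified.Locus
import Mathlib.RingTheory.RegularLocalRing.Defs
import Mathlib.RingTheory.AdjoinRoot

/-!
# Helper28RegEtale: regularity ascends along flat unramified maps; regularity lifts from `B/(x)`;
the Kummer algebra `A[t]/(t^e - s)`.
-/

set_option autoImplicit false
universe u v w u' v'

namespace Groth.Agent.Lib.Helper28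
open RingTheory.Sequence CategoryTheory Abelian TensorProduct Polynomial
open scoped Pointwise

section UnramReg

theorem isRegularLocalRing_quotient_of_eq_maximalIdeal {S : Type u} [CommRing S] [IsLocalRing S]
    (J : Ideal S) (hJ : J = IsLocalRing.maximalIdeal S) : IsRegularLocalRing (S ⧸ J) := by
  subst hJ
  let _ : Field (S ⧸ IsLocalRing.maximalIdeal S) := Ideal.Quotient.field _
  infer_instance

variable {A B : Type u} [CommRing A] [CommRing B] [IsNoetherianRing A] [IsNoetherianRing B]
  [Algebra A B] [Module.Flat A B] [Algebra.EssFiniteType A B]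

/-- A flat, essentially finite type algebra over a regular ring is regular at unramified primes. -/
theorem isRegularLocalRing_localization_of_isUnramifiedAt [IsRegularRing A]
    (Q : Ideal B) [hQ : Q.IsPrime] (hunr : Algebra.IsUnramifiedAt A Q) :
    IsRegularLocalRing (Localization.AtPrime Q) := by
  have hlies : Q.LiesOver (Q.comap (algebraMap A B)) := ⟨rfl⟩
  let alg := Localization.AtPrime.algebraOfLiesOver (Q.comap (algebraMap A B)) Q
  have h1 := ((Algebra.isUnramifiedAt_iff_map_eq A (Q.comap (algebraMap A B)) Q).mp hunr).2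
  have hF : IsRegularLocalRing (EGA4.FibLocRing A B Q) :=
    isRegularLocalRing_quotient_of_eq_maximalIdeal _ h1
  exact isRegularLocalRing_localization_of_fibLocRing (A := A) Q inferInstance hF

end UnramReg

section RegLift

theorem isRegularLocalRing_quotient_congr {S : Type u} [CommRing S] {J1 J2 : Ideal S}
    (h : J1 = J2) (h1 : IsRegularLocalRing (S ⧸ J1)) : IsRegularLocalRing (S ⧸ J2) := by
  subst h; exact h1

/-- If `x` is a nonzerodivisor of a Noetherian ring `B` with `B/(x)` regular, then `B` is regular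
at all primes containing `x`. -/
theorem isRegularLocalRing_localization_of_quotient_span_singleton {B : Type u} [CommRing B]
    [IsNoetherianRing B] (x : B) (hx : x ∈ nonZeroDivisors B)
    (hreg : IsRegularRing (B ⧸ Ideal.span {x})) (Q : Ideal B) [hQ : Q.IsPrime] (hxQ : x ∈ Q) :
    IsRegularLocalRing (Localization.AtPrime Q) := by
  have hle : Ideal.span {x} ≤ Q := (Ideal.span_singleton_le_iff_mem _).mpr hxQ
  have hQb : (Q.map (Ideal.Quotient.mk (Ideal.span {x}))).IsPrime :=
    Ideal.map_isPrime_of_surjective Ideal.Quotient.mk_surjective (by rwa [Ideal.mk_ker])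
  have hcm : (Q.map (Ideal.Quotient.mk (Ideal.span {x}))).comap
      (Ideal.Quotient.mk (Ideal.span {x})) = Q := by
    rw [Ideal.comap_map_of_surjective _ Ideal.Quotient.mk_surjective, ← RingHom.ker_eq_comap_bot,
      Ideal.mk_ker]
    exact sup_eq_left.mpr hle
  have hcp : ((Q.map (Ideal.Quotient.mk (Ideal.span {x}))).comap
      (Ideal.Quotient.mk (Ideal.span {x}))).IsPrime := Ideal.comap_isPrime _ _
  rw [← isRegularLocalRing_congr_ideal hcm]
  generalize Q.map (Ideal.Quotient.mk (Ideal.span {x})) = Qb at hQb hcm hcp ⊢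
  have e1 := localizationQuotientEquiv (Ideal.span {x}) Qb
  have hR0 : IsRegularLocalRing (Localization.AtPrime Qb) :=
    hreg.isRegularLocalRing_localization Qb
  have hR1 := IsRegularLocalRing.of_ringEquiv e1
  have hmap : (Ideal.span {x}).map (algebraMap B (Localization.AtPrime
      (Qb.comap (Ideal.Quotient.mk (Ideal.span {x}))))) =
      Ideal.span {algebraMap B (Localization.AtPrime
        (Qb.comap (Ideal.Quotient.mk (Ideal.span {x})))) x} := by
    rw [Ideal.map_span, Set.image_singleton]
  have hR2 := isRegularLocalRing_quotient_congr hmap hR1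
  have hxm : algebraMap B (Localization.AtPrime (Qb.comap (Ideal.Quotient.mk (Ideal.span {x})))) x
      ∈ IsLocalRing.maximalIdeal _ := by
    rw [← Localization.AtPrime.map_eq_maximalIdeal]
    apply Ideal.mem_map_of_mem
    rw [hcm]; exact hxQ
  have hxnzd : algebraMap B (Localization.AtPrime
      (Qb.comap (Ideal.Quotient.mk (Ideal.span {x})))) x ∈ nonZeroDivisors _ :=
    IsLocalization.map_nonZeroDivisors_le
      (Qb.comap (Ideal.Quotient.mk (Ideal.span {x}))).primeCompl _
      (Submonoid.mem_map_of_mem _ hx)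
  exact (Groth.Agent.Lib.Helper5.isRegularLocalRing_of_quotient_span_singleton hxm hxnzd).1

end RegLift

section KummerQuot

variable {A : Type u} [CommRing A] (s : A) (e : ℕ)

theorem adjoinRoot_root_pow_eq : (AdjoinRoot.root (X ^ e - C s : A[X])) ^ e =
    AdjoinRoot.of (X ^ e - C s : A[X]) s := by
  have := AdjoinRoot.eval₂_root (X ^ e - C s : A[X])
  rw [eval₂_sub, eval₂_pow, eval₂_X, eval₂_C, sub_eq_zero] at this
  exact this

/-- `A[t]/(t^e - s, t) ≃ A/(s)` for `e ≥ 1`. -/
noncomputable def adjoinRootQuotRootEquiv (he : 0 < e) :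
    (AdjoinRoot (X ^ e - C s : A[X]) ⧸ Ideal.span {AdjoinRoot.root (X ^ e - C s : A[X])}) ≃+*
      A ⧸ Ideal.span {s} := by
  have h1 : (X ^ e - C s : A[X]).eval₂ (Ideal.Quotient.mk (Ideal.span {s})) 0 = 0 := by
    rw [eval₂_sub, eval₂_pow, eval₂_X, eval₂_C, zero_pow he.ne', zero_sub, neg_eq_zero,
      Ideal.Quotient.eq_zero_iff_mem]
    exact Ideal.mem_span_singleton_self s
  let φ : AdjoinRoot (X ^ e - C s : A[X]) →+* A ⧸ Ideal.span {s} :=
    AdjoinRoot.lift (Ideal.Quotient.mk (Ideal.span {s})) 0 h1
  have hφ : ∀ a ∈ Ideal.span {AdjoinRoot.root (X ^ e - C s : A[X])}, φ a = 0 := by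
    intro a ha
    obtain ⟨b, rfl⟩ := Ideal.mem_span_singleton'.mp ha
    rw [map_mul, AdjoinRoot.lift_root, mul_zero]
  let ψ0 : A →+* (AdjoinRoot (X ^ e - C s : A[X]) ⧸
      Ideal.span {AdjoinRoot.root (X ^ e - C s : A[X])}) :=
    (Ideal.Quotient.mk _).comp (AdjoinRoot.of (X ^ e - C s : A[X]))
  have hψ : ∀ a ∈ Ideal.span {s}, ψ0 a = 0 := by
    intro a ha
    obtain ⟨b, rfl⟩ := Ideal.mem_span_singleton'.mp ha
    change Ideal.Quotient.mk _ (AdjoinRoot.of _ (b * s)) = 0
    rw [Ideal.Quotient.eq_zero_iff_mem, map_mul, ← adjoinRoot_root_pow_eq s e]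
    apply Ideal.mul_mem_left
    exact Ideal.pow_mem_of_mem _ (Ideal.mem_span_singleton_self _) e he
  refine RingEquiv.ofRingHom (Ideal.Quotient.lift _ φ hφ) (Ideal.Quotient.lift _ ψ0 hψ) ?_ ?_
  · apply Ideal.Quotient.ringHom_ext
    ext a
    simp [φ, ψ0]
  · apply Ideal.Quotient.ringHom_ext
    apply AdjoinRoot.ringHom_ext
    · ext a
      simp [φ, ψ0]
    · simp only [RingHom.coe_comp, Function.comp_apply, RingHom.id_apply, Ideal.Quotient.lift_mk]
      rw [AdjoinRoot.lift_root, map_zero]
      symm
      rw [Ideal.Quotient.eq_zero_iff_mem]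
      exact Ideal.mem_span_singleton_self _

end KummerQuot

section KummerEtale

variable {A : Type u} [CommRing A] (s : A) (e : ℕ)

/-- `A[t]/(t^e - s)` is étale over `A` away from `s` when `e` is invertible. -/
theorem formallyUnramified_away_adjoinRoot_X_pow_sub_C (he : 0 < e) (heu : IsUnit (e : A)) :
    Algebra.FormallyUnramified A (Localization.Away
      (AdjoinRoot.mk (X ^ e - C s : A[X]) (C s))) := by
  obtain ⟨u, hu⟩ := IsUnit.exists_right_inv heu
  let P : StandardEtalePair A :=
    { f := X ^ e - C s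
      monic_f := monic_X_pow_sub_C s he.ne'
      g := C s
      cond := ⟨C u * X, -1, 1, by
        rw [derivative_sub, derivative_C, sub_zero, derivative_X_pow, pow_one]
        have h1 : (C (e : A) * X ^ (e - 1)) * (C u * X) = C ((e : A) * u) * X ^ e := by
          have : e - 1 + 1 = e := by omega
          rw [C_mul]
          calc (C (e : A) * X ^ (e - 1)) * (C u * X) = C (e : A) * C u * (X ^ (e - 1) * X) := by ring
            _ = C (e : A) * C u * X ^ e := by rw [← pow_succ, this]
        rw [h1, hu]
        simp⟩ }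
  have h1 : Algebra.Etale A P.Ring := inferInstance
  have h2 : Algebra.FormallyUnramified A P.Ring := inferInstance
  exact Algebra.FormallyUnramified.of_equiv P.equivAwayAdjoinRoot

end KummerEtale

end Groth.Agent.Lib.Helper28
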