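import Mathlib

/-!
# Projective dimension and localization (helper21)

For a finite module `M` over a Noetherian ring `A` and `n : ℕ` we produce an `n`-th syzygy `K`
(a finite `A`-module) such that `pd_A M ≤ n ↔ K` projective, and for every submonoid `S`,
`pd_{S⁻¹A} S⁻¹M ≤ n ↔ S⁻¹K` projective.  Consequently `{p | pd M_p ≤ n}` is the free locus of `K`.
-/

universe u
open CategoryTheory

namespace Groth.Agent.Lib.Helper21.PdLoc

theorem pdLT_succ_iff_of_ses {R : Type u} [CommRing R] {K F M : Type u} [AddCommGroup K]
    [Module R K] [AddCommGroup F] [Module R F] [AddCommGroup M] [Module R M]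
    [Module.Projective R F] (i : K →ₗ[R] F) (g : F →ₗ[R] M) (hi : Function.Injective i)
    (hg : Function.Surjective g) (hex : Function.Exact i g) (n : ℕ) :
    HasProjectiveDimensionLT (ModuleCat.of R M) (n + 2) ↔
      HasProjectiveDimensionLT (ModuleCat.of R K) (n + 1) := by
  let S : ShortComplex (ModuleCat.{u} R) :=
    ShortComplex.mk (ModuleCat.ofHom i) (ModuleCat.ofHom g)
      (ModuleCat.hom_ext (LinearMap.ext fun y => hex.apply_apply_eq_zero y))
  have hS : S.ShortExact := ModuleCat.shortComplex_shortExact S hex hi hg
  have hP : Projective S.X₂ := (IsProjective.iff_projective (R := R) (P := F)).mp inferInstance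
  exact hS.hasProjectiveDimensionLT_X₃_iff n hP

theorem pdLT_one_iff {R : Type u} [CommRing R] (M : Type u) [AddCommGroup M] [Module R M] :
    HasProjectiveDimensionLT (ModuleCat.of R M) 1 ↔ Module.Projective R M :=
  projective_iff_hasProjectiveDimensionLT_one.symm.trans
    (IsProjective.iff_projective (R := R) (P := M)).symm

variable {A : Type u} [CommRing A]

theorem pdLT_succ_iff_localized (S : Submonoid A) {K F M : Type u} [AddCommGroup K]
    [Module A K] [AddCommGroup F] [Module A F] [AddCommGroup M] [Module A M]
    [Module.Projective A F] (i : K →ₗ[A] F) (g : F →ₗ[A] M) (hi : Function.Injective i)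
    (hg : Function.Surjective g) (hex : Function.Exact i g) (n : ℕ) :
    HasProjectiveDimensionLT (ModuleCat.of (Localization S) (LocalizedModule S M)) (n + 2) ↔
      HasProjectiveDimensionLT (ModuleCat.of (Localization S) (LocalizedModule S K)) (n + 1) := by
  refine pdLT_succ_iff_of_ses (R := Localization S) (F := LocalizedModule S F)
    ((IsLocalizedModule.map S (LocalizedModule.mkLinearMap S K)
      (LocalizedModule.mkLinearMap S F) i).extendScalarsOfIsLocalization S (Localization S))
    ((IsLocalizedModule.map S (LocalizedModule.mkLinearMap S F)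
      (LocalizedModule.mkLinearMap S M) g).extendScalarsOfIsLocalization S (Localization S))
    ?_ ?_ ?_ n
  · exact IsLocalizedModule.map_injective S _ _ i hi
  · exact IsLocalizedModule.map_surjective S _ _ g hg
  · exact LocalizedModule.map_exact S i g hex

/-- existence of an `n`-th syzygy compatible with all localizations -/
theorem exists_syzygy [IsNoetherianRing A] (n : ℕ) :
    ∀ (M : Type u) [AddCommGroup M] [Module A M] [Module.Finite A M],
    ∃ (K : Type u) (_ : AddCommGroup K) (_ : Module A K) (_ : Module.Finite A K),
      (HasProjectiveDimensionLT (ModuleCat.of A M) (n + 1) ↔ Module.Projective A K) ∧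
      ∀ S : Submonoid A,
        HasProjectiveDimensionLT (ModuleCat.of (Localization S) (LocalizedModule S M)) (n + 1) ↔
          Module.Projective (Localization S) (LocalizedModule S K) := by
  induction n with
  | zero =>
    intro M _ _ _
    exact ⟨M, inferInstance, inferInstance, inferInstance, pdLT_one_iff M,
      fun S => pdLT_one_iff _⟩
  | succ n ih =>
    intro M _ _ _
    obtain ⟨m, g, hg⟩ := Module.Finite.exists_fin' A M
    obtain ⟨K, iK1, iK2, iK3, h1, h2⟩ := ih (LinearMap.ker g)
    refine ⟨K, iK1, iK2, iK3, ?_, fun S => ?_⟩
    · rw [← h1]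
      exact pdLT_succ_iff_of_ses (LinearMap.ker g).subtype g (Submodule.injective_subtype _) hg
        (LinearMap.exact_subtype_ker_map g) n
    · rw [← h2 S]
      exact pdLT_succ_iff_localized S (LinearMap.ker g).subtype g (Submodule.injective_subtype _)
        hg (LinearMap.exact_subtype_ker_map g) n

/-- projective = free for finite modules over local rings, at a prime. -/
theorem projective_atPrime_iff_mem_freeLocus (K : Type u) [AddCommGroup K] [Module A K]
    [Module.Finite A K] (p : PrimeSpectrum A) :
    Module.Projective (Localization.AtPrime p.asIdeal) (LocalizedModule p.asIdeal.primeCompl K) ↔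
      p ∈ Module.freeLocus A K := by
  rw [Module.mem_freeLocus]
  constructor
  · intro h
    exact Module.free_of_flat_of_isLocalRing
  · intro h
    infer_instance

end Groth.Agent.Lib.Helper21.PdLoc
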