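import Mathlib
import Groth.Agent.Lib.Helper21PdLoc

/-!
# Projective dimension and quotient by a regular element (helper28)

`hasProjectiveDimensionLT_quotSMulTop`: if `x` is `R`-regular and `M`-regular and `pd_R M ≤ n`
then `pd_{R/x} (M/xM) ≤ n`.
-/

universe u
open CategoryTheory

namespace Groth.Agent.Lib.Helper28

section PdQuot

open Groth.Agent.Lib.Helper21.PdLoc

variable {R : Type u} [CommRing R]

theorem projective_quotSMulTop (x : R) (M : Type u) [AddCommGroup M] [Module R M]
    [Module.Projective R M] :
    Module.Projective (R ⧸ Ideal.span {x}) (QuotSMulTop x M) :=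
  Module.Projective.of_equiv ((QuotSMulTop.equivQuotTensor x M).extendScalarsOfSurjective
    Ideal.Quotient.mk_surjective).symm

theorem quotSMulTop_map_injective_of_isSMulRegular {K F M : Type*} [AddCommGroup K] [Module R K]
    [AddCommGroup F] [Module R F] [AddCommGroup M] [Module R M] (x : R)
    (i : K →ₗ[R] F) (g : F →ₗ[R] M) (hi : Function.Injective i) (hex : Function.Exact i g)
    (hM : IsSMulRegular M x) : Function.Injective (QuotSMulTop.map x i) := by
  have h0 : Function.Exact (0 : PUnit.{1} →ₗ[R] K) i :=
    (LinearMap.exact_zero_iff_injective PUnit i).mpr hi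
  have := QuotSMulTop.map_first_exact_on_four_term_exact_of_isSMulRegular_last h0 hex hM
  rw [map_zero] at this
  exact (LinearMap.exact_zero_iff_injective (QuotSMulTop x PUnit.{1}) _).mp this

theorem hasProjectiveDimensionLT_quotSMulTop_of_ses (x : R) (n : ℕ)
    {K F M : Type u} [AddCommGroup K] [Module R K]
    [AddCommGroup F] [Module R F] [AddCommGroup M] [Module R M] [Module.Projective R F]
    (i : K →ₗ[R] F) (g : F →ₗ[R] M) (hi : Function.Injective i) (hg : Function.Surjective g)
    (hex : Function.Exact i g) (hM : IsSMulRegular M x)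
    (hK : HasProjectiveDimensionLT (ModuleCat.of (R ⧸ Ideal.span {x}) (QuotSMulTop x K)) (n + 1)) :
    HasProjectiveDimensionLT (ModuleCat.of (R ⧸ Ideal.span {x}) (QuotSMulTop x M)) (n + 2) := by
  have hsurj : Function.Surjective (QuotSMulTop.map x g) := QuotSMulTop.map_surjective x hg
  have hexq : Function.Exact (QuotSMulTop.map x i) (QuotSMulTop.map x g) :=
    QuotSMulTop.map_exact x hex hg
  have hinj : Function.Injective (QuotSMulTop.map x i) :=
    quotSMulTop_map_injective_of_isSMulRegular x i g hi hex hM
  have hsq : Function.Surjective (algebraMap R (R ⧸ Ideal.span {x})) :=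
    Ideal.Quotient.mk_surjective
  have := projective_quotSMulTop x F
  exact (pdLT_succ_iff_of_ses ((QuotSMulTop.map x i).extendScalarsOfSurjective hsq)
    ((QuotSMulTop.map x g).extendScalarsOfSurjective hsq) hinj hsurj hexq n).mpr hK

theorem hasProjectiveDimensionLT_quotSMulTop (x : R) (hx : IsSMulRegular R x) (n : ℕ) :
    ∀ (M : Type u) [AddCommGroup M] [Module R M], IsSMulRegular M x →
      HasProjectiveDimensionLT (ModuleCat.of R M) (n + 1) →
      HasProjectiveDimensionLT (ModuleCat.of (R ⧸ Ideal.span {x}) (QuotSMulTop x M)) (n + 1) := by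
  induction n with
  | zero =>
    intro M _ _ hM h
    rw [zero_add, pdLT_one_iff] at h ⊢
    exact projective_quotSMulTop x M
  | succ n ih =>
    intro M _ _ hM h
    have hg : Function.Surjective (Finsupp.linearCombination R (id : M → M)) :=
      Finsupp.linearCombination_id_surjective R M
    have hex : Function.Exact (LinearMap.ker (Finsupp.linearCombination R (id : M → M))).subtype
        (Finsupp.linearCombination R (id : M → M)) := LinearMap.exact_subtype_ker_map _
    have hK : HasProjectiveDimensionLT
        (ModuleCat.of R (LinearMap.ker (Finsupp.linearCombination R (id : M → M)))) (n + 1) :=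
      (pdLT_succ_iff_of_ses _ _ (Submodule.injective_subtype _) hg hex n).mp h
    have hFreg : IsSMulRegular (M →₀ R) x := by
      intro a b hab
      ext m
      have := DFunLike.congr_fun hab m
      exact hx this
    have hKreg : IsSMulRegular (LinearMap.ker (Finsupp.linearCombination R (id : M → M))) x :=
      hFreg.submodule _ x
    have ihK := ih _ hKreg hK
    exact hasProjectiveDimensionLT_quotSMulTop_of_ses x n _ _ (Submodule.injective_subtype _) hg hex hM ihK

end PdQuot

end Groth.Agent.Lib.Helper28
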