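import Mathlib

/-!
# Dévissage for modules over a Noetherian ring

* `fgCocone N`, `fgIsColimit N`: every module is the filtered colimit of its f.g. submodules
  (in `ModuleCat`).
* `isZero_of_fg`, `isIso_of_fg`: consequences for functors commuting with filtered colimits.
* `devissage`: a property of modules over a Noetherian ring which holds for residue fields of
  primes, is stable under extensions / kernels of epis, and passes to directed unions of f.g.
  submodules, holds for all modules.
-/

set_option autoImplicit false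
universe u
open CategoryTheory CategoryTheory.Limits

namespace Groth.Agent.Helper13Devissage

section colim

variable {A : Type u} [CommRing A]

/-- index category: f.g. submodules -/
abbrev fgJ (N : ModuleCat.{u} A) : Type u := {N' : Submodule A N // N'.FG}

instance (N : ModuleCat.{u} A) : Nonempty (fgJ N) := ⟨⟨⊥, Submodule.fg_bot⟩⟩

open Classical in
/-- the diagram of f.g. submodules -/
noncomputable abbrev fgDiagram (N : ModuleCat.{u} A) : fgJ N ⥤ ModuleCat.{u} A :=
  ModuleCat.directLimitDiagram (fun N' : fgJ N => ↥N'.1) (Module.fgSystem A N)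

open Classical in
/-- the cocone of inclusions of f.g. submodules -/
noncomputable def fgCocone (N : ModuleCat.{u} A) : Cocone (fgDiagram N) where
  pt := N
  ι :=
    { app := fun N' => ModuleCat.ofHom N'.1.subtype
      naturality := fun _ _ _ => by
        ext x
        rfl }

open Classical in
/-- `N` is the colimit of its f.g. submodules -/
noncomputable def fgIsColimit (N : ModuleCat.{u} A) : IsColimit (fgCocone N) := by
  refine IsColimit.ofIsoColimit
    (ModuleCat.directLimitIsColimit (fun N' : fgJ N => ↥N'.1) (Module.fgSystem A N)) ?_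
  refine Cocone.ext (Module.fgSystem.equiv A N).toModuleIso ?_
  intro j
  ext x
  exact LinearMap.congr_fun (Module.fgSystem.equiv_comp_of j) x

theorem isZero_of_fg {D : Type*} [Category D] [HasZeroMorphisms D] (F : ModuleCat.{u} A ⥤ D)
    (hF : ∀ (J : Type u) [SmallCategory J] [IsFiltered J], PreservesColimitsOfShape J F)
    (N : ModuleCat.{u} A)
    (h : ∀ N' : Submodule A N, N'.FG → IsZero (F.obj (ModuleCat.of A N'))) :
    IsZero (F.obj N) := by
  have := hF (fgJ N)
  have hc := isColimitOfPreserves F (fgIsColimit N)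
  rw [IsZero.iff_id_eq_zero]
  refine hc.hom_ext fun j => ?_
  exact (h j.1 j.2).eq_of_src _ _

theorem isIso_of_fg {D : Type*} [Category D] {F G : ModuleCat.{u} A ⥤ D} (α : F ⟶ G)
    (hF : ∀ (J : Type u) [SmallCategory J] [IsFiltered J], PreservesColimitsOfShape J F)
    (hG : ∀ (J : Type u) [SmallCategory J] [IsFiltered J], PreservesColimitsOfShape J G)
    (N : ModuleCat.{u} A)
    (h : ∀ N' : Submodule A N, N'.FG → IsIso (α.app (ModuleCat.of A N'))) :
    IsIso (α.app N) := by
  have := hF (fgJ N)
  have := hG (fgJ N)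
  have hcF := isColimitOfPreserves F (fgIsColimit N)
  have hcG := isColimitOfPreserves G (fgIsColimit N)
  have hiso : ∀ j : fgJ N, IsIso ((Functor.whiskerLeft (fgDiagram N) α).app j) :=
    fun j => h j.1 j.2
  have : IsIso (Functor.whiskerLeft (fgDiagram N) α) := NatIso.isIso_of_isIso_app _
  let w : fgDiagram N ⋙ F ≅ fgDiagram N ⋙ G := asIso (Functor.whiskerLeft (fgDiagram N) α)
  have e : α.app N = (IsColimit.coconePointsIsoOfNatIso hcF hcG w).hom := by
    refine hcF.hom_ext fun j => ?_
    have h1 := IsColimit.comp_coconePointsIsoOfNatIso_hom hcF hcG w j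
    refine Eq.trans ?_ h1.symm
    exact (α.naturality ((fgCocone N).ι.app j))
  rw [e]
  infer_instance

end colim

section dev

variable {A : Type u} [CommRing A]

theorem shortExact_mk {X Y Z : Type u} [AddCommGroup X] [Module A X]
    [AddCommGroup Y] [Module A Y] [AddCommGroup Z] [Module A Z] (f : X →ₗ[A] Y) (g : Y →ₗ[A] Z)
    (hf : Function.Injective f) (hg : Function.Surjective g) (hfg : Function.Exact f g) :
    (ShortComplex.mk (ModuleCat.ofHom f) (ModuleCat.ofHom g)
      (by ext x; exact hfg.apply_apply_eq_zero x)).ShortExact := by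
  refine ShortComplex.ShortExact.mk' ?_ ?_ ?_
  · rw [ShortComplex.ShortExact.moduleCat_exact_iff_function_exact]
    exact hfg
  · rw [ModuleCat.mono_iff_injective]
    exact hf
  · rw [ModuleCat.epi_iff_surjective]
    exact hg

variable [IsNoetherianRing A] (P : ModuleCat.{u} A → Prop)
  (hiso : ∀ {N N' : ModuleCat.{u} A}, (N ≅ N') → P N → P N')
  (hzero : ∀ N : ModuleCat.{u} A, IsZero N → P N)
  (h₂ : ∀ S : ShortComplex (ModuleCat.{u} A), S.ShortExact → P S.X₁ → P S.X₃ → P S.X₂)
  (h₁ : ∀ S : ShortComplex (ModuleCat.{u} A), S.ShortExact → P S.X₂ → P S.X₃ → P S.X₁)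
  (hcolim : ∀ N : ModuleCat.{u} A,
    (∀ N' : Submodule A N, N'.FG → P (ModuleCat.of A N')) → P N)

include hiso hzero h₂ in
/-- f.g. modules whose annihilator strictly contains `p` are built from `A/q`, `q > p`. -/
theorem of_lt_annihilator (p : Ideal A)
    (IH : ∀ (q : Ideal A) [q.IsPrime], p < q → P (ModuleCat.of A (A ⧸ q)))
    (N : Type u) [AddCommGroup N] [Module A N] [Module.Finite A N]
    (hN : p < Module.annihilator A N) : P (ModuleCat.of A N) := by
  revert hN
  refine IsNoetherianRing.induction_on_isQuotientEquivQuotientPrime A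
    (motive := fun N _ _ _ => p < Module.annihilator A N → P (ModuleCat.of A N))
    (inferInstance : Module.Finite A N) ?_ ?_ ?_
  · intro N _ _ _ _ _
    exact hzero _ (ModuleCat.isZero_of_subsingleton _)
  · intro N _ _ _ q e hN
    have : q.1.IsPrime := q.2
    rw [e.annihilator_eq, Ideal.annihilator_quotient] at hN
    exact hiso e.symm.toModuleIso (IH q.1 hN)
  · intro N₁ _ _ _ N₂ _ _ _ N₃ _ _ _ f g hf hg hfg m₁ m₃ hN
    exact h₂ _ (shortExact_mk f g hf hg hfg)
      (m₁ (lt_of_lt_of_le hN (LinearMap.annihilator_le_of_injective f hf)))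
      (m₃ (lt_of_lt_of_le hN (LinearMap.annihilator_le_of_surjective g hg)))

include hiso hzero h₂ h₁ hcolim in
theorem quotient_prime (hk : ∀ (p : Ideal A) [p.IsPrime], P (ModuleCat.of A p.ResidueField))
    (p : Ideal A) : ∀ [p.IsPrime], P (ModuleCat.of A (A ⧸ p)) := by
  refine IsNoetherian.induction
    (P := fun p : Ideal A => ∀ [p.IsPrime], P (ModuleCat.of A (A ⧸ p))) ?_ p
  intro (p : Ideal A) IH hp
  let k := p.ResidueField
  let ι : (A ⧸ p) →ₗ[A] k := (IsScalarTower.toAlgHom A (A ⧸ p) k).toLinearMap
  have hι : Function.Injective ι := IsFractionRing.injective (A ⧸ p) k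
  let Q := k ⧸ LinearMap.range ι
  -- every element of Q is killed by some `f ∉ p`
  have hQ1 : ∀ x : Q, ∃ f : A, f ∉ p ∧ f • x = 0 := by
    intro x
    obtain ⟨y, rfl⟩ := Submodule.Quotient.mk_surjective _ x
    obtain ⟨⟨a, b⟩, hab⟩ := IsLocalization.surj (nonZeroDivisors (A ⧸ p)) y
    obtain ⟨f, hf⟩ := Ideal.Quotient.mk_surjective (b : A ⧸ p)
    refine ⟨f, ?_, ?_⟩
    · intro hfp
      have : (b : A ⧸ p) = 0 := by rw [← hf]; exact Ideal.Quotient.eq_zero_iff_mem.2 hfp
      exact nonZeroDivisors.coe_ne_zero b this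
    · rw [← Submodule.Quotient.mk_smul, Submodule.Quotient.mk_eq_zero]
      refine ⟨a, ?_⟩
      show algebraMap (A ⧸ p) k a = f • y
      rw [← hab, Algebra.smul_def, mul_comm, IsScalarTower.algebraMap_apply A (A ⧸ p) k]
      congr 2
      exact hf.symm
  have hQ : ∀ Q' : Submodule A Q, Q'.FG → P (ModuleCat.of A Q') := by
    intro Q' hQ'
    have : Module.Finite A Q' := Module.Finite.iff_fg.2 hQ'
    refine of_lt_annihilator P hiso hzero h₂ p (fun q _ hq => IH q hq) Q' ?_
    obtain ⟨s, hs⟩ := hQ'
    choose f hf1 hf2 using hQ1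
    have hle : p ≤ Module.annihilator A Q' := by
      intro a ha
      rw [Module.mem_annihilator]
      rintro ⟨x, hx⟩
      ext
      show a • x = 0
      obtain ⟨y, rfl⟩ := Submodule.Quotient.mk_surjective _ x
      rw [← Submodule.Quotient.mk_smul, Algebra.smul_def,
        (Ideal.algebraMap_residueField_eq_zero).2 ha, zero_mul]
      rfl
    refine lt_of_le_of_ne hle ?_
    intro heq
    have hmem : (∏ x ∈ s, f x) ∈ Module.annihilator A Q' := by
      rw [Module.mem_annihilator]
      rintro ⟨x, hx⟩
      ext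
      show (∏ x ∈ s, f x) • x = 0
      rw [← hs] at hx
      refine Submodule.span_induction ?_ ?_ ?_ ?_ hx
      · intro y hy
        obtain ⟨c, hc⟩ := Finset.dvd_prod_of_mem f hy
        rw [hc, mul_comm, mul_smul, hf2, smul_zero]
      · exact smul_zero _
      · intro y z _ _ hy hz
        rw [smul_add, hy, hz, add_zero]
      · intro a y _ hy
        rw [smul_comm, hy, smul_zero]
    rw [← heq, Ideal.IsPrime.prod_mem_iff] at hmem
    obtain ⟨x, -, hx⟩ := hmem
    exact hf1 x hx
  have hPQ : P (ModuleCat.of A Q) := hcolim _ hQ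
  exact h₁ _ (shortExact_mk ι (LinearMap.range ι).mkQ hι (Submodule.mkQ_surjective _)
    (LinearMap.exact_map_mkQ_range ι)) (hk p) hPQ

include hiso hzero h₂ h₁ hcolim in
/-- Dévissage. -/
theorem devissage (hk : ∀ (p : Ideal A) [p.IsPrime], P (ModuleCat.of A p.ResidueField))
    (N : ModuleCat.{u} A) : P N := by
  refine hcolim N fun N' hN' => ?_
  have : Module.Finite A N' := Module.Finite.iff_fg.2 hN'
  refine IsNoetherianRing.induction_on_isQuotientEquivQuotientPrime A
    (motive := fun N _ _ _ => P (ModuleCat.of A N))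
    (inferInstance : Module.Finite A N') ?_ ?_ ?_
  · intro N _ _ _ _
    exact hzero _ (ModuleCat.isZero_of_subsingleton _)
  · intro N _ _ _ q e
    have : q.1.IsPrime := q.2
    exact hiso e.symm.toModuleIso (quotient_prime P hiso hzero h₂ h₁ hcolim hk q.1)
  · intro N₁ _ _ _ N₂ _ _ _ N₃ _ _ _ f g hf hg hfg m₁ m₃
    exact h₂ _ (shortExact_mk f g hf hg hfg) m₁ m₃

end dev

end Groth.Agent.Helper13Devissage
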