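import Mathlib

/-!
# Effaceable homological δ-functors are computed by projective resolutions

Let `T n : A ⥤ E` be functors between abelian categories with connecting morphisms
`δ : T (n+1) X₃ ⟶ T n X₁` for short exact sequences, exact at `T (n+1) X₃` and `T n X₁`, such that
`T (n+1)` vanishes on projectives and `T 0 ≅ F` with `F` right exact. Then for any projective
resolution `P` of `M`, `T n M ≅ H_n(F(P))` (dimension shifting).
-/

set_option autoImplicit false
open CategoryTheory CategoryTheory.Limits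

namespace Groth.Agent.Helper13Delta

universe v v' u u'
variable {A : Type u} [Category.{v} A] [Abelian A] {E : Type u'} [Category.{v'} E] [Abelian E]

/-- hypotheses on a family of functors: connecting maps with partial long exact sequence,
vanishing on projectives in positive degrees. -/
structure IsEffDelta (T : ℕ → A ⥤ E) : Prop where
  exists_δ : ∀ (S : ShortComplex A), S.ShortExact → ∀ n : ℕ,
    ∃ (δ : (T (n + 1)).obj S.X₃ ⟶ (T n).obj S.X₁)
      (w₁ : (T (n + 1)).map S.g ≫ δ = 0) (w₂ : δ ≫ (T n).map S.f = 0),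
      (ShortComplex.mk _ _ w₁).Exact ∧ (ShortComplex.mk _ _ w₂).Exact
  isZero_of_projective : ∀ (X : A) [Projective X] (n : ℕ), IsZero ((T (n + 1)).obj X)

section syz

variable (K : ChainComplex A ℕ)

/-- the short complex `0 → Z_{j+1} → K_j → Z_j → 0` where `Z_j = K.opcycles j`. -/
noncomputable def syz (j : ℕ) : ShortComplex A :=
  ShortComplex.mk (K.fromOpcycles (j + 1) j) (K.pOpcycles j) (by
    rw [← cancel_epi (K.pOpcycles (j + 1))]
    simp)

theorem syz_shortExact (j : ℕ) (hK : K.ExactAt (j + 1)) : (syz K j).ShortExact := by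
  have hmono : Mono (K.fromOpcycles (j + 1) j) := by
    have h1 : (K.sc' (j + 2) (j + 1) j).Exact := by
      rwa [← K.exactAt_iff' (j + 2) (j + 1) j (by simp) (by simp)]
    have h2 := (K.sc' (j + 2) (j + 1) j).exact_iff_mono_fromOpcycles.1 h1
    rw [← K.opcyclesIsoSc'_inv_fromOpcycles (j + 2) (j + 1) j (by simp) (by simp)] at h2
    exact (mono_comp_iff_of_isIso _ _).1 h2  
  have hex : (syz K j).Exact := by
    let S₁ : ShortComplex A := ShortComplex.mk (K.d (j + 1) j) (K.pOpcycles j) (by simp)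
    have h₁ : S₁.Exact :=
      ShortComplex.exact_of_g_is_cokernel _ (K.opcyclesIsCokernel (j + 1) j (by simp))
    let φ : S₁ ⟶ syz K j :=
      { τ₁ := K.pOpcycles (j + 1)
        τ₂ := 𝟙 _
        τ₃ := 𝟙 _
        comm₁₂ := by simp [S₁, syz]
        comm₂₃ := by simp [S₁, syz] }
    have : Epi φ.τ₁ := inferInstanceAs (Epi (K.pOpcycles (j + 1)))
    have : IsIso φ.τ₂ := inferInstanceAs (IsIso (𝟙 (K.X j)))
    have : Mono φ.τ₃ := inferInstanceAs (Mono (𝟙 (K.opcycles j)))
    exact (ShortComplex.exact_iff_of_epi_of_isIso_of_mono φ).1 h₁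
  exact { exact := hex, mono_f := hmono, epi_g := inferInstanceAs (Epi (K.pOpcycles j)) }

end syz

/-- homology of `X₁ -f→ X₂ -g→ X₃` given a cokernel `p : X₂ → Q` of `f`, a factorisation
`g = p ≫ g'`, and a kernel `ι : H → Q` of `g'`. -/
theorem homology_iso_of_cokernel_kernel (S : ShortComplex E) {Q H : E} (p : S.X₂ ⟶ Q)
    (wp : S.f ≫ p = 0) (hp : IsColimit (CokernelCofork.ofπ p wp)) (g' : Q ⟶ S.X₃)
    (hg' : p ≫ g' = S.g) (ι : H ⟶ Q) (wι : ι ≫ g' = 0) (hι : IsLimit (KernelFork.ofι ι wι)) :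
    Nonempty (S.homology ≅ H) := by
  have : hp.desc (CokernelCofork.ofπ _ S.zero) = g' :=
    Cofork.IsColimit.hom_ext hp ((Cofork.IsColimit.π_desc hp).trans hg'.symm)
  subst this
  exact ⟨(ShortComplex.RightHomologyData.mk Q H p ι wp hp wι hι).homologyIso⟩

section main

variable {T : ℕ → A ⥤ E} (hT : IsEffDelta T)

include hT in
theorem shift (S : ShortComplex A) (hS : S.ShortExact) [Projective S.X₂] (n : ℕ) :
    Nonempty ((T (n + 2)).obj S.X₃ ≅ (T (n + 1)).obj S.X₁) := by
  obtain ⟨δ, w₁, w₂, h₁, h₂⟩ := hT.exists_δ S hS (n + 1)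
  have hm : Mono δ := h₁.mono_g ((hT.isZero_of_projective S.X₂ (n + 1)).eq_of_src _ _)
  have he : Epi δ := h₂.epi_f ((hT.isZero_of_projective S.X₂ n).eq_of_tgt _ _)
  have := isIso_of_mono_of_epi δ
  exact ⟨asIso δ⟩

include hT in
theorem exists_kernel (F : A ⥤ E) (e : T 0 ≅ F) (S : ShortComplex A) (hS : S.ShortExact)
    [Projective S.X₂] :
    ∃ (ι : (T 1).obj S.X₃ ⟶ F.obj S.X₁) (w : ι ≫ F.map S.f = 0),
      Nonempty (IsLimit (KernelFork.ofι ι w)) := by
  obtain ⟨δ, w₁, w₂, h₁, h₂⟩ := hT.exists_δ S hS 0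
  have hm : Mono δ := h₁.mono_g ((hT.isZero_of_projective S.X₂ 0).eq_of_src _ _)
  have w : (δ ≫ e.hom.app S.X₁) ≫ F.map S.f = 0 := by
    rw [Category.assoc, ← e.hom.naturality, reassoc_of% w₂, zero_comp]
  have hex : (ShortComplex.mk _ _ w).Exact := by
    have iso : ShortComplex.mk _ _ w₂ ≅ ShortComplex.mk _ _ w :=
      ShortComplex.isoMk (Iso.refl _) (e.app S.X₁) (e.app S.X₂) (by simp) (by simp)
    exact ShortComplex.exact_of_iso iso h₂
  have : Mono (δ ≫ e.hom.app S.X₁) := mono_comp _ _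
  exact ⟨_, w, ⟨hex.fIsKernel⟩⟩

include hT in
theorem shift_iter (K : ChainComplex A ℕ) (hK : ∀ j, K.ExactAt (j + 1))
    (hproj : ∀ j, Projective (K.X j)) (n : ℕ) :
    ∀ (j k : ℕ), k = j + n →
      Nonempty ((T (n + 1)).obj (K.opcycles j) ≅ (T 1).obj (K.opcycles k)) := by
  induction n with
  | zero =>
    rintro j k rfl
    exact ⟨Iso.refl _⟩
  | succ n ih =>
    rintro j k rfl
    have := hproj j
    have : Projective (syz K j).X₂ := hproj j
    obtain ⟨e₁⟩ := shift hT (syz K j) (syz_shortExact K j (hK j)) n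
    obtain ⟨e₂⟩ := ih (j + 1) (j + (n + 1)) (by omega)
    exact ⟨e₁ ≪≫ e₂⟩

include hT in
theorem nonempty_iso_succ (F : A ⥤ E) [F.Additive] [PreservesFiniteColimits F] (e : T 0 ≅ F)
    {M : A} (P : ProjectiveResolution M) (n : ℕ) :
    Nonempty ((T (n + 1)).obj M ≅
      ((F.mapHomologicalComplex _).obj P.complex).homology (n + 1)) := by
  set K := P.complex with hKdef
  have hK : ∀ j, K.ExactAt (j + 1) := fun j => P.complex_exactAt_succ j
  have hproj : ∀ j, Projective (K.X j) := fun j => P.projective j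
  -- `Z₀ ≅ M`
  have iso0 : K.opcycles 0 ≅ M :=
    IsColimit.coconePointUniqueUpToIso (K.opcyclesIsCokernel 1 0 (by simp))
      P.isColimitCokernelCofork
  obtain ⟨e₁⟩ := shift_iter hT K hK hproj n 0 n (by omega)
  -- the kernel description
  have : Projective (syz K n).X₂ := hproj n
  obtain ⟨ι, w, ⟨hι⟩⟩ := exists_kernel hT F e (syz K n) (syz_shortExact K n (hK n))
  let FK := (F.mapHomologicalComplex (ComplexShape.down ℕ)).obj K
  have wp : (FK.sc' (n + 2) (n + 1) n).f ≫ F.map (K.pOpcycles (n + 1)) = 0 := by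
    show F.map (K.d (n + 2) (n + 1)) ≫ F.map (K.pOpcycles (n + 1)) = 0
    rw [← F.map_comp, K.d_pOpcycles, F.map_zero]
  have hp : IsColimit (CokernelCofork.ofπ (F.map (K.pOpcycles (n + 1))) wp) :=
    CokernelCofork.mapIsColimit _ (K.opcyclesIsCokernel (n + 2) (n + 1) (by simp)) F
  obtain ⟨e₂⟩ := homology_iso_of_cokernel_kernel (FK.sc' (n + 2) (n + 1) n)
    (F.map (K.pOpcycles (n + 1))) wp hp (F.map (K.fromOpcycles (n + 1) n))
    (by
      show F.map (K.pOpcycles (n + 1)) ≫ F.map (K.fromOpcycles (n + 1) n) =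
        F.map (K.d (n + 1) n)
      rw [← F.map_comp, K.p_fromOpcycles]) ι w hι
  exact ⟨(T (n + 1)).mapIso iso0.symm ≪≫ e₁ ≪≫ e₂.symm ≪≫
    (FK.homologyIsoSc' (n + 2) (n + 1) n (by simp) (by simp)).symm⟩

omit [Abelian A] in
theorem nonempty_iso_zero [Abelian A] (F : A ⥤ E) [F.Additive] [PreservesFiniteColimits F]
    (e : T 0 ≅ F) {M : A} (P : ProjectiveResolution M) :
    Nonempty ((T 0).obj M ≅ ((F.mapHomologicalComplex _).obj P.complex).homology 0) :=
  ⟨e.app M ≪≫ (asIso (P.fromLeftDerivedZero' F)).symm ≪≫ (ChainComplex.isoHomologyι₀ _).symm⟩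

include hT in
/-- **Dimension shifting**: an effaceable δ-functor `T` with `T 0 ≅ F` right exact is computed by
projective resolutions. -/
theorem nonempty_iso (F : A ⥤ E) [F.Additive] [PreservesFiniteColimits F] (e : T 0 ≅ F)
    {M : A} (P : ProjectiveResolution M) (n : ℕ) :
    Nonempty ((T n).obj M ≅ ((F.mapHomologicalComplex _).obj P.complex).homology n) := by
  cases n with
  | zero => exact nonempty_iso_zero F e P
  | succ n => exact nonempty_iso_succ hT F e P n

end main

end Groth.Agent.Helper13Delta
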