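import Mathlib

/-!
# Naturality of the connecting homomorphism of the homology sequence
-/

set_option autoImplicit false
open CategoryTheory CategoryTheory.Limits HomologicalComplex

namespace Groth.Agent.Helper13DeltaNat

universe v u w
variable {C : Type u} {ι : Type w} [Category.{v} C] [Abelian C] {c : ComplexShape ι}

/-- the morphism of snake inputs induced by a morphism of short exact sequences of complexes. -/
noncomputable def snakeInputHom {S S' : ShortComplex (HomologicalComplex C c)} (φ : S ⟶ S')
    (hS : S.ShortExact) (hS' : S'.ShortExact) (i j : ι) (hij : c.Rel i j) :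
    ShortComplex.SnakeInput.Hom (HomologySequence.snakeInput hS i j hij)
      (HomologySequence.snakeInput hS' i j hij) where
  f₀ := (homologyFunctor C c i).mapShortComplex.map φ
  f₁ := (opcyclesFunctor C c i).mapShortComplex.map φ
  f₂ := (cyclesFunctor C c j).mapShortComplex.map φ
  f₃ := (homologyFunctor C c j).mapShortComplex.map φ
  comm₀₁ := by
    ext
    · exact homologyι_naturality φ.τ₁ i
    · exact homologyι_naturality φ.τ₂ i
    · exact homologyι_naturality φ.τ₃ i
  comm₁₂ := by
    ext
    · exact HomologicalComplex.opcyclesToCycles_naturality φ.τ₁ i j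
    · exact HomologicalComplex.opcyclesToCycles_naturality φ.τ₂ i j
    · exact HomologicalComplex.opcyclesToCycles_naturality φ.τ₃ i j
  comm₂₃ := by
    ext
    · exact (homologyπ_naturality φ.τ₁ j).symm
    · exact (homologyπ_naturality φ.τ₂ j).symm
    · exact (homologyπ_naturality φ.τ₃ j).symm

/-- naturality of the connecting homomorphism. -/
theorem δ_naturality {S S' : ShortComplex (HomologicalComplex C c)} (φ : S ⟶ S')
    (hS : S.ShortExact) (hS' : S'.ShortExact) (i j : ι) (hij : c.Rel i j) :
    hS.δ i j hij ≫ homologyMap φ.τ₁ j = homologyMap φ.τ₃ i ≫ hS'.δ i j hij :=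
  ShortComplex.SnakeInput.naturality_δ (snakeInputHom φ hS hS' i j hij)

end Groth.Agent.Helper13DeltaNat
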