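import Mathlib

/-!
# Long exact sequence of `Tor` in the first variable (Mathlib's `CategoryTheory.Tor` on `ModuleCat R`)

`((Tor (ModuleCat R) i).obj X).obj Y` is defined by left-deriving `X ⊗ -`, i.e. resolving `Y`.
For a short exact sequence `0 → X₁ → X₂ → X₃ → 0` and a projective resolution `Q` of `Y` we get a
short exact sequence of complexes `0 → X₁ ⊗ Q → X₂ ⊗ Q → X₃ ⊗ Q → 0` whose homology sequence is the
long exact sequence of `Tor(-, Y)`.
-/

set_option autoImplicit false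
universe u
open CategoryTheory CategoryTheory.Limits MonoidalCategory

namespace Groth.Agent.Helper13Tor

variable {R : Type u} [CommRing R]

/-- The functor `X ⊗ -`. -/
noncomputable abbrev tL (X : ModuleCat.{u} R) : ModuleCat.{u} R ⥤ ModuleCat.{u} R :=
  (tensoringLeft (ModuleCat.{u} R)).obj X

/-- the complex `X ⊗ Q` -/
noncomputable abbrev tC (X : ModuleCat.{u} R) (Q : ChainComplex (ModuleCat.{u} R) ℕ) :
    ChainComplex (ModuleCat.{u} R) ℕ :=
  ((tL X).mapHomologicalComplex _).obj Q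

/-- the map `X ⊗ Q ⟶ X' ⊗ Q` -/
noncomputable abbrev tCmap {X X' : ModuleCat.{u} R} (f : X ⟶ X')
    (Q : ChainComplex (ModuleCat.{u} R) ℕ) : tC X Q ⟶ tC X' Q :=
  (NatTrans.mapHomologicalComplex ((tensoringLeft (ModuleCat.{u} R)).map f) _).app Q

/-- the short complex of complexes `X₁ ⊗ Q ⟶ X₂ ⊗ Q ⟶ X₃ ⊗ Q` -/
noncomputable abbrev tSC (S : ShortComplex (ModuleCat.{u} R)) (Q : ChainComplex (ModuleCat.{u} R) ℕ) :
    ShortComplex (ChainComplex (ModuleCat.{u} R) ℕ) :=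
  ShortComplex.mk (tCmap S.f Q) (tCmap S.g Q) (by
    refine HomologicalComplex.hom_ext _ _ fun j => ?_
    show ((tensoringLeft (ModuleCat.{u} R)).map S.f).app (Q.X j) ≫
      ((tensoringLeft (ModuleCat.{u} R)).map S.g).app (Q.X j) = 0
    rw [← NatTrans.comp_app, ← Functor.map_comp, S.zero]
    simp)

instance projective_flat (P : ModuleCat.{u} R) [Projective P] : Module.Flat R P := by
  have : Module.Projective R P := (IsProjective.iff_projective P).2 ‹_›
  infer_instance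

theorem tSC_shortExact (S : ShortComplex (ModuleCat.{u} R)) (hS : S.ShortExact)
    (Q : ChainComplex (ModuleCat.{u} R) ℕ) (hQ : ∀ j, Projective (Q.X j)) :
    (tSC S Q).ShortExact := by
  refine HomologicalComplex.shortExact_of_degreewise_shortExact _ fun j => ?_
  have := hQ j
  have h := hS.map_of_exact (tensorRight (Q.X j))
  exact h

/-- `Tor_i(X, Y)` computed with a projective resolution `Q` of `Y`. -/
noncomputable def torIso {Y : ModuleCat.{u} R} (Q : ProjectiveResolution Y) (X : ModuleCat.{u} R)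
    (i : ℕ) : ((Tor (ModuleCat.{u} R) i).obj X).obj Y ≅ (tC X Q.complex).homology i :=
  Q.isoLeftDerivedObj (tL X) i

theorem tor_map_app_eq {Y : ModuleCat.{u} R} (Q : ProjectiveResolution Y) {X X' : ModuleCat.{u} R}
    (f : X ⟶ X') (i : ℕ) :
    ((Tor (ModuleCat.{u} R) i).map f).app Y =
      (torIso Q X i).hom ≫ HomologicalComplex.homologyMap (tCmap f Q.complex) i ≫
        (torIso Q X' i).inv :=
  Q.leftDerived_app_eq ((tensoringLeft (ModuleCat.{u} R)).map f) i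

theorem tor_map_app_comp {Y : ModuleCat.{u} R} (Q : ProjectiveResolution Y) {X X' : ModuleCat.{u} R}
    (f : X ⟶ X') (i : ℕ) :
    ((Tor (ModuleCat.{u} R) i).map f).app Y ≫ (torIso Q X' i).hom =
      (torIso Q X i).hom ≫ HomologicalComplex.homologyMap (tCmap f Q.complex) i := by
  rw [tor_map_app_eq Q f i]; simp

variable (S : ShortComplex (ModuleCat.{u} R)) (hS : S.ShortExact) (Y : ModuleCat.{u} R)

theorem tor_map_comp_zero (i : ℕ) :
    ((Tor (ModuleCat.{u} R) i).map S.f).app Y ≫ ((Tor (ModuleCat.{u} R) i).map S.g).app Y = 0 := by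
  let Q := ProjectiveResolution.of Y
  rw [tor_map_app_eq Q S.f i, tor_map_app_eq Q S.g i]
  simp only [Category.assoc, Iso.inv_hom_id_assoc]
  have : HomologicalComplex.homologyMap (tCmap S.f Q.complex) i ≫
      HomologicalComplex.homologyMap (tCmap S.g Q.complex) i = 0 := by
    rw [← HomologicalComplex.homologyMap_comp]
    have := (tSC S Q.complex).zero
    change tCmap S.f Q.complex ≫ tCmap S.g Q.complex = 0 at this
    rw [this, HomologicalComplex.homologyMap_zero]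
  rw [reassoc_of% this]
  simp

include hS in
/-- Exactness of `Tor_i(X₁,Y) ⟶ Tor_i(X₂,Y) ⟶ Tor_i(X₃,Y)`. -/
theorem tor_exact₂ (i : ℕ) :
    (ShortComplex.mk (((Tor (ModuleCat.{u} R) i).map S.f).app Y)
      (((Tor (ModuleCat.{u} R) i).map S.g).app Y) (tor_map_comp_zero S Y i)).Exact := by
  let Q := ProjectiveResolution.of Y
  have hT := tSC_shortExact S hS Q.complex (fun j => Q.projective j)
  refine ShortComplex.exact_of_iso (ShortComplex.isoMk (torIso Q S.X₁ i) (torIso Q S.X₂ i)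
    (torIso Q S.X₃ i) ?_ ?_).symm (hT.homology_exact₂ i)
  · exact (tor_map_app_comp Q S.f i).symm
  · exact (tor_map_app_comp Q S.g i).symm

include hS in
/-- Connecting map and exactness of
`Tor_{i+1}(X₂,Y) ⟶ Tor_{i+1}(X₃,Y) ⟶ Tor_i(X₁,Y) ⟶ Tor_i(X₂,Y)`. -/
theorem exists_δ (i : ℕ) :
    ∃ (δ : ((Tor (ModuleCat.{u} R) (i + 1)).obj S.X₃).obj Y ⟶
        ((Tor (ModuleCat.{u} R) i).obj S.X₁).obj Y)
      (w₁ : ((Tor (ModuleCat.{u} R) (i + 1)).map S.g).app Y ≫ δ = 0)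
      (w₂ : δ ≫ ((Tor (ModuleCat.{u} R) i).map S.f).app Y = 0),
      (ShortComplex.mk (((Tor (ModuleCat.{u} R) (i + 1)).map S.g).app Y) δ w₁).Exact ∧
        (ShortComplex.mk δ (((Tor (ModuleCat.{u} R) i).map S.f).app Y) w₂).Exact := by
  let Q := ProjectiveResolution.of Y
  have hT := tSC_shortExact S hS Q.complex (fun j => Q.projective j)
  have hrel : (ComplexShape.down ℕ).Rel (i + 1) i := rfl
  have eg : ((Tor (ModuleCat.{u} R) (i + 1)).map S.g).app Y ≫ (torIso Q S.X₃ (i + 1)).hom =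
      (torIso Q S.X₂ (i + 1)).hom ≫
        HomologicalComplex.homologyMap (tSC S Q.complex).g (i + 1) :=
    tor_map_app_comp Q S.g (i + 1)
  have ef : ((Tor (ModuleCat.{u} R) i).map S.f).app Y ≫ (torIso Q S.X₂ i).hom =
      (torIso Q S.X₁ i).hom ≫ HomologicalComplex.homologyMap (tSC S Q.complex).f i :=
    tor_map_app_comp Q S.f i
  let δ : ((Tor (ModuleCat.{u} R) (i + 1)).obj S.X₃).obj Y ⟶
        ((Tor (ModuleCat.{u} R) i).obj S.X₁).obj Y :=
    (torIso Q S.X₃ (i + 1)).hom ≫ hT.δ (i + 1) i hrel ≫ (torIso Q S.X₁ i).inv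
  have hδ : δ ≫ (torIso Q S.X₁ i).hom = (torIso Q S.X₃ (i + 1)).hom ≫ hT.δ (i + 1) i hrel := by
    simp only [δ, Category.assoc, Iso.inv_hom_id, Category.comp_id]
  have w₁ : ((Tor (ModuleCat.{u} R) (i + 1)).map S.g).app Y ≫ δ = 0 := by
    rw [← cancel_mono (torIso Q S.X₁ i).hom, Category.assoc, hδ, ← Category.assoc, eg,
      Category.assoc, hT.comp_δ (i + 1) i hrel]
    simp
  have w₂ : δ ≫ ((Tor (ModuleCat.{u} R) i).map S.f).app Y = 0 := by
    rw [← cancel_mono (torIso Q S.X₂ i).hom, Category.assoc, ef, ← Category.assoc, hδ,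
      Category.assoc, hT.δ_comp (i + 1) i hrel]
    simp
  refine ⟨δ, w₁, w₂, ?_, ?_⟩
  · refine ShortComplex.exact_of_iso (ShortComplex.isoMk (torIso Q S.X₂ (i + 1))
      (torIso Q S.X₃ (i + 1)) (torIso Q S.X₁ i) ?_ ?_).symm (hT.homology_exact₃ (i + 1) i hrel)
    · exact eg.symm
    · exact hδ.symm
  · refine ShortComplex.exact_of_iso (ShortComplex.isoMk (torIso Q S.X₃ (i + 1))
      (torIso Q S.X₁ i) (torIso Q S.X₂ i) ?_ ?_).symm (hT.homology_exact₁ (i + 1) i hrel)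
    · exact hδ.symm
    · exact ef.symm

include hS in
/-- `Tor_i(X₁,Y) = 0` and `Tor_i(X₃,Y) = 0` imply `Tor_i(X₂,Y) = 0`. -/
theorem isZero_tor_X₂ (i : ℕ)
    (h₁ : IsZero (((Tor (ModuleCat.{u} R) i).obj S.X₁).obj Y))
    (h₃ : IsZero (((Tor (ModuleCat.{u} R) i).obj S.X₃).obj Y)) :
    IsZero (((Tor (ModuleCat.{u} R) i).obj S.X₂).obj Y) :=
  (tor_exact₂ S hS Y i).isZero_of_both_zeros (h₁.eq_of_src _ _) (h₃.eq_of_tgt _ _)

include hS in
/-- `Tor_{i+1}(X₃,Y) = 0` and `Tor_i(X₂,Y) = 0` imply `Tor_i(X₁,Y) = 0`. -/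
theorem isZero_tor_X₁ (i : ℕ)
    (h₃ : IsZero (((Tor (ModuleCat.{u} R) (i + 1)).obj S.X₃).obj Y))
    (h₂ : IsZero (((Tor (ModuleCat.{u} R) i).obj S.X₂).obj Y)) :
    IsZero (((Tor (ModuleCat.{u} R) i).obj S.X₁).obj Y) := by
  obtain ⟨δ, w₁, w₂, -, h⟩ := exists_δ S hS Y i
  exact h.isZero_of_both_zeros (h₃.eq_of_src _ _) (h₂.eq_of_tgt _ _)

include hS in
/-- `Tor_{i+1}(X₂,Y) = 0` and `Tor_i(X₁,Y) = 0` imply `Tor_{i+1}(X₃,Y) = 0`. -/
theorem isZero_tor_X₃ (i : ℕ)
    (h₂ : IsZero (((Tor (ModuleCat.{u} R) (i + 1)).obj S.X₂).obj Y))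
    (h₁ : IsZero (((Tor (ModuleCat.{u} R) i).obj S.X₁).obj Y)) :
    IsZero (((Tor (ModuleCat.{u} R) (i + 1)).obj S.X₃).obj Y) := by
  obtain ⟨δ, w₁, w₂, h, -⟩ := exists_δ S hS Y i
  exact h.isZero_of_both_zeros (h₂.eq_of_src _ _) (h₁.eq_of_tgt _ _)

/-- `Tor_i(X, Y) = 0` for `i > 0` when `X` is flat. -/
theorem isZero_tor_of_flat (X : ModuleCat.{u} R) [Module.Flat R X] (i : ℕ) (hi : 0 < i) :
    IsZero (((Tor (ModuleCat.{u} R) i).obj X).obj Y) := by
  obtain ⟨n, rfl⟩ : ∃ n, i = n + 1 := ⟨i - 1, by omega⟩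
  let P := ProjectiveResolution.of Y
  refine IsZero.of_iso ?_ (torIso P X (n + 1))
  rw [← HomologicalComplex.exactAt_iff_isZero_homology]
  have hP := P.complex_exactAt_succ n
  have : ((P.complex.sc (n + 1)).map (tL X)).Exact :=
    Module.Flat.lTensor_shortComplex_exact X _ hP
  exact this

end Groth.Agent.Helper13Tor
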