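import Mathlib
import Groth.Agent.Lib.Helper13Tor
import Groth.Agent.Lib.Helper13Delta

/-!
# Balancing Tor: `Tor_n(M, N)` (resolving `N`) is `H_n(P ⊗ N)` for a projective resolution `P` of `M`
-/

set_option autoImplicit false
universe u
open CategoryTheory CategoryTheory.Limits MonoidalCategory

namespace Groth.Agent.Helper13Tor

section general

variable {C D : Type*} [Category C] [Category D] [Abelian C] [HasProjectiveResolutions C]
  [Abelian D]

/-- naturality of `fromLeftDerivedZero` in the functor. -/
theorem leftDerived_zero_app_fromLeftDerivedZero {F₁ F₂ : C ⥤ D} [F₁.Additive] [F₂.Additive]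
    (α : F₁ ⟶ F₂) (Y : C) :
    (NatTrans.leftDerived α 0).app Y ≫ F₂.fromLeftDerivedZero.app Y =
      F₁.fromLeftDerivedZero.app Y ≫ α.app Y := by
  let P := projectiveResolution Y
  rw [P.leftDerived_app_eq α 0, P.fromLeftDerivedZero_eq F₂, P.fromLeftDerivedZero_eq F₁]
  simp only [Category.assoc, Iso.inv_hom_id_assoc]
  congr 1
  have h1 : P.fromLeftDerivedZero' F₁ ≫ α.app Y =
      HomologicalComplex.opcyclesMap ((NatTrans.mapHomologicalComplex α _).app P.complex) 0 ≫
        P.fromLeftDerivedZero' F₂ := by
    rw [← cancel_epi (HomologicalComplex.pOpcycles _ _)]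
    simp only [ProjectiveResolution.pOpcycles_comp_fromLeftDerivedZero'_assoc,
      HomologicalComplex.p_opcyclesMap_assoc, NatTrans.mapHomologicalComplex_app_f,
      ProjectiveResolution.pOpcycles_comp_fromLeftDerivedZero']
    exact α.naturality _
  rw [h1]
  have h2 : HomologicalComplex.homologyMap
      ((NatTrans.mapHomologicalComplex α (ComplexShape.down ℕ)).app P.complex) 0 ≫
      (ChainComplex.isoHomologyι₀ ((F₂.mapHomologicalComplex _).obj P.complex)).hom =
      (ChainComplex.isoHomologyι₀ ((F₁.mapHomologicalComplex _).obj P.complex)).hom ≫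
        HomologicalComplex.opcyclesMap
          ((NatTrans.mapHomologicalComplex α (ComplexShape.down ℕ)).app P.complex) 0 := by
    rw [← cancel_epi (ChainComplex.isoHomologyι₀ ((F₁.mapHomologicalComplex _).obj P.complex)).inv,
      ← Category.assoc, ChainComplex.isoHomologyι₀_inv_naturality]
    simp
  exact (reassoc_of% h2) _

end general

variable {R : Type u} [CommRing R]

/-- `X ↦ Tor_n(X, N)` -/
noncomputable abbrev torL (N : ModuleCat.{u} R) (n : ℕ) : ModuleCat.{u} R ⥤ ModuleCat.{u} R :=
  (Tor (ModuleCat.{u} R) n).flip.obj N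

theorem isEffDelta_torL (N : ModuleCat.{u} R) : Helper13Delta.IsEffDelta (torL N) where
  exists_δ S hS n := exists_δ S hS N n
  isZero_of_projective X _ n := isZero_tor_of_flat N X (n + 1) (by omega)

/-- `Tor_0(X, N) ≅ X ⊗ N` naturally in `X`. -/
noncomputable def torLZeroIso (N : ModuleCat.{u} R) : torL N 0 ≅ tensorRight N :=
  NatIso.ofComponents (fun X => (tL X).leftDerivedZeroIsoSelf.app N) (by
    intro X X' f
    exact leftDerived_zero_app_fromLeftDerivedZero ((tensoringLeft _).map f) N)

/-- **Balancing Tor** (non-natural form): Mathlib's `Tor_n(M, N)`, defined by resolving `N`, is the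
homology of `P ⊗ N` for any projective resolution `P` of `M`. -/
theorem nonempty_tor_iso_homology (M N : ModuleCat.{u} R) (P : ProjectiveResolution M) (n : ℕ) :
    Nonempty (((Tor (ModuleCat.{u} R) n).obj M).obj N ≅
      (((tensorRight N).mapHomologicalComplex (ComplexShape.down ℕ)).obj P.complex).homology n) :=
  Helper13Delta.nonempty_iso (isEffDelta_torL N) (tensorRight N) (torLZeroIso N) P n

end Groth.Agent.Helper13Tor
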