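import Mathlib
import Groth.Agent.Lib.Helper13Tor
import Groth.Agent.Lib.Helper13Delta
import Groth.Agent.Lib.Helper13DeltaNat
import Groth.Agent.Lib.Helper13TorBal

/-!
# Natural connecting maps for `Tor` in the first variable, natural balancing, and the long exact
sequence of `Tor` in the second variable.
-/

set_option autoImplicit false
universe u
open CategoryTheory CategoryTheory.Limits MonoidalCategory

namespace Groth.Agent.Helper13Tor

variable {R : Type u} [CommRing R]

/-- morphism `S ⊗ Q ⟶ S ⊗ Q'` induced by `φ : Q ⟶ Q'`. -/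
noncomputable def tSCmap (S : ShortComplex (ModuleCat.{u} R)) {Q Q' : ChainComplex (ModuleCat.{u} R) ℕ}
    (φ : Q ⟶ Q') : tSC S Q ⟶ tSC S Q' where
  τ₁ := ((tL S.X₁).mapHomologicalComplex _).map φ
  τ₂ := ((tL S.X₂).mapHomologicalComplex _).map φ
  τ₃ := ((tL S.X₃).mapHomologicalComplex _).map φ
  comm₁₂ := by
    refine HomologicalComplex.hom_ext _ _ fun j => ?_
    exact ((tensoringLeft (ModuleCat.{u} R)).map S.f).naturality (φ.f j)
  comm₂₃ := by
    refine HomologicalComplex.hom_ext _ _ fun j => ?_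
    exact ((tensoringLeft (ModuleCat.{u} R)).map S.g).naturality (φ.f j)

section first

variable (S : ShortComplex (ModuleCat.{u} R)) (hS : S.ShortExact)

/-- the connecting map computed with a resolution `Q` of `Y`. -/
noncomputable def δQ {Y : ModuleCat.{u} R} (Q : ProjectiveResolution Y) (n : ℕ) :
    ((Tor (ModuleCat.{u} R) (n + 1)).obj S.X₃).obj Y ⟶ ((Tor (ModuleCat.{u} R) n).obj S.X₁).obj Y :=
  (torIso Q S.X₃ (n + 1)).hom ≫
    (tSC_shortExact S hS Q.complex (fun j => Q.projective j)).δ (n + 1) n rfl ≫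
      (torIso Q S.X₁ n).inv

theorem torIso_hom_naturality (X : ModuleCat.{u} R) {Y Y' : ModuleCat.{u} R} (g : Y ⟶ Y')
    (Q : ProjectiveResolution Y) (Q' : ProjectiveResolution Y') (φ : Q.complex ⟶ Q'.complex)
    (comm : φ.f 0 ≫ Q'.π.f 0 = Q.π.f 0 ≫ g) (n : ℕ) :
    ((Tor (ModuleCat.{u} R) n).obj X).map g ≫ (torIso Q' X n).hom =
      (torIso Q X n).hom ≫
        HomologicalComplex.homologyMap (((tL X).mapHomologicalComplex _).map φ) n :=
  ProjectiveResolution.isoLeftDerivedObj_hom_naturality g Q Q' φ comm (tL X) n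

theorem torIso_inv_naturality (X : ModuleCat.{u} R) {Y Y' : ModuleCat.{u} R} (g : Y ⟶ Y')
    (Q : ProjectiveResolution Y) (Q' : ProjectiveResolution Y') (φ : Q.complex ⟶ Q'.complex)
    (comm : φ.f 0 ≫ Q'.π.f 0 = Q.π.f 0 ≫ g) (n : ℕ) :
    (torIso Q X n).inv ≫ ((Tor (ModuleCat.{u} R) n).obj X).map g =
      HomologicalComplex.homologyMap (((tL X).mapHomologicalComplex _).map φ) n ≫
        (torIso Q' X n).inv :=
  ProjectiveResolution.isoLeftDerivedObj_inv_naturality g Q Q' φ comm (tL X) n

theorem δQ_naturality {Y Y' : ModuleCat.{u} R} (g : Y ⟶ Y') (Q : ProjectiveResolution Y)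
    (Q' : ProjectiveResolution Y') (φ : Q.complex ⟶ Q'.complex)
    (comm : φ.f 0 ≫ Q'.π.f 0 = Q.π.f 0 ≫ g) (n : ℕ) :
    ((Tor (ModuleCat.{u} R) (n + 1)).obj S.X₃).map g ≫ δQ S hS Q' n =
      δQ S hS Q n ≫ ((Tor (ModuleCat.{u} R) n).obj S.X₁).map g := by
  have h1 := torIso_hom_naturality S.X₃ g Q Q' φ comm (n + 1)
  have h2 := torIso_inv_naturality S.X₁ g Q Q' φ comm n
  have h3 : (tSC_shortExact S hS Q.complex (fun j => Q.projective j)).δ (n + 1) n rfl ≫
      HomologicalComplex.homologyMap (((tL S.X₁).mapHomologicalComplex _).map φ) n =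
      HomologicalComplex.homologyMap (((tL S.X₃).mapHomologicalComplex _).map φ) (n + 1) ≫
        (tSC_shortExact S hS Q'.complex (fun j => Q'.projective j)).δ (n + 1) n rfl :=
    Helper13DeltaNat.δ_naturality (tSCmap S φ)
      (tSC_shortExact S hS Q.complex (fun j => Q.projective j))
      (tSC_shortExact S hS Q'.complex (fun j => Q'.projective j)) (n + 1) n rfl
  unfold δQ
  rw [reassoc_of% h1, Category.assoc, Category.assoc, h2, reassoc_of% h3]

section exactQ

variable {Y : ModuleCat.{u} R} (Q : ProjectiveResolution Y) (n : ℕ)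

theorem δQ_comp_torIso :
    δQ S hS Q n ≫ (torIso Q S.X₁ n).hom = (torIso Q S.X₃ (n + 1)).hom ≫
      (tSC_shortExact S hS Q.complex (fun j => Q.projective j)).δ (n + 1) n rfl := by
  simp only [δQ, Category.assoc, Iso.inv_hom_id, Category.comp_id]

theorem map_comp_δQ :
    ((Tor (ModuleCat.{u} R) (n + 1)).map S.g).app Y ≫ δQ S hS Q n = 0 := by
  have hT := tSC_shortExact S hS Q.complex (fun j => Q.projective j)
  have eg : ((Tor (ModuleCat.{u} R) (n + 1)).map S.g).app Y ≫ (torIso Q S.X₃ (n + 1)).hom =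
      (torIso Q S.X₂ (n + 1)).hom ≫
        HomologicalComplex.homologyMap (tSC S Q.complex).g (n + 1) :=
    tor_map_app_comp Q S.g (n + 1)
  rw [← cancel_mono (torIso Q S.X₁ n).hom, Category.assoc, δQ_comp_torIso, ← Category.assoc, eg,
    Category.assoc, hT.comp_δ (n + 1) n rfl]
  simp

theorem δQ_comp_map :
    δQ S hS Q n ≫ ((Tor (ModuleCat.{u} R) n).map S.f).app Y = 0 := by
  have hT := tSC_shortExact S hS Q.complex (fun j => Q.projective j)
  have ef : ((Tor (ModuleCat.{u} R) n).map S.f).app Y ≫ (torIso Q S.X₂ n).hom =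
      (torIso Q S.X₁ n).hom ≫ HomologicalComplex.homologyMap (tSC S Q.complex).f n :=
    tor_map_app_comp Q S.f n
  rw [← cancel_mono (torIso Q S.X₂ n).hom, Category.assoc, ef, ← Category.assoc, δQ_comp_torIso,
    Category.assoc, hT.δ_comp (n + 1) n rfl]
  simp

theorem δQ_exact₃ : (ShortComplex.mk _ _ (map_comp_δQ S hS Q n)).Exact := by
  have hT := tSC_shortExact S hS Q.complex (fun j => Q.projective j)
  refine ShortComplex.exact_of_iso (ShortComplex.isoMk (torIso Q S.X₂ (n + 1))
    (torIso Q S.X₃ (n + 1)) (torIso Q S.X₁ n) ?_ ?_).symm (hT.homology_exact₃ (n + 1) n rfl)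
  · exact (tor_map_app_comp Q S.g (n + 1)).symm
  · exact (δQ_comp_torIso S hS Q n).symm

theorem δQ_exact₁ : (ShortComplex.mk _ _ (δQ_comp_map S hS Q n)).Exact := by
  have hT := tSC_shortExact S hS Q.complex (fun j => Q.projective j)
  refine ShortComplex.exact_of_iso (ShortComplex.isoMk (torIso Q S.X₃ (n + 1))
    (torIso Q S.X₁ n) (torIso Q S.X₂ n) ?_ ?_).symm (hT.homology_exact₁ (n + 1) n rfl)
  · exact (δQ_comp_torIso S hS Q n).symm
  · exact (tor_map_app_comp Q S.f n).symm

end exactQ

/-- the connecting map as a natural transformation `Tor_{n+1}(X₃, -) ⟶ Tor_n(X₁, -)`. -/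
noncomputable def torδ (n : ℕ) :
    (Tor (ModuleCat.{u} R) (n + 1)).obj S.X₃ ⟶ (Tor (ModuleCat.{u} R) n).obj S.X₁ where
  app Y := δQ S hS (projectiveResolution Y) n
  naturality _ _ g := δQ_naturality S hS g _ _ (ProjectiveResolution.lift g _ _)
    (ProjectiveResolution.lift_commutes_zero g _ _) n

end first

/-- exactness in a functor category can be checked pointwise. -/
theorem exact_of_forall_app {J C : Type*} [Category J] [Category C] [Abelian C]
    (S : ShortComplex (J ⥤ C)) (h : ∀ j, (S.map ((evaluation J C).obj j)).Exact) : S.Exact := by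
  rw [ShortComplex.exact_iff_isZero_homology, Functor.isZero_iff]
  intro j
  exact IsZero.of_iso ((ShortComplex.exact_iff_isZero_homology _).1 (h j))
    (S.mapHomologyIso ((evaluation J C).obj j)).symm

/-- `Tor` as an effaceable δ-functor with values in the functor category. -/
theorem isEffDelta_tor :
    Helper13Delta.IsEffDelta (fun n => Tor (ModuleCat.{u} R) n) where
  exists_δ S hS n := by
    refine ⟨torδ S hS n, ?_, ?_, ?_, ?_⟩
    · ext Y : 2
      exact map_comp_δQ S hS _ n
    · ext Y : 2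
      exact δQ_comp_map S hS _ n
    · exact exact_of_forall_app _ fun Y => δQ_exact₃ S hS (projectiveResolution Y) n
    · exact exact_of_forall_app _ fun Y => δQ_exact₁ S hS (projectiveResolution Y) n
  isZero_of_projective X _ n :=
    (Functor.isZero_iff _).2 fun Y => isZero_tor_of_flat Y X (n + 1) (by omega)

/-- `Tor_0 ≅ ⊗` as bifunctors. -/
noncomputable def torZeroIso : Tor (ModuleCat.{u} R) 0 ≅ tensoringLeft (ModuleCat.{u} R) :=
  NatIso.ofComponents (fun X => (tL X).leftDerivedZeroIsoSelf) (by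
    intro X X' f
    ext Y : 2
    exact leftDerived_zero_app_fromLeftDerivedZero ((tensoringLeft _).map f) Y)

instance : PreservesFiniteColimits (tensoringLeft (ModuleCat.{u} R)) := by
  constructor
  intro J _ _
  refine preservesColimitsOfShape_of_evaluation _ _ fun N => ?_
  exact inferInstanceAs (PreservesColimitsOfShape J (tensorRight N))

/-- **Natural balancing**: `Tor_n(M, -) ≅ H_n(P ⊗ -)` as functors, for a projective resolution `P`
of `M`. Here the right side is the homology, in the functor category, of the complex of functors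
`P_j ⊗ -`. -/
theorem nonempty_tor_iso_homology_functor (M : ModuleCat.{u} R) (P : ProjectiveResolution M)
    (n : ℕ) :
    Nonempty ((Tor (ModuleCat.{u} R) n).obj M ≅
      (((tensoringLeft (ModuleCat.{u} R)).mapHomologicalComplex (ComplexShape.down ℕ)).obj
        P.complex).homology n) :=
  Helper13Delta.nonempty_iso isEffDelta_tor (tensoringLeft (ModuleCat.{u} R)) torZeroIso P n

section second

/-- the complex `P ⊗ N` -/
noncomputable abbrev tR (P : ChainComplex (ModuleCat.{u} R) ℕ) (N : ModuleCat.{u} R) :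
    ChainComplex (ModuleCat.{u} R) ℕ :=
  ((tensorRight N).mapHomologicalComplex _).obj P

/-- the map `P ⊗ N ⟶ P ⊗ N'` -/
noncomputable abbrev tRmap (P : ChainComplex (ModuleCat.{u} R) ℕ) {N N' : ModuleCat.{u} R}
    (g : N ⟶ N') : tR P N ⟶ tR P N' :=
  (NatTrans.mapHomologicalComplex ((tensoringRight (ModuleCat.{u} R)).map g) _).app P

/-- the complex of functors `P_j ⊗ -` -/
noncomputable abbrev KE (P : ChainComplex (ModuleCat.{u} R) ℕ) :
    ChainComplex (ModuleCat.{u} R ⥤ ModuleCat.{u} R) ℕ :=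
  ((tensoringLeft (ModuleCat.{u} R)).mapHomologicalComplex _).obj P

theorem iso_aux {C : Type*} [Category C] {X X' Y Y' : C} (i : X' ≅ X) (j : Y' ≅ Y) (a : X ⟶ Y)
    (m : X' ⟶ Y') (h : a = i.inv ≫ m ≫ j.hom) : a ≫ j.symm.hom = i.symm.hom ≫ m := by
  subst h; simp

/-- evaluating the homology of the complex of functors. -/
noncomputable def evalIso (P : ChainComplex (ModuleCat.{u} R) ℕ) (n : ℕ) (N : ModuleCat.{u} R) :
    ((KE P).homology n).obj N ≅ (tR P N).homology n :=
  (((KE P).sc n).mapHomologyIso ((evaluation _ _).obj N)).symm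

theorem evalIso_naturality (P : ChainComplex (ModuleCat.{u} R) ℕ) (n : ℕ) {N N' : ModuleCat.{u} R}
    (g : N ⟶ N') :
    ((KE P).homology n).map g ≫ (evalIso P n N').hom =
      (evalIso P n N).hom ≫ HomologicalComplex.homologyMap (tRmap P g) n := by
  have h := NatTrans.app_homology ((evaluation (ModuleCat.{u} R) (ModuleCat.{u} R)).map g)
    ((KE P).sc n)
  have h' : ((KE P).homology n).map g =
      (((KE P).sc n).mapHomologyIso ((evaluation _ _).obj N)).inv ≫
        HomologicalComplex.homologyMap (tRmap P g) n ≫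
          (((KE P).sc n).mapHomologyIso ((evaluation _ _).obj N')).hom := h
  exact iso_aux _ _ _ _ h'

/-- **Natural balancing**, pointwise form. -/
theorem exists_natural_iso (M : ModuleCat.{u} R) (P : ProjectiveResolution M) (n : ℕ) :
    ∃ θ : ∀ N : ModuleCat.{u} R,
      ((Tor (ModuleCat.{u} R) n).obj M).obj N ≅ (tR P.complex N).homology n,
      ∀ {N N' : ModuleCat.{u} R} (g : N ⟶ N'),
        ((Tor (ModuleCat.{u} R) n).obj M).map g ≫ (θ N').hom =
          (θ N).hom ≫ HomologicalComplex.homologyMap (tRmap P.complex g) n := by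
  obtain ⟨θ⟩ := nonempty_tor_iso_homology_functor M P n
  refine ⟨fun N => θ.app N ≪≫ evalIso P.complex n N, ?_⟩
  intro N N' g
  simp only [Iso.trans_hom, Iso.app_hom, Category.assoc]
  rw [← evalIso_naturality, ← Category.assoc, ← Category.assoc, θ.hom.naturality g]

/-- the short complex of complexes `P ⊗ S` for `S` a short complex in the second variable -/
noncomputable abbrev tSC' (P : ChainComplex (ModuleCat.{u} R) ℕ)
    (S : ShortComplex (ModuleCat.{u} R)) : ShortComplex (ChainComplex (ModuleCat.{u} R) ℕ) :=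
  ShortComplex.mk (tRmap P S.f) (tRmap P S.g) (by
    refine HomologicalComplex.hom_ext _ _ fun j => ?_
    show ((tensoringRight (ModuleCat.{u} R)).map S.f).app (P.X j) ≫
      ((tensoringRight (ModuleCat.{u} R)).map S.g).app (P.X j) = 0
    rw [← NatTrans.comp_app, ← Functor.map_comp, S.zero]
    simp)

theorem tSC'_shortExact (P : ChainComplex (ModuleCat.{u} R) ℕ) (hP : ∀ j, Projective (P.X j))
    (S : ShortComplex (ModuleCat.{u} R)) (hS : S.ShortExact) : (tSC' P S).ShortExact := by
  refine HomologicalComplex.shortExact_of_degreewise_shortExact _ fun j => ?_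
  have := hP j
  have h := hS.map_of_exact (tensorLeft (P.X j))
  exact h

variable (M : ModuleCat.{u} R) (S : ShortComplex (ModuleCat.{u} R)) (hS : S.ShortExact)

theorem tor₂_map_comp_zero (n : ℕ) :
    ((Tor (ModuleCat.{u} R) n).obj M).map S.f ≫ ((Tor (ModuleCat.{u} R) n).obj M).map S.g = 0 := by
  let P := projectiveResolution M
  obtain ⟨θ, hθ⟩ := exists_natural_iso M P n
  rw [← cancel_mono (θ S.X₃).hom, Category.assoc, hθ S.g, ← Category.assoc, hθ S.f,
    Category.assoc, ← HomologicalComplex.homologyMap_comp]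
  have := (tSC' P.complex S).zero
  change tRmap P.complex S.f ≫ tRmap P.complex S.g = 0 at this
  rw [this, HomologicalComplex.homologyMap_zero]
  simp

include hS in
/-- Exactness of `Tor_n(M,N') ⟶ Tor_n(M,N) ⟶ Tor_n(M,N'')` (second variable). -/
theorem tor₂_exact₂ (n : ℕ) :
    (ShortComplex.mk (((Tor (ModuleCat.{u} R) n).obj M).map S.f)
      (((Tor (ModuleCat.{u} R) n).obj M).map S.g) (tor₂_map_comp_zero M S n)).Exact := by
  let P := projectiveResolution M
  obtain ⟨θ, hθ⟩ := exists_natural_iso M P n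
  have hT := tSC'_shortExact P.complex (fun j => P.projective j) S hS
  refine ShortComplex.exact_of_iso (ShortComplex.isoMk (θ S.X₁) (θ S.X₂) (θ S.X₃) ?_ ?_).symm
    (hT.homology_exact₂ n)
  · exact (hθ S.f).symm
  · exact (hθ S.g).symm

include hS in
/-- Connecting maps and exactness of
`Tor_{n+1}(M,N) ⟶ Tor_{n+1}(M,N'') ⟶ Tor_n(M,N') ⟶ Tor_n(M,N)` (second variable). -/
theorem tor₂_exists_δ (n : ℕ) :
    ∃ (δ : ((Tor (ModuleCat.{u} R) (n + 1)).obj M).obj S.X₃ ⟶
        ((Tor (ModuleCat.{u} R) n).obj M).obj S.X₁)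
      (w₁ : ((Tor (ModuleCat.{u} R) (n + 1)).obj M).map S.g ≫ δ = 0)
      (w₂ : δ ≫ ((Tor (ModuleCat.{u} R) n).obj M).map S.f = 0),
      (ShortComplex.mk (((Tor (ModuleCat.{u} R) (n + 1)).obj M).map S.g) δ w₁).Exact ∧
        (ShortComplex.mk δ (((Tor (ModuleCat.{u} R) n).obj M).map S.f) w₂).Exact := by
  let P := projectiveResolution M
  obtain ⟨θ, hθ⟩ := exists_natural_iso M P n
  obtain ⟨θ', hθ'⟩ := exists_natural_iso M P (n + 1)
  have hT := tSC'_shortExact P.complex (fun j => P.projective j) S hS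
  have hrel : (ComplexShape.down ℕ).Rel (n + 1) n := rfl
  have eg : ((Tor (ModuleCat.{u} R) (n + 1)).obj M).map S.g ≫ (θ' S.X₃).hom =
      (θ' S.X₂).hom ≫ HomologicalComplex.homologyMap (tSC' P.complex S).g (n + 1) := hθ' S.g
  have ef : ((Tor (ModuleCat.{u} R) n).obj M).map S.f ≫ (θ S.X₂).hom =
      (θ S.X₁).hom ≫ HomologicalComplex.homologyMap (tSC' P.complex S).f n := hθ S.f
  let δ : ((Tor (ModuleCat.{u} R) (n + 1)).obj M).obj S.X₃ ⟶
        ((Tor (ModuleCat.{u} R) n).obj M).obj S.X₁ :=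
    (θ' S.X₃).hom ≫ hT.δ (n + 1) n hrel ≫ (θ S.X₁).inv
  have hδ : δ ≫ (θ S.X₁).hom = (θ' S.X₃).hom ≫ hT.δ (n + 1) n hrel := by
    simp only [δ, Category.assoc, Iso.inv_hom_id, Category.comp_id]
  have w₁ : ((Tor (ModuleCat.{u} R) (n + 1)).obj M).map S.g ≫ δ = 0 := by
    rw [← cancel_mono (θ S.X₁).hom, Category.assoc, hδ, ← Category.assoc, eg,
      Category.assoc, hT.comp_δ (n + 1) n hrel]
    simp
  have w₂ : δ ≫ ((Tor (ModuleCat.{u} R) n).obj M).map S.f = 0 := by
    rw [← cancel_mono (θ S.X₂).hom, Category.assoc, ef, ← Category.assoc, hδ,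
      Category.assoc, hT.δ_comp (n + 1) n hrel]
    simp
  refine ⟨δ, w₁, w₂, ?_, ?_⟩
  · refine ShortComplex.exact_of_iso (ShortComplex.isoMk (θ' S.X₂)
      (θ' S.X₃) (θ S.X₁) ?_ ?_).symm (hT.homology_exact₃ (n + 1) n hrel)
    · exact eg.symm
    · exact hδ.symm
  · refine ShortComplex.exact_of_iso (ShortComplex.isoMk (θ' S.X₃)
      (θ S.X₁) (θ S.X₂) ?_ ?_).symm (hT.homology_exact₁ (n + 1) n hrel)
    · exact hδ.symm
    · exact ef.symm

include hS in
/-- `Tor_0(M, -)` preserves epimorphisms. -/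
theorem tor₂_epi_zero : Epi (((Tor (ModuleCat.{u} R) 0).obj M).map S.g) := by
  have := hS.epi_g
  let e₂ := (tL M).leftDerivedZeroIsoSelf.app S.X₂
  let e₃ := (tL M).leftDerivedZeroIsoSelf.app S.X₃
  have h : ((tL M).leftDerived 0).map S.g ≫ e₃.hom = e₂.hom ≫ (tL M).map S.g :=
    (tL M).leftDerivedZeroIsoSelf.hom.naturality S.g
  have h' : ((tL M).leftDerived 0).map S.g = e₂.hom ≫ (tL M).map S.g ≫ e₃.inv := by
    rw [← Category.assoc, ← h, Category.assoc, Iso.hom_inv_id, Category.comp_id]
  have i1 : PreservesFiniteColimits (tL M) := inferInstance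
  have i2 : PreservesColimitsOfShape WalkingSpan (tL M) := inferInstance
  have i3 : (tL M).PreservesEpimorphisms :=
    preservesEpimorphisms_of_preservesColimitsOfShape _
  have e1 : Epi ((tL M).map S.g) := (tL M).map_epi S.g
  show Epi (((tL M).leftDerived 0).map S.g)
  rw [h']
  exact epi_comp _ _

end second

end Groth.Agent.Helper13Tor
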