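import Mathlib
import Groth.Agent.Lib.Helper13TorNat

/-!
# More consequences of the long exact sequences of Tor
-/

set_option autoImplicit false
universe u
open CategoryTheory CategoryTheory.Limits MonoidalCategory

namespace Groth.Agent.Helper13Tor

variable {R : Type u} [CommRing R]

/-- `Tor_i(X, Y) = 0` for `i > 0` when the second variable `Y` is flat. -/
theorem isZero_tor_of_flat_right (X Y : ModuleCat.{u} R) [Module.Flat R Y] (i : ℕ) (hi : 0 < i) :
    IsZero (((Tor (ModuleCat.{u} R) i).obj X).obj Y) := by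
  obtain ⟨n, rfl⟩ : ∃ n, i = n + 1 := ⟨i - 1, by omega⟩
  let P := projectiveResolution X
  obtain ⟨e⟩ := nonempty_tor_iso_homology X Y P (n + 1)
  refine IsZero.of_iso ?_ e
  rw [← HomologicalComplex.exactAt_iff_isZero_homology]
  have hP := P.complex_exactAt_succ n
  have : ((P.complex.sc (n + 1)).map (tensorRight Y)).Exact :=
    Module.Flat.rTensor_shortComplex_exact Y _ hP
  exact this

/-- `Tor_0(X, f)` is a monomorphism iff `X ⊗ f` is injective. -/
theorem mono_tor_zero_map_iff (X : ModuleCat.{u} R) {Y Y' : ModuleCat.{u} R} (f : Y ⟶ Y') :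
    Mono (((Tor (ModuleCat.{u} R) 0).obj X).map f) ↔
      Function.Injective (LinearMap.lTensor X f.hom) := by
  let F := tL X
  let e₁ := F.leftDerivedZeroIsoSelf.app Y
  let e₂ := F.leftDerivedZeroIsoSelf.app Y'
  have hn : (F.leftDerived 0).map f ≫ e₂.hom = e₁.hom ≫ F.map f :=
    F.leftDerivedZeroIsoSelf.hom.naturality f
  have h' : F.map f = e₁.inv ≫ (F.leftDerived 0).map f ≫ e₂.hom := by
    rw [hn, Iso.inv_hom_id_assoc]
  have h'' : (F.leftDerived 0).map f = e₁.hom ≫ F.map f ≫ e₂.inv := by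
    rw [← Category.assoc, ← hn, Category.assoc, Iso.hom_inv_id, Category.comp_id]
  have key : Mono (F.map f) ↔ Function.Injective (LinearMap.lTensor X f.hom) :=
    ModuleCat.mono_iff_injective (F.map f)
  rw [← key]
  show Mono ((F.leftDerived 0).map f) ↔ _
  constructor
  · intro h
    rw [h']
    exact mono_comp _ _
  · intro h
    rw [h'']
    exact mono_comp _ _

/-- For `0 → Y₁ → Y₂ → Y₃ → 0` exact with `Tor_1(X, Y₂) = 0`:
`Tor_1(X, Y₃) = 0` iff `X ⊗ Y₁ → X ⊗ Y₂` is injective. -/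
theorem isZero_tor_one_iff_lTensor_injective (X : ModuleCat.{u} R)
    (S : ShortComplex (ModuleCat.{u} R)) (hS : S.ShortExact)
    (h₂ : IsZero (((Tor (ModuleCat.{u} R) 1).obj X).obj S.X₂)) :
    IsZero (((Tor (ModuleCat.{u} R) 1).obj X).obj S.X₃) ↔
      Function.Injective (LinearMap.lTensor X S.f.hom) := by
  obtain ⟨δ, w₁, w₂, hex₁, hex₂⟩ := tor₂_exists_δ X S hS 0
  rw [← mono_tor_zero_map_iff]
  constructor
  · intro h
    exact hex₂.mono_g (h.eq_of_src _ _)
  · intro h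
    have hδ : δ = 0 := by
      rw [← cancel_mono (((Tor (ModuleCat.{u} R) 0).obj X).map S.f), w₂, zero_comp]
    exact hex₁.isZero_of_both_zeros (h₂.eq_of_src _ _) hδ

section second

variable (M : ModuleCat.{u} R) (S : ShortComplex (ModuleCat.{u} R)) (hS : S.ShortExact)

include hS in
/-- second variable: `Tor_n(M,Y₁) = 0` and `Tor_n(M,Y₃) = 0` imply `Tor_n(M,Y₂) = 0`. -/
theorem isZero_tor₂_X₂ (n : ℕ)
    (h₁ : IsZero (((Tor (ModuleCat.{u} R) n).obj M).obj S.X₁))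
    (h₃ : IsZero (((Tor (ModuleCat.{u} R) n).obj M).obj S.X₃)) :
    IsZero (((Tor (ModuleCat.{u} R) n).obj M).obj S.X₂) :=
  (tor₂_exact₂ M S hS n).isZero_of_both_zeros (h₁.eq_of_src _ _) (h₃.eq_of_tgt _ _)

include hS in
/-- second variable: `Tor_{n+1}(M,Y₃) = 0` and `Tor_n(M,Y₂) = 0` imply `Tor_n(M,Y₁) = 0`. -/
theorem isZero_tor₂_X₁ (n : ℕ)
    (h₃ : IsZero (((Tor (ModuleCat.{u} R) (n + 1)).obj M).obj S.X₃))
    (h₂ : IsZero (((Tor (ModuleCat.{u} R) n).obj M).obj S.X₂)) :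
    IsZero (((Tor (ModuleCat.{u} R) n).obj M).obj S.X₁) := by
  obtain ⟨δ, w₁, w₂, -, h⟩ := tor₂_exists_δ M S hS n
  exact h.isZero_of_both_zeros (h₃.eq_of_src _ _) (h₂.eq_of_tgt _ _)

include hS in
/-- second variable: `Tor_{n+1}(M,Y₂) = 0` and `Tor_n(M,Y₁) = 0` imply `Tor_{n+1}(M,Y₃) = 0`. -/
theorem isZero_tor₂_X₃ (n : ℕ)
    (h₂ : IsZero (((Tor (ModuleCat.{u} R) (n + 1)).obj M).obj S.X₂))
    (h₁ : IsZero (((Tor (ModuleCat.{u} R) n).obj M).obj S.X₁)) :
    IsZero (((Tor (ModuleCat.{u} R) (n + 1)).obj M).obj S.X₃) := by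
  obtain ⟨δ, w₁, w₂, h, -⟩ := tor₂_exists_δ M S hS n
  exact h.isZero_of_both_zeros (h₂.eq_of_src _ _) (h₁.eq_of_tgt _ _)

end second

end Groth.Agent.Helper13Tor
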