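import Mathlib
import Groth.Agent.S5809
import Groth.Agent.Lib.Helper21PdLoc
import Groth.Agent.Lib.Helper28PdQuot
import Groth.Agent.Lib.Helper5RLR

/-!
# Serre's converse: finite projective dimension of the residue field implies regular (helper28)

* `projective_of_hasProjectiveDimensionLT_of_socle`: over a depth-zero Noetherian local ring every
  finite module of finite projective dimension is projective.
* `hasProjectiveDimensionLT_residueField_quotient`: for `x ∈ m \ m²` regular, `pd_{R/x} k ≤ pd_R k`.
* `isRegularLocalRing_of_hasProjectiveDimensionLT_residueField`: Serre's theorem.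
-/

universe u
open CategoryTheory CategoryTheory.Limits IsLocalRing
open scoped Pointwise

namespace Groth.Agent.Lib.Helper28

section SerreConverse

open Groth.Agent.Lib.Helper21.PdLoc

variable {R : Type u} [CommRing R] [IsLocalRing R] [IsNoetherianRing R]

/-- If `y ≠ 0` is killed by the maximal ideal (depth zero), every finite module of finite
projective dimension is projective. -/
theorem projective_of_hasProjectiveDimensionLT_of_socle (y : R) (hy : y ≠ 0)
    (hym : ∀ a ∈ maximalIdeal R, a * y = 0) (n : ℕ) :
    ∀ (M : Type u) [AddCommGroup M] [Module R M] [Module.Finite R M],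
      HasProjectiveDimensionLT (ModuleCat.of R M) (n + 1) → Module.Projective R M := by
  induction n with
  | zero =>
    intro M _ _ _ h
    rwa [zero_add, pdLT_one_iff] at h
  | succ n ih =>
    intro M _ _ _ h
    refine ih M ?_
    apply Groth.Agent.S5809.aux R n M
    -- the short exact sequence `0 → k → R → R/(y) → 0`
    let f : ResidueField R →ₗ[R] R :=
      Submodule.liftQ (maximalIdeal R) (LinearMap.toSpanSingleton R R y) (by
        intro a ha
        rw [LinearMap.mem_ker, LinearMap.toSpanSingleton_apply, smul_eq_mul]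
        exact hym a ha)
    have hf : Function.Injective f := by
      rw [injective_iff_map_eq_zero]
      intro a ha
      obtain ⟨a, rfl⟩ := IsLocalRing.residue_surjective a
      have h1 : a * y = 0 := ha
      by_contra hne
      have hu : IsUnit a := by
        by_contra hnu
        exact hne ((IsLocalRing.residue_eq_zero_iff a).mpr hnu)
      exact hy ((hu.mul_right_eq_zero).mp h1)
    let g : R →ₗ[R] (R ⧸ LinearMap.range f) := Submodule.mkQ _
    have hg : Function.Surjective g := Submodule.mkQ_surjective _
    have hex : Function.Exact f g := LinearMap.exact_map_mkQ_range f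
    have hS := Groth.Agent.Helper13Devissage.shortExact_mk f g hf hg hex
    have h₃ : IsZero (((Tor (ModuleCat.{u} R) (n + 1 + 1)).obj
        (ModuleCat.of R (R ⧸ LinearMap.range f))).obj (ModuleCat.of R M)) := by
      have : HasProjectiveDimensionLE (ModuleCat.of R M) (n + 1) := h
      exact Groth.Agent.S14414.result R _ (ModuleCat.of R M) (n + 1) (n + 1 + 1) (by omega)
    have h₂ : IsZero (((Tor (ModuleCat.{u} R) (n + 1)).obj
        (ModuleCat.of R R)).obj (ModuleCat.of R M)) :=
      Groth.Agent.Helper13Tor.isZero_tor_of_flat (Y := ModuleCat.of R M) (ModuleCat.of R R) (n + 1)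
        (by omega)
    exact Groth.Agent.Helper13Tor.isZero_tor_X₁ _ hS (ModuleCat.of R M) (n + 1) h₃ h₂

theorem isRegularLocalRing_of_maximalIdeal_eq_bot (h : maximalIdeal R = ⊥) :
    IsRegularLocalRing R := by
  apply IsRegularLocalRing.of_spanFinrank_maximalIdeal_le
  rw [h, Submodule.spanFinrank_bot]
  exact_mod_cast ringKrullDim_nonneg_of_nontrivial

theorem isRegularLocalRing_of_socle (y : R) (hy : y ≠ 0)
    (hym : ∀ a ∈ maximalIdeal R, a * y = 0) (n : ℕ)
    (h : HasProjectiveDimensionLT (ModuleCat.of R (ResidueField R)) n) :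
    IsRegularLocalRing R := by
  have h' : HasProjectiveDimensionLT (ModuleCat.of R (ResidueField R)) (n + 1) :=
    hasProjectiveDimensionLT_of_ge _ n (n + 1) (Nat.le_succ n)
  have hproj : Module.Projective R (ResidueField R) :=
    projective_of_hasProjectiveDimensionLT_of_socle y hy hym n _ h'
  have hfree : Module.Free R (ResidueField R) := Module.free_of_flat_of_isLocalRing
  have hfaith : FaithfulSMul R (ResidueField R) := inferInstance
  apply isRegularLocalRing_of_maximalIdeal_eq_bot
  rw [eq_bot_iff]
  intro a ha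
  rw [Ideal.mem_bot]
  have h1 : a ∈ Module.annihilator R (ResidueField R) := by
    rw [Module.mem_annihilator]
    intro z
    obtain ⟨z, rfl⟩ := IsLocalRing.residue_surjective z
    rw [Algebra.smul_def]
    have : algebraMap R (ResidueField R) a = 0 := (IsLocalRing.residue_eq_zero_iff a).mpr ha
    rw [this, zero_mul]
  rwa [Module.annihilator_eq_bot.mpr hfaith, Submodule.mem_bot] at h1

theorem hasProjectiveDimensionLT_of_retract {S : Type u} [CommRing S] {A B : Type u}
    [AddCommGroup A] [Module S A] [AddCommGroup B] [Module S B] (i : B →ₗ[S] A) (r : A →ₗ[S] B)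
    (hri : r ∘ₗ i = LinearMap.id) (n : ℕ) (h : HasProjectiveDimensionLT (ModuleCat.of S A) n) :
    HasProjectiveDimensionLT (ModuleCat.of S B) n := by
  have hR : Retract (ModuleCat.of S B) (ModuleCat.of S A) :=
    { i := ModuleCat.ofHom i
      r := ModuleCat.ofHom r
      retract := by
        rw [← ModuleCat.ofHom_comp, hri]
        rfl }
  exact hR.hasProjectiveDimensionLT n

theorem hasProjectiveDimensionLT_maximalIdeal (n : ℕ)
    (h : HasProjectiveDimensionLT (ModuleCat.of R (ResidueField R)) n) :
    HasProjectiveDimensionLT (ModuleCat.of R (maximalIdeal R)) (n + 1) := by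
  have h' : HasProjectiveDimensionLT (ModuleCat.of R (ResidueField R)) (n + 2) :=
    hasProjectiveDimensionLT_of_ge _ n (n + 2) (by omega)
  exact (pdLT_succ_iff_of_ses (maximalIdeal R).subtype (Submodule.mkQ (maximalIdeal R))
    (Submodule.injective_subtype _) (Submodule.mkQ_surjective _)
    (LinearMap.exact_subtype_mkQ _) n).mp h'

theorem exists_retract_residueField_quotSMulTop (x : R) (hx : x ∈ maximalIdeal R)
    (hx2 : x ∉ maximalIdeal R ^ 2) [IsLocalRing (R ⧸ Ideal.span {x})] :
    ∃ (i : ResidueField (R ⧸ Ideal.span {x}) →ₗ[R ⧸ Ideal.span {x}] QuotSMulTop x (maximalIdeal R))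
      (r : QuotSMulTop x (maximalIdeal R) →ₗ[R ⧸ Ideal.span {x}] ResidueField (R ⧸ Ideal.span {x})),
      r ∘ₗ i = LinearMap.id := by
  have hsq : Function.Surjective (algebraMap R (R ⧸ Ideal.span {x})) :=
    Ideal.Quotient.mk_surjective
  have hloc : IsLocalHom (algebraMap R (R ⧸ Ideal.span {x})) :=
    IsLocalHom.of_surjective _ hsq
  -- the functional
  have hne : (maximalIdeal R).toCotangent ⟨x, hx⟩ ≠ 0 := by
    rw [Ne, Ideal.toCotangent_eq_zero]
    exact hx2
  obtain ⟨ℓ, hℓ⟩ := Module.Projective.exists_dual_eq_one (ResidueField R)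
    (V := CotangentSpace R) hne
  let ι : ResidueField R →ₗ[R] ResidueField (R ⧸ Ideal.span {x}) :=
    (Algebra.linearMap (ResidueField R) (ResidueField (R ⧸ Ideal.span {x}))).restrictScalars R
  let φ : maximalIdeal R →ₗ[R] ResidueField (R ⧸ Ideal.span {x}) :=
    ι ∘ₗ (ℓ.restrictScalars R) ∘ₗ (maximalIdeal R).toCotangent
  have hφx : φ ⟨x, hx⟩ = 1 := by
    show ι (ℓ ((maximalIdeal R).toCotangent ⟨x, hx⟩)) = 1
    rw [hℓ]
    exact map_one (algebraMap (ResidueField R) (ResidueField (R ⧸ Ideal.span {x})))
  have hxk : algebraMap R (ResidueField (R ⧸ Ideal.span {x})) x = 0 := by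
    rw [IsScalarTower.algebraMap_apply R (R ⧸ Ideal.span {x})]
    have : algebraMap R (R ⧸ Ideal.span {x}) x = 0 :=
      Ideal.Quotient.eq_zero_iff_mem.mpr (Ideal.mem_span_singleton_self x)
    rw [this, map_zero]
  have hker : x • (⊤ : Submodule R (maximalIdeal R)) ≤ LinearMap.ker φ := by
    intro z hz
    obtain ⟨w, -, rfl⟩ := (Submodule.mem_smul_pointwise_iff_exists _ _ _).mp hz
    rw [LinearMap.mem_ker, map_smul, Algebra.smul_def, hxk, zero_mul]
  let r₀ : QuotSMulTop x (maximalIdeal R) →ₗ[R] ResidueField (R ⧸ Ideal.span {x}) :=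
    Submodule.liftQ _ φ hker
  let r : QuotSMulTop x (maximalIdeal R) →ₗ[R ⧸ Ideal.span {x}] ResidueField (R ⧸ Ideal.span {x}) :=
    r₀.extendScalarsOfSurjective hsq
  -- the section
  let xbar : QuotSMulTop x (maximalIdeal R) := Submodule.Quotient.mk ⟨x, hx⟩
  have hsec : maximalIdeal (R ⧸ Ideal.span {x}) ≤
      LinearMap.ker (LinearMap.toSpanSingleton (R ⧸ Ideal.span {x})
        (QuotSMulTop x (maximalIdeal R)) xbar) := by
    intro s hs
    obtain ⟨a, rfl⟩ := Ideal.Quotient.mk_surjective s
    have ha : a ∈ maximalIdeal R :=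
      (Groth.Agent.Lib.Helper5.mk_mem_maximalIdeal_quotient_iff _ a).mp hs
    rw [LinearMap.mem_ker, LinearMap.toSpanSingleton_apply]
    show (Submodule.Quotient.mk (a • (⟨x, hx⟩ : maximalIdeal R)) :
      QuotSMulTop x (maximalIdeal R)) = 0
    rw [Submodule.Quotient.mk_eq_zero]
    have : a • (⟨x, hx⟩ : maximalIdeal R) = x • (⟨a, ha⟩ : maximalIdeal R) :=
      Subtype.ext (mul_comm a x)
    rw [this]
    exact Submodule.smul_mem_pointwise_smul _ x ⊤ trivial
  let i : ResidueField (R ⧸ Ideal.span {x}) →ₗ[R ⧸ Ideal.span {x}]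
      QuotSMulTop x (maximalIdeal R) :=
    Submodule.liftQ (maximalIdeal (R ⧸ Ideal.span {x})) _ hsec
  refine ⟨i, r, ?_⟩
  apply Submodule.linearMap_qext
  apply LinearMap.ext_ring
  show r₀ (i (Submodule.Quotient.mk 1)) = Submodule.Quotient.mk 1
  have h1 : i (Submodule.Quotient.mk 1) = xbar := by
    show LinearMap.toSpanSingleton (R ⧸ Ideal.span {x}) (QuotSMulTop x (maximalIdeal R)) xbar 1 = xbar
    rw [LinearMap.toSpanSingleton_apply, one_smul]
  rw [h1]
  show φ ⟨x, hx⟩ = _
  rw [hφx]
  rfl

theorem hasProjectiveDimensionLT_residueField_quotient (x : R) (hx : x ∈ maximalIdeal R)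
    (hx2 : x ∉ maximalIdeal R ^ 2) (hreg : IsSMulRegular R x) [IsLocalRing (R ⧸ Ideal.span {x})]
    (n : ℕ) (h : HasProjectiveDimensionLT (ModuleCat.of R (ResidueField R)) n) :
    HasProjectiveDimensionLT (ModuleCat.of (R ⧸ Ideal.span {x})
      (ResidueField (R ⧸ Ideal.span {x}))) (n + 1) := by
  have h1 := hasProjectiveDimensionLT_maximalIdeal n h
  have hmreg : IsSMulRegular (maximalIdeal R) x := hreg.submodule (maximalIdeal R) x
  have h2 := hasProjectiveDimensionLT_quotSMulTop x hreg n (maximalIdeal R) hmreg h1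
  obtain ⟨i, r, hri⟩ := exists_retract_residueField_quotSMulTop x hx hx2
  exact hasProjectiveDimensionLT_of_retract i r hri (n + 1) h2

/-- prime avoidance: if `m ≠ 0` is not an associated prime of `R`, there is a regular element
in `m \ m²`. -/
theorem exists_mem_maximalIdeal_not_mem_sq_isSMulRegular {R : Type u} [CommRing R] [IsLocalRing R]
    [IsNoetherianRing R] (hm : maximalIdeal R ≠ ⊥)
    (hAss : maximalIdeal R ∉ associatedPrimes R R) :
    ∃ x ∈ maximalIdeal R, x ∉ maximalIdeal R ^ 2 ∧ IsSMulRegular R x := by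
  classical
  by_contra hcon
  push Not at hcon
  have hfin : (associatedPrimes R R).Finite := associatedPrimes.finite R R
  let S : Finset (Ideal R) := insert (maximalIdeal R ^ 2) hfin.toFinset
  have hsub : ((maximalIdeal R : Ideal R) : Set R) ⊆
      ⋃ i ∈ (↑S : Set (Ideal R)), ((id i : Ideal R) : Set R) := by
    intro x hx
    by_cases hx2 : x ∈ maximalIdeal R ^ 2
    · refine Set.mem_biUnion (x := maximalIdeal R ^ 2) ?_ hx2
      exact Finset.mem_coe.mpr (Finset.mem_insert_self _ _)
    · have hnr := hcon x hx hx2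
      have : x ∈ ⋃ p ∈ associatedPrimes R R, (p : Set R) := by
        rw [biUnion_associatedPrimes_eq_compl_regular]
        exact hnr
      obtain ⟨p, hp, hxp⟩ := Set.mem_iUnion₂.mp this
      refine Set.mem_biUnion (x := p) ?_ hxp
      exact Finset.mem_coe.mpr (Finset.mem_insert_of_mem ((Set.Finite.mem_toFinset _).mpr hp))
  rw [Ideal.subset_union_prime (maximalIdeal R ^ 2) (maximalIdeal R ^ 2)] at hsub
  · obtain ⟨i, hi, hle⟩ := hsub
    rw [Finset.mem_insert] at hi
    rcases hi with rfl | hi
    · apply hm
      apply Submodule.eq_bot_of_le_smul_of_le_jacobson_bot (maximalIdeal R) (maximalIdeal R)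
        (maximalIdeal R).fg_of_isNoetherianRing
      · rw [smul_eq_mul, ← pow_two]; exact hle
      · rw [IsLocalRing.jacobson_eq_maximalIdeal ⊥ bot_ne_top]
    · rw [Set.Finite.mem_toFinset] at hi
      have hi' : i.IsPrime := hi.isPrime
      have h2 : maximalIdeal R = i := (maximalIdeal.isMaximal R).eq_of_le hi'.ne_top hle
      exact hAss (h2 ▸ hi)
  · intro i hi hne _
    rw [Finset.mem_insert] at hi
    rcases hi with rfl | hi
    · exact absurd rfl hne
    · rw [Set.Finite.mem_toFinset] at hi
      exact hi.isPrime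

theorem isRegularLocalRing_of_hasProjectiveDimensionLT_aux (d : ℕ) :
    ∀ (R : Type u) [CommRing R] [IsLocalRing R] [IsNoetherianRing R] (n : ℕ),
      ringKrullDim R < d → HasProjectiveDimensionLT (ModuleCat.of R (ResidueField R)) n →
        IsRegularLocalRing R := by
  induction d with
  | zero =>
    intro R _ _ _ n hd h
    exfalso
    have h0 : (0 : WithBot ℕ∞) ≤ ringKrullDim R := ringKrullDim_nonneg_of_nontrivial
    exact absurd (lt_of_le_of_lt h0 hd) (lt_irrefl _)
  | succ d ih =>
    intro R _ _ _ n hd h
    by_cases hm : maximalIdeal R = ⊥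
    · exact isRegularLocalRing_of_maximalIdeal_eq_bot hm
    by_cases hAss : maximalIdeal R ∈ associatedPrimes R R
    · obtain ⟨-, y, hy⟩ := (isAssociatedPrime_iff).mp hAss
      have hy0 : y ≠ 0 := by
        rintro rfl
        apply (maximalIdeal.isMaximal R).ne_top
        rw [hy, eq_top_iff]
        intro a _
        rw [Submodule.mem_colon_singleton, smul_zero]
        exact Submodule.zero_mem _
      refine isRegularLocalRing_of_socle y hy0 ?_ n h
      intro a ha
      rw [hy, Submodule.mem_colon_singleton] at ha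
      exact (Submodule.mem_bot R).mp ha
    · obtain ⟨x, hx, hx2, hreg⟩ := exists_mem_maximalIdeal_not_mem_sq_isSMulRegular hm hAss
      have hloc : IsLocalRing (R ⧸ Ideal.span {x}) :=
        Groth.Agent.Lib.Helper5.isLocalRing_quotient (fun htop =>
          (maximalIdeal.isMaximal R).ne_top (top_le_iff.mp (htop ▸
            (Ideal.span_singleton_le_iff_mem _).mpr hx)))
      have hpd := hasProjectiveDimensionLT_residueField_quotient x hx hx2 hreg n h
      have hnzd : x ∈ nonZeroDivisors R := by
        rw [mem_nonZeroDivisors_iff_right]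
        intro z hz
        exact hreg (by simpa [mul_comm] using hz)
      have hdim := ringKrullDim_quotient_succ_le_of_nonZeroDivisor hnzd
      have hlt : ringKrullDim (R ⧸ Ideal.span {x}) < d := by
        obtain ⟨a, ha⟩ := Groth.Agent.Lib.Helper5.exists_nat_ringKrullDim_eq R
        obtain ⟨b, hb⟩ := Groth.Agent.Lib.Helper5.exists_nat_ringKrullDim_eq (R ⧸ Ideal.span {x})
        rw [ha] at hd
        rw [ha, hb] at hdim
        rw [hb]
        have h1 : b + 1 ≤ a := by exact_mod_cast hdim
        have h2 : a < d + 1 := by exact_mod_cast hd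
        have h3 : b < d := by omega
        exact_mod_cast h3
      have hregq : IsRegularLocalRing (R ⧸ Ideal.span {x}) := ih _ (n + 1) hlt hpd
      exact (Groth.Agent.Lib.Helper5.isRegularLocalRing_of_quotient_span_singleton hx hnzd).1

/-- **Serre**: a Noetherian local ring whose residue field has finite projective dimension is
regular. -/
theorem isRegularLocalRing_of_hasProjectiveDimensionLT_residueField (R : Type u) [CommRing R]
    [IsLocalRing R] [IsNoetherianRing R] (n : ℕ)
    (h : HasProjectiveDimensionLT (ModuleCat.of R (ResidueField R)) n) : IsRegularLocalRing R := by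
  obtain ⟨a, ha⟩ := Groth.Agent.Lib.Helper5.exists_nat_ringKrullDim_eq R
  refine isRegularLocalRing_of_hasProjectiveDimensionLT_aux (a + 1) R n ?_ h
  rw [ha]
  exact_mod_cast Nat.lt_succ_self a

end SerreConverse

end Groth.Agent.Lib.Helper28
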