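import Mathlib

/-!
# Associated primes of `M/tM` (helper5)

* `mem_associatedPrimes_quotSMulTop_of_mem_minimalPrimes`: if `t` is `M`-regular, `p ∈ Ass M` and
  `q` is minimal over `p + tA`, then `q ∈ Ass (M/tM)`.
-/

set_option autoImplicit false
universe u v w

namespace Groth.Agent.Lib.Helper5

open Order Module Submodule

section
variable {A : Type u} [CommRing A] [IsNoetherianRing A] {M : Type v} [AddCommGroup M] [Module A M]
  [Module.Finite A M]

open Pointwise in
/-- EGA 0_IV 16.4.6.2-style: if `t` is `M`-regular, `p ∈ Ass M` and `q` is minimal over `p + tA`,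
then `q ∈ Ass (M/tM)`. -/
theorem mem_associatedPrimes_quotSMulTop_of_mem_minimalPrimes {t : A} (ht : IsSMulRegular M t)
    {p : Ideal A} (hp : p ∈ associatedPrimes A M) {q : Ideal A}
    (hq : q ∈ (p ⊔ Ideal.span {t}).minimalPrimes) :
    q ∈ associatedPrimes A (QuotSMulTop t M) := by
  obtain ⟨hpprime, x, hx⟩ := (isAssociatedPrime_iff).mp hp
  let N : Submodule A M := Submodule.torsionBySet A M p
  have hNmem : ∀ m : M, m ∈ N ↔ ∀ a ∈ p, a • m = 0 := by
    intro m
    rw [Submodule.mem_torsionBySet_iff]
    exact ⟨fun h a ha => h ⟨a, ha⟩, fun h a => h a.1 a.2⟩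
  have hxN : x ∈ N := by
    rw [hNmem]
    intro a ha
    rw [hx, Submodule.mem_colon_singleton, Submodule.mem_bot] at ha
    exact ha
  -- the induced map `N/tN → M/tM` is injective
  let φ : QuotSMulTop t N →ₗ[A] QuotSMulTop t M := QuotSMulTop.map t N.subtype
  have hφ : Function.Injective φ := by
    rw [injective_iff_map_eq_zero]
    intro y hy
    obtain ⟨n, rfl⟩ := Submodule.Quotient.mk_surjective _ y
    rw [QuotSMulTop.map_apply_mk, Submodule.Quotient.mk_eq_zero,
      Submodule.mem_smul_pointwise_iff_exists] at hy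
    obtain ⟨m, -, hm⟩ := hy
    have hmN : m ∈ N := by
      rw [hNmem]
      intro a ha
      apply ht
      change t • (a • m) = t • 0
      rw [smul_zero, smul_comm, hm]
      exact (hNmem _).mp n.2 a ha
    rw [Submodule.Quotient.mk_eq_zero, Submodule.mem_smul_pointwise_iff_exists]
    exact ⟨⟨m, hmN⟩, trivial, Subtype.ext hm⟩
  -- `q` is a minimal prime of the annihilator of `N/tN`
  have hle : p ⊔ Ideal.span {t} ≤ Module.annihilator A (QuotSMulTop t N) := by
    rw [sup_le_iff, Ideal.span_singleton_le_iff_mem]
    constructor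
    · intro a ha
      rw [Module.mem_annihilator]
      intro y
      obtain ⟨n, rfl⟩ := Submodule.Quotient.mk_surjective _ y
      rw [← Submodule.Quotient.mk_smul]
      have : a • n = 0 := Subtype.ext ((hNmem _).mp n.2 a ha)
      rw [this, Submodule.Quotient.mk_zero]
    · rw [Module.mem_annihilator]
      intro y
      obtain ⟨n, rfl⟩ := Submodule.Quotient.mk_surjective _ y
      rw [← Submodule.Quotient.mk_smul, Submodule.Quotient.mk_eq_zero,
        Submodule.mem_smul_pointwise_iff_exists]
      exact ⟨n, trivial, rfl⟩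
  have hqprime : q.IsPrime := hq.isPrime
  have hqS : (⟨q, hqprime⟩ : PrimeSpectrum A) ∈ Module.support A (QuotSMulTop t N) := by
    rw [Module.support_quotSMulTop]
    refine ⟨?_, ?_⟩
    · rw [Module.mem_support_iff_exists_annihilator]
      refine ⟨⟨x, hxN⟩, ?_⟩
      intro a ha
      have h1 : a ∈ p := by
        rw [hx, Submodule.mem_colon_singleton, Submodule.mem_bot]
        rw [Submodule.mem_annihilator_span_singleton] at ha
        exact congrArg Subtype.val ha
      exact hq.1.2 (Ideal.mem_sup_left h1)
    · rw [PrimeSpectrum.mem_zeroLocus, Set.singleton_subset_iff]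
      exact hq.1.2 (Ideal.mem_sup_right (Ideal.mem_span_singleton_self t))
  have hq' : q ∈ (Module.annihilator A (QuotSMulTop t N)).minimalPrimes := by
    refine ⟨⟨hqprime, Module.mem_support_iff_of_finite.mp hqS⟩, ?_⟩
    rintro q' ⟨hq'prime, hq'le⟩ hq'q
    exact hq.2 ⟨hq'prime, hle.trans hq'le⟩ hq'q
  have := Module.associatedPrimes.minimalPrimes_annihilator_subset_associatedPrimes A
    (QuotSMulTop t N) hq'
  exact associatedPrimes.subset_of_injective hφ this

end


end Groth.Agent.Lib.Helper5
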