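import Mathlib

/-!
# Support dimension: localization, quotients, semilocal rings (helper5)

* `krullDim_add_krullDim_le`: order lemma, `dim α + dim β ≤ dim γ` for posets mapping below / above
  a point of `γ`.
* `supportDim_localization_add_supportDim_quotient_le`: `dim M_p + dim M/pM ≤ dim M`.
* `ringKrullDim_lt_top_of_semilocal`, `supportDim_lt_top_of_semilocal`.
* `ringKrullDim_quotient_le_supportDim`: `dim A/p ≤ dim M` for `p` in the support.
* `supportDim_quotSMulTop_succ_eq_iff`: EGA 0_IV 16.3.4.
-/

set_option autoImplicit false
universe u v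

namespace Groth.Agent.Lib.Helper5

open Order

/-- If `α` maps (strictly monotonically) below a point `c` of `γ` and `β` above it, then
`dim α + dim β ≤ dim γ`. -/
theorem krullDim_add_krullDim_le {α β γ : Type*} [Preorder α] [Preorder β] [Preorder γ]
    (f : α → γ) (hf : StrictMono f) (g : β → γ) (hg : StrictMono g) (c : γ)
    (hfc : ∀ a, f a ≤ c) (hcg : ∀ b, c ≤ g b) :
    krullDim α + krullDim β ≤ krullDim γ := by
  by_cases hα : IsEmpty α
  · rw [krullDim_eq_bot, WithBot.bot_add]; exact bot_le
  by_cases hβ : IsEmpty β
  · rw [krullDim_eq_bot (α := β), WithBot.add_bot]; exact bot_le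
  rw [not_isEmpty_iff] at hα hβ
  rw [krullDim_eq_iSup_length (α := α), krullDim_eq_iSup_length (α := β), ← WithBot.coe_add]
  have key : ∀ (s : LTSeries α) (t : LTSeries β),
      ((s.length + t.length : ℕ) : WithBot ℕ∞) ≤ krullDim γ := by
    intro s t
    by_cases hs : s.length = 0
    · rw [hs, zero_add]
      exact LTSeries.length_le_krullDim (t.map g hg)
    · have hlt : f s.eraseLast.last < g t.head := by
        have h1 : s.eraseLast.last < s.last := s.eraseLast_last_rel_last hs
        exact lt_of_lt_of_le (hf h1) ((hfc _).trans (hcg _))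
      have := LTSeries.length_le_krullDim
        ((LTSeries.map s.eraseLast f hf).append (t.map g hg) (by simpa using hlt))
      refine le_trans ?_ this
      apply le_of_eq
      congr 1
      simp [RelSeries.append]
      omega
  have hγ : Nonempty γ := ⟨c⟩
  rw [krullDim_eq_iSup_length (α := γ)] at key ⊢
  rw [WithBot.coe_le_coe]
  apply ENat.iSup_add_iSup_le
  intro s t
  have := key s t
  exact_mod_cast this


/-- A point of the support of `M_p` contracts to a point of the support of `M`. -/
lemma comap_mem_support_of_mem_support_localization {A : Type*} [CommRing A] {M : Type*}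
    [AddCommGroup M] [Module A M] (p : Ideal A) [p.IsPrime]
    (P' : PrimeSpectrum (Localization.AtPrime p))
    (h : P' ∈ Module.support (Localization.AtPrime p) (LocalizedModule p.primeCompl M)) :
    PrimeSpectrum.comap (algebraMap A (Localization.AtPrime p)) P' ∈ Module.support A M := by
  rw [Module.mem_support_iff'] at h ⊢
  obtain ⟨m, hm⟩ := h
  induction m using LocalizedModule.induction_on with
  | h n s =>
    refine ⟨n, fun a ha han => ?_⟩
    have ha' : algebraMap A (Localization.AtPrime p) a ∉ P'.asIdeal := ha
    apply hm _ ha'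
    rw [algebraMap_smul, LocalizedModule.smul'_mk, han, LocalizedModule.zero_mk]

theorem supportDim_localization_add_supportDim_quotient_le (A : Type u) [CommRing A] (M : Type u)
    [AddCommGroup M] [Module A M] [Module.Finite A M] (p : Ideal A) [p.IsPrime] :
    Module.supportDim (Localization.AtPrime p) (LocalizedModule p.primeCompl M) +
        Module.supportDim A (M ⧸ (p • (⊤ : Submodule A M))) ≤ Module.supportDim A M := by
  by_cases hp : (⟨p, inferInstance⟩ : PrimeSpectrum A) ∈ Module.support A M
  · unfold Module.supportDim
    have hsub : Module.support A (M ⧸ (p • (⊤ : Submodule A M))) =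
        Module.support A M ∩ PrimeSpectrum.zeroLocus p := Module.support_quotient p
    let f : Module.support (Localization.AtPrime p) (LocalizedModule p.primeCompl M) →
        Module.support A M := fun P' =>
      ⟨PrimeSpectrum.comap (algebraMap A (Localization.AtPrime p)) P'.1,
        comap_mem_support_of_mem_support_localization p P'.1 P'.2⟩
    let g : Module.support A (M ⧸ (p • (⊤ : Submodule A M))) → Module.support A M := fun Q =>
      ⟨Q.1, (hsub ▸ Q.2 : Q.1 ∈ Module.support A M ∩ PrimeSpectrum.zeroLocus p).1⟩
    refine krullDim_add_krullDim_le f ?_ g ?_ ⟨⟨p, inferInstance⟩, hp⟩ ?_ ?_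
    · intro P Q hPQ
      have h1 : P.1.asIdeal < Q.1.asIdeal := hPQ
      have hle : P.1.asIdeal.comap (algebraMap A (Localization.AtPrime p)) ≤
          Q.1.asIdeal.comap (algebraMap A (Localization.AtPrime p)) := Ideal.comap_mono h1.le
      refine lt_of_le_of_ne hle ?_
      intro heq
      have h2 : P.1.asIdeal = Q.1.asIdeal := by
        rw [← IsLocalization.map_under p.primeCompl (Localization.AtPrime p) P.1.asIdeal,
          ← IsLocalization.map_under p.primeCompl (Localization.AtPrime p) Q.1.asIdeal]
        have : P.1.asIdeal.under A = Q.1.asIdeal.under A := by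
          have := congrArg (fun z : Module.support A M => z.1.asIdeal) heq
          exact this
        rw [this]
      exact absurd h2 (ne_of_lt h1)
    · intro P Q hPQ
      exact hPQ
    · intro P'
      have h1 : P'.1.asIdeal ≤ IsLocalRing.maximalIdeal (Localization.AtPrime p) :=
        IsLocalRing.le_maximalIdeal P'.1.2.ne_top
      have h2 := Ideal.comap_mono (f := algebraMap A (Localization.AtPrime p)) h1
      have h3 : (IsLocalRing.maximalIdeal (Localization.AtPrime p)).comap
          (algebraMap A (Localization.AtPrime p)) = p := Localization.AtPrime.under_maximalIdeal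
      rw [h3] at h2
      exact h2
    · intro Q
      have := (hsub ▸ Q.2 : Q.1 ∈ Module.support A M ∩ PrimeSpectrum.zeroLocus p).2
      rw [PrimeSpectrum.mem_zeroLocus] at this
      exact this
  · have : Subsingleton (LocalizedModule p.primeCompl M) := Module.notMem_support_iff.mp hp
    rw [Module.supportDim_eq_bot_of_subsingleton, WithBot.bot_add]
    exact bot_le


open Module Ideal PrimeSpectrum

theorem krullDim_add_one_le_of_forall {α : Type*} [Preorder α] (b : WithBot ℕ∞)
    (h : ∀ q : LTSeries α, (q.length : WithBot ℕ∞) + 1 ≤ b) : krullDim α + 1 ≤ b := by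
  by_cases hα : IsEmpty α
  · rw [krullDim_eq_bot, WithBot.bot_add]; exact bot_le
  rw [not_isEmpty_iff] at hα
  rw [krullDim_eq_iSup_length]
  cases b with
  | bot =>
    obtain ⟨a⟩ := hα
    have := h (RelSeries.singleton _ a)
    simp at this
  | coe b =>
    have h' : ∀ q : LTSeries α, (q.length : ℕ∞) + 1 ≤ b := by
      intro q
      have := h q
      exact_mod_cast this
    have : (⨆ q : LTSeries α, (q.length : ℕ∞)) + 1 ≤ b := by
      rw [ENat.iSup_add]
      exact iSup_le h'
    exact_mod_cast this

theorem natCast_add_one_le_of_lt (n : ℕ) (b : WithBot ℕ∞) (h : (n : WithBot ℕ∞) < b) :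
    (n : WithBot ℕ∞) + 1 ≤ b := by
  cases b with
  | bot => simp at h
  | coe b =>
    have h' : (n : ℕ∞) < b := by exact_mod_cast h
    have : (n : ℕ∞) + 1 ≤ b := Order.add_one_le_of_lt h'
    exact_mod_cast this

section
variable {A : Type*} [CommRing A]

/-- A Noetherian ring with finitely many maximal ideals has finite Krull dimension. -/
theorem ringKrullDim_lt_top_of_semilocal [IsNoetherianRing A] [Finite (MaximalSpectrum A)] :
    ringKrullDim A < ⊤ := by
  classical
  have : Fintype (MaximalSpectrum A) := Fintype.ofFinite _
  obtain ⟨n, hn, hmn⟩ : ∃ n : ℕ∞, n < ⊤ ∧ ∀ m : MaximalSpectrum A, m.asIdeal.height ≤ n := by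
    refine ⟨Finset.univ.sup (fun m : MaximalSpectrum A => m.asIdeal.height), ?_, ?_⟩
    · rw [Finset.sup_lt_iff (by simp)]
      intro m _
      have := m.isMaximal
      exact Ideal.height_lt_top m.isMaximal.ne_top
    · intro m
      exact Finset.le_sup (f := fun m : MaximalSpectrum A => m.asIdeal.height)
        (Finset.mem_univ m)
  have hle : ringKrullDim A ≤ (n : WithBot ℕ∞) := by
    rw [ringKrullDim_le_iff_isMaximal_height_le]
    intro m hm
    have : m.height ≤ n := hmn ⟨m, hm⟩
    exact_mod_cast this
  refine lt_of_le_of_lt hle ?_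
  rw [← WithBot.coe_top, WithBot.coe_lt_coe]
  exact hn

theorem supportDim_lt_top_of_semilocal [IsNoetherianRing A] [Finite (MaximalSpectrum A)]
    (M : Type*) [AddCommGroup M] [Module A M] : Module.supportDim A M < ⊤ :=
  lt_of_le_of_lt (Module.supportDim_le_ringKrullDim A M) ringKrullDim_lt_top_of_semilocal

variable {M : Type*} [AddCommGroup M] [Module A M]

/-- A chain in the support of `M` all of whose members contain the prime `r` has length at most
`dim A/r`. -/
theorem length_le_ringKrullDim_quotient_of_le_head (q : LTSeries (Module.support A M))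
    (r : Ideal A) (hr : r ≤ q.head.1.asIdeal) :
    (q.length : WithBot ℕ∞) ≤ ringKrullDim (A ⧸ r) := by
  rw [← Module.supportDim_quotient_eq_ringKrullDim, Module.supportDim]
  have hmem : ∀ i, (q i).1 ∈ Module.support A (A ⧸ r) := by
    intro i
    rw [Module.support_eq_zeroLocus, Ideal.annihilator_quotient, PrimeSpectrum.mem_zeroLocus]
    refine le_trans hr ?_
    exact q.monotone (Fin.zero_le i)
  let q' : LTSeries (Module.support A (A ⧸ r)) :=
    { length := q.length
      toFun := fun i => ⟨(q i).1, hmem i⟩
      step := fun i => q.step i }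
  exact LTSeries.length_le_krullDim q'

/-- For `p` in the support of the finite module `M`, `dim A/p ≤ dim M`. -/
theorem ringKrullDim_quotient_le_supportDim [Module.Finite A M] (p : PrimeSpectrum A)
    (hp : p ∈ Module.support A M) : ringKrullDim (A ⧸ p.asIdeal) ≤ Module.supportDim A M := by
  rw [Module.supportDim_eq_ringKrullDim_quotient_annihilator]
  have hle : Module.annihilator A M ≤ p.asIdeal := Module.annihilator_le_of_mem_support hp
  exact ringKrullDim_le_of_surjective (Ideal.Quotient.factor hle)
    (Ideal.Quotient.factor_surjective hle)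

set_option backward.isDefEq.respectTransparency.types false in
/-- If `x` avoids the primes `p` of the support with `dim A/p = dim M`, then
`dim M/xM + 1 ≤ dim M`. -/
theorem supportDim_quotSMulTop_succ_le_of_notMem_of_dim_eq [Module.Finite A M] {x : A}
    (hn : ∀ p : PrimeSpectrum A, p ∈ Module.support A M →
      ringKrullDim (A ⧸ p.asIdeal) = Module.supportDim A M → x ∉ p.asIdeal) :
    supportDim A (QuotSMulTop x M) + 1 ≤ supportDim A M := by
  unfold Module.supportDim
  apply krullDim_add_one_le_of_forall
  intro p
  change (p.length : WithBot ℕ∞) + 1 ≤ supportDim A M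
  have hp := p.head.2
  simp only [support_quotSMulTop, Set.mem_inter_iff, mem_zeroLocus, Set.singleton_subset_iff] at hp
  have le : support A (QuotSMulTop x M) ⊆ support A M := by simp
  let q : LTSeries (support A M) :=
    p.map (Set.MapsTo.restrict id (support A (QuotSMulTop x M)) (support A M) le) (fun _ _ h ↦ h)
  obtain ⟨r, hrm, hr⟩ := exists_minimalPrimes_le (mem_support_iff_of_finite.mp q.head.2)
  have hrp : r.IsPrime := hrm.isPrime
  have hrS : (⟨r, hrp⟩ : PrimeSpectrum A) ∈ support A M := mem_support_iff_of_finite.mpr hrm.1.2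
  by_cases hrq : r = q.head.1.asIdeal
  · have hxr : x ∈ r := by rw [hrq]; exact hp.2
    have hne : ringKrullDim (A ⧸ r) ≠ supportDim A M := fun h => hn ⟨r, hrp⟩ hrS h hxr
    have hlt : ringKrullDim (A ⧸ r) < supportDim A M :=
      lt_of_le_of_ne (ringKrullDim_quotient_le_supportDim ⟨r, hrp⟩ hrS) hne
    have hlen : (p.length : WithBot ℕ∞) ≤ ringKrullDim (A ⧸ r) :=
      length_le_ringKrullDim_quotient_of_le_head p r hr
    exact natCast_add_one_le_of_lt _ _ (lt_of_le_of_lt hlen hlt)
  · let r' : support A M := ⟨⟨r, hrp⟩, hrS⟩
    have hr' : r' < q.head := lt_of_le_of_ne hr (fun h ↦ hrq (congrArg (fun z : support A M => z.1.asIdeal) h))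
    have := LTSeries.length_le_krullDim (q.cons r' hr')
    refine le_trans (le_of_eq ?_) this
    simp [q]

/-- EGA 0_IV 16.3.4: for `x` in the radical of a semilocal Noetherian ring,
`dim M/xM + 1 = dim M` iff `x` avoids the primes `p` of the support with `dim A/p = dim M`. -/
theorem supportDim_quotSMulTop_succ_eq_iff [IsNoetherianRing A] [Finite (MaximalSpectrum A)]
    [Module.Finite A M] {x : A} (hx : x ∈ Ring.jacobson A) :
    Module.supportDim A (QuotSMulTop x M) + 1 = Module.supportDim A M ↔
      ∀ p : PrimeSpectrum A, p ∈ Module.support A M →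
        ringKrullDim (A ⧸ p.asIdeal) = Module.supportDim A M → x ∉ p.asIdeal := by
  constructor
  · intro h p hp hdim hxp
    have hpQ : p ∈ Module.support A (QuotSMulTop x M) := by
      rw [support_quotSMulTop]
      exact ⟨hp, by simpa [mem_zeroLocus] using hxp⟩
    have h1 := ringKrullDim_quotient_le_supportDim p hpQ
    rw [hdim, ← h] at h1
    have hfin := supportDim_lt_top_of_semilocal (A := A) (QuotSMulTop x M)
    have hnt : Nontrivial (QuotSMulTop x M) := by
      rw [← Module.nonempty_support_iff (R := A)]
      exact ⟨p, hpQ⟩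
    have hbot := Module.supportDim_ne_bot_of_nontrivial A (QuotSMulTop x M)
    cases he : Module.supportDim A (QuotSMulTop x M) with
    | bot => exact hbot he
    | coe e =>
      rw [he] at h1 hfin
      cases e with
      | top => simp at hfin
      | coe k =>
        have : (k : ℕ∞) + 1 ≤ k := by exact_mod_cast h1
        have : k + 1 ≤ k := by exact_mod_cast this
        omega
  · intro hn
    apply le_antisymm (supportDim_quotSMulTop_succ_le_of_notMem_of_dim_eq hn)
    exact Module.supportDim_le_supportDim_quotSMulTop_succ_of_mem_jacobson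
      ((Module.annihilator A M).ringJacobson_le_jacobson hx)

end

end Groth.Agent.Lib.Helper5
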