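import Mathlib
import Groth.Agent.Lib.Helper28Depth
import Groth.Agent.Lib.Helper5Ass
import Groth.Agent.Lib.Helper5Depth
import Groth.Agent.Lib.Helper5SuppDim2

/-!
# Depth, dimension and Cohen–Macaulay modules (helper5)

* `ringKrullDim_quotient_succ_le_of_lt`: `dim A/q + 1 ≤ dim A/p` for primes `p < q`.
* `depth_le_ringKrullDim_quotient`: `depth M ≤ dim A/p` for `p ∈ Ass M` (EGA 0_IV 16.4.6.2).
* `depth_le_supportDim`: `depth M ≤ dim M`.
* `ringKrullDim_quotient_eq_supportDim_of_isCohenMacaulayModule`: CM modules are unmixed.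
-/

set_option autoImplicit false
universe u v w

namespace Groth.Agent.Lib.Helper5

open Module Submodule

section
variable {A : Type u} [CommRing A]

/-- For primes `p < q`, `dim A/q + 1 ≤ dim A/p`. -/
theorem ringKrullDim_quotient_succ_le_of_lt {p q : Ideal A} [hp : p.IsPrime] (hpq : p < q) :
    ringKrullDim (A ⧸ q) + 1 ≤ ringKrullDim (A ⧸ p) := by
  obtain ⟨a, haq, hap⟩ := SetLike.exists_of_lt hpq
  have ha0 : Ideal.Quotient.mk p a ≠ 0 := by
    rwa [Ne, Ideal.Quotient.eq_zero_iff_mem]
  have hnzd : Ideal.Quotient.mk p a ∈ nonZeroDivisors (A ⧸ p) := mem_nonZeroDivisors_of_ne_zero ha0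
  refine le_trans ?_ (ringKrullDim_quotient_succ_le_of_nonZeroDivisor hnzd)
  gcongr
  let f : (A ⧸ p) ⧸ Ideal.span {Ideal.Quotient.mk p a} →+* A ⧸ q :=
    Ideal.Quotient.lift _ (Ideal.Quotient.factor hpq.le) (by
      intro x hx
      obtain ⟨y, rfl⟩ := Ideal.mem_span_singleton'.mp hx
      rw [map_mul, Ideal.Quotient.factor_mk, Ideal.Quotient.eq_zero_iff_mem.mpr haq, mul_zero])
  refine ringKrullDim_le_of_surjective f ?_
  intro z
  obtain ⟨b, rfl⟩ := Ideal.Quotient.mk_surjective z
  exact ⟨Ideal.Quotient.mk _ (Ideal.Quotient.mk p b), by simp [f]⟩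

end

section
variable {A : Type u} [CommRing A] [IsLocalRing A] [IsNoetherianRing A]

/-- `depth M ≤ dim A/p` for every associated prime `p` of `M` (EGA 0_IV 16.4.6.2). -/
theorem natCast_le_ringKrullDim_quotient_of_le_depth (n : ℕ) :
    ∀ (M : Type u) [AddCommGroup M] [Module A M] [Module.Finite A M],
      (n : ℕ∞) ≤ LocCoh.depth A M → ∀ p ∈ associatedPrimes A M,
      (n : WithBot ℕ∞) ≤ ringKrullDim (A ⧸ p) := by
  induction n with
  | zero =>
    intro M _ _ _ _ p hp
    have : p.IsPrime := IsAssociatedPrime.isPrime hp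
    exact_mod_cast ringKrullDim_nonneg_of_nontrivial
  | succ n ih =>
    intro M _ _ _ hn p hp
    have hpprime : p.IsPrime := IsAssociatedPrime.isPrime hp
    have hM : Nontrivial M := by
      by_contra hM
      rw [not_nontrivial_iff_subsingleton] at hM
      rw [associatedPrimes.eq_empty_of_subsingleton] at hp
      exact hp
    have hIM := maximalIdeal_smul_top_ne_top (A := A) (M := M)
    have h1 : 1 ≤ LocCoh.idealDepth (IsLocalRing.maximalIdeal A) M :=
      le_trans (by simp) hn
    obtain ⟨t, htm, htreg⟩ := (Groth.Agent.Lib.Helper28.one_le_idealDepth_iff hIM).mp h1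
    have hdep := Groth.Agent.Lib.Helper28.idealDepth_quotSMulTop_add_one
      (IsLocalRing.maximalIdeal A) M hIM t htm htreg
    have hn' : (n : ℕ∞) ≤ LocCoh.depth A (QuotSMulTop t M) := by
      rw [LocCoh.depth] at hn ⊢
      rw [← hdep] at hn
      push_cast at hn
      exact (ENat.add_le_add_iff_right ENat.one_ne_top).mp hn
    -- `t ∉ p`
    obtain ⟨-, x, hx⟩ := (isAssociatedPrime_iff).mp hp
    have hx0 : x ≠ 0 := by
      rintro rfl
      apply hpprime.ne_top
      rw [hx, eq_top_iff]
      intro a _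
      rw [Submodule.mem_colon_singleton, smul_zero]
      exact Submodule.zero_mem _
    have htp : t ∉ p := by
      intro htp
      rw [hx, Submodule.mem_colon_singleton, Submodule.mem_bot] at htp
      apply hx0
      apply htreg
      change t • x = t • 0
      rw [htp, smul_zero]
    have hle : p ⊔ Ideal.span {t} ≤ IsLocalRing.maximalIdeal A := by
      rw [sup_le_iff, Ideal.span_singleton_le_iff_mem]
      exact ⟨IsLocalRing.le_maximalIdeal hpprime.ne_top, htm⟩
    obtain ⟨q, hq, -⟩ := Ideal.exists_minimalPrimes_le hle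
    have hqA := mem_associatedPrimes_quotSMulTop_of_mem_minimalPrimes htreg hp hq
    have hqprime : q.IsPrime := hq.isPrime
    have hpq : p < q := by
      refine lt_of_le_of_ne (le_trans le_sup_left hq.1.2) ?_
      rintro rfl
      exact htp (hq.1.2 (Ideal.mem_sup_right (Ideal.mem_span_singleton_self t)))
    have h2 := ih (QuotSMulTop t M) hn' q hqA
    have h3 := ringKrullDim_quotient_succ_le_of_lt hpq
    calc ((n + 1 : ℕ) : WithBot ℕ∞) = (n : WithBot ℕ∞) + 1 := by push_cast; rfl
      _ ≤ ringKrullDim (A ⧸ q) + 1 := by gcongr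
      _ ≤ _ := h3


variable {M : Type u} [AddCommGroup M] [Module A M] [Module.Finite A M]

theorem depth_ne_top [Nontrivial M] : LocCoh.depth A M ≠ ⊤ :=
  Groth.Agent.Lib.Helper28.idealDepth_ne_top maximalIdeal_smul_top_ne_top

/-- `depth M ≤ dim A/p` for `p ∈ Ass M`. -/
theorem depth_le_ringKrullDim_quotient {p : Ideal A} (hp : p ∈ associatedPrimes A M) :
    ((LocCoh.depth A M : ℕ∞) : WithBot ℕ∞) ≤ ringKrullDim (A ⧸ p) := by
  have hM : Nontrivial M := by
    by_contra hM
    rw [not_nontrivial_iff_subsingleton] at hM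
    rw [associatedPrimes.eq_empty_of_subsingleton] at hp
    exact hp
  obtain ⟨n, hn⟩ := ENat.ne_top_iff_exists.mp (depth_ne_top (A := A) (M := M))
  rw [← hn]
  exact natCast_le_ringKrullDim_quotient_of_le_depth n M (le_of_eq hn) p hp

omit [IsLocalRing A] [IsNoetherianRing A] in
theorem ringKrullDim_quotient_le_supportDim_of_annihilator_le {p : Ideal A}
    (hle : Module.annihilator A M ≤ p) : ringKrullDim (A ⧸ p) ≤ Module.supportDim A M := by
  rw [Module.supportDim_eq_ringKrullDim_quotient_annihilator]
  exact ringKrullDim_le_of_surjective (Ideal.Quotient.factor hle)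
    (Ideal.Quotient.factor_surjective hle)

omit [IsLocalRing A] [IsNoetherianRing A] [Module.Finite A M] in
theorem annihilator_le_of_mem_associatedPrimes {p : Ideal A} (hp : p ∈ associatedPrimes A M) :
    Module.annihilator A M ≤ p :=
  le_of_eq_of_le Submodule.annihilator_top.symm (IsAssociatedPrime.annihilator_le hp)

/-- `depth M ≤ dim M` for a nonzero finite module over a Noetherian local ring. -/
theorem depth_le_supportDim [Nontrivial M] :
    ((LocCoh.depth A M : ℕ∞) : WithBot ℕ∞) ≤ Module.supportDim A M := by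
  obtain ⟨p, hp⟩ := associatedPrimes.nonempty A M
  exact (depth_le_ringKrullDim_quotient hp).trans
    (ringKrullDim_quotient_le_supportDim_of_annihilator_le
      (annihilator_le_of_mem_associatedPrimes hp))

/-- EGA 0_IV 16.5.4-ish: a Cohen–Macaulay module has no embedded primes: `dim A/p = dim M` for all
`p ∈ Ass M`. -/
theorem ringKrullDim_quotient_eq_supportDim_of_isCohenMacaulayModule
    (hM : LocCoh.IsCohenMacaulayModule A M) {p : Ideal A} (hp : p ∈ associatedPrimes A M) :
    ringKrullDim (A ⧸ p) = Module.supportDim A M := by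
  apply le_antisymm
  · exact ringKrullDim_quotient_le_supportDim_of_annihilator_le
      (annihilator_le_of_mem_associatedPrimes hp)
  · rw [hM]
    exact depth_le_ringKrullDim_quotient hp

end


end Groth.Agent.Lib.Helper5
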