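import Mathlib
import Groth.Agent.Lib.Helper5RLR

/-!
# Regular local rings, part 2 (helper5)

* `isRegular_ofFn_of_linearIndependent`: elements of `m` with linearly independent classes in
  `m/m²` form a regular sequence (regular local ring).
-/

set_option autoImplicit false
universe u

namespace Groth.Agent.Lib.Helper5

open IsLocalRing Module

section

variable {R : Type u} [CommRing R] [IsLocalRing R] [IsNoetherianRing R]

theorem ofList_ofFn_eq_span_range {n : ℕ} (y : Fin n → R) :
    Ideal.ofList (List.ofFn y) = Ideal.span (Set.range y) := by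
  rw [Ideal.ofList]
  congr 1
  ext a
  exact List.mem_ofFn' y a

/-- In a regular local ring, elements of the maximal ideal whose classes in `m/m²` are linearly
independent form a regular sequence. -/
theorem isRegular_ofFn_of_linearIndependent [IsRegularLocalRing R] {d : ℕ}
    (x' : Fin d → maximalIdeal R)
    (hli : LinearIndependent (ResidueField R) (fun i => (maximalIdeal R).toCotangent (x' i))) :
    RingTheory.Sequence.IsRegular R (List.ofFn fun i => (x' i : R)) := by
  classical
  refine ⟨⟨fun i hi => ?_⟩, ?_⟩
  · rw [List.length_ofFn] at hi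
    have hile : i ≤ d := hi.le
    -- the ideal generated by the first `i` elements
    have hJ : Ideal.ofList ((List.ofFn fun i => (x' i : R)).take i) =
        Ideal.span (Set.range fun j : Fin i => ((x' (Fin.castLE hile j) : maximalIdeal R) : R)) := by
      rw [← Fin.ofFn_take_eq_take_ofFn hile, ofList_ofFn_eq_span_range]
      rfl
    have hli' : LinearIndependent (ResidueField R)
        (fun j : Fin i => (maximalIdeal R).toCotangent (x' (Fin.castLE hile j))) :=
      hli.comp (Fin.castLE hile) (Fin.castLE_injective hile)
    have hprime := isPrime_span_range_of_linearIndependent (fun j : Fin i => x' (Fin.castLE hile j)) hli'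
    -- `x i ∉ J`
    have hnot : (x' ⟨i, hi⟩ : R) ∉ Ideal.span (Set.range fun j : Fin i =>
        ((x' (Fin.castLE hile j) : maximalIdeal R) : R)) := by
      intro hmem
      have h1 : (maximalIdeal R).toCotangent (x' ⟨i, hi⟩) ∈
          cotV (Ideal.span (Set.range fun j : Fin i => ((x' (Fin.castLE hile j) : maximalIdeal R) : R))) :=
        toCotangent_mem_cotV _ hmem
      rw [cotV_span_range] at h1
      have h2 := hli.notMem_span_image (s := {k : Fin d | (k : ℕ) < i}) (x := ⟨i, hi⟩) (by simp)
      apply h2
      refine Submodule.span_mono ?_ h1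
      rintro _ ⟨j, rfl⟩
      exact ⟨Fin.castLE hile j, by simp, rfl⟩
    have hget : (List.ofFn fun i => (x' i : R))[i]'(by rw [List.length_ofFn]; exact hi) =
        (x' ⟨i, hi⟩ : R) := by simp
    rw [hget, hJ, isSMulRegular_iff_right_eq_zero_of_smul]
    intro ybar hy
    obtain ⟨y, rfl⟩ := Submodule.Quotient.mk_surjective _ ybar
    rw [← Submodule.Quotient.mk_smul, Submodule.Quotient.mk_eq_zero, smul_eq_mul, Ideal.mul_top,
      smul_eq_mul] at hy
    rw [Submodule.Quotient.mk_eq_zero, smul_eq_mul, Ideal.mul_top]
    exact (hprime.mem_or_mem hy).resolve_left hnot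
  · rw [ofList_ofFn_eq_span_range, smul_eq_mul, Ideal.mul_top]
    intro h
    exact (maximalIdeal.isMaximal R).ne_top
      (top_le_iff.mp (h ▸ span_range_le_maximalIdeal x'))

end

end Groth.Agent.Lib.Helper5

namespace Groth.Agent.Lib.Helper5

section

variable {R : Type u} [CommRing R]

/-- The localization of `R/I` at a prime `q` is `R_p / I R_p`, `p` the preimage of `q`; regularity
transfers. -/
theorem isRegularLocalRing_localization_quotient_of (I : Ideal R) (q : Ideal (R ⧸ I)) [q.IsPrime]
    (h : IsRegularLocalRing (Localization.AtPrime (q.comap (Ideal.Quotient.mk I)) ⧸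
      I.map (algebraMap R (Localization.AtPrime (q.comap (Ideal.Quotient.mk I)))))) :
    IsRegularLocalRing (Localization.AtPrime q) := by
  have hM : Algebra.algebraMapSubmonoid (R ⧸ I) (q.comap (Ideal.Quotient.mk I)).primeCompl =
      q.primeCompl := by
    ext y
    constructor
    · rintro ⟨x, hx, rfl⟩
      exact hx
    · intro hy
      obtain ⟨x, rfl⟩ := Ideal.Quotient.mk_surjective y
      exact ⟨x, hy, rfl⟩
  have hloc : IsLocalization (Algebra.algebraMapSubmonoid (R ⧸ I)
      (q.comap (Ideal.Quotient.mk I)).primeCompl)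
      (Localization.AtPrime (q.comap (Ideal.Quotient.mk I)) ⧸
        I.map (algebraMap R (Localization.AtPrime (q.comap (Ideal.Quotient.mk I))))) :=
    inferInstance
  rw [hM] at hloc
  exact IsRegularLocalRing.of_ringEquiv
    (IsLocalization.algEquiv q.primeCompl (Localization.AtPrime q)
      (Localization.AtPrime (q.comap (Ideal.Quotient.mk I)) ⧸
        I.map (algebraMap R (Localization.AtPrime (q.comap (Ideal.Quotient.mk I)))))).symm.toRingEquiv

/-- A derivation maps `p²` into `p`. -/
theorem derivation_mem_of_mem_sq {A : Type*} [CommRing A] (D : Derivation ℤ A A) (p : Ideal A)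
    {y : A} (hy : y ∈ p ^ 2) : D y ∈ p := by
  rw [pow_two] at hy
  refine Submodule.mul_induction_on hy ?_ ?_
  · intro a ha b hb
    rw [Derivation.leibniz, smul_eq_mul, smul_eq_mul]
    exact Ideal.add_mem _ (Ideal.mul_mem_right _ _ ha) (Ideal.mul_mem_right _ _ hb)
  · intro a b ha hb
    rw [map_add]
    exact Ideal.add_mem _ ha hb

/-- If `R` is a regular ring, `D` a derivation and `D f` is a unit modulo `f`, then `R/(f)` is a
regular ring. -/
theorem isRegularRing_quotient_span_singleton_of_derivation [IsRegularRing R] (f : R)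
    (D : Derivation ℤ R R) (hD : IsUnit (Ideal.Quotient.mk (Ideal.span {f}) (D f))) :
    IsRegularRing (R ⧸ Ideal.span ({f} : Set R)) := by
  have hNoeth : IsNoetherianRing (R ⧸ Ideal.span ({f} : Set R)) := inferInstance
  rw [isRegularRing_iff]
  intro q hq
  apply isRegularLocalRing_localization_quotient_of
  have hpprime : (q.comap (Ideal.Quotient.mk (Ideal.span ({f} : Set R)))).IsPrime := inferInstance
  have hfp : f ∈ q.comap (Ideal.Quotient.mk (Ideal.span ({f} : Set R))) := by
    rw [Ideal.mem_comap]
    have : Ideal.Quotient.mk (Ideal.span ({f} : Set R)) f = 0 :=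
      Ideal.Quotient.eq_zero_iff_mem.mpr (Ideal.mem_span_singleton_self f)
    rw [this]
    exact q.zero_mem
  have hDf : D f ∉ q.comap (Ideal.Quotient.mk (Ideal.span ({f} : Set R))) := by
    intro hmem
    rw [Ideal.mem_comap] at hmem
    exact hq.ne_top (Ideal.eq_top_of_isUnit_mem _ hmem hD)
  rw [Ideal.map_span, Set.image_singleton]
  have hmax := IsLocalization.AtPrime.map_eq_maximalIdeal
    (q.comap (Ideal.Quotient.mk (Ideal.span ({f} : Set R))))
    (Localization.AtPrime (q.comap (Ideal.Quotient.mk (Ideal.span ({f} : Set R)))))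
  have hfm : algebraMap R (Localization.AtPrime
      (q.comap (Ideal.Quotient.mk (Ideal.span ({f} : Set R))))) f ∈ IsLocalRing.maximalIdeal _ := by
    rw [← hmax]
    exact Ideal.mem_map_of_mem _ hfp
  have hloc : IsLocalRing (Localization.AtPrime
      (q.comap (Ideal.Quotient.mk (Ideal.span ({f} : Set R)))) ⧸ Ideal.span {algebraMap R
        (Localization.AtPrime (q.comap (Ideal.Quotient.mk (Ideal.span ({f} : Set R))))) f}) := by
    apply isLocalRing_quotient
    intro htop
    rw [Ideal.span_singleton_eq_top] at htop
    exact (IsLocalRing.mem_maximalIdeal _).mp hfm htop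
  refine (isRegularLocalRing_quotient_span_singleton hfm ?_).1
  · rw [← hmax, ← Ideal.map_pow]
    intro hmem
    rw [IsLocalization.algebraMap_mem_map_algebraMap_iff
      (q.comap (Ideal.Quotient.mk (Ideal.span ({f} : Set R)))).primeCompl] at hmem
    obtain ⟨s, hs, hsf⟩ := hmem
    have h1 := derivation_mem_of_mem_sq D _ hsf
    rw [Derivation.leibniz, smul_eq_mul, smul_eq_mul] at h1
    have h2 : f * D s ∈ q.comap (Ideal.Quotient.mk (Ideal.span ({f} : Set R))) :=
      Ideal.mul_mem_right _ _ hfp
    have h3 : s * D f ∈ q.comap (Ideal.Quotient.mk (Ideal.span ({f} : Set R))) :=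
      (Ideal.add_mem_iff_left _ h2).mp h1
    rcases hpprime.mem_or_mem h3 with h4 | h4
    · exact hs h4
    · exact hDf h4

end

end Groth.Agent.Lib.Helper5
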