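import Mathlib
import Groth.Agent.Lib.Helper5RLR2
import Groth.Agent.Lib.Helper5CM

/-!
# Regular local rings, part 3: regular ⟹ Cohen–Macaulay (helper5)
-/

set_option autoImplicit false
universe u

namespace Groth.Agent.Lib.Helper5

open IsLocalRing Module

section

variable (R : Type u) [CommRing R] [IsRegularLocalRing R]

/-- A regular local ring of dimension `d` has a regular sequence of length `d` generating the
maximal ideal. -/
theorem exists_isRegular_ofList_eq_maximalIdeal :
    ∃ rs : List R, ringKrullDim R = (rs.length : ℕ) ∧ Ideal.ofList rs = maximalIdeal R ∧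
      RingTheory.Sequence.IsRegular R rs := by
  have hNoeth : IsNoetherianRing R := inferInstance
  obtain ⟨d, hd⟩ := exists_nat_ringKrullDim_eq R
  have hreg : ((maximalIdeal R).spanFinrank : WithBot ℕ∞) = ringKrullDim R :=
    IsRegularLocalRing.spanFinrank_maximalIdeal
  rw [hd] at hreg
  have hreg' : (maximalIdeal R).spanFinrank = d := by exact_mod_cast hreg
  obtain ⟨s, z, hs, hsup⟩ := exists_extension_span_eq_maximalIdeal (R := R) (r := 0)
    (fun i => i.elim0) (linearIndependent_empty_type)
  have hsd : s = d := by omega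
  subst hsd
  have hx : Ideal.span (Set.range fun i => (z i : R)) = maximalIdeal R := by
    have : (Set.range fun i : Fin 0 => ((Fin.elim0 i : maximalIdeal R) : R)) = ∅ :=
      Set.range_eq_empty _
    rw [this, Ideal.span_empty, sup_bot_eq] at hsup
    exact hsup
  refine ⟨List.ofFn fun i => (z i : R), ?_, ?_, ?_⟩
  · rw [List.length_ofFn]; exact hd
  · rw [ofList_ofFn_eq_span_range]; exact hx
  · exact isRegular_ofFn_of_span_eq_maximalIdeal hd _ hx

/-- A regular local ring is Cohen–Macaulay. -/
theorem isCohenMacaulayLocalRing_of_isRegularLocalRing : LocCoh.IsCohenMacaulayLocalRing R := by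
  have hNoeth : IsNoetherianRing R := inferInstance
  obtain ⟨rs, hlen, hrs, hreg⟩ := exists_isRegular_ofList_eq_maximalIdeal R
  refine ⟨le_antisymm ?_ depth_le_supportDim⟩
  rw [Module.supportDim_self_eq_ringKrullDim, hlen]
  have h1 := Groth.Agent.Lib.Helper28.length_le_idealDepth (I := maximalIdeal R)
    hreg.toIsWeaklyRegular (fun r hr => hrs ▸ Ideal.subset_span hr)
  change ((rs.length : ℕ) : WithBot ℕ∞) ≤ ((LocCoh.idealDepth (maximalIdeal R) R : ℕ∞) : WithBot ℕ∞)
  exact_mod_cast h1

end

end Groth.Agent.Lib.Helper5
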