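import Mathlib
import Groth.Agent.Lib.Helper28SerreConv
import Groth.Agent.S0563
import Groth.Agent.S5786

/-!
# Consequences of Serre's characterization of regular local rings (helper28)

* `isRegularLocalRing_localization_of_isRegularLocalRing`: localizations of regular local rings at
  primes are regular.
* `isRegularLocalRing_of_flat_of_isLocalHom`: regularity descends along flat local homomorphisms.
-/

universe u
open CategoryTheory CategoryTheory.Limits IsLocalRing

namespace Groth.Agent.Lib.Helper28

section RegLoc

/-- projective dimension over a localization of a module over the localization is bounded by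
its projective dimension over the base ring. -/
theorem hasProjectiveDimensionLT_localization_of_module {R : Type u} [CommRing R]
    (S : Submonoid R) (N : Type u) [AddCommGroup N] [Module R N] [Module (Localization S) N]
    [IsScalarTower R (Localization S) N] (n : ℕ)
    (h : HasProjectiveDimensionLT (ModuleCat.of R N) (n + 1)) :
    HasProjectiveDimensionLT (ModuleCat.of (Localization S) N) (n + 1) := by
  have hle : HasProjectiveDimensionLE (ModuleCat.of R N) n := h
  have h1 : HasProjectiveDimensionLE ((ModuleCat.of R N).localizedModule S) n :=
    ModuleCat.localizedModule_hasProjectiveDimensionLE n S (ModuleCat.of R N)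
  have hid : IsLocalizedModule S (LinearMap.id : N →ₗ[R] N) :=
    isLocalizedModule_id S N (Localization S)
  have hloc := ModuleCat.localizedModule_isLocalizedModule (ModuleCat.of R N) S
  let e₀ : ((ModuleCat.of R N).localizedModule S) ≃ₗ[R] N :=
    @IsLocalizedModule.linearEquiv _ _ S _ _ _ _ _ _ _ _ _
      ((ModuleCat.of R N).localizedModuleMkLinearMap S)
      (LinearMap.id : N →ₗ[R] N) hloc hid
  let e : ((ModuleCat.of R N).localizedModule S) ≃ₗ[Localization S] N :=
    LinearEquiv.extendScalarsOfIsLocalization S (Localization S) e₀
  have h2 : HasProjectiveDimensionLT ((ModuleCat.of R N).localizedModule S) (n + 1) := h1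
  exact hasProjectiveDimensionLT_of_iso e.toModuleIso (n + 1)

end RegLoc

end Groth.Agent.Lib.Helper28

namespace Groth.Agent.Lib.Helper28

/-- If every `R`-module has projective dimension `< n + 1` (`R` Noetherian) then all localizations
at primes are regular local rings. -/
theorem isRegularLocalRing_localization_of_forall_hasProjectiveDimensionLT {R : Type u} [CommRing R]
    [IsNoetherianRing R] (n : ℕ)
    (h : ∀ (M : Type u) [AddCommGroup M] [Module R M],
      HasProjectiveDimensionLT (ModuleCat.of R M) (n + 1))
    (p : Ideal R) [p.IsPrime] : IsRegularLocalRing (Localization.AtPrime p) := by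
  have hN : IsNoetherianRing (Localization.AtPrime p) :=
    IsLocalization.isNoetherianRing p.primeCompl _ inferInstance
  have h1 := h (ResidueField (Localization.AtPrime p))
  have h2 := hasProjectiveDimensionLT_localization_of_module p.primeCompl
    (ResidueField (Localization.AtPrime p)) n h1
  exact isRegularLocalRing_of_hasProjectiveDimensionLT_residueField _ (n + 1) h2

theorem isRegularLocalRing_localization_of_isRegularLocalRing (R : Type u) [CommRing R]
    [IsRegularLocalRing R] (p : Ideal R) [p.IsPrime] :
    IsRegularLocalRing (Localization.AtPrime p) := by
  obtain ⟨d, hd⟩ := Groth.Agent.Lib.Helper5.exists_nat_ringKrullDim_eq R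
  exact isRegularLocalRing_localization_of_forall_hasProjectiveDimensionLT d
    (fun M _ _ => Groth.Agent.S0563.result R d hd M) p

end Groth.Agent.Lib.Helper28

namespace Groth.Agent.Lib.Helper28

/-- Regularity descends along flat local homomorphisms of Noetherian local rings. -/
theorem isRegularLocalRing_of_flat_of_isLocalHom (R : Type u) [CommRing R]
    [IsLocalRing R] [IsNoetherianRing R] (S : Type u) [CommRing S] [IsRegularLocalRing S]
    [Algebra R S] [IsLocalHom (algebraMap R S)] [Module.Flat R S] : IsRegularLocalRing R := by
  obtain ⟨d, hd⟩ := Groth.Agent.Lib.Helper5.exists_nat_ringKrullDim_eq S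
  have hgl : ∀ (M : Type u) [AddCommGroup M] [Module R M],
      HasProjectiveDimensionLT (ModuleCat.of R M) (d + 1) :=
    fun M _ _ => Groth.Agent.S5786.result R S d
      (fun N _ _ => Groth.Agent.S0563.result S d hd N) M
  exact isRegularLocalRing_of_hasProjectiveDimensionLT_residueField R (d + 1)
    (hgl (ResidueField R))

end Groth.Agent.Lib.Helper28
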