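import Mathlib
import Groth.Agent.Lib.Helper28RegLoc
import Groth.Agent.Lib.Helper28RegEtale
import Groth.Agent.Lib.Helper28Normal

/-!
# Regularity of power series rings; regularity can be checked at maximal ideals (helper28)
-/

universe u
open IsLocalRing

namespace Groth.Agent.Lib.Helper28

section RegPowerSeries

/-- `p ≤ m` primes with `A_m` regular: then `A_p` is regular. -/
theorem isRegularLocalRing_localization_of_le {A : Type u} [CommRing A] (p m : Ideal A) [p.IsPrime]
    [m.IsPrime] (hpm : p ≤ m) [IsRegularLocalRing (Localization.AtPrime m)] :
    IsRegularLocalRing (Localization.AtPrime p) := by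
  have hdisj : Disjoint (m.primeCompl : Set A) (p : Set A) := by
    rw [Set.disjoint_left]
    intro x hx hxp
    exact hx (hpm hxp)
  have hP : (p.map (algebraMap A (Localization.AtPrime m))).IsPrime :=
    IsLocalization.isPrime_of_isPrime_disjoint m.primeCompl _ p inferInstance hdisj
  have hcomap : (p.map (algebraMap A (Localization.AtPrime m))).comap
      (algebraMap A (Localization.AtPrime m)) = p :=
    IsLocalization.under_map_of_isPrime_disjoint m.primeCompl _ inferInstance hdisj
  have h1 : IsRegularLocalRing (Localization.AtPrime (p.map (algebraMap A (Localization.AtPrime m)))) :=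
    isRegularLocalRing_localization_of_isRegularLocalRing _ _
  have h2 : IsRegularLocalRing (Localization.AtPrime
      ((p.map (algebraMap A (Localization.AtPrime m))).comap
        (algebraMap A (Localization.AtPrime m)))) :=
    IsRegularLocalRing.of_ringEquiv
      (IsLocalization.localizationLocalizationAtPrimeIsoLocalization m.primeCompl
        (p.map (algebraMap A (Localization.AtPrime m)))).symm.toRingEquiv
  exact (isRegularLocalRing_congr_ideal hcomap).mp h2

/-- a Noetherian ring which is regular at all maximal ideals is regular. -/
theorem isRegularRing_of_forall_isMaximal {A : Type u} [CommRing A] [IsNoetherianRing A]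
    (h : ∀ (m : Ideal A) [m.IsMaximal], IsRegularLocalRing (Localization.AtPrime m)) :
    IsRegularRing A := by
  rw [isRegularRing_iff]
  intro p hp
  obtain ⟨m, hm, hpm⟩ := Ideal.exists_le_maximal p hp.ne_top
  have := h m
  exact isRegularLocalRing_localization_of_le p m hpm

open PowerSeries in
theorem isRegularRing_powerSeries (A : Type u) [CommRing A] [IsRegularRing A] :
    IsRegularRing (PowerSeries A) := by
  have hX : (X : PowerSeries A) ∈ nonZeroDivisors (PowerSeries A) := by
    rw [mem_nonZeroDivisors_iff_right]
    intro z hz
    apply X_mul_cancel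
    rw [mul_comm, hz, mul_zero]
  have hker : RingHom.ker (constantCoeff (R := A)) = Ideal.span {(X : PowerSeries A)} := by
    ext φ
    rw [RingHom.mem_ker, Ideal.mem_span_singleton, X_dvd_iff]
  let e : (PowerSeries A ⧸ Ideal.span {(X : PowerSeries A)}) ≃+* A :=
    (Ideal.quotEquivOfEq hker.symm).trans
      (RingHom.quotientKerEquivOfSurjective (f := constantCoeff (R := A))
        (fun a => ⟨C a, constantCoeff_C a⟩))
  have hreg : IsRegularRing (PowerSeries A ⧸ Ideal.span {(X : PowerSeries A)}) :=
    IsRegularRing.of_ringEquiv e.symm
  apply isRegularRing_of_forall_isMaximal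
  intro M hM
  have hXM : (X : PowerSeries A) ∈ M := by
    by_contra hXM
    obtain ⟨f, m, hm, hmy⟩ := hM.exists_inv hXM
    have hunit : IsUnit m := by
      rw [isUnit_iff_constantCoeff]
      have : constantCoeff m = 1 := by
        have := congrArg (constantCoeff (R := A)) hmy
        simpa using this
      rw [this]; exact isUnit_one
    exact hM.ne_top (Ideal.eq_top_of_isUnit_mem _ hm hunit)
  exact isRegularLocalRing_localization_of_quotient_span_singleton X hX hreg M hXM

theorem isRegularRing_mvPowerSeries_fin (A : Type u) [CommRing A] [IsRegularRing A] (n : ℕ) :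
    IsRegularRing (MvPowerSeries (Fin n) A) := by
  induction n with
  | zero => exact IsRegularRing.of_ringEquiv (MvPowerSeries.isEmptyEquiv (Fin 0) A).toRingEquiv.symm
  | succ n ih =>
    have := isRegularRing_powerSeries (MvPowerSeries (Fin n) A)
    exact IsRegularRing.of_ringEquiv (MvPowerSeries.finSuccEquiv A n).toRingEquiv.symm

end RegPowerSeries

end Groth.Agent.Lib.Helper28
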