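import Groth.Agent.Lib.Helper19FSLocalField
import Groth.Agent.Lib.Helper28RegPow

/-!
# Formally smooth local algebras over a field are (geometrically) regular
(EGA 0_IV 19.6.5, 22.5.8 easy direction) (helper19)
-/

set_option autoImplicit false
set_option linter.style.haveILetI false
set_option linter.unusedSectionVars false
universe u

namespace Groth.Agent.Lib.Helper19.FSGeomReg

open IsLocalRing MvPowerSeries Groth.Agent.Lib.Helper19.FSLocalField

/-- reduction to a perfect base field `F` -/
theorem isRegular_and_completion_of_isAdicFormallySmooth_aux {F k A : Type u} [Field F] [Field k]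
    [Algebra F k] [Algebra.FormallySmooth F k] [CommRing A] [IsLocalRing A] [IsNoetherianRing A]
    [Algebra k A] [Algebra F A] [IsScalarTower F k A]
    [Algebra.FormallySmooth F (ResidueField A)]
    (h : CAlgX.IsAdicFormallySmooth k A (maximalIdeal A)) :
    IsRegularLocalRing A ∧ ∃ n : ℕ, Nonempty (AdicCompletion (maximalIdeal A) A ≃+*
      MvPowerSeries (Fin n) (ResidueField A)) := by
  haveI : Algebra.IsGeometricallyReduced F (ResidueField A) :=
    PBasis.formallySmooth_field_iff.1 inferInstance
  have hF : CAlgX.IsAdicFormallySmooth F A (maximalIdeal A) := by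
    rw [isAdicFormallySmooth_iff_isFormallySmoothAdic_bot] at h ⊢
    exact isFormallySmoothAdic_trans (⊥ : Ideal F) (⊥ : Ideal k) (maximalIdeal A) ⟨1, by simp⟩
      (isFormallySmoothAdic_of_formallySmooth _ _) h
  have tfae := tfae_formallySmoothAdic_local_algebra_over_field (k := F) (A := A)
  exact ⟨(tfae.out 0 3).1 hF, (tfae.out 0 2).1 hF⟩

/-- EGA 0_IV 19.6.5: a Noetherian local algebra over a field `k` which is formally smooth for
the adic topology is regular, and its completion is a power series ring over the residue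
field -/
theorem isRegular_and_completion_of_isAdicFormallySmooth {k A : Type u} [Field k] [CommRing A]
    [IsLocalRing A] [IsNoetherianRing A] [Algebra k A]
    (h : CAlgX.IsAdicFormallySmooth k A (maximalIdeal A)) :
    IsRegularLocalRing A ∧ ∃ n : ℕ, Nonempty (AdicCompletion (maximalIdeal A) A ≃+*
      MvPowerSeries (Fin n) (ResidueField A)) := by
  obtain ⟨p, hp⟩ := CharP.exists k
  rcases CharP.char_is_prime_or_zero k p with hpp | rfl
  · haveI : Fact p.Prime := ⟨hpp⟩
    letI : Algebra (ZMod p) k := ZMod.algebra k p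
    letI : Algebra (ULift.{u} (ZMod p)) k := ULift.algebra' (ZMod p) k
    haveI : Algebra.FormallySmooth (ULift.{u} (ZMod p)) k :=
      PBasis.formallySmooth_field_of_perfectRing p (ULift.{u} (ZMod p)) k
    letI : Algebra (ULift.{u} (ZMod p)) A :=
      ((algebraMap k A).comp (algebraMap (ULift.{u} (ZMod p)) k)).toAlgebra
    haveI : IsScalarTower (ULift.{u} (ZMod p)) k A := IsScalarTower.of_algebraMap_eq (fun _ => rfl)
    haveI : CharP (ResidueField A) p :=
      charP_of_injective_algebraMap (algebraMap k (ResidueField A)).injective p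
    haveI : Algebra.FormallySmooth (ULift.{u} (ZMod p)) (ResidueField A) :=
      PBasis.formallySmooth_field_of_perfectRing p (ULift.{u} (ZMod p)) (ResidueField A)
    exact isRegular_and_completion_of_isAdicFormallySmooth_aux (F := ULift.{u} (ZMod p)) h
  · haveI : CharZero k := CharP.charP_to_charZero k
    letI : Algebra (ULift.{u} ℚ) k := ULift.algebra' ℚ k
    haveI : CharZero (ULift.{u} ℚ) :=
      charZero_of_injective_ringHom (f := (ULift.ringEquiv.symm : ℚ ≃+* ULift.{u} ℚ).toRingHom)
        (RingEquiv.injective _)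
    have hfs : ∀ (K : Type u) [Field K] [Algebra (ULift.{u} ℚ) K],
        Algebra.FormallySmooth (ULift.{u} ℚ) K := by
      intro K _ _
      haveI : CharZero K := charZero_of_injective_algebraMap (algebraMap (ULift.{u} ℚ) K).injective
      obtain ⟨ι, x, hx⟩ := exists_isTranscendenceBasis' (ULift.{u} ℚ) K
      have halg := hx.isAlgebraic_field
      have : Algebra.IsSeparable (IntermediateField.adjoin (ULift.{u} ℚ) (Set.range x)) K :=
        inferInstance
      exact Algebra.FormallySmooth.of_algebraicIndependent_of_isSeparable hx.1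
    haveI : Algebra.FormallySmooth (ULift.{u} ℚ) k := hfs k
    letI : Algebra (ULift.{u} ℚ) A :=
      ((algebraMap k A).comp (algebraMap (ULift.{u} ℚ) k)).toAlgebra
    haveI : IsScalarTower (ULift.{u} ℚ) k A := IsScalarTower.of_algebraMap_eq (fun _ => rfl)
    haveI : Algebra.FormallySmooth (ULift.{u} ℚ) (ResidueField A) := hfs _
    exact isRegular_and_completion_of_isAdicFormallySmooth_aux (F := ULift.{u} ℚ) h

/-- localization at a prime containing the ideal of definition preserves formal smoothness for
the adic topologies -/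
theorem isAdicFormallySmooth_localization_atPrime {R S : Type u} [CommRing R] [CommRing S]
    [Algebra R S] (𝔟 : Ideal S) (P : Ideal S) [P.IsPrime] (hle : 𝔟 ≤ P)
    (h : CAlgX.IsAdicFormallySmooth R S 𝔟) :
    CAlgX.IsAdicFormallySmooth R (Localization.AtPrime P)
      (maximalIdeal (Localization.AtPrime P)) := by
  intro C _ _ J hJ φ hφ
  obtain ⟨m, hm⟩ := hφ
  have hJnil : IsNilpotent J := ⟨2, hJ⟩
  let ι : S →ₐ[R] Localization.AtPrime P := IsScalarTower.toAlgHom R S (Localization.AtPrime P)
  have hι : ∀ s, ι s = algebraMap S (Localization.AtPrime P) s := fun s => rfl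
  have hmap : 𝔟.map (algebraMap S (Localization.AtPrime P)) ≤
      maximalIdeal (Localization.AtPrime P) := by
    rw [← Localization.AtPrime.map_eq_maximalIdeal]
    exact Ideal.map_mono hle
  obtain ⟨χ₀, hχ₀⟩ := h C J hJ (φ.comp ι) ⟨m, fun x hx => by
    rw [AlgHom.comp_apply]
    apply hm
    have h1 : ι x ∈ (𝔟 ^ m).map (algebraMap S (Localization.AtPrime P)) :=
      Ideal.mem_map_of_mem _ hx
    rw [Ideal.map_pow] at h1
    exact Ideal.pow_right_mono hmap m h1⟩
  have hχ₀' : ∀ s, Ideal.Quotient.mk J (χ₀ s) = φ (ι s) := fun s =>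
    congrArg (fun g : S →ₐ[R] C ⧸ J => g s) hχ₀
  have hunits : ∀ y : P.primeCompl, IsUnit (χ₀ y) := by
    intro y
    rw [← IsNilpotent.isUnit_quotient_mk_iff hJnil, hχ₀', hι]
    exact (IsLocalization.map_units (Localization.AtPrime P) y).map φ
  refine ⟨IsLocalization.liftAlgHom (M := P.primeCompl) (f := χ₀) hunits, ?_⟩
  apply AlgHom.coe_ringHom_injective
  apply IsLocalization.ringHom_ext P.primeCompl
  ext s
  simp only [AlgHom.comp_toRingHom, RingHom.comp_apply, AlgHom.coe_toRingHom]
  rw [IsLocalization.liftAlgHom_apply, IsLocalization.lift_eq]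
  exact hχ₀' s

open TensorProduct in
/-- EGA 0_IV 22.5.8 (easy direction): a formally smooth Noetherian local algebra over a field is
geometrically regular -/
theorem isRegularRing_tensor_of_isAdicFormallySmooth {k A : Type u} [Field k] [CommRing A]
    [IsLocalRing A] [IsNoetherianRing A] [Algebra k A]
    (h : CAlgX.IsAdicFormallySmooth k A (maximalIdeal A)) (k' : Type u) [Field k'] [Algebra k k']
    [Module.Finite k k'] : IsRegularRing (k' ⊗[k] A) := by
  let e : (k' ⊗[k] A) ≃ₐ[k] A ⊗[k] k' := Algebra.TensorProduct.comm k k' A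
  haveI : IsNoetherianRing (A ⊗[k] k') := IsNoetherianRing.of_finite A _
  haveI : IsNoetherianRing (k' ⊗[k] A) := isNoetherianRing_of_ringEquiv _ e.symm.toRingEquiv
  apply Groth.Agent.Lib.Helper28.isRegularRing_of_forall_isMaximal
  intro 𝔪' h𝔪'
  let j : A →ₐ[k] k' ⊗[k] A := Algebra.TensorProduct.includeRight
  -- lying over
  have hle : (maximalIdeal A).map j.toRingHom ≤ 𝔪' := by
    rw [Ideal.map_le_iff_le_comap]
    haveI hmax₂ : (𝔪'.comap (e.symm : (A ⊗[k] k') →+* (k' ⊗[k] A))).IsMaximal :=
      Ideal.comap_isMaximal_of_surjective _ e.symm.surjective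
    haveI := Ideal.isMaximal_comap_of_isIntegral_of_isMaximal (R := A)
      (𝔪'.comap (e.symm : (A ⊗[k] k') →+* (k' ⊗[k] A)))
    have h1 := IsLocalRing.eq_maximalIdeal this
    intro a ha
    rw [← h1] at ha
    simpa [j, e] using ha
  have hT : CAlgX.IsAdicFormallySmooth k' (k' ⊗[k] A) ((maximalIdeal A).map j.toRingHom) := by
    rw [isAdicFormallySmooth_iff_isFormallySmoothAdic_bot] at h ⊢
    have h2 := isFormallySmoothAdic_baseChange (A := k) (B := A) (A' := k') ⊥ (maximalIdeal A) ⊥
      ⟨1, by simp⟩ h
    rw [Ideal.map_bot, bot_sup_eq] at h2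
    exact h2
  have hB := isAdicFormallySmooth_localization_atPrime _ 𝔪' hle hT
  exact (isRegular_and_completion_of_isAdicFormallySmooth hB).1

/-- S4512 -/
theorem isGeometricallyRegular_and_completion_of_isAdicFormallySmooth {k A : Type u} [Field k]
    [CommRing A] [IsLocalRing A] [IsNoetherianRing A] [Algebra k A]
    (h : CAlgX.IsAdicFormallySmooth k A (maximalIdeal A)) :
    CAlg.IsGeometricallyRegular k A ∧
      ∃ n : ℕ, Nonempty (AdicCompletion (maximalIdeal A) A ≃+*
        MvPowerSeries (Fin n) (ResidueField A)) := by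
  refine ⟨fun k' _ _ hfin => ?_, (isRegular_and_completion_of_isAdicFormallySmooth h).2⟩
  haveI := hfin
  exact isRegularRing_tensor_of_isAdicFormallySmooth h k'

end Groth.Agent.Lib.Helper19.FSGeomReg
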