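import Groth.Agent.Lib.Helper19GRSplit
import Groth.Prelude.Def_CAlgX

/-!
# From formal smoothness over the prime field to formal smoothness over `k` (helper19)

Matsumura 28.4 / EGA 0_IV 22.2: if `A` is formally smooth over `F` and the images of a `p`-basis
of `k` admit dual derivations modulo every power of the maximal ideal, then `A` is formally smooth
over `k`.
-/

set_option autoImplicit false
set_option linter.style.haveILetI false
set_option linter.unusedSectionVars false
universe u

namespace Groth.Agent.Lib.Helper19.GR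

open IsLocalRing

section lift

variable {F k A : Type u} [CommRing F] [Field k] [CommRing A] [IsLocalRing A]
  [Algebra F k] [Algebra k A] [Algebra F A] [IsScalarTower F k A]

theorem isAdicFormallySmooth_of_dual_derivations (p : ℕ) [Fact p.Prime] [CharP k p]
    (hF : CAlgX.IsAdicFormallySmooth F A (maximalIdeal A))
    {ι : Type u} (x : ι → k) (hx : EGA41.IsPGenerating p F x)
    (hD : ∀ ν : ℕ, ∃ D' : Derivation F A (ι →₀ A ⧸ maximalIdeal A ^ (ν + 1)),
      ∀ i, D' (algebraMap k A (x i)) = Finsupp.single i 1) :
    CAlgX.IsAdicFormallySmooth k A (maximalIdeal A) := by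
  classical
  intro C _ _ J hJ ψ hψ
  obtain ⟨ν, hν⟩ := hψ
  letI : Algebra F C := ((algebraMap k C).comp (algebraMap F k)).toAlgebra
  haveI : IsScalarTower F k C := IsScalarTower.of_algebraMap_eq fun _ => rfl
  have hFC : ∀ f : F, algebraMap F C f = algebraMap k C (algebraMap F k f) := fun f => rfl
  -- `ψ` as an `F`-algebra map
  let ψF : A →ₐ[F] C ⧸ J :=
    { (ψ : A →+* C ⧸ J) with
      commutes' := fun f => by
        change ψ (algebraMap F A f) = algebraMap F (C ⧸ J) f
        rw [IsScalarTower.algebraMap_apply F k A, ψ.commutes,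
          IsScalarTower.algebraMap_apply k C (C ⧸ J), ← hFC,
          ← IsScalarTower.algebraMap_apply F C (C ⧸ J)] }
  obtain ⟨v, hv⟩ := hF C J hJ ψF ⟨ν, hν⟩
  have hvmk : ∀ a, Ideal.Quotient.mk J (v a) = ψ a := fun a => by
    have := congrArg (fun g => g a) hv
    exact this
  have hJ2 : ∀ a ∈ J, ∀ b ∈ J, a * b = 0 := by
    intro a ha b hb
    have : a * b ∈ J ^ 2 := by rw [pow_two]; exact Ideal.mul_mem_mul ha hb
    rwa [hJ, Ideal.mem_bot] at this
  have hvJ : ∀ a ∈ maximalIdeal A ^ (ν + 1), v a ∈ J := by
    intro a ha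
    rw [← Ideal.Quotient.eq_zero_iff_mem, hvmk]
    exact hν a (Ideal.pow_le_pow_right (Nat.le_succ ν) ha)
  -- the discrepancy on `k`
  let n : k → C := fun c => algebraMap k C c - v (algebraMap k A c)
  have hn : ∀ c, n c ∈ J := by
    intro c
    rw [← Ideal.Quotient.eq_zero_iff_mem, map_sub, hvmk, ψ.commutes,
      IsScalarTower.algebraMap_apply k C (C ⧸ J), Ideal.Quotient.algebraMap_eq, sub_self]
  have hjn : ∀ c, algebraMap k C c = v (algebraMap k A c) + n c := fun c => by
    change _ = _ + (_ - _); ring
  have hn_add : ∀ c c', n (c + c') = n c + n c' := by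
    intro c c'
    change algebraMap k C (c + c') - v (algebraMap k A (c + c')) = _
    rw [map_add, map_add, map_add]
    change _ = (_ - _) + (_ - _)
    ring
  have hn_mul : ∀ c c', n (c * c') =
      v (algebraMap k A c) * n c' + v (algebraMap k A c') * n c := by
    intro c c'
    have h0 := hJ2 _ (hn c) _ (hn c')
    change algebraMap k C (c * c') - v (algebraMap k A (c * c')) = _
    rw [map_mul, map_mul, map_mul, hjn c, hjn c']
    have : (v (algebraMap k A c) + n c) * (v (algebraMap k A c') + n c') =
        v (algebraMap k A c) * v (algebraMap k A c') + v (algebraMap k A c) * n c' +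
          v (algebraMap k A c') * n c + n c * n c' := by ring
    rw [this, h0]
    ring
  -- the module structure of `C` over `A`
  letI : Module A C := Module.compHom C (v : A →+* C)
  have hsmul : ∀ (a : A) (c : C), a • c = v a * c := fun a c => rfl
  haveI : IsScalarTower F A C := by
    refine ⟨fun f a c => ?_⟩
    rw [hsmul, hsmul, Algebra.smul_def, map_mul, AlgHom.commutes, Algebra.smul_def, mul_assoc]
  obtain ⟨Du, hDu⟩ := hD ν
  -- the maps `μ i`
  let fi : ι → A →ₗ[A] C := fun i =>
    { toFun := fun a => v a * n (x i)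
      map_add' := fun a b => by rw [map_add, add_mul]
      map_smul' := fun a b => by
        rw [RingHom.id_apply, hsmul, smul_eq_mul, map_mul, mul_assoc] }
  have hfi : ∀ i, (maximalIdeal A ^ (ν + 1) : Ideal A) ≤ LinearMap.ker (fi i) := by
    intro i a ha
    rw [LinearMap.mem_ker]
    exact hJ2 _ (hvJ a ha) _ (hn (x i))
  let μ : ι → (A ⧸ maximalIdeal A ^ (ν + 1)) →ₗ[A] C := fun i =>
    Submodule.liftQ (maximalIdeal A ^ (ν + 1)) (fi i) (hfi i)
  have hμ : ∀ i a, μ i (Ideal.Quotient.mk _ a) = v a * n (x i) := fun i a => rfl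
  have hμJ : ∀ i q, μ i q ∈ J := by
    intro i q
    obtain ⟨a, rfl⟩ := Ideal.Quotient.mk_surjective q
    rw [hμ]
    exact J.mul_mem_left _ (hn (x i))
  let Λ : (ι →₀ A ⧸ maximalIdeal A ^ (ν + 1)) →ₗ[A] C := Finsupp.lsum A μ
  have hΛJ : ∀ z, Λ z ∈ J := by
    intro z
    change (z.sum fun i => μ i) ∈ J
    exact Ideal.sum_mem _ fun i _ => hμJ i _
  let D' : Derivation F A C := Λ.compDer Du
  have hD'J : ∀ a, D' a ∈ J := fun a => hΛJ _
  have hD'x : ∀ i, D' (algebraMap k A (x i)) = n (x i) := by
    intro i
    change Λ (Du (algebraMap k A (x i))) = _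
    rw [hDu, Finsupp.lsum_single, ← map_one (Ideal.Quotient.mk _), hμ, map_one, one_mul]
  have hD'mul : ∀ a b, D' (a * b) = v a * D' b + v b * D' a := fun a b => by
    rw [D'.leibniz, hsmul, hsmul]
  -- agreement on `k`
  have hpC : ((p : ℕ) : C) = 0 := by
    have h1 : ((p : ℕ) : C) = algebraMap k C ((p : ℕ) : k) := (map_natCast _ p).symm
    rw [h1, CharP.cast_eq_zero k p, map_zero]
  have hn_pow : ∀ (c : k) (m : ℕ), n (c ^ m) = m • (v (algebraMap k A c) ^ (m - 1) * n c) := by
    intro c m
    induction m with
    | zero =>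
      rw [pow_zero, zero_smul]
      change algebraMap k C 1 - v (algebraMap k A 1) = 0
      rw [map_one, map_one, map_one, sub_self]
    | succ m ih =>
      rw [pow_succ, hn_mul, ih, map_pow, map_pow]
      rcases m with _ | m
      · simp
      · simp only [Nat.add_sub_cancel, nsmul_eq_mul, Nat.cast_add, Nat.cast_one]
        rw [pow_succ]
        ring
  let E : Subring k :=
    { carrier := {c | D' (algebraMap k A c) = n c}
      mul_mem' := fun {c c'} hc hc' => by
        change D' (algebraMap k A (c * c')) = n (c * c')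
        rw [map_mul, hD'mul, hn_mul]
        have hc1 : D' (algebraMap k A c) = n c := hc
        have hc2 : D' (algebraMap k A c') = n c' := hc'
        rw [hc1, hc2]
      one_mem' := by
        change D' (algebraMap k A 1) = n 1
        rw [map_one, D'.map_one_eq_zero]
        change 0 = algebraMap k C 1 - v (algebraMap k A 1)
        rw [map_one, map_one, map_one, sub_self]
      add_mem' := fun {c c'} hc hc' => by
        change D' (algebraMap k A (c + c')) = n (c + c')
        have hc1 : D' (algebraMap k A c) = n c := hc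
        have hc2 : D' (algebraMap k A c') = n c' := hc'
        rw [map_add, map_add, hn_add, hc1, hc2]
      zero_mem' := by
        change D' (algebraMap k A 0) = n 0
        rw [map_zero, map_zero]
        change 0 = algebraMap k C 0 - v (algebraMap k A 0)
        rw [map_zero, map_zero, map_zero, sub_self]
      neg_mem' := fun {c} hc => by
        change D' (algebraMap k A (-c)) = n (-c)
        have hc1 : D' (algebraMap k A c) = n c := hc
        rw [map_neg, map_neg, hc1]
        change _ = algebraMap k C (-c) - v (algebraMap k A (-c))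
        rw [map_neg, map_neg, map_neg]
        change -(algebraMap k C c - v (algebraMap k A c)) = _
        ring }
  have hEmem : ∀ c, c ∈ E ↔ D' (algebraMap k A c) = n c := fun c => Iff.rfl
  have hEpow : ∀ c : k, c ^ p ∈ E := by
    intro c
    rw [hEmem, map_pow, D'.leibniz_pow, hn_pow]
    rw [← Nat.cast_smul_eq_nsmul C, ← Nat.cast_smul_eq_nsmul C, hpC, zero_smul, zero_smul]
  have hEF : ∀ f : F, algebraMap F k f ∈ E := by
    intro f
    rw [hEmem, ← IsScalarTower.algebraMap_apply F k A, D'.map_algebraMap]
    change 0 = algebraMap k C (algebraMap F k f) - v (algebraMap k A (algebraMap F k f))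
    rw [← IsScalarTower.algebraMap_apply F k A, AlgHom.commutes, hFC, sub_self]
  have hEx : ∀ i, x i ∈ E := fun i => (hEmem _).2 (hD'x i)
  have hEpp : ∀ c ∈ EGA41.pPowerSubalgebra p F k, c ∈ E := by
    intro c hc
    refine Algebra.adjoin_induction (p := fun c _ => c ∈ E) ?_ ?_ ?_ ?_ hc
    · rintro _ ⟨b, rfl⟩
      exact hEpow b
    · exact hEF
    · intro a b _ _ ha hb
      exact E.add_mem ha hb
    · intro a b _ _ ha hb
      exact E.mul_mem ha hb
  have hEmon : ∀ e : ι →₀ ℕ, EGA41.pMonomial x e ∈ E := by
    intro e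
    change (e.prod fun i m => x i ^ m) ∈ E
    exact Subring.prod_mem _ fun i _ => E.pow_mem (hEx i) _
  have hEtop : ∀ c : k, c ∈ E := by
    intro c
    have hc : c ∈ Submodule.span (EGA41.pPowerSubalgebra p F k)
        (Set.range fun e : {e : ι →₀ ℕ // ∀ i, e i < p} => EGA41.pMonomial x e.1) := by
      rw [hx]; trivial
    refine Submodule.span_induction (p := fun c _ => c ∈ E) ?_ ?_ ?_ ?_ hc
    · rintro _ ⟨e, rfl⟩
      exact hEmon e.1
    · exact E.zero_mem
    · intro a b _ _ ha hb
      exact E.add_mem ha hb
    · intro s a _ ha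
      exact E.mul_mem (hEpp s.1 s.2) ha
  -- the lift
  let χ : A →ₐ[k] C :=
    { toFun := fun a => v a + D' a
      map_one' := by rw [map_one, D'.map_one_eq_zero, add_zero]
      map_mul' := fun a b => by
        rw [map_mul, hD'mul]
        have h0 := hJ2 _ (hD'J a) _ (hD'J b)
        have : (v a + D' a) * (v b + D' b) =
            v a * v b + (v a * D' b + v b * D' a) + D' a * D' b := by ring
        rw [this, h0, add_zero]
      map_zero' := by rw [map_zero, map_zero, add_zero]
      map_add' := fun a b => by rw [map_add, map_add]; ring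
      commutes' := fun c => by
        change v (algebraMap k A c) + D' (algebraMap k A c) = algebraMap k C c
        rw [(hEmem c).1 (hEtop c), hjn] }
  refine ⟨χ, ?_⟩
  ext a
  change Ideal.Quotient.mk J (v a + D' a) = ψ a
  rw [map_add, hvmk, Ideal.Quotient.eq_zero_iff_mem.2 (hD'J a), add_zero]

end lift

end Groth.Agent.Lib.Helper19.GR
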