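import Groth.Agent.Lib.Helper7PBasis

/-!
# The field `k[Y_i : i ∈ S]/(Y_i^p - x_i)` for a `p`-independent family (helper19)
-/

set_option autoImplicit false
set_option linter.style.haveILetI false
set_option linter.unusedSectionVars false
universe u

namespace Groth.Agent.Lib.Helper19.GR

open MvPolynomial Groth.Agent.Lib.Helper7.PPow

section field

variable (p : ℕ) [Fact p.Prime] (F : Type u) {k : Type u} [CommRing F] [Field k] [Algebra F k]
  [CharP k p] {ι : Type u} (x : ι → k) (S : Finset ι)

/-- the ring `k[Y_i : i ∈ S]/(Y_i^p - x_i)` -/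
abbrev RootRing : Type u := MvPolynomial S k ⧸ relIdeal p (fun i : S => x i)

/-- the class of `Y_i` -/
noncomputable def rootY (i : S) : RootRing p x S :=
  Ideal.Quotient.mk (relIdeal p (fun i : S => x i)) (X i)

theorem rootY_pow (i : S) : rootY p x S i ^ p = algebraMap k (RootRing p x S) (x i) := by
  change Ideal.Quotient.mk _ (X i) ^ p = Ideal.Quotient.mk _ (C (x i))
  rw [← map_pow, Ideal.Quotient.eq]
  exact Ideal.subset_span ⟨i, rfl⟩

/-- the `p`-th power map to `k` -/
noncomputable def rootΦ : MvPolynomial S k →+* k :=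
  eval₂Hom (frobenius k p) (fun i : S => x i)

theorem relIdeal_le_ker_rootΦ :
    relIdeal p (fun i : S => x i) ≤ RingHom.ker (rootΦ p x S) := by
  rw [relIdeal, Ideal.span_le]
  rintro _ ⟨i, rfl⟩
  rw [SetLike.mem_coe, RingHom.mem_ker, map_sub, map_pow]
  change (eval₂Hom (frobenius k p) (fun i : S => x i) (X i)) ^ p -
    eval₂Hom (frobenius k p) (fun i : S => x i) (C (x i)) = 0
  rw [eval₂Hom_X', eval₂Hom_C, frobenius_def, sub_self]

/-- the `p`-th power map on the quotient -/
noncomputable def rootΦbar : RootRing p x S →+* k :=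
  Ideal.Quotient.lift _ (rootΦ p x S) (fun a ha => relIdeal_le_ker_rootΦ p x S ha)

theorem rootΦbar_mk (f : MvPolynomial S k) :
    rootΦbar p x S (Ideal.Quotient.mk _ f) = rootΦ p x S f := rfl

/-- `r ^ p` lies in `k` -/
theorem root_pow_eq (r : RootRing p x S) :
    r ^ p = algebraMap k (RootRing p x S) (rootΦbar p x S r) := by
  obtain ⟨f, rfl⟩ := Ideal.Quotient.mk_surjective r
  rw [rootΦbar_mk]
  have h : (Ideal.Quotient.mk (relIdeal p (fun i : S => x i))).comp
      (frobenius (MvPolynomial S k) p) =
      (algebraMap k (RootRing p x S)).comp (rootΦ p x S) := by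
    apply MvPolynomial.ringHom_ext
    · intro a
      rw [RingHom.comp_apply, RingHom.comp_apply, frobenius_def, ← map_pow]
      change _ = Ideal.Quotient.mk _ (C (eval₂Hom (frobenius k p) (fun i : S => x i) (C a)))
      rw [eval₂Hom_C, frobenius_def]
    · intro i
      rw [RingHom.comp_apply, RingHom.comp_apply, frobenius_def, map_pow]
      change rootY p x S i ^ p = algebraMap k _ (eval₂Hom (frobenius k p) (fun i : S => x i) (X i))
      rw [eval₂Hom_X', rootY_pow]
  have := RingHom.congr_fun h f
  rw [RingHom.comp_apply, RingHom.comp_apply, frobenius_def, map_pow] at this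
  exact this

variable {p x S}

/-- `p`-independence of the subfamily indexed by `S` -/
theorem linearIndependent_sub (hx : EGA41.IsPIndependent p F x) :
    LinearIndependent (EGA41.pPowerSubalgebra p F k)
      (fun e : {e : S →₀ ℕ // ∀ i, e i < p} => e.1.prod fun i n => x i ^ n) := by
  classical
  let j : {e : S →₀ ℕ // ∀ i, e i < p} → {e : ι →₀ ℕ // ∀ i, e i < p} := fun e =>
    ⟨e.1.mapDomain Subtype.val, fun i => by
      by_cases hi : i ∈ S
      · have : (e.1.mapDomain Subtype.val) ((⟨i, hi⟩ : S) : ι) = e.1 ⟨i, hi⟩ :=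
          Finsupp.mapDomain_apply Subtype.val_injective _ _
        change (e.1.mapDomain Subtype.val) i < p
        have h2 : (e.1.mapDomain Subtype.val) i = e.1 ⟨i, hi⟩ := this
        rw [h2]
        exact e.2 _
      · have : (e.1.mapDomain Subtype.val) i = 0 := by
          apply Finsupp.mapDomain_notin_range
          rintro ⟨s, rfl⟩
          exact hi s.2
        rw [this]
        exact (Fact.out : p.Prime).pos⟩
  have hj : Function.Injective j := by
    intro e e' h
    apply Subtype.ext
    have h1 : e.1.mapDomain Subtype.val = e'.1.mapDomain Subtype.val := congrArg Subtype.val h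
    exact Finsupp.mapDomain_injective Subtype.val_injective h1
  have h := hx.comp j hj
  convert h using 1
  funext e
  change _ = EGA41.pMonomial x (e.1.mapDomain Subtype.val)
  rw [EGA41.pMonomial, Finsupp.prod_mapDomain_index_inj Subtype.val_injective]

theorem rootΦbar_injective (hx : EGA41.IsPIndependent p F x) :
    Function.Injective (rootΦbar p x S) := by
  classical
  rw [injective_iff_map_eq_zero]
  intro r hr
  obtain ⟨f, rfl⟩ := Ideal.Quotient.mk_surjective r
  obtain ⟨g, hg, hfg⟩ := exists_reduced_sub_mem_relIdeal p (fun i : S => x i) f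
  have hfg' : Ideal.Quotient.mk (relIdeal p (fun i : S => x i)) f = Ideal.Quotient.mk _ g :=
    Ideal.Quotient.eq.2 hfg
  rw [hfg'] at hr ⊢
  rw [rootΦbar_mk] at hr
  -- pass to coefficients in `k^p`
  let φ : k →+* EGA41.pPowerSubalgebra p F k :=
    { toFun := fun c => ⟨c ^ p, pow_mem_pPowerSubalgebra p c⟩
      map_one' := Subtype.ext (one_pow p)
      map_mul' := fun a b => Subtype.ext (mul_pow a b p)
      map_zero' := Subtype.ext (zero_pow (Fact.out : p.Prime).ne_zero)
      map_add' := fun a b => Subtype.ext (add_pow_char a b p) }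
  have hφ : ∀ c, algebraMap (EGA41.pPowerSubalgebra p F k) k (φ c) = c ^ p := fun c => rfl
  have hφinj : Function.Injective φ := by
    intro a b hab
    have : a ^ p = b ^ p := congrArg Subtype.val hab
    exact frobenius_inj k p this
  have h1 : aeval (fun i : S => x i) (map φ g) = 0 := by
    rw [aeval_def, eval₂_map]
    have : (algebraMap (EGA41.pPowerSubalgebra p F k) k).comp φ = frobenius k p := by
      ext c; rfl
    rw [this]
    exact hr
  have h2 : map φ g ∈ restrictDegree S (EGA41.pPowerSubalgebra p F k) (p - 1) := by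
    rw [mem_restrictDegree] at hg ⊢
    intro s hs i
    exact hg s (support_map_subset φ g hs) i
  have h3 := eq_zero_of_reduced_of_aeval_eq_zero p (fun i : S => x i)
    (linearIndependent_sub F hx) h2 h1
  have h4 : g = 0 := by
    apply map_injective φ hφinj
    rw [h3, map_zero]
  rw [h4, map_zero]

/-- the root ring of a `p`-independent family is a field -/
theorem isField_rootRing (hx : EGA41.IsPIndependent p F x) : IsField (RootRing p x S) := by
  have hinj := rootΦbar_injective (S := S) F hx
  haveI : Nontrivial (RootRing p x S) := by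
    refine ⟨⟨0, 1, fun h => ?_⟩⟩
    have := congrArg (rootΦbar p x S) h
    rw [map_zero, map_one] at this
    exact zero_ne_one this
  refine ⟨exists_pair_ne _, mul_comm, fun {r} hr => ?_⟩
  have h1 : rootΦbar p x S r ≠ 0 := fun h => hr (hinj (by rw [h, map_zero]))
  have h2 : IsUnit (r ^ p) := by
    rw [root_pow_eq]
    exact (isUnit_iff_ne_zero.2 h1).map _
  have h3 : IsUnit r := (isUnit_pow_iff (Fact.out : p.Prime).ne_zero).1 h2
  obtain ⟨u, hu⟩ := h3
  exact ⟨↑u⁻¹, by rw [← hu]; exact u.mul_inv⟩

variable (p x S)

theorem pow_mem_range_rootRing (r : RootRing p x S) :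
    r ^ p ∈ (algebraMap k (RootRing p x S)).range :=
  ⟨rootΦbar p x S r, (root_pow_eq p x S r).symm⟩

theorem finite_rootRing : Module.Finite k (RootRing p x S) := by
  haveI : Algebra.IsIntegral k (RootRing p x S) := by
    refine ⟨fun r => ?_⟩
    refine ⟨Polynomial.X ^ p - Polynomial.C (rootΦbar p x S r),
      Polynomial.monic_X_pow_sub_C _ (Fact.out : p.Prime).ne_zero, ?_⟩
    rw [Polynomial.eval₂_sub, Polynomial.eval₂_pow, Polynomial.eval₂_X, Polynomial.eval₂_C,
      root_pow_eq, sub_self]
  exact Algebra.IsIntegral.finite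

end field

end Groth.Agent.Lib.Helper19.GR
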