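import Groth.Agent.Lib.Helper19GRTest
import Groth.Agent.Lib.Helper19GRField

/-!
# Maps from the root ring to the test ring (helper19)
-/

set_option autoImplicit false
set_option linter.style.haveILetI false
set_option linter.unusedSectionVars false
universe u

namespace Groth.Agent.Lib.Helper19.GR

open MvPolynomial Groth.Agent.Lib.Helper7.PPow

section rootmap

variable (p : ℕ) [Fact p.Prime] {k : Type u} [Field k] [CharP k p] {ι : Type u} (x : ι → k)
  (S : Finset ι)

theorem testConstQ_algebraMap (L : Type u) [Field L] [Algebra k L] (c : k) :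
    testConstQ L p (Fact.out : p.Prime).one_le (algebraMap k (TestRingQ L p) c) =
      algebraMap k L c := by
  rw [algebraMap_testRingQ, testConstQ_mk, IsScalarTower.algebraMap_apply k L (TestRing L p),
    testConst_algebraMap]

/-- a lift of a residue map of the root ring to the test ring, with prescribed linear terms -/
theorem exists_rootRing_lift (L : Type u) [Field L] [Algebra k L] (π : RootRing p x S →ₐ[k] L)
    (γ : S → L) :
    ∃ f : RootRing p x S →ₐ[k] TestRingQ L p,
      (∀ r, testConstQ L p (Fact.out : p.Prime).one_le (f r) = π r) ∧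
      ∀ i, f (rootY p x S i) = testQmk L p (algebraMap L _ (π (rootY p x S i)) +
        algebraMap L _ (γ i) * testE L p) := by
  have hp1 : 1 ≤ p := (Fact.out : p.Prime).one_le
  haveI : CharP L p := charP_of_injective_algebraMap (algebraMap k L).injective p
  haveI := charP_testRing (L := L) p
  let w : S → TestRingQ L p := fun i => testQmk L p (algebraMap L _ (π (rootY p x S i)) +
        algebraMap L _ (γ i) * testE L p)
  have hw : ∀ i : S, algebraMap k (TestRingQ L p) (x i) = w i ^ p := by
    intro i
    change _ = testQmk L p _ ^ p
    rw [← map_pow, add_pow_char, mul_pow, map_add, map_mul,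
      (testQmk_eq_zero_iff L p _).2 (testE_pow_mem_testN L p), mul_zero, add_zero, ← map_pow,
      ← map_pow, rootY_pow, AlgHom.commutes, algebraMap_testRingQ,
      IsScalarTower.algebraMap_apply k L (TestRing L p)]
  let f : RootRing p x S →ₐ[k] TestRingQ L p :=
    Ideal.Quotient.liftₐ (relIdeal p (fun i : S => x i)) (aeval w)
      (fun a ha => aeval_eq_zero_of_mem_relIdeal p w (fun i : S => x i) hw ha)
  have hf : ∀ q : MvPolynomial S k, f (Ideal.Quotient.mk _ q) = aeval w q := fun q => rfl
  have hfY : ∀ i, f (rootY p x S i) = w i := fun i => by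
    rw [rootY, hf, aeval_X]
  refine ⟨f, fun r => ?_, hfY⟩
  obtain ⟨q, rfl⟩ := Ideal.Quotient.mk_surjective r
  induction q using MvPolynomial.induction_on with
  | C c =>
    rw [hf, aeval_C, testConstQ_algebraMap]
    exact (π.commutes c).symm
  | add q₁ q₂ h₁ h₂ => rw [map_add, map_add, map_add, h₁, h₂, map_add]
  | mul_X q i h =>
    rw [map_mul, map_mul, map_mul, h, map_mul]
    congr 1
    change testConstQ L p hp1 (f (rootY p x S i)) = π (rootY p x S i)
    rw [hfY, testConstQ_mk, map_add, map_mul, testConst_algebraMap, testConst_testE, mul_zero,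
      add_zero]

end rootmap

end Groth.Agent.Lib.Helper19.GR
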