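import Groth.Agent.Lib.Helper5FSAdic
import Groth.Prelude.Def_EGA41
import Mathlib

/-!
# Derivations dual to a differentially independent family (helper19)

For `A` formally smooth over `F` (adic) and a family `x i` whose differentials are linearly
independent in `K ⊗ Ω_{A/F}`, there is, for every `ν`, an `F`-derivation
`A → (ι →₀ A/𝔪^(ν+1))` with `x i ↦ e_i` (EGA 0_IV 20.7 / Matsumura 28.4).
-/

set_option autoImplicit false
set_option linter.style.haveILetI false
set_option linter.unusedSectionVars false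
universe u

namespace Groth.Agent.Lib.Helper19.GR

open IsLocalRing TensorProduct KaehlerDifferential

section endo

variable {R : Type*} [CommRing R] (I : Ideal R) {ι : Type*}

set_option backward.isDefEq.respectTransparency false in
/-- an endomorphism of `ι →₀ R` congruent to the identity modulo a nilpotent ideal has a left
inverse -/
theorem exists_leftInverse_of_congr_one (N : ℕ) (hI : I ^ N = ⊥)
    (θ : (ι →₀ R) →ₗ[R] (ι →₀ R))
    (hθ : ∀ i l, (θ (Finsupp.single i 1) - Finsupp.single i 1 : ι →₀ R) l ∈ I) :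
    ∃ θ' : (ι →₀ R) →ₗ[R] (ι →₀ R), θ'.comp θ = LinearMap.id := by
  classical
  let n : Module.End R (ι →₀ R) := 1 - θ
  have hn1 : ∀ i l, (n (Finsupp.single i 1)) l ∈ I := by
    intro i l
    have h1 : n (Finsupp.single i 1) = -(θ (Finsupp.single i 1) - Finsupp.single i 1) := by
      change (1 - θ : Module.End R (ι →₀ R)) (Finsupp.single i 1) = _
      rw [LinearMap.sub_apply, Module.End.one_apply, neg_sub]
    rw [h1, Finsupp.neg_apply]
    exact I.neg_mem (hθ i l)
  have hstep : ∀ (j : ℕ) (f : ι →₀ R), (∀ l, f l ∈ I ^ j) → ∀ l, (n f) l ∈ I ^ (j + 1) := by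
    intro j f hf l
    have h1 : f = f.sum fun i r => r • Finsupp.single i (1 : R) := by
      conv_lhs => rw [← Finsupp.sum_single f]
      refine Finsupp.sum_congr fun i _ => ?_
      rw [Finsupp.smul_single_one]
    rw [h1, map_finsuppSum, Finsupp.sum, Finsupp.finset_sum_apply]
    refine Ideal.sum_mem _ fun i _ => ?_
    rw [map_smul, Finsupp.smul_apply, smul_eq_mul, pow_succ]
    exact Ideal.mul_mem_mul (hf i) (hn1 i l)
  have hpow : ∀ (j : ℕ) (f : ι →₀ R) (l : ι), ((n ^ j) f) l ∈ I ^ j := by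
    intro j
    induction j with
    | zero => intro f l; rw [pow_zero, Ideal.one_eq_top]; trivial
    | succ j ih =>
      intro f l
      rw [pow_succ' n j, Module.End.mul_apply]
      exact hstep j _ (ih f) l
  have hnil : IsNilpotent n := by
    refine ⟨N, ?_⟩
    ext f l
    have := hpow N (Finsupp.single f 1) l
    rw [hI, Ideal.mem_bot] at this
    simpa using this
  have hu : IsUnit (1 - n) := by
    exact IsNilpotent.isUnit_one_sub (R := Module.End R (ι →₀ R)) hnil
  have hθn : (1 - n : Module.End R (ι →₀ R)) = θ := by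
    exact sub_sub_cancel (1 : Module.End R (ι →₀ R)) θ
  rw [hθn] at hu
  obtain ⟨u, hu⟩ := hu
  refine ⟨(↑u⁻¹ : Module.End R (ι →₀ R)), ?_⟩
  rw [← hu]
  exact u.inv_mul

end endo

section deriv

variable {F A : Type u} [CommRing F] [CommRing A] [Algebra F A] [IsLocalRing A]

/-- **Matsumura 28.4 / EGA 0_IV 20.7**, key step: derivations dual to a family whose
differentials are independent modulo the maximal ideal. -/
theorem exists_derivation_finsupp_of_linearIndependent
    (hfs : EGA41.IsFormallySmoothAdic F ⊥ A (maximalIdeal A)) {ι : Type u} (x : ι → A)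
    (hli : LinearIndependent (ResidueField A)
      (fun i => (1 : ResidueField A) ⊗ₜ[A] D F A (x i)))
    (ν : ℕ) :
    ∃ D' : Derivation F A (ι →₀ A ⧸ maximalIdeal A ^ (ν + 1)),
      ∀ i, D' (x i) = Finsupp.single i 1 := by
  classical
  have h𝔄le : maximalIdeal A ^ (ν + 1) ≤ maximalIdeal A := Ideal.pow_le_self (Nat.succ_ne_zero ν)
  -- `K` as algebra over `A ⧸ 𝔄`
  letI : Algebra (A ⧸ maximalIdeal A ^ (ν + 1)) (ResidueField A) :=
    (Ideal.Quotient.factor h𝔄le).toAlgebra
  haveI : IsScalarTower A (A ⧸ maximalIdeal A ^ (ν + 1)) (ResidueField A) :=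
    IsScalarTower.of_algebraMap_eq fun a => rfl
  -- left inverse over `K`
  let f : (ι →₀ ResidueField A) →ₗ[ResidueField A] ResidueField A ⊗[A] Ω[A⁄F] :=
    Finsupp.linearCombination (ResidueField A) (fun i => (1 : ResidueField A) ⊗ₜ[A] D F A (x i))
  obtain ⟨g, hg⟩ := f.exists_leftInverse_of_injective (linearIndependent_iff_ker.1 hli)
  let D'' : Derivation F A (ι →₀ ResidueField A) :=
    ((g.restrictScalars A).comp (TensorProduct.mk A (ResidueField A) Ω[A⁄F] 1)).compDer (D F A)
  have hD'' : ∀ i, D'' (x i) = Finsupp.single i 1 := by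
    intro i
    change g ((1 : ResidueField A) ⊗ₜ[A] D F A (x i)) = _
    have : f (Finsupp.single i 1) = (1 : ResidueField A) ⊗ₜ[A] D F A (x i) := by simp [f]
    rw [← this]
    exact LinearMap.congr_fun hg _
  let π : (ι →₀ A ⧸ maximalIdeal A ^ (ν + 1)) →ₗ[A ⧸ maximalIdeal A ^ (ν + 1)]
      (ι →₀ ResidueField A) :=
    Finsupp.mapRange.linearMap (Algebra.linearMap (A ⧸ maximalIdeal A ^ (ν + 1)) (ResidueField A))
  have hπ : Function.Surjective π :=
    Finsupp.mapRange_surjective _ (map_zero _) (Ideal.Quotient.factor_surjective h𝔄le)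
  obtain ⟨D₁, hD₁⟩ := Groth.Agent.Lib.Helper5.exists_derivation_lift (⊥ : Ideal F)
    (maximalIdeal A) ⟨1, by simp⟩ hfs (maximalIdeal A ^ (ν + 1)) ⟨ν + 1, le_rfl⟩ π hπ D''
  -- the endomorphism `θ`
  let θ : (ι →₀ A ⧸ maximalIdeal A ^ (ν + 1)) →ₗ[A ⧸ maximalIdeal A ^ (ν + 1)]
      (ι →₀ A ⧸ maximalIdeal A ^ (ν + 1)) :=
    Finsupp.linearCombination (A ⧸ maximalIdeal A ^ (ν + 1)) (fun i => D₁ (x i))
  have hθ1 : ∀ i, θ (Finsupp.single i 1) = D₁ (x i) := fun i => by simp [θ]
  have hI : ((maximalIdeal A).map (Ideal.Quotient.mk (maximalIdeal A ^ (ν + 1)))) ^ (ν + 1) = ⊥ := by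
    rw [← Ideal.map_pow, Ideal.map_quotient_self]
  have hθ : ∀ i l, (θ (Finsupp.single i 1) - Finsupp.single i 1 :
      ι →₀ A ⧸ maximalIdeal A ^ (ν + 1)) l ∈
      (maximalIdeal A).map (Ideal.Quotient.mk (maximalIdeal A ^ (ν + 1))) := by
    intro i l
    rw [hθ1]
    have h1 : π (D₁ (x i) - Finsupp.single i 1) = 0 := by
      rw [map_sub, hD₁, hD'']
      have : π (Finsupp.single i 1) = Finsupp.single i 1 := by
        simp [π]
      rw [this, sub_self]
    have h2 := DFunLike.congr_fun h1 l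
    have h3 : algebraMap (A ⧸ maximalIdeal A ^ (ν + 1)) (ResidueField A)
        ((D₁ (x i) - Finsupp.single i 1 : ι →₀ A ⧸ maximalIdeal A ^ (ν + 1)) l) = 0 := h2
    obtain ⟨a, ha⟩ := Ideal.Quotient.mk_surjective
      ((D₁ (x i) - Finsupp.single i 1 : ι →₀ A ⧸ maximalIdeal A ^ (ν + 1)) l)
    rw [← ha] at h3 ⊢
    have h4 : Ideal.Quotient.mk (maximalIdeal A) a = 0 := h3
    rw [Ideal.Quotient.eq_zero_iff_mem] at h4
    exact Ideal.mem_map_of_mem _ h4
  obtain ⟨θ', hθ'⟩ := exists_leftInverse_of_congr_one _ (ν + 1) hI θ hθ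
  refine ⟨(θ'.restrictScalars A).compDer D₁, fun i => ?_⟩
  change θ' (D₁ (x i)) = _
  rw [← hθ1]
  exact LinearMap.congr_fun hθ' _

end deriv

end Groth.Agent.Lib.Helper19.GR
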