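import Mathlib

set_option autoImplicit false
set_option linter.style.haveILetI false
open TensorProduct KaehlerDifferential
universe u

namespace Groth.Agent.Lib.Helper7.PPow

/-- A formally unramified, essentially finite type algebra `C` over a field `κ` of char. `p`, all of
whose `p`-th powers lie in `κ`, is a quotient of `κ`. -/
theorem surjective_of_field (p : ℕ) [Fact p.Prime] {κ C : Type u} [Field κ] [CommRing C]
    [Algebra κ C] [CharP κ p]
    [Algebra.EssFiniteType κ C] [Algebra.FormallyUnramified κ C]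
    (hpow : ∀ c : C, c ^ p ∈ Set.range (algebraMap κ C)) :
    Function.Surjective (algebraMap κ C) := by
  rcases subsingleton_or_nontrivial C with hC | hC
  · exact fun c => ⟨0, Subsingleton.elim _ _⟩
  have hred : IsReduced C := Algebra.FormallyUnramified.isReduced_of_field κ C
  have hp : p.Prime := Fact.out
  have hF : IsField C := by
    refine ⟨exists_pair_ne C, mul_comm, ?_⟩
    intro c hc
    obtain ⟨k₁, hk₁⟩ := hpow c
    have hk0 : k₁ ≠ 0 := by
      rintro rfl
      rw [map_zero] at hk₁
      exact hc (IsReduced.eq_zero _ ⟨p, hk₁.symm⟩)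
    refine ⟨c ^ (p - 1) * algebraMap κ C k₁⁻¹, ?_⟩
    rw [← mul_assoc, ← pow_succ', Nat.sub_add_cancel hp.one_le, ← hk₁, ← map_mul,
      mul_inv_cancel₀ hk0, map_one]
  letI : Field C := hF.toField
  haveI : ExpChar κ p := ExpChar.prime hp
  haveI : IsPurelyInseparable κ C := by
    rw [isPurelyInseparable_iff_pow_mem κ p]
    intro x
    exact ⟨1, by rw [pow_one]; exact hpow x⟩
  have := Algebra.FormallyUnramified.range_eq_top_of_isPurelyInseparable κ C
  intro c
  have hc : c ∈ (algebraMap κ C).range := by rw [this]; trivial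
  exact hc

lemma charP_of_cast_eq_zero (R : Type*) [NonAssocRing R] [Nontrivial R] (p : ℕ) [hp : Fact p.Prime]
    (h : (p : R) = 0) : CharP R p := by
  have hd := ringChar.dvd h
  rcases (Nat.dvd_prime hp.out).1 hd with h1 | h1
  · exact absurd h1 (CharP.ringChar_ne_one)
  · exact h1 ▸ ringChar.charP R

/-- EGA 0_IV 21.1.? : if `B` is of finite type over `A`, of characteristic `p`, with `Ω_{B/A} = 0`,
then `B = A[B^p]`. -/
theorem adjoin_pow_eq_top (p : ℕ) [Fact p.Prime] {A B : Type u} [CommRing A] [CommRing B]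
    [Algebra A B] [CharP B p] [Algebra.FiniteType A B] [Subsingleton (Ω[B⁄A])] :
    Algebra.adjoin A (Set.range fun b : B => b ^ p) = ⊤ := by
  have hp : p.Prime := Fact.out
  set B' := Algebra.adjoin A (Set.range fun b : B => b ^ p) with hB'
  have hpow : ∀ b : B, b ^ p ∈ B' := fun b => Algebra.subset_adjoin ⟨b, rfl⟩
  haveI : Algebra.FiniteType B' B := Algebra.FiniteType.of_restrictScalars_finiteType A B' B
  haveI : Algebra.IsIntegral B' B := ⟨fun b => IsIntegral.of_pow hp.pos (by
      have : b ^ p = algebraMap B' B ⟨b ^ p, hpow b⟩ := rfl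
      rw [this]; exact isIntegral_algebraMap)⟩
  haveI : Module.Finite B' B := Algebra.IsIntegral.finite
  haveI : Subsingleton Ω[B⁄B'] := (KaehlerDifferential.map_surjective A B' B).subsingleton
  haveI : Algebra.FormallyUnramified B' B := ⟨inferInstance⟩
  have hp0 : ((p : ℕ) : B') = 0 := by
    apply Subtype.ext
    change ((p : B') : B) = 0
    rw [show ((p : B') : B) = ((p : ℕ) : B) from map_natCast (algebraMap B' B) p]
    exact CharP.cast_eq_zero B p
  -- the key local statement
  have key : ∀ (m : Ideal B') [m.IsMaximal] (b : B),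
      ∃ b' : B', b - b' ∈ m.map (algebraMap B' B) := by
    intro m _ b
    letI : Field (B' ⧸ m) := Ideal.Quotient.field m
    haveI : CharP (B' ⧸ m) p := charP_of_cast_eq_zero _ p (by
      rw [← map_natCast (Ideal.Quotient.mk m), hp0, map_zero])
    have hsurj := surjective_of_field p (κ := B' ⧸ m) (C := B ⧸ m.map (algebraMap B' B)) (by
      intro c
      obtain ⟨c, rfl⟩ := Ideal.Quotient.mk_surjective c
      refine ⟨Ideal.Quotient.mk m ⟨c ^ p, hpow c⟩, ?_⟩
      rw [Ideal.Quotient.algebraMap_quotient_map_quotient, ← map_pow]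
      rfl)
    obtain ⟨k, hk⟩ := hsurj (Ideal.Quotient.mk _ b)
    obtain ⟨b', rfl⟩ := Ideal.Quotient.mk_surjective k
    refine ⟨b', ?_⟩
    rw [Ideal.Quotient.algebraMap_quotient_map_quotient] at hk
    rw [← Ideal.Quotient.eq]
    exact hk.symm
  -- Nakayama
  set N : Submodule B' B := LinearMap.range (Algebra.linearMap B' B) with hN
  have hsub : Subsingleton (B ⧸ N) := by
    by_contra hns
    rw [not_subsingleton_iff_nontrivial] at hns
    have hann : Module.annihilator B' (B ⧸ N) ≠ ⊤ := by
      rw [Ne, Module.annihilator_eq_top_iff, not_subsingleton_iff_nontrivial]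
      exact hns
    obtain ⟨m, hm, hle⟩ := Ideal.exists_le_maximal _ hann
    have htop : (⊤ : Submodule B' (B ⧸ N)) ≤ m • ⊤ := by
      intro y _
      obtain ⟨b, rfl⟩ := Submodule.mkQ_surjective N y
      obtain ⟨b', hb'⟩ := key m b
      have h1 : b - b' ∈ m • (⊤ : Submodule B' B) := by
        rw [Ideal.smul_top_eq_map]
        exact hb'
      have h2 : N.mkQ (b - b') ∈ Submodule.map N.mkQ (m • (⊤ : Submodule B' B)) :=
        Submodule.mem_map_of_mem h1
      rw [Submodule.map_smul'', Submodule.map_top, Submodule.range_mkQ] at h2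
      have h3 : N.mkQ (b' : B) = 0 := by
        rw [Submodule.mkQ_apply, Submodule.Quotient.mk_eq_zero]
        exact ⟨b', rfl⟩
      rwa [map_sub, h3, sub_zero] at h2
    obtain ⟨r, hr1, hr2⟩ := Submodule.exists_sub_one_mem_and_smul_eq_zero_of_fg_of_le_smul m
      (⊤ : Submodule B' (B ⧸ N)) Module.Finite.fg_top htop
    have hr : r ∈ m := hle (Module.mem_annihilator.2 fun y => hr2 y trivial)
    have h1 : (1 : B') ∈ m := by
      have := m.sub_mem hr hr1
      rwa [sub_sub_cancel] at this
    exact hm.ne_top ((Ideal.eq_top_iff_one m).2 h1)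
  rw [eq_top_iff]
  intro b _
  have hb : N.mkQ b = 0 := Subsingleton.elim _ _
  rw [Submodule.mkQ_apply, Submodule.Quotient.mk_eq_zero] at hb
  obtain ⟨b', rfl⟩ := hb
  exact b'.2

/-- EGA 0_IV 21.1.? : `B` of finite type over `A`, of characteristic `p`, with `B^{p^s} ⊆ A` and
`Ω_{B/A} = 0`; then `A → B` is surjective. -/
theorem surjective_of_pow_mem (p : ℕ) [Fact p.Prime] {A B : Type u} [CommRing A] [CommRing B]
    [Algebra A B] [CharP B p] [Algebra.FiniteType A B] [Subsingleton (Ω[B⁄A])] (s : ℕ)
    (hpow : ∀ b : B, b ^ p ^ s ∈ Set.range (algebraMap A B)) :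
    Function.Surjective (algebraMap A B) := by
  induction s with
  | zero =>
    intro b
    simpa using hpow b
  | succ s ih =>
    apply ih
    intro b
    have htop := adjoin_pow_eq_top p (A := A) (B := B)
    have hb : b ∈ Algebra.adjoin A (Set.range fun b : B => b ^ p) := by rw [htop]; trivial
    induction hb using Algebra.adjoin_induction with
    | mem x hx =>
      obtain ⟨c, rfl⟩ := hx
      change (c ^ p) ^ p ^ s ∈ _
      rw [← pow_mul, ← pow_succ']
      exact hpow c
    | algebraMap r => exact ⟨r ^ p ^ s, by rw [map_pow]⟩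
    | add x y _ _ hx hy =>
      rw [add_pow_char_pow]
      obtain ⟨a, ha⟩ := hx
      obtain ⟨c, hc⟩ := hy
      exact ⟨a + c, by rw [map_add, ha, hc]⟩
    | mul x y _ _ hx hy =>
      rw [mul_pow]
      obtain ⟨a, ha⟩ := hx
      obtain ⟨c, hc⟩ := hy
      exact ⟨a * c, by rw [map_mul, ha, hc]⟩

end Groth.Agent.Lib.Helper7.PPow
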