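import Mathlib
import Groth.Prelude.Def_EGA41
import Groth.Agent.Lib.Helper7PPow

set_option autoImplicit false
set_option linter.style.haveILetI false
set_option linter.unusedSectionVars false
open TensorProduct KaehlerDifferential
universe u v

namespace Groth.Agent.Lib.Helper7.PPow

section PGen

variable (p : ℕ) [Fact p.Prime] {A B : Type u} [CommRing A] [CommRing B] [Algebra A B] [CharP B p]

lemma D_eq_zero_of_mem_pPowerSubalgebra {x : B}
    (hx : x ∈ EGA41.pPowerSubalgebra p A B) : D A B x = 0 := by
  rw [EGA41.pPowerSubalgebra] at hx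
  induction hx using Algebra.adjoin_induction with
  | mem x hx =>
    obtain ⟨b, rfl⟩ := hx
    change D A B (b ^ p) = 0
    rw [Derivation.leibniz_pow, ← Nat.cast_smul_eq_nsmul B, CharP.cast_eq_zero, zero_smul]
  | algebraMap r => exact Derivation.map_algebraMap _ r
  | add x y _ _ hx hy => rw [map_add, hx, hy, add_zero]
  | mul x y _ _ hx hy => rw [Derivation.leibniz, hx, hy, smul_zero, smul_zero, add_zero]

lemma pow_mem_pPowerSubalgebra (b : B) : b ^ p ∈ EGA41.pPowerSubalgebra p A B :=
  Algebra.subset_adjoin ⟨b, rfl⟩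

variable {ι : Type u} (x : ι → B)

lemma pMonomial_add_single (e : ι →₀ ℕ) (i : ι) :
    EGA41.pMonomial x (e + Finsupp.single i 1) = EGA41.pMonomial x e * x i := by
  rw [EGA41.pMonomial, EGA41.pMonomial, Finsupp.prod_add_index' (fun _ => pow_zero _)
    (fun _ _ _ => pow_add _ _ _)]
  congr 1
  exact (Finsupp.prod_single_index (h := fun j n => x j ^ n) (pow_zero (x i))).trans (pow_one (x i))

lemma pMonomial_eq_mul_erase (e : ι →₀ ℕ) (i : ι) :
    EGA41.pMonomial x e = x i ^ e i * EGA41.pMonomial x (e.erase i) := by
  rw [EGA41.pMonomial, EGA41.pMonomial, Finsupp.mul_prod_erase' _ _ _ (fun _ => pow_zero _)]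

/-- the span of the reduced monomials -/
noncomputable def redSpan : Submodule (EGA41.pPowerSubalgebra p A B) B :=
  Submodule.span (EGA41.pPowerSubalgebra p A B)
    (Set.range fun e : {e : ι →₀ ℕ // ∀ i, e i < p} => EGA41.pMonomial x e.1)

lemma mul_mem_redSpan (i : ι) {y : B} (hy : y ∈ redSpan p (A := A) x) :
    x i * y ∈ redSpan p (A := A) x := by
  classical
  have hp : p.Prime := Fact.out
  rw [redSpan] at hy ⊢
  induction hy using Submodule.span_induction with
  | mem y hy =>
    obtain ⟨⟨e, he⟩, rfl⟩ := hy
    change x i * EGA41.pMonomial x e ∈ _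
    by_cases h : e i + 1 < p
    · refine Submodule.subset_span ⟨⟨e + Finsupp.single i 1, fun j => ?_⟩, ?_⟩
      · by_cases hj : j = i
        · subst hj; simpa using h
        · simpa [Finsupp.single_apply, Ne.symm hj] using he j
      · change EGA41.pMonomial x (e + Finsupp.single i 1) = _
        rw [pMonomial_add_single, mul_comm]
    · have hei : e i = p - 1 := by have := he i; omega
      have h1 : x i * EGA41.pMonomial x e =
          (⟨x i ^ p, pow_mem_pPowerSubalgebra p (x i)⟩ : EGA41.pPowerSubalgebra p A B) •
            EGA41.pMonomial x (e.erase i) := by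
        rw [pMonomial_eq_mul_erase x e i, hei, ← mul_assoc, ← pow_succ', Nat.sub_add_cancel hp.one_le]
        rfl
      rw [h1]
      refine Submodule.smul_mem _ _ (Submodule.subset_span ⟨⟨e.erase i, fun j => ?_⟩, rfl⟩)
      by_cases hj : j = i
      · subst hj; simpa using hp.pos
      · simpa [Finsupp.erase_ne hj] using he j
  | zero => rw [mul_zero]; exact zero_mem _
  | add y z _ _ hy hz => rw [mul_add]; exact add_mem hy hz
  | smul c y _ hy =>
    rw [mul_smul_comm]
    exact Submodule.smul_mem _ _ hy

lemma one_mem_redSpan : (1 : B) ∈ redSpan p (A := A) x := by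
  refine Submodule.subset_span ⟨⟨0, fun i => ?_⟩, ?_⟩
  · have hp : p.Prime := Fact.out
    simpa using hp.pos
  · change EGA41.pMonomial x 0 = 1
    rw [EGA41.pMonomial, Finsupp.prod_zero_index]

lemma pMonomial_mem_adjoin (e : ι →₀ ℕ) :
    EGA41.pMonomial x e ∈ Algebra.adjoin (EGA41.pPowerSubalgebra p A B) (Set.range x) := by
  rw [EGA41.pMonomial, Finsupp.prod]
  exact Subalgebra.prod_mem _ fun i _ => pow_mem (Algebra.subset_adjoin (Set.mem_range_self i)) _

theorem adjoin_eq_top_iff_isPGenerating :
    Algebra.adjoin (EGA41.pPowerSubalgebra p A B) (Set.range x) = ⊤ ↔ EGA41.IsPGenerating p A x := by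
  constructor
  · intro h
    rw [EGA41.IsPGenerating]
    change redSpan p x = ⊤
    rw [eq_top_iff]
    intro b hbt
    clear hbt
    have hb : b ∈ Algebra.adjoin (EGA41.pPowerSubalgebra p A B) (Set.range x) := by rw [h]; trivial
    have key : ∀ y ∈ redSpan p (A := A) x, b * y ∈ redSpan p (A := A) x := by
      induction hb using Algebra.adjoin_induction with
      | mem z hz =>
        obtain ⟨i, rfl⟩ := hz
        exact fun y hy => mul_mem_redSpan p x i hy
      | algebraMap r =>
        intro y hy
        rw [← Algebra.smul_def]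
        exact Submodule.smul_mem _ _ hy
      | add a c _ _ ha hc =>
        intro y hy
        rw [add_mul]
        exact add_mem (ha y hy) (hc y hy)
      | mul a c _ _ ha hc =>
        intro y hy
        rw [mul_assoc]
        exact ha _ (hc y hy)
    have := key 1 (one_mem_redSpan p x)
    rwa [mul_one] at this
  · intro h
    rw [EGA41.IsPGenerating] at h
    rw [← Algebra.toSubmodule_eq_top, eq_top_iff, ← h, Submodule.span_le]
    rintro _ ⟨e, rfl⟩
    exact pMonomial_mem_adjoin p x e.1

theorem span_D_eq_top_of_isPGenerating (h : EGA41.IsPGenerating p A x) :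
    Submodule.span B (Set.range fun i => D A B (x i)) = ⊤ := by
  rw [← adjoin_eq_top_iff_isPGenerating] at h
  set T := Submodule.span B (Set.range fun i => D A B (x i)) with hT
  have key : ∀ b : B, D A B b ∈ T := by
    intro b
    have hb : b ∈ Algebra.adjoin (EGA41.pPowerSubalgebra p A B) (Set.range x) := by rw [h]; trivial
    induction hb using Algebra.adjoin_induction with
    | mem z hz =>
      obtain ⟨i, rfl⟩ := hz
      exact Submodule.subset_span ⟨i, rfl⟩
    | algebraMap r =>
      have : D A B (algebraMap (EGA41.pPowerSubalgebra p A B) B r) = 0 :=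
        D_eq_zero_of_mem_pPowerSubalgebra p r.2
      rw [this]
      exact zero_mem _
    | add a c _ _ ha hc => rw [map_add]; exact add_mem ha hc
    | mul a c _ _ ha hc =>
      rw [Derivation.leibniz]
      exact add_mem (Submodule.smul_mem _ _ hc) (Submodule.smul_mem _ _ ha)
  rw [eq_top_iff, ← KaehlerDifferential.span_range_derivation A B, Submodule.span_le]
  rintro _ ⟨b, rfl⟩
  exact key b

theorem isPGenerating_of_span_D_eq_top
    (hft : Algebra.FiniteType (EGA41.pPowerSubalgebra p A B) B)
    (h : Submodule.span B (Set.range fun i => D A B (x i)) = ⊤) : EGA41.IsPGenerating p A x := by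
  rw [← adjoin_eq_top_iff_isPGenerating]
  set B'' := Algebra.adjoin (EGA41.pPowerSubalgebra p A B) (Set.range x) with hB''
  haveI : Algebra.FiniteType B'' B :=
    Algebra.FiniteType.of_restrictScalars_finiteType (EGA41.pPowerSubalgebra p A B) B'' B
  haveI : Subsingleton (Ω[B⁄B'']) := by
    have hsurj := KaehlerDifferential.map_surjective A B'' B
    have hzero : ∀ ω : Ω[B⁄A], KaehlerDifferential.map A B'' B B ω = 0 := by
      intro ω
      have hω : ω ∈ Submodule.span B (Set.range fun i => D A B (x i)) := by rw [h]; trivial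
      induction hω using Submodule.span_induction with
      | mem y hy =>
        obtain ⟨i, rfl⟩ := hy
        change KaehlerDifferential.map A B'' B B (D A B (x i)) = 0
        rw [KaehlerDifferential.map_D]
        have : (algebraMap B B) (x i) = algebraMap B'' B ⟨x i, Algebra.subset_adjoin ⟨i, rfl⟩⟩ := rfl
        rw [this, Derivation.map_algebraMap]
      | zero => exact map_zero _
      | add y z _ _ hy hz => rw [map_add, hy, hz, add_zero]
      | smul c y _ hy => rw [map_smul, hy, smul_zero]
    refine ⟨fun a b => ?_⟩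
    obtain ⟨a, rfl⟩ := hsurj a
    obtain ⟨b, rfl⟩ := hsurj b
    rw [hzero, hzero]
  have hs := surjective_of_pow_mem p (A := B'') (B := B) 1 (fun b => by
    rw [pow_one]
    exact ⟨⟨b ^ p, Subalgebra.algebraMap_mem B''
      (⟨b ^ p, pow_mem_pPowerSubalgebra p b⟩ : EGA41.pPowerSubalgebra p A B)⟩, rfl⟩)
  rw [eq_top_iff]
  intro b _
  obtain ⟨b', rfl⟩ := hs b
  exact b'.2

end PGen

end Groth.Agent.Lib.Helper7.PPow
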