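import Mathlib
import Groth.Prelude.Def_EGA41
import Groth.Agent.Lib.Helper7PGen

set_option autoImplicit false
set_option linter.style.haveILetI false
set_option linter.unusedSectionVars false
open TensorProduct KaehlerDifferential MvPolynomial
universe u v

namespace Groth.Agent.Lib.Helper7.PPow

section PDeriv

variable {R : Type u} {B : Type v} [CommRing R] [CommRing B] [Algebra R B] (p : ℕ) [Fact p.Prime]
  {ι : Type*} (x : ι → B) (a : ι → R)

/-- the ideal of the relations `X_i^p - a_i` -/
noncomputable def relIdeal : Ideal (MvPolynomial ι R) :=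
  Ideal.span (Set.range fun i => (X i : MvPolynomial ι R) ^ p - C (a i))

lemma aeval_eq_zero_of_mem_relIdeal (ha : ∀ i, algebraMap R B (a i) = x i ^ p)
    {j : MvPolynomial ι R} (hj : j ∈ relIdeal p a) : aeval x j = 0 := by
  rw [relIdeal] at hj
  induction hj using Submodule.span_induction with
  | mem y hy =>
    obtain ⟨i, rfl⟩ := hy
    simp only [map_sub, map_pow, aeval_X, aeval_C, ha, sub_self]
  | zero => exact map_zero _
  | add y z _ _ hy hz => rw [map_add, hy, hz, add_zero]
  | smul c y _ hy => rw [smul_eq_mul, map_mul, hy, mul_zero]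

lemma aeval_pderiv_eq_zero_of_mem_relIdeal (hpR : (p : R) = 0)
    (ha : ∀ i, algebraMap R B (a i) = x i ^ p) (α : ι)
    {j : MvPolynomial ι R} (hj : j ∈ relIdeal p a) : aeval x (pderiv α j) = 0 := by
  suffices h : aeval x j = 0 ∧ aeval x (pderiv α j) = 0 from h.2
  rw [relIdeal] at hj
  induction hj using Submodule.span_induction with
  | mem y hy =>
    obtain ⟨i, rfl⟩ := hy
    have hpP : ((p : ℕ) : MvPolynomial ι R) = 0 := by
      rw [← map_natCast (C : R →+* MvPolynomial ι R), hpR, map_zero]
    refine ⟨by simp only [map_sub, map_pow, aeval_X, aeval_C, ha, sub_self], ?_⟩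
    rw [map_sub, Derivation.leibniz_pow, pderiv_C, sub_zero, ← Nat.cast_smul_eq_nsmul
      (MvPolynomial ι R), hpP, zero_smul, map_zero]
  | zero => exact ⟨map_zero _, by rw [map_zero, map_zero]⟩
  | add y z _ _ hy hz =>
    exact ⟨by rw [map_add, hy.1, hz.1, add_zero], by rw [map_add, map_add, hy.2, hz.2, add_zero]⟩
  | smul c y _ hy =>
    refine ⟨by rw [smul_eq_mul, map_mul, hy.1, mul_zero], ?_⟩
    rw [smul_eq_mul, Derivation.leibniz, map_add, smul_eq_mul, smul_eq_mul, map_mul, map_mul,
      hy.1, hy.2, mul_zero, zero_mul, add_zero]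

/-- reduction modulo the relations: every polynomial is congruent to a reduced one -/
lemma exists_reduced_sub_mem_relIdeal (f : MvPolynomial ι R) :
    ∃ g ∈ restrictDegree ι R (p - 1), f - g ∈ relIdeal p a := by
  have hp : p.Prime := Fact.out
  induction f using MvPolynomial.induction_on' with
  | add f₁ f₂ h₁ h₂ =>
    obtain ⟨g₁, hg₁, h₁⟩ := h₁
    obtain ⟨g₂, hg₂, h₂⟩ := h₂
    refine ⟨g₁ + g₂, add_mem hg₁ hg₂, ?_⟩
    have : f₁ + f₂ - (g₁ + g₂) = (f₁ - g₁) + (f₂ - g₂) := by ring
    rw [this]
    exact add_mem h₁ h₂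
  | monomial n c =>
    refine ⟨monomial (n.mapRange (· % p) (Nat.zero_mod p))
      (c * n.prod fun i e => a i ^ (e / p)), ?_, ?_⟩
    · rw [mem_restrictDegree]
      intro s hs i
      have := support_monomial_subset hs
      rw [Finset.mem_singleton] at this
      subst this
      rw [Finsupp.mapRange_apply]
      have := Nat.mod_lt (n i) hp.pos
      omega
    · rw [← Ideal.Quotient.eq]
      have hX : ∀ i, (Ideal.Quotient.mk (relIdeal p a)) (X i) ^ p =
          Ideal.Quotient.mk (relIdeal p a) (C (a i)) := by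
        intro i
        rw [← map_pow, Ideal.Quotient.eq]
        exact Ideal.subset_span ⟨i, rfl⟩
      set q := Ideal.Quotient.mk (relIdeal p a) with hq
      have h1 : q (n.prod fun i e => (X i : MvPolynomial ι R) ^ e) =
          n.prod fun i e => q (X i) ^ e := by
        rw [map_finsuppProd]
        simp only [map_pow]
      have h2 : q ((n.mapRange (· % p) (Nat.zero_mod p)).prod
          fun i e => (X i : MvPolynomial ι R) ^ e) = n.prod fun i e => q (X i) ^ (e % p) := by
        rw [map_finsuppProd, Finsupp.prod_mapRange_index (fun _ => by rw [pow_zero, map_one])]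
        simp only [map_pow]
      have h3 : q (C (c * n.prod fun i e => a i ^ (e / p))) =
          q (C c) * n.prod fun i e => q (C (a i)) ^ (e / p) := by
        rw [map_mul, map_mul, map_finsuppProd, map_finsuppProd]
        simp only [map_pow]
      rw [monomial_eq, monomial_eq, map_mul, map_mul, h1, h2, h3, mul_assoc, ← Finsupp.prod_mul]
      congr 2
      funext i e
      rw [← hX, ← pow_mul, ← pow_add, Nat.div_add_mod]

/-- a reduced polynomial killed by evaluation at a `p`-free family vanishes -/
lemma eq_zero_of_reduced_of_aeval_eq_zero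
    (hli : LinearIndependent R
      (fun e : {e : ι →₀ ℕ // ∀ i, e i < p} => e.1.prod fun i n => x i ^ n))
    {g : MvPolynomial ι R} (hg : g ∈ restrictDegree ι R (p - 1)) (h0 : aeval x g = 0) : g = 0 := by
  classical
  have hp : p.Prime := Fact.out
  rw [mem_restrictDegree] at hg
  have hred : ∀ s ∈ g.support, ∀ i, s i < p := fun s hs i => by
    have := hg s hs i
    have := hp.pos
    omega
  rw [linearIndependent_iff'] at hli
  have hsum : aeval x g = ∑ m ∈ g.support, coeff m g • (m.prod fun i n => x i ^ n) := by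
    conv_lhs => rw [g.as_sum]
    rw [map_sum]
    refine Finset.sum_congr rfl fun m _ => ?_
    rw [aeval_monomial, Algebra.smul_def]
  have key := hli (g.support.subtype fun e => ∀ i, e i < p) (fun e => coeff e.1 g) (by
    rw [Finset.sum_subtype_eq_sum_filter (f := fun m : ι →₀ ℕ =>
      coeff m g • (m.prod fun i n => x i ^ n)), Finset.filter_true_of_mem hred, ← hsum, h0])
  ext m
  rw [coeff_zero]
  by_cases hm : m ∈ g.support
  · exact key ⟨m, hred m hm⟩ (by rw [Finset.mem_subtype]; exact hm)
  · rwa [mem_support_iff, not_not] at hm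

/-- partial derivations attached to a `p`-basis-like family -/
theorem exists_pderiv [DecidableEq ι] (hpR : (p : R) = 0)
    (ha : ∀ i, algebraMap R B (a i) = x i ^ p)
    (hli : LinearIndependent R
      (fun e : {e : ι →₀ ℕ // ∀ i, e i < p} => e.1.prod fun i n => x i ^ n))
    (hgen : Algebra.adjoin R (Set.range x) = ⊤) (α : ι) :
    ∃ d : Derivation R B B, ∀ β, d (x β) = if α = β then 1 else 0 := by
  have hsurj : Function.Surjective (aeval x : MvPolynomial ι R →ₐ[R] B) := by
    rw [← AlgHom.range_eq_top, ← Algebra.adjoin_range_eq_range_aeval, hgen]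
  have hker : ∀ f : MvPolynomial ι R, aeval x f = 0 → aeval x (pderiv α f) = 0 := by
    intro f hf
    obtain ⟨g, hg, hfg⟩ := exists_reduced_sub_mem_relIdeal p a f
    have h1 : aeval x g = 0 := by
      have := aeval_eq_zero_of_mem_relIdeal p x a ha hfg
      rwa [map_sub, hf, zero_sub, neg_eq_zero] at this
    have h2 := eq_zero_of_reduced_of_aeval_eq_zero p x hli hg h1
    rw [h2, sub_zero] at hfg
    exact aeval_pderiv_eq_zero_of_mem_relIdeal p x a hpR ha α hfg
  refine ⟨Derivation.liftOfSurjective (f := (aeval x : MvPolynomial ι R →ₐ[R] B)) hsurj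
    (d := pderiv α) hker, fun β => ?_⟩
  have : x β = (aeval x : MvPolynomial ι R →ₐ[R] B) (X β) := (aeval_X x β).symm
  rw [this, Derivation.liftOfSurjective_apply, pderiv_X, Pi.single_apply]
  split_ifs with h1 h2 h2
  · exact map_one _
  · exact absurd h1.symm h2
  · exact absurd h2.symm h1
  · exact map_zero _

end PDeriv

section PBasisDiff

variable (p : ℕ) [Fact p.Prime] {A B : Type u} [CommRing A] [CommRing B] [Algebra A B] [CharP B p]
  {ι : Type u} (x : ι → B)

lemma natCast_pPowerSubalgebra_eq_zero : ((p : ℕ) : EGA41.pPowerSubalgebra p A B) = 0 := by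
  apply Subtype.ext
  change ((p : EGA41.pPowerSubalgebra p A B) : B) = 0
  rw [show ((p : EGA41.pPowerSubalgebra p A B) : B) = ((p : ℕ) : B) from
    map_natCast (algebraMap (EGA41.pPowerSubalgebra p A B) B) p]
  exact CharP.cast_eq_zero B p

/-- partial derivations of a `p`-basis, as linear forms on `Ω_{B/A}` -/
theorem exists_dual_of_isPBasis [DecidableEq ι] (hx : EGA41.IsPBasis p A x) (α : ι) :
    ∃ L : Ω[B⁄A] →ₗ[B] B, ∀ β, L (D A B (x β)) = if α = β then 1 else 0 := by
  obtain ⟨d, hd⟩ := exists_pderiv (R := EGA41.pPowerSubalgebra p A B) (B := B) p x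
    (fun i => ⟨x i ^ p, pow_mem_pPowerSubalgebra p (x i)⟩)
    (natCast_pPowerSubalgebra_eq_zero p) (fun i => rfl) hx.1
    ((adjoin_eq_top_iff_isPGenerating p x).2 hx.2) α
  refine ⟨(d.restrictScalars A).liftKaehlerDifferential, fun β => ?_⟩
  rw [Derivation.liftKaehlerDifferential_comp_D, Derivation.restrictScalars_apply, hd β]

theorem linearIndependent_D_of_isPBasis (hx : EGA41.IsPBasis p A x) :
    LinearIndependent B (fun i => D A B (x i)) := by
  classical
  rw [linearIndependent_iff']
  intro s c hsum α hα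
  obtain ⟨L, hL⟩ := exists_dual_of_isPBasis p x hx α
  have := congrArg L hsum
  rw [map_sum, map_zero] at this
  simp only [map_smul, hL, smul_eq_mul, mul_ite, mul_one, mul_zero] at this
  rwa [Finset.sum_ite_eq s α, if_pos hα] at this

theorem exists_basis_D_of_isPBasis (hx : EGA41.IsPBasis p A x) :
    ∃ b : Module.Basis ι B (Ω[B⁄A]), ∀ i, b i = D A B (x i) := by
  refine ⟨Module.Basis.mk (linearIndependent_D_of_isPBasis p x hx)
    (span_D_eq_top_of_isPGenerating p x hx.2).ge, fun i => ?_⟩
  rw [Module.Basis.mk_apply]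

end PBasisDiff

end Groth.Agent.Lib.Helper7.PPow
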