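import Mathlib
import Groth.Prelude.Def_EGA41
import Groth.Agent.Lib.Helper7PBasis

set_option autoImplicit false
set_option linter.style.haveILetI false
set_option linter.unusedSectionVars false
open TensorProduct KaehlerDifferential MvPolynomial
universe u v w

namespace Groth.Agent.Lib.Helper7.PPow

section PFree

variable (E : Type u) {K : Type v} [CommRing E] [CommRing K] [Algebra E K] (p : ℕ) [Fact p.Prime]
  {ι : Type w} {ι' : Type*}

/-- polynomial formulation of `p`-independence over `E` -/
def PFree (x : ι → K) : Prop :=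
  ∀ g ∈ restrictDegree ι E (p - 1), aeval x g = 0 → g = 0

variable {E}

lemma mem_restrictDegree_rename_iff {f : ι' → ι} (hf : Function.Injective f) (n : ℕ)
    (q : MvPolynomial ι' E) :
    rename f q ∈ restrictDegree ι E n ↔ q ∈ restrictDegree ι' E n := by
  classical
  rw [mem_restrictDegree, mem_restrictDegree, support_rename_of_injective hf]
  constructor
  · intro h s hs i
    have := h (Finsupp.mapDomain f s) (Finset.mem_image_of_mem _ hs) (f i)
    rwa [Finsupp.mapDomain_apply hf] at this
  · intro h s hs j
    obtain ⟨s', hs', rfl⟩ := Finset.mem_image.1 hs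
    by_cases hj : j ∈ Set.range f
    · obtain ⟨i, rfl⟩ := hj
      rw [Finsupp.mapDomain_apply hf]
      exact h s' hs' i
    · rw [Finsupp.mapDomain_of_notMem_range _ _ hj]
      exact Nat.zero_le _

lemma PFree.comp_injective {x : ι → K} (h : PFree E p x) {f : ι' → ι}
    (hf : Function.Injective f) : PFree E p (x ∘ f) := by
  intro g hg h0
  have h1 : rename f g ∈ restrictDegree ι E (p - 1) := (mem_restrictDegree_rename_iff hf _ g).2 hg
  have h2 : aeval x (rename f g) = 0 := by rw [aeval_rename]; exact h0
  exact rename_injective f hf ((h _ h1 h2).trans (map_zero _).symm)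

lemma pfree_iff_linearIndependent (x : ι → K) :
    PFree E p x ↔ LinearIndependent E
      (fun e : {e : ι →₀ ℕ // ∀ i, e i < p} => e.1.prod fun i n => x i ^ n) := by
  classical
  have hp : p.Prime := Fact.out
  constructor
  · intro h
    rw [linearIndependent_iff']
    intro s c hsum e he
    set g : MvPolynomial ι E := ∑ e ∈ s, monomial e.1 (c e) with hg
    have hgred : g ∈ restrictDegree ι E (p - 1) := by
      refine Submodule.sum_mem _ fun e _ => ?_
      rw [mem_restrictDegree]
      intro m hm i
      have := support_monomial_subset hm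
      rw [Finset.mem_singleton] at this
      subst this
      have := e.2 i
      omega
    have hg0 : aeval x g = 0 := by
      rw [hg, map_sum, ← hsum]
      refine Finset.sum_congr rfl fun e _ => ?_
      rw [aeval_monomial, Algebra.smul_def]
    have := h g hgred hg0
    have hc : coeff e.1 g = c e := by
      rw [hg, coeff_sum, Finset.sum_eq_single e]
      · rw [coeff_monomial, if_pos rfl]
      · intro b _ hbe
        rw [coeff_monomial, if_neg]
        exact fun h => hbe (Subtype.ext h)
      · intro h; exact absurd he h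
    rw [← hc, this, coeff_zero]
  · intro h g hg h0
    exact eq_zero_of_reduced_of_aeval_eq_zero p x h hg h0

end PFree

section OptionStep

variable {E : Type u} {K : Type v} [Field E] [Field K] [Algebra E K] (p : ℕ) [Fact p.Prime]
  [CharP K p] {ι : Type w}

lemma isAlgebraic_of_pow_mem (hE : ∀ y : K, y ^ p ∈ Set.range (algebraMap E K)) (z : K) :
    IsAlgebraic E z := by
  have hp : p.Prime := Fact.out
  obtain ⟨a, ha⟩ := hE z
  refine ⟨Polynomial.X ^ p - Polynomial.C a, (Polynomial.monic_X_pow_sub_C a hp.ne_zero).ne_zero, ?_⟩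
  rw [map_sub, map_pow, Polynomial.aeval_X, Polynomial.aeval_C, ha, sub_self]

lemma aeval_optionElim (x : ι → K) (y : K) (g : MvPolynomial (Option ι) E) :
    aeval (fun o : Option ι => o.elim y x) g =
      Polynomial.eval₂ ((aeval x : MvPolynomial ι E →ₐ[E] K) : MvPolynomial ι E →+* K) y
        (optionEquivLeft E ι g) := by
  let φ : MvPolynomial (Option ι) E →ₐ[E] K :=
    (Polynomial.eval₂AlgHom (aeval x : MvPolynomial ι E →ₐ[E] K) y
      (fun _ => Commute.all _ _)).comp (optionEquivLeft E ι).toAlgHom
  have : (aeval (fun o : Option ι => o.elim y x) : MvPolynomial (Option ι) E →ₐ[E] K) = φ := by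
    apply MvPolynomial.algHom_ext
    intro o
    cases o with
    | none =>
      simp [φ, optionEquivLeft_X_none]
    | some i =>
      simp [φ, optionEquivLeft_X_some]
  rw [this]
  rfl

/-- the extension step: adjoining an element outside `E[x]` keeps `p`-freeness -/
theorem PFree.option_elim (hE : ∀ y : K, y ^ p ∈ Set.range (algebraMap E K))
    {x : ι → K} (hx : PFree E p x) {y : K} (hy : y ∉ Algebra.adjoin E (Set.range x)) :
    PFree E p (fun o : Option ι => o.elim y x) := by
  classical
  have hp : p.Prime := Fact.out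
  set F := IntermediateField.adjoin E (Set.range x) with hFdef
  have hF : F.toSubalgebra = Algebra.adjoin E (Set.range x) :=
    IntermediateField.adjoin_toSubalgebra_of_isAlgebraic
      (fun z _ => isAlgebraic_of_pow_mem p hE z)
  have hyF : y ∉ F := by
    rw [← IntermediateField.mem_toSubalgebra, hF]
    exact hy
  have hypF : y ^ p ∈ F := by
    obtain ⟨a, ha⟩ := hE y
    rw [← ha]
    exact F.algebraMap_mem a
  -- minimal polynomial
  have hirr : Irreducible (Polynomial.X ^ p - Polynomial.C (⟨y ^ p, hypF⟩ : F)) := by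
    apply X_pow_sub_C_irreducible_of_prime hp
    intro b hb
    have h1 : (b : K) ^ p = y ^ p := by
      have := congrArg (fun z : F => (z : K)) hb
      simpa using this
    have h2 : ((b : K) - y) ^ p = 0 := by
      rw [sub_pow_char, h1, sub_self]
    have h3 : (b : K) = y := sub_eq_zero.mp (pow_eq_zero_iff hp.ne_zero |>.mp h2)
    exact hyF (h3 ▸ b.2)
  have hmin : Polynomial.X ^ p - Polynomial.C (⟨y ^ p, hypF⟩ : F) = minpoly F y := by
    apply minpoly.eq_of_irreducible_of_monic hirr
    · rw [map_sub, map_pow, Polynomial.aeval_X, Polynomial.aeval_C]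
      exact sub_self _
    · exact Polynomial.monic_X_pow_sub_C _ hp.ne_zero
  have hdeg : (minpoly F y).natDegree = p := by
    rw [← hmin, Polynomial.natDegree_X_pow_sub_C]
  have hpow := linearIndependent_pow (K := F) y
  rw [Fintype.linearIndependent_iff] at hpow
  -- main argument
  intro g hg h0
  set G := optionEquivLeft E ι g with hG
  have hGred : ∀ j, G.coeff j ∈ restrictDegree ι E (p - 1) := by
    intro j
    rw [mem_restrictDegree]
    intro m hm i
    rw [mem_support_coeff_optionEquivLeft] at hm
    have := ((mem_restrictDegree _ _ _).1 hg) _ hm (some i)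
    rwa [Finsupp.optionElim_apply_some] at this
  have hGhigh : ∀ j, p ≤ j → G.coeff j = 0 := by
    intro j hj
    ext m
    rw [optionEquivLeft_coeff_coeff, coeff_zero]
    by_contra hne
    have hm : m.optionElim j ∈ g.support := mem_support_iff.2 hne
    have := ((mem_restrictDegree _ _ _).1 hg) _ hm none
    rw [Finsupp.optionElim_apply_none] at this
    have := hp.pos
    omega
  have hnat : G.natDegree < p := by
    have : G.natDegree ≤ p - 1 := by
      rw [Polynomial.natDegree_le_iff_coeff_eq_zero]
      intro N hN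
      exact hGhigh N (by have := hp.pos; omega)
    have := hp.pos
    omega
  have hcF : ∀ j, aeval x (G.coeff j) ∈ F := by
    intro j
    rw [← IntermediateField.mem_toSubalgebra, hF, Algebra.adjoin_range_eq_range_aeval]
    exact ⟨_, rfl⟩
  rw [aeval_optionElim, Polynomial.eval₂_eq_sum_range' _ hnat] at h0
  have hzero : ∀ j, j < p → aeval x (G.coeff j) = 0 := by
    have key := hpow (fun i : Fin (minpoly F y).natDegree =>
      (⟨aeval x (G.coeff (i : ℕ)), hcF _⟩ : F)) (by
        rw [Fin.sum_univ_eq_sum_range (fun j => (⟨aeval x (G.coeff j), hcF j⟩ : F) • y ^ j), hdeg,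
          ← h0]
        refine Finset.sum_congr rfl fun j _ => ?_
        rfl)
    intro j hj
    have := key ⟨j, by rw [hdeg]; exact hj⟩
    exact congrArg (fun z : F => (z : K)) this
  have hGzero : G = 0 := by
    apply Polynomial.ext
    intro j
    rw [Polynomial.coeff_zero]
    by_cases hj : j < p
    · exact hx _ (hGred j) (hzero j hj)
    · exact hGhigh j (not_lt.mp hj)
  exact (optionEquivLeft E ι).injective (hGzero.trans (map_zero _).symm)

end OptionStep

section Zorn

variable (E : Type u) {K : Type v} [Field E] [Field K] [Algebra E K] (p : ℕ) [Fact p.Prime]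
  [CharP K p]

/-- `p`-freeness of a subset -/
def PFreeSet (T : Set K) : Prop := PFree E p (Subtype.val : T → K)

variable {E}

lemma pfreeSet_sUnion {c : Set (Set K)} (hcS : ∀ t ∈ c, PFreeSet E p t)
    (hc : IsChain (· ⊆ ·) c) (hne : c.Nonempty) : PFreeSet E p (⋃₀ c) := by
  classical
  intro g hg h0
  have hfin : (Subtype.val '' (g.vars : Set ↥(⋃₀ c))).Finite := (Finset.finite_toSet _).image _
  have hsub : Subtype.val '' (g.vars : Set ↥(⋃₀ c)) ⊆ ⋃₀ c := by
    rintro _ ⟨v, _, rfl⟩
    exact v.2
  obtain ⟨t, ht, hVt⟩ := DirectedOn.exists_mem_subset_of_finite_of_subset_sUnion hne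
    hc.directedOn hfin hsub
  have hincl : t ⊆ ⋃₀ c := Set.subset_sUnion_of_mem ht
  have hfinj : Function.Injective (Set.inclusion hincl) := Set.inclusion_injective hincl
  have hvars : (g.vars : Set ↥(⋃₀ c)) ⊆ Set.range (Set.inclusion hincl) := by
    intro v hv
    exact ⟨⟨v.1, hVt ⟨v, hv, rfl⟩⟩, Subtype.ext rfl⟩
  obtain ⟨q, rfl⟩ := exists_rename_eq_of_vars_subset_range g _ hfinj hvars
  have hq : q ∈ restrictDegree ↥t E (p - 1) := (mem_restrictDegree_rename_iff hfinj _ q).1 hg
  have hq0 : aeval (Subtype.val : t → K) q = 0 := by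
    rw [aeval_rename] at h0
    exact h0
  rw [hcS t ht q hq hq0, map_zero]

/-- Every `p`-free subset of `U` extends to a maximal one inside `U`, which generates `U`. -/
theorem exists_pfreeSet_subset (hE : ∀ y : K, y ^ p ∈ Set.range (algebraMap E K))
    {T₀ U : Set K} (h₀ : PFreeSet E p T₀) (hU : T₀ ⊆ U) :
    ∃ T, T₀ ⊆ T ∧ T ⊆ U ∧ PFreeSet E p T ∧ U ⊆ Algebra.adjoin E T := by
  classical
  obtain ⟨T, hT₀, hTmax⟩ := zorn_subset_nonempty {T : Set K | T ⊆ U ∧ PFreeSet E p T}
    (fun c hcS hc hne => ⟨⋃₀ c, ⟨Set.sUnion_subset fun t ht => (hcS ht).1,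
      pfreeSet_sUnion p (fun t ht => (hcS ht).2) hc hne⟩,
      fun s hs => Set.subset_sUnion_of_mem hs⟩) T₀ ⟨hU, h₀⟩
  refine ⟨T, hT₀, hTmax.1.1, hTmax.1.2, ?_⟩
  intro y hyU
  by_contra hy
  have hyT : y ∉ T := fun h => hy (Algebra.subset_adjoin h)
  have hopt : PFree E p (fun o : Option ↥T => o.elim y Subtype.val) :=
    PFree.option_elim p hE hTmax.1.2 (by rwa [Subtype.range_coe])
  let f : ↥(insert y T) → Option ↥T := fun z => if h : z.1 ∈ T then some ⟨z.1, h⟩ else none
  have hf : Function.Injective f := by
    intro z w hzw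
    simp only [f] at hzw
    by_cases hz : z.1 ∈ T <;> by_cases hw : w.1 ∈ T
    · rw [dif_pos hz, dif_pos hw] at hzw
      have h3 : (⟨z.1, hz⟩ : ↥T) = ⟨w.1, hw⟩ := Option.some.inj hzw
      have h4 : z.1 = w.1 := congrArg (fun t : ↥T => (t : K)) h3
      exact Subtype.ext h4
    · rw [dif_pos hz, dif_neg hw] at hzw; cases hzw
    · rw [dif_neg hz, dif_pos hw] at hzw; cases hzw
    · have h1 : z.1 = y := (Set.mem_insert_iff.1 z.2).resolve_right hz
      have h2 : w.1 = y := (Set.mem_insert_iff.1 w.2).resolve_right hw
      exact Subtype.ext (h1.trans h2.symm)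
  have hcomp : (fun o : Option ↥T => o.elim y Subtype.val) ∘ f =
      (Subtype.val : ↥(insert y T) → K) := by
    funext z
    simp only [Function.comp_apply, f]
    by_cases hz : z.1 ∈ T
    · rw [dif_pos hz]; rfl
    · rw [dif_neg hz]
      exact ((Set.mem_insert_iff.1 z.2).resolve_right hz).symm
  have hins : PFreeSet E p (insert y T) := by
    have := hopt.comp_injective p hf
    rwa [hcomp] at this
  have := hTmax.2 ⟨Set.insert_subset hyU hTmax.1.1, hins⟩ (Set.subset_insert y T)
  exact hyT (this (Set.mem_insert y T))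

/-- Every `p`-free subset extends to a `p`-basis (as a subset). -/
theorem exists_pfreeSet_adjoin_eq_top (hE : ∀ y : K, y ^ p ∈ Set.range (algebraMap E K))
    {T₀ : Set K} (h₀ : PFreeSet E p T₀) :
    ∃ T, T₀ ⊆ T ∧ PFreeSet E p T ∧ Algebra.adjoin E T = ⊤ := by
  obtain ⟨T, h1, _, h3, h4⟩ := exists_pfreeSet_subset p hE h₀ (Set.subset_univ T₀)
  exact ⟨T, h1, h3, eq_top_iff.2 fun y _ => h4 (Set.mem_univ y)⟩

end Zorn

lemma natCast_eq_zero_of_algebra (E : Type u) (K : Type v) [Field E] [Field K] [Algebra E K]
    (p : ℕ) [CharP K p] : ((p : ℕ) : E) = 0 := by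
  apply (algebraMap E K).injective
  rw [map_natCast, map_zero]
  exact CharP.cast_eq_zero K p

section Main

variable {k : Type*} {E : Type u} {K : Type v} [CommRing k] [Field E] [Field K] [Algebra E K]
  [Algebra k E] [Algebra k K] [IsScalarTower k E K] (p : ℕ) [Fact p.Prime] [CharP K p]
  {ι : Type w}

lemma pfree_empty (x : ι → K) [IsEmpty ι] : PFree E p x := by
  intro g _ h0
  obtain ⟨c, rfl⟩ := C_surjective ι g
  rw [aeval_C] at h0
  rw [(algebraMap E K).injective (h0.trans (map_zero _).symm), map_zero]

lemma pfreeSet_empty : PFreeSet E p (∅ : Set K) := pfree_empty p _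

lemma PFree.injective {x : ι → K} (h : PFree E p x) : Function.Injective x := by
  classical
  have hp : p.Prime := Fact.out
  intro i j hij
  by_contra hne
  have hg : (X i - X j : MvPolynomial ι E) ∈ restrictDegree ι E (p - 1) := by
    refine Submodule.sub_mem _ ?_ ?_ <;>
    · rw [mem_restrictDegree]
      intro s hs l
      have := support_X (R := E) ▸ hs
      rw [Finset.mem_singleton] at this
      subst this
      rw [Finsupp.single_apply]
      have := hp.two_le
      split_ifs <;> omega
  have h0 : aeval x (X i - X j : MvPolynomial ι E) = 0 := by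
    rw [map_sub, aeval_X, aeval_X, hij, sub_self]
  have := h _ hg h0
  rw [sub_eq_zero] at this
  exact hne (X_injective this)

/-- dual derivations of a `p`-basis given as a subset -/
theorem exists_derivation_of_pfreeSet (hE : ∀ y : K, y ^ p ∈ Set.range (algebraMap E K))
    {T : Set K} (hT : PFreeSet E p T) (hgen : Algebra.adjoin E T = ⊤) {t : K} (ht : t ∈ T) :
    ∃ d : Derivation E K K, d t = 1 ∧ ∀ t' ∈ T, t' ≠ t → d t' = 0 := by
  classical
  obtain ⟨d, hd⟩ := exists_pderiv (R := E) (B := K) p (Subtype.val : T → K)
    (fun t => (hE t.1).choose) (natCast_eq_zero_of_algebra E K p)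
    (fun t => (hE t.1).choose_spec) ((pfree_iff_linearIndependent p _).1 hT)
    (by rwa [Subtype.range_coe]) ⟨t, ht⟩
  refine ⟨d, ?_, fun t' ht' hne => ?_⟩
  · have := hd ⟨t, ht⟩
    rwa [if_pos rfl] at this
  · have := hd ⟨t', ht'⟩
    rwa [if_neg (fun h => hne (congrArg Subtype.val h).symm)] at this

variable (hD : ∀ e : E, D k K (algebraMap E K e) = 0)

include hD in
lemma D_mem_span_of_mem_adjoin {M : Set K} {z : K} (hz : z ∈ Algebra.adjoin E M) :
    D k K z ∈ Submodule.span K (D k K '' M) := by
  induction hz using Algebra.adjoin_induction with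
  | mem z hz => exact Submodule.subset_span ⟨z, hz, rfl⟩
  | algebraMap r => rw [hD]; exact zero_mem _
  | add a c _ _ ha hc => rw [map_add]; exact add_mem ha hc
  | mul a c _ _ ha hc =>
    rw [Derivation.leibniz]
    exact add_mem (Submodule.smul_mem _ _ hc) (Submodule.smul_mem _ _ ha)

/-- (F1) `p`-free families have linearly independent differentials -/
theorem linearIndependent_D_of_pfree (hE : ∀ y : K, y ^ p ∈ Set.range (algebraMap E K))
    {x : ι → K} (hx : PFree E p x) : LinearIndependent K (fun i => D k K (x i)) := by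
  classical
  have hinj := hx.injective p
  have h₀ : PFreeSet E p (Set.range x) := by
    have hf : Function.Injective (fun t : ↥(Set.range x) => t.2.choose) := by
      intro t t' htt'
      apply Subtype.ext
      rw [← t.2.choose_spec, ← t'.2.choose_spec]
      exact congrArg x htt'
    have := hx.comp_injective p hf
    have hcomp : x ∘ (fun t : ↥(Set.range x) => t.2.choose) = Subtype.val := by
      funext t
      exact t.2.choose_spec
    rwa [hcomp] at this
  obtain ⟨T, hT₀, hT, hgen⟩ := exists_pfreeSet_adjoin_eq_top p hE h₀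
  rw [linearIndependent_iff']
  intro s c hsum α hα
  obtain ⟨d, hd1, hd0⟩ := exists_derivation_of_pfreeSet p hE hT hgen (hT₀ ⟨α, rfl⟩)
  have := congrArg (d.restrictScalars k).liftKaehlerDifferential hsum
  rw [map_sum, map_zero] at this
  simp only [map_smul, Derivation.liftKaehlerDifferential_comp_D,
    Derivation.restrictScalars_apply, smul_eq_mul] at this
  rw [Finset.sum_eq_single α] at this
  · rwa [hd1, mul_one] at this
  · intro β _ hβ
    rw [hd0 _ (hT₀ ⟨β, rfl⟩) (fun h => hβ (hinj h)), mul_zero]
  · intro h; exact absurd hα h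

/-- a single element outside `E` is `p`-free -/
lemma pfreeSet_singleton (hE : ∀ y : K, y ^ p ∈ Set.range (algebraMap E K)) {y : K}
    (hy : y ∉ Set.range (algebraMap E K)) : PFreeSet E p ({y} : Set K) := by
  have h1 : PFree E p (fun o : Option PEmpty.{1} => o.elim y (PEmpty.elim : PEmpty.{1} → K)) := by
    apply PFree.option_elim p hE (pfree_empty p _)
    rw [Set.range_eq_empty, Algebra.adjoin_empty]
    rintro ⟨a, ha⟩
    exact hy ⟨a, ha⟩
  have hf : Function.Injective (fun _ : ↥({y} : Set K) => (none : Option PEmpty.{1})) := by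
    intro a b _
    exact Subtype.ext (a.2.trans b.2.symm)
  have := h1.comp_injective p hf
  have hcomp : (fun o : Option PEmpty.{1} => o.elim y (PEmpty.elim : PEmpty.{1} → K)) ∘
      (fun _ : ↥({y} : Set K) => (none : Option PEmpty.{1})) = Subtype.val := by
    funext a
    exact a.2.symm
  rwa [hcomp] at this

/-- an element with vanishing differential lies in `E` -/
theorem mem_range_of_D_eq_zero (hE : ∀ y : K, y ^ p ∈ Set.range (algebraMap E K)) {a : K}
    (ha : D k K a = 0) : a ∈ Set.range (algebraMap E K) := by
  by_contra hne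
  have h1 := pfreeSet_singleton p hE hne
  have h2 := linearIndependent_D_of_pfree (k := k) p hE h1
  exact h2.ne_zero ⟨a, rfl⟩ ha

include hD in
/-- (F3) if the differentials span, the family generates -/
theorem adjoin_eq_top_of_span_D_eq_top (hE : ∀ y : K, y ^ p ∈ Set.range (algebraMap E K))
    {x : ι → K} (hspan : Submodule.span K (Set.range fun i => D k K (x i)) = ⊤) :
    Algebra.adjoin E (Set.range x) = ⊤ := by
  classical
  by_contra hne
  obtain ⟨y, hy⟩ : ∃ y, y ∉ Algebra.adjoin E (Set.range x) := by
    by_contra h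
    push Not at h
    exact hne (eq_top_iff.2 fun y _ => h y)
  set F := IntermediateField.adjoin E (Set.range x) with hFdef
  have hF : F.toSubalgebra = Algebra.adjoin E (Set.range x) :=
    IntermediateField.adjoin_toSubalgebra_of_isAlgebraic
      (fun z _ => isAlgebraic_of_pow_mem p hE z)
  have hyF : y ∉ F := by
    rw [← IntermediateField.mem_toSubalgebra, hF]
    exact hy
  have hEF : ∀ z : K, z ^ p ∈ Set.range (algebraMap F K) := by
    intro z
    obtain ⟨a, ha⟩ := hE z
    exact ⟨algebraMap E F a, by rw [← ha]; rfl⟩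
  have hy1 : PFreeSet F p ({y} : Set K) := by
    have h1 : PFree F p (fun o : Option PEmpty.{1} => o.elim y (PEmpty.elim : PEmpty.{1} → K)) := by
      apply PFree.option_elim p hEF (pfree_empty p _)
      rw [Set.range_eq_empty, Algebra.adjoin_empty]
      rintro ⟨a, ha⟩
      exact hyF (ha ▸ a.2)
    have hf : Function.Injective (fun _ : ↥({y} : Set K) => (none : Option PEmpty.{1})) := by
      intro a b _
      exact Subtype.ext (a.2.trans b.2.symm)
    have := h1.comp_injective p hf
    have hcomp : (fun o : Option PEmpty.{1} => o.elim y (PEmpty.elim : PEmpty.{1} → K)) ∘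
        (fun _ : ↥({y} : Set K) => (none : Option PEmpty.{1})) = Subtype.val := by
      funext a
      exact a.2.symm
    rwa [hcomp] at this
  obtain ⟨T, hT₀, hT, hgen⟩ := exists_pfreeSet_adjoin_eq_top p hEF hy1
  obtain ⟨d, hd1, _⟩ := exists_derivation_of_pfreeSet p hEF hT hgen (hT₀ rfl)
  haveI : IsScalarTower k F K := IsScalarTower.of_algebraMap_eq (fun _ => rfl)
  set L := (d.restrictScalars k).liftKaehlerDifferential with hL
  have hL0 : ∀ ω : Ω[K⁄k], L ω = 0 := by
    intro ω
    have hω : ω ∈ Submodule.span K (Set.range fun i => D k K (x i)) := by rw [hspan]; trivial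
    induction hω using Submodule.span_induction with
    | mem ω hω =>
      obtain ⟨i, rfl⟩ := hω
      change L (D k K (x i)) = 0
      rw [hL, Derivation.liftKaehlerDifferential_comp_D, Derivation.restrictScalars_apply]
      have hxi : x i ∈ F := IntermediateField.subset_adjoin E _ ⟨i, rfl⟩
      have : x i = algebraMap F K ⟨x i, hxi⟩ := rfl
      rw [this, Derivation.map_algebraMap]
    | zero => exact map_zero _
    | add a b _ _ ha hb => rw [map_add, ha, hb, add_zero]
    | smul c a _ ha => rw [map_smul, ha, smul_zero]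
  have h1 : L (D k K y) = 1 := by
    rw [hL, Derivation.liftKaehlerDifferential_comp_D, Derivation.restrictScalars_apply, hd1]
  rw [hL0] at h1
  exact zero_ne_one h1

include hD in
theorem pfree_of_linearIndependent_D (hE : ∀ y : K, y ^ p ∈ Set.range (algebraMap E K))
    {x : ι → K} (hli : LinearIndependent K (fun i => D k K (x i))) : PFree E p x := by
  classical
  have hinj : Function.Injective x := by
    intro i j hij
    exact hli.injective (by simp only [hij])
  obtain ⟨M, -, hMU, hM, hUM⟩ := exists_pfreeSet_subset p hE (pfreeSet_empty (E := E) p)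
    (Set.empty_subset (Set.range x))
  -- the family indexed by `U`
  have hliU : LinearIndependent K (fun u : ↥(Set.range x) => D k K u.1) := by
    have hf : Function.Injective (fun u : ↥(Set.range x) => u.2.choose) := by
      intro t t' htt'
      apply Subtype.ext
      rw [← t.2.choose_spec, ← t'.2.choose_spec]
      exact congrArg x htt'
    have := hli.comp _ hf
    have hcomp : (fun i => D k K (x i)) ∘ (fun u : ↥(Set.range x) => u.2.choose) =
        fun u : ↥(Set.range x) => D k K u.1 := by
      funext u
      simp only [Function.comp_apply]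
      rw [u.2.choose_spec]
    rwa [hcomp] at this
  have hMeq : Set.range x ⊆ M := by
    intro y hyU
    by_contra hyM
    have h1 := hliU.notMem_span_image (s := {u : ↥(Set.range x) | u.1 ∈ M}) (x := ⟨y, hyU⟩) hyM
    apply h1
    have h2 := D_mem_span_of_mem_adjoin hD (hUM hyU)
    refine Submodule.span_mono ?_ h2
    rintro _ ⟨m, hm, rfl⟩
    exact ⟨⟨m, hMU hm⟩, hm, rfl⟩
  have hUfree : PFreeSet E p (Set.range x) := by
    have : M = Set.range x := Set.Subset.antisymm hMU hMeq
    rwa [this] at hM
  have hf : Function.Injective (fun i => (⟨x i, ⟨i, rfl⟩⟩ : ↥(Set.range x))) := by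
    intro i j hij
    exact hinj (congrArg Subtype.val hij)
  have h3 := PFree.comp_injective p hUfree hf
  exact h3

end Main

end Groth.Agent.Lib.Helper7.PPow
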