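import Mathlib
import Groth.Prelude.Def_EGA41
import Groth.Agent.Lib.Helper7PField

set_option autoImplicit false
set_option linter.style.haveILetI false
set_option linter.unusedSectionVars false
open TensorProduct KaehlerDifferential MvPolynomial
universe u v w

namespace Groth.Agent.Lib.Helper7.PPow

section FieldInst

variable (p : ℕ) [Fact p.Prime] {k K : Type u} [CommRing k] [Field K] [Algebra k K] [CharP K p]

lemma isField_pPowerSubalgebra : IsField (EGA41.pPowerSubalgebra p k K) := by
  have hp : p.Prime := Fact.out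
  refine ⟨⟨0, 1, fun h => zero_ne_one (congrArg Subtype.val h)⟩, mul_comm, ?_⟩
  intro a ha
  have ha0 : (a : K) ≠ 0 := fun h => ha (Subtype.ext h)
  have hinv : (a : K)⁻¹ ∈ EGA41.pPowerSubalgebra p k K := by
    have h1 : (a : K)⁻¹ = ((a : K)⁻¹) ^ p * (a : K) ^ (p - 1) := by
      have h2 : (a : K) ^ p = a * (a : K) ^ (p - 1) := by
        rw [← pow_succ', Nat.sub_add_cancel hp.one_le]
      rw [inv_pow, h2, mul_inv, mul_assoc, inv_mul_cancel₀ (pow_ne_zero _ ha0), mul_one]
    rw [h1]
    exact mul_mem (pow_mem_pPowerSubalgebra p _) (pow_mem a.2 _)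
  exact ⟨⟨(a : K)⁻¹, hinv⟩, Subtype.ext (mul_inv_cancel₀ ha0)⟩

variable {ι : Type u} (x : ι → K)

theorem field_pbasis_main :
    (EGA41.IsPIndependent p k x ↔ LinearIndependent K (fun i => D k K (x i))) ∧
    (EGA41.IsPGenerating p k x ↔ Submodule.span K (Set.range fun i => D k K (x i)) = ⊤) := by
  letI : Field (EGA41.pPowerSubalgebra p k K) := (isField_pPowerSubalgebra p).toField
  have hE : ∀ y : K, y ^ p ∈ Set.range (algebraMap (EGA41.pPowerSubalgebra p k K) K) :=
    fun y => ⟨⟨y ^ p, pow_mem_pPowerSubalgebra p y⟩, rfl⟩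
  have hD : ∀ e : EGA41.pPowerSubalgebra p k K,
      D k K (algebraMap (EGA41.pPowerSubalgebra p k K) K e) = 0 :=
    fun e => D_eq_zero_of_mem_pPowerSubalgebra p e.2
  have hind : EGA41.IsPIndependent p k x ↔ PFree (EGA41.pPowerSubalgebra p k K) p x :=
    (pfree_iff_linearIndependent p x).symm
  refine ⟨?_, ?_⟩
  · rw [hind]
    exact ⟨fun h => linearIndependent_D_of_pfree p hE h,
      fun h => pfree_of_linearIndependent_D p hD hE h⟩
  · rw [← adjoin_eq_top_iff_isPGenerating]
    refine ⟨fun h => span_D_eq_top_of_isPGenerating p x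
      ((adjoin_eq_top_iff_isPGenerating p x).1 h), fun h => ?_⟩
    exact adjoin_eq_top_of_span_D_eq_top p hD hE h

theorem field_pbasis_iff :
    EGA41.IsPBasis p k x ↔ ∃ b : Module.Basis ι K (Ω[K⁄k]), ∀ i, b i = D k K (x i) := by
  constructor
  · exact exists_basis_D_of_isPBasis p x
  · rintro ⟨b, hb⟩
    have hfun : (fun i => D k K (x i)) = b := funext fun i => (hb i).symm
    refine ⟨(field_pbasis_main p x).1.2 ?_, (field_pbasis_main p x).2.2 ?_⟩
    · rw [hfun]; exact b.linearIndependent
    · rw [hfun]; exact b.span_eq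

end FieldInst

end Groth.Agent.Lib.Helper7.PPow
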