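import Mathlib
import Groth.Prelude.Def_EGA41
import Groth.Agent.Lib.Helper7PField2

set_option autoImplicit false
set_option linter.style.haveILetI false
set_option linter.unusedSectionVars false
open TensorProduct KaehlerDifferential
universe u v w

namespace Groth.Agent.Lib.Helper7.PPow

/-- In a field of char. `p`, an element whose differential over `k` vanishes lies in `k[K^p]`. -/
theorem mem_pPowerSubalgebra_of_D_eq_zero (p : ℕ) [Fact p.Prime] {k K : Type u} [CommRing k]
    [Field K] [Algebra k K] [CharP K p] {a : K} (ha : D k K a = 0) :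
    a ∈ EGA41.pPowerSubalgebra p k K := by
  letI : Field (EGA41.pPowerSubalgebra p k K) := (isField_pPowerSubalgebra p).toField
  have hE : ∀ y : K, y ^ p ∈ Set.range (algebraMap (EGA41.pPowerSubalgebra p k K) K) :=
    fun y => ⟨⟨y ^ p, pow_mem_pPowerSubalgebra p y⟩, rfl⟩
  obtain ⟨e, rfl⟩ := mem_range_of_D_eq_zero (k := k) p hE ha
  exact e.2

/-- the general form: vanishing differential over any base ring `k` whose image consists of `p`-th
powers forces a `p`-th power -/
theorem exists_pow_eq_of_D_eq_zero (p : ℕ) [Fact p.Prime] {k : Type v} {K : Type u} [CommRing k]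
    [Field K] [Algebra k K] [CharP K p] (hk : ∀ c : k, ∃ b : K, b ^ p = algebraMap k K c)
    {a : K} (ha : D k K a = 0) : ∃ b : K, b ^ p = a := by
  set E : Subfield K := (frobenius K p).fieldRange with hEdef
  letI : Algebra k E := RingHom.toAlgebra
    { toFun := fun c => ⟨algebraMap k K c, by
        obtain ⟨b, hb⟩ := hk c
        exact ⟨b, hb⟩⟩
      map_one' := Subtype.ext (map_one _)
      map_mul' := fun _ _ => Subtype.ext (map_mul _ _ _)
      map_zero' := Subtype.ext (map_zero _)
      map_add' := fun _ _ => Subtype.ext (map_add _ _ _) }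
  haveI : IsScalarTower k E K := IsScalarTower.of_algebraMap_eq fun _ => rfl
  have hE : ∀ y : K, y ^ p ∈ Set.range (algebraMap E K) :=
    fun y => ⟨⟨y ^ p, ⟨y, rfl⟩⟩, rfl⟩
  obtain ⟨e, rfl⟩ := mem_range_of_D_eq_zero (k := k) (E := E) p hE ha
  obtain ⟨b, hb⟩ := e.2
  exact ⟨b, hb⟩

end Groth.Agent.Lib.Helper7.PPow
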