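import Groth.Agent.Lib.Helper19PBasisPerfect
import Groth.Agent.Lib.Helper7PField3

/-!
# Existence of `p`-bases of fields; fields are formally smooth over perfect subrings (helper19)
-/

set_option autoImplicit false
set_option linter.style.haveILetI false
universe u

namespace Groth.Agent.Lib.Helper19.PBasis

open KaehlerDifferential Groth.Agent.Lib.Helper7.PPow

/-- every field of characteristic `p` has a `p`-basis over any base ring -/
theorem exists_isPBasis_field (p : ℕ) [Fact p.Prime] (k K : Type u) [CommRing k] [Field K]
    [Algebra k K] [CharP K p] : ∃ (ι : Type u) (x : ι → K), EGA41.IsPBasis p k x := by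
  have hs : Submodule.span K (Set.range (D k K)) = ⊤ := KaehlerDifferential.span_range_derivation k K
  obtain ⟨b, hbs, hspan, hli⟩ := exists_linearIndependent K (Set.range (D k K))
  have hx : ∀ i : b, ∃ y : K, D k K y = (i : Ω[K⁄k]) := fun i => hbs i.2
  choose x hx using hx
  refine ⟨b, x, (field_pbasis_iff p x).2 ⟨Module.Basis.mk hli ?_, fun i => ?_⟩⟩
  · rw [Subtype.range_coe, hspan, hs]
  · rw [Module.Basis.mk_apply, hx i]

/-- A field of characteristic `p` is formally smooth over any perfect ring of characteristic
`p`. -/
theorem formallySmooth_field_of_perfectRing (p : ℕ) [Fact p.Prime] (k K : Type u) [CommRing k]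
    [CharP k p] [PerfectRing k p] [Field K] [Algebra k K] [CharP K p] :
    Algebra.FormallySmooth k K := by
  obtain ⟨ι, x, hx⟩ := exists_isPBasis_field p k K
  exact formallySmooth_of_isPBasis_perfect p x hx

end Groth.Agent.Lib.Helper19.PBasis
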