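import Groth.Agent.Lib.Helper19GRDer
import Groth.Agent.Lib.Helper19GRRootMap
import Groth.Agent.Lib.Helper19GRSplit
import Groth.Agent.Lib.Helper19GRLift
import Groth.Agent.Lib.Helper19FSGeomReg
import Groth.Agent.Lib.Helper19PBasisField

/-!
# Geometric regularity implies formal smoothness over a field of characteristic `p`
(EGA 0_IV 22.5.8, Matsumura 28.7) (helper19)
-/

set_option autoImplicit false
set_option linter.style.haveILetI false
set_option linter.unusedSectionVars false
universe u

namespace Groth.Agent.Lib.Helper19.GR

open IsLocalRing TensorProduct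

section main

variable {F k A : Type u} [Field F] [Field k] [CommRing A] [IsLocalRing A] [IsNoetherianRing A]
  [Algebra F k] [Algebra k A] [Algebra F A] [IsScalarTower F k A] (p : ℕ) [Fact p.Prime]
  [CharP k p]

/-- linear independence of the differentials of a `p`-independent family -/
theorem linearIndependent_D_of_regular
    (hF : ∀ (B : Type u) [CommRing B] [IsLocalRing B] [IsNoetherianRing B] [Algebra F B],
      IsRegularLocalRing B → CAlgX.IsAdicFormallySmooth F B (maximalIdeal B))
    (hreg : ∀ (k' : Type u) [Field k'] [Algebra k k'], Module.Finite k k' →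
        (∀ x : k', x ^ p ∈ (algebraMap k k').range) → IsRegularRing (k' ⊗[k] A))
    {ι : Type u} (x : ι → k) (hx : EGA41.IsPIndependent p F x) :
    LinearIndependent (ResidueField A)
      (fun i => (1 : ResidueField A) ⊗ₜ[A] KaehlerDifferential.D F A (algebraMap k A (x i))) := by
  classical
  rw [linearIndependent_iff']
  intro s g hg i₀ hi₀
  have hfield := isField_rootRing (p := p) (x := x) (S := s) F hx
  haveI : Nontrivial (RootRing p x s) := hfield.nontrivial
  haveI : Module.Finite k (RootRing p x s) := finite_rootRing p x s
  have hregR : IsRegularRing (A ⊗[k] RootRing p x s) := by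
    letI := hfield.toField
    haveI : IsRegularRing (RootRing p x s ⊗[k] A) :=
      hreg (RootRing p x s) inferInstance (pow_mem_range_rootRing p x s)
    exact IsRegularRing.of_ringEquiv
      (Algebra.TensorProduct.comm k (RootRing p x s) A).toRingEquiv
  have hg' : ∑ i ∈ s.attach, g i • ((1 : ResidueField A) ⊗ₜ[A]
      KaehlerDifferential.D F A (algebraMap k A (x i))) = 0 := by
    rw [Finset.sum_attach s (fun i => g i • ((1 : ResidueField A) ⊗ₜ[A]
      KaehlerDifferential.D F A (algebraMap k A (x i))))]
    exact hg
  exact coeff_eq_zero_of_sum_eq_zero (F := F) p hF (RootRing p x s) hregR s.attach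
    (fun i : s => x i) (rootY p x s) (rootY_pow p x s) ⟨i₀, hi₀⟩ (Finset.mem_attach _ _)
    (fun L _ _ π => exists_rootRing_lift p x s L π _) (fun i : s => g i) hg'

/-- geometric regularity (for finite purely inseparable extensions of exponent one) implies
formal smoothness, relative to a base field `F` over which regular local rings are formally
smooth -/
theorem isAdicFormallySmooth_of_regular_aux
    (hF : ∀ (B : Type u) [CommRing B] [IsLocalRing B] [IsNoetherianRing B] [Algebra F B],
      IsRegularLocalRing B → CAlgX.IsAdicFormallySmooth F B (maximalIdeal B))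
    (hreg : ∀ (k' : Type u) [Field k'] [Algebra k k'], Module.Finite k k' →
        (∀ x : k', x ^ p ∈ (algebraMap k k').range) → IsRegularRing (k' ⊗[k] A)) :
    CAlgX.IsAdicFormallySmooth k A (maximalIdeal A) := by
  haveI : IsRegularRing A := by
    haveI : IsRegularRing (k ⊗[k] A) := hreg k inferInstance (fun x => ⟨x ^ p, rfl⟩)
    exact IsRegularRing.of_ringEquiv (Algebra.TensorProduct.lid k A).toRingEquiv
  have hAreg : IsRegularLocalRing A := IsRegularLocalRing.of_isRegularRing_of_isLocalRing A
  have hAF := hF A hAreg
  obtain ⟨ι, x, hx⟩ := PBasis.exists_isPBasis_field p F k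
  have hli := linearIndependent_D_of_regular p hF hreg x hx.1
  have hfs : EGA41.IsFormallySmoothAdic F ⊥ A (maximalIdeal A) :=
    (isAdicFormallySmooth_iff_isFormallySmoothAdic_bot _).1 hAF
  exact isAdicFormallySmooth_of_dual_derivations p hAF x hx.2
    (fun ν => exists_derivation_finsupp_of_linearIndependent hfs
      (fun i => algebraMap k A (x i)) hli ν)

end main

section concrete

open Groth.Agent.Lib.Helper19.FSLocalField

/-- **EGA 0_IV 22.5.8 / Matsumura 28.7** (hard direction, characteristic `p`): if `k' ⊗_k A` is
regular for every finite extension `k'` of `k` with `k'^p ⊆ k`, then `A` is formally smooth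
over `k`. -/
theorem isAdicFormallySmooth_of_regular {k A : Type u} [Field k] [CommRing A] [IsLocalRing A]
    [IsNoetherianRing A] [Algebra k A] (p : ℕ) [Fact p.Prime] [CharP k p]
    (hreg : ∀ (k' : Type u) [Field k'] [Algebra k k'], Module.Finite k k' →
        (∀ x : k', x ^ p ∈ (algebraMap k k').range) → IsRegularRing (k' ⊗[k] A)) :
    CAlgX.IsAdicFormallySmooth k A (maximalIdeal A) := by
  letI : Algebra (ZMod p) k := ZMod.algebra k p
  letI : Algebra (ULift.{u} (ZMod p)) k := ULift.algebra' (ZMod p) k
  letI : Algebra (ULift.{u} (ZMod p)) A :=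
    ((algebraMap k A).comp (algebraMap (ULift.{u} (ZMod p)) k)).toAlgebra
  haveI : IsScalarTower (ULift.{u} (ZMod p)) k A := IsScalarTower.of_algebraMap_eq (fun _ => rfl)
  refine isAdicFormallySmooth_of_regular_aux (F := ULift.{u} (ZMod p)) p ?_ hreg
  intro B _ _ _ _ hB
  haveI : CharP (ResidueField B) p :=
    charP_of_injective_algebraMap (algebraMap (ULift.{u} (ZMod p)) (ResidueField B)).injective p
  haveI : Algebra.FormallySmooth (ULift.{u} (ZMod p)) (ResidueField B) :=
    PBasis.formallySmooth_field_of_perfectRing p (ULift.{u} (ZMod p)) (ResidueField B)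
  haveI : Algebra.IsGeometricallyReduced (ULift.{u} (ZMod p)) (ResidueField B) :=
    PBasis.formallySmooth_field_iff.1 inferInstance
  exact ((tfae_formallySmoothAdic_local_algebra_over_field (k := ULift.{u} (ZMod p))
    (A := B)).out 0 3).2 hB

end concrete

end Groth.Agent.Lib.Helper19.GR
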