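import Groth.Agent.Lib.Helper19FSAdicLift

/-!
# Uniqueness of formally smooth flat complete algebras with given reduction
(EGA 0_IV 19.7.1.5) (helper19)
-/

set_option autoImplicit false
universe u

namespace Groth.Agent.Lib.Helper19

open Ideal

/-- For a surjection `f : M → N` onto a flat module, `ker f ∩ I M = I ker f`. -/
theorem ker_inf_smul_top_le_smul_ker {R M N : Type*} [CommRing R] [AddCommGroup M] [Module R M]
    [AddCommGroup N] [Module R N] [Module.Flat R N] (f : M →ₗ[R] N) (hf : Function.Surjective f)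
    (I : Ideal R) : LinearMap.ker f ⊓ (I • ⊤ : Submodule R M) ≤ I • LinearMap.ker f := by
  rintro x ⟨hx1, hx2⟩
  have hx2' : x ∈ I • Submodule.span R (Set.range (fun m : M => m)) := by
    simpa using hx2
  obtain ⟨a, ha, hsum⟩ :=
    (Submodule.mem_ideal_smul_span_iff_exists_sum I (fun m : M => m) x).mp hx2'
  have hx : x = ∑ i : a.support, a i • (i : M) := by
    rw [← hsum, Finsupp.sum, ← Finset.sum_coe_sort]
  have h0 : ∑ i : a.support, a i • f (i : M) = 0 := by
    rw [← LinearMap.mem_ker.mp hx1, hx, map_sum]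
    simp
  obtain ⟨k, c, y, hy, hc⟩ := Module.Flat.isTrivialRelation_of_sum_smul_eq_zero h0
  choose z hz using fun j => hf (y j)
  have hker : ∀ i : a.support, (i : M) - ∑ j, c i j • z j ∈ LinearMap.ker f := fun i => by
    have hyi : f (i : M) = ∑ j, c i j • y j := hy i
    rw [LinearMap.mem_ker, map_sub, map_sum, hyi]
    simp [hz]
  have hx' : x = ∑ i : a.support, a i • ((i : M) - ∑ j, c i j • z j) := by
    rw [hx]
    simp only [smul_sub, Finset.sum_sub_distrib]
    have : ∑ i : a.support, a i • ∑ j, c i j • z j = 0 := by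
      simp only [Finset.smul_sum, smul_smul]
      rw [Finset.sum_comm]
      simp only [← Finset.sum_smul, hc, zero_smul, Finset.sum_const_zero]
    rw [this, sub_zero]
  rw [hx']
  exact Submodule.sum_mem _ fun i _ => Submodule.smul_mem_smul (ha i) (hker i)

/-- A surjection `f : M → N` onto a flat module which is injective modulo `I` has kernel contained
in `I ^ n M` for all `n`. -/
theorem ker_le_pow_smul_top_of_flat {R M N : Type*} [CommRing R] [AddCommGroup M] [Module R M]
    [AddCommGroup N] [Module R N] [Module.Flat R N] (f : M →ₗ[R] N) (hf : Function.Surjective f)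
    (I : Ideal R) (h1 : LinearMap.ker f ≤ (I • ⊤ : Submodule R M)) (n : ℕ) :
    LinearMap.ker f ≤ (I ^ n • ⊤ : Submodule R M) := by
  induction n with
  | zero => simp
  | succ n ih =>
    calc LinearMap.ker f ≤ LinearMap.ker f ⊓ (I ^ n • ⊤ : Submodule R M) := le_inf le_rfl ih
      _ ≤ I ^ n • LinearMap.ker f := ker_inf_smul_top_le_smul_ker f hf (I ^ n)
      _ ≤ I ^ n • (I • ⊤ : Submodule R M) := Submodule.smul_mono le_rfl h1
      _ = I ^ (n + 1) • ⊤ := by rw [← Submodule.mul_smul, ← pow_succ]

theorem isHausdorff_bot (R M : Type*) [CommRing R] [AddCommGroup M] [Module R M] :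
    IsHausdorff (⊥ : Ideal R) M := by
  refine ⟨fun x hx => ?_⟩
  have := hx 1
  rw [pow_one, Submodule.bot_smul, SModEq.zero, Submodule.mem_bot] at this
  exact this

/-- EGA 0_IV 19.7.1.5 (without the superfluous Noetherian local hypotheses). -/
theorem exists_algEquiv_of_formallySmoothAdic_of_flat {A B B' : Type u} [CommRing A] (J : Ideal A)
    [CommRing B] [Algebra A B] [CommRing B'] [Algebra A B']
    [IsAdicComplete (J.map (algebraMap A B)) B] [IsAdicComplete (J.map (algebraMap A B')) B']
    (hfs : EGA41.IsFormallySmoothAdic A J B (J.map (algebraMap A B))) [Module.Flat A B']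
    (u₀ : (B ⧸ J.map (algebraMap A B)) ≃ₐ[A ⧸ J] (B' ⧸ J.map (algebraMap A B'))) :
    ∃ u : B ≃ₐ[A] B', ∀ b : B,
      Ideal.Quotient.mk (J.map (algebraMap A B')) (u b) =
        u₀ (Ideal.Quotient.mk (J.map (algebraMap A B)) b) := by
  let w : B →ₐ[A] B' ⧸ J.map (algebraMap A B') :=
    { (u₀ : (B ⧸ J.map (algebraMap A B)) →+* (B' ⧸ J.map (algebraMap A B'))).comp
        (Ideal.Quotient.mk (J.map (algebraMap A B))) with
      commutes' := fun a => by
        change u₀ (algebraMap (A ⧸ J) (B ⧸ J.map (algebraMap A B)) (Ideal.Quotient.mk J a)) = _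
        rw [u₀.commutes]
        rfl }
  have hw : ∀ b, w b = u₀ (Ideal.Quotient.mk (J.map (algebraMap A B)) b) := fun b => rfl
  haveI : IsHausdorff ((J.map (algebraMap A B')).map (Ideal.Quotient.mk (J.map (algebraMap A B'))))
      (B' ⧸ J.map (algebraMap A B')) := by
    rw [Ideal.map_quotient_self]
    exact isHausdorff_bot _ _
  obtain ⟨v, -, hv⟩ := exists_lift_to_adicComplete J (J.map (algebraMap A B))
    (J.map (algebraMap A B')) (J.map (algebraMap A B')) hfs ⟨1, by rw [pow_one]⟩
    ⟨1, by rw [pow_one]⟩ w ⟨1, by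
      rw [pow_one, Ideal.map_le_iff_le_comap]
      intro x hx
      rw [Ideal.mem_comap]
      change w x ∈ _
      rw [hw, Ideal.Quotient.eq_zero_iff_mem.mpr hx, map_zero]
      exact Ideal.zero_mem _⟩
  have hvb : ∀ b, Ideal.Quotient.mk (J.map (algebraMap A B')) (v b) =
      u₀ (Ideal.Quotient.mk (J.map (algebraMap A B)) b) := fun b => by
    have := congrArg (fun f => f b) hv
    simpa [hw] using this
  have heq : (J.map (algebraMap A B)).map v.toRingHom = J.map (algebraMap A B') := by
    rw [Ideal.map_map]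
    congr 1
    exact v.comp_algebraMap
  have hsurj : Function.Surjective v := by
    haveI : IsHausdorff ((J.map (algebraMap A B)).map v.toRingHom) B' := by
      rw [heq]; infer_instance
    apply surjective_of_mk_map_comp_surjective (I := J.map (algebraMap A B)) v.toRingHom
    intro y
    obtain ⟨y', rfl⟩ := Ideal.Quotient.mk_surjective y
    obtain ⟨b0, hb0⟩ := u₀.surjective (Ideal.Quotient.mk _ y')
    obtain ⟨b, rfl⟩ := Ideal.Quotient.mk_surjective b0
    refine ⟨b, ?_⟩
    rw [← hvb, Ideal.Quotient.eq] at hb0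
    change Ideal.Quotient.mk _ (v b) = Ideal.Quotient.mk _ y'
    rw [Ideal.Quotient.eq, heq]
    exact hb0
  have hinj : Function.Injective v := by
    rw [injective_iff_map_eq_zero]
    intro x hx
    have hker1 : LinearMap.ker v.toLinearMap ≤ (J • ⊤ : Submodule A B) := by
      intro z hz
      rw [Ideal.smul_top_eq_map, Submodule.restrictScalars_mem, ← Ideal.Quotient.eq_zero_iff_mem]
      apply u₀.injective
      rw [← hvb, map_zero]
      have : v z = 0 := hz
      rw [this, map_zero]
    have hxk : x ∈ LinearMap.ker v.toLinearMap := hx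
    apply IsHausdorff.haus' (I := J.map (algebraMap A B))
    intro n
    rw [SModEq.zero, smul_eq_mul, Ideal.mul_top, ← Ideal.map_pow]
    have h2 := ker_le_pow_smul_top_of_flat v.toLinearMap hsurj J hker1 n hxk
    rw [Ideal.smul_top_eq_map, Submodule.restrictScalars_mem] at h2
    exact h2
  refine ⟨AlgEquiv.ofBijective v ⟨hinj, hsurj⟩, fun b => ?_⟩
  exact hvb b

end Groth.Agent.Lib.Helper19
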