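import Groth.Agent.Lib.Helper19FSAdicLift

/-!
# Lifting to complete Noetherian local rings; formal smoothness and completion
(EGA 0_IV 19.3.6, 19.3.11) (helper19)
-/

set_option autoImplicit false
universe u

namespace Groth.Agent.Lib.Helper19

open Ideal IsLocalRing

/-- EGA 0_IV 19.3.11: lifting along a quotient of a complete Noetherian local ring. -/
theorem exists_lift_to_complete_local {A B C : Type u} [CommRing A] (𝔞 : Ideal A) [CommRing B]
    [Algebra A B] (𝔟 : Ideal B) (hB : EGA41.IsFormallySmoothAdic A 𝔞 B 𝔟)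
    [CommRing C] [IsLocalRing C] [IsNoetherianRing C] [IsAdicComplete (maximalIdeal C) C]
    [Algebra A C] (hA : 𝔞.map (algebraMap A C) ≤ maximalIdeal C) (J : Ideal C) (hJ : J ≠ ⊤)
    (u : B →ₐ[A] C ⧸ J) (hu : 𝔟.map u.toRingHom ≤ (maximalIdeal C).map (Ideal.Quotient.mk J)) :
    ∃ v : B →ₐ[A] C, 𝔟.map v.toRingHom ≤ maximalIdeal C ∧
      (Ideal.Quotient.mkₐ A J).comp v = u := by
  have hJm : J ≤ maximalIdeal C := le_maximalIdeal hJ
  haveI : Nontrivial (C ⧸ J) := Ideal.Quotient.nontrivial_iff.mpr hJ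
  haveI : IsLocalRing (C ⧸ J) :=
    IsLocalRing.of_surjective' (Ideal.Quotient.mk J) Ideal.Quotient.mk_surjective
  have hne : (maximalIdeal C).map (Ideal.Quotient.mk J) ≠ ⊤ := by
    intro h
    have h1 : (1 : C ⧸ J) ∈ (maximalIdeal C).map (Ideal.Quotient.mk J) := by
      rw [h]; trivial
    obtain ⟨c, hc, hc1⟩ :=
      Ideal.mem_image_of_mem_map_of_surjective _ Ideal.Quotient.mk_surjective h1
    have h2 : c - 1 ∈ J := by
      rw [← Ideal.Quotient.eq, hc1, map_one]
    have h3 : (1 : C) ∈ maximalIdeal C := by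
      have : (1 : C) = c - (c - 1) := by ring
      rw [this]
      exact Ideal.sub_mem _ hc (hJm h2)
    exact (Ideal.ne_top_iff_one _).mp (IsLocalRing.maximalIdeal.isMaximal C).ne_top h3
  haveI : IsHausdorff ((maximalIdeal C).map (Ideal.Quotient.mk J)) (C ⧸ J) :=
    IsHausdorff.of_isLocalRing _ _ hne
  obtain ⟨v, -, hv⟩ := exists_lift_to_adicComplete 𝔞 𝔟 (maximalIdeal C) J hB
    ⟨1, by rw [pow_one]; exact hA⟩ ⟨1, by rw [pow_one]; exact hJm⟩ u
    ⟨1, by rw [pow_one]; exact hu⟩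
  refine ⟨v, ?_, hv⟩
  rw [Ideal.map_le_iff_le_comap]
  intro x hx
  rw [Ideal.mem_comap]
  have h1 : u x ∈ (maximalIdeal C).map (Ideal.Quotient.mk J) := hu (Ideal.mem_map_of_mem _ hx)
  obtain ⟨c, hc, hc1⟩ :=
    Ideal.mem_image_of_mem_map_of_surjective _ Ideal.Quotient.mk_surjective h1
  have h2 : Ideal.Quotient.mk J (v x) = u x := by
    have := congrArg (fun f => f x) hv
    simpa using this
  have h3 : v x - c ∈ J := by
    rw [← Ideal.Quotient.eq, h2]
    exact hc1.symm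
  have : v x = c + (v x - c) := by ring
  change v x ∈ maximalIdeal C
  rw [this]
  exact Ideal.add_mem _ hc (hJm h3)

/-- For a finitely generated ideal, the kernel of `evalₐ I n` is `I ^ n` extended. -/
theorem mem_map_pow_of_evalₐ_eq_zero {R : Type*} [CommRing R] (I : Ideal R) (fg : I.FG) (n : ℕ)
    (x : AdicCompletion I R) (hx : AdicCompletion.evalₐ I n x = 0) :
    x ∈ (I ^ n).map (algebraMap R (AdicCompletion I R)) := by
  have h1 : x ∈ LinearMap.ker (AdicCompletion.eval I R n) := by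
    rw [LinearMap.mem_ker]
    have hle : (I ^ n • ⊤ : Ideal R) ≤ I ^ n := by simp
    have h2 := AdicCompletion.factor_eval_eq_evalₐ I x hle
    rw [hx] at h2
    obtain ⟨r, hr⟩ := Submodule.Quotient.mk_surjective _ (AdicCompletion.eval I R n x)
    rw [← hr] at h2 ⊢
    have h3 : r ∈ I ^ n := by
      have : Ideal.Quotient.mk (I ^ n) r = 0 := h2
      exact Ideal.Quotient.eq_zero_iff_mem.mp this
    rw [Submodule.Quotient.mk_eq_zero]
    simpa using h3
  rw [← AdicCompletion.pow_smul_top_eq_ker_eval fg, Ideal.smul_top_eq_map] at h1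
  exact h1

/-- EGA 0_IV 19.3.6: formal smoothness can be tested on the completion. -/
theorem isFormallySmoothAdic_iff_adicCompletion {A B : Type u} [CommRing A] (𝔞 : Ideal A)
    [CommRing B] [IsNoetherianRing B] [Algebra A B] (𝔟 : Ideal B) :
    EGA41.IsFormallySmoothAdic A 𝔞 B 𝔟 ↔
      EGA41.IsFormallySmoothAdic A 𝔞 (AdicCompletion 𝔟 B)
        (𝔟.map (algebraMap B (AdicCompletion 𝔟 B))) := by
  let ι : B →ₐ[A] AdicCompletion 𝔟 B := IsScalarTower.toAlgHom A B (AdicCompletion 𝔟 B)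
  have hι : ∀ b, ι b = AdicCompletion.of 𝔟 B b := fun b => rfl
  have hιmem : ∀ k b, b ∈ 𝔟 ^ k → ι b ∈ (𝔟.map (algebraMap B (AdicCompletion 𝔟 B))) ^ k := by
    intro k b hb
    rw [← Ideal.map_pow]
    exact Ideal.mem_map_of_mem _ hb
  constructor
  · intro H C _ _ J hJ h𝔞 u hu
    obtain ⟨k, hk⟩ := hu
    obtain ⟨v, hv⟩ := H C J hJ h𝔞 (u.comp ι) ⟨k, fun x hx => by
      rw [AlgHom.comp_apply]
      exact hk _ (hιmem k x hx)⟩
    have hvmk : ∀ b, Ideal.Quotient.mk J (v b) = u (ι b) := fun b => by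
      have := congrArg (fun f => f b) hv
      simpa using this
    obtain ⟨m, hm⟩ := exists_pow_map_eq_zero_of_lift 𝔟 J hJ v k (fun x hx => by
      rw [hvmk]; exact hk _ (hιmem k x hx))
    let M := max m k
    have hM : ∀ x ∈ 𝔟 ^ M, v x = 0 := fun x hx =>
      hm x (Ideal.pow_le_pow_right (le_max_left m k) hx)
    let vbar : B ⧸ 𝔟 ^ M →ₐ[A] C := Ideal.Quotient.liftₐ (𝔟 ^ M) v hM
    let vhat : AdicCompletion 𝔟 B →ₐ[A] C :=
      vbar.comp ((AdicCompletion.evalₐ 𝔟 M).restrictScalars A)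
    refine ⟨vhat, ?_⟩
    ext x
    obtain ⟨b, hb⟩ := Ideal.Quotient.mk_surjective (AdicCompletion.evalₐ 𝔟 M x)
    have h1 : AdicCompletion.evalₐ 𝔟 M (x - ι b) = 0 := by
      rw [map_sub, hι, AdicCompletion.evalₐ_of, hb, sub_self]
    have h2 : x - ι b ∈ (𝔟.map (algebraMap B (AdicCompletion 𝔟 B))) ^ k := by
      have h3 := mem_map_pow_of_evalₐ_eq_zero 𝔟 (IsNoetherian.noetherian 𝔟) M _ h1
      rw [Ideal.map_pow] at h3
      exact Ideal.pow_le_pow_right (le_max_right m k) h3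
    have h4 : u x = u (ι b) := by
      have := hk _ h2
      rw [map_sub, sub_eq_zero] at this
      exact this
    change Ideal.Quotient.mk J (vbar (AdicCompletion.evalₐ 𝔟 M x)) = u x
    rw [← hb, h4, ← hvmk]
    rfl
  · intro H C _ _ J hJ h𝔞 u hu
    obtain ⟨k, hk⟩ := hu
    let ubar : B ⧸ 𝔟 ^ k →ₐ[A] C ⧸ J := Ideal.Quotient.liftₐ (𝔟 ^ k) u hk
    let uhat : AdicCompletion 𝔟 B →ₐ[A] C ⧸ J :=
      ubar.comp ((AdicCompletion.evalₐ 𝔟 k).restrictScalars A)
    have huhat : ∀ b, uhat (ι b) = u b := fun b => by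
      change ubar (AdicCompletion.evalₐ 𝔟 k (ι b)) = u b
      rw [hι, AdicCompletion.evalₐ_of]
      rfl
    obtain ⟨v, hv⟩ := H C J hJ h𝔞 uhat ⟨k, fun x hx => by
      have hle : (𝔟.map (algebraMap B (AdicCompletion 𝔟 B))) ^ k ≤ RingHom.ker uhat.toRingHom := by
        rw [← Ideal.map_pow, Ideal.map_le_iff_le_comap]
        intro b hb
        rw [Ideal.mem_comap, RingHom.mem_ker]
        change uhat (ι b) = 0
        rw [huhat]
        exact hk b hb
      exact hle hx⟩
    refine ⟨v.comp ι, ?_⟩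
    ext b
    have := congrArg (fun f => f (ι b)) hv
    simp only [AlgHom.comp_apply] at this ⊢
    rw [this, huhat]

end Groth.Agent.Lib.Helper19
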