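import Groth.Agent.Lib.Helper19FSField
import Groth.Agent.Lib.Helper19FSAdicEquiv
import Groth.Agent.Lib.Helper19FSAdicLocal

/-!
# Coefficient fields of complete local rings (EGA 0_IV 19.6.2, 19.8) (helper19)
-/

set_option autoImplicit false
set_option linter.style.haveILetI false
set_option linter.unusedSectionVars false
universe u

namespace Groth.Agent.Lib.Helper19

open IsLocalRing

/-- discrete formal smoothness implies formal smoothness for any adic topologies -/
theorem isFormallySmoothAdic_of_formallySmooth {A B : Type u} [CommRing A] [CommRing B]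
    [Algebra A B] [Algebra.FormallySmooth A B] (𝔞 : Ideal A) (𝔟 : Ideal B) :
    EGA41.IsFormallySmoothAdic A 𝔞 B 𝔟 :=
  fun _ _ _ J hJ _ u _ => Algebra.FormallySmooth.exists_lift J hJ u

/-- EGA 0_IV 19.6.2 (S2452): existence of a coefficient field containing `k`. -/
theorem exists_coefficientField {k A : Type u} [Field k] [CommRing A] [IsLocalRing A]
    [Algebra k A] [IsAdicComplete (maximalIdeal A) A]
    [Algebra.IsGeometricallyReduced k (ResidueField A)] :
    ∃ σ : ResidueField A →ₐ[k] A, ∀ x : ResidueField A, residue A (σ x) = x := by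
  haveI : Algebra.FormallySmooth k (ResidueField A) :=
    PBasis.formallySmooth_of_isGeometricallyReduced
  have hfs : EGA41.IsFormallySmoothAdic k ⊥ (ResidueField A) ⊥ :=
    isFormallySmoothAdic_of_formallySmooth _ _
  haveI : IsHausdorff ((maximalIdeal A).map (Ideal.Quotient.mk (maximalIdeal A)))
      (A ⧸ maximalIdeal A) := by
    rw [Ideal.map_quotient_self]
    exact isHausdorff_bot _ _
  let u : ResidueField A →ₐ[k] A ⧸ maximalIdeal A := AlgHom.id k _
  obtain ⟨v, -, hv⟩ := exists_lift_to_adicComplete (⊥ : Ideal k) (⊥ : Ideal (ResidueField A))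
    (maximalIdeal A) (maximalIdeal A) hfs ⟨1, by simp⟩ ⟨1, by rw [pow_one]⟩ u ⟨1, by simp⟩
  exact ⟨v, fun x => congrArg (fun g : ResidueField A →ₐ[k] A ⧸ maximalIdeal A => g x) hv⟩

end Groth.Agent.Lib.Helper19

namespace Groth.Agent.Lib.Helper19

open IsLocalRing

universe v

/-- sections of a surjection with nilpotent kernel onto a formally smooth extension field -/
theorem exists_section_of_formallySmooth {K : Type v} {K' A' : Type u} [CommRing K] [CommRing K']
    [Algebra K K'] [Algebra.FormallySmooth K K'] [CommRing A'] (ψ : K →+* A') (π : A' →+* K')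
    (hπ : Function.Surjective π) (hnil : IsNilpotent (RingHom.ker π))
    (hc : ∀ r, π (ψ r) = algebraMap K K' r) :
    ∃ σ' : K' →+* A', π.comp σ' = RingHom.id _ ∧ σ'.comp (algebraMap K K') = ψ := by
  letI : Algebra K A' := ψ.toAlgebra
  let π' : A' →ₐ[K] K' := { π with commutes' := hc }
  have hnil' : IsNilpotent (RingHom.ker (π' : A' →+* K')) := hnil
  let s := Algebra.FormallySmooth.liftOfSurjective (AlgHom.id K K') π' hπ hnil'
  have hs : π'.comp s = AlgHom.id K K' := Algebra.FormallySmooth.comp_liftOfSurjective _ _ hπ hnil'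
  refine ⟨s, RingHom.ext fun x => ?_, RingHom.ext fun r => ?_⟩
  · exact congrArg (fun g : K' →ₐ[K] K' => g x) hs
  · exact s.commutes r

/-- S7150: residue field sections for local rings of characteristic `p` with nilpotent maximal
ideal, compatibly along separable residue extensions. -/
theorem exists_residueField_section (p : ℕ) (hp : p.Prime) (A : Type u) [CommRing A]
    [IsLocalRing A] [CharP A p] (hnil : ∃ n : ℕ, IsLocalRing.maximalIdeal A ^ n = ⊥) :
    (∃ σ : IsLocalRing.ResidueField A →+* A, (IsLocalRing.residue A).comp σ = RingHom.id _) ∧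
    ∀ (A' : Type u) [CommRing A'] [IsLocalRing A'] [Algebra A A'] [IsLocalHom (algebraMap A A')],
      (∃ n : ℕ, IsLocalRing.maximalIdeal A' ^ n = ⊥) →
      Algebra.IsGeometricallyReduced (IsLocalRing.ResidueField A) (IsLocalRing.ResidueField A') →
      ∀ σ : IsLocalRing.ResidueField A →+* A, (IsLocalRing.residue A).comp σ = RingHom.id _ →
        ∃ σ' : IsLocalRing.ResidueField A' →+* A',
          (IsLocalRing.residue A').comp σ' = RingHom.id _ ∧
          σ'.comp (IsLocalRing.ResidueField.map (algebraMap A A')) = (algebraMap A A').comp σ := by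
  haveI : Fact p.Prime := ⟨hp⟩
  constructor
  · letI : Algebra (ZMod p) A := ZMod.algebra A p
    haveI : Algebra.FormallySmooth (ZMod p) (ResidueField A) := PBasis.formallySmooth_zmod p _
    obtain ⟨σ, hσ, -⟩ := exists_section_of_formallySmooth (K := ZMod p)
      (K' := ResidueField A) (algebraMap (ZMod p) A) (residue A) residue_surjective
      (by rw [ker_residue]; exact hnil) (fun r => rfl)
    exact ⟨σ, hσ⟩
  · intro A' _ _ _ _ hnil' hgr σ hσ
    haveI : Algebra.FormallySmooth (ResidueField A) (ResidueField A') :=
      PBasis.formallySmooth_of_isGeometricallyReduced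
    obtain ⟨σ', h1, h2⟩ := exists_section_of_formallySmooth (K := ResidueField A)
      (K' := ResidueField A') ((algebraMap A A').comp σ) (residue A') residue_surjective
      (by rw [ker_residue]; exact hnil') (fun r => by
        have h3 : residue A (σ r) = r := congrArg (fun g : ResidueField A →+* ResidueField A => g r) hσ
        conv_rhs => rw [← h3]
        rfl)
    exact ⟨σ', h1, h2⟩

end Groth.Agent.Lib.Helper19
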