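import Groth.Agent.Lib.Helper19ComplNoeth
import Mathlib.RingTheory.AdicCompletion.AsTensorProduct
import Mathlib.RingTheory.Ideal.KrullsHeightTheorem
import Mathlib.RingTheory.RegularLocalRing.Defs

/-!
# Dimension and regularity of the completion of a Noetherian local ring (helper19)
-/

set_option autoImplicit false
universe u

open IsLocalRing

namespace Groth.Agent.Lib.Helper19

section ComplDim

variable (A : Type u) [CommRing A] [IsLocalRing A] [IsNoetherianRing A]

instance isNoetherianRing_adicCompletion_maximalIdeal :
    IsNoetherianRing (AdicCompletion (maximalIdeal A) A) :=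
  isNoetherianRing_adicCompletion (maximalIdeal A)

/-- The completion of a Noetherian local ring has the same dimension. -/
theorem ringKrullDim_adicCompletion_maximalIdeal :
    ringKrullDim (AdicCompletion (maximalIdeal A) A) = ringKrullDim A := by
  haveI : (maximalIdeal (AdicCompletion (maximalIdeal A) A)).LiesOver (maximalIdeal A) :=
    ⟨(IsLocalRing.maximalIdeal_comap (algebraMap A (AdicCompletion (maximalIdeal A) A))).symm⟩
  have h := Ideal.height_eq_height_add_of_liesOver_of_hasGoingDown (maximalIdeal A)
    (maximalIdeal (AdicCompletion (maximalIdeal A) A))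
  have hP : maximalIdeal (AdicCompletion (maximalIdeal A) A) =
      (maximalIdeal A).map (algebraMap A (AdicCompletion (maximalIdeal A) A)) :=
    AdicCompletion.maximalIdeal_eq_map
  have hne : (maximalIdeal A).map (algebraMap A (AdicCompletion (maximalIdeal A) A)) ≠ ⊤ := by
    rw [← hP]; exact Ideal.IsPrime.ne_top'
  haveI : Nontrivial (AdicCompletion (maximalIdeal A) A ⧸
      (maximalIdeal A).map (algebraMap A (AdicCompletion (maximalIdeal A) A))) :=
    Ideal.Quotient.nontrivial_iff.2 hne
  have h0 : ((maximalIdeal (AdicCompletion (maximalIdeal A) A)).map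
      (Ideal.Quotient.mk ((maximalIdeal A).map
        (algebraMap A (AdicCompletion (maximalIdeal A) A))))).height = 0 := by
    have : (maximalIdeal (AdicCompletion (maximalIdeal A) A)).map
      (Ideal.Quotient.mk ((maximalIdeal A).map
        (algebraMap A (AdicCompletion (maximalIdeal A) A)))) = ⊥ := by
      conv_lhs => rw [hP]
      exact Ideal.map_quotient_self _
    rw [this, Ideal.height_bot]
  rw [h0, add_zero] at h
  rw [← IsLocalRing.maximalIdeal_height_eq_ringKrullDim, ← IsLocalRing.maximalIdeal_height_eq_ringKrullDim, h]

/-- A Noetherian local ring is regular iff its completion is. -/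
theorem isRegularLocalRing_adicCompletion_iff :
    IsRegularLocalRing A ↔ IsRegularLocalRing (AdicCompletion (maximalIdeal A) A) := by
  rw [isRegularLocalRing_iff, isRegularLocalRing_iff, AdicCompletion.spanFinrank_maximalIdeal_eq,
    ringKrullDim_adicCompletion_maximalIdeal]

end ComplDim

end Groth.Agent.Lib.Helper19
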