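import Groth.Agent.Lib.Helper19CohenRingLift

/-!
# Cohen rings with isomorphic residue fields are isomorphic (EGA 0_IV 19.8.6 (ii)) (helper19)
-/

set_option autoImplicit false
set_option linter.style.haveILetI false
set_option linter.unusedSectionVars false
universe u w

namespace Groth.Agent.Lib.Helper19.FlatLift

open IsLocalRing

/-- a prime number in the maximal ideal `(p)` of a local ring is `p` -/
theorem prime_eq_of_natCast_mem_maximalIdeal {Λ : Type u} [CommRing Λ] [IsLocalRing Λ] {p q : ℕ}
    (hp : p.Prime) (hq : q.Prime) (hpm : (p : Λ) ∈ maximalIdeal Λ)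
    (hqm : (q : Λ) ∈ maximalIdeal Λ) : q = p := by
  by_contra hne
  have hcop : Nat.Coprime q p := (Nat.coprime_primes hq hp).2 hne
  have h1 : ((Nat.gcd q p : ℤ) : Λ) ∈ maximalIdeal Λ := by
    rw [Nat.gcd_eq_gcd_ab]
    push_cast
    exact Ideal.add_mem _ (Ideal.mul_mem_right _ _ hqm) (Ideal.mul_mem_right _ _ hpm)
  rw [hcop] at h1
  simp only [Nat.cast_one, Int.cast_one] at h1
  exact (Ideal.ne_top_iff_one _).1 (IsLocalRing.maximalIdeal.isMaximal Λ).ne_top h1

/-- the field / strict Cohen ring dichotomy is detected by the residue field -/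
theorem false_of_field_of_isCohenRing {W W' : Type u} [CommRing W] [IsLocalRing W] [CommRing W']
    [IsLocalRing W'] (hf : IsField W) (hc : CharZero W) (hW' : CAlg.IsCohenRing W')
    (u : ResidueField W ≃+* ResidueField W') : False := by
  obtain ⟨hdom, hdvr, -, p, hp, hmax⟩ := hW'
  have h1 : ((p : ℕ) : ResidueField W') = 0 := by
    rw [← map_natCast (residue W'), residue_eq_zero_iff, hmax]
    exact Ideal.subset_span rfl
  have h2 : ((p : ℕ) : ResidueField W) = 0 := by
    apply u.injective
    rw [map_natCast, h1, map_zero]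
  rw [← map_natCast (residue W), residue_eq_zero_iff] at h2
  letI : Field W := hf.toField
  rw [IsLocalRing.maximalIdeal_eq_bot, Ideal.mem_bot] at h2
  exact hp.ne_zero (by exact_mod_cast h2)

theorem residue_bijective_of_isField {W : Type u} [CommRing W] [IsLocalRing W] (hf : IsField W) :
    Function.Bijective (residue W) := by
  letI : Field W := hf.toField
  refine ⟨(residue W).injective, residue_surjective⟩

/-- strict Cohen rings with isomorphic residue fields are isomorphic -/
theorem exists_ringEquiv_of_isCohenRing {W W' : Type u} [CommRing W] [IsLocalRing W]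
    [CommRing W'] [IsLocalRing W'] (hW : CAlg.IsCohenRing W) (hW' : CAlg.IsCohenRing W')
    (u : ResidueField W ≃+* ResidueField W') :
    ∃ v : W ≃+* W', ∀ x : W, residue W' (v x) = u (residue W x) := by
  haveI : CharZero W := charZero_of_isCohenRing hW
  haveI : CharZero W' := charZero_of_isCohenRing hW'
  have hWE : EGA41.IsCohenRingEGA W := Or.inr hW
  obtain ⟨hdom, hdvr, hcompl, p, hp, hmax⟩ := hW
  obtain ⟨hdom', hdvr', hcompl', p', hp', hmax'⟩ := hW'
  haveI := hdom
  haveI := hdvr
  haveI := hcompl
  haveI := hdom'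
  haveI := hdvr'
  haveI := hcompl'
  have hpp : p = p' := by
    have h1 : ((p : ℕ) : ResidueField W) = 0 := by
      rw [← map_natCast (residue W), residue_eq_zero_iff, hmax]
      exact Ideal.subset_span rfl
    have h2 : ((p : ℕ) : ResidueField W') = 0 := by
      rw [← map_natCast u, h1, map_zero]
    rw [← map_natCast (residue W'), residue_eq_zero_iff] at h2
    exact prime_eq_of_natCast_mem_maximalIdeal hp' hp
      (by rw [hmax']; exact Ideal.subset_span rfl) h2
  subst hpp
  -- lift `u` to a local homomorphism `v : W → W'`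
  haveI : IsLocalRing (W' ⧸ maximalIdeal W') :=
    (inferInstance : IsLocalRing (ResidueField W'))
  let u₁ : W →+* W' ⧸ maximalIdeal W' :=
    (u : ResidueField W →+* ResidueField W').comp (residue W)
  have hu₁ : ∀ a, u₁ a = u (residue W a) := fun a => rfl
  haveI : IsLocalHom u₁ := by
    refine ⟨fun a ha => ?_⟩
    rw [← residue_ne_zero_iff_isUnit]
    intro h0
    rw [hu₁, h0, map_zero] at ha
    exact not_isUnit_zero ha
  obtain ⟨v, hvloc, hv⟩ := cohenRing_lifts_local_hom hWE (maximalIdeal W')
    (IsLocalRing.maximalIdeal.isMaximal W').ne_top u₁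
  have hvres : ∀ x, residue W' (v x) = u (residue W x) := fun x => RingHom.congr_fun hv x
  -- `v` is injective
  have hirr : Irreducible ((p : ℕ) : W) :=
    IsDiscreteValuationRing.irreducible_iff_uniformizer _ |>.2 hmax
  have hp0' : ((p : ℕ) : W') ≠ 0 := by
    exact_mod_cast hp.ne_zero
  have hinj : Function.Injective v := by
    rw [injective_iff_map_eq_zero]
    intro x hx
    by_contra hx0
    obtain ⟨n, hn⟩ := IsDiscreteValuationRing.associated_pow_irreducible hx0 hirr
    obtain ⟨c, hc⟩ := hn
    have h1 : v (x * c) = 0 := by rw [map_mul, hx, zero_mul]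
    rw [hc, map_pow, map_natCast] at h1
    exact pow_ne_zero n hp0' h1
  letI : Algebra W W' := v.toAlgebra
  have halg : ∀ x, algebraMap W W' x = v x := fun x => rfl
  haveI : Module.IsTorsionFree W W' := Module.isTorsionFree_iff_algebraMap_injective.2 hinj
  haveI : Module.Flat W W' := inferInstance
  have hmap : (maximalIdeal W).map (algebraMap W W') = maximalIdeal W' := by
    rw [hmax, Ideal.map_span, Set.image_singleton, hmax', halg, map_natCast]
  have hself : (maximalIdeal W).map (algebraMap W W) = maximalIdeal W := by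
    rw [Algebra.algebraMap_self, Ideal.map_id]
  haveI : IsAdicComplete ((maximalIdeal W).map (algebraMap W W)) W := by
    rw [hself]; infer_instance
  haveI : IsAdicComplete ((maximalIdeal W).map (algebraMap W W')) W' := by
    rw [hmap]; infer_instance
  have hfs : EGA41.IsFormallySmoothAdic W (maximalIdeal W) W
      ((maximalIdeal W).map (algebraMap W W)) :=
    isFormallySmoothAdic_of_formallySmooth _ _
  let u' : (W ⧸ maximalIdeal W) ≃+* (W' ⧸ maximalIdeal W') := u
  let u₀ : (W ⧸ (maximalIdeal W).map (algebraMap W W)) ≃ₐ[W ⧸ maximalIdeal W]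
      (W' ⧸ (maximalIdeal W).map (algebraMap W W')) :=
    { ((Ideal.quotEquivOfEq hself).trans u').trans (Ideal.quotEquivOfEq hmap.symm) with
      commutes' := by
        intro r
        obtain ⟨a, rfl⟩ := Ideal.Quotient.mk_surjective r
        change Ideal.quotEquivOfEq hmap.symm (u (residue W a)) = Ideal.Quotient.mk _ (v a)
        rw [← hvres]
        rfl }
  have hu₀ : ∀ b : W, u₀ (Ideal.Quotient.mk _ b) =
      Ideal.quotEquivOfEq hmap.symm (u (residue W b)) := fun b => rfl
  obtain ⟨e, he⟩ := exists_algEquiv_of_formallySmoothAdic_of_flat (maximalIdeal W) hfs u₀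
  refine ⟨e.toRingEquiv, fun x => ?_⟩
  have h3 := congrArg (Ideal.quotEquivOfEq hmap) (he x)
  rw [hu₀, Ideal.quotEquivOfEq_mk] at h3
  have h4 : ∀ y : W' ⧸ maximalIdeal W',
      Ideal.quotEquivOfEq hmap (Ideal.quotEquivOfEq hmap.symm y) = y := by
    intro y
    obtain ⟨z, rfl⟩ := Ideal.Quotient.mk_surjective y
    rfl
  rw [h4] at h3
  exact h3

/-- EGA 0_IV 19.8.6 (ii) (S2457) -/
theorem cohenRing_iso_of_residueField_iso {W W' : Type u} [CommRing W] [IsLocalRing W]
    [CommRing W'] [IsLocalRing W']
    (hW : EGA41.IsCohenRingEGA W) (hW' : EGA41.IsCohenRingEGA W')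
    (u : ResidueField W ≃+* ResidueField W') :
    ∃ v : W ≃+* W', ∀ x : W, residue W' (v x) = u (residue W x) := by
  rcases hW with ⟨hf, hc⟩ | hW
  · rcases hW' with ⟨hf', hc'⟩ | hW'
    · let e : W ≃+* ResidueField W := RingEquiv.ofBijective _ (residue_bijective_of_isField hf)
      let e' : W' ≃+* ResidueField W' := RingEquiv.ofBijective _ (residue_bijective_of_isField hf')
      refine ⟨(e.trans u).trans e'.symm, fun x => ?_⟩
      exact e'.apply_symm_apply _
    · exact (false_of_field_of_isCohenRing hf hc hW' u).elim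
  · rcases hW' with ⟨hf', hc'⟩ | hW'
    · exact (false_of_field_of_isCohenRing hf' hc' hW u.symm).elim
    · exact exists_ringEquiv_of_isCohenRing hW hW' u

end Groth.Agent.Lib.Helper19.FlatLift
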