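import Mathlib.RingTheory.AdicCompletion.Completeness
import Mathlib.RingTheory.MvPowerSeries.Inverse
import Mathlib.RingTheory.MvPowerSeries.Trunc
import Mathlib.RingTheory.AdicCompletion.Noetherian

set_option autoImplicit false
universe u v w

open MvPowerSeries Finsupp

namespace Groth.Agent.Lib.Helper19

section PowerSeries

variable {Λ : Type u} [CommRing Λ] {σ : Type v} [Finite σ]

/-- The ideal of the variables in the power series ring. -/
noncomputable abbrev varsIdeal (σ : Type v) (Λ : Type u) [CommRing Λ] : Ideal (MvPowerSeries σ Λ) :=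
  Ideal.span (Set.range (MvPowerSeries.X : σ → MvPowerSeries σ Λ))

/-- A power series whose coefficients of degree `< n` vanish lies in the `n`-th power of the ideal of the
variables. -/
theorem mem_varsIdeal_pow_of_coeff_eq_zero (n : ℕ) (g : MvPowerSeries σ Λ)
    (hg : ∀ α : σ →₀ ℕ, degree α < n → coeff α g = 0) : g ∈ varsIdeal σ Λ ^ n := by
  classical
  let Φ := toAdicCompletionAlgEquiv σ Λ
  have hmap : Ideal.map Φ.toRingEquiv (varsIdeal σ Λ) =
      (MvPolynomial.idealOfVars σ Λ).map (algebraMap (MvPolynomial σ Λ)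
        (AdicCompletion (MvPolynomial.idealOfVars σ Λ) (MvPolynomial σ Λ))) := by
    simp_rw [varsIdeal, Ideal.map_span, ← Set.range_comp]
    congr 2; ext1
    simp [Φ, AdicCompletion.algebraMap_apply, ← MvPolynomial.coe_X, toAdicCompletion_coe]
  have htr : truncTotal n g = 0 := by
    ext α
    rw [coeff_truncTotal_eq_ite, MvPolynomial.coeff_zero]
    split_ifs with h
    · exact hg α h
    · rfl
  have hker : Φ g ∈ LinearMap.ker (AdicCompletion.eval (MvPolynomial.idealOfVars σ Λ)
      (MvPolynomial σ Λ) n) := by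
    rw [LinearMap.mem_ker, AdicCompletion.eval_apply]
    change (toAdicCompletion σ Λ g).val n = 0
    rw [toAdicCompletion_apply_eq_mk_truncTotal, htr, map_zero]
  rw [← AdicCompletion.pow_smul_top_eq_ker_eval (MvPolynomial.idealOfVars_fg σ Λ),
    Ideal.smul_top_eq_map, Submodule.restrictScalars_mem, Ideal.map_pow, ← hmap, ← Ideal.map_pow] at hker
  have h2 : Φ.symm (Φ g) ∈ varsIdeal σ Λ ^ n := by
    rw [Ideal.mem_map_iff_of_surjective _ Φ.toRingEquiv.surjective] at hker
    obtain ⟨x, hx, hxg⟩ := hker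
    have : x = g := Φ.injective hxg
    rw [AlgEquiv.symm_apply_apply, ← this]
    exact hx
  rwa [AlgEquiv.symm_apply_apply] at h2

omit [Finite σ] in
lemma degree_le_of_add_eq {β γ α : σ →₀ ℕ} (h : β + γ = α) : degree γ ≤ degree α := by
  rw [← h, map_add]
  exact Nat.le_add_left _ _

/-- The ideal of power series whose coefficient at `α` lies in `I ^ (n - |α|)`. -/
def coeffIdeal (σ : Type v) (I : Ideal Λ) (n : ℕ) : Ideal (MvPowerSeries σ Λ) where
  carrier := {g | ∀ α : σ →₀ ℕ, coeff α g ∈ I ^ (n - degree α)}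
  add_mem' := by
    intro g h hg hh α
    rw [map_add]
    exact Ideal.add_mem _ (hg α) (hh α)
  zero_mem' := by
    intro α
    rw [map_zero]
    exact Ideal.zero_mem _
  smul_mem' := by
    classical
    intro c g hg α
    rw [smul_eq_mul, coeff_mul]
    apply Ideal.sum_mem
    rintro ⟨β, γ⟩ hβγ
    rw [Finset.mem_antidiagonal] at hβγ
    apply Ideal.mul_mem_left
    exact Ideal.pow_le_pow_right (Nat.sub_le_sub_left (degree_le_of_add_eq hβγ) n) (hg γ)

omit [Finite σ] in
lemma mem_coeffIdeal {I : Ideal Λ} {n : ℕ} {g : MvPowerSeries σ Λ} :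
    g ∈ coeffIdeal σ I n ↔ ∀ α : σ →₀ ℕ, coeff α g ∈ I ^ (n - degree α) := Iff.rfl

omit [Finite σ] in
lemma coeffIdeal_mul_le (I : Ideal Λ) (a b : ℕ) :
    coeffIdeal σ I a * coeffIdeal σ I b ≤ coeffIdeal σ I (a + b) := by
  classical
  rw [Ideal.mul_le]
  intro g hg h hh α
  rw [coeff_mul]
  apply Ideal.sum_mem
  rintro ⟨β, γ⟩ hβγ
  rw [Finset.mem_antidiagonal] at hβγ
  have h1 := Ideal.mul_mem_mul (hg β) (hh γ)
  rw [← pow_add] at h1
  refine Ideal.pow_le_pow_right ?_ h1
  have : degree α = degree β + degree γ := by rw [← hβγ, map_add]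
  omega

omit [Finite σ] in
lemma coeffIdeal_one_pow_le (I : Ideal Λ) (n : ℕ) :
    coeffIdeal σ I 1 ^ n ≤ coeffIdeal σ I n := by
  induction n with
  | zero =>
    intro g _ α
    rw [Nat.zero_sub, pow_zero, Ideal.one_eq_top]
    trivial
  | succ n ih =>
    rw [pow_succ]
    refine le_trans (Ideal.mul_mono_left ih) ?_
    exact coeffIdeal_mul_le I n 1

omit [Finite σ] in
lemma mem_coeffIdeal_one {I : Ideal Λ} {g : MvPowerSeries σ Λ} :
    g ∈ coeffIdeal σ I 1 ↔ constantCoeff g ∈ I := by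
  rw [mem_coeffIdeal]
  constructor
  · intro h
    have := h 0
    rwa [map_zero, Nat.sub_zero, pow_one, coeff_zero_eq_constantCoeff_apply] at this
  · intro h α
    by_cases hα : α = 0
    · subst hα
      rw [map_zero, Nat.sub_zero, pow_one, coeff_zero_eq_constantCoeff_apply]
      exact h
    · have : degree α ≠ 0 := fun h0 => hα ((degree_eq_zero_iff α).1 h0)
      have h1 : 1 - degree α = 0 := by omega
      rw [h1, pow_zero, Ideal.one_eq_top]
      trivial

omit [Finite σ] in
lemma X_mem_coeffIdeal_one (I : Ideal Λ) (s : σ) : (X s : MvPowerSeries σ Λ) ∈ coeffIdeal σ I 1 := by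
  rw [mem_coeffIdeal_one, constantCoeff_X]
  exact Ideal.zero_mem _

omit [Finite σ] in
lemma varsIdeal_le_coeffIdeal_one (I : Ideal Λ) : varsIdeal σ Λ ≤ coeffIdeal σ I 1 := by
  rw [Ideal.span_le]
  rintro _ ⟨s, rfl⟩
  exact X_mem_coeffIdeal_one I s

omit [Finite σ] in
lemma C_mem_coeffIdeal_one_pow (I : Ideal Λ) (j : ℕ) {c : Λ} (hc : c ∈ I ^ j) :
    (C c : MvPowerSeries σ Λ) ∈ coeffIdeal σ I 1 ^ j := by
  have h1 : Ideal.map (C : Λ →+* MvPowerSeries σ Λ) I ≤ coeffIdeal σ I 1 := by
    rw [Ideal.map_le_iff_le_comap]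
    intro a ha
    rw [Ideal.mem_comap, mem_coeffIdeal_one, constantCoeff_C]
    exact ha
  have h2 : (C c : MvPowerSeries σ Λ) ∈ Ideal.map (C : Λ →+* MvPowerSeries σ Λ) (I ^ j) :=
    Ideal.mem_map_of_mem _ hc
  rw [Ideal.map_pow] at h2
  exact Ideal.pow_right_mono h1 j h2

omit [Finite σ] in
lemma monomial_mem_coeffIdeal_one_pow (I : Ideal Λ) (α : σ →₀ ℕ) (j : ℕ) {c : Λ} (hc : c ∈ I ^ j) :
    (monomial α c : MvPowerSeries σ Λ) ∈ coeffIdeal σ I 1 ^ (j + degree α) := by
  rw [monomial_eq', pow_add]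
  apply Ideal.mul_mem_mul (C_mem_coeffIdeal_one_pow I j hc)
  rw [Finsupp.prod, degree_apply, ← Finset.prod_pow_eq_pow_sum]
  apply Ideal.prod_mem_prod
  intro s _
  exact Ideal.pow_mem_pow (X_mem_coeffIdeal_one I s) _

/-- The power series with coefficients in `I ^ (n - |α|)` form the `n`-th power of the ideal of power
series with constant coefficient in `I`. -/
theorem coeffIdeal_eq_pow (I : Ideal Λ) (n : ℕ) : coeffIdeal σ I n = coeffIdeal σ I 1 ^ n := by
  classical
  apply le_antisymm _ (coeffIdeal_one_pow_le I n)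
  intro g hg
  -- the truncation
  have hfin : {α : σ →₀ ℕ | degree α < n}.Finite := finite_of_degree_lt n
  let T : MvPowerSeries σ Λ := ∑ α ∈ hfin.toFinset, monomial α (coeff α g)
  have hT : T ∈ coeffIdeal σ I 1 ^ n := by
    apply Ideal.sum_mem
    intro α hα
    rw [Set.Finite.mem_toFinset, Set.mem_setOf_eq] at hα
    have h1 := monomial_mem_coeffIdeal_one_pow I α (n - degree α) (hg α)
    have h2 : n - degree α + degree α = n := by omega
    rwa [h2] at h1
  have htail : g - T ∈ varsIdeal σ Λ ^ n := by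
    apply mem_varsIdeal_pow_of_coeff_eq_zero
    intro β hβ
    rw [map_sub, map_sum, sub_eq_zero]
    rw [Finset.sum_eq_single β]
    · rw [coeff_monomial_same]
    · intro α _ hne
      exact coeff_monomial_ne hne.symm _
    · intro hβn
      exfalso
      apply hβn
      rw [Set.Finite.mem_toFinset, Set.mem_setOf_eq]
      exact hβ
  have : g = T + (g - T) := by ring
  rw [this]
  exact Ideal.add_mem _ hT (Ideal.pow_right_mono (varsIdeal_le_coeffIdeal_one I) n htail)

lemma smodEq_pow_iff {R : Type*} [CommRing R] (J : Ideal R) (n : ℕ) (x y : R) :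
    x ≡ y [SMOD (J ^ n • ⊤ : Submodule R R)] ↔ x - y ∈ J ^ n := by
  rw [SModEq.sub_mem, smul_eq_mul, Ideal.mul_top]

/-- Power series over an `I`-adically separated ring are separated for the ideal of series with constant
coefficient in `I`. -/
theorem isHausdorff_coeffIdeal (I : Ideal Λ) [IsHausdorff I Λ] :
    IsHausdorff (coeffIdeal σ I 1) (MvPowerSeries σ Λ) := by
  refine ⟨fun g hg => ?_⟩
  ext α
  rw [map_zero]
  apply IsHausdorff.haus (I := I) inferInstance
  intro j
  have h1 := hg (j + degree α)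
  rw [smodEq_pow_iff, sub_zero, ← coeffIdeal_eq_pow] at h1
  have h2 := h1 α
  rw [Nat.add_sub_cancel] at h2
  rw [smodEq_pow_iff, sub_zero]
  exact h2

/-- Power series over an `I`-adically precomplete ring are precomplete for the ideal of series with
constant coefficient in `I`. -/
theorem isPrecomplete_coeffIdeal (I : Ideal Λ) [IsPrecomplete I Λ] :
    IsPrecomplete (coeffIdeal σ I 1) (MvPowerSeries σ Λ) := by
  refine ⟨fun f hf => ?_⟩
  have hf' : ∀ {m n : ℕ}, m ≤ n → f m - f n ∈ coeffIdeal σ I m := by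
    intro m n hmn
    have := hf hmn
    rwa [smodEq_pow_iff, ← coeffIdeal_eq_pow] at this
  -- coefficientwise limits
  have hex : ∀ α : σ →₀ ℕ, ∃ L : Λ, ∀ j, coeff α (f (j + degree α)) ≡ L [SMOD (I ^ j • ⊤ : Submodule Λ Λ)] := by
    intro α
    apply IsPrecomplete.prec' (I := I)
    intro i j hij
    rw [smodEq_pow_iff, ← map_sub]
    have h1 := hf' (Nat.add_le_add_right hij (degree α)) α
    rwa [Nat.add_sub_cancel] at h1
  choose L hL using hex
  refine ⟨(fun α => L α : MvPowerSeries σ Λ), fun n => ?_⟩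
  rw [smodEq_pow_iff, ← coeffIdeal_eq_pow]
  intro α
  by_cases hα : degree α ≤ n
  · have h1 := hL α (n - degree α)
    rw [smodEq_pow_iff, Nat.sub_add_cancel hα] at h1
    rw [map_sub]
    exact h1
  · have : n - degree α = 0 := by omega
    rw [this, pow_zero, Ideal.one_eq_top]
    trivial

theorem isAdicComplete_coeffIdeal (I : Ideal Λ) [IsAdicComplete I Λ] :
    IsAdicComplete (coeffIdeal σ I 1) (MvPowerSeries σ Λ) :=
  { toIsHausdorff := isHausdorff_coeffIdeal I
    toIsPrecomplete := isPrecomplete_coeffIdeal I }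

/-- Over a local ring, the maximal ideal of the power series ring consists of the series with constant
coefficient in the maximal ideal. -/
theorem maximalIdeal_eq_coeffIdeal [IsLocalRing Λ] :
    IsLocalRing.maximalIdeal (MvPowerSeries σ Λ) = coeffIdeal σ (IsLocalRing.maximalIdeal Λ) 1 := by
  ext g
  rw [mem_coeffIdeal_one, IsLocalRing.mem_maximalIdeal, IsLocalRing.mem_maximalIdeal, mem_nonunits_iff,
    mem_nonunits_iff, isUnit_iff_constantCoeff]

/-- The power series ring over a complete local ring is complete for its maximal ideal. -/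
theorem isAdicComplete_mvPowerSeries [IsLocalRing Λ] [IsAdicComplete (IsLocalRing.maximalIdeal Λ) Λ] :
    IsAdicComplete (IsLocalRing.maximalIdeal (MvPowerSeries σ Λ)) (MvPowerSeries σ Λ) := by
  rw [maximalIdeal_eq_coeffIdeal]
  exact isAdicComplete_coeffIdeal _

section Linear

variable [Fintype σ]

/-- First-order Taylor expansion: a power series minus its constant and linear terms lies in the square of
the ideal of series with constant coefficient in `I`. -/
theorem sub_linear_mem_coeffIdeal_two (I : Ideal Λ) (g : MvPowerSeries σ Λ) :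
    g - C (constantCoeff g) - ∑ i, C (coeff (single i 1) g) * X i ∈ coeffIdeal σ I 2 := by
  classical
  intro α
  rcases Nat.lt_or_ge (degree α) 2 with h | h
  · have hz : coeff α (g - C (constantCoeff g) - ∑ i, C (coeff (single i 1) g) * X i) = 0 := by
      rcases Nat.lt_or_ge (degree α) 1 with h0 | h1
      · have hα : α = 0 := (degree_eq_zero_iff α).1 (by omega)
        subst hα
        rw [map_sub, map_sub, map_sum, coeff_zero_C, coeff_zero_eq_constantCoeff_apply, sub_self,
          zero_sub, neg_eq_zero]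
        apply Finset.sum_eq_zero
        intro i _
        rw [coeff_C_mul, coeff_zero_X, mul_zero]
      · have hα : degree α = 1 := by omega
        have hmem : α ∈ {d : σ →₀ ℕ | d.degree = 1} := hα
        rw [← range_single_one] at hmem
        obtain ⟨j, rfl⟩ := hmem
        rw [map_sub, map_sub, map_sum, coeff_C, if_neg (by simp)]
        rw [Finset.sum_eq_single j]
        · rw [coeff_C_mul, coeff_index_single_self_X, mul_one, sub_zero, sub_self]
        · intro i _ hij
          rw [coeff_C_mul, coeff_index_single_X, if_neg (Ne.symm hij), mul_zero]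
        · intro hj
          exact absurd (Finset.mem_univ j) hj
    rw [hz]
    exact Ideal.zero_mem _
  · have : 2 - degree α = 0 := by omega
    rw [this, pow_zero, Ideal.one_eq_top]
    trivial

end Linear

section Lift

variable {A : Type w} [CommRing A] [Algebra Λ A]

lemma aeval_mem_pow_of_mem_idealOfVars_pow (𝔫 : Ideal A) (x : σ → A) (hx : ∀ s, x s ∈ 𝔫) (N : ℕ)
    (p : MvPolynomial σ Λ) (hp : p ∈ MvPolynomial.idealOfVars σ Λ ^ N) :
    MvPolynomial.aeval x p ∈ 𝔫 ^ N := by
  have h1 : Ideal.map (MvPolynomial.aeval x : MvPolynomial σ Λ →ₐ[Λ] A) (MvPolynomial.idealOfVars σ Λ) ≤ 𝔫 := by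
    rw [MvPolynomial.idealOfVars, Ideal.map_span, Ideal.span_le]
    rintro _ ⟨_, ⟨s, rfl⟩, rfl⟩
    change MvPolynomial.aeval x (MvPolynomial.X s) ∈ 𝔫
    rw [MvPolynomial.aeval_X]
    exact hx s
  have h2 : MvPolynomial.aeval x p ∈
      Ideal.map (MvPolynomial.aeval x : MvPolynomial σ Λ →ₐ[Λ] A) (MvPolynomial.idealOfVars σ Λ ^ N) :=
    Ideal.mem_map_of_mem _ hp
  rw [Ideal.map_pow] at h2
  exact Ideal.pow_right_mono h1 N h2

/-- Power series can be evaluated at nilpotent elements. -/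
theorem exists_algHom_coe_eq (𝔫 : Ideal A) (N : ℕ) (hN : 𝔫 ^ N = ⊥) (x : σ → A) (hx : ∀ s, x s ∈ 𝔫) :
    ∃ φ : MvPowerSeries σ Λ →ₐ[Λ] A, ∀ p : MvPolynomial σ Λ, φ (p : MvPowerSeries σ Λ) = MvPolynomial.aeval x p := by
  have hkill : ∀ a ∈ MvPolynomial.idealOfVars σ Λ ^ N, (MvPolynomial.aeval x : MvPolynomial σ Λ →ₐ[Λ] A).toRingHom a = 0 := by
    intro a ha
    have := aeval_mem_pow_of_mem_idealOfVars_pow 𝔫 x hx N a ha
    rwa [hN, Ideal.mem_bot] at this
  let ψ : MvPowerSeries σ Λ →+* A :=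
    (Ideal.Quotient.lift _ (MvPolynomial.aeval x : MvPolynomial σ Λ →ₐ[Λ] A).toRingHom hkill).comp
      (truncTotalAlgHom σ Λ N).toRingHom
  have hψ : ∀ p : MvPolynomial σ Λ, ψ (p : MvPowerSeries σ Λ) = MvPolynomial.aeval x p := by
    intro p
    have h1 : (truncTotalAlgHom σ Λ N) (p : MvPowerSeries σ Λ) =
        Ideal.Quotient.mk (MvPolynomial.idealOfVars σ Λ ^ N) p :=
      (truncTotalAlgHom σ Λ N).commutes p
    change Ideal.Quotient.lift _ _ hkill ((truncTotalAlgHom σ Λ N) (p : MvPowerSeries σ Λ)) = _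
    rw [h1, Ideal.Quotient.lift_mk]
    rfl
  refine ⟨{ ψ with commutes' := fun r => ?_ }, hψ⟩
  have h2 : algebraMap Λ (MvPowerSeries σ Λ) r = ((MvPolynomial.C r : MvPolynomial σ Λ) : MvPowerSeries σ Λ) := by
    rw [MvPolynomial.coe_C]
    rfl
  change ψ (algebraMap Λ (MvPowerSeries σ Λ) r) = _
  rw [h2, hψ, MvPolynomial.aeval_C]

theorem exists_algHom_X_eq (𝔫 : Ideal A) (N : ℕ) (hN : 𝔫 ^ N = ⊥) (x : σ → A) (hx : ∀ s, x s ∈ 𝔫) :
    ∃ φ : MvPowerSeries σ Λ →ₐ[Λ] A, ∀ s, φ (X s) = x s := by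
  obtain ⟨φ, hφ⟩ := exists_algHom_coe_eq (Λ := Λ) 𝔫 N hN x hx
  refine ⟨φ, fun s => ?_⟩
  rw [← MvPolynomial.coe_X, hφ, MvPolynomial.aeval_X]

/-- A power series is its truncation plus a tail in a power of the ideal of variables. -/
lemma sub_truncTotal_mem (N : ℕ) (g : MvPowerSeries σ Λ) :
    g - ((truncTotal N g : MvPolynomial σ Λ) : MvPowerSeries σ Λ) ∈ varsIdeal σ Λ ^ N := by
  apply mem_varsIdeal_pow_of_coeff_eq_zero
  intro α hα
  rw [map_sub, MvPolynomial.coeff_coe, coeff_truncTotal _ hα, sub_self]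

/-- Two algebra maps out of the power series ring which agree on the variables, and send them to nilpotent
elements, agree. -/
theorem algHom_ext_of_X (𝔫 : Ideal A) (N : ℕ) (hN : 𝔫 ^ N = ⊥) (φ₁ φ₂ : MvPowerSeries σ Λ →ₐ[Λ] A)
    (h1 : ∀ s, φ₁ (X s) ∈ 𝔫) (h : ∀ s, φ₁ (X s) = φ₂ (X s)) : φ₁ = φ₂ := by
  have hpoly : ∀ p : MvPolynomial σ Λ, φ₁ (p : MvPowerSeries σ Λ) = φ₂ (p : MvPowerSeries σ Λ) := by
    intro p
    have : φ₁.comp (MvPolynomial.coeToMvPowerSeries.algHom Λ) =
        φ₂.comp (MvPolynomial.coeToMvPowerSeries.algHom Λ) := by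
      apply MvPolynomial.algHom_ext
      intro s
      simp only [AlgHom.comp_apply, MvPolynomial.coeToMvPowerSeries.algHom_apply, MvPolynomial.coe_X,
        Algebra.algebraMap_self, MvPowerSeries.map_id, RingHom.id_apply]
      exact h s
    have h2 := AlgHom.congr_fun this p
    simpa only [AlgHom.comp_apply, MvPolynomial.coeToMvPowerSeries.algHom_apply,
      Algebra.algebraMap_self, MvPowerSeries.map_id, RingHom.id_apply] using h2
  have htail : ∀ (φ : MvPowerSeries σ Λ →ₐ[Λ] A), (∀ s, φ (X s) ∈ 𝔫) →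
      ∀ t ∈ varsIdeal σ Λ ^ N, φ t = 0 := by
    intro φ hφ t ht
    have h3 : Ideal.map φ (varsIdeal σ Λ) ≤ 𝔫 := by
      rw [varsIdeal, Ideal.map_span, Ideal.span_le]
      rintro _ ⟨_, ⟨s, rfl⟩, rfl⟩
      exact hφ s
    have h4 : φ t ∈ Ideal.map φ (varsIdeal σ Λ ^ N) := Ideal.mem_map_of_mem _ ht
    rw [Ideal.map_pow] at h4
    have h5 := Ideal.pow_right_mono h3 N h4
    rwa [hN, Ideal.mem_bot] at h5
  apply AlgHom.ext
  intro g
  have hg : g = ((truncTotal N g : MvPolynomial σ Λ) : MvPowerSeries σ Λ) +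
      (g - ((truncTotal N g : MvPolynomial σ Λ) : MvPowerSeries σ Λ)) := by ring
  rw [hg, map_add, map_add, hpoly, htail φ₁ h1 _ (sub_truncTotal_mem N g),
    htail φ₂ (fun s => h s ▸ h1 s) _ (sub_truncTotal_mem N g)]

end Lift

end PowerSeries

end Groth.Agent.Lib.Helper19
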