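import Groth.Agent.Lib.Helper19CohenExistC
import Groth.Agent.Lib.Helper19CohenRingIso
import Groth.Agent.Lib.Helper19PowerSeries
import Mathlib.RingTheory.AdicCompletion.RingHom
import Mathlib.RingTheory.AdicCompletion.Functoriality

/-!
# The Cohen structure theorem: complete local rings are quotients of power series rings over
fields or Cohen rings (helper19)
-/

set_option autoImplicit false
set_option linter.style.haveILetI false
set_option linter.unusedSectionVars false
universe u

namespace Groth.Agent.Lib.Helper19.CohenStructure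

open IsLocalRing MvPowerSeries

section eval

variable {Λ A : Type u} [CommRing Λ] [CommRing A] [Algebra Λ A] (I : Ideal A) [IsAdicComplete I A]

/-- evaluation of power series at topologically nilpotent elements of a complete ring -/
theorem exists_algHom_X_eq_of_isAdicComplete (n : ℕ) (a : Fin n → A) (ha : ∀ s, a s ∈ I) :
    ∃ ev : MvPowerSeries (Fin n) Λ →ₐ[Λ] A, ∀ s, ev (X s) = a s := by
  have hnil : ∀ m : ℕ, (I.map (Ideal.Quotient.mk (I ^ m))) ^ m = ⊥ := by
    intro m
    rw [← Ideal.map_pow, Ideal.map_quotient_self]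
  have hmem : ∀ (m : ℕ) (s : Fin n),
      Ideal.Quotient.mk (I ^ m) (a s) ∈ I.map (Ideal.Quotient.mk (I ^ m)) :=
    fun m s => Ideal.mem_map_of_mem _ (ha s)
  choose evm hevm using fun m : ℕ =>
    exists_algHom_X_eq (Λ := Λ) (I.map (Ideal.Quotient.mk (I ^ m))) m (hnil m)
      (fun s => Ideal.Quotient.mk (I ^ m) (a s)) (hmem m)
  have hcompat : ∀ {m m' : ℕ} (hle : m ≤ m'),
      (Ideal.Quotient.factorₐ Λ (Ideal.pow_le_pow_right hle)).comp (evm m') = evm m := by
    intro m m' hle
    apply algHom_ext_of_X (I.map (Ideal.Quotient.mk (I ^ m))) m (hnil m)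
    · intro s
      rw [AlgHom.comp_apply, hevm]
      exact hmem m s
    · intro s
      rw [AlgHom.comp_apply, hevm, hevm]
      rfl
  refine ⟨IsAdicComplete.liftAlgHom I evm hcompat, fun s => ?_⟩
  rw [← sub_eq_zero]
  refine IsHausdorff.haus (I := I) inferInstance _ fun m => ?_
  rw [SModEq.zero, smul_eq_mul, Ideal.mul_top, ← Ideal.Quotient.eq]
  rw [IsAdicComplete.mk_liftAlgHom, hevm]

end eval

section surj

variable {Λ A : Type u} [CommRing Λ] [IsLocalRing Λ] [IsAdicComplete (maximalIdeal Λ) Λ]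
  [CommRing A] [IsLocalRing A] [IsAdicComplete (maximalIdeal A) A] [Algebra Λ A]

/-- a power series ring over a complete local coefficient ring surjects onto a complete local ring
when the coefficient ring hits the residue field and the variables hit generators of the maximal
ideal -/
theorem exists_surjective_algHom_mvPowerSeries (n : ℕ) (a : Fin n → A)
    (ha : Ideal.span (Set.range a) = maximalIdeal A)
    (hloc : ∀ x ∈ maximalIdeal Λ, algebraMap Λ A x ∈ maximalIdeal A)
    (hres : ∀ r : A, ∃ l : Λ, r - algebraMap Λ A l ∈ maximalIdeal A) :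
    ∃ ev : MvPowerSeries (Fin n) Λ →ₐ[Λ] A, Function.Surjective ev := by
  have ham : ∀ s, a s ∈ maximalIdeal A := fun s => by
    rw [← ha]; exact Ideal.subset_span ⟨s, rfl⟩
  obtain ⟨ev, hev⟩ := exists_algHom_X_eq_of_isAdicComplete (Λ := Λ) (maximalIdeal A) n a ham
  refine ⟨ev, ?_⟩
  have hC : ∀ l : Λ, ev (C l) = algebraMap Λ A l := by
    intro l
    have h2 : (C l : MvPowerSeries (Fin n) Λ) = algebraMap Λ (MvPowerSeries (Fin n) Λ) l := by
      rw [MvPowerSeries.algebraMap_apply, Algebra.algebraMap_self, RingHom.id_apply]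
    rw [h2]
    exact ev.commutes l
  have hvars : Ideal.map (ev : MvPowerSeries (Fin n) Λ →+* A) (varsIdeal (Fin n) Λ) =
      maximalIdeal A := by
    rw [varsIdeal, Ideal.map_span, ← Set.range_comp, ← ha]
    congr 2
    funext s
    exact hev s
  have hmapeq : Ideal.map (ev : MvPowerSeries (Fin n) Λ →+* A)
      (maximalIdeal (MvPowerSeries (Fin n) Λ)) = maximalIdeal A := by
    apply le_antisymm
    · rw [Ideal.map_le_iff_le_comap]
      intro g hg
      rw [Ideal.mem_comap]
      rw [maximalIdeal_eq_coeffIdeal, mem_coeffIdeal_one] at hg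
      have h1 : g - C (constantCoeff g) ∈ varsIdeal (Fin n) Λ ^ 1 := by
        apply mem_varsIdeal_pow_of_coeff_eq_zero
        intro α hα
        have hα0 : α = 0 := by
          rw [Nat.lt_one_iff] at hα
          exact (Finsupp.degree_eq_zero_iff α).1 hα
        rw [hα0, map_sub, coeff_zero_eq_constantCoeff_apply, coeff_zero_eq_constantCoeff_apply,
          constantCoeff_C, sub_self]
      rw [pow_one] at h1
      have h2 : (ev : MvPowerSeries (Fin n) Λ →+* A) (g - C (constantCoeff g)) ∈ maximalIdeal A := by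
        rw [← hvars]
        exact Ideal.mem_map_of_mem _ h1
      have h3 : (ev : MvPowerSeries (Fin n) Λ →+* A) g =
          (ev : MvPowerSeries (Fin n) Λ →+* A) (g - C (constantCoeff g)) +
            ev (C (constantCoeff g)) := by
        rw [map_sub]
        change ev g = ev g - ev (C (constantCoeff g)) + ev (C (constantCoeff g))
        ring
      rw [h3, hC]
      exact Ideal.add_mem _ h2 (hloc _ hg)
    · rw [← hvars]
      apply Ideal.map_mono
      rw [varsIdeal, Ideal.span_le]
      rintro _ ⟨s, rfl⟩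
      rw [SetLike.mem_coe, IsLocalRing.mem_maximalIdeal, mem_nonunits_iff,
        MvPowerSeries.isUnit_iff_constantCoeff]
      simp
  haveI : IsHausdorff (Ideal.map (ev : MvPowerSeries (Fin n) Λ →+* A)
      (maximalIdeal (MvPowerSeries (Fin n) Λ))) A := by
    rw [hmapeq]
    infer_instance
  haveI : IsPrecomplete (maximalIdeal (MvPowerSeries (Fin n) Λ)) (MvPowerSeries (Fin n) Λ) :=
    (isAdicComplete_mvPowerSeries (Λ := Λ) (σ := Fin n)).toIsPrecomplete
  apply surjective_of_mk_map_comp_surjective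
    (ev : MvPowerSeries (Fin n) Λ →+* A) (I := maximalIdeal (MvPowerSeries (Fin n) Λ))
  intro y
  obtain ⟨r, rfl⟩ := Ideal.Quotient.mk_surjective y
  obtain ⟨l, hl⟩ := hres r
  refine ⟨C l, ?_⟩
  rw [RingHom.comp_apply, Ideal.Quotient.eq, hmapeq]
  change ev (C l) - r ∈ maximalIdeal A
  rw [hC, ← neg_sub]
  exact (Ideal.neg_mem_iff _).2 hl

end surj

section coeff

open Groth.Agent.Lib.Helper19.FlatLift

/-- a homomorphism from the residue field of a Cohen ring to the residue field of a complete local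
ring lifts to the rings (no Noetherian hypothesis) -/
theorem exists_ringHom_of_isCohenRingEGA {Λ R : Type u} [CommRing Λ] [IsLocalRing Λ]
    (hΛ : EGA41.IsCohenRingEGA Λ) [CommRing R] [IsLocalRing R]
    [IsAdicComplete (maximalIdeal R) R] (e : ResidueField Λ →+* ResidueField R) :
    ∃ φ : Λ →+* R, ∀ x, residue R (φ x) = e (residue Λ x) := by
  letI : Algebra (ULift.{u} ℤ) Λ := uliftIntAlgebra Λ
  letI : Algebra (ULift.{u} ℤ) R := uliftIntAlgebra R
  have hB := isFormallySmoothAdic_ulift_int_of_isCohenRingEGA hΛ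
  haveI : IsHausdorff ((maximalIdeal R).map (Ideal.Quotient.mk (maximalIdeal R)))
      (R ⧸ maximalIdeal R) := by
    rw [Ideal.map_quotient_self]
    exact isHausdorff_bot _ _
  let u₀ : Λ →+* R ⧸ maximalIdeal R := e.comp (residue Λ)
  have hu₀ : ∀ x, u₀ x = e (residue Λ x) := fun x => rfl
  let u : Λ →ₐ[ULift.{u} ℤ] R ⧸ maximalIdeal R := toULiftIntAlgHom u₀
  have hu : ∀ x, u x = e (residue Λ x) := fun x => rfl
  obtain ⟨v, -, hv⟩ := exists_lift_to_adicComplete (⊥ : Ideal (ULift.{u} ℤ)) (maximalIdeal Λ)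
    (maximalIdeal R) (maximalIdeal R) hB ⟨1, by simp⟩ ⟨1, by rw [pow_one]⟩ u ⟨1, by
      rw [pow_one, Ideal.map_quotient_self, Ideal.map_le_iff_le_comap]
      intro x hx
      rw [Ideal.mem_comap, Ideal.mem_bot]
      change u x = 0
      rw [hu, (residue_eq_zero_iff x).2 hx, map_zero]
      rfl⟩
  refine ⟨v, fun x => ?_⟩
  have := congrArg (fun f : Λ →ₐ[ULift.{u} ℤ] R ⧸ maximalIdeal R => f x) hv
  exact this

/-- a coefficient ring for a complete local ring: a field or a Cohen ring mapping to the ring and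
inducing an isomorphism on residue fields -/
theorem exists_coefficientRing' (R : Type u) [CommRing R] [IsLocalRing R]
    [IsAdicComplete (maximalIdeal R) R] :
    ∃ (Λ : Type u) (_ : CommRing Λ) (_ : IsLocalRing Λ)
      (_ : IsAdicComplete (maximalIdeal Λ) Λ) (φ : Λ →+* R),
      EGA41.IsCohenRingEGA Λ ∧
      (IsField Λ ∨ CAlg.IsCohenRing Λ) ∧ (∀ x ∈ maximalIdeal Λ, φ x ∈ maximalIdeal R) ∧
        ∀ r : R, ∃ l : Λ, r - φ l ∈ maximalIdeal R := by
  have key : ∀ (Λ : Type u) [CommRing Λ] [IsLocalRing Λ], EGA41.IsCohenRingEGA Λ →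
      (IsField Λ ∨ CAlg.IsCohenRing Λ) → IsAdicComplete (maximalIdeal Λ) Λ →
      (ResidueField Λ ≃+* ResidueField R) →
      ∃ (Λ : Type u) (_ : CommRing Λ) (_ : IsLocalRing Λ)
        (_ : IsAdicComplete (maximalIdeal Λ) Λ) (φ : Λ →+* R),
        EGA41.IsCohenRingEGA Λ ∧
        (IsField Λ ∨ CAlg.IsCohenRing Λ) ∧ (∀ x ∈ maximalIdeal Λ, φ x ∈ maximalIdeal R) ∧
          ∀ r : R, ∃ l : Λ, r - φ l ∈ maximalIdeal R := by
    intro Λ _ _ hΛE hΛ hcompl e
    obtain ⟨φ, hφ⟩ := exists_ringHom_of_isCohenRingEGA hΛE (e : ResidueField Λ →+* ResidueField R)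
    refine ⟨Λ, inferInstance, inferInstance, hcompl, φ, hΛE, hΛ, ?_, ?_⟩
    · intro x hx
      rw [← residue_eq_zero_iff, hφ, (residue_eq_zero_iff x).2 hx, map_zero]
    · intro r
      obtain ⟨y, hy⟩ := e.surjective (residue R r)
      obtain ⟨l, rfl⟩ := residue_surjective y
      refine ⟨l, ?_⟩
      rw [← residue_eq_zero_iff, map_sub, hφ, sub_eq_zero]
      exact hy.symm
  obtain ⟨q, hq⟩ := CharP.exists (ResidueField R)
  rcases CharP.char_is_prime_or_zero (ResidueField R) q with hqp | rfl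
  · haveI : Fact q.Prime := ⟨hqp⟩
    obtain ⟨Λ, i1, i2, hΛ, ⟨e⟩⟩ :=
      Groth.Agent.Lib.Helper19.CohenExist.exists_isCohenRing_residueField q (ResidueField R)
    obtain ⟨hdom, hdvr, hcompl, -⟩ := id hΛ
    exact key Λ (Or.inr hΛ) (Or.inr hΛ) hcompl e
  · haveI : CharZero (ResidueField R) := CharP.charP_to_charZero _
    have hf : IsField (ResidueField R) := Field.toIsField _
    have hcompl : IsAdicComplete (maximalIdeal (ResidueField R)) (ResidueField R) := by
      rw [IsLocalRing.maximalIdeal_eq_bot]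
      infer_instance
    exact key (ResidueField R) (Or.inl ⟨hf, inferInstance⟩) (Or.inl hf) hcompl
      (RingEquiv.ofBijective _ (residue_bijective_of_isField hf)).symm

theorem exists_coefficientRing (R : Type u) [CommRing R] [IsLocalRing R]
    [IsAdicComplete (maximalIdeal R) R] :
    ∃ (Λ : Type u) (_ : CommRing Λ) (_ : IsLocalRing Λ)
      (_ : IsAdicComplete (maximalIdeal Λ) Λ) (φ : Λ →+* R),
      (IsField Λ ∨ CAlg.IsCohenRing Λ) ∧ (∀ x ∈ maximalIdeal Λ, φ x ∈ maximalIdeal R) ∧
        ∀ r : R, ∃ l : Λ, r - φ l ∈ maximalIdeal R := by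
  obtain ⟨Λ, i1, i2, i3, φ, -, h⟩ := exists_coefficientRing' R
  exact ⟨Λ, i1, i2, i3, φ, h⟩

end coeff

/-- **Cohen structure theorem** (S0580) -/
theorem exists_surjective_mvPowerSeries_of_complete_local (R : Type u) [CommRing R]
    [IsLocalRing R] [IsAdicComplete (IsLocalRing.maximalIdeal R) R]
    (hfg : (IsLocalRing.maximalIdeal R).FG) :
    ∃ (Λ : Type u) (_ : CommRing Λ) (n : ℕ) (f : MvPowerSeries (Fin n) Λ →+* R),
      (IsField Λ ∨ CAlg.IsCohenRing Λ) ∧ Function.Surjective f := by
  obtain ⟨Λ, i1, i2, i3, φ, hΛ, hloc, hres⟩ := exists_coefficientRing R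
  obtain ⟨n, a, ha⟩ := Submodule.fg_iff_exists_fin_generating_family.1 hfg
  letI : Algebra Λ R := φ.toAlgebra
  obtain ⟨ev, hev⟩ := exists_surjective_algHom_mvPowerSeries (Λ := Λ) (A := R) n a ha hloc hres
  exact ⟨Λ, i1, n, ev, hΛ, hev⟩

end Groth.Agent.Lib.Helper19.CohenStructure
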