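import Groth.Agent.Lib.Helper19PsDim

/-!
# Regular presentations of local rings essentially of finite type over a field (helper19)

* `exists_regular_surj`: a local `k`-algebra essentially of finite type with a `k`-point is a quotient of a
  regular local `k`-algebra.
* `isRegularLocalRing_quot_singleton`: quotient of a regular local ring by `x ∈ m \ m²`.
* `exists_minimal_regular_surj`: such a presentation can be chosen with kernel inside `m²`.
* `dim_bounds_of_regular_surj`: dimension estimates from a bound on the number of generators of the kernel.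
-/

set_option autoImplicit false
universe u v w

open CategoryTheory ArtFun ArtFun.Art
open scoped TensorProduct

namespace Groth.Agent.Lib.Helper19

section Generic

/-- The Krull dimension of a Noetherian local ring is a natural number. -/
theorem exists_nat_ringKrullDim (P : Type*) [CommRing P] [IsLocalRing P] [IsNoetherianRing P] :
    ∃ d : ℕ, ringKrullDim P = d := by
  have h1 := ringKrullDim_le_spanFinrank_maximalIdeal P
  have h0 : (0 : WithBot ℕ∞) ≤ ringKrullDim P := ringKrullDim_nonneg_of_nontrivial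
  have hb : ringKrullDim P ≠ ⊥ := fun h => by rw [h] at h0; simp at h0
  obtain ⟨y, hy⟩ := WithBot.ne_bot_iff_exists.1 hb
  rw [← hy] at h1
  have h2 : y ≤ ((IsLocalRing.maximalIdeal P).spanFinrank : ℕ∞) := by exact_mod_cast h1
  have h3 : y ≠ ⊤ := fun h => by rw [h] at h2; simp at h2
  obtain ⟨d, hd⟩ := ENat.ne_top_iff_exists.1 h3
  exact ⟨d, by rw [← hy, ← hd]; rfl⟩

theorem spanFinrank_maximalIdeal_le_of_surjective {P R : Type*} [CommRing P] [IsLocalRing P]
    [IsNoetherianRing P] [CommRing R] [IsLocalRing R] (g : P →+* R) (hg : Function.Surjective g) :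
    (IsLocalRing.maximalIdeal R).spanFinrank ≤ (IsLocalRing.maximalIdeal P).spanFinrank := by
  have hmap : IsLocalRing.maximalIdeal R = (IsLocalRing.maximalIdeal P).map g := by
    apply le_antisymm
    · intro y hy
      obtain ⟨x, rfl⟩ := hg y
      refine Ideal.mem_map_of_mem g ?_
      rw [IsLocalRing.mem_maximalIdeal] at hy ⊢
      exact fun hu => hy (hu.map g)
    · rw [Ideal.map_le_iff_le_comap]
      intro x hx
      rw [Ideal.mem_comap, IsLocalRing.mem_maximalIdeal]
      intro hu
      obtain ⟨y, hy⟩ := hu.exists_right_inv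
      obtain ⟨z, rfl⟩ := hg y
      have h1 : x * z - 1 ∈ RingHom.ker g := by
        rw [RingHom.mem_ker, map_sub, map_mul, hy, map_one, sub_self]
      have h2 : x * z - 1 ∈ IsLocalRing.maximalIdeal P :=
        IsLocalRing.le_maximalIdeal (RingHom.ker_ne_top g) h1
      have h3 : x * z ∈ IsLocalRing.maximalIdeal P := Ideal.mul_mem_right _ _ hx
      have : (1 : P) ∈ IsLocalRing.maximalIdeal P := by
        have := (IsLocalRing.maximalIdeal P).sub_mem h3 h2
        simpa using this
      exact (IsLocalRing.maximalIdeal.isMaximal P).ne_top ((Ideal.eq_top_iff_one _).2 this)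
  rw [hmap]
  exact Ideal.spanFinrank_map_le_of_fg g (IsNoetherian.noetherian _)

/-- Dimension estimates for a quotient of a regular local ring by an ideal with at most `r` generators. -/
theorem dim_bounds_of_regular_surj {P R : Type u} [CommRing P] [IsRegularLocalRing P]
    [CommRing R] [IsLocalRing R] [IsNoetherianRing R] (g : P →+* R) (hg : Function.Surjective g)
    (r : ℕ) (hμ : (RingHom.ker g).spanFinrank ≤ r) :
    ringKrullDim R ≤ (Module.finrank (IsLocalRing.ResidueField R) (IsLocalRing.CotangentSpace R) : WithBot ℕ∞) ∧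
      (Module.finrank (IsLocalRing.ResidueField R) (IsLocalRing.CotangentSpace R) : WithBot ℕ∞) ≤
          ringKrullDim R + (r : WithBot ℕ∞) ∧
      (r = 0 → IsRegularLocalRing R) ∧
      (ringKrullDim R + (r : WithBot ℕ∞) =
          (Module.finrank (IsLocalRing.ResidueField R) (IsLocalRing.CotangentSpace R) : WithBot ℕ∞) →
        ∃ (P' : Type u) (_ : CommRing P') (_ : IsRegularLocalRing P') (π : P' →+* R) (s : Finset P'),
          Function.Surjective π ∧ Ideal.span (s : Set P') = RingHom.ker π ∧
            ringKrullDim P' = ringKrullDim R + (s.card : WithBot ℕ∞)) := by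
  rw [← IsLocalRing.spanFinrank_maximalIdeal_eq_finrank_cotangentSpace R]
  have hItop : RingHom.ker g ≠ ⊤ := RingHom.ker_ne_top g
  have hdimeq : ringKrullDim (P ⧸ RingHom.ker g) = ringKrullDim R :=
    ringKrullDim_eq_of_ringEquiv (RingHom.quotientKerEquivOfSurjective hg)
  have hdimP : ringKrullDim P = ((IsLocalRing.maximalIdeal P).spanFinrank : WithBot ℕ∞) :=
    (IsRegularLocalRing.spanFinrank_maximalIdeal (R := P)).symm
  have hbound := dim_bound_of_spanFinrank_le (RingHom.ker g) hItop _ hμ
  rw [hdimeq, hdimP] at hbound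
  have hbound' := dim_bound_of_spanFinrank_le (RingHom.ker g) hItop _ le_rfl
  rw [hdimeq, hdimP] at hbound'
  have hembd' : ((IsLocalRing.maximalIdeal R).spanFinrank : WithBot ℕ∞) ≤
      ((IsLocalRing.maximalIdeal P).spanFinrank : WithBot ℕ∞) := by
    exact_mod_cast spanFinrank_maximalIdeal_le_of_surjective g hg
  have hb : ((IsLocalRing.maximalIdeal R).spanFinrank : WithBot ℕ∞) ≤
      ringKrullDim R + (r : WithBot ℕ∞) := hembd'.trans hbound.1
  refine ⟨ringKrullDim_le_spanFinrank_maximalIdeal _, hb, ?_, ?_⟩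
  · intro h0
    apply IsRegularLocalRing.of_spanFinrank_maximalIdeal_le
    rw [h0] at hb
    simpa using hb
  · intro heq
    have h1 : ringKrullDim R + ((RingHom.ker g).spanFinrank : WithBot ℕ∞) =
        ((IsLocalRing.maximalIdeal P).spanFinrank : WithBot ℕ∞) := by
      apply le_antisymm _ hbound'.1
      calc ringKrullDim R + ((RingHom.ker g).spanFinrank : WithBot ℕ∞)
          ≤ ringKrullDim R + (r : WithBot ℕ∞) := by gcongr
        _ = ((IsLocalRing.maximalIdeal R).spanFinrank : WithBot ℕ∞) := heq
        _ ≤ _ := hembd'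
    obtain ⟨s, hs, hcard⟩ := hbound'.2 h1
    refine ⟨P, inferInstance, inferInstance, g, s, hg, hs, ?_⟩
    rw [hdimP]
    exact hcard.symm

end Generic

section Exchange

variable {P : Type*} [CommRing P] [IsLocalRing P] [IsNoetherianRing P]

/-- An element of `m \ m²` is part of a minimal generating set of `m`. -/
theorem exists_generators_insert {x : P} (hx : x ∈ IsLocalRing.maximalIdeal P)
    (hx2 : x ∉ IsLocalRing.maximalIdeal P ^ 2) :
    ∃ S : Finset P, S.card + 1 = (IsLocalRing.maximalIdeal P).spanFinrank ∧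
      IsLocalRing.maximalIdeal P = Ideal.span (insert x (S : Set P)) := by
  classical
  obtain ⟨S₀, hcard, hspan⟩ :=
    Submodule.FG.exists_span_finset_card_eq_spanFinrank (IsNoetherian.noetherian (IsLocalRing.maximalIdeal P))
  have hS₀m : ∀ y ∈ S₀, y ∈ IsLocalRing.maximalIdeal P := fun y hy => by
    rw [← hspan]; exact Submodule.subset_span hy
  have hxS : x ∈ Submodule.span P (S₀ : Set P) := by rw [hspan]; exact hx
  obtain ⟨f, hf⟩ := Submodule.mem_span_finset'.1 hxS
  -- some coefficient is a unit
  obtain ⟨y₀, hy₀⟩ : ∃ y₀ : S₀, IsUnit (f y₀) := by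
    by_contra hcon
    push Not at hcon
    apply hx2
    rw [← hf, pow_two]
    refine Ideal.sum_mem _ fun y _ => ?_
    rw [smul_eq_mul]
    exact Ideal.mul_mem_mul ((IsLocalRing.mem_maximalIdeal _).2 (hcon y)) (hS₀m y y.2)
  refine ⟨S₀.erase y₀, ?_, ?_⟩
  · rw [Finset.card_erase_of_mem y₀.2, ← hcard]
    have : 0 < S₀.card := Finset.card_pos.2 ⟨y₀, y₀.2⟩
    omega
  · apply le_antisymm
    · rw [← hspan, Submodule.span_le]
      intro y hy
      by_cases hyy : y = y₀
      · -- y₀ = u⁻¹ (x - Σ_{y ≠ y₀} f y y)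
        subst hyy
        obtain ⟨u, hu⟩ := hy₀
        have hsum : f y₀ * (y₀ : P) = x - ∑ z ∈ Finset.univ.erase y₀, f z • (z : P) := by
          rw [← hf, ← Finset.add_sum_erase Finset.univ _ (Finset.mem_univ y₀), smul_eq_mul]
          ring
        have hmem : f y₀ * (y₀ : P) ∈ Ideal.span (insert x ((S₀.erase (y₀ : P) : Finset P) : Set P)) := by
          rw [hsum]
          refine Ideal.sub_mem _ (Ideal.subset_span (Set.mem_insert _ _)) (Ideal.sum_mem _ fun z hz => ?_)
          rw [smul_eq_mul]
          refine Ideal.mul_mem_left _ _ (Ideal.subset_span (Set.mem_insert_of_mem _ ?_))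
          rw [Finset.mem_coe, Finset.mem_erase]
          refine ⟨fun h => (Finset.mem_erase.1 hz).1 (Subtype.ext h), z.2⟩
        have h5 := Ideal.mul_mem_left _ (↑u⁻¹ : P) hmem
        have h6 : (↑u⁻¹ : P) * (f y₀ * (y₀ : P)) = (y₀ : P) := by
          rw [← mul_assoc, ← hu, Units.inv_mul, one_mul]
        rw [h6] at h5
        exact h5
      · exact Ideal.subset_span (Set.mem_insert_of_mem _ (Finset.mem_coe.2 (Finset.mem_erase.2 ⟨hyy, hy⟩)))
    · rw [Ideal.span_le]
      intro y hy
      rcases hy with rfl | hy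
      · exact hx
      · exact hS₀m y (Finset.mem_of_mem_erase (Finset.mem_coe.1 hy))

end Exchange

section RegQuot

variable {P : Type*} [CommRing P] [IsRegularLocalRing P]

theorem isLocalRing_quot_of_le_maximalIdeal (I : Ideal P) (hI : I ≤ IsLocalRing.maximalIdeal P) :
    IsLocalRing (P ⧸ I) := by
  haveI : Nontrivial (P ⧸ I) := Ideal.Quotient.nontrivial_iff.2
    (fun h => (IsLocalRing.maximalIdeal.isMaximal P).ne_top (top_le_iff.1 (h ▸ hI)))
  exact IsLocalRing.of_surjective' (Ideal.Quotient.mk I) Ideal.Quotient.mk_surjective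

/-- The quotient of a regular local ring by an element of `m \ m²` is regular, of embedding dimension
one less. -/
theorem isRegularLocalRing_quot_singleton {x : P} [IsLocalRing (P ⧸ Ideal.span {x})]
    (hx : x ∈ IsLocalRing.maximalIdeal P) (hx2 : x ∉ IsLocalRing.maximalIdeal P ^ 2) :
    IsRegularLocalRing (P ⧸ Ideal.span {x}) ∧
      (IsLocalRing.maximalIdeal (P ⧸ Ideal.span {x})).spanFinrank + 1 ≤
        (IsLocalRing.maximalIdeal P).spanFinrank := by
  classical
  obtain ⟨S, hcard, hspan⟩ := exists_generators_insert hx hx2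
  -- generators of the maximal ideal of the quotient
  have hmap : IsLocalRing.maximalIdeal (P ⧸ Ideal.span {x}) =
      Ideal.span ((Ideal.Quotient.mk (Ideal.span {x})) '' (S : Set P)) := by
    have h1 : IsLocalRing.maximalIdeal (P ⧸ Ideal.span {x}) =
        (IsLocalRing.maximalIdeal P).map (Ideal.Quotient.mk (Ideal.span {x})) := by
      apply le_antisymm
      · intro y hy
        obtain ⟨z, rfl⟩ := Ideal.Quotient.mk_surjective y
        refine Ideal.mem_map_of_mem _ ?_
        rw [IsLocalRing.mem_maximalIdeal] at hy ⊢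
        exact fun hu => hy (hu.map _)
      · rw [Ideal.map_le_iff_le_comap]
        intro z hz
        rw [Ideal.mem_comap, IsLocalRing.mem_maximalIdeal]
        intro hu
        obtain ⟨y, hy⟩ := hu.exists_right_inv
        obtain ⟨w, rfl⟩ := Ideal.Quotient.mk_surjective y
        have h1 : z * w - 1 ∈ Ideal.span {x} := by
          rw [← Ideal.Quotient.eq_zero_iff_mem, map_sub, map_mul, hy, map_one, sub_self]
        have h2 : z * w - 1 ∈ IsLocalRing.maximalIdeal P :=
          (Ideal.span_le.2 (Set.singleton_subset_iff.2 hx)) h1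
        have h3 : z * w ∈ IsLocalRing.maximalIdeal P := Ideal.mul_mem_right _ _ hz
        have : (1 : P) ∈ IsLocalRing.maximalIdeal P := by
          have := (IsLocalRing.maximalIdeal P).sub_mem h3 h2
          simpa using this
        exact (IsLocalRing.maximalIdeal.isMaximal P).ne_top ((Ideal.eq_top_iff_one _).2 this)
    rw [h1, hspan, Ideal.map_span, Set.image_insert_eq]
    have h0 : Ideal.Quotient.mk (Ideal.span {x}) x = 0 :=
      Ideal.Quotient.eq_zero_iff_mem.2 (Ideal.subset_span rfl)
    rw [h0, Ideal.span_insert_zero]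
  have hle : (IsLocalRing.maximalIdeal (P ⧸ Ideal.span {x})).spanFinrank ≤ S.card := by
    rw [hmap]
    calc (Ideal.span ((Ideal.Quotient.mk (Ideal.span {x})) '' (S : Set P))).spanFinrank
        ≤ ((Ideal.Quotient.mk (Ideal.span {x})) '' (S : Set P)).ncard :=
          Submodule.spanFinrank_span_le_ncard_of_finite (S.finite_toSet.image _)
      _ ≤ (S : Set P).ncard := Set.ncard_image_le S.finite_toSet
      _ = S.card := Set.ncard_coe_finset S
  refine ⟨?_, by omega⟩
  apply IsRegularLocalRing.of_spanFinrank_maximalIdeal_le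
  obtain ⟨d', hd'⟩ := exists_nat_ringKrullDim (P ⧸ Ideal.span {x})
  have hdim : ringKrullDim P ≤ ringKrullDim (P ⧸ Ideal.span {x}) + 1 := by
    have := ringKrullDim_le_ringKrullDim_quotient_add_encard ({x} : Set P) (by
      rw [IsLocalRing.ringJacobson_eq_maximalIdeal]
      exact Set.singleton_subset_iff.2 hx)
    simpa using this
  rw [← IsRegularLocalRing.spanFinrank_maximalIdeal (R := P), hd'] at hdim
  rw [hd']
  have hdim' : (IsLocalRing.maximalIdeal P).spanFinrank ≤ d' + 1 := by exact_mod_cast hdim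
  have : (IsLocalRing.maximalIdeal (P ⧸ Ideal.span {x})).spanFinrank ≤ d' := by omega
  exact_mod_cast this

end RegQuot

section EssFT

variable (k : Type u) [Field k] (R : Type u) [CommRing R] [IsLocalRing R] [Algebra k R]
  [Algebra.EssFiniteType k R]

/-- A local `k`-algebra essentially of finite type is a quotient of a regular local `k`-algebra
(a localization of a polynomial ring). -/
theorem exists_regular_surj :
    ∃ (P : Type u) (_ : CommRing P) (_ : IsRegularLocalRing P) (_ : Algebra k P) (g : P →ₐ[k] R),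
      Function.Surjective g := by
  obtain ⟨σ, hσ⟩ := (Algebra.essFiniteType_iff k R).1 inferInstance
  haveI : Finite ↥(σ : Set R) := Set.finite_coe_iff.2 σ.finite_toSet
  let ev : MvPolynomial ↥(σ : Set R) k →ₐ[k] R := MvPolynomial.aeval ((↑) : ↥(σ : Set R) → R)
  have hrange : ∀ t ∈ Algebra.adjoin k (σ : Set R), ∃ f, ev f = t := by
    intro t ht
    rw [Algebra.adjoin_eq_range] at ht
    exact ht
  let 𝔫 : Ideal (MvPolynomial ↥(σ : Set R) k) := (IsLocalRing.maximalIdeal R).comap ev
  haveI : 𝔫.IsPrime := Ideal.comap_isPrime ev _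
  have hunit : ∀ y : 𝔫.primeCompl, IsUnit (ev y) := by
    intro y
    have h1 : (y : MvPolynomial ↥(σ : Set R) k) ∉ 𝔫 := y.2
    rw [Ideal.mem_comap] at h1
    exact IsLocalRing.notMem_maximalIdeal.1 h1
  let g : Localization.AtPrime 𝔫 →ₐ[k] R :=
    IsLocalization.liftAlgHom (M := 𝔫.primeCompl) (f := ev) hunit
  refine ⟨Localization.AtPrime 𝔫, inferInstance, inferInstance, inferInstance, g, ?_⟩
  intro s
  obtain ⟨t, ht, htu, hst⟩ := hσ s
  obtain ⟨h, rfl⟩ := hrange t ht
  obtain ⟨f, hf⟩ := hrange _ hst
  have hh : h ∈ 𝔫.primeCompl := by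
    intro hmem
    exact (IsLocalRing.mem_maximalIdeal _).1 (Ideal.mem_comap.1 hmem) htu
  refine ⟨IsLocalization.mk' (Localization.AtPrime 𝔫) f ⟨h, hh⟩, ?_⟩
  have hgalg : ∀ q, g (algebraMap _ (Localization.AtPrime 𝔫) q) = ev q := fun q =>
    IsLocalization.lift_eq hunit q
  have h1 : g (IsLocalization.mk' (Localization.AtPrime 𝔫) f ⟨h, hh⟩) * ev h = s * ev h := by
    have h2 : IsLocalization.mk' (Localization.AtPrime 𝔫) f ⟨h, hh⟩ *
        algebraMap _ (Localization.AtPrime 𝔫) h = algebraMap _ (Localization.AtPrime 𝔫) f :=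
      IsLocalization.mk'_spec (Localization.AtPrime 𝔫) f ⟨h, hh⟩
    rw [← hgalg h, ← map_mul, h2, hgalg, hgalg, hf]
  exact htu.mul_right_cancel h1

/-- The regular presentation can be chosen minimal: kernel inside the square of the maximal ideal. -/
theorem exists_minimal_regular_surj :
    ∃ (P : Type u) (_ : CommRing P) (_ : IsRegularLocalRing P) (_ : Algebra k P) (g : P →ₐ[k] R),
      Function.Surjective g ∧ RingHom.ker g ≤ IsLocalRing.maximalIdeal P ^ 2 := by
  classical
  let Q : ℕ → Prop := fun n => ∃ (P : Type u) (_ : CommRing P) (_ : IsRegularLocalRing P)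
    (_ : Algebra k P) (g : P →ₐ[k] R), Function.Surjective g ∧
      (IsLocalRing.maximalIdeal P).spanFinrank = n
  have hex : ∃ n, Q n := by
    obtain ⟨P, i1, i2, i3, g, hg⟩ := exists_regular_surj k R
    exact ⟨_, P, i1, i2, i3, g, hg, rfl⟩
  obtain ⟨P, i1, i2, i3, g, hg, hn⟩ := Nat.find_spec hex
  refine ⟨P, i1, i2, i3, g, hg, ?_⟩
  by_contra hcon
  obtain ⟨x, hxk, hx2⟩ := SetLike.not_le_iff_exists.1 hcon
  have hxm : x ∈ IsLocalRing.maximalIdeal P := IsLocalRing.le_maximalIdeal (RingHom.ker_ne_top g) hxk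
  haveI : IsLocalRing (P ⧸ Ideal.span {x}) :=
    isLocalRing_quot_of_le_maximalIdeal _ (Ideal.span_le.2 (Set.singleton_subset_iff.2 hxm))
  obtain ⟨hreg, hlt⟩ := isRegularLocalRing_quot_singleton hxm hx2
  let g' : (P ⧸ Ideal.span {x}) →ₐ[k] R := Ideal.Quotient.liftₐ (Ideal.span {x}) g (by
    intro a ha
    have : Ideal.span {x} ≤ RingHom.ker g := Ideal.span_le.2 (Set.singleton_subset_iff.2 hxk)
    exact RingHom.mem_ker.1 (this ha))
  have hg' : Function.Surjective g' := fun y => by
    obtain ⟨a, rfl⟩ := hg y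
    exact ⟨Ideal.Quotient.mk _ a, rfl⟩
  have hQ : Q (IsLocalRing.maximalIdeal (P ⧸ Ideal.span {x})).spanFinrank :=
    ⟨P ⧸ Ideal.span {x}, inferInstance, hreg, inferInstance, g', hg', rfl⟩
  have := Nat.find_min' hex hQ
  omega

end EssFT

end Groth.Agent.Lib.Helper19
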