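import Groth.Agent.Lib.Helper19ComplDim2
import Groth.Agent.Lib.Helper19RegPres
import Groth.Agent.Lib.Helper5RLR
import Mathlib.RingTheory.KrullDimension.NonZeroDivisors

/-!
# Isomorphisms of completions from cotangent and dimension data (helper19)
-/

set_option autoImplicit false
universe u

open IsLocalRing

namespace Groth.Agent.Lib.Helper19

section DimInj

/-- A surjection from a Noetherian local domain onto a ring of at least the same dimension is injective. -/
theorem injective_of_surjective_of_ringKrullDim_le {P R : Type*} [CommRing P] [IsDomain P]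
    [IsLocalRing P] [IsNoetherianRing P] [CommRing R] (q : P →+* R) (hq : Function.Surjective q)
    (h : ringKrullDim P ≤ ringKrullDim R) : Function.Injective q := by
  obtain ⟨d, hd⟩ := exists_nat_ringKrullDim P
  rw [injective_iff_map_eq_zero]
  intro x hx
  by_contra hx0
  have hxnzd : x ∈ nonZeroDivisors P := mem_nonZeroDivisors_of_ne_zero hx0
  have h1 := ringKrullDim_quotient_succ_le_of_nonZeroDivisor hxnzd
  have hker : Ideal.span {x} ≤ RingHom.ker q := by
    rw [Ideal.span_le, Set.singleton_subset_iff]
    exact hx
  let q' : P ⧸ Ideal.span {x} →+* R := Ideal.Quotient.lift _ q hker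
  have hq' : Function.Surjective q' := by
    intro y
    obtain ⟨p, rfl⟩ := hq y
    exact ⟨Ideal.Quotient.mk _ p, rfl⟩
  have h2 := ringKrullDim_le_of_surjective q' hq'
  rw [hd] at h h1
  have h3 : (d : WithBot ℕ∞) + 1 ≤ d := le_trans (by gcongr; exact h.trans h2) h1
  have h4 : ((d + 1 : ℕ) : WithBot ℕ∞) ≤ (d : ℕ) := by exact_mod_cast h3
  have h5 : d + 1 ≤ d := by exact_mod_cast h4
  omega

end DimInj

section ComplIso

variable (A B : Type u) [CommRing A] [CommRing B] [IsRegularLocalRing A] [IsLocalRing B]
  [IsNoetherianRing B]

/-- A local homomorphism from a regular local ring to a Noetherian local ring of the same dimension, with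
trivial residue field extension and surjective on cotangent spaces, induces an isomorphism of
completions. -/
theorem adicCompletion_map_bijective (φ : A →+* B) [IsLocalHom φ]
    (hk : Function.Bijective (IsLocalRing.ResidueField.map φ))
    (hdim : ringKrullDim B = ringKrullDim A)
    (hcot : maximalIdeal B ≤ Ideal.map φ (maximalIdeal A) ⊔ maximalIdeal B ^ 2)
    (ψ : AdicCompletion (maximalIdeal A) A →+* AdicCompletion (maximalIdeal B) B)
    (hψ : ψ.comp (algebraMap A (AdicCompletion (maximalIdeal A) A)) =
      (algebraMap B (AdicCompletion (maximalIdeal B) B)).comp φ) :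
    Function.Bijective ψ := by
  have hψa : ∀ a, ψ (algebraMap A (AdicCompletion (maximalIdeal A) A) a) =
      algebraMap B (AdicCompletion (maximalIdeal B) B) (φ a) := fun a => RingHom.congr_fun hψ a
  have hmA : maximalIdeal (AdicCompletion (maximalIdeal A) A) =
      (maximalIdeal A).map (algebraMap A (AdicCompletion (maximalIdeal A) A)) :=
    AdicCompletion.maximalIdeal_eq_map
  have hmB : maximalIdeal (AdicCompletion (maximalIdeal B) B) =
      (maximalIdeal B).map (algebraMap B (AdicCompletion (maximalIdeal B) B)) :=
    AdicCompletion.maximalIdeal_eq_map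
  -- the image of the maximal ideal
  have hle : (maximalIdeal (AdicCompletion (maximalIdeal A) A)).map ψ ≤
      maximalIdeal (AdicCompletion (maximalIdeal B) B) := by
    rw [hmA, Ideal.map_map, hψ, ← Ideal.map_map, hmB]
    apply Ideal.map_mono
    exact ((IsLocalRing.local_hom_TFAE φ).out 0 2).mp ‹_›
  have hmap : (maximalIdeal (AdicCompletion (maximalIdeal A) A)).map ψ =
      maximalIdeal (AdicCompletion (maximalIdeal B) B) := by
    apply le_antisymm hle
    apply Submodule.le_of_le_smul_of_le_jacobson_bot
      (I := maximalIdeal (AdicCompletion (maximalIdeal B) B))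
      (IsNoetherian.noetherian _) (IsLocalRing.maximalIdeal_le_jacobson _)
    rw [smul_eq_mul, ← pow_two]
    conv_lhs => rw [hmB]
    refine le_trans (Ideal.map_mono hcot) ?_
    rw [Ideal.map_sup]
    apply sup_le_sup
    · apply le_of_eq
      calc Ideal.map (algebraMap B (AdicCompletion (maximalIdeal B) B)) (Ideal.map φ (maximalIdeal A))
          = Ideal.map ((algebraMap B (AdicCompletion (maximalIdeal B) B)).comp φ) (maximalIdeal A) :=
            Ideal.map_map _ _
        _ = Ideal.map (ψ.comp (algebraMap A (AdicCompletion (maximalIdeal A) A))) (maximalIdeal A) := by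
            rw [hψ]
        _ = Ideal.map ψ (Ideal.map (algebraMap A (AdicCompletion (maximalIdeal A) A)) (maximalIdeal A)) :=
            (Ideal.map_map _ _).symm
        _ = _ := by rw [hmA]
    · rw [Ideal.map_pow, ← hmB]
  -- surjectivity
  have hsurj : Function.Surjective ψ := by
    haveI : IsHausdorff ((maximalIdeal (AdicCompletion (maximalIdeal A) A)).map ψ)
        (AdicCompletion (maximalIdeal B) B) := by
      rw [hmap]; infer_instance
    apply surjective_of_mk_map_comp_surjective ψ
      (I := maximalIdeal (AdicCompletion (maximalIdeal A) A))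
    intro y
    obtain ⟨bh, rfl⟩ := Ideal.Quotient.mk_surjective y
    obtain ⟨b, hb⟩ := exists_sub_algebraMap_mem_map B (maximalIdeal B) bh
    obtain ⟨a', ha'⟩ := hk.2 (IsLocalRing.residue B b)
    obtain ⟨a, rfl⟩ := IsLocalRing.residue_surjective a'
    rw [IsLocalRing.ResidueField.map_residue] at ha'
    have hab : φ a - b ∈ maximalIdeal B := (Ideal.Quotient.mk_eq_mk_iff_sub_mem _ _).1 ha'
    refine ⟨algebraMap A _ a, ?_⟩
    rw [RingHom.comp_apply, hψa, Ideal.Quotient.mk_eq_mk_iff_sub_mem, hmap, hmB]
    have : algebraMap B (AdicCompletion (maximalIdeal B) B) (φ a) - bh =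
        algebraMap B (AdicCompletion (maximalIdeal B) B) (φ a - b) -
          (bh - algebraMap B (AdicCompletion (maximalIdeal B) B) b) := by
      rw [map_sub]; ring
    rw [this]
    exact Ideal.sub_mem _ (Ideal.mem_map_of_mem _ hab) hb
  -- injectivity by dimension
  haveI hreg : IsRegularLocalRing (AdicCompletion (maximalIdeal A) A) :=
    (isRegularLocalRing_adicCompletion_iff A).1 inferInstance
  haveI : IsDomain (AdicCompletion (maximalIdeal A) A) :=
    Groth.Agent.Lib.Helper5.isDomain_of_isRegularLocalRing _
  refine ⟨injective_of_surjective_of_ringKrullDim_le ψ hsurj ?_, hsurj⟩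
  rw [ringKrullDim_adicCompletion_maximalIdeal, ringKrullDim_adicCompletion_maximalIdeal, hdim]

end ComplIso

end Groth.Agent.Lib.Helper19
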