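import Groth.Agent.Lib.Helper19PsDim
import Groth.Agent.Lib.Helper19RegPres

/-!
# Power series rings over regular local rings are regular; minimal regular presentations (helper19)
-/

set_option autoImplicit false
set_option linter.style.haveILetI false
set_option linter.unusedSectionVars false
universe u

namespace Groth.Agent.Lib.Helper19

open IsLocalRing MvPowerSeries

section PsRegular

variable (W : Type u) [CommRing W]

/-- `dim W[[x_1..x_n]] ≥ dim W + n`. -/
theorem ringKrullDim_add_le_ringKrullDim_mvPowerSeries (n : ℕ) :
    ringKrullDim W + (n : WithBot ℕ∞) ≤ ringKrullDim (MvPowerSeries (Fin n) W) := by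
  induction n with
  | zero =>
    simp only [Nat.cast_zero, add_zero]
    exact (ringKrullDim_eq_of_ringEquiv (MvPowerSeries.isEmptyEquiv (Fin 0) W).toRingEquiv).ge
  | succ n ih =>
    rw [ringKrullDim_eq_of_ringEquiv (MvPowerSeries.finSuccEquiv W n).toRingEquiv]
    refine le_trans ?_ ringKrullDim_succ_le_ringKrullDim_powerseries
    push_cast
    rw [← add_assoc]
    gcongr

variable [IsLocalRing W] [IsNoetherianRing W]

theorem spanFinrank_maximalIdeal_mvPowerSeries_le_add (n : ℕ) :
    (maximalIdeal (MvPowerSeries (Fin n) W)).spanFinrank ≤ (maximalIdeal W).spanFinrank + n := by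
  classical
  have hfg : (maximalIdeal W).FG := IsNoetherian.noetherian _
  set S : Set W := Submodule.generators (maximalIdeal W) with hS
  have hSfin : S.Finite := Submodule.FG.finite_generators hfg
  have hScard : S.ncard = (maximalIdeal W).spanFinrank := Submodule.FG.generators_ncard hfg
  have hSspan : Ideal.span S = maximalIdeal W := Submodule.span_generators (maximalIdeal W)
  let G : Set (MvPowerSeries (Fin n) W) :=
    (C : W →+* MvPowerSeries (Fin n) W) '' S ∪
      Set.range (MvPowerSeries.X : Fin n → MvPowerSeries (Fin n) W)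
  have hGfin : G.Finite := (hSfin.image _).union (Set.finite_range _)
  have hm : maximalIdeal (MvPowerSeries (Fin n) W) = Ideal.span G := by
    apply le_antisymm
    · intro g hg
      rw [maximalIdeal_eq_coeffIdeal, mem_coeffIdeal_one] at hg
      have h1 : g - C (constantCoeff g) ∈ varsIdeal (Fin n) W ^ 1 := by
        apply mem_varsIdeal_pow_of_coeff_eq_zero
        intro α hα
        have hα0 : α = 0 := by
          rw [Nat.lt_one_iff] at hα
          exact (Finsupp.degree_eq_zero_iff α).1 hα
        rw [hα0, map_sub, coeff_zero_eq_constantCoeff_apply, coeff_zero_eq_constantCoeff_apply,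
          constantCoeff_C, sub_self]
      rw [pow_one] at h1
      have h2 : varsIdeal (Fin n) W ≤ Ideal.span G :=
        Ideal.span_mono Set.subset_union_right
      have h3 : C (constantCoeff g) ∈ Ideal.span G := by
        have h4 : (maximalIdeal W).map (C : W →+* MvPowerSeries (Fin n) W) ≤ Ideal.span G := by
          rw [← hSspan, Ideal.map_span]
          exact Ideal.span_mono Set.subset_union_left
        exact h4 (Ideal.mem_map_of_mem _ hg)
      have := Ideal.add_mem _ (h2 h1) h3
      rwa [sub_add_cancel] at this
    · rw [Ideal.span_le]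
      rintro g (⟨c, hc, rfl⟩ | ⟨s, rfl⟩)
      · rw [SetLike.mem_coe, maximalIdeal_eq_coeffIdeal, mem_coeffIdeal_one, constantCoeff_C,
          ← hSspan]
        exact Ideal.subset_span hc
      · rw [SetLike.mem_coe, maximalIdeal_eq_coeffIdeal]
        exact X_mem_coeffIdeal_one _ s
  rw [hm]
  calc (Ideal.span G).spanFinrank ≤ G.ncard :=
        Submodule.spanFinrank_span_le_ncard_of_finite hGfin
    _ ≤ ((C : W →+* MvPowerSeries (Fin n) W) '' S).ncard +
          (Set.range (MvPowerSeries.X : Fin n → MvPowerSeries (Fin n) W)).ncard :=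
        Set.ncard_union_le _ _
    _ ≤ S.ncard + n := by
        apply add_le_add
        · exact Set.ncard_image_le hSfin
        · calc (Set.range (MvPowerSeries.X : Fin n → MvPowerSeries (Fin n) W)).ncard
              ≤ Nat.card (Fin n) := by
                rw [← Set.ncard_univ, ← Set.image_univ]
                exact Set.ncard_image_le Set.finite_univ
            _ = n := by simp
    _ = (maximalIdeal W).spanFinrank + n := by rw [hScard]

/-- a power series ring in finitely many variables over a regular local ring is regular -/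
theorem isRegularLocalRing_mvPowerSeries_of_isRegularLocalRing [IsRegularLocalRing W] (n : ℕ) :
    IsRegularLocalRing (MvPowerSeries (Fin n) W) := by
  apply IsRegularLocalRing.of_spanFinrank_maximalIdeal_le
  refine le_trans ?_ (ringKrullDim_add_le_ringKrullDim_mvPowerSeries W n)
  rw [← IsRegularLocalRing.spanFinrank_maximalIdeal (R := W)]
  exact_mod_cast spanFinrank_maximalIdeal_mvPowerSeries_le_add W n

end PsRegular

end Groth.Agent.Lib.Helper19

namespace Groth.Agent.Lib.Helper19

open IsLocalRing

/-- A regular presentation of a local ring can be chosen minimal: kernel inside the square of the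
maximal ideal (ring version). -/
theorem exists_minimal_regular_surj_ring {R : Type u} [CommRing R] [IsLocalRing R]
    (h : ∃ (P : Type u) (_ : CommRing P) (_ : IsRegularLocalRing P) (g : P →+* R),
      Function.Surjective g) :
    ∃ (P : Type u) (_ : CommRing P) (_ : IsRegularLocalRing P) (g : P →+* R),
      Function.Surjective g ∧ RingHom.ker g ≤ maximalIdeal P ^ 2 := by
  classical
  let Q : ℕ → Prop := fun n => ∃ (P : Type u) (_ : CommRing P) (_ : IsRegularLocalRing P)
    (g : P →+* R), Function.Surjective g ∧ (maximalIdeal P).spanFinrank = n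
  have hex : ∃ n, Q n := by
    obtain ⟨P, i1, i2, g, hg⟩ := h
    exact ⟨_, P, i1, i2, g, hg, rfl⟩
  obtain ⟨P, i1, i2, g, hg, hn⟩ := Nat.find_spec hex
  refine ⟨P, i1, i2, g, hg, ?_⟩
  by_contra hcon
  obtain ⟨x, hxk, hx2⟩ := SetLike.not_le_iff_exists.1 hcon
  have hxm : x ∈ maximalIdeal P := IsLocalRing.le_maximalIdeal (RingHom.ker_ne_top g) hxk
  haveI : IsLocalRing (P ⧸ Ideal.span {x}) :=
    isLocalRing_quot_of_le_maximalIdeal _ (Ideal.span_le.2 (Set.singleton_subset_iff.2 hxm))
  obtain ⟨hreg, hlt⟩ := isRegularLocalRing_quot_singleton hxm hx2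
  let g' : (P ⧸ Ideal.span {x}) →+* R := Ideal.Quotient.lift (Ideal.span {x}) g (by
    intro a ha
    have : Ideal.span {x} ≤ RingHom.ker g := Ideal.span_le.2 (Set.singleton_subset_iff.2 hxk)
    exact RingHom.mem_ker.1 (this ha))
  have hg' : Function.Surjective g' := fun y => by
    obtain ⟨a, rfl⟩ := hg y
    exact ⟨Ideal.Quotient.mk _ a, rfl⟩
  have hQ : Q (maximalIdeal (P ⧸ Ideal.span {x})).spanFinrank :=
    ⟨P ⧸ Ideal.span {x}, inferInstance, hreg, g', hg', rfl⟩
  have := Nat.find_min' hex hQ
  omega

end Groth.Agent.Lib.Helper19
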