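import Groth.Agent.Lib.Helper19FilteredComplete
import Groth.Agent.Lib.Helper19PsRegular
import Groth.Agent.Lib.Helper19CohenStructure
import Groth.Agent.Lib.Helper19ComplIso
import Groth.Agent.Lib.Helper5IntDim

/-!
# Power series normalization of complete local domains (EGA 0_IV 19.8.8 (ii)) (helper19)
-/

set_option autoImplicit false
set_option linter.style.haveILetI false
set_option linter.unusedSectionVars false
universe u

namespace Groth.Agent.Lib.Helper19.Normalization

open IsLocalRing

section Nakayama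

variable {P M : Type*} [CommRing P] (I : Ideal P) [IsAdicComplete I P]
  [AddCommGroup M] [Module P M] [IsHausdorff I M]

/-- complete Nakayama: generators modulo `I` generate a separated module over a complete ring -/
theorem span_eq_top_of_isAdicComplete {r : ℕ} (x : Fin r → M)
    (h : ⊤ ≤ Submodule.span P (Set.range x) ⊔ (I • ⊤ : Submodule P M)) :
    Submodule.span P (Set.range x) = ⊤ := by
  classical
  rw [eq_top_iff]
  intro y _
  have key := exists_coeff_of_approx I (fun k : ℕ => (I ^ k • ⊤ : Submodule P M))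
    (fun y hy => IsHausdorff.haus' (I := I) y fun n => by
      rw [SModEq.zero]
      exact hy n) x 0
    (by
      intro k y hy
      have h1 : (I ^ k • ⊤ : Submodule P M) ≤
          I ^ k • Submodule.span P (Set.range x) ⊔ I ^ (k + 1) • ⊤ := by
        calc (I ^ k • ⊤ : Submodule P M)
            ≤ I ^ k • (Submodule.span P (Set.range x) ⊔ (I • ⊤ : Submodule P M)) :=
              Submodule.smul_mono le_rfl h
          _ = I ^ k • Submodule.span P (Set.range x) ⊔ I ^ k • (I • ⊤ : Submodule P M) :=
              Submodule.smul_sup _ _ _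
          _ = I ^ k • Submodule.span P (Set.range x) ⊔ I ^ (k + 1) • ⊤ := by
              rw [← mul_smul, ← pow_succ]
      obtain ⟨n', hn', z, hz, rfl⟩ := Submodule.mem_sup.1 (h1 hy)
      obtain ⟨a, ha, rfl⟩ := (Submodule.mem_ideal_smul_span_iff_exists_sum _ _ _).1 hn'
      refine ⟨fun i => a i, fun i => by simpa using ha i, ?_⟩
      have hsum : (a.sum fun i c => c • x i) = ∑ i, a i • x i :=
        Finsupp.sum_fintype _ _ (fun i => zero_smul _ _)
      rw [hsum, add_sub_cancel_left]
      exact hz)
    (by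
      intro k i a ha
      rw [add_zero] at ha
      exact Submodule.smul_mem_smul ha Submodule.mem_top)
    y (by rw [pow_zero, Ideal.one_eq_top, Submodule.top_smul]; exact Submodule.mem_top)
  obtain ⟨a, -, rfl⟩ := key
  exact Submodule.sum_mem _ fun i _ => Submodule.smul_mem _ _ (Submodule.subset_span ⟨i, rfl⟩)

/-- complete Nakayama, finiteness version -/
theorem finite_of_finite_quotient_of_isAdicComplete
    (h : Module.Finite P (M ⧸ (I • ⊤ : Submodule P M))) : Module.Finite P M := by
  obtain ⟨r, xb, hxb⟩ := Module.Finite.exists_fin (R := P) (M := M ⧸ (I • ⊤ : Submodule P M))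
  choose x hx using fun i => Submodule.Quotient.mk_surjective _ (xb i)
  have h1 : ⊤ ≤ Submodule.span P (Set.range x) ⊔ (I • ⊤ : Submodule P M) := by
    intro y _
    have h2 : Submodule.Quotient.mk y ∈ Submodule.span P (Set.range xb) := by
      rw [hxb]; exact Submodule.mem_top
    have h3 : Set.range xb = (I • ⊤ : Submodule P M).mkQ '' Set.range x := by
      rw [← Set.range_comp]
      congr 1
      funext i
      exact (hx i).symm
    rw [h3, ← Submodule.map_span] at h2
    obtain ⟨n', hn', hn'y⟩ := h2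
    rw [Submodule.mkQ_apply, Submodule.Quotient.eq] at hn'y
    rw [Submodule.mem_sup]
    refine ⟨n', hn', y - n', ?_, by abel⟩
    have := Submodule.neg_mem _ hn'y
    rwa [neg_sub] at this
  have h4 := span_eq_top_of_isAdicComplete I x h1
  exact Module.Finite.of_fg_top (by
    rw [← h4]
    exact Submodule.fg_span (Set.finite_range x))

end Nakayama

section Artinian

variable {P R₁ : Type*} [CommRing P] [CommRing R₁] [IsLocalRing R₁] [IsArtinianRing R₁]
  [Algebra P R₁]

/-- an Artinian local `P`-algebra whose residue field is finitely generated as a `P`-module is a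
finite `P`-module -/
theorem finite_of_isArtinianRing_of_residue {s : ℕ} (b : Fin s → R₁)
    (hb : ∀ r : R₁, ∃ c : Fin s → P, r - ∑ l, c l • b l ∈ maximalIdeal R₁) :
    Module.Finite P R₁ := by
  classical
  obtain ⟨N, hN⟩ : ∃ N : ℕ, maximalIdeal R₁ ^ N = ⊥ := by
    have h := IsArtinianRing.isNilpotent_jacobson_bot (R := R₁)
    rw [IsLocalRing.jacobson_eq_maximalIdeal ⊥ bot_ne_top] at h
    exact h
  have key : ∀ i : ℕ, i ≤ N → ((maximalIdeal R₁ ^ (N - i)).restrictScalars P).FG := by
    intro i
    induction i with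
    | zero =>
      intro _
      rw [Nat.sub_zero, hN]
      have : (⊥ : Ideal R₁).restrictScalars P = ⊥ := by
        ext x; simp
      rw [this]
      exact Submodule.fg_bot
    | succ i ih =>
      intro hi
      have hi' : i ≤ N := by omega
      obtain ⟨j, hj⟩ : ∃ j, N - (i + 1) = j := ⟨_, rfl⟩
      have hj' : N - i = j + 1 := by omega
      rw [hj]
      have ih' := ih hi'
      rw [hj'] at ih'
      -- generators of `𝔪 ^ j` over `R₁`
      obtain ⟨r, g, hg⟩ := Submodule.fg_iff_exists_fin_generating_family.1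
        (IsNoetherian.noetherian (maximalIdeal R₁ ^ j))
      have hgm : ∀ t, g t ∈ maximalIdeal R₁ ^ j := fun t => by
        rw [← hg]; exact Submodule.subset_span ⟨t, rfl⟩
      let T : Submodule P R₁ :=
        Submodule.span P (Set.range fun lt : Fin s × Fin r => b lt.1 * g lt.2) ⊔
          (maximalIdeal R₁ ^ (j + 1)).restrictScalars P
      have hT : T.FG := Submodule.FG.sup (Submodule.fg_span (Set.finite_range _)) ih'
      have hle : T ≤ (maximalIdeal R₁ ^ j).restrictScalars P := by
        apply sup_le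
        · rw [Submodule.span_le]
          rintro _ ⟨⟨l, t⟩, rfl⟩
          exact Ideal.mul_mem_left _ _ (hgm t)
        · intro x hx
          exact Ideal.pow_le_pow_right (Nat.le_succ j) hx
      have hge : (maximalIdeal R₁ ^ j).restrictScalars P ≤ T := by
        intro x hx
        have hx' : x ∈ Submodule.span R₁ (Set.range g) := by rw [hg]; exact hx
        obtain ⟨ρ, rfl⟩ := (Submodule.mem_span_range_iff_exists_fun R₁).1 hx'
        apply Submodule.sum_mem
        intro t _
        obtain ⟨c, hc⟩ := hb (ρ t)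
        have h1 : ρ t • g t = ∑ l, c l • (b l * g t) + (ρ t - ∑ l, c l • b l) * g t := by
          rw [smul_eq_mul, sub_mul, Finset.sum_mul]
          simp only [smul_mul_assoc]
          ring
        rw [h1]
        apply Submodule.add_mem
        · apply Submodule.mem_sup_left
          apply Submodule.sum_mem
          intro l _
          exact Submodule.smul_mem _ _ (Submodule.subset_span ⟨(l, t), rfl⟩)
        · apply Submodule.mem_sup_right
          change _ ∈ maximalIdeal R₁ ^ (j + 1)
          rw [pow_succ']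
          exact Ideal.mul_mem_mul hc (hgm t)
      rw [← le_antisymm hle hge]
      exact hT
  have h0 := key N le_rfl
  rw [Nat.sub_self, pow_zero, Ideal.one_eq_top] at h0
  have : (⊤ : Ideal R₁).restrictScalars P = ⊤ := by
    ext x; simp
  rw [this] at h0
  exact Module.Finite.of_fg_top h0

end Artinian

section Quot

theorem isLocalRing_quotient_of_le {R : Type*} [CommRing R] [IsLocalRing R] (Q : Ideal R)
    (hQ : Q ≤ maximalIdeal R) : IsLocalRing (R ⧸ Q) := by
  haveI : Nontrivial (R ⧸ Q) := Ideal.Quotient.nontrivial_iff.2 fun h =>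
    (IsLocalRing.maximalIdeal.isMaximal R).ne_top (top_le_iff.1 (h ▸ hQ))
  exact IsLocalRing.of_surjective' (Ideal.Quotient.mk Q) Ideal.Quotient.mk_surjective

theorem mk_mem_maximalIdeal_of_mem {R : Type*} [CommRing R] [IsLocalRing R] (Q : Ideal R)
    (hQ : Q ≤ maximalIdeal R) [IsLocalRing (R ⧸ Q)] {x : R} (hx : x ∈ maximalIdeal R) :
    Ideal.Quotient.mk Q x ∈ maximalIdeal (R ⧸ Q) := by
  rw [mem_maximalIdeal, mem_nonunits_iff]
  intro hu
  obtain ⟨zb, hz⟩ := hu.exists_right_inv
  obtain ⟨z, rfl⟩ := Ideal.Quotient.mk_surjective zb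
  rw [← map_mul, ← map_one (Ideal.Quotient.mk Q), Ideal.Quotient.eq] at hz
  have h1 : x * z ∈ maximalIdeal R := Ideal.mul_mem_right _ _ hx
  have h2 : (1 : R) ∈ maximalIdeal R := by
    have := Ideal.sub_mem _ h1 (hQ hz)
    rwa [sub_sub_cancel] at this
  exact (Ideal.ne_top_iff_one _).1 (IsLocalRing.maximalIdeal.isMaximal R).ne_top h2

end Quot

section Main

open MvPowerSeries

variable {Λ R : Type u} [CommRing Λ] [IsRegularLocalRing Λ] [IsDomain Λ]
  [IsAdicComplete (maximalIdeal Λ) Λ] [CommRing R] [IsLocalRing R] [IsNoetherianRing R]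
  [IsAdicComplete (maximalIdeal R) R] [Algebra Λ R]

/-- **Power series normalization**: a complete Noetherian local `Λ`-algebra `R` (`Λ` a complete
regular local domain, residue field of `R` finite over `Λ`) with
`dim Λ + dim R/𝔪_Λ R ≤ dim R` is finite over a power series ring `Λ[[T_1..T_m]]`, injectively. -/
theorem exists_finite_injective_mvPowerSeries
    (hloc : ∀ x ∈ maximalIdeal Λ, algebraMap Λ R x ∈ maximalIdeal R)
    {s : ℕ} (b : Fin s → R)
    (hb : ∀ r : R, ∃ c : Fin s → Λ, r - ∑ l, c l • b l ∈ maximalIdeal R)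
    (m : ℕ) (hm : ringKrullDim (R ⧸ (maximalIdeal Λ).map (algebraMap Λ R)) = m)
    (hdim : ringKrullDim Λ + (m : WithBot ℕ∞) ≤ ringKrullDim R) :
    ∃ ψ : MvPowerSeries (Fin m) Λ →ₐ[Λ] R, Function.Injective ψ ∧ ψ.toRingHom.Finite ∧
      (∀ l, ψ (C l) = algebraMap Λ R l) ∧
      (maximalIdeal (MvPowerSeries (Fin m) Λ)).map ψ.toRingHom ≤ maximalIdeal R := by
  classical
  set I : Ideal R := (maximalIdeal Λ).map (algebraMap Λ R) with hI
  have hIm : I ≤ maximalIdeal R := by
    rw [hI, Ideal.map_le_iff_le_comap]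
    exact fun x hx => hloc x hx
  haveI : IsLocalRing (R ⧸ I) := isLocalRing_quotient_of_le I hIm
  -- a system of parameters of `R ⧸ I`
  obtain ⟨S, hSmin, hScard⟩ :=
    Ideal.exists_finset_card_eq_height_of_isNoetherianRing (maximalIdeal (R ⧸ I))
  have hcard : S.card = m := by
    have h1 : ((S.card : ℕ∞) : WithBot ℕ∞) = (m : WithBot ℕ∞) := by
      rw [hScard, IsLocalRing.maximalIdeal_height_eq_ringKrullDim, hm]
    exact_mod_cast h1
  let e : Fin m ≃ S := (Finset.equivFinOfCardEq hcard).symm
  let yb : Fin m → R ⧸ I := fun i => (e i : R ⧸ I)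
  have hyb : Ideal.span (Set.range yb) = Ideal.span (S : Set (R ⧸ I)) := by
    congr 1
    ext z
    constructor
    · rintro ⟨i, rfl⟩
      exact (e i).2
    · intro hz
      exact ⟨e.symm ⟨z, hz⟩, by simp [yb]⟩
  have hSle : Ideal.span (S : Set (R ⧸ I)) ≤ maximalIdeal (R ⧸ I) := hSmin.1.2
  choose y hy using fun i => Ideal.Quotient.mk_surjective (yb i)
  have hym : ∀ i, y i ∈ maximalIdeal R := by
    intro i
    rw [mem_maximalIdeal, mem_nonunits_iff]
    intro hu
    have h1 : IsUnit (yb i) := by rw [← hy i]; exact hu.map _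
    have h2 : yb i ∈ maximalIdeal (R ⧸ I) := hSle (Ideal.subset_span (e i).2)
    exact (mem_maximalIdeal _).1 h2 h1
  obtain ⟨ψ, hψX⟩ := CohenStructure.exists_algHom_X_eq_of_isAdicComplete (Λ := Λ)
    (maximalIdeal R) m y hym
  let P := MvPowerSeries (Fin m) Λ
  haveI : IsDomain P := NoZeroDivisors.to_isDomain _
  have hψC : ∀ l : Λ, ψ (C l) = algebraMap Λ R l := by
    intro l
    have h2 : (C l : MvPowerSeries (Fin m) Λ) = algebraMap Λ (MvPowerSeries (Fin m) Λ) l := by
      rw [MvPowerSeries.algebraMap_apply, Algebra.algebraMap_self, RingHom.id_apply]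
    rw [h2]
    exact ψ.commutes l
  set Q : Ideal R := (maximalIdeal P).map (ψ : P →+* R) with hQ
  have hIQ : I ≤ Q := by
    rw [hI, Ideal.map_le_iff_le_comap]
    intro x hx
    rw [Ideal.mem_comap, ← hψC]
    apply Ideal.mem_map_of_mem
    rw [maximalIdeal_eq_coeffIdeal, mem_coeffIdeal_one, constantCoeff_C]
    exact hx
  have hyQ : ∀ i, y i ∈ Q := by
    intro i
    rw [← hψX i]
    apply Ideal.mem_map_of_mem
    rw [maximalIdeal_eq_coeffIdeal]
    exact X_mem_coeffIdeal_one _ i
  have hQm : Q ≤ maximalIdeal R := by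
    rw [hQ, Ideal.map_le_iff_le_comap]
    intro g hg
    rw [Ideal.mem_comap]
    rw [maximalIdeal_eq_coeffIdeal, mem_coeffIdeal_one] at hg
    have h1 : g - C (constantCoeff g) ∈ varsIdeal (Fin m) Λ ^ 1 := by
      apply mem_varsIdeal_pow_of_coeff_eq_zero
      intro α hα
      have hα0 : α = 0 := by
        rw [Nat.lt_one_iff] at hα
        exact (Finsupp.degree_eq_zero_iff α).1 hα
      rw [hα0, map_sub, coeff_zero_eq_constantCoeff_apply, coeff_zero_eq_constantCoeff_apply,
        constantCoeff_C, sub_self]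
    rw [pow_one] at h1
    have h2 : (varsIdeal (Fin m) Λ).map (ψ : P →+* R) ≤ maximalIdeal R := by
      rw [varsIdeal, Ideal.map_span, Ideal.span_le]
      rintro _ ⟨_, ⟨i, rfl⟩, rfl⟩
      change ψ (X i) ∈ maximalIdeal R
      rw [hψX]
      exact hym i
    have h3 : (ψ : P →+* R) (g - C (constantCoeff g)) ∈ maximalIdeal R :=
      h2 (Ideal.mem_map_of_mem _ h1)
    have h4 : (ψ : P →+* R) g = (ψ : P →+* R) (g - C (constantCoeff g)) +
        ψ (C (constantCoeff g)) := by
      rw [map_sub]
      change ψ g = ψ g - ψ (C (constantCoeff g)) + ψ (C (constantCoeff g))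
      ring
    rw [h4, hψC]
    exact Ideal.add_mem _ h3 (hloc _ hg)
  -- `R ⧸ Q` is Artinian local
  haveI : IsLocalRing (R ⧸ Q) := isLocalRing_quotient_of_le Q hQm
  haveI : IsArtinianRing ((R ⧸ I) ⧸ Ideal.span (S : Set (R ⧸ I))) :=
    IsLocalRing.quotient_artinian_of_mem_minimalPrimes_of_isLocalRing _ hSmin
  haveI : IsArtinianRing (R ⧸ Q) := by
    let f₁ : R ⧸ I →+* R ⧸ Q := Ideal.Quotient.factor hIQ
    have hf₁ : Ideal.span (S : Set (R ⧸ I)) ≤ RingHom.ker f₁ := by
      rw [← hyb, Ideal.span_le]
      rintro _ ⟨i, rfl⟩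
      rw [SetLike.mem_coe, RingHom.mem_ker, ← hy i]
      change Ideal.Quotient.mk Q (y i) = 0
      exact Ideal.Quotient.eq_zero_iff_mem.2 (hyQ i)
    let f₂ : (R ⧸ I) ⧸ Ideal.span (S : Set (R ⧸ I)) →+* R ⧸ Q :=
      Ideal.Quotient.lift _ f₁ (fun a ha => hf₁ ha)
    have hf₂ : Function.Surjective f₂ := by
      intro z
      obtain ⟨r, rfl⟩ := Ideal.Quotient.mk_surjective z
      exact ⟨Ideal.Quotient.mk _ (Ideal.Quotient.mk I r), rfl⟩
    exact hf₂.isArtinianRing
  -- finiteness
  letI : Algebra P R := (ψ : P →+* R).toAlgebra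
  have halgP : ∀ g : P, algebraMap P R g = ψ g := fun g => rfl
  have hfinQ : Module.Finite P (R ⧸ Q) := by
    apply finite_of_isArtinianRing_of_residue (fun l => Ideal.Quotient.mk Q (b l))
    intro rb
    obtain ⟨r, rfl⟩ := Ideal.Quotient.mk_surjective rb
    obtain ⟨c, hc⟩ := hb r
    refine ⟨fun l => C (c l), ?_⟩
    have h1 : ∑ l, (C (c l) : P) • Ideal.Quotient.mk Q (b l) =
        Ideal.Quotient.mk Q (∑ l, c l • b l) := by
      rw [map_sum]
      apply Finset.sum_congr rfl
      intro l _
      rw [Algebra.smul_def, Algebra.smul_def, map_mul]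
      congr 1
      change Ideal.Quotient.mk Q (algebraMap P R (C (c l))) = _
      rw [halgP, hψC]
    rw [h1, ← map_sub]
    exact mk_mem_maximalIdeal_of_mem Q hQm hc
  have hfin : Module.Finite P R := by
    haveI : IsHausdorff Q R := IsHausdorff.of_le_jacobson Q R (by
      rw [IsLocalRing.jacobson_eq_maximalIdeal ⊥ bot_ne_top]; exact hQm)
    haveI : IsHausdorff (maximalIdeal P) R := IsHausdorff.map_algebraMap_iff.1 ‹IsHausdorff Q R›
    haveI : IsAdicComplete (maximalIdeal P) P := isAdicComplete_mvPowerSeries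
    apply finite_of_finite_quotient_of_isAdicComplete (maximalIdeal P)
    rw [Ideal.smul_top_eq_map]
    exact Module.Finite.equiv (Submodule.Quotient.restrictScalarsEquiv P Q).symm
  refine ⟨ψ, ?_, hfin, hψC, hQm⟩
  -- injectivity by dimension
  have hint : (ψ : P →+* R).IsIntegral := RingHom.Finite.to_isIntegral hfin
  have hd1 := Groth.Agent.Lib.Helper5.ringKrullDim_eq_ringKrullDim_quotient_ker_of_isIntegral
    (ψ : P →+* R) hint
  have hd2 : ringKrullDim P ≤ ringKrullDim Λ + (m : WithBot ℕ∞) := by
    refine (ringKrullDim_le_spanFinrank_maximalIdeal P).trans ?_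
    rw [← IsRegularLocalRing.spanFinrank_maximalIdeal (R := Λ)]
    exact_mod_cast spanFinrank_maximalIdeal_mvPowerSeries_le_add Λ m
  have hinj := injective_of_surjective_of_ringKrullDim_le
    (Ideal.Quotient.mk (RingHom.ker (ψ : P →+* R))) Ideal.Quotient.mk_surjective
    (by rw [← hd1]; exact hd2.trans hdim)
  rw [injective_iff_map_eq_zero]
  intro g hg
  apply hinj
  rw [map_zero, Ideal.Quotient.eq_zero_iff_mem, RingHom.mem_ker]
  exact hg

end Main

end Groth.Agent.Lib.Helper19.Normalization
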