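import Mathlib

/-!
# Filtered modules over adically complete rings (helper19)

Bourbaki AC III §2 no. 9: successive approximation for filtered modules over a `J`-adically
complete ring.
-/

set_option autoImplicit false
universe u

namespace Groth.Agent.Lib.Helper19

open Ideal

section Approx

variable {S : Type*} [CommRing S] (J : Ideal S)
variable {M : Type*} [AddCommGroup M] [Module S M]

/-- Successive approximation in a module with a separated filtration `G`, over a `J`-adically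
complete ring. -/
theorem exists_coeff_of_approx [IsAdicComplete J S] {ι : Type*} [Fintype ι]
    (G : ℕ → Submodule S M) (hG : ∀ y, (∀ k, y ∈ G k) → y = 0)
    (x : ι → M) (e : ℕ)
    (H1 : ∀ (k : ℕ) (y : M), y ∈ G k →
      ∃ a : ι → S, (∀ i, a i ∈ J ^ (k + e)) ∧ y - ∑ i, a i • x i ∈ G (k + 1))
    (H2 : ∀ (k : ℕ) (i : ι) (a : S), a ∈ J ^ (k + e) → a • x i ∈ G k)
    (y : M) (hy : y ∈ G 0) : ∃ a : ι → S, (∀ i, a i ∈ J ^ e) ∧ y = ∑ i, a i • x i := by
  classical
  choose! a ha1 ha2 using H1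
  let Y : ℕ → M := fun k => Nat.rec y (fun k yk => yk - ∑ i, a k yk i • x i) k
  have hY0 : Y 0 = y := rfl
  have hYs : ∀ k, Y (k + 1) = Y k - ∑ i, a k (Y k) i • x i := fun k => rfl
  have hYmem : ∀ k, Y k ∈ G k := by
    intro k
    induction k with
    | zero => exact hy
    | succ k ih => rw [hYs]; exact ha2 k (Y k) ih
  let c : ℕ → ι → S := fun k i => a k (Y k) i
  have hc : ∀ k i, c k i ∈ J ^ (k + e) := fun k i => ha1 k (Y k) (hYmem k) i
  let s : ℕ → ι → S := fun K i => ∑ k ∈ Finset.range K, c k i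
  have hss : ∀ K i, s (K + 1) i = s K i + c K i := fun K i => Finset.sum_range_succ _ _
  have hys : ∀ K, y - Y K = ∑ i, s K i • x i := by
    intro K
    induction K with
    | zero => simp [s, hY0]
    | succ K ih =>
      rw [hYs]
      simp only [hss, add_smul, Finset.sum_add_distrib, ← ih]
      simp only [c]
      abel
  have hdiff : ∀ i, ∀ {K K' : ℕ}, K ≤ K' → s K' i - s K i ∈ J ^ (K + e) := by
    intro i K K' hKK'
    have h1 : s K' i - s K i = ∑ k ∈ Finset.Ico K K', c k i := by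
      rw [Finset.sum_Ico_eq_sub _ hKK']
    rw [h1]
    refine Ideal.sum_mem _ fun k hk => ?_
    have hk' : K ≤ k := (Finset.mem_Ico.mp hk).1
    exact Ideal.pow_le_pow_right (Nat.add_le_add_right hk' e) (hc k i)
  have hcauchy : ∀ i, ∀ {K K' : ℕ}, K ≤ K' →
      s K i ≡ s K' i [SMOD (J ^ K • ⊤ : Submodule S S)] := by
    intro i K K' hKK'
    rw [SModEq.sub_mem, smul_eq_mul, Ideal.mul_top, ← Ideal.neg_mem_iff, neg_sub]
    exact Ideal.pow_le_pow_right (Nat.le_add_right K e) (hdiff i hKK')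
  have hL : ∀ i, ∃ L : S, ∀ K, s K i ≡ L [SMOD (J ^ K • ⊤ : Submodule S S)] :=
    fun i => IsPrecomplete.prec' _ (hcauchy i)
  choose L hL using hL
  have hL' : ∀ i K, L i - s K i ∈ J ^ K := by
    intro i K
    have := hL i K
    rw [SModEq.sub_mem, smul_eq_mul, Ideal.mul_top] at this
    rw [← Ideal.neg_mem_iff, neg_sub]
    exact this
  have htail : ∀ i K, L i - s K i ∈ J ^ (K + e) := by
    intro i K
    have e1 : L i - s K i = (L i - s (K + e) i) + (s (K + e) i - s K i) := by ring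
    rw [e1]
    exact Ideal.add_mem _ (hL' i (K + e)) (hdiff i (Nat.le_add_right K e))
  refine ⟨L, fun i => ?_, ?_⟩
  · have := htail i 0
    simpa [s] using this
  · rw [← sub_eq_zero]
    apply hG
    intro K
    have e2 : y - ∑ i, L i • x i = Y K - ∑ i, (L i - s K i) • x i := by
      have := hys K
      simp only [sub_smul, Finset.sum_sub_distrib]
      rw [← this]
      abel
    rw [e2]
    exact Submodule.sub_mem _ (hYmem K)
      (Submodule.sum_mem _ fun i _ => H2 K i _ (htail i K))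

/-- Elements of `K • span (range x)` are combinations of the `x i` with coefficients in `K`. -/
theorem exists_coeff_of_mem_smul_span {ι : Type*} [Fintype ι] (x : ι → M) (K : Ideal S) {z : M}
    (hz : z ∈ K • Submodule.span S (Set.range x)) :
    ∃ a : ι → S, (∀ i, a i ∈ K) ∧ z = ∑ i, a i • x i := by
  classical
  refine Submodule.smul_induction_on hz (fun r hr n hn => ?_) (fun z₁ z₂ h₁ h₂ => ?_)
  · obtain ⟨c, rfl⟩ := (Submodule.mem_span_range_iff_exists_fun S).mp hn
    refine ⟨fun i => r * c i, fun i => K.mul_mem_right _ hr, ?_⟩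
    rw [Finset.smul_sum]
    exact Finset.sum_congr rfl fun i _ => by rw [mul_smul]
  · obtain ⟨a₁, ha₁, rfl⟩ := h₁
    obtain ⟨a₂, ha₂, rfl⟩ := h₂
    refine ⟨fun i => a₁ i + a₂ i, fun i => K.add_mem (ha₁ i) (ha₂ i), ?_⟩
    rw [← Finset.sum_add_distrib]
    exact Finset.sum_congr rfl fun i _ => by rw [add_smul]

end Approx


section Filtered

variable {S : Type u} [CommRing S] (J : Ideal S)
variable {M : Type u} [AddCommGroup M] [Module S M]
variable (F : ℤ → Submodule S M)

theorem pow_smul_le_of_smul_le (hJ : ∀ p : ℤ, J • F p ≤ F (p + 1)) (q : ℤ) (k : ℕ) :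
    J ^ k • F q ≤ F (q + k) := by
  induction k with
  | zero => simp
  | succ k ih =>
    rw [pow_succ', Submodule.mul_smul]
    refine (Submodule.smul_mono le_rfl ih).trans ?_
    have := hJ (q + k)
    have e : q + ((k + 1 : ℕ) : ℤ) = q + k + 1 := by push_cast; ring
    rw [e]
    exact this

theorem le_pow_smul_sup (hJ : ∀ p : ℤ, J • F p ≤ F (p + 1)) (p₁ : ℤ)
    (hp₁ : ∀ p : ℤ, p₁ ≤ p → F (p + 1) = J • F p ⊔ F (p + 2)) (p : ℤ) (hp : p₁ ≤ p) (k : ℕ) :
    F (p + k) ≤ J ^ k • F p ⊔ F (p + k + 1) := by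
  induction k with
  | zero => simp
  | succ k ih =>
    have e1 : p + ((k + 1 : ℕ) : ℤ) = (p + k) + 1 := by push_cast; ring
    have e2 : p + ((k + 1 : ℕ) : ℤ) + 1 = (p + k) + 2 := by push_cast; ring
    rw [e2, e1, hp₁ (p + k) (by omega)]
    refine sup_le ?_ le_sup_right
    calc J • F (p + k) ≤ J • (J ^ k • F p ⊔ F (p + k + 1)) := Submodule.smul_mono le_rfl ih
      _ = J ^ (k + 1) • F p ⊔ J • F (p + k + 1) := by
        rw [Submodule.smul_sup, ← Submodule.mul_smul, ← pow_succ']
      _ ≤ J ^ (k + 1) • F p ⊔ F (p + k + 2) := by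
        refine sup_le_sup_left ?_ _
        have := hJ (p + k + 1)
        have e3 : p + (k : ℤ) + 1 + 1 = p + k + 2 := by ring
        rwa [e3] at this

variable [IsAdicComplete J S]

/-- Lifting generators of `F p / F (p+1)`. -/
theorem exists_lift_generators (p : ℤ) (hfg : (Submodule.map (F (p + 1)).mkQ (F p)).FG) :
    ∃ (n : ℕ) (x : Fin n → M), (∀ i, x i ∈ F p) ∧
      F p ≤ Submodule.span S (Set.range x) ⊔ F (p + 1) := by
  obtain ⟨n, y, hy⟩ := Submodule.fg_iff_exists_fin_generating_family.mp hfg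
  have hyF : ∀ i, ∃ x ∈ F p, (F (p + 1)).mkQ x = y i := by
    intro i
    have : y i ∈ Submodule.map (F (p + 1)).mkQ (F p) := by
      rw [← hy]; exact Submodule.subset_span ⟨i, rfl⟩
    exact this
  choose x hxF hxy using hyF
  refine ⟨n, x, hxF, ?_⟩
  intro z hz
  have hz' : (F (p + 1)).mkQ z ∈ Submodule.map (F (p + 1)).mkQ (Submodule.span S (Set.range x)) := by
    rw [Submodule.map_span, ← Set.range_comp]
    have : (⇑(F (p + 1)).mkQ ∘ x) = y := funext hxy
    rw [this, hy]
    exact Submodule.mem_map_of_mem hz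
  obtain ⟨w, hw, hwz⟩ := hz'
  have hd : z - w ∈ F (p + 1) := by
    rw [← Submodule.ker_mkQ (F (p + 1)), LinearMap.mem_ker, map_sub, hwz, sub_self]
  have : z = w + (z - w) := by abel
  rw [this]
  exact Submodule.add_mem _ (Submodule.mem_sup_left hw) (Submodule.mem_sup_right hd)

theorem mem_bot_of_forall_mem (hF : Antitone F) (hsep : ⨅ p : ℤ, F p = ⊥) (p : ℤ) (y : M)
    (hy : ∀ k : ℕ, y ∈ F (p + k)) : y = 0 := by
  have : y ∈ ⨅ q : ℤ, F q := by
    rw [Submodule.mem_iInf]
    intro q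
    rcases le_total q p with h | h
    · have h0 := hy 0
      simp only [Nat.cast_zero, add_zero] at h0
      exact hF h h0
    · obtain ⟨k, hk⟩ := Int.le.dest h
      rw [← hk]
      exact hy k
  rwa [hsep, Submodule.mem_bot] at this

/-- Under condition (c), `F p` is finitely generated for `p ≥ p₁`. -/
theorem fg_of_good (hF : Antitone F) (hJ : ∀ p : ℤ, J • F p ≤ F (p + 1))
    (hsep : ⨅ p : ℤ, F p = ⊥) (p₁ : ℤ)
    (hp₁ : ∀ p : ℤ, p₁ ≤ p → F (p + 1) = J • F p ⊔ F (p + 2)) (p : ℤ) (hp : p₁ ≤ p)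
    (hfg : (Submodule.map (F (p + 1)).mkQ (F p)).FG) : (F p).FG := by
  classical
  obtain ⟨n, x, hxF, hle⟩ := exists_lift_generators F p hfg
  have hspan_le : Submodule.span S (Set.range x) ≤ F p :=
    Submodule.span_le.mpr (by rintro _ ⟨i, rfl⟩; exact hxF i)
  have key : ∀ y ∈ F p, ∃ a : Fin n → S, (∀ i, a i ∈ J ^ 0) ∧ y = ∑ i, a i • x i := by
    intro y hy
    apply exists_coeff_of_approx J (fun k : ℕ => F (p + k)) (mem_bot_of_forall_mem F hF hsep p)
      x 0
    · intro k y hy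
      have h1 := le_pow_smul_sup J F hJ p₁ hp₁ p hp k hy
      have h2 : J ^ k • F p ≤ J ^ k • Submodule.span S (Set.range x) ⊔ F (p + k + 1) := by
        calc J ^ k • F p ≤ J ^ k • (Submodule.span S (Set.range x) ⊔ F (p + 1)) :=
              Submodule.smul_mono le_rfl hle
          _ = J ^ k • Submodule.span S (Set.range x) ⊔ J ^ k • F (p + 1) := Submodule.smul_sup _ _ _
          _ ≤ J ^ k • Submodule.span S (Set.range x) ⊔ F (p + k + 1) := by
            refine sup_le_sup_left ?_ _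
            have := pow_smul_le_of_smul_le J F hJ (p + 1) k
            have e3 : p + 1 + (k : ℤ) = p + k + 1 := by ring
            rwa [e3] at this
      have h3 : y ∈ J ^ k • Submodule.span S (Set.range x) ⊔ F (p + k + 1) :=
        (sup_le h2 le_sup_right) h1
      obtain ⟨z, hz, w, hw, rfl⟩ := Submodule.mem_sup.mp h3
      obtain ⟨a, ha, rfl⟩ := exists_coeff_of_mem_smul_span x _ hz
      refine ⟨a, fun i => by simpa using ha i, ?_⟩
      have e4 : p + ((k + 1 : ℕ) : ℤ) = p + k + 1 := by push_cast; ring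
      simp only [add_sub_cancel_left]
      rw [e4]
      exact hw
    · intro k i a ha
      have : a • x i ∈ J ^ k • F p := Submodule.smul_mem_smul (by simpa using ha) (hxF i)
      exact pow_smul_le_of_smul_le J F hJ p k this
    · simpa using hy
  have : F p = Submodule.span S (Set.range x) := by
    apply le_antisymm _ hspan_le
    intro y hy
    obtain ⟨a, -, rfl⟩ := key y hy
    exact Submodule.sum_mem _ fun i _ => Submodule.smul_mem _ _ (Submodule.subset_span ⟨i, rfl⟩)
  rw [this]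
  exact ⟨Finset.univ.image x, by simp⟩

/-- Under condition (c), `J • F p = F (p+1)` for `p ≥ p₁`. -/
theorem smul_eq_of_good (hF : Antitone F) (hJ : ∀ p : ℤ, J • F p ≤ F (p + 1))
    (hsep : ⨅ p : ℤ, F p = ⊥) (p₁ : ℤ)
    (hp₁ : ∀ p : ℤ, p₁ ≤ p → F (p + 1) = J • F p ⊔ F (p + 2)) (p : ℤ) (hp : p₁ ≤ p)
    (hfg : (F p).FG) : J • F p = F (p + 1) := by
  classical
  apply le_antisymm (hJ p)
  obtain ⟨n, x, hx⟩ := Submodule.fg_iff_exists_fin_generating_family.mp hfg
  have hxF : ∀ i, x i ∈ F p := fun i => by rw [← hx]; exact Submodule.subset_span ⟨i, rfl⟩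
  intro y hy
  have key : ∃ a : Fin n → S, (∀ i, a i ∈ J ^ 1) ∧ y = ∑ i, a i • x i := by
    apply exists_coeff_of_approx J (fun k : ℕ => F (p + 1 + k))
      (mem_bot_of_forall_mem F hF hsep (p + 1)) x 1
    · intro k y hy
      have e5 : p + 1 + (k : ℤ) = p + ((k + 1 : ℕ) : ℤ) := by push_cast; ring
      rw [e5] at hy
      have h1 := le_pow_smul_sup J F hJ p₁ hp₁ p hp (k + 1) hy
      rw [← hx] at h1
      obtain ⟨z, hz, w, hw, rfl⟩ := Submodule.mem_sup.mp h1
      obtain ⟨a, ha, rfl⟩ := exists_coeff_of_mem_smul_span x _ hz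
      refine ⟨a, ha, ?_⟩
      have e4 : p + 1 + ((k + 1 : ℕ) : ℤ) = p + ((k + 1 : ℕ) : ℤ) + 1 := by ring
      simp only [add_sub_cancel_left]
      rw [e4]
      exact hw
    · intro k i a ha
      have : a • x i ∈ J ^ (k + 1) • F p := Submodule.smul_mem_smul ha (hxF i)
      have h2 := pow_smul_le_of_smul_le J F hJ p (k + 1) this
      have e5 : p + 1 + (k : ℤ) = p + ((k + 1 : ℕ) : ℤ) := by push_cast; ring
      rw [e5]
      exact h2
    · simpa using hy
  obtain ⟨a, ha, rfl⟩ := key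
  exact Submodule.sum_mem _ fun i _ =>
    Submodule.smul_mem_smul (by simpa using ha i) (hxF i)

/-- Bourbaki AC III §2 no. 9: finite + good filtration iff graded pieces finite and eventually
generated in degree one. -/
theorem finite_and_good_iff [IsNoetherianRing S]
    (hF : Antitone F) (hcod : ∃ p₀ : ℤ, F p₀ = ⊤)
    (hJ : ∀ p : ℤ, J • F p ≤ F (p + 1)) (hsep : ⨅ p : ℤ, F p = ⊥) :
    (Module.Finite S M ∧ ∃ p₁ : ℤ, ∀ p : ℤ, p₁ ≤ p → J • F p = F (p + 1)) ↔
      ((∀ p : ℤ, (Submodule.map (F (p + 1)).mkQ (F p)).FG) ∧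
        ∃ p₁ : ℤ, ∀ p : ℤ, p₁ ≤ p → F (p + 1) = J • F p ⊔ F (p + 2)) := by
  constructor
  · rintro ⟨hfin, p₁, h⟩
    refine ⟨fun p => ?_, p₁, fun p hp => ?_⟩
    · exact (IsNoetherian.noetherian (F p)).map _
    · rw [h p hp]
      exact (sup_eq_left.mpr (hF (by omega))).symm
  · rintro ⟨hfg, p₁, hp₁⟩
    have hFGge : ∀ p : ℤ, p₁ ≤ p → (F p).FG := fun p hp =>
      fg_of_good J F hF hJ hsep p₁ hp₁ p hp (hfg p)
    have hFGall : ∀ (n : ℕ) (p : ℤ), p₁ - p ≤ n → (F p).FG := by
      intro n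
      induction n with
      | zero => intro p hp; exact hFGge p (by simpa using hp)
      | succ n ih =>
        intro p hp
        by_cases h : p₁ ≤ p
        · exact hFGge p h
        · have h1 : (F (p + 1)).FG := ih (p + 1) (by push_cast at hp; omega)
          apply Submodule.fg_of_fg_map_of_fg_inf_ker (F (p + 1)).mkQ (hfg p)
          rw [Submodule.ker_mkQ, inf_eq_right.mpr (hF (by omega))]
          exact h1
    obtain ⟨p₀, hp₀⟩ := hcod
    refine ⟨?_, p₁, fun p hp => smul_eq_of_good J F hF hJ hsep p₁ hp₁ p hp (hFGge p hp)⟩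
    rw [Module.finite_def, ← hp₀]
    exact hFGall (p₁ - p₀).toNat p₀ (Int.self_le_toNat _)

end Filtered

end Groth.Agent.Lib.Helper19
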