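import Groth.Agent.Lib.Helper19ComplNoeth2
import Groth.Agent.Lib.Helper19FilteredComplete

/-!
# Square-zero extensions of complete Noetherian local rings are complete (helper19)
-/

set_option autoImplicit false
universe u v

namespace Groth.Agent.Lib.Helper19

open Ideal

theorem isAdicComplete_of_pow_eq_bot {R : Type*} [CommRing R] (I : Ideal R) (n : ℕ)
    (h : I ^ n = ⊥) : IsAdicComplete I R where
  haus' x hx := by
    have := hx n
    rw [SModEq.zero, smul_eq_mul, Ideal.mul_top, h] at this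
    exact (Submodule.mem_bot R).mp this
  prec' f hf := by
    refine ⟨f n, fun m => ?_⟩
    rcases le_total m n with hmn | hnm
    · exact hf hmn
    · have := hf hnm
      rw [SModEq.sub_mem, smul_eq_mul, Ideal.mul_top, h, Ideal.mem_bot, sub_eq_zero] at this
      rw [this]

private lemma smodEq_pow_iff' {R : Type*} [CommRing R] (J : Ideal R) (n : ℕ) (x y : R) :
    x ≡ y [SMOD (J ^ n • ⊤ : Submodule R R)] ↔ x - y ∈ J ^ n := by
  rw [SModEq.sub_mem, smul_eq_mul, Ideal.mul_top]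

theorem isAdicComplete_comap_of_sqZero {A : Type u} {E : Type v} [CommRing A] [CommRing E]
    [IsNoetherianRing A] [IsLocalRing A]
    [IsAdicComplete (IsLocalRing.maximalIdeal A) A]
    (f : E →+* A) (hf : Function.Surjective f)
    (hsq : RingHom.ker f ^ 2 = ⊥) (hfg : (RingHom.ker f).FG) :
    IsAdicComplete ((IsLocalRing.maximalIdeal A).comap f) E := by
  classical
  set N : Ideal E := RingHom.ker f with hN
  set mA : Ideal A := IsLocalRing.maximalIdeal A with hmA
  set 𝔫 : Ideal E := mA.comap f with h𝔫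
  -- (1) E is Noetherian
  haveI hNc : IsAdicComplete N E := isAdicComplete_of_pow_eq_bot N 2 hsq
  haveI : IsNoetherianRing (E ⧸ N) :=
    isNoetherianRing_of_ringEquiv A (RingHom.quotientKerEquivOfSurjective hf).symm
  haveI hEN : IsNoetherianRing E := isNoetherianRing_of_isAdicComplete_of_fg N hfg
  have hNN : ∀ a ∈ N, ∀ b ∈ N, a * b = 0 := by
    intro a ha b hb
    have : a * b ∈ N ^ 2 := by rw [pow_two]; exact Ideal.mul_mem_mul ha hb
    rwa [hsq, Ideal.mem_bot] at this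
  -- (2) units lift
  have hunit : ∀ z : E, IsUnit (f z) → IsUnit z := by
    intro z hz
    obtain ⟨b, hb⟩ := isUnit_iff_exists_inv.mp hz
    obtain ⟨w, rfl⟩ := hf b
    have hn : z * w - 1 ∈ N := by
      rw [hN, RingHom.mem_ker, map_sub, map_mul, hb, map_one, sub_self]
    have hn2 : (z * w - 1) * (z * w - 1) = 0 := hNN _ hn _ hn
    refine IsUnit.of_mul_eq_one (w * (1 - (z * w - 1))) ?_
    have : z * (w * (1 - (z * w - 1))) = 1 - (z * w - 1) * (z * w - 1) := by ring
    rw [this, hn2, sub_zero]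
  have hjac : 𝔫 ≤ (⊥ : Ideal E).jacobson := by
    intro x hx
    rw [Ideal.mem_jacobson_bot]
    intro y
    apply hunit
    rw [map_add, map_mul, map_one]
    have hxm : f x * f y ∈ mA := Ideal.mul_mem_right _ _ hx
    by_contra hnu
    have h1 : f x * f y + 1 ∈ mA := (IsLocalRing.mem_maximalIdeal _).mpr hnu
    have : (1 : A) ∈ mA := by
      have e : (1 : A) = (f x * f y + 1) - f x * f y := by ring
      rw [e]
      exact mA.sub_mem h1 hxm
    exact (IsLocalRing.maximalIdeal.isMaximal A).ne_top ((Ideal.eq_top_iff_one _).mpr this)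
  have hH : IsHausdorff 𝔫 E := IsHausdorff.of_le_jacobson 𝔫 E hjac
  refine { toIsHausdorff := hH, toIsPrecomplete := ⟨fun {x} hx => ?_⟩ }
  have hx' : ∀ {m n : ℕ}, m ≤ n → x m - x n ∈ 𝔫 ^ m := fun h =>
    (smodEq_pow_iff' 𝔫 _ _ _).mp (hx h)
  have hmap : ∀ k : ℕ, (𝔫 ^ k).map f = mA ^ k := by
    intro k
    rw [Ideal.map_pow, h𝔫, Ideal.map_comap_of_surjective f hf]
  have hmem_of_map : ∀ (k : ℕ) (y : E), f y ∈ mA ^ k → ∃ w ∈ 𝔫 ^ k, y - w ∈ N := by
    intro k y hy
    rw [← hmap k] at hy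
    obtain ⟨w, hw, hwf⟩ := (Ideal.mem_map_iff_of_surjective f hf).mp hy
    exact ⟨w, hw, by rw [hN, RingHom.mem_ker, map_sub, hwf, sub_self]⟩
  have hfmem : ∀ (k : ℕ) (y : E), y ∈ 𝔫 ^ k → f y ∈ mA ^ k := by
    intro k y hy
    rw [← hmap k]
    exact Ideal.mem_map_of_mem f hy
  -- Step 1: the images converge
  have hfx : ∀ {m n : ℕ}, m ≤ n →
      f (x m) ≡ f (x n) [SMOD (mA ^ m • ⊤ : Submodule A A)] := by
    intro m n hmn
    rw [smodEq_pow_iff', ← map_sub]
    exact hfmem m _ (hx' hmn)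
  obtain ⟨a, ha⟩ := IsPrecomplete.prec' (fun k => f (x k)) hfx
  obtain ⟨x₀, rfl⟩ := hf a
  have hz : ∀ k : ℕ, ∃ z ∈ 𝔫 ^ k, x k - x₀ - z ∈ N := by
    intro k
    have : f (x k - x₀) ∈ mA ^ k := by
      rw [map_sub]
      exact (smodEq_pow_iff' mA _ _ _).mp (ha k)
    exact hmem_of_map k _ this
  choose z hz hzN using hz
  let n : ℕ → E := fun k => x k - x₀ - z k
  have hnd : ∀ k : ℕ, n (k + 1) - n k ∈ 𝔫 ^ k ⊓ N := by
    intro k
    refine ⟨?_, N.sub_mem (hzN (k + 1)) (hzN k)⟩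
    have e : n (k + 1) - n k = -(x k - x (k + 1)) - z (k + 1) + z k := by
      simp only [n]; ring
    rw [e]
    exact Ideal.add_mem _ (Ideal.sub_mem _ (neg_mem (hx' (Nat.le_succ k)))
      (Ideal.pow_le_pow_right (Nat.le_succ k) (hz (k + 1)))) (hz k)
  -- Artin–Rees
  obtain ⟨c, hc⟩ := Ideal.exists_pow_inf_eq_pow_smul 𝔫 (N : Submodule E E)
  have hAR : ∀ k : ℕ, 𝔫 ^ (k + c) ⊓ N ≤ 𝔫 ^ k • N := by
    intro k
    have h1 := hc (k + c) (Nat.le_add_left c k)
    rw [smul_eq_mul, Ideal.mul_top, Nat.add_sub_cancel] at h1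
    rw [h1]
    exact Submodule.smul_mono le_rfl inf_le_right
  let n' : ℕ → E := fun k => n (k + c)
  have hn'N : ∀ k, n' k ∈ N := fun k => hzN (k + c)
  have hn'd : ∀ k : ℕ, n' (k + 1) - n' k ∈ 𝔫 ^ k • N := by
    intro k
    apply hAR k
    have := hnd (k + c)
    have e : k + 1 + c = k + c + 1 := by ring
    simp only [n', e]
    exact this
  -- Step 3: convergence in N
  obtain ⟨r, g, hg⟩ := Submodule.fg_iff_exists_fin_generating_family.mp hfg
  have hgN : ∀ i, g i ∈ N := fun i => by rw [← hg]; exact Submodule.subset_span ⟨i, rfl⟩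
  have hcoef : ∀ k : ℕ, ∃ cf : Fin r → E, (∀ i, cf i ∈ 𝔫 ^ k) ∧
      n' (k + 1) - n' k = ∑ i, cf i • g i := by
    intro k
    apply exists_coeff_of_mem_smul_span g (𝔫 ^ k)
    rw [hg]
    exact hn'd k
  choose cf hcf hcfsum using hcoef
  let s : ℕ → Fin r → E := fun K i => ∑ k ∈ Finset.range K, cf k i
  have hss : ∀ K i, s (K + 1) i = s K i + cf K i := fun K i => Finset.sum_range_succ _ _
  have hn's : ∀ K, n' K - n' 0 = ∑ i, s K i * g i := by
    intro K
    induction K with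
    | zero => simp [s]
    | succ K ih =>
      have e : n' (K + 1) - n' 0 = (n' K - n' 0) + (n' (K + 1) - n' K) := by ring
      rw [e, ih, hcfsum K, ← Finset.sum_add_distrib]
      exact Finset.sum_congr rfl fun i _ => by rw [hss, add_mul, smul_eq_mul]
  have hsdiff : ∀ i, ∀ {K K' : ℕ}, K ≤ K' → s K i - s K' i ∈ 𝔫 ^ K := by
    intro i K K' hKK'
    have h1 : s K' i - s K i = ∑ k ∈ Finset.Ico K K', cf k i := by
      rw [Finset.sum_Ico_eq_sub _ hKK']
    rw [← Ideal.neg_mem_iff, neg_sub, h1]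
    refine Ideal.sum_mem _ fun k hk => ?_
    exact Ideal.pow_le_pow_right (Finset.mem_Ico.mp hk).1 (hcf k i)
  have hfs : ∀ i, ∀ {K K' : ℕ}, K ≤ K' →
      f (s K i) ≡ f (s K' i) [SMOD (mA ^ K • ⊤ : Submodule A A)] := by
    intro i K K' hKK'
    rw [smodEq_pow_iff', ← map_sub]
    exact hfmem K _ (hsdiff i hKK')
  have hLex : ∀ i, ∃ L : E, ∀ K, f (s K i) - f L ∈ mA ^ K := by
    intro i
    obtain ⟨b, hb⟩ := IsPrecomplete.prec' (fun K => f (s K i)) (hfs i)
    obtain ⟨L, rfl⟩ := hf b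
    exact ⟨L, fun K => (smodEq_pow_iff' mA _ _ _).mp (hb K)⟩
  choose L hL using hLex
  have hsL : ∀ K i, (s K i - L i) * g i ∈ 𝔫 ^ K := by
    intro K i
    obtain ⟨w, hw, hwN⟩ := hmem_of_map K (s K i - L i) (by rw [map_sub]; exact hL i K)
    have e : (s K i - L i) * g i = w * g i + (s K i - L i - w) * g i := by ring
    rw [e, hNN _ hwN _ (hgN i), add_zero]
    exact Ideal.mul_mem_right _ _ hw
  let nlim : E := n' 0 + ∑ i, L i * g i
  have hn'lim : ∀ K, n' K - nlim ∈ 𝔫 ^ K := by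
    intro K
    have e : n' K - nlim = ∑ i, (s K i - L i) * g i := by
      have := hn's K
      simp only [nlim, sub_mul, Finset.sum_sub_distrib]
      rw [← this]
      ring
    rw [e]
    exact Ideal.sum_mem _ fun i _ => hsL K i
  -- Step 4
  refine ⟨x₀ + nlim, fun k => ?_⟩
  rw [smodEq_pow_iff']
  have e : x k - (x₀ + nlim) = (x k - x (k + c)) + z (k + c) + (n' k - nlim) := by
    simp only [n', n]; ring
  rw [e]
  exact Ideal.add_mem _ (Ideal.add_mem _ (hx' (Nat.le_add_right k c))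
    (Ideal.pow_le_pow_right (Nat.le_add_right k c) (hz (k + c)))) (hn'lim k)

end Groth.Agent.Lib.Helper19
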