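import Groth.Agent.Lib.Helper19PsLiftComplete
import Groth.Agent.Lib.Helper19SqZeroComplete
import Groth.Prelude.Def_EGA41
import Groth.Prelude.Def_CAlgX

/-!
# Power series rings are formally smooth for the adic topology (helper19)
-/

set_option autoImplicit false
universe u

namespace Groth.Agent.Lib.Helper19

open MvPowerSeries

/-- Lifting maps out of a power series ring along a nilpotent thickening, when the map kills a
power of an ideal containing the variables. -/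
theorem exists_lift_mvPowerSeries_of_isNilpotent {A : Type u} [CommRing A] {n : ℕ}
    (𝔟 : Ideal (MvPowerSeries (Fin n) A)) (h𝔟 : ∀ i, (X i : MvPowerSeries (Fin n) A) ∈ 𝔟)
    (C : Type u) [CommRing C] [Algebra A C] (J : Ideal C) (hJ : IsNilpotent J)
    (u : MvPowerSeries (Fin n) A →ₐ[A] C ⧸ J) (hu : ∃ k : ℕ, ∀ x ∈ 𝔟 ^ k, u x = 0) :
    ∃ v : MvPowerSeries (Fin n) A →ₐ[A] C, (Ideal.Quotient.mkₐ A J).comp v = u := by
  classical
  obtain ⟨k, hk⟩ := hu
  obtain ⟨m, hm⟩ := hJ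
  have hc : ∀ i, ∃ c : C, Ideal.Quotient.mk J c = u (X i) := fun i =>
    Ideal.Quotient.mk_surjective _
  choose c hc using hc
  have hcnil : ∀ i, IsNilpotent (c i) := by
    intro i
    refine ⟨k * m, ?_⟩
    have h1 : c i ^ k ∈ J := by
      rw [← Ideal.Quotient.eq_zero_iff_mem, map_pow, hc, ← map_pow]
      exact hk _ (Ideal.pow_mem_pow (h𝔟 i) k)
    have h2 : (c i ^ k) ^ m ∈ J ^ m := Ideal.pow_mem_pow h1 m
    rw [hm, Ideal.zero_eq_bot, Ideal.mem_bot, ← pow_mul] at h2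
    exact h2
  set 𝔫 : Ideal C := Ideal.span (Set.range c) with h𝔫
  have h𝔫fg : 𝔫.FG := ⟨Finset.univ.image c, by rw [h𝔫]; simp⟩
  have h𝔫nil : IsNilpotent 𝔫 := by
    rw [Ideal.FG.isNilpotent_iff_le_nilradical h𝔫fg, h𝔫, Ideal.span_le]
    rintro _ ⟨i, rfl⟩
    exact hcnil i
  obtain ⟨N, hN⟩ := h𝔫nil
  rw [Ideal.zero_eq_bot] at hN
  obtain ⟨v, hv⟩ := exists_algHom_X_eq (Λ := A) 𝔫 N hN c
    (fun i => Ideal.subset_span ⟨i, rfl⟩)
  refine ⟨v, ?_⟩
  have hN' : (𝔫.map (Ideal.Quotient.mk J)) ^ N = ⊥ := by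
    rw [← Ideal.map_pow, hN, Ideal.map_bot]
  haveI : IsAdicComplete (𝔫.map (Ideal.Quotient.mk J)) (C ⧸ J) :=
    isAdicComplete_of_pow_eq_bot _ N hN'
  apply algHom_ext_of_X_of_isHausdorff (𝔫.map (Ideal.Quotient.mk J))
  · intro i
    simp only [AlgHom.comp_apply, Ideal.Quotient.mkₐ_eq_mk, hv]
    exact Ideal.mem_map_of_mem _ (Ideal.subset_span ⟨i, rfl⟩)
  · intro i
    simp only [AlgHom.comp_apply, Ideal.Quotient.mkₐ_eq_mk, hv, hc]

theorem isFormallySmoothAdic_mvPowerSeries (A : Type u) [CommRing A] (𝔞 : Ideal A) (n : ℕ) :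
    EGA41.IsFormallySmoothAdic A 𝔞 (MvPowerSeries (Fin n) A)
      (𝔞.map (MvPowerSeries.C : A →+* MvPowerSeries (Fin n) A) ⊔
        RingHom.ker (MvPowerSeries.constantCoeff : MvPowerSeries (Fin n) A →+* A)) := by
  intro C _ _ J hJ _ u hu
  refine exists_lift_mvPowerSeries_of_isNilpotent _ (fun i => ?_) C J hJ u hu
  apply Ideal.mem_sup_right
  rw [RingHom.mem_ker]
  simp

end Groth.Agent.Lib.Helper19

namespace Groth.Agent.Lib.Helper19

open MvPowerSeries

/-- If `K` is formally smooth over `R`, then `K[[x₁,…,xₙ]]` is formally smooth over `R` for the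
adic topology of any ideal containing the variables. -/
theorem isAdicFormallySmooth_mvPowerSeries_of_formallySmooth {R K : Type u} [CommRing R]
    [CommRing K] [Algebra R K] [Algebra.FormallySmooth R K] (n : ℕ)
    (𝔟 : Ideal (MvPowerSeries (Fin n) K)) (h𝔟 : ∀ i, (X i : MvPowerSeries (Fin n) K) ∈ 𝔟) :
    CAlgX.IsAdicFormallySmooth R (MvPowerSeries (Fin n) K) 𝔟 := by
  intro A _ _ J hJ ψ hψ
  have hJnil : IsNilpotent J := ⟨2, hJ⟩
  let ψ₀ : K →ₐ[R] A ⧸ J := ψ.comp (IsScalarTower.toAlgHom R K (MvPowerSeries (Fin n) K))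
  let l : K →ₐ[R] A := Algebra.FormallySmooth.lift J hJnil ψ₀
  have hl : ∀ a, Ideal.Quotient.mk J (l a) = ψ₀ a := Algebra.FormallySmooth.mk_lift J hJnil ψ₀
  letI : Algebra K A := l.toRingHom.toAlgebra
  haveI : IsScalarTower R K A := IsScalarTower.of_algebraMap_eq (fun r => (l.commutes r).symm)
  let ψK : MvPowerSeries (Fin n) K →ₐ[K] A ⧸ J :=
    { ψ.toRingHom with
      commutes' := fun a => by
        change ψ (algebraMap K (MvPowerSeries (Fin n) K) a) = Ideal.Quotient.mk J (l a)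
        rw [hl]
        rfl }
  have hψK : ∀ x, ψK x = ψ x := fun x => rfl
  obtain ⟨v, hv⟩ := exists_lift_mvPowerSeries_of_isNilpotent 𝔟 h𝔟 A J hJnil ψK
    (by obtain ⟨k, hk⟩ := hψ; exact ⟨k, fun x hx => by rw [hψK]; exact hk x hx⟩)
  refine ⟨v.restrictScalars R, ?_⟩
  ext x
  have := congrArg (fun f => f x) hv
  simpa [hψK] using this

end Groth.Agent.Lib.Helper19
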