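import Groth.Agent.Lib.Helper19EqualChar
import Groth.Agent.Lib.Helper19CoeffField
import Groth.Agent.Lib.Helper19ComplDim
import Groth.Agent.Lib.Helper19PsFormallySmooth
import Groth.Agent.Lib.Helper19Normalization
import Mathlib.RingTheory.AdicCompletion.LocalRing
import Mathlib.RingTheory.AdicCompletion.Noetherian

/-!
# Formally smooth local algebras over a field with separable residue field
(EGA 0_IV 19.6.4) (helper19)
-/

set_option autoImplicit false
set_option linter.style.haveILetI false
set_option linter.unusedSectionVars false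
universe u

namespace Groth.Agent.Lib.Helper19.FSLocalField

open IsLocalRing MvPowerSeries Groth.Agent.Lib.Helper19.CohenStructure

/-- a surjection `f : P → R` of local rings with kernel in `𝔫²` which has a section, onto a
complete local ring, is injective -/
theorem injective_of_section_of_ker_le_sq {P R : Type*} [CommRing P] [CommRing R] [IsLocalRing P]
    [IsLocalRing R] [IsNoetherianRing P] [IsAdicComplete (maximalIdeal R) R]
    (f : P →+* R) (v : R →+* P) (hfv : ∀ r, f (v r) = r)
    (hker : RingHom.ker f ≤ maximalIdeal P ^ 2) : Function.Injective f := by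
  have hsq_le : maximalIdeal P ^ 2 ≤ maximalIdeal P := Ideal.pow_le_self two_ne_zero
  -- `v` is local
  have hv_loc : ∀ r ∈ maximalIdeal R, v r ∈ maximalIdeal P := by
    intro r hr
    by_contra h
    have hu : IsUnit (v r) := by
      by_contra h'
      exact h ((mem_maximalIdeal _).2 h')
    have : IsUnit (f (v r)) := hu.map f
    rw [hfv] at this
    exact (mem_maximalIdeal _).1 hr this
  -- `f` is local
  have hf_loc : ∀ p ∈ maximalIdeal P, f p ∈ maximalIdeal R := by
    intro p hp
    by_contra h
    have hu : IsUnit (f p) := by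
      by_contra h'
      exact h ((mem_maximalIdeal _).2 h')
    obtain ⟨r, hr⟩ := hu.exists_right_inv
    have h1 : p * v r - 1 ∈ RingHom.ker f := by
      rw [RingHom.mem_ker, map_sub, map_mul, hfv, hr, map_one, sub_self]
    have h2 : p * v r - 1 ∈ maximalIdeal P := hsq_le (hker h1)
    have h3 : p * v r ∈ maximalIdeal P := Ideal.mul_mem_right _ _ hp
    have h4 : (1 : P) ∈ maximalIdeal P := by
      have := Ideal.sub_mem _ h3 h2
      simpa using this
    exact (Ideal.ne_top_iff_one _).1 (Ideal.IsPrime.ne_top') h4
  have key : ∀ p, v (f p) - p ∈ maximalIdeal P ^ 2 := by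
    intro p
    apply hker
    rw [RingHom.mem_ker, map_sub, hfv, sub_self]
  -- Nakayama: `𝔫 ≤ v(𝔪) P`
  have hnak : maximalIdeal P ≤ (maximalIdeal R).map v := by
    refine Submodule.le_of_le_smul_of_le_jacobson_bot (I := maximalIdeal P)
      (IsNoetherian.noetherian _) (IsLocalRing.maximalIdeal_le_jacobson _) ?_
    intro p hp
    have h1 : p = v (f p) - (v (f p) - p) := by ring
    rw [h1]
    refine Submodule.sub_mem _ (Submodule.mem_sup_left (Ideal.mem_map_of_mem _ (hf_loc p hp)))
      (Submodule.mem_sup_right ?_)
    rw [smul_eq_mul, ← sq]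
    exact key p
  -- `v` is surjective by the complete Nakayama lemma
  letI : Algebra R P := v.toAlgebra
  have halg : ∀ r, algebraMap R P r = v r := fun r => rfl
  haveI : IsHausdorff (maximalIdeal R) P := by
    constructor
    intro x hx
    refine IsHausdorff.haus' (I := maximalIdeal P) x fun n => ?_
    have h1 := hx n
    rw [SModEq.zero] at h1 ⊢
    rw [Ideal.smul_top_eq_map] at h1
    have h2 : x ∈ (maximalIdeal R ^ n).map (algebraMap R P) := h1
    rw [Ideal.map_pow] at h2
    rw [smul_eq_mul, Ideal.mul_top]
    refine Ideal.pow_right_mono ?_ n h2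
    rw [Ideal.map_le_iff_le_comap]
    intro r hr
    exact hv_loc r hr
  have hspan := Normalization.span_eq_top_of_isAdicComplete (maximalIdeal R)
    (fun _ : Fin 1 => (1 : P)) (by
      intro p _
      have h1 : p = v (f p) - (v (f p) - p) := by ring
      rw [h1]
      refine Submodule.sub_mem _ (Submodule.mem_sup_left ?_) (Submodule.mem_sup_right ?_)
      · have : v (f p) = f p • (1 : P) := by rw [Algebra.smul_def, mul_one, halg]
        rw [this]
        exact Submodule.smul_mem _ _ (Submodule.subset_span ⟨0, rfl⟩)
      · rw [Ideal.smul_top_eq_map]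
        exact hnak (hsq_le (key p)))
  have hv_surj : Function.Surjective v := by
    intro p
    have hp : p ∈ Submodule.span R (Set.range (fun _ : Fin 1 => (1 : P))) := by
      rw [hspan]; exact Submodule.mem_top
    have hrange : Set.range (fun _ : Fin 1 => (1 : P)) = {1} := by
      ext y; simp
    rw [hrange, Submodule.mem_span_singleton] at hp
    obtain ⟨r, hr⟩ := hp
    refine ⟨r, ?_⟩
    rw [← hr, Algebra.smul_def, mul_one, halg]
  intro p q hpq
  obtain ⟨r, rfl⟩ := hv_surj p
  obtain ⟨s, rfl⟩ := hv_surj q
  rw [hfv, hfv] at hpq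
  rw [hpq]

section Present

variable {K R : Type u} [Field K] [CommRing R] [IsLocalRing R] [IsNoetherianRing R]
  [IsAdicComplete (maximalIdeal R) R] [Algebra K R]

attribute [local instance] isAdicComplete_field

/-- a complete Noetherian local ring with a coefficient field `K` is the quotient of a power
series ring over `K` by an ideal in `𝔫²`; it is regular iff the quotient map is injective -/
theorem exists_ps_presentation (resR : R →ₐ[K] K) :
    ∃ (d : ℕ) (ψ : MvPowerSeries (Fin d) K →ₐ[K] R), Function.Surjective ψ ∧
      RingHom.ker ψ.toRingHom ≤ maximalIdeal (MvPowerSeries (Fin d) K) ^ 2 ∧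
      (IsRegularLocalRing R → Function.Injective ψ) := by
  let d := Module.finrank (ResidueField R) (CotangentSpace R)
  let b : Module.Basis (Fin d) (ResidueField R) (CotangentSpace R) :=
    Module.finBasis (ResidueField R) (CotangentSpace R)
  choose a' ha' using fun i => Ideal.toCotangent_surjective (maximalIdeal R) (b i)
  let a : Fin d → R := fun i => (a' i : R)
  have ham : ∀ i, a i ∈ maximalIdeal R := fun i => (a' i).2
  obtain ⟨ψ, hψX⟩ := CohenStructure.exists_algHom_X_eq_of_isAdicComplete (Λ := K)
    (maximalIdeal R) d a ham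
  have hψ : ∀ i : Fin d, ψ (X i) ∈ maximalIdeal R := fun i => by rw [hψX]; exact ham i
  have hfam : (fun i : Fin d => (maximalIdeal R).toCotangent ⟨ψ (X i), hψ i⟩) = b := by
    funext i
    have : (⟨ψ (X i), hψ i⟩ : maximalIdeal R) = a' i := Subtype.ext (hψX i)
    rw [this, ha']
  have hb : LinearIndependent (ResidueField R)
      (fun i : Fin d => (maximalIdeal R).toCotangent ⟨ψ (X i), hψ i⟩) := by
    rw [hfam]; exact b.linearIndependent
  have hsp : Submodule.span (ResidueField R)
      (Set.range (fun i : Fin d => (maximalIdeal R).toCotangent ⟨ψ (X i), hψ i⟩)) = ⊤ := by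
    rw [hfam]; exact b.span_eq
  exact ⟨d, ψ, ps_surjective ψ hψ resR hsp, ps_ker_le_sq ψ hψ resR hb, fun hreg =>
    ((isRegularLocalRing_iff_ps_bijective ψ hψ resR hb hsp).1 hreg).1⟩

/-- EGA 0_IV 19.6.4, key step: if `R` is formally smooth over `k`, a minimal presentation of `R`
as a quotient of a power series ring over a coefficient field containing `k` is injective -/
theorem injective_of_isAdicFormallySmooth {k : Type u} [Field k] [Algebra k K] [Algebra k R]
    [IsScalarTower k K R] {d : ℕ} (ψ : MvPowerSeries (Fin d) K →ₐ[K] R)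
    (hsurj : Function.Surjective ψ)
    (hker : RingHom.ker ψ.toRingHom ≤ maximalIdeal (MvPowerSeries (Fin d) K) ^ 2)
    (hfs : CAlgX.IsAdicFormallySmooth k R (maximalIdeal R)) : Function.Injective ψ := by
  set P := MvPowerSeries (Fin d) K with hP
  let ψk : P →ₐ[k] R := ψ.restrictScalars k
  have hψk : ∀ p, ψk p = ψ p := fun p => rfl
  have hsurjk : Function.Surjective ψk := hsurj
  let J : Ideal P := RingHom.ker ψk
  have hJ : J = RingHom.ker ψ.toRingHom := rfl
  have hsq_le : maximalIdeal P ^ 2 ≤ maximalIdeal P := Ideal.pow_le_self two_ne_zero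
  let eq : (P ⧸ J) ≃ₐ[k] R := Ideal.quotientKerAlgEquivOfSurjective hsurjk
  have heq : ∀ p, eq (Ideal.Quotient.mk J p) = ψ p := fun p => rfl
  let u : R →ₐ[k] P ⧸ J := eq.symm
  have hfs' : EGA41.IsFormallySmoothAdic k ⊥ R (maximalIdeal R) :=
    (isAdicFormallySmooth_iff_isFormallySmoothAdic_bot _).1 hfs
  haveI : IsAdicComplete (maximalIdeal P) P := isAdicComplete_mvPowerSeries
  have hmem : ∀ p, ψ p ∈ maximalIdeal R → p ∈ maximalIdeal P := by
    intro p hp
    by_contra h
    have hu : IsUnit p := by
      by_contra h'
      exact h ((mem_maximalIdeal _).2 h')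
    exact (mem_maximalIdeal _).1 hp (hu.map ψ)
  haveI : IsHausdorff ((maximalIdeal P).map (Ideal.Quotient.mk J)) (P ⧸ J) := by
    apply IsHausdorff.of_le_jacobson
    intro x hx
    rw [Ideal.mem_jacobson_bot]
    intro y
    obtain ⟨p, hp, rfl⟩ := (Ideal.mem_map_iff_of_surjective _ Ideal.Quotient.mk_surjective).1 hx
    obtain ⟨q, rfl⟩ := Ideal.Quotient.mk_surjective y
    rw [← map_mul, ← map_one (Ideal.Quotient.mk J), ← map_add]
    apply IsUnit.map
    by_contra h
    have h1 : p * q + 1 ∈ maximalIdeal P := (mem_maximalIdeal _).2 h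
    have h2 : (1 : P) ∈ maximalIdeal P := by
      have := Ideal.sub_mem _ h1 (Ideal.mul_mem_right q _ hp)
      simpa using this
    exact (Ideal.ne_top_iff_one _).1 (Ideal.IsPrime.ne_top') h2
  obtain ⟨v, -, hv⟩ := exists_lift_to_adicComplete (⊥ : Ideal k) (maximalIdeal R)
    (maximalIdeal P) J hfs' ⟨1, by simp⟩ ⟨1, by rw [pow_one, hJ]; exact hker.trans hsq_le⟩ u
    ⟨1, by
      rw [pow_one, Ideal.map_le_iff_le_comap]
      intro r hr
      obtain ⟨p, rfl⟩ := hsurj r
      rw [Ideal.mem_comap]
      have : u.toRingHom (ψ p) = Ideal.Quotient.mk J p := by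
        change eq.symm (ψ p) = _
        rw [← heq, AlgEquiv.symm_apply_apply]
      rw [this]
      exact Ideal.mem_map_of_mem _ (hmem p hr)⟩
  have hψv : ∀ r, ψ (v r) = r := by
    intro r
    have h1 : Ideal.Quotient.mk J (v r) = u r :=
      congrArg (fun g : R →ₐ[k] P ⧸ J => g r) hv
    rw [← heq, h1]
    exact eq.apply_symm_apply r
  exact injective_of_section_of_ker_le_sq ψ.toRingHom v.toRingHom hψv hker

end Present

section Main

attribute [local instance] isAdicComplete_field

/-- EGA 0_IV 19.6.4 (S2453) -/
theorem tfae_formallySmoothAdic_local_algebra_over_field {k A : Type u} [Field k] [CommRing A]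
    [IsLocalRing A] [IsNoetherianRing A] [Algebra k A]
    [Algebra.IsGeometricallyReduced k (ResidueField A)] :
    [CAlgX.IsAdicFormallySmooth k A (maximalIdeal A),
     ∃ (n : ℕ) (e : AdicCompletion (maximalIdeal A) A ≃+* MvPowerSeries (Fin n) (ResidueField A)),
       ∀ x : k, e (algebraMap A (AdicCompletion (maximalIdeal A) A) (algebraMap k A x)) =
         algebraMap (ResidueField A) (MvPowerSeries (Fin n) (ResidueField A))
          (algebraMap k (ResidueField A) x),
     ∃ n : ℕ, Nonempty (AdicCompletion (maximalIdeal A) A ≃+*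
       MvPowerSeries (Fin n) (ResidueField A)),
     IsRegularLocalRing A].TFAE := by
  set R := AdicCompletion (maximalIdeal A) A with hR
  haveI : IsNoetherianRing R := isNoetherianRing_adicCompletion _
  -- residue fields
  let fκ : ResidueField A →ₐ[k] ResidueField R :=
    { ResidueField.map (algebraMap A R) with
      commutes' := by
        intro c
        change ResidueField.map (algebraMap A R) (residue A (algebraMap k A c)) =
          residue R (algebraMap k R c)
        rw [ResidueField.map_residue, ← IsScalarTower.algebraMap_apply] }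
  let eκ : ResidueField A ≃ₐ[k] ResidueField R :=
    AlgEquiv.ofBijective fκ (AdicCompletion.residueField_map_bijective A)
  haveI : Algebra.IsGeometricallyReduced k (ResidueField R) :=
    Algebra.IsGeometricallyReduced.of_injective (eκ.symm : ResidueField R →ₐ[k] ResidueField A)
      eκ.symm.injective
  haveI : Algebra.FormallySmooth k (ResidueField A) :=
    PBasis.formallySmooth_of_isGeometricallyReduced
  -- coefficient field
  obtain ⟨σ, hσ⟩ := exists_coefficientField (k := k) (A := R)
  let τ : ResidueField A →ₐ[k] R := σ.comp (eκ : ResidueField A →ₐ[k] ResidueField R)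
  have hτ : ∀ x, residue R (τ x) = eκ x := fun x => hσ (eκ x)
  letI : Algebra (ResidueField A) R := τ.toRingHom.toAlgebra
  have halg : ∀ x, algebraMap (ResidueField A) R x = τ x := fun x => rfl
  haveI : IsScalarTower k (ResidueField A) R := by
    apply IsScalarTower.of_algebraMap_eq
    intro c
    rw [halg, τ.commutes]
  let resR : R →ₐ[ResidueField A] ResidueField A :=
    { toRingHom := (eκ.symm : ResidueField R →+* ResidueField A).comp (residue R)
      commutes' := fun x => by
        change eκ.symm (residue R (τ x)) = x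
        rw [hτ, AlgEquiv.symm_apply_apply] }
  obtain ⟨d, ψ, hsurj, hker, hreg⟩ := exists_ps_presentation resR
  have hCalg : ∀ (n : ℕ) (y : ResidueField A),
      algebraMap (ResidueField A) (MvPowerSeries (Fin n) (ResidueField A)) y = C y := by
    intro n y
    rw [MvPowerSeries.algebraMap_apply, Algebra.algebraMap_self, RingHom.id_apply]
  have hkR : ∀ x : k, algebraMap A R (algebraMap k A x) = algebraMap k R x := fun x =>
    (IsScalarTower.algebraMap_apply k A R x).symm
  -- formal smoothness of `A` and of its completion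
  have hfs_iff : CAlgX.IsAdicFormallySmooth k A (maximalIdeal A) ↔
      CAlgX.IsAdicFormallySmooth k R (maximalIdeal R) := by
    rw [isAdicFormallySmooth_iff_isFormallySmoothAdic_bot,
      isAdicFormallySmooth_iff_isFormallySmoothAdic_bot,
      isFormallySmoothAdic_iff_adicCompletion, AdicCompletion.maximalIdeal_eq_map]
  have key : Function.Injective ψ → ∃ (n : ℕ) (e : R ≃+* MvPowerSeries (Fin n) (ResidueField A)),
       ∀ x : k, e (algebraMap A R (algebraMap k A x)) =
         algebraMap (ResidueField A) (MvPowerSeries (Fin n) (ResidueField A))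
          (algebraMap k (ResidueField A) x) := by
    intro hinj
    let ψk : MvPowerSeries (Fin d) (ResidueField A) →ₐ[k] R := ψ.restrictScalars k
    let e : R ≃ₐ[k] MvPowerSeries (Fin d) (ResidueField A) :=
      (AlgEquiv.ofBijective ψk ⟨hinj, hsurj⟩).symm
    refine ⟨d, e.toRingEquiv, fun x => ?_⟩
    rw [hkR, hCalg]
    change e (algebraMap k R x) = _
    rw [e.commutes, MvPowerSeries.algebraMap_apply]
  tfae_have 1 → 2 := by
    intro h
    exact key (injective_of_isAdicFormallySmooth ψ hsurj hker (hfs_iff.1 h))
  tfae_have 2 → 3 := by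
    rintro ⟨n, e, -⟩
    exact ⟨n, ⟨e⟩⟩
  tfae_have 3 → 4 := by
    rintro ⟨n, ⟨e⟩⟩
    haveI : IsRegularLocalRing R := IsRegularLocalRing.of_ringEquiv e.symm
    exact (isRegularLocalRing_adicCompletion_iff A).2 this
  tfae_have 4 → 2 := by
    intro h
    exact key (hreg ((isRegularLocalRing_adicCompletion_iff A).1 h))
  tfae_have 2 → 1 := by
    rintro ⟨n, e, he⟩
    rw [hfs_iff]
    set P := MvPowerSeries (Fin n) (ResidueField A) with hP
    have hPfs : CAlgX.IsAdicFormallySmooth k P (maximalIdeal P) :=
      isAdicFormallySmooth_mvPowerSeries_of_formallySmooth n (maximalIdeal P) (fun i => by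
        rw [mem_maximalIdeal, mem_nonunits_iff, MvPowerSeries.isUnit_iff_constantCoeff]
        simp)
    let ek : R ≃ₐ[k] P :=
      { e with
        commutes' := fun x => by
          change e (algebraMap k R x) = algebraMap k P x
          rw [← hkR, he, hCalg, MvPowerSeries.algebraMap_apply] }
    have hloc : ∀ (m : ℕ) (y : P), y ∈ maximalIdeal P ^ m → ek.symm y ∈ maximalIdeal R ^ m := by
      intro m y hy
      have h1 : (maximalIdeal P).map (ek.symm : P →+* R) ≤ maximalIdeal R := by
        rw [Ideal.map_le_iff_le_comap]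
        intro p hp
        rw [Ideal.mem_comap, mem_maximalIdeal, mem_nonunits_iff]
        intro hu
        have : IsUnit (ek (ek.symm p)) := hu.map ek
        rw [AlgEquiv.apply_symm_apply] at this
        exact (mem_maximalIdeal _).1 hp this
      have h2 : (ek.symm : P →+* R) y ∈ ((maximalIdeal P) ^ m).map (ek.symm : P →+* R) :=
        Ideal.mem_map_of_mem _ hy
      rw [Ideal.map_pow] at h2
      exact Ideal.pow_right_mono h1 m h2
    intro C _ _ J hJ φ hφ
    obtain ⟨m, hm⟩ := hφ
    obtain ⟨χ', hχ'⟩ := hPfs C J hJ (φ.comp (ek.symm : P →ₐ[k] R))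
      ⟨m, fun y hy => hm _ (hloc m y hy)⟩
    refine ⟨χ'.comp (ek : R →ₐ[k] P), ?_⟩
    ext r
    have := congrArg (fun g : P →ₐ[k] C ⧸ J => g (ek r)) hχ'
    simpa using this
  tfae_finish

end Main

end Groth.Agent.Lib.Helper19.FSLocalField
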