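import Groth.Agent.Lib.Helper19FSLiftUnique
import Groth.Agent.Lib.Helper19ComplFlat
import Groth.Agent.Lib.Helper19GRMain
import Groth.Agent.S2035

/-!
# Formally smooth local homomorphisms are flat (EGA 0_IV 19.7.1) and S2038 (helper19)
-/

set_option autoImplicit false
set_option linter.style.haveILetI false
set_option linter.unusedSectionVars false
universe u

namespace Groth.Agent.Lib.Helper19.FSFlat

open IsLocalRing TensorProduct Groth.Agent.Lib.Helper19.FSFibre
  Groth.Agent.Lib.Helper19.FSLiftUnique

section flat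

variable {A B : Type u} [CommRing A] [IsLocalRing A] [IsNoetherianRing A] [CommRing B]
  [IsLocalRing B] [IsNoetherianRing B] [Algebra A B] [IsLocalHom (algebraMap A B)]

/-- **EGA 0_IV 19.7.1** (necessity), complete case -/
theorem flat_of_isFormallySmoothAdic_of_complete [IsAdicComplete (maximalIdeal B) B]
    (hfs : EGA41.IsFormallySmoothAdic A (maximalIdeal A) B (maximalIdeal B)) :
    Module.Flat A B := by
  have hIle : (maximalIdeal A).map (algebraMap A B) ≤ maximalIdeal B :=
    IsLocalRing.map_maximalIdeal_le (algebraMap A B)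
  haveI : Nontrivial (B ⧸ (maximalIdeal A).map (algebraMap A B)) :=
    Ideal.Quotient.nontrivial_iff.2
      (ne_top_of_le_ne_top (maximalIdeal.isMaximal B).ne_top hIle)
  haveI : IsLocalRing (B ⧸ (maximalIdeal A).map (algebraMap A B)) :=
    IsLocalRing.of_surjective' (Ideal.Quotient.mk _) Ideal.Quotient.mk_surjective
  have hmC₀ : (maximalIdeal B).map (Ideal.Quotient.mk ((maximalIdeal A).map (algebraMap A B))) =
      maximalIdeal (B ⧸ (maximalIdeal A).map (algebraMap A B)) :=
    FlatResExt.map_maximalIdeal_of_surjective _ Ideal.Quotient.mk_surjective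
  haveI : IsAdicComplete (maximalIdeal (B ⧸ (maximalIdeal A).map (algebraMap A B)))
      (B ⧸ (maximalIdeal A).map (algebraMap A B)) := by
    rw [← hmC₀]
    exact isAdicComplete_quotient_of_isNoetherianRing B (maximalIdeal B) _
  have hC₀ : EGA41.IsFormallySmoothAdic (A ⧸ maximalIdeal A) ⊥
      (B ⧸ (maximalIdeal A).map (algebraMap A B))
      (maximalIdeal (B ⧸ (maximalIdeal A).map (algebraMap A B))) := by
    rw [← hmC₀]
    exact isFormallySmoothAdic_quotient_of_isFormallySmoothAdic _ _ hfs
  letI : Field (A ⧸ maximalIdeal A) := Ideal.Quotient.field _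
  haveI : IsRegularLocalRing (B ⧸ (maximalIdeal A).map (algebraMap A B)) :=
    (FSGeomReg.isRegular_and_completion_of_isAdicFormallySmooth (k := A ⧸ maximalIdeal A)
      ((isAdicFormallySmooth_iff_isFormallySmoothAdic_bot _).2 hC₀)).1
  let ι : A →+* B ⧸ (maximalIdeal A).map (algebraMap A B) :=
    (Ideal.Quotient.mk _).comp (algebraMap A B)
  have hι : maximalIdeal A ≤ RingHom.ker ι := by
    intro a ha
    rw [RingHom.mem_ker]
    change Ideal.Quotient.mk _ (algebraMap A B a) = 0
    rw [Ideal.Quotient.eq_zero_iff_mem]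
    exact Ideal.mem_map_of_mem _ ha
  obtain ⟨B', i1, i2, i3, i4, i5, hcompl, hflat, ρ', hρ's, hρ'k, hρ'A⟩ :=
    exists_flat_complete_local_of_fibre_map (B ⧸ (maximalIdeal A).map (algebraMap A B)) ι hι
  obtain ⟨v, -⟩ := exists_algEquiv_of_fibre (maximalIdeal A) hfs
    (Ideal.Quotient.mk ((maximalIdeal A).map (algebraMap A B))) Ideal.Quotient.mk_surjective
    Ideal.mk_ker ρ' hρ's hρ'k (fun a => (hρ'A a).symm)
  exact Module.Flat.of_linearEquiv v.toLinearEquiv

/-- **EGA 0_IV 19.7.1** (necessity): a formally smooth local homomorphism of Noetherian local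
rings is flat -/
theorem flat_of_isFormallySmoothAdic
    (hfs : EGA41.IsFormallySmoothAdic A (maximalIdeal A) B (maximalIdeal B)) :
    Module.Flat A B := by
  haveI : IsNoetherianRing (AdicCompletion (maximalIdeal B) B) :=
    isNoetherianRing_adicCompletion _
  haveI : IsLocalHom (algebraMap A (AdicCompletion (maximalIdeal B) B)) := by
    rw [IsScalarTower.algebraMap_eq A B (AdicCompletion (maximalIdeal B) B)]
    exact RingHom.isLocalHom_comp _ _
  have hfs' : EGA41.IsFormallySmoothAdic A (maximalIdeal A) (AdicCompletion (maximalIdeal B) B)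
      (maximalIdeal (AdicCompletion (maximalIdeal B) B)) := by
    rw [AdicCompletion.maximalIdeal_eq_map]
    exact (isFormallySmoothAdic_iff_adicCompletion _ _).1 hfs
  haveI : Module.Flat A (AdicCompletion (maximalIdeal B) B) :=
    flat_of_isFormallySmoothAdic_of_complete hfs'
  haveI : Module.FaithfullyFlat B (AdicCompletion (maximalIdeal B) B) :=
    Module.FaithfullyFlat.of_flat_of_isLocalHom
  exact flat_of_flat_of_faithfullyFlat A B (AdicCompletion (maximalIdeal B) B)

end flat

section geomreg

/-- geometric regularity implies formal smoothness (any characteristic) -/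
theorem isAdicFormallySmooth_of_isGeometricallyRegular {k A : Type u} [Field k] [CommRing A]
    [IsLocalRing A] [IsNoetherianRing A] [Algebra k A] (h : CAlg.IsGeometricallyRegular k A) :
    CAlgX.IsAdicFormallySmooth k A (maximalIdeal A) := by
  obtain ⟨p, hp⟩ := CharP.exists k
  rcases CharP.char_is_prime_or_zero k p with hpp | rfl
  · haveI : Fact p.Prime := ⟨hpp⟩
    exact GR.isAdicFormallySmooth_of_regular p (fun k' _ _ hfin _ => h k' hfin)
  · haveI : CharZero k := CharP.charP_to_charZero k
    haveI : IsRegularRing A := by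
      haveI : IsRegularRing (k ⊗[k] A) := h k inferInstance
      exact IsRegularRing.of_ringEquiv (Algebra.TensorProduct.lid k A).toRingEquiv
    exact Groth.Agent.S2035.result.1 (IsRegularLocalRing.of_isRegularRing_of_isLocalRing A)

end geomreg

section S2038

variable {A B : Type u} [CommRing A] [IsLocalRing A] [IsNoetherianRing A] [CommRing B]
  [IsLocalRing B] [IsNoetherianRing B] [Algebra A B] [IsLocalHom (algebraMap A B)]
  {κ : Type u} [Field κ] [Algebra A κ]

/-- **EGA 0_IV 19.7.1 + 22.5.8** (S2038): a local homomorphism of Noetherian local rings is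
formally smooth iff it is flat with geometrically regular closed fibre -/
theorem flat_and_isGeometricallyRegular_iff (hκs : Function.Surjective (algebraMap A κ))
    (hκk : RingHom.ker (algebraMap A κ) = maximalIdeal A) :
    (Module.Flat A B ∧ CAlg.IsGeometricallyRegular κ (κ ⊗[A] B)) ↔
      CAlgX.IsAdicFormallySmooth A B (maximalIdeal B) := by
  have hIle : (maximalIdeal A).map (algebraMap A B) ≤ maximalIdeal B :=
    IsLocalRing.map_maximalIdeal_le (algebraMap A B)
  haveI : Nontrivial (B ⧸ (maximalIdeal A).map (algebraMap A B)) :=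
    Ideal.Quotient.nontrivial_iff.2
      (ne_top_of_le_ne_top (maximalIdeal.isMaximal B).ne_top hIle)
  haveI : IsLocalRing (B ⧸ (maximalIdeal A).map (algebraMap A B)) :=
    IsLocalRing.of_surjective' (Ideal.Quotient.mk _) Ideal.Quotient.mk_surjective
  have hmB₀ : (maximalIdeal B).map (Ideal.Quotient.mk ((maximalIdeal A).map (algebraMap A B))) =
      maximalIdeal (B ⧸ (maximalIdeal A).map (algebraMap A B)) :=
    FlatResExt.map_maximalIdeal_of_surjective _ Ideal.Quotient.mk_surjective
  -- the `κ`-algebra structure of `B₀`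
  have hker : RingHom.ker (algebraMap A κ) ≤
      RingHom.ker (algebraMap A (B ⧸ (maximalIdeal A).map (algebraMap A B))) := by
    rw [hκk]
    intro a ha
    rw [RingHom.mem_ker, IsScalarTower.algebraMap_apply A B (B ⧸ _),
      Ideal.Quotient.algebraMap_eq, Ideal.Quotient.eq_zero_iff_mem]
    exact Ideal.mem_map_of_mem _ ha
  letI : Algebra κ (B ⧸ (maximalIdeal A).map (algebraMap A B)) :=
    ((algebraMap A κ).liftOfSurjective hκs ⟨algebraMap A _, hker⟩).toAlgebra
  have hρA : ∀ a, Ideal.Quotient.mk ((maximalIdeal A).map (algebraMap A B)) (algebraMap A B a) =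
      algebraMap κ (B ⧸ (maximalIdeal A).map (algebraMap A B)) (algebraMap A κ a) := by
    intro a
    change _ = (algebraMap A κ).liftOfSurjective hκs ⟨algebraMap A _, hker⟩ (algebraMap A κ a)
    rw [RingHom.liftOfSurjective_comp_apply]
    rfl
  obtain ⟨e⟩ := FSLiftFibre.nonempty_tensor_algEquiv (maximalIdeal A) hκs hκk
    (Ideal.Quotient.mk ((maximalIdeal A).map (algebraMap A B))) Ideal.Quotient.mk_surjective
    Ideal.mk_ker hρA
  haveI : IsLocalRing (κ ⊗[A] B) := e.symm.toRingEquiv.isLocalRing
  haveI : IsNoetherianRing (κ ⊗[A] B) := isNoetherianRing_of_ringEquiv _ e.symm.toRingEquiv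
  constructor
  · rintro ⟨hflat, hgeo⟩
    have hgeo₀ : CAlg.IsGeometricallyRegular κ (B ⧸ (maximalIdeal A).map (algebraMap A B)) := by
      intro k' _ _ hfin
      haveI := hgeo k' hfin
      exact IsRegularRing.of_ringEquiv
        (Algebra.TensorProduct.congr (AlgEquiv.refl : k' ≃ₐ[κ] k') e).toRingEquiv
    have hB₀ := isAdicFormallySmooth_of_isGeometricallyRegular hgeo₀
    rw [isAdicFormallySmooth_iff_isFormallySmoothAdic_bot] at hB₀ ⊢
    apply isFormallySmoothAdic_bot_of_map_le (maximalIdeal A) (maximalIdeal B) hIle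
    exact isFormallySmoothAdic_of_flat_of_surjective (maximalIdeal A) hκs hκk
      (Ideal.Quotient.mk ((maximalIdeal A).map (algebraMap A B))) Ideal.Quotient.mk_surjective
      Ideal.mk_ker hρA (maximalIdeal B) _ hmB₀.ge hB₀
  · intro h
    have hbot := (isAdicFormallySmooth_iff_isFormallySmoothAdic_bot _).1 h
    refine ⟨flat_of_isFormallySmoothAdic
      (isFormallySmoothAdic_of_bot (maximalIdeal A) (maximalIdeal B) hbot), ?_⟩
    -- the fibre
    have hsurj : Function.Surjective
        (Algebra.TensorProduct.includeRight : B →ₐ[A] κ ⊗[A] B).toRingHom := by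
      intro z
      induction z using TensorProduct.induction_on with
      | zero => exact ⟨0, map_zero _⟩
      | tmul x c =>
        obtain ⟨a, rfl⟩ := hκs x
        refine ⟨a • c, ?_⟩
        change (1 : κ) ⊗ₜ[A] (a • c) = _
        rw [TensorProduct.tmul_smul, TensorProduct.smul_tmul', Algebra.smul_def, mul_one]
      | add z w hz hw =>
        obtain ⟨c, rfl⟩ := hz
        obtain ⟨d, rfl⟩ := hw
        exact ⟨c + d, map_add _ _ _⟩
    have hT := isFormallySmoothAdic_baseChange (A := A) (B := B) (A' := κ) ⊥ (maximalIdeal B) ⊥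
      ⟨1, by simp⟩ hbot
    rw [Ideal.map_bot, bot_sup_eq,
      FlatResExt.map_maximalIdeal_of_surjective _ hsurj] at hT
    exact (FSGeomReg.isGeometricallyRegular_and_completion_of_isAdicFormallySmooth
      ((isAdicFormallySmooth_iff_isFormallySmoothAdic_bot _).2 hT)).1

end S2038

end Groth.Agent.Lib.Helper19.FSFlat
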