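import Groth.Agent.Lib.Helper28Unmixed
import Mathlib.RingTheory.LocalRing.ResidueField.Fiber

/-!
# Transitivity and descent of fibre properties `(S_n)`, Cohen–Macaulay (helper28)

* `nonempty_localization_fiber_equiv`, `forall_localization_fiber_iff`: local rings of the fibre
  rings `κ(p) ⊗ B` are the fibre local rings `EGA4.FibLocRing A B q`;
* `height_fibLocRing_comp`, `depth_fibLocRing_comp`: additivity in towers of flat maps;
* `flat_of_faithfullyFlat_of_flat_comp`;
* `hasSk_fiber_comp`, `isCohenMacaulayRing_fiber_comp`, `hasSk_fiber_descent`,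
  `isCohenMacaulayRing_fiber_descent` (EGA IV 6.4.1/6.3.5 style transitivity).
-/
set_option autoImplicit false
universe u v w u' v'

namespace Groth.Agent.Lib.Helper28
open RingTheory.Sequence CategoryTheory Abelian TensorProduct
open scoped Pointwise

section FiberBridge

variable {A B : Type u} [CommRing A] [CommRing B] [Algebra A B]

/-- The contraction to `B` of a prime of the fibre ring `κ(p) ⊗ B` lies over `p`. -/
theorem comap_includeRight_comap (p : Ideal A) [p.IsPrime] (Q : Ideal (p.Fiber B)) [Q.IsPrime] :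
    (Q.comap (Algebra.TensorProduct.includeRight : B →ₐ[A] p.Fiber B)).comap (algebraMap A B) = p := by
  have h : Q.LiesOver p := inferInstance
  refine Eq.trans ?_ (h.over).symm
  ext a
  rw [Ideal.mem_comap, Ideal.mem_comap, Ideal.under_def, Ideal.mem_comap, AlgHom.commutes]

/-- The local rings of the fibre ring `κ(p) ⊗ B` are the fibre local rings `B_r / p B_r`. -/
theorem nonempty_localization_fiber_equiv (p : Ideal A) [p.IsPrime] (Q : Ideal (p.Fiber B))
    [Q.IsPrime] (r : Ideal B) [r.IsPrime]
    (hr : r = Q.comap (Algebra.TensorProduct.includeRight : B →ₐ[A] p.Fiber B)) :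
    Nonempty (Localization.AtPrime Q ≃+* EGA4.FibLocRing A B r) := by
  subst hr
  have e1 := (Ideal.Fiber.algEquivAux₂ p Q).toRingEquiv
  refine ⟨e1.trans (Ideal.quotEquivOfEq ?_)⟩
  rw [comap_includeRight_comap p Q, Ideal.map_map, ← IsScalarTower.algebraMap_eq]

end FiberBridge

section FiberBridge2

variable {A B : Type u} [CommRing A] [CommRing B] [Algebra A B]

theorem isNoetherianRing_fiber [IsNoetherianRing B] (p : Ideal A) [p.IsPrime] :
    IsNoetherianRing (p.Fiber B) := by
  let _ : Algebra B (p.Fiber B) := Algebra.TensorProduct.rightAlgebra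
  exact isNoetherianRing_of_ringEquiv _ (Ideal.Fiber.algEquivQuotient (S := B) p).symm.toRingEquiv

/-- Every prime `q` of `B` comes from a prime of the fibre ring over `q ∩ A`. -/
theorem exists_prime_fiber_comap_eq (q : Ideal B) [q.IsPrime] :
    ∃ (Q : Ideal ((q.comap (algebraMap A B)).Fiber B)) (_ : Q.IsPrime),
      q = Q.comap (Algebra.TensorProduct.includeRight :
        B →ₐ[A] (q.comap (algebraMap A B)).Fiber B) := by
  let p : PrimeSpectrum A := ⟨q.comap (algebraMap A B), inferInstance⟩
  let x : PrimeSpectrum.comap (algebraMap A B) ⁻¹' {p} := ⟨⟨q, inferInstance⟩, rfl⟩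
  let Q := PrimeSpectrum.preimageEquivFiber A B p x
  refine ⟨Q.asIdeal, Q.2, ?_⟩
  have h := (PrimeSpectrum.preimageEquivFiber A B p).symm_apply_apply x
  have h' := congrArg (fun y : PrimeSpectrum.comap (algebraMap A B) ⁻¹' {p} => y.1.asIdeal) h
  exact h'.symm

end FiberBridge2

section Composite

variable {A B C : Type u} [CommRing A] [CommRing B] [CommRing C] [IsNoetherianRing A]
  [IsNoetherianRing B] [IsNoetherianRing C] [Algebra A B] [Algebra B C] [Algebra A C]
  [IsScalarTower A B C] [Module.Flat A B] [Module.Flat B C] [Module.Flat A C]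
  (r : Ideal C) [r.IsPrime]

omit [IsNoetherianRing A] [IsNoetherianRing B] [IsNoetherianRing C] [Module.Flat A B]
  [Module.Flat B C] [Module.Flat A C] [r.IsPrime] in
theorem comap_comap_algebraMap_tower :
    (r.comap (algebraMap B C)).comap (algebraMap A B) = r.comap (algebraMap A C) := by
  rw [Ideal.comap_comap, ← IsScalarTower.algebraMap_eq]

/-- Dimension of fibre local rings is additive in towers of flat maps. -/
theorem height_fibLocRing_comp [IsLocalRing (EGA4.FibLocRing A C r)]
    [IsLocalRing (EGA4.FibLocRing B C r)]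
    [IsLocalRing (EGA4.FibLocRing A B (r.comap (algebraMap B C)))] :
    (IsLocalRing.maximalIdeal (EGA4.FibLocRing A C r)).height =
      (IsLocalRing.maximalIdeal (EGA4.FibLocRing A B (r.comap (algebraMap B C)))).height +
        (IsLocalRing.maximalIdeal (EGA4.FibLocRing B C r)).height := by
  have h1 := height_eq_height_fibLocRing_add (A := B) r
  have h2 := height_eq_height_fibLocRing_add (A := A) (r.comap (algebraMap B C))
  have h3 := height_eq_height_fibLocRing_add (A := A) r
  have e : ((r.comap (algebraMap B C)).comap (algebraMap A B)).height =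
      (r.comap (algebraMap A C)).height :=
    congrArg Ideal.height (comap_comap_algebraMap_tower (A := A) r)
  rw [e] at h2
  rw [h2, h3] at h1
  have hfin : (r.comap (algebraMap A C)).height ≠ ⊤ := Ideal.height_ne_top_of_isPrime
  apply ENat.add_left_injective_of_ne_top hfin
  simp only
  rw [h1]
  ring

/-- Depth of fibre local rings is additive in towers of flat maps. -/
theorem depth_fibLocRing_comp [IsLocalRing (EGA4.FibLocRing A C r)]
    [IsLocalRing (EGA4.FibLocRing B C r)]
    [IsLocalRing (EGA4.FibLocRing A B (r.comap (algebraMap B C)))] :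
    LocCoh.depth (EGA4.FibLocRing A C r) (EGA4.FibLocRing A C r) =
      LocCoh.depth (EGA4.FibLocRing A B (r.comap (algebraMap B C)))
          (EGA4.FibLocRing A B (r.comap (algebraMap B C))) +
        LocCoh.depth (EGA4.FibLocRing B C r) (EGA4.FibLocRing B C r) := by
  have h1 := depth_localization_eq_add_fibLocRing (A := B) r
  have h2 := depth_localization_eq_add_fibLocRing (A := A) (r.comap (algebraMap B C))
  have h3 := depth_localization_eq_add_fibLocRing (A := A) r
  rw [depth_self_congr_ideal (comap_comap_algebraMap_tower (A := A) r)] at h2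
  rw [h2, h3] at h1
  have hfin : LocCoh.depth (Localization.AtPrime (r.comap (algebraMap A C)))
      (Localization.AtPrime (r.comap (algebraMap A C))) ≠ ⊤ :=
    idealDepth_ne_top maximalIdeal_smul_top_ne_top
  have hinj := ENat.add_left_injective_of_ne_top hfin
  apply hinj
  simp only
  rw [add_comm, h1]
  ring

end Composite

section FlatDescent

variable (A B C : Type u) [CommRing A] [CommRing B] [CommRing C] [Algebra A B] [Algebra B C]
  [Algebra A C] [IsScalarTower A B C]

/-- If `C` is faithfully flat over `B` and flat over `A`, then `B` is flat over `A`. -/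
theorem flat_of_faithfullyFlat_of_flat_comp [Module.FaithfullyFlat B C] [Module.Flat A C] :
    Module.Flat A B := by
  rw [Module.Flat.iff_lTensor_preserves_injective_linearMap]
  intro N P _ _ _ _ f hf
  have h1 : Function.Injective (f.baseChange C) := by
    have := Module.Flat.lTensor_preserves_injective_linearMap (M := C) f hf
    intro x y hxy
    apply this
    simpa [LinearMap.baseChange_eq_ltensor] using hxy
  have h2 : Function.Injective ((f.baseChange B).lTensor C) := by
    have hcomm : (AlgebraTensorModule.cancelBaseChange A B C C P).toLinearMap.restrictScalars B ∘ₗ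
        ((f.baseChange B).lTensor C) =
        ((f.baseChange C).restrictScalars B) ∘ₗ
          (AlgebraTensorModule.cancelBaseChange A B C C N).toLinearMap.restrictScalars B := by
      ext c b n
      simp
    intro x y hxy
    apply (AlgebraTensorModule.cancelBaseChange A B C C N).injective
    apply h1
    have e1 := congrArg (fun g => g x) hcomm
    have e2 := congrArg (fun g => g y) hcomm
    simp only [LinearMap.comp_apply, LinearMap.restrictScalars_apply,
      LinearEquiv.coe_toLinearMap] at e1 e2
    rw [← e1, ← e2, hxy]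
  have h3 := (Module.FaithfullyFlat.lTensor_injective_iff_injective B C (f.baseChange B)).mp h2
  intro x y hxy
  apply h3
  simpa [LinearMap.baseChange_eq_ltensor] using hxy

end FlatDescent

section PropertyBridge

variable {A B : Type u} [CommRing A] [CommRing B] [Algebra A B]

/-- A ring-isomorphism-invariant property holds for all local rings of all fibre rings
`κ(p) ⊗ B` iff it holds for all fibre local rings `B_q / (q ∩ A) B_q`. -/
theorem forall_localization_fiber_iff (P : ∀ (R : Type u) [CommRing R], Prop)
    (hP : ∀ (R S : Type u) [CommRing R] [CommRing S], (R ≃+* S) → P R → P S) :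
    (∀ (p : Ideal A) [p.IsPrime] (Q : Ideal (p.Fiber B)) [Q.IsPrime],
      P (Localization.AtPrime Q)) ↔
      ∀ (q : Ideal B) [q.IsPrime], P (EGA4.FibLocRing A B q) := by
  constructor
  · intro h q hq
    obtain ⟨Q, hQ, hqQ⟩ := exists_prime_fiber_comap_eq (A := A) q
    obtain ⟨e⟩ := nonempty_localization_fiber_equiv (q.comap (algebraMap A B)) Q q hqQ
    exact hP _ _ e (h _ Q)
  · intro h p hp Q hQ
    have hr : (Q.comap (Algebra.TensorProduct.includeRight : B →ₐ[A] p.Fiber B)).IsPrime :=
      Ideal.comap_isPrime _ _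
    obtain ⟨e⟩ := nonempty_localization_fiber_equiv p Q _ rfl
    exact hP _ _ e.symm (h _)

end PropertyBridge

section SnLocalRing

/-- The `(S_n)` inequality for a Noetherian local ring. -/
def SnLocalRing (n : ℕ) (R : Type u) [CommRing R] : Prop :=
  ∃ (_ : IsLocalRing R) (_ : IsNoetherianRing R),
    min (n : WithBot ℕ∞) (ringKrullDim R) ≤ ((LocCoh.depth R R : ℕ∞) : WithBot ℕ∞)

theorem snLocalRing_of_ringEquiv (n : ℕ) (R S : Type u) [CommRing R] [CommRing S] (e : R ≃+* S)
    (h : SnLocalRing n R) : SnLocalRing n S := by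
  obtain ⟨hloc, hnoeth, hle⟩ := h
  have hloc' : IsLocalRing S := e.isLocalRing
  have hnoeth' : IsNoetherianRing S := isNoetherianRing_of_ringEquiv R e
  refine ⟨hloc', hnoeth', ?_⟩
  rw [← ringKrullDim_eq_of_ringEquiv e, ← depth_self_eq_of_ringEquiv e]
  exact hle

variable {A B : Type u} [CommRing A] [CommRing B] [Algebra A B] [IsNoetherianRing B]

theorem hasSk_fiber_iff (n : ℕ) (p : Ideal A) [p.IsPrime] :
    LocCoh.HasSk n (p.Fiber B) (p.Fiber B) ↔
      ∀ (Q : Ideal (p.Fiber B)) [Q.IsPrime], SnLocalRing n (Localization.AtPrime Q) := by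
  have hN : IsNoetherianRing (p.Fiber B) := isNoetherianRing_fiber p
  rw [hasSk_self_iff]
  refine forall_congr' fun Q => forall_congr' fun hQ => ?_
  unfold SnLocalRing
  rw [IsLocalization.AtPrime.ringKrullDim_eq_height Q (Localization.AtPrime Q)]
  constructor
  · intro h
    exact ⟨inferInstance, inferInstance, h⟩
  · rintro ⟨_, _, h⟩
    exact h

theorem forall_hasSk_fiber_iff (n : ℕ) :
    (∀ (p : Ideal A) [p.IsPrime], LocCoh.HasSk n (p.Fiber B) (p.Fiber B)) ↔
      ∀ (q : Ideal B) [q.IsPrime], SnLocalRing n (EGA4.FibLocRing A B q) := by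
  rw [← forall_localization_fiber_iff (A := A) (B := B) (SnLocalRing n) (snLocalRing_of_ringEquiv n)]
  refine forall_congr' fun p => forall_congr' fun hp => ?_
  exact hasSk_fiber_iff n p

theorem forall_isCohenMacaulayRing_fiber_iff :
    (∀ (p : Ideal A) [p.IsPrime], LocCoh.IsCohenMacaulayRing (p.Fiber B)) ↔
      ∀ (q : Ideal B) [q.IsPrime], LocCoh.IsCohenMacaulayLocalRing (EGA4.FibLocRing A B q) := by
  rw [← forall_localization_fiber_iff (A := A) (B := B)
    (fun R _ => LocCoh.IsCohenMacaulayLocalRing R)
    (fun R S _ _ e h => isCohenMacaulayLocalRing_of_ringEquiv e)]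
  refine forall_congr' fun p => forall_congr' fun hp => ?_
  have hN : IsNoetherianRing (p.Fiber B) := isNoetherianRing_fiber p
  constructor
  · intro h Q hQ
    exact h.isCohenMacaulayLocalRing_localization Q
  · intro h
    exact { isCohenMacaulayLocalRing_localization := fun Q hQ => h Q }

end SnLocalRing

section Arith

theorem min_natCast_add_le (n : ℕ) (a b : ℕ∞) :
    min (n : ℕ∞) (a + b) ≤ min (n : ℕ∞) a + min (n : ℕ∞) b := by
  rcases le_total (n : ℕ∞) a with h | h
  · rw [min_eq_left h]
    exact le_trans (min_le_left _ _) le_self_add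
  · rcases le_total (n : ℕ∞) b with h' | h'
    · rw [min_eq_left h']
      exact le_trans (min_le_left _ _) le_add_self
    · rw [min_eq_right h, min_eq_right h']
      exact min_le_right _ _

theorem withBot_min_natCast_le_iff (n : ℕ) (x y : ℕ∞) :
    min (n : WithBot ℕ∞) ((x : ℕ∞) : WithBot ℕ∞) ≤ ((y : ℕ∞) : WithBot ℕ∞) ↔
      min (n : ℕ∞) x ≤ y := by
  have h : (n : WithBot ℕ∞) = ((n : ℕ∞) : WithBot ℕ∞) := rfl
  rw [h, ← WithBot.coe_min, WithBot.coe_le_coe]

end Arith

section Transitivity

variable {A B C : Type u} [CommRing A] [CommRing B] [CommRing C] [IsNoetherianRing A]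
  [IsNoetherianRing B] [IsNoetherianRing C] [Algebra A B] [Algebra B C] [Algebra A C]
  [IsScalarTower A B C] [Module.Flat A B] [Module.Flat B C] [Module.Flat A C]

theorem snLocalRing_iff (n : ℕ) (R : Type u) [CommRing R] [IsLocalRing R] [IsNoetherianRing R] :
    SnLocalRing n R ↔
      min (n : ℕ∞) (IsLocalRing.maximalIdeal R).height ≤ LocCoh.depth R R := by
  unfold SnLocalRing
  constructor
  · rintro ⟨_, _, h⟩
    rw [← IsLocalRing.maximalIdeal_height_eq_ringKrullDim, withBot_min_natCast_le_iff] at h
    exact h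
  · intro h
    refine ⟨inferInstance, inferInstance, ?_⟩
    rw [← IsLocalRing.maximalIdeal_height_eq_ringKrullDim, withBot_min_natCast_le_iff]
    exact h

theorem snLocalRing_fibLocRing_comp (n : ℕ) (r : Ideal C) [r.IsPrime]
    (h1 : SnLocalRing n (EGA4.FibLocRing A B (r.comap (algebraMap B C))))
    (h2 : SnLocalRing n (EGA4.FibLocRing B C r)) : SnLocalRing n (EGA4.FibLocRing A C r) := by
  have i1 : IsLocalRing (EGA4.FibLocRing A C r) := isLocalRing_fibLocRing (A := A) r
  have i2 : IsLocalRing (EGA4.FibLocRing B C r) := isLocalRing_fibLocRing (A := B) r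
  have i3 : IsLocalRing (EGA4.FibLocRing A B (r.comap (algebraMap B C))) :=
    isLocalRing_fibLocRing (A := A) _
  rw [snLocalRing_iff] at h1 h2 ⊢
  rw [height_fibLocRing_comp (A := A) (B := B) r, depth_fibLocRing_comp (A := A) (B := B) r]
  exact le_trans (min_natCast_add_le n _ _) (add_le_add h1 h2)

theorem isCohenMacaulayLocalRing_iff (R : Type u) [CommRing R] [IsLocalRing R]
    [IsNoetherianRing R] :
    LocCoh.IsCohenMacaulayLocalRing R ↔
      (IsLocalRing.maximalIdeal R).height = LocCoh.depth R R := by
  constructor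
  · intro h
    have := h.supportDim_eq_depth
    rw [Module.supportDim_self_eq_ringKrullDim,
      ← IsLocalRing.maximalIdeal_height_eq_ringKrullDim] at this
    exact WithBot.coe_injective this
  · intro h
    refine { supportDim_eq_depth := ?_ }
    rw [Module.supportDim_self_eq_ringKrullDim,
      ← IsLocalRing.maximalIdeal_height_eq_ringKrullDim, h]

theorem isCohenMacaulayLocalRing_fibLocRing_comp (r : Ideal C) [r.IsPrime]
    (h1 : LocCoh.IsCohenMacaulayLocalRing (EGA4.FibLocRing A B (r.comap (algebraMap B C))))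
    (h2 : LocCoh.IsCohenMacaulayLocalRing (EGA4.FibLocRing B C r)) :
    LocCoh.IsCohenMacaulayLocalRing (EGA4.FibLocRing A C r) := by
  have i1 : IsLocalRing (EGA4.FibLocRing A C r) := isLocalRing_fibLocRing (A := A) r
  rw [isCohenMacaulayLocalRing_iff] at h1 h2 ⊢
  rw [height_fibLocRing_comp (A := A) (B := B) r, depth_fibLocRing_comp (A := A) (B := B) r,
    h1, h2]

/-- For `r` minimal over `q C`, the fibre local ring `C_r / q C_r` has dimension and depth zero. -/
theorem fibLocRing_zero_of_mem_minimalPrimes (q : Ideal B) [q.IsPrime] (r : Ideal C) [r.IsPrime]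
    (hr : r ∈ (q.map (algebraMap B C)).minimalPrimes) [IsLocalRing (EGA4.FibLocRing B C r)] :
    (IsLocalRing.maximalIdeal (EGA4.FibLocRing B C r)).height = 0 ∧
      LocCoh.depth (EGA4.FibLocRing B C r) (EGA4.FibLocRing B C r) = 0 := by
  obtain ⟨hd, hh⟩ := depth_height_localization_eq_of_mem_minimalPrimes_map q r hr
  have hrq : r.comap (algebraMap B C) = q := under_eq_of_mem_minimalPrimes_map q r hr
  have h1 := height_eq_height_fibLocRing_add (A := B) r
  have h2 := depth_localization_eq_add_fibLocRing (A := B) r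
  have e : (r.comap (algebraMap B C)).height = q.height := congrArg Ideal.height hrq
  rw [e, hh] at h1
  rw [depth_self_congr_ideal hrq, hd] at h2
  have hfin : q.height ≠ ⊤ := Ideal.height_ne_top_of_isPrime
  have hfin' : LocCoh.depth (Localization.AtPrime q) (Localization.AtPrime q) ≠ ⊤ :=
    idealDepth_ne_top maximalIdeal_smul_top_ne_top
  constructor
  · apply ENat.add_left_injective_of_ne_top hfin
    simp only
    rw [← h1, zero_add]
  · have hinj := ENat.add_left_injective_of_ne_top hfin'
    apply hinj
    simp only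
    rw [add_comm, ← h2, zero_add]

end Transitivity

section Final

variable (A B C : Type u) [CommRing A] [CommRing B] [CommRing C] [IsNoetherianRing A]
  [IsNoetherianRing B] [IsNoetherianRing C] [Algebra A B] [Algebra B C] [Algebra A C]
  [IsScalarTower A B C]

/-- `(S_n)` fibres are stable under composition of flat maps. -/
theorem hasSk_fiber_comp (n : ℕ) [Module.Flat A B] [Module.Flat B C]
    (hAB : ∀ (p : Ideal A) [p.IsPrime], LocCoh.HasSk n (p.Fiber B) (p.Fiber B))
    (hBC : ∀ (q : Ideal B) [q.IsPrime], LocCoh.HasSk n (q.Fiber C) (q.Fiber C)) :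
    Module.Flat A C ∧ ∀ (p : Ideal A) [p.IsPrime], LocCoh.HasSk n (p.Fiber C) (p.Fiber C) := by
  have hAC : Module.Flat A C := Module.Flat.trans A B C
  refine ⟨hAC, ?_⟩
  rw [forall_hasSk_fiber_iff] at hAB hBC ⊢
  intro r hr
  exact snLocalRing_fibLocRing_comp n r (hAB _) (hBC r)

/-- Cohen–Macaulay fibres are stable under composition of flat maps. -/
theorem isCohenMacaulayRing_fiber_comp [Module.Flat A B] [Module.Flat B C]
    (hAB : ∀ (p : Ideal A) [p.IsPrime], LocCoh.IsCohenMacaulayRing (p.Fiber B))
    (hBC : ∀ (q : Ideal B) [q.IsPrime], LocCoh.IsCohenMacaulayRing (q.Fiber C)) :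
    Module.Flat A C ∧ ∀ (p : Ideal A) [p.IsPrime], LocCoh.IsCohenMacaulayRing (p.Fiber C) := by
  have hAC : Module.Flat A C := Module.Flat.trans A B C
  refine ⟨hAC, ?_⟩
  rw [forall_isCohenMacaulayRing_fiber_iff] at hAB hBC ⊢
  intro r hr
  exact isCohenMacaulayLocalRing_fibLocRing_comp r (hAB _) (hBC r)

/-- Descent of `(S_n)` fibres along a faithfully flat map with `(S_n)` fibres. -/
theorem hasSk_fiber_descent (n : ℕ) [Module.FaithfullyFlat B C] [Module.Flat A C]
    (hAC : ∀ (p : Ideal A) [p.IsPrime], LocCoh.HasSk n (p.Fiber C) (p.Fiber C)) :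
    Module.Flat A B ∧ ∀ (p : Ideal A) [p.IsPrime], LocCoh.HasSk n (p.Fiber B) (p.Fiber B) := by
  have hAB : Module.Flat A B := flat_of_faithfullyFlat_of_flat_comp A B C
  refine ⟨hAB, ?_⟩
  rw [forall_hasSk_fiber_iff] at hAC ⊢
  intro q hq
  have hne : q.map (algebraMap B C) ≠ ⊤ := by
    intro h
    have := Ideal.comap_map_eq_self_of_faithfullyFlat (B := C) q
    rw [h, Ideal.comap_top] at this
    exact hq.ne_top this.symm
  obtain ⟨r, hr⟩ := Ideal.nonempty_minimalPrimes hne
  have hrp : r.IsPrime := hr.1.1
  have hrq : r.comap (algebraMap B C) = q := under_eq_of_mem_minimalPrimes_map q r hr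
  have i1 : IsLocalRing (EGA4.FibLocRing A C r) := isLocalRing_fibLocRing (A := A) r
  have i2 : IsLocalRing (EGA4.FibLocRing B C r) := isLocalRing_fibLocRing (A := B) r
  have i3 : IsLocalRing (EGA4.FibLocRing A B (r.comap (algebraMap B C))) :=
    isLocalRing_fibLocRing (A := A) _
  obtain ⟨h0, d0⟩ := fibLocRing_zero_of_mem_minimalPrimes q r hr
  have hAC' := hAC r
  rw [snLocalRing_iff, height_fibLocRing_comp (A := A) (B := B) r,
    depth_fibLocRing_comp (A := A) (B := B) r, h0, d0, add_zero, add_zero] at hAC'
  subst hrq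
  rw [snLocalRing_iff]
  exact hAC'

/-- Descent of Cohen–Macaulay fibres along a faithfully flat map. -/
theorem isCohenMacaulayRing_fiber_descent [Module.FaithfullyFlat B C] [Module.Flat A C]
    (hAC : ∀ (p : Ideal A) [p.IsPrime], LocCoh.IsCohenMacaulayRing (p.Fiber C)) :
    Module.Flat A B ∧ ∀ (p : Ideal A) [p.IsPrime], LocCoh.IsCohenMacaulayRing (p.Fiber B) := by
  have hAB : Module.Flat A B := flat_of_faithfullyFlat_of_flat_comp A B C
  refine ⟨hAB, ?_⟩
  rw [forall_isCohenMacaulayRing_fiber_iff] at hAC ⊢
  intro q hq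
  have hne : q.map (algebraMap B C) ≠ ⊤ := by
    intro h
    have := Ideal.comap_map_eq_self_of_faithfullyFlat (B := C) q
    rw [h, Ideal.comap_top] at this
    exact hq.ne_top this.symm
  obtain ⟨r, hr⟩ := Ideal.nonempty_minimalPrimes hne
  have hrp : r.IsPrime := hr.1.1
  have hrq : r.comap (algebraMap B C) = q := under_eq_of_mem_minimalPrimes_map q r hr
  have i1 : IsLocalRing (EGA4.FibLocRing A C r) := isLocalRing_fibLocRing (A := A) r
  have i2 : IsLocalRing (EGA4.FibLocRing B C r) := isLocalRing_fibLocRing (A := B) r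
  have i3 : IsLocalRing (EGA4.FibLocRing A B (r.comap (algebraMap B C))) :=
    isLocalRing_fibLocRing (A := A) _
  obtain ⟨h0, d0⟩ := fibLocRing_zero_of_mem_minimalPrimes q r hr
  have hAC' := hAC r
  rw [isCohenMacaulayLocalRing_iff, height_fibLocRing_comp (A := A) (B := B) r,
    depth_fibLocRing_comp (A := A) (B := B) r, h0, d0, add_zero, add_zero] at hAC'
  subst hrq
  rw [isCohenMacaulayLocalRing_iff]
  exact hAC'

end Final

end Groth.Agent.Lib.Helper28
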