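import Mathlib
import Groth.Agent.Lib.Helper19FSFlat
import Groth.Agent.Lib.Helper19FSGeomReg
import Groth.Agent.Lib.Helper28FibreTrans

set_option autoImplicit false
universe u
open TensorProduct IsLocalRing

namespace Groth.Agent.Lib.Helper6.FSReg

theorem isAdicFormallySmooth_of_formallySmooth (R S : Type u) [CommRing R] [CommRing S]
    [Algebra R S] [Algebra.FormallySmooth R S] (𝔫 : Ideal S) :
    CAlgX.IsAdicFormallySmooth R S 𝔫 := by
  intro A _ _ J hJ ψ _
  exact Algebra.FormallySmooth.exists_lift J ⟨2, hJ⟩ ψ

theorem isFormallySmoothAdic_of_formallySmooth (R S : Type u) [CommRing R] [CommRing S]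
    [Algebra R S] [Algebra.FormallySmooth R S] (𝔞 : Ideal R) (𝔫 : Ideal S) :
    EGA41.IsFormallySmoothAdic R 𝔞 S 𝔫 := by
  intro C _ _ J hJ _ u _
  exact Algebra.FormallySmooth.exists_lift J hJ u

theorem isRegularRing_of_formallySmooth (k C : Type u) [Field k] [CommRing C] [Algebra k C]
    [IsNoetherianRing C] [Algebra.FormallySmooth k C] : IsRegularRing C := by
  rw [isRegularRing_iff]
  intro Q hQ
  have h := isAdicFormallySmooth_of_formallySmooth k (Localization.AtPrime Q)
    (maximalIdeal (Localization.AtPrime Q))
  exact (Groth.Agent.Lib.Helper19.FSGeomReg.isRegular_and_completion_of_isAdicFormallySmooth h).1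

theorem flat_of_formallySmooth (A B : Type u) [CommRing A] [CommRing B] [Algebra A B]
    [IsNoetherianRing A] [IsNoetherianRing B] [Algebra.FormallySmooth A B] : Module.Flat A B := by
  refine Module.flat_of_isLocalized_maximal B B (fun P _ => Localization.AtPrime P)
    (fun P _ => Algebra.linearMap B (Localization.AtPrime P)) (fun P hP => ?_)
  set p : Ideal A := P.under A with hp
  haveI : P.LiesOver p := ⟨rfl⟩
  letI := Localization.AtPrime.algebraOfLiesOver p P
  haveI : Algebra.FormallySmooth A (Localization.AtPrime P) := inferInstance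
  haveI : Algebra.FormallySmooth (Localization.AtPrime p) (Localization.AtPrime P) :=
    Algebra.FormallySmooth.localization_base p.primeCompl
  have hfs := isFormallySmoothAdic_of_formallySmooth (Localization.AtPrime p)
    (Localization.AtPrime P) (maximalIdeal _) (maximalIdeal _)
  haveI : Module.Flat (Localization.AtPrime p) (Localization.AtPrime P) :=
    Groth.Agent.Lib.Helper19.FSFlat.flat_of_isFormallySmoothAdic hfs
  exact Module.Flat.trans A (Localization.AtPrime p) (Localization.AtPrime P)

/-- **EGA 0_IV 19.7.1 / 22.5.8**: a formally smooth homomorphism of Noetherian rings is regular. -/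
theorem main (A B : Type u) [CommRing A] [CommRing B] [Algebra A B]
    [IsNoetherianRing A] [IsNoetherianRing B] [Algebra.FormallySmooth A B] :
    CAlg.IsRegularHom A B := by
  refine ⟨flat_of_formallySmooth A B, fun p hp =>
    ⟨Groth.Agent.Lib.Helper28.isNoetherianRing_fiber p, fun k' _ _ hfin => ?_⟩⟩
  haveI := hfin
  haveI : IsNoetherianRing (p.Fiber B) := Groth.Agent.Lib.Helper28.isNoetherianRing_fiber p
  haveI : IsNoetherianRing (k' ⊗[p.ResidueField] (p.Fiber B)) := by
    have h1 : IsNoetherianRing ((p.Fiber B) ⊗[p.ResidueField] k') :=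
      Algebra.FiniteType.isNoetherianRing (p.Fiber B) ((p.Fiber B) ⊗[p.ResidueField] k')
    exact isNoetherianRing_of_ringEquiv _
      (Algebra.TensorProduct.comm p.ResidueField (p.Fiber B) k').toRingEquiv
  haveI : Algebra.FormallySmooth p.ResidueField (p.Fiber B) := inferInstance
  haveI : Algebra.FormallySmooth k' (k' ⊗[p.ResidueField] (p.Fiber B)) := inferInstance
  exact isRegularRing_of_formallySmooth k' _

end Groth.Agent.Lib.Helper6.FSReg
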