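import Mathlib

/-!
# Projective modules over a local ring with nilpotent maximal ideal are free (helper5)

No finiteness assumption on the module.
-/

set_option autoImplicit false
universe u v

namespace Groth.Agent.Lib.Helper5

section

variable {R : Type u} [CommRing R] {M : Type v} [AddCommGroup M] [Module R M]

/-- Nakayama for a nilpotent ideal, without finiteness. -/
theorem eq_top_of_sup_smul_top_eq_top_of_isNilpotent {I : Ideal R} (hI : IsNilpotent I)
    {N : Submodule R M} (h : N ⊔ I • ⊤ = ⊤) : N = ⊤ := by
  obtain ⟨n, hn⟩ := hI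
  have key : ∀ k : ℕ, N ⊔ I ^ k • (⊤ : Submodule R M) = ⊤ := by
    intro k
    induction k with
    | zero => rw [pow_zero, Ideal.one_eq_top, Submodule.top_smul, sup_top_eq]
    | succ k ih =>
      rw [eq_top_iff]
      calc (⊤ : Submodule R M) = N ⊔ I • (⊤ : Submodule R M) := h.symm
        _ = N ⊔ I • (N ⊔ I ^ k • (⊤ : Submodule R M)) := by rw [ih]
        _ = N ⊔ (I • N ⊔ I • (I ^ k • (⊤ : Submodule R M))) := by rw [Submodule.smul_sup]
        _ ≤ N ⊔ I ^ (k + 1) • (⊤ : Submodule R M) := by
          rw [← Submodule.mul_smul, ← pow_succ']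
          exact sup_le le_sup_left (sup_le (Submodule.smul_le_right.trans le_sup_left) le_sup_right)
  have := key n
  rwa [hn, Ideal.zero_eq_bot, Submodule.bot_smul, sup_bot_eq] at this

/-- Nakayama for a nilpotent ideal: `N ≤ I • N` implies `N = ⊥`. -/
theorem eq_bot_of_le_smul_of_isNilpotent {I : Ideal R} (hI : IsNilpotent I)
    {N : Submodule R M} (h : N ≤ I • N) : N = ⊥ := by
  obtain ⟨n, hn⟩ := hI
  have key : ∀ k : ℕ, N ≤ I ^ k • N := by
    intro k
    induction k with
    | zero => rw [pow_zero, Ideal.one_eq_top, Submodule.top_smul]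
    | succ k ih =>
      calc N ≤ I • N := h
        _ ≤ I • (I ^ k • N) := Submodule.smul_mono le_rfl ih
        _ = I ^ (k + 1) • N := by rw [← Submodule.mul_smul, ← pow_succ']
  have := key n
  rwa [hn, Ideal.zero_eq_bot, Submodule.bot_smul, le_bot_iff] at this

end

section

variable {R : Type u} [CommRing R] [IsLocalRing R] {P : Type v} [AddCommGroup P] [Module R P]

open IsLocalRing

/-- A projective module over a local ring with nilpotent maximal ideal is free. -/
theorem free_of_projective_of_isNilpotent_maximalIdeal (hnil : IsNilpotent (maximalIdeal R))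
    [Module.Projective R P] : Module.Free R P := by
  classical
  -- basis of `P/mP` over the residue field
  let _ : Field (R ⧸ maximalIdeal R) := Ideal.Quotient.field _
  obtain ⟨⟨ι, b⟩⟩ := Module.Free.exists_basis (R := R ⧸ maximalIdeal R)
    (M := P ⧸ (maximalIdeal R • ⊤ : Submodule R P))
  have hmkQ : Function.Surjective (maximalIdeal R • ⊤ : Submodule R P).mkQ :=
    Submodule.mkQ_surjective _
  let e : ι → P := fun i => Function.surjInv hmkQ (b i)
  have he : ∀ i, (maximalIdeal R • ⊤ : Submodule R P).mkQ (e i) = b i :=
    fun i => Function.surjInv_eq hmkQ (b i)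
  let φ : (ι →₀ R) →ₗ[R] P := Finsupp.linearCombination R e
  have h7 : ∀ x : ι →₀ R, (maximalIdeal R • ⊤ : Submodule R P).mkQ (φ x) =
      Finsupp.linearCombination (R ⧸ maximalIdeal R) b
        (Finsupp.mapRange (Ideal.Quotient.mk (maximalIdeal R)) (map_zero _) x) := by
    intro x
    induction x using Finsupp.induction_linear with
    | zero => simp
    | add f g hf hg =>
      rw [map_add, map_add, hf, hg, Finsupp.mapRange_add (fun a b => map_add _ a b), map_add]
    | single i r =>
      rw [Finsupp.linearCombination_single, map_smul, he, Finsupp.mapRange_single,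
        Finsupp.linearCombination_single]
      obtain ⟨y, hy⟩ := hmkQ (b i)
      rw [← hy]
      rfl
  -- surjectivity
  have hsurj : Function.Surjective φ := by
    rw [← LinearMap.range_eq_top]
    apply eq_top_of_sup_smul_top_eq_top_of_isNilpotent hnil
    rw [eq_top_iff]
    intro p _
    -- write `mkQ p` in the basis
    have h1 : (maximalIdeal R • ⊤ : Submodule R P).mkQ p ∈
        Submodule.span R (Set.range fun i => (maximalIdeal R • ⊤ : Submodule R P).mkQ (e i)) := by
      have h2 : Submodule.span (R ⧸ maximalIdeal R) (Set.range b) = ⊤ := b.span_eq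
      have h3 := Submodule.restrictScalars_span R (R ⧸ maximalIdeal R)
        Ideal.Quotient.mk_surjective (Set.range b)
      have h4 : (fun i => (maximalIdeal R • ⊤ : Submodule R P).mkQ (e i)) = b := funext he
      rw [h4, ← h3, h2]
      trivial
    have hcomp : (fun i => (maximalIdeal R • ⊤ : Submodule R P).mkQ (e i)) =
        (maximalIdeal R • ⊤ : Submodule R P).mkQ ∘ e := rfl
    rw [hcomp, Set.range_comp, ← Submodule.map_span, ← Finsupp.range_linearCombination] at h1
    obtain ⟨q, hq, hqp⟩ := h1
    have h5 : p - q ∈ (maximalIdeal R • ⊤ : Submodule R P) := by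
      rw [← Submodule.Quotient.eq]
      exact hqp.symm
    rw [Submodule.mem_sup]
    exact ⟨q, hq, p - q, h5, by abel⟩
  -- splitting
  obtain ⟨s, hs⟩ := Module.projective_lifting_property φ LinearMap.id hsurj
  -- injectivity
  have hker : LinearMap.ker φ = ⊥ := by
    apply eq_bot_of_le_smul_of_isNilpotent hnil
    intro x hx
    rw [LinearMap.mem_ker] at hx
    -- coordinates of `x` lie in `m`
    have hcoord : ∀ i, x i ∈ maximalIdeal R := by
      have h6 : (maximalIdeal R • ⊤ : Submodule R P).mkQ (φ x) = 0 := by rw [hx, map_zero]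
      rw [h7 x] at h6
      have h9 : Finsupp.mapRange (Ideal.Quotient.mk (maximalIdeal R)) (map_zero _) x = 0 := by
        have hli := b.linearIndependent
        rw [linearIndependent_iff] at hli
        exact hli _ h6
      intro i
      have h10 := DFunLike.congr_fun h9 i
      rw [Finsupp.mapRange_apply, Finsupp.zero_apply] at h10
      exact Ideal.Quotient.eq_zero_iff_mem.mp h10
    -- `x ∈ m • ker φ`: apply the projection `id - s ∘ φ`
    have hx1 : x ∈ (maximalIdeal R • ⊤ : Submodule R (ι →₀ R)) := by
      rw [← Finsupp.sum_single x]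
      refine Submodule.sum_mem _ fun i _ => ?_
      have : Finsupp.single i (x i) = x i • Finsupp.single i (1 : R) := by
        rw [Finsupp.smul_single, smul_eq_mul, mul_one]
      rw [this]
      exact Submodule.smul_mem_smul (hcoord i) Submodule.mem_top
    let πK : (ι →₀ R) →ₗ[R] (ι →₀ R) := LinearMap.id - s ∘ₗ φ
    have hπK : ∀ y, πK y ∈ LinearMap.ker φ := by
      intro y
      rw [LinearMap.mem_ker]
      have : φ (s (φ y)) = φ y := LinearMap.congr_fun hs (φ y)
      simp [πK, this]
    have hπKx : πK x = x := by simp [πK, hx]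
    rw [← hπKx]
    refine Submodule.smul_induction_on hx1 ?_ ?_
    · intro r hr y _
      rw [map_smul]
      exact Submodule.smul_mem_smul hr (hπK y)
    · intro y z hy hz
      rw [map_add]
      exact add_mem hy hz
  exact Module.Free.of_equiv (LinearEquiv.ofBijective φ ⟨LinearMap.ker_eq_bot.mp hker, hsurj⟩)

end

end Groth.Agent.Lib.Helper5
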