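import Mathlib
import Groth.Agent.Lib.Helper5NilFree

/-!
# Descent of flatness along an injective map from a local ring with nilpotent maximal ideal
(helper5)
-/

set_option autoImplicit false
universe u
open scoped Pointwise

namespace Groth.Agent.Lib.Helper5

open TensorProduct

section

variable {R S : Type u} [CommRing R] [CommRing S] [IsLocalRing R] [Algebra R S]
  {M N : Type u} [AddCommGroup M] [Module R M] [AddCommGroup N] [Module S N] [Module R N]
  [IsScalarTower R S N]

/-- Let `R` be local with nilpotent maximal ideal, `R → S` injective, and `N` the base change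
of an `R`-module `M` to `S`. If `N` is flat over `S` then `M` is free over `R`. -/
theorem free_of_flat_isBaseChange_of_injective
    (hnil : IsNilpotent (IsLocalRing.maximalIdeal R))
    (hinj : Function.Injective (algebraMap R S)) (f : M →ₗ[R] N) (hf : IsBaseChange S f)
    [Module.Flat S N] : Module.Free R M := by
  classical
  let _ : Field (R ⧸ IsLocalRing.maximalIdeal R) := Ideal.Quotient.field _
  -- a basis of `k ⊗ M` and lifts
  obtain ⟨⟨ι, w⟩⟩ := Module.Free.exists_basis (R := R ⧸ IsLocalRing.maximalIdeal R)
    (M := (R ⧸ IsLocalRing.maximalIdeal R) ⊗[R] M)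
  obtain ⟨v, eq⟩ := (TensorProduct.mk_surjective R M (R ⧸ IsLocalRing.maximalIdeal R)
    Ideal.Quotient.mk_surjective).comp_left w
  have eq' : ∀ i, (1 : R ⧸ IsLocalRing.maximalIdeal R) ⊗ₜ[R] v i = w i := fun i => congrFun eq i
  have hsp : Submodule.span R (Set.range v) = ⊤ := by
    apply eq_top_of_sup_smul_top_eq_top_of_isNilpotent hnil
    rw [← LinearMap.ker_tensorProductMk, ← Submodule.comap_map_eq, Submodule.map_span,
      ← Set.range_comp]
    have h1 : (⇑(TensorProduct.mk R (R ⧸ IsLocalRing.maximalIdeal R) M 1) ∘ v) = ⇑w := eq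
    rw [h1]
    have h2 := Submodule.restrictScalars_span R (R ⧸ IsLocalRing.maximalIdeal R)
      Ideal.Quotient.mk_surjective (Set.range w)
    have h3 : Submodule.span R (Set.range ⇑w) =
        (⊤ : Submodule R ((R ⧸ IsLocalRing.maximalIdeal R) ⊗[R] M)) := by
      rw [← h2, w.span_eq]
      rfl
    exact h3 ▸ Submodule.comap_top _
  -- the ideal `mS` and the quotient `T = S/mS`
  set mS : Ideal S := (IsLocalRing.maximalIdeal R).map (algebraMap R S) with hmS
  have hmSnil : IsNilpotent mS := by
    obtain ⟨n, hn⟩ := hnil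
    refine ⟨n, ?_⟩
    rw [hmS, ← Ideal.map_pow, hn, Ideal.zero_eq_bot, Ideal.map_bot]
    rfl
  -- the `R`-linear map `k → T`
  let κ : (R ⧸ IsLocalRing.maximalIdeal R) →ₗ[R] (S ⧸ mS) :=
    Submodule.mapQ (IsLocalRing.maximalIdeal R) (mS.restrictScalars R) (Algebra.linearMap R S)
      (fun a ha => Ideal.mem_map_of_mem _ ha)
  have hκ : ∀ a : R, κ (Ideal.Quotient.mk _ a) = Ideal.Quotient.mk mS (algebraMap R S a) :=
    fun a => rfl
  have hκ1 : κ 1 = 1 := by
    rw [← map_one (Ideal.Quotient.mk (IsLocalRing.maximalIdeal R)), hκ, map_one, map_one]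
  -- coordinate functionals `g j : M → T`
  let g : ι → M →ₗ[R] (S ⧸ mS) := fun j =>
    κ ∘ₗ ((w.coord j).restrictScalars R) ∘ₗ (TensorProduct.mk R (R ⧸ IsLocalRing.maximalIdeal R) M 1)
  have hg : ∀ i j, g j (v i) = if i = j then 1 else 0 := by
    intro i j
    change κ (w.coord j ((1 : R ⧸ IsLocalRing.maximalIdeal R) ⊗ₜ[R] v i)) = _
    rw [eq', Module.Basis.coord_apply, Module.Basis.repr_self, Finsupp.single_apply]
    split_ifs
    · exact hκ1
    · exact map_zero κ
  let Λ : ι → N →ₗ[S] (S ⧸ mS) := fun j => hf.lift (g j)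
  have hΛ : ∀ i j, Λ j (f (v i)) = if i = j then 1 else 0 := by
    intro i j
    rw [← hg i j]
    exact hf.lift_eq (g j) (v i)
  -- the `S`-linear map `ψ : S^(ι) → N`
  let ψ : (ι →₀ S) →ₗ[S] N := Finsupp.linearCombination S (fun i => f (v i))
  have hψsurj : Function.Surjective ψ := by
    rw [← LinearMap.range_eq_top, Finsupp.range_linearCombination, eq_top_iff]
    rintro y -
    induction y using hf.inductionOn with
    | zero => exact Submodule.zero_mem _
    | tmul m =>
      have hm : m ∈ Submodule.span R (Set.range v) := by rw [hsp]; trivial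
      refine Submodule.span_induction ?_ ?_ ?_ ?_ hm
      · rintro _ ⟨i, rfl⟩
        exact Submodule.subset_span ⟨i, rfl⟩
      · rw [map_zero]; exact Submodule.zero_mem _
      · intro a b _ _ ha hb
        rw [map_add]; exact Submodule.add_mem _ ha hb
      · intro c a _ ha
        rw [map_smul, ← algebraMap_smul S c (f a)]
        exact Submodule.smul_mem _ _ ha
    | smul s n hn => exact Submodule.smul_mem _ s hn
    | add a b ha hb => exact Submodule.add_mem _ ha hb
  -- coordinates of kernel elements lie in `mS`
  have hcoord : ∀ x : ι →₀ S, ψ x = 0 → ∀ j, x j ∈ mS := by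
    intro x hx j
    have h1 : Λ j (ψ x) = Ideal.Quotient.mk mS (x j) := by
      change Λ j (Finsupp.linearCombination S (fun i => f (v i)) x) = _
      rw [Finsupp.linearCombination_apply, Finsupp.sum, map_sum]
      simp only [map_smul, hΛ]
      rw [Finset.sum_eq_single j]
      · rw [if_pos rfl, Algebra.smul_def, mul_one]
        rfl
      · intro i _ hij
        rw [if_neg hij, smul_zero]
      · intro hj
        rw [Finsupp.notMem_support_iff.mp hj, if_pos rfl]
        simp
    rw [hx, map_zero] at h1
    exact Ideal.Quotient.eq_zero_iff_mem.mp h1.symm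
  -- `ψ` is injective
  have hψinj : Function.Injective ψ := by
    rw [← LinearMap.ker_eq_bot]
    have hKinj := LinearMap.lTensor_injective_of_exact_of_flat (M := ↥(LinearMap.ker ψ)) ψ hψsurj
      (LinearMap.ker ψ).subtype (Submodule.injective_subtype _)
      (LinearMap.exact_subtype_ker_map ψ) (S ⧸ mS)
    have htop : (⊤ : Submodule S ↥(LinearMap.ker ψ)) = ⊥ := by
      refine eq_bot_of_le_smul_of_isNilpotent (M := ↥(LinearMap.ker ψ)) (N := ⊤) hmSnil ?_
      rintro ⟨x, hx⟩ -
      have hker := LinearMap.ker_tensorProductMk (R := S) (I := mS) (Q := ↥(LinearMap.ker ψ))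
      rw [← hker, LinearMap.mem_ker]
      apply hKinj
      rw [map_zero, TensorProduct.mk_apply, LinearMap.lTensor_tmul, Submodule.subtype_apply]
      have hx' : x ∈ (mS • ⊤ : Submodule S (ι →₀ S)) := by
        rw [← Finsupp.sum_single x]
        refine Submodule.sum_mem _ fun i _ => ?_
        have : Finsupp.single i (x i) = x i • Finsupp.single i (1 : S) := by
          rw [Finsupp.smul_single, smul_eq_mul, mul_one]
        rw [this]
        exact Submodule.smul_mem_smul (hcoord x hx i) Submodule.mem_top
      rw [← LinearMap.ker_tensorProductMk, LinearMap.mem_ker] at hx'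
      exact hx'
    rw [eq_bot_iff]
    intro x hx
    have h2 : (⟨x, hx⟩ : ↥(LinearMap.ker ψ)) ∈ (⊤ : Submodule S ↥(LinearMap.ker ψ)) := trivial
    rw [htop, Submodule.mem_bot] at h2
    exact congrArg Subtype.val h2
  -- `φ : R^(ι) → M` is bijective
  let φ : (ι →₀ R) →ₗ[R] M := Finsupp.linearCombination R v
  have hφsurj : Function.Surjective φ := by
    rw [← LinearMap.range_eq_top, Finsupp.range_linearCombination, hsp]
  have hφinj : Function.Injective φ := by
    rw [injective_iff_map_eq_zero]
    intro x hx
    have h1 : ψ (Finsupp.mapRange (algebraMap R S) (map_zero _) x) = f (φ x) := by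
      change Finsupp.linearCombination S (fun i => f (v i)) _ = f (Finsupp.linearCombination R v x)
      rw [Finsupp.linearCombination_apply, Finsupp.linearCombination_apply,
        Finsupp.sum_mapRange_index (h := fun i a => a • f (v i)) (fun i => zero_smul S (f (v i))),
        Finsupp.sum, Finsupp.sum, map_sum]
      refine Finset.sum_congr rfl fun i _ => ?_
      rw [map_smul, algebraMap_smul]
    rw [hx, map_zero] at h1
    have h2 := hψinj (h1.trans (map_zero ψ).symm)
    ext i
    have h3 := DFunLike.congr_fun h2 i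
    rw [Finsupp.mapRange_apply, Finsupp.zero_apply] at h3
    rw [Finsupp.zero_apply]
    exact hinj (h3.trans (map_zero _).symm)
  exact Module.Free.of_equiv (LinearEquiv.ofBijective φ ⟨hφinj, hφsurj⟩)

end

end Groth.Agent.Lib.Helper5
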