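import Mathlib
import Groth.Agent.Lib.Helper5ArtFlat

/-!
# Descent of flatness along an injective map from an Artinian ring (helper5)
-/

set_option autoImplicit false
universe u

namespace Groth.Agent.Lib.Helper5

open TensorProduct

section

variable {R S M : Type u} [CommRing R] [CommRing S] [IsArtinianRing R] [Algebra R S]
  [AddCommGroup M] [Module R M]

/-- Stacks 051E-type statement: `R` Artinian, `R → S` injective, `S ⊗ M` flat over `S`
imply `M` flat over `R`. -/
theorem flat_of_flat_baseChange_of_injective_of_isArtinianRing
    (hinj : Function.Injective (algebraMap R S)) [Module.Flat S (S ⊗[R] M)] :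
    Module.Flat R M := by
  apply Module.flat_of_localized_maximal
  intro P hP
  rw [← Module.flat_iff_of_isLocalization (Localization.AtPrime P) P.primeCompl]
  have hnil : IsNilpotent (IsLocalRing.maximalIdeal (Localization.AtPrime P)) := by
    rw [← IsLocalRing.jacobson_eq_maximalIdeal ⊥ bot_ne_top]
    exact IsArtinianRing.isNilpotent_jacobson_bot
  have hinj' : Function.Injective (algebraMap (Localization.AtPrime P)
      (Localization (Algebra.algebraMapSubmonoid S P.primeCompl))) :=
    localizationAlgebra_injective (Localization.AtPrime P)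
      (Localization (Algebra.algebraMapSubmonoid S P.primeCompl)) hinj
  -- the base change maps
  let ψ1 : M →ₗ[R] LocalizedModule P.primeCompl M := LocalizedModule.mkLinearMap P.primeCompl M
  have hψ1 : IsBaseChange (Localization.AtPrime P) ψ1 :=
    IsLocalizedModule.isBaseChange P.primeCompl (Localization.AtPrime P) ψ1
  let φ1 : M →ₗ[R] S ⊗[R] M := TensorProduct.mk R S M 1
  have hφ1 : IsBaseChange S φ1 := TensorProduct.isBaseChange R M S
  let φ2 : (S ⊗[R] M) →ₗ[S]
      (Localization (Algebra.algebraMapSubmonoid S P.primeCompl)) ⊗[S] (S ⊗[R] M) :=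
    TensorProduct.mk S (Localization (Algebra.algebraMapSubmonoid S P.primeCompl)) (S ⊗[R] M) 1
  have hφ2 : IsBaseChange (Localization (Algebra.algebraMapSubmonoid S P.primeCompl)) φ2 :=
    TensorProduct.isBaseChange S (S ⊗[R] M) _
  have hcomp := IsBaseChange.comp hφ1 hφ2
  let f : LocalizedModule P.primeCompl M →ₗ[Localization.AtPrime P]
      (Localization (Algebra.algebraMapSubmonoid S P.primeCompl)) ⊗[S] (S ⊗[R] M) :=
    hψ1.lift ((φ2.restrictScalars R).comp φ1)
  have hf : IsBaseChange (Localization (Algebra.algebraMapSubmonoid S P.primeCompl)) f := by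
    apply IsBaseChange.of_comp hψ1
    have := hψ1.lift_comp ((φ2.restrictScalars R).comp φ1)
    rw [this]
    exact hcomp
  have hfree := free_of_flat_isBaseChange_of_injective hnil hinj' f hf
  infer_instance

end

end Groth.Agent.Lib.Helper5
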