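import Mathlib

/-!
# Flatness and regular elements (helper5)

* `flat_of_isSMulRegular_of_flat_quotient`: Stacks 00ME-type statement: `A → B` Noetherian rings,
  `f` in the Jacobson radical of `B`, `M` a finite `B`-module with `f` `M`-regular and `M/fM` flat
  over `A`; then `M` is flat over `A`.
-/

set_option autoImplicit false
universe u v

namespace Groth.Agent.Lib.Helper5

open TensorProduct

section

variable {A : Type u} {B : Type v} [CommRing A] [CommRing B] [Algebra A B]
  (M : Type v) [AddCommGroup M] [Module B M] [Module A M] [IsScalarTower A B M]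

theorem finite_tensorProduct_of_finite [Module.Finite B M] (N : Type u) [AddCommGroup N] [Module A N]
    [Module.Finite A N] : Module.Finite B (M ⊗[A] N) :=
  Module.Finite.equiv (TensorProduct.AlgebraTensorModule.cancelBaseChange A B B M N)

/-- Local criterion of flatness, regular-element form. -/
theorem flat_of_isSMulRegular_of_flat_quotient [IsNoetherianRing A] [IsNoetherianRing B] (f : B)
    (hf : f ∈ (⊥ : Ideal B).jacobson) [Module.Finite B M] (hreg : IsSMulRegular M f)
    (hflat : Module.Flat A (M ⧸ (Ideal.span {f} • (⊤ : Submodule B M)))) :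
    Module.Flat A M := by
  rw [Module.Flat.iff_lTensor_injective']
  intro I
  have hIfin : Module.Finite A I := Module.Finite.of_fg (IsNoetherian.noetherian I)
  have hfinT : Module.Finite B (M ⊗[A] I) := finite_tensorProduct_of_finite M I
  -- the `B`-linear version of the map
  let φ : M ⊗[A] I →ₗ[B] M ⊗[A] A :=
    TensorProduct.AlgebraTensorModule.map (LinearMap.id : M →ₗ[B] M) I.subtype
  have hφ : ∀ z, φ z = LinearMap.lTensor M I.subtype z := fun z => rfl
  -- quotient maps
  let π : M →ₗ[A] (M ⧸ (Ideal.span {f} • (⊤ : Submodule B M))) :=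
    (Submodule.mkQ (Ideal.span {f} • (⊤ : Submodule B M))).restrictScalars A
  let mulf : M →ₗ[A] M := (LinearMap.lsmul B M f).restrictScalars A
  have hexact : Function.Exact mulf π := by
    intro y
    change Submodule.mkQ _ y = 0 ↔ y ∈ Set.range mulf
    rw [Submodule.mkQ_apply, Submodule.Quotient.mk_eq_zero, Submodule.ideal_span_singleton_smul,
      Submodule.mem_smul_pointwise_iff_exists]
    constructor
    · rintro ⟨b, _, rfl⟩
      exact ⟨b, rfl⟩
    · rintro ⟨b, rfl⟩
      exact ⟨b, trivial, rfl⟩
  have hsurj : Function.Surjective π := Submodule.mkQ_surjective _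
  have hexactT := rTensor_exact (I : Type u) hexact hsurj
  -- the kernel
  have hK : LinearMap.ker φ = ⊥ := by
    apply Submodule.eq_bot_of_le_smul_of_le_jacobson_bot (Ideal.span {f}) _
      (IsNoetherian.noetherian _) _ ((Ideal.span_singleton_le_iff_mem _).mpr hf)
    intro z hz
    rw [LinearMap.mem_ker] at hz
    -- `z` maps to zero in `(M/fM) ⊗ I`
    have h1 : LinearMap.rTensor (I : Type u) π z = 0 := by
      have hinj := Module.Flat.lTensor_preserves_injective_linearMap
        (M := M ⧸ (Ideal.span {f} • (⊤ : Submodule B M))) I.subtype Subtype.val_injective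
      apply hinj
      rw [map_zero]
      have h2 : LinearMap.lTensor (M ⧸ (Ideal.span {f} • (⊤ : Submodule B M))) I.subtype
          (LinearMap.rTensor (I : Type u) π z) =
          LinearMap.rTensor A π (LinearMap.lTensor M I.subtype z) := by
        rw [← LinearMap.comp_apply, ← LinearMap.comp_apply, LinearMap.lTensor_comp_rTensor,
          LinearMap.rTensor_comp_lTensor]
      rw [h2, ← hφ, hz, map_zero]
    obtain ⟨z', hz'⟩ := (hexactT z).mp h1
    have h3 : ∀ w : M ⊗[A] I, LinearMap.rTensor (I : Type u) mulf w = f • w := by
      intro w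
      induction w with
      | zero => simp
      | tmul m i => rw [LinearMap.rTensor_tmul, TensorProduct.smul_tmul']; rfl
      | add a b ha hb => rw [map_add, ha, hb, smul_add]
    rw [h3] at hz'
    -- `z' ∈ ker φ`
    have h4 : f • φ z' = 0 := by rw [← map_smul, hz', hz]
    have h5 : φ z' = 0 := by
      have h6 : f • (TensorProduct.AlgebraTensorModule.rid A B M (φ z')) = 0 := by
        rw [← map_smul, h4, map_zero]
      have h7 := hreg (by rw [h6, smul_zero] : f • _ = f • (0 : M))
      exact (TensorProduct.AlgebraTensorModule.rid A B M).injective (by rw [h7, map_zero])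
    rw [Submodule.ideal_span_singleton_smul, Submodule.mem_smul_pointwise_iff_exists]
    exact ⟨z', h5, hz'⟩
  intro z₁ z₂ h
  have : z₁ - z₂ ∈ LinearMap.ker φ := by
    rw [LinearMap.mem_ker, map_sub, hφ, hφ, h, sub_self]
  rw [hK, Submodule.mem_bot, sub_eq_zero] at this
  exact this

end

end Groth.Agent.Lib.Helper5

namespace Groth.Agent.Lib.Helper5

open RingTheory.Sequence

section

variable {A : Type u} {B : Type v} [CommRing A] [CommRing B] [Algebra A B]

/-- Flatness transfers along a `B`-linear equivalence (viewed `A`-linearly). -/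
theorem flat_of_linearEquiv_tower {M N : Type v} [AddCommGroup M] [Module B M] [Module A M]
    [IsScalarTower A B M] [AddCommGroup N] [Module B N] [Module A N] [IsScalarTower A B N]
    (e : M ≃ₗ[B] N) (h : Module.Flat A M) : Module.Flat A N :=
  (Module.Flat.equiv_iff (e.restrictScalars A)).mp h

/-- EGA 0_IV 15.1.14-type statement: if `fs` (in the Jacobson radical of `B`) is `M`-regular and
`M/(fs)M` is `A`-flat then all the intermediate quotients are `A`-flat. -/
theorem flat_quot_take_of_isWeaklyRegular [IsNoetherianRing A] [IsNoetherianRing B] (fs : List B) :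
    ∀ (M : Type v) [AddCommGroup M] [Module B M] [Module A M] [IsScalarTower A B M]
      [Module.Finite B M],
      (∀ f ∈ fs, f ∈ (⊥ : Ideal B).jacobson) → IsWeaklyRegular M fs →
      Module.Flat A (M ⧸ (Ideal.ofList fs • (⊤ : Submodule B M))) →
      ∀ i ≤ fs.length, Module.Flat A (M ⧸ (Ideal.ofList (fs.take i) • (⊤ : Submodule B M))) := by
  induction fs with
  | nil =>
    intro M _ _ _ _ _ _ _ hflat i _
    rw [List.take_nil]
    exact hflat
  | cons f fs' ih =>
    intro M _ _ _ _ _ hmem hreg hflat i hi
    have hf := hmem f List.mem_cons_self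
    obtain ⟨hfreg, hreg'⟩ := (isWeaklyRegular_cons_iff M f fs').mp hreg
    have hflat' : Module.Flat A (QuotSMulTop f M ⧸ (Ideal.ofList fs' • (⊤ : Submodule B (QuotSMulTop f M)))) :=
      flat_of_linearEquiv_tower (Submodule.quotOfListConsSMulTopEquivQuotSMulTopInner M f fs') hflat
    have ih' := ih (QuotSMulTop f M) (fun g hg => hmem g (List.mem_cons_of_mem _ hg)) hreg' hflat'
    have hM'flat : Module.Flat A (QuotSMulTop f M) := by
      have h0 := ih' 0 (Nat.zero_le _)
      rw [List.take_zero] at h0
      exact flat_of_linearEquiv_tower (Submodule.quotEquivOfEqBot _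
        (by rw [Ideal.ofList_nil, Submodule.bot_smul])) h0
    have hMflat : Module.Flat A M := by
      apply flat_of_isSMulRegular_of_flat_quotient M f hf hfreg
      exact flat_of_linearEquiv_tower (Submodule.quotEquivOfEq _ _
        (Submodule.ideal_span_singleton_smul f ⊤).symm) hM'flat
    cases i with
    | zero =>
      rw [List.take_zero]
      exact flat_of_linearEquiv_tower (Submodule.quotEquivOfEqBot _
        (by rw [Ideal.ofList_nil, Submodule.bot_smul])).symm hMflat
    | succ i' =>
      rw [List.take_succ_cons]
      have hi' : i' ≤ fs'.length := by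
        rw [List.length_cons] at hi
        omega
      exact flat_of_linearEquiv_tower
        (Submodule.quotOfListConsSMulTopEquivQuotSMulTopInner M f (fs'.take i')).symm (ih' i' hi')

end

end Groth.Agent.Lib.Helper5
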