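import Mathlib

/-!
# Support dimension, finite length and systems of parameters (helper5)

* `isMaximal_of_annihilator_le_of_isFiniteLength`, `supportDim_le_zero_of_isFiniteLength`,
  `isFiniteLength_of_supportDim_le_zero`: a finite module over a Noetherian ring has finite
  length iff its support has dimension `≤ 0`.
* `supportDim_le_supportDim_quot_ofList_add_length`: `dim M ≤ dim M/(rs)M + length rs` for `rs`
  in the Jacobson radical.
* `supportDim_quotSMulTop_succ_le_of_notMem_nonMaximal_minimalPrimes`: a version of the Mathlib
  statement in which `x` only has to avoid the non-maximal minimal primes.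
* `exists_mem_ringJacobson_notMem`: prime avoidance for the radical of a semilocal ring.
* `exists_list_isFiniteLength_quot_of_supportDim_le`: existence of a system of parameters.
-/

set_option autoImplicit false
universe u v

namespace Groth.Agent.Lib.Helper5

open Module Ideal PrimeSpectrum

section
variable {A : Type*} [CommRing A] {M : Type*} [AddCommGroup M] [Module A M]

/-- Finite length modules have all primes containing the annihilator maximal. -/
theorem isMaximal_of_annihilator_le_of_isFiniteLength (h : IsFiniteLength A M)
    (p : Ideal A) [hp : p.IsPrime] (hle : Module.annihilator A M ≤ p) : p.IsMaximal := by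
  induction h with
  | of_subsingleton =>
    exfalso
    apply hp.ne_top
    rw [eq_top_iff]
    refine le_trans ?_ hle
    intro a _
    rw [Module.mem_annihilator]
    intro m
    exact Subsingleton.elim _ _
  | @of_simple_quotient M _ _ N hs hN ih =>
    have hm : (Module.annihilator A (M ⧸ N)).IsMaximal := IsSimpleModule.annihilator_isMaximal
    have hmul : Module.annihilator A N * Module.annihilator A (M ⧸ N) ≤ Module.annihilator A M := by
      rw [Ideal.mul_le]
      intro a ha b hb
      rw [Module.mem_annihilator]
      intro m
      have h1 : b • m ∈ N := by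
        have := (Module.mem_annihilator.mp hb) (Submodule.Quotient.mk m)
        rwa [← Submodule.Quotient.mk_smul, Submodule.Quotient.mk_eq_zero] at this
      have h2 := (Module.mem_annihilator.mp ha) ⟨b • m, h1⟩
      rw [mul_smul]
      simpa using congrArg Subtype.val h2
    rcases hp.mul_le.mp (hmul.trans hle) with h1 | h1
    · exact ih h1
    · rwa [← hm.eq_of_le hp.ne_top h1]


/-- `supportDim ≤ 0` if every prime in the support is maximal. -/
theorem supportDim_le_zero_of_forall_isMaximal
    (h : ∀ p ∈ Module.support A M, p.asIdeal.IsMaximal) : Module.supportDim A M ≤ 0 := by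
  rw [Module.supportDim, Order.krullDim_nonpos_iff_forall_isMax]
  intro p q hpq
  have := h p.1 p.2
  have : p.1.asIdeal = q.1.asIdeal := this.eq_of_le q.1.2.ne_top hpq
  exact le_of_eq (Subtype.ext (PrimeSpectrum.ext this.symm))

theorem supportDim_le_zero_of_isFiniteLength (h : IsFiniteLength A M) :
    Module.supportDim A M ≤ 0 := by
  apply supportDim_le_zero_of_forall_isMaximal
  intro p hp
  exact isMaximal_of_annihilator_le_of_isFiniteLength h p.asIdeal
    (Module.annihilator_le_of_mem_support hp)

theorem isFiniteLength_of_supportDim_le_zero [IsNoetherianRing A] [Module.Finite A M]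
    (h : Module.supportDim A M ≤ 0) : IsFiniteLength A M := by
  rw [isFiniteLength_iff_isNoetherian_isArtinian]
  refine ⟨inferInstance, ?_⟩
  let _ : Module (A ⧸ Module.annihilator A M) M := Module.quotientAnnihilator
  have : IsScalarTower A (A ⧸ Module.annihilator A M) M := inferInstance
  rw [Module.supportDim_eq_ringKrullDim_quotient_annihilator] at h
  have h0 : Ring.KrullDimLE 0 (A ⧸ Module.annihilator A M) :=
    Ring.krullDimLE_iff.mpr (by simpa using h)
  have : IsArtinianRing (A ⧸ Module.annihilator A M) := isArtinianRing_iff_krullDimLE_zero.mpr h0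
  have : Module.Finite (A ⧸ Module.annihilator A M) M :=
    Module.Finite.of_restrictScalars_finite A _ _
  have : IsArtinian (A ⧸ Module.annihilator A M) M := inferInstance
  exact isArtinian_of_surjective_algebraMap (R := A ⧸ Module.annihilator A M) (S := A)
    Ideal.Quotient.mk_surjective


end

section
variable {A : Type*} [CommRing A] [IsNoetherianRing A]

theorem supportDim_le_supportDim_quot_ofList_add_length
    {M : Type*} [AddCommGroup M] [Module A M] [Module.Finite A M] (rs : List A)
    (hrs : ∀ r ∈ rs, r ∈ Ring.jacobson A) :
    Module.supportDim A M ≤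
      Module.supportDim A (M ⧸ Ideal.ofList rs • (⊤ : Submodule A M)) + rs.length := by
  induction rs generalizing M with
  | nil =>
    rw [Ideal.ofList_nil, Submodule.bot_smul]
    simpa using le_of_eq (Module.supportDim_eq_of_equiv (Submodule.quotEquivOfEqBot ⊥ rfl)).symm
  | cons x rs' ih =>
    have hx : x ∈ (Module.annihilator A M).jacobson :=
      (Module.annihilator A M).ringJacobson_le_jacobson (hrs x (by simp))
    have h1 := Module.supportDim_le_supportDim_quotSMulTop_succ_of_mem_jacobson (M := M) hx
    have h2 := ih (M := QuotSMulTop x M) (fun r hr => hrs r (by simp [hr]))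
    rw [Module.supportDim_eq_of_equiv
      (Submodule.quotOfListConsSMulTopEquivQuotSMulTopInner M x rs')]
    calc Module.supportDim A M ≤ Module.supportDim A (QuotSMulTop x M) + 1 := h1
      _ ≤ (Module.supportDim A (QuotSMulTop x M ⧸ Ideal.ofList rs' • (⊤ : Submodule A (QuotSMulTop x M)))
            + rs'.length) + 1 := by gcongr
      _ = _ := by simp [add_assoc]


end

section
variable {A : Type*} [CommRing A]
  {M : Type*} [AddCommGroup M] [Module A M] [Module.Finite A M]

set_option backward.isDefEq.respectTransparency.types false in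
/-- If `x` avoids all non-maximal minimal primes of `M` and `dim M ≥ 1`, then
`dim M/xM + 1 ≤ dim M`. -/
theorem supportDim_quotSMulTop_succ_le_of_notMem_nonMaximal_minimalPrimes {x : A}
    (hn : ∀ p ∈ (annihilator A M).minimalPrimes, ¬ p.IsMaximal → x ∉ p)
    (h1 : 1 ≤ supportDim A M) :
    supportDim A (QuotSMulTop x M) + 1 ≤ supportDim A M := by
  have hM : Nontrivial M := by
    rw [← Module.supportDim_ne_bot_iff_nontrivial A M]
    intro h
    rw [h] at h1
    simp at h1
  by_cases hQ : Subsingleton (QuotSMulTop x M)
  · rw [Module.supportDim_eq_bot_of_subsingleton]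
    simp
  rw [not_subsingleton_iff_nontrivial] at hQ
  have : Nonempty (Module.support A M) := nonempty_support_of_nontrivial.to_subtype
  have : Nonempty (Module.support A (QuotSMulTop x M)) := nonempty_support_of_nontrivial.to_subtype
  simp only [supportDim, Order.krullDim_eq_iSup_length] at h1 ⊢
  apply WithBot.coe_le_coe.mpr
  have h1' : (1 : ℕ∞) ≤ ⨆ q : LTSeries (support A M), (q.length : ℕ∞) := by
    exact_mod_cast h1
  simp only [ENat.iSup_add, iSup_le_iff]
  intro p
  have hp := p.head.2
  simp only [support_quotSMulTop, Set.mem_inter_iff, mem_zeroLocus, Set.singleton_subset_iff] at hp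
  have le : support A (QuotSMulTop x M) ⊆ support A M := by simp
  let q : LTSeries (support A M) :=
    p.map (Set.MapsTo.restrict id (support A (QuotSMulTop x M)) (support A M) le) (fun _ _ h ↦ h)
  obtain ⟨r, hrm, hr⟩ := exists_minimalPrimes_le (mem_support_iff_of_finite.mp q.head.2)
  by_cases hmax : r.IsMaximal
  · have hlen : p.length = 0 := by
      by_contra hne
      have hlt : p.head < p.last := p.strictMono (by
        rw [Fin.lt_def]; simp; omega)
      have hle : r ≤ p.last.1.asIdeal := hr.trans (le_of_lt hlt)
      have heq : r = p.last.1.asIdeal := hmax.eq_of_le p.last.1.2.ne_top hle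
      have : p.last.1.asIdeal ≤ p.head.1.asIdeal := heq ▸ hr
      exact absurd hlt (not_lt_of_ge this)
    rw [hlen]
    simpa using h1'
  · let r' : support A M := ⟨⟨r, hrm.isPrime⟩, mem_support_iff_of_finite.mpr hrm.1.2⟩
    have hr' : r' < q.head :=
      lt_of_le_of_ne hr (fun h ↦ hn q.head.1.1 (by rwa [← h]) (by rwa [← h]) hp.2)
    exact le_of_eq_of_le (by simp [q]) (le_iSup _ (q.cons r' hr'))


end

section
variable {A : Type*} [CommRing A] [Finite (MaximalSpectrum A)]

/-- In a semilocal ring, a prime containing the Jacobson radical is maximal. -/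
theorem isMaximal_of_ringJacobson_le (p : Ideal A) [hp : p.IsPrime]
    (h : Ring.jacobson A ≤ p) : p.IsMaximal := by
  classical
  have hfin : {P : Ideal A | P.IsMaximal}.Finite := by
    rw [← MaximalSpectrum.range_asIdeal]
    exact Set.finite_range MaximalSpectrum.asIdeal
  rw [Ring.jacobson_eq_sInf_isMaximal] at h
  have h' : hfin.toFinset.inf id ≤ p := by
    rw [Finset.inf_id_eq_sInf]
    simpa using h
  obtain ⟨m, hm, hmp⟩ := (Ideal.IsPrime.inf_le' hp).mp h'
  rw [Set.Finite.mem_toFinset] at hm
  have hm' : m.IsMaximal := hm
  rwa [← hm'.eq_of_le hp.ne_top hmp]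

/-- Prime avoidance for the Jacobson radical of a semilocal ring: given finitely many
non-maximal primes, there is an element of the radical outside of all of them. -/
theorem exists_mem_ringJacobson_notMem (S : Finset (Ideal A))
    (hS : ∀ p ∈ S, p.IsPrime ∧ ¬ p.IsMaximal) :
    ∃ x ∈ Ring.jacobson A, ∀ p ∈ S, x ∉ p := by
  classical
  by_contra hcon
  push Not at hcon
  have hsub : ((Ring.jacobson A : Ideal A) : Set A) ⊆ ⋃ p ∈ (S : Set (Ideal A)), (id p : Ideal A) := by
    intro x hx
    obtain ⟨p, hpS, hxp⟩ := hcon x hx
    exact Set.mem_biUnion hpS hxp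
  obtain ⟨S0, hS0⟩ : ∃ a : Ideal A, True := ⟨⊥, trivial⟩
  rw [Ideal.subset_union_prime (s := S) (f := id) S0 S0
    (fun i hi _ _ => (hS i hi).1)] at hsub
  obtain ⟨p, hpS, hle⟩ := hsub
  have := (hS p hpS).1
  exact (hS p hpS).2 (isMaximal_of_ringJacobson_le p hle)


end

section
variable (A : Type u) [CommRing A] [IsNoetherianRing A] [Finite (MaximalSpectrum A)]

theorem exists_list_isFiniteLength_quot_of_supportDim_le (d : ℕ) :
    ∀ (M : Type v) [AddCommGroup M] [Module A M] [Module.Finite A M],
    Module.supportDim A M ≤ d → ∃ rs : List A, rs.length ≤ d ∧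
      (∀ r ∈ rs, r ∈ Ring.jacobson A) ∧
      IsFiniteLength A (M ⧸ Ideal.ofList rs • (⊤ : Submodule A M)) := by
  have base : ∀ (M : Type v) [AddCommGroup M] [Module A M] [Module.Finite A M] (d : ℕ),
      Module.supportDim A M ≤ 0 → ∃ rs : List A, rs.length ≤ d ∧
      (∀ r ∈ rs, r ∈ Ring.jacobson A) ∧
      IsFiniteLength A (M ⧸ Ideal.ofList rs • (⊤ : Submodule A M)) := by
    intro M _ _ _ d h
    refine ⟨[], by simp, by simp, ?_⟩
    have hM := isFiniteLength_of_supportDim_le_zero h
    have e : (M ⧸ Ideal.ofList ([] : List A) • (⊤ : Submodule A M)) ≃ₗ[A] M :=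
      Submodule.quotEquivOfEqBot _ (by rw [Ideal.ofList_nil, Submodule.bot_smul])
    exact e.symm.isFiniteLength hM
  induction d with
  | zero =>
    intro M _ _ _ h
    exact base M 0 (by simpa using h)
  | succ d ih =>
    intro M _ _ _ h
    by_cases h0 : Module.supportDim A M ≤ 0
    · exact base M (d + 1) h0
    have h1 : 1 ≤ Module.supportDim A M := by
      cases hs : Module.supportDim A M with
      | bot => rw [hs] at h0; simp at h0
      | coe e =>
        rw [hs] at h0
        have : ¬ (e ≤ 0) := by
          intro he
          apply h0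
          exact_mod_cast he
        have : 1 ≤ e := by
          rw [Order.one_le_iff_ne_zero]
          intro he
          apply this
          rw [he]
        exact_mod_cast this
    classical
    have hfin : (Module.annihilator A M).minimalPrimes.Finite :=
      Ideal.finite_minimalPrimes_of_isNoetherianRing A _
    obtain ⟨x, hxJ, hx⟩ := exists_mem_ringJacobson_notMem
      (hfin.toFinset.filter (fun p => ¬ p.IsMaximal)) (by
        intro p hp
        rw [Finset.mem_filter, Set.Finite.mem_toFinset] at hp
        exact ⟨hp.1.isPrime, hp.2⟩)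
    have hRL := supportDim_quotSMulTop_succ_le_of_notMem_nonMaximal_minimalPrimes (M := M) (x := x)
      (by
        intro p hp hmax
        apply hx
        rw [Finset.mem_filter, Set.Finite.mem_toFinset]
        exact ⟨hp, hmax⟩) h1
    have hd : Module.supportDim A (QuotSMulTop x M) ≤ d := by
      have h2 : Module.supportDim A (QuotSMulTop x M) + 1 ≤ (d : WithBot ℕ∞) + 1 := by
        refine hRL.trans ?_
        simpa using h
      cases hs : Module.supportDim A (QuotSMulTop x M) with
      | bot => exact bot_le
      | coe e =>
        rw [hs] at h2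
        have h3 : e + 1 ≤ (d : ℕ∞) + 1 := by exact_mod_cast h2
        have h4 : e ≤ d := by
          rwa [ENat.add_le_add_iff_right (by simp)] at h3
        exact_mod_cast h4
    obtain ⟨rs', hlen, hJ, hfl⟩ := ih (QuotSMulTop x M) hd
    refine ⟨x :: rs', by simpa using hlen, ?_, ?_⟩
    · intro r hr
      rcases List.mem_cons.mp hr with rfl | hr
      · exact hxJ
      · exact hJ r hr
    · exact (Submodule.quotOfListConsSMulTopEquivQuotSMulTopInner M x rs').symm.isFiniteLength hfl


end

end Groth.Agent.Lib.Helper5
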