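import Mathlib

/-!
# A Tor-free formulation of `Tor₁(N, M) = 0` (helper5)

`Tor1Vanish A M N`: every injective map `i : Q' → Q` with cokernel `N` stays injective after
tensoring with `M`.  This is equivalent to `Tor₁(N, M) = 0`, and the class of such `N` is closed
under extensions (`tor1Vanish_of_submodule_of_quotient`), contains `A/J` as soon as
`M ⊗ J → M` is injective (`tor1Vanish_quotient_ideal`), and satisfies the quotient property
`tor1Vanish_of_exact` (the piece `Tor₁(P) → Tor₁(N) → R ⊗ M → P ⊗ M` of the long exact sequence).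
-/

set_option autoImplicit false
universe u v

namespace Groth.Agent.Lib.Helper5

open TensorProduct LinearMap RingTheory.Sequence

section

variable (A : Type u) [CommRing A] (M : Type v) [AddCommGroup M] [Module A M]

/-- `Tor₁(N, M) = 0`, in extension form. -/
def Tor1Vanish (N : Type u) [AddCommGroup N] [Module A N] : Prop :=
  ∀ (Q' Q : Type u) [AddCommGroup Q'] [Module A Q'] [AddCommGroup Q] [Module A Q]
    (i : Q' →ₗ[A] Q) (p : Q →ₗ[A] N), Function.Injective i → Function.Surjective p →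
    Function.Exact i p → Function.Injective (i.lTensor M)

variable {A M}

theorem Tor1Vanish.of_linearEquiv {N N₂ : Type u} [AddCommGroup N] [Module A N] [AddCommGroup N₂]
    [Module A N₂] (h : Tor1Vanish A M N) (e : N ≃ₗ[A] N₂) : Tor1Vanish A M N₂ := by
  intro Q' Q _ _ _ _ i p hi hp hex
  refine h Q' Q i (e.symm.toLinearMap ∘ₗ p) hi (e.symm.surjective.comp hp) ?_
  intro y
  rw [← hex y]
  simp

theorem tor1Vanish_of_subsingleton (N : Type u) [AddCommGroup N] [Module A N] [Subsingleton N] :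
    Tor1Vanish A M N := by
  intro Q' Q _ _ _ _ i p hi _ hex
  have hsurj : Function.Surjective i := by
    intro y
    exact (hex y).mp (Subsingleton.elim _ _)
  let e : Q' ≃ₗ[A] Q := LinearEquiv.ofBijective i ⟨hi, hsurj⟩
  have : i.lTensor M = (e.lTensor M).toLinearMap := rfl
  rw [this]
  exact (e.lTensor M).injective

/-- Closure under extensions. -/
theorem tor1Vanish_of_submodule_of_quotient {N : Type u} [AddCommGroup N] [Module A N]
    (N' : Submodule A N) (h1 : Tor1Vanish A M N') (h2 : Tor1Vanish A M (N ⧸ N')) : Tor1Vanish A M N := by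
  intro Q' Q _ _ _ _ i p hi hp hex
  have hiQ : ∀ x, i x ∈ N'.comap p := by
    intro x
    rw [Submodule.mem_comap, (hex (i x)).mpr ⟨x, rfl⟩]
    exact N'.zero_mem
  let i₁ : Q' →ₗ[A] ↥(N'.comap p) := i.codRestrict (N'.comap p) hiQ
  let p₁ : ↥(N'.comap p) →ₗ[A] ↥N' := p.restrict (fun q hq => hq)
  have hi₁ : Function.Injective i₁ := fun x y hxy => hi (congrArg Subtype.val hxy)
  have hp₁ : Function.Surjective p₁ := by
    rintro ⟨n, hn⟩
    obtain ⟨q, rfl⟩ := hp n
    exact ⟨⟨q, hn⟩, rfl⟩
  have hex₁ : Function.Exact i₁ p₁ := by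
    rintro ⟨q, hq⟩
    constructor
    · intro h0
      have h0' : p q = 0 := congrArg Subtype.val h0
      obtain ⟨x, hx⟩ := (hex q).mp h0'
      exact ⟨x, Subtype.ext hx⟩
    · rintro ⟨x, hx⟩
      have hx' : i x = q := congrArg Subtype.val hx
      apply Subtype.ext
      change p q = 0
      rw [← hx']
      exact (hex (i x)).mpr ⟨x, rfl⟩
  have hinj₁ := h1 Q' ↥(N'.comap p) i₁ p₁ hi₁ hp₁ hex₁
  have hex₂ : Function.Exact (N'.comap p).subtype (N'.mkQ ∘ₗ p) := by
    intro q
    rw [LinearMap.comp_apply, Submodule.mkQ_apply, Submodule.Quotient.mk_eq_zero]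
    constructor
    · intro hq
      exact ⟨⟨q, hq⟩, rfl⟩
    · rintro ⟨⟨q', hq'⟩, rfl⟩
      exact hq'
  have hinj₂ := h2 ↥(N'.comap p) Q (N'.comap p).subtype (N'.mkQ ∘ₗ p)
    (Submodule.injective_subtype _) ((Submodule.mkQ_surjective _).comp hp) hex₂
  have hcomp : i = (N'.comap p).subtype ∘ₗ i₁ := rfl
  rw [hcomp, LinearMap.lTensor_comp]
  exact hinj₂.comp hinj₁

/-- If `M ⊗ J → M ⊗ A` is injective then `Tor₁(A/J, M) = 0` (pushout argument). -/
theorem tor1Vanish_quotient_ideal (J : Ideal A)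
    (hJ : Function.Injective (J.subtype.lTensor M)) : Tor1Vanish A M (A ⧸ J) := by
  intro Q' Q _ _ _ _ i p hi hp hex
  obtain ⟨q, hq⟩ := hp 1
  -- `φ : J → Q'`, `a ↦ i⁻¹ (a q)`
  have hsmul1 : ∀ a : A, a • (1 : A ⧸ J) = Ideal.Quotient.mk J a := by
    intro a
    rw [Algebra.smul_def, mul_one]
    rfl
  have hmem : ∀ a : J, (LinearMap.toSpanSingleton A Q q ∘ₗ J.subtype) a ∈ LinearMap.range i := by
    intro a
    rw [LinearMap.mem_range]
    apply (hex _).mp
    rw [LinearMap.comp_apply, LinearMap.toSpanSingleton_apply, map_smul, hq, Submodule.subtype_apply,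
      hsmul1]
    exact Ideal.Quotient.eq_zero_iff_mem.mpr a.2
  let e := LinearEquiv.ofInjective i hi
  let φ : ↥J →ₗ[A] Q' :=
    e.symm.toLinearMap ∘ₗ (LinearMap.toSpanSingleton A Q q ∘ₗ J.subtype).codRestrict _ hmem
  have hφ : ∀ a : J, i (φ a) = (a : A) • q := by
    intro a
    have h1 : (e (φ a) : Q) = i (φ a) := LinearEquiv.ofInjective_apply i (φ a)
    rw [← h1]
    change ((e (e.symm _) : LinearMap.range i) : Q) = _
    rw [LinearEquiv.apply_symm_apply]
    rfl
  let α : ↥J →ₗ[A] Q' × A := LinearMap.prod φ (-J.subtype)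
  let β : Q' × A →ₗ[A] Q := LinearMap.coprod i (LinearMap.toSpanSingleton A Q q)
  have hβsurj : Function.Surjective β := by
    intro y
    obtain ⟨a, ha⟩ := Ideal.Quotient.mk_surjective (p y)
    have h1 : p (y - a • q) = 0 := by
      rw [map_sub, map_smul, hq, hsmul1, ha, sub_self]
    obtain ⟨x, hx⟩ := (hex _).mp h1
    refine ⟨(x, a), ?_⟩
    change i x + a • q = y
    rw [hx]
    abel
  have hαβ : Function.Exact α β := by
    rintro ⟨x, a⟩
    constructor
    · intro h0
      have h0' : i x + a • q = 0 := h0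
      have h1 : p (a • q) = 0 := by
        have : a • q = - i x := eq_neg_of_add_eq_zero_right h0'
        rw [this, map_neg, (hex (i x)).mpr ⟨x, rfl⟩, neg_zero]
      rw [map_smul, hq, hsmul1] at h1
      have haJ : a ∈ J := Ideal.Quotient.eq_zero_iff_mem.mp h1
      refine ⟨-⟨a, haJ⟩, ?_⟩
      change (φ (-⟨a, haJ⟩), -((-⟨a, haJ⟩ : J) : A)) = (x, a)
      refine Prod.ext ?_ ?_
      · apply hi
        change i (φ (-⟨a, haJ⟩)) = i x
        rw [hφ]
        change (-a) • q = i x
        rw [neg_smul, eq_neg_of_add_eq_zero_right h0', neg_neg]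
      · change -(-a) = a
        exact neg_neg a
    · rintro ⟨b, hb⟩
      have hb1 : φ b = x := congrArg Prod.fst hb
      have hb2 : -(b : A) = a := congrArg Prod.snd hb
      change i x + a • q = 0
      rw [← hb1, ← hb2, hφ, neg_smul, add_neg_cancel]
  have hexT := lTensor_exact M hαβ hβsurj
  -- the chase
  rw [injective_iff_map_eq_zero]
  intro z hz
  have h1 : β ∘ₗ LinearMap.inl A Q' A = i := by
    ext x
    change i x + (0 : A) • q = i x
    rw [zero_smul, add_zero]
  have h2 : (β.lTensor M) ((LinearMap.inl A Q' A).lTensor M z) = 0 := by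
    rw [← LinearMap.comp_apply, ← LinearMap.lTensor_comp, h1, hz]
  obtain ⟨w, hw⟩ := (hexT _).mp h2
  have h3 : LinearMap.snd A Q' A ∘ₗ α = -J.subtype := by
    ext a
    rfl
  have h4 : (J.subtype.lTensor M) w = 0 := by
    have h5 : ((LinearMap.snd A Q' A).lTensor M) ((α.lTensor M) w) = 0 := by
      rw [hw, ← LinearMap.comp_apply, ← LinearMap.lTensor_comp]
      have : LinearMap.snd A Q' A ∘ₗ LinearMap.inl A Q' A = 0 := by
        ext x
        rfl
      rw [this, LinearMap.lTensor_zero, LinearMap.zero_apply]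
    rw [← LinearMap.comp_apply, ← LinearMap.lTensor_comp, h3, LinearMap.lTensor_neg,
      LinearMap.neg_apply, neg_eq_zero] at h5
    exact h5
  have hw0 : w = 0 := hJ (by rw [h4, map_zero])
  rw [hw0, map_zero] at hw
  have h6 : ((LinearMap.fst A Q' A).lTensor M) ((LinearMap.inl A Q' A).lTensor M z) = z := by
    rw [← LinearMap.comp_apply, ← LinearMap.lTensor_comp]
    have : LinearMap.fst A Q' A ∘ₗ LinearMap.inl A Q' A = LinearMap.id := by
      ext x
      rfl
    rw [this, LinearMap.lTensor_id, LinearMap.id_apply]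
  rw [← h6, ← hw, map_zero]

/-- The piece `Tor₁(P) → Tor₁(N) → M ⊗ R → M ⊗ P` of the long exact sequence. -/
theorem tor1Vanish_of_exact {R P N : Type u} [AddCommGroup R] [Module A R] [AddCommGroup P]
    [Module A P] [AddCommGroup N] [Module A N] (j : R →ₗ[A] P) (π : P →ₗ[A] N)
    (hπ : Function.Surjective π) (hex : Function.Exact j π) (hP : Tor1Vanish A M P)
    (hj : Function.Injective (j.lTensor M)) : Tor1Vanish A M N := by
  intro Q' Q _ _ _ _ i p hi hp hexQ
  -- the fibre product `E = Q ×_N P`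
  let E : Submodule A (Q × P) :=
    LinearMap.eqLocus (p ∘ₗ LinearMap.fst A Q P) (π ∘ₗ LinearMap.snd A Q P)
  have hE : ∀ x : Q × P, x ∈ E ↔ p x.1 = π x.2 := fun x => Iff.rfl
  let pr₁ : ↥E →ₗ[A] Q := LinearMap.fst A Q P ∘ₗ E.subtype
  let pr₂ : ↥E →ₗ[A] P := LinearMap.snd A Q P ∘ₗ E.subtype
  let ι' : Q' →ₗ[A] ↥E := (LinearMap.inl A Q P ∘ₗ i).codRestrict E (by
    intro x
    rw [hE]
    change p (i x) = π 0
    rw [map_zero]
    exact (hexQ _).mpr ⟨x, rfl⟩)
  let ρ : R →ₗ[A] ↥E := (LinearMap.inr A Q P ∘ₗ j).codRestrict E (by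
    intro r
    rw [hE]
    change p 0 = π (j r)
    rw [map_zero]
    exact ((hex _).mpr ⟨r, rfl⟩).symm)
  have hι'inj : Function.Injective ι' := by
    intro x y hxy
    apply hi
    have := congrArg (fun e : ↥E => (e : Q × P).1) hxy
    exact this
  have hpr₂surj : Function.Surjective pr₂ := by
    intro y
    obtain ⟨q, hq⟩ := hp (π y)
    exact ⟨⟨(q, y), (hE _).mpr hq⟩, rfl⟩
  have hpr₁surj : Function.Surjective pr₁ := by
    intro q
    obtain ⟨y, hy⟩ := hπ (p q)
    exact ⟨⟨(q, y), (hE _).mpr hy.symm⟩, rfl⟩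
  have hex₂ : Function.Exact ι' pr₂ := by
    rintro ⟨⟨q, y⟩, hqy⟩
    rw [hE] at hqy
    change p q = π y at hqy
    constructor
    · intro h0
      have h0' : y = 0 := h0
      rw [h0', map_zero] at hqy
      obtain ⟨x, hx⟩ := (hexQ q).mp hqy
      refine ⟨x, Subtype.ext ?_⟩
      change (i x, (0 : P)) = (q, y)
      rw [hx, h0']
    · rintro ⟨x, hx⟩
      have := congrArg (fun e : ↥E => (e : Q × P).2) hx
      exact this.symm
  have hex₁ : Function.Exact ρ pr₁ := by
    rintro ⟨⟨q, y⟩, hqy⟩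
    rw [hE] at hqy
    change p q = π y at hqy
    constructor
    · intro h0
      have h0' : q = 0 := h0
      rw [h0', map_zero] at hqy
      obtain ⟨r, hr⟩ := (hex y).mp hqy.symm
      refine ⟨r, Subtype.ext ?_⟩
      change ((0 : Q), j r) = (q, y)
      rw [hr, h0']
    · rintro ⟨r, hr⟩
      have := congrArg (fun e : ↥E => (e : Q × P).1) hr
      exact this.symm
  have hinj₂ := hP Q' ↥E ι' pr₂ hι'inj hpr₂surj hex₂
  have hexT := lTensor_exact M hex₁ hpr₁surj
  rw [injective_iff_map_eq_zero]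
  intro z hz
  have h1 : pr₁ ∘ₗ ι' = i := by
    ext x
    rfl
  have h2 : (pr₁.lTensor M) (ι'.lTensor M z) = 0 := by
    rw [← LinearMap.comp_apply, ← LinearMap.lTensor_comp, h1, hz]
  obtain ⟨w, hw⟩ := (hexT _).mp h2
  have h3 : pr₂ ∘ₗ ρ = j := by
    ext r
    rfl
  have h4 : pr₂ ∘ₗ ι' = 0 := by
    ext x
    rfl
  have h5 : (j.lTensor M) w = 0 := by
    rw [← h3, LinearMap.lTensor_comp, LinearMap.comp_apply, hw, ← LinearMap.comp_apply,
      ← LinearMap.lTensor_comp, h4, LinearMap.lTensor_zero, LinearMap.zero_apply]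
  have hw0 : w = 0 := hj (by rw [h5, map_zero])
  rw [hw0, map_zero] at hw
  exact hinj₂ (by rw [← hw, map_zero])

theorem Tor1Vanish.lTensor_subtype_injective {J : Ideal A} (h : Tor1Vanish A M (A ⧸ J)) :
    Function.Injective (J.subtype.lTensor M) := by
  refine h ↥J A J.subtype (Submodule.mkQ J) (Submodule.injective_subtype J)
    (Submodule.mkQ_surjective J) ?_
  intro a
  rw [Submodule.mkQ_apply, Submodule.Quotient.mk_eq_zero]
  constructor
  · intro ha
    exact ⟨⟨a, ha⟩, rfl⟩
  · rintro ⟨b, rfl⟩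
    exact b.2

/-- Over a local ring, `Tor₁(k, M) = 0` implies `Tor₁(N, M) = 0` for all `N` of finite length. -/
theorem tor1Vanish_of_isFiniteLength [IsLocalRing A]
    (hk : Tor1Vanish A M (A ⧸ IsLocalRing.maximalIdeal A))
    {N : Type u} [AddCommGroup N] [Module A N] (hN : IsFiniteLength A N) : Tor1Vanish A M N := by
  induction hN with
  | of_subsingleton => exact tor1Vanish_of_subsingleton _
  | @of_simple_quotient N _ _ N' hsimple _ ih =>
    apply tor1Vanish_of_submodule_of_quotient N' ih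
    obtain ⟨I, hI, ⟨e⟩⟩ := isSimpleModule_iff_quot_maximal.mp hsimple
    have : I = IsLocalRing.maximalIdeal A := IsLocalRing.eq_maximalIdeal hI
    subst this
    exact hk.of_linearEquiv e.symm

end

section
variable {A : Type u} [CommRing A] {M : Type v} [AddCommGroup M] [Module A M]

/-- One Koszul step: if `Tor₁(A/J, M) = 0` and `x` is regular on `M/JM` then
`Tor₁(A/(J + (x)), M) = 0`. -/
theorem tor1Vanish_quotient_sup_span_singleton (J : Ideal A) (x : A)
    (hJ : Tor1Vanish A M (A ⧸ J))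
    (hx : IsSMulRegular (M ⧸ (J • (⊤ : Submodule A M))) x) :
    Tor1Vanish A M (A ⧸ (J ⊔ Ideal.span {x})) := by
  let π : (A ⧸ J) →ₗ[A] A ⧸ (J ⊔ Ideal.span {x}) :=
    Submodule.mapQ J (J ⊔ Ideal.span {x}) LinearMap.id (by
      rw [Submodule.comap_id]; exact le_sup_left)
  have hπ : Function.Surjective π := by
    intro y
    obtain ⟨a, rfl⟩ := Submodule.Quotient.mk_surjective _ y
    exact ⟨Submodule.Quotient.mk a, rfl⟩
  let xbar : A ⧸ J := Submodule.Quotient.mk x
  let R : Submodule A (A ⧸ J) := Submodule.span A {xbar}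
  have hex : Function.Exact R.subtype π := by
    intro y
    obtain ⟨a, rfl⟩ := Submodule.Quotient.mk_surjective _ y
    rw [Submodule.mapQ_apply, Submodule.Quotient.mk_eq_zero, LinearMap.id_apply]
    constructor
    · intro ha
      obtain ⟨b, hb, c, hc, rfl⟩ := Submodule.mem_sup.mp ha
      obtain ⟨d, rfl⟩ := Ideal.mem_span_singleton'.mp hc
      refine ⟨⟨d • xbar, Submodule.smul_mem _ d (Submodule.mem_span_singleton_self _)⟩, ?_⟩
      change d • xbar = Submodule.Quotient.mk (b + d * x)
      rw [Submodule.Quotient.mk_add, (Submodule.Quotient.mk_eq_zero J).mpr hb, zero_add]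
      rfl
    · rintro ⟨⟨y, hy⟩, hya⟩
      have hy' : y = Submodule.Quotient.mk a := hya
      obtain ⟨d, rfl⟩ := Submodule.mem_span_singleton.mp hy
      have h1 : (Submodule.Quotient.mk (d * x) : A ⧸ J) = Submodule.Quotient.mk a := by
        rw [← hy']; rfl
      rw [Submodule.Quotient.eq] at h1
      have h2 : a = d * x - (d * x - a) := by ring
      rw [h2]
      exact Submodule.sub_mem _
        (Submodule.mem_sup_right (Ideal.mul_mem_left _ _ (Ideal.mem_span_singleton_self x)))
        (Submodule.mem_sup_left h1)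
  refine tor1Vanish_of_exact R.subtype π hπ hex hJ ?_
  -- injectivity of `M ⊗ R → M ⊗ A/J`
  let r₀ : ↥R := ⟨xbar, Submodule.mem_span_singleton_self _⟩
  let σ : A →ₗ[A] ↥R := LinearMap.toSpanSingleton A ↥R r₀
  have hσ : Function.Surjective σ := by
    rintro ⟨y, hy⟩
    obtain ⟨d, rfl⟩ := Submodule.mem_span_singleton.mp hy
    exact ⟨d, rfl⟩
  rw [injective_iff_map_eq_zero]
  intro z hz
  obtain ⟨y, rfl⟩ := LinearMap.lTensor_surjective M hσ z
  obtain ⟨m₀, rfl⟩ := (TensorProduct.rid A M).symm.surjective y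
  rw [TensorProduct.rid_symm_apply, LinearMap.lTensor_tmul] at hz ⊢
  have hσ1 : σ 1 = r₀ := by
    change (1 : A) • r₀ = r₀
    rw [one_smul]
  rw [hσ1] at hz ⊢
  rw [LinearMap.lTensor_tmul, Submodule.subtype_apply] at hz
  have h1 : TensorProduct.tensorQuotEquivQuotSMul M J (m₀ ⊗ₜ[A] xbar) = 0 := by
    rw [hz, map_zero]
  change TensorProduct.tensorQuotEquivQuotSMul M J (m₀ ⊗ₜ[A] (Ideal.Quotient.mk J x)) = 0 at h1
  rw [TensorProduct.tensorQuotEquivQuotSMul_tmul_mk, Submodule.Quotient.mk_smul] at h1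
  have h2 : (Submodule.Quotient.mk m₀ : M ⧸ (J • (⊤ : Submodule A M))) = 0 :=
    hx (show x • (Submodule.Quotient.mk m₀ : M ⧸ (J • (⊤ : Submodule A M))) = x • 0 by
      rw [h1, smul_zero])
  rw [Submodule.Quotient.mk_eq_zero] at h2
  refine Submodule.smul_induction_on h2 ?_ ?_
  · intro a ha m _
    rw [TensorProduct.smul_tmul]
    have : a • r₀ = 0 := by
      apply Subtype.ext
      change a • xbar = 0
      change (Submodule.Quotient.mk (a • x) : A ⧸ J) = 0
      rw [Submodule.Quotient.mk_eq_zero, smul_eq_mul]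
      exact Ideal.mul_mem_right _ _ ha
    rw [this, TensorProduct.tmul_zero]
  · intro m₁ m₂ h₁ h₂
    rw [TensorProduct.add_tmul, h₁, h₂, add_zero]

/-- Koszul: an `M`-regular sequence `fs` has `Tor₁(A/(fs), M) = 0`. -/
theorem tor1Vanish_quotient_ofList_of_isWeaklyRegular (fs : List A) (h : IsWeaklyRegular M fs) :
    Tor1Vanish A M (A ⧸ Ideal.ofList fs) := by
  have key : ∀ k, k ≤ fs.length → Tor1Vanish A M (A ⧸ Ideal.ofList (fs.take k)) := by
    intro k
    induction k with
    | zero =>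
      intro _
      rw [List.take_zero, Ideal.ofList_nil]
      apply tor1Vanish_quotient_ideal
      intro a b _
      have : Subsingleton (M ⊗[A] ↥(⊥ : Ideal A)) := inferInstance
      exact Subsingleton.elim _ _
    | succ k ih =>
      intro hk
      have hk' : k < fs.length := hk
      have h1 := tor1Vanish_quotient_sup_span_singleton (Ideal.ofList (fs.take k)) fs[k]
        (ih hk'.le) (h.regular_mod_prev k hk')
      have h2 : Ideal.ofList (fs.take (k + 1)) = Ideal.ofList (fs.take k) ⊔ Ideal.span {fs[k]} := by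
        rw [List.take_succ_eq_append_getElem hk', Ideal.ofList_append, Ideal.ofList_singleton]
      rw [h2]
      exact h1
  have := key fs.length le_rfl
  rwa [List.take_length] at this

theorem lTensor_ofList_subtype_injective_of_isWeaklyRegular (fs : List A)
    (h : IsWeaklyRegular M fs) :
    Function.Injective ((Ideal.ofList fs).subtype.lTensor M) :=
  (tor1Vanish_quotient_ofList_of_isWeaklyRegular fs h).lTensor_subtype_injective

end

end Groth.Agent.Lib.Helper5
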