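import Mathlib
import Groth.Agent.Lib.Helper5Tor1
import Groth.Agent.Lib.Helper5FlatReg
import Groth.Agent.Lib.Helper5SuppDim

/-!
# The local criterion of flatness, Tor-free (helper5)

* `flat_of_tor1Vanish_quotient_sup_pow`: Artin–Rees + Krull intersection step.
* `flat_of_lTensor_maximalIdeal_injective`: local criterion, residue field form.
-/

set_option autoImplicit false
universe u v

namespace Groth.Agent.Lib.Helper5

open TensorProduct LinearMap

section

variable {A : Type u} {B : Type v} [CommRing A] [CommRing B] [Algebra A B]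
  (M : Type v) [AddCommGroup M] [Module B M] [Module A M] [IsScalarTower A B M]

/-- Artin–Rees + Krull: if `Tor₁(A/(J + Iⁿ), M) = 0` for all `J`, `n` (and `IB ⊆ rad B`, `M` finite
over the Noetherian ring `B`), then `M` is flat over `A`. -/
theorem flat_of_tor1Vanish_quotient_sup_pow [IsNoetherianRing A] [IsNoetherianRing B]
    [Module.Finite B M] (I : Ideal A) (hI : I.map (algebraMap A B) ≤ (⊥ : Ideal B).jacobson)
    (h : ∀ (J : Ideal A) (n : ℕ), Tor1Vanish A M (A ⧸ (J ⊔ I ^ n))) : Module.Flat A M := by
  rw [Module.Flat.iff_lTensor_injective']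
  intro J
  rw [injective_iff_map_eq_zero]
  intro z hz
  have hJfin : Module.Finite A J := Module.Finite.of_fg (IsNoetherian.noetherian J)
  have hfinT : Module.Finite B (M ⊗[A] J) := finite_tensorProduct_of_finite M J
  have hK := Ideal.iInf_pow_smul_eq_bot_of_le_jacobson (I.map (algebraMap A B))
    (M := M ⊗[A] J) hI
  suffices hz' : z ∈ (⨅ i : ℕ, (I.map (algebraMap A B)) ^ i • ⊤ : Submodule B (M ⊗[A] J)) by
    rw [hK] at hz'
    exact (Submodule.mem_bot B).mp hz'
  rw [Submodule.mem_iInf]
  intro n
  obtain ⟨k, hk⟩ := Ideal.exists_pow_inf_eq_pow_smul I (J : Submodule A A)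
  -- the submodule `J ∩ I^(n+k)` of `J`
  let Jn : Submodule A ↥J := Submodule.comap J.subtype (I ^ (n + k))
  -- Step 1: `z` comes from `M ⊗ Jn`
  have hstep1 : z ∈ LinearMap.range (Jn.subtype.lTensor M) := by
    let iₙ : (↥J ⧸ Jn) →ₗ[A] A ⧸ (I ^ (n + k)) :=
      Submodule.mapQ Jn (I ^ (n + k)) J.subtype le_rfl
    let pₙ : (A ⧸ (I ^ (n + k))) →ₗ[A] A ⧸ (J ⊔ I ^ (n + k)) :=
      Submodule.mapQ (I ^ (n + k)) (J ⊔ I ^ (n + k)) LinearMap.id (by
        rw [Submodule.comap_id]; exact le_sup_right)
    have hiₙ : Function.Injective iₙ := by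
      rw [injective_iff_map_eq_zero]
      intro x hx
      obtain ⟨y, rfl⟩ := Submodule.Quotient.mk_surjective _ x
      rw [Submodule.mapQ_apply, Submodule.Quotient.mk_eq_zero] at hx
      rw [Submodule.Quotient.mk_eq_zero]
      exact hx
    have hpₙ : Function.Surjective pₙ := by
      intro x
      obtain ⟨a, rfl⟩ := Submodule.Quotient.mk_surjective _ x
      exact ⟨Submodule.Quotient.mk a, rfl⟩
    have hexₙ : Function.Exact iₙ pₙ := by
      intro x
      obtain ⟨a, rfl⟩ := Submodule.Quotient.mk_surjective _ x
      rw [Submodule.mapQ_apply, Submodule.Quotient.mk_eq_zero, LinearMap.id_apply]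
      constructor
      · intro ha
        obtain ⟨b, hb, c, hc, rfl⟩ := Submodule.mem_sup.mp ha
        refine ⟨Submodule.Quotient.mk ⟨b, hb⟩, ?_⟩
        rw [Submodule.mapQ_apply, Submodule.subtype_apply]
        rw [Submodule.Quotient.eq]
        simpa using (I ^ (n + k)).neg_mem hc
      · rintro ⟨y, hy⟩
        obtain ⟨b, rfl⟩ := Submodule.Quotient.mk_surjective _ y
        rw [Submodule.mapQ_apply, Submodule.subtype_apply, Submodule.Quotient.eq] at hy
        have : a = (b : A) - ((b : A) - a) := by ring
        rw [this]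
        exact Submodule.sub_mem _ (Submodule.mem_sup_left b.2) (Submodule.mem_sup_right hy)
    have hinjₙ := h J (n + k) (↥J ⧸ Jn) (A ⧸ (I ^ (n + k))) iₙ pₙ hiₙ hpₙ hexₙ
    have hcomm : iₙ ∘ₗ Jn.mkQ = (I ^ (n + k)).mkQ ∘ₗ J.subtype := by
      ext y
      rfl
    have h1 : (Jn.mkQ.lTensor M) z = 0 := by
      apply hinjₙ
      rw [map_zero, ← LinearMap.comp_apply, ← LinearMap.lTensor_comp, hcomm, LinearMap.lTensor_comp,
        LinearMap.comp_apply, hz, map_zero]
    have hexT := lTensor_exact M (LinearMap.exact_subtype_mkQ Jn) (Submodule.mkQ_surjective Jn)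
    exact (hexT z).mp h1
  -- Step 2: the image of `M ⊗ Jn` lies in `(IB)^n (M ⊗ J)`
  have hJn_le : Jn ≤ I ^ n • (⊤ : Submodule A ↥J) := by
    intro y hy
    have hy' : (y : A) ∈ I ^ (n + k) • (⊤ : Submodule A A) ⊓ (J : Submodule A A) := by
      refine ⟨?_, y.2⟩
      rw [smul_eq_mul, Ideal.mul_top]
      exact hy
    rw [hk (n + k) (Nat.le_add_left k n), Nat.add_sub_cancel] at hy'
    have h2 : I ^ n • (I ^ k • (⊤ : Submodule A A) ⊓ (J : Submodule A A)) ≤
        Submodule.map J.subtype (I ^ n • (⊤ : Submodule A ↥J)) := by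
      rw [Submodule.map_smul'', Submodule.map_top, Submodule.range_subtype]
      exact Submodule.smul_mono le_rfl inf_le_right
    obtain ⟨y', hy'mem, hy'eq⟩ := h2 hy'
    have : y' = y := Subtype.ext hy'eq
    rw [← this]
    exact hy'mem
  have hstep2 : ∀ w : M ⊗[A] ↥Jn, (Jn.subtype.lTensor M) w ∈
      ((I.map (algebraMap A B)) ^ n • ⊤ : Submodule B (M ⊗[A] J)) := by
    intro w
    induction w with
    | zero => rw [map_zero]; exact Submodule.zero_mem _
    | add a b ha hb => rw [map_add]; exact Submodule.add_mem _ ha hb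
    | tmul m y =>
      rw [LinearMap.lTensor_tmul, Submodule.subtype_apply]
      have hy := hJn_le y.2
      refine Submodule.smul_induction_on hy ?_ ?_
      · intro c hc t _
        rw [TensorProduct.tmul_smul, ← algebraMap_smul B c (m ⊗ₜ[A] t)]
        refine Submodule.smul_mem_smul ?_ trivial
        rw [← Ideal.map_pow]
        exact Ideal.mem_map_of_mem _ hc
      · intro t₁ t₂ h₁ h₂
        rw [TensorProduct.tmul_add]
        exact Submodule.add_mem _ h₁ h₂
  obtain ⟨w, rfl⟩ := hstep1
  exact hstep2 w

theorem isFiniteLength_quotient_of_pow_le [IsLocalRing A] [IsNoetherianRing A] (K : Ideal A) (n : ℕ)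
    (hK : IsLocalRing.maximalIdeal A ^ n ≤ K) : IsFiniteLength A (A ⧸ K) := by
  apply isFiniteLength_of_supportDim_le_zero
  apply supportDim_le_zero_of_forall_isMaximal
  intro p hp
  rw [Module.support_eq_zeroLocus, Ideal.annihilator_quotient, PrimeSpectrum.mem_zeroLocus] at hp
  have h1 : IsLocalRing.maximalIdeal A ^ n ≤ p.asIdeal := hK.trans hp
  have h2 : IsLocalRing.maximalIdeal A ≤ p.asIdeal := p.2.le_of_pow_le h1
  have h3 : p.asIdeal = IsLocalRing.maximalIdeal A :=
    ((IsLocalRing.maximalIdeal.isMaximal A).eq_of_le p.2.ne_top h2).symm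
  rw [h3]
  exact IsLocalRing.maximalIdeal.isMaximal A

/-- **Local criterion of flatness**, residue field form: `A` Noetherian local, `B` Noetherian with
`m_A B ⊆ rad B`, `M` a finite `B`-module with `M ⊗ m_A → M` injective. Then `M` is `A`-flat. -/
theorem flat_of_lTensor_maximalIdeal_injective [IsLocalRing A] [IsNoetherianRing A]
    [IsNoetherianRing B] [Module.Finite B M]
    (hmB : (IsLocalRing.maximalIdeal A).map (algebraMap A B) ≤ (⊥ : Ideal B).jacobson)
    (h : Function.Injective ((IsLocalRing.maximalIdeal A).subtype.lTensor M)) :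
    Module.Flat A M := by
  apply flat_of_tor1Vanish_quotient_sup_pow M (IsLocalRing.maximalIdeal A) hmB
  intro J n
  exact tor1Vanish_of_isFiniteLength (tor1Vanish_quotient_ideal _ h)
    (isFiniteLength_quotient_of_pow_le _ n le_sup_right)

end

section

variable {A : Type u} [CommRing A] {M : Type v} [AddCommGroup M] [Module A M]

/-- Cyclic modules killed by `I`. -/
theorem tor1Vanish_quotient_of_le (I : Ideal A)
    (H1 : Function.Injective (I.subtype.lTensor M))
    (H2 : ∀ K : Ideal (A ⧸ I), Function.Injective (((K.restrictScalars A).subtype).lTensor M))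
    (K₀ : Ideal A) (hK₀ : I ≤ K₀) : Tor1Vanish A M (A ⧸ K₀) := by
  let π : (A ⧸ I) →ₗ[A] A ⧸ K₀ := Submodule.mapQ I K₀ LinearMap.id (by
    rw [Submodule.comap_id]; exact hK₀)
  have hπ : Function.Surjective π := by
    intro x
    obtain ⟨a, rfl⟩ := Submodule.Quotient.mk_surjective _ x
    exact ⟨Submodule.Quotient.mk a, rfl⟩
  let K : Ideal (A ⧸ I) := K₀.map (Ideal.Quotient.mk I)
  have hex : Function.Exact (K.restrictScalars A).subtype π := by
    intro x
    obtain ⟨a, rfl⟩ := Submodule.Quotient.mk_surjective _ x
    rw [Submodule.mapQ_apply, Submodule.Quotient.mk_eq_zero, LinearMap.id_apply]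
    constructor
    · intro ha
      exact ⟨⟨Submodule.Quotient.mk a, Ideal.mem_map_of_mem (Ideal.Quotient.mk I) ha⟩, rfl⟩
    · rintro ⟨⟨y, hy⟩, hya⟩
      have hy' : (Ideal.Quotient.mk I) a ∈ K₀.map (Ideal.Quotient.mk I) := by
        have : y = (Ideal.Quotient.mk I) a := hya
        rw [← this]
        exact hy
      rw [Ideal.mem_quotient_iff_mem hK₀] at hy'
      exact hy'
  exact tor1Vanish_of_exact _ π hπ hex (tor1Vanish_quotient_ideal I H1) (H2 K)

/-- Finitely generated modules killed by `I`. -/
theorem tor1Vanish_of_smul_top_eq_bot (I : Ideal A)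
    (H1 : Function.Injective (I.subtype.lTensor M))
    (H2 : ∀ K : Ideal (A ⧸ I), Function.Injective (((K.restrictScalars A).subtype).lTensor M))
    (r : ℕ) : ∀ (N : Type u) [AddCommGroup N] [Module A N] (s : Fin r → N),
      Submodule.span A (Set.range s) = ⊤ → I • (⊤ : Submodule A N) = ⊥ → Tor1Vanish A M N := by
  induction r with
  | zero =>
    intro N _ _ s hs _
    have : Subsingleton N := by
      rw [← Submodule.subsingleton_iff A, ← subsingleton_iff_bot_eq_top, ← hs]
      simp
    exact tor1Vanish_of_subsingleton N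
  | succ r ih =>
    intro N _ _ s hs hI
    have hkill : ∀ a ∈ I, ∀ x : N, a • x = 0 := by
      intro a ha x
      have : a • x ∈ I • (⊤ : Submodule A N) := Submodule.smul_mem_smul ha trivial
      rw [hI] at this
      exact (Submodule.mem_bot A).mp this
    apply tor1Vanish_of_submodule_of_quotient (Submodule.span A {s 0})
    · -- cyclic
      have hle : I ≤ LinearMap.ker (LinearMap.toSpanSingleton A N (s 0)) := by
        intro a ha
        rw [LinearMap.mem_ker, LinearMap.toSpanSingleton_apply]
        exact hkill a ha _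
      have h1 := tor1Vanish_quotient_of_le I H1 H2 _ hle
      have e1 := LinearMap.quotKerEquivRange (LinearMap.toSpanSingleton A N (s 0))
      have e2 : ↥(LinearMap.range (LinearMap.toSpanSingleton A N (s 0))) ≃ₗ[A]
          ↥(Submodule.span A {s 0}) :=
        LinearEquiv.ofEq _ _ (LinearMap.range_toSpanSingleton (s 0))
      exact h1.of_linearEquiv (e1.trans e2)
    · apply ih (N ⧸ Submodule.span A {s 0})
        (fun i => Submodule.Quotient.mk (s i.succ))
      · rw [eq_top_iff]
        rintro x -
        obtain ⟨y, rfl⟩ := Submodule.Quotient.mk_surjective _ x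
        have hy : y ∈ Submodule.span A (Set.range s) := by rw [hs]; trivial
        refine Submodule.span_induction ?_ ?_ ?_ ?_ hy
        · rintro _ ⟨i, rfl⟩
          refine Fin.cases ?_ (fun j => ?_) i
          · have : (Submodule.Quotient.mk (s 0) : N ⧸ Submodule.span A {s 0}) = 0 :=
              (Submodule.Quotient.mk_eq_zero _).mpr (Submodule.mem_span_singleton_self _)
            rw [this]
            exact Submodule.zero_mem _
          · exact Submodule.subset_span ⟨j, rfl⟩
        · rw [Submodule.Quotient.mk_zero]; exact Submodule.zero_mem _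
        · intro a b _ _ ha hb
          rw [Submodule.Quotient.mk_add]; exact Submodule.add_mem _ ha hb
        · intro c a _ ha
          rw [Submodule.Quotient.mk_smul]; exact Submodule.smul_mem _ c ha
      · rw [eq_bot_iff]
        refine Submodule.smul_le.mpr ?_
        intro a ha x _
        obtain ⟨y, rfl⟩ := Submodule.Quotient.mk_surjective _ x
        rw [← Submodule.Quotient.mk_smul, hkill a ha y, Submodule.Quotient.mk_zero]
        exact Submodule.zero_mem _

/-- Finitely generated modules killed by a power of `I`. -/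
theorem tor1Vanish_of_pow_smul_top_eq_bot [IsNoetherianRing A] (I : Ideal A)
    (H1 : Function.Injective (I.subtype.lTensor M))
    (H2 : ∀ K : Ideal (A ⧸ I), Function.Injective (((K.restrictScalars A).subtype).lTensor M))
    (n : ℕ) : ∀ (N : Type u) [AddCommGroup N] [Module A N] [Module.Finite A N],
      I ^ n • (⊤ : Submodule A N) = ⊥ → Tor1Vanish A M N := by
  induction n with
  | zero =>
    intro N _ _ _ hI
    have : Subsingleton N := by
      rw [← Submodule.subsingleton_iff A, ← subsingleton_iff_bot_eq_top, ← hI, pow_zero,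
        Ideal.one_eq_top, Submodule.top_smul]
    exact tor1Vanish_of_subsingleton N
  | succ n ih =>
    intro N _ _ _ hI
    apply tor1Vanish_of_submodule_of_quotient (I • (⊤ : Submodule A N))
    · apply ih
      apply Submodule.map_injective_of_injective (I • (⊤ : Submodule A N)).injective_subtype
      rw [Submodule.map_smul'', Submodule.map_top, Submodule.range_subtype, Submodule.map_bot,
        ← mul_smul, ← pow_succ, hI]
    · obtain ⟨r, s, hs⟩ := Module.Finite.exists_fin (R := A) (M := N ⧸ (I • (⊤ : Submodule A N)))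
      apply tor1Vanish_of_smul_top_eq_bot I H1 H2 r _ s hs
      rw [eq_bot_iff]
      refine Submodule.smul_le.mpr ?_
      intro a ha x _
      obtain ⟨y, rfl⟩ := Submodule.Quotient.mk_surjective _ x
      rw [← Submodule.Quotient.mk_smul, Submodule.mem_bot, Submodule.Quotient.mk_eq_zero]
      exact Submodule.smul_mem_smul ha trivial

end

section

variable {A : Type u} {B : Type v} [CommRing A] [CommRing B] [Algebra A B]
  (M : Type v) [AddCommGroup M] [Module B M] [Module A M] [IsScalarTower A B M]

/-- **Local criterion of flatness**, general form (hypothesis `H2` says `M/IM` is flat over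
`A/I`). -/
theorem flat_of_lTensor_ideal_injective [IsNoetherianRing A] [IsNoetherianRing B]
    [Module.Finite B M] (I : Ideal A) (hIB : I.map (algebraMap A B) ≤ (⊥ : Ideal B).jacobson)
    (H1 : Function.Injective (I.subtype.lTensor M))
    (H2 : ∀ K : Ideal (A ⧸ I), Function.Injective (((K.restrictScalars A).subtype).lTensor M)) :
    Module.Flat A M := by
  apply flat_of_tor1Vanish_quotient_sup_pow M I hIB
  intro J n
  apply tor1Vanish_of_pow_smul_top_eq_bot I H1 H2 n
  rw [eq_bot_iff]
  refine Submodule.smul_le.mpr ?_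
  intro a ha x _
  obtain ⟨y, rfl⟩ := Submodule.Quotient.mk_surjective _ x
  rw [← Submodule.Quotient.mk_smul, Submodule.mem_bot, Submodule.Quotient.mk_eq_zero, smul_eq_mul]
  exact Submodule.mem_sup_right (Ideal.mul_mem_right _ _ ha)

end

section

variable {A : Type u} [CommRing A] {M : Type v} [AddCommGroup M] [Module A M]

/-- Flatness of `(A/I) ⊗ M` over `A/I` gives hypothesis `H2` of the local criterion. -/
theorem lTensor_restrictScalars_subtype_injective_of_flat_baseChange (I : Ideal A)
    (h : Module.Flat (A ⧸ I) ((A ⧸ I) ⊗[A] M)) (K : Ideal (A ⧸ I)) :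
    Function.Injective (((K.restrictScalars A).subtype).lTensor M) := by
  rw [LinearMap.lTensor_inj_iff_rTensor_inj]
  have hflat := (Module.Flat.iff_rTensor_injective' (R := A ⧸ I) (M := (A ⧸ I) ⊗[A] M)).mp h K
  let e₁ := TensorProduct.AlgebraTensorModule.cancelBaseChange A (A ⧸ I) (A ⧸ I) ↥K M
  let e₂ := TensorProduct.AlgebraTensorModule.cancelBaseChange A (A ⧸ I) (A ⧸ I) (A ⧸ I) M
  let g : ↥K ⊗[A] M →ₗ[A] (A ⧸ I) ⊗[A] M := rTensor M (K.subtype.restrictScalars A)
  have hsq : ∀ t, g (e₁ t) = e₂ (rTensor ((A ⧸ I) ⊗[A] M) K.subtype t) := by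
    intro t
    induction t with
    | zero => simp
    | add a b ha hb => rw [map_add, map_add, ha, hb, map_add, map_add]
    | tmul x y =>
      induction y with
      | zero => simp
      | add a b ha hb => rw [tmul_add, map_add, map_add, ha, hb, map_add, map_add]
      | tmul a m =>
        rw [rTensor_tmul]
        simp only [e₁, e₂, g, TensorProduct.AlgebraTensorModule.cancelBaseChange_tmul, rTensor_tmul]
        rfl
  have hg : Function.Injective g := by
    intro t₁ t₂ ht
    obtain ⟨s₁, rfl⟩ := e₁.surjective t₁
    obtain ⟨s₂, rfl⟩ := e₁.surjective t₂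
    rw [hsq, hsq] at ht
    rw [hflat (e₂.injective ht)]
  exact hg

end

section
variable {R : Type u} {S : Type v} [CommRing R] [CommRing S] [Algebra R S]
  (M : Type v) [AddCommGroup M] [Module S M] [Module R M] [IsScalarTower R S M]

/-- If `M` is `R`-flat then `M ⊗_S JS → M` is injective for every ideal `J` of `R`. -/
theorem lTensor_map_subtype_injective_of_flat [Module.Flat R M] (J : Ideal R) :
    Function.Injective ((J.map (algebraMap R S)).subtype.lTensor M) := by
  -- `τ : S ⊗[R] J → S`
  let τ : S ⊗[R] ↥J →ₗ[S] S :=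
    (TensorProduct.AlgebraTensorModule.rid R S S).toLinearMap ∘ₗ
      TensorProduct.AlgebraTensorModule.map (LinearMap.id : S →ₗ[S] S) J.subtype
  have hτ : ∀ (s : S) (a : J), τ (s ⊗ₜ[R] a) = (a : R) • s := fun s a => rfl
  have hrange : J.map (algebraMap R S) = LinearMap.range τ := by
    apply le_antisymm
    · rw [Ideal.map, Ideal.span_le]
      rintro _ ⟨a, ha, rfl⟩
      refine ⟨1 ⊗ₜ[R] ⟨a, ha⟩, ?_⟩
      rw [hτ, Algebra.smul_def, mul_one]
    · rintro _ ⟨t, rfl⟩
      induction t with
      | zero => rw [map_zero]; exact Submodule.zero_mem _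
      | add a b ha hb => rw [map_add]; exact Submodule.add_mem _ ha hb
      | tmul s a =>
        rw [hτ, Algebra.smul_def]
        exact Ideal.mul_mem_right _ _ (Ideal.mem_map_of_mem _ a.2)
  have key : ∀ (I' : Ideal S), I' = LinearMap.range τ →
      Function.Injective (I'.subtype.lTensor M) := by
    intro I' hI'
    subst hI'
    rw [injective_iff_map_eq_zero]
    intro z hz
    obtain ⟨w', rfl⟩ := LinearMap.lTensor_surjective M (LinearMap.surjective_rangeRestrict τ) z
    let c := TensorProduct.AlgebraTensorModule.cancelBaseChange R S S M ↥J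
    have hsq : ∀ w' : M ⊗[S] (S ⊗[R] ↥J),
        TensorProduct.rid S M ((LinearMap.range τ).subtype.lTensor M (τ.rangeRestrict.lTensor M w')) =
          TensorProduct.rid R M (J.subtype.lTensor M (c w')) := by
      intro w'
      induction w' with
      | zero => simp
      | add a b ha hb => simp only [map_add, ha, hb]
      | tmul m t =>
        induction t with
        | zero => simp
        | add a b ha hb => simp only [tmul_add, map_add, ha, hb]
        | tmul s a =>
          simp only [c, TensorProduct.AlgebraTensorModule.cancelBaseChange_tmul, lTensor_tmul,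
            Submodule.subtype_apply, TensorProduct.rid_tmul]
          change (τ (s ⊗ₜ[R] a)) • m = (a : R) • s • m
          rw [hτ, smul_assoc]
    have h1 := hsq w'
    rw [hz, map_zero] at h1
    have h2 : J.subtype.lTensor M (c w') = 0 := (TensorProduct.rid R M).injective (by rw [← h1, map_zero])
    have h3 : c w' = 0 :=
      Module.Flat.lTensor_preserves_injective_linearMap (M := M) J.subtype Subtype.val_injective
        (by rw [h2, map_zero])
    have h4 : w' = 0 := c.injective (by rw [h3, map_zero])
    rw [h4, map_zero]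
  exact key _ hrange

/-- If `M` is faithfully flat over `S` and flat over `R` then `S` is flat over `R`. -/
theorem flat_of_faithfullyFlat_of_flat [Module.FaithfullyFlat S M] [Module.Flat R M] :
    Module.Flat R S := by
  rw [Module.Flat.iff_lTensor_preserves_injective_linearMap]
  intro N N' _ _ _ _ f hf
  let g : S ⊗[R] N →ₗ[S] S ⊗[R] N' :=
    TensorProduct.AlgebraTensorModule.map (LinearMap.id : S →ₗ[S] S) f
  have hg : ∀ t, g t = f.lTensor S t := fun t => rfl
  suffices h : Function.Injective g from h
  rw [← Module.FaithfullyFlat.lTensor_injective_iff_injective S M]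
  let c := TensorProduct.AlgebraTensorModule.cancelBaseChange R S S M N
  let c' := TensorProduct.AlgebraTensorModule.cancelBaseChange R S S M N'
  have hsq : ∀ w, c' (g.lTensor M w) = f.lTensor M (c w) := by
    intro w
    induction w with
    | zero => simp
    | add a b ha hb => simp only [map_add, ha, hb]
    | tmul m t =>
      induction t with
      | zero => simp
      | add a b ha hb => simp only [tmul_add, map_add, ha, hb]
      | tmul s n =>
        simp only [c, c', g, lTensor_tmul, TensorProduct.AlgebraTensorModule.map_tmul,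
          TensorProduct.AlgebraTensorModule.cancelBaseChange_tmul, LinearMap.id_apply]
  intro w₁ w₂ h
  have h1 : f.lTensor M (c w₁) = f.lTensor M (c w₂) := by rw [← hsq, ← hsq, h]
  have h2 := Module.Flat.lTensor_preserves_injective_linearMap (M := M) f hf h1
  exact c.injective h2

end

end Groth.Agent.Lib.Helper5
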