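import Mathlib
import Groth.Agent.Lib.Helper5LocalFlat

/-!
# Local criterion of flatness, part 3 (helper5): the adic form

If `M/IⁿM` is flat over `A/Iⁿ` for every `n ≥ 1` (with `M` finite over the Noetherian
`A`-algebra `B`), then `M_q` is flat over `A` for every prime `q ⊇ IB`.
-/

set_option autoImplicit false
universe u v

namespace Groth.Agent.Lib.Helper5

open TensorProduct LinearMap

section

variable {A : Type u} {B : Type v} [CommRing A] [CommRing B] [Algebra A B]
  (M : Type v) [AddCommGroup M] [Module B M] [Module A M] [IsScalarTower A B M]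

/-- Artin–Rees step: the image of `M ⊗ (J ∩ I^(n+k))` in `M ⊗ J` lies in `(IB)^n (M ⊗ J)`. -/
theorem exists_lTensor_subtype_comap_pow_mem [IsNoetherianRing A] (I J : Ideal A) (n : ℕ) :
    ∃ k : ℕ, ∀ w : M ⊗[A] ↥(Submodule.comap J.subtype (I ^ (n + k))),
      ((Submodule.comap J.subtype (I ^ (n + k))).subtype.lTensor M) w ∈
        ((I.map (algebraMap A B)) ^ n • ⊤ : Submodule B (M ⊗[A] J)) := by
  obtain ⟨k, hk⟩ := Ideal.exists_pow_inf_eq_pow_smul I (J : Submodule A A)
  refine ⟨k, ?_⟩
  have hJn_le : Submodule.comap J.subtype (I ^ (n + k)) ≤ I ^ n • (⊤ : Submodule A ↥J) := by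
    intro y hy
    have hy' : (y : A) ∈ I ^ (n + k) • (⊤ : Submodule A A) ⊓ (J : Submodule A A) := by
      refine ⟨?_, y.2⟩
      rw [smul_eq_mul, Ideal.mul_top]
      exact hy
    rw [hk (n + k) (Nat.le_add_left k n), Nat.add_sub_cancel] at hy'
    have h2 : I ^ n • (I ^ k • (⊤ : Submodule A A) ⊓ (J : Submodule A A)) ≤
        Submodule.map J.subtype (I ^ n • (⊤ : Submodule A ↥J)) := by
      rw [Submodule.map_smul'', Submodule.map_top, Submodule.range_subtype]
      exact Submodule.smul_mono le_rfl inf_le_right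
    obtain ⟨y', hy'mem, hy'eq⟩ := h2 hy'
    have : y' = y := Subtype.ext hy'eq
    rw [← this]
    exact hy'mem
  intro w
  induction w with
  | zero => rw [map_zero]; exact Submodule.zero_mem _
  | add a b ha hb => rw [map_add]; exact Submodule.add_mem _ ha hb
  | tmul m y =>
    rw [LinearMap.lTensor_tmul, Submodule.subtype_apply]
    have hy := hJn_le y.2
    refine Submodule.smul_induction_on hy ?_ ?_
    · intro c hc t _
      rw [TensorProduct.tmul_smul, ← algebraMap_smul B c (m ⊗ₜ[A] t)]
      refine Submodule.smul_mem_smul ?_ trivial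
      rw [← Ideal.map_pow]
      exact Ideal.mem_map_of_mem _ hc
    · intro t₁ t₂ h₁ h₂
      rw [TensorProduct.tmul_add]
      exact Submodule.add_mem _ h₁ h₂

omit [Algebra A B] [Module B M] [IsScalarTower A B M] in
/-- If `(A/I') ⊗ M` is flat over `A/I'`, a kernel element of `M ⊗ J → M` comes from
`M ⊗ (J ∩ I')`. -/
theorem mem_range_lTensor_comap_of_flat_baseChange (I' J : Ideal A)
    (h : Module.Flat (A ⧸ I') ((A ⧸ I') ⊗[A] M)) (z : M ⊗[A] J)
    (hz : J.subtype.lTensor M z = 0) :
    z ∈ LinearMap.range ((Submodule.comap J.subtype I').subtype.lTensor M) := by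
  let K : Ideal (A ⧸ I') := J.map (Ideal.Quotient.mk I')
  have hinj := lTensor_restrictScalars_subtype_injective_of_flat_baseChange (M := M) I' h K
  let π : ↥J →ₗ[A] ↥(K.restrictScalars A) :=
    LinearMap.codRestrict (K.restrictScalars A) ((Submodule.mkQ I') ∘ₗ J.subtype)
      (fun y => Ideal.mem_map_of_mem (Ideal.Quotient.mk I') y.2)
  have hπ : Function.Surjective π := by
    rintro ⟨x, hx⟩
    obtain ⟨j, hj, rfl⟩ := (Ideal.mem_map_iff_of_surjective (Ideal.Quotient.mk I')
      Ideal.Quotient.mk_surjective).mp hx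
    exact ⟨⟨j, hj⟩, rfl⟩
  have hex : Function.Exact (Submodule.comap J.subtype I').subtype π := by
    intro y
    constructor
    · intro hy
      have h1 : (Ideal.Quotient.mk I') (y : A) = 0 := congrArg Subtype.val hy
      rw [Ideal.Quotient.eq_zero_iff_mem] at h1
      exact ⟨⟨y, h1⟩, rfl⟩
    · rintro ⟨y', rfl⟩
      apply Subtype.ext
      exact Ideal.Quotient.eq_zero_iff_mem.mpr y'.2
  have hcomm : (K.restrictScalars A).subtype ∘ₗ π = (Submodule.mkQ I') ∘ₗ J.subtype := by
    ext y
    rfl
  have h1 : (π.lTensor M) z = 0 := by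
    apply hinj
    rw [map_zero, ← LinearMap.comp_apply, ← LinearMap.lTensor_comp, hcomm, LinearMap.lTensor_comp,
      LinearMap.comp_apply, hz, map_zero]
  exact (lTensor_exact M hex hπ z).mp h1

/-- Kernel elements of `M ⊗ J → M` are fixed by some element of `IB`. -/
theorem exists_smul_eq_self_of_lTensor_eq_zero [IsNoetherianRing A] [IsNoetherianRing B]
    [Module.Finite B M] (I : Ideal A)
    (h : ∀ n : ℕ, 0 < n → Module.Flat (A ⧸ I ^ n) ((A ⧸ I ^ n) ⊗[A] M))
    (J : Ideal A) (z : M ⊗[A] J) (hz : J.subtype.lTensor M z = 0) :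
    ∃ r : I.map (algebraMap A B), (r : B) • z = z := by
  have hJfin : Module.Finite A J := Module.Finite.of_fg (IsNoetherian.noetherian J)
  have hfinT : Module.Finite B (M ⊗[A] J) := finite_tensorProduct_of_finite M J
  rw [← Ideal.mem_iInf_smul_pow_eq_bot_iff, Submodule.mem_iInf]
  intro n
  obtain ⟨k, hk⟩ := exists_lTensor_subtype_comap_pow_mem (B := B) M I J n
  by_cases hn : n + k = 0
  · have hn0 : n = 0 := by omega
    subst hn0
    rw [pow_zero, Ideal.one_eq_top, Submodule.top_smul]
    trivial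
  · obtain ⟨w, rfl⟩ := mem_range_lTensor_comap_of_flat_baseChange M (I ^ (n + k)) J
      (h (n + k) (Nat.pos_of_ne_zero hn)) z hz
    exact hk w

/-- Localization step: if every kernel element of `M ⊗ J → M` is killed by an element of the
submonoid `p ⊆ B`, then `p⁻¹M` is flat over `A`. -/
theorem flat_localizedModule_of_forall_exists_smul_eq_zero (p : Submonoid B)
    (h : ∀ (J : Ideal A) (z : M ⊗[A] J), J.subtype.lTensor M z = 0 →
      ∃ c : p, (c : B) • z = 0) :
    Module.Flat A (LocalizedModule p M) := by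
  rw [Module.Flat.iff_lTensor_injective']
  intro J
  let g : M →ₗ[B] LocalizedModule p M := LocalizedModule.mkLinearMap p M
  have hmap := IsLocalizedModule.map_lTensor (R := A) (A := B) p (J.subtype) g
  rw [← AlgebraTensorModule.coe_lTensor (A := B), ← hmap, injective_iff_map_eq_zero]
  intro y hy
  obtain ⟨⟨x, s⟩, hxs⟩ := IsLocalizedModule.surj p (AlgebraTensorModule.rTensor A J g) y
  have h1 : IsLocalizedModule.map p (AlgebraTensorModule.rTensor A J g)
      (AlgebraTensorModule.rTensor A A g) (AlgebraTensorModule.lTensor B M J.subtype)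
        (s • y) = 0 := by
    rw [Submonoid.smul_def, map_smul, hy, smul_zero]
  change s • y = _ at hxs
  rw [hxs, IsLocalizedModule.map_apply] at h1
  obtain ⟨t, ht⟩ := (IsLocalizedModule.eq_zero_iff p (AlgebraTensorModule.rTensor A A g)).mp h1
  have h2 : J.subtype.lTensor M ((t : B) • x) = 0 := by
    rw [← AlgebraTensorModule.coe_lTensor (A := B), map_smul]
    exact ht
  obtain ⟨c, hc⟩ := h J _ h2
  have h3 : (AlgebraTensorModule.rTensor A J g) x = 0 := by
    rw [IsLocalizedModule.eq_zero_iff p]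
    refine ⟨c * t, ?_⟩
    rw [Submonoid.smul_def, Submonoid.coe_mul, mul_smul]
    exact hc
  rw [h3] at hxs
  exact IsLocalizedModule.smul_injective (AlgebraTensorModule.rTensor A J g) s
    (by simpa using hxs)

/-- Stacks 0523: adic form of the local criterion of flatness. -/
theorem flat_localizedModule_of_flat_baseChange_pow [IsNoetherianRing A] [IsNoetherianRing B]
    [Module.Finite B M] (I : Ideal A)
    (h : ∀ n : ℕ, 0 < n → Module.Flat (A ⧸ I ^ n) ((A ⧸ I ^ n) ⊗[A] M))
    (q : Ideal B) [q.IsPrime] (hq : I.map (algebraMap A B) ≤ q) :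
    Module.Flat A (LocalizedModule q.primeCompl M) := by
  apply flat_localizedModule_of_forall_exists_smul_eq_zero
  intro J z hz
  obtain ⟨⟨r, hr⟩, hrz⟩ := exists_smul_eq_self_of_lTensor_eq_zero (B := B) M I h J z hz
  have hc : (1 - r) ∈ q.primeCompl := by
    intro hmem
    have h1 : (1 : B) ∈ q := by
      have := q.add_mem hmem (hq hr)
      rwa [sub_add_cancel] at this
    exact Ideal.IsPrime.ne_top' ((Ideal.eq_top_iff_one q).mpr h1)
  refine ⟨⟨1 - r, hc⟩, ?_⟩
  change (1 - r) • z = 0
  rw [sub_smul, one_smul]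
  exact sub_eq_zero.mpr hrz.symm

end

end Groth.Agent.Lib.Helper5
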