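import Mathlib
import Groth.Agent.Lib.Helper5LocalFlat3
import Groth.Agent.Lib.Helper5ArtFlat2

/-!
# Descent of flatness along a finite injective ring map (helper5)
-/

set_option autoImplicit false
universe u

namespace Groth.Agent.Lib.Helper5

open TensorProduct

section BC

variable {A A₁ T : Type u} [CommRing A] [CommRing A₁] [CommRing T] [Algebra A A₁] [Algebra A₁ T]
  [Algebra A T] [IsScalarTower A A₁ T] (B : Type u) [AddCommGroup B] [Module A B]

/-- Base change of flatness in two steps. -/
theorem flat_baseChange_of_flat_baseChange (h : Module.Flat A₁ (A₁ ⊗[A] B)) :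
    Module.Flat T (T ⊗[A] B) :=
  Module.Flat.of_linearEquiv (AlgebraTensorModule.cancelBaseChange A A₁ T T B).symm

/-- The converse transfer. -/
theorem flat_baseChange_baseChange_of_flat (h : Module.Flat T (T ⊗[A] B)) :
    Module.Flat T (T ⊗[A₁] (A₁ ⊗[A] B)) :=
  Module.Flat.of_linearEquiv (AlgebraTensorModule.cancelBaseChange A A₁ T T B)

end BC

section Adic

variable {A : Type u} {B : Type u} [CommRing A] [CommRing B] [Algebra A B]
  (M : Type u) [AddCommGroup M] [Module B M] [Module A M] [IsScalarTower A B M]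

/-- Adic form of the local criterion, with `IB` in the Jacobson radical. -/
theorem flat_of_flat_baseChange_pow_of_le_jacobson [IsNoetherianRing A] [IsNoetherianRing B]
    [Module.Finite B M] (I : Ideal A) (hI : I.map (algebraMap A B) ≤ (⊥ : Ideal B).jacobson)
    (h : ∀ n : ℕ, 0 < n → Module.Flat (A ⧸ I ^ n) ((A ⧸ I ^ n) ⊗[A] M)) : Module.Flat A M := by
  rw [Module.Flat.iff_lTensor_injective']
  intro J
  rw [injective_iff_map_eq_zero]
  intro z hz
  obtain ⟨⟨r, hr⟩, hrz⟩ := exists_smul_eq_self_of_lTensor_eq_zero (B := B) M I h J z hz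
  have hu : IsUnit (r * (-1) + 1) := Ideal.mem_jacobson_bot.mp (hI hr) (-1)
  have h1 : (r * (-1) + 1) • z = 0 := by
    rw [add_smul, one_smul, mul_neg_one, neg_smul]
    change -(r • z) + z = 0
    rw [hrz, neg_add_cancel]
  obtain ⟨u, hu'⟩ := hu
  rw [← hu'] at h1
  have h2 : z = (↑u⁻¹ : B) • ((u : B) • z) := by rw [smul_smul, Units.inv_mul, one_smul]
  rw [h2, h1, smul_zero]

end Adic

section AR

variable (A A' : Type u) [CommRing A] [CommRing A'] [IsNoetherianRing A]
  [Algebra A A'] [Module.Finite A A']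

/-- Artin–Rees: `m^N A' ∩ A ⊆ m^n` for `N` large. -/
theorem exists_comap_map_pow_le (hinj : Function.Injective (algebraMap A A')) (I : Ideal A)
    (n : ℕ) : ∃ N : ℕ, 0 < N ∧
      ((I ^ N).map (algebraMap A A')).comap (algebraMap A A') ≤ I ^ n := by
  obtain ⟨k, hk⟩ := Ideal.exists_pow_inf_eq_pow_smul I
    (LinearMap.range (Algebra.linearMap A A'))
  refine ⟨n + k + 1, Nat.succ_pos _, ?_⟩
  intro a ha
  rw [Ideal.mem_comap] at ha
  have h1 : algebraMap A A' a ∈ (I ^ (n + k + 1) • ⊤ : Submodule A A') ⊓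
      LinearMap.range (Algebra.linearMap A A') := by
    refine ⟨?_, ⟨a, rfl⟩⟩
    rw [Ideal.smul_top_eq_map]
    exact ha
  rw [hk (n + k + 1) (by omega)] at h1
  have h2 : n + k + 1 - k = n + 1 := by omega
  rw [h2] at h1
  have h3 : (I ^ (n + 1) • ((I ^ k • ⊤ : Submodule A A') ⊓
      LinearMap.range (Algebra.linearMap A A')) : Submodule A A') ≤
      Submodule.map (Algebra.linearMap A A') (I ^ n • ⊤ : Submodule A A) := by
    rw [Submodule.map_smul'', Submodule.map_top]
    exact Submodule.smul_mono (Ideal.pow_le_pow_right (Nat.le_succ n)) inf_le_right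
  obtain ⟨b, hb, hba⟩ := h3 h1
  rw [smul_eq_mul, Ideal.mul_top] at hb
  have : b = a := hinj hba
  rw [← this]
  exact hb

end AR

section Main

variable (A B A' : Type u) [CommRing A] [CommRing B] [CommRing A'] [IsNoetherianRing A]
  [IsLocalRing A] [IsNoetherianRing B] [IsLocalRing B] [Algebra A B]
  [IsLocalHom (algebraMap A B)] [Algebra A A'] [Module.Finite A A']

/-- Descent of flatness along a finite injective ring map (local Noetherian setting). -/
theorem flat_of_flat_baseChange_of_finite_injective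
    (hinj : Function.Injective (algebraMap A A')) (h : Module.Flat A' (A' ⊗[A] B)) :
    Module.Flat A B := by
  apply flat_of_flat_baseChange_pow_of_le_jacobson (B := B) B (IsLocalRing.maximalIdeal A)
  · rw [IsLocalRing.jacobson_eq_maximalIdeal ⊥ bot_ne_top]
    exact IsLocalRing.map_maximalIdeal_le (algebraMap A B)
  intro n hn
  obtain ⟨N, hN, hle⟩ := exists_comap_map_pow_le A A' hinj (IsLocalRing.maximalIdeal A) n
  set I' : Ideal A' := (IsLocalRing.maximalIdeal A ^ N).map (algebraMap A A') with hI'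
  set K : Ideal A := I'.comap (algebraMap A A') with hK
  -- `A/K` is Artinian
  have hKle : IsLocalRing.maximalIdeal A ^ N ≤ K := Ideal.le_comap_map
  have hArt : IsArtinianRing (A ⧸ K) := by
    have h1 : IsFiniteLength A (A ⧸ K) := isFiniteLength_quotient_of_pow_le K N hKle
    have h2 : IsArtinian A (A ⧸ K) := (isFiniteLength_iff_isNoetherian_isArtinian.mp h1).2
    exact isArtinian_of_tower A h2
  -- Step 1: flat over `A'/I'`
  have hT : Module.Flat (A' ⧸ I') ((A' ⧸ I') ⊗[A] B) :=
    flat_baseChange_of_flat_baseChange (A₁ := A') B h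
  -- Step 2
  have hT2 : Module.Flat (A' ⧸ I') ((A' ⧸ I') ⊗[A ⧸ K] ((A ⧸ K) ⊗[A] B)) :=
    flat_baseChange_baseChange_of_flat (A₁ := A ⧸ K) B hT
  -- Step 3: descent along the injective map from the Artinian ring `A/K`
  have hK3 : Module.Flat (A ⧸ K) ((A ⧸ K) ⊗[A] B) :=
    flat_of_flat_baseChange_of_injective_of_isArtinianRing (S := A' ⧸ I')
      Ideal.algebraMap_quotient_injective
  -- Step 4: base change to `A/m^n`
  let _ : Algebra (A ⧸ K) (A ⧸ IsLocalRing.maximalIdeal A ^ n) :=
    (Ideal.Quotient.factor hle).toAlgebra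
  have : IsScalarTower A (A ⧸ K) (A ⧸ IsLocalRing.maximalIdeal A ^ n) :=
    IsScalarTower.of_algebraMap_eq (fun a => rfl)
  exact flat_baseChange_of_flat_baseChange (A₁ := A ⧸ K) B hK3

end Main

end Groth.Agent.Lib.Helper5
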