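import Mathlib
import Groth.Agent.Lib.Helper5FinFlat
import Groth.Agent.Lib.Helper19ComplNoeth
import Groth.Agent.Lib.Helper19FSAdicLocal
import Groth.Prelude.Def_FSch3

/-!
# Flatness of the map induced on adic completions by a flat map of Noetherian rings (helper19)
-/

set_option autoImplicit false
universe u

namespace Groth.Agent.Lib.Helper19

open TensorProduct

section General

variable {P Q Pc Qc : Type u} [CommRing P] [CommRing Q] [CommRing Pc] [CommRing Qc]
  [Algebra P Q] [Algebra P Pc] [Algebra Q Qc] [Algebra Pc Qc] [Algebra P Qc]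
  [IsScalarTower P Q Qc] [IsScalarTower P Pc Qc]

/-- The truncation `(Pc / I ^ n) ⊗[Pc] Qc` agrees with the base change `(Pc / I ^ n) ⊗[P] Q`, when
`Pc`, `Qc` are "completions" of `P`, `Q` in the sense that they have the same truncations. -/
theorem flat_quotient_tensor_of_adic_quotients [Module.Flat P Q] (𝔭 : Ideal P) (n : ℕ)
    (hPc : ∀ x : Pc, ∃ p : P, x - algebraMap P Pc p ∈ (𝔭.map (algebraMap P Pc)) ^ n)
    (hQc : ∀ y : Qc, ∃ q : Q, y - algebraMap Q Qc q ∈ (𝔭.map (algebraMap P Qc)) ^ n)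
    (hQker : ∀ q : Q, algebraMap Q Qc q ∈ (𝔭.map (algebraMap P Qc)) ^ n →
      q ∈ (𝔭.map (algebraMap P Q)) ^ n) :
    Module.Flat (Pc ⧸ (𝔭.map (algebraMap P Pc)) ^ n)
      ((Pc ⧸ (𝔭.map (algebraMap P Pc)) ^ n) ⊗[Pc] Qc) := by
  set I : Ideal Pc := 𝔭.map (algebraMap P Pc) with hI
  set IQ : Ideal Qc := 𝔭.map (algebraMap P Qc) with hIQ
  set 𝔮 : Ideal Q := 𝔭.map (algebraMap P Q) with h𝔮
  let Rq := Pc ⧸ I ^ n
  let W := Rq ⊗[P] Q
  let T := Rq ⊗[Pc] Qc
  -- basic facts on the ideals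
  have hIQ' : IQ = I.map (algebraMap Pc Qc) := by
    rw [hI, Ideal.map_map, ← IsScalarTower.algebraMap_eq]
  have hIQ'' : IQ = 𝔮.map (algebraMap Q Qc) := by
    rw [h𝔮, Ideal.map_map, ← IsScalarTower.algebraMap_eq]
  have hmkI : ∀ x ∈ I ^ n, algebraMap Pc Rq x = 0 := fun x hx =>
    Ideal.Quotient.eq_zero_iff_mem.mpr hx
  -- the forward map
  let g : Q →ₐ[P] T :=
    ((Algebra.TensorProduct.includeRight : Qc →ₐ[Pc] T).restrictScalars P).comp
      (IsScalarTower.toAlgHom P Q Qc)
  let Φ : W →ₐ[Rq] T :=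
    Algebra.TensorProduct.lift (Algebra.TensorProduct.includeLeft : Rq →ₐ[Rq] T) g
      (fun x y => Commute.all _ _)
  have hΦ : ∀ (r : Rq) (q : Q), Φ (r ⊗ₜ q) = r ⊗ₜ algebraMap Q Qc q := fun r q => by
    change Algebra.TensorProduct.lift (Algebra.TensorProduct.includeLeft : Rq →ₐ[Rq] T) g
      (fun x y => Commute.all _ _) (r ⊗ₜ[P] q) = _
    rw [Algebra.TensorProduct.lift_tmul]
    change (r ⊗ₜ[Pc] (1 : Qc) : T) * ((1 : Rq) ⊗ₜ[Pc] algebraMap Q Qc q) = _
    rw [Algebra.TensorProduct.tmul_mul_tmul, mul_one, one_mul]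
  -- `includeRight` kills `IQ ^ n`
  have hkillT : ∀ y ∈ IQ ^ n, ((1 : Rq) ⊗ₜ[Pc] y : T) = 0 := by
    have hle : IQ ^ n ≤ RingHom.ker
        (Algebra.TensorProduct.includeRight : Qc →ₐ[Pc] T).toRingHom := by
      rw [hIQ', ← Ideal.map_pow, Ideal.map_le_iff_le_comap]
      intro x hx
      rw [Ideal.mem_comap, RingHom.mem_ker]
      change (Algebra.TensorProduct.includeRight : Qc →ₐ[Pc] T) (algebraMap Pc Qc x) = 0
      rw [AlgHom.commutes, Algebra.TensorProduct.algebraMap_apply, hmkI x hx,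
        TensorProduct.zero_tmul]
    intro y hy
    exact hle hy
  -- surjectivity
  have hsurj : Function.Surjective Φ := by
    intro t
    induction t using TensorProduct.induction_on with
    | zero => exact ⟨0, map_zero _⟩
    | add a b ha hb =>
      obtain ⟨a', rfl⟩ := ha
      obtain ⟨b', rfl⟩ := hb
      exact ⟨a' + b', map_add _ _ _⟩
    | tmul r y =>
      obtain ⟨q, hq⟩ := hQc y
      refine ⟨r ⊗ₜ q, ?_⟩
      rw [hΦ]
      have h1 : (r ⊗ₜ[Pc] y : T) = r ⊗ₜ[Pc] algebraMap Q Qc q +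
          (r ⊗ₜ[Pc] (1 : Qc)) * ((1 : Rq) ⊗ₜ[Pc] (y - algebraMap Q Qc q)) := by
        rw [Algebra.TensorProduct.tmul_mul_tmul, mul_one, one_mul, ← TensorProduct.tmul_add]
        congr 1
        ring
      rw [h1, hkillT _ hq, mul_zero, add_zero]
  -- the backward map
  let q0 : Q →ₐ[P] W := Algebra.TensorProduct.includeRight
  have hq0 : ∀ q ∈ 𝔮 ^ n, q0 q = 0 := by
    have hle : 𝔮 ^ n ≤ RingHom.ker q0.toRingHom := by
      rw [h𝔮, ← Ideal.map_pow, Ideal.map_le_iff_le_comap]
      intro p hp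
      rw [Ideal.mem_comap, RingHom.mem_ker]
      change q0 (algebraMap P Q p) = 0
      rw [AlgHom.commutes, Algebra.TensorProduct.algebraMap_apply]
      have h2 : algebraMap P Rq p = 0 := by
        rw [IsScalarTower.algebraMap_apply P Pc Rq]
        apply hmkI
        rw [hI, ← Ideal.map_pow]
        exact Ideal.mem_map_of_mem _ hp
      rw [h2, TensorProduct.zero_tmul]
    intro q hq
    exact hle hq
  let τ : Q ⧸ 𝔮 ^ n →+* W := Ideal.Quotient.lift (𝔮 ^ n) q0.toRingHom hq0
  have hle : 𝔮 ^ n ≤ (IQ ^ n).comap (algebraMap Q Qc) := by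
    rw [← Ideal.map_le_iff_le_comap, Ideal.map_pow, ← hIQ'']
  let e0 : Q ⧸ 𝔮 ^ n →+* Qc ⧸ IQ ^ n := Ideal.quotientMap (IQ ^ n) (algebraMap Q Qc) hle
  have he0 : Function.Bijective e0 := by
    constructor
    · apply Ideal.quotientMap_injective'
      intro q hq
      exact hQker q hq
    · intro y
      obtain ⟨y', rfl⟩ := Ideal.Quotient.mk_surjective y
      obtain ⟨q, hq⟩ := hQc y'
      refine ⟨Ideal.Quotient.mk _ q, ?_⟩
      change Ideal.Quotient.mk (IQ ^ n) (algebraMap Q Qc q) = Ideal.Quotient.mk (IQ ^ n) y'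
      rw [Ideal.Quotient.eq, ← neg_sub]
      exact (IQ ^ n).neg_mem hq
  let e : Q ⧸ 𝔮 ^ n ≃+* Qc ⧸ IQ ^ n := RingEquiv.ofBijective e0 he0
  let σ₀ : Qc →+* W := τ.comp ((e.symm : Qc ⧸ IQ ^ n →+* Q ⧸ 𝔮 ^ n).comp (Ideal.Quotient.mk (IQ ^ n)))
  have hσι : ∀ q : Q, σ₀ (algebraMap Q Qc q) = q0 q := fun q => by
    change τ (e.symm (Ideal.Quotient.mk (IQ ^ n) (algebraMap Q Qc q))) = q0 q
    have h1 : e (Ideal.Quotient.mk (𝔮 ^ n) q) = Ideal.Quotient.mk (IQ ^ n) (algebraMap Q Qc q) :=
      rfl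
    rw [← h1, RingEquiv.symm_apply_apply]
    rfl
  have hσkill : ∀ y ∈ IQ ^ n, σ₀ y = 0 := fun y hy => by
    change τ (e.symm (Ideal.Quotient.mk (IQ ^ n) y)) = 0
    rw [Ideal.Quotient.eq_zero_iff_mem.mpr hy, map_zero, map_zero]
  have hσcomm : ∀ x : Pc, σ₀ (algebraMap Pc Qc x) = algebraMap Pc W x := fun x => by
    obtain ⟨p, hp⟩ := hPc x
    have h1 : algebraMap Pc Qc x = algebraMap Q Qc (algebraMap P Q p) +
        algebraMap Pc Qc (x - algebraMap P Pc p) := by
      rw [map_sub, ← IsScalarTower.algebraMap_apply P Pc Qc, ← IsScalarTower.algebraMap_apply P Q Qc]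
      ring
    have h2 : algebraMap Pc Qc (x - algebraMap P Pc p) ∈ IQ ^ n := by
      rw [hIQ', ← Ideal.map_pow]
      exact Ideal.mem_map_of_mem _ hp
    rw [h1, map_add, hσι, hσkill _ h2, add_zero]
    change q0 (algebraMap P Q p) = _
    rw [AlgHom.commutes, IsScalarTower.algebraMap_apply P Pc W]
    have h3 : algebraMap Pc W (x - algebraMap P Pc p) = 0 := by
      rw [IsScalarTower.algebraMap_apply Pc Rq W, hmkI _ hp, map_zero]
    rw [map_sub, sub_eq_zero] at h3
    exact h3.symm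
  let σ : Qc →ₐ[Pc] W := { σ₀ with commutes' := hσcomm }
  let f : Rq →ₐ[Pc] W := (Algebra.TensorProduct.includeLeft : Rq →ₐ[Rq] W).restrictScalars Pc
  let ρ : T →ₐ[Pc] W := Algebra.TensorProduct.lift f σ (fun x y => Commute.all _ _)
  have hρ : ∀ (r : Rq) (y : Qc), ρ (r ⊗ₜ y) = (r ⊗ₜ[P] (1 : Q) : W) * σ₀ y := fun r y => by
    change Algebra.TensorProduct.lift f σ (fun x y => Commute.all _ _) (r ⊗ₜ[Pc] y) = _
    rw [Algebra.TensorProduct.lift_tmul]
    rfl
  have hleft : ∀ w : W, ρ (Φ w) = w := by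
    intro w
    induction w using TensorProduct.induction_on with
    | zero => rw [map_zero, map_zero]
    | add a b ha hb => rw [map_add, map_add, ha, hb]
    | tmul r q =>
      rw [hΦ, hρ, hσι]
      change (r ⊗ₜ[P] (1 : Q) : W) * ((1 : Rq) ⊗ₜ[P] q) = _
      rw [Algebra.TensorProduct.tmul_mul_tmul, mul_one, one_mul]
  have hinj : Function.Injective Φ := Function.LeftInverse.injective hleft
  let E : W ≃ₗ[Rq] T := LinearEquiv.ofBijective Φ.toLinearMap ⟨hinj, hsurj⟩
  exact Module.Flat.of_linearEquiv E.symm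

/-- Flatness of `Pc → Qc` from flatness of `P → Q`, when `Pc`, `Qc` have the same adic truncations
as `P`, `Q` and the ideal lies in the Jacobson radical of `Qc`. -/
theorem flat_of_adic_quotients [IsNoetherianRing Pc] [IsNoetherianRing Qc] [Module.Flat P Q]
    (𝔭 : Ideal P)
    (hPc : ∀ (n : ℕ) (x : Pc), ∃ p : P, x - algebraMap P Pc p ∈ (𝔭.map (algebraMap P Pc)) ^ n)
    (hQc : ∀ (n : ℕ) (y : Qc), ∃ q : Q, y - algebraMap Q Qc q ∈ (𝔭.map (algebraMap P Qc)) ^ n)
    (hQker : ∀ (n : ℕ) (q : Q), algebraMap Q Qc q ∈ (𝔭.map (algebraMap P Qc)) ^ n →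
      q ∈ (𝔭.map (algebraMap P Q)) ^ n)
    (hjac : 𝔭.map (algebraMap P Qc) ≤ Ideal.jacobson ⊥) :
    Module.Flat Pc Qc := by
  apply Groth.Agent.Lib.Helper5.flat_of_flat_baseChange_pow_of_le_jacobson (A := Pc) (B := Qc) Qc
    (𝔭.map (algebraMap P Pc))
  · rw [Ideal.map_map, ← IsScalarTower.algebraMap_eq]
    exact hjac
  · intro n _
    exact flat_quotient_tensor_of_adic_quotients 𝔭 n (hPc n) (hQc n) (hQker n)

end General

section Completion

variable {S T : Type u} [CommRing S] [CommRing T]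

theorem exists_sub_of_mem_map_pow (I : Ideal S) (hI : I.FG) (n : ℕ) (x : AdicCompletion I S) :
    ∃ s : S, x - algebraMap S (AdicCompletion I S) s ∈
      (I.map (algebraMap S (AdicCompletion I S))) ^ n := by
  obtain ⟨s, hs⟩ := Ideal.Quotient.mk_surjective (AdicCompletion.evalₐ I n x)
  refine ⟨s, ?_⟩
  rw [← Ideal.map_pow]
  apply mem_map_pow_of_evalₐ_eq_zero I hI
  rw [map_sub, AdicCompletion.algebraMap_apply, AdicCompletion.evalₐ_of, Algebra.algebraMap_self,
    RingHom.id_apply, hs, sub_self]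

theorem evalₐ_eq_zero_of_mem_map_pow (I : Ideal S) (n : ℕ) (x : AdicCompletion I S)
    (hx : x ∈ (I.map (algebraMap S (AdicCompletion I S))) ^ n) :
    AdicCompletion.evalₐ I n x = 0 := by
  have hle : (I.map (algebraMap S (AdicCompletion I S))) ^ n ≤
      RingHom.ker (AdicCompletion.evalₐ I n).toRingHom := by
    rw [← Ideal.map_pow, Ideal.map_le_iff_le_comap]
    intro s hs
    rw [Ideal.mem_comap, RingHom.mem_ker]
    change AdicCompletion.evalₐ I n (algebraMap S (AdicCompletion I S) s) = 0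
    rw [AdicCompletion.algebraMap_apply, AdicCompletion.evalₐ_of, Algebra.algebraMap_self,
      RingHom.id_apply]
    exact Ideal.Quotient.eq_zero_iff_mem.mpr hs
  exact hle hx

theorem evalₐ_complMap (I : Ideal S) (K : Ideal T) (g : S →+* T) (h : I.map g ≤ K) (n : ℕ)
    (x : AdicCompletion I S) :
    AdicCompletion.evalₐ K n (FSch.complMap I K g h x) =
      Ideal.quotientMap (K ^ n) g (FSch.pow_le_comap_pow_of_map_le I K g h n)
        (AdicCompletion.evalₐ I n x) := by
  unfold FSch.complMap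
  generalize_proofs
  rename_i hf _ _ _
  rw [AdicCompletion.evalₐ_liftRingHom K _ hf]
  rfl

/-- The map induced on adic completions by a flat map of Noetherian rings is flat. -/
theorem complMap_flat [IsNoetherianRing S] [IsNoetherianRing T] (I : Ideal S) (K : Ideal T)
    (g : S →+* T) (hg : g.Flat) (hIK : I.map g = K) :
    (FSch.complMap I K g hIK.le).Flat := by
  letI : Algebra S T := g.toAlgebra
  haveI : Module.Flat S T := hg
  letI : Algebra (AdicCompletion I S) (AdicCompletion K T) := (FSch.complMap I K g hIK.le).toAlgebra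
  have hcompl : ∀ (n : ℕ) (x : AdicCompletion I S),
      AdicCompletion.evalₐ K n (FSch.complMap I K g hIK.le x) =
        Ideal.quotientMap (K ^ n) g (FSch.pow_le_comap_pow_of_map_le I K g hIK.le n)
          (AdicCompletion.evalₐ I n x) := fun n x => evalₐ_complMap I K g hIK.le n x
  haveI : IsScalarTower S (AdicCompletion I S) (AdicCompletion K T) := by
    apply IsScalarTower.of_algebraMap_eq
    intro s
    change AdicCompletion.of K T (g s) =
      FSch.complMap I K g hIK.le (algebraMap S (AdicCompletion I S) s)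
    apply AdicCompletion.ext_evalₐ
    intro n
    rw [hcompl, AdicCompletion.algebraMap_apply, AdicCompletion.evalₐ_of,
      AdicCompletion.evalₐ_of, Ideal.quotientMap_mk]
    rfl
  haveI : IsNoetherianRing (AdicCompletion I S) := isNoetherianRing_adicCompletion I
  haveI : IsNoetherianRing (AdicCompletion K T) := isNoetherianRing_adicCompletion K
  have hKmap : I.map (algebraMap S (AdicCompletion K T)) =
      K.map (algebraMap T (AdicCompletion K T)) := by
    rw [IsScalarTower.algebraMap_eq S T (AdicCompletion K T), ← Ideal.map_map]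
    congr 1
  have hImapT : I.map (algebraMap S T) = K := hIK
  change Module.Flat (AdicCompletion I S) (AdicCompletion K T)
  apply flat_of_adic_quotients (P := S) (Q := T) I
  · intro n x
    exact exists_sub_of_mem_map_pow I (IsNoetherian.noetherian I) n x
  · intro n y
    rw [hKmap]
    exact exists_sub_of_mem_map_pow K (IsNoetherian.noetherian K) n y
  · intro n t ht
    rw [hKmap] at ht
    have h1 := evalₐ_eq_zero_of_mem_map_pow K n _ ht
    rw [AdicCompletion.algebraMap_apply, AdicCompletion.evalₐ_of] at h1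
    rw [hImapT]
    exact Ideal.Quotient.eq_zero_iff_mem.mp h1
  · rw [hKmap]
    haveI : IsAdicComplete K (AdicCompletion K T) :=
      AdicCompletion.isAdicComplete (IsNoetherian.noetherian K)
    haveI : IsAdicComplete (K.map (algebraMap T (AdicCompletion K T))) (AdicCompletion K T) :=
      (IsAdicComplete.map_algebraMap_iff K (AdicCompletion K T)).mpr inferInstance
    exact IsAdicComplete.le_jacobson_bot _

end Completion

end Groth.Agent.Lib.Helper19
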