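import Groth.Agent.Lib.Helper28DepthSk
import Mathlib.RingTheory.KrullDimension.NonZeroDivisors

set_option autoImplicit false
universe u v w u' v'

namespace Groth.Agent.Lib.Helper28
open RingTheory.Sequence CategoryTheory Abelian
open scoped Pointwise

section QuotDim

variable {R : Type u} [CommRing R]

theorem ringKrullDim_quotient_succ_le_of_lt {p q : Ideal R} [p.IsPrime] (hpq : p < q) :
    ringKrullDim (R ⧸ q) + 1 ≤ ringKrullDim (R ⧸ p) := by
  obtain ⟨x, hxq, hxp⟩ := Set.exists_of_ssubset hpq
  refine ringKrullDim_succ_le_of_surjective (Ideal.Quotient.factor hpq.le)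
    (Ideal.Quotient.factor_surjective hpq.le) (r := Ideal.Quotient.mk p x) ?_ ?_
  · rw [mem_nonZeroDivisors_iff_ne_zero]
    rwa [Ne, Ideal.Quotient.eq_zero_iff_mem]
  · rw [Ideal.Quotient.factor_mk, Ideal.Quotient.eq_zero_iff_mem]
    exact hxq

end QuotDim

section AssQuot

variable {R : Type u} [CommRing R] [IsNoetherianRing R] {M : Type v} [AddCommGroup M]
  [Module R M] [Module.Finite R M]

/-- If `p ∈ Ass M` and `x` in the Jacobson radical is `M`-regular, then some associated prime of
`M/xM` contains `p` and `x`. -/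
theorem exists_associatedPrime_quotSMulTop {p : Ideal R} (hp : p ∈ associatedPrimes R M) {x : R}
    (hx : x ∈ Ideal.jacobson (⊥ : Ideal R)) (hreg : IsSMulRegular M x) :
    ∃ q ∈ associatedPrimes R (QuotSMulTop x M), p ≤ q ∧ x ∈ q := by
  obtain ⟨hpp, z, hz⟩ := (isAssociatedPrime_iff (M := M)).mp hp
  -- N = elements killed by p
  let N : Submodule R M :=
    { carrier := {m | ∀ r ∈ p, r • m = 0}
      add_mem' := fun {a b} ha hb r hr => by rw [smul_add, ha r hr, hb r hr, add_zero]
      zero_mem' := fun r _ => smul_zero r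
      smul_mem' := fun c m hm r hr => by rw [smul_comm, hm r hr, smul_zero] }
  have hzN : z ∈ N := fun r hr => by
    have : r ∈ (⊥ : Submodule R M).colon {z} := hz ▸ hr
    simpa [Submodule.mem_colon_singleton] using this
  have hz0 : z ≠ 0 := by
    rintro rfl
    apply hpp.ne_top
    rw [hz, eq_top_iff]
    intro r _
    simp [Submodule.mem_colon_singleton]
  have hN0 : N ≠ ⊥ := fun h => hz0 ((Submodule.eq_bot_iff N).mp h z hzN)
  -- N is not contained in xM
  have hnot : ¬ N ≤ x • (⊤ : Submodule R M) := by
    intro hle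
    apply hN0
    have hNx : N ≤ Ideal.span {x} • N := by
      intro n hn
      obtain ⟨m', -, rfl⟩ := hle hn
      have hm' : m' ∈ N := by
        intro r hr
        have := hn r hr
        change r • (x • m') = 0 at this
        rw [smul_comm] at this
        exact hreg (by simpa using this)
      exact Submodule.smul_mem_smul (Ideal.mem_span_singleton_self x) hm'
    exact Submodule.eq_bot_of_le_smul_of_le_jacobson_bot (Ideal.span {x}) N
      (IsNoetherian.noetherian N) hNx ((Ideal.span_singleton_le_iff_mem _).mpr hx)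
  obtain ⟨w, hwN, hwx⟩ := Set.not_subset.mp hnot
  let wbar : QuotSMulTop x M := Submodule.Quotient.mk w
  have hwbar : wbar ≠ 0 := by
    intro h
    exact hwx ((Submodule.Quotient.mk_eq_zero _).mp h)
  obtain ⟨q, hq, hle⟩ := exists_le_isAssociatedPrime_of_isNoetherianRing R wbar hwbar
  refine ⟨q, hq, fun r hr => hle ?_, hle ?_⟩
  · rw [Submodule.mem_colon_singleton, Submodule.mem_bot]
    change r • (Submodule.Quotient.mk w : QuotSMulTop x M) = 0
    rw [← Submodule.Quotient.mk_smul, hwN r hr, Submodule.Quotient.mk_zero]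
  · rw [Submodule.mem_colon_singleton, Submodule.mem_bot]
    change x • (Submodule.Quotient.mk w : QuotSMulTop x M) = 0
    rw [← Submodule.Quotient.mk_smul, Submodule.Quotient.mk_eq_zero]
    exact Submodule.smul_mem_pointwise_smul w x ⊤ Submodule.mem_top

end AssQuot

section DepthLeDimAss

variable {R : Type u} [CommRing R] [IsNoetherianRing R] [IsLocalRing R] [Small.{v} R]

theorem natCast_le_ringKrullDim_quotient_of_le_depth (k : ℕ) :
    ∀ (M : Type v) [AddCommGroup M] [Module R M] [Module.Finite R M],
      (k : ℕ∞) ≤ LocCoh.depth R M → ∀ p ∈ associatedPrimes R M,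
        (k : WithBot ℕ∞) ≤ ringKrullDim (R ⧸ p) := by
  induction k with
  | zero =>
    intro M _ _ _ _ p hp
    have : p.IsPrime := hp.isPrime
    exact_mod_cast ringKrullDim_nonneg_of_nontrivial
  | succ k ih =>
    intro M _ _ _ hk p hp
    have hpp : p.IsPrime := hp.isPrime
    have hMnt : Nontrivial M := by
      by_contra h
      rw [not_nontrivial_iff_subsingleton] at h
      rw [associatedPrimes.eq_empty_of_subsingleton] at hp
      exact hp
    have hIM : IsLocalRing.maximalIdeal R • (⊤ : Submodule R M) ≠ ⊤ := maximalIdeal_smul_top_ne_top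
    have h1 : 1 ≤ LocCoh.idealDepth (IsLocalRing.maximalIdeal R) M := by
      refine le_trans ?_ hk
      exact_mod_cast Nat.succ_le_succ (Nat.zero_le k)
    obtain ⟨x, hxm, hreg⟩ := (one_le_idealDepth_iff hIM).mp h1
    have hadd := idealDepth_quotSMulTop_add_one (IsLocalRing.maximalIdeal R) M hIM x hxm hreg
    have hk' : (k : ℕ∞) ≤ LocCoh.depth R (QuotSMulTop x M) := by
      have h2 : ((k + 1 : ℕ) : ℕ∞) ≤
          LocCoh.idealDepth (IsLocalRing.maximalIdeal R) (QuotSMulTop x M) + 1 := by
        rw [hadd]; exact hk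
      have := enat_pred_le_of_le_add_one h2
      simpa [LocCoh.depth] using this
    obtain ⟨q, hq, hpq, hxq⟩ := exists_associatedPrime_quotSMulTop hp
      (IsLocalRing.maximalIdeal_le_jacobson ⊥ hxm) hreg
    have hxp : x ∉ p := fun hxp => not_isSMulRegular_of_mem_associatedPrimes hp hxp hreg
    have hlt : p < q := lt_of_le_of_ne hpq (fun h => hxp (h ▸ hxq))
    have h3 := ih (QuotSMulTop x M) hk' q hq
    have h4 := ringKrullDim_quotient_succ_le_of_lt hlt
    refine le_trans ?_ h4
    push_cast
    exact add_le_add_left h3 1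

theorem depth_le_ringKrullDim_quotient_of_mem_associatedPrimes {M : Type v} [AddCommGroup M]
    [Module R M] [Module.Finite R M] {p : Ideal R} (hp : p ∈ associatedPrimes R M) :
    ((LocCoh.depth R M : ℕ∞) : WithBot ℕ∞) ≤ ringKrullDim (R ⧸ p) := by
  have hMnt : Nontrivial M := by
    by_contra h
    rw [not_nontrivial_iff_subsingleton] at h
    rw [associatedPrimes.eq_empty_of_subsingleton] at hp
    exact hp
  have hne : LocCoh.depth R M ≠ ⊤ := idealDepth_ne_top maximalIdeal_smul_top_ne_top
  obtain ⟨n, hn⟩ := ENat.ne_top_iff_exists.mp hne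
  rw [← hn]
  exact natCast_le_ringKrullDim_quotient_of_le_depth n M (le_of_eq hn) p hp

end DepthLeDimAss

end Groth.Agent.Lib.Helper28
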