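import Groth.Agent.Lib.Helper28Hull2

/-!
# Fibre local rings `B_q / p B_q` and fibre stalks `M_q / p M_q` (helper28)

For `A → B` Noetherian, `q` a prime of `B`, `p = q ∩ A`, and `M` a finite `B`-module flat over `A`:

* `natCast_le_depth_localization_of_le_idealDepth_fibLocMod`: `depth (M_q/pM_q) ≤ depth M_q`
  (plumbing `A_p → B_q` for `natCast_le_idealDepth_of_le_idealDepth_fibre`);
* `natCast_le_idealDepth_of_forall_fibLocMod`: fibrewise depth `≥ n` along `V(J)` gives
  `depth_J M ≥ n`;
* `idealDepth_fibLocRing_eq_fibLocMod_self`, `natCast_le_idealDepth_self_of_forall_fibLocRing`: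
  the case `M = B`.
-/

set_option autoImplicit false
universe u v w u' v'

namespace Groth.Agent.Lib.Helper28
open RingTheory.Sequence CategoryTheory Abelian TensorProduct
open scoped Pointwise

section FibLoc

variable {A B : Type u} [CommRing A] [CommRing B] [IsNoetherianRing A] [IsNoetherianRing B]
  [Algebra A B] (q : Ideal B) [q.IsPrime]
  (M : Type u) [AddCommGroup M] [Module B M] [Module A M] [IsScalarTower A B M]
  [Module.Finite B M] [Module.Flat A M]

/-- The depth of the fibre stalk `M_q / p M_q` bounds the depth of the stalk `M_q` from below. -/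
theorem natCast_le_depth_localization_of_le_idealDepth_fibLocMod (n : ℕ)
    (h : (n : ℕ∞) ≤ LocCoh.idealDepth (q.map (algebraMap B (EGA4.FibLocRing A B q)))
      (EGA4.FibLocMod A B q M)) :
    (n : ℕ∞) ≤ LocCoh.depth (Localization.AtPrime q) (LocalizedModule q.primeCompl M) := by
  set p : Ideal A := q.comap (algebraMap A B) with hp
  have hlies : q.LiesOver p := ⟨rfl⟩
  let alg := Localization.AtPrime.algebraOfLiesOver p q
  have hloc : IsLocalHom (algebraMap (Localization.AtPrime p) (Localization.AtPrime q)) := by
    rw [RingHom.algebraMap_toAlgebra]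
    exact Localization.isLocalHom_localRingHom p q (algebraMap A B) Ideal.LiesOver.over
  let mod : Module (Localization.AtPrime p) (LocalizedModule q.primeCompl M) :=
    Module.compHom _ (algebraMap (Localization.AtPrime p) (Localization.AtPrime q))
  have t1 : IsScalarTower (Localization.AtPrime p) (Localization.AtPrime q)
      (LocalizedModule q.primeCompl M) :=
    ⟨fun a b x => by
      change (a • b) • x = algebraMap _ (Localization.AtPrime q) a • (b • x)
      rw [Algebra.smul_def, mul_smul]⟩
  have t2 : IsScalarTower A (Localization.AtPrime p) (LocalizedModule q.primeCompl M) :=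
    IsScalarTower.of_algebraMap_smul fun r x => by
      change algebraMap (Localization.AtPrime p) (Localization.AtPrime q) (algebraMap A _ r) • x
        = r • x
      rw [← IsScalarTower.algebraMap_apply, IsScalarTower.algebraMap_apply A B
        (Localization.AtPrime q), algebraMap_smul, algebraMap_smul]
  have hflatA : Module.Flat A (LocalizedModule q.primeCompl M) :=
    flat_localizedModule_of_flat q.primeCompl
  have hflat : Module.Flat (Localization.AtPrime p) (LocalizedModule q.primeCompl M) :=
    (Module.flat_iff_of_isLocalization (Localization.AtPrime p) p.primeCompl _).mpr hflatA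
  have hmapeq : (IsLocalRing.maximalIdeal (Localization.AtPrime p)).map
      (algebraMap (Localization.AtPrime p) (Localization.AtPrime q)) =
      p.map (algebraMap A (Localization.AtPrime q)) := by
    rw [← IsLocalization.AtPrime.map_eq_maximalIdeal p (Localization.AtPrime p), Ideal.map_map,
      ← IsScalarTower.algebraMap_eq]
  apply natCast_le_idealDepth_of_le_idealDepth_fibre (R := Localization.AtPrime p)
    (S := Localization.AtPrime q) (IsLocalRing.maximalIdeal (Localization.AtPrime q)) le_rfl n
    (LocalizedModule q.primeCompl M)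
  rw [idealDepth_congr (Submodule.quotEquivOfEq _
    (p.map (algebraMap A (Localization.AtPrime q)) •
      (⊤ : Submodule (Localization.AtPrime q) (LocalizedModule q.primeCompl M)))
    (by rw [hmapeq]))]
  have hfin : Module.Finite (EGA4.FibLocRing A B q) (EGA4.FibLocMod A B q M) :=
    Module.Finite.of_restrictScalars_finite (Localization.AtPrime q) _ _
  rw [idealDepth_restrictScalars_eq_idealDepth_map (B := EGA4.FibLocRing A B q)
    (IsLocalRing.maximalIdeal (Localization.AtPrime q)) (EGA4.FibLocMod A B q M)]
  have hq : (IsLocalRing.maximalIdeal (Localization.AtPrime q)).map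
      (algebraMap (Localization.AtPrime q) (EGA4.FibLocRing A B q)) =
      q.map (algebraMap B (EGA4.FibLocRing A B q)) := by
    rw [← Localization.AtPrime.map_eq_maximalIdeal, Ideal.map_map,
      ← IsScalarTower.algebraMap_eq]
  rw [hq]
  exact h

/-- Fibrewise depth along `V(J)` bounds `depth_J` from below (for `A`-flat `M`). -/
theorem natCast_le_idealDepth_of_forall_fibLocMod (J : Ideal B) (n : ℕ)
    (h : ∀ q : PrimeSpectrum B, J ≤ q.asIdeal →
      (n : ℕ∞) ≤ LocCoh.idealDepth (q.asIdeal.map (algebraMap B (EGA4.FibLocRing A B q.asIdeal)))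
        (EGA4.FibLocMod A B q.asIdeal M)) :
    (n : ℕ∞) ≤ LocCoh.idealDepth J M := by
  rw [idealDepth_eq_iInf_depth_localization]
  exact le_iInf₂ fun q hq =>
    natCast_le_depth_localization_of_le_idealDepth_fibLocMod q.asIdeal M n (h q hq)

end FibLoc


section FibLocSelf

variable {A B : Type u} [CommRing A] [CommRing B] [IsNoetherianRing B]
  [Algebra A B] (q : Ideal B) [q.IsPrime]

/-- `B_q / p B_q` as a `B_q`-module is the fibre stalk of `B`. -/
noncomputable def fibLocModSelfEquiv :
    EGA4.FibLocMod A B q B ≃ₗ[Localization.AtPrime q] EGA4.FibLocRing A B q :=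
  Submodule.Quotient.equiv _ _ (localizedModuleSelfEquiv q) (by
    rw [Submodule.map_smul'', Submodule.map_top, LinearEquiv.range, smul_eq_mul, Ideal.mul_top])

theorem idealDepth_fibLocRing_eq_fibLocMod_self :
    LocCoh.idealDepth (q.map (algebraMap B (EGA4.FibLocRing A B q))) (EGA4.FibLocRing A B q) =
      LocCoh.idealDepth (q.map (algebraMap B (EGA4.FibLocRing A B q))) (EGA4.FibLocMod A B q B) := by
  have hq : (IsLocalRing.maximalIdeal (Localization.AtPrime q)).map
      (algebraMap (Localization.AtPrime q) (EGA4.FibLocRing A B q)) =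
      q.map (algebraMap B (EGA4.FibLocRing A B q)) := by
    rw [← Localization.AtPrime.map_eq_maximalIdeal, Ideal.map_map,
      ← IsScalarTower.algebraMap_eq]
  have hfin : Module.Finite (EGA4.FibLocRing A B q) (EGA4.FibLocMod A B q B) :=
    Module.Finite.of_restrictScalars_finite (Localization.AtPrime q) _ _
  rw [← hq, ← idealDepth_restrictScalars_eq_idealDepth_map (B := EGA4.FibLocRing A B q)
    (IsLocalRing.maximalIdeal (Localization.AtPrime q)) (EGA4.FibLocMod A B q B),
    ← idealDepth_restrictScalars_eq_idealDepth_map (B := EGA4.FibLocRing A B q)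
    (IsLocalRing.maximalIdeal (Localization.AtPrime q)) (EGA4.FibLocRing A B q)]
  exact (idealDepth_congr (fibLocModSelfEquiv (A := A) q) _).symm

end FibLocSelf

section FibLocRingDepth

variable {A B : Type u} [CommRing A] [CommRing B] [IsNoetherianRing A] [IsNoetherianRing B]
  [Algebra A B] [Module.Flat A B]

/-- Fibrewise depth of the fibre local rings along `V(J)` bounds `depth_J B` from below. -/
theorem natCast_le_idealDepth_self_of_forall_fibLocRing (J : Ideal B) (n : ℕ)
    (h : ∀ q : PrimeSpectrum B, J ≤ q.asIdeal →
      (n : ℕ∞) ≤ LocCoh.idealDepth (q.asIdeal.map (algebraMap B (EGA4.FibLocRing A B q.asIdeal)))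
        (EGA4.FibLocRing A B q.asIdeal)) :
    (n : ℕ∞) ≤ LocCoh.idealDepth J B :=
  natCast_le_idealDepth_of_forall_fibLocMod (A := A) B J n fun q hq => by
    rw [← idealDepth_fibLocRing_eq_fibLocMod_self]
    exact h q hq

end FibLocRingDepth

end Groth.Agent.Lib.Helper28
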