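import Groth.Agent.Lib.Helper28NormalLift
import Groth.Agent.Lib.Helper28FibLoc

/-!
# Ascent of regularity and normality along flat maps (helper28)

* `ringKrullDim_eq_add_of_flat`, `depth_eq_depth_add_depth_quotient_of_flat`: dimension and depth
  formulas for a flat local homomorphism, with the closed fibre `S ⧸ J`, `J = m_R S`;
* `isRegularLocalRing_of_flat_of_isRegularLocalRing_fibre`: regular base + regular fibre ⇒ regular;
* `height_eq_height_fibLocRing_add`, `depth_localization_eq_add_fibLocRing`,
  `isRegularLocalRing_localization_of_fibLocRing`: the same for `A_P → B_Q` and `EGA4.FibLocRing`;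
* `isDomain_and_isIntegrallyClosed_localization_of_flat_of_fibLocRing`: EGA IV 6.5.4 (normal).
-/
set_option autoImplicit false
universe u v w u' v'

namespace Groth.Agent.Lib.Helper28
open RingTheory.Sequence CategoryTheory Abelian TensorProduct
open scoped Pointwise

section RegularAscent

variable {R S : Type u} [CommRing R] [CommRing S] [IsLocalRing R] [IsLocalRing S]
  [IsNoetherianRing R] [IsNoetherianRing S] [Algebra R S] [IsLocalHom (algebraMap R S)]

/-- `dim S = dim R + dim (S / m_R S)` for a flat local homomorphism, with a free ideal variable. -/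
theorem ringKrullDim_eq_add_of_flat [Module.Flat R S] (J : Ideal S)
    (hJ : J = (IsLocalRing.maximalIdeal R).map (algebraMap R S)) :
    ringKrullDim S = ringKrullDim (S ⧸ J) + ringKrullDim R := by
  subst hJ
  have hne : (IsLocalRing.maximalIdeal R).map (algebraMap R S) ≠ ⊤ := by
    intro h
    have hle : (IsLocalRing.maximalIdeal R).map (algebraMap R S) ≤ IsLocalRing.maximalIdeal S := by
      rw [Ideal.map_le_iff_le_comap, IsLocalRing.maximalIdeal_comap]
    rw [h] at hle
    exact (IsLocalRing.maximalIdeal.isMaximal S).ne_top (top_le_iff.mp hle)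
  have : IsLocalRing (S ⧸ (IsLocalRing.maximalIdeal R).map (algebraMap R S)) :=
    Groth.Agent.Lib.Helper5.isLocalRing_quotient hne
  rw [← IsLocalRing.maximalIdeal_height_eq_ringKrullDim (R := S),
    ← IsLocalRing.maximalIdeal_height_eq_ringKrullDim (R := R),
    ← IsLocalRing.maximalIdeal_height_eq_ringKrullDim
      (R := S ⧸ (IsLocalRing.maximalIdeal R).map (algebraMap R S)),
    Groth.Agent.Lib.Helper5.maximalIdeal_quotient_eq_map, height_maximalIdeal_eq_add (R := R) (S := S),
    add_comm]
  push_cast
  rfl

/-- A flat local extension of a regular local ring with regular closed fibre is regular. -/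
theorem isRegularLocalRing_of_flat_of_isRegularLocalRing_fibre [Module.Flat R S]
    [IsRegularLocalRing R] (J : Ideal S)
    (hJ : J = (IsLocalRing.maximalIdeal R).map (algebraMap R S)) [IsRegularLocalRing (S ⧸ J)] :
    IsRegularLocalRing S := by
  obtain ⟨rs, hlen, hrs, -⟩ := Groth.Agent.Lib.Helper5.exists_isRegular_ofList_eq_maximalIdeal R
  have hmem : ∀ i : Fin rs.length, algebraMap R S (rs.get i) ∈ IsLocalRing.maximalIdeal S := by
    intro i
    have h1 : rs.get i ∈ IsLocalRing.maximalIdeal R := by
      rw [← hrs]
      exact Ideal.subset_span (List.get_mem rs i)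
    have : IsLocalRing.maximalIdeal R ≤ (IsLocalRing.maximalIdeal S).comap (algebraMap R S) := by
      rw [IsLocalRing.maximalIdeal_comap]
    exact this h1
  let x : Fin rs.length → IsLocalRing.maximalIdeal S := fun i => ⟨algebraMap R S (rs.get i), hmem i⟩
  have hJ' : J = Ideal.span (Set.range fun i => (x i : S)) := by
    rw [hJ, ← hrs, Ideal.ofList, Ideal.map_span]
    congr 1
    ext s
    simp only [Set.mem_image, Set.mem_ofPred_eq, Set.mem_range, x]
    constructor
    · rintro ⟨r, hr, rfl⟩
      obtain ⟨i, rfl⟩ := List.mem_iff_get.mp hr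
      exact ⟨i, rfl⟩
    · rintro ⟨i, rfl⟩
      exact ⟨rs.get i, List.get_mem rs i, rfl⟩
  have hdim : ringKrullDim (S ⧸ J) + (rs.length : ℕ) = ringKrullDim S := by
    rw [ringKrullDim_eq_add_of_flat J hJ, hlen]
  exact (Groth.Agent.Lib.Helper5.isRegularLocalRing_of_quotient_span_range' x J hJ' hdim).1

omit [IsLocalRing R] [IsNoetherianRing R] [Algebra R S] [IsLocalHom (algebraMap R S)] in
/-- The depth of the local ring `S ⧸ J` over itself is its depth as an `S`-module. -/
theorem depth_quotient_self_eq (J : Ideal S) [IsLocalRing (S ⧸ J)] :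
    LocCoh.depth (S ⧸ J) (S ⧸ J) = LocCoh.depth S (S ⧸ J) := by
  change LocCoh.idealDepth _ _ = LocCoh.idealDepth _ _
  rw [idealDepth_restrictScalars_eq_idealDepth_map (B := S ⧸ J) (IsLocalRing.maximalIdeal S)
    (S ⧸ J), Groth.Agent.Lib.Helper5.maximalIdeal_quotient_eq_map]
  rfl

/-- `depth S = depth R + depth (S / J)` with `J = m_R S` a free ideal variable. -/
theorem depth_eq_depth_add_depth_quotient_of_flat [Module.Flat R S] (J : Ideal S)
    (hJ : J = (IsLocalRing.maximalIdeal R).map (algebraMap R S)) [IsLocalRing (S ⧸ J)] :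
    LocCoh.depth S S = LocCoh.depth R R + LocCoh.depth (S ⧸ J) (S ⧸ J) := by
  rw [depth_quotient_self_eq, depth_eq_depth_add_depth_fibre (R := R) (S := S)]
  congr 1
  change LocCoh.idealDepth _ _ = LocCoh.idealDepth _ _
  exact idealDepth_congr (Submodule.quotEquivOfEq _ _
    (by rw [hJ, smul_eq_mul, Ideal.mul_top])) _

end RegularAscent

section FibLocFlat

variable {A B : Type u} [CommRing A] [CommRing B] [IsNoetherianRing A] [IsNoetherianRing B]
  [Algebra A B] [Module.Flat A B] (Q : Ideal B) [Q.IsPrime]

omit [IsNoetherianRing A] [IsNoetherianRing B] in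
/-- Plumbing: `A_P → B_Q` is a flat local homomorphism, and `m_{A_P} B_Q = P B_Q`. -/
theorem exists_algebra_localization_flat :
    ∃ (_ : Algebra (Localization.AtPrime (Q.comap (algebraMap A B))) (Localization.AtPrime Q))
      (_ : IsLocalHom (algebraMap (Localization.AtPrime (Q.comap (algebraMap A B)))
        (Localization.AtPrime Q)))
      (_ : Module.Flat (Localization.AtPrime (Q.comap (algebraMap A B))) (Localization.AtPrime Q)),
      (Q.comap (algebraMap A B)).map (algebraMap A (Localization.AtPrime Q)) =
      (IsLocalRing.maximalIdeal (Localization.AtPrime (Q.comap (algebraMap A B)))).map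
        (algebraMap (Localization.AtPrime (Q.comap (algebraMap A B))) (Localization.AtPrime Q)) := by
  set p : Ideal A := Q.comap (algebraMap A B) with hp
  have hlies : Q.LiesOver p := ⟨rfl⟩
  let alg := Localization.AtPrime.algebraOfLiesOver p Q
  have hloc : IsLocalHom (algebraMap (Localization.AtPrime p) (Localization.AtPrime Q)) := by
    rw [RingHom.algebraMap_toAlgebra]
    exact Localization.isLocalHom_localRingHom p Q (algebraMap A B) Ideal.LiesOver.over
  have hflatB : Module.Flat B (Localization.AtPrime Q) := IsLocalization.flat _ Q.primeCompl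
  have hflatA : Module.Flat A (Localization.AtPrime Q) := Module.Flat.trans A B _
  have hflat : Module.Flat (Localization.AtPrime p) (Localization.AtPrime Q) :=
    (Module.flat_iff_of_isLocalization (Localization.AtPrime p) p.primeCompl _).mpr hflatA
  refine ⟨alg, hloc, hflat, ?_⟩
  rw [← IsLocalization.AtPrime.map_eq_maximalIdeal p (Localization.AtPrime p), Ideal.map_map,
    ← IsScalarTower.algebraMap_eq]

omit [IsNoetherianRing A] [IsNoetherianRing B] [Module.Flat A B] in
/-- The fibre local ring is a local ring. -/
theorem isLocalRing_fibLocRing : IsLocalRing (EGA4.FibLocRing A B Q) := by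
  apply Groth.Agent.Lib.Helper5.isLocalRing_quotient
  intro h
  have hle : (Q.comap (algebraMap A B)).map (algebraMap A (Localization.AtPrime Q))
      ≤ IsLocalRing.maximalIdeal (Localization.AtPrime Q) := by
    rw [Ideal.map_le_iff_le_comap]
    intro a ha
    rw [Ideal.mem_comap, IsScalarTower.algebraMap_apply A B (Localization.AtPrime Q),
      ← Localization.AtPrime.map_eq_maximalIdeal]
    exact Ideal.mem_map_of_mem _ ha
  rw [h] at hle
  exact (IsLocalRing.maximalIdeal.isMaximal _).ne_top (top_le_iff.mp hle)

/-- `ht Q = dim (B_Q / P B_Q) + ht P` for flat `A → B`. -/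
theorem height_eq_height_fibLocRing_add [IsLocalRing (EGA4.FibLocRing A B Q)] :
    Q.height = (IsLocalRing.maximalIdeal (EGA4.FibLocRing A B Q)).height
      + (Q.comap (algebraMap A B)).height := by
  obtain ⟨alg, hloc, hflat, hmapeq⟩ := exists_algebra_localization_flat (A := A) Q
  have h := ringKrullDim_eq_add_of_flat (R := Localization.AtPrime (Q.comap (algebraMap A B)))
    (S := Localization.AtPrime Q) _ hmapeq
  rw [IsLocalization.AtPrime.ringKrullDim_eq_height Q (Localization.AtPrime Q),
    IsLocalization.AtPrime.ringKrullDim_eq_height (Q.comap (algebraMap A B))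
      (Localization.AtPrime (Q.comap (algebraMap A B))),
    ← IsLocalRing.maximalIdeal_height_eq_ringKrullDim, ← WithBot.coe_add] at h
  exact WithBot.coe_injective h

/-- `depth B_Q = depth A_P + depth (B_Q / P B_Q)` for flat `A → B`. -/
theorem depth_localization_eq_add_fibLocRing [IsLocalRing (EGA4.FibLocRing A B Q)] :
    LocCoh.depth (Localization.AtPrime Q) (Localization.AtPrime Q) =
      LocCoh.depth (Localization.AtPrime (Q.comap (algebraMap A B)))
        (Localization.AtPrime (Q.comap (algebraMap A B)))
      + LocCoh.depth (EGA4.FibLocRing A B Q) (EGA4.FibLocRing A B Q) := by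
  obtain ⟨alg, hloc, hflat, hmapeq⟩ := exists_algebra_localization_flat (A := A) Q
  exact depth_eq_depth_add_depth_quotient_of_flat
    (R := Localization.AtPrime (Q.comap (algebraMap A B))) (S := Localization.AtPrime Q) _ hmapeq

/-- Regular base point and regular fibre local ring give a regular point, for flat `A → B`. -/
theorem isRegularLocalRing_localization_of_fibLocRing
    (hA : IsRegularLocalRing (Localization.AtPrime (Q.comap (algebraMap A B))))
    (hF : IsRegularLocalRing (EGA4.FibLocRing A B Q)) :
    IsRegularLocalRing (Localization.AtPrime Q) := by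
  obtain ⟨alg, hloc, hflat, hmapeq⟩ := exists_algebra_localization_flat (A := A) Q
  exact isRegularLocalRing_of_flat_of_isRegularLocalRing_fibre
    (R := Localization.AtPrime (Q.comap (algebraMap A B))) (S := Localization.AtPrime Q) _ hmapeq

end FibLocFlat

section NormalLocal

variable {F : Type u} [CommRing F] [IsNoetherianRing F] [IsLocalRing F] [IsDomain F]
  [IsIntegrallyClosed F]

/-- A normal Noetherian local domain satisfies `depth ≥ min (2, dim)`. -/
theorem min_two_height_le_depth_of_isIntegrallyClosed :
    min 2 (IsLocalRing.maximalIdeal F).height ≤ LocCoh.depth F F := by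
  rcases le_or_gt 2 (IsLocalRing.maximalIdeal F).height with h | h
  · have hdim : (2 : WithBot ℕ∞) ≤ ringKrullDim F := by
      rw [← IsLocalRing.maximalIdeal_height_eq_ringKrullDim]
      have := WithBot.coe_le_coe.mpr h
      simpa using this
    exact (min_le_left _ _).trans (two_le_depth_of_isIntegrallyClosed_of_two_le_dim hdim)
  · have h1 : (IsLocalRing.maximalIdeal F).height ≤ 1 := by
      have := Order.le_of_lt_add_one (show (IsLocalRing.maximalIdeal F).height < 1 + 1 by
        rw [one_add_one_eq_two]; exact h)
      exact this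
    have hdim : ringKrullDim F ≤ 1 := by
      rw [← IsLocalRing.maximalIdeal_height_eq_ringKrullDim]
      have := WithBot.coe_le_coe.mpr h1
      simpa using this
    have hreg : IsRegularLocalRing F := isRegularLocalRing_of_isIntegrallyClosed_of_dim_le_one hdim
    have hcm := Groth.Agent.Lib.Helper5.isCohenMacaulayLocalRing_of_isRegularLocalRing F
    have e := hcm.supportDim_eq_depth
    rw [Module.supportDim_self_eq_ringKrullDim,
      ← IsLocalRing.maximalIdeal_height_eq_ringKrullDim] at e
    have e' : (IsLocalRing.maximalIdeal F).height = LocCoh.depth F F := WithBot.coe_injective e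
    rw [← e']
    exact min_le_right _ _

end NormalLocal

theorem min_two_add_le (a b : ℕ∞) : min 2 (a + b) ≤ min 2 a + min 2 b := by
  rcases le_or_gt 2 a with ha | ha
  · rw [min_eq_left ha]
    exact (min_le_left _ _).trans le_self_add
  rcases le_or_gt 2 b with hb | hb
  · rw [min_eq_left hb]
    exact (min_le_left _ _).trans le_add_self
  rw [min_eq_right ha.le, min_eq_right hb.le]
  exact min_le_right _ _

theorem withBot_min_two_le_iff (x y : ℕ∞) :
    min ((2 : ℕ) : WithBot ℕ∞) ((x : ℕ∞) : WithBot ℕ∞) ≤ ((y : ℕ∞) : WithBot ℕ∞) ↔ min 2 x ≤ y := by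
  have : ((2 : ℕ) : WithBot ℕ∞) = ((2 : ℕ∞) : WithBot ℕ∞) := rfl
  rw [this, ← WithBot.coe_min, WithBot.coe_le_coe]

section NormalAscent

variable {A B : Type u} [CommRing A] [CommRing B] [IsNoetherianRing A] [IsNoetherianRing B]
  [Algebra A B] [Module.Flat A B]

/-- A local ring is isomorphic to its localization at the maximal ideal. -/
noncomputable def localizationMaximalIdealEquiv (R : Type u) [CommRing R] [IsLocalRing R] :
    R ≃+* Localization.AtPrime (IsLocalRing.maximalIdeal R) :=
  (IsLocalization.atUnits R (IsLocalRing.maximalIdeal R).primeCompl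
    (S := Localization.AtPrime (IsLocalRing.maximalIdeal R)) (by
      intro x hx
      have : x ∉ IsLocalRing.maximalIdeal R := hx
      rw [IsLocalRing.mem_maximalIdeal, mem_nonunits_iff, not_not] at this
      exact this)).toRingEquiv

/-- **Normality ascends along flat maps with normal fibre local rings** (EGA IV 6.5.4). -/
theorem isDomain_and_isIntegrallyClosed_localization_of_flat_of_fibLocRing
    (hfib : ∀ (q : Ideal B) [q.IsPrime],
      IsDomain (EGA4.FibLocRing A B q) ∧ IsIntegrallyClosed (EGA4.FibLocRing A B q))
    (q : Ideal B) [q.IsPrime]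
    [IsDomain (Localization.AtPrime (q.comap (algebraMap A B)))]
    [IsIntegrallyClosed (Localization.AtPrime (q.comap (algebraMap A B)))] :
    IsDomain (Localization.AtPrime q) ∧ IsIntegrallyClosed (Localization.AtPrime q) := by
  set p : Ideal A := q.comap (algebraMap A B) with hp
  have hA := (forall_isIntegrallyClosed_localization_iff_hasRk_one_and_hasSk_two
    (Localization.AtPrime p)).mp (fun P' _ => ⟨inferInstance,
      isIntegrallyClosed_of_isLocalization _ P'.primeCompl P'.primeCompl_le_nonZeroDivisors⟩)
  have hAS := (hasSk_localization_atPrime_iff 2 p).mp hA.2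
  have hAR := (hasRk_localization_atPrime_iff 1 p).mp hA.1
  have hBS : LocCoh.HasSk 2 (Localization.AtPrime q) (Localization.AtPrime q) := by
    rw [hasSk_localization_atPrime_iff]
    intro Q hQ hQq
    have hPp : Q.comap (algebraMap A B) ≤ p := Ideal.comap_mono hQq
    have hloc : IsLocalRing (EGA4.FibLocRing A B Q) := isLocalRing_fibLocRing Q
    obtain ⟨hFdom, hFic⟩ := hfib Q
    have h1 := hAS (Q.comap (algebraMap A B)) hPp
    rw [withBot_min_two_le_iff] at h1 ⊢
    have h2 := min_two_height_le_depth_of_isIntegrallyClosed (F := EGA4.FibLocRing A B Q)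
    rw [height_eq_height_fibLocRing_add (A := A) Q, depth_localization_eq_add_fibLocRing (A := A) Q]
    refine (min_two_add_le _ _).trans ?_
    rw [add_comm]
    exact add_le_add h1 h2
  have hBR : LocCoh.HasRk 1 (Localization.AtPrime q) := by
    rw [hasRk_localization_atPrime_iff]
    intro Q hQ hQq hht
    have hPp : Q.comap (algebraMap A B) ≤ p := Ideal.comap_mono hQq
    have hloc : IsLocalRing (EGA4.FibLocRing A B Q) := isLocalRing_fibLocRing Q
    obtain ⟨hFdom, hFic⟩ := hfib Q
    rw [height_eq_height_fibLocRing_add (A := A) Q] at hht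
    have hP1 : (Q.comap (algebraMap A B)).height ≤ ((1 : ℕ) : ℕ∞) := le_add_self.trans hht
    have hF1 : (IsLocalRing.maximalIdeal (EGA4.FibLocRing A B Q)).height ≤ ((1 : ℕ) : ℕ∞) :=
      le_self_add.trans hht
    have hAreg := hAR (Q.comap (algebraMap A B)) hPp hP1
    have hdim : ringKrullDim (EGA4.FibLocRing A B Q) ≤ 1 := by
      rw [← IsLocalRing.maximalIdeal_height_eq_ringKrullDim]
      have := WithBot.coe_le_coe.mpr hF1
      simpa using this
    have hFreg : IsRegularLocalRing (EGA4.FibLocRing A B Q) :=
      isRegularLocalRing_of_isIntegrallyClosed_of_dim_le_one hdim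
    exact isRegularLocalRing_localization_of_fibLocRing Q hAreg hFreg
  have hdomm := isDomain_localization_of_hasRk_one_of_hasSk_two hBR hBS
    (IsLocalRing.maximalIdeal (Localization.AtPrime q))
  have hdom : IsDomain (Localization.AtPrime q) :=
    (localizationMaximalIdealEquiv (Localization.AtPrime q)).injective.isDomain
      (localizationMaximalIdealEquiv (Localization.AtPrime q)).toRingHom
  exact ⟨hdom, isIntegrallyClosed_of_hasRk_one_of_hasSk_two hBR hBS⟩

end NormalAscent

end Groth.Agent.Lib.Helper28
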