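import Groth.Agent.Lib.Helper28FlatNormal
import Mathlib.RingTheory.KrullDimension.Polynomial

/-!
# Cohen–Macaulay polynomial rings (helper28)

* `ringKrullDim_fibLocRing_le_krullDim_preimage`: `dim (B_Q / P B_Q) ≤ dim` of the fibre over `P`;
* `isDomain_fibLocRing_polynomial`, `ringKrullDim_fibLocRing_polynomial_le_one`;
* `depth_self_eq_ringKrullDim_of_isDomain_of_le_one`: local domains of dimension `≤ 1` are CM;
* `isCohenMacaulayLocalRing_localization_of_fibLocRing`: CM ascent along flat maps;
* `isCohenMacaulayRing_polynomial`, `isCohenMacaulayRing_mvPolynomial_fin`,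
  `isCohenMacaulayRing_of_ringEquiv`, `isCohenMacaulayLocalRing_of_ringEquiv`.
-/
set_option autoImplicit false
universe u v w u' v'

namespace Groth.Agent.Lib.Helper28
open RingTheory.Sequence CategoryTheory Abelian TensorProduct Polynomial
open scoped Pointwise

section FibDim

variable {A B : Type u} [CommRing A] [CommRing B] [Algebra A B] (Q : Ideal B) [Q.IsPrime]

/-- The dimension of the fibre local ring `B_Q / P B_Q` is at most the dimension of the fibre of
`Spec B → Spec A` over `P = Q ∩ A`. -/
theorem ringKrullDim_fibLocRing_le_krullDim_preimage :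
    ringKrullDim (EGA4.FibLocRing A B Q) ≤
      Order.krullDim (PrimeSpectrum.comap (algebraMap A B) ⁻¹'
        {(⟨Q.comap (algebraMap A B), inferInstance⟩ : PrimeSpectrum A)}) := by
  set P : Ideal A := Q.comap (algebraMap A B) with hP
  set I : Ideal (Localization.AtPrime Q) := P.map (algebraMap A (Localization.AtPrime Q)) with hI
  -- the strictly monotone map
  let g : PrimeSpectrum (EGA4.FibLocRing A B Q) → PrimeSpectrum B := fun q =>
    PrimeSpectrum.comap (algebraMap B (Localization.AtPrime Q))
      (PrimeSpectrum.comap (Ideal.Quotient.mk I) q)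
  have hg : StrictMono g := by
    have h1 : StrictMono (PrimeSpectrum.comap (Ideal.Quotient.mk I)) :=
      RingHom.strictMono_comap_of_surjective Ideal.Quotient.mk_surjective
    have h2 : StrictMono (PrimeSpectrum.comap (algebraMap B (Localization.AtPrime Q))) := by
      apply Monotone.strictMono_of_injective
      · intro a b hab
        exact Ideal.comap_mono hab
      · exact PrimeSpectrum.localization_comap_injective (Localization.AtPrime Q) Q.primeCompl
    exact h2.comp h1
  have hmem : ∀ q, g q ∈ PrimeSpectrum.comap (algebraMap A B) ⁻¹'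
      {(⟨P, inferInstance⟩ : PrimeSpectrum A)} := by
    intro q
    rw [Set.mem_preimage, Set.mem_singleton_iff]
    apply PrimeSpectrum.ext
    change Ideal.comap (algebraMap A B) (Ideal.comap (algebraMap B (Localization.AtPrime Q))
      (Ideal.comap (Ideal.Quotient.mk I) q.asIdeal)) = P
    apply le_antisymm
    · -- contained in `Q ∩ A`
      intro a ha
      rw [Ideal.mem_comap, Ideal.mem_comap, Ideal.mem_comap] at ha
      rw [hP, Ideal.mem_comap]
      by_contra hn
      have hu : IsUnit (algebraMap B (Localization.AtPrime Q) (algebraMap A B a)) :=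
        IsLocalization.map_units (Localization.AtPrime Q) (⟨_, hn⟩ : Q.primeCompl)
      exact q.2.ne_top (Ideal.eq_top_of_isUnit_mem _ ha (hu.map (Ideal.Quotient.mk I)))
    · intro a ha
      rw [Ideal.mem_comap, Ideal.mem_comap, Ideal.mem_comap]
      have : Ideal.Quotient.mk I (algebraMap B (Localization.AtPrime Q) (algebraMap A B a)) = 0 := by
        rw [Ideal.Quotient.eq_zero_iff_mem, ← IsScalarTower.algebraMap_apply]
        exact Ideal.mem_map_of_mem _ ha
      rw [this]
      exact zero_mem _
  let g' : PrimeSpectrum (EGA4.FibLocRing A B Q) → (PrimeSpectrum.comap (algebraMap A B) ⁻¹'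
      {(⟨P, inferInstance⟩ : PrimeSpectrum A)}) := fun q => ⟨g q, hmem q⟩
  have hg' : StrictMono g' := fun a b hab => hg hab
  exact Order.krullDim_le_of_strictMono g' hg'

end FibDim

section PolyFib

variable {A : Type u} [CommRing A] (Q : Ideal A[X]) [Q.IsPrime]

theorem ringKrullDim_fibLocRing_polynomial_le_one :
    ringKrullDim (EGA4.FibLocRing A A[X] Q) ≤ 1 := by
  refine le_trans (ringKrullDim_fibLocRing_le_krullDim_preimage (A := A) Q) ?_
  rw [Order.krullDim_eq_of_orderIso
      (PrimeSpectrum.preimageOrderIsoFiber A (Polynomial A) _), ← ringKrullDim,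
      ← ringKrullDim_eq_of_ringEquiv (polyEquivTensor A
        ((Q.comap (algebraMap A A[X])).ResidueField)).toRingEquiv]
  have h : Ring.KrullDimLE 1 ((Q.comap (algebraMap A A[X])).ResidueField)[X] := inferInstance
  have h' := Ring.krullDimLE_iff.mp h
  exact_mod_cast h'

theorem isDomain_fibLocRing_polynomial : IsDomain (EGA4.FibLocRing A A[X] Q) := by
  have hprime : ((Q.comap (algebraMap A A[X])).map (algebraMap A (Localization.AtPrime Q))).IsPrime := by
    rw [IsScalarTower.algebraMap_eq A A[X] (Localization.AtPrime Q), ← Ideal.map_map]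
    apply IsLocalization.isPrime_of_isPrime_disjoint Q.primeCompl
    · exact Ideal.isPrime_map_C_of_isPrime
    · rw [Set.disjoint_left]
      intro x hx hx'
      exact hx (Ideal.map_comap_le hx')
  exact Ideal.Quotient.isDomain _

end PolyFib

section DimOne

/-- A Noetherian local domain of dimension at most one is Cohen–Macaulay. -/
theorem depth_self_eq_ringKrullDim_of_isDomain_of_le_one {F : Type u} [CommRing F]
    [IsNoetherianRing F] [IsLocalRing F] [IsDomain F] (h : ringKrullDim F ≤ 1) :
    ringKrullDim F = ((LocCoh.depth F F : ℕ∞) : WithBot ℕ∞) := by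
  have hle : ((LocCoh.depth F F : ℕ∞) : WithBot ℕ∞) ≤ ringKrullDim F := by
    rw [← Module.supportDim_self_eq_ringKrullDim]
    exact depth_le_supportDim
  refine le_antisymm ?_ hle
  by_cases hm : IsLocalRing.maximalIdeal F = ⊥
  · have hfield : IsField F := IsLocalRing.isField_iff_maximalIdeal_eq.mpr hm
    rw [ringKrullDim_eq_zero_of_isField hfield]
    exact WithBot.coe_le_coe.mpr (zero_le)
  · obtain ⟨x, hx, hx0⟩ := Submodule.exists_mem_ne_zero_of_ne_bot hm
    have hIM : IsLocalRing.maximalIdeal F • (⊤ : Submodule F F) ≠ ⊤ := maximalIdeal_smul_top_ne_top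
    have h1 : 1 ≤ LocCoh.depth F F := by
      unfold LocCoh.depth
      rw [one_le_idealDepth_iff hIM]
      refine ⟨x, hx, ?_⟩
      intro a b hab
      exact mul_left_cancel₀ hx0 hab
    refine le_trans h ?_
    exact_mod_cast WithBot.coe_le_coe.mpr h1

end DimOne

section CMAscent

variable {A B : Type u} [CommRing A] [CommRing B] [IsNoetherianRing A] [IsNoetherianRing B]
  [Algebra A B] [Module.Flat A B] (Q : Ideal B) [Q.IsPrime]

/-- Cohen–Macaulay ascends along flat maps with Cohen–Macaulay fibre local rings. -/
theorem isCohenMacaulayLocalRing_localization_of_fibLocRing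
    (hA : LocCoh.IsCohenMacaulayLocalRing (Localization.AtPrime (Q.comap (algebraMap A B))))
    [IsLocalRing (EGA4.FibLocRing A B Q)]
    (hF : ringKrullDim (EGA4.FibLocRing A B Q) =
      ((LocCoh.depth (EGA4.FibLocRing A B Q) (EGA4.FibLocRing A B Q) : ℕ∞) : WithBot ℕ∞)) :
    LocCoh.IsCohenMacaulayLocalRing (Localization.AtPrime Q) := by
  refine { supportDim_eq_depth := ?_ }
  rw [Module.supportDim_self_eq_ringKrullDim,
    IsLocalization.AtPrime.ringKrullDim_eq_height Q (Localization.AtPrime Q),
    height_eq_height_fibLocRing_add (A := A) Q, depth_localization_eq_add_fibLocRing (A := A) Q]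
  have h1 := hA.supportDim_eq_depth
  rw [Module.supportDim_self_eq_ringKrullDim,
    IsLocalization.AtPrime.ringKrullDim_eq_height (Q.comap (algebraMap A B))
      (Localization.AtPrime (Q.comap (algebraMap A B)))] at h1
  rw [← IsLocalRing.maximalIdeal_height_eq_ringKrullDim] at hF
  have h1' := WithBot.coe_injective h1
  have hF' := WithBot.coe_injective hF
  rw [h1', hF', add_comm]

end CMAscent

section PolyCM

/-- The polynomial ring over a Cohen–Macaulay ring is Cohen–Macaulay. -/
theorem isCohenMacaulayRing_polynomial {A : Type u} [CommRing A] [hA : LocCoh.IsCohenMacaulayRing A] :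
    LocCoh.IsCohenMacaulayRing A[X] := by
  refine { isCohenMacaulayLocalRing_localization := ?_ }
  intro Q hQ
  have hloc : IsLocalRing (EGA4.FibLocRing A A[X] Q) := isLocalRing_fibLocRing (A := A) Q
  have hdom : IsDomain (EGA4.FibLocRing A A[X] Q) := isDomain_fibLocRing_polynomial Q
  exact isCohenMacaulayLocalRing_localization_of_fibLocRing (A := A) Q
    (hA.isCohenMacaulayLocalRing_localization _)
    (depth_self_eq_ringKrullDim_of_isDomain_of_le_one (ringKrullDim_fibLocRing_polynomial_le_one Q))

/-- Cohen–Macaulay local rings transfer along ring isomorphisms. -/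
theorem isCohenMacaulayLocalRing_of_ringEquiv {R : Type u} {S : Type u'} [CommRing R] [CommRing S]
    (e : R ≃+* S) [hR : LocCoh.IsCohenMacaulayLocalRing R] : LocCoh.IsCohenMacaulayLocalRing S := by
  have hN : IsNoetherianRing S := isNoetherianRing_of_ringEquiv R e
  have hL : IsLocalRing S := e.isLocalRing
  refine { supportDim_eq_depth := ?_ }
  have h := hR.supportDim_eq_depth
  rw [Module.supportDim_self_eq_ringKrullDim] at h ⊢
  rw [← ringKrullDim_eq_of_ringEquiv e, ← depth_self_eq_of_ringEquiv e, h]

/-- Cohen–Macaulay rings transfer along ring isomorphisms. -/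
theorem isCohenMacaulayRing_of_ringEquiv {R : Type u} {S : Type u'} [CommRing R] [CommRing S]
    (e : R ≃+* S) [hR : LocCoh.IsCohenMacaulayRing R] : LocCoh.IsCohenMacaulayRing S := by
  have hN : IsNoetherianRing S := isNoetherianRing_of_ringEquiv R e
  refine { isCohenMacaulayLocalRing_localization := ?_ }
  intro q hq
  have hp : (q.comap (e : R →+* S)).IsPrime := Ideal.comap_isPrime _ _
  have := hR.isCohenMacaulayLocalRing_localization (q.comap (e : R →+* S))
  exact isCohenMacaulayLocalRing_of_ringEquiv
    (Localization.localRingEquiv (q.comap (e : R →+* S)) q e rfl)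

theorem isCohenMacaulayRing_mvPolynomial_fin {R : Type u} [CommRing R]
    [hR : LocCoh.IsCohenMacaulayRing R] (n : ℕ) :
    LocCoh.IsCohenMacaulayRing (MvPolynomial (Fin n) R) := by
  induction n with
  | zero => exact isCohenMacaulayRing_of_ringEquiv (MvPolynomial.isEmptyRingEquiv R (Fin 0)).symm
  | succ n ih =>
    have := isCohenMacaulayRing_polynomial (A := MvPolynomial (Fin n) R)
    exact isCohenMacaulayRing_of_ringEquiv (MvPolynomial.finSuccEquiv R n).toRingEquiv.symm

end PolyCM

end Groth.Agent.Lib.Helper28
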