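import Mathlib
import Groth.Agent.Lib.Helper28FlatNormal
import Groth.Agent.Lib.Helper28DepthAss
import Groth.Agent.Lib.Helper19ComplDim
import Groth.Agent.S2639
import Groth.Prelude

/-!
# Depth and associated primes under completion (helper28)

* `depth_tensor_adicCompletion`, `depth_adicCompletion_module`: completion preserves the depth of
  finite modules;
* `ker_toSpanSingleton_tmul`: for `B` flat over `A`, `Ann_B(1 ⊗ n) = Ann_A(n) B`;
* `mem_associatedPrimes_tensor_of_mem_associatedPrimes_quotient`;
* `depth_le_ringKrullDim_quotient_of_mem_associatedPrimes_adicCompletion`;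
* `comap_mem_associatedPrimes_of_quotient`, `isStrictlyEquidim_of_ringEquiv`.
-/
set_option autoImplicit false
universe u v
namespace Groth.Agent.Lib.Helper28
open IsLocalRing TensorProduct

section ComplAss

variable (A : Type u) [CommRing A] [IsLocalRing A] [IsNoetherianRing A]

theorem isLocalHom_algebraMap_adicCompletion :
    IsLocalHom (algebraMap A (AdicCompletion (maximalIdeal A) A)) := by
  have hP : maximalIdeal (AdicCompletion (maximalIdeal A) A) =
      (maximalIdeal A).map (algebraMap A (AdicCompletion (maximalIdeal A) A)) :=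
    AdicCompletion.maximalIdeal_eq_map
  apply ((IsLocalRing.local_hom_TFAE (algebraMap A (AdicCompletion (maximalIdeal A) A))).out 0 2).mpr
  rw [hP]

/-- the depth of the closed fibre module of `A → Â` is zero. -/
theorem depth_adicCompletion_fibre_eq_zero :
    LocCoh.depth (AdicCompletion (maximalIdeal A) A)
      (AdicCompletion (maximalIdeal A) A ⧸
        ((maximalIdeal A).map (algebraMap A (AdicCompletion (maximalIdeal A) A)) • ⊤ :
          Submodule (AdicCompletion (maximalIdeal A) A) (AdicCompletion (maximalIdeal A) A))) = 0 := by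
  have hloc := isLocalHom_algebraMap_adicCompletion A
  have h1 := depth_eq_depth_add_depth_fibre (R := A) (S := AdicCompletion (maximalIdeal A) A)
  have h2 := Groth.Agent.S2639.depth_adicCompletion_maximalIdeal A
  rw [h2] at h1
  have hne : LocCoh.depth A A ≠ ⊤ := idealDepth_ne_top maximalIdeal_smul_top_ne_top
  have h3 : LocCoh.depth A A + 0 = LocCoh.depth A A + LocCoh.depth (AdicCompletion (maximalIdeal A) A)
      (AdicCompletion (maximalIdeal A) A ⧸
        ((maximalIdeal A).map (algebraMap A (AdicCompletion (maximalIdeal A) A)) • ⊤ :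
          Submodule (AdicCompletion (maximalIdeal A) A) (AdicCompletion (maximalIdeal A) A))) := by
    rw [add_zero]; exact h1
  exact ((ENat.add_right_injective_of_ne_top hne) h3).symm

/-- base change to the completion preserves depth. -/
theorem depth_tensor_adicCompletion (N : Type u) [AddCommGroup N] [Module A N] [Module.Finite A N] :
    LocCoh.depth (AdicCompletion (maximalIdeal A) A) (AdicCompletion (maximalIdeal A) A ⊗[A] N) =
      LocCoh.depth A N := by
  have hloc := isLocalHom_algebraMap_adicCompletion A
  rw [depth_tensor_of_flat (R := A) (S := AdicCompletion (maximalIdeal A) A) N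
    (AdicCompletion (maximalIdeal A) A), depth_adicCompletion_fibre_eq_zero, add_zero]

/-- **EGA 0_IV 16.4.10 / S5810**: completion preserves the depth of finite modules. -/
theorem depth_adicCompletion_module (N : Type u) [AddCommGroup N] [Module A N] [Module.Finite A N] :
    LocCoh.depth (AdicCompletion (maximalIdeal A) A) (AdicCompletion (maximalIdeal A) N) =
      LocCoh.depth A N := by
  rw [← depth_tensor_adicCompletion A N]
  exact (idealDepth_congr (AdicCompletion.ofTensorProductEquivOfFiniteNoetherian (maximalIdeal A) N)
    _).symm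

end ComplAss


section FlatAnn

variable {A : Type u} [CommRing A] (B : Type u) [CommRing B] [Algebra A B] [Module.Flat A B]
  {N : Type u} [AddCommGroup N] [Module A N]

/-- For a flat `A`-algebra `B` and `n ∈ N`, the `B`-linear map `B → B ⊗ N`, `b ↦ b ⊗ n`, has
kernel `Ann(n) B`. -/
theorem ker_toSpanSingleton_tmul (n : N) :
    LinearMap.ker (LinearMap.toSpanSingleton B (B ⊗[A] N) ((1 : B) ⊗ₜ[A] n)) =
      Ideal.map (algebraMap A B) (LinearMap.ker (LinearMap.toSpanSingleton A N n)) := by
  set p : Ideal A := LinearMap.ker (LinearMap.toSpanSingleton A N n) with hp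
  have hex : Function.Exact (Submodule.subtype p) (LinearMap.toSpanSingleton A N n) :=
    LinearMap.exact_subtype_ker_map _
  have hex' := Module.Flat.lTensor_exact B hex
  apply le_antisymm
  · intro x hx
    rw [LinearMap.mem_ker, LinearMap.toSpanSingleton_apply, TensorProduct.smul_tmul',
      smul_eq_mul, mul_one] at hx
    have h1 : (LinearMap.toSpanSingleton A N n).lTensor B (x ⊗ₜ[A] (1 : A)) = 0 := by
      rw [LinearMap.lTensor_tmul, LinearMap.toSpanSingleton_apply, one_smul]
      exact hx
    obtain ⟨y, hy⟩ := (hex' _).mp h1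
    -- apply the multiplication map `B ⊗ A → B`
    have h2 := congrArg (TensorProduct.rid A B) hy
    rw [TensorProduct.rid_tmul, one_smul] at h2
    rw [← h2]
    clear hy h2 h1 hx
    induction y using TensorProduct.induction_on with
    | zero => simp
    | tmul b a =>
      rw [LinearMap.lTensor_tmul, Submodule.subtype_apply, TensorProduct.rid_tmul,
        Algebra.smul_def, mul_comm]
      exact Ideal.mul_mem_left _ _ (Ideal.mem_map_of_mem _ a.2)
    | add y z hy hz =>
      rw [map_add, map_add]
      exact Ideal.add_mem _ hy hz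
  · rw [Ideal.map_le_iff_le_comap]
    intro a ha
    rw [Ideal.mem_comap, LinearMap.mem_ker, LinearMap.toSpanSingleton_apply,
      TensorProduct.smul_tmul', smul_eq_mul, mul_one, Algebra.algebraMap_eq_smul_one,
      TensorProduct.smul_tmul]
    have : a • n = 0 := ha
    rw [this, TensorProduct.tmul_zero]

/-- associated primes of `B / Ann(n) B` are associated primes of `B ⊗ N`. -/
theorem mem_associatedPrimes_tensor_of_mem_associatedPrimes_quotient (n : N) (q : Ideal B)
    (hq : q ∈ associatedPrimes B
      (B ⧸ Ideal.map (algebraMap A B) (LinearMap.ker (LinearMap.toSpanSingleton A N n)))) :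
    q ∈ associatedPrimes B (B ⊗[A] N) := by
  have hker := ker_toSpanSingleton_tmul (A := A) B n
  let φ : (B ⧸ Ideal.map (algebraMap A B) (LinearMap.ker (LinearMap.toSpanSingleton A N n))) →ₗ[B]
      B ⊗[A] N :=
    Submodule.liftQ _ (LinearMap.toSpanSingleton B (B ⊗[A] N) ((1 : B) ⊗ₜ[A] n)) (le_of_eq hker.symm)
  have hφ : Function.Injective φ := by
    rw [← LinearMap.ker_eq_bot]
    exact Submodule.ker_liftQ_eq_bot _ _ _ (le_of_eq hker)
  exact associatedPrimes.subset_of_injective hφ hq

end FlatAnn


section AssTransport

/-- associated primes of the ring `R ⧸ K` pull back to associated primes of the `R`-module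
`R ⧸ K`. -/
theorem comap_mem_associatedPrimes_of_quotient {R : Type u} [CommRing R] [IsNoetherianRing R]
    (K : Ideal R)
    (q : Ideal (R ⧸ K)) (hq : q ∈ associatedPrimes (R ⧸ K) (R ⧸ K)) :
    q.comap (Ideal.Quotient.mk K) ∈ associatedPrimes R (R ⧸ K) := by
  rw [AssociatedPrimes.mem_iff, isAssociatedPrime_iff] at hq ⊢
  obtain ⟨hprime, x, hx⟩ := hq
  refine ⟨inferInstance, x, ?_⟩
  ext r
  rw [Ideal.mem_comap, hx, Submodule.mem_colon_singleton, Submodule.mem_colon_singleton,
    Submodule.mem_bot, Submodule.mem_bot]
  rfl

/-- strict equidimensionality is invariant under ring isomorphisms. -/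
theorem isStrictlyEquidim_of_ringEquiv {R : Type u} {R' : Type v} [CommRing R] [CommRing R']
    [IsNoetherianRing R] [IsNoetherianRing R']
    (e : R ≃+* R') (h : EGA4.IsStrictlyEquidim R) : EGA4.IsStrictlyEquidim R' := by
  intro q hq
  have hq' : q.comap (e : R →+* R') ∈ associatedPrimes R R := by
    rw [AssociatedPrimes.mem_iff, isAssociatedPrime_iff] at hq ⊢
    obtain ⟨hprime, x, hx⟩ := hq
    refine ⟨inferInstance, e.symm x, ?_⟩
    ext r
    rw [Ideal.mem_comap, hx, Submodule.mem_colon_singleton, Submodule.mem_colon_singleton,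
      Submodule.mem_bot, Submodule.mem_bot, smul_eq_mul, smul_eq_mul]
    constructor
    · intro h1
      apply e.injective
      rw [map_mul, map_zero, RingEquiv.apply_symm_apply]
      exact h1
    · intro h1
      have := congrArg e h1
      rwa [map_mul, map_zero, RingEquiv.apply_symm_apply] at this
  have h1 := h _ hq'
  rw [← ringKrullDim_eq_of_ringEquiv e, ← h1]
  exact (ringKrullDim_eq_of_ringEquiv (Ideal.quotientEquiv (q.comap (e : R →+* R')) q e
    (Ideal.map_comap_of_surjective (e : R →+* R') e.surjective q).symm)).symm

end AssTransport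


section PartA

variable (A : Type u) [CommRing A] [IsLocalRing A] [IsNoetherianRing A]

/-- If `q` is an associated prime of `Â / Ann(n) Â` for some `n ∈ N`, then `depth N ≤ dim Â/q`. -/
theorem depth_le_ringKrullDim_quotient_of_mem_associatedPrimes_adicCompletion
    (N : Type u) [AddCommGroup N] [Module A N] [Module.Finite A N] (n : N)
    (q : Ideal (AdicCompletion (maximalIdeal A) A))
    (hq : q ∈ associatedPrimes (AdicCompletion (maximalIdeal A) A)
      (AdicCompletion (maximalIdeal A) A ⧸
        Ideal.map (algebraMap A (AdicCompletion (maximalIdeal A) A))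
          (LinearMap.ker (LinearMap.toSpanSingleton A N n)))) :
    ((LocCoh.depth A N : ℕ∞) : WithBot ℕ∞) ≤
      ringKrullDim (AdicCompletion (maximalIdeal A) A ⧸ q) := by
  have h1 := mem_associatedPrimes_tensor_of_mem_associatedPrimes_quotient (A := A)
    (AdicCompletion (maximalIdeal A) A) n q hq
  have h2 := depth_le_ringKrullDim_quotient_of_mem_associatedPrimes h1
  rwa [depth_tensor_adicCompletion] at h2

end PartA

end Groth.Agent.Lib.Helper28
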