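import Groth.Agent.Lib.Helper19Restricted

/-!
# Extending maps to adic completions; completeness for powers of the ideal (helper19)
-/

set_option autoImplicit false
universe u v w

namespace Groth.Agent.Lib.Helper19

open Ideal

/-- A map `ψ : S → T` into a `J`-adically complete ring with `ψ(I) ⊆ J` extends to the `I`-adic
completion of `S`. -/
theorem exists_algHom_adicCompletion {R : Type u} {S : Type v} {T : Type w} [CommRing R]
    [CommRing S] [CommRing T] [Algebra R S] [Algebra R T] (I : Ideal S) (J : Ideal T)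
    [IsAdicComplete J T] (ψ : S →ₐ[R] T) (hψ : I.map ψ.toRingHom ≤ J) :
    ∃ Ψ : AdicCompletion I S →ₐ[R] T, ∀ s, Ψ (AdicCompletion.of I S s) = ψ s := by
  classical
  have hJle : ∀ n : ℕ, I ^ n ≤ (J ^ n).comap ψ.toRingHom := by
    intro n
    rw [← Ideal.map_le_iff_le_comap, Ideal.map_pow]
    exact Ideal.pow_right_mono hψ n
  let g : ∀ n : ℕ, AdicCompletion I S →+* T ⧸ J ^ n := fun n =>
    (Ideal.quotientMap (J ^ n) ψ.toRingHom (hJle n)).comp
      (AdicCompletion.evalₐ I n : AdicCompletion I S →+* S ⧸ I ^ n)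
  have hg : ∀ {m n : ℕ} (hle : m ≤ n), (Ideal.Quotient.factorPow J hle).comp (g n) = g m := by
    intro m n hle
    ext x
    simp only [g, RingHom.comp_apply]
    have e1 : AdicCompletion.evalₐ I m x =
        Ideal.Quotient.factorPow I hle (AdicCompletion.evalₐ I n x) :=
      (factorPow_evalₐ I hle x).symm
    obtain ⟨p, hp⟩ := Ideal.Quotient.mk_surjective (AdicCompletion.evalₐ I n x)
    simp only [RingHom.coe_coe]
    rw [e1, ← hp]
    simp [Ideal.Quotient.factorPow]
  let Φ₀ : AdicCompletion I S →+* T := IsAdicComplete.liftRingHom J g hg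
  have hΦ₀ : ∀ (n : ℕ) (x : AdicCompletion I S), Ideal.Quotient.mk (J ^ n) (Φ₀ x) = g n x :=
    fun n x => IsAdicComplete.mk_liftRingHom J g hg n x
  have hΦof : ∀ p : S, Φ₀ (AdicCompletion.of I S p) = ψ p := by
    intro p
    have hH : IsHausdorff J T := inferInstance
    rw [← sub_eq_zero]
    apply hH.haus
    intro n
    rw [SModEq.zero, smul_eq_mul, Ideal.mul_top, ← Ideal.Quotient.eq_zero_iff_mem, map_sub,
      hΦ₀, sub_eq_zero]
    simp [g]
  let Φ : AdicCompletion I S →ₐ[R] T :=
    { Φ₀ with
      commutes' := fun a => by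
        change Φ₀ (algebraMap R (AdicCompletion I S) a) = algebraMap R T a
        rw [AdicCompletion.algebraMap_apply, hΦof]
        exact ψ.commutes a }
  exact ⟨Φ, hΦof⟩

/-- `I`-adic completeness implies `I ^ 2`-adic completeness. -/
theorem isAdicComplete_pow_two {R : Type*} [CommRing R] (I : Ideal R) {M : Type*} [AddCommGroup M]
    [Module R M] [IsAdicComplete I M] : IsAdicComplete (I ^ 2) M where
  haus' x hx := by
    have hH : IsHausdorff I M := inferInstance
    apply hH.haus
    intro n
    refine SModEq.mono ?_ (hx n)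
    refine Submodule.smul_mono_left ?_
    rw [← pow_mul]
    exact Ideal.pow_le_pow_right (by omega)
  prec' f hf := by
    have hP : IsPrecomplete I M := inferInstance
    have hg : ∀ {k l : ℕ}, k ≤ l →
        f ((k + 1) / 2) ≡ f ((l + 1) / 2) [SMOD (I ^ k • ⊤ : Submodule R M)] := by
      intro k l hkl
      have h1 : (k + 1) / 2 ≤ (l + 1) / 2 := Nat.div_le_div_right (by omega)
      refine SModEq.mono ?_ (hf h1)
      refine Submodule.smul_mono_left ?_
      rw [← pow_mul]
      exact Ideal.pow_le_pow_right (by omega)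
    obtain ⟨L, hL⟩ := hP.prec' (fun k => f ((k + 1) / 2)) hg
    refine ⟨L, fun m => ?_⟩
    have := hL (2 * m)
    have e : (2 * m + 1) / 2 = m := by omega
    simp only [e] at this
    rwa [pow_mul] at this

end Groth.Agent.Lib.Helper19
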