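import Groth.Agent.Lib.Helper19Restricted
import Groth.Agent.Lib.Helper19ComplNoeth

/-!
# Complete algebras topologically of finite type over a Noetherian ring are Noetherian
-/

namespace Groth.Agent.Lib.Helper19

open Ideal

universe u v

/-- `B` complete for the `IB`-adic topology with `B/IB` of finite type over the Noetherian ring
`A` is Noetherian. -/
theorem isNoetherianRing_of_isAdicComplete_of_finiteType
    (A : Type u) [CommRing A] [IsNoetherianRing A] (I : Ideal A)
    (B : Type v) [CommRing B] [Algebra A B] [IsAdicComplete (I.map (algebraMap A B)) B]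
    (hB : Algebra.FiniteType A (B ⧸ I.map (algebraMap A B))) : IsNoetherianRing B := by
  obtain ⟨r, φ, hφ⟩ := exists_surjective_restricted' A I (IsNoetherian.noetherian I) B hB
  haveI : IsNoetherianRing (AdicCompletion (I.map (MvPolynomial.C : A →+* MvPolynomial (Fin r) A))
      (MvPolynomial (Fin r) A)) := isNoetherianRing_adicCompletion _
  exact isNoetherianRing_of_surjective _ _ φ.toRingHom hφ

/-- A surjective image of a precomplete module is precomplete. -/
theorem isPrecomplete_of_surjective_linearMap {R : Type*} [CommRing R] (I : Ideal R)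
    {M N : Type*} [AddCommGroup M] [Module R M] [AddCommGroup N] [Module R N]
    [IsPrecomplete I M] (f : M →ₗ[R] N) (hf : Function.Surjective f) : IsPrecomplete I N := by
  rw [← AdicCompletion.of_surjective_iff]
  intro y
  obtain ⟨x, rfl⟩ := AdicCompletion.map_surjective I hf y
  obtain ⟨m, rfl⟩ := AdicCompletion.of_surjective I M x
  exact ⟨f m, (AdicCompletion.map_of I f m).symm⟩

/-- Quotients of a Noetherian adically complete ring are adically complete. -/
theorem isAdicComplete_quotient_of_isNoetherianRing
    (B : Type v) [CommRing B] [IsNoetherianRing B] (K : Ideal B) [IsAdicComplete K B]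
    (J : Ideal B) : IsAdicComplete (K.map (Ideal.Quotient.mk J)) (B ⧸ J) := by
  have hK : K ≤ Ideal.jacobson ⊥ := IsAdicComplete.le_jacobson_bot K
  haveI h1 : IsHausdorff K (B ⧸ J) := IsHausdorff.of_le_jacobson K (B ⧸ J) hK
  haveI h2 : IsPrecomplete K (B ⧸ J) :=
    isPrecomplete_of_surjective_linearMap K (Submodule.mkQ J) (Submodule.mkQ_surjective J)
  haveI h3 : IsAdicComplete K (B ⧸ J) := { h1, h2 with }
  exact (IsAdicComplete.map_algebraMap_iff (I := K) (S := B ⧸ J) (M := B ⧸ J)).mpr h3

theorem isAdicComplete_quotient_of_isAdicComplete_of_finiteType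
    (A : Type u) [CommRing A] [IsNoetherianRing A] (I : Ideal A)
    (B : Type v) [CommRing B] [Algebra A B] [IsAdicComplete (I.map (algebraMap A B)) B]
    (hB : Algebra.FiniteType A (B ⧸ I.map (algebraMap A B))) (J : Ideal B) :
    IsAdicComplete (I.map (algebraMap A (B ⧸ J))) (B ⧸ J) := by
  haveI := isNoetherianRing_of_isAdicComplete_of_finiteType A I B hB
  have h := isAdicComplete_quotient_of_isNoetherianRing B (I.map (algebraMap A B)) J
  have e : (I.map (algebraMap A B)).map (Ideal.Quotient.mk J) = I.map (algebraMap A (B ⧸ J)) := by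
    rw [Ideal.map_map]
    rfl
  rwa [e] at h

end Groth.Agent.Lib.Helper19
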