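import Mathlib
import Groth.Agent.Lib.Helper19ComplExtend
import Groth.Agent.Lib.Helper19Restricted2
import Groth.Agent.Lib.Helper19ComplNoeth

/-!
# Completion commutes with quotients (helper28)

* `exists_sub_of_mem_pow_smul_top`: density of `A` in its `I`-adic completion;
* `adicCompletion_ringHom_ext`: ring homomorphisms from the completion into a Hausdorff ring are
  determined by their restriction to `A`;
* `exists_ringEquiv_adicCompletion_quotient`: for a Noetherian ring `A` and ideals `I`, `K`:
  `Â / K Â ≃+* (A/K)^` (completion for `I (A/K)`), compatible with the maps from `A`.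
-/
set_option autoImplicit false
universe u v
namespace Groth.Agent.Lib.Helper28

section ComplQuot

variable {A : Type u} [CommRing A] (I : Ideal A)

/-- Every element of the completion is approximated by elements of `A` modulo `I ^ n`. -/
theorem exists_sub_of_mem_pow_smul_top (fg : I.FG) (n : ℕ) (x : AdicCompletion I A) :
    ∃ a : A, x - AdicCompletion.of I A a ∈ (I ^ n • ⊤ : Submodule A (AdicCompletion I A)) := by
  obtain ⟨a, ha⟩ := Submodule.Quotient.mk_surjective _ (AdicCompletion.eval I A n x)
  refine ⟨a, ?_⟩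
  rw [AdicCompletion.pow_smul_top_eq_ker_eval fg, LinearMap.mem_ker, map_sub, sub_eq_zero,
    AdicCompletion.eval_of, ← ha]
  rfl

/-- Two ring homomorphisms from the completion to a Hausdorff ring which agree on `A` are equal. -/
theorem adicCompletion_ringHom_ext (fg : I.FG) {C : Type v} [CommRing C] (J : Ideal C)
    [IsHausdorff J C] (f g : AdicCompletion I A →+* C)
    (hJ : ∀ i ∈ I, f (AdicCompletion.of I A i) ∈ J)
    (h : ∀ a, f (AdicCompletion.of I A a) = g (AdicCompletion.of I A a)) : f = g := by
  have key : ∀ (φ : AdicCompletion I A →+* C), (∀ i ∈ I, φ (AdicCompletion.of I A i) ∈ J) →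
      ∀ (n : ℕ) (y : AdicCompletion I A),
        y ∈ (I ^ n • ⊤ : Submodule A (AdicCompletion I A)) → φ y ∈ J ^ n := by
    intro φ hφ n y hy
    have hle : (I ^ n).map (φ.comp (algebraMap A (AdicCompletion I A))) ≤ J ^ n := by
      rw [Ideal.map_pow]
      apply Ideal.pow_right_mono
      rw [Ideal.map_le_iff_le_comap]
      intro i hi
      exact hφ i hi
    refine Submodule.smul_induction_on hy ?_ ?_
    · intro i hi z _
      rw [Algebra.smul_def, map_mul]
      exact Ideal.mul_mem_right _ _ (hle (Ideal.mem_map_of_mem _ hi))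
    · intro y z hy hz
      rw [map_add]
      exact Ideal.add_mem _ hy hz
  have hJg : ∀ i ∈ I, g (AdicCompletion.of I A i) ∈ J := fun i hi => h i ▸ hJ i hi
  ext x
  rw [← sub_eq_zero]
  apply IsHausdorff.haus' (I := J)
  intro n
  rw [SModEq.zero, smul_eq_mul, Ideal.mul_top]
  obtain ⟨a, ha⟩ := exists_sub_of_mem_pow_smul_top I fg n x
  have e : f x - g x = f (x - AdicCompletion.of I A a) - g (x - AdicCompletion.of I A a) := by
    rw [map_sub, map_sub, h a]; ring
  rw [e]
  exact Ideal.sub_mem _ (key f hJ n _ ha) (key g hJg n _ ha)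

end ComplQuot


section ComplQuotIso

variable {A : Type u} [CommRing A] [IsNoetherianRing A] (I K : Ideal A)

/-- **Completion commutes with quotients**: `Â / KÂ ≃ (A/K)^`. -/
theorem exists_ringEquiv_adicCompletion_quotient :
    ∃ e : (AdicCompletion I A ⧸ K.map (algebraMap A (AdicCompletion I A))) ≃+*
        AdicCompletion (I.map (Ideal.Quotient.mk K)) (A ⧸ K),
      ∀ a : A, e (Ideal.Quotient.mk _ (algebraMap A (AdicCompletion I A) a)) =
        algebraMap (A ⧸ K) (AdicCompletion (I.map (Ideal.Quotient.mk K)) (A ⧸ K))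
          (Ideal.Quotient.mk K a) := by
  have fg : I.FG := IsNoetherian.noetherian I
  have fg' : (I.map (Ideal.Quotient.mk K)).FG := fg.map _
  have hN : IsNoetherianRing (AdicCompletion I A) :=
    Groth.Agent.Lib.Helper19.isNoetherianRing_adicCompletion I
  have hc1 := AdicCompletion.isAdicComplete_self I fg
  have hc2 := AdicCompletion.isAdicComplete_self (I.map (Ideal.Quotient.mk K)) fg'
  have hc3 := Groth.Agent.Lib.Helper19.isAdicComplete_quotient_of_isNoetherianRing
    (AdicCompletion I A) (I.map (algebraMap A (AdicCompletion I A)))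
    (K.map (algebraMap A (AdicCompletion I A)))
  -- the map `Â → (A/K)^`
  obtain ⟨Ψ₁, hΨ₁⟩ := Groth.Agent.Lib.Helper19.exists_algHom_adicCompletion (R := A) (S := A)
    (T := AdicCompletion (I.map (Ideal.Quotient.mk K)) (A ⧸ K)) I
    ((I.map (Ideal.Quotient.mk K)).map
      (algebraMap (A ⧸ K) (AdicCompletion (I.map (Ideal.Quotient.mk K)) (A ⧸ K))))
    (Algebra.ofId A _) (by
      rw [Ideal.map_le_iff_le_comap]
      intro i hi
      rw [Ideal.mem_comap]
      change algebraMap A (AdicCompletion (I.map (Ideal.Quotient.mk K)) (A ⧸ K)) i ∈ _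
      rw [AdicCompletion.algebraMap_apply]
      exact Ideal.mem_map_of_mem _ (Ideal.mem_map_of_mem _ hi))
  have hΨ₁' : ∀ a : A, Ψ₁ (AdicCompletion.of I A a) =
      AdicCompletion.of (I.map (Ideal.Quotient.mk K)) (A ⧸ K) (Ideal.Quotient.mk K a) := by
    intro a
    rw [hΨ₁]
    change algebraMap A (AdicCompletion (I.map (Ideal.Quotient.mk K)) (A ⧸ K)) a = _
    rw [AdicCompletion.algebraMap_apply]
    rfl
  have hkill : K.map (algebraMap A (AdicCompletion I A)) ≤ RingHom.ker Ψ₁.toRingHom := by
    rw [Ideal.map_le_iff_le_comap]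
    intro k hk
    rw [Ideal.mem_comap, RingHom.mem_ker]
    change Ψ₁ (algebraMap A (AdicCompletion I A) k) = 0
    rw [AdicCompletion.algebraMap_apply, Algebra.algebraMap_self, RingHom.id_apply, hΨ₁',
      Ideal.Quotient.eq_zero_iff_mem.mpr hk, map_zero]
  let Ψ₁' : (AdicCompletion I A ⧸ K.map (algebraMap A (AdicCompletion I A))) →+*
      AdicCompletion (I.map (Ideal.Quotient.mk K)) (A ⧸ K) :=
    Ideal.Quotient.lift _ Ψ₁.toRingHom (fun x hx => hkill hx)
  -- the map `(A/K)^ → Â/KÂ`
  let ψ₂ : (A ⧸ K) →ₐ[A] (AdicCompletion I A ⧸ K.map (algebraMap A (AdicCompletion I A))) :=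
    Ideal.Quotient.liftₐ K (Algebra.ofId A _) (by
      intro k hk
      change algebraMap A (AdicCompletion I A ⧸ K.map (algebraMap A (AdicCompletion I A))) k = 0
      rw [IsScalarTower.algebraMap_apply A (AdicCompletion I A)
        (AdicCompletion I A ⧸ K.map (algebraMap A (AdicCompletion I A)))]
      exact Ideal.Quotient.eq_zero_iff_mem.mpr (Ideal.mem_map_of_mem _ hk))
  have hψ₂ : ∀ a : A, ψ₂ (Ideal.Quotient.mk K a) =
      Ideal.Quotient.mk _ (AdicCompletion.of I A a) := by
    intro a
    change algebraMap A (AdicCompletion I A ⧸ K.map (algebraMap A (AdicCompletion I A))) a = _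
    rw [IsScalarTower.algebraMap_apply A (AdicCompletion I A)
      (AdicCompletion I A ⧸ K.map (algebraMap A (AdicCompletion I A))),
      AdicCompletion.algebraMap_apply, Algebra.algebraMap_self, RingHom.id_apply]
    rfl
  obtain ⟨Ψ₂, hΨ₂⟩ := Groth.Agent.Lib.Helper19.exists_algHom_adicCompletion (R := A) (S := A ⧸ K)
    (T := AdicCompletion I A ⧸ K.map (algebraMap A (AdicCompletion I A)))
    (I.map (Ideal.Quotient.mk K))
    ((I.map (algebraMap A (AdicCompletion I A))).map
      (Ideal.Quotient.mk (K.map (algebraMap A (AdicCompletion I A)))))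
    ψ₂ (by
      rw [Ideal.map_map, Ideal.map_le_iff_le_comap]
      intro i hi
      rw [Ideal.mem_comap, RingHom.comp_apply]
      change ψ₂ (Ideal.Quotient.mk K i) ∈ _
      rw [hψ₂]
      refine Ideal.mem_map_of_mem _ ?_
      have := Ideal.mem_map_of_mem (algebraMap A (AdicCompletion I A)) hi
      rwa [AdicCompletion.algebraMap_apply, Algebra.algebraMap_self, RingHom.id_apply] at this)
  -- the two composites
  have h21 : (Ψ₂.toRingHom.comp Ψ₁') = RingHom.id _ := by
    apply Ideal.Quotient.ringHom_ext
    have hH : IsHausdorff ((I.map (algebraMap A (AdicCompletion I A))).map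
      (Ideal.Quotient.mk (K.map (algebraMap A (AdicCompletion I A)))))
      (AdicCompletion I A ⧸ K.map (algebraMap A (AdicCompletion I A))) := inferInstance
    refine (adicCompletion_ringHom_ext I fg ((I.map (algebraMap A (AdicCompletion I A))).map
      (Ideal.Quotient.mk (K.map (algebraMap A (AdicCompletion I A))))) _ _ ?_ ?_).symm
    · intro i hi
      rw [RingHom.comp_apply, RingHom.id_apply]
      refine Ideal.mem_map_of_mem _ ?_
      have := Ideal.mem_map_of_mem (algebraMap A (AdicCompletion I A)) hi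
      rwa [AdicCompletion.algebraMap_apply, Algebra.algebraMap_self, RingHom.id_apply] at this
    · intro a
      rw [RingHom.comp_apply, RingHom.id_apply, RingHom.comp_apply, RingHom.comp_apply]
      change _ = Ψ₂ (Ψ₁ (AdicCompletion.of I A a))
      rw [hΨ₁', hΨ₂, hψ₂]
  have h12 : (Ψ₁'.comp Ψ₂.toRingHom) = RingHom.id _ := by
    have hH : IsHausdorff ((I.map (Ideal.Quotient.mk K)).map
      (algebraMap (A ⧸ K) (AdicCompletion (I.map (Ideal.Quotient.mk K)) (A ⧸ K))))
      (AdicCompletion (I.map (Ideal.Quotient.mk K)) (A ⧸ K)) := inferInstance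
    refine (adicCompletion_ringHom_ext (I.map (Ideal.Quotient.mk K)) fg'
      ((I.map (Ideal.Quotient.mk K)).map
      (algebraMap (A ⧸ K) (AdicCompletion (I.map (Ideal.Quotient.mk K)) (A ⧸ K)))) _ _ ?_ ?_).symm
    · intro i hi
      rw [RingHom.id_apply]
      have := Ideal.mem_map_of_mem (algebraMap (A ⧸ K)
        (AdicCompletion (I.map (Ideal.Quotient.mk K)) (A ⧸ K))) hi
      rwa [AdicCompletion.algebraMap_apply, Algebra.algebraMap_self, RingHom.id_apply] at this
    · intro b
      obtain ⟨a, rfl⟩ := Ideal.Quotient.mk_surjective b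
      rw [RingHom.id_apply, RingHom.comp_apply]
      change _ = Ψ₁' (Ψ₂ _)
      rw [hΨ₂, hψ₂]
      change _ = Ψ₁ (AdicCompletion.of I A a)
      rw [hΨ₁']
  refine ⟨RingEquiv.ofRingHom Ψ₁' Ψ₂.toRingHom h12 h21, ?_⟩
  intro a
  change Ψ₁ (algebraMap A (AdicCompletion I A) a) = _
  rw [AdicCompletion.algebraMap_apply, Algebra.algebraMap_self, RingHom.id_apply, hΨ₁',
    AdicCompletion.algebraMap_apply, Algebra.algebraMap_self, RingHom.id_apply]

end ComplQuotIso

end Groth.Agent.Lib.Helper28
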