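import Mathlib
import Groth.Agent.Lib.Helper28ComplQuot
import Groth.Prelude

/-!
# Transport of adic completions and equidimensionality along ring isomorphisms (helper28)

* `exists_ringEquiv_adicCompletion_of_ringEquiv`: a ring isomorphism `e : R ≃+* R'` with
  `e(I) = I'` induces `AdicCompletion I R ≃+* AdicCompletion I' R'`;
* `isEquidim_of_ringEquiv`.
-/
set_option autoImplicit false
universe u v
namespace Groth.Agent.Lib.Helper28

section ComplCongr

/-- A ring isomorphism matching the ideals induces an isomorphism of adic completions. -/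
theorem exists_ringEquiv_adicCompletion_of_ringEquiv {R : Type u} {R' : Type v} [CommRing R]
    [CommRing R'] (I : Ideal R) (I' : Ideal R') (fg : I.FG) (e : R ≃+* R')
    (h : I.map (e : R →+* R') = I') :
    ∃ ê : AdicCompletion I R ≃+* AdicCompletion I' R',
      ∀ r, ê (AdicCompletion.of I R r) = AdicCompletion.of I' R' (e r) := by
  have fg' : I'.FG := h ▸ fg.map _
  have h' : I'.map (e.symm : R' →+* R) = I := by
    rw [← h, Ideal.map_map]
    have : (e.symm : R' →+* R).comp (e : R →+* R') = RingHom.id R := by
      ext x; simp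
    rw [this, Ideal.map_id]
  have hc := AdicCompletion.isAdicComplete_self I fg
  have hc' := AdicCompletion.isAdicComplete_self I' fg'
  obtain ⟨Ψ₁, hΨ₁⟩ := Groth.Agent.Lib.Helper19.exists_algHom_adicCompletion (R := ℤ) (S := R)
    (T := AdicCompletion I' R') I (I'.map (algebraMap R' (AdicCompletion I' R')))
    (((algebraMap R' (AdicCompletion I' R')).comp (e : R →+* R')).toIntAlgHom) (by
      rw [Ideal.map_le_iff_le_comap]
      intro i hi
      rw [Ideal.mem_comap]
      change algebraMap R' (AdicCompletion I' R') (e i) ∈ _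
      refine Ideal.mem_map_of_mem _ ?_
      rw [← h]
      exact Ideal.mem_map_of_mem _ hi)
  obtain ⟨Ψ₂, hΨ₂⟩ := Groth.Agent.Lib.Helper19.exists_algHom_adicCompletion (R := ℤ) (S := R')
    (T := AdicCompletion I R) I' (I.map (algebraMap R (AdicCompletion I R)))
    (((algebraMap R (AdicCompletion I R)).comp (e.symm : R' →+* R)).toIntAlgHom) (by
      rw [Ideal.map_le_iff_le_comap]
      intro i hi
      rw [Ideal.mem_comap]
      change algebraMap R (AdicCompletion I R) (e.symm i) ∈ _
      refine Ideal.mem_map_of_mem _ ?_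
      rw [← h']
      exact Ideal.mem_map_of_mem _ hi)
  have hΨ₁' : ∀ r, Ψ₁ (AdicCompletion.of I R r) = AdicCompletion.of I' R' (e r) := by
    intro r
    rw [hΨ₁]
    change algebraMap R' (AdicCompletion I' R') (e r) = _
    rw [AdicCompletion.algebraMap_apply, Algebra.algebraMap_self, RingHom.id_apply]
  have hΨ₂' : ∀ r, Ψ₂ (AdicCompletion.of I' R' r) = AdicCompletion.of I R (e.symm r) := by
    intro r
    rw [hΨ₂]
    change algebraMap R (AdicCompletion I R) (e.symm r) = _
    rw [AdicCompletion.algebraMap_apply, Algebra.algebraMap_self, RingHom.id_apply]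
  have hmem : ∀ i ∈ I, AdicCompletion.of I R i ∈ I.map (algebraMap R (AdicCompletion I R)) := by
    intro i hi
    have := Ideal.mem_map_of_mem (algebraMap R (AdicCompletion I R)) hi
    rwa [AdicCompletion.algebraMap_apply, Algebra.algebraMap_self, RingHom.id_apply] at this
  have hmem' : ∀ i ∈ I', AdicCompletion.of I' R' i ∈
      I'.map (algebraMap R' (AdicCompletion I' R')) := by
    intro i hi
    have := Ideal.mem_map_of_mem (algebraMap R' (AdicCompletion I' R')) hi
    rwa [AdicCompletion.algebraMap_apply, Algebra.algebraMap_self, RingHom.id_apply] at this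
  have h21 : (Ψ₂.toRingHom.comp Ψ₁.toRingHom) = RingHom.id _ := by
    have hH : IsHausdorff (I.map (algebraMap R (AdicCompletion I R))) (AdicCompletion I R) :=
      inferInstance
    refine (adicCompletion_ringHom_ext I fg (I.map (algebraMap R (AdicCompletion I R)))
      _ _ ?_ ?_).symm
    · intro i hi
      rw [RingHom.id_apply]
      exact hmem i hi
    · intro r
      rw [RingHom.id_apply, RingHom.comp_apply]
      change _ = Ψ₂ (Ψ₁ _)
      rw [hΨ₁', hΨ₂', RingEquiv.symm_apply_apply]
  have h12 : (Ψ₁.toRingHom.comp Ψ₂.toRingHom) = RingHom.id _ := by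
    have hH : IsHausdorff (I'.map (algebraMap R' (AdicCompletion I' R'))) (AdicCompletion I' R') :=
      inferInstance
    refine (adicCompletion_ringHom_ext I' fg' (I'.map (algebraMap R' (AdicCompletion I' R')))
      _ _ ?_ ?_).symm
    · intro i hi
      rw [RingHom.id_apply]
      exact hmem' i hi
    · intro r
      rw [RingHom.id_apply, RingHom.comp_apply]
      change _ = Ψ₁ (Ψ₂ _)
      rw [hΨ₂', hΨ₁', RingEquiv.apply_symm_apply]
  exact ⟨RingEquiv.ofRingHom Ψ₁.toRingHom Ψ₂.toRingHom h12 h21, hΨ₁'⟩

/-- Equidimensionality is invariant under ring isomorphisms. -/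
theorem isEquidim_of_ringEquiv {R : Type u} {R' : Type v} [CommRing R] [CommRing R']
    (e : R ≃+* R') (h : EGA4.IsEquidim R) : EGA4.IsEquidim R' := by
  intro q hq
  have hq' : q.comap (e : R →+* R') ∈ minimalPrimes R := by
    have := Ideal.minimalPrimes_comap_of_surjective (f := (e : R →+* R')) e.surjective
      (I := ⊥) hq
    have hbot : Ideal.comap (e : R →+* R') ⊥ = ⊥ := by
      rw [← RingHom.ker_eq_comap_bot]
      exact (RingHom.injective_iff_ker_eq_bot _).mp e.injective
    rwa [hbot] at this
  have h1 := h _ hq'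
  rw [← ringKrullDim_eq_of_ringEquiv e, ← h1]
  exact (ringKrullDim_eq_of_ringEquiv (Ideal.quotientEquiv (q.comap (e : R →+* R')) q e
    (Ideal.map_comap_of_surjective (e : R →+* R') e.surjective q).symm)).symm

end ComplCongr

end Groth.Agent.Lib.Helper28
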