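import Groth.Prelude.Def_Found
import Mathlib.RingTheory.Spectrum.Prime.Topology
import Mathlib.Order.RelSeries
import Mathlib.Order.Cover

/-!
# helper13: transfer of `CAlg.IsCatenary` along order embeddings of prime spectra
-/

set_option autoImplicit false
universe u

namespace Groth.Agent.Helper13Cat

/-- Lift an `LTSeries` along an order embedding, provided all its members are in the range. -/
theorem exists_lift {α β : Type*} [PartialOrder α] [PartialOrder β] (e : α ↪o β)
    (s : LTSeries β) (h : ∀ i, s i ∈ Set.range e) :
    ∃ s' : LTSeries α, s'.map e e.strictMono = s := by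
  choose f hf using h
  have hstep : ∀ i : Fin s.length, f i.castSucc < f i.succ := by
    intro i
    rw [← e.lt_iff_lt, hf, hf]
    exact s.step i
  refine ⟨⟨s.length, f, hstep⟩, ?_⟩
  refine RelSeries.ext rfl ?_
  funext i
  exact hf i

/-- The order embedding of prime spectra induced by a ring map whose `comap` is a topological
embedding. -/
noncomputable def embOfIsEmbedding {A B : Type u} [CommRing A] [CommRing B] (f : A →+* B)
    (h : Topology.IsEmbedding (PrimeSpectrum.comap f)) : PrimeSpectrum B ↪o PrimeSpectrum A :=
  OrderEmbedding.ofMapLEIff (PrimeSpectrum.comap f) (fun p q => by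
    rw [PrimeSpectrum.le_iff_specializes, PrimeSpectrum.le_iff_specializes,
      h.isInducing.specializes_iff])

@[simp] theorem embOfIsEmbedding_apply {A B : Type u} [CommRing A] [CommRing B] (f : A →+* B)
    (h : Topology.IsEmbedding (PrimeSpectrum.comap f)) (p : PrimeSpectrum B) :
    embOfIsEmbedding f h p = PrimeSpectrum.comap f p := rfl

/-- Catenarity transfers backwards along an order embedding of spectra with order-connected
range. -/
theorem isCatenary_of_orderEmbedding {A B : Type u} [CommRing A] [CommRing B]
    (e : PrimeSpectrum B ↪o PrimeSpectrum A) (hconv : (Set.range e).OrdConnected)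
    (hA : CAlg.IsCatenary A) : CAlg.IsCatenary B := by
  obtain ⟨h1, h2⟩ := hA
  refine ⟨?_, ?_⟩
  · intro p q hpq
    obtain ⟨n, hn⟩ := h1 (e p) (e q) (e.monotone hpq)
    refine ⟨n, fun s hs ht => ?_⟩
    have := hn (s.map e e.strictMono) (by rw [LTSeries.head_map, hs])
      (by rw [LTSeries.last_map, ht])
    simpa using this
  · intro s t hst hst' hs ht
    have := h2 (s.map e e.strictMono) (t.map e e.strictMono)
      (by rw [LTSeries.head_map, LTSeries.head_map, hst])
      (by rw [LTSeries.last_map, LTSeries.last_map, hst'])
      (fun i => (hconv.apply_covBy_apply_iff e).mpr (hs i))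
      (fun i => (hconv.apply_covBy_apply_iff e).mpr (ht i))
    simpa using this

/-- A localization of a catenary ring is catenary. -/
theorem isCatenary_of_isLocalization (A : Type u) [CommRing A] (S : Submonoid A)
    (B : Type u) [CommRing B] [Algebra A B] [IsLocalization S B]
    (hA : CAlg.IsCatenary A) : CAlg.IsCatenary B := by
  refine isCatenary_of_orderEmbedding
    (embOfIsEmbedding (algebraMap A B) (PrimeSpectrum.localization_comap_isEmbedding B S)) ?_ hA
  have hr : Set.range (embOfIsEmbedding (algebraMap A B)
      (PrimeSpectrum.localization_comap_isEmbedding B S)) =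
      { p | Disjoint (S : Set A) p.asIdeal } := PrimeSpectrum.localization_comap_range B S
  rw [hr]
  refine ⟨fun x _ y hy z hz => ?_⟩
  exact Set.disjoint_of_subset_right (show (z.asIdeal : Set A) ⊆ y.asIdeal from hz.2) hy

/-- A quotient of a catenary ring is catenary; more generally the target of a surjection. -/
theorem isCatenary_of_surjective {A B : Type u} [CommRing A] [CommRing B] (f : A →+* B)
    (hf : Function.Surjective f) (hA : CAlg.IsCatenary A) : CAlg.IsCatenary B := by
  refine isCatenary_of_orderEmbedding
    (embOfIsEmbedding f (PrimeSpectrum.isClosedEmbedding_comap_of_surjective _ f hf).isEmbedding)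
    ?_ hA
  have hr : Set.range (embOfIsEmbedding f
      (PrimeSpectrum.isClosedEmbedding_comap_of_surjective _ f hf).isEmbedding) =
      PrimeSpectrum.zeroLocus (RingHom.ker f) := range_comap_of_surjective _ f hf
  rw [hr]
  refine ⟨fun x hx y _ z hz => ?_⟩
  rw [PrimeSpectrum.mem_zeroLocus] at hx ⊢
  exact hx.trans (show (x.asIdeal : Set A) ⊆ z.asIdeal from hz.1)

end Groth.Agent.Helper13Cat

namespace Groth.Agent.Helper13Cat

theorem le_last' {α : Type*} [Preorder α] (x : LTSeries α) (n : Fin (x.length + 1)) :
    x n ≤ x.last :=
  x.strictMono.monotone (Fin.le_last n)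

/-- Local-to-global: if every comparable pair of primes of `A` lies in the (order-connected) range of
an order embedding from the spectrum of a catenary ring, then `A` is catenary. -/
theorem isCatenary_of_cover {A : Type u} [CommRing A]
    (h : ∀ P Q : PrimeSpectrum A, P ≤ Q → ∃ (B : Type u) (_ : CommRing B)
      (e : PrimeSpectrum B ↪o PrimeSpectrum A), (Set.range e).OrdConnected ∧ CAlg.IsCatenary B ∧
        P ∈ Set.range e ∧ Q ∈ Set.range e) : CAlg.IsCatenary A := by
  refine ⟨?_, ?_⟩
  · intro P Q hPQ
    obtain ⟨B, _, e, hconv, hB, ⟨P', rfl⟩, ⟨Q', rfl⟩⟩ := h P Q hPQ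
    obtain ⟨n, hn⟩ := hB.1 P' Q' (e.le_iff_le.mp hPQ)
    refine ⟨n, fun s hs ht => ?_⟩
    have hmem : ∀ i, s i ∈ Set.range e := by
      intro i
      refine hconv.out ⟨P', rfl⟩ ⟨Q', rfl⟩ ⟨?_, ?_⟩
      · rw [← hs]; exact LTSeries.head_le s i
      · rw [← ht]; exact le_last' s i
    obtain ⟨s', rfl⟩ := exists_lift e s hmem
    have := hn s' (e.injective (by simpa using hs)) (e.injective (by simpa using ht))
    simpa using this
  · intro s t hst hst' hs ht
    have hPQ : s.head ≤ s.last := LTSeries.head_le_last s
    obtain ⟨B, _, e, hconv, hB, ⟨P', hP'⟩, ⟨Q', hQ'⟩⟩ := h s.head s.last hPQ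
    have hmems : ∀ i, s i ∈ Set.range e := by
      intro i
      refine hconv.out ⟨P', hP'⟩ ⟨Q', hQ'⟩ ⟨LTSeries.head_le s i, le_last' s i⟩
    have hmemt : ∀ i, t i ∈ Set.range e := by
      intro i
      refine hconv.out ⟨P', hP'⟩ ⟨Q', hQ'⟩ ⟨?_, ?_⟩
      · rw [hst]; exact LTSeries.head_le t i
      · rw [hst']; exact le_last' t i
    obtain ⟨s', rfl⟩ := exists_lift e s hmems
    obtain ⟨t', rfl⟩ := exists_lift e t hmemt
    have := hB.2 s' t' (e.injective (by simpa using hst)) (e.injective (by simpa using hst'))
      (fun i => (hconv.apply_covBy_apply_iff e).mp (hs i))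
      (fun i => (hconv.apply_covBy_apply_iff e).mp (ht i))
    simpa using this

/-- Range of the spectrum embedding of a localization is order connected (a lower set). -/
theorem ordConnected_range_localization (A : Type u) [CommRing A] (S : Submonoid A)
    (B : Type u) [CommRing B] [Algebra A B] [IsLocalization S B] :
    (Set.range (embOfIsEmbedding (algebraMap A B)
      (PrimeSpectrum.localization_comap_isEmbedding B S))).OrdConnected := by
  have hr : Set.range (embOfIsEmbedding (algebraMap A B)
      (PrimeSpectrum.localization_comap_isEmbedding B S)) =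
      { p | Disjoint (S : Set A) p.asIdeal } := PrimeSpectrum.localization_comap_range B S
  rw [hr]
  refine ⟨fun x _ y hy z hz => ?_⟩
  exact Set.disjoint_of_subset_right (show (z.asIdeal : Set A) ⊆ y.asIdeal from hz.2) hy

theorem mem_range_localization_iff (A : Type u) [CommRing A] (S : Submonoid A)
    (B : Type u) [CommRing B] [Algebra A B] [IsLocalization S B] (P : PrimeSpectrum A) :
    P ∈ Set.range (embOfIsEmbedding (algebraMap A B)
      (PrimeSpectrum.localization_comap_isEmbedding B S)) ↔ Disjoint (S : Set A) P.asIdeal := by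
  have hr : Set.range (embOfIsEmbedding (algebraMap A B)
      (PrimeSpectrum.localization_comap_isEmbedding B S)) =
      { p | Disjoint (S : Set A) p.asIdeal } := PrimeSpectrum.localization_comap_range B S
  rw [hr]
  rfl

/-- Range of the spectrum embedding of a surjection is order connected (an upper set). -/
theorem ordConnected_range_surjective {A B : Type u} [CommRing A] [CommRing B] (f : A →+* B)
    (hf : Function.Surjective f) :
    (Set.range (embOfIsEmbedding f
      (PrimeSpectrum.isClosedEmbedding_comap_of_surjective _ f hf).isEmbedding)).OrdConnected := by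
  have hr : Set.range (embOfIsEmbedding f
      (PrimeSpectrum.isClosedEmbedding_comap_of_surjective _ f hf).isEmbedding) =
      PrimeSpectrum.zeroLocus (RingHom.ker f) := range_comap_of_surjective _ f hf
  rw [hr]
  refine ⟨fun x hx y _ z hz => ?_⟩
  rw [PrimeSpectrum.mem_zeroLocus] at hx ⊢
  exact hx.trans (show (x.asIdeal : Set A) ⊆ z.asIdeal from hz.1)

theorem mem_range_surjective_iff {A B : Type u} [CommRing A] [CommRing B] (f : A →+* B)
    (hf : Function.Surjective f) (P : PrimeSpectrum A) :
    P ∈ Set.range (embOfIsEmbedding f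
      (PrimeSpectrum.isClosedEmbedding_comap_of_surjective _ f hf).isEmbedding) ↔
      RingHom.ker f ≤ P.asIdeal := by
  have hr : Set.range (embOfIsEmbedding f
      (PrimeSpectrum.isClosedEmbedding_comap_of_surjective _ f hf).isEmbedding) =
      PrimeSpectrum.zeroLocus (RingHom.ker f) := range_comap_of_surjective _ f hf
  rw [hr, PrimeSpectrum.mem_zeroLocus]
  rfl

end Groth.Agent.Helper13Cat
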