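import Groth.Agent.Lib.Helper28FibreTrans

/-!
# Cohen–Macaulay rings are catenary; regular local rings are normal (helper28)

* `ringKrullDim_eq_quotient_add_height_of_isCohenMacaulayModule`: `dim R = dim R/p + ht p` for a
  local ring with a Cohen–Macaulay module of full support;
* `height_eq_succ_of_covBy`, `height_map_mk_eq_one_of_covBy`;
* `height_last_eq_head_add_length_of_saturated`, `isCatenary_of_height_step`;
* `isCatenary_of_isCohenMacaulayModule`, `isCatenary_of_isCohenMacaulayLocalRing`,
  `isCatenary_of_isCohenMacaulayRing`, `length_eq_ringKrullDim_of_isCohenMacaulayModule`;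
* `isIntegrallyClosed_of_isRegularLocalRing`.
-/
set_option autoImplicit false
universe u v w u' v'

namespace Groth.Agent.Lib.Helper28
open RingTheory.Sequence CategoryTheory Abelian TensorProduct
open scoped Pointwise

section FullSupport

variable {R : Type u} [CommRing R] {M : Type v} [AddCommGroup M] [Module R M]

theorem supportDim_eq_ringKrullDim_of_support_eq_univ (h : Module.support R M = Set.univ) :
    Module.supportDim R M = ringKrullDim R := by
  unfold Module.supportDim ringKrullDim
  rw [h]
  exact Order.krullDim_eq_of_orderIso OrderIso.Set.univ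

theorem support_localizedModule_eq_univ (h : Module.support R M = Set.univ) (p : Ideal R)
    [p.IsPrime] :
    Module.support (Localization.AtPrime p) (LocalizedModule p.primeCompl M) = Set.univ := by
  ext q'
  rw [mem_support_isLocalizedModule_iff p.primeCompl (Localization.AtPrime p)
    (LocalizedModule.mkLinearMap p.primeCompl M), h]
  simp

end FullSupport

section K1

variable {R : Type u} [CommRing R] [IsNoetherianRing R] [IsLocalRing R]
  {M : Type u} [AddCommGroup M] [Module R M] [Module.Finite R M]

/-- For a local ring with a Cohen–Macaulay module of full support: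
`dim R = dim R/p + ht p` for every prime `p`. -/
theorem ringKrullDim_eq_quotient_add_height_of_isCohenMacaulayModule
    (hM : LocCoh.IsCohenMacaulayModule R M) (hsupp : Module.support R M = Set.univ)
    (p : Ideal R) [hp : p.IsPrime] :
    ringKrullDim R = ringKrullDim (R ⧸ p) + ((p.height : ℕ∞) : WithBot ℕ∞) := by
  have hmem : (⟨p, hp⟩ : PrimeSpectrum R) ∈ Module.support R M := by rw [hsupp]; trivial
  have h := supportDim_eq_add_localization_of_isCohenMacaulayModule hM ⟨p, hp⟩ hmem
  rw [supportDim_eq_ringKrullDim_of_support_eq_univ hsupp,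
    supportDim_quotient_prime_smul_top ⟨p, hp⟩ hmem,
    supportDim_eq_ringKrullDim_of_support_eq_univ (support_localizedModule_eq_univ hsupp p),
    IsLocalization.AtPrime.ringKrullDim_eq_height p (Localization.AtPrime p)] at h
  exact h

end K1

section Cov

variable {R : Type u} [CommRing R]

/-- If `p ⋖ q` in the prime spectrum then the image of `q` in `R/p` has height one. -/
theorem height_map_mk_eq_one_of_covBy {p q : PrimeSpectrum R} (hcov : p ⋖ q) :
    (q.asIdeal.map (Ideal.Quotient.mk p.asIdeal)).height = 1 := by
  have hpq : p.asIdeal ≤ q.asIdeal := hcov.1.le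
  have hprime : (q.asIdeal.map (Ideal.Quotient.mk p.asIdeal)).IsPrime :=
    Ideal.map_isPrime_of_surjective Ideal.Quotient.mk_surjective (by rwa [Ideal.mk_ker])
  have hdom : IsDomain (R ⧸ p.asIdeal) := Ideal.Quotient.isDomain _
  apply le_antisymm
  · have : (q.asIdeal.map (Ideal.Quotient.mk p.asIdeal)).height ≤ ((1 : ℕ) : ℕ∞) := by
      rw [Ideal.height_le_iff]
      intro a ha halt
      -- `a` corresponds to a prime between `p` and `q`
      let a' : PrimeSpectrum R := ⟨a.comap (Ideal.Quotient.mk p.asIdeal), Ideal.comap_isPrime _ _⟩
      have hpa : p ≤ a' := by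
        intro x hx
        change Ideal.Quotient.mk p.asIdeal x ∈ a
        rw [Ideal.Quotient.eq_zero_iff_mem.mpr hx]
        exact a.zero_mem
      have haq : a' < q := by
        have hcomap : (q.asIdeal.map (Ideal.Quotient.mk p.asIdeal)).comap
            (Ideal.Quotient.mk p.asIdeal) = q.asIdeal := by
          rw [Ideal.comap_map_of_surjective _ Ideal.Quotient.mk_surjective,
            ← RingHom.ker_eq_comap_bot, Ideal.mk_ker, sup_eq_left]
          exact hpq
        refine lt_of_le_of_ne ?_ ?_
        · change a.comap _ ≤ q.asIdeal
          rw [← hcomap]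
          exact Ideal.comap_mono halt.le
        · intro heq
          apply halt.ne
          have h1 : a'.asIdeal = q.asIdeal := congrArg PrimeSpectrum.asIdeal heq
          rw [← Ideal.map_comap_of_surjective _ Ideal.Quotient.mk_surjective a]
          change Ideal.map _ a'.asIdeal = _
          rw [h1]
      have hap : a' = p := by
        by_contra hne
        exact hcov.2 (lt_of_le_of_ne hpa (Ne.symm hne)) haq
      have habot : a = ⊥ := by
        rw [← Ideal.map_comap_of_surjective _ Ideal.Quotient.mk_surjective a]
        change Ideal.map _ a'.asIdeal = _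
        rw [hap, Ideal.map_quotient_self]
      rw [habot, Ideal.height_bot]
      exact Nat.cast_pos.mpr one_pos
    simpa using this
  · rw [Order.one_le_iff_pos, pos_iff_ne_zero]
    intro h0
    rw [Ideal.height_eq_zero_iff_eq_bot] at h0
    have : q.asIdeal ≤ p.asIdeal := by
      intro x hx
      have : Ideal.Quotient.mk p.asIdeal x ∈ q.asIdeal.map (Ideal.Quotient.mk p.asIdeal) :=
        Ideal.mem_map_of_mem _ hx
      rw [h0, Ideal.mem_bot] at this
      exact Ideal.Quotient.eq_zero_iff_mem.mp this
    exact absurd (lt_of_lt_of_le hcov.1 this) (lt_irrefl _)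

end Cov

section K2

variable {R : Type u} [CommRing R] [IsNoetherianRing R]
  {M : Type u} [AddCommGroup M] [Module R M] [Module.Finite R M]

/-- If `M` has full support and is Cohen–Macaulay at every prime, then `ht q = ht p + 1` for
`p ⋖ q`. -/
theorem height_eq_succ_of_covBy (hsupp : Module.support R M = Set.univ)
    (hM : ∀ (q : Ideal R) [q.IsPrime], LocCoh.IsCohenMacaulayModule (Localization.AtPrime q)
      (LocalizedModule q.primeCompl M)) {p q : PrimeSpectrum R} (hcov : p ⋖ q) :
    q.asIdeal.height = p.asIdeal.height + 1 := by
  have hq : q.asIdeal.IsPrime := q.2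
  have hp : p.asIdeal.IsPrime := p.2
  have hpq : p.asIdeal ≤ q.asIdeal := hcov.1.le
  obtain ⟨hp', hcomap⟩ := isPrime_map_and_comap_map_of_le q.asIdeal hpq
  have K := ringKrullDim_eq_quotient_add_height_of_isCohenMacaulayModule
    (R := Localization.AtPrime q.asIdeal) (M := LocalizedModule q.asIdeal.primeCompl M)
    (hM q.asIdeal) (support_localizedModule_eq_univ hsupp q.asIdeal)
    (p.asIdeal.map (algebraMap R (Localization.AtPrime q.asIdeal)))
  rw [IsLocalization.AtPrime.ringKrullDim_eq_height q.asIdeal (Localization.AtPrime q.asIdeal),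
    ringKrullDim_localization_quotient_eq_height p.asIdeal q.asIdeal hpq,
    height_map_mk_eq_one_of_covBy hcov,
    ← IsLocalization.height_under q.asIdeal.primeCompl
      (p.asIdeal.map (algebraMap R (Localization.AtPrime q.asIdeal))), Ideal.under_def,
    hcomap] at K
  have K' : ((q.asIdeal.height : ℕ∞) : WithBot ℕ∞) = ((1 + p.asIdeal.height : ℕ∞) : WithBot ℕ∞) := by
    rw [K]; rfl
  rw [WithBot.coe_injective K', add_comm]

end K2

section Chain

variable {R : Type u} [CommRing R]

/-- Along a saturated chain of primes, heights increase by one at each step (given the step rule). -/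
theorem height_eq_head_add_of_saturated
    (hstep : ∀ {p q : PrimeSpectrum R}, p ⋖ q → q.asIdeal.height = p.asIdeal.height + 1)
    (s : LTSeries (PrimeSpectrum R))
    (hsat : ∀ i : Fin s.length, s (Fin.castSucc i) ⋖ s (Fin.succ i)) :
    ∀ (i : ℕ) (hi : i < s.length + 1),
      (s ⟨i, hi⟩).asIdeal.height = s.head.asIdeal.height + i := by
  intro i
  induction i with
  | zero => intro hi; simp [RelSeries.head]
  | succ i ih =>
    intro hi
    have hi' : i < s.length := by omega
    have h1 := hstep (hsat ⟨i, hi'⟩)
    have h2 := ih (by omega)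
    have e1 : (Fin.succ (⟨i, hi'⟩ : Fin s.length)) = ⟨i + 1, hi⟩ := rfl
    have e2 : (Fin.castSucc (⟨i, hi'⟩ : Fin s.length)) = ⟨i, by omega⟩ := rfl
    rw [e1, e2, h2] at h1
    rw [h1]
    push_cast
    ring

theorem height_last_eq_head_add_length_of_saturated
    (hstep : ∀ {p q : PrimeSpectrum R}, p ⋖ q → q.asIdeal.height = p.asIdeal.height + 1)
    (s : LTSeries (PrimeSpectrum R))
    (hsat : ∀ i : Fin s.length, s (Fin.castSucc i) ⋖ s (Fin.succ i)) :
    s.last.asIdeal.height = s.head.asIdeal.height + s.length :=
  height_eq_head_add_of_saturated hstep s hsat s.length (by omega)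

/-- A Noetherian ring in which heights increase by one along covering pairs of primes is catenary. -/
theorem isCatenary_of_height_step [IsNoetherianRing R]
    (hstep : ∀ {p q : PrimeSpectrum R}, p ⋖ q → q.asIdeal.height = p.asIdeal.height + 1) :
    CAlg.IsCatenary R := by
  constructor
  · intro p q hpq
    have hq : q.asIdeal.IsPrime := q.2
    have hfin : q.asIdeal.height ≠ ⊤ := Ideal.height_ne_top_of_isPrime
    obtain ⟨n, hn⟩ := ENat.ne_top_iff_exists.mp hfin
    refine ⟨n, fun s _ hlast => ?_⟩
    have h := Order.length_le_height_last (p := s)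
    rw [hlast, ← PrimeSpectrum.height_eq_orderHeight, ← hn] at h
    exact_mod_cast h
  · intro s t hhead hlast hs ht
    have h1 := height_last_eq_head_add_length_of_saturated hstep s hs
    have h2 := height_last_eq_head_add_length_of_saturated hstep t ht
    rw [hhead, hlast, h2] at h1
    have hp : t.head.asIdeal.IsPrime := t.head.2
    have hfin : t.head.asIdeal.height ≠ ⊤ := Ideal.height_ne_top_of_isPrime
    have := (ENat.add_right_injective_of_ne_top hfin) h1
    exact_mod_cast this.symm

end Chain

section Corollaries

variable {R : Type u} [CommRing R] [IsNoetherianRing R]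

/-- Covering step rule for a local ring with a Cohen–Macaulay module of full support. -/
theorem height_eq_succ_of_covBy_of_isCohenMacaulayModule [IsLocalRing R]
    {M : Type u} [AddCommGroup M] [Module R M] [Module.Finite R M]
    (hM : LocCoh.IsCohenMacaulayModule R M) (hsupp : Module.support R M = Set.univ)
    {p q : PrimeSpectrum R} (hcov : p ⋖ q) :
    q.asIdeal.height = p.asIdeal.height + 1 := by
  refine height_eq_succ_of_covBy (M := M) hsupp ?_ hcov
  intro q' hq'
  exact isCohenMacaulayModule_localization hM ⟨q', hq'⟩ (by rw [hsupp]; trivial)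

/-- A local ring with a finite Cohen–Macaulay module of full support is catenary. -/
theorem isCatenary_of_isCohenMacaulayModule [IsLocalRing R]
    {M : Type u} [AddCommGroup M] [Module R M] [Module.Finite R M]
    (hM : LocCoh.IsCohenMacaulayModule R M) (hsupp : Module.support R M = Set.univ) :
    CAlg.IsCatenary R :=
  isCatenary_of_height_step (fun hcov => height_eq_succ_of_covBy_of_isCohenMacaulayModule hM hsupp hcov)

omit [IsNoetherianRing R] in
theorem support_self_eq_univ [Nontrivial R] : Module.support R R = Set.univ := by
  rw [Module.support_eq_zeroLocus, Module.annihilator_eq_bot.mpr inferInstance]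
  simp

end Corollaries

section Corollaries2

variable {R : Type u} [CommRing R]

/-- A Cohen–Macaulay local ring is catenary. -/
theorem isCatenary_of_isCohenMacaulayLocalRing [hR : LocCoh.IsCohenMacaulayLocalRing R] :
    CAlg.IsCatenary R :=
  isCatenary_of_isCohenMacaulayModule (M := R) hR.supportDim_eq_depth support_self_eq_univ

/-- A Cohen–Macaulay ring is catenary. -/
theorem isCatenary_of_isCohenMacaulayRing [hR : LocCoh.IsCohenMacaulayRing R] :
    CAlg.IsCatenary R := by
  rcases subsingleton_or_nontrivial R with hs | hn
  · refine ⟨fun p => ?_, fun s => ?_⟩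
    · exact absurd p.2.ne_top (by rw [Ne, not_not]; exact Subsingleton.elim _ _)
    · exact absurd s.head.2.ne_top (by rw [Ne, not_not]; exact Subsingleton.elim _ _)
  · apply isCatenary_of_height_step
    intro p q hcov
    refine height_eq_succ_of_covBy (M := R) support_self_eq_univ ?_ hcov
    intro q' hq'
    have h := (hR.isCohenMacaulayLocalRing_localization q').supportDim_eq_depth
    unfold LocCoh.IsCohenMacaulayModule
    rw [Module.supportDim_eq_of_equiv (localizedModuleSelfEquiv q'), depth_localizedModule_self]
    exact h

end Corollaries2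


section MaxChain

/-- Maximal chains in a local ring with a Cohen–Macaulay module of full support have length
`dim R`. -/
theorem length_eq_ringKrullDim_of_isCohenMacaulayModule {R M : Type u} [CommRing R] [IsLocalRing R]
    [IsNoetherianRing R]
    [AddCommGroup M] [Module R M] [Module.Finite R M] (hM : LocCoh.IsCohenMacaulayModule R M)
    (hsupp : Module.support R M = Set.univ) (s : LTSeries (PrimeSpectrum R))
    (hhead : s.head.asIdeal ∈ minimalPrimes R) (hlast : s.last.asIdeal = IsLocalRing.maximalIdeal R)
    (hsat : ∀ i : Fin s.length, s (Fin.castSucc i) ⋖ s (Fin.succ i)) :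
    (s.length : WithBot ℕ∞) = ringKrullDim R := by
  have h := height_last_eq_head_add_length_of_saturated
    (fun hcov => height_eq_succ_of_covBy_of_isCohenMacaulayModule hM hsupp hcov) s hsat
  have hp : s.head.asIdeal.IsPrime := s.head.2
  rw [hlast, Ideal.height_eq_zero_iff.mpr hhead, zero_add] at h
  rw [← IsLocalRing.maximalIdeal_height_eq_ringKrullDim, h]
  rfl

end MaxChain

section RLRNormal

open IsLocalRing

/-- A regular local ring is integrally closed (by induction on the dimension). -/
theorem isIntegrallyClosed_of_isRegularLocalRing_aux (d : ℕ) :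
    ∀ (R : Type u) [CommRing R] [IsRegularLocalRing R], ringKrullDim R = d →
      IsIntegrallyClosed R := by
  induction d with
  | zero =>
    intro R _ _ hd
    have hdom : IsDomain R := Groth.Agent.Lib.Helper5.isDomain_of_isRegularLocalRing R
    have hfield : IsField R := by
      have : Ring.KrullDimLE 0 R := by
        rw [Ring.krullDimLE_iff, hd]
      exact Ring.KrullDimLE.isField_of_isDomain
    let _ : Field R := hfield.toField
    infer_instance
  | succ d ih =>
    intro R _ _ hd
    have hdim : ringKrullDim R ≠ 0 := by
      rw [hd]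
      intro h
      have : (d + 1 : ℕ) = 0 := by exact_mod_cast h
      omega
    obtain ⟨x, hx, hx2, hxmin⟩ :=
      Groth.Agent.Lib.Helper5.exists_mem_maximalIdeal_not_mem_sq_not_mem_minimalPrimes hdim
    have hxle : Ideal.span ({x} : Set R) ≤ maximalIdeal R := by
      rw [Ideal.span_le, Set.singleton_subset_iff]; exact hx
    have hloc : IsLocalRing (R ⧸ Ideal.span ({x} : Set R)) :=
      Groth.Agent.Lib.Helper5.isLocalRing_quotient
        (fun h => (maximalIdeal.isMaximal R).ne_top (top_le_iff.mp (h ▸ hxle)))
    obtain ⟨hreg, hdimq⟩ := Groth.Agent.Lib.Helper5.isRegularLocalRing_quotient_span_singleton hx hx2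
    have hdq : ringKrullDim (R ⧸ Ideal.span ({x} : Set R)) = d := by
      obtain ⟨d', hd'⟩ := Groth.Agent.Lib.Helper5.exists_nat_ringKrullDim_eq
        (R ⧸ Ideal.span ({x} : Set R))
      rw [hd', hd] at hdimq
      have : d' + 1 = d + 1 := by exact_mod_cast hdimq
      rw [hd']
      have : d' = d := by omega
      exact_mod_cast this
    have hdomq : IsDomain (R ⧸ Ideal.span ({x} : Set R)) :=
      Groth.Agent.Lib.Helper5.isDomain_of_isRegularLocalRing _
    have hicq : IsIntegrallyClosed (R ⧸ Ideal.span ({x} : Set R)) := ih _ hdq
    have hdom : IsDomain R := Groth.Agent.Lib.Helper5.isDomain_of_isRegularLocalRing R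
    have hCM : LocCoh.IsCohenMacaulayLocalRing R :=
      Groth.Agent.Lib.Helper5.isCohenMacaulayLocalRing_of_isRegularLocalRing R
    have hcat : CAlg.IsCatenary R := isCatenary_of_isCohenMacaulayLocalRing
    have hx0 : x ≠ 0 := by
      intro h0
      apply hx2
      rw [h0]
      exact Ideal.zero_mem _
    have hreg' : x ∈ nonZeroDivisors R := mem_nonZeroDivisors_of_ne_zero hx0
    exact (isDomain_and_isIntegrallyClosed_of_quotient_span_singleton hcat x hx hreg').2

theorem isIntegrallyClosed_of_isRegularLocalRing (R : Type u) [CommRing R] [IsRegularLocalRing R] :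
    IsIntegrallyClosed R := by
  obtain ⟨d, hd⟩ := Groth.Agent.Lib.Helper5.exists_nat_ringKrullDim_eq R
  exact isIntegrallyClosed_of_isRegularLocalRing_aux d R hd

end RLRNormal

end Groth.Agent.Lib.Helper28
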