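import Groth.Agent.Lib.Helper28DepthFlat2
import Mathlib.RingTheory.Flat.FaithfullyFlat.Algebra
import Mathlib.RingTheory.Flat.Localization

/-!
# Depth library, part 14 (helper28): descent along faithfully flat maps (Noetherianity, `(S_k)`),
minimal primes over `p S` for flat `R → S`: `S_q` and `R_p` have equal depth and dimension.
-/

set_option autoImplicit false
universe u u' v w
open RingTheory.Sequence TensorProduct
open scoped Pointwise

namespace Groth.Agent.Lib.Helper28

section FFDescent

variable {R : Type u} {S : Type u'} [CommRing R] [CommRing S] [Algebra R S]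

/-- Noetherianity descends along faithfully flat ring maps. -/
theorem isNoetherianRing_of_faithfullyFlat [Module.FaithfullyFlat R S] [IsNoetherianRing S] :
    IsNoetherianRing R := by
  have hmono : StrictMono (fun I : Ideal R => I.map (algebraMap R S)) :=
    Monotone.strictMono_of_injective (fun _ _ h => Ideal.map_mono h)
      Ideal.map_injective_of_faithfullyFlat
  have hwf : WellFoundedGT (Ideal S) := (isNoetherian_iff' (R := S) (M := S)).mp inferInstance
  have : WellFoundedGT (Ideal R) := hmono.wellFoundedGT
  exact (isNoetherian_iff' (R := R) (M := R)).mpr this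

/-- For a flat ring map, a minimal prime over `p S` lies over `p`. -/
theorem under_eq_of_mem_minimalPrimes_map [Module.Flat R S] (p : Ideal R) [p.IsPrime]
    (q : Ideal S) (hq : q ∈ (p.map (algebraMap R S)).minimalPrimes) : q.under R = p := by
  have hqprime : q.IsPrime := hq.1.1
  have hle : p ≤ q.under R := Ideal.map_le_iff_le_comap.mp hq.1.2
  by_contra hne
  have hlt : p < q.under R := lt_of_le_of_ne hle (Ne.symm hne)
  obtain ⟨P, hPq, hPprime, hPlies⟩ :=
    Algebra.HasGoingDown.exists_ideal_le_liesOver_of_lt (p := p) q hlt
  have hpP : p.map (algebraMap R S) ≤ P := by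
    rw [Ideal.map_le_iff_le_comap]
    exact le_of_eq hPlies.over
  have hqP : q ≤ P := hq.2 ⟨hPprime, hpP⟩ hPq
  have : P = q := le_antisymm hPq hqP
  subst this
  exact hne hPlies.over.symm

end FFDescent

section FlatMinimal

variable {R S : Type u} [CommRing R] [CommRing S] [Algebra R S] [IsNoetherianRing R]
  [IsNoetherianRing S] [Module.Flat R S]

/-- For a flat map of Noetherian rings and `q` minimal over `p S`: `S_q` and `R_p` have the same
depth and the same dimension. -/
theorem depth_height_localization_eq_of_mem_minimalPrimes_map (p : Ideal R) [p.IsPrime]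
    (q : Ideal S) [q.IsPrime] (hq : q ∈ (p.map (algebraMap R S)).minimalPrimes) :
    LocCoh.depth (Localization.AtPrime q) (Localization.AtPrime q) =
        LocCoh.depth (Localization.AtPrime p) (Localization.AtPrime p) ∧
      q.height = p.height := by
  have hlies : q.LiesOver p := ⟨(under_eq_of_mem_minimalPrimes_map p q hq).symm⟩
  let _ := Localization.AtPrime.algebraOfLiesOver p q
  have hloc : IsLocalHom (algebraMap (Localization.AtPrime p) (Localization.AtPrime q)) := by
    rw [RingHom.algebraMap_toAlgebra]
    exact Localization.isLocalHom_localRingHom p q (algebraMap R S) Ideal.LiesOver.over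
  have hmapeq : (IsLocalRing.maximalIdeal (Localization.AtPrime p)).map
      (algebraMap (Localization.AtPrime p) (Localization.AtPrime q)) =
      (p.map (algebraMap R S)).map (algebraMap S (Localization.AtPrime q)) := by
    rw [← IsLocalization.AtPrime.map_eq_maximalIdeal p (Localization.AtPrime p), Ideal.map_map,
      Ideal.map_map]
    congr 1
    ext x
    simp only [RingHom.comp_apply]
    rw [RingHom.algebraMap_toAlgebra, Localization.localRingHom_to_map]
  have hmin : IsLocalRing.maximalIdeal (Localization.AtPrime q) ∈
      ((IsLocalRing.maximalIdeal (Localization.AtPrime p)).map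
        (algebraMap (Localization.AtPrime p) (Localization.AtPrime q))).minimalPrimes := by
    rw [hmapeq, IsLocalization.minimalPrimes_map q.primeCompl (Localization.AtPrime q),
      Set.mem_preimage, IsLocalization.AtPrime.under_maximalIdeal (Localization.AtPrime q) q]
    exact hq
  have hJ := IsLocalRing.map_maximalIdeal_le
    (algebraMap (Localization.AtPrime p) (Localization.AtPrime q))
  constructor
  · have hdepth := depth_eq_depth_add_depth_fibre (R := Localization.AtPrime p)
      (S := Localization.AtPrime q)
    rw [depth_quotient_eq_zero_of_mem_minimalPrimes _ hmin, add_zero] at hdepth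
    exact hdepth
  · have hadd := height_maximalIdeal_eq_add (R := Localization.AtPrime p)
      (S := Localization.AtPrime q)
    rw [(height_map_mk_eq_zero_iff _ hJ).mpr hmin, add_zero] at hadd
    have h1 := IsLocalization.AtPrime.ringKrullDim_eq_height p (Localization.AtPrime p)
    have h2 := IsLocalization.AtPrime.ringKrullDim_eq_height q (Localization.AtPrime q)
    rw [← IsLocalRing.maximalIdeal_height_eq_ringKrullDim, WithBot.coe_inj] at h1 h2
    rw [← h1, ← h2, hadd]

end FlatMinimal

section SkDescent

variable {R S : Type u} [CommRing R] [CommRing S] [Algebra R S]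

/-- `(S_k)` descends along faithfully flat maps. -/
theorem hasSk_of_faithfullyFlat [Module.FaithfullyFlat R S] [IsNoetherianRing S] (k : ℕ)
    (hS : LocCoh.HasSk k S S) : LocCoh.HasSk k R R := by
  have hnoeth : IsNoetherianRing R := isNoetherianRing_of_faithfullyFlat (R := R) (S := S)
  intro p hp
  have hne : p.map (algebraMap R S) ≠ ⊤ := by
    intro h
    have := Ideal.comap_map_eq_self_of_faithfullyFlat (B := S) p
    rw [h, Ideal.comap_top] at this
    exact hp.ne_top this.symm
  obtain ⟨q, hq⟩ := Ideal.nonempty_minimalPrimes hne
  have hqprime : q.IsPrime := hq.1.1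
  obtain ⟨hdepth, hht⟩ := depth_height_localization_eq_of_mem_minimalPrimes_map p q hq
  have hSq := hS q
  rw [Module.supportDim_eq_of_equiv (localizedModuleSelfEquiv q), supportDim_localization_self,
    depth_localizedModule_self] at hSq
  rw [Module.supportDim_eq_of_equiv (localizedModuleSelfEquiv p), supportDim_localization_self,
    depth_localizedModule_self, ← hdepth, ← hht]
  exact hSq

end SkDescent

end Groth.Agent.Lib.Helper28
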