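import Groth.Agent.Lib.Helper28ProjNormal

/-!
# Helper28Equidim: equidimensional catenary Noetherian local rings: `ht p + dim A/p = dim A`,
heights grow by one along covers, hyperplane section inequality.
-/

set_option autoImplicit false
universe u v w u' v'

namespace Groth.Agent.Lib.Helper28
open RingTheory.Sequence CategoryTheory Abelian TensorProduct
open scoped Pointwise

section EquidimCatenary

variable {A : Type u} [CommRing A] [IsLocalRing A] [IsNoetherianRing A]

/-- Along a saturated chain in a catenary Noetherian local ring the dimension of the quotient drops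
by one at each step. -/
theorem ringKrullDim_quotient_head_eq_add_of_saturated (hc : CAlg.IsCatenary A)
    (s : LTSeries (PrimeSpectrum A))
    (hsat : ∀ i : Fin s.length, s (Fin.castSucc i) ⋖ s (Fin.succ i)) :
    ∀ (i : ℕ) (hi : i < s.length + 1),
      ringKrullDim (A ⧸ s.head.asIdeal) = ringKrullDim (A ⧸ (s ⟨i, hi⟩).asIdeal) + i := by
  intro i
  induction i with
  | zero => intro hi; rw [Nat.cast_zero, add_zero]; rfl
  | succ i ih =>
    intro hi
    have hi' : i < s.length := by omega
    have h1 := ringKrullDim_quotient_eq_add_one_of_covBy hc (hsat ⟨i, hi'⟩)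
    have h2 := ih (by omega)
    have e1 : (Fin.succ (⟨i, hi'⟩ : Fin s.length)) = ⟨i + 1, hi⟩ := rfl
    have e2 : (Fin.castSucc (⟨i, hi'⟩ : Fin s.length)) = ⟨i, by omega⟩ := rfl
    rw [e1, e2] at h1
    rw [h2, h1]
    push_cast
    rw [add_assoc, add_comm (1 : WithBot ℕ∞)]

theorem ringKrullDim_quotient_head_eq_last_add_length (hc : CAlg.IsCatenary A)
    (s : LTSeries (PrimeSpectrum A))
    (hsat : ∀ i : Fin s.length, s (Fin.castSucc i) ⋖ s (Fin.succ i)) :
    ringKrullDim (A ⧸ s.head.asIdeal) = ringKrullDim (A ⧸ s.last.asIdeal) + s.length :=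
  ringKrullDim_quotient_head_eq_add_of_saturated hc s hsat s.length (by omega)

/-- In an equidimensional catenary Noetherian local ring, `ht p + dim A/p = dim A`. -/
theorem height_add_ringKrullDim_quotient_eq_of_isEquidim (hA : EGA4.IsEquidim A)
    (hc : CAlg.IsCatenary A) (p : Ideal A) [hp : p.IsPrime] :
    ((p.height : ℕ∞) : WithBot ℕ∞) + ringKrullDim (A ⧸ p) = ringKrullDim A := by
  have : WellFoundedLT (PrimeSpectrum A) :=
    ⟨(SetRel.IsWellFounded.of_finiteDimensional {(a, b) : PrimeSpectrum A × PrimeSpectrum A | a < b})⟩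
  have : WellFoundedGT (PrimeSpectrum A) :=
    ⟨(SetRel.IsWellFounded.inv_of_finiteDimensional
      {(a, b) : PrimeSpectrum A × PrimeSpectrum A | a < b})⟩
  have hfin : p.height ≠ ⊤ := Ideal.height_ne_top_of_isPrime
  obtain ⟨n, hn⟩ := ENat.ne_top_iff_exists.mp hfin
  have hn' : Order.height (⟨p, hp⟩ : PrimeSpectrum A) = n := by
    rw [← PrimeSpectrum.height_eq_orderHeight, ← hn]
  obtain ⟨s, hslast, hslen⟩ := Order.exists_series_of_height_eq_coe _ hn'
  obtain ⟨u, huhead, hulast, hulen⟩ := exists_covBy_refinement s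
  let u' : LTSeries (PrimeSpectrum A) := u.ofLE (fun _ h => h.lt)
  have hu'last : u'.last = ⟨p, hp⟩ := by
    change u.last = _
    rw [hulast, hslast]
  have hu'len : u'.length = n := by
    apply le_antisymm
    · have := Order.length_le_height_last (p := u')
      rw [hu'last, hn'] at this
      exact_mod_cast this
    · change n ≤ u.length
      rw [← hslen]; exact hulen
  have hu'sat : ∀ i : Fin u'.length, u' (Fin.castSucc i) ⋖ u' (Fin.succ i) := fun i => u.step i
  -- the head is a minimal prime
  have hmin : u'.head.asIdeal ∈ minimalPrimes A := by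
    obtain ⟨q, hq, hqle⟩ := Ideal.exists_minimalPrimes_le (I := (⊥ : Ideal A))
      (J := u'.head.asIdeal) bot_le
    by_cases heq : q = u'.head.asIdeal
    · rw [← heq]; exact hq
    · exfalso
      have hqp : q.IsPrime := hq.1.1
      have hlt : (⟨q, hqp⟩ : PrimeSpectrum A) < u'.head := lt_of_le_of_ne hqle (fun e => heq
        (congrArg PrimeSpectrum.asIdeal e))
      have := Order.length_le_height_last (p := u'.cons ⟨q, hqp⟩ hlt)
      rw [RelSeries.last_cons, hu'last, hn', RelSeries.cons_length, hu'len] at this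
      have : n + 1 ≤ n := by exact_mod_cast this
      omega
  have key := ringKrullDim_quotient_head_eq_last_add_length hc u' hu'sat
  rw [hA _ hmin, hu'last, hu'len] at key
  rw [key, ← hn, add_comm]
  rfl

/-- In an equidimensional catenary Noetherian local ring heights increase by one along covers. -/
theorem height_eq_add_one_of_covBy_of_isEquidim (hA : EGA4.IsEquidim A)
    (hc : CAlg.IsCatenary A) {p q : PrimeSpectrum A} (hpq : p ⋖ q) :
    q.asIdeal.height = p.asIdeal.height + 1 := by
  have hp : p.asIdeal.IsPrime := p.2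
  have hq : q.asIdeal.IsPrime := q.2
  have h1 := height_add_ringKrullDim_quotient_eq_of_isEquidim hA hc p.asIdeal
  have h2 := height_add_ringKrullDim_quotient_eq_of_isEquidim hA hc q.asIdeal
  have h3 := ringKrullDim_quotient_eq_add_one_of_covBy hc hpq
  rw [h3, ← h2, ringKrullDim_quotient_asIdeal_eq_coheight] at h1
  have hcfin : Order.coheight q ≠ ⊤ := by
    intro htop
    have := ringKrullDim_quotient_asIdeal_eq_coheight q
    rw [htop] at this
    have hlt : ringKrullDim (A ⧸ q.asIdeal) < ⊤ := ringKrullDim_lt_top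
    rw [this] at hlt
    exact lt_irrefl _ hlt
  have h4 : ((p.asIdeal.height + 1 + Order.coheight q : ℕ∞) : WithBot ℕ∞) =
      ((q.asIdeal.height + Order.coheight q : ℕ∞) : WithBot ℕ∞) := by
    push_cast
    rw [← h1]
    rw [add_assoc, add_comm (1 : WithBot ℕ∞)]
  have h5 := WithBot.coe_injective h4
  exact ((ENat.add_left_injective_of_ne_top hcfin) h5).symm

/-- key inequality: for a prime `p ∋ t`, `ht_{A/t}(p/t) + 1 ≤ ht p`. -/
theorem height_map_mk_add_one_le (hA : EGA4.IsEquidim A) (hc : CAlg.IsCatenary A) (t : A)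
    (ht : ringKrullDim (A ⧸ Ideal.span {t}) + 1 = ringKrullDim A)
    (p : Ideal A) [hp : p.IsPrime] (htp : t ∈ p) :
    (p.map (Ideal.Quotient.mk (Ideal.span {t}))).height + 1 ≤ p.height := by
  have hle : Ideal.span {t} ≤ p := (Ideal.span_singleton_le_iff_mem _).mpr htp
  have hP : (p.map (Ideal.Quotient.mk (Ideal.span {t}))).IsPrime :=
    Ideal.map_isPrime_of_surjective Ideal.Quotient.mk_surjective (by rwa [Ideal.mk_ker])
  have h1 := height_add_ringKrullDim_quotient_le (p.map (Ideal.Quotient.mk (Ideal.span {t})))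
    hP.ne_top
  have e := DoubleQuot.quotQuotEquivQuotOfLE hle
  rw [ringKrullDim_eq_of_ringEquiv e] at h1
  have h2 := height_add_ringKrullDim_quotient_eq_of_isEquidim hA hc p
  have hfin : ringKrullDim (A ⧸ p) < ⊤ := ringKrullDim_lt_top
  have hnn : 0 ≤ ringKrullDim (A ⧸ p) := ringKrullDim_nonneg_of_nontrivial
  obtain ⟨c, hc'⟩ : ∃ c : ℕ, ringKrullDim (A ⧸ p) = ((c : ℕ∞) : WithBot ℕ∞) := by
    have hb : ringKrullDim (A ⧸ p) ≠ ⊥ := by
      intro hb
      rw [hb] at hnn
      simp at hnn
    obtain ⟨x, hx⟩ := WithBot.ne_bot_iff_exists.mp hb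
    have hxt : x ≠ ⊤ := by
      intro hxt
      rw [← hx, hxt] at hfin
      exact lt_irrefl _ hfin
    obtain ⟨c, hc⟩ := ENat.ne_top_iff_exists.mp hxt
    exact ⟨c, by rw [← hx, ← hc]⟩
  rw [hc'] at h1 h2
  rw [← ht] at h2
  have h3 : (((p.map (Ideal.Quotient.mk (Ideal.span {t}))).height + 1 + c : ℕ∞) : WithBot ℕ∞) ≤
      ((p.height + c : ℕ∞) : WithBot ℕ∞) := by
    rw [WithBot.coe_add, WithBot.coe_add, WithBot.coe_add, h2, WithBot.coe_one, add_right_comm]
    exact add_le_add h1 le_rfl
  have h4 : (p.map (Ideal.Quotient.mk (Ideal.span {t}))).height + 1 + c ≤ p.height + c :=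
    WithBot.coe_le_coe.mp h3
  exact (ENat.add_le_add_iff_right (ENat.natCast_ne_top c)).mp h4

end EquidimCatenary

end Groth.Agent.Lib.Helper28
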