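import Mathlib
import Groth.Agent.Lib.Helper28Equidim
import Groth.Agent.Lib.Helper28DepthFlat3
import Groth.Agent.Lib.Helper28FlatNormal
import Groth.Agent.Lib.Helper28Catenary
import Groth.Agent.Lib.Helper13Cat
import Groth.Agent.Lib.Helper5RLR
import Groth.Agent.S9297

/-!
# Helper28FlatEquidim: equidimensionality of quotients via minimal primes, quotient base change of a
flat local homomorphism, `dim A'/aA' = dim A'/mA' + dim A/a`.
-/

set_option autoImplicit false
universe u

namespace Groth.Agent.Lib.Helper28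
open IsLocalRing

section EquidimQuot

variable {R : Type u} [CommRing R]

/-- `(R/I)/Q ≃ R/(Q.comap mk)`. -/
noncomputable def quotQuotEquivQuotComap (I : Ideal R) (Q : Ideal (R ⧸ I)) :
    ((R ⧸ I) ⧸ Q) ≃+* R ⧸ Q.comap (Ideal.Quotient.mk I) :=
  have hsurj : Function.Surjective ((Ideal.Quotient.mk Q).comp (Ideal.Quotient.mk I)) :=
    Ideal.Quotient.mk_surjective.comp Ideal.Quotient.mk_surjective
  have hker : RingHom.ker ((Ideal.Quotient.mk Q).comp (Ideal.Quotient.mk I)) =
      Q.comap (Ideal.Quotient.mk I) := by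
    rw [← RingHom.comap_ker, Ideal.mk_ker]
  ((Ideal.quotEquivOfEq hker.symm).trans (RingHom.quotientKerEquivOfSurjective hsurj)).symm

theorem ringKrullDim_quotient_quotient (I : Ideal R) (Q : Ideal (R ⧸ I)) :
    ringKrullDim ((R ⧸ I) ⧸ Q) = ringKrullDim (R ⧸ Q.comap (Ideal.Quotient.mk I)) :=
  ringKrullDim_eq_of_ringEquiv (quotQuotEquivQuotComap I Q)

/-- Equidimensionality of `R/I` in terms of the minimal primes over `I`. -/
theorem isEquidim_quotient_iff (I : Ideal R) :
    EGA4.IsEquidim (R ⧸ I) ↔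
      ∀ P ∈ I.minimalPrimes, ringKrullDim (R ⧸ P) = ringKrullDim (R ⧸ I) := by
  constructor
  · intro h P hP
    rw [Ideal.minimalPrimes_eq_comap] at hP
    obtain ⟨Q, hQ, rfl⟩ := hP
    rw [← ringKrullDim_quotient_quotient]
    exact h Q hQ
  · intro h Q hQ
    rw [ringKrullDim_quotient_quotient]
    apply h
    rw [Ideal.minimalPrimes_eq_comap]
    exact ⟨Q, hQ, rfl⟩

theorem exists_mem_minimalPrimes_ringKrullDim_quotient_eq [IsNoetherianRing R] (I : Ideal R)
    (hI : I ≠ ⊤) : ∃ P ∈ I.minimalPrimes, ringKrullDim (R ⧸ P) = ringKrullDim (R ⧸ I) := by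
  have : Nontrivial (R ⧸ I) := Ideal.Quotient.nontrivial_iff.2 hI
  obtain ⟨Q, hQ, h⟩ := Groth.Agent.S9297.exists_minimalPrimes_ringKrullDim_quotient_eq (R ⧸ I)
  refine ⟨Q.comap (Ideal.Quotient.mk I), ?_, ?_⟩
  · rw [Ideal.minimalPrimes_eq_comap]
    exact ⟨Q, hQ, rfl⟩
  · rw [← ringKrullDim_quotient_quotient, h]

/-- Equidimensionality of `R/I`: all the minimal primes over `I` have the same coheight. -/
theorem isEquidim_quotient_iff_forall_eq [IsNoetherianRing R] (I : Ideal R) :
    EGA4.IsEquidim (R ⧸ I) ↔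
      ∀ P₁ ∈ I.minimalPrimes, ∀ P₂ ∈ I.minimalPrimes,
        ringKrullDim (R ⧸ P₁) = ringKrullDim (R ⧸ P₂) := by
  rw [isEquidim_quotient_iff]
  constructor
  · intro h P₁ h₁ P₂ h₂
    rw [h P₁ h₁, h P₂ h₂]
  · intro h P hP
    have hI : I ≠ ⊤ := by
      rintro rfl
      exact hP.1.1.ne_top (top_le_iff.mp hP.1.2)
    obtain ⟨P₀, hP₀, h₀⟩ := exists_mem_minimalPrimes_ringKrullDim_quotient_eq I hI
    rw [← h₀]
    exact h P hP P₀ hP₀

end EquidimQuot

section FlatQuot

variable {A A' : Type u} [CommRing A] [CommRing A'] [Algebra A A']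

theorem flat_quotient_map' [Module.Flat A A'] (a : Ideal A) :
    Module.Flat (A ⧸ a) (A' ⧸ a.map (algebraMap A A')) :=
  Module.Flat.of_linearEquiv
    (Algebra.TensorProduct.quotIdealMapEquivQuotTensor A' a).toLinearEquiv

theorem algebraMap_quotient_map_mk (a : Ideal A) (x : A) :
    algebraMap (A ⧸ a) (A' ⧸ a.map (algebraMap A A')) (Ideal.Quotient.mk a x) =
      Ideal.Quotient.mk (a.map (algebraMap A A')) (algebraMap A A' x) := rfl

theorem map_ne_top_of_isLocalHom [IsLocalRing A] [IsLocalRing A'] [IsLocalHom (algebraMap A A')]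
    (a : Ideal A) (ha : a ≠ ⊤) : a.map (algebraMap A A') ≠ ⊤ := by
  intro h
  have hle : a.map (algebraMap A A') ≤ maximalIdeal A' := by
    rw [Ideal.map_le_iff_le_comap, IsLocalRing.maximalIdeal_comap]
    exact IsLocalRing.le_maximalIdeal ha
  rw [h] at hle
  exact (IsLocalRing.maximalIdeal.isMaximal A').ne_top (top_le_iff.mp hle)

theorem isLocalHom_quotient_map [IsLocalRing A] [IsLocalRing A'] [IsLocalHom (algebraMap A A')]
    (a : Ideal A) [IsLocalRing (A ⧸ a)] [IsLocalRing (A' ⧸ a.map (algebraMap A A'))] :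
    IsLocalHom (algebraMap (A ⧸ a) (A' ⧸ a.map (algebraMap A A'))) := by
  constructor
  intro b hb
  obtain ⟨x, rfl⟩ := Ideal.Quotient.mk_surjective b
  rw [algebraMap_quotient_map_mk] at hb
  by_contra hx
  have h1 : Ideal.Quotient.mk a x ∈ maximalIdeal (A ⧸ a) := (mem_maximalIdeal _).2 hx
  rw [Groth.Agent.Lib.Helper5.mk_mem_maximalIdeal_quotient_iff] at h1
  have h2 : algebraMap A A' x ∈ maximalIdeal A' := by
    rw [← IsLocalRing.maximalIdeal_comap (algebraMap A A')] at h1
    exact h1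
  rw [← Groth.Agent.Lib.Helper5.mk_mem_maximalIdeal_quotient_iff (a.map (algebraMap A A'))] at h2
  exact (mem_maximalIdeal _).1 h2 hb

variable [IsNoetherianRing A] [IsNoetherianRing A'] [IsLocalRing A] [IsLocalRing A']
  [IsLocalHom (algebraMap A A')] [Module.Flat A A']

/-- `dim A'/aA' = dim A'/mA' + dim A/a` for a flat local homomorphism. -/
theorem ringKrullDim_quotient_map_eq_add (a : Ideal A) (ha : a ≠ ⊤) :
    ringKrullDim (A' ⧸ a.map (algebraMap A A')) =
      ringKrullDim (EGA4.FibRing A A') + ringKrullDim (A ⧸ a) := by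
  have ha' := map_ne_top_of_isLocalHom (A' := A') a ha
  have : IsLocalRing (A ⧸ a) := Groth.Agent.Lib.Helper5.isLocalRing_quotient ha
  have : IsLocalRing (A' ⧸ a.map (algebraMap A A')) :=
    Groth.Agent.Lib.Helper5.isLocalRing_quotient ha'
  have := isLocalHom_quotient_map (A' := A') a
  have := flat_quotient_map' (A' := A') a
  have hJ : (EGA4.mB A A').map (Ideal.Quotient.mk (a.map (algebraMap A A'))) =
      (maximalIdeal (A ⧸ a)).map (algebraMap (A ⧸ a) (A' ⧸ a.map (algebraMap A A'))) := by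
    rw [Groth.Agent.Lib.Helper5.maximalIdeal_quotient_eq_map, Ideal.map_map, Ideal.map_map]
    rfl
  rw [ringKrullDim_eq_add_of_flat (R := A ⧸ a) (S := A' ⧸ a.map (algebraMap A A')) _ hJ]
  congr 1
  have hsup : a.map (algebraMap A A') ⊔ EGA4.mB A A' = EGA4.mB A A' :=
    sup_eq_right.mpr (Ideal.map_mono (IsLocalRing.le_maximalIdeal ha))
  exact ringKrullDim_eq_of_ringEquiv
    ((DoubleQuot.quotQuotEquivQuotSup (a.map (algebraMap A A')) (EGA4.mB A A')).trans
      (Ideal.quotEquivOfEq hsup))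

end FlatQuot

section FlatEquidim

variable {A A' : Type u} [CommRing A] [CommRing A'] [Algebra A A']
  [IsNoetherianRing A] [IsNoetherianRing A'] [IsLocalRing A] [IsLocalRing A']
  [IsLocalHom (algebraMap A A')] [Module.Flat A A']

/-- For `A → A'` flat, `A'` equidimensional catenary local, `P'` minimal over `pA'`:
`ht p + dim A'/P' = dim A'`. -/
theorem height_add_ringKrullDim_quotient_eq_of_mem_minimalPrimes_map
    (heq : EGA4.IsEquidim A') (hcat : CAlg.IsCatenary A') (p : Ideal A) [p.IsPrime]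
    (P' : Ideal A') (hP' : P' ∈ (p.map (algebraMap A A')).minimalPrimes) :
    ((p.height : ℕ∞) : WithBot ℕ∞) + ringKrullDim (A' ⧸ P') = ringKrullDim A' := by
  have : P'.IsPrime := hP'.1.1
  have hht := (depth_height_localization_eq_of_mem_minimalPrimes_map p P' hP').2
  rw [← hht]
  exact height_add_ringKrullDim_quotient_eq_of_isEquidim heq hcat P'

theorem exists_nat_ringKrullDim_eq (R : Type u) [CommRing R] [IsNoetherianRing R] [IsLocalRing R] :
    ∃ d : ℕ, ringKrullDim R = ((d : ℕ∞) : WithBot ℕ∞) := by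
  have h1 : ringKrullDim R ≠ ⊤ := ringKrullDim_ne_top
  have h2 : ringKrullDim R ≠ ⊥ := ringKrullDim_ne_bot
  obtain ⟨d, hd⟩ := WithBot.ne_bot_iff_exists.mp h2
  have h3 : d ≠ ⊤ := by
    rintro rfl
    exact h1 hd.symm
  obtain ⟨n, hn⟩ := ENat.ne_top_iff_exists.mp h3
  exact ⟨n, by rw [← hd, ← hn]⟩

/-- **Dimension formula descends**: if `A → A'` is a flat local homomorphism and `A'` is
equidimensional and catenary, then `ht p + dim A/p = dim A` for every prime `p` of `A`. -/
theorem height_add_ringKrullDim_quotient_eq_of_flat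
    (heq : EGA4.IsEquidim A') (hcat : CAlg.IsCatenary A') (p : Ideal A) [hp : p.IsPrime] :
    ((p.height : ℕ∞) : WithBot ℕ∞) + ringKrullDim (A ⧸ p) = ringKrullDim A := by
  have hp' := map_ne_top_of_isLocalHom (A' := A') p hp.ne_top
  obtain ⟨P', hP', hdim⟩ := exists_mem_minimalPrimes_ringKrullDim_quotient_eq _ hp'
  have h1 := height_add_ringKrullDim_quotient_eq_of_mem_minimalPrimes_map heq hcat p P' hP'
  rw [hdim, ringKrullDim_quotient_map_eq_add p hp.ne_top,
    ringKrullDim_eq_add_of_flat (R := A) (S := A') (EGA4.mB A A') rfl] at h1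
  obtain ⟨d, hd⟩ := exists_nat_ringKrullDim_eq (EGA4.FibRing A A')
  rw [hd] at h1
  apply Groth.Agent.S9297.withBot_enat_add_left_cancel d
  rw [← h1]
  ring

end FlatEquidim

section FlatMinimalPrimes

variable {A A' : Type u} [CommRing A] [CommRing A'] [Algebra A A'] [Module.Flat A A']

/-- For a flat map, a prime minimal over `aA'` contracts to a prime `p` minimal over `a`, and is
minimal over `pA'`. -/
theorem under_mem_minimalPrimes_of_mem_minimalPrimes_map (a : Ideal A) (P' : Ideal A')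
    (hP' : P' ∈ (a.map (algebraMap A A')).minimalPrimes) :
    P'.under A ∈ a.minimalPrimes ∧
      P' ∈ ((P'.under A).map (algebraMap A A')).minimalPrimes := by
  have hprime : P'.IsPrime := hP'.1.1
  have hle : a ≤ P'.under A := Ideal.map_le_iff_le_comap.mp hP'.1.2
  have hup : (P'.under A).IsPrime := Ideal.IsPrime.under A P'
  constructor
  · obtain ⟨p₀, hp₀, hp₀le⟩ := Ideal.exists_minimalPrimes_le hle
    have hp₀prime : p₀.IsPrime := hp₀.1.1
    by_cases heq : p₀ = P'.under A
    · rw [← heq]; exact hp₀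
    · exfalso
      have hlt : p₀ < P'.under A := lt_of_le_of_ne hp₀le heq
      obtain ⟨P₀, hP₀le, hP₀prime, hP₀lies⟩ :=
        Algebra.HasGoingDown.exists_ideal_le_liesOver_of_lt (p := p₀) P' hlt
      have h1 : a.map (algebraMap A A') ≤ P₀ := by
        rw [Ideal.map_le_iff_le_comap]
        exact hp₀.1.2.trans (le_of_eq hP₀lies.over)
      have h2 : P' ≤ P₀ := hP'.2 ⟨hP₀prime, h1⟩ hP₀le
      have h3 : P₀ = P' := le_antisymm hP₀le h2
      apply heq
      rw [hP₀lies.over, h3]
  · refine ⟨⟨hprime, Ideal.map_comap_le⟩, ?_⟩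
    intro Q hQ hQle
    exact hP'.2 ⟨hQ.1, (Ideal.map_mono hle).trans hQ.2⟩ hQle

/-- For a flat map, if `p` is minimal over `a` and `P'` is minimal over `pA'` then `P'` is minimal
over `aA'`. -/
theorem mem_minimalPrimes_map_of_mem_minimalPrimes (a p : Ideal A) (hp : p ∈ a.minimalPrimes)
    (P' : Ideal A') (hP' : P' ∈ (p.map (algebraMap A A')).minimalPrimes) :
    P' ∈ (a.map (algebraMap A A')).minimalPrimes := by
  have hpprime : p.IsPrime := hp.1.1
  have hunder := under_eq_of_mem_minimalPrimes_map p P' hP'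
  refine ⟨⟨hP'.1.1, (Ideal.map_mono hp.1.2).trans hP'.1.2⟩, ?_⟩
  intro Q hQ hQle
  have hQprime : Q.IsPrime := hQ.1
  have h1 : a ≤ Q.under A := Ideal.map_le_iff_le_comap.mp hQ.2
  have h2 : Q.under A ≤ p := by
    rw [← hunder]
    exact Ideal.comap_mono hQle
  have h3 : p ≤ Q.under A := hp.2 ⟨Ideal.IsPrime.under A Q, h1⟩ h2
  exact hP'.2 ⟨hQprime, Ideal.map_le_iff_le_comap.mpr h3⟩ hQle

end FlatMinimalPrimes

section FlatEquidim2

variable {A A' : Type u} [CommRing A] [CommRing A'] [Algebra A A']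
  [IsNoetherianRing A] [IsNoetherianRing A'] [IsLocalRing A] [IsLocalRing A']
  [IsLocalHom (algebraMap A A')] [Module.Flat A A']

/-- With zero-dimensional closed fibre: `dim A'/P' = dim A/p` for `P'` minimal over `pA'`. -/
theorem ringKrullDim_quotient_eq_of_mem_minimalPrimes_map
    (heq : EGA4.IsEquidim A') (hcat : CAlg.IsCatenary A')
    (h0 : ringKrullDim (EGA4.FibRing A A') = 0) (p : Ideal A) [hp : p.IsPrime]
    (P' : Ideal A') (hP' : P' ∈ (p.map (algebraMap A A')).minimalPrimes) :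
    ringKrullDim (A' ⧸ P') = ringKrullDim (A ⧸ p) := by
  have h1 := height_add_ringKrullDim_quotient_eq_of_mem_minimalPrimes_map heq hcat p P' hP'
  have h2 := height_add_ringKrullDim_quotient_eq_of_flat heq hcat p
  have h3 := ringKrullDim_eq_add_of_flat (R := A) (S := A') (EGA4.mB A A') rfl
  rw [h0, zero_add] at h3
  rw [h3, ← h2] at h1
  obtain ⟨n, hn⟩ := ENat.ne_top_iff_exists.mp (Ideal.height_ne_top_of_isPrime (I := p))
  rw [← hn] at h1
  exact Groth.Agent.S9297.withBot_enat_add_left_cancel n h1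

/-- EGA IV 7.1.3: for a flat local homomorphism with `A'` equidimensional catenary and
zero-dimensional closed fibre, `A'/aA'` is equidimensional iff `A/a` is. -/
theorem isEquidim_quotient_map_iff
    (heq : EGA4.IsEquidim A') (hcat : CAlg.IsCatenary A')
    (h0 : ringKrullDim (EGA4.FibRing A A') = 0) (a : Ideal A) :
    EGA4.IsEquidim (A' ⧸ a.map (algebraMap A A')) ↔ EGA4.IsEquidim (A ⧸ a) := by
  rw [isEquidim_quotient_iff_forall_eq, isEquidim_quotient_iff_forall_eq]
  constructor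
  · intro h p₁ hp₁ p₂ hp₂
    have hp₁prime : p₁.IsPrime := hp₁.1.1
    have hp₂prime : p₂.IsPrime := hp₂.1.1
    obtain ⟨P₁, hP₁, -⟩ := Ideal.exists_minimalPrimes_le
      (I := p₁.map (algebraMap A A')) (J := maximalIdeal A')
      (IsLocalRing.le_maximalIdeal (map_ne_top_of_isLocalHom p₁ hp₁prime.ne_top))
    obtain ⟨P₂, hP₂, -⟩ := Ideal.exists_minimalPrimes_le
      (I := p₂.map (algebraMap A A')) (J := maximalIdeal A')
      (IsLocalRing.le_maximalIdeal (map_ne_top_of_isLocalHom p₂ hp₂prime.ne_top))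
    rw [← ringKrullDim_quotient_eq_of_mem_minimalPrimes_map heq hcat h0 p₁ P₁ hP₁,
      ← ringKrullDim_quotient_eq_of_mem_minimalPrimes_map heq hcat h0 p₂ P₂ hP₂]
    exact h P₁ (mem_minimalPrimes_map_of_mem_minimalPrimes a p₁ hp₁ P₁ hP₁)
      P₂ (mem_minimalPrimes_map_of_mem_minimalPrimes a p₂ hp₂ P₂ hP₂)
  · intro h P₁ hP₁ P₂ hP₂
    obtain ⟨h1, h1'⟩ := under_mem_minimalPrimes_of_mem_minimalPrimes_map a P₁ hP₁
    obtain ⟨h2, h2'⟩ := under_mem_minimalPrimes_of_mem_minimalPrimes_map a P₂ hP₂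
    have : (P₁.under A).IsPrime := h1.1.1
    have : (P₂.under A).IsPrime := h2.1.1
    rw [ringKrullDim_quotient_eq_of_mem_minimalPrimes_map heq hcat h0 _ P₁ h1',
      ringKrullDim_quotient_eq_of_mem_minimalPrimes_map heq hcat h0 _ P₂ h2']
    exact h _ h1 _ h2

end FlatEquidim2

end Groth.Agent.Lib.Helper28
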