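import Mathlib
import Groth.Agent.Lib.Helper28FlatEquidim
import Groth.Agent.Lib.Helper28RegPow
import Groth.Agent.Lib.Helper5RLR3
import Groth.Agent.Lib.Helper19CohenStructure
import Groth.Agent.Lib.Helper28ComplQuot2
import Groth.Agent.Lib.Helper28ComplAss

/-!
# Helper28ComplCat: complete Noetherian local rings are catenary; the completion `A → Â` has
zero-dimensional closed fibre.
-/

set_option autoImplicit false
universe u

namespace Groth.Agent.Lib.Helper28
open IsLocalRing

section CompleteCatenary

/-- A regular ring is catenary. -/
theorem isCatenary_of_isRegularRing (R : Type u) [CommRing R] [IsRegularRing R] :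
    CAlg.IsCatenary R := by
  have hCM : LocCoh.IsCohenMacaulayRing R :=
    ⟨fun p _ => Groth.Agent.Lib.Helper5.isCohenMacaulayLocalRing_of_isRegularLocalRing _⟩
  exact isCatenary_of_isCohenMacaulayRing

/-- A complete Noetherian local ring is catenary (Cohen structure theorem). -/
theorem isCatenary_of_isAdicComplete (R : Type u) [CommRing R] [IsNoetherianRing R] [IsLocalRing R]
    [IsAdicComplete (maximalIdeal R) R] : CAlg.IsCatenary R := by
  obtain ⟨Λ, _, n, f, hΛ, hf⟩ :=
    Groth.Agent.Lib.Helper19.CohenStructure.exists_surjective_mvPowerSeries_of_complete_local R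
      (IsNoetherian.noetherian _)
  have hreg : IsRegularRing Λ := by
    rcases hΛ with hF | hC
    · have : IsDomain Λ := hF.isDomain
      have : IsPrincipalIdealRing Λ := hF.isPrincipalIdealRing
      infer_instance
    · obtain ⟨hd, hdvr, -⟩ := hC
      infer_instance
  have := isRegularRing_mvPowerSeries_fin Λ n
  exact Groth.Agent.Helper13Cat.isCatenary_of_surjective f hf
    (isCatenary_of_isRegularRing (MvPowerSeries (Fin n) Λ))

variable (A : Type u) [CommRing A] [IsNoetherianRing A] [IsLocalRing A]

theorem isAdicComplete_maximalIdeal_adicCompletion :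
    IsAdicComplete (maximalIdeal (AdicCompletion (maximalIdeal A) A))
      (AdicCompletion (maximalIdeal A) A) := by
  have h1 : IsAdicComplete (maximalIdeal A) (AdicCompletion (maximalIdeal A) A) :=
    AdicCompletion.isAdicComplete (IsNoetherian.noetherian _)
  rw [AdicCompletion.maximalIdeal_eq_map]
  exact (IsAdicComplete.map_algebraMap_iff (I := maximalIdeal A)
    (S := AdicCompletion (maximalIdeal A) A) (M := AdicCompletion (maximalIdeal A) A)).mpr h1

/-- The completion of a Noetherian local ring is catenary. -/
theorem isCatenary_adicCompletion :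
    CAlg.IsCatenary (AdicCompletion (maximalIdeal A) A) := by
  have := isAdicComplete_maximalIdeal_adicCompletion A
  exact isCatenary_of_isAdicComplete _

/-- The closed fibre of the completion is zero-dimensional. -/
theorem ringKrullDim_fibRing_adicCompletion :
    ringKrullDim (EGA4.FibRing A (AdicCompletion (maximalIdeal A) A)) = 0 := by
  have h : EGA4.mB A (AdicCompletion (maximalIdeal A) A) =
      maximalIdeal (AdicCompletion (maximalIdeal A) A) :=
    AdicCompletion.maximalIdeal_eq_map.symm
  rw [ringKrullDim_eq_of_ringEquiv (Ideal.quotEquivOfEq h)]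
  have hF : IsField (AdicCompletion (maximalIdeal A) A ⧸
      maximalIdeal (AdicCompletion (maximalIdeal A) A)) :=
    (Ideal.Quotient.maximal_ideal_iff_isField_quotient _).mp inferInstance
  exact ringKrullDim_eq_zero_of_isField hF

end CompleteCatenary

end Groth.Agent.Lib.Helper28
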