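import Mathlib
import Groth.Agent.Lib.Helper28RegLoc
import Groth.Agent.Lib.Helper28FlatNormal
import Groth.Agent.Lib.Helper28DepthFlat3
import Groth.Agent.Lib.Helper28Normal

/-!
# Descent of regularity and `(R_k)` along (faithfully) flat maps (helper28)
-/

universe u
open CategoryTheory CategoryTheory.Limits IsLocalRing

namespace Groth.Agent.Lib.Helper28

section RegDescent

variable {R S : Type u} [CommRing R] [CommRing S] [Algebra R S]

/-- flat map of Noetherian rings, `q` a prime of `S` with `S_q` regular: then `R_{q ∩ R}` is regular. -/
theorem isRegularLocalRing_localization_comap_of_flat [IsNoetherianRing R] [Module.Flat R S]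
    (q : Ideal S) [q.IsPrime] [IsRegularLocalRing (Localization.AtPrime q)] :
    IsRegularLocalRing (Localization.AtPrime (q.comap (algebraMap R S))) := by
  obtain ⟨alg, hloc, hflat, -⟩ := exists_algebra_localization_flat (A := R) (B := S) q
  have hN : IsNoetherianRing (Localization.AtPrime (q.comap (algebraMap R S))) :=
    IsLocalization.isNoetherianRing (q.comap (algebraMap R S)).primeCompl _ inferInstance
  exact isRegularLocalRing_of_flat_of_isLocalHom
    (Localization.AtPrime (q.comap (algebraMap R S))) (Localization.AtPrime q)

/-- `(R_k)` descends along faithfully flat maps. -/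
theorem hasRk_of_faithfullyFlat [Module.FaithfullyFlat R S] [IsNoetherianRing S] (k : ℕ)
    (hS : LocCoh.HasRk k S) : IsNoetherianRing R ∧ LocCoh.HasRk k R := by
  have hnoeth : IsNoetherianRing R := isNoetherianRing_of_faithfullyFlat (R := R) (S := S)
  refine ⟨hnoeth, ?_⟩
  intro p hp hht
  have hne : p.map (algebraMap R S) ≠ ⊤ := by
    intro h
    have := Ideal.comap_map_eq_self_of_faithfullyFlat (B := S) p
    rw [h, Ideal.comap_top] at this
    exact hp.ne_top this.symm
  obtain ⟨q, hq⟩ := Ideal.nonempty_minimalPrimes hne
  have hqprime : q.IsPrime := hq.1.1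
  obtain ⟨-, hht'⟩ := depth_height_localization_eq_of_mem_minimalPrimes_map p q hq
  have hSq : IsRegularLocalRing (Localization.AtPrime q) := hS q (by rw [hht']; exact hht)
  have hunder : q.comap (algebraMap R S) = p := under_eq_of_mem_minimalPrimes_map p q hq
  have := isRegularLocalRing_localization_comap_of_flat (R := R) q
  exact (isRegularLocalRing_congr_ideal hunder).mp this

/-- regularity descends along faithfully flat maps. -/
theorem isRegularRing_of_faithfullyFlat [Module.FaithfullyFlat R S] [IsRegularRing S] :
    IsRegularRing R := by
  have hnoeth : IsNoetherianRing R := isNoetherianRing_of_faithfullyFlat (R := R) (S := S)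
  rw [isRegularRing_iff]
  intro p hp
  obtain ⟨q, hq⟩ := PrimeSpectrum.comap_surjective_of_faithfullyFlat (B := S) ⟨p, hp⟩
  have hqp : q.asIdeal.comap (algebraMap R S) = p := congrArg PrimeSpectrum.asIdeal hq
  have hSq : IsRegularLocalRing (Localization.AtPrime q.asIdeal) :=
    IsRegularRing.isRegularLocalRing_localization q.asIdeal
  have := isRegularLocalRing_localization_comap_of_flat (R := R) q.asIdeal
  exact (isRegularLocalRing_congr_ideal hqp).mp this

/-- `(R_k)` at a prime descends along flat maps of Noetherian rings. -/
theorem hasRk_localization_comap_of_flat [IsNoetherianRing R] [IsNoetherianRing S]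
    [Module.Flat R S] (k : ℕ) (q : Ideal S) [q.IsPrime]
    (h : LocCoh.HasRk k (Localization.AtPrime q)) :
    LocCoh.HasRk k (Localization.AtPrime (q.comap (algebraMap R S))) := by
  obtain ⟨alg, hloc, hflat, -⟩ := exists_algebra_localization_flat (A := R) (B := S) q
  have hff : Module.FaithfullyFlat (Localization.AtPrime (q.comap (algebraMap R S)))
      (Localization.AtPrime q) := Module.FaithfullyFlat.of_flat_of_isLocalHom
  have hN : IsNoetherianRing (Localization.AtPrime q) :=
    IsLocalization.isNoetherianRing q.primeCompl _ inferInstance
  exact (hasRk_of_faithfullyFlat (R := Localization.AtPrime (q.comap (algebraMap R S)))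
    (S := Localization.AtPrime q) k h).2

end RegDescent

end Groth.Agent.Lib.Helper28
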