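import Groth.Agent.Lib.Helper28DepthFlat4
import Mathlib.RingTheory.RegularLocalRing.Defs
import Mathlib.RingTheory.Nilpotent.Lemmas
import Mathlib.RingTheory.LocalProperties.Reduced

/-!
# Depth library, part 16 (helper28): reducedness criterion `(R_0) + (S_1)`.
-/

set_option autoImplicit false
universe u u' v w
open RingTheory.Sequence
open scoped Pointwise

namespace Groth.Agent.Lib.Helper28

section R0S1

variable {A : Type u} [CommRing A] [IsLocalRing A] [IsNoetherianRing A]

/-- A Noetherian local ring with zero maximal ideal is a regular local ring. -/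
theorem isRegularLocalRing_of_maximalIdeal_eq_bot (h : IsLocalRing.maximalIdeal A = ⊥) :
    IsRegularLocalRing A := by
  apply IsRegularLocalRing.of_spanFinrank_maximalIdeal_le
  rw [h, Submodule.spanFinrank_bot]
  exact_mod_cast ringKrullDim_nonneg_of_nontrivial

/-- A regular local ring of dimension zero has zero maximal ideal. -/
theorem maximalIdeal_eq_bot_of_isRegularLocalRing (hreg : IsRegularLocalRing A)
    (hdim : ringKrullDim A = 0) : IsLocalRing.maximalIdeal A = ⊥ := by
  have h := hreg.spanFinrank_maximalIdeal
  rw [hdim] at h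
  have h0 : (IsLocalRing.maximalIdeal A).spanFinrank = 0 := by exact_mod_cast h
  exact (Submodule.spanFinrank_eq_zero_iff_eq_bot
    ((isNoetherianRing_iff_ideal_fg A).mp inferInstance _)).mp h0

omit [IsNoetherianRing A] in
/-- In a reduced local ring whose maximal ideal is a minimal prime, the maximal ideal is zero. -/
theorem maximalIdeal_eq_bot_of_isReduced_of_mem_minimalPrimes [IsReduced A]
    (h : IsLocalRing.maximalIdeal A ∈ minimalPrimes A) : IsLocalRing.maximalIdeal A = ⊥ := by
  rw [eq_bot_iff, ← Ideal.zero_eq_bot, ← nilradical_eq_zero A, nilradical_eq_sInf]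
  refine le_sInf ?_
  intro q hq
  exact h.2 ⟨hq, bot_le⟩ (IsLocalRing.le_maximalIdeal hq.ne_top)

end R0S1

section ReducedCriterion

variable {R : Type u} [CommRing R] [IsNoetherianRing R]

omit [IsNoetherianRing R] in
/-- In a reduced ring every associated prime is a minimal prime. -/
theorem mem_minimalPrimes_of_mem_associatedPrimes_of_isReduced [IsReduced R] {p : Ideal R}
    (hp : p ∈ associatedPrimes R R) : p ∈ minimalPrimes R := by
  obtain ⟨hprime, x, hx⟩ := hp
  have hx0 : x ≠ 0 := by
    rintro rfl
    apply hprime.ne_top
    rw [hx, eq_top_iff]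
    intro a _
    refine Ideal.le_radical ?_
    rw [Submodule.mem_colon_singleton, smul_zero]
    exact Submodule.zero_mem _
  -- a prime not containing `x`
  have hnil : x ∉ nilradical R := by
    rw [nilradical_eq_zero R]; exact hx0
  rw [nilradical_eq_sInf, Ideal.mem_sInf] at hnil
  push Not at hnil
  obtain ⟨q, hq, hxq⟩ := hnil
  have hqprime : q.IsPrime := hq
  obtain ⟨q', hq'min, hq'q⟩ := Ideal.exists_minimalPrimes_le (I := ⊥) (J := q) bot_le
  have hxq' : x ∉ q' := fun h => hxq (hq'q h)
  have hq'prime : q'.IsPrime := hq'min.1.1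
  have hpq' : p ≤ q' := by
    intro a ha
    rw [hx] at ha
    obtain ⟨n, hn⟩ := ha
    rw [Submodule.mem_colon_singleton, Submodule.mem_bot, smul_eq_mul] at hn
    have : a ^ n * x ∈ q' := by rw [hn]; exact q'.zero_mem
    rcases hq'prime.mem_or_mem this with h | h
    · exact hq'prime.mem_of_pow_mem n h
    · exact absurd h hxq'
  have : q' ≤ p := hq'min.2 ⟨hprime, bot_le⟩ hpq'
  rw [le_antisymm hpq' this]
  exact hq'min

theorem isReduced_iff_hasRk_zero_and_hasSk_one :
    IsReduced R ↔ (LocCoh.HasRk 0 R ∧ LocCoh.HasSk 1 R R) := by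
  have hann : Module.annihilator R R = ⊥ := by
    rw [eq_bot_iff]
    intro a ha
    rw [Module.mem_annihilator] at ha
    simpa using ha 1
  constructor
  · intro hred
    constructor
    · intro p hp hht
      have hht0 : p.height = 0 := le_antisymm (by simpa using hht) bot_le
      have hdim : ringKrullDim (Localization.AtPrime p) = 0 := by
        rw [IsLocalization.AtPrime.ringKrullDim_eq_height p, hht0]; rfl
      have hmht : (IsLocalRing.maximalIdeal (Localization.AtPrime p)).height = 0 := by
        have := IsLocalRing.maximalIdeal_height_eq_ringKrullDim (R := Localization.AtPrime p)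
        rw [hdim] at this
        exact_mod_cast this
      have hmin := Ideal.height_eq_zero_iff.mp hmht
      have : IsReduced (Localization.AtPrime p) := inferInstance
      exact isRegularLocalRing_of_maximalIdeal_eq_bot
        (maximalIdeal_eq_bot_of_isReduced_of_mem_minimalPrimes hmin)
    · rw [← hasSk_one_iff_forall_mem_minimalPrimes, hann]
      intro p hp
      exact mem_minimalPrimes_of_mem_associatedPrimes_of_isReduced hp
  · rintro ⟨hR0, hS1⟩
    rw [← hasSk_one_iff_forall_mem_minimalPrimes, hann] at hS1
    refine ⟨fun x hxnil => ?_⟩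
    by_contra hx0
    obtain ⟨P, hPass, hle⟩ := exists_le_isAssociatedPrime_of_isNoetherianRing R x hx0
    have hPprime : P.IsPrime := hPass.isPrime
    have hPmin : P ∈ minimalPrimes R := hS1 P hPass
    have hht0 : P.height = 0 := Ideal.height_eq_zero_iff.mpr hPmin
    have hreg := hR0 P (by rw [hht0]; exact bot_le)
    have hdim : ringKrullDim (Localization.AtPrime P) = 0 := by
      rw [IsLocalization.AtPrime.ringKrullDim_eq_height P, hht0]; rfl
    have hm := maximalIdeal_eq_bot_of_isRegularLocalRing hreg hdim
    -- `x/1` is nilpotent, hence in the maximal ideal, hence zero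
    have hx1 : algebraMap R (Localization.AtPrime P) x ∈
        IsLocalRing.maximalIdeal (Localization.AtPrime P) := by
      rw [IsLocalRing.mem_maximalIdeal, mem_nonunits_iff]
      have hnil' : IsNilpotent (algebraMap R (Localization.AtPrime P) x) := hxnil.map _
      exact hnil'.not_isUnit
    rw [hm, Ideal.mem_bot, IsLocalization.map_eq_zero_iff P.primeCompl] at hx1
    obtain ⟨s, hs⟩ := hx1
    have : (s : R) ∈ P := hle (by
      rw [Submodule.mem_colon_singleton, Submodule.mem_bot, smul_eq_mul]; exact hs)
    exact s.2 this

end ReducedCriterion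

end Groth.Agent.Lib.Helper28
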