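import Mathlib
import Groth.Agent.Lib.Helper28FibreTrans
import Groth.Agent.Lib.Helper28ComplCat
import Groth.Agent.Lib.Helper28RegDescent
import Groth.Agent.Lib.Helper28Serre

/-!
# Helper28FormalFibres: ascent of `(S_n)`, `(R_k)`, reducedness and normality along flat maps with
such fibres; the completion is faithfully flat.
-/

set_option autoImplicit false
universe u

namespace Groth.Agent.Lib.Helper28
open IsLocalRing

section SkAscent

variable {A B : Type u} [CommRing A] [CommRing B] [IsNoetherianRing A] [IsNoetherianRing B]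
  [Algebra A B] [Module.Flat A B]

/-- `(S_n)` ascends along flat maps with `(S_n)` fibres. -/
theorem hasSk_of_flat_of_forall_hasSk_fiber (n : ℕ) (hA : LocCoh.HasSk n A A)
    (hfib : ∀ (p : Ideal A) [p.IsPrime], LocCoh.HasSk n (p.Fiber B) (p.Fiber B)) :
    LocCoh.HasSk n B B := by
  have hfib' : ∀ (q : Ideal B) [q.IsPrime], SnLocalRing n (EGA4.FibLocRing A B q) :=
    (forall_hasSk_fiber_iff n).mp hfib
  rw [hasSk_self_iff] at hA ⊢
  intro Q hQ
  have hloc := isLocalRing_fibLocRing (A := A) Q
  have h1 := hA (Q.comap (algebraMap A B))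
  have h2 := (snLocalRing_iff n _).mp (hfib' Q)
  rw [withBot_min_natCast_le_iff] at h1 ⊢
  rw [height_eq_height_fibLocRing_add (A := A) Q, depth_localization_eq_add_fibLocRing (A := A) Q]
  calc min (n : ℕ∞) ((maximalIdeal (EGA4.FibLocRing A B Q)).height
        + (Q.comap (algebraMap A B)).height)
      ≤ min (n : ℕ∞) (maximalIdeal (EGA4.FibLocRing A B Q)).height
        + min (n : ℕ∞) (Q.comap (algebraMap A B)).height := min_natCast_add_le n _ _
    _ ≤ LocCoh.depth (EGA4.FibLocRing A B Q) (EGA4.FibLocRing A B Q) +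
        LocCoh.depth (Localization.AtPrime (Q.comap (algebraMap A B)))
          (Localization.AtPrime (Q.comap (algebraMap A B))) := add_le_add h2 h1
    _ = _ := add_comm _ _

end SkAscent

section Cpl

variable (A : Type u) [CommRing A] [IsNoetherianRing A] [IsLocalRing A]

theorem faithfullyFlat_adicCompletion :
    Module.FaithfullyFlat A (AdicCompletion (maximalIdeal A) A) := by
  have := isLocalHom_algebraMap_adicCompletion A
  exact Module.FaithfullyFlat.of_flat_of_isLocalHom

end Cpl

section RkAscent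

/-- The `(R_k)` condition for a local ring. -/
def RkLocalRing (k : ℕ) (R : Type u) [CommRing R] : Prop :=
  ringKrullDim R ≤ (k : WithBot ℕ∞) → IsRegularLocalRing R

theorem rkLocalRing_of_ringEquiv (k : ℕ) (R S : Type u) [CommRing R] [CommRing S] (e : R ≃+* S)
    (h : RkLocalRing k R) : RkLocalRing k S := by
  intro hdim
  rw [← ringKrullDim_eq_of_ringEquiv e] at hdim
  have := h hdim
  exact IsRegularLocalRing.of_ringEquiv (R := R) e

variable {A B : Type u} [CommRing A] [CommRing B] [Algebra A B]

theorem hasRk_iff_rkLocalRing (k : ℕ) (R : Type u) [CommRing R] :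
    LocCoh.HasRk k R ↔ ∀ (Q : Ideal R) [Q.IsPrime], RkLocalRing k (Localization.AtPrime Q) := by
  unfold LocCoh.HasRk RkLocalRing
  refine forall_congr' fun Q => forall_congr' fun hQ => ?_
  rw [IsLocalization.AtPrime.ringKrullDim_eq_height Q (Localization.AtPrime Q)]
  have h : (k : WithBot ℕ∞) = ((k : ℕ∞) : WithBot ℕ∞) := rfl
  rw [h, WithBot.coe_le_coe]

theorem forall_hasRk_fiber_iff (k : ℕ) :
    (∀ (p : Ideal A) [p.IsPrime], LocCoh.HasRk k (p.Fiber B)) ↔
      ∀ (q : Ideal B) [q.IsPrime], RkLocalRing k (EGA4.FibLocRing A B q) := by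
  rw [← forall_localization_fiber_iff (A := A) (B := B) (RkLocalRing k) (rkLocalRing_of_ringEquiv k)]
  refine forall_congr' fun p => forall_congr' fun hp => ?_
  exact hasRk_iff_rkLocalRing k _

variable [IsNoetherianRing A] [IsNoetherianRing B] [Module.Flat A B]

/-- `(R_k)` ascends along flat maps with `(R_k)` fibres. -/
theorem hasRk_of_flat_of_forall_hasRk_fiber (k : ℕ) (hA : LocCoh.HasRk k A)
    (hfib : ∀ (p : Ideal A) [p.IsPrime], LocCoh.HasRk k (p.Fiber B)) :
    LocCoh.HasRk k B := by
  have hfib' := (forall_hasRk_fiber_iff (A := A) (B := B) k).mp hfib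
  intro Q hQ hht
  have hloc : IsLocalRing (EGA4.FibLocRing A B Q) := isLocalRing_fibLocRing Q
  rw [height_eq_height_fibLocRing_add (A := A) Q] at hht
  have hP1 : (Q.comap (algebraMap A B)).height ≤ (k : ℕ∞) := le_add_self.trans hht
  have hF1 : (IsLocalRing.maximalIdeal (EGA4.FibLocRing A B Q)).height ≤ (k : ℕ∞) :=
    le_self_add.trans hht
  have hAreg := hA (Q.comap (algebraMap A B)) hP1
  have hFreg : IsRegularLocalRing (EGA4.FibLocRing A B Q) := by
    apply hfib' Q
    rw [← IsLocalRing.maximalIdeal_height_eq_ringKrullDim]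
    have h : (k : WithBot ℕ∞) = ((k : ℕ∞) : WithBot ℕ∞) := rfl
    rw [h, WithBot.coe_le_coe]
    exact hF1
  exact isRegularLocalRing_localization_of_fibLocRing Q hAreg hFreg

/-- Reducedness ascends along flat maps with reduced fibres. -/
theorem isReduced_of_flat_of_forall_isReduced_fiber [IsReduced A]
    (hfib : ∀ (p : Ideal A) [p.IsPrime], IsReduced (p.Fiber B)) : IsReduced B := by
  have hA := (isReduced_iff_hasRk_zero_and_hasSk_one (R := A)).mp inferInstance
  have hF : ∀ (p : Ideal A) [p.IsPrime],
      LocCoh.HasRk 0 (p.Fiber B) ∧ LocCoh.HasSk 1 (p.Fiber B) (p.Fiber B) := by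
    intro p _
    have := isNoetherianRing_fiber (B := B) p
    exact (isReduced_iff_hasRk_zero_and_hasSk_one (R := p.Fiber B)).mp (hfib p)
  exact (isReduced_iff_hasRk_zero_and_hasSk_one (R := B)).mpr
    ⟨hasRk_of_flat_of_forall_hasRk_fiber 0 hA.1 (fun p _ => (hF p).1),
      hasSk_of_flat_of_forall_hasSk_fiber 1 hA.2 (fun p _ => (hF p).2)⟩

/-- Normality ascends along flat maps with normal fibres. -/
theorem isNormalRing_of_flat_of_forall_isNormalRing_fiber (hA : EGA4.IsNormalRing A)
    (hfib : ∀ (p : Ideal A) [p.IsPrime], EGA4.IsNormalRing (p.Fiber B)) : EGA4.IsNormalRing B := by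
  have hA' := (forall_isIntegrallyClosed_localization_iff_hasRk_one_and_hasSk_two A).mp hA
  have hF : ∀ (p : Ideal A) [p.IsPrime],
      LocCoh.HasRk 1 (p.Fiber B) ∧ LocCoh.HasSk 2 (p.Fiber B) (p.Fiber B) := by
    intro p _
    have := isNoetherianRing_fiber (B := B) p
    exact (forall_isIntegrallyClosed_localization_iff_hasRk_one_and_hasSk_two (p.Fiber B)).mp
      (hfib p)
  exact (forall_isIntegrallyClosed_localization_iff_hasRk_one_and_hasSk_two B).mpr
    ⟨hasRk_of_flat_of_forall_hasRk_fiber 1 hA'.1 (fun p _ => (hF p).1),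
      hasSk_of_flat_of_forall_hasSk_fiber 2 hA'.2 (fun p _ => (hF p).2)⟩

omit [IsNoetherianRing A] [Module.Flat A B] in
/-- Normality descends along faithfully flat maps. -/
theorem isNormalRing_of_faithfullyFlat [Module.FaithfullyFlat A B] (hB : EGA4.IsNormalRing B) :
    EGA4.IsNormalRing A := by
  have hnoeth : IsNoetherianRing A := isNoetherianRing_of_faithfullyFlat (R := A) (S := B)
  have hB' := (forall_isIntegrallyClosed_localization_iff_hasRk_one_and_hasSk_two B).mp hB
  exact (forall_isIntegrallyClosed_localization_iff_hasRk_one_and_hasSk_two A).mpr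
    ⟨(hasRk_of_faithfullyFlat 1 hB'.1).2, hasSk_of_faithfullyFlat 2 hB'.2⟩

end RkAscent

section NormalEquiv

/-- Normality is invariant under ring isomorphisms. -/
theorem isNormalRing_of_ringEquiv {R S : Type u} [CommRing R] [CommRing S] (e : R ≃+* S)
    (hR : EGA4.IsNormalRing R) : EGA4.IsNormalRing S := by
  intro p hp
  have hp' : (p.comap (e : R →+* S)).IsPrime := Ideal.comap_isPrime _ _
  obtain ⟨hdom, hic⟩ := hR (p.comap (e : R →+* S))
  have hmap : (p.comap (e : R →+* S)).primeCompl.map (e : R →* S) = p.primeCompl := by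
    ext y
    constructor
    · rintro ⟨x, hx, rfl⟩
      exact hx
    · intro hy
      refine ⟨e.symm y, ?_, by simp⟩
      change e.symm y ∈ (p.comap (e : R →+* S)).primeCompl
      rw [Ideal.mem_primeCompl_iff, Ideal.mem_comap]
      simpa using hy
  let f : Localization.AtPrime (p.comap (e : R →+* S)) ≃+* Localization.AtPrime p :=
    IsLocalization.ringEquivOfRingEquiv (Localization.AtPrime (p.comap (e : R →+* S)))
      (Localization.AtPrime p) e hmap
  exact ⟨f.symm.toMulEquiv.isDomain _, IsIntegrallyClosed.of_equiv f⟩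

end NormalEquiv

end Groth.Agent.Lib.Helper28
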