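import Mathlib
import Groth.Agent.Lib.Helper28FormalFibres
import Groth.Agent.Lib.Helper19ComplFlatMap

/-!
# Helper28ComplFlatLocal: a (flat) local homomorphism of Noetherian local rings induces a (flat) local
homomorphism on completions.
-/

set_option autoImplicit false
universe u

namespace Groth.Agent.Lib.Helper28
open IsLocalRing

section ComplFlatLocal

variable (A A' : Type u) [CommRing A] [CommRing A'] [IsNoetherianRing A] [IsNoetherianRing A']
  [IsLocalRing A] [IsLocalRing A'] [Algebra A A'] [IsLocalHom (algebraMap A A')]


/-- A local homomorphism of Noetherian local rings induces a local homomorphism on completions,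
which is flat when the given one is. -/
theorem exists_algebra_adicCompletion_of_isLocalHom :
    ∃ (_ : Algebra (AdicCompletion (maximalIdeal A) A) (AdicCompletion (maximalIdeal A') A')),
      IsScalarTower A (AdicCompletion (maximalIdeal A) A) (AdicCompletion (maximalIdeal A') A') ∧
      IsLocalHom (algebraMap (AdicCompletion (maximalIdeal A) A)
        (AdicCompletion (maximalIdeal A') A')) ∧
      (Module.Flat A A' → Module.Flat (AdicCompletion (maximalIdeal A) A)
        (AdicCompletion (maximalIdeal A') A')) := by
  have hcompl' := isAdicComplete_maximalIdeal_adicCompletion A'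
  have hloc' := isLocalHom_algebraMap_adicCompletion A'
  have hmap : (maximalIdeal A).map (Algebra.ofId A (AdicCompletion (maximalIdeal A') A')).toRingHom ≤
      maximalIdeal (AdicCompletion (maximalIdeal A') A') := by
    rw [Ideal.map_le_iff_le_comap]
    intro a ha
    rw [Ideal.mem_comap]
    change algebraMap A (AdicCompletion (maximalIdeal A') A') a ∈ _
    rw [IsScalarTower.algebraMap_apply A A' (AdicCompletion (maximalIdeal A') A')]
    have h1 : algebraMap A A' a ∈ maximalIdeal A' := by
      rw [← IsLocalRing.maximalIdeal_comap (algebraMap A A')] at ha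
      exact ha
    rw [← IsLocalRing.maximalIdeal_comap (algebraMap A' (AdicCompletion (maximalIdeal A') A'))] at h1
    exact h1
  obtain ⟨Ψ, hΨ⟩ := Groth.Agent.Lib.Helper19.exists_algHom_adicCompletion (R := A)
    (maximalIdeal A) (maximalIdeal (AdicCompletion (maximalIdeal A') A'))
    (Algebra.ofId A (AdicCompletion (maximalIdeal A') A')) hmap
  let alg : Algebra (AdicCompletion (maximalIdeal A) A) (AdicCompletion (maximalIdeal A') A') :=
    Ψ.toRingHom.toAlgebra
  have htower : IsScalarTower A (AdicCompletion (maximalIdeal A) A)
      (AdicCompletion (maximalIdeal A') A') := by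
    apply IsScalarTower.of_algebraMap_eq
    intro a
    exact (Ψ.commutes a).symm
  have hlocΨ : IsLocalHom (algebraMap (AdicCompletion (maximalIdeal A) A)
      (AdicCompletion (maximalIdeal A') A')) := by
    apply ((IsLocalRing.local_hom_TFAE (algebraMap (AdicCompletion (maximalIdeal A) A)
      (AdicCompletion (maximalIdeal A') A'))).out 0 2).mpr
    rw [AdicCompletion.maximalIdeal_eq_map (R := A), Ideal.map_map, ← IsScalarTower.algebraMap_eq]
    exact hmap
  refine ⟨alg, htower, hlocΨ, ?_⟩
  intro hflat
  have hflat2 : Module.Flat A (AdicCompletion (maximalIdeal A') A') :=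
    Module.Flat.trans A A' (AdicCompletion (maximalIdeal A') A')
  apply Groth.Agent.Lib.Helper19.flat_of_adic_quotients (P := A)
    (Q := AdicCompletion (maximalIdeal A') A') (Pc := AdicCompletion (maximalIdeal A) A)
    (Qc := AdicCompletion (maximalIdeal A') A') (maximalIdeal A)
  · intro n x
    exact Groth.Agent.Lib.Helper19.exists_sub_of_mem_map_pow (maximalIdeal A)
      (IsNoetherian.noetherian _) n x
  · intro n y
    exact ⟨y, by simp⟩
  · intro n q hq
    exact hq
  · rw [IsLocalRing.jacobson_eq_maximalIdeal ⊥ bot_ne_top]
    exact hmap

end ComplFlatLocal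

end Groth.Agent.Lib.Helper28
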