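import Mathlib
import Groth.Prelude.Def_Found
import Groth.Agent.Lib.Helper5RLR

/-!
# `k → K` is a regular homomorphism iff `K/k` is geometrically reduced (helper7)
-/

set_option autoImplicit false
set_option linter.style.haveILetI false
universe u

open TensorProduct

namespace Groth.Agent.Lib.Helper7.RegHomField

/-- A reduced Artinian ring is a regular ring. -/
theorem isRegularRing_of_isArtinianRing_of_isReduced (R : Type u) [CommRing R] [IsArtinianRing R]
    [IsReduced R] : IsRegularRing R := by
  rw [isRegularRing_iff]
  intro p hp
  let : Field (Localization.AtPrime p) :=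
    IsField.toField (IsArtinianRing.isField_of_isReduced_of_isLocalRing _)
  infer_instance

/-- A regular ring is reduced. -/
theorem isReduced_of_isRegularRing (R : Type u) [CommRing R] [IsRegularRing R] : IsReduced R := by
  apply isReduced_ofLocalizationMaximal
  intro m hm
  haveI : IsDomain (Localization.AtPrime m) :=
    Groth.Agent.Lib.Helper5.isDomain_of_isRegularLocalRing _
  infer_instance

variable (k K : Type u) [Field k] [Field K] [Algebra k K]

/-- finite level: regular hom ⇒ `F ⊗ K` reduced for `F/k` finite -/
theorem isReduced_tensor_of_isRegularHom (h : CAlg.IsRegularHom k K)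
    (F : Type u) [Field F] [Algebra k F] [Module.Finite k F] : IsReduced (F ⊗[k] K) := by
  haveI hp : (⊥ : Ideal k).IsPrime := Ideal.isPrime_bot
  let e := (⊥ : Ideal k).algEquivResidueFieldOfField
  letI : Algebra (⊥ : Ideal k).ResidueField F :=
    ((algebraMap k F).comp (e.symm : (⊥ : Ideal k).ResidueField →+* k)).toAlgebra
  haveI : IsScalarTower k (⊥ : Ideal k).ResidueField F := .of_algebraMap_eq (fun x => by
    rw [RingHom.algebraMap_toAlgebra, RingHom.comp_apply]
    congr 1
    exact (e.symm_apply_apply x).symm)
  haveI : Module.Finite (⊥ : Ideal k).ResidueField F :=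
    Module.Finite.of_restrictScalars_finite k _ _
  haveI := (h.2 ⊥).2 F inferInstance
  haveI := isReduced_of_isRegularRing (F ⊗[(⊥ : Ideal k).ResidueField] ((⊥ : Ideal k).Fiber K))
  exact isReduced_of_injective
    (Algebra.TensorProduct.cancelBaseChange k (⊥ : Ideal k).ResidueField F F K).symm
    (AlgEquiv.injective _)

theorem isGeometricallyReduced_of_isRegularHom (h : CAlg.IsRegularHom k K) :
    Algebra.IsGeometricallyReduced k K := by
  rw [Algebra.isGeometricallyReduced_field_iff]
  have h1 : IsReduced (K ⊗[k] AlgebraicClosure k) := by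
    refine IsReduced.tensorProduct_of_flat_of_forall_fg (fun B' hB' => ?_)
    have hfield : IsField B' := Subalgebra.isField_of_algebraic B'
    let F := B'.toIntermediateField' hfield
    have hF : F.toSubalgebra = B' := toSubalgebra_toIntermediateField' B' hfield
    haveI : Algebra.FiniteType k B' := (Subalgebra.fg_iff_finiteType B').1 hB'
    haveI : Algebra.IsIntegral k B' :=
      Algebra.IsIntegral.of_injective B'.val Subtype.val_injective
    haveI : Module.Finite k B' := Algebra.IsIntegral.finite
    haveI : Module.Finite k F :=
      Module.Finite.equiv (Subalgebra.equivOfEq _ _ hF.symm).toLinearEquiv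
    haveI := isReduced_tensor_of_isRegularHom k K h F
    let e' : K ⊗[k] B' ≃ₐ[k] F ⊗[k] K :=
      (Algebra.TensorProduct.congr AlgEquiv.refl (Subalgebra.equivOfEq _ _ hF.symm)).trans
        (Algebra.TensorProduct.comm _ _ _)
    exact isReduced_of_injective e' e'.injective
  exact isReduced_of_injective (Algebra.TensorProduct.comm k (AlgebraicClosure k) K)
    (AlgEquiv.injective _)

theorem isRegularHom_of_isGeometricallyReduced [Algebra.IsGeometricallyReduced k K] :
    CAlg.IsRegularHom k K := by
  refine ⟨inferInstance, fun p hp => ?_⟩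
  let e := p.algEquivResidueFieldOfField
  -- the fibre is `K`
  let e1 : p.Fiber K ≃ₐ[k] K :=
    (Algebra.TensorProduct.congr e.symm AlgEquiv.refl).trans (Algebra.TensorProduct.lid k K)
  refine ⟨isNoetherianRing_of_ringEquiv K e1.symm.toRingEquiv, ?_⟩
  intro k' _ _ hfin
  letI : Algebra k k' :=
    ((algebraMap p.ResidueField k').comp (algebraMap k p.ResidueField)).toAlgebra
  haveI : IsScalarTower k p.ResidueField k' := .of_algebraMap_eq (fun _ => rfl)
  haveI : Module.Finite k p.ResidueField := Module.Finite.equiv e.toLinearEquiv
  haveI : Module.Finite k k' := Module.Finite.trans p.ResidueField k'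
  haveI : Algebra.IsAlgebraic k k' := Algebra.IsAlgebraic.of_finite k k'
  haveI : IsReduced (k' ⊗[k] K) := inferInstance
  haveI : IsArtinianRing (K ⊗[k] k') := IsArtinianRing.of_finite K _
  haveI : IsArtinianRing (k' ⊗[k] K) :=
    (Algebra.TensorProduct.comm k K k').toRingEquiv.isArtinianRing
  haveI := isRegularRing_of_isArtinianRing_of_isReduced (k' ⊗[k] K)
  exact IsRegularRing.of_ringEquiv
    (Algebra.TensorProduct.cancelBaseChange k p.ResidueField k' k' K).symm.toRingEquiv

theorem isRegularHom_field_iff :
    CAlg.IsRegularHom k K ↔ Algebra.IsGeometricallyReduced k K :=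
  ⟨isGeometricallyReduced_of_isRegularHom k K, fun _ => isRegularHom_of_isGeometricallyReduced k K⟩

end Groth.Agent.Lib.Helper7.RegHomField
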