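import Mathlib
import Groth.Agent.Lib.Helper28FormalFibres
import Groth.Agent.Lib.Helper7RegHomField

/-!
# Helper28GeomFibre: base change of maps with geometrically regular fibres along quasi-finite maps;
ascent of regular / reduced / normal along flat maps with regular fibres.
-/

set_option autoImplicit false
universe u

namespace Groth.Agent.Lib.Helper28
open IsLocalRing TensorProduct

section FiberBaseChange

variable {R S A : Type u} [CommRing R] [CommRing S] [CommRing A] [Algebra R S] [Algebra R A]

/-- The fibres of a base change `A → A ⊗[R] S` along a quasi-finite `R → A` of a map `R → S` with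
geometrically regular fibres are regular rings. -/
theorem isRegularRing_fiber_tensorProduct [Algebra.QuasiFinite R A]
    (hS : ∀ (q : Ideal R) [q.IsPrime], CAlg.IsGeometricallyRegular q.ResidueField (q.Fiber S))
    (P : Ideal A) [P.IsPrime] : IsRegularRing (P.Fiber (A ⊗[R] S)) := by
  let p := P.under R
  let := Localization.AtPrime.algebraOfLiesOver p P
  let e : P.Fiber (A ⊗[R] S) ≃ₐ[P.ResidueField] P.ResidueField ⊗[p.ResidueField] (p.Fiber S) :=
    (Algebra.TensorProduct.cancelBaseChange _ _ _ _ _).trans
      (Algebra.TensorProduct.cancelBaseChange _ _ _ _ _).symm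
  have hfin : Module.Finite p.ResidueField P.ResidueField := inferInstance
  have h := hS p P.ResidueField hfin
  exact IsRegularRing.of_ringEquiv (R := P.ResidueField ⊗[p.ResidueField] (p.Fiber S))
    e.symm.toRingEquiv

end FiberBaseChange

section RegularFibreAscent

variable {A B : Type u} [CommRing A] [CommRing B] [Algebra A B] [IsNoetherianRing A]
  [IsNoetherianRing B] [Module.Flat A B]

/-- A regular ring is a normal ring. -/
theorem isNormalRing_of_isRegularRing (R : Type u) [CommRing R] [IsRegularRing R] :
    EGA4.IsNormalRing R := by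
  intro p hp
  exact ⟨Groth.Agent.Lib.Helper5.isDomain_of_isRegularLocalRing _,
    isIntegrallyClosed_of_isRegularLocalRing _⟩

/-- Regularity ascends along flat maps with regular fibre rings. -/
theorem isRegularRing_of_flat_of_forall_isRegularRing_fiber [IsRegularRing A]
    (hfib : ∀ (p : Ideal A) [p.IsPrime], IsRegularRing (p.Fiber B)) : IsRegularRing B := by
  rw [isRegularRing_iff]
  intro P hP
  have h1 : ∀ (p : Ideal A) [p.IsPrime] (Q : Ideal (p.Fiber B)) [Q.IsPrime],
      IsRegularLocalRing (Localization.AtPrime Q) := by
    intro p _ Q _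
    have := hfib p
    infer_instance
  have h2 := (forall_localization_fiber_iff (A := A) (B := B)
    (fun R _ => IsRegularLocalRing R)
    (fun R S _ _ e h => IsRegularLocalRing.of_ringEquiv (R := R) e)).mp h1
  exact isRegularLocalRing_localization_of_fibLocRing P inferInstance (h2 P)

/-- Reducedness ascends along flat maps with regular fibre rings. -/
theorem isReduced_of_flat_of_forall_isRegularRing_fiber [IsReduced A]
    (hfib : ∀ (p : Ideal A) [p.IsPrime], IsRegularRing (p.Fiber B)) : IsReduced B :=
  isReduced_of_flat_of_forall_isReduced_fiber (A := A) (B := B) fun p _ =>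
    have := hfib p
    Groth.Agent.Lib.Helper7.RegHomField.isReduced_of_isRegularRing _

/-- Normality ascends along flat maps with regular fibre rings. -/
theorem isNormalRing_of_flat_of_forall_isRegularRing_fiber (hA : EGA4.IsNormalRing A)
    (hfib : ∀ (p : Ideal A) [p.IsPrime], IsRegularRing (p.Fiber B)) : EGA4.IsNormalRing B :=
  isNormalRing_of_flat_of_forall_isNormalRing_fiber (A := A) (B := B) hA fun p _ =>
    have := hfib p
    isNormalRing_of_isRegularRing _

end RegularFibreAscent

section QuasiFiniteBaseChange

variable {R S A : Type u} [CommRing R] [CommRing S] [CommRing A] [Algebra R S] [Algebra R A]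
  [Module.Flat R S] [Algebra.QuasiFinite R A] [IsNoetherianRing A] [IsNoetherianRing (A ⊗[R] S)]

theorem isRegularRing_tensorProduct_of_quasiFinite
    (hS : ∀ (q : Ideal R) [q.IsPrime], CAlg.IsGeometricallyRegular q.ResidueField (q.Fiber S))
    [IsRegularRing A] : IsRegularRing (A ⊗[R] S) :=
  isRegularRing_of_flat_of_forall_isRegularRing_fiber (A := A) (B := A ⊗[R] S)
    fun P _ => isRegularRing_fiber_tensorProduct hS P

theorem isReduced_tensorProduct_of_quasiFinite
    (hS : ∀ (q : Ideal R) [q.IsPrime], CAlg.IsGeometricallyRegular q.ResidueField (q.Fiber S))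
    [IsReduced A] : IsReduced (A ⊗[R] S) :=
  isReduced_of_flat_of_forall_isRegularRing_fiber (A := A) (B := A ⊗[R] S)
    fun P _ => isRegularRing_fiber_tensorProduct hS P

theorem isNormalRing_tensorProduct_of_quasiFinite
    (hS : ∀ (q : Ideal R) [q.IsPrime], CAlg.IsGeometricallyRegular q.ResidueField (q.Fiber S))
    (hA : EGA4.IsNormalRing A) : EGA4.IsNormalRing (A ⊗[R] S) :=
  isNormalRing_of_flat_of_forall_isRegularRing_fiber (A := A) (B := A ⊗[R] S) hA
    fun P _ => isRegularRing_fiber_tensorProduct hS P

end QuasiFiniteBaseChange

end Groth.Agent.Lib.Helper28
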