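import Mathlib
import Groth.Agent.Lib.Helper28FormalFibres
import Groth.Agent.Lib.Helper7RegHomField
import Groth.Agent.Lib.Helper28GeomFibre

/-!
# Helper28GeomFibre2: identification of `k' ⊗ κ(p) ⊗ B` with `B ⊗[A] k'` and of
`k' ⊗ κ(p) ⊗ C` with `(B ⊗[A] k') ⊗[B] C`; composition/descent of properties of geometric fibres.
-/

set_option autoImplicit false
universe u

namespace Groth.Agent.Lib.Helper28
open IsLocalRing TensorProduct

section FibreIdentification

variable (A B C : Type u) [CommRing A] [CommRing B] [CommRing C] [Algebra A B] [Algebra B C]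
  [Algebra A C] [IsScalarTower A B C] (p : Ideal A) [p.IsPrime]
  (k' : Type u) [Field k'] [Algebra p.ResidueField k'] [Algebra A k']
  [IsScalarTower A p.ResidueField k']

/-- `B ⊗[A] k' ≃ k' ⊗[κ(p)] (κ(p) ⊗[A] B)`. -/
noncomputable def tensorFiberEquiv : (B ⊗[A] k') ≃+* (k' ⊗[p.ResidueField] (p.Fiber B)) :=
  (Algebra.TensorProduct.comm A B k').toRingEquiv.trans
    (Algebra.TensorProduct.cancelBaseChange A p.ResidueField k' k' B).symm.toRingEquiv

/-- `(B ⊗[A] k') ⊗[B] C ≃ k' ⊗[κ(p)] (κ(p) ⊗[A] C)`. -/
noncomputable def tensorTensorFiberEquiv :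
    ((B ⊗[A] k') ⊗[B] C) ≃+* (k' ⊗[p.ResidueField] (p.Fiber C)) :=
  (Algebra.TensorProduct.comm B (B ⊗[A] k') C).toRingEquiv.trans
    ((Algebra.TensorProduct.cancelBaseChange A B C C k').toRingEquiv.trans
      (tensorFiberEquiv A C p k'))

omit [Algebra B C] [Algebra A C] [IsScalarTower A B C] in
theorem quasiFinite_tensor_residueField_ext [Module.Finite p.ResidueField k'] :
    Algebra.QuasiFinite B (B ⊗[A] k') := by
  have : Algebra.QuasiFinite A k' := Algebra.QuasiFinite.trans A p.ResidueField k'
  infer_instance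

omit [Algebra B C] [Algebra A C] [IsScalarTower A B C] in
theorem isNoetherianRing_tensor_fiber [Module.Finite p.ResidueField k']
    [IsNoetherianRing (p.Fiber B)] : IsNoetherianRing (k' ⊗[p.ResidueField] (p.Fiber B)) := by
  have h1 : IsNoetherianRing ((p.Fiber B) ⊗[p.ResidueField] k') := by
    have := Algebra.FiniteType.isNoetherianRing (p.Fiber B) ((p.Fiber B) ⊗[p.ResidueField] k')
    exact this
  exact isNoetherianRing_of_ringEquiv _
    (Algebra.TensorProduct.comm p.ResidueField (p.Fiber B) k').toRingEquiv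

end FibreIdentification

section CompDescent

variable (A B C : Type u) [CommRing A] [CommRing B] [CommRing C] [Algebra A B] [Algebra B C]
  [Algebra A C] [IsScalarTower A B C] (p : Ideal A) [p.IsPrime]
  (k' : Type u) [Field k'] [Algebra p.ResidueField k'] [Module.Finite p.ResidueField k']
  [IsNoetherianRing (p.Fiber B)] [IsNoetherianRing (p.Fiber C)]

/-- Property transfer through the composite, for a property stable under ring isomorphisms and
under base change along quasi-finite maps. -/
theorem tensor_fiber_comp_of_property (P : ∀ (R : Type u) [CommRing R], Prop)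
    (hP : ∀ (R S : Type u) [CommRing R] [CommRing S], (R ≃+* S) → P R → P S)
    (hasc : ∀ (R' : Type u) [CommRing R'] [Algebra B R'] [Algebra.QuasiFinite B R']
      [IsNoetherianRing R'] [IsNoetherianRing (R' ⊗[B] C)], P R' → P (R' ⊗[B] C))
    (h : P (k' ⊗[p.ResidueField] (p.Fiber B))) : P (k' ⊗[p.ResidueField] (p.Fiber C)) := by
  let _ : Algebra A k' := ((algebraMap p.ResidueField k').comp (algebraMap A p.ResidueField)).toAlgebra
  have : IsScalarTower A p.ResidueField k' := .of_algebraMap_eq' rfl
  have hqf := quasiFinite_tensor_residueField_ext A B p k'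
  have hN1' := isNoetherianRing_tensor_fiber A B p k'
  have hN2' := isNoetherianRing_tensor_fiber A C p k'
  have hN1 : IsNoetherianRing (B ⊗[A] k') :=
    isNoetherianRing_of_ringEquiv _ (tensorFiberEquiv A B p k').symm
  have hN2 : IsNoetherianRing ((B ⊗[A] k') ⊗[B] C) :=
    isNoetherianRing_of_ringEquiv _ (tensorTensorFiberEquiv A B C p k').symm
  have h1 : P (B ⊗[A] k') := hP _ _ (tensorFiberEquiv A B p k').symm h
  exact hP _ _ (tensorTensorFiberEquiv A B C p k') (hasc (B ⊗[A] k') h1)

/-- Property descent from the composite, for a property stable under ring isomorphisms and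
descending along faithfully flat maps of Noetherian rings. -/
theorem tensor_fiber_descent_of_property (P : ∀ (R : Type u) [CommRing R], Prop)
    (hP : ∀ (R S : Type u) [CommRing R] [CommRing S], (R ≃+* S) → P R → P S)
    (hdesc : ∀ (R' T : Type u) [CommRing R'] [CommRing T] [Algebra R' T]
      [Module.FaithfullyFlat R' T] [IsNoetherianRing R'] [IsNoetherianRing T], P T → P R')
    [Module.FaithfullyFlat B C]
    (h : P (k' ⊗[p.ResidueField] (p.Fiber C))) : P (k' ⊗[p.ResidueField] (p.Fiber B)) := by
  let _ : Algebra A k' := ((algebraMap p.ResidueField k').comp (algebraMap A p.ResidueField)).toAlgebra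
  have : IsScalarTower A p.ResidueField k' := .of_algebraMap_eq' rfl
  have hN1' := isNoetherianRing_tensor_fiber A B p k'
  have hN2' := isNoetherianRing_tensor_fiber A C p k'
  have hN1 : IsNoetherianRing (B ⊗[A] k') :=
    isNoetherianRing_of_ringEquiv _ (tensorFiberEquiv A B p k').symm
  have hN2 : IsNoetherianRing ((B ⊗[A] k') ⊗[B] C) :=
    isNoetherianRing_of_ringEquiv _ (tensorTensorFiberEquiv A B C p k').symm
  have h1 : P ((B ⊗[A] k') ⊗[B] C) := hP _ _ (tensorTensorFiberEquiv A B C p k').symm h
  exact hP _ _ (tensorFiberEquiv A B p k') (hdesc (B ⊗[A] k') ((B ⊗[A] k') ⊗[B] C) h1)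

end CompDescent

end Groth.Agent.Lib.Helper28
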