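import Mathlib
import Groth.Agent.Lib.Helper28GeomFibre2
import Groth.Agent.Lib.Helper28ComplFlatLocal

/-!
# Helper28GeomFibre3: geometric reducedness via finite extensions; transfer of properties of
geometric fibres of a flat local `A → A'` to the geometric formal fibres of `A`.
-/

set_option autoImplicit false
universe u

namespace Groth.Agent.Lib.Helper28
open IsLocalRing TensorProduct

section GeomReducedFinite

/-- Geometric reducedness can be tested on finite field extensions. -/
theorem isGeometricallyReduced_of_forall_finite (k S : Type u) [Field k] [CommRing S] [Algebra k S]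
    (h : ∀ (F : Type u) [Field F] [Algebra k F], Module.Finite k F → IsReduced (F ⊗[k] S)) :
    Algebra.IsGeometricallyReduced k S := by
  rw [Algebra.isGeometricallyReduced_field_iff]
  have h1 : IsReduced (S ⊗[k] AlgebraicClosure k) := by
    refine IsReduced.tensorProduct_of_flat_of_forall_fg (fun B' hB' => ?_)
    have hfield : IsField B' := Subalgebra.isField_of_algebraic B'
    let F := B'.toIntermediateField' hfield
    have hF : F.toSubalgebra = B' := toSubalgebra_toIntermediateField' B' hfield
    have : Algebra.FiniteType k B' := (Subalgebra.fg_iff_finiteType B').1 hB'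
    have : Algebra.IsIntegral k B' :=
      Algebra.IsIntegral.of_injective B'.val Subtype.val_injective
    have : Module.Finite k B' := Algebra.IsIntegral.finite
    have : Module.Finite k F :=
      Module.Finite.equiv (Subalgebra.equivOfEq _ _ hF.symm).toLinearEquiv
    have := h F inferInstance
    let e' : S ⊗[k] B' ≃ₐ[k] F ⊗[k] S :=
      (Algebra.TensorProduct.congr AlgEquiv.refl (Subalgebra.equivOfEq _ _ hF.symm)).trans
        (Algebra.TensorProduct.comm _ _ _)
    exact isReduced_of_injective e' e'.injective
  exact isReduced_of_injective (Algebra.TensorProduct.comm k (AlgebraicClosure k) S)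
    (AlgEquiv.injective _)

end GeomReducedFinite

section FormalFibreDescent

variable (A A' : Type u) [CommRing A] [CommRing A'] [IsNoetherianRing A] [IsNoetherianRing A']
  [IsLocalRing A] [IsLocalRing A'] [Algebra A A'] [IsLocalHom (algebraMap A A')]
  [Module.Flat A A']

/-- Key transfer: if `A → A'` is a flat local homomorphism, then a property
of the geometric fibres of `A → A'` which ascends along quasi-finite base changes of `A' → Â'` and
descends along faithfully flat maps holds for the geometric formal fibres of `A`. -/
theorem formalFibre_property_of_flat_local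
    (P : ∀ (R : Type u) [CommRing R], Prop)
    (hP : ∀ (R S : Type u) [CommRing R] [CommRing S], (R ≃+* S) → P R → P S)
    (hasc : ∀ (R' : Type u) [CommRing R'] [Algebra A' R'] [Algebra.QuasiFinite A' R']
      [IsNoetherianRing R'] [IsNoetherianRing (R' ⊗[A'] EGA4.Cpl A')],
      P R' → P (R' ⊗[A'] EGA4.Cpl A'))
    (hdesc : ∀ (R' T : Type u) [CommRing R'] [CommRing T] [Algebra R' T]
      [Module.FaithfullyFlat R' T] [IsNoetherianRing R'] [IsNoetherianRing T], P T → P R')
    (p : Ideal A) [p.IsPrime] (k' : Type u) [Field k'] [Algebra p.ResidueField k']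
    [Module.Finite p.ResidueField k']
    (h : P (k' ⊗[p.ResidueField] (p.Fiber A'))) :
    P (k' ⊗[p.ResidueField] (EGA4.formalFibre A p)) := by
  obtain ⟨alg, htower, hloc, hflat⟩ := exists_algebra_adicCompletion_of_isLocalHom A A'
  have hfl := hflat inferInstance
  have hff : Module.FaithfullyFlat (EGA4.Cpl A) (EGA4.Cpl A') :=
    Module.FaithfullyFlat.of_flat_of_isLocalHom
  have hN1 : IsNoetherianRing (p.Fiber A') := isNoetherianRing_fiber p
  have hN2 : IsNoetherianRing (p.Fiber (EGA4.Cpl A')) := isNoetherianRing_fiber p
  have hN3 : IsNoetherianRing (p.Fiber (EGA4.Cpl A)) := isNoetherianRing_fiber p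
  have h1 : P (k' ⊗[p.ResidueField] (p.Fiber (EGA4.Cpl A'))) :=
    tensor_fiber_comp_of_property A A' (EGA4.Cpl A') p k' P hP hasc h
  exact tensor_fiber_descent_of_property A (EGA4.Cpl A) (EGA4.Cpl A') p k' P hP hdesc h1

end FormalFibreDescent

end Groth.Agent.Lib.Helper28
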