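import Mathlib
import Groth.Prelude
import Groth.Agent.S4704
import Groth.Agent.S19379
import Groth.Agent.S9126

/-!
# Localizations of excellent rings are excellent (helper7)
-/

universe u

namespace Groth.Agent.Lib.Helper7.ExcLoc

open IsLocalRing

/-- Transfer of the regularity of the completion map along a ring isomorphism of local rings. -/
theorem isRegularHom_cpl_of_ringEquiv (R R' : Type u) [CommRing R] [CommRing R']
    [IsNoetherianRing R] [IsLocalRing R] [IsLocalRing R'] (e : R' ≃+* R)
    (h : CAlg.IsRegularHom R (EGA4.Cpl R)) : CAlg.IsRegularHom R' (EGA4.Cpl R') := by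
  haveI : IsNoetherianRing R' := isNoetherianRing_of_ringEquiv R e.symm
  letI : Algebra R' R := e.toRingHom.toAlgebra
  haveI : IsLocalHom (algebraMap R' R) := by
    refine ⟨fun a ha => ?_⟩
    have : IsUnit (e a) := ha
    simpa using this
  haveI : Algebra.FormallySmooth R' R := by
    let e' : R' ≃ₐ[R'] R := { e with commutes' := fun r => rfl }
    exact Algebra.FormallySmooth.of_equiv e'
  exact S4704.result R' R (S19379.result R' R) h

theorem isGRing_localization (A : Type u) [CommRing A] (hA : CAlg.IsGRing A) (S : Submonoid A) :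
    CAlg.IsGRing (Localization S) := by
  haveI := hA.1
  haveI : IsNoetherianRing (Localization S) := IsLocalization.isNoetherianRing S _ inferInstance
  refine ⟨inferInstance, fun P _ => ?_⟩
  let p := P.comap (algebraMap A (Localization S))
  haveI : p.IsPrime := Ideal.comap_isPrime _ _
  haveI : IsLocalization.AtPrime (Localization.AtPrime P) p :=
    IsLocalization.isLocalization_isLocalization_atPrime_isLocalization S _ P
  let e : Localization.AtPrime P ≃ₐ[A] Localization.AtPrime p :=
    IsLocalization.algEquiv p.primeCompl _ _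
  exact isRegularHom_cpl_of_ringEquiv (Localization.AtPrime p) (Localization.AtPrime P)
    e.toRingEquiv (hA.2 p)

/-- A finite type algebra over a localization `S⁻¹A` is a localization of a finite type
`A`-subalgebra. -/
theorem exists_subalgebra_isLocalization (A : Type u) [CommRing A] (S : Submonoid A)
    (B : Type u) [CommRing B] [Algebra (Localization S) B] [Algebra A B]
    [IsScalarTower A (Localization S) B] (hB : Algebra.FiniteType (Localization S) B) :
    ∃ B0 : Subalgebra A B, B0.FG ∧ IsLocalization (Algebra.algebraMapSubmonoid B0 S) B := by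
  obtain ⟨s, hs⟩ := hB.out
  refine ⟨Algebra.adjoin A (s : Set B), ⟨s, rfl⟩, ?_⟩
  set B0 : Subalgebra A B := Algebra.adjoin A (s : Set B) with hB0
  have hunit : ∀ t ∈ S, IsUnit (algebraMap A B t) := fun t ht => by
    rw [IsScalarTower.algebraMap_apply A (Localization S) B]
    exact (IsLocalization.map_units (Localization S) ⟨t, ht⟩).map _
  refine ⟨?_, ?_, ?_⟩
  · rintro ⟨y, t, ht, rfl⟩
    have : algebraMap B0 B (algebraMap A B0 t) = algebraMap A B t := rfl
    rw [this]
    exact hunit t ht
  · intro z
    have hz : z ∈ Algebra.adjoin (Localization S) (s : Set B) := by rw [hs]; trivial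
    induction hz using Algebra.adjoin_induction with
    | mem x hx =>
      exact ⟨(⟨x, Algebra.subset_adjoin hx⟩, 1), by simp⟩
    | algebraMap r =>
      obtain ⟨⟨a, t⟩, hat⟩ := IsLocalization.surj S r
      refine ⟨(algebraMap A B0 a, ⟨algebraMap A B0 t, t, t.2, rfl⟩), ?_⟩
      change algebraMap (Localization S) B r * algebraMap A B t = algebraMap A B a
      rw [IsScalarTower.algebraMap_apply A (Localization S) B,
        IsScalarTower.algebraMap_apply A (Localization S) B, ← map_mul, hat]
    | add x y _ _ hx hy =>
      obtain ⟨⟨x1, y1⟩, h1⟩ := hx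
      obtain ⟨⟨x2, y2⟩, h2⟩ := hy
      refine ⟨(x1 * y2 + x2 * y1, y1 * y2), ?_⟩
      simp only [Submonoid.coe_mul, map_mul, map_add] at h1 h2 ⊢
      rw [← h1, ← h2]; ring
    | mul x y _ _ hx hy =>
      obtain ⟨⟨x1, y1⟩, h1⟩ := hx
      obtain ⟨⟨x2, y2⟩, h2⟩ := hy
      refine ⟨(x1 * x2, y1 * y2), ?_⟩
      simp only [Submonoid.coe_mul, map_mul] at h1 h2 ⊢
      rw [← h1, ← h2]; ring
  · intro x y hxy
    exact ⟨1, by rw [Subtype.ext hxy]⟩

theorem isJ2_localization (A : Type u) [CommRing A] (hA : EGA4.IsJ2 A) (S : Submonoid A) :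
    EGA4.IsJ2 (Localization S) := by
  intro B _ _ hB
  letI : Algebra A B :=
    ((algebraMap (Localization S) B).comp (algebraMap A (Localization S))).toAlgebra
  haveI : IsScalarTower A (Localization S) B := IsScalarTower.of_algebraMap_eq (fun _ => rfl)
  obtain ⟨B0, hfg, hloc⟩ := exists_subalgebra_isLocalization A S B hB
  haveI : Algebra.FiniteType A B0 := (Subalgebra.fg_iff_finiteType B0).mp hfg
  have hopen := hA B0 inferInstance
  have : EGA4.regLocus B = (PrimeSpectrum.comap (algebraMap B0 B)) ⁻¹' EGA4.regLocus B0 := by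
    ext Q
    simp only [EGA4.regLocus, Set.mem_setOf_eq, Set.mem_preimage]
    haveI : IsLocalization.AtPrime (Localization.AtPrime Q.asIdeal)
        (Q.asIdeal.comap (algebraMap B0 B)) :=
      IsLocalization.isLocalization_isLocalization_atPrime_isLocalization
        (Algebra.algebraMapSubmonoid B0 S) _ Q.asIdeal
    let e : Localization.AtPrime Q.asIdeal ≃ₐ[B0]
        Localization.AtPrime (Q.asIdeal.comap (algebraMap B0 B)) :=
      IsLocalization.algEquiv (Q.asIdeal.comap (algebraMap B0 B)).primeCompl _ _
    constructor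
    · intro h
      haveI := h; exact IsRegularLocalRing.of_ringEquiv e.toRingEquiv
    · intro h
      haveI : IsRegularLocalRing
          (Localization.AtPrime (Ideal.comap (algebraMap B0 B) Q.asIdeal)) := h
      exact IsRegularLocalRing.of_ringEquiv e.symm.toRingEquiv
  rw [this]
  exact hopen.preimage (PrimeSpectrum.continuous_comap _)

theorem isExcellent_localization (A : Type u) [CommRing A] (hA : EGA4.IsExcellent A)
    (S : Submonoid A) : EGA4.IsExcellent (Localization S) := by
  obtain ⟨hN, hUC, hG, hJ⟩ := hA
  exact ⟨IsLocalization.isNoetherianRing S _ hN, S9126.result A (Localization S) hUC,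
    isGRing_localization A hG S, isJ2_localization A hJ S⟩

end Groth.Agent.Lib.Helper7.ExcLoc
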