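import Mathlib
import Groth.Prelude.Def_EGA41
import Groth.Agent.Lib.Helper7PField3

set_option autoImplicit false
set_option linter.style.haveILetI false
set_option linter.unusedSectionVars false
open TensorProduct KaehlerDifferential MvPolynomial
universe u v w

namespace Groth.Agent.Lib.Helper7.PPow

section A1
variable {R : Type u} {B : Type v} [CommRing R] [CommRing B] [Algebra R B] (p : ℕ) [Fact p.Prime]
  {ι : Type*}

lemma exists_reduced_aeval_eq (x : ι → B) (hx : ∀ i, x i ^ p ∈ Set.range (algebraMap R B))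
    {y : B} (hy : y ∈ Algebra.adjoin R (Set.range x)) :
    ∃ g ∈ restrictDegree ι R (p - 1), aeval x g = y := by
  choose a ha using hx
  rw [Algebra.adjoin_range_eq_range_aeval] at hy
  obtain ⟨f, rfl⟩ := hy
  obtain ⟨g, hg, hfg⟩ := exists_reduced_sub_mem_relIdeal p a f
  refine ⟨g, hg, ?_⟩
  have := aeval_eq_zero_of_mem_relIdeal p x a ha hfg
  rw [map_sub, sub_eq_zero] at this
  exact this.symm

end A1

section MacLane

variable {E₁ : Type*} {k : Type*} {E₂ : Type*} {K : Type*} [Field E₁] [Field k] [Field E₂] [Field K]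
  [Algebra E₁ k] [Algebra E₂ K] [Algebra k K] (p : ℕ) [Fact p.Prime] [CharP K p]
  {ι : Type*} {ι' : Type*}

/-- MacLane: if a `p`-generating family of `k` stays `p`-free in `K`, then `p`-th powers of
`k`-linearly independent families of `K` are `k`-linearly independent. -/
theorem linearIndependent_pow_of_pfree (φ : E₁ →+* E₂)
    (hφ : ∀ e, algebraMap E₂ K (φ e) = algebraMap k K (algebraMap E₁ k e))
    (h₁ : ∀ e : E₁, ∃ γ : k, γ ^ p = algebraMap E₁ k e)
    (h₁' : ∀ y : k, y ^ p ∈ Set.range (algebraMap E₁ k))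
    (h₂ : ∀ y : K, y ^ p ∈ Set.range (algebraMap E₂ K))
    (t : ι → k) (hgen : Algebra.adjoin E₁ (Set.range t) = ⊤)
    (hfree : PFree E₂ p (fun i => algebraMap k K (t i)))
    (a : ι' → K) (ha : LinearIndependent k a) : LinearIndependent k (fun i => a i ^ p) := by
  classical
  have hp : p.Prime := Fact.out
  rw [linearIndependent_iff']
  intro s c hsum
  have hc : ∀ i, ∃ g ∈ restrictDegree ι E₁ (p - 1), aeval t g = c i := fun i =>
    exists_reduced_aeval_eq p t (fun j => h₁' (t j)) (by rw [hgen]; trivial)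
  choose g hg hgc using hc
  choose β hβ using fun i => h₂ (a i)
  let G : MvPolynomial ι E₂ := ∑ i ∈ s, C (β i) * map φ (g i)
  have hGred : G ∈ restrictDegree ι E₂ (p - 1) := by
    refine Submodule.sum_mem _ fun i _ => ?_
    rw [C_mul']
    refine Submodule.smul_mem _ _ ?_
    rw [mem_restrictDegree]
    intro e he j
    exact (mem_restrictDegree _ _ _).1 (hg i) e (support_map_subset φ (g i) he) j
  have hcomp : (algebraMap E₂ K).comp φ = (algebraMap k K).comp (algebraMap E₁ k) :=
    RingHom.ext hφ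
  have hmap : ∀ q : MvPolynomial ι E₁, aeval (fun i => algebraMap k K (t i)) (map φ q) =
      algebraMap k K (aeval t q) := by
    intro q
    rw [aeval_def, eval₂_map, hcomp, aeval_def, eval₂_comp_left]
    rfl
  have hG0 : aeval (fun i => algebraMap k K (t i)) G = 0 := by
    simp only [G, map_sum, map_mul, aeval_C, hβ, hmap, hgc]
    rw [← hsum]
    refine Finset.sum_congr rfl fun i _ => ?_
    rw [Algebra.smul_def, mul_comm]
  have hG := hfree G hGred hG0
  have hcoeff : ∀ e : ι →₀ ℕ, ∑ i ∈ s, β i * φ (coeff e (g i)) = 0 := by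
    intro e
    have := congrArg (coeff e) hG
    simpa [G, coeff_sum, coeff_C_mul, coeff_map] using this
  choose γ hγ using fun (i : ι') (e : ι →₀ ℕ) => h₁ (coeff e (g i))
  have hγ0 : ∀ e, ∀ i ∈ s, γ i e = 0 := by
    intro e
    apply linearIndependent_iff'.1 ha s (fun i => γ i e)
    have h := congrArg (algebraMap E₂ K) (hcoeff e)
    rw [map_sum, map_zero] at h
    have h2 : ∀ i ∈ s, algebraMap E₂ K (β i * φ (coeff e (g i))) = (γ i e • a i) ^ p := by
      intro i _
      rw [map_mul, hβ, hφ, ← hγ, Algebra.smul_def, mul_pow, map_pow, mul_comm]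
    rw [Finset.sum_congr rfl h2, ← sum_pow_char] at h
    exact (pow_eq_zero_iff hp.ne_zero).1 h
  intro i hi
  have hgi : g i = 0 := by
    ext e
    rw [coeff_zero]
    have := hγ i e
    rw [hγ0 e i hi, zero_pow hp.ne_zero] at this
    exact (map_eq_zero (algebraMap E₁ k)).1 this.symm
  rw [← hgc i, hgi, map_zero]

/-- If the `p`-th powers of some basis of `K/k` are linearly independent, `K/k` is geometrically
reduced. -/
theorem isGeometricallyReduced_of_basis_pow {k : Type u} {K : Type v} [Field k] [Field K]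
    [Algebra k K] (p : ℕ) [Fact p.Prime] [CharP k p] {ι' : Type*} (b : Module.Basis ι' k K)
    (hb : LinearIndependent k (fun i => b i ^ p)) : Algebra.IsGeometricallyReduced k K := by
  classical
  rw [Algebra.isGeometricallyReduced_field_iff]
  have hp : p.Prime := Fact.out
  rw [isReduced_iff_pow_one_lt p hp.one_lt]
  intro z hz
  let L := AlgebraicClosure k
  let T := L ⊗[k] K
  have : Nontrivial T :=
    (Algebra.TensorProduct.includeRight_injective (R := k) (A := L) (B := K)
      (algebraMap k L).injective).nontrivial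
  have : CharP T p := charP_of_injective_algebraMap (algebraMap k T).injective p
  let B := Algebra.TensorProduct.basis L b
  have hzrepr : z = ∑ i ∈ (B.repr z).support, (B.repr z i) ⊗ₜ[k] b i := by
    conv_lhs => rw [← B.linearCombination_repr z]
    rw [Finsupp.linearCombination_apply, Finsupp.sum]
    refine Finset.sum_congr rfl fun i _ => ?_
    rw [Algebra.TensorProduct.basis_repr_symm_apply']
  rw [hzrepr, sum_pow_char] at hz
  have h2 : ∀ i ∈ (B.repr z).support, ((B.repr z i) ⊗ₜ[k] b i : T) ^ p =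
      (B.repr z i ^ p) • ((1 : L) ⊗ₜ[k] (b i ^ p)) := by
    intro i _
    rw [Algebra.TensorProduct.tmul_pow, TensorProduct.smul_tmul', smul_eq_mul, mul_one]
  rw [Finset.sum_congr rfl h2] at hz
  have hli : LinearIndependent L (fun i => (1 : L) ⊗ₜ[k] (b i ^ p)) :=
    Module.Flat.linearIndependent_one_tmul hb
  have h3 := linearIndependent_iff'.1 hli _ _ hz
  have h4 : B.repr z = 0 := by
    ext i
    by_cases hi : i ∈ (B.repr z).support
    · exact (pow_eq_zero_iff hp.ne_zero).1 (h3 i hi)
    · simpa using hi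
  exact B.repr.map_eq_zero_iff.1 h4

end MacLane

theorem D_pow_char_eq_zero {R : Type*} {K : Type*} [CommRing R] [CommRing K] [Algebra R K]
    (p : ℕ) [CharP K p] (y : K) : D R K (y ^ p) = 0 := by
  rw [Derivation.leibniz_pow, ← Nat.cast_smul_eq_nsmul K, CharP.cast_eq_zero, zero_smul]

theorem isGeometricallyReduced_of_injective_mapBaseChange {k : Type u} {K : Type v} [Field k]
    [Field K] [Algebra k K] (p : ℕ) [Fact p.Prime] [CharP k p]
    (hinj : Function.Injective (KaehlerDifferential.mapBaseChange ℤ k K)) :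
    Algebra.IsGeometricallyReduced k K := by
  classical
  haveI : CharP K p := charP_of_injective_algebraMap (algebraMap k K).injective p
  let E₁ : Subfield k := (frobenius k p).fieldRange
  let E₂ : Subfield K := (frobenius K p).fieldRange
  have hE₁ : ∀ y : k, y ^ p ∈ Set.range (algebraMap E₁ k) := fun y => ⟨⟨y ^ p, ⟨y, rfl⟩⟩, rfl⟩
  have hE₂ : ∀ y : K, y ^ p ∈ Set.range (algebraMap E₂ K) := fun y => ⟨⟨y ^ p, ⟨y, rfl⟩⟩, rfl⟩
  have hD₂ : ∀ e : E₂, D ℤ K (algebraMap E₂ K e) = 0 := by
    rintro ⟨_, y, rfl⟩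
    exact D_pow_char_eq_zero p y
  obtain ⟨T, -, hT, hgen⟩ := exists_pfreeSet_adjoin_eq_top p hE₁ (pfreeSet_empty (E := E₁) p)
  have hli₁ : LinearIndependent k (fun i : T => D ℤ k (i : k)) :=
    linearIndependent_D_of_pfree (k := ℤ) p hE₁ hT
  have hli₂ : LinearIndependent K (fun i : T => (1 : K) ⊗ₜ[k] D ℤ k (i : k)) :=
    Module.Flat.linearIndependent_one_tmul hli₁
  have hli₃ : LinearIndependent K (fun i : T => D ℤ K (algebraMap k K i)) := by
    have := hli₂.map' (KaehlerDifferential.mapBaseChange ℤ k K) (LinearMap.ker_eq_bot.2 hinj)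
    have h : (fun i : T => D ℤ K (algebraMap k K i)) =
        (KaehlerDifferential.mapBaseChange ℤ k K) ∘ fun i : T => (1 : K) ⊗ₜ[k] D ℤ k (i : k) := by
      ext i
      simp [KaehlerDifferential.mapBaseChange_tmul]
    rw [h]
    exact this
  have hfree : PFree E₂ p (fun i : T => algebraMap k K (i : k)) :=
    pfree_of_linearIndependent_D (k := ℤ) p hD₂ hE₂ hli₃
  let φ : E₁ →+* E₂ := ((algebraMap k K).comp E₁.subtype).codRestrict E₂ (by
    rintro ⟨_, y, rfl⟩
    exact ⟨algebraMap k K y, by simp [frobenius_def]⟩)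
  let b := Module.Basis.ofVectorSpace k K
  have H := linearIndependent_pow_of_pfree p φ (fun e => rfl)
    (by rintro ⟨_, y, rfl⟩; exact ⟨y, rfl⟩) hE₁ hE₂ (Subtype.val : T → k)
    (by rwa [Subtype.range_coe]) hfree b b.linearIndependent
  exact isGeometricallyReduced_of_basis_pow p b H

end Groth.Agent.Lib.Helper7.PPow
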