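import Mathlib.FieldTheory.SeparablyGenerated
import Mathlib.RingTheory.Nilpotent.GeometricallyReduced
import Mathlib.RingTheory.Smooth.Field
import Mathlib.LinearAlgebra.Basis.VectorSpace

/-!
Helper library (helper12): a finitely generated, geometrically reduced field extension is
separably generated, hence formally smooth (MacLane's criterion, (4) ⇒ (2) ⇒ (1) of Stacks 030W).
-/

set_option autoImplicit false
universe u v
open TensorProduct

namespace Groth.Agent.Lib.Helper12.SepGen

variable {k : Type u} {K : Type v} [Field k] [Field K] [Algebra k K]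

/-- coordinates: for a linearly independent finite set, tensors `∑ d_x ⊗ x = 0` force `d_x = 0`. -/
lemma eq_zero_of_sum_tmul_eq_zero {L : Type*} [Field L] [Algebra k L]
    (s : Finset K) (hs : LinearIndepOn k id (s : Set K)) (d : K → L)
    (h : ∑ x ∈ s, d x ⊗ₜ[k] x = 0) : ∀ y ∈ s, d y = 0 := by
  classical
  intro y hy
  let b := Module.Basis.extend hs
  have hy' : y ∈ hs.extend (Set.subset_univ _) := Module.Basis.subset_extend hs hy
  let fy : K →ₗ[k] k := b.coord ⟨y, hy'⟩
  have hfy : ∀ x ∈ s, fy x = if x = y then 1 else 0 := by
    intro x hx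
    have hx' : x ∈ hs.extend (Set.subset_univ _) := Module.Basis.subset_extend hs hx
    have : b ⟨x, hx'⟩ = x := Module.Basis.extend_apply_self hs _
    have h2 : fy (b ⟨x, hx'⟩) = if x = y then 1 else 0 := by
      simp only [fy, Module.Basis.coord_apply, Module.Basis.repr_self, Finsupp.single_apply,
        Subtype.mk.injEq]
    rwa [this] at h2
  have h1 := congrArg (fun z => TensorProduct.rid k L (fy.lTensor L z)) h
  simp only [map_sum, LinearMap.lTensor_tmul, map_zero, TensorProduct.rid_tmul] at h1
  rw [Finset.sum_congr rfl (fun x hx => by rw [hfy x hx])] at h1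
  simpa [hy] using h1

/-- (4) ⇒ (2): geometrically reduced ⇒ `p`-th powers of linearly independent families are
linearly independent. -/
lemma linearIndepOn_pow_of_isGeometricallyReduced (p : ℕ) (hp : p.Prime) [CharP k p]
    [Algebra.IsGeometricallyReduced k K] (s : Finset K)
    (hs : LinearIndepOn k id (s : Set K)) : LinearIndepOn k (· ^ p) (s : Set K) := by
  classical
  rw [linearIndepOn_finset_iff]
  intro c hc y hy
  let L := AlgebraicClosure k
  let T := L ⊗[k] K
  have : Fact p.Prime := ⟨hp⟩
  have : Nontrivial T :=
    (Algebra.TensorProduct.includeRight_injective (R := k) (A := L) (B := K)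
      (algebraMap k L).injective).nontrivial
  have hinj : Function.Injective (algebraMap k T) := (algebraMap k T).injective
  have : CharP T p := charP_of_injective_algebraMap hinj p
  have : CharP L p := charP_of_injective_algebraMap (algebraMap k L).injective p
  -- p-th roots
  have hroot : ∀ a : L, ∃ b : L, b ^ p = a := fun a =>
    IsAlgClosed.exists_pow_nat_eq a hp.pos
  choose r hr using hroot
  let d : K → L := fun x => r (algebraMap k L (c x))
  let z : T := ∑ x ∈ s, d x ⊗ₜ[k] x
  have hz : z ^ p = 0 := by
    simp only [z]
    rw [sum_pow_char]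
    have : ∀ x ∈ s, (d x ⊗ₜ[k] x : T) ^ p = (1 : L) ⊗ₜ[k] (c x • x ^ p) := by
      intro x _
      rw [Algebra.TensorProduct.tmul_pow, hr, TensorProduct.tmul_smul, TensorProduct.smul_tmul',
        Algebra.smul_def, mul_one]
    rw [Finset.sum_congr rfl this, ← TensorProduct.tmul_sum, hc, TensorProduct.tmul_zero]
  have hz0 : z = 0 := IsReduced.eq_zero _ ⟨p, hz⟩
  have hd := eq_zero_of_sum_tmul_eq_zero s hs d hz0 y hy
  have : algebraMap k L (c y) = 0 := by
    rw [← hr (algebraMap k L (c y))]
    change (d y) ^ p = 0
    rw [hd, zero_pow hp.ne_zero]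
  exact (map_eq_zero _).mp this

variable (k K) in
/-- A finitely generated geometrically reduced field extension is separably generated. -/
theorem exists_isTranscendenceBasis_and_isSeparable [Algebra.EssFiniteType k K]
    [Algebra.IsGeometricallyReduced k K] :
    ∃ s : Finset K, IsTranscendenceBasis k ((↑) : s → K) ∧
      Algebra.IsSeparable (IntermediateField.adjoin k (s : Set K)) K := by
  obtain _ | ⟨p, hp, hpk⟩ := CharP.exists' k
  · exact exists_isTranscendenceBasis_and_isSeparable_of_perfectField k K
  · have : ExpChar k p := .prime hp.out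
    exact exists_isTranscendenceBasis_and_isSeparable_of_linearIndepOn_pow_of_essFiniteType
      p hp.out fun s hs ↦ linearIndepOn_pow_of_isGeometricallyReduced p hp.out s hs

variable (k K) in
/-- A finitely generated geometrically reduced field extension is formally smooth. -/
theorem formallySmooth [Algebra.EssFiniteType k K] [Algebra.IsGeometricallyReduced k K] :
    Algebra.FormallySmooth k K := by
  obtain ⟨s, hs, H⟩ := exists_isTranscendenceBasis_and_isSeparable k K
  have : Algebra.IsSeparable (↥(IntermediateField.adjoin k (Set.range ((↑) : s → K)))) K := by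
    convert! H <;> simp
  exact .of_algebraicIndependent_of_isSeparable hs.1

end Groth.Agent.Lib.Helper12.SepGen
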