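import Mathlib
import Groth.Prelude.Def_Exal2
import Groth.Prelude.Def_FSRel

set_option linter.unusedSectionVars false

open Exal

universe u v

namespace Groth.Agent.Lib.Helper7.ExalLib

attribute [local instance] Exal.opModule Exal.isCentralScalar_opModule

section General

variable {A : Type*} {B L : Type u} [CommRing A] [CommRing B] [Algebra A B] [AddCommGroup L]
  [Module B L]

lemma incl_mul_incl (X : Ext A B L) (m m' : L) : X.incl m * X.incl m' = 0 := by
  rw [X.isExtension.mul_incl, (X.isExtension.exact _).2 ⟨m, rfl⟩, zero_smul, map_zero]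

lemma proj_incl (X : Ext A B L) (m : L) : X.proj (X.incl m) = 0 :=
  (X.isExtension.exact _).2 ⟨m, rfl⟩

end General

section Quot

variable {B : Type u} [CommRing B] (J : Ideal B) {M : Type u} [AddCommGroup M]
  [Module (B ⧸ J) M] [Module B M] [IsScalarTower B (B ⧸ J) M]

/-- the inclusion as a `B`-linear map -/
noncomputable def inclLin (X : Ext B (B ⧸ J) M) : M →ₗ[B] X.E where
  toFun := X.incl
  map_add' := X.incl.map_add
  map_smul' b m := by
    rw [RingHom.id_apply, Algebra.smul_def, X.isExtension.mul_incl, AlgHom.commutes,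
      algebraMap_smul]

@[simp] lemma inclLin_apply (X : Ext B (B ⧸ J) M) (m : M) : inclLin J X m = X.incl m := rfl

/-- the canonical surjection `B ⊕ M → E` -/
noncomputable def Psi (X : Ext B (B ⧸ J) M) : TrivSqZeroExt B M →ₐ[B] X.E :=
  TrivSqZeroExt.lift (Algebra.ofId B X.E) (inclLin J X) (fun x y => incl_mul_incl X x y)
    (fun r x => by rw [map_smul, Algebra.smul_def]; rfl)
    (fun r x => by
      rw [mul_comm]
      change inclLin J X (r • x) = _
      rw [map_smul, Algebra.smul_def]; rfl)

lemma Psi_apply (X : Ext B (B ⧸ J) M) (t : TrivSqZeroExt B M) :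
    Psi J X t = algebraMap B X.E t.fst + X.incl t.snd := rfl

lemma Psi_surjective (X : Ext B (B ⧸ J) M) : Function.Surjective (Psi J X) := by
  intro e
  obtain ⟨b, hb⟩ := Ideal.Quotient.mk_surjective (X.proj e)
  have h0 : X.proj (e - algebraMap B X.E b) = 0 := by
    rw [map_sub, AlgHom.commutes, Ideal.Quotient.algebraMap_eq, hb, sub_self]
  obtain ⟨m, hm⟩ := (X.isExtension.exact _).1 h0
  refine ⟨TrivSqZeroExt.inl b + TrivSqZeroExt.inr m, ?_⟩
  rw [Psi_apply]
  simp only [TrivSqZeroExt.fst_add, TrivSqZeroExt.fst_inl, TrivSqZeroExt.fst_inr, add_zero,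
    TrivSqZeroExt.snd_add, TrivSqZeroExt.snd_inl, TrivSqZeroExt.snd_inr, zero_add]
  rw [hm]; ring

lemma incl_idealToKer (X : Ext B (B ⧸ J) M) (z : J) :
    X.incl (X.idealToKer J z) = algebraMap B X.E z :=
  X.incl_kerLift _ (X.proj_algebraMap_eq_zero J z)

lemma mem_ker_Psi_iff (X : Ext B (B ⧸ J) M) (t : TrivSqZeroExt B M) :
    t ∈ RingHom.ker (Psi J X) ↔ ∃ h : t.fst ∈ J, X.idealToKer J ⟨t.fst, h⟩ = - t.snd := by
  rw [RingHom.mem_ker, Psi_apply]
  constructor
  · intro h
    have h1 : X.proj (algebraMap B X.E t.fst + X.incl t.snd) = 0 := by rw [h, map_zero]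
    rw [map_add, proj_incl, add_zero, AlgHom.commutes, Ideal.Quotient.algebraMap_eq,
      Ideal.Quotient.eq_zero_iff_mem] at h1
    refine ⟨h1, ?_⟩
    apply X.isExtension.incl_injective
    rw [incl_idealToKer, map_neg]
    exact eq_neg_of_add_eq_zero_left h
  · rintro ⟨h, h2⟩
    have := incl_idealToKer J X ⟨t.fst, h⟩
    rw [h2, map_neg] at this
    rw [← this]; simp

lemma idealToKer_eq (X : Ext B (B ⧸ J) M) (z : J) :
    X.idealToKer J z = X.conormalMap J (J.toCotangent z) := rfl

lemma ker_Psi_eq (X Y : Ext B (B ⧸ J) M) (h : X.conormalMap J = Y.conormalMap J) :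
    RingHom.ker (Psi J X) = RingHom.ker (Psi J Y) := by
  ext t
  rw [mem_ker_Psi_iff, mem_ker_Psi_iff]
  simp only [idealToKer_eq, h]

/-- two extensions with the same conormal map are equivalent -/
noncomputable def equivOfConormalEq (X Y : Ext B (B ⧸ J) M)
    (h : X.conormalMap J = Y.conormalMap J) : X.Equiv Y := by
  let e : X.E ≃ₐ[B] Y.E :=
    ((Ideal.quotientKerAlgEquivOfSurjective (Psi_surjective J X)).symm.trans
      (Ideal.quotientEquivAlgOfEq B (ker_Psi_eq J X Y h))).trans
      (Ideal.quotientKerAlgEquivOfSurjective (Psi_surjective J Y))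
  have he : ∀ t, e (Psi J X t) = Psi J Y t := by
    intro t
    simp only [e, AlgEquiv.trans_apply, Ideal.quotientKerAlgEquivOfSurjective_symm_apply]
    rw [Ideal.quotientEquivAlgOfEq_mk]
    exact Ideal.quotientKerAlgEquivOfSurjective_mk _ _
  refine ⟨e, ?_, ?_⟩
  · intro x
    obtain ⟨t, rfl⟩ := Psi_surjective J X x
    rw [he, Psi_apply, Psi_apply, map_add, map_add, proj_incl, proj_incl, AlgHom.commutes,
      AlgHom.commutes]
  · intro z
    have h1 : X.incl z = Psi J X (TrivSqZeroExt.inr z) := by
      rw [Psi_apply]; simp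
    have h2 : Y.incl z = Psi J Y (TrivSqZeroExt.inr z) := by
      rw [Psi_apply]; simp
    rw [h1, he, h2]

omit [IsScalarTower B (B ⧸ J) M] in
lemma smul_eq_zero_of_mem [IsScalarTower B (B ⧸ J) M] {j : B} (hj : j ∈ J) (m : M) :
    j • m = 0 := by
  rw [← algebraMap_smul (B ⧸ J) j m, Ideal.Quotient.algebraMap_eq,
    Ideal.Quotient.eq_zero_iff_mem.mpr hj, zero_smul]

/-- the ideal `{(j, -w j)}` of `B ⊕ M` -/
def graphIdeal (w : J →ₗ[B] M) : Ideal (TrivSqZeroExt B M) where
  carrier := {t | ∃ h : t.fst ∈ J, w ⟨t.fst, h⟩ = - t.snd}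
  zero_mem' := ⟨J.zero_mem, by
    have : (⟨(0 : TrivSqZeroExt B M).fst, J.zero_mem⟩ : J) = 0 := rfl
    rw [this, map_zero]; simp⟩
  add_mem' := by
    rintro s t ⟨hs, hs'⟩ ⟨ht, ht'⟩
    refine ⟨by simpa using J.add_mem hs ht, ?_⟩
    have : (⟨(s + t).fst, by simpa using J.add_mem hs ht⟩ : J) = ⟨s.fst, hs⟩ + ⟨t.fst, ht⟩ := rfl
    rw [this, map_add, hs', ht']; simp [add_comm]
  smul_mem' := by
    rintro c t ⟨ht, ht'⟩
    have hmem : (c • t).fst ∈ J := by
      simpa using J.mul_mem_left c.fst ht
    refine ⟨hmem, ?_⟩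
    have : (⟨(c • t).fst, hmem⟩ : J) = c.fst • ⟨t.fst, ht⟩ := by
      apply Subtype.ext; simp
    rw [this, map_smul, ht']
    simp only [smul_eq_mul, TrivSqZeroExt.snd_mul, op_smul_eq_smul, smul_neg, neg_add_rev]
    rw [smul_eq_zero_of_mem J ht c.snd, neg_zero, zero_add]

lemma mem_graphIdeal (w : J →ₗ[B] M) (t : TrivSqZeroExt B M) :
    t ∈ graphIdeal J w ↔ ∃ h : t.fst ∈ J, w ⟨t.fst, h⟩ = - t.snd := Iff.rfl

/-- the projection `(B ⊕ M)/graph → B/J` -/
noncomputable def projOfLinear (w : J →ₗ[B] M) :
    (TrivSqZeroExt B M ⧸ graphIdeal J w) →ₐ[B] B ⧸ J :=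
  Ideal.Quotient.liftₐ (graphIdeal J w)
    ((Ideal.Quotient.mkₐ B J).comp (TrivSqZeroExt.fstHom B B M)) (by
      intro t ht
      obtain ⟨h, -⟩ := ht
      simpa [Ideal.Quotient.eq_zero_iff_mem] using h)

lemma projOfLinear_mk (w : J →ₗ[B] M) (t : TrivSqZeroExt B M) :
    projOfLinear J w (Ideal.Quotient.mk _ t) = Ideal.Quotient.mk J t.fst := rfl

/-- the extension of `B ⧸ J` by `M` attached to a linear map `w : J → M` -/
noncomputable def extOfLinear (w : J →ₗ[B] M) : Ext B (B ⧸ J) M where
  E := TrivSqZeroExt B M ⧸ graphIdeal J w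
  proj := projOfLinear J w
  incl := (Ideal.Quotient.mk (graphIdeal J w)).toAddMonoidHom.comp
    (TrivSqZeroExt.inrHom B M).toAddMonoidHom
  isExtension :=
    { proj_surjective := by
        intro c
        obtain ⟨b, rfl⟩ := Ideal.Quotient.mk_surjective c
        exact ⟨Ideal.Quotient.mk _ (TrivSqZeroExt.inl b), by rw [projOfLinear_mk]; simp⟩
      incl_injective := by
        intro m m' h
        have h1 : Ideal.Quotient.mk (graphIdeal J w) (TrivSqZeroExt.inr m) =
            Ideal.Quotient.mk (graphIdeal J w) (TrivSqZeroExt.inr m') := h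
        rw [Ideal.Quotient.eq, mem_graphIdeal] at h1
        obtain ⟨h2, h3⟩ := h1
        have h4 : (⟨(TrivSqZeroExt.inr m - TrivSqZeroExt.inr m' : TrivSqZeroExt B M).fst, h2⟩ : J)
            = 0 := by
          apply Subtype.ext; simp
        rw [h4, map_zero] at h3
        simp only [TrivSqZeroExt.snd_sub, TrivSqZeroExt.snd_inr, neg_sub] at h3
        exact (sub_eq_zero.mp h3.symm).symm
      exact := by
        intro x
        obtain ⟨t, rfl⟩ := Ideal.Quotient.mk_surjective x
        constructor
        · intro h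
          have h1 : t.fst ∈ J := by
            rw [projOfLinear_mk, Ideal.Quotient.eq_zero_iff_mem] at h
            exact h
          refine ⟨t.snd + w ⟨t.fst, h1⟩, ?_⟩
          change Ideal.Quotient.mk (graphIdeal J w) (TrivSqZeroExt.inr _) = _
          rw [Ideal.Quotient.eq, mem_graphIdeal]
          refine ⟨by simpa using h1, ?_⟩
          have h4 : (⟨(TrivSqZeroExt.inr (t.snd + w ⟨t.fst, h1⟩) - t : TrivSqZeroExt B M).fst,
              by simpa using h1⟩ : J) = - ⟨t.fst, h1⟩ := by
            apply Subtype.ext; simp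
          rw [h4, map_neg]
          simp
        · rintro ⟨z, hz⟩
          rw [← hz]
          change projOfLinear J w
            (Ideal.Quotient.mk (graphIdeal J w) (TrivSqZeroExt.inr z)) = 0
          rw [projOfLinear_mk]; simp
      mul_incl := by
        intro x z
        obtain ⟨t, rfl⟩ := Ideal.Quotient.mk_surjective x
        change Ideal.Quotient.mk (graphIdeal J w) t *
          Ideal.Quotient.mk (graphIdeal J w) (TrivSqZeroExt.inr z) =
          Ideal.Quotient.mk (graphIdeal J w) (TrivSqZeroExt.inr _)
        rw [← map_mul, projOfLinear_mk]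
        congr 1
        ext
        · simp
        · simp only [TrivSqZeroExt.snd_mul, TrivSqZeroExt.snd_inr, TrivSqZeroExt.fst_inr,
            MulOpposite.op_zero, zero_smul, add_zero]
          rw [← Ideal.Quotient.algebraMap_eq, algebraMap_smul] }

lemma idealToKer_extOfLinear (w : J →ₗ[B] M) (z : J) :
    (extOfLinear J w).idealToKer J z = w z := by
  apply (extOfLinear J w).isExtension.incl_injective
  rw [incl_idealToKer]
  change Ideal.Quotient.mk (graphIdeal J w) (TrivSqZeroExt.inl (z : B)) =
    Ideal.Quotient.mk (graphIdeal J w) (TrivSqZeroExt.inr (w z))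
  rw [Ideal.Quotient.eq, mem_graphIdeal]
  refine ⟨by simp, ?_⟩
  have h4 : (⟨(TrivSqZeroExt.inl (z : B) - TrivSqZeroExt.inr (w z) : TrivSqZeroExt B M).fst,
      by simp⟩ : J) = z := by
    apply Subtype.ext; simp
  rw [h4]; simp

theorem exists_ext_conormalMap_eq (w : J.Cotangent →ₗ[B] M) :
    ∃ X : Ext B (B ⧸ J) M, X.conormalMap J = w := by
  refine ⟨extOfLinear J (w ∘ₗ J.toCotangent), ?_⟩
  apply LinearMap.ext
  intro c
  obtain ⟨z, rfl⟩ := J.toCotangent_surjective c
  rw [← idealToKer_eq, idealToKer_extOfLinear]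
  rfl

end Quot

section Der1

variable {A : Type u} {B C L : Type v} [CommRing A] [CommRing B] [CommRing C]
    [Algebra A B] [Algebra B C] [Algebra A C] [IsScalarTower A B C]
    [AddCommGroup L] [Module C L] [Module B L] [IsScalarTower B C L] [Module A L] [IsScalarTower A B L]
    [IsScalarTower A C L]

theorem ofDerivation_isTrivial_iff (D : Derivation A B L) :
    (Exal.Ext.ofDerivation (C := C) D).IsTrivial ↔
      ∃ D' : Derivation A C L, D'.compAlgebraMap B = D := by
  constructor
  · rintro ⟨s, hs⟩
    let t : C → TrivSqZeroExt C L := fun c => s c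
    have hfst : ∀ c : C, (t c).fst = c := hs
    have hmul : ∀ c c' : C, t (c * c') = t c * t c' := fun c c' => map_mul s c c'
    have hadd : ∀ c c' : C, t (c + c') = t c + t c' := fun c c' => map_add s c c'
    have hcomm : ∀ b : B, t (algebraMap B C b) =
        TrivSqZeroExt.inl (algebraMap B C b) + TrivSqZeroExt.inr (D b) := fun b => s.commutes b
    let D0 : C →ₗ[A] L :=
      { toFun := fun c => (t c).snd
        map_add' := fun c c' => by
          rw [hadd]; exact TrivSqZeroExt.snd_add _ _
        map_smul' := fun a c => by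
          have h1 : a • c = algebraMap B C (algebraMap A B a) * c := by
            rw [← IsScalarTower.algebraMap_apply, Algebra.smul_def]
          rw [RingHom.id_apply, h1, hmul, hcomm, Derivation.map_algebraMap,
            TrivSqZeroExt.inr_zero, add_zero, TrivSqZeroExt.snd_mul, TrivSqZeroExt.snd_inl,
            smul_zero, add_zero, TrivSqZeroExt.fst_inl, ← IsScalarTower.algebraMap_apply,
            algebraMap_smul] }
    refine ⟨Derivation.mk' D0 ?_, ?_⟩
    · intro c c'
      change (t (c * c')).snd = c • (t c').snd + c' • (t c).snd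
      rw [hmul, TrivSqZeroExt.snd_mul, hfst, hfst, op_smul_eq_smul]
    · ext b
      change (t (algebraMap B C b)).snd = D b
      rw [hcomm]
      simp
  · rintro ⟨D', rfl⟩
    let s0 : C →+* TrivSqZeroExt C L := Exal.Ext.derivationHom (A := A) (B := C) (C := C) D'
    have hs0 : ∀ c, s0 c = TrivSqZeroExt.inl c + TrivSqZeroExt.inr (D' c) := fun c => rfl
    let s : C →ₐ[B] (Exal.Ext.ofDerivation (C := C) (D'.compAlgebraMap B)).E :=
      { toFun := fun c => s0 c
        map_one' := map_one s0
        map_mul' := map_mul s0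
        map_zero' := map_zero s0
        map_add' := map_add s0
        commutes' := fun b => by
          change s0 (algebraMap B C b) = TrivSqZeroExt.inl (algebraMap B C b) +
            TrivSqZeroExt.inr ((D'.compAlgebraMap B) b)
          rw [hs0]; rfl }
    refine ⟨s, fun c => ?_⟩
    change (s0 c).fst = c
    rw [hs0]; simp

end Der1


section Der2

variable {A : Type u} {B C L : Type v} [CommRing A] [CommRing B] [CommRing C]
    [Algebra A B] [Algebra B C] [Algebra A C] [IsScalarTower A B C]
    [AddCommGroup L] [Module C L] [Module B L] [IsScalarTower B C L] [Module A L] [IsScalarTower A B L]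
    [IsScalarTower A C L]

lemma algebraMap_restrictCarrier (X : Exal.Ext B C L) (a : A) :
    algebraMap A (X.RestrictCarrier A) a = algebraMap B X.E (algebraMap A B a) := rfl

theorem isTrivialOver_of_equiv_ofDerivation (X : Exal.Ext B C L) (D : Derivation A B L)
    (e : X.Equiv (Exal.Ext.ofDerivation (C := C) D)) : X.IsTrivialOver A := by
  let inlE : C → (Exal.Ext.ofDerivation (C := C) D).E := fun c => (TrivSqZeroExt.inl c : TrivSqZeroExt C L)
  have hcomm : ∀ a : A, algebraMap B (Exal.Ext.ofDerivation (C := C) D).E (algebraMap A B a) =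
      inlE (algebraMap A C a) := by
    intro a
    change (TrivSqZeroExt.inl (algebraMap B C (algebraMap A B a)) +
      TrivSqZeroExt.inr (D (algebraMap A B a)) : TrivSqZeroExt C L) = TrivSqZeroExt.inl (algebraMap A C a)
    rw [Derivation.map_algebraMap, TrivSqZeroExt.inr_zero, add_zero,
      ← IsScalarTower.algebraMap_apply]
  let inlH : C →+* (Exal.Ext.ofDerivation (C := C) D).E :=
    { toFun := inlE
      map_one' := TrivSqZeroExt.inl_one L
      map_mul' := TrivSqZeroExt.inl_mul L
      map_zero' := TrivSqZeroExt.inl_zero L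
      map_add' := TrivSqZeroExt.inl_add L }
  let σ : C →+* X.E := (e.toAlgEquiv.symm : _ →+* X.E).comp inlH
  let s : C →ₐ[A] (X.restrictBase A).E :=
    { toFun := fun c => σ c
      map_one' := map_one σ
      map_mul' := map_mul σ
      map_zero' := map_zero σ
      map_add' := map_add σ
      commutes' := fun a => by
        change e.toAlgEquiv.symm (inlE (algebraMap A C a)) =
          algebraMap B X.E (algebraMap A B a)
        rw [← hcomm, AlgEquiv.commutes] }
  refine ⟨s, fun c => ?_⟩
  change X.proj (e.toAlgEquiv.symm (inlE c)) = c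
  have := e.symm.proj_apply (inlE c)
  exact this

/-- multiplication by an element of the kernel -/
lemma mul_incl' (X : Exal.Ext B C L) (x : X.E) (z : L) : X.incl z * x = X.incl (X.proj x • z) := by
  rw [mul_comm, X.isExtension.mul_incl]

theorem exists_equiv_ofDerivation_of_isTrivialOver (X : Exal.Ext B C L)
    (h : X.IsTrivialOver A) :
    ∃ D : Derivation A B L, Nonempty (X.Equiv (Exal.Ext.ofDerivation (C := C) D)) := by
  obtain ⟨s, hs⟩ := h
  -- the section as a ring hom into `X.E`
  let σ : C →+* X.E :=
    { toFun := fun c => s c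
      map_one' := map_one s
      map_mul' := map_mul s
      map_zero' := map_zero s
      map_add' := map_add s }
  have hσ : ∀ c, X.proj (σ c) = c := hs
  have hσA : ∀ a : A, σ (algebraMap A C a) = algebraMap B X.E (algebraMap A B a) :=
    fun a => s.commutes a
  have hδ : ∀ b : B, X.proj (algebraMap B X.E b - σ (algebraMap B C b)) = 0 := by
    intro b
    rw [map_sub, AlgHom.commutes, hσ, sub_self]
  have hker : ∀ b : B, X.incl (X.kerLift _ (hδ b)) = algebraMap B X.E b - σ (algebraMap B C b) :=
    fun b => X.incl_kerLift _ _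
  have hDmul : ∀ b b' : B, X.kerLift _ (hδ (b * b')) =
      b • X.kerLift _ (hδ b') + b' • X.kerLift _ (hδ b) := by
    intro b b'
    apply X.isExtension.incl_injective
    rw [hker, map_add, ← algebraMap_smul C b, ← algebraMap_smul C b']
    have e1 : X.incl (algebraMap B C b • X.kerLift _ (hδ b')) =
        algebraMap B X.E b * X.incl (X.kerLift _ (hδ b')) := by
      rw [X.isExtension.mul_incl, AlgHom.commutes]
    have e2 : X.incl (algebraMap B C b' • X.kerLift _ (hδ b)) =
        σ (algebraMap B C b') * X.incl (X.kerLift _ (hδ b)) := by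
      rw [X.isExtension.mul_incl, hσ]
    rw [e1, e2, hker, hker, map_mul, map_mul, map_mul]
    ring
  have hDadd : ∀ b b' : B, X.kerLift _ (hδ (b + b')) =
      X.kerLift _ (hδ b) + X.kerLift _ (hδ b') := by
    intro b b'
    apply X.isExtension.incl_injective
    rw [hker (b + b'), map_add X.incl, hker b, hker b']
    simp only [map_add]
    ring
  have hDA : ∀ a : A, X.kerLift _ (hδ (algebraMap A B a)) = 0 := by
    intro a
    apply X.isExtension.incl_injective
    rw [hker, map_zero, ← IsScalarTower.algebraMap_apply A B C, hσA, sub_self]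
  let D0 : B →ₗ[A] L :=
    { toFun := fun b => X.kerLift _ (hδ b)
      map_add' := hDadd
      map_smul' := fun a b => by
        rw [RingHom.id_apply, Algebra.smul_def, hDmul, hDA, smul_zero, add_zero, algebraMap_smul] }
  let D : Derivation A B L := Derivation.mk' D0 (fun b b' => hDmul b b')
  have hD : ∀ b, X.incl (D b) = algebraMap B X.E b - σ (algebraMap B C b) := hker
  refine ⟨D, ?_⟩
  -- the map `C ⊕ L → E`
  let ψ0 : TrivSqZeroExt C L → X.E := fun t => σ t.fst + X.incl t.snd
  have hψmul : ∀ t t' : TrivSqZeroExt C L, ψ0 (t * t') = ψ0 t * ψ0 t' := by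
    intro t t'
    simp only [ψ0, TrivSqZeroExt.fst_mul, TrivSqZeroExt.snd_mul, map_mul, map_add, op_smul_eq_smul]
    have e1 : X.incl (t.fst • t'.snd) = σ t.fst * X.incl t'.snd := by
      rw [X.isExtension.mul_incl, hσ]
    have e2 : X.incl (t'.fst • t.snd) = σ t'.fst * X.incl t.snd := by
      rw [X.isExtension.mul_incl, hσ]
    rw [e1, e2]
    have e3 : X.incl t.snd * X.incl t'.snd = 0 := incl_mul_incl X _ _
    linear_combination (-1 : X.E) * e3
  have hψadd : ∀ t t' : TrivSqZeroExt C L, ψ0 (t + t') = ψ0 t + ψ0 t' := by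
    intro t t'
    simp only [ψ0, TrivSqZeroExt.fst_add, TrivSqZeroExt.snd_add, map_add]
    ring
  have hψone : ψ0 1 = 1 := by simp [ψ0]
  have hψzero : ψ0 0 = 0 := by simp [ψ0]
  have hψcomm : ∀ b : B, ψ0 (TrivSqZeroExt.inl (algebraMap B C b) + TrivSqZeroExt.inr (D b)) =
      algebraMap B X.E b := by
    intro b
    simp only [ψ0, TrivSqZeroExt.fst_add, TrivSqZeroExt.fst_inl, TrivSqZeroExt.fst_inr,
      add_zero, TrivSqZeroExt.snd_add, TrivSqZeroExt.snd_inl, TrivSqZeroExt.snd_inr, zero_add]
    rw [hD]; ring
  let ψ : (Exal.Ext.ofDerivation (C := C) D).E →ₐ[B] X.E :=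
    { toFun := ψ0
      map_one' := hψone
      map_mul' := hψmul
      map_zero' := hψzero
      map_add' := hψadd
      commutes' := hψcomm }
  have hψproj : ∀ t, X.proj (ψ t) = (Exal.Ext.ofDerivation (C := C) D).proj t := by
    intro t
    change X.proj (σ (t : TrivSqZeroExt C L).fst + X.incl (t : TrivSqZeroExt C L).snd) =
      (t : TrivSqZeroExt C L).fst
    rw [map_add, hσ, proj_incl, add_zero]
  have hψincl : ∀ z : L, ψ ((Exal.Ext.ofDerivation (C := C) D).incl z) = X.incl z := by
    intro z
    change σ (TrivSqZeroExt.inr z : TrivSqZeroExt C L).fst +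
      X.incl (TrivSqZeroExt.inr z : TrivSqZeroExt C L).snd = X.incl z
    simp
  have hbij : Function.Bijective ψ := by
    constructor
    · rw [injective_iff_map_eq_zero]
      intro t ht
      have h1 : (t : TrivSqZeroExt C L).fst = 0 := by
        have := hψproj t
        rw [ht, map_zero] at this
        exact this.symm
      have h2 : X.incl (t : TrivSqZeroExt C L).snd = 0 := by
        have : σ (t : TrivSqZeroExt C L).fst + X.incl (t : TrivSqZeroExt C L).snd = 0 := ht
        rw [h1, map_zero, zero_add] at this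
        exact this
      have h3 : (t : TrivSqZeroExt C L).snd = 0 :=
        X.isExtension.incl_injective (h2.trans (map_zero _).symm)
      exact TrivSqZeroExt.ext h1 h3
    · intro x
      have h0 : X.proj (x - σ (X.proj x)) = 0 := by rw [map_sub, hσ, sub_self]
      obtain ⟨z, hz⟩ := (X.isExtension.exact _).1 h0
      refine ⟨(TrivSqZeroExt.inl (X.proj x) + TrivSqZeroExt.inr z : TrivSqZeroExt C L), ?_⟩
      change σ (TrivSqZeroExt.inl (X.proj x) + TrivSqZeroExt.inr z : TrivSqZeroExt C L).fst +
        X.incl (TrivSqZeroExt.inl (X.proj x) + TrivSqZeroExt.inr z : TrivSqZeroExt C L).snd = x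
      simp only [TrivSqZeroExt.fst_add, TrivSqZeroExt.fst_inl, TrivSqZeroExt.fst_inr,
        add_zero, TrivSqZeroExt.snd_add, TrivSqZeroExt.snd_inl, TrivSqZeroExt.snd_inr, zero_add]
      rw [hz]; ring
  let E : (Exal.Ext.ofDerivation (C := C) D).Equiv X :=
    { toAlgEquiv := AlgEquiv.ofBijective ψ hbij
      proj_apply := hψproj
      apply_incl := hψincl }
  exact ⟨E.symm⟩

end Der2


section PB

variable {A : Type u} {B C L : Type v} [CommRing A]
    [CommRing B] [CommRing C] [Algebra A B] [Algebra B C] [Algebra A C] [IsScalarTower A B C]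
    [AddCommGroup L] [Module C L] [Module B L] [IsScalarTower B C L]

theorem pullback_isTrivial_of_equiv (Y : Exal.Ext A C L) (X : Exal.Ext B C L)
    (e : (X.restrictBase A).Equiv Y) : (Y.pullback B).IsTrivial := by
  let f0 : B →ₐ[A] (X.restrictBase A).E :=
    { toFun := fun b => algebraMap B X.E b
      map_one' := map_one (algebraMap B X.E)
      map_mul' := map_mul (algebraMap B X.E)
      map_zero' := map_zero (algebraMap B X.E)
      map_add' := map_add (algebraMap B X.E)
      commutes' := fun a => rfl }
  let f : B →ₐ[A] Y.E := (e.toAlgEquiv : (X.restrictBase A).E →ₐ[A] Y.E).comp f0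
  have hf : ∀ b, Y.proj (f b) = algebraMap B C b := by
    intro b
    exact (e.proj_apply _).trans (X.proj.commutes b)
  let s : B →ₐ[A] (Y.pullback B).E :=
    AlgHom.codRestrict (AlgHom.prod f (AlgHom.id A B)) (Y.fiberProd B) (fun b => by
      change _ ∈ AlgHom.equalizer _ _
      rw [AlgHom.mem_equalizer]
      exact hf b)
  exact ⟨s, fun b => rfl⟩

theorem exists_equiv_of_pullback_isTrivial (Y : Exal.Ext A C L)
    (h : (Y.pullback B).IsTrivial) :
    ∃ X : Exal.Ext B C L, Nonempty ((X.restrictBase A).Equiv Y) := by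
  obtain ⟨s, hs⟩ := h
  let s' : B →ₐ[A] ↥(Y.fiberProd B) := s
  let u : B →ₐ[A] Y.E := (AlgHom.fst A Y.E B).comp ((Y.fiberProd B).val.comp s')
  have hs2 : ∀ b, ((s' b : Y.fiberProd B) : Y.E × B).2 = b := hs
  have hu : ∀ b, Y.proj (u b) = algebraMap B C b := by
    intro b
    have hmem := (s' b : Y.fiberProd B).2
    change _ ∈ AlgHom.equalizer _ _ at hmem
    rw [AlgHom.mem_equalizer] at hmem
    have h2 : algebraMap B C (((s' b : Y.fiberProd B) : Y.E × B).2) = algebraMap B C b :=
      congrArg _ (hs2 b)
    exact hmem.trans h2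
  let algB : Algebra B Y.E := u.toRingHom.toAlgebra
  let X : Exal.Ext B C L :=
    { E := Y.E
      commRing := Y.commRing
      algebra := algB
      proj :=
        { toFun := fun x => Y.proj x
          map_one' := map_one Y.proj
          map_mul' := map_mul Y.proj
          map_zero' := map_zero Y.proj
          map_add' := map_add Y.proj
          commutes' := hu }
      incl := Y.incl
      isExtension :=
        { proj_surjective := Y.isExtension.proj_surjective
          incl_injective := Y.isExtension.incl_injective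
          exact := Y.isExtension.exact
          mul_incl := Y.isExtension.mul_incl } }
  refine ⟨X, ⟨?_⟩⟩
  let e : (X.restrictBase A).E ≃ₐ[A] Y.E :=
    AlgEquiv.ofRingEquiv (f := RingEquiv.refl Y.E) (fun a => by
      change u (algebraMap A B a) = algebraMap A Y.E a
      exact u.commutes a)
  exact
    { toAlgEquiv := e
      proj_apply := fun x => rfl
      apply_incl := fun z => rfl }

end PB


section SqZero

variable {A : Type v} {B : Type u} [CommRing A] [CommRing B] [Algebra A B]
  (C : Type u) [CommRing C] [Algebra A C] (J : Ideal C) (hJ : J ^ 2 = ⊥) (u₀ : B →ₐ[A] C ⧸ J)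

/-- `B`-module structure on `J/J²` through `u₀ : B → C/J` -/
@[reducible] def cotModule : Module B J.Cotangent :=
  Module.compHom J.Cotangent (u₀ : B →+* C ⧸ J)

include hJ in
lemma toCotangent_injective : Function.Injective J.toCotangent := by
  rw [injective_iff_map_eq_zero]
  intro x hx
  rw [Ideal.toCotangent_eq_zero, hJ] at hx
  exact Subtype.ext hx

/-- `J ≃ J/J²` when `J² = 0` -/
noncomputable def toCotEquiv : J ≃ₗ[C] J.Cotangent :=
  LinearEquiv.ofBijective J.toCotangent ⟨toCotangent_injective C J hJ, J.toCotangent_surjective⟩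

/-- the fibre product `C ×_{C/J} B` -/
def sqZeroFiber : Subalgebra A (C × B) :=
  AlgHom.equalizer ((Ideal.Quotient.mkₐ A J).comp (AlgHom.fst A C B)) (u₀.comp (AlgHom.snd A C B))

lemma mem_sqZeroFiber (x : C × B) :
    x ∈ sqZeroFiber C J u₀ ↔ Ideal.Quotient.mk J x.1 = u₀ x.2 := Iff.rfl

/-- the pullback along `u₀` of the square-zero extension `C → C/J` -/
noncomputable def sqZeroPullback :
    @Exal.Ext A B J.Cotangent _ _ _ _ (cotModule C J u₀) :=
  letI := cotModule C J u₀
  { E := sqZeroFiber C J u₀
    proj := (AlgHom.snd A C B).comp (sqZeroFiber C J u₀).val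
    incl :=
      { toFun := fun z => ⟨((((toCotEquiv C J hJ).symm z : J) : C), 0), by
          rw [mem_sqZeroFiber]
          simp only [map_zero]
          exact Ideal.Quotient.eq_zero_iff_mem.mpr ((toCotEquiv C J hJ).symm z).2⟩
        map_zero' := by
          apply Subtype.ext
          simp
        map_add' := fun z z' => by
          apply Subtype.ext
          simp }
    isExtension :=
      { proj_surjective := fun b => by
          obtain ⟨c, hc⟩ := Ideal.Quotient.mk_surjective (u₀ b)
          exact ⟨⟨(c, b), (mem_sqZeroFiber C J u₀ _).mpr hc⟩, rfl⟩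
        incl_injective := fun z z' h => by
          have h1 := congrArg (fun e : sqZeroFiber C J u₀ => (e : C × B).1) h
          exact (toCotEquiv C J hJ).symm.injective (Subtype.ext h1)
        exact := fun x => by
          obtain ⟨⟨c, b⟩, hx⟩ := x
          rw [mem_sqZeroFiber] at hx
          constructor
          · intro hb
            change b = 0 at hb
            subst hb
            simp only [map_zero] at hx
            have hc : c ∈ J := Ideal.Quotient.eq_zero_iff_mem.mp hx
            refine ⟨toCotEquiv C J hJ ⟨c, hc⟩, ?_⟩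
            apply Subtype.ext
            simp
          · rintro ⟨z, hz⟩
            have h1 := congrArg (fun e : sqZeroFiber C J u₀ => (e : C × B).2) hz
            exact h1.symm
        mul_incl := fun x z => by
          obtain ⟨⟨c, b⟩, hx⟩ := x
          rw [mem_sqZeroFiber] at hx
          apply Subtype.ext
          apply Prod.ext
          · change c * (((toCotEquiv C J hJ).symm z : J) : C) =
              (((toCotEquiv C J hJ).symm (b • z) : J) : C)
            have h2 : b • z = c • z := by
              change (u₀ b) • z = c • z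
              rw [← hx, ← Ideal.Quotient.algebraMap_eq, algebraMap_smul]
            rw [h2, map_smul]
            rfl
          · change b * 0 = 0
            exact mul_zero _ } }

end SqZero

section Smooth

lemma ker_proj_sq {A : Type v} {B L : Type u} [CommRing A] [CommRing B] [Algebra A B]
    [AddCommGroup L] [Module B L] (X : Exal.Ext A B L) :
    RingHom.ker (X.proj : X.E →+* B) ^ 2 = ⊥ := by
  rw [eq_bot_iff, pow_two, Ideal.mul_le]
  intro x hx y hy
  obtain ⟨m, rfl⟩ := (X.isExtension.exact x).1 hx
  obtain ⟨m', rfl⟩ := (X.isExtension.exact y).1 hy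
  rw [incl_mul_incl]
  exact Ideal.zero_mem _

theorem formallySmooth_iff_forall_isTrivial (A B : Type u) [CommRing A] [CommRing B]
    [Algebra A B] :
    Algebra.FormallySmooth A B ↔
      ∀ (L : Type u) [AddCommGroup L] [Module B L] (X : Exal.Ext A B L), X.IsTrivial := by
  constructor
  · intro h L _ _ X
    have hnil : IsNilpotent (RingHom.ker (X.proj : X.E →+* B)) := ⟨2, ker_proj_sq X⟩
    exact ⟨Algebra.FormallySmooth.liftOfSurjective (AlgHom.id A B) X.proj
      X.isExtension.proj_surjective hnil,
      fun b => Algebra.FormallySmooth.liftOfSurjective_apply _ _ _ _ b⟩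
  · intro h
    apply Algebra.FormallySmooth.of_comp_surjective
    intro C _ _ I hI u₀
    obtain ⟨s, hs⟩ := @h I.Cotangent _ (cotModule C I u₀) (sqZeroPullback C I hI u₀)
    let s' : B →ₐ[A] ↥(sqZeroFiber C I u₀) := s
    refine ⟨(AlgHom.fst A C B).comp ((sqZeroFiber C I u₀).val.comp s'), ?_⟩
    ext b
    have hmem := (s' b).2
    rw [mem_sqZeroFiber] at hmem
    have hs' : ((s' b : sqZeroFiber C I u₀) : C × B).2 = b := hs b
    rw [hs'] at hmem
    exact hmem

theorem isFormallySmoothRel_iff (Λ A B : Type u) [CommRing Λ]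
    [CommRing A] [CommRing B] [Algebra Λ A] [Algebra Λ B] [Algebra A B] [IsScalarTower Λ A B] :
    EGA41.IsFormallySmoothRel Λ A B ↔
      ∀ (L : Type u) [AddCommGroup L] [Module B L] (X : Exal.Ext A B L),
        X.IsTrivialOver Λ → X.IsTrivial := by
  constructor
  · intro h L _ _ X hX
    obtain ⟨s, hs⟩ := hX
    let instΛ : Algebra Λ X.E := inferInstanceAs (Algebra Λ (X.RestrictCarrier Λ))
    have instT : IsScalarTower Λ A X.E := IsScalarTower.of_algebraMap_eq (fun _ => rfl)
    let J : Ideal X.E := RingHom.ker (X.proj : X.E →+* B)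
    have hJ : J ^ 2 = ⊥ := ker_proj_sq X
    let q : (X.E ⧸ J) ≃ₐ[A] B := Ideal.quotientKerAlgEquivOfSurjective X.isExtension.proj_surjective
    let u₀ : B →ₐ[A] X.E ⧸ J := q.symm.toAlgHom
    let u : B →ₐ[Λ] X.E := s
    have hu : (Ideal.Quotient.mkₐ Λ J).comp u = u₀.restrictScalars Λ := by
      ext b
      apply q.injective
      change q (Ideal.Quotient.mk J (s b)) = q (q.symm b)
      rw [AlgEquiv.apply_symm_apply]
      exact (Ideal.quotientKerAlgEquivOfSurjective_mk _ _).trans (hs b)
    obtain ⟨v, hv⟩ := h X.E J hJ u₀ ⟨u, hu⟩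
    refine ⟨v, fun b => ?_⟩
    have h1 : Ideal.Quotient.mk J (v b) = q.symm b := congrArg (fun f => f b) hv
    have h2 : q (Ideal.Quotient.mk J (v b)) = b := by rw [h1, AlgEquiv.apply_symm_apply]
    exact (Ideal.quotientKerAlgEquivOfSurjective_mk _ _).symm.trans h2
  · intro h C _ _ _ _ J hJ u₀ hu
    obtain ⟨u, hu⟩ := hu
    let _ := cotModule C J u₀
    let X : Exal.Ext A B J.Cotangent := sqZeroPullback C J hJ u₀
    have hmemu : ∀ b, ((u b, b) : C × B) ∈ sqZeroFiber C J u₀ := by
      intro b
      rw [mem_sqZeroFiber]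
      exact congrArg (fun f => f b) hu
    have hΛ : X.IsTrivialOver Λ := by
      let s : B →ₐ[Λ] (X.restrictBase Λ).E :=
        { toFun := fun b => (⟨(u b, b), hmemu b⟩ : sqZeroFiber C J u₀)
          map_one' := by
            apply Subtype.ext
            apply Prod.ext
            · exact map_one u
            · rfl
          map_mul' := fun b b' => by
            apply Subtype.ext
            apply Prod.ext
            · exact map_mul u b b'
            · rfl
          map_zero' := by
            apply Subtype.ext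
            apply Prod.ext
            · exact map_zero u
            · rfl
          map_add' := fun b b' => by
            apply Subtype.ext
            apply Prod.ext
            · exact map_add u b b'
            · rfl
          commutes' := fun l => by
            apply Subtype.ext
            apply Prod.ext
            · change u (algebraMap Λ B l) = algebraMap A C (algebraMap Λ A l)
              rw [u.commutes, ← IsScalarTower.algebraMap_apply]
            · change algebraMap Λ B l = algebraMap A B (algebraMap Λ A l)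
              rw [← IsScalarTower.algebraMap_apply] }
      exact ⟨s, fun b => rfl⟩
    obtain ⟨σ, hσ⟩ := h J.Cotangent X hΛ
    let σ' : B →ₐ[A] ↥(sqZeroFiber C J u₀) := σ
    refine ⟨(AlgHom.fst A C B).comp ((sqZeroFiber C J u₀).val.comp σ'), ?_⟩
    ext b
    have hmem := (σ' b).2
    rw [mem_sqZeroFiber] at hmem
    have hs' : ((σ' b : sqZeroFiber C J u₀) : C × B).2 = b := hσ b
    rw [hs'] at hmem
    exact hmem

end Smooth


end Groth.Agent.Lib.Helper7.ExalLib
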