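import Mathlib
import Groth.Prelude.Def_Exal3
import Groth.Prelude.Def_Exal2
import Groth.Agent.Lib.Helper7Exal

set_option linter.unusedSectionVars false

open Exal TensorProduct KaehlerDifferential

universe u v

namespace Groth.Agent.Lib.Helper7.ExalLib

section CharHom

variable {A : Type u} {B C L : Type v} [CommRing A] [CommRing B] [CommRing C]
    [Algebra A B] [Algebra B C] [Algebra A C] [IsScalarTower A B C] [AddCommGroup L] [Module C L]
    (X : Exal.Ext B C L)

lemma algebraMap_charCarrier_C (e : X.CharCarrier A) : algebraMap (X.CharCarrier A) C e = X.proj e :=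
  rfl

lemma deltaL_apply (l : L) :
    X.deltaL A l = (1 : C) ⊗ₜ[X.CharCarrier A] D A (X.CharCarrier A) (X.inclC A l) := rfl

lemma inclC_apply (l : L) : X.inclC A l = X.incl l := rfl

lemma deltaL_smul (c : C) (l : L) : X.deltaL A (c • l) = c • X.deltaL A l := by
  obtain ⟨e, he⟩ : ∃ e : X.CharCarrier A, X.proj e = c := X.isExtension.proj_surjective c
  have h1 : X.inclC A (c • l) = e * X.inclC A l := by
    have := X.isExtension.mul_incl e l
    rw [he] at this
    exact this.symm
  rw [deltaL_apply, deltaL_apply, h1, Derivation.leibniz, TensorProduct.tmul_add,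
    TensorProduct.tmul_smul, TensorProduct.tmul_smul]
  have h2 : (X.inclC A l) • ((1 : C) ⊗ₜ[X.CharCarrier A] D A (X.CharCarrier A) e) = 0 := by
    rw [TensorProduct.smul_tmul', Algebra.smul_def, algebraMap_charCarrier_C]
    have : X.proj (X.inclC A l) = 0 := proj_incl X l
    rw [this, zero_mul, TensorProduct.zero_tmul]
  rw [h2, add_zero, TensorProduct.smul_tmul', TensorProduct.smul_tmul', Algebra.smul_def,
    algebraMap_charCarrier_C]
  have : X.proj e = c := he
  rw [this, mul_one, smul_eq_mul, mul_one]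

lemma bcm_tmul (c : C) (ω : Ω[B⁄A]) :
    X.baseChangeToMiddle A (c ⊗ₜ[B] ω) =
      c ⊗ₜ[X.CharCarrier A] KaehlerDifferential.map A A B (X.CharCarrier A) ω := rfl

lemma bcm_smul (c : C) (z : C ⊗[B] Ω[B⁄A]) :
    X.baseChangeToMiddle A (c • z) = c • X.baseChangeToMiddle A z := by
  induction z using TensorProduct.induction_on with
  | zero => simp
  | tmul c' ω => rw [TensorProduct.smul_tmul', bcm_tmul, bcm_tmul, TensorProduct.smul_tmul']
  | add x y hx hy => rw [smul_add, map_add, hx, hy, map_add, smul_add]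

lemma map_map_charCarrier (ω : Ω[B⁄A]) :
    KaehlerDifferential.map A A (X.CharCarrier A) C
      (KaehlerDifferential.map A A B (X.CharCarrier A) ω) = KaehlerDifferential.map A A B C ω := by
  have hω : ω ∈ Submodule.span B (Set.range (D A B)) := by
    rw [KaehlerDifferential.span_range_derivation]; trivial
  induction hω using Submodule.span_induction with
  | mem x hx =>
    obtain ⟨b, rfl⟩ := hx
    rw [KaehlerDifferential.map_D, KaehlerDifferential.map_D, KaehlerDifferential.map_D,
      ← IsScalarTower.algebraMap_apply]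
  | zero => simp
  | add x y _ _ hx hy => rw [map_add, map_add, map_add, hx, hy]
  | smul b x _ hx =>
    rw [map_smul (KaehlerDifferential.map A A B (X.CharCarrier A)) b x,
      map_smul (KaehlerDifferential.map A A B C) b x,
      ← algebraMap_smul (X.CharCarrier A) b
        (KaehlerDifferential.map A A B (X.CharCarrier A) x),
      map_smul, hx, algebraMap_smul]

lemma mapBaseChange_bcm (z : C ⊗[B] Ω[B⁄A]) :
    KaehlerDifferential.mapBaseChange A (X.CharCarrier A) C (X.baseChangeToMiddle A z) =
      KaehlerDifferential.mapBaseChange A B C z := by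
  induction z using TensorProduct.induction_on with
  | zero => simp
  | tmul c ω =>
    rw [bcm_tmul, KaehlerDifferential.mapBaseChange_tmul, KaehlerDifferential.mapBaseChange_tmul,
      map_map_charCarrier]
  | add x y hx hy => rw [map_add, map_add, hx, hy, map_add]

lemma ker_algebraMap_charCarrier_sq :
    RingHom.ker (algebraMap (X.CharCarrier A) C) ^ 2 = ⊥ := ker_proj_sq X

lemma algebraMap_charCarrier_surjective :
    Function.Surjective (algebraMap (X.CharCarrier A) C) := X.isExtension.proj_surjective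

lemma deltaL_eq_kerToTensor (l : L) :
    X.deltaL A l = KaehlerDifferential.kerToTensor A (X.CharCarrier A) C
      ⟨X.inclC A l, proj_incl X l⟩ := rfl

include X in
lemma deltaL_injective (hX : X.IsTrivialOver A) : Function.Injective (X.deltaL A) := by
  obtain ⟨s, hs⟩ := hX
  let g : C →ₐ[A] X.CharCarrier A := s
  have hg : (IsScalarTower.toAlgHom A (X.CharCarrier A) C).comp g = AlgHom.id A C := by
    ext c
    exact hs c
  have hret := retractionOfSectionOfKerSqZero_comp_kerToTensor g
    (ker_algebraMap_charCarrier_sq (A := A) X) hg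
  intro l l' h
  rw [deltaL_eq_kerToTensor, deltaL_eq_kerToTensor] at h
  have h2 := congrArg (retractionOfSectionOfKerSqZero g
    (ker_algebraMap_charCarrier_sq (A := A) X) hg) h
  have e1 := LinearMap.congr_fun hret ⟨X.inclC A l, proj_incl X l⟩
  have e2 := LinearMap.congr_fun hret ⟨X.inclC A l', proj_incl X l'⟩
  simp only [LinearMap.comp_apply, LinearMap.id_apply] at e1 e2
  rw [e1, e2] at h2
  exact X.isExtension.incl_injective (congrArg Subtype.val h2)

lemma exists_deltaL_eq (z : EGA41.imperfection A B C) :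
    ∃ l : L, X.deltaL A l = X.baseChangeToMiddle A (z : C ⊗[B] Ω[B⁄A]) := by
  have hz : KaehlerDifferential.mapBaseChange A (X.CharCarrier A) C
      (X.baseChangeToMiddle A (z : C ⊗[B] Ω[B⁄A])) = 0 := by
    rw [mapBaseChange_bcm]
    exact z.2
  obtain ⟨w, hw⟩ := (KaehlerDifferential.exact_kerCotangentToTensor_mapBaseChange A
    (X.CharCarrier A) C (algebraMap_charCarrier_surjective (A := A) X) _).mp hz
  obtain ⟨x, rfl⟩ := Ideal.toCotangent_surjective _ w
  rw [KaehlerDifferential.kerCotangentToTensor_toCotangent] at hw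
  have hx : X.proj (x : X.CharCarrier A) = 0 := x.2
  obtain ⟨l, hl⟩ := (X.isExtension.exact _).1 hx
  refine ⟨l, ?_⟩
  rw [← hw, deltaL_apply]
  congr 2

theorem existsUnique_isCharHom (hX : X.IsTrivialOver A) :
    ∃! χ : ↥(EGA41.imperfection A B C) →ₗ[C] L, X.IsCharHom A χ := by
  have hinj := deltaL_injective (A := A) X hX
  choose f hf using exists_deltaL_eq (A := A) X
  let χ : ↥(EGA41.imperfection A B C) →ₗ[C] L :=
    { toFun := f
      map_add' := fun z z' => by
        apply hinj
        rw [map_add, hf, hf, hf, Submodule.coe_add, map_add]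
      map_smul' := fun c z => by
        apply hinj
        rw [RingHom.id_apply, deltaL_smul, hf, hf, Submodule.coe_smul, bcm_smul] }
  refine ⟨χ, hf, ?_⟩
  intro χ' hχ'
  ext z
  apply hinj
  rw [hχ' z]
  exact (hf z).symm

end CharHom

section Inf

variable {A : Type u} {B : Type v} [CommRing A] [CommRing B] [Algebra A B] (K : Ideal B)

lemma tmul_D_mem_imperfection (k : K) :
    ((1 : B ⧸ K) ⊗ₜ[B] D A B (k : B)) ∈ EGA41.imperfection A B (B ⧸ K) := by
  change KaehlerDifferential.mapBaseChange A B (B ⧸ K) _ = 0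
  rw [KaehlerDifferential.mapBaseChange_tmul, KaehlerDifferential.map_D, one_smul,
    Ideal.Quotient.algebraMap_eq, Ideal.Quotient.eq_zero_iff_mem.mpr k.2, map_zero]

theorem charHom_infinitesimal_apply
    (hK : (Exal.Ext.infinitesimal K).IsTrivialOver A)
    (χ : ↥(EGA41.imperfection A B (B ⧸ K)) →ₗ[B ⧸ K] K.Cotangent)
    (hχ : (Exal.Ext.infinitesimal K).IsCharHom A χ) (k : K) :
    χ ⟨_, tmul_D_mem_imperfection (A := A) K k⟩ = K.toCotangent k := by
  apply deltaL_injective (A := A) _ hK
  rw [hχ]
  change (Exal.Ext.infinitesimal K).baseChangeToMiddle A ((1 : B ⧸ K) ⊗ₜ[B] D A B (k : B)) = _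
  rw [bcm_tmul, KaehlerDifferential.map_D, deltaL_apply]
  congr 2

theorem charHom_infinitesimal_bijective
    (hK : (Exal.Ext.infinitesimal K).IsTrivialOver A)
    (χ : ↥(EGA41.imperfection A B (B ⧸ K)) →ₗ[B ⧸ K] K.Cotangent)
    (hχ : (Exal.Ext.infinitesimal K).IsCharHom A χ) :
    Function.Bijective χ := by
  constructor
  · rw [injective_iff_map_eq_zero]
    intro z hz
    have hz0 : KaehlerDifferential.mapBaseChange A B (B ⧸ K) (z : (B ⧸ K) ⊗[B] Ω[B⁄A]) = 0 := z.2
    obtain ⟨w, hw⟩ := (KaehlerDifferential.exact_kerCotangentToTensor_mapBaseChange A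
      B (B ⧸ K) Ideal.Quotient.mk_surjective _).mp hz0
    obtain ⟨x, rfl⟩ := Ideal.toCotangent_surjective _ w
    rw [KaehlerDifferential.kerCotangentToTensor_toCotangent] at hw
    have hxK : (x : B) ∈ K := by
      have h1 : algebraMap B (B ⧸ K) (x : B) = 0 := x.2
      exact Ideal.Quotient.eq_zero_iff_mem.mp h1
    have hzeq : z = ⟨_, tmul_D_mem_imperfection (A := A) K ⟨x, hxK⟩⟩ := Subtype.ext hw.symm
    rw [hzeq, charHom_infinitesimal_apply K hK χ hχ, Ideal.toCotangent_eq_zero] at hz
    have hker : RingHom.ker (algebraMap B (B ⧸ K)) = K := by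
      rw [Ideal.Quotient.algebraMap_eq]; exact Ideal.mk_ker
    have hle : K ^ 2 ≤ RingHom.ker (algebraMap B (B ⧸ K)) ^ 2 :=
      Ideal.pow_right_mono (le_of_eq hker.symm) 2
    have hx2 : (x : B) ∈ RingHom.ker (algebraMap B (B ⧸ K)) ^ 2 := hle hz
    have hx0 : Ideal.toCotangent _ x = 0 := (Ideal.toCotangent_eq_zero _ x).mpr hx2
    apply Subtype.ext
    rw [← hw]
    change (1 : B ⧸ K) ⊗ₜ[B] D A B (x : B) = 0
    rw [← KaehlerDifferential.kerCotangentToTensor_toCotangent, hx0, map_zero]
  · intro c
    obtain ⟨k, rfl⟩ := K.toCotangent_surjective c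
    exact ⟨_, charHom_infinitesimal_apply K hK χ hχ k⟩

end Inf


end Groth.Agent.Lib.Helper7.ExalLib
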