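import Mathlib
import Groth.Prelude.Def_Exal3
import Groth.Agent.Lib.Helper7ExalChar

/-! Base change of Kähler differentials along `B → B/K²`, for the characteristic homomorphism of the
infinitesimal extension. -/

set_option linter.unusedSectionVars false
set_option linter.style.haveILetI false

open TensorProduct KaehlerDifferential Exal

universe u v w v'

namespace Groth.Agent.Lib.Helper7.ExalLib

section BCExt

variable {Λ : Type u} {P : Type v} {C : Type v'} {N : Type w} [CommRing Λ] [CommRing P] [CommRing C]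
  [Algebra Λ P] [Algebra P C] [AddCommGroup N] [Module C N]

/-- additive maps out of `C ⊗_P Ω_{P/Λ}` agreeing on `c ⊗ D p` are equal -/
lemma bc_kaehler_ext (f g : C ⊗[P] Ω[P⁄Λ] →+ N)
    (h : ∀ (c : C) (p : P), f (c ⊗ₜ D Λ P p) = g (c ⊗ₜ D Λ P p)) : f = g := by
  ext y
  induction y using TensorProduct.induction_on with
  | zero => rw [map_zero, map_zero]
  | add x y hx hy => rw [map_add, map_add, hx, hy]
  | tmul c ω =>
    have hω : ω ∈ Submodule.span P (Set.range (D Λ P)) := by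
      rw [KaehlerDifferential.span_range_derivation]; trivial
    induction hω using Submodule.span_induction generalizing c with
    | mem x hx =>
      obtain ⟨p, rfl⟩ := hx
      exact h c p
    | zero => rw [TensorProduct.tmul_zero, map_zero, map_zero]
    | add x y _ _ hx hy => rw [TensorProduct.tmul_add, map_add, map_add, hx, hy]
    | smul p x _ hx =>
      have : c ⊗ₜ[P] (p • x) = (p • c) ⊗ₜ[P] x := (TensorProduct.smul_tmul p c x).symm
      rw [this]
      exact hx _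

end BCExt

section BCLift

variable {Λ : Type u} {P C : Type v} {N : Type w} [CommRing Λ] [CommRing P] [CommRing C]
  [Algebra Λ P] [Algebra P C] [AddCommGroup N] [Module C N] [Module P N] [IsScalarTower P C N]
  [Module Λ N] [IsScalarTower Λ P N]

/-- the `C`-linear map `C ⊗_P Ω_{P/Λ} → N` attached to a derivation `P → N` -/
noncomputable def bcLift (d : Derivation Λ P N) : C ⊗[P] Ω[P⁄Λ] →ₗ[C] N :=
  LinearMap.liftBaseChange C d.liftKaehlerDifferential

lemma bcLift_tmul_D (d : Derivation Λ P N) (c : C) (p : P) :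
    bcLift (C := C) d (c ⊗ₜ D Λ P p) = c • d p := by
  rw [bcLift, LinearMap.liftBaseChange_tmul, Derivation.liftKaehlerDifferential_comp_D]

end BCLift

section QuotSq

variable {Λ : Type u} {B E C : Type v} [CommRing Λ] [CommRing B] [CommRing E] [CommRing C]
  [Algebra Λ B] [Algebra Λ E] [Algebra Λ C] [Algebra B C] [Algebra E C]
  [IsScalarTower Λ B C] [IsScalarTower Λ E C] (q : B →+* E)
  (hqΛ : ∀ l : Λ, q (algebraMap Λ B l) = algebraMap Λ E l)
  (hqC : ∀ b : B, algebraMap E C (q b) = algebraMap B C b)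

include hqΛ hqC in
/-- the map `C ⊗_B Ω_{B/Λ} → C ⊗_E Ω_{E/Λ}` induced by `q : B → E` -/
theorem exists_bcMap :
    ∃ Φ : C ⊗[B] Ω[B⁄Λ] →ₗ[C] C ⊗[E] Ω[E⁄Λ],
      ∀ (c : C) (b : B), Φ (c ⊗ₜ D Λ B b) = c ⊗ₜ D Λ E (q b) := by
  have hsmul : ∀ (l : Λ) (b : B), q (l • b) = l • q b := by
    intro l b
    rw [Algebra.smul_def, map_mul, hqΛ, ← Algebra.smul_def]
  have h1 : ∀ (e : E) (ω : Ω[E⁄Λ]), (1 : C) ⊗ₜ[E] (e • ω) = (algebraMap E C e) ⊗ₜ[E] ω := by
    intro e ω
    rw [← TensorProduct.smul_tmul, Algebra.smul_def, mul_one]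
  have h2 : ∀ (b : B) (ω : Ω[E⁄Λ]), b • ((1 : C) ⊗ₜ[E] ω) = (algebraMap B C b) ⊗ₜ[E] ω := by
    intro b ω
    rw [TensorProduct.smul_tmul', Algebra.smul_def, mul_one]
  let d : Derivation Λ B (C ⊗[E] Ω[E⁄Λ]) :=
    { toLinearMap :=
        { toFun := fun b => (1 : C) ⊗ₜ[E] D Λ E (q b)
          map_add' := fun b b' => by rw [map_add, map_add, TensorProduct.tmul_add]
          map_smul' := fun l b => by
            rw [hsmul, Derivation.map_smul, TensorProduct.tmul_smul, RingHom.id_apply] }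
      map_one_eq_zero' := by
        change (1 : C) ⊗ₜ[E] D Λ E (q 1) = 0
        rw [map_one, Derivation.map_one_eq_zero, TensorProduct.tmul_zero]
      leibniz' := fun b b' => by
        change (1 : C) ⊗ₜ[E] D Λ E (q (b * b')) =
          b • ((1 : C) ⊗ₜ[E] D Λ E (q b')) + b' • ((1 : C) ⊗ₜ[E] D Λ E (q b))
        rw [map_mul, Derivation.leibniz, TensorProduct.tmul_add, h1, h1, h2, h2, hqC, hqC] }
  refine ⟨bcLift (C := C) d, fun c b => ?_⟩
  rw [bcLift_tmul_D]
  change c • ((1 : C) ⊗ₜ[E] D Λ E (q b)) = _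
  rw [TensorProduct.smul_tmul', smul_eq_mul, mul_one]

include hqΛ hqC in
/-- the inverse map `C ⊗_E Ω_{E/Λ} → C ⊗_B Ω_{B/Λ}` when `E = B / K²` -/
theorem exists_bcMap_inv (hq : Function.Surjective q)
    (hker : ∀ b : B, q b = 0 → b ∈ RingHom.ker (algebraMap B C) ^ 2) :
    ∃ Ψ : C ⊗[E] Ω[E⁄Λ] →ₗ[C] C ⊗[B] Ω[B⁄Λ],
      ∀ (c : C) (b : B), Ψ (c ⊗ₜ D Λ E (q b)) = c ⊗ₜ D Λ B b := by
  have hsmul : ∀ (l : Λ) (b : B), q (l • b) = l • q b := by
    intro l b
    rw [Algebra.smul_def, map_mul, hqΛ, ← Algebra.smul_def]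
  have h1 : ∀ (b : B) (ω : Ω[B⁄Λ]), (1 : C) ⊗ₜ[B] (b • ω) = (algebraMap B C b) ⊗ₜ[B] ω := by
    intro e ω
    rw [← TensorProduct.smul_tmul, Algebra.smul_def, mul_one]
  have h2 : ∀ (e : E) (ω : Ω[B⁄Λ]), e • ((1 : C) ⊗ₜ[B] ω) = (algebraMap E C e) ⊗ₜ[B] ω := by
    intro b ω
    rw [TensorProduct.smul_tmul', Algebra.smul_def, mul_one]
  -- vanishing on K²
  have hK2 : ∀ x ∈ RingHom.ker (algebraMap B C) ^ 2, (1 : C) ⊗ₜ[B] D Λ B x = 0 := by
    intro x hx
    rw [pow_two] at hx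
    refine Submodule.mul_induction_on hx ?_ ?_
    · intro y hy z hz
      rw [Derivation.leibniz, TensorProduct.tmul_add, h1, h1, RingHom.mem_ker.1 hy,
        RingHom.mem_ker.1 hz, TensorProduct.zero_tmul, TensorProduct.zero_tmul, add_zero]
    · intro y z hy hz
      rw [map_add, TensorProduct.tmul_add, hy, hz, add_zero]
  have hwd : ∀ b b' : B, q b = q b' → (1 : C) ⊗ₜ[B] D Λ B b = (1 : C) ⊗ₜ[B] D Λ B b' := by
    intro b b' h
    have h2 : q (b - b') = 0 := by rw [map_sub, h, sub_self]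
    have h3 := hK2 _ (hker _ h2)
    rw [map_sub, TensorProduct.tmul_sub, sub_eq_zero] at h3
    exact h3
  let f : E → C ⊗[B] Ω[B⁄Λ] := fun e => (1 : C) ⊗ₜ[B] D Λ B (hq e).choose
  have hf : ∀ b : B, f (q b) = (1 : C) ⊗ₜ[B] D Λ B b := fun b => hwd _ _ (hq (q b)).choose_spec
  let d : Derivation Λ E (C ⊗[B] Ω[B⁄Λ]) :=
    { toLinearMap :=
        { toFun := f
          map_add' := fun e e' => by
            obtain ⟨b, rfl⟩ := hq e
            obtain ⟨b', rfl⟩ := hq e'
            rw [← map_add, hf, hf, hf, map_add, TensorProduct.tmul_add]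
          map_smul' := fun l e => by
            obtain ⟨b, rfl⟩ := hq e
            rw [← hsmul, hf, hf, Derivation.map_smul, TensorProduct.tmul_smul, RingHom.id_apply] }
      map_one_eq_zero' := by
        change f 1 = 0
        rw [← map_one q, hf, Derivation.map_one_eq_zero, TensorProduct.tmul_zero]
      leibniz' := fun e e' => by
        obtain ⟨b, rfl⟩ := hq e
        obtain ⟨b', rfl⟩ := hq e'
        change f (q b * q b') = (q b) • f (q b') + (q b') • f (q b)
        rw [← map_mul, hf, hf, hf, Derivation.leibniz, TensorProduct.tmul_add, h1, h1, h2, h2, hqC, hqC] }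
  refine ⟨bcLift (C := C) d, fun c b => ?_⟩
  rw [bcLift_tmul_D]
  change c • f (q b) = _
  rw [hf, TensorProduct.smul_tmul', smul_eq_mul, mul_one]

end QuotSq



section Concrete

variable {Λ : Type u} {A B : Type v} [CommRing Λ] [CommRing A] [CommRing B]
  [Algebra Λ A] [Algebra Λ B] [Algebra A B] [IsScalarTower Λ A B] (K : Ideal B)

/-- the quotient map `B → B/K²` into the characteristic carrier -/
def qE : B →+* ((Exal.Ext.infinitesimal K).restrictBase A).CharCarrier Λ := Ideal.Quotient.mk (K ^ 2)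

lemma qE_surjective : Function.Surjective (qE (Λ := Λ) (A := A) K) := Ideal.Quotient.mk_surjective

lemma qE_algebraMap (l : Λ) :
    qE (Λ := Λ) (A := A) K (algebraMap Λ B l) =
      algebraMap Λ (((Exal.Ext.infinitesimal K).restrictBase A).CharCarrier Λ) l := by
  change Ideal.Quotient.mk (K ^ 2) (algebraMap Λ B l) =
    Ideal.Quotient.mk (K ^ 2) (algebraMap A B (algebraMap Λ A l))
  rw [← IsScalarTower.algebraMap_apply]

lemma qE_algebraMap_A (a : A) :
    qE (Λ := Λ) (A := A) K (algebraMap A B a) =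
      algebraMap A (((Exal.Ext.infinitesimal K).restrictBase A).CharCarrier Λ) a := rfl

lemma algebraMap_qE (b : B) :
    algebraMap (((Exal.Ext.infinitesimal K).restrictBase A).CharCarrier Λ) (B ⧸ K) (qE (Λ := Λ) (A := A) K b) =
      algebraMap B (B ⧸ K) b := rfl

lemma qE_ker (b : B) (h : qE (Λ := Λ) (A := A) K b = 0) : b ∈ RingHom.ker (algebraMap B (B ⧸ K)) ^ 2 := by
  have h1 : b ∈ K ^ 2 := Ideal.Quotient.eq_zero_iff_mem.1 h
  have h2 : RingHom.ker (algebraMap B (B ⧸ K)) = K := by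
    rw [Ideal.Quotient.algebraMap_eq]; exact Ideal.mk_ker
  rw [h2]; exact h1

lemma inclC_toCotangent (k : K) :
    ((Exal.Ext.infinitesimal K).restrictBase A).inclC Λ (K.toCotangent k) = qE (Λ := Λ) (A := A) K k := by
  change K.cotangentToQuotientSquare (K.toCotangent k) = Ideal.Quotient.mk (K ^ 2) (k : B)
  rw [Ideal.toCotangent_to_quotient_square]
  rfl

/-- the image of an element of `C ⊗_A Ω_{A/Λ}` in `C ⊗_B Ω_{B/Λ}` -/
noncomputable def imgB (z : (B ⧸ K) ⊗[A] Ω[A⁄Λ]) : (B ⧸ K) ⊗[B] Ω[B⁄Λ] :=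
  ((KaehlerDifferential.mapBaseChange Λ A B).baseChange (B ⧸ K))
    ((TensorProduct.AlgebraTensorModule.cancelBaseChange A B (B ⧸ K) (B ⧸ K) Ω[A⁄Λ]).symm z)

lemma imgB_tmul (c : B ⧸ K) (ω : Ω[A⁄Λ]) :
    imgB (Λ := Λ) K (c ⊗ₜ ω) = c ⊗ₜ KaehlerDifferential.map Λ Λ A B ω := by
  rw [imgB, TensorProduct.AlgebraTensorModule.cancelBaseChange_symm_tmul, LinearMap.baseChange_tmul,
    KaehlerDifferential.mapBaseChange_tmul, one_smul]

lemma imgB_add (z z' : (B ⧸ K) ⊗[A] Ω[A⁄Λ]) : imgB (Λ := Λ) K (z + z') = imgB K z + imgB K z' := by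
  rw [imgB, imgB, imgB, map_add, map_add]

/-- `imgB` as an additive map -/
noncomputable def imgBHom : (B ⧸ K) ⊗[A] Ω[A⁄Λ] →+ (B ⧸ K) ⊗[B] Ω[B⁄Λ] where
  toFun := imgB K
  map_zero' := by rw [imgB, map_zero, map_zero]
  map_add' := imgB_add K

theorem charHom_ker_range
    (htriv : ((Exal.Ext.infinitesimal K).restrictBase A).IsTrivialOver Λ)
    (χ : ↥(EGA41.imperfection Λ A (B ⧸ K)) →ₗ[B ⧸ K] K.Cotangent)
    (hχ : ((Exal.Ext.infinitesimal K).restrictBase A).IsCharHom Λ χ) :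
    (∀ z : ↥(EGA41.imperfection Λ A (B ⧸ K)), χ z = 0 ↔ imgB K (z : (B ⧸ K) ⊗[A] Ω[A⁄Λ]) = 0) ∧
      ∀ (x : B) (hx : x ∈ K),
        K.toCotangent ⟨x, hx⟩ ∈ LinearMap.range χ ↔
          (1 : B ⧸ K) ⊗ₜ[B] KaehlerDifferential.D A B x = (0 : (B ⧸ K) ⊗[B] Ω[B⁄A]) := by
  set X := (Exal.Ext.infinitesimal K).restrictBase A with hX
  have hinj := deltaL_injective (A := Λ) X htriv
  obtain ⟨Φ, hΦ⟩ := exists_bcMap (Λ := Λ) (C := B ⧸ K) (qE (Λ := Λ) (A := A) K) (qE_algebraMap K) (algebraMap_qE K)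
  obtain ⟨Ψ, hΨ⟩ := exists_bcMap_inv (Λ := Λ) (C := B ⧸ K) (qE (Λ := Λ) (A := A) K) (qE_algebraMap K)
    (algebraMap_qE K) (qE_surjective K) (qE_ker K)
  have hΨΦ : ∀ y, Ψ (Φ y) = y := by
    intro y
    have := bc_kaehler_ext (Λ := Λ) (Ψ.comp Φ).toAddMonoidHom
      (LinearMap.id : (B ⧸ K) ⊗[B] Ω[B⁄Λ] →ₗ[B ⧸ K] _).toAddMonoidHom (fun c p => by
        change Ψ (Φ (c ⊗ₜ D Λ B p)) = c ⊗ₜ D Λ B p
        rw [hΦ, hΨ])
    exact DFunLike.congr_fun this y
  -- bcm = Φ ∘ img
  have hbcm : ∀ z : (B ⧸ K) ⊗[A] Ω[A⁄Λ], X.baseChangeToMiddle Λ z = Φ (imgB K z) := by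
    intro z
    have := bc_kaehler_ext (Λ := Λ) (P := A) (C := B ⧸ K)
      (X.baseChangeToMiddle Λ).toAddMonoidHom
      (Φ.toAddMonoidHom.comp (imgBHom (Λ := Λ) K)) (fun c a => by
        change X.baseChangeToMiddle Λ (c ⊗ₜ D Λ A a) = Φ (imgB K (c ⊗ₜ D Λ A a))
        rw [bcm_tmul, KaehlerDifferential.map_D, imgB_tmul, KaehlerDifferential.map_D, hΦ,
          qE_algebraMap_A])
    exact DFunLike.congr_fun this z
  have hdelta : ∀ k : K, X.deltaL Λ (K.toCotangent k) =
      (1 : B ⧸ K) ⊗ₜ D Λ (X.CharCarrier Λ) (qE (Λ := Λ) (A := A) K k) := by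
    intro k
    rw [deltaL_apply, inclC_toCotangent]
  constructor
  · intro z
    constructor
    · intro h
      have h1 := hχ z
      rw [h, map_zero, hbcm] at h1
      have h2 := congrArg Ψ h1
      rw [map_zero, hΨΦ] at h2
      exact h2.symm
    · intro h
      apply hinj
      rw [hχ z, hbcm, h, map_zero, map_zero]
  · intro x hx
    -- the map to Ω_{B/A}
    let ρ : (B ⧸ K) ⊗[B] Ω[B⁄Λ] →ₗ[B ⧸ K] (B ⧸ K) ⊗[B] Ω[B⁄A] :=
      (KaehlerDifferential.map Λ A B B).baseChange (B ⧸ K)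
    have hρ : ∀ b : B, ρ ((1 : B ⧸ K) ⊗ₜ D Λ B b) = (1 : B ⧸ K) ⊗ₜ D A B b := by
      intro b
      change (KaehlerDifferential.map Λ A B B).baseChange (B ⧸ K) ((1 : B ⧸ K) ⊗ₜ D Λ B b) = _
      rw [LinearMap.baseChange_tmul, KaehlerDifferential.map_D]
      rfl
    have hexact : Function.Exact ((KaehlerDifferential.mapBaseChange Λ A B).baseChange (B ⧸ K)) ρ := by
      have h1 := lTensor_exact (B ⧸ K) (KaehlerDifferential.exact_mapBaseChange_map Λ A B)
        (KaehlerDifferential.map_surjective Λ A B)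
      exact h1
    constructor
    · rintro ⟨z, hz⟩
      have h1 := hχ z
      rw [hz, hdelta ⟨x, hx⟩, hbcm] at h1
      have h2 := congrArg Ψ h1
      rw [hΨ, hΨΦ] at h2
      rw [← hρ, h2]
      exact (hexact _).2 ⟨_, rfl⟩
    · intro h
      rw [← hρ] at h
      obtain ⟨w', hw'⟩ := (hexact _).1 h
      let w : (B ⧸ K) ⊗[A] Ω[A⁄Λ] :=
        TensorProduct.AlgebraTensorModule.cancelBaseChange A B (B ⧸ K) (B ⧸ K) Ω[A⁄Λ] w'
      have hw : imgB K w = (1 : B ⧸ K) ⊗ₜ D Λ B x := by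
        rw [imgB, LinearEquiv.symm_apply_apply]
        exact hw'
      -- w is in the imperfection module
      have hcomp : ∀ y : (B ⧸ K) ⊗[A] Ω[A⁄Λ], KaehlerDifferential.mapBaseChange Λ A (B ⧸ K) y =
          KaehlerDifferential.mapBaseChange Λ B (B ⧸ K) (imgB K y) := by
        intro y
        have := bc_kaehler_ext (Λ := Λ) (P := A) (C := B ⧸ K)
          (KaehlerDifferential.mapBaseChange Λ A (B ⧸ K)).toAddMonoidHom
          ((KaehlerDifferential.mapBaseChange Λ B (B ⧸ K)).toAddMonoidHom.comp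
            (imgBHom (Λ := Λ) K)) (fun c a => by
            change KaehlerDifferential.mapBaseChange Λ A (B ⧸ K) (c ⊗ₜ D Λ A a) =
              KaehlerDifferential.mapBaseChange Λ B (B ⧸ K) (imgB K (c ⊗ₜ D Λ A a))
            rw [KaehlerDifferential.mapBaseChange_tmul, KaehlerDifferential.map_D, imgB_tmul,
              KaehlerDifferential.map_D, KaehlerDifferential.mapBaseChange_tmul, KaehlerDifferential.map_D,
              ← IsScalarTower.algebraMap_apply])
        exact DFunLike.congr_fun this y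
      have hwmem : w ∈ EGA41.imperfection Λ A (B ⧸ K) := by
        change KaehlerDifferential.mapBaseChange Λ A (B ⧸ K) w = 0
        rw [hcomp, hw, KaehlerDifferential.mapBaseChange_tmul, KaehlerDifferential.map_D, one_smul,
          Ideal.Quotient.algebraMap_eq, Ideal.Quotient.eq_zero_iff_mem.2 hx, map_zero]
      refine ⟨⟨w, hwmem⟩, ?_⟩
      apply hinj
      rw [hχ, hbcm, hw, hΦ, hdelta ⟨x, hx⟩]

end Concrete

section Retraction

/-- For `B` formally smooth over `A`, the map `B ⊗_A Ω_{A/Λ} → Ω_{B/Λ}` has a `B`-linear retraction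
(the first fundamental sequence is split exact). -/
theorem exists_retraction_mapBaseChange (Λ : Type u) (A : Type v) (B : Type v') [CommRing Λ]
    [CommRing A] [CommRing B] [Algebra Λ A] [Algebra Λ B] [Algebra A B] [IsScalarTower Λ A B]
    [Algebra.FormallySmooth A B] :
    ∃ r : Ω[B⁄Λ] →ₗ[B] B ⊗[A] Ω[A⁄Λ],
      r ∘ₗ KaehlerDifferential.mapBaseChange Λ A B = LinearMap.id := by
  have hex := KaehlerDifferential.exact_mapBaseChange_map Λ A B
  have hinj : Function.Injective (KaehlerDifferential.mapBaseChange Λ A B) := by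
    rw [injective_iff_map_eq_zero]
    intro x hx
    obtain ⟨y, rfl⟩ := (Algebra.H1Cotangent.exact_δ_mapBaseChange Λ A B x).mp hx
    rw [Subsingleton.elim y 0, map_zero]
  have hsurj : Function.Surjective (KaehlerDifferential.map Λ A B B) :=
    KaehlerDifferential.map_surjective Λ A B
  obtain ⟨l, hl⟩ := Module.projective_lifting_property (KaehlerDifferential.map Λ A B B)
    LinearMap.id hsurj
  have h01 := (hex.split_tfae hinj hsurj).out 0 1
  exact h01.mp ⟨l, hl⟩

end Retraction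

end Groth.Agent.Lib.Helper7.ExalLib
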