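import Mathlib
import Groth.Prelude.Def_EGA41
import Groth.Agent.Lib.Helper7ExalInf

set_option autoImplicit false
set_option linter.unusedSectionVars false

open TensorProduct KaehlerDifferential

universe u u' u'' w

namespace Groth.Agent.Lib.Helper7.ExalLib

section Basic

variable {R : Type u} {R' : Type u'} {S T : Type w}
  [CommRing R] [CommRing R'] [CommRing S] [CommRing T]
  [Algebra R R'] [Algebra R S] [Algebra R' S] [IsScalarTower R R' S]
  [Algebra S T]

variable (R R' S T) in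
/-- the change-of-base map `T ⊗_S Ω_{S/R} → T ⊗_S Ω_{S/R'}` -/
noncomputable abbrev bcPhi : T ⊗[S] Ω[S⁄R] →ₗ[T] T ⊗[S] Ω[S⁄R'] :=
  (KaehlerDifferential.map R R' S S).baseChange T

lemma bcPhi_tmul_D (c : T) (x : S) :
    bcPhi R R' S T (c ⊗ₜ D R S x) = c ⊗ₜ D R' S x := by
  rw [bcPhi, LinearMap.baseChange_tmul, KaehlerDifferential.map_D]
  rfl

lemma bcPhi_surjective : Function.Surjective (bcPhi R R' S T) := by
  have h : Function.Surjective (KaehlerDifferential.map R R' S S) :=
    KaehlerDifferential.map_surjective R R' S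
  intro y
  induction y using TensorProduct.induction_on with
  | zero => exact ⟨0, map_zero _⟩
  | add x y hx hy =>
    obtain ⟨a, rfl⟩ := hx
    obtain ⟨b, rfl⟩ := hy
    exact ⟨a + b, map_add _ _ _⟩
  | tmul c ω =>
    obtain ⟨ω', rfl⟩ := h ω
    exact ⟨c ⊗ₜ ω', LinearMap.baseChange_tmul _ _ _⟩

end Basic

section Imperf

variable {R : Type u} {R' : Type u'} {S T : Type w}
  [CommRing R] [CommRing R'] [CommRing S] [CommRing T]
  [Algebra R R'] [Algebra R S] [Algebra R' S] [IsScalarTower R R' S]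
  [Algebra S T] [Algebra R T] [Algebra R' T]
  [IsScalarTower R S T] [IsScalarTower R' S T] [IsScalarTower R R' T]

/-- compatibility square `Ω_{T/R} → Ω_{T/R'}` with `mapBaseChange` -/
lemma map_mapBaseChange (z : T ⊗[S] Ω[S⁄R]) :
    KaehlerDifferential.map R R' T T (KaehlerDifferential.mapBaseChange R S T z) =
      KaehlerDifferential.mapBaseChange R' S T (bcPhi R R' S T z) := by
  have := bc_kaehler_ext (Λ := R) (P := S) (C := T) (N := Ω[T⁄R'])
    (((KaehlerDifferential.map R R' T T).toAddMonoidHom).comp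
      (KaehlerDifferential.mapBaseChange R S T).toAddMonoidHom)
    ((KaehlerDifferential.mapBaseChange R' S T).toAddMonoidHom.comp
      (bcPhi R R' S T).toAddMonoidHom) ?_
  · exact DFunLike.congr_fun this z
  · intro c p
    simp only [AddMonoidHom.coe_comp, LinearMap.toAddMonoidHom_coe, Function.comp_apply]
    rw [bcPhi_tmul_D, KaehlerDifferential.mapBaseChange_tmul,
      KaehlerDifferential.mapBaseChange_tmul, KaehlerDifferential.map_D,
      KaehlerDifferential.map_D, map_smul, KaehlerDifferential.map_D]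
    rfl

lemma bcPhi_mem_imperfection {z : T ⊗[S] Ω[S⁄R]} (hz : z ∈ EGA41.imperfection R S T) :
    bcPhi R R' S T z ∈ EGA41.imperfection R' S T := by
  rw [EGA41.imperfection, LinearMap.mem_ker] at hz ⊢
  rw [← map_mapBaseChange, hz, map_zero]

/-- Elements of `T ⊗_{R'} Ω_{R'/R}` lift to the kernel of `bcPhi`. -/
lemma exists_mem_ker_bcPhi (t : T ⊗[R'] Ω[R'⁄R]) :
    ∃ s : T ⊗[S] Ω[S⁄R], KaehlerDifferential.mapBaseChange R S T s =
      KaehlerDifferential.mapBaseChange R R' T t ∧ bcPhi R R' S T s = 0 := by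
  induction t using TensorProduct.induction_on with
  | zero => exact ⟨0, by rw [map_zero, map_zero], map_zero _⟩
  | add x y hx hy =>
    obtain ⟨a, ha, ha'⟩ := hx
    obtain ⟨b, hb, hb'⟩ := hy
    exact ⟨a + b, by rw [map_add, map_add, ha, hb], by rw [map_add, ha', hb', add_zero]⟩
  | tmul c ω =>
    have hω : ω ∈ Submodule.span R' (Set.range (D R R')) := by
      rw [KaehlerDifferential.span_range_derivation]; trivial
    revert c
    refine Submodule.span_induction ?_ ?_ ?_ ?_ hω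
    · rintro _ ⟨y, rfl⟩ c
      refine ⟨c ⊗ₜ D R S (algebraMap R' S y), ?_, ?_⟩
      · rw [KaehlerDifferential.mapBaseChange_tmul, KaehlerDifferential.mapBaseChange_tmul,
          KaehlerDifferential.map_D, KaehlerDifferential.map_D,
          ← IsScalarTower.algebraMap_apply R' S T]
      · rw [bcPhi_tmul_D, Derivation.map_algebraMap, TensorProduct.tmul_zero]
    · intro c
      exact ⟨0, by rw [TensorProduct.tmul_zero, map_zero, map_zero], map_zero _⟩
    · intro x y _ _ hx hy c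
      obtain ⟨a, ha, ha'⟩ := hx c
      obtain ⟨b, hb, hb'⟩ := hy c
      exact ⟨a + b, by rw [TensorProduct.tmul_add, map_add, map_add, ha, hb],
        by rw [map_add, ha', hb', add_zero]⟩
    · intro r x _ hx c
      obtain ⟨a, ha, ha'⟩ := hx (r • c)
      refine ⟨a, ?_, ha'⟩
      rw [ha, TensorProduct.tmul_smul, TensorProduct.smul_tmul']

/-- `Υ_{T/S/R} → Υ_{T/S/R'}` is surjective. -/
theorem exists_mem_imperfection_bcPhi_eq {w : T ⊗[S] Ω[S⁄R']}
    (hw : w ∈ EGA41.imperfection R' S T) :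
    ∃ z : T ⊗[S] Ω[S⁄R], z ∈ EGA41.imperfection R S T ∧ bcPhi R R' S T z = w := by
  obtain ⟨z₀, rfl⟩ := bcPhi_surjective (R := R) w
  have h1 : KaehlerDifferential.map R R' T T (KaehlerDifferential.mapBaseChange R S T z₀) = 0 := by
    rw [map_mapBaseChange]
    exact hw
  obtain ⟨t, ht⟩ := (KaehlerDifferential.exact_mapBaseChange_map R R' T _).mp h1
  obtain ⟨s, hs, hs'⟩ := exists_mem_ker_bcPhi (S := S) t
  refine ⟨z₀ - s, ?_, by rw [map_sub, hs', sub_zero]⟩
  rw [EGA41.imperfection, LinearMap.mem_ker, map_sub, hs, ht, sub_self]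

end Imperf

section Comp

variable {R : Type u} {R' : Type u'} {R'' : Type u''} {S T : Type w}
  [CommRing R] [CommRing R'] [CommRing R''] [CommRing S] [CommRing T]
  [Algebra R R'] [Algebra R R''] [Algebra R' R''] [IsScalarTower R R' R'']
  [Algebra R S] [Algebra R' S] [Algebra R'' S] [IsScalarTower R R' S] [IsScalarTower R' R'' S]
  [IsScalarTower R R'' S] [Algebra S T]

lemma bcPhi_bcPhi (z : T ⊗[S] Ω[S⁄R]) :
    bcPhi R' R'' S T (bcPhi R R' S T z) = bcPhi R R'' S T z := by
  have := bc_kaehler_ext (Λ := R) (P := S) (C := T) (N := T ⊗[S] Ω[S⁄R''])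
    ((bcPhi R' R'' S T).toAddMonoidHom.comp (bcPhi R R' S T).toAddMonoidHom)
    (bcPhi R R'' S T).toAddMonoidHom ?_
  · exact DFunLike.congr_fun this z
  · intro c p
    simp only [AddMonoidHom.coe_comp, LinearMap.toAddMonoidHom_coe, Function.comp_apply]
    rw [bcPhi_tmul_D, bcPhi_tmul_D, bcPhi_tmul_D]

end Comp

section Rank

variable {R : Type u} {R' : Type u'} {R'' : Type u''} {S T : Type w}
  [CommRing R] [CommRing R'] [CommRing R''] [CommRing S] [Field T]
  [Algebra R R'] [Algebra R R''] [Algebra R' R''] [IsScalarTower R R' R'']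
  [Algebra R S] [Algebra R' S] [Algebra R'' S] [IsScalarTower R R' S] [IsScalarTower R' R'' S]
  [IsScalarTower R R'' S] [Algebra S T]
  [Algebra R T] [Algebra R' T] [Algebra R'' T]
  [IsScalarTower R S T] [IsScalarTower R' S T] [IsScalarTower R'' S T] [IsScalarTower R R' T]

/-- surjectivity of `Δ(T/S, R''/R) → Δ(T/S, R''/R')` -/
theorem exists_mem_delta {w : T ⊗[S] Ω[S⁄R']} (hw : w ∈ EGA41.imperfection R' S T)
    (hw' : bcPhi R' R'' S T w = 0) :
    ∃ z : T ⊗[S] Ω[S⁄R], z ∈ EGA41.imperfection R S T ∧ bcPhi R R'' S T z = 0 ∧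
      bcPhi R R' S T z = w := by
  obtain ⟨z, hz, rfl⟩ := exists_mem_imperfection_bcPhi_eq (R := R) hw
  exact ⟨z, hz, by rw [← bcPhi_bcPhi (R' := R'), hw'], rfl⟩

theorem rank_delta_add :
    Module.rank T ↥(EGA41.imperfection R S T ⊓ LinearMap.ker (bcPhi R R'' S T)) =
      Module.rank T ↥(EGA41.imperfection R' S T ⊓ LinearMap.ker (bcPhi R' R'' S T)) +
        Module.rank T ↥(EGA41.imperfection R S T ⊓ LinearMap.ker (bcPhi R R' S T)) := by
  set Δ₂ := EGA41.imperfection R S T ⊓ LinearMap.ker (bcPhi R R'' S T) with hΔ₂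
  set Δ₁ := EGA41.imperfection R S T ⊓ LinearMap.ker (bcPhi R R' S T) with hΔ₁
  set g := (bcPhi R R' S T).domRestrict Δ₂ with hg
  have hrange : LinearMap.range g =
      EGA41.imperfection R' S T ⊓ LinearMap.ker (bcPhi R' R'' S T) := by
    apply le_antisymm
    · rintro _ ⟨⟨x, hx⟩, rfl⟩
      rw [hΔ₂, Submodule.mem_inf, LinearMap.mem_ker] at hx
      rw [hg, LinearMap.domRestrict_apply, Submodule.mem_inf, LinearMap.mem_ker, bcPhi_bcPhi]
      exact ⟨bcPhi_mem_imperfection hx.1, hx.2⟩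
    · intro w hw
      rw [Submodule.mem_inf, LinearMap.mem_ker] at hw
      obtain ⟨z, hz, hz', rfl⟩ := exists_mem_delta (R := R) hw.1 hw.2
      exact ⟨⟨z, Submodule.mem_inf.2 ⟨hz, LinearMap.mem_ker.2 hz'⟩⟩, rfl⟩
  have hle : Δ₁ ≤ Δ₂ := by
    intro x hx
    rw [hΔ₁, Submodule.mem_inf, LinearMap.mem_ker] at hx
    rw [hΔ₂, Submodule.mem_inf, LinearMap.mem_ker, ← bcPhi_bcPhi (R' := R'), hx.2, map_zero]
    exact ⟨hx.1, rfl⟩
  have hker : LinearMap.ker g = Submodule.comap Δ₂.subtype Δ₁ := by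
    ext ⟨x, hx⟩
    rw [LinearMap.mem_ker, hg, LinearMap.domRestrict_apply, Submodule.mem_comap,
      Submodule.subtype_apply, hΔ₁, Submodule.mem_inf, LinearMap.mem_ker]
    rw [hΔ₂, Submodule.mem_inf] at hx
    exact ⟨fun h => ⟨hx.1, h⟩, fun h => h.2⟩
  have key := LinearMap.rank_range_add_rank_ker (R := T) (M := ↥Δ₂) (M₁ := T ⊗[S] Ω[S⁄R']) g
  rw [hrange, hker, (Submodule.comapSubtypeEquivOfLe hle).rank_eq] at key
  exact key.symm

end Rank

end Groth.Agent.Lib.Helper7.ExalLib
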