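import Mathlib
import Groth.Prelude.Def_EGA41
import Groth.Agent.Lib.Helper7Imperf

set_option autoImplicit false
set_option linter.unusedSectionVars false

open TensorProduct KaehlerDifferential

universe u u' u'' w

namespace Groth.Agent.Lib.Helper7.ExalLib

section KerPhi

variable {R : Type u} {R' : Type u'} {S T : Type w}
  [CommRing R] [CommRing R'] [CommRing S] [CommRing T]
  [Algebra R R'] [Algebra R S] [Algebra R' S] [IsScalarTower R R' S]
  [Algebra S T]

/-- the kernel of `T ⊗_S Ω_{S/R} → T ⊗_S Ω_{S/R'}` is spanned by the `1 ⊗ d y`, `y ∈ R'`. -/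
theorem ker_bcPhi_eq_span :
    LinearMap.ker (bcPhi R R' S T) =
      Submodule.span T (Set.range fun y : R' => (1 : T) ⊗ₜ[S] D R S (algebraMap R' S y)) := by
  apply le_antisymm
  · intro x hx
    rw [LinearMap.mem_ker] at hx
    have hex := KaehlerDifferential.exact_mapBaseChange_map R R' S
    have hsurj : Function.Surjective (KaehlerDifferential.map R R' S S) :=
      KaehlerDifferential.map_surjective R R' S
    have hex' := lTensor_exact T hex hsurj
    have hx' : (KaehlerDifferential.map R R' S S).lTensor T x = 0 := hx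
    obtain ⟨t, rfl⟩ := (hex' x).mp hx'
    clear hx hx'
    induction t using TensorProduct.induction_on with
    | zero => rw [map_zero]; exact zero_mem _
    | add a b ha hb => rw [map_add]; exact add_mem ha hb
    | tmul c t' =>
      rw [LinearMap.lTensor_tmul]
      revert c
      induction t' using TensorProduct.induction_on with
      | zero => intro c; rw [map_zero, TensorProduct.tmul_zero]; exact zero_mem _
      | add a b ha hb => intro c; rw [map_add, TensorProduct.tmul_add]; exact add_mem (ha c) (hb c)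
      | tmul s ω =>
        have hω : ω ∈ Submodule.span R' (Set.range (D R R')) := by
          rw [KaehlerDifferential.span_range_derivation]; trivial
        revert s
        refine Submodule.span_induction ?_ ?_ ?_ ?_ hω
        · rintro _ ⟨y, rfl⟩ s c
          rw [KaehlerDifferential.mapBaseChange_tmul, KaehlerDifferential.map_D,
            TensorProduct.tmul_smul, TensorProduct.smul_tmul']
          have : (s • c) ⊗ₜ[S] D R S (algebraMap R' S y) =
              (s • c) • ((1 : T) ⊗ₜ[S] D R S (algebraMap R' S y)) := by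
            rw [TensorProduct.smul_tmul', smul_eq_mul, mul_one]
          rw [this]
          exact Submodule.smul_mem _ _ (Submodule.subset_span ⟨y, rfl⟩)
        · intro s c
          rw [TensorProduct.tmul_zero, map_zero, TensorProduct.tmul_zero]; exact zero_mem _
        · intro x y _ _ hx hy s c
          rw [TensorProduct.tmul_add, map_add, TensorProduct.tmul_add]
          exact add_mem (hx s c) (hy s c)
        · intro r x _ hx s c
          rw [TensorProduct.tmul_smul, TensorProduct.smul_tmul']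
          exact hx (r • s) c
  · rw [Submodule.span_le]
    rintro _ ⟨y, rfl⟩
    rw [SetLike.mem_coe, LinearMap.mem_ker, bcPhi_tmul_D, Derivation.map_algebraMap,
      TensorProduct.tmul_zero]

end KerPhi

section Beta

variable {Λ : Type u} {A : Type u'} {B C : Type w}
  [CommRing Λ] [CommRing A] [CommRing B] [CommRing C]
  [Algebra Λ A] [Algebra Λ B] [Algebra A B] [IsScalarTower Λ A B]
  [Algebra A C] [Algebra B C] [IsScalarTower A B C]

variable (Λ A B C) in
/-- the natural map `C ⊗_A Ω_{A/Λ} → C ⊗_B Ω_{B/Λ}` -/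
noncomputable def bcBeta : C ⊗[A] Ω[A⁄Λ] →ₗ[C] C ⊗[B] Ω[B⁄Λ] :=
  ((KaehlerDifferential.mapBaseChange Λ A B).baseChange C) ∘ₗ
    (TensorProduct.AlgebraTensorModule.cancelBaseChange A B C C Ω[A⁄Λ]).symm.toLinearMap

lemma bcBeta_tmul (c : C) (ω : Ω[A⁄Λ]) :
    bcBeta Λ A B C (c ⊗ₜ ω) = c ⊗ₜ KaehlerDifferential.map Λ Λ A B ω := by
  rw [bcBeta, LinearMap.comp_apply, LinearEquiv.coe_coe,
    TensorProduct.AlgebraTensorModule.cancelBaseChange_symm_tmul, LinearMap.baseChange_tmul,
    KaehlerDifferential.mapBaseChange_tmul, one_smul]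

lemma bcBeta_tmul_D (c : C) (a : A) :
    bcBeta Λ A B C (c ⊗ₜ D Λ A a) = c ⊗ₜ D Λ B (algebraMap A B a) := by
  rw [bcBeta_tmul, KaehlerDifferential.map_D]

lemma bcBeta_cancel (y : C ⊗[B] (B ⊗[A] Ω[A⁄Λ])) :
    bcBeta Λ A B C (TensorProduct.AlgebraTensorModule.cancelBaseChange A B C C Ω[A⁄Λ] y) =
      (KaehlerDifferential.mapBaseChange Λ A B).baseChange C y := by
  rw [bcBeta, LinearMap.comp_apply, LinearEquiv.coe_coe, LinearEquiv.symm_apply_apply]

variable [Algebra Λ C] [IsScalarTower Λ A C] [IsScalarTower Λ B C]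

lemma mapBaseChange_bcBeta (x : C ⊗[A] Ω[A⁄Λ]) :
    KaehlerDifferential.mapBaseChange Λ B C (bcBeta Λ A B C x) =
      KaehlerDifferential.mapBaseChange Λ A C x := by
  have := bc_kaehler_ext (Λ := Λ) (P := A) (C := C) (N := Ω[C⁄Λ])
    ((KaehlerDifferential.mapBaseChange Λ B C).toAddMonoidHom.comp
      (bcBeta Λ A B C).toAddMonoidHom)
    (KaehlerDifferential.mapBaseChange Λ A C).toAddMonoidHom ?_
  · exact DFunLike.congr_fun this x
  · intro c p
    simp only [AddMonoidHom.coe_comp, LinearMap.toAddMonoidHom_coe, Function.comp_apply]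
    rw [bcBeta_tmul_D, KaehlerDifferential.mapBaseChange_tmul,
      KaehlerDifferential.mapBaseChange_tmul, KaehlerDifferential.map_D,
      KaehlerDifferential.map_D, ← IsScalarTower.algebraMap_apply A B C]

end Beta

section BetaMem

variable {Λ : Type u} {A B C : Type w}
  [CommRing Λ] [CommRing A] [CommRing B] [CommRing C]
  [Algebra Λ A] [Algebra Λ B] [Algebra A B] [IsScalarTower Λ A B]
  [Algebra A C] [Algebra B C] [IsScalarTower A B C]
  [Algebra Λ C] [IsScalarTower Λ A C] [IsScalarTower Λ B C]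

lemma mem_imperfection_iff_bcBeta (x : C ⊗[A] Ω[A⁄Λ]) :
    x ∈ EGA41.imperfection Λ A C ↔ bcBeta Λ A B C x ∈ EGA41.imperfection Λ B C := by
  rw [EGA41.imperfection, EGA41.imperfection, LinearMap.mem_ker, LinearMap.mem_ker,
    mapBaseChange_bcBeta]

end BetaMem

section BetaPhi

variable {Λ₀ : Type u} {Λ : Type u'} {A B C : Type w}
  [CommRing Λ₀] [CommRing Λ] [CommRing A] [CommRing B] [CommRing C]
  [Algebra Λ₀ Λ] [Algebra Λ₀ A] [Algebra Λ A] [IsScalarTower Λ₀ Λ A]
  [Algebra Λ₀ B] [Algebra Λ B] [IsScalarTower Λ₀ Λ B]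
  [Algebra A B] [IsScalarTower Λ₀ A B] [IsScalarTower Λ A B]
  [Algebra A C] [Algebra B C] [IsScalarTower A B C]

lemma bcPhi_bcBeta (x : C ⊗[A] Ω[A⁄Λ₀]) :
    bcPhi Λ₀ Λ B C (bcBeta Λ₀ A B C x) = bcBeta Λ A B C (bcPhi Λ₀ Λ A C x) := by
  have := bc_kaehler_ext (Λ := Λ₀) (P := A) (C := C) (N := C ⊗[B] Ω[B⁄Λ])
    ((bcPhi Λ₀ Λ B C).toAddMonoidHom.comp (bcBeta Λ₀ A B C).toAddMonoidHom)
    ((bcBeta Λ A B C).toAddMonoidHom.comp (bcPhi Λ₀ Λ A C).toAddMonoidHom) ?_
  · exact DFunLike.congr_fun this x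
  · intro c p
    simp only [AddMonoidHom.coe_comp, LinearMap.toAddMonoidHom_coe, Function.comp_apply]
    rw [bcBeta_tmul_D, bcPhi_tmul_D, bcPhi_tmul_D, bcBeta_tmul_D]

lemma bcPhi_cancel (y : C ⊗[B] (B ⊗[A] Ω[A⁄Λ₀])) :
    bcPhi Λ₀ Λ A C (TensorProduct.AlgebraTensorModule.cancelBaseChange A B C C Ω[A⁄Λ₀] y) =
      TensorProduct.AlgebraTensorModule.cancelBaseChange A B C C Ω[A⁄Λ]
        ((bcPhi Λ₀ Λ A B).baseChange C y) := by
  have h := LinearMap.baseChange_baseChange (A := B) (B := C) (KaehlerDifferential.map Λ₀ Λ A A)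
  have h2 := DFunLike.congr_fun h y
  rw [bcPhi, bcPhi, h2]
  simp only [LinearMap.comp_apply, LinearEquiv.coe_coe, LinearEquiv.apply_symm_apply]

end BetaPhi

section FlatKer

variable {L M : Type w} [Field L] [Field M] [Algebra L M]
  {N P₁ P₂ : Type w} [AddCommGroup N] [Module L N] [AddCommGroup P₁] [Module L P₁]
  [AddCommGroup P₂] [Module L P₂]

/-- Base change of the intersection of two kernels along a field extension: ranks agree. -/
theorem rank_ker_baseChange_inf (f₁ : N →ₗ[L] P₁) (f₂ : N →ₗ[L] P₂) :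
    Module.rank M ↥(LinearMap.ker (f₁.baseChange M) ⊓ LinearMap.ker (f₂.baseChange M)) =
      Module.rank L ↥(LinearMap.ker f₁ ⊓ LinearMap.ker f₂) := by
  set h := f₁.prod f₂ with hh
  have hker : LinearMap.ker h = LinearMap.ker f₁ ⊓ LinearMap.ker f₂ := LinearMap.ker_prod f₁ f₂
  set ι := (LinearMap.ker h).subtype with hι
  have hex : Function.Exact ι h := LinearMap.exact_subtype_ker_map h
  have hex' := Module.Flat.lTensor_exact M hex
  have hinj : Function.Injective (ι.baseChange M) :=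
    Module.Flat.lTensor_preserves_injective_linearMap ι (Submodule.injective_subtype _)
  have e1 : ∀ x : M ⊗[L] N, ((TensorProduct.prodRight L L M P₁ P₂) ((h.lTensor M) x)).1 =
      f₁.baseChange M x := by
    intro x
    induction x using TensorProduct.induction_on with
    | zero => simp
    | add a b ha hb => simp only [map_add, Prod.fst_add, ha, hb]
    | tmul m n => simp [hh]
  have e2 : ∀ x : M ⊗[L] N, ((TensorProduct.prodRight L L M P₁ P₂) ((h.lTensor M) x)).2 =
      f₂.baseChange M x := by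
    intro x
    induction x using TensorProduct.induction_on with
    | zero => simp
    | add a b ha hb => simp only [map_add, Prod.snd_add, ha, hb]
    | tmul m n => simp [hh]
  have hrange : LinearMap.ker (f₁.baseChange M) ⊓ LinearMap.ker (f₂.baseChange M) =
      LinearMap.range (ι.baseChange M) := by
    ext x
    rw [Submodule.mem_inf, LinearMap.mem_ker, LinearMap.mem_ker]
    have h1 : (h.lTensor M) x = 0 ↔ x ∈ Set.range (ι.lTensor M) := hex' x
    have h2 : (h.lTensor M) x = 0 ↔ f₁.baseChange M x = 0 ∧ f₂.baseChange M x = 0 := by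
      rw [← (TensorProduct.prodRight L L M P₁ P₂).map_eq_zero_iff, Prod.ext_iff, e1, e2]
      rfl
    rw [← h2, h1]
    rfl
  rw [hrange, ← (LinearEquiv.ofInjective (ι.baseChange M) hinj).rank_eq, Module.rank_baseChange,
    Cardinal.lift_id, hker]

end FlatKer

section Tower

variable {Λ₀ : Type u} {Λ : Type u'} {K L M : Type w}
  [CommRing Λ₀] [CommRing Λ] [CommRing K] [Field L] [Field M] [Algebra Λ₀ Λ]
  [Algebra Λ₀ K] [Algebra Λ K] [IsScalarTower Λ₀ Λ K] [Algebra Λ₀ L] [Algebra Λ L]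
  [IsScalarTower Λ₀ Λ L]
  [Algebra K L] [Algebra K M] [Algebra L M] [IsScalarTower K L M]
  [Algebra Λ₀ M] [Algebra Λ M] [IsScalarTower Λ₀ K L] [IsScalarTower Λ K L]
  [IsScalarTower Λ₀ K M] [IsScalarTower Λ K M] [IsScalarTower Λ₀ L M] [IsScalarTower Λ L M]

theorem rank_delta_tower :
    Module.rank M ↥(EGA41.imperfection Λ₀ K M ⊓ LinearMap.ker (bcPhi Λ₀ Λ K M)) =
      Module.rank M ↥(EGA41.imperfection Λ₀ L M ⊓ LinearMap.ker (bcPhi Λ₀ Λ L M)) +
        Module.rank L ↥(EGA41.imperfection Λ₀ K L ⊓ LinearMap.ker (bcPhi Λ₀ Λ K L)) := by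
  set Δ := EGA41.imperfection Λ₀ K M ⊓ LinearMap.ker (bcPhi Λ₀ Λ K M) with hΔ
  set Z := LinearMap.ker (bcPhi Λ₀ Λ K M) ⊓ LinearMap.ker (bcBeta Λ₀ K L M) with hZ
  set g := (bcBeta Λ₀ K L M).domRestrict Δ with hg
  have hrange : LinearMap.range g =
      EGA41.imperfection Λ₀ L M ⊓ LinearMap.ker (bcPhi Λ₀ Λ L M) := by
    apply le_antisymm
    · rintro _ ⟨⟨x, hx⟩, rfl⟩
      rw [hΔ, Submodule.mem_inf, LinearMap.mem_ker] at hx
      rw [hg, LinearMap.domRestrict_apply, Submodule.mem_inf, LinearMap.mem_ker, bcPhi_bcBeta,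
        hx.2, map_zero]
      exact ⟨(mem_imperfection_iff_bcBeta x).1 hx.1, rfl⟩
    · intro w hw
      rw [Submodule.mem_inf] at hw
      have hle : LinearMap.ker (bcPhi Λ₀ Λ L M) ≤
          Submodule.map (bcBeta Λ₀ K L M) (LinearMap.ker (bcPhi Λ₀ Λ K M)) := by
        rw [ker_bcPhi_eq_span, Submodule.span_le]
        rintro _ ⟨y, rfl⟩
        refine ⟨(1 : M) ⊗ₜ[K] D Λ₀ K (algebraMap Λ K y), ?_, ?_⟩
        · rw [SetLike.mem_coe, LinearMap.mem_ker, bcPhi_tmul_D, Derivation.map_algebraMap,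
            TensorProduct.tmul_zero]
        · rw [bcBeta_tmul_D, ← IsScalarTower.algebraMap_apply Λ K L]
      obtain ⟨x, hx, rfl⟩ := hle hw.2
      refine ⟨⟨x, ?_⟩, rfl⟩
      rw [hΔ, Submodule.mem_inf]
      exact ⟨(mem_imperfection_iff_bcBeta x).2 hw.1, hx⟩
  have hle : Z ≤ Δ := by
    intro x hx
    rw [hZ, Submodule.mem_inf, LinearMap.mem_ker, LinearMap.mem_ker] at hx
    rw [hΔ, Submodule.mem_inf, LinearMap.mem_ker, mem_imperfection_iff_bcBeta (B := L), hx.2]
    exact ⟨zero_mem _, hx.1⟩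
  have hker : LinearMap.ker g = Submodule.comap Δ.subtype Z := by
    ext ⟨x, hx⟩
    rw [LinearMap.mem_ker, hg, LinearMap.domRestrict_apply, Submodule.mem_comap,
      Submodule.subtype_apply, hZ, Submodule.mem_inf, LinearMap.mem_ker, LinearMap.mem_ker]
    rw [hΔ, Submodule.mem_inf, LinearMap.mem_ker] at hx
    exact ⟨fun h => ⟨hx.2, h⟩, fun h => h.2⟩
  set α := TensorProduct.AlgebraTensorModule.cancelBaseChange K L M M Ω[K⁄Λ₀] with hα
  have hZ' : Submodule.comap α.toLinearMap Z =
      LinearMap.ker ((bcPhi Λ₀ Λ K L).baseChange M) ⊓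
        LinearMap.ker ((KaehlerDifferential.mapBaseChange Λ₀ K L).baseChange M) := by
    ext y
    rw [Submodule.mem_comap, hZ, Submodule.mem_inf, Submodule.mem_inf, LinearMap.mem_ker,
      LinearMap.mem_ker, LinearMap.mem_ker, LinearMap.mem_ker, LinearEquiv.coe_coe, hα,
      bcPhi_cancel, bcBeta_cancel, LinearEquiv.map_eq_zero_iff]
  have hrankZ : Module.rank M ↥Z =
      Module.rank L ↥(EGA41.imperfection Λ₀ K L ⊓ LinearMap.ker (bcPhi Λ₀ Λ K L)) := by
    rw [← (LinearEquiv.ofSubmodule' α Z).rank_eq, hZ', rank_ker_baseChange_inf, inf_comm]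
    rfl
  have key := LinearMap.rank_range_add_rank_ker (R := M) (M := ↥Δ) (M₁ := M ⊗[L] Ω[L⁄Λ₀]) g
  rw [hrange, hker, (Submodule.comapSubtypeEquivOfLe hle).rank_eq, hrankZ] at key
  exact key.symm

end Tower

end Groth.Agent.Lib.Helper7.ExalLib
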