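import Mathlib
import Groth.Agent.Lib.Helper7Imperf2
import Groth.Agent.Lib.Helper12SepGen

set_option autoImplicit false
set_option linter.unusedSectionVars false
set_option linter.style.haveILetI false
open TensorProduct KaehlerDifferential
universe u v w

namespace Groth.Agent.Lib.Helper7.ExalLib

section Theta

variable {k₀ : Type u} {K : Type v} {L : Type w} [CommRing k₀] [Field K] [Field L]
  [Algebra k₀ K] [Algebra k₀ L] [Algebra K L] [IsScalarTower k₀ K L]

instance isScalarTower_intermediateField (F : IntermediateField K L) : IsScalarTower k₀ F L :=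
  IsScalarTower.of_algebraMap_eq fun _ => rfl

open Classical in
/-- the generator map for `Θ_F` -/
noncomputable def thetaGen (k₀ : Type u) [CommRing k₀] [Algebra k₀ K] [Algebra k₀ L]
    [IsScalarTower k₀ K L] (F : IntermediateField K L) (x : L) : L ⊗[F] Ω[F⁄k₀] :=
  if h : x ∈ F then (1 : L) ⊗ₜ D k₀ F ⟨x, h⟩ else 0

lemma thetaGen_of_mem (F : IntermediateField K L) {x : L} (h : x ∈ F) :
    thetaGen k₀ F x = (1 : L) ⊗ₜ D k₀ F ⟨x, h⟩ := by
  rw [thetaGen, dif_pos h]

/-- `Θ_F : (L →₀ L) → L ⊗_F Ω_{F/k₀}`, sending `single x l` to `l ⊗ dx` if `x ∈ F` and to `0`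
otherwise. -/
noncomputable def theta (k₀ : Type u) [CommRing k₀] [Algebra k₀ K] [Algebra k₀ L]
    [IsScalarTower k₀ K L] (F : IntermediateField K L) : (L →₀ L) →ₗ[L] L ⊗[F] Ω[F⁄k₀] :=
  Finsupp.linearCombination L (thetaGen k₀ F)

lemma theta_single (F : IntermediateField K L) {x : L} (h : x ∈ F) (l : L) :
    theta k₀ F (Finsupp.single x l) = l ⊗ₜ D k₀ F ⟨x, h⟩ := by
  rw [theta, Finsupp.linearCombination_single, thetaGen_of_mem F h, TensorProduct.smul_tmul',
    smul_eq_mul, mul_one]

/-- every element of `kerTotal` is killed by `Θ_F` for all sufficiently large `F`. -/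
theorem exists_finset_theta_eq_zero (v : L →₀ L) (hv : v ∈ KaehlerDifferential.kerTotal k₀ L) :
    ∃ s : Finset L, ∀ F : IntermediateField K L, (s : Set L) ⊆ F → theta k₀ F v = 0 := by
  classical
  rw [KaehlerDifferential.kerTotal] at hv
  refine Submodule.span_induction ?_ ?_ ?_ ?_ hv
  · rintro _ ((⟨⟨x, y⟩, rfl⟩ | ⟨⟨x, y⟩, rfl⟩) | ⟨r, rfl⟩)
    · refine ⟨{x, y}, fun F hF => ?_⟩
      have hx : x ∈ F := hF (by simp)
      have hy : y ∈ F := hF (by simp)
      have hxy : x + y ∈ F := add_mem hx hy
      simp only [map_add, map_sub]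
      rw [theta_single F hx, theta_single F hy, theta_single F hxy, ← TensorProduct.tmul_add,
        ← TensorProduct.tmul_sub]
      have : (⟨x + y, hxy⟩ : F) = ⟨x, hx⟩ + ⟨y, hy⟩ := rfl
      rw [this, map_add, sub_self, TensorProduct.tmul_zero]
    · refine ⟨{x, y}, fun F hF => ?_⟩
      have hx : x ∈ F := hF (by simp)
      have hy : y ∈ F := hF (by simp)
      have hxy : x * y ∈ F := mul_mem hx hy
      simp only [map_add, map_sub]
      rw [theta_single F hx, theta_single F hy, theta_single F hxy]
      have : (⟨x * y, hxy⟩ : F) = ⟨x, hx⟩ * ⟨y, hy⟩ := rfl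
      have e1 : (⟨x, hx⟩ : F) • (1 : L) = x := by
        rw [Algebra.smul_def, mul_one]; rfl
      have e2 : (⟨y, hy⟩ : F) • (1 : L) = y := by
        rw [Algebra.smul_def, mul_one]; rfl
      rw [this, Derivation.leibniz, TensorProduct.tmul_add, ← TensorProduct.smul_tmul,
        ← TensorProduct.smul_tmul, e1, e2]
      abel
    · refine ⟨∅, fun F _ => ?_⟩
      have hr : algebraMap k₀ L r ∈ F := by
        rw [IsScalarTower.algebraMap_apply k₀ K L]
        exact F.algebraMap_mem _
      rw [theta_single F hr]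
      have : (⟨algebraMap k₀ L r, hr⟩ : F) = algebraMap k₀ F r := rfl
      rw [this, Derivation.map_algebraMap, TensorProduct.tmul_zero]
  · exact ⟨∅, fun F _ => map_zero _⟩
  · rintro x y _ _ ⟨s, hs⟩ ⟨t, ht⟩
    refine ⟨s ∪ t, fun F hF => ?_⟩
    rw [Finset.coe_union] at hF
    rw [map_add, hs F (Set.subset_union_left.trans hF), ht F (Set.subset_union_right.trans hF),
      add_zero]
  · rintro a x _ ⟨s, hs⟩
    exact ⟨s, fun F hF => by rw [map_smul, hs F hF, smul_zero]⟩

end Theta

section Xi

variable {k₀ : Type u} {K : Type v} {L : Type w} [CommRing k₀] [Field K] [Field L]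
  [Algebra k₀ K] [Algebra k₀ L] [Algebra K L] [IsScalarTower k₀ K L]

/-- `Ξ : (K →₀ L) → L ⊗_K Ω_{K/k₀}`, `single a l ↦ l ⊗ da`. -/
noncomputable def xi (k₀ : Type u) (K : Type v) (L : Type w) [CommRing k₀] [Field K] [Field L]
    [Algebra k₀ K] [Algebra K L] : (K →₀ L) →ₗ[L] L ⊗[K] Ω[K⁄k₀] :=
  Finsupp.linearCombination L (fun a => (1 : L) ⊗ₜ D k₀ K a)

lemma xi_single (a : K) (l : L) : xi k₀ K L (Finsupp.single a l) = l ⊗ₜ D k₀ K a := by
  rw [xi, Finsupp.linearCombination_single, TensorProduct.smul_tmul', smul_eq_mul, mul_one]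

lemma xi_surjective : Function.Surjective (xi k₀ K L) := by
  intro z
  induction z using TensorProduct.induction_on with
  | zero => exact ⟨0, map_zero _⟩
  | add x y hx hy =>
    obtain ⟨a, rfl⟩ := hx
    obtain ⟨b, rfl⟩ := hy
    exact ⟨a + b, map_add _ _ _⟩
  | tmul c ω =>
    have hω : ω ∈ Submodule.span K (Set.range (D k₀ K)) := by
      rw [KaehlerDifferential.span_range_derivation]; trivial
    revert c
    refine Submodule.span_induction ?_ ?_ ?_ ?_ hω
    · rintro _ ⟨a, rfl⟩ c
      exact ⟨Finsupp.single a c, xi_single a c⟩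
    · intro c
      exact ⟨0, by rw [map_zero, TensorProduct.tmul_zero]⟩
    · intro x y _ _ hx hy c
      obtain ⟨a, ha⟩ := hx c
      obtain ⟨b, hb⟩ := hy c
      exact ⟨a + b, by rw [map_add, ha, hb, TensorProduct.tmul_add]⟩
    · intro r x _ hx c
      obtain ⟨a, ha⟩ := hx (r • c)
      exact ⟨a, by rw [ha, TensorProduct.tmul_smul, TensorProduct.smul_tmul']⟩

/-- `(K →₀ L) → (L →₀ L)` induced by `K → L` -/
noncomputable def iotaKL (K : Type v) (L : Type w) [Field K] [Field L] [Algebra K L] :
    (K →₀ L) →ₗ[L] (L →₀ L) :=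
  Finsupp.lmapDomain L L (algebraMap K L)

lemma iotaKL_single (a : K) (l : L) :
    iotaKL K L (Finsupp.single a l) = Finsupp.single (algebraMap K L a) l := by
  rw [iotaKL, Finsupp.lmapDomain_apply, Finsupp.mapDomain_single]

lemma linearCombination_iotaKL (v : K →₀ L) :
    Finsupp.linearCombination L (D k₀ L) (iotaKL K L v) =
      KaehlerDifferential.mapBaseChange k₀ K L (xi k₀ K L v) := by
  have : (Finsupp.linearCombination L (D k₀ L)) ∘ₗ iotaKL K L =
      (KaehlerDifferential.mapBaseChange k₀ K L) ∘ₗ xi k₀ K L := by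
    apply Finsupp.lhom_ext
    intro a l
    rw [LinearMap.comp_apply, LinearMap.comp_apply, iotaKL_single, xi_single,
      Finsupp.linearCombination_single, KaehlerDifferential.mapBaseChange_tmul,
      KaehlerDifferential.map_D]
  exact DFunLike.congr_fun this v

lemma theta_iotaKL (F : IntermediateField K L) (v : K →₀ L) :
    theta k₀ F (iotaKL K L v) = bcBeta k₀ K F L (xi k₀ K L v) := by
  have : (theta k₀ F) ∘ₗ iotaKL K L = (bcBeta k₀ K F L) ∘ₗ xi k₀ K L := by
    apply Finsupp.lhom_ext
    intro a l
    rw [LinearMap.comp_apply, LinearMap.comp_apply, iotaKL_single, xi_single,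
      theta_single F (F.algebraMap_mem a), bcBeta_tmul_D]
    rfl
  exact DFunLike.congr_fun this v

lemma bcBeta_injective_of_formallySmooth (F : IntermediateField K L)
    [Algebra.FormallySmooth K F] : Function.Injective (bcBeta k₀ K F L) := by
  obtain ⟨r, hr⟩ := exists_retraction_mapBaseChange k₀ K F
  have h2 : (r.baseChange L) ∘ₗ
      ((KaehlerDifferential.mapBaseChange k₀ K F).baseChange L) = LinearMap.id := by
    rw [← LinearMap.baseChange_comp, hr, LinearMap.baseChange_id]
  have hinj : Function.Injective ((KaehlerDifferential.mapBaseChange k₀ K F).baseChange L) := by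
    intro x y hxy
    have := congrArg (r.baseChange L) hxy
    rwa [← LinearMap.comp_apply, ← LinearMap.comp_apply, h2] at this
  rw [bcBeta]
  exact hinj.comp (LinearEquiv.injective _)

/-- If all finitely generated subextensions of `L/K` are formally smooth over `K`, then
`L ⊗_K Ω_{K/k₀} → Ω_{L/k₀}` is injective. -/
theorem injective_mapBaseChange_of_forall_fg
    (h : ∀ s : Finset L, Algebra.FormallySmooth K (IntermediateField.adjoin K (s : Set L))) :
    Function.Injective (KaehlerDifferential.mapBaseChange k₀ K L) := by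
  rw [injective_iff_map_eq_zero]
  intro z hz
  obtain ⟨v, rfl⟩ := xi_surjective z
  have hv : iotaKL K L v ∈ KaehlerDifferential.kerTotal k₀ L := by
    rw [← KaehlerDifferential.kerTotal_eq, LinearMap.mem_ker, linearCombination_iotaKL, hz]
  obtain ⟨s, hs⟩ := exists_finset_theta_eq_zero (K := K) _ hv
  haveI := h s
  have h0 := hs (IntermediateField.adjoin K (s : Set L)) (IntermediateField.subset_adjoin K _)
  rw [theta_iotaKL] at h0
  exact bcBeta_injective_of_formallySmooth _ (h0.trans (map_zero _).symm)

/-- Separable (geometrically reduced) field extensions have vanishing imperfection module. -/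
theorem injective_mapBaseChange_of_isGeometricallyReduced
    [Algebra.IsGeometricallyReduced K L] :
    Function.Injective (KaehlerDifferential.mapBaseChange k₀ K L) := by
  apply injective_mapBaseChange_of_forall_fg
  intro s
  haveI : Algebra.EssFiniteType K (IntermediateField.adjoin K (s : Set L)) :=
    IntermediateField.essFiniteType_iff.mpr (IntermediateField.fg_adjoin_finset s)
  haveI : Algebra.IsGeometricallyReduced K (IntermediateField.adjoin K (s : Set L)) :=
    Algebra.IsGeometricallyReduced.of_injective (IntermediateField.adjoin K (s : Set L)).val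
      (IntermediateField.adjoin K (s : Set L)).val.injective
  exact Groth.Agent.Lib.Helper12.SepGen.formallySmooth K _

/-- In characteristic zero the imperfection module always vanishes. -/
theorem injective_mapBaseChange_of_charZero [CharZero K] :
    Function.Injective (KaehlerDifferential.mapBaseChange k₀ K L) := by
  apply injective_mapBaseChange_of_forall_fg
  intro s
  haveI : Algebra.EssFiniteType K (IntermediateField.adjoin K (s : Set L)) :=
    IntermediateField.essFiniteType_iff.mpr (IntermediateField.fg_adjoin_finset s)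
  infer_instance

end Xi

section Admissible

variable {k : Type v} {k₀ K L : Type w}
  [Field k₀] [Field k] [Field K] [Field L] [Algebra k₀ k] [Algebra k₀ K] [Algebra k₀ L] [Algebra k K]
  [Algebra k L] [Algebra K L] [IsScalarTower k₀ k K] [IsScalarTower k₀ k L] [IsScalarTower k₀ K L]
  [IsScalarTower k K L]

lemma ker_bcPhi_le_range_bcBeta :
    LinearMap.ker (bcPhi k₀ k K L) ≤ LinearMap.range (bcBeta k₀ k K L) := by
  rw [ker_bcPhi_eq_span, Submodule.span_le]
  rintro _ ⟨y, rfl⟩
  exact ⟨(1 : L) ⊗ₜ D k₀ k y, bcBeta_tmul_D _ _⟩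

lemma D_eq_zero_of_mem_pPowerSubalgebra (p : ℕ) [CharP K p] {x : K}
    (hx : x ∈ EGA41.pPowerSubalgebra p k₀ K) : D k₀ K x = 0 := by
  rw [EGA41.pPowerSubalgebra] at hx
  induction hx using Algebra.adjoin_induction with
  | mem x hx =>
    obtain ⟨b, rfl⟩ := hx
    change D k₀ K (b ^ p) = 0
    rw [Derivation.leibniz_pow, ← Nat.cast_smul_eq_nsmul K, CharP.cast_eq_zero, zero_smul]
  | algebraMap r => exact Derivation.map_algebraMap _ r
  | add x y _ _ hx hy => rw [map_add, hx, hy, add_zero]
  | mul x y _ _ hx hy => rw [Derivation.leibniz, hx, hy, smul_zero, smul_zero, add_zero]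

/-- EGA 0_IV 21.6.? : admissibility in the three standard cases. -/
theorem delta_eq_zero (p : ℕ) [ExpChar K p]
    (h : Algebra.IsGeometricallyReduced k L ∨ Algebra.IsGeometricallyReduced K L ∨
      ∀ x : k, algebraMap k K x ∈ EGA41.pPowerSubalgebra p k₀ K)
    (z : L ⊗[K] Ω[K⁄k₀]) (hz : z ∈ EGA41.imperfection k₀ K L)
    (hz' : bcPhi k₀ k K L z = 0) : z = 0 := by
  have case2 : Function.Injective (KaehlerDifferential.mapBaseChange k₀ K L) → z = 0 := by
    intro hinj
    rw [EGA41.imperfection, LinearMap.mem_ker] at hz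
    exact hinj (hz.trans (map_zero _).symm)
  rcases h with h | h | h
  · obtain ⟨t, rfl⟩ := ker_bcPhi_le_range_bcBeta (LinearMap.mem_ker.2 hz')
    rw [EGA41.imperfection, LinearMap.mem_ker, mapBaseChange_bcBeta] at hz
    have ht : t = 0 :=
      injective_mapBaseChange_of_isGeometricallyReduced (k₀ := k₀) (K := k) (L := L)
        (hz.trans (map_zero _).symm)
    rw [ht, map_zero]
  · exact case2 injective_mapBaseChange_of_isGeometricallyReduced
  · cases ‹ExpChar K p› with
    | zero => exact case2 injective_mapBaseChange_of_charZero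
    | prime hp =>
      have hmem : z ∈ LinearMap.ker (bcPhi k₀ k K L) := LinearMap.mem_ker.2 hz'
      rw [ker_bcPhi_eq_span] at hmem
      have hspan : Submodule.span L (Set.range fun y : k =>
          (1 : L) ⊗ₜ[K] D k₀ K (algebraMap k K y)) = ⊥ := by
        rw [Submodule.span_eq_bot]
        rintro _ ⟨y, rfl⟩
        change (1 : L) ⊗ₜ[K] D k₀ K (algebraMap k K y) = 0
        rw [D_eq_zero_of_mem_pPowerSubalgebra p (h y), TensorProduct.tmul_zero]
      rw [hspan, Submodule.mem_bot] at hmem
      exact hmem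

end Admissible

end Groth.Agent.Lib.Helper7.ExalLib
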