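import Mathlib
import Groth.Prelude.Def_EGA41
import Groth.Agent.Lib.Helper7MacLane
import Groth.Agent.Lib.Helper7SepImperf

set_option autoImplicit false
set_option linter.style.haveILetI false
set_option linter.unusedSectionVars false
open TensorProduct KaehlerDifferential
universe u v w

namespace Groth.Agent.Lib.Helper7.PPow

/-- In characteristic zero every field extension is geometrically reduced. -/
theorem isGeometricallyReduced_of_charZero {k : Type u} {K : Type v} [Field k] [CharZero k]
    [Field K] [Algebra k K] : Algebra.IsGeometricallyReduced k K := by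
  rw [Algebra.isGeometricallyReduced_field_iff]
  let L := AlgebraicClosure k
  have h1 : IsReduced (K ⊗[k] L) := by
    apply IsReduced.tensorProduct_of_flat_of_forall_fg
    intro B hB
    obtain ⟨s, hs⟩ := hB
    let F : IntermediateField k L := IntermediateField.adjoin k (s : Set L)
    have hBF : B ≤ F.toSubalgebra := by
      rw [← hs]; exact IntermediateField.algebra_adjoin_le_adjoin k _
    haveI : Module.Finite k F :=
      IntermediateField.finiteDimensional_adjoin (fun x _ => Algebra.IsIntegral.isIntegral x)
    haveI : Algebra.IsSeparable k F := Algebra.IsAlgebraic.isSeparable_of_perfectField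
    haveI : Algebra.FormallyUnramified k F := Algebra.FormallyUnramified.of_isSeparable k F
    have h2 : IsReduced (K ⊗[k] F) := Algebra.FormallyUnramified.isReduced_of_field K (K ⊗[k] F)
    let f : B →ₐ[k] F := Subalgebra.inclusion hBF
    exact isReduced_of_injective (Algebra.TensorProduct.map (AlgHom.id K K) f)
      (Module.Flat.lTensor_preserves_injective_linearMap _ (Subalgebra.inclusion_injective hBF))
  exact isReduced_of_injective (Algebra.TensorProduct.comm k L K) (AlgEquiv.injective _)

/-- characteristic-free form of MacLane's criterion -/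
theorem isGeometricallyReduced_iff_injective_mapBaseChange {k : Type u} {K : Type v} [Field k]
    [Field K] [Algebra k K] :
    Algebra.IsGeometricallyReduced k K ↔
      Function.Injective (KaehlerDifferential.mapBaseChange ℤ k K) := by
  constructor
  · intro h
    exact Groth.Agent.Lib.Helper7.ExalLib.injective_mapBaseChange_of_isGeometricallyReduced
  · intro h
    obtain ⟨p, hp⟩ := CharP.exists k
    rcases CharP.char_is_prime_or_zero k p with hpp | rfl
    · haveI : Fact p.Prime := ⟨hpp⟩
      exact isGeometricallyReduced_of_injective_mapBaseChange p h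
    · haveI : CharZero k := CharP.charP_to_charZero k
      exact isGeometricallyReduced_of_charZero

section Ext

variable {k : Type u} {K : Type v} [Field k] [Field K] [Algebra k K]

/-- Injectivity of `K ⊗_k Ω_k → Ω_K` is equivalent to the extension property for derivations
`k → K`. -/
theorem injective_mapBaseChange_iff_forall_derivation_extends :
    Function.Injective (KaehlerDifferential.mapBaseChange ℤ k K) ↔
      ∀ D₀ : Derivation ℤ k K, ∃ D' : Derivation ℤ K K,
        ∀ a : k, D' (algebraMap k K a) = D₀ a := by
  constructor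
  · intro hinj D₀
    let ℓ : Ω[k⁄ℤ] →ₗ[k] K := D₀.liftKaehlerDifferential
    let ℓ' : K ⊗[k] Ω[k⁄ℤ] →ₗ[K] K := LinearMap.liftBaseChange K ℓ
    obtain ⟨r, hr⟩ := LinearMap.exists_leftInverse_of_injective
      (KaehlerDifferential.mapBaseChange ℤ k K) (LinearMap.ker_eq_bot.2 hinj)
    let g : Ω[K⁄ℤ] →ₗ[K] K := ℓ'.comp r
    refine ⟨g.compDer (D ℤ K), fun a => ?_⟩
    have h1 : D ℤ K (algebraMap k K a) =
        KaehlerDifferential.mapBaseChange ℤ k K ((1 : K) ⊗ₜ[k] D ℤ k a) := by
      simp [KaehlerDifferential.mapBaseChange_tmul]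
    have h2 : r (KaehlerDifferential.mapBaseChange ℤ k K ((1 : K) ⊗ₜ[k] D ℤ k a)) =
        (1 : K) ⊗ₜ[k] D ℤ k a := LinearMap.congr_fun hr _
    change ℓ' (r (D ℤ K (algebraMap k K a))) = _
    rw [h1, h2]
    simp [ℓ', ℓ]
  · intro H
    rw [injective_iff_map_eq_zero]
    intro z hz
    by_contra hne
    obtain ⟨lam, hlam⟩ : ∃ lam : Module.Dual K (K ⊗[k] Ω[k⁄ℤ]), lam z ≠ 0 := by
      by_contra hcon
      push Not at hcon
      exact hne ((Module.forall_dual_apply_eq_zero_iff K z).1 hcon)
    let m : Ω[k⁄ℤ] →ₗ[k] K :=
      (lam.restrictScalars k).comp (TensorProduct.mk k K (Ω[k⁄ℤ]) 1)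
    obtain ⟨D', hD'⟩ := H (m.compDer (D ℤ k))
    let g : Ω[K⁄ℤ] →ₗ[K] K := D'.liftKaehlerDifferential
    have hcomp : g.comp (KaehlerDifferential.mapBaseChange ℤ k K) = lam := by
      apply TensorProduct.AlgebraTensorModule.curry_injective
      apply LinearMap.ext_ring
      apply Derivation.liftKaehlerDifferential_unique
      ext a
      simp [g, KaehlerDifferential.mapBaseChange_tmul, hD', m]
    apply hlam
    rw [← hcomp, LinearMap.comp_apply, hz, map_zero]

end Ext

end Groth.Agent.Lib.Helper7.PPow
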