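import Groth.Agent.Lib.Helper19PBasisField
import Groth.Agent.Lib.Helper7SepDer

/-!
# Formally smooth field extensions are the separable ones (EGA 0_IV 19.6.1) (helper19)
-/

set_option autoImplicit false
set_option linter.style.haveILetI false
universe u

namespace Groth.Agent.Lib.Helper19.PBasis

open KaehlerDifferential

/-- any field of characteristic `p` is formally smooth over `𝔽_p` -/
theorem formallySmooth_zmod (p : ℕ) [Fact p.Prime] (K : Type u) [Field K] [Algebra (ZMod p) K] :
    Algebra.FormallySmooth (ZMod p) K := by
  haveI : CharP K p := charP_of_injective_algebraMap (algebraMap (ZMod p) K).injective p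
  letI : Algebra (ULift.{u} (ZMod p)) K := ULift.algebra' (ZMod p) K
  haveI : IsScalarTower (ZMod p) (ULift.{u} (ZMod p)) K :=
    IsScalarTower.of_algebraMap_eq fun _ => rfl
  haveI : Algebra.FormallySmooth (ULift.{u} (ZMod p)) K :=
    formallySmooth_field_of_perfectRing p (ULift.{u} (ZMod p)) K
  haveI : Algebra.FormallySmooth (ZMod p) (ULift.{u} (ZMod p)) :=
    Algebra.FormallySmooth.of_equiv (ULift.algEquiv (R := ZMod p) (A := ZMod p)).symm
  exact Algebra.FormallySmooth.comp (ZMod p) (ULift.{u} (ZMod p)) K

/-- a separable (geometrically reduced) field extension is formally smooth -/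
theorem formallySmooth_of_isGeometricallyReduced {k K : Type u} [Field k] [Field K] [Algebra k K]
    [Algebra.IsGeometricallyReduced k K] : Algebra.FormallySmooth k K := by
  obtain ⟨p, hp⟩ := CharP.exists k
  rcases CharP.char_is_prime_or_zero k p with hpp | rfl
  · haveI : Fact p.Prime := ⟨hpp⟩
    haveI : CharP K p := charP_of_injective_algebraMap (algebraMap k K).injective p
    letI : Algebra (ZMod p) k := ZMod.algebra k p
    letI : Algebra (ZMod p) K := ZMod.algebra K p
    haveI : IsScalarTower (ZMod p) k K := IsScalarTower.of_algebraMap_eq' (Subsingleton.elim _ _)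
    haveI := formallySmooth_zmod p K
    have hinj : Function.Injective (KaehlerDifferential.mapBaseChange (ZMod p) k K) :=
      Groth.Agent.Lib.Helper7.ExalLib.injective_mapBaseChange_of_isGeometricallyReduced
    have h1 := Algebra.H1Cotangent.exact_map_δ (ZMod p) k K
    have h2 := Algebra.H1Cotangent.exact_δ_mapBaseChange (ZMod p) k K
    refine ⟨inferInstance, ⟨fun a b => ?_⟩⟩
    have hδ : ∀ y : Algebra.H1Cotangent k K, Algebra.H1Cotangent.δ (ZMod p) k K y = 0 := by
      intro y
      apply hinj
      rw [map_zero]
      exact (h2 _).2 ⟨y, rfl⟩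
    have hz : ∀ y : Algebra.H1Cotangent k K, y = 0 := by
      intro y
      obtain ⟨w, rfl⟩ := (h1 y).1 (hδ y)
      rw [Subsingleton.elim w 0, map_zero]
    rw [hz a, hz b]
  · haveI : CharZero k := CharP.charP_to_charZero k
    obtain ⟨ι, x, hx⟩ := exists_isTranscendenceBasis' k K
    have halg := hx.isAlgebraic_field
    have : Algebra.IsSeparable (IntermediateField.adjoin k (Set.range x)) K := inferInstance
    exact Algebra.FormallySmooth.of_algebraicIndependent_of_isSeparable hx.1

/-- EGA 0_IV 19.6.1 -/
theorem formallySmooth_field_iff {k K : Type u} [Field k] [Field K] [Algebra k K] :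
    Algebra.FormallySmooth k K ↔ Algebra.IsGeometricallyReduced k K := by
  constructor
  · intro h
    rw [Groth.Agent.Lib.Helper7.PPow.isGeometricallyReduced_iff_injective_mapBaseChange]
    obtain ⟨r, hr⟩ := Groth.Agent.Lib.Helper7.ExalLib.exists_retraction_mapBaseChange ℤ k K
    intro a b hab
    have := congrArg r hab
    rwa [← LinearMap.comp_apply, ← LinearMap.comp_apply, hr] at this
  · intro h
    exact formallySmooth_of_isGeometricallyReduced

end Groth.Agent.Lib.Helper19.PBasis
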