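import Mathlib
import Groth.Agent.Lib.Helper19FSField

set_option autoImplicit false

open TensorProduct

namespace Groth.Agent.Lib.Helper6.PInsep

universe u

section Local

variable (k K E : Type*) [Field k] [Field K] [Algebra k K] [Field E] [Algebra k E]

instance nontrivial_tensor : Nontrivial (E ⊗[k] K) :=
  (Algebra.TensorProduct.includeRight_injective (R := k) (A := E) (B := K)
    (algebraMap k E).injective).nontrivial

variable [IsPurelyInseparable k E]

theorem exists_pow_mem_range (q : ℕ) [ExpChar k q] (x : E ⊗[k] K) :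
    ∃ n : ℕ, x ^ q ^ n ∈ (Algebra.TensorProduct.includeRight : K →ₐ[k] E ⊗[k] K).range := by
  haveI : ExpChar (E ⊗[k] K) q :=
    expChar_of_injective_algebraMap (algebraMap k (E ⊗[k] K)).injective q
  induction x using TensorProduct.induction_on with
  | zero => exact ⟨0, 0, by simp⟩
  | tmul c y =>
    obtain ⟨n, a, ha⟩ := IsPurelyInseparable.pow_mem k q c
    refine ⟨n, a • y ^ q ^ n, ?_⟩
    rw [Algebra.TensorProduct.tmul_pow, ← ha]
    change (1 : E) ⊗ₜ[k] (a • y ^ q ^ n) = _
    rw [Algebra.algebraMap_eq_smul_one, TensorProduct.smul_tmul]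
  | add x y hx hy =>
    obtain ⟨n₁, h₁⟩ := hx
    obtain ⟨n₂, h₂⟩ := hy
    refine ⟨n₁ + n₂, ?_⟩
    rw [add_pow_expChar_pow]
    refine Subalgebra.add_mem _ ?_ ?_
    · rw [pow_add, pow_mul]
      exact Subalgebra.pow_mem _ h₁ _
    · rw [add_comm n₁ n₂, pow_add, pow_mul]
      exact Subalgebra.pow_mem _ h₂ _

theorem isNilpotent_or_isUnit (x : E ⊗[k] K) : IsNilpotent x ∨ IsUnit x := by
  obtain ⟨q, hq⟩ := ExpChar.exists k
  obtain ⟨n, y, hy⟩ := exists_pow_mem_range k K E q x
  by_cases h0 : y = 0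
  · left
    refine ⟨q ^ n, ?_⟩
    rw [← hy, h0, map_zero]
  · right
    have hqn : q ^ n ≠ 0 := pow_ne_zero _ (expChar_pos k q).ne'
    have hu : IsUnit (x ^ q ^ n) := by
      rw [← hy]
      exact (Ne.isUnit h0).map _
    exact (isUnit_pow_iff hqn).mp hu

theorem isMaximal_nilradical : (nilradical (E ⊗[k] K)).IsMaximal := by
  rw [Ideal.isMaximal_iff]
  refine ⟨fun h1 => ?_, fun J x _ hx hxJ => ?_⟩
  · rw [mem_nilradical] at h1
    exact not_isNilpotent_one h1
  · rw [mem_nilradical] at hx
    have hu := (isNilpotent_or_isUnit k K E x).resolve_left hx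
    rw [← Ideal.eq_top_iff_one]
    exact Ideal.eq_top_of_isUnit_mem _ hxJ hu

end Local


section Quot

variable (k K E Ω : Type*) [Field k] [Field K] [Algebra k K] [Field E] [Algebra k E]
  [Field Ω] [Algebra k Ω] [Algebra E Ω] [IsScalarTower k E Ω]

/-- the comparison map `E ⊗ K → Ω ⊗ K` -/
noncomputable def j : E ⊗[k] K →ₐ[k] Ω ⊗[k] K :=
  Algebra.TensorProduct.map (IsScalarTower.toAlgHom k E Ω) (AlgHom.id k K)

@[simp] theorem j_tmul (c : E) (y : K) : j k K E Ω (c ⊗ₜ y) = algebraMap E Ω c ⊗ₜ y := rfl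

theorem j_injective : Function.Injective (j k K E Ω) := by
  have := Module.Flat.rTensor_preserves_injective_linearMap (M := K)
    (IsScalarTower.toAlgHom k E Ω).toLinearMap (algebraMap E Ω).injective
  exact this

theorem cancel_includeRight (x : E ⊗[k] K) :
    Algebra.TensorProduct.cancelBaseChange k E Ω Ω K
      ((Algebra.TensorProduct.includeRight : E ⊗[k] K →ₐ[E] Ω ⊗[E] (E ⊗[k] K)) x) =
      j k K E Ω x := by
  induction x using TensorProduct.induction_on with
  | zero => simp
  | tmul c y => simp [Algebra.smul_def]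
  | add x y hx hy => simp only [map_add, hx, hy]

theorem map_j_eq (I : Ideal (E ⊗[k] K)) :
    I.map (j k K E Ω) = Ideal.map
      ((Algebra.TensorProduct.cancelBaseChange k E Ω Ω K).toRingEquiv : _ →+* _)
      (I.map (Algebra.TensorProduct.includeRight : E ⊗[k] K →ₐ[E] Ω ⊗[E] (E ⊗[k] K))) := by
  apply le_antisymm
  · rw [Ideal.map_le_iff_le_comap]
    intro x hx
    rw [Ideal.mem_comap, ← cancel_includeRight]
    exact Ideal.mem_map_of_mem _ (Ideal.mem_map_of_mem _ hx)
  · rw [Ideal.map_le_iff_le_comap, Ideal.map_le_iff_le_comap]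
    intro x hx
    rw [Ideal.mem_comap, Ideal.mem_comap]
    have := cancel_includeRight k K E Ω x
    change (Algebra.TensorProduct.cancelBaseChange k E Ω Ω K)
      ((Algebra.TensorProduct.includeRight : E ⊗[k] K →ₐ[E] Ω ⊗[E] (E ⊗[k] K)) x) ∈ _
    rw [this]
    exact Ideal.mem_map_of_mem _ hx

/-- `Ω ⊗_E ((E ⊗ K)/I) ≅ (Ω ⊗ K)/(I·(Ω ⊗ K))` -/
noncomputable def quotEquiv (I : Ideal (E ⊗[k] K)) :
    Ω ⊗[E] ((E ⊗[k] K) ⧸ I) ≃+* (Ω ⊗[k] K) ⧸ I.map (j k K E Ω) :=
  (Algebra.TensorProduct.tensorQuotientEquiv (R := E) Ω (E ⊗[k] K) Ω I).toRingEquiv.trans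
    (Ideal.quotientEquiv _ _ (Algebra.TensorProduct.cancelBaseChange k E Ω Ω K).toRingEquiv
      (map_j_eq k K E Ω I))

theorem isRadical_map_of_isReduced (I : Ideal (E ⊗[k] K))
    [IsReduced (Ω ⊗[E] ((E ⊗[k] K) ⧸ I))] : (I.map (j k K E Ω)).IsRadical := by
  rw [Ideal.isRadical_iff_quotient_reduced]
  exact isReduced_of_injective (quotEquiv k K E Ω I).symm (quotEquiv k K E Ω I).symm.injective

theorem isReduced_of_isRadical_map (I : Ideal (E ⊗[k] K))
    (h : (I.map (j k K E Ω)).IsRadical) : IsReduced (Ω ⊗[E] ((E ⊗[k] K) ⧸ I)) := by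
  rw [Ideal.isRadical_iff_quotient_reduced] at h
  exact isReduced_of_injective (quotEquiv k K E Ω I) (quotEquiv k K E Ω I).injective

theorem map_nilradical_le :
    (nilradical (E ⊗[k] K)).map (j k K E Ω) ≤ nilradical (Ω ⊗[k] K) := by
  rw [Ideal.map_le_iff_le_comap]
  intro x hx
  rw [Ideal.mem_comap, mem_nilradical]
  exact (mem_nilradical.mp hx).map _

theorem mem_nilradical_of_j (x : E ⊗[k] K) (h : IsNilpotent (j k K E Ω x)) :
    x ∈ nilradical (E ⊗[k] K) := by
  rw [mem_nilradical]
  obtain ⟨m, hm⟩ := h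
  refine ⟨m, j_injective k K E Ω ?_⟩
  rw [map_pow, hm, map_zero]

theorem isNilpotent_j (x : E ⊗[k] K) (h : IsNilpotent x) : IsNilpotent (j k K E Ω x) :=
  h.map _

end Quot


section Descent

variable (k K : Type u) [Field k] [Field K] [Algebra k K]

local notation "Ω" => AlgebraicClosure k

/-- comparison map for an intermediate field of the algebraic closure -/
noncomputable abbrev jE (E : IntermediateField k Ω) : E ⊗[k] K →ₐ[k] Ω ⊗[k] K := j k K E Ω

theorem range_jE_mono {E₁ E₂ : IntermediateField k Ω} (h : E₁ ≤ E₂) :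
    (jE k K E₁).range ≤ (jE k K E₂).range := by
  rintro _ ⟨x, rfl⟩
  refine ⟨Algebra.TensorProduct.map (IntermediateField.inclusion h) (AlgHom.id k K) x, ?_⟩
  induction x using TensorProduct.induction_on with
  | zero => simp
  | tmul c y => rfl
  | add x y hx hy => simp only [map_add, hx, hy]

theorem exists_finite_le (P : IntermediateField k Ω) (t : P ⊗[k] K) :
    ∃ E : IntermediateField k Ω, E ≤ P ∧ FiniteDimensional k E ∧
      jE k K P t ∈ (jE k K E).range := by
  induction t using TensorProduct.induction_on with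
  | zero => exact ⟨⊥, bot_le, inferInstance, 0, by simp⟩
  | tmul c y =>
    refine ⟨IntermediateField.adjoin k {(c : Ω)}, ?_, ?_, ?_⟩
    · rw [IntermediateField.adjoin_simple_le_iff]; exact c.2
    · exact IntermediateField.adjoin.finiteDimensional (Algebra.IsIntegral.isIntegral (c : Ω))
    · exact ⟨⟨(c : Ω), IntermediateField.mem_adjoin_simple_self k (c : Ω)⟩ ⊗ₜ y, rfl⟩
  | add x y hx hy =>
    obtain ⟨E₁, h₁, hf₁, hr₁⟩ := hx
    obtain ⟨E₂, h₂, hf₂, hr₂⟩ := hy
    refine ⟨E₁ ⊔ E₂, sup_le h₁ h₂, inferInstance, ?_⟩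
    rw [map_add]
    exact Subalgebra.add_mem _ (range_jE_mono k K le_sup_left hr₁)
      (range_jE_mono k K le_sup_right hr₂)

theorem exists_finite_le_finset (P : IntermediateField k Ω) (s : Finset (P ⊗[k] K)) :
    ∃ E : IntermediateField k Ω, E ≤ P ∧ FiniteDimensional k E ∧
      ∀ t ∈ s, jE k K P t ∈ (jE k K E).range := by
  classical
  induction s using Finset.induction_on with
  | empty => exact ⟨⊥, bot_le, inferInstance, fun t ht => absurd ht (Finset.notMem_empty t)⟩
  | insert a s ha ih =>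
    obtain ⟨E₁, h₁, hf₁, hr₁⟩ := ih
    obtain ⟨E₂, h₂, hf₂, hr₂⟩ := exists_finite_le k K P a
    refine ⟨E₁ ⊔ E₂, sup_le h₁ h₂, inferInstance, fun t ht => ?_⟩
    rcases Finset.mem_insert.mp ht with rfl | ht'
    · exact range_jE_mono k K le_sup_right hr₂
    · exact range_jE_mono k K le_sup_left (hr₁ t ht')


end Descent

section Perfect

variable (k K P Ω' : Type u) [Field k] [Field K] [Algebra k K] [Algebra.EssFiniteType k K]
  [Field P] [Algebra k P] [IsPurelyInseparable k P] [PerfectField P]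
  [Field Ω'] [Algebra k Ω'] [Algebra P Ω'] [IsScalarTower k P Ω'] [Algebra.IsAlgebraic P Ω']

theorem isRadical_map_nilradical_of_perfect :
    ((nilradical (P ⊗[k] K)).map (j k K P Ω')).IsRadical := by
  haveI hmaxP : (nilradical (P ⊗[k] K)).IsMaximal := isMaximal_nilradical k K P
  letI : Field ((P ⊗[k] K) ⧸ nilradical (P ⊗[k] K)) := Ideal.Quotient.field _
  haveI : Algebra.EssFiniteType P (P ⊗[k] K) := inferInstance
  haveI : Algebra.EssFiniteType P ((P ⊗[k] K) ⧸ nilradical (P ⊗[k] K)) := inferInstance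
  haveI : Algebra.FormallySmooth P ((P ⊗[k] K) ⧸ nilradical (P ⊗[k] K)) :=
    Algebra.FormallySmooth.of_perfectField
  haveI : Algebra.IsGeometricallyReduced P ((P ⊗[k] K) ⧸ nilradical (P ⊗[k] K)) :=
    Groth.Agent.Lib.Helper19.PBasis.formallySmooth_field_iff.mp inferInstance
  haveI : IsReduced (Ω' ⊗[P] ((P ⊗[k] K) ⧸ nilradical (P ⊗[k] K))) := inferInstance
  exact isRadical_map_of_isReduced k K P Ω' _

omit [IsPurelyInseparable k P] [PerfectField P] in
theorem nilradical_fg : (nilradical (P ⊗[k] K)).FG := by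
  haveI : Algebra.EssFiniteType P (P ⊗[k] K) := inferInstance
  haveI : IsNoetherianRing (P ⊗[k] K) := Algebra.EssFiniteType.isNoetherianRing P _
  exact (isNoetherianRing_iff_ideal_fg _).mp inferInstance (nilradical (P ⊗[k] K))

end Perfect

section Descent2

variable (k K : Type u) [Field k] [Field K] [Algebra k K]

local notation "Ω" => AlgebraicClosure k

set_option maxHeartbeats 1000000 in
/-- **EGA IV 4.6.6**: for a finitely generated field extension `K/k` there is a finite purely
inseparable extension `k'/k` such that the residue field of `k' ⊗ K` is separable over `k'`. -/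
theorem exists_separable [Algebra.EssFiniteType k K] :
    ∃ k' : IntermediateField k Ω, FiniteDimensional k k' ∧ IsPurelyInseparable k k' ∧
      ((nilradical (k' ⊗[k] K)).map (jE k K k')).IsRadical := by
  let P : IntermediateField k Ω := perfectClosure k Ω
  haveI : IsPurelyInseparable k P := inferInstance
  haveI : PerfectField P := inferInstance
  haveI : Algebra.IsAlgebraic P Ω := Algebra.IsAlgebraic.tower_top (K := k) P
  have hrad : ((nilradical (P ⊗[k] K)).map (jE k K P)).IsRadical :=
    isRadical_map_nilradical_of_perfect k K P Ω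
  obtain ⟨s, hs⟩ := nilradical_fg k K P
  obtain ⟨E, hEP, hfin, hE⟩ := exists_finite_le_finset k K P s
  haveI : IsPurelyInseparable k E := (le_perfectClosure_iff k Ω E).mp hEP
  refine ⟨E, hfin, inferInstance, ?_⟩
  have heq : (nilradical (E ⊗[k] K)).map (jE k K E) =
      (nilradical (P ⊗[k] K)).map (jE k K P) := by
    apply le_antisymm
    · have h1 : (nilradical (E ⊗[k] K)).map (jE k K E) ≤ nilradical (Ω ⊗[k] K) :=
        map_nilradical_le k K E Ω
      have h2 : nilradical (Ω ⊗[k] K) ≤ (nilradical (P ⊗[k] K)).map (jE k K P) := by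
        intro x hx
        obtain ⟨n, hn⟩ := mem_nilradical.mp hx
        exact hrad ⟨n, hn ▸ zero_mem _⟩
      exact h1.trans h2
    · rw [← hs, Ideal.map_span, Ideal.span_le]
      rintro _ ⟨n, hn, rfl⟩
      obtain ⟨n', hn'⟩ := hE n hn
      have hnil : IsNilpotent n := by
        have : n ∈ nilradical (P ⊗[k] K) := hs ▸ Ideal.subset_span hn
        exact mem_nilradical.mp this
      have hnil2 : IsNilpotent (j k K P Ω n) := isNilpotent_j k K P Ω n hnil
      have hn'' : j k K E Ω n' = j k K P Ω n := hn'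
      have hn'nil : n' ∈ nilradical (E ⊗[k] K) := by
        apply mem_nilradical_of_j k K E Ω
        rw [hn'']
        exact hnil2
      have := Ideal.mem_map_of_mem (jE k K E) hn'nil
      rw [show (jE k K E) n' = j k K P Ω n from hn''] at this
      exact this
  rw [heq]
  exact hrad

end Descent2

section Wrapper

theorem isGeometricallyReduced_of_isReduced_tensor (k' R Ω' : Type*) [Field k'] [CommRing R]
    [Algebra k' R] [Field Ω'] [Algebra k' Ω'] [IsAlgClosed Ω'] (h : IsReduced (Ω' ⊗[k'] R)) :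
    Algebra.IsGeometricallyReduced k' R := by
  rw [Algebra.isGeometricallyReduced_field_iff]
  let f : AlgebraicClosure k' →ₐ[k'] Ω' := IsAlgClosed.lift
  exact isReduced_of_injective (Algebra.TensorProduct.map f (AlgHom.id k' R))
    (Module.Flat.rTensor_preserves_injective_linearMap _ f.toRingHom.injective)

variable (k K E Ω' : Type u) [Field k] [Field K] [Algebra k K] [Algebra.EssFiniteType k K]
  [Field E] [Algebra k E] [Module.Finite k E] [IsPurelyInseparable k E]
  [Field Ω'] [Algebra k Ω'] [Algebra E Ω'] [IsScalarTower k E Ω'] [IsAlgClosed Ω']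

theorem wrapper (hrad : ((nilradical (E ⊗[k] K)).map (j k K E Ω')).IsRadical) :
    ∃ (K' : Type u) (_ : Field K') (_ : Algebra k K') (_ : Algebra E K') (_ : Algebra K K'),
      IsScalarTower k E K' ∧ IsScalarTower k K K' ∧ Algebra.IsGeometricallyReduced E K' ∧
        Algebra.EssFiniteType k K' := by
  haveI hmax : (nilradical (E ⊗[k] K)).IsMaximal := isMaximal_nilradical k K E
  letI : Field ((E ⊗[k] K) ⧸ nilradical (E ⊗[k] K)) := Ideal.Quotient.field _
  letI algK : Algebra K ((E ⊗[k] K) ⧸ nilradical (E ⊗[k] K)) :=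
    ((Ideal.Quotient.mk _).comp
      (Algebra.TensorProduct.includeRight : K →ₐ[k] E ⊗[k] K).toRingHom).toAlgebra
  refine ⟨(E ⊗[k] K) ⧸ nilradical (E ⊗[k] K), inferInstance, inferInstance, inferInstance, algK,
    inferInstance, ?_, ?_, ?_⟩
  · refine IsScalarTower.of_algebraMap_eq fun x => ?_
    change Ideal.Quotient.mk _ (algebraMap k (E ⊗[k] K) x) =
      Ideal.Quotient.mk _ ((1 : E) ⊗ₜ[k] (algebraMap k K x))
    congr 1
    rw [Algebra.TensorProduct.algebraMap_apply, Algebra.algebraMap_eq_smul_one,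
      Algebra.algebraMap_eq_smul_one, TensorProduct.smul_tmul]
  · exact isGeometricallyReduced_of_isReduced_tensor E _ Ω'
      (isReduced_of_isRadical_map k K E Ω' _ hrad)
  · haveI : Algebra.EssFiniteType E (E ⊗[k] K) := inferInstance
    haveI : Algebra.EssFiniteType E ((E ⊗[k] K) ⧸ nilradical (E ⊗[k] K)) := inferInstance
    exact Algebra.EssFiniteType.comp k E _

end Wrapper

/-- Final form of **EGA IV 4.6.6**. -/
theorem exists_separable_ext (k K : Type u) [Field k] [Field K] [Algebra k K]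
    [Algebra.EssFiniteType k K] :
    ∃ (k' : Type u) (_ : Field k') (_ : Algebra k k') (K' : Type u) (_ : Field K')
      (_ : Algebra k K') (_ : Algebra k' K') (_ : Algebra K K'),
      Module.Finite k k' ∧ IsPurelyInseparable k k' ∧ IsScalarTower k k' K' ∧
        IsScalarTower k K K' ∧ Algebra.IsGeometricallyReduced k' K' ∧
        Algebra.EssFiniteType k K' := by
  obtain ⟨E, hfin, hpi, hrad⟩ := exists_separable k K
  obtain ⟨K', i1, i2, i3, i4, h1, h2, h3, h4⟩ := wrapper k K E (AlgebraicClosure k) hrad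
  exact ⟨E, inferInstance, inferInstance, K', i1, i2, i3, i4, hfin, hpi, h1, h2, h3, h4⟩

end Groth.Agent.Lib.Helper6.PInsep
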