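import Groth.Agent.Lib.Helper28FlatNormal
import Mathlib

set_option autoImplicit false
universe u


namespace Groth.Agent.Lib.Helper6.EtNormal

open Polynomial

/- The next three lemmas are copied from helper3 `Lib/Helper3HzNormal` (to avoid its heavy import chain). -/

/-- elementwise normality criterion -/
def NC (A : Type*) [CommRing A] : Prop :=
  ∀ (a b : A) (p : A[X]), p.Monic → b ≠ 0 → (p.scaleRoots b).eval a = 0 → b ∣ a

theorem isIntegrallyClosed_iff_nc (A : Type*) [CommRing A] [IsDomain A] :
    IsIntegrallyClosed A ↔ NC A := by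
  constructor
  · intro h a b p hp hb hab
    let Kf := FractionRing A
    have hinj : Function.Injective (algebraMap A Kf) := IsFractionRing.injective A Kf
    have hb' : algebraMap A Kf b ≠ 0 := fun h0 => hb (hinj (h0.trans (map_zero _).symm))
    have hx : IsIntegral A (algebraMap A Kf a / algebraMap A Kf b) := by
      refine ⟨p, hp, ?_⟩
      have h1 := scaleRoots_eval₂_mul (p := p) (algebraMap A Kf)
        (algebraMap A Kf a / algebraMap A Kf b) b
      rw [mul_div_cancel₀ _ hb'] at h1
      have h2 : eval₂ (algebraMap A Kf) (algebraMap A Kf a) (p.scaleRoots b) = 0 := by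
        rw [eval₂_at_apply, hab, map_zero]
      rw [h2] at h1
      exact (mul_eq_zero.mp h1.symm).resolve_left (pow_ne_zero _ hb')
    obtain ⟨y, hy⟩ := (isIntegrallyClosed_iff Kf).mp h hx
    refine ⟨y, ?_⟩
    apply hinj
    rw [map_mul, hy, mul_div_cancel₀ _ hb']
  · intro h
    rw [isIntegrallyClosed_iff (FractionRing A)]
    intro x hx
    obtain ⟨p, hp, hpx⟩ := hx
    have hinj : Function.Injective (algebraMap A (FractionRing A)) :=
      IsFractionRing.injective A (FractionRing A)
    obtain ⟨a, b, hb, rfl⟩ := IsFractionRing.div_surjective (A := A) x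
    have hb0 : b ≠ 0 := nonZeroDivisors.ne_zero hb
    have h1 := scaleRoots_eval₂_eq_zero_of_eval₂_div_eq_zero hinj hpx hb
    rw [eval₂_at_apply] at h1
    have h2 : (p.scaleRoots b).eval a = 0 := hinj (h1.trans (map_zero _).symm)
    obtain ⟨y, hy⟩ := h a b p hp hb0 h2
    refine ⟨y, ?_⟩
    have hb' : algebraMap A (FractionRing A) b ≠ 0 :=
      fun h0 => hb0 (hinj (h0.trans (map_zero _).symm))
    rw [hy, map_mul, mul_div_cancel_left₀ _ hb']

/-- normality descends along faithfully flat maps of domains -/
theorem normal_of_faithfullyFlat (A B : Type*) [CommRing A] [CommRing B] [Algebra A B]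
    [Module.FaithfullyFlat A B] (h : IsDomain B ∧ IsIntegrallyClosed B) :
    IsDomain A ∧ IsIntegrallyClosed A := by
  obtain ⟨hd, hic⟩ := h
  have hinj : Function.Injective (algebraMap A B) := FaithfulSMul.algebraMap_injective A B
  haveI : IsDomain A := Function.Injective.isDomain (algebraMap A B) hinj
  refine ⟨inferInstance, (isIntegrallyClosed_iff_nc A).mpr ?_⟩
  intro a b p hp hb hab
  have hB := (isIntegrallyClosed_iff_nc B).mp hic
  have hb' : algebraMap A B b ≠ 0 := fun h0 => hb (hinj (h0.trans (map_zero _).symm))
  have h1 : ((p.map (algebraMap A B)).scaleRoots (algebraMap A B b)).eval (algebraMap A B a)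
      = 0 := by
    rw [← map_scaleRoots p b (algebraMap A B) (by rw [hp.leadingCoeff, map_one]; exact one_ne_zero),
      eval_map, eval₂_at_apply, hab, map_zero]
  obtain ⟨y, hy⟩ := hB _ _ _ (hp.map _) hb' h1
  have hmem : algebraMap A B a ∈ (Ideal.span {b}).map (algebraMap A B) := by
    rw [Ideal.map_span, Set.image_singleton, Ideal.mem_span_singleton]
    exact ⟨y, hy⟩
  have h2 : a ∈ ((Ideal.span {b}).map (algebraMap A B)).comap (algebraMap A B) := hmem
  rw [Ideal.comap_map_eq_self_of_faithfullyFlat, Ideal.mem_span_singleton] at h2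
  exact h2


theorem normal_of_ringEquiv {A B : Type*} [CommRing A] [CommRing B] (e : A ≃+* B)
    (h : IsDomain B ∧ IsIntegrallyClosed B) : IsDomain A ∧ IsIntegrallyClosed A := by
  obtain ⟨hd, hic⟩ := h
  haveI : IsDomain A := e.toMulEquiv.isDomain
  exact ⟨inferInstance, IsIntegrallyClosed.of_equiv e.symm⟩


theorem normal_fibLocRing {A B : Type u} [CommRing A] [CommRing B] [Algebra A B]
    [Algebra.FormallyUnramified A B] [Algebra.EssFiniteType A B] (q : Ideal B) [q.IsPrime] :
    IsDomain (EGA4.FibLocRing A B q) ∧ IsIntegrallyClosed (EGA4.FibLocRing A B q) := by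
  haveI : q.LiesOver (q.comap (algebraMap A B)) := ⟨rfl⟩
  letI := Localization.AtPrime.algebraOfLiesOver (q.comap (algebraMap A B)) q
  haveI : Algebra.FormallyUnramified A (Localization.AtPrime q) :=
    Algebra.FormallyUnramified.comp A B _
  haveI : Algebra.IsUnramifiedAt A q := ‹_›
  have h := ((Algebra.isUnramifiedAt_iff_map_eq A (q.comap (algebraMap A B)) q).mp inferInstance).2
  have hmax : ((q.comap (algebraMap A B)).map (algebraMap A (Localization.AtPrime q))).IsMaximal :=
    h ▸ IsLocalRing.maximalIdeal.isMaximal _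
  letI := Ideal.Quotient.field ((q.comap (algebraMap A B)).map (algebraMap A (Localization.AtPrime q)))
  exact ⟨inferInstance, inferInstance⟩

theorem normal_iff {A B : Type u} [CommRing A] [CommRing B] [IsLocalRing A] [IsLocalRing B]
    [IsNoetherianRing A] [IsNoetherianRing B] [Algebra A B] [IsLocalHom (algebraMap A B)]
    [Module.Flat A B] [Algebra.FormallyUnramified A B] [Algebra.EssFiniteType A B] :
    (IsDomain B ∧ IsIntegrallyClosed B) ↔ (IsDomain A ∧ IsIntegrallyClosed A) := by
  constructor
  · intro h
    haveI : Module.FaithfullyFlat A B := Module.FaithfullyFlat.of_flat_of_isLocalHom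
    exact normal_of_faithfullyFlat A B h
  · intro h
    have hunitsA : ∀ x ∈ ((IsLocalRing.maximalIdeal B).comap (algebraMap A B)).primeCompl,
        IsUnit x := by
      intro x hx
      have h1 : algebraMap A B x ∉ IsLocalRing.maximalIdeal B := hx
      rw [IsLocalRing.mem_maximalIdeal, mem_nonunits_iff, not_not] at h1
      exact isUnit_of_map_unit (algebraMap A B) x h1
    have hunitsB : ∀ x ∈ (IsLocalRing.maximalIdeal B).primeCompl, IsUnit x := by
      intro x hx
      have h1 : x ∉ IsLocalRing.maximalIdeal B := hx
      rwa [IsLocalRing.mem_maximalIdeal, mem_nonunits_iff, not_not] at h1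
    let eA := IsLocalization.atUnits A
      ((IsLocalRing.maximalIdeal B).comap (algebraMap A B)).primeCompl
      (S := Localization.AtPrime ((IsLocalRing.maximalIdeal B).comap (algebraMap A B))) hunitsA
    let eB := IsLocalization.atUnits B (IsLocalRing.maximalIdeal B).primeCompl
      (S := Localization.AtPrime (IsLocalRing.maximalIdeal B)) hunitsB
    obtain ⟨h1, h2⟩ := normal_of_ringEquiv eA.symm.toRingEquiv h
    have := Groth.Agent.Lib.Helper28.isDomain_and_isIntegrallyClosed_localization_of_flat_of_fibLocRing
      (A := A) (B := B) (fun q _ => normal_fibLocRing q) (IsLocalRing.maximalIdeal B)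
    exact normal_of_ringEquiv eB.toRingEquiv this

end Groth.Agent.Lib.Helper6.EtNormal
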