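import Mathlib
import Groth.Prelude.Def_EGA4b
import Groth.Agent.Lib.Helper6FSReg
import Groth.Agent.Lib.Helper6EtNormal
import Groth.Agent.Lib.Helper28GeomFibre
import Groth.Agent.Lib.Helper28RegDescent
import Groth.Agent.Lib.Helper19FSField

set_option autoImplicit false

open TensorProduct IsLocalRing

namespace Groth.Agent.Lib.Helper6.SepBC

universe u

/-- A Noetherian formally smooth algebra over a regular ring is regular. -/
theorem isRegularRing_of_formallySmooth (A B : Type u) [CommRing A] [CommRing B] [Algebra A B]
    [IsRegularRing A] [IsNoetherianRing B] [Algebra.FormallySmooth A B] : IsRegularRing B := by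
  haveI := Groth.Agent.Lib.Helper6.FSReg.flat_of_formallySmooth A B
  exact Groth.Agent.Lib.Helper28.isRegularRing_of_flat_of_forall_isRegularRing_fiber
    (A := A) (B := B) (fun p _ => by
      haveI : IsNoetherianRing (p.Fiber B) := Groth.Agent.Lib.Helper28.isNoetherianRing_fiber p
      exact Groth.Agent.Lib.Helper6.FSReg.isRegularRing_of_formallySmooth p.ResidueField
        (p.Fiber B))

/-- A Noetherian formally smooth algebra over a Noetherian normal ring is normal. -/
theorem isNormalRing_of_formallySmooth (A B : Type u) [CommRing A] [CommRing B] [Algebra A B]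
    [IsNoetherianRing A] [IsNoetherianRing B] [Algebra.FormallySmooth A B]
    (hA : EGA4.IsNormalRing A) : EGA4.IsNormalRing B := by
  haveI := Groth.Agent.Lib.Helper6.FSReg.flat_of_formallySmooth A B
  exact Groth.Agent.Lib.Helper28.isNormalRing_of_flat_of_forall_isRegularRing_fiber
    (A := A) (B := B) hA (fun p _ => by
      haveI : IsNoetherianRing (p.Fiber B) := Groth.Agent.Lib.Helper28.isNoetherianRing_fiber p
      exact Groth.Agent.Lib.Helper6.FSReg.isRegularRing_of_formallySmooth p.ResidueField
        (p.Fiber B))

theorem main2615 (k K L : Type u) [Field k] [Field K] [Field L] [Algebra k K] [Algebra k L]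
    [Algebra.IsGeometricallyReduced k L] [IsNoetherianRing (K ⊗[k] L)] :
    IsRegularRing (K ⊗[k] L) := by
  haveI : Algebra.FormallySmooth k L :=
    Groth.Agent.Lib.Helper19.PBasis.formallySmooth_of_isGeometricallyReduced
  haveI : Algebra.FormallySmooth K (K ⊗[k] L) := inferInstance
  exact Groth.Agent.Lib.Helper6.FSReg.isRegularRing_of_formallySmooth K (K ⊗[k] L)


/-- a local ring which is a regular ring is a regular local ring -/
theorem isRegularLocalRing_of_isRegularRing (R : Type u) [CommRing R] [IsLocalRing R]
    [IsRegularRing R] : IsRegularLocalRing R := by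
  have hunits : ∀ x ∈ (maximalIdeal R).primeCompl, IsUnit x := by
    intro x hx
    have h1 : x ∉ maximalIdeal R := hx
    rwa [mem_maximalIdeal, mem_nonunits_iff, not_not] at h1
  let e := IsLocalization.atUnits R (maximalIdeal R).primeCompl
    (S := Localization.AtPrime (maximalIdeal R)) hunits
  haveI : IsRegularLocalRing (Localization.AtPrime (maximalIdeal R)) :=
    IsRegularRing.isRegularLocalRing_localization _
  exact IsRegularLocalRing.of_ringEquiv e.symm.toRingEquiv

/-- a local ring which is a normal ring is a normal domain -/
theorem normal_of_isNormalRing (R : Type u) [CommRing R] [IsLocalRing R]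
    (h : EGA4.IsNormalRing R) : IsDomain R ∧ IsIntegrallyClosed R := by
  have hunits : ∀ x ∈ (maximalIdeal R).primeCompl, IsUnit x := by
    intro x hx
    have h1 : x ∉ maximalIdeal R := hx
    rwa [mem_maximalIdeal, mem_nonunits_iff, not_not] at h1
  let e := IsLocalization.atUnits R (maximalIdeal R).primeCompl
    (S := Localization.AtPrime (maximalIdeal R)) hunits
  exact Groth.Agent.Lib.Helper6.EtNormal.normal_of_ringEquiv e.toRingEquiv (h (maximalIdeal R))

/-- an integrally closed domain is a normal ring -/
theorem isNormalRing_of_normal (R : Type u) [CommRing R] [IsDomain R] [IsIntegrallyClosed R] :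
    EGA4.IsNormalRing R := by
  intro P hP
  exact ⟨inferInstance, isIntegrallyClosed_of_isLocalization (Localization.AtPrime P) P.primeCompl
    P.primeCompl_le_nonZeroDivisors⟩

/-- a regular local ring is a regular ring -/
theorem isRegularRing_of_isRegularLocalRing (R : Type u) [CommRing R] [IsRegularLocalRing R] :
    IsRegularRing R :=
  isRegularRing_iff.mpr fun p _ =>
    Groth.Agent.Lib.Helper28.isRegularLocalRing_localization_of_isRegularLocalRing R p

section BC

variable (k S k' : Type u) [Field k] [CommRing S] [Algebra k S]
    [IsNoetherianRing S] [Field k'] [Algebra k k']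
    [IsNoetherianRing (S ⊗[k] k')] (q' : Ideal (S ⊗[k] k')) [q'.IsPrime]

/-- the local map `S_q → (S ⊗ k')_{q'}` is formally smooth if `k'/k` is separable -/
theorem formallySmooth_localization [Algebra.IsGeometricallyReduced k k'] :
    letI : q'.LiesOver (q'.comap (algebraMap S (S ⊗[k] k'))) := ⟨rfl⟩
    letI := Localization.AtPrime.algebraOfLiesOver (q'.comap (algebraMap S (S ⊗[k] k'))) q'
    Algebra.FormallySmooth (Localization.AtPrime (q'.comap (algebraMap S (S ⊗[k] k'))))
      (Localization.AtPrime q') := by
  letI : q'.LiesOver (q'.comap (algebraMap S (S ⊗[k] k'))) := ⟨rfl⟩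
  letI := Localization.AtPrime.algebraOfLiesOver (q'.comap (algebraMap S (S ⊗[k] k'))) q'
  haveI : Algebra.FormallySmooth k k' :=
    Groth.Agent.Lib.Helper19.PBasis.formallySmooth_of_isGeometricallyReduced
  haveI : Algebra.FormallySmooth S (S ⊗[k] k') := inferInstance
  haveI : Algebra.FormallySmooth (S ⊗[k] k') (Localization.AtPrime q') :=
    Algebra.FormallySmooth.of_isLocalization q'.primeCompl
  haveI : Algebra.FormallySmooth S (Localization.AtPrime q') :=
    Algebra.FormallySmooth.comp S (S ⊗[k] k') (Localization.AtPrime q')
  exact Algebra.FormallySmooth.localization_base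
    (q'.comap (algebraMap S (S ⊗[k] k'))).primeCompl

theorem main4733 :
    (IsRegularLocalRing (Localization.AtPrime q') →
        IsRegularLocalRing (Localization.AtPrime (q'.comap (algebraMap S (S ⊗[k] k'))))) ∧
      (Algebra.IsGeometricallyReduced k k' →
        IsRegularLocalRing (Localization.AtPrime (q'.comap (algebraMap S (S ⊗[k] k')))) →
          IsRegularLocalRing (Localization.AtPrime q')) := by
  refine ⟨fun h => ?_, fun hsep h => ?_⟩
  · haveI := h
    haveI : Module.Flat S (S ⊗[k] k') := inferInstance
    exact Groth.Agent.Lib.Helper28.isRegularLocalRing_localization_comap_of_flat (R := S) q'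
  · haveI := hsep
    haveI := h
    letI : q'.LiesOver (q'.comap (algebraMap S (S ⊗[k] k'))) := ⟨rfl⟩
    letI := Localization.AtPrime.algebraOfLiesOver (q'.comap (algebraMap S (S ⊗[k] k'))) q'
    haveI := formallySmooth_localization k S k' q'
    haveI : IsNoetherianRing (Localization.AtPrime q') :=
      IsLocalization.isNoetherianRing q'.primeCompl _ inferInstance
    haveI : IsNoetherianRing (Localization.AtPrime (q'.comap (algebraMap S (S ⊗[k] k')))) :=
      IsLocalization.isNoetherianRing (q'.comap (algebraMap S (S ⊗[k] k'))).primeCompl _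
        inferInstance
    haveI : IsRegularRing (Localization.AtPrime (q'.comap (algebraMap S (S ⊗[k] k')))) :=
      isRegularRing_of_isRegularLocalRing _
    haveI : IsRegularRing (Localization.AtPrime q') :=
      isRegularRing_of_formallySmooth
        (Localization.AtPrime (q'.comap (algebraMap S (S ⊗[k] k')))) (Localization.AtPrime q')
    exact isRegularLocalRing_of_isRegularRing _

theorem main4748 :
    ((IsDomain (Localization.AtPrime q') ∧ IsIntegrallyClosed (Localization.AtPrime q')) →
        (IsDomain (Localization.AtPrime (q'.comap (algebraMap S (S ⊗[k] k')))) ∧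
          IsIntegrallyClosed (Localization.AtPrime (q'.comap (algebraMap S (S ⊗[k] k')))))) ∧
      (Algebra.IsGeometricallyReduced k k' →
        (IsDomain (Localization.AtPrime (q'.comap (algebraMap S (S ⊗[k] k')))) ∧
          IsIntegrallyClosed (Localization.AtPrime (q'.comap (algebraMap S (S ⊗[k] k'))))) →
          (IsDomain (Localization.AtPrime q') ∧ IsIntegrallyClosed (Localization.AtPrime q'))) := by
  letI : q'.LiesOver (q'.comap (algebraMap S (S ⊗[k] k'))) := ⟨rfl⟩
  letI := Localization.AtPrime.algebraOfLiesOver (q'.comap (algebraMap S (S ⊗[k] k'))) q'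
  haveI : IsNoetherianRing (Localization.AtPrime q') :=
    IsLocalization.isNoetherianRing q'.primeCompl _ inferInstance
  haveI : IsNoetherianRing (Localization.AtPrime (q'.comap (algebraMap S (S ⊗[k] k')))) :=
    IsLocalization.isNoetherianRing (q'.comap (algebraMap S (S ⊗[k] k'))).primeCompl _
      inferInstance
  refine ⟨fun h => ?_, fun hsep h => ?_⟩
  · haveI : Module.Flat S (S ⊗[k] k') := inferInstance
    haveI : IsLocalHom (algebraMap (Localization.AtPrime (q'.comap (algebraMap S (S ⊗[k] k'))))
        (Localization.AtPrime q')) := by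
      rw [RingHom.algebraMap_toAlgebra]
      exact Localization.isLocalHom_localRingHom _ q' (algebraMap S (S ⊗[k] k'))
        Ideal.LiesOver.over
    haveI : Module.Flat (Localization.AtPrime (q'.comap (algebraMap S (S ⊗[k] k'))))
        (Localization.AtPrime q') := inferInstance
    haveI : Module.FaithfullyFlat (Localization.AtPrime (q'.comap (algebraMap S (S ⊗[k] k'))))
        (Localization.AtPrime q') := Module.FaithfullyFlat.of_flat_of_isLocalHom
    exact Groth.Agent.Lib.Helper6.EtNormal.normal_of_faithfullyFlat _ _ h
  · haveI := hsep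
    haveI := formallySmooth_localization k S k' q'
    have hA : EGA4.IsNormalRing (Localization.AtPrime (q'.comap (algebraMap S (S ⊗[k] k')))) := by
      obtain ⟨hd, hic⟩ := h
      exact isNormalRing_of_normal _
    exact normal_of_isNormalRing _ (isNormalRing_of_formallySmooth
      (Localization.AtPrime (q'.comap (algebraMap S (S ⊗[k] k')))) (Localization.AtPrime q') hA)

end BC

end Groth.Agent.Lib.Helper6.SepBC
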