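import Mathlib
import Groth.Prelude.Def_EGA4b
import Groth.Agent.Lib.Helper6EtNormal

set_option autoImplicit false

open Polynomial

namespace Groth.Agent.Lib.Helper6.NormCrit

universe u

/-- elementwise criterion: all local rings are domains -/
def DomCrit (R : Type*) [CommRing R] : Prop :=
  ∀ x y : R, x * y = 0 → ∃ u v : R, u + v = 1 ∧ u * x = 0 ∧ v * y = 0

/-- elementwise criterion: integral closedness of the local rings -/
def ICCrit (R : Type*) [CommRing R] : Prop :=
  ∀ (a b : R) (g : R[X]), g.Monic → (g.scaleRoots b).eval a = 0 →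
    ∃ u v : R, u + v = 1 ∧ u * b = 0 ∧ b ∣ v * a

theorem domCrit_of_isNormalRing (R : Type u) [CommRing R] (h : EGA4.IsNormalRing R) :
    DomCrit R := by
  intro x y hxy
  have htop : (Ideal.span {x}).annihilator ⊔ (Ideal.span {y}).annihilator = ⊤ := by
    by_contra hne
    obtain ⟨P, hP, hle⟩ := Ideal.exists_le_maximal _ hne
    haveI := hP.isPrime
    obtain ⟨hd, -⟩ := h P
    have h0 : algebraMap R (Localization.AtPrime P) x * algebraMap R (Localization.AtPrime P) y
        = 0 := by rw [← map_mul, hxy, map_zero]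
    rcases mul_eq_zero.mp h0 with h1 | h1
    · obtain ⟨w, hw⟩ := (IsLocalization.map_eq_zero_iff P.primeCompl _ x).mp h1
      have hmem : (w : R) ∈ (Ideal.span {x}).annihilator := by
        rw [Ideal.span, Submodule.mem_annihilator_span_singleton]
        exact hw
      exact w.2 (hle (Ideal.mem_sup_left hmem))
    · obtain ⟨w, hw⟩ := (IsLocalization.map_eq_zero_iff P.primeCompl _ y).mp h1
      have hmem : (w : R) ∈ (Ideal.span {y}).annihilator := by
        rw [Ideal.span, Submodule.mem_annihilator_span_singleton]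
        exact hw
      exact w.2 (hle (Ideal.mem_sup_right hmem))
  obtain ⟨u, hu, v, hv, huv⟩ := Submodule.mem_sup.mp
    (show (1 : R) ∈ (Ideal.span {x}).annihilator ⊔ (Ideal.span {y}).annihilator by
      rw [htop]; trivial)
  rw [Ideal.span, Submodule.mem_annihilator_span_singleton] at hu hv
  exact ⟨u, v, huv, hu, hv⟩

theorem icCrit_of_isNormalRing (R : Type u) [CommRing R] (h : EGA4.IsNormalRing R) :
    ICCrit R := by
  intro a b g hg hab
  have htop : (Ideal.span {b}).annihilator ⊔ (Ideal.span {b}).colon {a} = ⊤ := by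
    by_contra hne
    obtain ⟨P, hP, hle⟩ := Ideal.exists_le_maximal _ hne
    haveI := hP.isPrime
    obtain ⟨hd, hic⟩ := h P
    have hNC := (Groth.Agent.Lib.Helper6.EtNormal.isIntegrallyClosed_iff_nc
      (Localization.AtPrime P)).mp hic
    set f := algebraMap R (Localization.AtPrime P) with hf
    by_cases hb0 : f b = 0
    · obtain ⟨w, hw⟩ := (IsLocalization.map_eq_zero_iff P.primeCompl _ b).mp hb0
      have hmem : (w : R) ∈ (Ideal.span {b}).annihilator := by
        rw [Ideal.span, Submodule.mem_annihilator_span_singleton]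
        exact hw
      exact w.2 (hle (Ideal.mem_sup_left hmem))
    · have h1 : ((g.map f).scaleRoots (f b)).eval (f a) = 0 := by
        rw [← map_scaleRoots g b f (by rw [hg.leadingCoeff, map_one]; exact one_ne_zero),
          eval_map, eval₂_at_apply, hab, map_zero]
      obtain ⟨c', hc'⟩ := hNC (f a) (f b) (g.map f) (hg.map f) hb0 h1
      obtain ⟨c, s, rfl⟩ := IsLocalization.exists_mk'_eq P.primeCompl c'
      have h2 : f (a * s) = f (b * c) := by
        rw [map_mul, map_mul, hc', mul_assoc, IsLocalization.mk'_spec]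
      obtain ⟨w, hw⟩ := (IsLocalization.eq_iff_exists P.primeCompl _).mp h2
      have hmem : ((w * s : P.primeCompl) : R) ∈ (Ideal.span {b}).colon {a} := by
        rw [Submodule.mem_colon_singleton, Ideal.mem_span_singleton]
        refine ⟨w * c, ?_⟩
        rw [Submonoid.coe_mul, smul_eq_mul]
        calc (w : R) * s * a = w * (a * s) := by ring
          _ = w * (b * c) := hw
          _ = b * (w * c) := by ring
      exact (w * s).2 (hle (Ideal.mem_sup_right hmem))
  obtain ⟨u, hu, v, hv, huv⟩ := Submodule.mem_sup.mp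
    (show (1 : R) ∈ (Ideal.span {b}).annihilator ⊔ (Ideal.span {b}).colon {a} by
      rw [htop]; trivial)
  rw [Ideal.span, Submodule.mem_annihilator_span_singleton] at hu
  rw [Submodule.mem_colon_singleton, Ideal.mem_span_singleton] at hv
  exact ⟨u, v, huv, hu, hv⟩


theorem isDomain_localization_of_domCrit (R : Type u) [CommRing R] (h1 : DomCrit R)
    (P : Ideal R) [hP : P.IsPrime] : IsDomain (Localization.AtPrime P) := by
  haveI : NoZeroDivisors (Localization.AtPrime P) := ⟨fun {x y} hxy => by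
    obtain ⟨a, s, rfl⟩ := IsLocalization.exists_mk'_eq P.primeCompl x
    obtain ⟨b, t, rfl⟩ := IsLocalization.exists_mk'_eq P.primeCompl y
    rw [← IsLocalization.mk'_mul, IsLocalization.mk'_eq_zero_iff] at hxy
    obtain ⟨w, hw⟩ := hxy
    obtain ⟨u, v, huv, hu, hv⟩ := h1 (w * a) b (by rw [mul_assoc]; exact hw)
    have hor : u ∉ P ∨ v ∉ P := by
      by_contra hcon
      push Not at hcon
      have h1P : (1 : R) ∈ P := huv ▸ P.add_mem hcon.1 hcon.2
      exact hP.ne_top ((Ideal.eq_top_iff_one _).mpr h1P)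
    rcases hor with hu' | hv'
    · left
      rw [IsLocalization.mk'_eq_zero_iff]
      refine ⟨⟨u, hu'⟩ * w, ?_⟩
      rw [Submonoid.coe_mul, mul_assoc]
      exact hu
    · right
      rw [IsLocalization.mk'_eq_zero_iff]
      exact ⟨⟨v, hv'⟩, hv⟩⟩
  exact NoZeroDivisors.to_isDomain _


set_option maxHeartbeats 1000000 in
theorem isIntegrallyClosed_localization_of_crit (R : Type u) [CommRing R] (h1 : DomCrit R)
    (h2 : ICCrit R) (P : Ideal R) [hP : P.IsPrime] :
    IsIntegrallyClosed (Localization.AtPrime P) := by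
  haveI hdom := isDomain_localization_of_domCrit R h1 P
  haveI : Nontrivial R :=
    ⟨⟨0, 1, fun h => hP.ne_top ((Ideal.eq_top_iff_one P).mpr (h ▸ P.zero_mem))⟩⟩
  rw [isIntegrallyClosed_iff (FractionRing (Localization.AtPrime P))]
  set L := Localization.AtPrime P with hL
  set K := FractionRing L with hK
  set f := algebraMap R L with hf
  set j := algebraMap L K with hj
  set ι := algebraMap R K with hι
  intro x hx
  have hιf : ∀ r, ι r = j (f r) := fun r => IsScalarTower.algebraMap_apply R L K r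
  have hjinj : Function.Injective j := IsFractionRing.injective L K
  have hunit : ∀ r : R, r ∉ P → ι r ≠ 0 := by
    intro r hr h0
    rw [hιf] at h0
    have h3 : f r = 0 := hjinj (h0.trans (map_zero j).symm)
    exact (IsLocalization.map_units L (⟨r, hr⟩ : P.primeCompl)).ne_zero h3
  -- a multiple of x is integral over R
  obtain ⟨m, g₀, hg₀, hroot₀⟩ :=
    IsIntegral.exists_multiple_integral_of_isLocalization P.primeCompl x hx
  set x' := m • x with hx'
  have hx'eq : x' = ι m * x := by rw [hx', Submonoid.smul_def, Algebra.smul_def]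
  set g := g₀ * X with hg
  have hgm : g.Monic := hg₀.mul monic_X
  have hroot : eval₂ ι x' g = 0 := by rw [hg, eval₂_mul, hroot₀, zero_mul]
  have hdeg : 1 ≤ g.natDegree := by
    rw [hg, natDegree_mul_X hg₀.ne_zero]
    exact Nat.le_add_left 1 _
  -- write x' as a fraction of elements of R
  haveI := IsLocalization.localization_localization_isLocalization P.primeCompl
    (nonZeroDivisors L) K
  obtain ⟨a₁, b₁, hab⟩ := IsLocalization.exists_mk'_eq
    (IsLocalization.localizationLocalizationSubmodule P.primeCompl (nonZeroDivisors L)) x'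
  have hspec : x' * ι b₁ = ι a₁ := by rw [← hab]; exact IsLocalization.mk'_spec K a₁ b₁
  have hb₁ : ι b₁ ≠ 0 :=
    (IsLocalization.map_units K b₁).ne_zero
  -- the relation in R up to an element outside P
  have hE : ι ((g.scaleRoots b₁).eval a₁) = 0 := by
    rw [← eval₂_at_apply, ← hspec, mul_comm, scaleRoots_eval₂_mul, hroot, mul_zero]
  have hE' : f ((g.scaleRoots b₁).eval a₁) = 0 := by
    rw [hιf] at hE
    exact hjinj (hE.trans (map_zero j).symm)
  obtain ⟨z, hz⟩ := (IsLocalization.map_eq_zero_iff P.primeCompl L _).mp hE'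
  have hrel : (g.scaleRoots (b₁ * z)).eval (z * a₁) = 0 := by
    have h3 := scaleRoots_eval₂_mul (p := g.scaleRoots (b₁ : R)) (RingHom.id R) a₁ (z : R)
    rw [eval₂_id, eval₂_id, RingHom.id_apply, natDegree_scaleRoots, ← scaleRoots_mul] at h3
    rw [h3]
    obtain ⟨n, hn⟩ := Nat.exists_eq_add_of_le hdeg
    rw [hn, add_comm, pow_succ, mul_assoc, hz, mul_zero]
  obtain ⟨u, v, huv, hu, c, hc⟩ := h2 (z * a₁) (b₁ * z) g hgm hrel
  have hz0 : ι z ≠ 0 := hunit z z.2
  have hv : v ∉ P := by
    intro hvP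
    have huP : u ∉ P := by
      intro huP
      have h1P : (1 : R) ∈ P := huv ▸ P.add_mem huP hvP
      exact hP.ne_top ((Ideal.eq_top_iff_one _).mpr h1P)
    have h4 : ι u * (ι b₁ * ι z) = 0 := by rw [← map_mul, ← map_mul, hu, map_zero]
    rcases mul_eq_zero.mp h4 with h5 | h5
    · exact hunit u huP h5
    · rcases mul_eq_zero.mp h5 with h6 | h6
      · exact hb₁ h6
      · exact hz0 h6
  have hv0 : ι v ≠ 0 := hunit v hv
  have hm0 : ι m ≠ 0 := hunit m m.2
  -- ι c = ι v * x'
  have hcx : ι c = ι v * x' := by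
    have h7 : ι (v * (z * a₁)) = ι (b₁ * z * c) := by rw [hc]
    simp only [map_mul] at h7
    rw [← hspec] at h7
    have h8 : (ι b₁ * ι z) * (ι v * x') = (ι b₁ * ι z) * ι c := by
      rw [← h7]; ring
    exact (mul_left_cancel₀ (mul_ne_zero hb₁ hz0) h8).symm
  refine ⟨IsLocalization.mk' L c (⟨v, hv⟩ * m : P.primeCompl), ?_⟩
  have h9 : j (IsLocalization.mk' L c (⟨v, hv⟩ * m : P.primeCompl)) * (ι v * ι m) =
      x * (ι v * ι m) := by
    rw [hιf v, hιf m, ← map_mul, ← map_mul, ← map_mul]
    have : IsLocalization.mk' L c (⟨v, hv⟩ * m : P.primeCompl) * f (v * m) = f c := by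
      have := IsLocalization.mk'_spec L c (⟨v, hv⟩ * m : P.primeCompl)
      simpa [Submonoid.coe_mul] using this
    rw [this, ← hιf, hcx, hx'eq, map_mul, hιf v, hιf m]
    simp only [map_mul]
    ring
  exact mul_right_cancel₀ (mul_ne_zero hv0 hm0) h9

theorem isNormalRing_iff_crit (R : Type u) [CommRing R] :
    EGA4.IsNormalRing R ↔ DomCrit R ∧ ICCrit R := by
  constructor
  · intro h
    exact ⟨domCrit_of_isNormalRing R h, icCrit_of_isNormalRing R h⟩
  · rintro ⟨h1, h2⟩ P hP
    exact ⟨isDomain_localization_of_domCrit R h1 P,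
      isIntegrallyClosed_localization_of_crit R h1 h2 P⟩


section Colimit

lemma map_scaleRoots_monic {R S : Type*} [CommRing R] [CommRing S] (f : R →+* S) (p : R[X])
    (hp : p.Monic) (x : R) : (p.scaleRoots x).map f = (p.map f).scaleRoots (f x) := by
  rcases subsingleton_or_nontrivial S with h | h
  · exact Subsingleton.elim _ _
  · exact map_scaleRoots p x f (by rw [hp.leadingCoeff, map_one]; exact one_ne_zero)

lemma eval_scaleRoots_map {R S : Type*} [CommRing R] [CommRing S] (f : R →+* S) (p : R[X])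
    (hp : p.Monic) (a b : R) :
    ((p.map f).scaleRoots (f b)).eval (f a) = f ((p.scaleRoots b).eval a) := by
  rw [← map_scaleRoots_monic f p hp b, eval_map, eval₂_at_apply]

variable {B : Type*} [CommRing B] {ι : Type*} [Nonempty ι] (R : ι → Type*) [∀ i, CommRing (R i)]
  (φ : ∀ i, R i →+* B)
  (hdir : ∀ i j, ∃ l, (φ i).range ≤ (φ l).range ∧ (φ j).range ≤ (φ l).range)
  (hcov : ∀ x : B, ∃ i, x ∈ (φ i).range)
  (hker : ∀ i (r : R i), φ i r = 0 → ∃ j, ∃ ψ : R i →+* R j, (∀ t, φ j (ψ t) = φ i t) ∧ ψ r = 0)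

include hdir hcov in
lemma exists_stage_finset (s : Finset B) : ∃ i, ∀ x ∈ s, x ∈ (φ i).range := by
  classical
  induction s using Finset.induction_on with
  | empty => exact ⟨Classical.arbitrary ι, fun x hx => absurd hx (Finset.notMem_empty x)⟩
  | insert a s ha ih =>
    obtain ⟨i, hi⟩ := ih
    obtain ⟨j, hj⟩ := hcov a
    obtain ⟨l, hl1, hl2⟩ := hdir i j
    refine ⟨l, fun x hx => ?_⟩
    rcases Finset.mem_insert.mp hx with rfl | hx'
    · exact hl2 hj
    · exact hl1 (hi x hx')

include hdir hcov hker in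
theorem domCrit_of_colimit (h : ∀ i, DomCrit (R i)) : DomCrit B := by
  classical
  intro x y hxy
  obtain ⟨i, hi⟩ := exists_stage_finset R φ hdir hcov {x, y}
  obtain ⟨xi, rfl⟩ := hi x (by simp)
  obtain ⟨yi, rfl⟩ := hi y (by simp)
  obtain ⟨j, ψ, hψ, h0⟩ := hker i (xi * yi) (by rw [map_mul]; exact hxy)
  rw [map_mul] at h0
  obtain ⟨u, v, huv, hu, hv⟩ := h j (ψ xi) (ψ yi) h0
  refine ⟨φ j u, φ j v, ?_, ?_, ?_⟩
  · rw [← map_add, huv, map_one]
  · rw [← hψ xi, ← map_mul, hu, map_zero]
  · rw [← hψ yi, ← map_mul, hv, map_zero]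

include hdir hcov hker in
theorem icCrit_of_colimit (h : ∀ i, ICCrit (R i)) : ICCrit B := by
  classical
  intro a b g hg hab
  obtain ⟨i, hi⟩ := exists_stage_finset R φ hdir hcov (insert a (insert b g.coeffs))
  obtain ⟨ai, rfl⟩ := hi a (by simp)
  obtain ⟨bi, rfl⟩ := hi b (by simp)
  have hlift : g ∈ Polynomial.lifts (φ i) := by
    rw [Polynomial.lifts_iff_coeff_lifts]
    intro n
    by_cases hn : g.coeff n = 0
    · rw [hn]; exact ⟨0, map_zero _⟩
    · exact hi _ (by
        simp only [Finset.mem_insert]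
        right; right
        exact Polynomial.coeff_mem_coeffs hn)
  obtain ⟨gi, hgi, -, hgim⟩ := Polynomial.lifts_and_natDegree_eq_and_monic hlift hg
  subst hgi
  rw [eval_scaleRoots_map (φ i) gi hgim] at hab
  obtain ⟨j, ψ, hψ, h0⟩ := hker i _ hab
  rw [← eval_scaleRoots_map ψ gi hgim] at h0
  obtain ⟨u, v, huv, hu, c, hc⟩ := h j (ψ ai) (ψ bi) (gi.map ψ) (hgim.map ψ) h0
  refine ⟨φ j u, φ j v, ?_, ?_, φ j c, ?_⟩
  · rw [← map_add, huv, map_one]
  · rw [← hψ bi, ← map_mul, hu, map_zero]
  · rw [← hψ bi, ← hψ ai, ← map_mul, ← map_mul, hc]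

end Colimit

/-- A ring which is a "directed colimit" of normal rings is a normal ring. -/
theorem isNormalRing_of_colimit {B : Type u} [CommRing B] {ι : Type*} [Nonempty ι]
    (R : ι → Type u) [∀ i, CommRing (R i)] (φ : ∀ i, R i →+* B)
    (hdir : ∀ i j, ∃ l, (φ i).range ≤ (φ l).range ∧ (φ j).range ≤ (φ l).range)
    (hcov : ∀ x : B, ∃ i, x ∈ (φ i).range)
    (hker : ∀ i (r : R i), φ i r = 0 →
      ∃ j, ∃ ψ : R i →+* R j, (∀ t, φ j (ψ t) = φ i t) ∧ ψ r = 0)
    (h : ∀ i, EGA4.IsNormalRing (R i)) : EGA4.IsNormalRing B := by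
  rw [isNormalRing_iff_crit]
  exact ⟨domCrit_of_colimit R φ hdir hcov hker fun i => ((isNormalRing_iff_crit _).mp (h i)).1,
    icCrit_of_colimit R φ hdir hcov hker fun i => ((isNormalRing_iff_crit _).mp (h i)).2⟩

/-- A ring which is a directed union of normal subrings (given by injective maps) is normal. -/
theorem isNormalRing_of_directed_union {B : Type u} [CommRing B] {ι : Type*} [Nonempty ι]
    (R : ι → Type u) [∀ i, CommRing (R i)] (φ : ∀ i, R i →+* B)
    (hinj : ∀ i, Function.Injective (φ i))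
    (hdir : ∀ i j, ∃ l, (φ i).range ≤ (φ l).range ∧ (φ j).range ≤ (φ l).range)
    (hcov : ∀ x : B, ∃ i, x ∈ (φ i).range)
    (h : ∀ i, EGA4.IsNormalRing (R i)) : EGA4.IsNormalRing B :=
  isNormalRing_of_colimit R φ hdir hcov (fun i r hr =>
    ⟨i, RingHom.id _, fun _ => rfl, hinj i (hr.trans (map_zero _).symm)⟩) h

theorem main6280 {ι : Type u} [Preorder ι] [Nonempty ι] [IsDirected ι (· ≤ ·)] (G : ι → Type u)
    [∀ i, CommRing (G i)] (f : ∀ i j, i ≤ j → G i →+* G j)
    [DirectedSystem G fun i j h => f i j h] (hG : ∀ i, EGA4.IsNormalRing (G i)) :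
    EGA4.IsNormalRing (Ring.DirectLimit G fun i j h => f i j h) := by
  refine isNormalRing_of_colimit G (fun i => Ring.DirectLimit.of G (fun i j h => f i j h) i)
    ?_ ?_ ?_ hG
  · intro i j
    obtain ⟨l, hil, hjl⟩ := exists_ge_ge i j
    refine ⟨l, ?_, ?_⟩
    · rintro _ ⟨x, rfl⟩
      exact ⟨f i l hil x, Ring.DirectLimit.of_f hil x⟩
    · rintro _ ⟨x, rfl⟩
      exact ⟨f j l hjl x, Ring.DirectLimit.of_f hjl x⟩
  · intro x
    obtain ⟨i, y, hy⟩ := Ring.DirectLimit.exists_of x
    exact ⟨i, y, hy⟩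
  · intro i r hr
    obtain ⟨j, hij, h0⟩ := Ring.DirectLimit.of.zero_exact hr
    exact ⟨j, f i j hij, fun t => Ring.DirectLimit.of_f hij t, h0⟩

end Groth.Agent.Lib.Helper6.NormCrit
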