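import Groth.Agent.Lib.Helper19GRMain
import Groth.Agent.Lib.Helper28RegLoc
import Groth.Agent.S2035

/-!
# Localizations of formally smooth local algebras over a field (EGA 0_IV 22.5.8 corollary)
(helper19)
-/

set_option autoImplicit false
set_option linter.style.haveILetI false
set_option linter.unusedSectionVars false
universe u

namespace Groth.Agent.Lib.Helper19.GR

open IsLocalRing TensorProduct

/-- a localization of a regular ring is regular -/
theorem isRegularRing_of_isLocalization {R S : Type u} [CommRing R] [CommRing S] [Algebra R S]
    (M : Submonoid R) [IsLocalization M S] [IsRegularRing R] : IsRegularRing S := by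
  haveI : IsNoetherianRing S := IsLocalization.isNoetherianRing M S inferInstance
  rw [isRegularRing_iff]
  intro q hq
  haveI : (q.comap (algebraMap R S)).IsPrime := Ideal.comap_isPrime _ _
  have : IsLocalization.AtPrime (Localization.AtPrime q) (q.comap (algebraMap R S)) :=
    IsLocalization.isLocalization_isLocalization_atPrime_isLocalization M
      (Localization.AtPrime q) q
  exact IsRegularLocalRing.of_ringEquiv (IsLocalization.algEquiv
    (q.comap (algebraMap R S)).primeCompl (Localization.AtPrime (q.comap (algebraMap R S)))
    (Localization.AtPrime q)).toRingEquiv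

/-- base change of a localization is a localization of the base change: regularity -/
theorem isRegularRing_tensor_localization {k A : Type u} [Field k] [CommRing A] [Algebra k A]
    (M : Submonoid A) (k' : Type u) [Field k'] [Algebra k k']
    (h : IsRegularRing (k' ⊗[k] A)) : IsRegularRing (k' ⊗[k] Localization M) := by
  haveI : IsRegularRing (A ⊗[k] k') :=
    IsRegularRing.of_ringEquiv (Algebra.TensorProduct.comm k k' A).toRingEquiv
  let φ : A ⊗[k] k' →ₐ[k] Localization M ⊗[k] k' :=
    Algebra.TensorProduct.map (IsScalarTower.toAlgHom k A (Localization M)) (AlgHom.id k k')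
  letI : Algebra (A ⊗[k] k') (Localization M ⊗[k] k') := φ.toRingHom.toAlgebra
  have hφ : ∀ t, algebraMap (A ⊗[k] k') (Localization M ⊗[k] k') t = φ t := fun t => rfl
  haveI : IsScalarTower A (A ⊗[k] k') (Localization M ⊗[k] k') :=
    IsScalarTower.of_algebraMap_eq (fun a => by
      rw [hφ, Algebra.TensorProduct.algebraMap_apply, Algebra.TensorProduct.algebraMap_apply]
      simp only [φ, Algebra.TensorProduct.map_tmul, map_one]
      rfl)
  haveI : IsLocalization (Algebra.algebraMapSubmonoid (A ⊗[k] k') M)
      (Localization M ⊗[k] k') :=
    IsLocalization.tensorProduct_tensorProduct k k' M (Localization M) (by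
      refine RingHom.ext fun s => ?_
      simp only [RingHom.comp_apply]
      change φ (1 ⊗ₜ s) = 1 ⊗ₜ s
      simp only [φ, Algebra.TensorProduct.map_tmul, map_one]
      rfl)
  haveI : IsRegularRing (Localization M ⊗[k] k') :=
    isRegularRing_of_isLocalization (Algebra.algebraMapSubmonoid (A ⊗[k] k') M)
  exact IsRegularRing.of_ringEquiv (Algebra.TensorProduct.comm k (Localization M) k').toRingEquiv

/-- EGA 0_IV 22.5.8 corollary (S4574): localizations of a formally smooth Noetherian local
algebra over a field are formally smooth -/
theorem isAdicFormallySmooth_localization_atPrime_field {k A : Type u} [Field k] [CommRing A]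
    [IsLocalRing A] [IsNoetherianRing A] [Algebra k A]
    (h : CAlgX.IsAdicFormallySmooth k A (maximalIdeal A)) (𝔭 : Ideal A) [𝔭.IsPrime] :
    CAlgX.IsAdicFormallySmooth k (Localization.AtPrime 𝔭)
      (maximalIdeal (Localization.AtPrime 𝔭)) := by
  obtain ⟨p, hp⟩ := CharP.exists k
  rcases CharP.char_is_prime_or_zero k p with hpp | rfl
  · haveI : Fact p.Prime := ⟨hpp⟩
    apply isAdicFormallySmooth_of_regular p
    intro k' _ _ hfin _
    haveI := hfin
    exact isRegularRing_tensor_localization 𝔭.primeCompl k'
      (Groth.Agent.Lib.Helper19.FSGeomReg.isRegularRing_tensor_of_isAdicFormallySmooth h k')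
  · haveI : CharZero k := CharP.charP_to_charZero k
    haveI : IsRegularLocalRing A := Groth.Agent.S2035.result.2 h
    exact Groth.Agent.S2035.result.1
      (Groth.Agent.Lib.Helper28.isRegularLocalRing_localization_of_isRegularLocalRing A 𝔭)

end Groth.Agent.Lib.Helper19.GR
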