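import Mathlib
import Groth.Agent.Lib.Helper28RegDescent
import Groth.Agent.Lib.Helper28RegEtale

/-!
# Regularity and unramified flat maps, without global Noetherian hypotheses (helper28)
-/

universe u
open CategoryTheory CategoryTheory.Limits IsLocalRing

namespace Groth.Agent.Lib.Helper28

section RegUnram

variable {A B : Type u} [CommRing A] [CommRing B] [Algebra A B]

/-- flat map, `B_Q` regular: then `A_{Q ∩ A}` is regular (no Noetherian hypotheses). -/
theorem isRegularLocalRing_localization_comap_of_flat' [Module.Flat A B]
    (Q : Ideal B) [Q.IsPrime] [IsRegularLocalRing (Localization.AtPrime Q)] :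
    IsRegularLocalRing (Localization.AtPrime (Q.comap (algebraMap A B))) := by
  obtain ⟨alg, hloc, hflat, -⟩ := exists_algebra_localization_flat (A := A) (B := B) Q
  have hff : Module.FaithfullyFlat (Localization.AtPrime (Q.comap (algebraMap A B)))
      (Localization.AtPrime Q) := Module.FaithfullyFlat.of_flat_of_isLocalHom
  have hN : IsNoetherianRing (Localization.AtPrime (Q.comap (algebraMap A B))) :=
    isNoetherianRing_of_faithfullyFlat (R := Localization.AtPrime (Q.comap (algebraMap A B)))
      (S := Localization.AtPrime Q)
  exact isRegularLocalRing_of_flat_of_isLocalHom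
    (Localization.AtPrime (Q.comap (algebraMap A B))) (Localization.AtPrime Q)

/-- flat, essentially of finite type, unramified at `Q`, `A_{Q ∩ A}` regular: then `B_Q` regular. -/
theorem isRegularLocalRing_localization_of_isUnramifiedAt' [Module.Flat A B]
    [Algebra.EssFiniteType A B] (Q : Ideal B) [hQ : Q.IsPrime] (hunr : Algebra.IsUnramifiedAt A Q)
    [hA : IsRegularLocalRing (Localization.AtPrime (Q.comap (algebraMap A B)))] :
    IsRegularLocalRing (Localization.AtPrime Q) := by
  set p : Ideal A := Q.comap (algebraMap A B) with hp
  have hlies : Q.LiesOver p := ⟨rfl⟩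
  let alg := Localization.AtPrime.algebraOfLiesOver p Q
  have hloc : IsLocalHom (algebraMap (Localization.AtPrime p) (Localization.AtPrime Q)) := by
    rw [RingHom.algebraMap_toAlgebra]
    exact Localization.isLocalHom_localRingHom p Q (algebraMap A B) Ideal.LiesOver.over
  have hflatB : Module.Flat B (Localization.AtPrime Q) := IsLocalization.flat _ Q.primeCompl
  have hflatA : Module.Flat A (Localization.AtPrime Q) := Module.Flat.trans A B _
  have hflat : Module.Flat (Localization.AtPrime p) (Localization.AtPrime Q) :=
    (Module.flat_iff_of_isLocalization (Localization.AtPrime p) p.primeCompl _).mpr hflatA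
  have hess : Algebra.EssFiniteType (Localization.AtPrime p) (Localization.AtPrime Q) :=
    .of_comp A _ _
  have hNQ : IsNoetherianRing (Localization.AtPrime Q) :=
    Algebra.EssFiniteType.isNoetherianRing (Localization.AtPrime p) (Localization.AtPrime Q)
  have h1 := ((Algebra.isUnramifiedAt_iff_map_eq A p Q).mp hunr).2
  have hmapeq : IsLocalRing.maximalIdeal (Localization.AtPrime Q) =
      (IsLocalRing.maximalIdeal (Localization.AtPrime p)).map
        (algebraMap (Localization.AtPrime p) (Localization.AtPrime Q)) := by
    rw [← h1, ← IsLocalization.AtPrime.map_eq_maximalIdeal p (Localization.AtPrime p), Ideal.map_map,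
      ← IsScalarTower.algebraMap_eq]
  have hF : IsRegularLocalRing (Localization.AtPrime Q ⧸ IsLocalRing.maximalIdeal (Localization.AtPrime Q)) :=
    isRegularLocalRing_quotient_of_eq_maximalIdeal _ rfl
  exact isRegularLocalRing_of_flat_of_isRegularLocalRing_fibre
    (R := Localization.AtPrime p) (S := Localization.AtPrime Q) _ hmapeq

end RegUnram

end Groth.Agent.Lib.Helper28
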