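import Groth.Agent.Lib.Helper28RegEtale
import Groth.Agent.Lib.Helper28RegUnram
import Mathlib

set_option autoImplicit false
universe u

namespace Groth.Agent.Lib.Helper6.SmReg

open Groth.Agent.Lib.Helper28

/-- Transport of regularity from `(M⁻¹S)_{qM⁻¹S}` to `S_q`. -/
theorem isRegularLocalRing_of_localization {S T : Type u} [CommRing S] [CommRing T] [Algebra S T]
    (M : Submonoid S) [IsLocalization M T] (q : Ideal S) [hq : q.IsPrime]
    (disj : Disjoint (M : Set S) (q : Set S))
    [hQ : (q.map (algebraMap S T)).IsPrime]
    (h : IsRegularLocalRing (Localization.AtPrime (q.map (algebraMap S T)))) :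
    IsRegularLocalRing (Localization.AtPrime q) := by
  have : IsLocalization.AtPrime (Localization.AtPrime (q.map (algebraMap S T))) q := by
    convert IsLocalization.isLocalization_isLocalization_atPrime_isLocalization M
      (Localization.AtPrime (q.map (algebraMap S T))) (q.map (algebraMap S T))
    exact (IsLocalization.under_map_of_isPrime_disjoint M _ ‹_› disj).symm
  exact IsRegularLocalRing.of_ringEquiv (IsLocalization.algEquiv q.primeCompl
    (Localization.AtPrime (q.map (algebraMap S T))) (Localization.AtPrime q)).toRingEquiv

/-- **Smooth over a regular ring implies regular.** -/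
theorem isRegularLocalRing_of_isSmoothAt {R S : Type u} [CommRing R] [CommRing S] [Algebra R S]
    [IsRegularRing R] [Algebra.FinitePresentation R S] (q : Ideal S) [q.IsPrime]
    [Algebra.IsSmoothAt R q] : IsRegularLocalRing (Localization.AtPrime q) := by
  obtain ⟨f, hfq, n, alg, htower, hse⟩ :=
    Algebra.IsSmoothAt.exists_isStandardEtale_mvPolynomial (R := R) (p := q)
  have disj : Disjoint (Submonoid.powers f : Set S) (q : Set S) :=
    (Ideal.disjoint_powers_iff_notMem_of_isPrime _).mpr hfq
  haveI : (q.map (algebraMap S (Localization.Away f))).IsPrime :=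
    IsLocalization.isPrime_of_isPrime_disjoint (.powers f) _ _ ‹_› disj
  haveI : Algebra.Etale (MvPolynomial (Fin n) R) (Localization.Away f) := inferInstance
  haveI : IsNoetherianRing (Localization.Away f) :=
    Algebra.FiniteType.isNoetherianRing (MvPolynomial (Fin n) R) _
  haveI : Module.Flat (MvPolynomial (Fin n) R) (Localization.Away f) := inferInstance
  have hunr : Algebra.IsUnramifiedAt (MvPolynomial (Fin n) R)
      (q.map (algebraMap S (Localization.Away f))) := inferInstance
  have h := isRegularLocalRing_localization_of_isUnramifiedAt (A := MvPolynomial (Fin n) R)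
    (B := Localization.Away f) (q.map (algebraMap S (Localization.Away f))) hunr
  exact isRegularLocalRing_of_localization (.powers f) q disj h

open TensorProduct

attribute [local instance] Algebra.TensorProduct.rightAlgebra in
/-- Smooth over a Noetherian ring whose local ring at `q ∩ R` is regular: `S_q` is regular. -/
theorem isRegularLocalRing_of_smooth_of_comap {R S : Type u} [CommRing R] [CommRing S] [Algebra R S]
    [Algebra.Smooth R S] (q : Ideal S) [q.IsPrime]
    [hreg : IsRegularLocalRing (Localization.AtPrime (q.comap (algebraMap R S)))] :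
    IsRegularLocalRing (Localization.AtPrime q) := by
  set p : Ideal R := q.comap (algebraMap R S) with hp
  haveI : IsRegularRing (Localization.AtPrime p) :=
    isRegularRing_iff.mpr (fun P hP => isRegularLocalRing_localization_of_isRegularLocalRing _ P)
  have disj : Disjoint (Algebra.algebraMapSubmonoid S p.primeCompl : Set S) (q : Set S) := by
    rw [Set.disjoint_left]
    rintro _ ⟨r, hr, rfl⟩ hrq
    exact hr hrq
  haveI : (q.map (algebraMap S (Localization.AtPrime p ⊗[R] S))).IsPrime :=
    IsLocalization.isPrime_of_isPrime_disjoint (Algebra.algebraMapSubmonoid S p.primeCompl)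
      _ _ ‹_› disj
  have h := isRegularLocalRing_of_isSmoothAt (R := Localization.AtPrime p)
    (S := Localization.AtPrime p ⊗[R] S) (q.map (algebraMap S (Localization.AtPrime p ⊗[R] S)))
  exact isRegularLocalRing_of_localization (Algebra.algebraMapSubmonoid S p.primeCompl) q disj h

/-- Regularity of local rings along a smooth map: both directions. -/
theorem isRegularLocalRing_iff_of_smooth {R S : Type u} [CommRing R] [CommRing S] [Algebra R S]
    [Algebra.Smooth R S] (q : Ideal S) [q.IsPrime] (p : Ideal R) [p.IsPrime]
    (hp : q.comap (algebraMap R S) = p) (Rp Sq : Type u) [CommRing Rp] [CommRing Sq]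
    [Algebra R Rp] [Algebra S Sq] [IsLocalization.AtPrime Rp p] [IsLocalization.AtPrime Sq q] :
    IsRegularLocalRing Sq ↔ IsRegularLocalRing Rp := by
  subst hp
  have e1 := (IsLocalization.algEquiv (q.comap (algebraMap R S)).primeCompl
    (Localization.AtPrime (q.comap (algebraMap R S))) Rp).toRingEquiv
  have e2 := (IsLocalization.algEquiv q.primeCompl (Localization.AtPrime q) Sq).toRingEquiv
  constructor
  · intro h
    haveI : IsRegularLocalRing (Localization.AtPrime q) := IsRegularLocalRing.of_ringEquiv e2.symm
    haveI := isRegularLocalRing_localization_comap_of_flat' (A := R) (B := S) q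
    exact IsRegularLocalRing.of_ringEquiv e1
  · intro h
    haveI : IsRegularLocalRing (Localization.AtPrime (q.comap (algebraMap R S))) :=
      IsRegularLocalRing.of_ringEquiv e1.symm
    haveI := isRegularLocalRing_of_smooth_of_comap (R := R) q
    exact IsRegularLocalRing.of_ringEquiv e2

end Groth.Agent.Lib.Helper6.SmReg
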