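import Mathlib
import Groth.Prelude.Def_EGA4b
import Groth.Agent.S9408
import Groth.Agent.Lib.Helper28Catenary
import Groth.Agent.Lib.Helper5RLR

set_option autoImplicit false
universe u
open CategoryTheory CategoryTheory.Limits AlgebraicGeometry TensorProduct

namespace Groth.Agent.Lib.Helper6.SmNormalHom

theorem isNormalRing_of_isRegularRing (R : Type u) [CommRing R] [IsRegularRing R] :
    EGA4.IsNormalRing R := by
  intro p hp
  haveI : IsRegularLocalRing (Localization.AtPrime p) := (isRegularRing_iff.mp ‹_›) p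
  exact ⟨Groth.Agent.Lib.Helper5.isDomain_of_isRegularLocalRing _,
    Groth.Agent.Lib.Helper28.isIntegrallyClosed_of_isRegularLocalRing _⟩

theorem isNormalHom_of_smooth (A B : Type u) [CommRing A] [CommRing B] [Algebra A B]
    [Algebra.Smooth A B] : EGA4.IsNormalHom A B := by
  refine ⟨inferInstance, fun p hp k' _ _ _ => ?_⟩
  haveI : Algebra.Smooth p.ResidueField (p.Fiber B) := inferInstance
  haveI : Algebra.Smooth k' (k' ⊗[p.ResidueField] (p.Fiber B)) := inferInstance
  haveI : IsRegularRing (k' ⊗[p.ResidueField] (p.Fiber B)) :=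
    Groth.Agent.S9408.isRegularRing_of_smooth k' _
  exact isNormalRing_of_isRegularRing _

theorem main {X Y : Scheme.{u}} (f : X ⟶ Y) [Smooth f] (U : X.Opens) (V : Y.Opens)
    (hU : IsAffineOpen U) (hV : IsAffineOpen V) (hUV : U ≤ f ⁻¹ᵁ V) :
    letI := (f.appLE V U hUV).hom.toAlgebra
    EGA4.IsNormalHom Γ(Y, V) Γ(X, U) := by
  have h := Smooth.smooth_appLE f hV hU hUV
  algebraize [(f.appLE V U hUV).hom]
  exact isNormalHom_of_smooth _ _

end Groth.Agent.Lib.Helper6.SmNormalHom
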