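import Mathlib
import Groth.Prelude.Def_EGA4b
import Groth.Agent.Lib.Helper6SmNormalHom
import Groth.Agent.Lib.Helper6EtNormal
import Groth.Agent.Lib.Helper6FSReg
import Groth.Agent.Lib.Helper19GRLoc

set_option autoImplicit false

open TensorProduct

namespace Groth.Agent.Lib.Helper6.SmNorm

universe u

/-- A nontrivial Noetherian ring whose local rings are domains and which has only trivial idempotents
is a domain. -/
theorem isDomain_of_isDomain_localization {T : Type*} [CommRing T] [IsNoetherianRing T]
    [Nontrivial T] (hloc : ∀ (P : Ideal T) [P.IsPrime], IsDomain (Localization.AtPrime P))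
    (hid : ∀ e : T, IsIdempotentElem e → e = 0 ∨ e = 1) : IsDomain T := by
  classical
  -- T is reduced
  haveI : IsReduced T := by
    refine ⟨fun x hx => ?_⟩
    refine Module.eq_zero_of_localization_maximal (fun P _ => Localization.AtPrime P)
      (fun P _ => Algebra.linearMap T (Localization.AtPrime P)) x (fun P hP => ?_)
    haveI := hloc P
    exact (hx.map (algebraMap T (Localization.AtPrime P))).eq_zero
  have hInf : sInf (minimalPrimes T) = (⊥ : Ideal T) := by
    have := Ideal.sInf_minimalPrimes (I := (⊥ : Ideal T))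
    rw [show (⊥ : Ideal T).radical = nilradical T from rfl, nilradical_eq_zero] at this
    exact this
  have hfin : (minimalPrimes T).Finite := minimalPrimes.finite_of_isNoetherianRing T
  -- distinct minimal primes are comaximal
  have hcomax : ∀ P₁ ∈ minimalPrimes T, ∀ P₂ ∈ minimalPrimes T, P₁ ≠ P₂ → P₁ ⊔ P₂ = ⊤ := by
    intro P₁ h₁ P₂ h₂ hne
    by_contra htop
    obtain ⟨m, hm, hle⟩ := Ideal.exists_le_maximal _ htop
    haveI := hm.isPrime
    haveI := hloc m
    haveI : P₁.IsPrime := h₁.1.1
    haveI : P₂.IsPrime := h₂.1.1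
    have hmap : ∀ P ∈ minimalPrimes T, P ≤ m →
        P.map (algebraMap T (Localization.AtPrime m)) = ⊥ := by
      intro P hP hPm
      haveI : P.IsPrime := hP.1.1
      have hdisj : Disjoint (m.primeCompl : Set T) (P : Set T) := by
        rw [Set.disjoint_left]
        intro x hx hxP
        exact hx (hPm hxP)
      haveI hprime : (P.map (algebraMap T (Localization.AtPrime m))).IsPrime :=
        IsLocalization.isPrime_of_isPrime_disjoint m.primeCompl _ P inferInstance hdisj
      by_contra hbot
      -- ⊥ is a prime strictly below; its comap is a prime below P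
      have hbotprime : (⊥ : Ideal (Localization.AtPrime m)).IsPrime := Ideal.isPrime_bot
      have hle' : (⊥ : Ideal (Localization.AtPrime m)).comap (algebraMap T _) ≤ P := by
        have h1 : (⊥ : Ideal (Localization.AtPrime m)) ≤
            P.map (algebraMap T (Localization.AtPrime m)) := bot_le
        have h2 := Ideal.comap_mono (f := algebraMap T (Localization.AtPrime m)) h1
        have h2' : (P.map (algebraMap T (Localization.AtPrime m))).comap
            (algebraMap T (Localization.AtPrime m)) = P :=
          IsLocalization.under_map_of_isPrime_disjoint m.primeCompl _ inferInstance hdisj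
        rwa [h2'] at h2
      have heq := hP.2 ⟨Ideal.comap_isPrime _ _, bot_le⟩ hle'
      apply hbot
      have h3 : P.map (algebraMap T (Localization.AtPrime m)) ≤
          ((⊥ : Ideal (Localization.AtPrime m)).comap (algebraMap T _)).map (algebraMap T _) :=
        Ideal.map_mono heq
      have h3' : ((⊥ : Ideal (Localization.AtPrime m)).comap (algebraMap T _)).map
          (algebraMap T (Localization.AtPrime m)) = ⊥ :=
        IsLocalization.map_under m.primeCompl _ _
      rw [h3'] at h3
      exact le_bot_iff.mp h3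
    have e₁ := hmap P₁ h₁ (le_trans le_sup_left hle)
    have e₂ := hmap P₂ h₂ (le_trans le_sup_right hle)
    have hd₁ : Disjoint (m.primeCompl : Set T) (P₁ : Set T) := by
      rw [Set.disjoint_left]
      intro x hx hxP
      exact hx ((le_trans le_sup_left hle) hxP)
    have hd₂ : Disjoint (m.primeCompl : Set T) (P₂ : Set T) := by
      rw [Set.disjoint_left]
      intro x hx hxP
      exact hx ((le_trans le_sup_right hle) hxP)
    apply hne
    have k₁ : (P₁.map (algebraMap T (Localization.AtPrime m))).comap
        (algebraMap T (Localization.AtPrime m)) = P₁ :=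
      IsLocalization.under_map_of_isPrime_disjoint m.primeCompl _ inferInstance hd₁
    have k₂ : (P₂.map (algebraMap T (Localization.AtPrime m))).comap
        (algebraMap T (Localization.AtPrime m)) = P₂ :=
      IsLocalization.under_map_of_isPrime_disjoint m.primeCompl _ inferInstance hd₂
    rw [← k₁, ← k₂, e₁, e₂]
  obtain ⟨P, hP⟩ : (minimalPrimes T).Nonempty := by
    obtain ⟨m, hm⟩ := Ideal.exists_maximal T
    haveI := hm.isPrime
    obtain ⟨p, hp, -⟩ := Ideal.exists_minimalPrimes_le (I := (⊥ : Ideal T)) (J := m) bot_le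
    exact ⟨p, hp⟩
  haveI hPprime : P.IsPrime := hP.1.1
  by_cases hS : minimalPrimes T = {P}
  · rw [hS, sInf_singleton] at hInf
    rw [hInf] at hPprime
    exact IsDomain.of_bot_isPrime T
  · exfalso
    obtain ⟨P₂, hP₂, hP₂ne⟩ : ∃ q ∈ minimalPrimes T, q ≠ P := by
      by_contra hcon
      push Not at hcon
      exact hS (Set.eq_singleton_iff_unique_mem.mpr ⟨hP, hcon⟩)
    let s : Finset (Ideal T) := hfin.toFinset.erase P
    have hs : ∀ q, q ∈ s ↔ q ∈ minimalPrimes T ∧ q ≠ P := by
      intro q
      simp only [s, Finset.mem_erase, Set.Finite.mem_toFinset]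
      tauto
    have hsup : P ⊔ ⨅ q ∈ s, (id q : Ideal T) = ⊤ :=
      Ideal.sup_iInf_eq_top fun q hq =>
        hcomax P hP q ((hs q).mp hq).1 (fun h => ((hs q).mp hq).2 h.symm)
    obtain ⟨e, he, f, hf, hef⟩ := Submodule.mem_sup.mp
      (show (1 : T) ∈ P ⊔ ⨅ q ∈ s, (id q : Ideal T) by rw [hsup]; trivial)
    have hfmem : ∀ q ∈ s, f ∈ q := by
      intro q hq
      have := (Submodule.mem_iInf _).mp hf q
      exact (Submodule.mem_iInf _).mp this hq
    have hzero : e * f = 0 := by
      have : e * f ∈ sInf (minimalPrimes T) := by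
        rw [Submodule.mem_sInf]
        intro q hq
        by_cases hqP : q = P
        · rw [hqP]; exact P.mul_mem_right _ he
        · exact Ideal.mul_mem_left (I := q) _ (hfmem q ((hs q).mpr ⟨hq, hqP⟩))
      rwa [hInf] at this
    have hidem : IsIdempotentElem e := by
      unfold IsIdempotentElem
      calc e * e = e * e + e * f := by rw [hzero, add_zero]
        _ = e * (e + f) := by ring
        _ = e := by rw [hef, mul_one]
    rcases hid e hidem with h0 | h1
    · rw [h0, zero_add] at hef
      have : (1 : T) ∈ P₂ := hef ▸ hfmem P₂ ((hs P₂).mpr ⟨hP₂, hP₂ne⟩)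
      exact hP₂.1.1.ne_top ((Ideal.eq_top_iff_one _).mpr this)
    · rw [h1] at he
      exact hPprime.ne_top ((Ideal.eq_top_iff_one _).mpr he)


lemma eq_zero_or_one_of_isIdempotentElem {T : Type*} [CommRing T] [IsLocalRing T] {e : T}
    (he : IsIdempotentElem e) : e = 0 ∨ e = 1 := by
  rcases IsLocalRing.isUnit_or_isUnit_one_sub_self e with h | h
  · right
    have h1 : e * e = e * 1 := by rw [he.eq, mul_one]
    exact h.mul_left_cancel h1
  · left
    have h1 : (1 - e) * e = (1 - e) * 0 := by rw [sub_mul, one_mul, he.eq, sub_self, mul_zero]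
    exact h.mul_left_cancel h1

section Main

variable (R : Type u) [CommRing R] [IsDomain R] [IsIntegrallyClosed R]
  (C : Type u) [CommRing C] [Algebra R C] [Algebra.Smooth R C] (Q : Ideal C) [Q.IsPrime]

local notation "Kf" => FractionRing R
local notation "Lq" => Localization.AtPrime Q

omit [IsDomain R] [IsIntegrallyClosed R] in
/-- integral closure commutes with the base change `R → C_Q`. -/
theorem toIntegralClosure_bijective :
    Function.Bijective (TensorProduct.toIntegralClosure R Lq Kf) := by
  have H : Function.Bijective (TensorProduct.toIntegralClosure R C Kf) :=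
    TensorProduct.toIntegralClosure_bijective_of_smooth
  have H' : Function.Bijective (TensorProduct.toIntegralClosure C Lq (C ⊗[R] Kf)) :=
    TensorProduct.toIntegralClosure_bijective_of_isLocalization Q.primeCompl
  exact TensorProduct.toIntegralClosure_bijective_of_tower H H'

omit [IsDomain R] in
/-- every element of `C_Q ⊗ K` integral over `C_Q` comes from `C_Q`. -/
theorem exists_tmul_one_eq (t : Lq ⊗[R] Kf) (ht : IsIntegral Lq t) :
    ∃ l : Lq, l ⊗ₜ[R] (1 : Kf) = t := by
  obtain ⟨w, hw⟩ := (toIntegralClosure_bijective R C Q).2 ⟨t, ht⟩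
  have key : ∀ w : Lq ⊗[R] integralClosure R Kf, ∃ l : Lq,
      l ⊗ₜ[R] (1 : Kf) = ((TensorProduct.toIntegralClosure R Lq Kf w :
        integralClosure Lq (Lq ⊗[R] Kf)) : Lq ⊗[R] Kf) := by
    intro w
    induction w using TensorProduct.induction_on with
    | zero => exact ⟨0, by simp⟩
    | tmul l k =>
      obtain ⟨k, hk⟩ := k
      have hk' : k ∈ (⊥ : Subalgebra R Kf) := by
        rw [← IsIntegrallyClosed.integralClosure_eq_bot (R := R) (K := Kf)]
        exact hk
      obtain ⟨r, rfl⟩ := Algebra.mem_bot.mp hk'
      refine ⟨r • l, ?_⟩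
      simp only [TensorProduct.toIntegralClosure, AlgHom.coe_codRestrict,
        Algebra.TensorProduct.map_tmul, AlgHom.coe_id, id_eq, Subalgebra.coe_val]
      rw [TensorProduct.smul_tmul, Algebra.smul_def, mul_one]
    | add x y hx hy =>
      obtain ⟨l1, h1⟩ := hx
      obtain ⟨l2, h2⟩ := hy
      refine ⟨l1 + l2, ?_⟩
      rw [TensorProduct.add_tmul, h1, h2, map_add]
      rfl
  obtain ⟨l, hl⟩ := key w
  exact ⟨l, by rw [hl, hw]⟩

omit [IsDomain R] [IsIntegrallyClosed R] in
theorem flat_Lq : Module.Flat R Lq := by
  haveI : Module.Flat C Lq := IsLocalization.flat Lq Q.primeCompl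
  exact Module.Flat.trans R C Lq

omit [IsIntegrallyClosed R] in
theorem includeLeft_injective :
    Function.Injective (fun l : Lq => l ⊗ₜ[R] (1 : Kf)) := by
  haveI := flat_Lq R C Q
  have := Algebra.TensorProduct.includeLeft_injective (R := R) (S := R) (A := Lq) (B := Kf)
    (IsFractionRing.injective R Kf)
  exact this

omit [IsIntegrallyClosed R] in
/-- `C_Q ⊗ K` is a regular ring. -/
theorem isRegularRing_tensor : IsRegularRing (Lq ⊗[R] Kf) := by
  haveI : Algebra.Smooth Kf (Kf ⊗[R] C) := inferInstance
  haveI : IsRegularRing (Kf ⊗[R] C) := Groth.Agent.S9408.isRegularRing_of_smooth Kf _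
  haveI : IsRegularRing (C ⊗[R] Kf) :=
    IsRegularRing.of_ringEquiv (Algebra.TensorProduct.comm R Kf C).toRingEquiv
  letI := (Algebra.TensorProduct.map (Algebra.ofId C Lq) (AlgHom.id R Kf)).toAlgebra
  haveI : IsLocalization (Algebra.algebraMapSubmonoid (C ⊗[R] Kf) Q.primeCompl) (Lq ⊗[R] Kf) := by
    refine IsLocalization.tensorProduct_tensorProduct _ _ Q.primeCompl _ ?_
    ext; simp [RingHom.algebraMap_toAlgebra]
  exact Groth.Agent.Lib.Helper19.GR.isRegularRing_of_isLocalization
    (Algebra.algebraMapSubmonoid (C ⊗[R] Kf) Q.primeCompl)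

end Main

section Main2

open Polynomial in
set_option maxHeartbeats 1000000 in
/-- **Local rings of smooth algebras over a normal domain are normal domains.** -/
theorem isDomain_and_isIntegrallyClosed_localization (R : Type u) [CommRing R] [IsDomain R]
    [IsIntegrallyClosed R] (C : Type u) [CommRing C] [Algebra R C] [Algebra.Smooth R C]
    (Q : Ideal C) [Q.IsPrime] :
    IsDomain (Localization.AtPrime Q) ∧ IsIntegrallyClosed (Localization.AtPrime Q) := by
  haveI := flat_Lq R C Q
  haveI hreg := isRegularRing_tensor R C Q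
  have hinj := includeLeft_injective R C Q
  have hinj' : Function.Injective (algebraMap (Localization.AtPrime Q)
      ((Localization.AtPrime Q) ⊗[R] (FractionRing R))) := hinj
  haveI : Nontrivial ((Localization.AtPrime Q) ⊗[R] (FractionRing R)) :=
    ⟨⟨(0 : (Localization.AtPrime Q)) ⊗ₜ[R] (1 : (FractionRing R)),
      (1 : (Localization.AtPrime Q)) ⊗ₜ[R] (1 : (FractionRing R)),
      fun h => zero_ne_one (hinj h)⟩⟩
  have hid : ∀ e : (Localization.AtPrime Q) ⊗[R] (FractionRing R),
      IsIdempotentElem e → e = 0 ∨ e = 1 := by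
    intro e he
    have hint : IsIntegral (Localization.AtPrime Q) e := by
      refine ⟨Polynomial.X ^ 2 - Polynomial.X, Polynomial.monic_X_pow_sub (by simp), ?_⟩
      simp [pow_two, he.eq]
    obtain ⟨l, rfl⟩ := exists_tmul_one_eq R C Q e hint
    have hl : IsIdempotentElem l := by
      apply hinj
      change (l * l) ⊗ₜ[R] (1 : (FractionRing R)) = l ⊗ₜ[R] (1 : (FractionRing R))
      have := he.eq
      rw [Algebra.TensorProduct.tmul_mul_tmul, mul_one] at this
      exact this
    rcases eq_zero_or_one_of_isIdempotentElem hl with h | h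
    · left; rw [h, TensorProduct.zero_tmul]
    · right; rw [h]; rfl
  have hnorm := Groth.Agent.Lib.Helper6.SmNormalHom.isNormalRing_of_isRegularRing
    ((Localization.AtPrime Q) ⊗[R] (FractionRing R))
  haveI : IsNoetherianRing ((Localization.AtPrime Q) ⊗[R] (FractionRing R)) := inferInstance
  haveI hTdom : IsDomain ((Localization.AtPrime Q) ⊗[R] (FractionRing R)) :=
    isDomain_of_isDomain_localization (fun P _ => (hnorm P).1) hid
  haveI hTic : IsIntegrallyClosed ((Localization.AtPrime Q) ⊗[R] (FractionRing R)) :=
    IsIntegrallyClosed.of_localization_maximal (fun P _ hP => (hnorm P).2)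
  have hdom : IsDomain (Localization.AtPrime Q) := Function.Injective.isDomain
    (algebraMap (Localization.AtPrime Q) ((Localization.AtPrime Q) ⊗[R] (FractionRing R))) hinj'
  refine ⟨hdom, (Groth.Agent.Lib.Helper6.EtNormal.isIntegrallyClosed_iff_nc _).mpr ?_⟩
  intro a b p hp hb hab
  have hT := (Groth.Agent.Lib.Helper6.EtNormal.isIntegrallyClosed_iff_nc
    ((Localization.AtPrime Q) ⊗[R] (FractionRing R))).mp hTic
  set f := algebraMap (Localization.AtPrime Q) ((Localization.AtPrime Q) ⊗[R] (FractionRing R))
    with hf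
  have hb' : f b ≠ 0 := fun h0 => hb (hinj' (h0.trans (map_zero _).symm))
  have h1 : ((p.map f).scaleRoots (f b)).eval (f a) = 0 := by
    rw [← map_scaleRoots p b f (by rw [hp.leadingCoeff, map_one]; exact one_ne_zero),
      eval_map, eval₂_at_apply, hab, map_zero]
  obtain ⟨t, ht⟩ := hT _ _ _ (hp.map _) hb' h1
  -- t is integral over Lq
  have hint : IsIntegral (Localization.AtPrime Q) t := by
    refine ⟨p, hp, ?_⟩
    have h2 := scaleRoots_eval₂_mul (p := p) f t b
    rw [← ht] at h2
    have h3 : eval₂ f (f a) (p.scaleRoots b) = 0 := by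
      rw [eval₂_at_apply, hab, map_zero]
    rw [h3] at h2
    exact (mul_eq_zero.mp h2.symm).resolve_left (pow_ne_zero _ hb')
  obtain ⟨l, hl⟩ := exists_tmul_one_eq R C Q t hint
  refine ⟨l, ?_⟩
  apply hinj'
  rw [map_mul, ht]
  congr 1
  exact hl.symm

end Main2

section Global

attribute [local instance] Algebra.TensorProduct.rightAlgebra in
/-- A smooth algebra over a normal ring is a normal ring. -/
theorem isNormalRing_of_smooth (A S : Type u) [CommRing A] [CommRing S] [Algebra A S]
    [Algebra.Smooth A S] (hA : EGA4.IsNormalRing A) : EGA4.IsNormalRing S := by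
  intro Q hQ
  let p := Q.comap (algebraMap A S)
  haveI hp : p.IsPrime := Ideal.comap_isPrime _ _
  obtain ⟨hd, hic⟩ := hA p
  let M := Algebra.algebraMapSubmonoid S p.primeCompl
  haveI : IsLocalization M (Localization.AtPrime p ⊗[A] S) :=
    IsLocalization.tensorRight (R := A) (S := S) (Localization.AtPrime p) p.primeCompl
  have hdisj : Disjoint (M : Set S) (Q : Set S) := by
    rw [Set.disjoint_left]
    rintro x ⟨a, ha, rfl⟩ hxQ
    exact ha hxQ
  let Q' := Q.map (algebraMap S (Localization.AtPrime p ⊗[A] S))
  haveI hQ' : Q'.IsPrime :=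
    IsLocalization.isPrime_of_isPrime_disjoint M _ Q hQ hdisj
  have hcomap : Q'.comap (algebraMap S (Localization.AtPrime p ⊗[A] S)) = Q :=
    IsLocalization.under_map_of_isPrime_disjoint M _ hQ hdisj
  have key := isDomain_and_isIntegrallyClosed_localization (Localization.AtPrime p)
    (Localization.AtPrime p ⊗[A] S) Q'
  haveI : IsLocalization.AtPrime (Localization.AtPrime Q')
      (Q'.comap (algebraMap S (Localization.AtPrime p ⊗[A] S))) :=
    IsLocalization.isLocalization_isLocalization_atPrime_isLocalization M
      (Localization.AtPrime Q') Q'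
  haveI : IsLocalization.AtPrime (Localization.AtPrime Q') Q := by
    convert this
    exact hcomap.symm
  exact Groth.Agent.Lib.Helper6.EtNormal.normal_of_ringEquiv
    (IsLocalization.algEquiv Q.primeCompl (Localization.AtPrime Q)
      (Localization.AtPrime Q')).toRingEquiv key

/-- Normality descends along faithfully flat ring maps. -/
theorem isNormalRing_of_faithfullyFlat (A B : Type u) [CommRing A] [CommRing B] [Algebra A B]
    [Module.FaithfullyFlat A B] (hB : EGA4.IsNormalRing B) : EGA4.IsNormalRing A := by
  intro p hp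
  obtain ⟨P, hP, hPp⟩ := Ideal.exists_isPrime_liesOver_of_faithfullyFlat (B := B) p
  letI := Localization.AtPrime.algebraOfLiesOver p P
  haveI : IsLocalHom (algebraMap (Localization.AtPrime p) (Localization.AtPrime P)) := by
    rw [RingHom.algebraMap_toAlgebra]
    exact Localization.isLocalHom_localRingHom p P (algebraMap A B) Ideal.LiesOver.over
  haveI : Module.Flat (Localization.AtPrime p) (Localization.AtPrime P) := inferInstance
  haveI : Module.FaithfullyFlat (Localization.AtPrime p) (Localization.AtPrime P) :=
    Module.FaithfullyFlat.of_flat_of_isLocalHom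
  exact Groth.Agent.Lib.Helper6.EtNormal.normal_of_faithfullyFlat _ _ (hB P)

theorem main1182 (A B : Type u) [CommRing A] [CommRing B] [Algebra A B] [Algebra.Smooth A B] :
    (EGA4.IsNormalRing A → EGA4.IsNormalRing B) ∧
    (Module.FaithfullyFlat A B → EGA4.IsNormalRing B → EGA4.IsNormalRing A) :=
  ⟨isNormalRing_of_smooth A B, fun _ h => isNormalRing_of_faithfullyFlat A B h⟩

end Global

end Groth.Agent.Lib.Helper6.SmNorm
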