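import Mathlib
import Groth.Prelude.Def_EGA4b
import Groth.Agent.Lib.Helper6NormCrit
import Groth.Agent.Lib.Helper6SmNorm
import Groth.Agent.S9431

set_option autoImplicit false

open TensorProduct

namespace Groth.Agent.Lib.Helper6.SepNorm

universe u

/-- `EGA4.IsNormalRing` is invariant under ring isomorphisms. -/
theorem isNormalRing_of_ringEquiv {R S : Type u} [CommRing R] [CommRing S] (e : R ≃+* S)
    (h : EGA4.IsNormalRing R) : EGA4.IsNormalRing S :=
  Groth.Agent.Lib.Helper6.NormCrit.isNormalRing_of_directed_union (ι := Unit) (fun _ => R)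
    (fun _ => e.toRingHom) (fun _ => e.injective)
    (fun _ _ => ⟨(), le_rfl, le_rfl⟩) (fun x => ⟨(), e.symm x, e.apply_symm_apply x⟩) (fun _ => h)

section Main

variable (k A k' : Type u) [Field k] [CommRing A] [Algebra k A] [Field k'] [Algebra k k']
  [Algebra.IsGeometricallyReduced k k']

/-- the index type: smooth subalgebras of `k'` -/
abbrev SmSub : Type u := {S : Subalgebra k k' // Algebra.Smooth k S}

/-- the comparison map `A ⊗ S → A ⊗ k'` -/
noncomputable def φ (S : SmSub k k') : A ⊗[k] S.1 →+* A ⊗[k] k' :=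
  (Algebra.TensorProduct.map (AlgHom.id k A) S.1.val).toRingHom

omit [Algebra.IsGeometricallyReduced k k'] in
theorem φ_injective (S : SmSub k k') : Function.Injective (φ k A k' S) := by
  have := Module.Flat.lTensor_preserves_injective_linearMap (M := A) S.1.val.toLinearMap
    Subtype.val_injective
  exact this

omit [Algebra.IsGeometricallyReduced k k'] in
theorem φ_range_mono {S₁ S₂ : SmSub k k'} (h : S₁.1 ≤ S₂.1) :
    (φ k A k' S₁).range ≤ (φ k A k' S₂).range := by
  rintro _ ⟨x, rfl⟩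
  refine ⟨Algebra.TensorProduct.map (AlgHom.id k A) (Subalgebra.inclusion h) x, ?_⟩
  simp only [φ, AlgHom.toRingHom_eq_coe, RingHom.coe_coe]
  rw [← AlgHom.comp_apply, ← Algebra.TensorProduct.map_comp]
  rfl

theorem exists_ge_ge (S₁ S₂ : SmSub k k') : ∃ S₃ : SmSub k k', S₁.1 ≤ S₃.1 ∧ S₂.1 ≤ S₃.1 := by
  classical
  haveI := S₁.2
  haveI := S₂.2
  haveI : Algebra.FiniteType k S₁.1 := inferInstance
  haveI : Algebra.FiniteType k S₂.1 := inferInstance
  obtain ⟨G₁, hG₁⟩ := (Subalgebra.fg_iff_finiteType S₁.1).mpr inferInstance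
  obtain ⟨G₂, hG₂⟩ := (Subalgebra.fg_iff_finiteType S₂.1).mpr inferInstance
  obtain ⟨S₃, hS₃, hsm⟩ := Groth.Agent.S9431.result k k' (G₁ ∪ G₂)
  refine ⟨⟨S₃, hsm⟩, ?_, ?_⟩
  · rw [← hG₁]
    refine Algebra.adjoin_le fun x hx => hS₃ ?_
    simp only [Finset.coe_union, Set.mem_union]
    exact Or.inl hx
  · rw [← hG₂]
    refine Algebra.adjoin_le fun x hx => hS₃ ?_
    simp only [Finset.coe_union, Set.mem_union]
    exact Or.inr hx

theorem exists_mem (c : k') : ∃ S : SmSub k k', c ∈ S.1 := by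
  obtain ⟨S, hS, hsm⟩ := Groth.Agent.S9431.result k k' {c}
  exact ⟨⟨S, hsm⟩, hS (by simp)⟩

theorem cover (x : A ⊗[k] k') : ∃ S : SmSub k k', x ∈ (φ k A k' S).range := by
  induction x using TensorProduct.induction_on with
  | zero =>
    obtain ⟨S, -⟩ := exists_mem k k' 0
    exact ⟨S, 0, map_zero _⟩
  | tmul a c =>
    obtain ⟨S, hS⟩ := exists_mem k k' c
    refine ⟨S, a ⊗ₜ[k] ⟨c, hS⟩, ?_⟩
    simp [φ]
  | add x y hx hy =>
    obtain ⟨S₁, h₁⟩ := hx
    obtain ⟨S₂, h₂⟩ := hy
    obtain ⟨S₃, h13, h23⟩ := exists_ge_ge k k' S₁ S₂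
    exact ⟨S₃, Subring.add_mem _ (φ_range_mono k A k' h13 h₁) (φ_range_mono k A k' h23 h₂)⟩

/-- **EGA IV 6.14.2 (field case)**: a normal ring stays normal after a separable base field
extension (no Noetherian hypotheses). -/
theorem isNormalRing_tensor_right (hA : EGA4.IsNormalRing A) : EGA4.IsNormalRing (A ⊗[k] k') := by
  haveI : Nonempty (SmSub k k') := ⟨(exists_mem k k' 0).choose⟩
  refine Groth.Agent.Lib.Helper6.NormCrit.isNormalRing_of_directed_union
    (fun S : SmSub k k' => A ⊗[k] S.1) (φ k A k') (φ_injective k A k') ?_ (cover k A k') ?_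
  · intro S₁ S₂
    obtain ⟨S₃, h13, h23⟩ := exists_ge_ge k k' S₁ S₂
    exact ⟨S₃, φ_range_mono k A k' h13, φ_range_mono k A k' h23⟩
  · intro S
    haveI := S.2
    haveI : Algebra.Smooth A (A ⊗[k] S.1) := inferInstance
    exact Groth.Agent.Lib.Helper6.SmNorm.isNormalRing_of_smooth A (A ⊗[k] S.1) hA

theorem main2690 (hA : EGA4.IsNormalRing A) : EGA4.IsNormalRing (k' ⊗[k] A) :=
  isNormalRing_of_ringEquiv (Algebra.TensorProduct.comm k A k').toRingEquiv
    (isNormalRing_tensor_right k A k' hA)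

end Main

end Groth.Agent.Lib.Helper6.SepNorm
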