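import Mathlib
import Groth.Prelude.Def_Found
import Groth.Prelude.Def_EGA4b
import Groth.Agent.Lib.Helper6PInsep
import Groth.Agent.Lib.Helper6SepNorm
import Groth.Agent.Lib.Helper6SepBC
import Groth.Agent.Lib.Helper6SmNorm
import Groth.Agent.Lib.Helper28RegDescent
import Groth.Agent.Lib.Helper19FSField

set_option autoImplicit false

open TensorProduct

namespace Groth.Agent.Lib.Helper6.GeomBC

universe u

section Chain

variable (k F₁ F₂ L S : Type u) [Field k] [Field F₁] [Field F₂] [Field L] [CommRing S]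
  [Algebra k S] [Algebra k F₁] [Algebra k F₂] [Algebra k L] [Algebra F₁ L] [Algebra F₂ L]
  [IsScalarTower k F₁ L] [IsScalarTower k F₂ L]

/-- `L ⊗_{F₁} (F₁ ⊗_k S) ≃ (F₂ ⊗_k S) ⊗_{F₂} L`. -/
noncomputable def chainEquiv : L ⊗[F₁] (F₁ ⊗[k] S) ≃+* (F₂ ⊗[k] S) ⊗[F₂] L :=
  ((Algebra.TensorProduct.cancelBaseChange k F₁ L L S).toRingEquiv.trans
    (Algebra.TensorProduct.cancelBaseChange k F₂ L L S).toRingEquiv.symm).trans
    (Algebra.TensorProduct.comm F₂ L (F₂ ⊗[k] S)).toRingEquiv

theorem normal_descent (h : EGA4.IsNormalRing (L ⊗[F₁] (F₁ ⊗[k] S))) :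
    EGA4.IsNormalRing (F₂ ⊗[k] S) := by
  have h2 : EGA4.IsNormalRing ((F₂ ⊗[k] S) ⊗[F₂] L) :=
    Groth.Agent.Lib.Helper6.SepNorm.isNormalRing_of_ringEquiv (chainEquiv k F₁ F₂ L S) h
  exact Groth.Agent.Lib.Helper6.SmNorm.isNormalRing_of_faithfullyFlat (F₂ ⊗[k] S)
    ((F₂ ⊗[k] S) ⊗[F₂] L) h2

theorem regular_descent (h : IsRegularRing (L ⊗[F₁] (F₁ ⊗[k] S))) :
    IsRegularRing (F₂ ⊗[k] S) := by
  haveI h2 : IsRegularRing ((F₂ ⊗[k] S) ⊗[F₂] L) :=
    IsRegularRing.of_ringEquiv (chainEquiv k F₁ F₂ L S)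
  exact Groth.Agent.Lib.Helper28.isRegularRing_of_faithfullyFlat (R := F₂ ⊗[k] S)
    (S := (F₂ ⊗[k] S) ⊗[F₂] L)

end Chain

section Core

variable (k S K : Type u) [Field k] [CommRing S] [Algebra k S] [Field K] [Algebra k K]
  [Algebra.EssFiniteType k K]

/-- (b) ⇒ (c) for normality (no Noetherian hypothesis). -/
theorem normal_of_purelyInseparable
    (h : ∀ (k' : Type u) [Field k'] [Algebra k k'], Module.Finite k k' → IsPurelyInseparable k k' →
      EGA4.IsNormalRing (k' ⊗[k] S)) : EGA4.IsNormalRing (K ⊗[k] S) := by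
  obtain ⟨k', _, _, K', _, _, _, _, hfin, hpi, ht1, ht2, hgr, hess⟩ :=
    Groth.Agent.Lib.Helper6.PInsep.exists_separable_ext k K
  have h1 : EGA4.IsNormalRing (k' ⊗[k] S) := h k' hfin hpi
  have h2 : EGA4.IsNormalRing (K' ⊗[k'] (k' ⊗[k] S)) :=
    Groth.Agent.Lib.Helper6.SepNorm.main2690 k' (k' ⊗[k] S) K' h1
  exact normal_descent k k' K K' S h2

/-- (b) ⇒ (c) for regularity. -/
theorem regular_of_purelyInseparable [IsNoetherianRing S]
    (h : ∀ (k' : Type u) [Field k'] [Algebra k k'], Module.Finite k k' → IsPurelyInseparable k k' →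
      IsRegularRing (k' ⊗[k] S)) : IsRegularRing (K ⊗[k] S) := by
  obtain ⟨k', _, _, K', _, _, _, _, hfin, hpi, ht1, ht2, hgr, hess⟩ :=
    Groth.Agent.Lib.Helper6.PInsep.exists_separable_ext k K
  haveI h1 : IsRegularRing (k' ⊗[k] S) := h k' hfin hpi
  haveI : Algebra.FormallySmooth k' K' :=
    Groth.Agent.Lib.Helper19.PBasis.formallySmooth_of_isGeometricallyReduced
  haveI : Algebra.FormallySmooth (k' ⊗[k] S) ((k' ⊗[k] S) ⊗[k'] K') := inferInstance
  -- Noetherian
  haveI : Algebra.EssFiniteType S (S ⊗[k] K') := inferInstance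
  haveI hN1 : IsNoetherianRing (S ⊗[k] K') := Algebra.EssFiniteType.isNoetherianRing S _
  let e : S ⊗[k] K' ≃+* (k' ⊗[k] S) ⊗[k'] K' :=
    ((Algebra.TensorProduct.comm k S K').toRingEquiv.trans
      (Algebra.TensorProduct.cancelBaseChange k k' K' K' S).toRingEquiv.symm).trans
      (Algebra.TensorProduct.comm k' K' (k' ⊗[k] S)).toRingEquiv
  haveI hN2 : IsNoetherianRing ((k' ⊗[k] S) ⊗[k'] K') := isNoetherianRing_of_ringEquiv _ e
  haveI h2 : IsRegularRing ((k' ⊗[k] S) ⊗[k'] K') :=
    Groth.Agent.Lib.Helper6.SepBC.isRegularRing_of_formallySmooth (k' ⊗[k] S) _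
  have h3 : IsRegularRing (K' ⊗[k'] (k' ⊗[k] S)) :=
    IsRegularRing.of_ringEquiv (Algebra.TensorProduct.comm k' (k' ⊗[k] S) K').toRingEquiv
  exact regular_descent k k' K K' S h3

end Core

section Mains

variable (k S : Type u) [Field k] [CommRing S] [Algebra k S]

theorem main2672 [IsNoetherianRing S] :
    (CAlg.IsGeometricallyRegular k S ↔
        ∀ (k' : Type u) [Field k'] [Algebra k k'], Module.Finite k k' → IsPurelyInseparable k k' →
          IsRegularRing (k' ⊗[k] S)) ∧
      (CAlg.IsGeometricallyRegular k S ↔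
        ∀ (K : Type u) [Field K] [Algebra k K], Algebra.EssFiniteType k K →
          IsRegularRing (K ⊗[k] S)) := by
  have hbc : (∀ (k' : Type u) [Field k'] [Algebra k k'], Module.Finite k k' →
      IsPurelyInseparable k k' → IsRegularRing (k' ⊗[k] S)) →
      ∀ (K : Type u) [Field K] [Algebra k K], Algebra.EssFiniteType k K →
        IsRegularRing (K ⊗[k] S) :=
    fun h K _ _ hK => regular_of_purelyInseparable k S K h
  have hca : (∀ (K : Type u) [Field K] [Algebra k K], Algebra.EssFiniteType k K →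
      IsRegularRing (K ⊗[k] S)) → CAlg.IsGeometricallyRegular k S :=
    fun h k' _ _ hfin => h k' inferInstance
  have hab : CAlg.IsGeometricallyRegular k S →
      ∀ (k' : Type u) [Field k'] [Algebra k k'], Module.Finite k k' →
      IsPurelyInseparable k k' → IsRegularRing (k' ⊗[k] S) :=
    fun h k' _ _ hfin _ => h k' hfin
  exact ⟨⟨hab, fun h => hca (hbc h)⟩, ⟨fun h => hbc (hab h), hca⟩⟩

theorem main2673 :
    (EGA4.IsGeomNormal k S ↔
        ∀ (k' : Type u) [Field k'] [Algebra k k'], Module.Finite k k' → IsPurelyInseparable k k' →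
          EGA4.IsNormalRing (k' ⊗[k] S)) ∧
      (EGA4.IsGeomNormal k S ↔
        ∀ (K : Type u) [Field K] [Algebra k K], Algebra.EssFiniteType k K →
          EGA4.IsNormalRing (K ⊗[k] S)) := by
  have hbc : (∀ (k' : Type u) [Field k'] [Algebra k k'], Module.Finite k k' →
      IsPurelyInseparable k k' → EGA4.IsNormalRing (k' ⊗[k] S)) →
      ∀ (K : Type u) [Field K] [Algebra k K], Algebra.EssFiniteType k K →
        EGA4.IsNormalRing (K ⊗[k] S) :=
    fun h K _ _ hK => normal_of_purelyInseparable k S K h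
  have hca : (∀ (K : Type u) [Field K] [Algebra k K], Algebra.EssFiniteType k K →
      EGA4.IsNormalRing (K ⊗[k] S)) → EGA4.IsGeomNormal k S :=
    fun h k' _ _ hfin => h k' inferInstance
  have hab : EGA4.IsGeomNormal k S →
      ∀ (k' : Type u) [Field k'] [Algebra k k'], Module.Finite k k' →
      IsPurelyInseparable k k' → EGA4.IsNormalRing (k' ⊗[k] S) :=
    fun h k' _ _ hfin _ => h k' hfin
  exact ⟨⟨hab, fun h => hca (hbc h)⟩, ⟨fun h => hbc (hab h), hca⟩⟩

end Mains

section Compositum

/-- a field containing both `K` and a finite extension `k''` of `k`, finite over `K`. -/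
theorem exists_compositum (k K k'' : Type u) [Field k] [Field K] [Field k''] [Algebra k K]
    [Algebra k k''] [Module.Finite k k''] :
    ∃ (L : Type u) (_ : Field L) (_ : Algebra k L) (_ : Algebra K L) (_ : Algebra k'' L),
      IsScalarTower k K L ∧ IsScalarTower k k'' L ∧ Module.Finite K L := by
  haveI : Nontrivial (K ⊗[k] k'') := Groth.Agent.Lib.Helper6.PInsep.nontrivial_tensor k k'' K
  obtain ⟨M, hM⟩ := Ideal.exists_maximal (K ⊗[k] k'')
  letI : Field ((K ⊗[k] k'') ⧸ M) := Ideal.Quotient.field _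
  letI alg2 : Algebra k'' ((K ⊗[k] k'') ⧸ M) :=
    ((Ideal.Quotient.mk _).comp
      (Algebra.TensorProduct.includeRight : k'' →ₐ[k] K ⊗[k] k'').toRingHom).toAlgebra
  refine ⟨(K ⊗[k] k'') ⧸ M, inferInstance, inferInstance, inferInstance, alg2,
    inferInstance, ?_, inferInstance⟩
  refine IsScalarTower.of_algebraMap_eq fun x => ?_
  change Ideal.Quotient.mk _ (algebraMap k (K ⊗[k] k'') x) =
    Ideal.Quotient.mk _ ((1 : K) ⊗ₜ[k] (algebraMap k k'' x))
  congr 1
  rw [Algebra.TensorProduct.algebraMap_apply, Algebra.algebraMap_eq_smul_one,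
    Algebra.algebraMap_eq_smul_one, TensorProduct.smul_tmul]

end Compositum

section BaseChange

variable (k S K : Type u) [Field k] [CommRing S] [Algebra k S] [Field K] [Algebra k K]
  [Algebra.EssFiniteType k K]

theorem main2674 [IsNoetherianRing S] :
    CAlg.IsGeometricallyRegular k S ↔ CAlg.IsGeometricallyRegular K (K ⊗[k] S) := by
  constructor
  · intro h K'' _ _ hfin
    letI : Algebra k K'' := ((algebraMap K K'').comp (algebraMap k K)).toAlgebra
    haveI : IsScalarTower k K K'' := IsScalarTower.of_algebraMap_eq fun _ => rfl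
    haveI : Algebra.EssFiniteType k K'' := Algebra.EssFiniteType.comp k K K''
    haveI h1 : IsRegularRing (K'' ⊗[k] S) := (main2672 k S).2.mp h K'' inferInstance
    exact IsRegularRing.of_ringEquiv
      (Algebra.TensorProduct.cancelBaseChange k K K'' K'' S).toRingEquiv.symm
  · intro h k'' _ _ hfin
    obtain ⟨L, _, _, _, _, ht1, ht2, hL⟩ := exists_compositum k K k''
    exact regular_descent k K k'' L S (h L hL)

theorem main2675 :
    EGA4.IsGeomNormal k S ↔ EGA4.IsGeomNormal K (K ⊗[k] S) := by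
  constructor
  · intro h K'' _ _ hfin
    letI : Algebra k K'' := ((algebraMap K K'').comp (algebraMap k K)).toAlgebra
    haveI : IsScalarTower k K K'' := IsScalarTower.of_algebraMap_eq fun _ => rfl
    haveI : Algebra.EssFiniteType k K'' := Algebra.EssFiniteType.comp k K K''
    have h1 : EGA4.IsNormalRing (K'' ⊗[k] S) := (main2673 k S).2.mp h K'' inferInstance
    exact Groth.Agent.Lib.Helper6.SepNorm.isNormalRing_of_ringEquiv
      (Algebra.TensorProduct.cancelBaseChange k K K'' K'' S).toRingEquiv.symm h1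
  · intro h k'' _ _ hfin
    obtain ⟨L, _, _, _, _, ht1, ht2, hL⟩ := exists_compositum k K k''
    exact normal_descent k K k'' L S (h L hL)

end BaseChange

section AnyField

variable (k A k' : Type u) [Field k] [CommRing A] [Algebra k A] [Field k'] [Algebra k k']

/-- the comparison map `E ⊗ A → k' ⊗ A` for a subfield `E` of `k'`. -/
noncomputable def incl (E : IntermediateField k k') : E ⊗[k] A →ₐ[k] k' ⊗[k] A :=
  Algebra.TensorProduct.map E.val (AlgHom.id k A)

theorem incl_injective (E : IntermediateField k k') : Function.Injective (incl k A k' E) :=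
  Module.Flat.rTensor_preserves_injective_linearMap (M := A) E.val.toLinearMap
    E.val.toRingHom.injective

theorem range_incl_mono {E₁ E₂ : IntermediateField k k'} (h : E₁ ≤ E₂) :
    (incl k A k' E₁).range ≤ (incl k A k' E₂).range := by
  rintro _ ⟨x, rfl⟩
  refine ⟨Algebra.TensorProduct.map (IntermediateField.inclusion h) (AlgHom.id k A) x, ?_⟩
  induction x using TensorProduct.induction_on with
  | zero => simp
  | tmul c y => rfl
  | add x y hx hy => simp only [map_add, hx, hy]

theorem exists_mem_range_incl (x : k' ⊗[k] A) :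
    ∃ s : Finset k', x ∈ (incl k A k' (IntermediateField.adjoin k (s : Set k'))).range := by
  classical
  induction x using TensorProduct.induction_on with
  | zero => exact ⟨∅, Subalgebra.zero_mem _⟩
  | tmul c y =>
    refine ⟨{c}, ⟨⟨c, IntermediateField.subset_adjoin k _ (by simp)⟩ ⊗ₜ y, rfl⟩⟩
  | add x y hx hy =>
    obtain ⟨s, hs⟩ := hx
    obtain ⟨t, ht⟩ := hy
    refine ⟨s ∪ t, Subalgebra.add_mem _ ?_ ?_⟩
    · exact range_incl_mono k A k' (IntermediateField.adjoin.mono k _ _ (by simp)) hs
    · exact range_incl_mono k A k' (IntermediateField.adjoin.mono k _ _ (by simp)) ht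

/-- **EGA IV 6.7.7** for arbitrary field extensions (normality, no finiteness hypotheses). -/
theorem normal_of_purelyInseparable_field
    (h : ∀ (k' : Type u) [Field k'] [Algebra k k'], Module.Finite k k' → IsPurelyInseparable k k' →
      EGA4.IsNormalRing (k' ⊗[k] A)) : EGA4.IsNormalRing (k' ⊗[k] A) := by
  classical
  refine Groth.Agent.Lib.Helper6.NormCrit.isNormalRing_of_directed_union (ι := Finset k')
    (fun s => (IntermediateField.adjoin k (s : Set k')) ⊗[k] A)
    (fun s => (incl k A k' (IntermediateField.adjoin k (s : Set k'))).toRingHom)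
    (fun s => incl_injective k A k' _) (fun s t => ⟨s ∪ t, ?_, ?_⟩) (fun x => ?_) (fun s => ?_)
  · exact range_incl_mono k A k' (IntermediateField.adjoin.mono k _ _ (by simp))
  · exact range_incl_mono k A k' (IntermediateField.adjoin.mono k _ _ (by simp))
  · exact exists_mem_range_incl k A k' x
  · haveI : Algebra.EssFiniteType k (IntermediateField.adjoin k (s : Set k')) :=
      IntermediateField.essFiniteType_iff.mpr (IntermediateField.fg_adjoin_finset s)
    exact normal_of_purelyInseparable k A (IntermediateField.adjoin k (s : Set k')) h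

theorem main2070 :
    (∀ (k' : Type u) [Field k'] [Algebra k k'] (P : Ideal (k' ⊗[k] A)) [P.IsPrime],
        IsDomain (Localization.AtPrime P) ∧ IsIntegrallyClosed (Localization.AtPrime P)) ↔
      ∀ (k' : Type u) [Field k'] [Algebra k k'], Module.Finite k k' → IsPurelyInseparable k k' →
        ∀ (P : Ideal (k' ⊗[k] A)) [P.IsPrime],
          IsDomain (Localization.AtPrime P) ∧ IsIntegrallyClosed (Localization.AtPrime P) := by
  constructor
  · intro h k' _ _ _ _ P _
    exact h k' P
  · intro h k' _ _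
    exact normal_of_purelyInseparable_field k A k' h

end AnyField

end Groth.Agent.Lib.Helper6.GeomBC
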