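import Mathlib

set_option autoImplicit false
universe u

open TensorProduct

namespace Groth.Agent.Lib.Helper20.FlatDesc

/-- support of a flat base change contains the primes over the support -/
theorem mem_support_baseChange_of_flat {S T : Type*} [CommRing S] [CommRing T] [Algebra S T]
    [Module.Flat S T] (M : Type*) [AddCommGroup M] [Module S M] (q : PrimeSpectrum T)
    (h : q.comap (algebraMap S T) ∈ Module.support S M) :
    q ∈ Module.support T (T ⊗[S] M) := by
  rw [Module.mem_support_iff_exists_annihilator] at h ⊢
  obtain ⟨m, hm⟩ := h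
  refine ⟨1 ⊗ₜ m, ?_⟩
  intro t ht
  rw [Submodule.mem_annihilator_span_singleton] at ht
  let f : S →ₗ[S] M := LinearMap.toSpanSingleton S M m
  let I : Ideal S := LinearMap.ker f
  let fbar : (S ⧸ I) →ₗ[S] M := Submodule.liftQ I f le_rfl
  have hinj : Function.Injective fbar := by
    rw [← LinearMap.ker_eq_bot]
    exact Submodule.ker_liftQ_eq_bot _ _ _ le_rfl
  have hinj' := Module.Flat.lTensor_preserves_injective_linearMap (M := T) fbar hinj
  have h0 : (fbar.lTensor T) (t ⊗ₜ (Ideal.Quotient.mk I 1)) = 0 := by
    have : fbar (Ideal.Quotient.mk I 1) = m := by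
      change f 1 = m
      simp [f]
    rw [LinearMap.lTensor_tmul, this]
    rw [← ht, TensorProduct.smul_tmul', smul_eq_mul, mul_one]
  have h1 : t ⊗ₜ[S] (Ideal.Quotient.mk I 1 : S ⧸ I) = 0 := hinj' (by rw [h0, map_zero])
  have h2 : (Submodule.Quotient.mk t : T ⧸ (I • ⊤ : Submodule S T)) = 0 := by
    have := congrArg (TensorProduct.tensorQuotEquivQuotSMul T I) h1
    rwa [map_zero, TensorProduct.tensorQuotEquivQuotSMul_tmul_mk, one_smul] at this
  rw [Submodule.Quotient.mk_eq_zero] at h2
  have hle : (I • ⊤ : Submodule S T) ≤ q.asIdeal.restrictScalars S := by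
    rw [Submodule.smul_le]
    intro i hi t' _
    have hi' : i ∈ (Submodule.span S {m}).annihilator := by
      rw [Submodule.mem_annihilator_span_singleton]
      exact hi
    have : algebraMap S T i ∈ q.asIdeal := hm hi'
    change i • t' ∈ q.asIdeal
    rw [Algebra.smul_def]
    exact q.asIdeal.mul_mem_right _ this
  exact hle h2

/-- unramifiedness at a prime descends along flat base change -/
theorem isUnramifiedAt_of_flat_baseChange (R S R' T : Type u) [CommRing R] [CommRing S]
    [CommRing R'] [CommRing T]
    [Algebra R S] [Algebra R R'] [Algebra R T] [Algebra S T] [Algebra R' T]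
    [IsScalarTower R S T] [IsScalarTower R R' T] [Algebra.IsPushout R R' S T]
    [Module.Flat R R']
    (q : Ideal T) [q.IsPrime]
    (hq : Algebra.IsUnramifiedAt R' q) :
    Algebra.IsUnramifiedAt R (q.comap (algebraMap S T)) := by
  have hsymm : Algebra.IsPushout R S R' T := Algebra.IsPushout.symm inferInstance
  have hflat : Module.Flat S T :=
    Module.Flat.isBaseChange R S R' T hsymm.out
  let qq : PrimeSpectrum T := ⟨q, inferInstance⟩
  have h1 : qq ∈ Algebra.unramifiedLocus R' T := hq
  rw [Algebra.unramifiedLocus_eq_compl_support] at h1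
  have e := KaehlerDifferential.tensorKaehlerEquiv R R' S T
  rw [← e.support_eq] at h1
  have h2 : qq.comap (algebraMap S T) ∈ Algebra.unramifiedLocus R S := by
    rw [Algebra.unramifiedLocus_eq_compl_support]
    intro h
    exact h1 (mem_support_baseChange_of_flat _ qq h)
  exact h2

/-- flatness descends along faithfully flat maps -/
theorem flat_of_flat_comp_of_faithfullyFlat (A B C : Type*) [CommRing A] [CommRing B] [CommRing C]
    [Algebra A B] [Algebra B C] [Algebra A C] [IsScalarTower A B C] [Module.FaithfullyFlat B C]
    [Module.Flat A C] : Module.Flat A B := by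
  rw [Module.Flat.iff_lTensor_preserves_injective_linearMap]
  intro N N' _ _ _ _ φ hφ
  have h1 : Function.Injective (φ.lTensor C) :=
    Module.Flat.lTensor_preserves_injective_linearMap φ hφ
  have key : Function.Injective ((φ.baseChange B).lTensor C) := by
    let e₁ := AlgebraTensorModule.cancelBaseChange A B C C N
    let e₂ := AlgebraTensorModule.cancelBaseChange A B C C N'
    have hcomm : ∀ z, e₂ (((φ.baseChange B).lTensor C) z) = (φ.lTensor C) (e₁ z) := by
      intro z
      induction z using TensorProduct.induction_on with
      | zero => simp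
      | add x y hx hy => simp only [map_add, hx, hy]
      | tmul c w =>
        induction w using TensorProduct.induction_on with
        | zero => simp
        | add x y hx hy => simp only [tmul_add, map_add, hx, hy]
        | tmul b n => simp [e₁, e₂]
    intro z z' hzz
    apply e₁.injective
    apply h1
    rw [← hcomm, ← hcomm, hzz]
  exact (Module.FaithfullyFlat.lTensor_injective_iff_injective B C (φ.baseChange B)).mp key

end Groth.Agent.Lib.Helper20.FlatDesc
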