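import Mathlib
import Groth.Agent.Lib.Helper20FlatDesc

set_option autoImplicit false
universe u

open TensorProduct

namespace Groth.Agent.Lib.Helper20.SmoothDesc

set_option backward.isDefEq.respectTransparency false in
open PrimeSpectrum in
/-- free locus descends along flat base change (finitely presented modules) -/
theorem mem_freeLocus_of_flat_baseChange {R A : Type*} [CommRing R] [CommRing A] [Algebra R A]
    [Module.Flat R A] (M : Type*) [AddCommGroup M] [Module R M] [Module.FinitePresentation R M]
    (p : PrimeSpectrum A) (hp : p ∈ Module.freeLocus A (A ⊗[R] M)) :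
    comap (algebraMap R A) p ∈ Module.freeLocus R M := by
  let Rₚ := Localization.AtPrime (comap (algebraMap R A) p).asIdeal
  let Aₚ := Localization.AtPrime p.asIdeal
  rw [Module.mem_freeLocus_iff_tensor _ Aₚ] at hp
  rw [Module.mem_freeLocus_iff_tensor _ Rₚ]
  let algebra : Algebra Rₚ Aₚ := (Localization.localRingHom
    (comap (algebraMap R A) p).asIdeal p.asIdeal (algebraMap R A) rfl).toAlgebra
  have : IsScalarTower R Rₚ Aₚ := IsScalarTower.of_algebraMap_eq'
    (by simp [Rₚ, Aₚ, algebra, RingHom.algebraMap_toAlgebra, Localization.localRingHom,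
        ← IsScalarTower.algebraMap_eq])
  let e := AlgebraTensorModule.cancelBaseChange R Rₚ Aₚ Aₚ M ≪≫ₗ
    (AlgebraTensorModule.cancelBaseChange R A Aₚ Aₚ M).symm
  have hfree : Module.Free Aₚ (Aₚ ⊗[Rₚ] (Rₚ ⊗[R] M)) := .of_equiv e.symm
  have hloc : IsLocalHom (algebraMap Rₚ Aₚ) := by
    rw [RingHom.algebraMap_toAlgebra]
    exact Localization.isLocalHom_localRingHom _ _ _ _
  have hflat1 : Module.Flat R Aₚ := Module.Flat.trans R A Aₚ
  have hflat2 : Module.Flat Rₚ Aₚ :=
    (Module.flat_iff_of_isLocalization Rₚ (comap (algebraMap R A) p).asIdeal.primeCompl Aₚ).mpr hflat1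
  have hff : Module.FaithfullyFlat Rₚ Aₚ := Module.FaithfullyFlat.of_flat_of_isLocalHom
  have : Module.Flat Rₚ (Rₚ ⊗[R] M) := Module.Flat.of_flat_tensorProduct Rₚ (Rₚ ⊗[R] M) Aₚ
  exact Module.free_of_flat_of_isLocalRing

end Groth.Agent.Lib.Helper20.SmoothDesc

namespace Groth.Agent.Lib.Helper20.SmoothDesc

section
variable (R S R' : Type u) [CommRing R] [CommRing S] [CommRing R'] [Algebra R S] [Algebra R R']
  [Module.Flat R R']

attribute [local instance] Algebra.TensorProduct.rightAlgebra

example : Algebra.IsPushout R R' S (R' ⊗[R] S) := inferInstance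

/-- the `R' ⊗ S`-linear comparison map for `H1Cotangent` -/
noncomputable def h1Lift : (R' ⊗[R] S) ⊗[S] Algebra.H1Cotangent R S →ₗ[R' ⊗[R] S]
    Algebra.H1Cotangent R' (R' ⊗[R] S) :=
  (Algebra.H1Cotangent.map R R' S (R' ⊗[R] S)).liftBaseChange (R' ⊗[R] S)

theorem h1Lift_bijective : Function.Bijective (h1Lift R S R') := by
  have key : ∀ z, h1Lift R S R' ((Algebra.IsPushout.cancelBaseChange R R' S (R' ⊗[R] S)
      (Algebra.H1Cotangent R S)).symm z) = Algebra.tensorH1CotangentOfFlat R S R' z := by
    intro z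
    induction z using TensorProduct.induction_on with
    | zero => simp
    | add x y hx hy => simp only [map_add, hx, hy]
    | tmul r m =>
      rw [Algebra.IsPushout.cancelBaseChange_symm_tmul, Algebra.tensorH1CotangentOfFlat_tmul]
      simp only [h1Lift, LinearMap.liftBaseChange_tmul]
      rw [← algebraMap_smul (R' ⊗[R] S) r]
  have h2 : (h1Lift R S R' : _ → _) = (Algebra.tensorH1CotangentOfFlat R S R') ∘
      (Algebra.IsPushout.cancelBaseChange R R' S (R' ⊗[R] S) (Algebra.H1Cotangent R S)) := by
    funext z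
    simp only [Function.comp_apply]
    rw [← key, LinearEquiv.symm_apply_apply]
  rw [h2]
  exact (Algebra.tensorH1CotangentOfFlat R S R').bijective.comp
    (Algebra.IsPushout.cancelBaseChange R R' S (R' ⊗[R] S) (Algebra.H1Cotangent R S)).bijective

open Groth.Agent.Lib.Helper20.FlatDesc in
/-- smoothness at a prime descends along flat base change (tensor form) -/
theorem isSmoothAt_of_flat_tensor [Algebra.FinitePresentation R S] (q : Ideal (R' ⊗[R] S))
    [q.IsPrime] (hq : Algebra.IsSmoothAt R' q) :
    Algebra.IsSmoothAt R (q.comap (algebraMap S (R' ⊗[R] S))) := by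
  have hsymm : Algebra.IsPushout R S R' (R' ⊗[R] S) := Algebra.IsPushout.symm inferInstance
  have hflatST : Module.Flat S (R' ⊗[R] S) := Module.Flat.isBaseChange R S R' _ hsymm.out
  let qq : PrimeSpectrum (R' ⊗[R] S) := ⟨q, inferInstance⟩
  have h1 : qq ∈ Algebra.smoothLocus R' (R' ⊗[R] S) := hq
  rw [Algebra.smoothLocus_eq_compl_support_inter] at h1
  obtain ⟨hsupp, hfree⟩ := h1
  have h2 : qq.comap (algebraMap S (R' ⊗[R] S)) ∈ Algebra.smoothLocus R S := by
    rw [Algebra.smoothLocus_eq_compl_support_inter]
    refine ⟨?_, ?_⟩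
    · intro h
      apply hsupp
      have := mem_support_baseChange_of_flat (Algebra.H1Cotangent R S) qq h
      rwa [(LinearEquiv.ofBijective _ (h1Lift_bijective R S R')).support_eq] at this
    · have e := KaehlerDifferential.tensorKaehlerEquiv R R' S (R' ⊗[R] S)
      rw [← Module.freeLocus_congr e] at hfree
      exact mem_freeLocus_of_flat_baseChange _ qq hfree
  exact h2

end

theorem isSmoothAt_congr {R S : Type*} [CommRing R] [CommRing S] [Algebra R S]
    (I J : Ideal S) [I.IsPrime] [J.IsPrime] (h : I = J) (hI : Algebra.IsSmoothAt R I) :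
    Algebra.IsSmoothAt R J := by
  subst h; exact hI

attribute [local instance] Algebra.TensorProduct.rightAlgebra in
/-- smoothness at a prime descends along flat base change (pushout form) -/
theorem isSmoothAt_of_flat_baseChange (R S R' T : Type u) [CommRing R] [CommRing S]
    [CommRing R'] [CommRing T]
    [Algebra R S] [Algebra R R'] [Algebra R T] [Algebra S T] [Algebra R' T]
    [IsScalarTower R S T] [IsScalarTower R R' T] [Algebra.IsPushout R R' S T]
    [Module.Flat R R'] [Algebra.FinitePresentation R S]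
    (q : Ideal T) [q.IsPrime] (hq : Algebra.IsSmoothAt R' q) :
    Algebra.IsSmoothAt R (q.comap (algebraMap S T)) := by
  let e : R' ⊗[R] S ≃ₐ[R'] T := Algebra.IsPushout.equiv R R' S T
  let q0 : Ideal (R' ⊗[R] S) := q.comap e
  have hq0 : q0.IsPrime := Ideal.comap_isPrime _ _
  have h0 : Algebra.IsSmoothAt R' q0 := by
    change Algebra.FormallySmooth R' (Localization.AtPrime q0)
    exact Algebra.FormallySmooth.of_equiv (Localization.localAlgEquiv q0 q e rfl).symm
  have h1 := isSmoothAt_of_flat_tensor R S R' q0 h0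
  have h2 : q0.comap (algebraMap S (R' ⊗[R] S)) = q.comap (algebraMap S T) := by
    ext s
    simp only [q0, Ideal.mem_comap]
    have : e (algebraMap S (R' ⊗[R] S) s) = algebraMap S T s := by
      change e ((1 : R') ⊗ₜ s) = _
      rw [Algebra.IsPushout.equiv_tmul]
      simp
    change e (algebraMap S (R' ⊗[R] S) s) ∈ q ↔ _
    rw [this]
  exact isSmoothAt_congr _ _ h2 h1

end Groth.Agent.Lib.Helper20.SmoothDesc
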