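import Mathlib
import Groth.Agent.Lib.Helper19RegPres

set_option autoImplicit false
universe u

namespace Groth.Agent.Lib.Helper6.FixReg

open IsLocalRing

theorem maximalIdeal_eq_map_of_surjective {P R : Type*} [CommRing P] [IsLocalRing P]
    [CommRing R] [IsLocalRing R] (g : P →+* R) (hg : Function.Surjective g) :
    maximalIdeal R = (maximalIdeal P).map g := by
  apply le_antisymm
  · intro y hy
    obtain ⟨x, rfl⟩ := hg y
    refine Ideal.mem_map_of_mem g ?_
    rw [IsLocalRing.mem_maximalIdeal] at hy ⊢
    exact fun hu => hy (hu.map g)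
  · rw [Ideal.map_le_iff_le_comap]
    intro x hx
    rw [Ideal.mem_comap, IsLocalRing.mem_maximalIdeal]
    intro hu
    obtain ⟨y, hy⟩ := hu.exists_right_inv
    obtain ⟨z, rfl⟩ := hg y
    have h1 : x * z - 1 ∈ RingHom.ker g := by
      rw [RingHom.mem_ker, map_sub, map_mul, hy, map_one, sub_self]
    have h2 : x * z - 1 ∈ IsLocalRing.maximalIdeal P :=
      IsLocalRing.le_maximalIdeal (RingHom.ker_ne_top g) h1
    have h3 : x * z ∈ IsLocalRing.maximalIdeal P := Ideal.mul_mem_right _ _ hx
    have : (1 : P) ∈ IsLocalRing.maximalIdeal P := by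
      have := (IsLocalRing.maximalIdeal P).sub_mem h3 h2
      simpa using this
    exact (IsLocalRing.maximalIdeal.isMaximal P).ne_top ((Ideal.eq_top_iff_one _).2 this)

/-- Quotient of a regular local ring by an ideal `J ⊆ m` with `J ∩ m² ⊆ mJ` is regular. -/
theorem isRegularLocalRing_quot_of_inf_sq_le (d : ℕ) :
    ∀ (A : Type u) [CommRing A] [IsRegularLocalRing A],
      (maximalIdeal A).spanFinrank ≤ d → ∀ J : Ideal A, J ≤ maximalIdeal A →
      J ⊓ (maximalIdeal A) ^ 2 ≤ maximalIdeal A * J → IsRegularLocalRing (A ⧸ J) := by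
  induction d with
  | zero =>
    intro A _ _ hd J hJ _
    have hm : maximalIdeal A = ⊥ := by
      rw [← Submodule.spanFinrank_eq_zero_iff_eq_bot (IsNoetherian.noetherian _)]
      omega
    have hJ0 : J = ⊥ := by rw [hm] at hJ; exact le_bot_iff.1 hJ
    subst hJ0
    exact IsRegularLocalRing.of_ringEquiv (RingEquiv.quotientBot A).symm
  | succ d ih =>
    intro A _ _ hd J hJ hJ2
    by_cases hJ0 : J = ⊥
    · subst hJ0
      exact IsRegularLocalRing.of_ringEquiv (RingEquiv.quotientBot A).symm
    -- pick y ∈ J \ mJ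
    obtain ⟨y, hyJ, hymJ⟩ : ∃ y ∈ J, y ∉ maximalIdeal A * J := by
      by_contra hcon
      push Not at hcon
      apply hJ0
      refine Submodule.eq_bot_of_le_smul_of_le_jacobson_bot (maximalIdeal A) J
        (IsNoetherian.noetherian _) ?_ ?_
      · intro z hz
        have := hcon z hz
        rwa [← smul_eq_mul] at this
      · rw [IsLocalRing.jacobson_eq_maximalIdeal ⊥ bot_ne_top]
    have hym : y ∈ maximalIdeal A := hJ hyJ
    have hym2 : y ∉ maximalIdeal A ^ 2 := fun h => hymJ (hJ2 ⟨hyJ, h⟩)
    haveI : IsLocalRing (A ⧸ Ideal.span {y}) :=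
      Helper19.isLocalRing_quot_of_le_maximalIdeal _
        ((Ideal.span_singleton_le_iff_mem _).2 hym)
    obtain ⟨hreg, hrank⟩ := Helper19.isRegularLocalRing_quot_singleton hym hym2
    haveI := hreg
    set q := Ideal.Quotient.mk (Ideal.span {y}) with hq
    have hqs : Function.Surjective q := Ideal.Quotient.mk_surjective
    have hmm : maximalIdeal (A ⧸ Ideal.span {y}) = (maximalIdeal A).map q :=
      maximalIdeal_eq_map_of_surjective q hqs
    have hyle : Ideal.span {y} ≤ J := (Ideal.span_singleton_le_iff_mem _).2 hyJ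
    have key := ih (A ⧸ Ideal.span {y}) (by omega) (J.map q)
      (by rw [hmm]; exact Ideal.map_mono hJ) (by
        rw [hmm, ← Ideal.map_pow, ← Ideal.map_mul]
        rintro z ⟨hz1, hz2⟩
        obtain ⟨a, ha, rfl⟩ := (Ideal.mem_map_iff_of_surjective q hqs).1 hz1
        obtain ⟨b, hb, hab⟩ := (Ideal.mem_map_iff_of_surjective q hqs).1 hz2
        have h1 : a - b ∈ Ideal.span {y} := by
          rw [← Ideal.Quotient.eq_zero_iff_mem, map_sub, ← hq, hab, sub_self]
        have hbJ : b ∈ J := by
          have : b = a - (a - b) := by ring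
          rw [this]
          exact J.sub_mem ha (hyle h1)
        rw [← hab]
        exact Ideal.mem_map_of_mem q (hJ2 ⟨hbJ, hb⟩))
    exact IsRegularLocalRing.of_ringEquiv (DoubleQuot.quotQuotEquivQuotOfLE hyle)

end Groth.Agent.Lib.Helper6.FixReg

namespace Groth.Agent.Lib.Helper6.FixReg

open IsLocalRing

section Action

variable {k : Type*} [Field k] {A : Type*} [CommRing A] [Algebra k A] [IsLocalRing A]
  {G : Type*} [Group G] [MulSemiringAction G A] [SMulCommClass G k A]

/-- the coinvariant ideal -/
def coinv (G : Type*) (A : Type*) [CommRing A] [Group G] [MulSemiringAction G A] : Ideal A :=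
  Ideal.span {x : A | ∃ (g : G) (a : A), x = g • a - a}

omit [IsLocalRing A] in
theorem smul_sub_mem_coinv (g : G) (a : A) : g • a - a ∈ coinv G A :=
  Ideal.subset_span ⟨g, a, rfl⟩

omit [IsLocalRing A] in
theorem smul_mem_coinv (h : G) {x : A} (hx : x ∈ coinv G A) : h • x ∈ coinv G A := by
  have : coinv G A ≤ (coinv G A).comap (MulSemiringAction.toRingHom G A h) := by
    unfold coinv
    rw [Ideal.span_le]
    rintro x ⟨g, a, rfl⟩
    change h • (g • a - a) ∈ Ideal.span {x : A | ∃ (g : G) (a : A), x = g • a - a}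
    have : h • (g • a - a) = ((h * g) • a - a) - (h • a - a) := by
      rw [smul_sub, mul_smul]; ring
    rw [this]
    exact Ideal.sub_mem _ (Ideal.subset_span ⟨_, _, rfl⟩) (Ideal.subset_span ⟨_, _, rfl⟩)
  exact this hx

theorem smul_mem_maximalIdeal (g : G) {x : A} (hx : x ∈ maximalIdeal A) :
    g • x ∈ maximalIdeal A := by
  rw [mem_maximalIdeal, mem_nonunits_iff] at hx ⊢
  intro hu
  apply hx
  have := hu.map (MulSemiringAction.toRingHom G A g⁻¹)
  simpa using this

omit [IsLocalRing A] in
theorem smul_algebraMap' (g : G) (c : k) : g • (algebraMap k A c) = algebraMap k A c := by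
  rw [Algebra.algebraMap_eq_smul_one, smul_comm, smul_one]

theorem exists_const (hres : Function.Surjective (algebraMap k (ResidueField A))) (a : A) :
    ∃ c : k, a - algebraMap k A c ∈ maximalIdeal A := by
  obtain ⟨c, hc⟩ := hres (residue A a)
  refine ⟨c, ?_⟩
  rw [← Ideal.Quotient.eq_zero_iff_mem (I := maximalIdeal A)]
  have : algebraMap k (ResidueField A) c = residue A (algebraMap k A c) := by
    rw [IsScalarTower.algebraMap_apply k A (ResidueField A)]; rfl
  rw [this] at hc
  change residue A (a - algebraMap k A c) = 0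
  rw [map_sub, hc, sub_self]

theorem coinv_le (hres : Function.Surjective (algebraMap k (ResidueField A))) :
    coinv G A ≤ maximalIdeal A := by
  unfold coinv
  rw [Ideal.span_le]
  rintro x ⟨g, a, rfl⟩
  obtain ⟨c, hc⟩ := exists_const hres a
  have : g • a - a = g • (a - algebraMap k A c) - (a - algebraMap k A c) := by
    rw [smul_sub, smul_algebraMap']; ring
  rw [this]
  exact Ideal.sub_mem _ (smul_mem_maximalIdeal g hc) hc

variable [Fintype G]

/-- the (unnormalized) trace -/
def tr (G : Type*) {A : Type*} [CommRing A] [Group G] [Fintype G] [MulSemiringAction G A]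
    (a : A) : A := ∑ g : G, g • a

omit [IsLocalRing A] in
theorem tr_add (a b : A) : tr G (a + b) = tr G a + tr G b := by
  simp [tr, smul_add, Finset.sum_add_distrib]

omit [IsLocalRing A] in
theorem tr_smul_sub (g : G) (a : A) : tr G (g • a - a) = 0 := by
  unfold tr
  simp only [smul_sub, Finset.sum_sub_distrib]
  rw [sub_eq_zero]
  simp only [← mul_smul]
  exact Fintype.sum_equiv (Equiv.mulRight g) _ _ (fun h => rfl)

omit [IsLocalRing A] in
theorem card_mul_sub_tr (a : A) : (Fintype.card G : A) * a - tr G a ∈ coinv G A := by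
  have : (Fintype.card G : A) * a - tr G a = ∑ g : G, (-(g • a - a)) := by
    unfold tr
    simp [Finset.sum_sub_distrib, Finset.card_univ]
  rw [this]
  exact Ideal.sum_mem _ fun g _ => Ideal.neg_mem_iff _ |>.2 (smul_sub_mem_coinv g a)

theorem card_mul_sub_tr_mul {u v : A} (hu : u ∈ maximalIdeal A) (hv : v ∈ maximalIdeal A) :
    (Fintype.card G : A) * (u * v) - tr G (u * v) ∈ maximalIdeal A * coinv G A := by
  have : (Fintype.card G : A) * (u * v) - tr G (u * v) =
      ∑ g : G, (-(u * (g • v - v) + (g • v) * (g • u - u))) := by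
    unfold tr
    simp only [smul_mul']
    rw [Finset.sum_neg_distrib]
    have : ∀ g : G, u * (g • v - v) + (g • v) * (g • u - u) = g • u * g • v - u * v := by
      intro g; ring
    simp only [this, Finset.sum_sub_distrib, Finset.sum_const, Finset.card_univ, nsmul_eq_mul]
    ring
  rw [this]
  refine Ideal.sum_mem _ fun g _ => Ideal.neg_mem_iff _ |>.2 (Ideal.add_mem _ ?_ ?_)
  · exact Ideal.mul_mem_mul hu (smul_sub_mem_coinv g v)
  · exact Ideal.mul_mem_mul (smul_mem_maximalIdeal g hv) (smul_sub_mem_coinv g u)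

theorem card_mul_sub_tr_sq {b : A} (hb : b ∈ maximalIdeal A ^ 2) :
    (Fintype.card G : A) * b - tr G b ∈ maximalIdeal A * coinv G A := by
  rw [pow_two] at hb
  refine Submodule.mul_induction_on hb (fun u hu v hv => card_mul_sub_tr_mul hu hv) ?_
  intro x y hx hy
  have : (Fintype.card G : A) * (x + y) - tr G (x + y) =
      ((Fintype.card G : A) * x - tr G x) + ((Fintype.card G : A) * y - tr G y) := by
    rw [tr_add]; ring
  rw [this]
  exact Ideal.add_mem _ hx hy

omit [IsLocalRing A] in
theorem tr_algebraMap_mul (c : k) (x : A) : tr G (algebraMap k A c * x) = algebraMap k A c * tr G x := by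
  unfold tr
  simp only [smul_mul', smul_algebraMap', Finset.mul_sum]

theorem tr_mem (hres : Function.Surjective (algebraMap k (ResidueField A))) {a : A}
    (ha : a ∈ coinv G A) : tr G a ∈ maximalIdeal A * coinv G A := by
  unfold coinv at ha
  induction ha using Submodule.span_induction with
  | mem x hx =>
    obtain ⟨g, a, rfl⟩ := hx
    rw [tr_smul_sub]; exact Ideal.zero_mem _
  | zero => simp [tr]
  | add x y _ _ hx hy => rw [tr_add]; exact Ideal.add_mem _ hx hy
  | smul c x hx ih =>
    obtain ⟨l, hl⟩ := exists_const (k := k) hres c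
    have h1 : c • x = algebraMap k A l * x + (c - algebraMap k A l) * x := by
      rw [smul_eq_mul]; ring
    rw [h1, tr_add, tr_algebraMap_mul]
    refine Ideal.add_mem _ (Ideal.mul_mem_left _ _ ih) ?_
    unfold tr
    refine Ideal.sum_mem _ fun g _ => ?_
    rw [smul_mul']
    exact Ideal.mul_mem_mul (smul_mem_maximalIdeal g hl) (smul_mem_coinv g hx)

theorem coinv_inf_sq_le (hres : Function.Surjective (algebraMap k (ResidueField A)))
    (hG : (Fintype.card G : k) ≠ 0) :
    coinv G A ⊓ maximalIdeal A ^ 2 ≤ maximalIdeal A * coinv G A := by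
  rintro a ⟨ha1, ha2⟩
  have h1 := card_mul_sub_tr_sq (G := G) ha2
  have h2 := tr_mem (k := k) hres ha1
  have h3 : (Fintype.card G : A) * a ∈ maximalIdeal A * coinv G A := by
    have := Ideal.add_mem _ h1 h2
    simpa using this
  have hu : IsUnit (Fintype.card G : A) := by
    have : (Fintype.card G : A) = algebraMap k A (Fintype.card G : k) := by simp
    rw [this]
    exact (IsUnit.mk0 _ hG).map _
  obtain ⟨w, hw⟩ := hu
  have := Ideal.mul_mem_left _ (↑w⁻¹ : A) h3
  rwa [← hw, ← mul_assoc, Units.inv_mul, one_mul] at this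

end Action

theorem main (k : Type u) [Field k] (A : Type u) [CommRing A]
    [Algebra k A] [IsRegularLocalRing A]
    (hres : Function.Surjective (algebraMap k (IsLocalRing.ResidueField A)))
    (G : Type u) [Group G] [Finite G] [MulSemiringAction G A] [SMulCommClass G k A]
    (hG : (Nat.card G : k) ≠ 0) :
    IsRegularLocalRing (A ⧸ Ideal.span {x : A | ∃ (g : G) (a : A), x = g • a - a}) := by
  cases nonempty_fintype G
  rw [Nat.card_eq_fintype_card] at hG
  exact isRegularLocalRing_quot_of_inf_sq_le _ A le_rfl (coinv G A) (coinv_le (k := k) hres)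
    (coinv_inf_sq_le (k := k) hres hG)

end Groth.Agent.Lib.Helper6.FixReg
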