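import Mathlib
import Groth.Agent.Lib.Helper6FixReg
import Groth.Agent.Lib.Helper5RLR

set_option autoImplicit false
universe u

namespace Groth.Agent.Lib.Helper6.RegQuot

open IsLocalRing Groth.Agent.Lib

/-- A quotient of a finite-dimensional Noetherian local domain with the same dimension is trivial. -/
theorem eq_bot_of_ringKrullDim_quotient_eq {A : Type*} [CommRing A] [IsDomain A]
    [IsNoetherianRing A] [IsLocalRing A] (I : Ideal A)
    (h : ringKrullDim (A ⧸ I) = ringKrullDim A) : I = ⊥ := by
  by_contra hI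
  obtain ⟨r, hrI, hr0⟩ := Submodule.exists_mem_ne_zero_of_ne_bot hI
  have hr : r ∈ nonZeroDivisors A := mem_nonZeroDivisors_of_ne_zero hr0
  have h1 := ringKrullDim_succ_le_of_surjective (Ideal.Quotient.mk I) Ideal.Quotient.mk_surjective
    hr (Ideal.Quotient.eq_zero_iff_mem.mpr hrI)
  rw [h] at h1
  obtain ⟨d, hd⟩ := Helper19.exists_nat_ringKrullDim A
  rw [hd] at h1
  have : ((d + 1 : ℕ) : WithBot ℕ∞) ≤ (d : ℕ) := by exact_mod_cast h1
  have h2 : d + 1 ≤ d := by exact_mod_cast this
  omega

/-- If `I ⊆ m²` then the embedding dimension does not drop in `A/I`. -/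
theorem spanFinrank_maximalIdeal_le_of_le_sq {A : Type*} [CommRing A] [IsLocalRing A]
    [IsNoetherianRing A] (I : Ideal A) [IsLocalRing (A ⧸ I)] (hI : I ≤ maximalIdeal A ^ 2) :
    (maximalIdeal A).spanFinrank ≤ (maximalIdeal (A ⧸ I)).spanFinrank := by
  classical
  set q := Ideal.Quotient.mk I with hq
  have hqs : Function.Surjective q := Ideal.Quotient.mk_surjective
  have hmm : maximalIdeal (A ⧸ I) = (maximalIdeal A).map q :=
    FixReg.maximalIdeal_eq_map_of_surjective q hqs
  obtain ⟨S, hcard, hspan⟩ := Submodule.FG.exists_span_finset_card_eq_spanFinrank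
    (IsNoetherian.noetherian (maximalIdeal (A ⧸ I)))
  -- lift the generators
  have hlift : ∀ s ∈ S, ∃ a ∈ maximalIdeal A, q a = s := by
    intro s hs
    have : s ∈ (maximalIdeal A).map q := by
      rw [← hmm, ← hspan]; exact Submodule.subset_span hs
    exact (Ideal.mem_map_iff_of_surjective q hqs).1 this
  choose! g hgm hgq using hlift
  set T : Finset A := S.image g with hT
  have hTm : Ideal.span (T : Set A) ≤ maximalIdeal A := by
    rw [Ideal.span_le]
    intro a ha
    simp only [hT, Finset.coe_image, Set.mem_image, Finset.mem_coe] at ha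
    obtain ⟨s, hs, rfl⟩ := ha
    exact hgm s hs
  have hle : maximalIdeal A ≤ Ideal.span (T : Set A) ⊔ maximalIdeal A • maximalIdeal A := by
    intro x hx
    have hx' : q x ∈ Ideal.span ((S : Set (A ⧸ I))) := by
      have h0 : q x ∈ maximalIdeal (A ⧸ I) := by
        rw [hmm]; exact Ideal.mem_map_of_mem q hx
      have h1 : Ideal.span ((S : Set (A ⧸ I))) = maximalIdeal (A ⧸ I) := hspan
      rwa [h1]
    have hS : (S : Set (A ⧸ I)) = q '' (T : Set A) := by
      ext s
      simp only [hT, Finset.coe_image, Set.mem_image, Finset.mem_coe]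
      constructor
      · intro hs; exact ⟨g s, ⟨s, hs, rfl⟩, hgq s hs⟩
      · rintro ⟨_, ⟨s', hs', rfl⟩, rfl⟩; rw [hgq s' hs']; exact hs'
    rw [hS, ← Ideal.map_span] at hx'
    obtain ⟨y, hy, hyx⟩ := (Ideal.mem_map_iff_of_surjective q hqs).1 hx'
    have h2 : x - y ∈ I := by
      rw [← Ideal.Quotient.eq_zero_iff_mem, map_sub, ← hq, hyx, sub_self]
    have h3 : x - y ∈ maximalIdeal A • maximalIdeal A := by
      rw [smul_eq_mul, ← pow_two]; exact hI h2
    have : x = y + (x - y) := by ring
    rw [this]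
    exact Submodule.add_mem_sup hy h3
  have hle2 : maximalIdeal A ≤ Ideal.span (T : Set A) :=
    Submodule.le_of_le_smul_of_le_jacobson_bot (IsNoetherian.noetherian _)
      (by rw [IsLocalRing.jacobson_eq_maximalIdeal ⊥ bot_ne_top]) hle
  have heq : maximalIdeal A = Ideal.span (T : Set A) := le_antisymm hle2 hTm
  calc (maximalIdeal A).spanFinrank = (Ideal.span (T : Set A)).spanFinrank := by rw [← heq]
    _ ≤ (T : Set A).ncard := Submodule.spanFinrank_span_le_ncard_of_finite T.finite_toSet
    _ = T.card := Set.ncard_coe_finset T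
    _ ≤ S.card := Finset.card_image_le
    _ = _ := hcard

end Groth.Agent.Lib.Helper6.RegQuot
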