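import Mathlib
import Groth.Agent.Lib.Helper6RegQuotA

set_option autoImplicit false
universe u

namespace Groth.Agent.Lib.Helper6.RegQuot

open IsLocalRing Groth.Agent.Lib

/-- If `A` and `A/I` are regular local rings then `I ∩ m² ⊆ m I`
(so `I` is generated by part of a regular system of parameters). -/
theorem inf_sq_le_of_isRegularLocalRing_quot (d : ℕ) :
    ∀ (A : Type u) [CommRing A] [IsRegularLocalRing A],
      (maximalIdeal A).spanFinrank ≤ d → ∀ I : Ideal A, I ≤ maximalIdeal A →
      IsRegularLocalRing (A ⧸ I) → I ⊓ (maximalIdeal A) ^ 2 ≤ maximalIdeal A * I := by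
  induction d with
  | zero =>
    intro A _ _ hd I hI _
    have hm : maximalIdeal A = ⊥ := by
      rw [← Submodule.spanFinrank_eq_zero_iff_eq_bot (IsNoetherian.noetherian _)]
      omega
    have hI0 : I = ⊥ := by rw [hm] at hI; exact le_bot_iff.1 hI
    subst hI0
    simp
  | succ d ih =>
    intro A _ _ hd I hI hreg
    by_cases hI2 : I ≤ maximalIdeal A ^ 2
    · -- then `I = ⊥`
      haveI : IsDomain A := Helper5.isDomain_of_isRegularLocalRing A
      have h1 := spanFinrank_maximalIdeal_le_of_le_sq I hI2
      have h2 : ringKrullDim (A ⧸ I) = ringKrullDim A := by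
        apply le_antisymm (ringKrullDim_quotient_le I)
        rw [← IsRegularLocalRing.spanFinrank_maximalIdeal (R := A),
          ← IsRegularLocalRing.spanFinrank_maximalIdeal (R := A ⧸ I)]
        exact_mod_cast h1
      have hI0 := eq_bot_of_ringKrullDim_quotient_eq I h2
      subst hI0
      simp
    · obtain ⟨y, hyI, hym2⟩ := SetLike.not_le_iff_exists.1 hI2
      have hym : y ∈ maximalIdeal A := hI hyI
      haveI : IsLocalRing (A ⧸ Ideal.span {y}) :=
        Helper19.isLocalRing_quot_of_le_maximalIdeal _
          ((Ideal.span_singleton_le_iff_mem _).2 hym)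
      obtain ⟨hreg1, hrank⟩ := Helper19.isRegularLocalRing_quot_singleton hym hym2
      haveI := hreg1
      set q := Ideal.Quotient.mk (Ideal.span {y}) with hq
      have hqs : Function.Surjective q := Ideal.Quotient.mk_surjective
      have hmm : maximalIdeal (A ⧸ Ideal.span {y}) = (maximalIdeal A).map q :=
        FixReg.maximalIdeal_eq_map_of_surjective q hqs
      have hyle : Ideal.span {y} ≤ I := (Ideal.span_singleton_le_iff_mem _).2 hyI
      have hreg2 : IsRegularLocalRing ((A ⧸ Ideal.span {y}) ⧸ I.map q) :=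
        IsRegularLocalRing.of_ringEquiv (DoubleQuot.quotQuotEquivQuotOfLE hyle).symm
      have key := ih (A ⧸ Ideal.span {y}) (by omega) (I.map q)
        (by rw [hmm]; exact Ideal.map_mono hI) hreg2
      rintro x ⟨hxI, hx2⟩
      have h1 : q x ∈ I.map q ⊓ maximalIdeal (A ⧸ Ideal.span {y}) ^ 2 := by
        refine ⟨Ideal.mem_map_of_mem q hxI, ?_⟩
        rw [hmm, ← Ideal.map_pow]
        exact Ideal.mem_map_of_mem q hx2
      have h2 := key h1
      rw [hmm, ← Ideal.map_mul] at h2
      obtain ⟨z, hz, hzx⟩ := (Ideal.mem_map_iff_of_surjective q hqs).1 h2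
      have h3 : x - z ∈ Ideal.span {y} := by
        rw [← Ideal.Quotient.eq_zero_iff_mem, map_sub, ← hq, hzx, sub_self]
      obtain ⟨a, ha⟩ := Ideal.mem_span_singleton'.1 h3
      have hz2 : z ∈ maximalIdeal A ^ 2 := by
        rw [pow_two]; exact Ideal.mul_mono_right hI hz
      have hay2 : a * y ∈ maximalIdeal A ^ 2 := by
        rw [ha]; exact Ideal.sub_mem _ hx2 hz2
      have ham : a ∈ maximalIdeal A := by
        by_contra hna
        have hu : IsUnit a := IsLocalRing.notMem_maximalIdeal.1 hna
        apply hym2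
        have : y = ↑(hu.unit⁻¹) * (a * y) := by
          rw [← mul_assoc, IsUnit.val_inv_mul, one_mul]
        rw [this]
        exact Ideal.mul_mem_left _ _ hay2
      have : x = z + a * y := by rw [ha]; ring
      rw [this]
      exact Ideal.add_mem _ hz (Ideal.mul_mem_mul ham hyI)

theorem inf_sq_le_of_isRegularLocalRing_quot' (A : Type u) [CommRing A] [IsRegularLocalRing A]
    (I : Ideal A) (hI : I ≤ maximalIdeal A) (h : IsRegularLocalRing (A ⧸ I)) :
    I ⊓ (maximalIdeal A) ^ 2 ≤ maximalIdeal A * I :=
  inf_sq_le_of_isRegularLocalRing_quot _ A le_rfl I hI h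

end Groth.Agent.Lib.Helper6.RegQuot
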