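import Mathlib
import Groth.Agent.Lib.Helper6RegQuot

set_option autoImplicit false
universe u

namespace Groth.Agent.Lib.Helper6.RegSm

open IsLocalRing TensorProduct KaehlerDifferential Groth.Agent.Lib.Helper6.RegQuot

/-- every element of `K ⊗[A] N` is of the form `1 ⊗ x` if `A → K` is surjective. -/
theorem exists_one_tmul {A K N : Type*} [CommRing A] [CommRing K] [Algebra A K]
    [AddCommGroup N] [Module A N] (hs : Function.Surjective (algebraMap A K)) (t : K ⊗[A] N) :
    ∃ x : N, t = (1 : K) ⊗ₜ[A] x := by
  induction t using TensorProduct.induction_on with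
  | zero => exact ⟨0, by simp⟩
  | tmul c x =>
    obtain ⟨a, rfl⟩ := hs c
    refine ⟨a • x, ?_⟩
    rw [TensorProduct.tmul_smul, TensorProduct.smul_tmul', Algebra.algebraMap_eq_smul_one]
  | add t₁ t₂ h₁ h₂ =>
    obtain ⟨x, rfl⟩ := h₁
    obtain ⟨y, rfl⟩ := h₂
    exact ⟨x + y, by rw [TensorProduct.tmul_add]⟩

variable {k : Type u} [Field k] {A R : Type u}
    [CommRing A] [Algebra k A] [Algebra.EssFiniteType k A]
    [Algebra.FormallySmooth k A] [IsRegularLocalRing A]
    [CommRing R] [IsRegularLocalRing R] [Algebra k R] [Algebra A R] [IsScalarTower k A R]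

/-- **Regular + separable residue field implies formally smooth** (local form): a regular local
quotient `R` of a regular, formally smooth, essentially finite type local `k`-algebra `A`
is formally smooth over `k` as soon as its residue field is. -/
theorem formallySmooth_of_isRegularLocalRing_quot
    (hsurj : Function.Surjective (algebraMap A R))
    [hK : Algebra.FormallySmooth k (ResidueField R)] : Algebra.FormallySmooth k R := by
  haveI : IsNoetherianRing A := inferInstance
  haveI : Module.Finite A Ω[A⁄k] := inferInstance
  haveI : Module.Free A Ω[A⁄k] := Module.free_of_flat_of_isLocalRing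
  rw [Algebra.FormallySmooth.iff_injective_cotangentComplexBaseChange_residueField A hsurj
    (IsNoetherian.noetherian _)]
  have hsurjK : Function.Surjective (algebraMap A (ResidueField R)) := by
    rw [IsScalarTower.algebraMap_eq A R (ResidueField R)]
    exact (residue_surjective (R := R)).comp hsurj
  -- the kernel of `A → K` is the maximal ideal
  haveI hloc : IsLocalHom (algebraMap A R) := IsLocalHom.of_surjective _ hsurj
  have hkerK : RingHom.ker (algebraMap A (ResidueField R)) = maximalIdeal A := by
    ext x
    rw [RingHom.mem_ker, IsScalarTower.algebraMap_apply A R (ResidueField R),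
      ResidueField.algebraMap_eq, residue_eq_zero_iff]
    constructor
    · intro h
      rw [mem_maximalIdeal, mem_nonunits_iff] at h ⊢
      exact fun hu => h (hu.map _)
    · intro h
      rw [mem_maximalIdeal, mem_nonunits_iff] at h ⊢
      exact fun hu => h (isUnit_of_map_unit (algebraMap A R) x hu)
  -- `I ≤ m`
  have hIm : RingHom.ker (algebraMap A R) ≤ maximalIdeal A := by
    intro x hx
    rw [mem_maximalIdeal, mem_nonunits_iff]
    intro hu
    have := hu.map (algebraMap A R)
    rw [RingHom.mem_ker.mp hx] at this
    exact not_isUnit_zero this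
  -- Claim A
  have hregq : IsRegularLocalRing (A ⧸ RingHom.ker (algebraMap A R)) :=
    IsRegularLocalRing.of_ringEquiv (RingHom.quotientKerEquivOfSurjective hsurj).symm
  have hA := inf_sq_le_of_isRegularLocalRing_quot' A (RingHom.ker (algebraMap A R)) hIm hregq
  -- injectivity of `m/m² → K ⊗ Ω`
  obtain ⟨l, hl⟩ := (Algebra.FormallySmooth.iff_split_injection (R := k) (P := A)
    (A := ResidueField R) hsurjK).mp hK
  have hinjK : Function.Injective (kerCotangentToTensor k A (ResidueField R)) :=
    Function.LeftInverse.injective (g := l) (fun x => by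
      have := congr($hl x); simpa using this)
  rw [injective_iff_map_eq_zero]
  intro t ht
  obtain ⟨g, rfl⟩ := exists_one_tmul hsurjK t
  rw [cotangentComplexBaseChange_tmul, one_smul] at ht
  -- `g ∈ m²`
  have hgK : g.1 ∈ RingHom.ker (algebraMap A (ResidueField R)) := by
    rw [hkerK]; exact hIm g.2
  have h1 : kerCotangentToTensor k A (ResidueField R) (Ideal.toCotangent _ ⟨g.1, hgK⟩) = 0 := by
    rw [kerCotangentToTensor_toCotangent]
    rw [kerToTensor_apply] at ht
    exact ht
  have h2 : Ideal.toCotangent _ (⟨g.1, hgK⟩ : RingHom.ker (algebraMap A (ResidueField R))) = 0 :=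
    hinjK (by rw [h1, map_zero])
  rw [Ideal.toCotangent_eq_zero] at h2
  replace h2 : g.1 ∈ maximalIdeal A ^ 2 := by
    have h2' : g.1 ∈ RingHom.ker (algebraMap A (ResidueField R)) ^ 2 := h2
    rwa [hkerK] at h2'
  have h3 : g.1 ∈ maximalIdeal A * RingHom.ker (algebraMap A R) := hA ⟨g.2, h2⟩
  -- conclude `1 ⊗ g = 0`
  have h4 : g ∈ maximalIdeal A • (⊤ : Submodule A (RingHom.ker (algebraMap A R))) := by
    rw [Submodule.mem_smul_top_iff]
    exact h3
  have h5 : maximalIdeal A • (⊤ : Submodule A (RingHom.ker (algebraMap A R))) ≤
      LinearMap.ker (TensorProduct.mk A (ResidueField R) (RingHom.ker (algebraMap A R)) 1) := by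
    rw [Submodule.smul_le]
    intro m hm i _
    rw [LinearMap.mem_ker, map_smul, TensorProduct.mk_apply, TensorProduct.smul_tmul',
      ← Algebra.algebraMap_eq_smul_one]
    have : algebraMap A (ResidueField R) m = 0 := by
      rw [← RingHom.mem_ker, hkerK]; exact hm
    rw [this, TensorProduct.zero_tmul]
  exact h5 h4

end Groth.Agent.Lib.Helper6.RegSm
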