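import Mathlib
import Groth.Agent.Lib.Helper6RegSm
import Groth.Agent.Lib.Helper6SmReg

set_option autoImplicit false
universe u

namespace Groth.Agent.Lib.Helper6.RegSm

open IsLocalRing

/-- **Regular + separable residue field ⇒ smooth** at a prime of a finite type algebra over a field. -/
theorem isSmoothAt_of_isRegularLocalRing (k : Type u) [Field k] (S : Type u) [CommRing S]
    [Algebra k S] [Algebra.FiniteType k S] (q : Ideal S) [q.IsPrime]
    [hK : Algebra.FormallySmooth k q.ResidueField]
    [hreg : IsRegularLocalRing (Localization.AtPrime q)] : Algebra.IsSmoothAt k q := by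
  obtain ⟨n, f, hf⟩ := (Algebra.FiniteType.iff_quotient_mvPolynomial'' (R := k) (S := S)).mp
    inferInstance
  let 𝔫 : Ideal (MvPolynomial (Fin n) k) := q.comap f.toRingHom
  haveI : 𝔫.IsPrime := Ideal.comap_isPrime f.toRingHom q
  let φ : Localization.AtPrime 𝔫 →+* Localization.AtPrime q :=
    Localization.localRingHom 𝔫 q f.toRingHom rfl
  letI : Algebra (Localization.AtPrime 𝔫) (Localization.AtPrime q) := φ.toAlgebra
  haveI : IsScalarTower k (Localization.AtPrime 𝔫) (Localization.AtPrime q) := by
    refine IsScalarTower.of_algebraMap_eq (fun c => ?_)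
    rw [RingHom.algebraMap_toAlgebra,
      IsScalarTower.algebraMap_apply k (MvPolynomial (Fin n) k) (Localization.AtPrime 𝔫),
      Localization.localRingHom_to_map, IsScalarTower.algebraMap_apply k S (Localization.AtPrime q)]
    simp
  have hsurj : Function.Surjective (algebraMap (Localization.AtPrime 𝔫) (Localization.AtPrime q)) := by
    intro y
    obtain ⟨s, t, rfl⟩ := IsLocalization.exists_mk'_eq q.primeCompl y
    obtain ⟨a, rfl⟩ := hf s
    obtain ⟨b, hb⟩ := hf t.1
    have hb' : b ∈ 𝔫.primeCompl := by
      intro hmem
      have : f b ∈ q := hmem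
      rw [hb] at this
      exact t.2 this
    refine ⟨IsLocalization.mk' _ a ⟨b, hb'⟩, ?_⟩
    rw [RingHom.algebraMap_toAlgebra]
    change Localization.localRingHom 𝔫 q f.toRingHom rfl _ = _
    rw [Localization.localRingHom_mk']
    congr 1
    exact Subtype.ext hb
  haveI : Algebra.FormallySmooth k (Localization.AtPrime 𝔫) :=
    Algebra.FormallySmooth.comp k (MvPolynomial (Fin n) k) _
  haveI : Algebra.FormallySmooth k (ResidueField (Localization.AtPrime q)) := hK
  exact formallySmooth_of_isRegularLocalRing_quot (k := k) (A := Localization.AtPrime 𝔫)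
    (R := Localization.AtPrime q) hsurj

/-- Smooth at `q` iff regular, when the residue field is formally smooth (separable). -/
theorem isSmoothAt_iff_isRegularLocalRing (k : Type u) [Field k] (S : Type u) [CommRing S]
    [Algebra k S] [Algebra.FiniteType k S] (q : Ideal S) [q.IsPrime]
    [hK : Algebra.FormallySmooth k q.ResidueField] :
    Algebra.IsSmoothAt k q ↔ IsRegularLocalRing (Localization.AtPrime q) := by
  haveI : Algebra.FinitePresentation k S :=
    (Algebra.FinitePresentation.of_finiteType (R := k) (A := S)).mp inferInstance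
  constructor
  · intro h
    exact Groth.Agent.Lib.Helper6.SmReg.isRegularLocalRing_of_isSmoothAt (R := k) q
  · intro h
    exact isSmoothAt_of_isRegularLocalRing k S q

end Groth.Agent.Lib.Helper6.RegSm
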