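import Mathlib
import Groth.Prelude.Def_Found
import Groth.Agent.Lib.Helper20SmoothDesc
import Groth.Agent.Lib.Helper6RegSm2
import Groth.Agent.S9408

set_option autoImplicit false
universe u

namespace Groth.Agent.Lib.Helper6.GeomRegSm

open TensorProduct IsLocalRing

attribute [local instance] Algebra.TensorProduct.rightAlgebra

/-- At a maximal ideal `𝔪` of a finite type algebra `F` over a field `κ`: if `K ⊗ F` is a regular
ring for `K = F/𝔪`, then `F` is smooth over `κ` at `𝔪`. -/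
theorem isSmoothAt_of_isRegularRing_tensor (κ F : Type u) [Field κ] [CommRing F] [Algebra κ F]
    [Algebra.FiniteType κ F] (𝔪 : Ideal F) [h𝔪 : 𝔪.IsMaximal]
    (hreg : IsRegularRing ((F ⧸ 𝔪) ⊗[κ] F)) : Algebra.IsSmoothAt κ 𝔪 := by
  letI : Field (F ⧸ 𝔪) := Ideal.Quotient.field 𝔪
  haveI : Algebra.FinitePresentation κ F :=
    (Algebra.FinitePresentation.of_finiteType (R := κ) (A := F)).mp inferInstance
  -- the rational point
  let ψ : (F ⧸ 𝔪) ⊗[κ] F →ₐ[F ⧸ 𝔪] (F ⧸ 𝔪) :=
    Algebra.TensorProduct.lift (AlgHom.id _ _) (Ideal.Quotient.mkₐ κ 𝔪) (fun _ _ => Commute.all _ _)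
  have hψsurj : Function.Surjective ψ := fun x => ⟨x ⊗ₜ 1, by simp [ψ]⟩
  let q' : Ideal ((F ⧸ 𝔪) ⊗[κ] F) := RingHom.ker ψ.toRingHom
  haveI hq'max : q'.IsMaximal := RingHom.ker_isMaximal_of_surjective ψ.toRingHom hψsurj
  haveI : q'.IsPrime := hq'max.isPrime
  -- comap
  have hcomap : q'.comap (algebraMap F ((F ⧸ 𝔪) ⊗[κ] F)) = 𝔪 := by
    ext x
    simp only [Ideal.mem_comap, q', RingHom.mem_ker]
    change ψ ((1 : F ⧸ 𝔪) ⊗ₜ[κ] x) = 0 ↔ _
    simp [ψ, Ideal.Quotient.eq_zero_iff_mem]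
  -- regular local ring
  haveI : IsRegularLocalRing (Localization.AtPrime q') := by
    exact (isRegularRing_iff.mp hreg) q'
  -- residue field
  have hbij : Function.Bijective (algebraMap (F ⧸ 𝔪) q'.ResidueField) := by
    refine ⟨RingHom.injective _, ?_⟩
    intro y
    obtain ⟨z, rfl⟩ := Ideal.bijective_algebraMap_quotient_residueField q' |>.2 y
    obtain ⟨w, rfl⟩ := Ideal.Quotient.mk_surjective z
    refine ⟨ψ w, ?_⟩
    have : Ideal.Quotient.mk q' (algebraMap (F ⧸ 𝔪) _ (ψ w)) = Ideal.Quotient.mk q' w := by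
      rw [Ideal.Quotient.eq]
      change ψ _ = 0
      rw [map_sub, AlgHom.commutes]
      simp
    rw [← this]
    rfl
  haveI : Algebra.FormallySmooth (F ⧸ 𝔪) q'.ResidueField :=
    Algebra.FormallySmooth.of_equiv (AlgEquiv.ofBijective (Algebra.ofId (F ⧸ 𝔪) _) hbij)
  have hsm : Algebra.IsSmoothAt (F ⧸ 𝔪) q' :=
    (Groth.Agent.Lib.Helper6.RegSm.isSmoothAt_iff_isRegularLocalRing (F ⧸ 𝔪)
      ((F ⧸ 𝔪) ⊗[κ] F) q').mpr inferInstance
  have := Groth.Agent.Lib.Helper20.SmoothDesc.isSmoothAt_of_flat_tensor κ F (F ⧸ 𝔪) q' hsm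
  exact Groth.Agent.Lib.Helper20.SmoothDesc.isSmoothAt_congr _ _ hcomap this

/-- A finite type algebra over a field which is geometrically regular (regular after every finite
field extension) is smooth. -/
theorem formallySmooth_of_isGeometricallyRegular (κ F : Type u) [Field κ] [CommRing F]
    [Algebra κ F] [Algebra.FinitePresentation κ F]
    (H : CAlg.IsGeometricallyRegular κ F) : Algebra.FormallySmooth κ F := by
  rw [← Algebra.smoothLocus_eq_univ_iff]
  by_contra hne
  have hopen : IsOpen (Algebra.smoothLocus κ F) := Algebra.isOpen_smoothLocus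
  obtain ⟨I, hI⟩ := (PrimeSpectrum.isClosed_iff_zeroLocus_ideal _).mp hopen.isClosed_compl
  have hIne : I ≠ ⊤ := by
    rintro rfl
    apply hne
    rw [Submodule.top_coe, PrimeSpectrum.zeroLocus_univ] at hI
    exact Set.compl_empty_iff.mp hI
  obtain ⟨𝔪, h𝔪, hI𝔪⟩ := Ideal.exists_le_maximal I hIne
  have hmem : (⟨𝔪, h𝔪.isPrime⟩ : PrimeSpectrum F) ∈ (Algebra.smoothLocus κ F)ᶜ := by
    rw [hI]
    exact hI𝔪
  apply hmem
  letI : Field (F ⧸ 𝔪) := Ideal.Quotient.field 𝔪
  haveI : Module.Finite κ (F ⧸ 𝔪) := finite_of_finite_type_of_isJacobsonRing κ (F ⧸ 𝔪)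
  have hreg := H (F ⧸ 𝔪) inferInstance
  exact isSmoothAt_of_isRegularRing_tensor κ F 𝔪 hreg

theorem smooth_iff_flat_and_geomRegular (A B : Type u) [CommRing A] [CommRing B]
    [Algebra A B] [Algebra.FinitePresentation A B] :
    Algebra.Smooth A B ↔
      Module.Flat A B ∧ ∀ (p : Ideal A) [p.IsPrime],
        CAlg.IsGeometricallyRegular p.ResidueField (p.Fiber B) := by
  constructor
  · intro h
    refine ⟨inferInstance, fun p _ k' _ _ hfin => ?_⟩
    haveI : Algebra.Smooth p.ResidueField (p.Fiber B) := inferInstance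
    haveI : Algebra.Smooth k' (k' ⊗[p.ResidueField] (p.Fiber B)) := inferInstance
    exact Groth.Agent.S9408.isRegularRing_of_smooth k' _
  · rintro ⟨hflat, H⟩
    apply Algebra.Smooth.of_formallySmooth_fiber
    intro p _
    haveI : Algebra.FinitePresentation p.ResidueField (p.Fiber B) := inferInstance
    exact formallySmooth_of_isGeometricallyRegular _ _ (H p)

end Groth.Agent.Lib.Helper6.GeomRegSm
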