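import Mathlib
import Groth.Prelude.Def_Found
import Groth.Prelude.Def_EGA4b
import Groth.Agent.Lib.Helper6GeomBC
import Groth.Agent.Lib.Helper6GeomRegSm
import Groth.Agent.Lib.Helper28FormalFibres
import Groth.Agent.Lib.Helper28GeomFibre

set_option autoImplicit false

open TensorProduct

namespace Groth.Agent.Lib.Helper6.GeomTensor

universe u

section

variable (k S T : Type u) [Field k] [CommRing S] [CommRing T] [Algebra k S] [Algebra k T]

/-- fibres of `S → S ⊗[k] T` -/
noncomputable def fiberEquiv (p : Ideal S) [p.IsPrime] :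
    p.Fiber (S ⊗[k] T) ≃+* p.ResidueField ⊗[k] T :=
  (Algebra.TensorProduct.cancelBaseChange k S p.ResidueField p.ResidueField T).toRingEquiv

/-- `k' ⊗ (S ⊗ T) ≃ (k' ⊗ S) ⊗ T` -/
noncomputable def assocEquiv (k' : Type u) [Field k'] [Algebra k k'] :
    (k' ⊗[k] S) ⊗[k] T ≃+* k' ⊗[k] (S ⊗[k] T) :=
  (Algebra.TensorProduct.assoc k k k k' S T).toRingEquiv

theorem isNoetherianRing_tensor_finite (k' : Type u) [Field k'] [Algebra k k'] [Module.Finite k k']
    (R : Type u) [CommRing R] [Algebra k R] [IsNoetherianRing R] : IsNoetherianRing (k' ⊗[k] R) := by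
  haveI : Algebra.EssFiniteType R (R ⊗[k] k') := inferInstance
  haveI hN1 : IsNoetherianRing (R ⊗[k] k') := Algebra.EssFiniteType.isNoetherianRing R _
  exact isNoetherianRing_of_ringEquiv _ (Algebra.TensorProduct.comm k R k').toRingEquiv

theorem normal_tensor [IsNoetherianRing S] [IsNoetherianRing (S ⊗[k] T)]
    (hS : EGA4.IsNormalRing S) (hT : EGA4.IsGeomNormal k T) : EGA4.IsNormalRing (S ⊗[k] T) := by
  refine Groth.Agent.Lib.Helper28.isNormalRing_of_flat_of_forall_isNormalRing_fiber
    (A := S) (B := S ⊗[k] T) hS fun p _ => ?_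
  have h1 : EGA4.IsNormalRing (p.ResidueField ⊗[k] T) :=
    Groth.Agent.Lib.Helper6.GeomBC.normal_of_purelyInseparable_field k T p.ResidueField
      (fun k' _ _ hfin _ => hT k' hfin)
  exact Groth.Agent.Lib.Helper6.SepNorm.isNormalRing_of_ringEquiv (fiberEquiv k S T p).symm h1

theorem geomNormal_tensor [IsNoetherianRing S] [IsNoetherianRing (S ⊗[k] T)]
    (hS : EGA4.IsGeomNormal k S) (hT : EGA4.IsGeomNormal k T) :
    EGA4.IsGeomNormal k (S ⊗[k] T) := by
  intro k' _ _ hfin
  haveI : IsNoetherianRing (k' ⊗[k] S) := isNoetherianRing_tensor_finite k k' S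
  haveI : IsNoetherianRing (k' ⊗[k] (S ⊗[k] T)) := isNoetherianRing_tensor_finite k k' _
  haveI : IsNoetherianRing ((k' ⊗[k] S) ⊗[k] T) :=
    isNoetherianRing_of_ringEquiv _ (assocEquiv k S T k').symm
  exact Groth.Agent.Lib.Helper6.SepNorm.isNormalRing_of_ringEquiv (assocEquiv k S T k')
    (normal_tensor k (k' ⊗[k] S) T (hS k' hfin) hT)

theorem main2693 [IsNoetherianRing S] [IsNoetherianRing T]
    (hft : Algebra.FiniteType k S ∨ Algebra.FiniteType k T) [IsNoetherianRing (S ⊗[k] T)] :
    (EGA4.IsNormalRing S → EGA4.IsGeomNormal k T → EGA4.IsNormalRing (S ⊗[k] T)) ∧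
      (EGA4.IsGeomNormal k S → EGA4.IsGeomNormal k T → EGA4.IsGeomNormal k (S ⊗[k] T)) :=
  ⟨normal_tensor k S T, geomNormal_tensor k S T⟩

theorem regular_tensor [IsNoetherianRing S] [IsNoetherianRing T] [IsNoetherianRing (S ⊗[k] T)]
    (hft : Algebra.EssFiniteType k S ∨ Algebra.FiniteType k T)
    [IsRegularRing S] (hT : CAlg.IsGeometricallyRegular k T) : IsRegularRing (S ⊗[k] T) := by
  rcases hft with hS | hTft
  · refine Groth.Agent.Lib.Helper28.isRegularRing_of_flat_of_forall_isRegularRing_fiber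
      (A := S) (B := S ⊗[k] T) fun p _ => ?_
    haveI : Algebra.EssFiniteType k p.ResidueField := Algebra.EssFiniteType.comp k S p.ResidueField
    haveI h1 : IsRegularRing (p.ResidueField ⊗[k] T) :=
      (Groth.Agent.Lib.Helper6.GeomBC.main2672 k T).2.mp hT p.ResidueField inferInstance
    exact IsRegularRing.of_ringEquiv (fiberEquiv k S T p).symm
  · haveI : Algebra.FinitePresentation k T :=
      (Algebra.FinitePresentation.of_finiteType (R := k) (A := T)).mp inferInstance
    haveI : Algebra.FormallySmooth k T :=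
      Groth.Agent.Lib.Helper6.GeomRegSm.formallySmooth_of_isGeometricallyRegular k T hT
    haveI : Algebra.FormallySmooth S (S ⊗[k] T) := inferInstance
    exact Groth.Agent.Lib.Helper6.SepBC.isRegularRing_of_formallySmooth S (S ⊗[k] T)

theorem geomRegular_tensor [IsNoetherianRing S] [IsNoetherianRing T]
    [IsNoetherianRing (S ⊗[k] T)]
    (hft : Algebra.EssFiniteType k S ∨ Algebra.FiniteType k T)
    (hS : CAlg.IsGeometricallyRegular k S) (hT : CAlg.IsGeometricallyRegular k T) :
    CAlg.IsGeometricallyRegular k (S ⊗[k] T) := by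
  intro k' _ _ hfin
  haveI : IsNoetherianRing (k' ⊗[k] S) := isNoetherianRing_tensor_finite k k' S
  haveI : IsNoetherianRing (k' ⊗[k] (S ⊗[k] T)) := isNoetherianRing_tensor_finite k k' _
  haveI : IsNoetherianRing ((k' ⊗[k] S) ⊗[k] T) :=
    isNoetherianRing_of_ringEquiv _ (assocEquiv k S T k').symm
  haveI : IsRegularRing (k' ⊗[k] S) := hS k' hfin
  have hft' : Algebra.EssFiniteType k (k' ⊗[k] S) ∨ Algebra.FiniteType k T := by
    rcases hft with h | h
    · left
      haveI : Algebra.EssFiniteType k' (k' ⊗[k] S) := inferInstance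
      exact Algebra.EssFiniteType.comp k k' (k' ⊗[k] S)
    · exact Or.inr h
  haveI := regular_tensor k (k' ⊗[k] S) T hft' hT
  exact IsRegularRing.of_ringEquiv (assocEquiv k S T k')

theorem main2692 [IsNoetherianRing S] [IsNoetherianRing T]
    (hft : Algebra.FiniteType k S ∨ Algebra.FiniteType k T) [IsNoetherianRing (S ⊗[k] T)] :
    (IsRegularRing S → CAlg.IsGeometricallyRegular k T → IsRegularRing (S ⊗[k] T)) ∧
      (CAlg.IsGeometricallyRegular k S → CAlg.IsGeometricallyRegular k T →
        CAlg.IsGeometricallyRegular k (S ⊗[k] T)) := by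
  have hft' : Algebra.EssFiniteType k S ∨ Algebra.FiniteType k T :=
    hft.imp (fun h => by haveI := h; infer_instance) id
  exact ⟨fun hS hT => regular_tensor k S T hft' hT, geomRegular_tensor k S T hft'⟩

end

end Groth.Agent.Lib.Helper6.GeomTensor
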