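import Mathlib
import Groth.Prelude.Def_Found
import Groth.Prelude.Def_EGA4b
import Groth.Agent.Lib.Helper6GeomBC
import Groth.Agent.Lib.Helper6GeomTensor
import Groth.Agent.Lib.Helper6GeomRegSm
import Groth.Agent.Lib.Helper28FibreTrans
import Groth.Agent.S9408

set_option autoImplicit false

open TensorProduct

namespace Groth.Agent.Lib.Helper6.HomBC

universe u

section FieldBC

variable (k S K : Type u) [Field k] [CommRing S] [Algebra k S] [Field K] [Algebra k K]

/-- geometric normality is stable under ARBITRARY field extension of the base. -/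
theorem geomNormal_baseChange (h : EGA4.IsGeomNormal k S) : EGA4.IsGeomNormal K (K ⊗[k] S) := by
  intro K'' _ _ hfin
  letI : Algebra k K'' := ((algebraMap K K'').comp (algebraMap k K)).toAlgebra
  haveI : IsScalarTower k K K'' := IsScalarTower.of_algebraMap_eq fun _ => rfl
  have h1 : EGA4.IsNormalRing (K'' ⊗[k] S) :=
    Groth.Agent.Lib.Helper6.GeomBC.normal_of_purelyInseparable_field k S K''
      (fun k' _ _ hfin _ => h k' hfin)
  exact Groth.Agent.Lib.Helper6.SepNorm.isNormalRing_of_ringEquiv
    (Algebra.TensorProduct.cancelBaseChange k K K'' K'' S).toRingEquiv.symm h1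

/-- geometric normality descends along arbitrary field extension of the base. -/
theorem geomNormal_of_baseChange (h : EGA4.IsGeomNormal K (K ⊗[k] S)) : EGA4.IsGeomNormal k S := by
  intro k'' _ _ hfin
  obtain ⟨L, _, _, _, _, ht1, ht2, hL⟩ := Groth.Agent.Lib.Helper6.GeomBC.exists_compositum k K k''
  exact Groth.Agent.Lib.Helper6.GeomBC.normal_descent k K k'' L S (h L hL)

/-- geometric regularity descends along arbitrary field extension of the base. -/
theorem geomRegular_of_baseChange (h : CAlg.IsGeometricallyRegular K (K ⊗[k] S)) :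
    CAlg.IsGeometricallyRegular k S := by
  intro k'' _ _ hfin
  obtain ⟨L, _, _, _, _, ht1, ht2, hL⟩ := Groth.Agent.Lib.Helper6.GeomBC.exists_compositum k K k''
  exact Groth.Agent.Lib.Helper6.GeomBC.regular_descent k K k'' L S (h L hL)

theorem geomRegular_baseChange_of_essFiniteType [IsNoetherianRing S] [Algebra.EssFiniteType k K]
    (h : CAlg.IsGeometricallyRegular k S) : CAlg.IsGeometricallyRegular K (K ⊗[k] S) :=
  (Groth.Agent.Lib.Helper6.GeomBC.main2674 k S K).mp h

theorem geomRegular_baseChange_of_finiteType [Algebra.FiniteType k S]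
    (h : CAlg.IsGeometricallyRegular k S) : CAlg.IsGeometricallyRegular K (K ⊗[k] S) := by
  haveI : Algebra.FinitePresentation k S :=
    (Algebra.FinitePresentation.of_finiteType (R := k) (A := S)).mp inferInstance
  haveI : Algebra.FormallySmooth k S :=
    Groth.Agent.Lib.Helper6.GeomRegSm.formallySmooth_of_isGeometricallyRegular k S h
  haveI : Algebra.Smooth k S := ⟨inferInstance, inferInstance⟩
  intro K'' _ _ hfin
  letI : Algebra k K'' := ((algebraMap K K'').comp (algebraMap k K)).toAlgebra
  haveI : IsScalarTower k K K'' := IsScalarTower.of_algebraMap_eq fun _ => rfl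
  haveI : Algebra.Smooth K'' (K'' ⊗[k] S) := inferInstance
  haveI : IsRegularRing K'' := inferInstance
  haveI h1 : IsRegularRing (K'' ⊗[k] S) :=
    Groth.Agent.S9408.isRegularRing_of_smooth K'' (K'' ⊗[k] S)
  exact IsRegularRing.of_ringEquiv
    (Algebra.TensorProduct.cancelBaseChange k K K'' K'' S).toRingEquiv.symm

end FieldBC

section Transfer

variable {K R R' : Type u} [Field K] [CommRing R] [CommRing R'] [Algebra K R] [Algebra K R']

theorem geomNormal_of_algEquiv (e : R ≃ₐ[K] R') (h : EGA4.IsGeomNormal K R) :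
    EGA4.IsGeomNormal K R' := by
  intro K'' _ _ hfin
  exact Groth.Agent.Lib.Helper6.SepNorm.isNormalRing_of_ringEquiv
    (Algebra.TensorProduct.congr (AlgEquiv.refl : K'' ≃ₐ[K] K'') e).toRingEquiv (h K'' hfin)

theorem geomRegular_of_algEquiv (e : R ≃ₐ[K] R') (h : CAlg.IsGeometricallyRegular K R) :
    CAlg.IsGeometricallyRegular K R' := by
  intro K'' _ _ hfin
  haveI := h K'' hfin
  exact IsRegularRing.of_ringEquiv
    (Algebra.TensorProduct.congr (AlgEquiv.refl : K'' ≃ₐ[K] K'') e).toRingEquiv

end Transfer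

section HomBC

variable (A B A' : Type u) [CommRing A] [CommRing B] [CommRing A'] [Algebra A B] [Algebra A A']
  (p : Ideal A) [p.IsPrime] (P : Ideal A') [P.IsPrime] [P.LiesOver p]

theorem geomNormal_fiber_iff :
    EGA4.IsGeomNormal P.ResidueField (P.Fiber (A' ⊗[A] B)) ↔
      EGA4.IsGeomNormal p.ResidueField (p.Fiber B) := by
  let := Localization.AtPrime.algebraOfLiesOver p P
  let e : P.Fiber (A' ⊗[A] B) ≃ₐ[P.ResidueField] P.ResidueField ⊗[p.ResidueField] (p.Fiber B) :=
    (Algebra.TensorProduct.cancelBaseChange _ _ _ _ _).trans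
      (Algebra.TensorProduct.cancelBaseChange _ _ _ _ _).symm
  constructor
  · intro h
    exact geomNormal_of_baseChange p.ResidueField (p.Fiber B) P.ResidueField
      (geomNormal_of_algEquiv e h)
  · intro h
    exact geomNormal_of_algEquiv e.symm
      (geomNormal_baseChange p.ResidueField (p.Fiber B) P.ResidueField h)

theorem geomRegular_fiber_of
    (h : CAlg.IsGeometricallyRegular P.ResidueField (P.Fiber (A' ⊗[A] B))) :
    CAlg.IsGeometricallyRegular p.ResidueField (p.Fiber B) := by
  let := Localization.AtPrime.algebraOfLiesOver p P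
  let e : P.Fiber (A' ⊗[A] B) ≃ₐ[P.ResidueField] P.ResidueField ⊗[p.ResidueField] (p.Fiber B) :=
    (Algebra.TensorProduct.cancelBaseChange _ _ _ _ _).trans
      (Algebra.TensorProduct.cancelBaseChange _ _ _ _ _).symm
  exact geomRegular_of_baseChange p.ResidueField (p.Fiber B) P.ResidueField
    (geomRegular_of_algEquiv e h)

theorem geomRegular_fiber_bc (hft : Algebra.FiniteType A B ∨ Algebra.FiniteType A A')
    [IsNoetherianRing (p.Fiber B)]
    (h : CAlg.IsGeometricallyRegular p.ResidueField (p.Fiber B)) :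
    CAlg.IsGeometricallyRegular P.ResidueField (P.Fiber (A' ⊗[A] B)) := by
  let := Localization.AtPrime.algebraOfLiesOver p P
  let e : P.Fiber (A' ⊗[A] B) ≃ₐ[P.ResidueField] P.ResidueField ⊗[p.ResidueField] (p.Fiber B) :=
    (Algebra.TensorProduct.cancelBaseChange _ _ _ _ _).trans
      (Algebra.TensorProduct.cancelBaseChange _ _ _ _ _).symm
  have h2 : CAlg.IsGeometricallyRegular P.ResidueField
      (P.ResidueField ⊗[p.ResidueField] (p.Fiber B)) := by
    rcases hft with hB | hA'
    · haveI : Algebra.FiniteType p.ResidueField (p.Fiber B) := inferInstance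
      exact geomRegular_baseChange_of_finiteType p.ResidueField (p.Fiber B) P.ResidueField h
    · haveI : Algebra.EssFiniteType p.ResidueField P.ResidueField := inferInstance
      exact geomRegular_baseChange_of_essFiniteType p.ResidueField (p.Fiber B) P.ResidueField h
  exact geomRegular_of_algEquiv e.symm h2

end HomBC

section Mains

variable (A B A' : Type u) [CommRing A] [CommRing B] [CommRing A'] [Algebra A B] [Algebra A A']

theorem normalHom_baseChange (h : EGA4.IsNormalHom A B) : EGA4.IsNormalHom A' (A' ⊗[A] B) := by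
  obtain ⟨hflat, hfib⟩ := h
  refine ⟨inferInstance, fun P _ => ?_⟩
  haveI : P.LiesOver (P.under A) := ⟨rfl⟩
  exact (geomNormal_fiber_iff A B A' (P.under A) P).mpr (hfib (P.under A))

theorem flat_of_baseChange [Module.FaithfullyFlat A A'] [Module.Flat A' (A' ⊗[A] B)] :
    Module.Flat A B := by
  haveI : Module.Flat A (A' ⊗[A] B) := Module.Flat.trans A A' (A' ⊗[A] B)
  haveI : Module.Flat A (B ⊗[A] A') :=
    Module.Flat.of_linearEquiv (TensorProduct.comm A B A')
  haveI : Module.FaithfullyFlat B (B ⊗[A] A') := inferInstance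
  exact Groth.Agent.Lib.Helper28.flat_of_faithfullyFlat_of_flat_comp A B (B ⊗[A] A')

theorem normalHom_of_baseChange [Module.FaithfullyFlat A A']
    (h : EGA4.IsNormalHom A' (A' ⊗[A] B)) : EGA4.IsNormalHom A B := by
  obtain ⟨hflat, hfib⟩ := h
  refine ⟨flat_of_baseChange A B A', fun p _ => ?_⟩
  obtain ⟨P, hP, hPp⟩ := Ideal.exists_isPrime_liesOver_of_faithfullyFlat (B := A') p
  exact (geomNormal_fiber_iff A B A' p P).mp (hfib P)

theorem main4749 [IsNoetherianRing A] [IsNoetherianRing B] [IsNoetherianRing A']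
    (hft : Algebra.FiniteType A B ∨ Algebra.FiniteType A A') :
    (EGA4.IsNormalHom A B → EGA4.IsNormalHom A' (A' ⊗[A] B)) ∧
      (Module.FaithfullyFlat A A' → EGA4.IsNormalHom A' (A' ⊗[A] B) → EGA4.IsNormalHom A B) :=
  ⟨normalHom_baseChange A B A', fun _ h => normalHom_of_baseChange A B A' h⟩

theorem isNoetherianRing_tensor_of_finiteType [IsNoetherianRing B] [IsNoetherianRing A']
    (hft : Algebra.FiniteType A B ∨ Algebra.FiniteType A A') : IsNoetherianRing (A' ⊗[A] B) := by
  rcases hft with h | h
  · haveI : Algebra.FiniteType A' (A' ⊗[A] B) := inferInstance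
    exact Algebra.FiniteType.isNoetherianRing A' (A' ⊗[A] B)
  · haveI : Algebra.FiniteType B (B ⊗[A] A') := inferInstance
    haveI : IsNoetherianRing (B ⊗[A] A') := Algebra.FiniteType.isNoetherianRing B (B ⊗[A] A')
    exact isNoetherianRing_of_ringEquiv _ (Algebra.TensorProduct.comm A B A').toRingEquiv

theorem regularHom_baseChange [IsNoetherianRing B] [IsNoetherianRing A']
    (hft : Algebra.FiniteType A B ∨ Algebra.FiniteType A A') (h : CAlg.IsRegularHom A B) :
    CAlg.IsRegularHom A' (A' ⊗[A] B) := by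
  obtain ⟨hflat, hfib⟩ := h
  haveI := isNoetherianRing_tensor_of_finiteType A B A' hft
  refine ⟨inferInstance, fun P _ => ⟨Groth.Agent.Lib.Helper28.isNoetherianRing_fiber P, ?_⟩⟩
  haveI : P.LiesOver (P.under A) := ⟨rfl⟩
  haveI := (hfib (P.under A)).1
  exact geomRegular_fiber_bc A B A' (P.under A) P hft (hfib (P.under A)).2

theorem regularHom_of_baseChange [IsNoetherianRing B] [Module.FaithfullyFlat A A']
    (h : CAlg.IsRegularHom A' (A' ⊗[A] B)) : CAlg.IsRegularHom A B := by
  obtain ⟨hflat, hfib⟩ := h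
  refine ⟨flat_of_baseChange A B A', fun p _ =>
    ⟨Groth.Agent.Lib.Helper28.isNoetherianRing_fiber p, ?_⟩⟩
  obtain ⟨P, hP, hPp⟩ := Ideal.exists_isPrime_liesOver_of_faithfullyFlat (B := A') p
  exact geomRegular_fiber_of A B A' p P (hfib P).2

theorem main4695 [IsNoetherianRing A] [IsNoetherianRing B] [IsNoetherianRing A']
    (hft : Algebra.FiniteType A B ∨ Algebra.FiniteType A A') :
    (CAlg.IsRegularHom A B → CAlg.IsRegularHom A' (A' ⊗[A] B)) ∧
      (Module.FaithfullyFlat A A' → CAlg.IsRegularHom A' (A' ⊗[A] B) → CAlg.IsRegularHom A B) :=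
  ⟨regularHom_baseChange A B A' hft, fun _ h => regularHom_of_baseChange A B A' h⟩

end Mains

end Groth.Agent.Lib.Helper6.HomBC
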