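import Mathlib
import Groth.Prelude.Def_Found
import Groth.Prelude.Def_EGA4b
import Groth.Agent.Lib.Helper6HomBC

set_option autoImplicit false

open TensorProduct

namespace Groth.Agent.Lib.Helper6.HomBC

universe u

section

variable (A B A' : Type u) [CommRing A] [CommRing B] [CommRing A'] [Algebra A B] [Algebra A A']
  (p : Ideal A) [p.IsPrime] (P : Ideal A') [P.IsPrime] [P.LiesOver p]

theorem isNoetherianRing_fiber_bc [Algebra.FiniteType A A'] [IsNoetherianRing (p.Fiber B)] :
    IsNoetherianRing (P.Fiber (A' ⊗[A] B)) := by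
  let := Localization.AtPrime.algebraOfLiesOver p P
  let e : P.Fiber (A' ⊗[A] B) ≃ₐ[P.ResidueField] P.ResidueField ⊗[p.ResidueField] (p.Fiber B) :=
    (Algebra.TensorProduct.cancelBaseChange _ _ _ _ _).trans
      (Algebra.TensorProduct.cancelBaseChange _ _ _ _ _).symm
  haveI : Algebra.EssFiniteType p.ResidueField P.ResidueField := inferInstance
  haveI : Algebra.EssFiniteType (p.Fiber B) ((p.Fiber B) ⊗[p.ResidueField] P.ResidueField) :=
    inferInstance
  haveI : IsNoetherianRing ((p.Fiber B) ⊗[p.ResidueField] P.ResidueField) :=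
    Algebra.EssFiniteType.isNoetherianRing (p.Fiber B)
      ((p.Fiber B) ⊗[p.ResidueField] P.ResidueField)
  haveI : IsNoetherianRing (P.ResidueField ⊗[p.ResidueField] (p.Fiber B)) :=
    isNoetherianRing_of_ringEquiv _
      (Algebra.TensorProduct.comm p.ResidueField (p.Fiber B) P.ResidueField).toRingEquiv
  exact isNoetherianRing_of_ringEquiv _ e.symm.toRingEquiv

end

theorem main9293 (R Λ R' : Type u) [CommRing R] [CommRing Λ] [CommRing R']
    [Algebra R Λ] [Algebra R R'] [Algebra.FiniteType R R'] (h : CAlg.IsRegularHom R Λ) :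
    CAlg.IsRegularHom R' (R' ⊗[R] Λ) := by
  obtain ⟨hflat, hfib⟩ := h
  refine ⟨inferInstance, fun P _ => ?_⟩
  haveI : P.LiesOver (P.under R) := ⟨rfl⟩
  haveI := (hfib (P.under R)).1
  exact ⟨isNoetherianRing_fiber_bc R Λ R' (P.under R) P,
    geomRegular_fiber_bc R Λ R' (P.under R) P (Or.inr inferInstance) (hfib (P.under R)).2⟩

end Groth.Agent.Lib.Helper6.HomBC
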