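import Mathlib

/-!
# Zariski rings: TFAE for `I ≤ rad A` (helper19)
-/

set_option autoImplicit false
universe u

namespace Groth.Agent.Lib.Helper19

open Ideal

variable (A : Type u) [CommRing A] [IsNoetherianRing A] (I : Ideal A)

theorem le_of_le_jacobson_bot {I : Ideal A} (h : I ≤ (⊥ : Ideal A).jacobson) (m : Ideal A)
    [hm : m.IsMaximal] : I ≤ m := by
  refine h.trans ?_
  exact sInf_le ⟨bot_le, hm⟩

theorem le_jacobson_bot_of_forall_maximal {I : Ideal A}
    (h : ∀ m : Ideal A, m.IsMaximal → I ≤ m) : I ≤ (⊥ : Ideal A).jacobson := by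
  intro x hx
  exact Ideal.mem_sInf.mpr fun m hm => h m hm.2 hx

theorem faithfullyFlat_adicCompletion_of_le_jacobson (h : I ≤ (⊥ : Ideal A).jacobson) :
    Module.FaithfullyFlat A (AdicCompletion I A) := by
  refine ⟨fun m hm hmt => ?_⟩
  haveI := hm
  have hIm : I ≤ m := le_of_le_jacobson_bot A h m
  -- the A-linear surjection Â → A/I → A/m
  let φ : AdicCompletion I A →ₗ[A] A ⧸ m :=
    ((Ideal.Quotient.factorₐ A hIm).comp (AdicCompletion.evalOneₐ I)).toLinearMap
  have hφ : Function.Surjective φ :=
    (Ideal.Quotient.factor_surjective hIm).comp (AdicCompletion.evalOneₐ_surjective I)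
  have h1 : (m • (⊤ : Submodule A (AdicCompletion I A))).map φ = ⊥ := by
    rw [Submodule.map_smul'']
    rw [eq_bot_iff]
    intro y hy
    refine Submodule.smul_induction_on hy (fun r hr z _ => ?_) (fun y₁ y₂ h₁ h₂ => ?_)
    · obtain ⟨w, rfl⟩ := Ideal.Quotient.mk_surjective z
      rw [Submodule.mem_bot, Algebra.smul_def, Ideal.Quotient.algebraMap_eq, ← map_mul]
      exact Ideal.Quotient.eq_zero_iff_mem.mpr (m.mul_mem_right _ hr)
    · exact Submodule.add_mem _ h₁ h₂
  rw [hmt, Submodule.map_top, LinearMap.range_eq_top.mpr hφ] at h1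
  have : Nontrivial (A ⧸ m) := Ideal.Quotient.nontrivial_iff.mpr hm.ne_top
  exact top_ne_bot h1

theorem le_jacobson_of_faithfullyFlat_adicCompletion
    (h : Module.FaithfullyFlat A (AdicCompletion I A)) : I ≤ (⊥ : Ideal A).jacobson := by
  apply le_jacobson_bot_of_forall_maximal
  intro m hm
  by_contra hIm
  have hsup : m ⊔ I = ⊤ := by
    by_contra hne
    exact hIm (le_sup_right.trans (hm.eq_of_le hne le_sup_left).ge)
  obtain ⟨a, ha, b, hb, hab⟩ := Submodule.mem_sup.mp ((Ideal.eq_top_iff_one _).mp hsup)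
  have hIfg : I.FG := IsNoetherian.noetherian I
  haveI h1 : IsAdicComplete I (AdicCompletion I A) := AdicCompletion.isAdicComplete hIfg
  haveI h2 : IsAdicComplete (I.map (algebraMap A (AdicCompletion I A))) (AdicCompletion I A) :=
    (IsAdicComplete.map_algebraMap_iff (I := I) (S := AdicCompletion I A)
      (M := AdicCompletion I A)).mpr h1
  have hjac : I.map (algebraMap A (AdicCompletion I A)) ≤ (⊥ : Ideal (AdicCompletion I A)).jacobson :=
    IsAdicComplete.le_jacobson_bot _
  have hbj : algebraMap A (AdicCompletion I A) b ∈ (⊥ : Ideal (AdicCompletion I A)).jacobson :=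
    hjac (Ideal.mem_map_of_mem _ hb)
  have hunit : IsUnit (algebraMap A (AdicCompletion I A) a) := by
    apply Ideal.isUnit_of_sub_one_mem_jacobson_bot
    have : algebraMap A (AdicCompletion I A) a - 1 = -algebraMap A (AdicCompletion I A) b := by
      rw [← map_one (algebraMap A (AdicCompletion I A)), ← hab, map_add]
      ring
    rw [this]
    exact Ideal.neg_mem_iff _ |>.mpr hbj
  obtain ⟨u, hu⟩ := hunit
  apply h.submodule_ne_top hm
  rw [eq_top_iff]
  intro z _
  have : z = a • ((↑u⁻¹ : AdicCompletion I A) * z) := by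
    rw [Algebra.smul_def, ← hu, ← mul_assoc, Units.mul_inv, one_mul]
  rw [this]
  exact Submodule.smul_mem_smul ha Submodule.mem_top

theorem le_jacobson_tfae :
    List.TFAE [I ≤ (⊥ : Ideal A).jacobson,
      Module.FaithfullyFlat A (AdicCompletion I A),
      ∀ (M : Type u) [AddCommGroup M] [Module A M], Module.Finite A M → IsHausdorff I M,
      ∀ (M : Type u) [AddCommGroup M] [Module A M], Module.Finite A M →
        ∀ P : Submodule A M, (⨅ n : ℕ, P ⊔ I ^ n • (⊤ : Submodule A M)) = P] := by
  tfae_have 1 → 2 := faithfullyFlat_adicCompletion_of_le_jacobson A I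
  tfae_have 2 → 1 := le_jacobson_of_faithfullyFlat_adicCompletion A I
  tfae_have 1 → 3 := fun h M _ _ _ => IsHausdorff.of_le_jacobson I M h
  tfae_have 3 → 4 := by
    intro h M _ _ hM P
    apply le_antisymm _ (le_iInf fun n => le_sup_left)
    intro x hx
    have hH : IsHausdorff I (M ⧸ P) := h (M ⧸ P) inferInstance
    have : P.mkQ x = 0 := by
      apply hH.haus
      intro n
      rw [SModEq.zero]
      have hxn : x ∈ P ⊔ I ^ n • (⊤ : Submodule A M) := (Submodule.mem_iInf _).mp hx n
      have := Submodule.mem_map_of_mem (f := P.mkQ) hxn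
      rw [Submodule.map_sup, Submodule.map_smul'', Submodule.map_top, Submodule.range_mkQ,
        Submodule.mkQ_map_self, bot_sup_eq] at this
      exact this
    rwa [Submodule.mkQ_apply, Submodule.Quotient.mk_eq_zero] at this
  tfae_have 4 → 1 := by
    intro h
    apply le_jacobson_bot_of_forall_maximal
    intro m hm
    by_contra hIm
    have hsup : m ⊔ I = ⊤ := by
      by_contra hne
      exact hIm (le_sup_right.trans (hm.eq_of_le hne le_sup_left).ge)
    have h4 := h A inferInstance m
    have : (⨅ n : ℕ, m ⊔ I ^ n • (⊤ : Submodule A A)) = ⊤ := by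
      rw [iInf_eq_top]
      intro n
      rw [smul_eq_mul, Ideal.mul_top]
      exact Ideal.sup_pow_eq_top hsup
    rw [this] at h4
    exact hm.ne_top h4.symm
  tfae_finish

end Groth.Agent.Lib.Helper19
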