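import Mathlib
import Groth.Prelude.Def_EGA41
import Groth.Prelude.Def_CAlgX

/-!
# Formal manipulations with adic formal smoothness (EGA 0_IV 19.3) (helper19)
-/

set_option autoImplicit false
universe u

namespace Groth.Agent.Lib.Helper19

open TensorProduct

/-- A lift of a map killing `𝔟 ^ k` modulo a nilpotent ideal kills a power of `𝔟`. -/
theorem exists_pow_map_eq_zero_of_lift {A B D : Type*} [CommRing A] [CommRing B] [CommRing D]
    [Algebra A B] [Algebra A D] (𝔟 : Ideal B) (J : Ideal D) (hJ : IsNilpotent J)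
    (w : B →ₐ[A] D) (k : ℕ) (hk : ∀ x ∈ 𝔟 ^ k, Ideal.Quotient.mk J (w x) = 0) :
    ∃ m : ℕ, ∀ x ∈ 𝔟 ^ m, w x = 0 := by
  obtain ⟨m, hm⟩ := hJ
  refine ⟨k * m, fun x hx => ?_⟩
  have h1 : (𝔟 ^ k).map w.toRingHom ≤ J := by
    rw [Ideal.map_le_iff_le_comap]
    intro y hy
    rw [Ideal.mem_comap]
    exact Ideal.Quotient.eq_zero_iff_mem.mp (hk y hy)
  have h2 : (𝔟 ^ (k * m)).map w.toRingHom ≤ J ^ m := by
    rw [pow_mul, Ideal.map_pow]
    exact Ideal.pow_right_mono h1 m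
  have h3 := h2 (Ideal.mem_map_of_mem _ hx)
  rw [hm, Ideal.zero_eq_bot, Ideal.mem_bot] at h3
  exact h3

theorem isFormallySmoothAdic_trans {A B C : Type u} [CommRing A] [CommRing B] [CommRing C]
    [Algebra A B] [Algebra B C] [Algebra A C] [IsScalarTower A B C]
    (𝔞 : Ideal A) (𝔟 : Ideal B) (𝔠 : Ideal C)
    (hBC : ∃ k : ℕ, (𝔟 ^ k).map (algebraMap B C) ≤ 𝔠)
    (hB : EGA41.IsFormallySmoothAdic A 𝔞 B 𝔟) (hC : EGA41.IsFormallySmoothAdic B 𝔟 C 𝔠) :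
    EGA41.IsFormallySmoothAdic A 𝔞 C 𝔠 := by
  intro D _ _ J hJ h𝔞 u hu
  obtain ⟨k, hk⟩ := hu
  obtain ⟨k₂, hk₂⟩ := hBC
  let u₀ : B →ₐ[A] D ⧸ J := u.comp (IsScalarTower.toAlgHom A B C)
  have hu₀ : ∃ m : ℕ, ∀ x ∈ 𝔟 ^ m, u₀ x = 0 := by
    refine ⟨k₂ * k, fun x hx => ?_⟩
    apply hk
    have h1 : (𝔟 ^ (k₂ * k)).map (algebraMap B C) ≤ 𝔠 ^ k := by
      rw [pow_mul, Ideal.map_pow]
      exact Ideal.pow_right_mono hk₂ k
    exact h1 (Ideal.mem_map_of_mem _ hx)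
  obtain ⟨w, hw⟩ := hB D J hJ h𝔞 u₀ hu₀
  have hwmk : ∀ b, Ideal.Quotient.mk J (w b) = u (algebraMap B C b) := fun b => by
    have := congrArg (fun f => f b) hw
    simpa [u₀] using this
  obtain ⟨m₀, hm₀⟩ := hu₀
  obtain ⟨m, hm⟩ := exists_pow_map_eq_zero_of_lift 𝔟 J hJ w m₀ (fun x hx => by
    rw [hwmk]; exact hm₀ x hx)
  letI : Algebra B D := w.toRingHom.toAlgebra
  haveI : IsScalarTower A B D := IsScalarTower.of_algebraMap_eq (fun r => (w.commutes r).symm)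
  let uB : C →ₐ[B] D ⧸ J :=
    { u.toRingHom with
      commutes' := fun b => by
        change u (algebraMap B C b) = Ideal.Quotient.mk J (w b)
        rw [hwmk] }
  have huB : ∀ x, uB x = u x := fun x => rfl
  have h𝔟D : ∃ k : ℕ, (𝔟 ^ k).map (algebraMap B D) = ⊥ := by
    refine ⟨m, ?_⟩
    rw [eq_bot_iff, Ideal.map_le_iff_le_comap]
    intro x hx
    rw [Ideal.mem_comap, Ideal.mem_bot]
    exact hm x hx
  obtain ⟨v, hv⟩ := hC D J hJ h𝔟D uB ⟨k, fun x hx => by rw [huB]; exact hk x hx⟩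
  refine ⟨v.restrictScalars A, ?_⟩
  ext x
  have := congrArg (fun f => f x) hv
  simpa [huB] using this

theorem isFormallySmoothAdic_baseChange {A B A' : Type u} [CommRing A] [CommRing B]
    [CommRing A'] [Algebra A B] [Algebra A A']
    (𝔞 : Ideal A) (𝔟 : Ideal B) (𝔞' : Ideal A')
    (hAA' : ∃ k : ℕ, (𝔞 ^ k).map (algebraMap A A') ≤ 𝔞')
    (hB : EGA41.IsFormallySmoothAdic A 𝔞 B 𝔟) :
    EGA41.IsFormallySmoothAdic A' 𝔞' (A' ⊗[A] B)
      (𝔞'.map (algebraMap A' (A' ⊗[A] B)) ⊔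
        𝔟.map (Algebra.TensorProduct.includeRight : B →ₐ[A] A' ⊗[A] B).toRingHom) := by
  intro D _ _ J hJ h𝔞' u hu
  obtain ⟨k, hk⟩ := hu
  obtain ⟨k₀, hk₀⟩ := hAA'
  obtain ⟨k₁, hk₁⟩ := h𝔞'
  letI : Algebra A D := ((algebraMap A' D).comp (algebraMap A A')).toAlgebra
  haveI : IsScalarTower A A' D := IsScalarTower.of_algebraMap_eq (fun r => rfl)
  have h𝔞D : ∃ k : ℕ, (𝔞 ^ k).map (algebraMap A D) = ⊥ := by
    refine ⟨k₀ * k₁, ?_⟩
    rw [eq_bot_iff, IsScalarTower.algebraMap_eq A A' D, ← Ideal.map_map, pow_mul, Ideal.map_pow,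
      ← hk₁]
    exact Ideal.map_mono (Ideal.pow_right_mono hk₀ k₁)
  let u₀ : B →ₐ[A] D ⧸ J :=
    (u.restrictScalars A).comp (Algebra.TensorProduct.includeRight : B →ₐ[A] A' ⊗[A] B)
  have hu₀ : ∃ m : ℕ, ∀ x ∈ 𝔟 ^ m, u₀ x = 0 := by
    refine ⟨k, fun x hx => ?_⟩
    apply hk
    have h1 : (𝔟 ^ k).map (Algebra.TensorProduct.includeRight : B →ₐ[A] A' ⊗[A] B).toRingHom ≤
        (𝔞'.map (algebraMap A' (A' ⊗[A] B)) ⊔
          𝔟.map (Algebra.TensorProduct.includeRight : B →ₐ[A] A' ⊗[A] B).toRingHom) ^ k := by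
      rw [Ideal.map_pow]
      exact Ideal.pow_right_mono le_sup_right k
    exact h1 (Ideal.mem_map_of_mem _ hx)
  obtain ⟨w, hw⟩ := hB D J hJ h𝔞D u₀ hu₀
  have hwmk : ∀ b, Ideal.Quotient.mk J (w b) = u (1 ⊗ₜ b) := fun b => by
    have := congrArg (fun f => f b) hw
    simpa [u₀] using this
  let v : A' ⊗[A] B →ₐ[A'] D :=
    Algebra.TensorProduct.lift (Algebra.ofId A' D) w (fun _ _ => Commute.all _ _)
  refine ⟨v, ?_⟩
  apply Algebra.TensorProduct.ext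
  · ext
  · ext b
    simp only [AlgHom.coe_comp, AlgHom.coe_restrictScalars', Function.comp_apply,
      Algebra.TensorProduct.includeRight_apply, Ideal.Quotient.mkₐ_eq_mk, v,
      Algebra.TensorProduct.lift_tmul, map_one, one_mul]
    exact hwmk b

theorem isAdicFormallySmooth_iff_isFormallySmoothAdic_bot {A B : Type u} [CommRing A]
    [CommRing B] [Algebra A B] (𝔫 : Ideal B) :
    CAlgX.IsAdicFormallySmooth A B 𝔫 ↔ EGA41.IsFormallySmoothAdic A ⊥ B 𝔫 := by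
  constructor
  · intro h C _ _ J hJ h0 u hu
    clear h0
    revert u
    revert ‹Algebra A C›
    refine Ideal.IsNilpotent.induction_on (S := C) J hJ
      (P := fun S _ I => IsNilpotent I → ∀ [Algebra A S] (u : B →ₐ[A] S ⧸ I),
        (∃ k : ℕ, ∀ x ∈ 𝔫 ^ k, u x = 0) → ∃ v : B →ₐ[A] S, (Ideal.Quotient.mkₐ A I).comp v = u)
      ?_ ?_ hJ
    · intro S _ I hI _ _ u hu
      exact h S I hI u hu
    · intro S _ I J hIJ h₁ h₂ hJnil _ g hg
      have hInil : IsNilpotent I := by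
        obtain ⟨m, hm⟩ := hJnil
        refine ⟨m, ?_⟩
        rw [Ideal.zero_eq_bot, eq_bot_iff] at hm ⊢
        exact (Ideal.pow_right_mono hIJ m).trans hm
      have hJInil : IsNilpotent (J.map (Ideal.Quotient.mk I)) := by
        obtain ⟨m, hm⟩ := hJnil
        refine ⟨m, ?_⟩
        rw [← Ideal.map_pow, hm, Ideal.zero_eq_bot, Ideal.map_bot]
        rfl
      let e : ((S ⧸ I) ⧸ J.map (Ideal.Quotient.mk I)) ≃ₐ[A] S ⧸ J :=
        { (DoubleQuot.quotQuotEquivQuotSup I J).trans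
            (Ideal.quotEquivOfEq (sup_eq_right.mpr hIJ)) with
          commutes' := fun x => rfl }
      obtain ⟨k, hk⟩ := hg
      obtain ⟨g', e'⟩ := h₂ hJInil (e.symm.toAlgHom.comp g)
        ⟨k, fun x hx => by simp [hk x hx]⟩
      have hg'mk : ∀ x ∈ 𝔫 ^ k, Ideal.Quotient.mk (J.map (Ideal.Quotient.mk I)) (g' x) = 0 := by
        intro x hx
        have := congrArg (fun f => f x) e'
        simp only [AlgHom.comp_apply, Ideal.Quotient.mkₐ_eq_mk] at this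
        rw [this]
        simp [hk x hx]
      obtain ⟨m, hm⟩ := exists_pow_map_eq_zero_of_lift 𝔫 _ hJInil g' k hg'mk
      obtain ⟨g'', rfl⟩ := h₁ hInil g' ⟨m, hm⟩
      replace e' := congr_arg e.toAlgHom.comp e'
      conv_rhs at e' =>
        rw [← AlgHom.comp_assoc, AlgEquiv.comp_symm, AlgHom.id_comp]
      exact ⟨g'', e'⟩
  · intro h C _ _ J hJ ψ hψ
    exact h C J ⟨2, hJ⟩ ⟨1, by simp⟩ ψ hψ

end Groth.Agent.Lib.Helper19
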