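import Groth.Agent.Lib.Helper19FSField

/-!
# A local ring with nilpotent maximal ideal which is formally smooth over a field is a field
(helper19; plan by helper27)
-/

set_option autoImplicit false
set_option linter.style.haveILetI false
set_option linter.unusedSectionVars false
universe u v

namespace Groth.Agent.Lib.Helper19.FSArtin

open IsLocalRing PowerSeries

section Main

variable {k₀ : Type v} {C : Type u} [CommRing k₀] [CommRing C] [IsLocalRing C] [Algebra k₀ C]

/-- the core argument over a base `k₀` over which both `C` and its residue field are formally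
smooth -/
theorem maximalIdeal_eq_bot_of_formallySmooth [Algebra.FormallySmooth k₀ C]
    [Algebra.FormallySmooth k₀ (ResidueField C)] (hnil : IsNilpotent (maximalIdeal C)) :
    maximalIdeal C = ⊥ := by
  classical
  by_contra hne
  obtain ⟨n, hn⟩ := hnil
  rw [Ideal.zero_eq_bot] at hn
  -- the residue map and a section
  let res : C →ₐ[k₀] ResidueField C := IsScalarTower.toAlgHom k₀ C (ResidueField C)
  have hres : ∀ a, res a = residue C a := fun a => rfl
  have hressurj : Function.Surjective res := residue_surjective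
  have hker : RingHom.ker res = maximalIdeal C := by
    ext a
    rw [RingHom.mem_ker, hres, residue_eq_zero_iff]
  have hkernil : IsNilpotent (RingHom.ker res) := by
    rw [hker]; exact ⟨n, hn⟩
  let s : ResidueField C →ₐ[k₀] C :=
    Algebra.FormallySmooth.liftOfSurjective (AlgHom.id k₀ (ResidueField C)) res hressurj hkernil
  have hs : ∀ c, res (s c) = c := fun c =>
    Algebra.FormallySmooth.liftOfSurjective_apply _ _ _ _ c
  -- pick `x ∈ 𝔪 \ 𝔪²`
  have hsq : maximalIdeal C ^ 2 ≠ maximalIdeal C := by
    intro h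
    apply hne
    have : ∀ m : ℕ, maximalIdeal C ^ (m + 1) = maximalIdeal C := by
      intro m
      induction m with
      | zero => rw [zero_add, pow_one]
      | succ m ih => rw [pow_succ, ih, ← pow_two, h]
    rcases Nat.eq_zero_or_pos n with h0 | h0
    · subst h0
      rw [pow_zero, Ideal.one_eq_top] at hn
      rw [eq_bot_iff, ← hn]; exact le_top
    · rw [← this (n - 1), Nat.sub_add_cancel h0, hn]
  obtain ⟨x, hxm, hx2⟩ : ∃ x ∈ maximalIdeal C, x ∉ maximalIdeal C ^ 2 := by
    by_contra hcon
    refine hsq (le_antisymm (Ideal.pow_le_self (by norm_num)) fun y hy => ?_)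
    by_contra h
    exact hcon ⟨y, hy, h⟩
  -- `C` as a vector space over its residue field
  letI : Algebra (ResidueField C) C := s.toRingHom.toAlgebra
  have hsmul : ∀ (c : ResidueField C) (y : C), c • y = s c * y := fun c y => rfl
  let W : Submodule (ResidueField C) C :=
    Submodule.span (ResidueField C) {1} ⊔ (maximalIdeal C ^ 2).restrictScalars (ResidueField C)
  have hxW : x ∉ W := by
    intro hx
    obtain ⟨y, hy, z, hz, hyz⟩ := Submodule.mem_sup.1 hx
    obtain ⟨c, rfl⟩ := Submodule.mem_span_singleton.1 hy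
    have hz' : z ∈ maximalIdeal C ^ 2 := hz
    have hzm : z ∈ maximalIdeal C := Ideal.pow_le_self (by norm_num) hz'
    have hc : c = 0 := by
      have h1 : res (c • (1 : C) + z) = res x := by rw [hyz]
      rw [map_add, hsmul, mul_one, hs, hres z, hres x, (residue_eq_zero_iff z).2 hzm,
        (residue_eq_zero_iff x).2 hxm, add_zero] at h1
      exact h1
    rw [hc, zero_smul, zero_add] at hyz
    exact hx2 (hyz ▸ hz')
  obtain ⟨l, hlx, hlW⟩ := Submodule.exists_le_ker_of_notMem hxW
  have hl1 : ∀ c : ResidueField C, l (s c) = 0 := by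
    intro c
    have : s c ∈ W := by
      refine Submodule.mem_sup_left (Submodule.mem_span_singleton.2 ⟨c, ?_⟩)
      rw [hsmul, mul_one]
    exact LinearMap.mem_ker.1 (hlW this)
  have hl2 : ∀ y z : C, y ∈ maximalIdeal C → z ∈ maximalIdeal C → l (y * z) = 0 := by
    intro y z hy hz
    have : y * z ∈ W := by
      refine Submodule.mem_sup_right ?_
      change y * z ∈ maximalIdeal C ^ 2
      rw [pow_two]
      exact Ideal.mul_mem_mul hy hz
    exact LinearMap.mem_ker.1 (hlW this)
  have hl3 : ∀ (c : ResidueField C) (y : C), l (s c * y) = c * l y := by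
    intro c y
    rw [← hsmul, map_smul, smul_eq_mul]
  -- decomposition `a = s (res a) + m`
  have hdec : ∀ a : C, a - s (res a) ∈ maximalIdeal C := by
    intro a
    rw [← residue_eq_zero_iff, map_sub, ← hres, ← hres, hs, sub_self]
  have hlm : ∀ a : C, l a = l (a - s (res a)) := by
    intro a
    rw [map_sub, hl1, sub_zero]
  have hleib : ∀ a b : C, l (a * b) = res a * l b + res b * l a := by
    intro a b
    have h1 : a * b = s (res a) * s (res b) + s (res a) * (b - s (res b)) +
        s (res b) * (a - s (res a)) + (a - s (res a)) * (b - s (res b)) := by ring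
    rw [h1, map_add, map_add, map_add, ← map_mul, hl1, hl3, hl3,
      hl2 _ _ (hdec a) (hdec b), ← hlm, ← hlm, zero_add, add_zero]
  -- the first-order map to `K[[X]]/(X²)`
  let T : ℕ → Type u := fun N => (ResidueField C)⟦X⟧ ⧸ Ideal.span {(X : (ResidueField C)⟦X⟧) ^ N}
  have hX2 : Ideal.Quotient.mk (Ideal.span {(X : (ResidueField C)⟦X⟧) ^ 2}) (X ^ 2) = 0 :=
    Ideal.Quotient.eq_zero_iff_mem.2 (Ideal.subset_span rfl)
  let φ₁ : C →ₐ[k₀] (ResidueField C)⟦X⟧ ⧸ Ideal.span {(X : (ResidueField C)⟦X⟧) ^ 2} :=
    { toFun := fun a => Ideal.Quotient.mk _ (PowerSeries.C (res a) + PowerSeries.C (l a) * X)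
      map_one' := by
        have : l 1 = 0 := by
          have := hl1 1
          rwa [map_one] at this
        rw [map_one, this, map_zero, zero_mul, add_zero, map_one, map_one]
      map_mul' := fun a b => by
        rw [← map_mul, hleib, map_mul, Ideal.Quotient.eq]
        have : (PowerSeries.C (res a * res b) + PowerSeries.C (res a * l b + res b * l a) * X -
            (PowerSeries.C (res a) + PowerSeries.C (l a) * X) *
            (PowerSeries.C (res b) + PowerSeries.C (l b) * X) : (ResidueField C)⟦X⟧) =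
            X ^ 2 * (-(PowerSeries.C (l a) * PowerSeries.C (l b))) := by
          simp only [map_mul, map_add]
          ring
        rw [this]
        exact Ideal.mul_mem_right _ _ (Ideal.subset_span rfl)
      map_zero' := by
        simp
      map_add' := fun a b => by
        rw [← map_add]
        congr 1
        rw [map_add, map_add, map_add, map_add]
        ring
      commutes' := fun c => by
        have h1 : algebraMap k₀ C c = s (algebraMap k₀ (ResidueField C) c) := (s.commutes c).symm
        have h2 : l (algebraMap k₀ C c) = 0 := by rw [h1, hl1]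
        change Ideal.Quotient.mk _ (PowerSeries.C (res (algebraMap k₀ C c)) +
          PowerSeries.C (l (algebraMap k₀ C c)) * X) = _
        rw [h2, map_zero, zero_mul, add_zero, AlgHom.commutes, ← PowerSeries.algebraMap_apply,
          Ideal.Quotient.mk_algebraMap] }
  have hφ₁ : ∀ a, φ₁ a = Ideal.Quotient.mk _ (PowerSeries.C (res a) + PowerSeries.C (l a) * X) :=
    fun a => rfl
  -- lift to `K[[X]]/(X^N)`
  obtain ⟨nx, hnx⟩ : ∃ nx : ℕ, x ^ nx = 0 := by
    refine ⟨n, ?_⟩
    have := Ideal.pow_mem_pow hxm n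
    rwa [hn, Ideal.mem_bot] at this
  set N := nx + 2 with hN
  have hle : Ideal.span {(X : (ResidueField C)⟦X⟧) ^ N} ≤
      Ideal.span {(X : (ResidueField C)⟦X⟧) ^ 2} := by
    rw [Ideal.span_singleton_le_span_singleton]
    exact pow_dvd_pow X (by omega)
  let fac : ((ResidueField C)⟦X⟧ ⧸ Ideal.span {(X : (ResidueField C)⟦X⟧) ^ N}) →ₐ[k₀]
      ((ResidueField C)⟦X⟧ ⧸ Ideal.span {(X : (ResidueField C)⟦X⟧) ^ 2}) :=
    Ideal.Quotient.factorₐ k₀ hle
  have hfac : ∀ g, fac (Ideal.Quotient.mk _ g) = Ideal.Quotient.mk _ g := fun g => rfl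
  have hfacsurj : Function.Surjective fac := Ideal.Quotient.factor_surjective hle
  have hfacnil : IsNilpotent (RingHom.ker fac) := by
    refine ⟨N, ?_⟩
    have h1 : RingHom.ker fac ≤ (Ideal.span {(X : (ResidueField C)⟦X⟧) ^ 2}).map
        (Ideal.Quotient.mk (Ideal.span {(X : (ResidueField C)⟦X⟧) ^ N})) := by
      intro y hy
      obtain ⟨g, rfl⟩ := Ideal.Quotient.mk_surjective y
      rw [RingHom.mem_ker, hfac, Ideal.Quotient.eq_zero_iff_mem] at hy
      exact Ideal.mem_map_of_mem _ hy
    rw [Ideal.zero_eq_bot, eq_bot_iff]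
    refine (Ideal.pow_right_mono h1 N).trans ?_
    rw [← Ideal.map_pow, Ideal.span_singleton_pow, ← pow_mul]
    rw [Ideal.map_le_iff_le_comap, Ideal.span_singleton_le_iff_mem, Ideal.mem_comap,
      Ideal.mem_bot, Ideal.Quotient.eq_zero_iff_mem, Ideal.mem_span_singleton]
    exact pow_dvd_pow X (by nlinarith)
  let φN := Algebra.FormallySmooth.liftOfSurjective φ₁ fac hfacsurj hfacnil
  have hφN : ∀ a, fac (φN a) = φ₁ a := fun a =>
    Algebra.FormallySmooth.liftOfSurjective_apply _ _ _ _ a
  obtain ⟨g, hg⟩ := Ideal.Quotient.mk_surjective (φN x)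
  -- coefficients of `g`
  have hg2 : g - PowerSeries.C (l x) * X ∈ Ideal.span {(X : (ResidueField C)⟦X⟧) ^ 2} := by
    rw [← Ideal.Quotient.eq, ← hfac g, hg, hφN, hφ₁, hres x, (residue_eq_zero_iff x).2 hxm,
      map_zero, zero_add]
  rw [Ideal.mem_span_singleton, X_pow_dvd_iff] at hg2
  have hc0 : coeff 0 g = 0 := by
    have := hg2 0 (by norm_num)
    simpa using this
  have hc1 : coeff 1 g = l x := by
    have := hg2 1 (by norm_num)
    rw [map_sub, sub_eq_zero] at this
    rw [this, coeff_succ_mul_X, coeff_zero_C]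
  -- `g = X * u` with `u` having constant coefficient `l x`
  obtain ⟨u, hu⟩ : (X : (ResidueField C)⟦X⟧) ∣ g := by
    rw [X_dvd_iff, ← coeff_zero_eq_constantCoeff_apply]; exact hc0
  have hu0 : coeff 0 u = l x := by
    rw [← hc1, hu, show (1 : ℕ) = 0 + 1 from rfl, coeff_succ_X_mul]
  -- `g ^ nx ∈ (X ^ N)`
  have hgn : g ^ nx ∈ Ideal.span {(X : (ResidueField C)⟦X⟧) ^ N} := by
    rw [← Ideal.Quotient.eq_zero_iff_mem, map_pow, hg, ← map_pow, hnx, map_zero]
  rw [Ideal.mem_span_singleton, hu, mul_pow, hN, pow_add,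
    mul_dvd_mul_iff_left (pow_ne_zero nx X_ne_zero)] at hgn
  have hX : (X : (ResidueField C)⟦X⟧) ∣ u ^ nx := dvd_trans (dvd_pow_self X (by norm_num)) hgn
  rw [X_dvd_iff, map_pow, ← coeff_zero_eq_constantCoeff_apply, hu0] at hX
  have hnx0 : nx ≠ 0 := by
    rintro rfl
    simp at hnx
  exact hlx ((pow_eq_zero_iff hnx0).1 hX)

end Main

end Groth.Agent.Lib.Helper19.FSArtin

namespace Groth.Agent.Lib.Helper19.FSArtin

open IsLocalRing

/-- any field containing `ℚ` is formally smooth over `ℚ` -/
theorem formallySmooth_rat (K : Type u) [Field K] [Algebra ℚ K] : Algebra.FormallySmooth ℚ K := by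
  haveI : CharZero K := algebraRat.charZero K
  obtain ⟨ι, x, hx⟩ := exists_isTranscendenceBasis' ℚ K
  have halg := hx.isAlgebraic_field
  have : Algebra.IsSeparable (IntermediateField.adjoin ℚ (Set.range x)) K := inferInstance
  exact Algebra.FormallySmooth.of_algebraicIndependent_of_isSeparable hx.1

/-- A local ring with nilpotent maximal ideal which is formally smooth over a field is a field. -/
theorem maximalIdeal_eq_bot_of_formallySmooth_field {κ : Type v} {C : Type u} [Field κ]
    [CommRing C] [IsLocalRing C] [Algebra κ C] [Algebra.FormallySmooth κ C]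
    (hnil : IsNilpotent (maximalIdeal C)) : maximalIdeal C = ⊥ := by
  obtain ⟨p, hp⟩ := CharP.exists κ
  rcases CharP.char_is_prime_or_zero κ p with hpp | rfl
  · haveI : Fact p.Prime := ⟨hpp⟩
    letI : Algebra (ZMod p) κ := ZMod.algebra κ p
    letI : Algebra (ZMod p) C := ((algebraMap κ C).comp (algebraMap (ZMod p) κ)).toAlgebra
    haveI : IsScalarTower (ZMod p) κ C := IsScalarTower.of_algebraMap_eq fun _ => rfl
    haveI := Groth.Agent.Lib.Helper19.PBasis.formallySmooth_zmod p κ
    haveI : Algebra.FormallySmooth (ZMod p) C := Algebra.FormallySmooth.comp (ZMod p) κ C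
    haveI := Groth.Agent.Lib.Helper19.PBasis.formallySmooth_zmod p (ResidueField C)
    exact maximalIdeal_eq_bot_of_formallySmooth (k₀ := ZMod p) hnil
  · haveI : CharZero κ := CharP.charP_to_charZero κ
    letI : Algebra ℚ C := ((algebraMap κ C).comp (algebraMap ℚ κ)).toAlgebra
    haveI : IsScalarTower ℚ κ C := IsScalarTower.of_algebraMap_eq fun _ => rfl
    haveI := formallySmooth_rat κ
    haveI : Algebra.FormallySmooth ℚ C := Algebra.FormallySmooth.comp ℚ κ C
    haveI := formallySmooth_rat (ResidueField C)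
    exact maximalIdeal_eq_bot_of_formallySmooth (k₀ := ℚ) hnil

end Groth.Agent.Lib.Helper19.FSArtin
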