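import Groth.Agent.Lib.Helper19CohenRingFS
import Groth.Agent.Lib.Helper19CoeffField
import Groth.Agent.Lib.Helper19FSArtin
import Groth.Agent.Lib.Helper19FSAdicFormal

/-!
# Lifting homomorphisms out of Cohen rings (EGA 0_IV 19.8.6) (helper19)
-/

set_option autoImplicit false
set_option linter.style.haveILetI false
set_option linter.unusedSectionVars false
universe u w

namespace Groth.Agent.Lib.Helper19.FlatLift

open IsLocalRing

/-- a Cohen ring (in the strict sense) has characteristic zero -/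
theorem charZero_of_isCohenRing {Λ : Type u} [CommRing Λ] [IsLocalRing Λ]
    (hΛ : CAlg.IsCohenRing Λ) : CharZero Λ := by
  obtain ⟨hdom, hdvr, -, p, hp, hmax⟩ := hΛ
  haveI := hdom
  haveI := hdvr
  have hp0 : (p : Λ) ≠ 0 := by
    intro h
    apply IsDiscreteValuationRing.not_a_field Λ
    rw [hmax, h, Ideal.span_singleton_eq_bot]
  obtain ⟨c, hc⟩ := CharP.exists Λ
  rcases CharP.char_is_prime_or_zero Λ c with hq | rfl
  · exfalso
    have hcm : (c : Λ) ∈ maximalIdeal Λ := by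
      rw [CharP.cast_eq_zero Λ c]; exact Ideal.zero_mem _
    have hpm : (p : Λ) ∈ maximalIdeal Λ := by
      rw [hmax]; exact Ideal.subset_span rfl
    by_cases hcp : c = p
    · subst hcp
      exact hp0 (CharP.cast_eq_zero Λ c)
    · have hcop : Nat.Coprime c p := (Nat.coprime_primes hq hp).2 hcp
      have h1 : ((Nat.gcd c p : ℤ) : Λ) ∈ maximalIdeal Λ := by
        rw [Nat.gcd_eq_gcd_ab]
        push_cast
        exact Ideal.add_mem _ (Ideal.mul_mem_right _ _ hcm) (Ideal.mul_mem_right _ _ hpm)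
      rw [hcop] at h1
      simp only [Nat.cast_one, Int.cast_one] at h1
      exact (Ideal.ne_top_iff_one _).1 (IsLocalRing.maximalIdeal.isMaximal Λ).ne_top h1
  · exact CharP.charP_to_charZero Λ

/-- Ring homomorphisms out of a Cohen ring lift along square-zero extensions (any universes). -/
theorem exists_ringHom_lift_of_isCohenRing {Λ : Type u} [CommRing Λ] [IsLocalRing Λ]
    (hΛ : CAlg.IsCohenRing Λ) {C : Type w} [CommRing C] (J : Ideal C) (hJ : J ^ 2 = ⊥)
    (ψ₀ : Λ →+* C ⧸ J) (hψ : ∃ k : ℕ, ∀ x ∈ maximalIdeal Λ ^ k, ψ₀ x = 0) :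
    ∃ χ : Λ →+* C, (Ideal.Quotient.mk J).comp χ = ψ₀ := by
  haveI : CharZero Λ := charZero_of_isCohenRing hΛ
  obtain ⟨hdom, hdvr, -, p, hp, hmax⟩ := hΛ
  haveI := hdom
  haveI := hdvr
  haveI : Fact p.Prime := ⟨hp⟩
  haveI : Module.Flat ℤ Λ := inferInstance
  set I : Ideal ℤ := Ideal.span {(p : ℤ)} with hI
  have hImap : I.map (algebraMap ℤ Λ) = maximalIdeal Λ := by
    rw [hI, Ideal.map_span, Set.image_singleton, hmax]
    simp
  have hpz : (p : ℤ) ≠ 0 := by exact_mod_cast hp.ne_zero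
  haveI hIprime : I.IsPrime := by
    rw [hI, Ideal.span_singleton_prime hpz]
    exact Nat.prime_iff_prime_int.mp hp
  haveI hImax : I.IsMaximal := Ideal.IsPrime.isMaximal hIprime (by
    rw [Ne, hI, Ideal.span_singleton_eq_bot]; exact hpz)
  haveI hmax' : (I.map (algebraMap ℤ Λ)).IsMaximal := by
    rw [hImap]; infer_instance
  letI : Field (ℤ ⧸ I) := Ideal.Quotient.field I
  letI : Field (Λ ⧸ I.map (algebraMap ℤ Λ)) := Ideal.Quotient.field _
  haveI : CharP (ℤ ⧸ I) p := by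
    refine CharP.quotient ℤ p ?_
    rw [mem_nonunits_iff, Int.isUnit_iff_natAbs_eq]
    simp only [Int.natAbs_natCast]
    exact hp.one_lt.ne'
  haveI : CharP (Λ ⧸ I.map (algebraMap ℤ Λ)) p :=
    charP_of_injective_algebraMap
      (RingHom.injective (algebraMap (ℤ ⧸ I) (Λ ⧸ I.map (algebraMap ℤ Λ)))) p
  haveI : Algebra.FormallySmooth (ℤ ⧸ I) (Λ ⧸ I.map (algebraMap ℤ Λ)) := by
    letI : Algebra (ZMod p) (ℤ ⧸ I) := ZMod.algebra _ p
    letI : Algebra (ZMod p) (Λ ⧸ I.map (algebraMap ℤ Λ)) := ZMod.algebra _ p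
    haveI : IsScalarTower (ZMod p) (ℤ ⧸ I) (Λ ⧸ I.map (algebraMap ℤ Λ)) :=
      IsScalarTower.of_algebraMap_eq' (Subsingleton.elim _ _)
    haveI : Algebra.FormallyUnramified (ZMod p) (ℤ ⧸ I) := by
      refine Algebra.FormallyUnramified.of_surjective (Algebra.ofId (ZMod p) (ℤ ⧸ I)) ?_
      intro x
      obtain ⟨n, rfl⟩ := Ideal.Quotient.mk_surjective x
      exact ⟨(n : ZMod p), by simp⟩
    haveI := Groth.Agent.Lib.Helper19.PBasis.formallySmooth_zmod p (Λ ⧸ I.map (algebraMap ℤ Λ))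
    exact Algebra.FormallySmooth.of_restrictScalars (ZMod p) (ℤ ⧸ I) _
  let ψ : Λ →ₐ[ℤ] C ⧸ J :=
    { ψ₀ with
      commutes' := fun n => by
        change ψ₀ (algebraMap ℤ Λ n) = algebraMap ℤ (C ⧸ J) n
        rw [eq_intCast (algebraMap ℤ Λ), eq_intCast (algebraMap ℤ (C ⧸ J)), map_intCast] }
  obtain ⟨k, hk⟩ := hψ
  have h1 : ((p : ℕ) : C) ^ k ∈ J := by
    have h2 : ψ₀ ((p : Λ) ^ k) = 0 := by
      apply hk
      refine Ideal.pow_mem_pow ?_ k
      rw [hmax]; exact Ideal.subset_span rfl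
    rw [map_pow, map_natCast] at h2
    rw [← Ideal.Quotient.eq_zero_iff_mem, map_pow, map_natCast]
    exact h2
  have h3 : ((p : ℕ) : C) ^ (2 * k) = 0 := by
    have h4 : (((p : ℕ) : C) ^ k) ^ 2 ∈ J ^ 2 := Ideal.pow_mem_pow h1 2
    rw [hJ, Ideal.mem_bot, ← pow_mul, mul_comm] at h4
    exact h4
  have hC : (I ^ (2 * k)).map (algebraMap ℤ C) = ⊥ := by
    rw [hI, Ideal.span_singleton_pow, Ideal.map_span, Set.image_singleton, map_pow,
      Ideal.span_singleton_eq_bot]
    simpa using h3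
  obtain ⟨g, hg⟩ := exists_lift_of_flat_of_pow_kills I
    (fun hC J hJ f => exists_lift_of_formallySmooth_quotient I hC J hJ f) (2 * k) hC J hJ ψ
  exact ⟨g, RingHom.ext fun x => congrArg (fun f : Λ →ₐ[ℤ] C ⧸ J => f x) hg⟩

/-- Ring homomorphisms out of a field of characteristic zero lift along square-zero extensions. -/
theorem exists_ringHom_lift_of_field_charZero {K : Type u} [Field K] [CharZero K]
    {C : Type w} [CommRing C] (J : Ideal C) (hJ : J ^ 2 = ⊥) (ψ₀ : K →+* C ⧸ J) :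
    ∃ χ : K →+* C, (Ideal.Quotient.mk J).comp χ = ψ₀ := by
  haveI : Algebra.FormallySmooth ℚ K := FSArtin.formallySmooth_rat K
  haveI : Algebra.FormallySmooth ℤ ℚ :=
    Algebra.FormallySmooth.of_isLocalization (nonZeroDivisors ℤ)
  haveI : Algebra.FormallySmooth ℤ K := Algebra.FormallySmooth.comp ℤ ℚ K
  let ψ : K →ₐ[ℤ] C ⧸ J :=
    { ψ₀ with
      commutes' := fun n => by
        change ψ₀ (algebraMap ℤ K n) = algebraMap ℤ (C ⧸ J) n
        rw [eq_intCast (algebraMap ℤ K), eq_intCast (algebraMap ℤ (C ⧸ J)), map_intCast] }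
  obtain ⟨g, hg⟩ := Algebra.FormallySmooth.comp_surjective ℤ K J hJ ψ
  exact ⟨g, RingHom.ext fun x => congrArg (fun f : K →ₐ[ℤ] C ⧸ J => f x) hg⟩

/-- Ring homomorphisms out of a Cohen ring in the wide sense lift along square-zero extensions. -/
theorem exists_ringHom_lift_of_isCohenRingEGA {W : Type u} [CommRing W] [IsLocalRing W]
    (hW : EGA41.IsCohenRingEGA W) {C : Type w} [CommRing C] (J : Ideal C) (hJ : J ^ 2 = ⊥)
    (ψ₀ : W →+* C ⧸ J) (hψ : ∃ k : ℕ, ∀ x ∈ maximalIdeal W ^ k, ψ₀ x = 0) :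
    ∃ χ : W →+* C, (Ideal.Quotient.mk J).comp χ = ψ₀ := by
  rcases hW with ⟨hf, hc⟩ | hW
  · letI : Field W := hf.toField
    exact exists_ringHom_lift_of_field_charZero J hJ ψ₀
  · exact exists_ringHom_lift_of_isCohenRing hW J hJ ψ₀ hψ

/-- A Cohen ring in the wide sense is formally smooth over (a universe lift of) `ℤ` for the adic
topology of its maximal ideal. -/
theorem isFormallySmoothAdic_ulift_int_of_isCohenRingEGA {W : Type u} [CommRing W] [IsLocalRing W]
    (hW : EGA41.IsCohenRingEGA W) [Algebra (ULift.{u} ℤ) W] :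
    EGA41.IsFormallySmoothAdic (ULift.{u} ℤ) ⊥ W (maximalIdeal W) := by
  rw [← isAdicFormallySmooth_iff_isFormallySmoothAdic_bot]
  intro C _ _ J hJ ψ hψ
  obtain ⟨χ, hχ⟩ := exists_ringHom_lift_of_isCohenRingEGA hW J hJ (ψ : W →+* C ⧸ J) hψ
  have hsub : ∀ {X : Type u} [CommRing X] (f g : ULift.{u} ℤ →+* X), f = g := by
    intro X _ f g
    have h1 : f.comp (ULift.ringEquiv (R := ℤ)).symm.toRingHom =
        g.comp (ULift.ringEquiv (R := ℤ)).symm.toRingHom := Subsingleton.elim _ _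
    ext x
    have h2 := RingHom.congr_fun h1 (ULift.ringEquiv x)
    simp only [RingHom.comp_apply, RingEquiv.toRingHom_eq_coe, RingHom.coe_coe,
      RingEquiv.symm_apply_apply] at h2
    exact h2
  refine ⟨{ χ with commutes' := fun r => ?_ }, AlgHom.ext fun x => ?_⟩
  · exact congrArg (fun h : ULift.{u} ℤ →+* C => h r)
      (hsub (χ.comp (algebraMap (ULift.{u} ℤ) W)) (algebraMap (ULift.{u} ℤ) C))
  · exact congrArg (fun h : W →+* C ⧸ J => h x) hχ

end Groth.Agent.Lib.Helper19.FlatLift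

namespace Groth.Agent.Lib.Helper19.FlatLift

open IsLocalRing

/-- the canonical algebra structure over `ULift ℤ` -/
@[reducible] noncomputable def uliftIntAlgebra (X : Type u) [CommRing X] :
    Algebra (ULift.{u} ℤ) X :=
  ((Int.castRingHom X).comp (ULift.ringEquiv (R := ℤ)).toRingHom).toAlgebra

theorem ulift_int_ringHom_ext {X : Type w} [Semiring X] (f g : ULift.{u} ℤ →+* X) : f = g := by
  have h1 : f.comp (ULift.ringEquiv (R := ℤ)).symm.toRingHom =
      g.comp (ULift.ringEquiv (R := ℤ)).symm.toRingHom := RingHom.ext_int _ _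
  ext x
  have h2 := RingHom.congr_fun h1 (ULift.ringEquiv x)
  simp only [RingHom.comp_apply, RingEquiv.toRingHom_eq_coe, RingHom.coe_coe,
    RingEquiv.symm_apply_apply] at h2
  exact h2

/-- every ring homomorphism is a `ULift ℤ`-algebra homomorphism -/
noncomputable def toULiftIntAlgHom {X Y : Type u} [CommRing X] [CommRing Y]
    [Algebra (ULift.{u} ℤ) X] [Algebra (ULift.{u} ℤ) Y] (f : X →+* Y) : X →ₐ[ULift.{u} ℤ] Y :=
  { f with
    commutes' := fun r => RingHom.congr_fun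
      (ulift_int_ringHom_ext (f.comp (algebraMap (ULift.{u} ℤ) X)) (algebraMap (ULift.{u} ℤ) Y)) r }

/-- EGA 0_IV 19.8.6 (i) (S2456): a local homomorphism from a Cohen ring to a quotient of a complete
Noetherian local ring lifts. -/
theorem cohenRing_lifts_local_hom {W C : Type u} [CommRing W] [IsLocalRing W]
    (hW : EGA41.IsCohenRingEGA W)
    [CommRing C] [IsLocalRing C] [IsNoetherianRing C] [IsAdicComplete (maximalIdeal C) C]
    (J : Ideal C) (hJ : J ≠ ⊤) [IsLocalRing (C ⧸ J)] (u : W →+* C ⧸ J) [IsLocalHom u] :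
    ∃ v : W →+* C, IsLocalHom v ∧ (Ideal.Quotient.mk J).comp v = u := by
  letI : Algebra (ULift.{u} ℤ) W := uliftIntAlgebra W
  letI : Algebra (ULift.{u} ℤ) C := uliftIntAlgebra C
  have hB := isFormallySmoothAdic_ulift_int_of_isCohenRingEGA hW
  haveI := IsLocalHom.of_surjective (Ideal.Quotient.mk J) Ideal.Quotient.mk_surjective
  have hle : J ≤ maximalIdeal C := le_maximalIdeal hJ
  have h1 : (maximalIdeal C).map (Ideal.Quotient.mk J) = maximalIdeal (C ⧸ J) := by
    ext x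
    obtain ⟨x, rfl⟩ := Ideal.Quotient.mk_surjective x
    simp [sup_eq_left.mpr hle]
  let u' : W →ₐ[ULift.{u} ℤ] C ⧸ J := toULiftIntAlgHom u
  obtain ⟨v, hv1, hv2⟩ := exists_lift_to_complete_local (⊥ : Ideal (ULift.{u} ℤ)) (maximalIdeal W)
    hB (by simp) J hJ u' (by
      rw [h1]
      exact map_maximalIdeal_le u)
  refine ⟨v, ((local_hom_TFAE (v : W →+* C)).out 2 0).mp hv1, RingHom.ext fun x => ?_⟩
  exact congrArg (fun f : W →ₐ[ULift.{u} ℤ] C ⧸ J => f x) hv2

end Groth.Agent.Lib.Helper19.FlatLift
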