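import Groth.Agent.Lib.Helper19PsDim
import Mathlib.RingTheory.MvPowerSeries.NoZeroDivisors
import Mathlib.RingTheory.KrullDimension.NonZeroDivisors

/-!
# Power series presentations of complete local algebras with residue field `k` (helper19)
-/

set_option autoImplicit false
universe u

open MvPowerSeries

namespace Groth.Agent.Lib.Helper19

section RegPs

variable {k : Type u} [Field k] {R : Type u} [CommRing R] [IsLocalRing R] [Algebra k R]

attribute [local instance] isAdicComplete_field

/-- The augmentation of a local `k`-algebra with residue field `k`. -/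
noncomputable def resOfSurj
    (hR : Function.Surjective ((IsLocalRing.residue R).comp (algebraMap k R))) : R →ₐ[k] k :=
  let e : k ≃+* IsLocalRing.ResidueField R :=
    RingEquiv.ofBijective ((IsLocalRing.residue R).comp (algebraMap k R))
      ⟨RingHom.injective _, hR⟩
  { toRingHom := e.symm.toRingHom.comp (IsLocalRing.residue R)
    commutes' := fun c => e.symm_apply_apply c }

omit [IsLocalRing R] in
lemma res_surjective' (resR : R →ₐ[k] k) : Function.Surjective resR :=
  fun c => ⟨algebraMap k R c, resR.commutes c⟩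

/-- Elements whose classes span the cotangent space generate the maximal ideal. -/
lemma maximalIdeal_eq_span_of_cotangent_span [IsNoetherianRing R] {d : ℕ} (b : Fin d → R)
    (hb : ∀ i, b i ∈ IsLocalRing.maximalIdeal R)
    (hsp : Submodule.span (IsLocalRing.ResidueField R)
      (Set.range (fun i : Fin d => (IsLocalRing.maximalIdeal R).toCotangent ⟨b i, hb i⟩)) = ⊤) :
    IsLocalRing.maximalIdeal R = Ideal.span (Set.range b) := by
  have h1 : Set.range (fun i : Fin d => (IsLocalRing.maximalIdeal R).toCotangent ⟨b i, hb i⟩) =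
      (IsLocalRing.maximalIdeal R).toCotangent ''
        (Set.range fun i : Fin d => (⟨b i, hb i⟩ : IsLocalRing.maximalIdeal R)) := by
    rw [← Set.range_comp]; rfl
  rw [h1, IsLocalRing.CotangentSpace.span_image_eq_top_iff] at hsp
  have h2 := congrArg (Submodule.map (IsLocalRing.maximalIdeal R).subtype) hsp
  rw [Submodule.map_span, Submodule.map_top, Submodule.range_subtype, ← Set.range_comp] at h2
  exact h2.symm

variable {d : ℕ} (ψ : MvPowerSeries (Fin d) k →ₐ[k] R)
  (hψ : ∀ i : Fin d, ψ (X i) ∈ IsLocalRing.maximalIdeal R)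

include hψ in
lemma ps_map_maximalIdeal_le (resR : R →ₐ[k] k) :
    Ideal.map ψ (IsLocalRing.maximalIdeal (MvPowerSeries (Fin d) k)) ≤ IsLocalRing.maximalIdeal R :=
  map_maximalIdeal_le (psRes (Fin d)) (psCRing (Fin d) (hk0 (k := k))).res_surjective resR
    (res_surjective' resR) ψ (res_unique (hk0 (k := k)) _ _)

include hψ in
/-- If the images of the variables span the cotangent space then the map is surjective. -/
theorem ps_surjective [IsNoetherianRing R] (resR : R →ₐ[k] k)
    (hsp : Submodule.span (IsLocalRing.ResidueField R)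
      (Set.range (fun i : Fin d => (IsLocalRing.maximalIdeal R).toCotangent ⟨ψ (X i), hψ i⟩)) = ⊤) :
    Function.Surjective ψ := by
  haveI : IsPrecomplete (IsLocalRing.maximalIdeal (MvPowerSeries (Fin d) k)) (MvPowerSeries (Fin d) k) :=
    (psCRing (Fin d) (hk0 (k := k))).isAdicComplete.toIsPrecomplete
  have hm := maximalIdeal_eq_span_of_cotangent_span (fun i => ψ (X i)) hψ hsp
  apply surjective_of_cotangent (psRes (Fin d)) (psCRing (Fin d) (hk0 (k := k))).res_surjective resR
    (res_surjective' resR) ψ (res_unique (hk0 (k := k)) _ _)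
  apply le_antisymm
  · exact sup_le (ps_map_maximalIdeal_le ψ hψ resR) (Ideal.pow_le_self two_ne_zero)
  · refine le_trans ?_ le_sup_left
    rw [hm, Ideal.span_le]
    rintro _ ⟨i, rfl⟩
    apply Ideal.mem_map_of_mem
    rw [maximalIdeal_mvPowerSeries_eq]
    exact Ideal.subset_span ⟨i, rfl⟩

include hψ in
/-- If the images of the variables are independent in the cotangent space then the kernel lies in `m²`. -/
theorem ps_ker_le_sq (resR : R →ₐ[k] k)
    (hb : LinearIndependent (IsLocalRing.ResidueField R)
      (fun i : Fin d => (IsLocalRing.maximalIdeal R).toCotangent ⟨ψ (X i), hψ i⟩)) :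
    RingHom.ker ψ.toRingHom ≤ IsLocalRing.maximalIdeal (MvPowerSeries (Fin d) k) ^ 2 := by
  intro f hf
  have hf0 : ψ f = 0 := hf
  have hle := ps_map_maximalIdeal_le ψ hψ resR
  -- Taylor expansion
  have he := sub_linear_mem_coeffIdeal_two (⊥ : Ideal k) f
  rw [coeffIdeal_eq_pow] at he
  have hmP : IsLocalRing.maximalIdeal (MvPowerSeries (Fin d) k) = coeffIdeal (Fin d) (⊥ : Ideal k) 1 := by
    rw [maximalIdeal_eq_coeffIdeal, IsLocalRing.maximalIdeal_eq_bot]
  rw [← hmP] at he
  -- constant coefficient vanishes
  have hfm : f ∈ IsLocalRing.maximalIdeal (MvPowerSeries (Fin d) k) := by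
    rw [IsLocalRing.mem_maximalIdeal, mem_nonunits_iff]
    intro hu
    have := hu.map ψ
    rw [hf0] at this
    exact not_isUnit_zero this
  have hc0 : constantCoeff f = 0 := by
    rw [hmP, mem_coeffIdeal_one, Ideal.mem_bot] at hfm
    exact hfm
  rw [hc0, map_zero, sub_zero] at he
  set e := f - ∑ i, C (coeff (Finsupp.single i 1) f) * X i with hedef
  -- image of the error term
  have hψe : ψ e ∈ IsLocalRing.maximalIdeal R ^ 2 := by
    have h1 : ψ e ∈ Ideal.map ψ (IsLocalRing.maximalIdeal (MvPowerSeries (Fin d) k) ^ 2) :=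
      Ideal.mem_map_of_mem _ he
    rw [Ideal.map_pow] at h1
    exact Ideal.pow_right_mono hle 2 h1
  have hsum : ψ e = - ∑ i, algebraMap k R (coeff (Finsupp.single i 1) f) * ψ (X i) := by
    rw [hedef, map_sub, hf0, zero_sub, map_sum]
    congr 1
    apply Finset.sum_congr rfl
    intro i _
    rw [map_mul]
    congr 1
    exact ψ.commutes _
  -- the linear combination in the cotangent space
  have hlin : ∑ i, (IsLocalRing.residue R (algebraMap k R (coeff (Finsupp.single i 1) f))) •
      (IsLocalRing.maximalIdeal R).toCotangent ⟨ψ (X i), hψ i⟩ = 0 := by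
    have h2 : ∀ i, (IsLocalRing.residue R (algebraMap k R (coeff (Finsupp.single i 1) f))) •
        (IsLocalRing.maximalIdeal R).toCotangent ⟨ψ (X i), hψ i⟩ =
        (IsLocalRing.maximalIdeal R).toCotangent
          (algebraMap k R (coeff (Finsupp.single i 1) f) • (⟨ψ (X i), hψ i⟩ : IsLocalRing.maximalIdeal R)) := by
      intro i
      rw [map_smul]
      exact IsScalarTower.algebraMap_smul (IsLocalRing.ResidueField R) _ _
    simp_rw [h2]
    rw [← map_sum, Ideal.toCotangent_eq_zero]
    have h3 : ((∑ i, algebraMap k R (coeff (Finsupp.single i 1) f) •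
        (⟨ψ (X i), hψ i⟩ : IsLocalRing.maximalIdeal R) : IsLocalRing.maximalIdeal R) : R) =
        ∑ i, algebraMap k R (coeff (Finsupp.single i 1) f) * ψ (X i) := by
      rw [Submodule.coe_sum]
      rfl
    rw [h3]
    have := neg_mem hψe
    rwa [hsum, neg_neg] at this
  have hzero := Fintype.linearIndependent_iff.1 hb _ hlin
  have hcoef : ∀ i, coeff (Finsupp.single i 1) f = 0 := by
    intro i
    have h4 := hzero i
    have h5 : ((IsLocalRing.residue R).comp (algebraMap k R)) (coeff (Finsupp.single i 1) f) = 0 := h4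
    exact (map_eq_zero_iff _ (RingHom.injective _)).1 h5
  have : f = e := by
    rw [hedef]
    simp [hcoef]
  rw [this]
  exact he

include hψ in
/-- Regularity criterion: `R` is regular iff the power series presentation on a basis of the cotangent space
is bijective. -/
theorem isRegularLocalRing_iff_ps_bijective [IsNoetherianRing R] (resR : R →ₐ[k] k)
    (hb : LinearIndependent (IsLocalRing.ResidueField R)
      (fun i : Fin d => (IsLocalRing.maximalIdeal R).toCotangent ⟨ψ (X i), hψ i⟩))
    (hsp : Submodule.span (IsLocalRing.ResidueField R)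
      (Set.range (fun i : Fin d => (IsLocalRing.maximalIdeal R).toCotangent ⟨ψ (X i), hψ i⟩)) = ⊤) :
    IsRegularLocalRing R ↔ Function.Bijective ψ := by
  have hsurj := ps_surjective ψ hψ resR hsp
  constructor
  · intro hreg
    refine ⟨?_, hsurj⟩
    -- dimension count
    have hfr : Module.finrank (IsLocalRing.ResidueField R) (IsLocalRing.CotangentSpace R) = d := by
      have B := Module.Basis.mk hb (le_of_eq hsp.symm)
      rw [Module.finrank_eq_card_basis B, Fintype.card_fin]
    have hdimR : ringKrullDim R = (d : WithBot ℕ∞) := by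
      rw [← IsRegularLocalRing.spanFinrank_maximalIdeal (R := R),
        IsLocalRing.spanFinrank_maximalIdeal_eq_finrank_cotangentSpace, hfr]
    rw [injective_iff_map_eq_zero]
    intro x hx
    by_contra hx0
    have hxnzd : x ∈ nonZeroDivisors (MvPowerSeries (Fin d) k) := mem_nonZeroDivisors_of_ne_zero hx0
    have h1 := ringKrullDim_quotient_succ_le_of_nonZeroDivisor hxnzd
    rw [ringKrullDim_mvPowerSeries] at h1
    -- R is a quotient of P/(x)
    have hker : Ideal.span {x} ≤ RingHom.ker ψ.toRingHom := by
      rw [Ideal.span_le, Set.singleton_subset_iff]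
      exact hx
    let q : MvPowerSeries (Fin d) k ⧸ Ideal.span {x} →+* R := Ideal.Quotient.lift _ ψ.toRingHom hker
    have hq : Function.Surjective q := by
      intro y
      obtain ⟨p, rfl⟩ := hsurj y
      exact ⟨Ideal.Quotient.mk _ p, rfl⟩
    have h2 := ringKrullDim_le_of_surjective q hq
    rw [hdimR] at h2
    have h3 : (d : WithBot ℕ∞) + 1 ≤ d := le_trans (by gcongr) h1
    have h4 : ((d + 1 : ℕ) : WithBot ℕ∞) ≤ (d : ℕ) := by exact_mod_cast h3
    have h5 : d + 1 ≤ d := by exact_mod_cast h4
    omega
  · intro hbij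
    exact IsRegularLocalRing.of_ringEquiv (RingEquiv.ofBijective ψ.toRingHom hbij)

end RegPs

end Groth.Agent.Lib.Helper19
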