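import Groth.Agent.Lib.Helper19CoeffUnique
import Groth.Agent.Lib.Helper19CohenStructure
import Groth.Agent.Lib.Helper19RegPs
import Mathlib.Algebra.CharP.MixedCharZero

/-!
# Complete local rings containing a field (EGA 0_IV 19.8.8 (i)) (helper19)
-/

set_option autoImplicit false
set_option linter.style.haveILetI false
set_option linter.unusedSectionVars false
universe u

namespace Groth.Agent.Lib.Helper19.EqualChar

open IsLocalRing MvPowerSeries Groth.Agent.Lib.Helper19.CohenStructure

/-- ring-hom lifting from `C ⧸ I ^ n` to the complete ring `C` for a formally smooth algebra over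
a base `F` out of which ring homomorphisms are unique, given a structure map `F → C` -/
theorem exists_ringHom_lift_of_formallySmooth_of_isAdicComplete' {F : Type} [CommRing F]
    (hF : ∀ {X : Type u} [CommRing X] (f g : F →+* X), f = g)
    {K C : Type u} [CommRing K] [Algebra F K] [Algebra.FormallySmooth F K] [CommRing C]
    (I : Ideal C) [IsAdicComplete I C] (w : F →+* C) (n : ℕ) (hn : n ≠ 0)
    (v₂ : K →+* C ⧸ I ^ n) :
    ∃ v : K →+* C, (Ideal.Quotient.mk (I ^ n)).comp v = v₂ := by
  let e : ULift.{u} F ≃+* F := ULift.ringEquiv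
  have hF' : ∀ {X : Type u} [CommRing X] (f g : ULift.{u} F →+* X), f = g := by
    intro X _ f g
    have h1 : f.comp e.symm.toRingHom = g.comp e.symm.toRingHom := hF _ _
    ext x
    have h2 := RingHom.congr_fun h1 (e x)
    simp only [RingHom.comp_apply, RingEquiv.toRingHom_eq_coe, RingHom.coe_coe,
      RingEquiv.symm_apply_apply] at h2
    exact h2
  letI : Algebra (ULift.{u} F) K := ULift.algebra' F K
  haveI : IsScalarTower F (ULift.{u} F) K := IsScalarTower.of_algebraMap_eq fun _ => rfl
  haveI : Algebra.FormallyUnramified F (ULift.{u} F) :=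
    Algebra.FormallyUnramified.of_equiv (ULift.algEquiv (R := F) (A := F)).symm
  haveI : Algebra.FormallySmooth (ULift.{u} F) K :=
    Algebra.FormallySmooth.of_restrictScalars F (ULift.{u} F) K
  letI : Algebra (ULift.{u} F) C := (w.comp e.toRingHom).toAlgebra
  let v₂' : K →ₐ[ULift.{u} F] C ⧸ I ^ n :=
    { v₂ with
      commutes' := fun r => RingHom.congr_fun
        (hF' (v₂.comp (algebraMap (ULift.{u} F) K)) (algebraMap (ULift.{u} F) (C ⧸ I ^ n))) r }
  obtain ⟨v, hv⟩ := exists_lift_of_formallySmooth_of_isAdicComplete I n hn v₂'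
  exact ⟨v, RingHom.ext fun x => congrArg (fun f : K →ₐ[ULift.{u} F] C ⧸ I ^ n => f x) hv⟩

/-- a complete local ring in which the residue characteristic vanishes has a coefficient field -/
theorem exists_coefficientField_of_natCast_eq_zero (A : Type u) [CommRing A] [IsLocalRing A]
    [IsAdicComplete (maximalIdeal A) A] (p : ℕ) [CharP (ResidueField A) p] (hp : (p : A) = 0) :
    ∃ σ : ResidueField A →+* A, ∀ x, residue A (σ x) = x := by
  let v₂ : ResidueField A →+* A ⧸ maximalIdeal A ^ 1 :=
    (Ideal.quotEquivOfEq (pow_one (maximalIdeal A)).symm : (A ⧸ maximalIdeal A) →+* _)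
  have key : ∀ v : ResidueField A →+* A,
      (Ideal.Quotient.mk (maximalIdeal A ^ 1)).comp v = v₂ → ∀ x, residue A (v x) = x := by
    intro v hv x
    have h1 := RingHom.congr_fun hv x
    have h2 := congrArg (Ideal.quotEquivOfEq (pow_one (maximalIdeal A))) h1
    rw [RingHom.comp_apply, Ideal.quotEquivOfEq_mk] at h2
    rw [show residue A (v x) = Ideal.Quotient.mk (maximalIdeal A) (v x) from rfl, h2]
    change Ideal.quotEquivOfEq (pow_one (maximalIdeal A))
      (Ideal.quotEquivOfEq (pow_one (maximalIdeal A)).symm x) = x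
    obtain ⟨a, rfl⟩ := Ideal.Quotient.mk_surjective x
    rw [Ideal.quotEquivOfEq_mk, Ideal.quotEquivOfEq_mk]
  rcases CharP.char_is_prime_or_zero (ResidueField A) p with hpp | rfl
  · haveI : Fact p.Prime := ⟨hpp⟩
    haveI : CharP A p := (CharP.charP_iff_prime_eq_zero hpp).2 hp
    letI : Algebra (ZMod p) (ResidueField A) := ZMod.algebra _ p
    haveI : Algebra.FormallySmooth (ZMod p) (ResidueField A) := PBasis.formallySmooth_zmod p _
    obtain ⟨v, hv⟩ := exists_ringHom_lift_of_formallySmooth_of_isAdicComplete' (F := ZMod p)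
      (fun f g => Subsingleton.elim f g) (maximalIdeal A) (ZMod.castHom (dvd_refl p) A) 1
      one_ne_zero v₂
    exact ⟨v, key v hv⟩
  · haveI : CharZero (ResidueField A) := CharP.charP_to_charZero _
    have hQ : Nonempty (Algebra ℚ A) := by
      rw [EqualCharZero.nonempty_algebraRat_iff]
      intro I hI
      have hle : I ≤ maximalIdeal A := IsLocalRing.le_maximalIdeal hI
      haveI : CharZero (A ⧸ maximalIdeal A) := (inferInstance : CharZero (ResidueField A))
      exact (Ideal.Quotient.factor hle).charZero
    obtain ⟨hQA⟩ := hQ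
    haveI : Algebra.FormallySmooth ℚ (ResidueField A) := FSArtin.formallySmooth_rat _
    obtain ⟨v, hv⟩ := exists_ringHom_lift_of_formallySmooth_of_isAdicComplete' (F := ℚ)
      (fun f g => Subsingleton.elim f g) (maximalIdeal A) (algebraMap ℚ A) 1 one_ne_zero v₂
    exact ⟨v, key v hv⟩

end Groth.Agent.Lib.Helper19.EqualChar

namespace Groth.Agent.Lib.Helper19.EqualChar

open IsLocalRing MvPowerSeries Groth.Agent.Lib.Helper19.CohenStructure

/-- a complete Noetherian local ring with a coefficient field is a quotient of a power series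
ring over its residue field by an ideal contained in the square of the maximal ideal -/
theorem exists_surjective_mvPowerSeries_of_coefficientField (A : Type u) [CommRing A]
    [IsLocalRing A] [IsNoetherianRing A] [IsAdicComplete (maximalIdeal A) A]
    (σ : ResidueField A →+* A) (hσ : ∀ x, residue A (σ x) = x) :
    ∃ (n : ℕ) (f : MvPowerSeries (Fin n) (ResidueField A) →+* A), Function.Surjective f ∧
      RingHom.ker f ≤ maximalIdeal (MvPowerSeries (Fin n) (ResidueField A)) ^ 2 ∧
      ∀ c, f (C c) = σ c := by
  letI : Algebra (ResidueField A) A := σ.toAlgebra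
  let resR : A →ₐ[ResidueField A] ResidueField A :=
    { residue A with commutes' := fun c => hσ c }
  let d := Module.finrank (ResidueField A) (CotangentSpace A)
  let b : Module.Basis (Fin d) (ResidueField A) (CotangentSpace A) :=
    Module.finBasis (ResidueField A) (CotangentSpace A)
  choose a' ha' using fun i => Ideal.toCotangent_surjective (maximalIdeal A) (b i)
  let a : Fin d → A := fun i => (a' i : A)
  have ham : ∀ i, a i ∈ maximalIdeal A := fun i => (a' i).2
  obtain ⟨ψ, hψX⟩ := CohenStructure.exists_algHom_X_eq_of_isAdicComplete (Λ := ResidueField A)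
    (maximalIdeal A) d a ham
  have hψ : ∀ i : Fin d, ψ (X i) ∈ maximalIdeal A := fun i => by rw [hψX]; exact ham i
  have hfam : (fun i : Fin d => (maximalIdeal A).toCotangent ⟨ψ (X i), hψ i⟩) = b := by
    funext i
    have : (⟨ψ (X i), hψ i⟩ : maximalIdeal A) = a' i := Subtype.ext (hψX i)
    rw [this, ha']
  have hb : LinearIndependent (ResidueField A)
      (fun i : Fin d => (maximalIdeal A).toCotangent ⟨ψ (X i), hψ i⟩) := by
    rw [hfam]; exact b.linearIndependent
  have hsp : Submodule.span (ResidueField A)
      (Set.range (fun i : Fin d => (maximalIdeal A).toCotangent ⟨ψ (X i), hψ i⟩)) = ⊤ := by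
    rw [hfam]; exact b.span_eq
  refine ⟨d, ψ, ps_surjective ψ hψ resR hsp, ps_ker_le_sq ψ hψ resR hb, fun c => ?_⟩
  have h2 : (C c : MvPowerSeries (Fin d) (ResidueField A)) =
      algebraMap (ResidueField A) (MvPowerSeries (Fin d) (ResidueField A)) c := by
    rw [MvPowerSeries.algebraMap_apply, Algebra.algebraMap_self, RingHom.id_apply]
  change ψ (C c) = σ c
  rw [h2]
  exact ψ.commutes c

/-- EGA 0_IV 19.8.8 (i) (S4511) -/
theorem tfae_complete_local_contains_field (A : Type u) [CommRing A] [IsLocalRing A]
    [IsNoetherianRing A] [IsAdicComplete (maximalIdeal A) A] (p : ℕ)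
    [CharP (ResidueField A) p] :
    [∃ (K : Type u) (_ : Field K), Nonempty (K →+* A),
     (p : A) = 0,
     ∃ (K : Type u) (_ : Field K) (n : ℕ) (f : MvPowerSeries (Fin n) K →+* A),
      Function.Surjective f].TFAE ∧
    ((p : A) = 0 → ∃ (K : Type u) (_ : Field K) (n : ℕ) (f : MvPowerSeries (Fin n) K →+* A),
      Function.Surjective f ∧ RingHom.ker f ≤ maximalIdeal (MvPowerSeries (Fin n) K) ^ 2) := by
  have main : (p : A) = 0 → ∃ (K : Type u) (_ : Field K) (n : ℕ)
      (f : MvPowerSeries (Fin n) K →+* A),
      Function.Surjective f ∧ RingHom.ker f ≤ maximalIdeal (MvPowerSeries (Fin n) K) ^ 2 := by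
    intro hp
    obtain ⟨σ, hσ⟩ := exists_coefficientField_of_natCast_eq_zero A p hp
    obtain ⟨n, f, hf, hker, -⟩ := exists_surjective_mvPowerSeries_of_coefficientField A σ hσ
    exact ⟨ResidueField A, inferInstance, n, f, hf, hker⟩
  refine ⟨?_, main⟩
  tfae_have 1 → 2 := by
    rintro ⟨K, _, ⟨g⟩⟩
    let h : K →+* ResidueField A := (residue A).comp g
    haveI : CharP K p := (RingHom.charP_iff h h.injective p).2 inferInstance
    rw [← map_natCast g, CharP.cast_eq_zero, map_zero]
  tfae_have 2 → 3 := by
    intro hp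
    obtain ⟨K, i, n, f, hf, -⟩ := main hp
    exact ⟨K, i, n, f, hf⟩
  tfae_have 3 → 1 := by
    rintro ⟨K, _, n, f, -⟩
    exact ⟨K, inferInstance, ⟨f.comp C⟩⟩
  tfae_finish

end Groth.Agent.Lib.Helper19.EqualChar
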