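import Groth.Agent.Lib.Helper19Normalization
import Groth.Agent.Lib.Helper19EqualChar
import Mathlib.RingTheory.KrullDimension.Regular

/-!
# Power series normalization of complete local domains: S0581, S2460 (helper19)
-/

set_option autoImplicit false
set_option linter.style.haveILetI false
set_option linter.unusedSectionVars false
universe u

namespace Groth.Agent.Lib.Helper19.Normalization

open IsLocalRing MvPowerSeries

attribute [local instance] isAdicComplete_field

theorem exists_nat_ringKrullDim_quot (R : Type u) [CommRing R] [IsLocalRing R] [IsNoetherianRing R]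
    (x : R) (hx : x ∈ maximalIdeal R) :
    ∃ m : ℕ, ringKrullDim (R ⧸ Ideal.span {x}) = m := by
  haveI : IsLocalRing (R ⧸ Ideal.span {x}) :=
    isLocalRing_quotient_of_le _ (Ideal.span_le.2 (Set.singleton_subset_iff.2 hx))
  exact exists_nat_ringKrullDim _

/-- EGA 0_IV 19.8.8 (ii), equal characteristic over a base field (S2460) -/
theorem exists_powerSeries_subring_finite {k₀ A : Type u} [Field k₀] [CommRing A] [IsDomain A]
    [IsLocalRing A] [IsNoetherianRing A] [IsAdicComplete (maximalIdeal A) A] [Algebra k₀ A]
    [Module.Finite k₀ (ResidueField A)] :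
    ∃ (n : ℕ) (w : MvPowerSeries (Fin n) k₀ →ₐ[k₀] A), Function.Injective w ∧
      IsLocalHom w.toRingHom ∧ w.toRingHom.Finite := by
  obtain ⟨d, hd⟩ := exists_nat_ringKrullDim A
  obtain ⟨s, bb, hbb⟩ := Module.Finite.exists_fin (R := k₀) (M := ResidueField A)
  choose b hb using fun l => residue_surjective (bb l)
  have hbres : ∀ r : A, ∃ c : Fin s → k₀, r - ∑ l, c l • b l ∈ maximalIdeal A := by
    intro r
    have h1 : residue A r ∈ Submodule.span k₀ (Set.range bb) := by
      rw [hbb]; exact Submodule.mem_top
    obtain ⟨c, hc⟩ := (Submodule.mem_span_range_iff_exists_fun k₀).1 h1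
    refine ⟨c, ?_⟩
    rw [← residue_eq_zero_iff, map_sub, sub_eq_zero, ← hc, map_sum]
    apply Finset.sum_congr rfl
    intro l _
    rw [Algebra.smul_def, Algebra.smul_def (c l) (b l), map_mul, hb]
    rfl
  have hloc : ∀ x ∈ maximalIdeal k₀, algebraMap k₀ A x ∈ maximalIdeal A := by
    intro x hx
    rw [IsLocalRing.maximalIdeal_eq_bot, Ideal.mem_bot] at hx
    rw [hx, map_zero]
    exact zero_mem _
  have hm : ringKrullDim (A ⧸ (maximalIdeal k₀).map (algebraMap k₀ A)) = d := by
    rw [IsLocalRing.maximalIdeal_eq_bot, Ideal.map_bot,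
      ringKrullDim_eq_of_ringEquiv (RingEquiv.quotientBot A), hd]
  have hdim : ringKrullDim k₀ + (d : WithBot ℕ∞) ≤ ringKrullDim A := by
    rw [ringKrullDim_eq_zero_of_field, zero_add, hd]
  obtain ⟨ψ, hinj, hfin, -, hQm⟩ :=
    exists_finite_injective_mvPowerSeries (Λ := k₀) (R := A) hloc b hbres d hm hdim
  refine ⟨d, ψ, hinj, ⟨fun g hg => ?_⟩, hfin⟩
  by_contra hgu
  have h1 : g ∈ maximalIdeal (MvPowerSeries (Fin d) k₀) := (mem_maximalIdeal g).2 hgu
  have h2 : ψ.toRingHom g ∈ maximalIdeal A := hQm (Ideal.mem_map_of_mem _ h1)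
  exact (mem_maximalIdeal _).1 h2 hg

open Groth.Agent.Lib.Helper19.CohenStructure Groth.Agent.Lib.Helper19.FlatLift in
/-- Cohen's structure theorem for complete local domains (S0581): finite over a power series ring
over a field or a Cohen ring -/
theorem exists_finite_injective_mvPowerSeries_of_complete_local_domain (R : Type u) [CommRing R]
    [IsDomain R] [IsLocalRing R] [IsNoetherianRing R] [IsAdicComplete (maximalIdeal R) R] :
    ∃ (Λ : Type u) (_ : CommRing Λ) (n : ℕ) (f : MvPowerSeries (Fin n) Λ →+* R),
      (IsField Λ ∨ CAlg.IsCohenRing Λ) ∧ Function.Injective f ∧ f.Finite ∧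
      Function.Surjective ((residue R).comp f) := by
  obtain ⟨p, hp⟩ := CharP.exists (ResidueField R)
  by_cases h0 : (p : R) = 0
  · -- equal characteristic
    obtain ⟨σ, hσ⟩ := EqualChar.exists_coefficientField_of_natCast_eq_zero R p h0
    letI : Algebra (ResidueField R) R := σ.toAlgebra
    have halg : ∀ x : ResidueField R, algebraMap (ResidueField R) R x = σ x := fun x => rfl
    obtain ⟨d, hd⟩ := exists_nat_ringKrullDim R
    have hloc : ∀ x ∈ maximalIdeal (ResidueField R),
        algebraMap (ResidueField R) R x ∈ maximalIdeal R := by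
      intro x hx
      rw [IsLocalRing.maximalIdeal_eq_bot, Ideal.mem_bot] at hx
      rw [hx, map_zero]
      exact zero_mem _
    have hm : ringKrullDim (R ⧸ (maximalIdeal (ResidueField R)).map
        (algebraMap (ResidueField R) R)) = d := by
      rw [IsLocalRing.maximalIdeal_eq_bot, Ideal.map_bot,
        ringKrullDim_eq_of_ringEquiv (RingEquiv.quotientBot R), hd]
    have hdim : ringKrullDim (ResidueField R) + (d : WithBot ℕ∞) ≤ ringKrullDim R := by
      rw [ringKrullDim_eq_zero_of_field, zero_add, hd]
    have hb : ∀ r : R, ∃ c : Fin 1 → ResidueField R,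
        r - ∑ l, c l • (fun _ : Fin 1 => (1 : R)) l ∈ maximalIdeal R := by
      intro r
      refine ⟨fun _ => residue R r, ?_⟩
      simp only [Finset.univ_unique, Finset.sum_singleton, Algebra.smul_def, mul_one]
      rw [halg, ← residue_eq_zero_iff, map_sub, hσ, sub_self]
    obtain ⟨ψ, hinj, hfin, hψC, -⟩ :=
      exists_finite_injective_mvPowerSeries (Λ := ResidueField R) (R := R) hloc
        (fun _ : Fin 1 => (1 : R)) hb d hm hdim
    refine ⟨ResidueField R, inferInstance, d, ψ.toRingHom, Or.inl (Field.toIsField _), hinj,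
      hfin, fun x => ⟨C x, ?_⟩⟩
    change residue R (ψ (C x)) = x
    rw [hψC, halg]
    exact hσ x
  · -- mixed characteristic
    have hpp : p.Prime := by
      rcases CharP.char_is_prime_or_zero (ResidueField R) p with h | h
      · exact h
      · exfalso; apply h0; rw [h, Nat.cast_zero]
    obtain ⟨Λ, i1, i2, i3, φ, hΛE, -, hloc, hres⟩ := exists_coefficientRing' R
    have hpm : (p : R) ∈ maximalIdeal R := by
      rw [← residue_eq_zero_iff, map_natCast]
      exact CharP.cast_eq_zero _ p
    rcases hΛE with ⟨hf, hc0⟩ | hcohen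
    · exfalso
      -- the residue field has characteristic zero
      letI : Field Λ := hf.toField
      have hinj : Function.Injective ((residue R).comp φ) := RingHom.injective _
      have h1 : ((residue R).comp φ) (p : Λ) = 0 := by
        rw [map_natCast]
        exact CharP.cast_eq_zero _ p
      have h2 : (p : Λ) = 0 := hinj (by rw [h1, map_zero])
      exact hpp.ne_zero (by exact_mod_cast h2)
    · obtain ⟨hdom, hdvr, hcompl, q, hq, hmax⟩ := id hcohen
      have hqm : (q : R) ∈ maximalIdeal R := by
        rw [← map_natCast φ]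
        apply hloc
        rw [hmax]; exact Ideal.subset_span rfl
      have hqp : q = p := prime_eq_of_natCast_mem_maximalIdeal hpp hq hpm hqm
      subst hqp
      letI : Algebra Λ R := φ.toAlgebra
      have halg : ∀ x, algebraMap Λ R x = φ x := fun x => rfl
      obtain ⟨d, hd⟩ := exists_nat_ringKrullDim R
      have hI : (maximalIdeal Λ).map (algebraMap Λ R) = Ideal.span {(q : R)} := by
        rw [hmax, Ideal.map_span, Set.image_singleton, halg, map_natCast]
      have hreg : IsSMulRegular R (q : R) := fun a b h => mul_left_cancel₀ h0 h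
      have hdim1 := ringKrullDim_quotient_span_singleton_succ_eq_ringKrullDim hreg hpm
      -- `d ≥ 1`
      obtain ⟨m, hm⟩ := exists_nat_ringKrullDim_quot R (q : R) hpm
      rw [hm, hd] at hdim1
      have hdm : m + 1 = d := by exact_mod_cast hdim1
      have hb : ∀ r : R, ∃ c : Fin 1 → Λ, r - ∑ l, c l • (fun _ : Fin 1 => (1 : R)) l ∈
          maximalIdeal R := by
        intro r
        obtain ⟨l, hl⟩ := hres r
        refine ⟨fun _ => l, ?_⟩
        simp only [Finset.univ_unique, Finset.sum_singleton, Algebra.smul_def, mul_one]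
        exact hl
      have hΛdim : ringKrullDim Λ = 1 := IsDiscreteValuationRing.ringKrullDim_eq_one Λ
      obtain ⟨ψ, hinj, hfin, hψC, -⟩ :=
        exists_finite_injective_mvPowerSeries (Λ := Λ) (R := R) hloc (fun _ : Fin 1 => (1 : R)) hb
          m (by rw [hI, hm]) (by
            rw [hΛdim, hd, ← hdm]
            push_cast
            rw [add_comm])
      refine ⟨Λ, i1, m, ψ.toRingHom, Or.inr hcohen, hinj, hfin, fun x => ?_⟩
      obtain ⟨r, rfl⟩ := residue_surjective x
      obtain ⟨l, hl⟩ := hres r
      refine ⟨C l, ?_⟩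
      change residue R (ψ (C l)) = residue R r
      rw [hψC, halg]
      symm
      rw [← sub_eq_zero, ← map_sub, residue_eq_zero_iff]
      exact hl

end Groth.Agent.Lib.Helper19.Normalization
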