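import Mathlib
import Groth.Prelude.Def_W4c5adicflatcomplDec

/-!
# Flat modules over a local ring: independence modulo arbitrary ideals
-/

set_option autoImplicit false

open IsLocalRing
open scoped TensorProduct

universe u v w

namespace Groth.Agent.Lib.Helper14.AdicFree

variable {R : Type u} [CommRing R] {M : Type v} [AddCommGroup M] [Module R M]

/-- `M / J M` is flat over `R / J` when `M` is flat over `R`. -/
theorem flat_quotient [Module.Flat R M] (J : Ideal R) :
    Module.Flat (R ⧸ J) (M ⧸ (J • ⊤ : Submodule R M)) := by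
  have e : ((R ⧸ J) ⊗[R] M) ≃ₗ[R ⧸ J] (M ⧸ (J • ⊤ : Submodule R M)) :=
    (TensorProduct.quotTensorEquivQuotSMul M J).extendScalarsOfSurjective
      (Ideal.Quotient.mk_surjective (I := J))
  exact Module.Flat.of_linearEquiv e.symm

variable [IsLocalRing R] {ι : Type w} (v : ι → M)

/-- If the `v i` are independent modulo the maximal ideal and `M` is flat, then they are independent
modulo every proper ideal. -/
theorem mem_of_sum_mem [Module.Flat R M]
    (hv : ∀ (s : Finset ι) (f : ι → R),
      ∑ i ∈ s, f i • v i ∈ (maximalIdeal R • ⊤ : Submodule R M) → ∀ i ∈ s, f i ∈ maximalIdeal R)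
    (J : Ideal R) (hJ : J ≠ ⊤) (s : Finset ι) (f : ι → R)
    (h : ∑ i ∈ s, f i • v i ∈ (J • ⊤ : Submodule R M)) : ∀ i ∈ s, f i ∈ J := by
  classical
  have hnt : Nontrivial (R ⧸ J) := Ideal.Quotient.nontrivial_iff.mpr hJ
  have hloc : IsLocalRing (R ⧸ J) :=
    IsLocalRing.of_surjective' (Ideal.Quotient.mk J) Ideal.Quotient.mk_surjective
  have hflat : Module.Flat (R ⧸ J) (M ⧸ (J • ⊤ : Submodule R M)) := flat_quotient J
  have hJm : J ≤ maximalIdeal R := IsLocalRing.le_maximalIdeal hJ
  let v' : ι → M ⧸ (J • ⊤ : Submodule R M) := fun i => Submodule.Quotient.mk (v i)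
  -- elements of `m' • ⊤` lift into `m • ⊤`
  have hlift : ∀ x : M, (Submodule.Quotient.mk x : M ⧸ (J • ⊤ : Submodule R M)) ∈
      (maximalIdeal (R ⧸ J) • ⊤ : Submodule (R ⧸ J) (M ⧸ (J • ⊤ : Submodule R M))) →
      x ∈ (maximalIdeal R • ⊤ : Submodule R M) := by
    intro x hx
    have hle : (J • ⊤ : Submodule R M) ≤ maximalIdeal R • ⊤ := Submodule.smul_mono hJm le_rfl
    let π : (M ⧸ (J • ⊤ : Submodule R M)) →ₗ[R] M ⧸ (maximalIdeal R • ⊤ : Submodule R M) :=
      Submodule.mapQ _ _ LinearMap.id hle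
    have hπ : ∀ y ∈ (maximalIdeal (R ⧸ J) • ⊤ :
        Submodule (R ⧸ J) (M ⧸ (J • ⊤ : Submodule R M))), π y = 0 := by
      intro y hy
      refine Submodule.smul_induction_on hy ?_ ?_
      · intro r' hr' y' _
        obtain ⟨r, rfl⟩ := Ideal.Quotient.mk_surjective r'
        obtain ⟨y'', rfl⟩ := Submodule.Quotient.mk_surjective _ y'
        have hr : r ∈ maximalIdeal R := by
          rw [IsLocalRing.mem_maximalIdeal, mem_nonunits_iff] at hr' ⊢
          intro hu
          exact hr' (hu.map (Ideal.Quotient.mk J))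
        rw [Module.Quotient.mk_smul_mk]
        change Submodule.Quotient.mk (r • y'') = 0
        rw [Submodule.Quotient.mk_eq_zero]
        exact Submodule.smul_mem_smul hr Submodule.mem_top
      · intro y₁ y₂ h1 h2
        rw [map_add, h1, h2, add_zero]
    have := hπ _ hx
    change Submodule.Quotient.mk x = 0 at this
    rwa [Submodule.Quotient.mk_eq_zero] at this
  have hli : LinearIndependent (ResidueField (R ⧸ J))
      (⇑((TensorProduct.mk (R ⧸ J) (ResidueField (R ⧸ J)) (M ⧸ (J • ⊤ : Submodule R M))) 1) ∘ v') := by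
    rw [linearIndependent_iff']
    intro t g hg i hi
    have hsurj : Function.Surjective (IsLocalRing.residue (R ⧸ J)) := Ideal.Quotient.mk_surjective
    choose r hr using fun i => (hsurj.comp Ideal.Quotient.mk_surjective) (g i)
    have h1 : ∑ i ∈ t, g i • ((TensorProduct.mk (R ⧸ J) (ResidueField (R ⧸ J))
        (M ⧸ (J • ⊤ : Submodule R M))) 1 (v' i)) =
        (TensorProduct.mk (R ⧸ J) (ResidueField (R ⧸ J)) (M ⧸ (J • ⊤ : Submodule R M))) 1
          (Submodule.Quotient.mk (∑ i ∈ t, r i • v i)) := by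
      rw [← Submodule.mkQ_apply, map_sum, map_sum]
      refine Finset.sum_congr rfl fun i _ => ?_
      rw [Submodule.mkQ_apply, ← hr i]
      simp only [Function.comp_apply, TensorProduct.mk_apply, v']
      have e1 : r i • (Submodule.Quotient.mk (v i) : M ⧸ (J • ⊤ : Submodule R M)) =
          (Ideal.Quotient.mk J (r i)) • Submodule.Quotient.mk (v i) := rfl
      rw [TensorProduct.smul_tmul', Submodule.Quotient.mk_smul, e1, TensorProduct.tmul_smul,
        TensorProduct.smul_tmul']
      congr 1
    simp only [Function.comp_apply] at hg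
    rw [h1] at hg
    have hker := LinearMap.ker_tensorProductMk (R := R ⧸ J) (Q := M ⧸ (J • ⊤ : Submodule R M))
      (I := maximalIdeal (R ⧸ J))
    have hg' : (Submodule.Quotient.mk (∑ i ∈ t, r i • v i) : M ⧸ (J • ⊤ : Submodule R M)) ∈
        (maximalIdeal (R ⧸ J) • ⊤ : Submodule (R ⧸ J) (M ⧸ (J • ⊤ : Submodule R M))) := by
      rw [← hker]
      exact LinearMap.mem_ker.mpr hg
    have h2 := hv t r (hlift _ hg') i hi
    rw [← hr i]
    change IsLocalRing.residue (R ⧸ J) (Ideal.Quotient.mk J (r i)) = 0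
    rw [IsLocalRing.residue_eq_zero_iff, IsLocalRing.mem_maximalIdeal, mem_nonunits_iff]
    intro hu
    have : IsUnit (r i) := by
      have hloc' : IsLocalHom (Ideal.Quotient.mk J) :=
        IsLocalHom.of_surjective _ Ideal.Quotient.mk_surjective
      exact hloc'.map_nonunit _ hu
    exact (IsLocalRing.mem_maximalIdeal _).mp h2 this
  have hli' := Module.IsLocalRing.linearIndependent_of_flat v' hli
  rw [linearIndependent_iff'] at hli'
  intro i hi
  have h0 : ∑ i ∈ s, (Ideal.Quotient.mk J (f i)) • v' i = 0 := by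
    have : (Submodule.Quotient.mk (∑ i ∈ s, f i • v i) : M ⧸ (J • ⊤ : Submodule R M)) = 0 := by
      rwa [Submodule.Quotient.mk_eq_zero]
    rw [← this, ← Submodule.mkQ_apply, map_sum]
    refine Finset.sum_congr rfl fun i _ => ?_
    rw [Submodule.mkQ_apply, Submodule.Quotient.mk_smul]
    rfl
  have := hli' s (fun i => Ideal.Quotient.mk J (f i)) h0 i hi
  exact Ideal.Quotient.eq_zero_iff_mem.mp this

end Groth.Agent.Lib.Helper14.AdicFree
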