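import Mathlib
import Groth.Prelude.Def_W4c5adicflatcomplDec

/-!
# Adically convergent sums `∑ g z • f z` for decaying `g`
-/

set_option autoImplicit false

open W4c5adicflatcompl

universe u v w

namespace Groth.Agent.Lib.Helper14.AdicSum

variable {A : Type u} [CommRing A] (I : Ideal A) {Z : Type v} {M : Type w} [AddCommGroup M]
  [Module A M]

/-- `L` is the `I`-adically convergent sum of the `g z • f z`. -/
def IsSum (f : Z → M) (g : Z → A) (L : M) : Prop :=
  ∀ n : ℕ, ∃ S : Finset Z, (∀ z, z ∉ S → g z ∈ I ^ n) ∧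
    L - ∑ z ∈ S, g z • f z ∈ (I ^ n • ⊤ : Submodule A M)

variable {I}

theorem sum_sdiff_mem (f : Z → M) (g : Z → A) (n : ℕ) {S T : Finset Z} (hST : S ⊆ T)
    (hS : ∀ z, z ∉ S → g z ∈ I ^ n) :
    ∑ z ∈ T, g z • f z - ∑ z ∈ S, g z • f z ∈ (I ^ n • ⊤ : Submodule A M) := by
  classical
  rw [← Finset.sum_sdiff hST, add_sub_cancel_right]
  refine Submodule.sum_mem _ fun z hz => ?_
  rw [Finset.mem_sdiff] at hz
  exact Submodule.smul_mem_smul (hS z hz.2) Submodule.mem_top

/-- A witness `S` at level `n` can be enlarged. -/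
theorem IsSum.mono {f : Z → M} {g : Z → A} {L : M} (n : ℕ) {S T : Finset Z} (hST : S ⊆ T)
    (hS : ∀ z, z ∉ S → g z ∈ I ^ n)
    (hL : L - ∑ z ∈ S, g z • f z ∈ (I ^ n • ⊤ : Submodule A M)) :
    (∀ z, z ∉ T → g z ∈ I ^ n) ∧ L - ∑ z ∈ T, g z • f z ∈ (I ^ n • ⊤ : Submodule A M) := by
  refine ⟨fun z hz => hS z fun h => hz (hST h), ?_⟩
  have := Submodule.sub_mem _ hL (sum_sdiff_mem f g n hST hS)
  convert this using 1
  abel

theorem IsSum.add {f : Z → M} {g h : Z → A} {L L' : M} (hg : IsSum I f g L)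
    (hh : IsSum I f h L') : IsSum I f (g + h) (L + L') := by
  classical
  intro n
  obtain ⟨S, hS1, hS2⟩ := hg n
  obtain ⟨T, hT1, hT2⟩ := hh n
  obtain ⟨h1, h2⟩ := IsSum.mono n (Finset.subset_union_left (s₂ := T)) hS1 hS2
  obtain ⟨h3, h4⟩ := IsSum.mono n (Finset.subset_union_right (s₁ := S)) hT1 hT2
  refine ⟨S ∪ T, fun z hz => Ideal.add_mem _ (h1 z hz) (h3 z hz), ?_⟩
  have := Submodule.add_mem _ h2 h4
  convert this using 1
  simp only [Pi.add_apply, add_smul, Finset.sum_add_distrib]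
  abel

theorem IsSum.smul {f : Z → M} {g : Z → A} {L : M} (a : A) (hg : IsSum I f g L) :
    IsSum I f (a • g) (a • L) := by
  intro n
  obtain ⟨S, hS1, hS2⟩ := hg n
  refine ⟨S, fun z hz => Ideal.mul_mem_left _ _ (hS1 z hz), ?_⟩
  have := Submodule.smul_mem _ a hS2
  convert this using 1
  simp only [Pi.smul_apply, smul_eq_mul, mul_smul, smul_sub, Finset.smul_sum]

theorem IsSum.unique [IsHausdorff I M] {f : Z → M} {g : Z → A} {L L' : M}
    (h : IsSum I f g L) (h' : IsSum I f g L') : L = L' := by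
  classical
  rw [← sub_eq_zero]
  apply IsHausdorff.haus ‹IsHausdorff I M›
  intro n
  rw [SModEq.zero]
  obtain ⟨S, hS1, hS2⟩ := h n
  obtain ⟨T, hT1, hT2⟩ := h' n
  obtain ⟨-, h2⟩ := IsSum.mono n (Finset.subset_union_left (s₂ := T)) hS1 hS2
  obtain ⟨-, h4⟩ := IsSum.mono n (Finset.subset_union_right (s₁ := S)) hT1 hT2
  have := Submodule.sub_mem _ h2 h4
  convert this using 1
  abel

theorem mem_pow_of_mem_smul_top (n : ℕ) (a : A) (h : a ∈ (I ^ n • ⊤ : Submodule A A)) :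
    a ∈ I ^ n := by
  rwa [smul_eq_mul, Ideal.mul_top] at h

theorem IsSum.exists [IsPrecomplete I M] (f : Z → M) (g : Z → A) (hg : g ∈ decaying I Z A) :
    ∃ L, IsSum I f g L := by
  classical
  rw [mem_decaying_iff] at hg
  let S : ℕ → Finset Z := fun n => (hg n).toFinset
  have hS : ∀ n z, z ∉ S n → g z ∈ I ^ n := by
    intro n z hz
    simp only [S, Set.Finite.mem_toFinset, Set.mem_ofPred_eq, not_not] at hz
    exact mem_pow_of_mem_smul_top n _ hz
  have hmono : ∀ {m n : ℕ}, m ≤ n → S m ⊆ S n := by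
    intro m n hmn z hz
    by_contra hcon
    have h1 := hS n z hcon
    simp only [S, Set.Finite.mem_toFinset, Set.mem_ofPred_eq] at hz
    apply hz
    rw [smul_eq_mul, Ideal.mul_top]
    exact Ideal.pow_le_pow_right hmn h1
  let s : ℕ → M := fun n => ∑ z ∈ S n, g z • f z
  have hcau : ∀ {m n : ℕ}, m ≤ n → s m ≡ s n [SMOD (I ^ m • ⊤ : Submodule A M)] := by
    intro m n hmn
    rw [SModEq.comm, SModEq.sub_mem]
    exact sum_sdiff_mem f g m (hmono hmn) (hS m)
  obtain ⟨L, hL⟩ := IsPrecomplete.prec ‹IsPrecomplete I M› hcau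
  refine ⟨L, fun n => ⟨S n, hS n, ?_⟩⟩
  have := hL n
  rw [SModEq.comm, SModEq.sub_mem] at this
  exact this

/-- The `A`-linear map `g ↦ ∑ g z • f z` on decaying functions. -/
theorem exists_linearMap [IsAdicComplete I M] (f : Z → M) :
    ∃ φ : decaying I Z A →ₗ[A] M, ∀ g : decaying I Z A, IsSum I f (g : Z → A) (φ g) := by
  choose L hL using fun g : decaying I Z A => IsSum.exists (I := I) f (g : Z → A) g.2
  refine ⟨{ toFun := L, map_add' := ?_, map_smul' := ?_ }, hL⟩
  · intro g h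
    exact IsSum.unique (hL (g + h)) ((hL g).add (hL h))
  · intro a g
    exact IsSum.unique (hL (a • g)) ((hL g).smul a)

end Groth.Agent.Lib.Helper14.AdicSum
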