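import Mathlib
import Groth.Prelude.Def_W4c5adicflatcomplDec
import Groth.Agent.Lib.Helper14AdicSum

/-!
# Adic generation: a family generating `M / I M` adically generates a complete module `M`
-/

set_option autoImplicit false

open W4c5adicflatcompl

universe u v w

namespace Groth.Agent.Lib.Helper14.AdicSum

variable {A : Type u} [CommRing A] {I : Ideal A} {Z : Type v} {M : Type w} [AddCommGroup M]
  [Module A M]

/-- one approximation step -/
theorem exists_approx (m : Z → M) (hm : Submodule.span A (Set.range m) ⊔ I • ⊤ = ⊤) (n : ℕ)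
    (y : M) (hy : y ∈ (I ^ n • ⊤ : Submodule A M)) :
    ∃ c : Z →₀ A, (∀ z, c z ∈ I ^ n) ∧
      y - Finsupp.linearCombination A m c ∈ (I ^ (n + 1) • ⊤ : Submodule A M) := by
  refine Submodule.smul_induction_on hy ?_ ?_
  · intro a ha y' _
    have hy' : y' ∈ Submodule.span A (Set.range m) ⊔ I • ⊤ := by
      rw [hm]; exact Submodule.mem_top
    obtain ⟨u, hu, w, hw, rfl⟩ := Submodule.mem_sup.mp hy'
    rw [← Finsupp.range_linearCombination] at hu
    obtain ⟨b, rfl⟩ := hu
    refine ⟨a • b, fun z => ?_, ?_⟩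
    · rw [Finsupp.smul_apply, smul_eq_mul]
      exact Ideal.mul_mem_right _ _ ha
    · rw [map_smul, smul_add, add_sub_cancel_left, pow_succ, Submodule.mul_smul]
      exact Submodule.smul_mem_smul ha hw
  · rintro y₁ y₂ ⟨c₁, h1, h1'⟩ ⟨c₂, h2, h2'⟩
    refine ⟨c₁ + c₂, fun z => ?_, ?_⟩
    · rw [Finsupp.add_apply]
      exact Ideal.add_mem _ (h1 z) (h2 z)
    · have := Submodule.add_mem _ h1' h2'
      convert this using 1
      rw [map_add]
      abel

/-- If the `m z` generate `M / I M` and `A`, `M` are `I`-adically complete, every element of `M`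
is an adically convergent sum `∑ g z • m z` with `g` decaying. -/
theorem exists_isSum_of_span_sup_eq_top [IsPrecomplete I A] (m : Z → M)
    (hm : Submodule.span A (Set.range m) ⊔ I • ⊤ = ⊤) (x : M) :
    ∃ g : Z → A, g ∈ decaying I Z A ∧ IsSum I m g x := by
  classical
  choose c hc1 hc2 using exists_approx m hm
  -- the remainders
  let Y : ∀ n : ℕ, {y : M // y ∈ (I ^ n • ⊤ : Submodule A M)} := fun n =>
    Nat.rec (motive := fun n => {y : M // y ∈ (I ^ n • ⊤ : Submodule A M)})
      ⟨x, by simp⟩
      (fun n y => ⟨y.1 - Finsupp.linearCombination A m (c n y.1 y.2), hc2 n y.1 y.2⟩) n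
  let C : ℕ → (Z →₀ A) := fun n => c n (Y n).1 (Y n).2
  have hY0 : (Y 0).1 = x := rfl
  have hYs : ∀ n : ℕ, (Y (n + 1)).1 = (Y n).1 - Finsupp.linearCombination A m (C n) := fun n => rfl
  have hC : ∀ n z, C n z ∈ I ^ n := fun n z => hc1 n (Y n).1 (Y n).2 z
  have htel : ∀ N : ℕ, x - ∑ k ∈ Finset.range N, Finsupp.linearCombination A m (C k) = (Y N).1 := by
    intro N
    induction N with
    | zero => simp [hY0]
    | succ N ih => rw [Finset.sum_range_succ, hYs, ← ih]; abel
  -- the coefficients
  have hcau : ∀ z : Z, ∀ {k l : ℕ}, k ≤ l →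
      (∑ j ∈ Finset.range k, C j z) ≡ (∑ j ∈ Finset.range l, C j z)
        [SMOD (I ^ k • ⊤ : Submodule A A)] := by
    intro z k l hkl
    rw [SModEq.comm, SModEq.sub_mem, smul_eq_mul, Ideal.mul_top]
    rw [← Finset.sum_sdiff (Finset.range_mono hkl), add_sub_cancel_right]
    refine Ideal.sum_mem _ fun j hj => ?_
    rw [Finset.mem_sdiff, Finset.mem_range, Finset.mem_range, not_lt] at hj
    exact Ideal.pow_le_pow_right hj.2 (hC j z)
  choose g hg using fun z => IsPrecomplete.prec ‹IsPrecomplete I A› (hcau z)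
  have hg' : ∀ z N, g z - ∑ j ∈ Finset.range N, C j z ∈ I ^ N := by
    intro z N
    have := hg z N
    rw [SModEq.comm, SModEq.sub_mem, smul_eq_mul, Ideal.mul_top] at this
    exact this
  let T : ℕ → Finset Z := fun N => (Finset.range N).biUnion fun k => (C k).support
  have hT : ∀ N z, z ∉ T N → g z ∈ I ^ N := by
    intro N z hz
    have h0 : ∑ j ∈ Finset.range N, C j z = 0 := by
      refine Finset.sum_eq_zero fun j hj => ?_
      by_contra hne
      apply hz
      simp only [T, Finset.mem_biUnion, Finsupp.mem_support_iff]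
      exact ⟨j, hj, hne⟩
    have := hg' z N
    rwa [h0, sub_zero] at this
  refine ⟨g, ?_, ?_⟩
  · rw [mem_decaying_iff]
    intro N
    refine (T N).finite_toSet.subset ?_
    intro z hz
    by_contra hcon
    apply hz
    rw [smul_eq_mul, Ideal.mul_top]
    exact hT N z hcon
  · intro N
    refine ⟨T N, hT N, ?_⟩
    have h1 : ∀ k ∈ Finset.range N, Finsupp.linearCombination A m (C k) =
        ∑ z ∈ T N, C k z • m z := by
      intro k hk
      rw [Finsupp.linearCombination_apply]
      refine Finsupp.sum_of_support_subset _ ?_ _ (fun z _ => zero_smul _ _)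
      intro z hz
      simp only [T, Finset.mem_biUnion]
      exact ⟨k, hk, hz⟩
    have h2 : ∑ z ∈ T N, g z • m z =
        ∑ k ∈ Finset.range N, Finsupp.linearCombination A m (C k) +
          ∑ z ∈ T N, (g z - ∑ j ∈ Finset.range N, C j z) • m z := by
      rw [Finset.sum_congr rfl h1, Finset.sum_comm, ← Finset.sum_add_distrib]
      refine Finset.sum_congr rfl fun z _ => ?_
      rw [← Finset.sum_smul, ← add_smul]
      congr 1
      abel
    have h3 : x - ∑ z ∈ T N, g z • m z =
        (Y N).1 - ∑ z ∈ T N, (g z - ∑ j ∈ Finset.range N, C j z) • m z := by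
      rw [h2, ← htel N]
      abel
    rw [h3]
    refine Submodule.sub_mem _ (Y N).2 (Submodule.sum_mem _ fun z _ => ?_)
    exact Submodule.smul_mem_smul (hg' z N) Submodule.mem_top

end Groth.Agent.Lib.Helper14.AdicSum
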