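import Mathlib

set_option autoImplicit false
universe u v w
open TensorProduct

namespace Groth.Agent.Lib.Helper18.TensorPi

variable {R : Type*} [CommRing R] {M : Type*} [AddCommGroup M] [Module R M]

theorem exists_sum_tmul {Q : Type*} [AddCommGroup Q] [Module R Q] {n : ℕ} (x : Fin n → M)
    (hx : Submodule.span R (Set.range x) = ⊤) (t : M ⊗[R] Q) :
    ∃ q : Fin n → Q, t = ∑ j, x j ⊗ₜ[R] q j := by
  induction t using TensorProduct.induction_on with
  | zero => exact ⟨0, by simp⟩
  | tmul m q =>
    have hm : m ∈ Submodule.span R (Set.range x) := hx ▸ Submodule.mem_top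
    obtain ⟨c, rfl⟩ := (Submodule.mem_span_range_iff_exists_fun R).mp hm
    exact ⟨fun j => c j • q, by simp [TensorProduct.sum_tmul, TensorProduct.smul_tmul]⟩
  | add a b ha hb =>
    obtain ⟨qa, rfl⟩ := ha
    obtain ⟨qb, rfl⟩ := hb
    exact ⟨qa + qb, by simp [TensorProduct.tmul_add, Finset.sum_add_distrib]⟩

theorem piRightHom_surjective_of_finite [Module.Finite R M] {ι : Type*} (Q : ι → Type*)
    [∀ i, AddCommGroup (Q i)] [∀ i, Module R (Q i)] :
    Function.Surjective (TensorProduct.piRightHom R R M Q) := by
  obtain ⟨n, x, hx⟩ := Module.Finite.exists_fin (R := R) (M := M)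
  intro t
  choose q hq using fun i => exists_sum_tmul x hx (t i)
  refine ⟨∑ j, x j ⊗ₜ[R] (fun i => q i j), ?_⟩
  funext i
  rw [map_sum, Finset.sum_apply, hq i]
  rfl

theorem finite_of_piRightHom_surjective
    (h : Function.Surjective (TensorProduct.piRightHom R R M (fun _ : M => R))) :
    Module.Finite R M := by
  classical
  obtain ⟨z, hz⟩ := h (fun m => m ⊗ₜ[R] (1 : R))
  obtain ⟨S, hS⟩ := TensorProduct.exists_finset z
  refine ⟨⟨S.image Prod.fst, ?_⟩⟩
  rw [eq_top_iff]
  rintro m -
  have h1 := congrFun hz m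
  rw [hS, map_sum, Finset.sum_apply] at h1
  have h2 := congrArg (TensorProduct.rid R M) h1
  rw [map_sum] at h2
  simp only [TensorProduct.piRightHom_tmul, TensorProduct.rid_tmul, one_smul] at h2
  rw [← h2]
  refine Submodule.sum_mem _ (fun p hp => Submodule.smul_mem _ _ (Submodule.subset_span ?_))
  exact Finset.mem_coe.mpr (Finset.mem_image_of_mem _ hp)

theorem piRightHom_injective_of_finitePresentation [Module.FinitePresentation R M] {ι : Type*}
    (Q : ι → Type*) [∀ i, AddCommGroup (Q i)] [∀ i, Module R (Q i)] :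
    Function.Injective (TensorProduct.piRightHom R R M Q) := by
  classical
  obtain ⟨n, m, f, g, hf, hfg⟩ := Module.FinitePresentation.exists_fin' R M
  -- generators
  let x : Fin n → M := fun j => f (Pi.single j 1)
  have hfx : ∀ v : Fin n → R, f v = ∑ j, v j • x j := fun v => by
    rw [LinearMap.pi_apply_eq_sum_univ f v]
    refine Finset.sum_congr rfl (fun j _ => ?_)
    congr 2
    ext i
    simp [Pi.single_apply, eq_comm]
  have hx : Submodule.span R (Set.range x) = ⊤ := by
    rw [eq_top_iff]
    rintro y -
    obtain ⟨v, rfl⟩ := hf y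
    rw [hfx]
    exact Submodule.sum_mem _ (fun j _ => Submodule.smul_mem _ _ (Submodule.subset_span ⟨j, rfl⟩))
  -- generators of the kernel
  let k : Fin m → (Fin n → R) := fun p => g (Pi.single p 1)
  have hgk : ∀ w : Fin m → R, g w = ∑ p, w p • k p := fun w => by
    rw [LinearMap.pi_apply_eq_sum_univ g w]
    refine Finset.sum_congr rfl (fun j _ => ?_)
    congr 2
    ext i
    simp [Pi.single_apply, eq_comm]
  have hk0 : ∀ p, ∑ j, k p j • x j = 0 := fun p => by
    rw [← hfx]
    exact (hfg _).mpr ⟨_, rfl⟩
  rw [injective_iff_map_eq_zero]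
  intro z hz
  obtain ⟨gq, rfl⟩ := exists_sum_tmul x hx z
  -- for each i, the vanishing is trivial
  have h1 : ∀ i, ∃ h : Fin m → Q i, ∀ j, gq j i = ∑ p, k p j • h p := by
    intro i
    have hzi : ∑ j, x j ⊗ₜ[R] gq j i = 0 := by
      have := congrFun hz i
      rw [map_sum, Finset.sum_apply] at this
      exact this
    obtain ⟨κ, a, y, hay, ham⟩ := TensorProduct.vanishesTrivially_of_sum_tmul_eq_zero R hx hzi
    -- each column of a lies in the kernel
    have hcol : ∀ l, ∃ w : Fin m → R, (fun j => a j l) = g w := by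
      intro l
      have : f (fun j => a j l) = 0 := by rw [hfx]; exact ham l
      obtain ⟨w, hw⟩ := (hfg _).mp this
      exact ⟨w, hw.symm⟩
    choose w hw using hcol
    refine ⟨fun p => ∑ l, w l p • y l, fun j => ?_⟩
    have hay' : gq j i = ∑ l, a j l • y l := hay j
    rw [hay']
    have haj : ∀ l, a j l = ∑ p, w l p * k p j := fun l => by
      have := congrFun (hw l) j
      rw [hgk] at this
      simpa using this
    simp_rw [haj, Finset.sum_smul, Finset.smul_sum, smul_smul]
    rw [Finset.sum_comm]
    refine Finset.sum_congr rfl (fun p _ => Finset.sum_congr rfl (fun l _ => ?_))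
    rw [mul_comm]
  choose h hh using h1
  refine TensorProduct.sum_tmul_eq_zero_of_vanishesTrivially R
    (TensorProduct.VanishesTrivially.of_fintype (fun j p => k p j) (fun p => (fun i => h i p)) ?_ hk0)
  intro j
  funext i
  rw [hh i j, Finset.sum_apply]
  rfl

theorem finitePresentation_of_piRightHom_bijective {R : Type u} [CommRing R] {M : Type u}
    [AddCommGroup M] [Module R M]
    (h : ∀ (ι : Type u) (Q : ι → Type u) [∀ i, AddCommGroup (Q i)]
      [∀ i, Module R (Q i)], Function.Bijective (TensorProduct.piRightHom R R M Q)) :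
    Module.FinitePresentation R M := by
  classical
  have hfin : Module.Finite R M := finite_of_piRightHom_surjective (h M (fun _ => R)).2
  obtain ⟨n, x, hx⟩ := Module.Finite.exists_fin (R := R) (M := M)
  let f : (Fin n → R) →ₗ[R] M := Fintype.linearCombination R x
  have hfx : ∀ v : Fin n → R, f v = ∑ j, v j • x j := fun v => by
    simp [f, Fintype.linearCombination_apply]
  have hf : Function.Surjective f := by
    rw [← LinearMap.range_eq_top, Fintype.range_linearCombination, hx]
  let K := LinearMap.ker f
  -- the key element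
  have hz : ∑ j, x j ⊗ₜ[R] (fun k : K => (k : Fin n → R) j) = (0 : M ⊗[R] (K → R)) := by
    apply (h K (fun _ => R)).1
    rw [map_zero, map_sum]
    funext k
    rw [Finset.sum_apply]
    simp only [TensorProduct.piRightHom_tmul, Pi.zero_apply]
    have : ∑ j, x j ⊗ₜ[R] ((k : Fin n → R) j) = (∑ j, (k : Fin n → R) j • x j) ⊗ₜ[R] (1 : R) := by
      rw [TensorProduct.sum_tmul]
      refine Finset.sum_congr rfl (fun j _ => ?_)
      rw [TensorProduct.smul_tmul, smul_eq_mul, mul_one]
    rw [this, ← hfx, LinearMap.mem_ker.mp k.2, TensorProduct.zero_tmul]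
  obtain ⟨κ, a, y, hay, ham⟩ := TensorProduct.vanishesTrivially_of_sum_tmul_eq_zero R hx hz
  refine Module.finitePresentation_of_surjective f hf ?_
  refine ⟨Finset.univ.image (fun l : Fin κ => (fun j => a j l)), ?_⟩
  apply le_antisymm
  · rw [Submodule.span_le]
    intro v hv
    simp only [Finset.coe_image, Finset.coe_univ, Set.image_univ, Set.mem_range] at hv
    obtain ⟨l, rfl⟩ := hv
    show f (fun j => a j l) = 0
    rw [hfx]
    exact ham l
  · intro v hv
    have hv' : v = ∑ l, y l ⟨v, hv⟩ • (fun j => a j l) := by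
      funext j
      have := congrFun (hay j) ⟨v, hv⟩
      simp only [Finset.sum_apply, Pi.smul_apply, smul_eq_mul] at this ⊢
      rw [this]
      refine Finset.sum_congr rfl (fun l _ => mul_comm _ _)
    rw [hv']
    refine Submodule.sum_mem _ (fun l _ => Submodule.smul_mem _ _ (Submodule.subset_span ?_))
    simp

end Groth.Agent.Lib.Helper18.TensorPi
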