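import Groth.Prelude.Def_W4c5adicflatcomplDec
import Mathlib.RingTheory.AdicCompletion.Basic
import Mathlib.RingTheory.Noetherian.Basic
import Mathlib.RingTheory.Finiteness.Defs
import Mathlib.RingTheory.Filtration
import Mathlib.RingTheory.AdicCompletion.Noetherian
import Mathlib.RingTheory.Ideal.Quotient.Operations
import Mathlib.LinearAlgebra.Finsupp.Defs
import Mathlib.RingTheory.AdicCompletion.Completeness

/-!
Adically decaying functions (prelude `W4c5adicflatcompl.decaying`): left and right exactness
on finitely generated modules over a Noetherian adically complete ring.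
-/

set_option autoImplicit false

open W4c5adicflatcompl

universe u v w

namespace Groth.Agent.Lib.Helper26

/-- `I ^ n • ⊤` in `↥N` corresponds to `I ^ n • N` in `M`. -/
lemma mem_pow_smul_top_sub {A : Type u} [CommRing A] (I : Ideal A) (n : ℕ)
    {M : Type w} [AddCommGroup M] [Module A M] (N : Submodule A M) (x : N) :
    x ∈ (I ^ n • ⊤ : Submodule A N) ↔ (x : M) ∈ (I ^ n • N : Submodule A M) := by
  have h : (I ^ n • ⊤ : Submodule A N).map N.subtype = I ^ n • N := by
    rw [Submodule.map_smul'', Submodule.map_top, Submodule.range_subtype]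
  rw [← h]
  constructor
  · intro hx
    exact Submodule.mem_map_of_mem hx
  · rintro ⟨y, hy, hyx⟩
    have : y = x := Subtype.ext hyx
    rwa [← this]

/-- Left exactness: decaying in a submodule is the same as decaying in the ambient module
(Artin-Rees). -/
theorem decaying_sub_iff {A : Type u} [CommRing A] [IsNoetherianRing A] (I : Ideal A)
    (Z : Type v) (M : Type w) [AddCommGroup M] [Module A M]
    [Module.Finite A M] (N : Submodule A M) (f : Z → N) :
    f ∈ decaying I Z N ↔ (fun z => (f z : M)) ∈ decaying I Z M := by
  rw [mem_decaying_iff, mem_decaying_iff]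
  constructor
  · intro h n
    refine (h n).subset ?_
    intro z hz hcon
    apply hz
    rw [mem_pow_smul_top_sub] at hcon
    exact Submodule.smul_mono le_rfl le_top hcon
  · intro h n
    obtain ⟨k, hk⟩ := Ideal.exists_pow_inf_eq_pow_smul I N
    refine (h (n + k)).subset ?_
    intro z hz hcon
    apply hz
    rw [mem_pow_smul_top_sub]
    have h1 : (f z : M) ∈ I ^ (n + k) • ⊤ ⊓ N := ⟨hcon, (f z).2⟩
    rw [hk (n + k) (by omega), Nat.add_sub_cancel] at h1
    exact Submodule.smul_mono le_rfl inf_le_right h1

/-- Right exactness: decaying functions lift along surjections from finitely generated modules. -/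
theorem exists_decaying_lift {A : Type u} [CommRing A] [IsNoetherianRing A] (I : Ideal A)
    [IsAdicComplete I A] (Z : Type v) {M : Type w} {M'' : Type*} [AddCommGroup M] [Module A M]
    [Module.Finite A M] [AddCommGroup M''] [Module A M''] (φ : M →ₗ[A] M'')
    (hφ : Function.Surjective φ) (g : Z → M'') (hg : g ∈ decaying I Z M'') :
    ∃ f : Z → M, f ∈ decaying I Z M ∧ ∀ z, φ (f z) = g z := by
  have : Module.Finite A M'' := Module.Finite.of_surjective φ hφ
  have : IsHausdorff I M'' := IsHausdorff.of_le_jacobson I M'' (IsAdicComplete.le_jacobson_bot I)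
  have hmap : ∀ m : ℕ, (I ^ m • ⊤ : Submodule A M).map φ = I ^ m • ⊤ := by
    intro m
    rw [Submodule.map_smul'', Submodule.map_top, LinearMap.range_eq_top.mpr hφ]
  have key : ∀ z : Z, ∃ x : M, φ x = g z ∧
      ∀ n : ℕ, g z ∈ (I ^ n • ⊤ : Submodule A M'') → x ∈ (I ^ n • ⊤ : Submodule A M) := by
    intro z
    by_cases hall : ∀ n : ℕ, g z ∈ (I ^ n • ⊤ : Submodule A M'')
    · refine ⟨0, ?_, fun n _ => Submodule.zero_mem _⟩
      rw [map_zero]
      symm
      apply IsHausdorff.haus ‹IsHausdorff I M''›
      intro n
      rw [SModEq.zero]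
      exact hall n
    · push Not at hall
      classical
      have hn0 : Nat.find hall ≠ 0 := by
        intro h0
        have := Nat.find_spec hall
        rw [h0] at this
        apply this
        simp
      obtain ⟨m, hm⟩ := Nat.exists_eq_succ_of_ne_zero hn0
      have hmem : g z ∈ (I ^ m • ⊤ : Submodule A M'') := by
        by_contra hcon
        exact Nat.find_min hall (by omega : m < Nat.find hall) hcon
      rw [← hmap m] at hmem
      obtain ⟨x, hx, hxg⟩ := hmem
      refine ⟨x, hxg, fun n hn => ?_⟩
      have hnm : n ≤ m := by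
        by_contra hcon
        have h1 : Nat.find hall ≤ n := by omega
        exact Nat.find_spec hall (Submodule.smul_mono (Ideal.pow_le_pow_right h1) le_rfl hn)
      exact Submodule.smul_mono (Ideal.pow_le_pow_right hnm) le_rfl hx
  choose f hf1 hf2 using key
  refine ⟨f, ?_, hf1⟩
  rw [mem_decaying_iff] at hg ⊢
  intro n
  refine (hg n).subset ?_
  intro z hz hcon
  exact hz (hf2 z n hcon)

/-- Reduction modulo `I ^ n` on decaying functions with values in the ring. -/
theorem decaying_reduction {A : Type u} [CommRing A] [IsNoetherianRing A]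
    (I : Ideal A) [IsAdicComplete I A] (Z : Type v) (n : ℕ) :
    (∀ g : Z →₀ A ⧸ I ^ n, ∃ f : decaying I Z A,
        ∀ z, Ideal.Quotient.mk (I ^ n) ((f : Z → A) z) = g z) ∧
      ∀ f : decaying I Z A,
        f ∈ (I ^ n • ⊤ : Submodule A (decaying I Z A)) ↔ ∀ z, (f : Z → A) z ∈ I ^ n := by
  classical
  constructor
  · intro g
    have hsurj : Function.Surjective (Ideal.Quotient.mk (I ^ n)) := Ideal.Quotient.mk_surjective
    let f : Z → A := fun z => if g z = 0 then 0 else Function.surjInv hsurj (g z)
    have hf : f ∈ decaying I Z A := by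
      rw [mem_decaying_iff]
      intro m
      refine g.support.finite_toSet.subset ?_
      intro z hz
      simp only [Finset.mem_coe, Finsupp.mem_support_iff]
      intro h0
      apply hz
      simp only [f, h0, if_true]
      exact Submodule.zero_mem _
    refine ⟨⟨f, hf⟩, fun z => ?_⟩
    simp only [f]
    split_ifs with h0
    · rw [map_zero, h0]
    · exact Function.surjInv_eq hsurj (g z)
  · intro f
    constructor
    · intro hf z
      let ev : decaying I Z A →ₗ[A] A := (LinearMap.proj z).comp (decaying I Z A).subtype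
      have h2 : (I ^ n • ⊤ : Submodule A (decaying I Z A)).map ev ≤ I ^ n • ⊤ := by
        rw [Submodule.map_smul'']
        exact Submodule.smul_mono le_rfl le_top
      have h3 : ev f ∈ (I ^ n • ⊤ : Submodule A A) := h2 (Submodule.mem_map_of_mem hf)
      rw [smul_eq_mul, Ideal.mul_top] at h3
      exact h3
    · intro hf
      -- view f as a function into the submodule I ^ n
      let N : Submodule A A := I ^ n
      let f' : Z → N := fun z => ⟨(f : Z → A) z, hf z⟩
      have hf' : f' ∈ decaying I Z N := by
        rw [decaying_sub_iff I Z A N f']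
        exact f.2
      -- generators of I ^ n
      obtain ⟨s, hs⟩ := (isNoetherianRing_iff_ideal_fg A).mp inferInstance (I ^ n)
      let φ : (s → A) →ₗ[A] N :=
        LinearMap.codRestrict N (Fintype.linearCombination A (fun j : s => (j : A))) (by
          intro c
          change Fintype.linearCombination A (fun j : s => (j : A)) c ∈ I ^ n
          rw [Fintype.linearCombination_apply]
          refine Submodule.sum_mem _ fun j _ => ?_
          apply Ideal.mul_mem_left
          rw [← hs]
          exact Ideal.subset_span j.2)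
      have hφ : Function.Surjective φ := by
        rintro ⟨x, hx⟩
        have hx' : x ∈ Ideal.span (s : Set A) := by rw [hs]; exact hx
        rw [← Set.image_id (s : Set A), ← Subtype.range_val (s := (s : Set A)), Set.image_id] at hx'
        rw [Ideal.span, ← Fintype.range_linearCombination] at hx'
        obtain ⟨c, hc⟩ := hx'
        exact ⟨c, Subtype.ext hc⟩
      obtain ⟨b, hb, hbf⟩ := exists_decaying_lift I Z φ hφ f' hf'
      -- coordinates are decaying
      have hbj : ∀ j : s, (fun z => b z j) ∈ decaying I Z A := by
        intro j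
        rw [mem_decaying_iff] at hb ⊢
        intro m
        refine (hb m).subset ?_
        intro z hz hcon
        apply hz
        have h2 : (I ^ m • ⊤ : Submodule A (s → A)).map (LinearMap.proj j : (s → A) →ₗ[A] A) ≤
            I ^ m • ⊤ := by
          rw [Submodule.map_smul'']
          exact Submodule.smul_mono le_rfl le_top
        exact h2 (Submodule.mem_map_of_mem hcon)
      have hsum : f = ∑ j : s, (j : A) • (⟨fun z => b z j, hbj j⟩ : decaying I Z A) := by
        apply Subtype.ext
        funext z
        have h1 := congrArg (fun x : N => (x : A)) (hbf z)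
        simp only [φ, f', LinearMap.codRestrict_apply, Fintype.linearCombination_apply] at h1
        rw [Submodule.coe_sum, Finset.sum_apply]
        rw [← h1]
        refine Finset.sum_congr rfl fun j _ => ?_
        simp [mul_comm]
      rw [hsum]
      refine Submodule.sum_mem _ fun j _ => ?_
      refine Submodule.smul_mem_smul ?_ Submodule.mem_top
      rw [← hs]
      exact Ideal.subset_span j.2

theorem isHausdorff_decaying {A : Type u} [CommRing A] (I : Ideal A) (Z : Type v)
    (M : Type w) [AddCommGroup M] [Module A M] [IsHausdorff I M] :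
    IsHausdorff I (decaying I Z M) := by
  refine ⟨fun x hx => ?_⟩
  apply Subtype.ext
  funext z
  change (x : Z → M) z = 0
  apply IsHausdorff.haus ‹IsHausdorff I M›
  intro n
  have h1 := hx n
  rw [SModEq.zero] at h1 ⊢
  let ev : decaying I Z M →ₗ[A] M := (LinearMap.proj z).comp (decaying I Z M).subtype
  have h2 : (I ^ n • ⊤ : Submodule A (decaying I Z M)).map ev ≤ I ^ n • ⊤ := by
    rw [Submodule.map_smul'']
    exact Submodule.smul_mono le_rfl le_top
  exact h2 (Submodule.mem_map_of_mem h1)

/-- values of an element of `I ^ n • ⊤` lie in `I ^ n • ⊤`. -/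
lemma apply_mem_of_mem_pow_smul_top {A : Type u} [CommRing A] (I : Ideal A) (Z : Type v)
    (M : Type w) [AddCommGroup M] [Module A M] (n : ℕ) (f : decaying I Z M)
    (hf : f ∈ (I ^ n • ⊤ : Submodule A (decaying I Z M))) (z : Z) :
    (f : Z → M) z ∈ (I ^ n • ⊤ : Submodule A M) := by
  let ev : decaying I Z M →ₗ[A] M := (LinearMap.proj z).comp (decaying I Z M).subtype
  have h2 : (I ^ n • ⊤ : Submodule A (decaying I Z M)).map ev ≤ I ^ n • ⊤ := by
    rw [Submodule.map_smul'']
    exact Submodule.smul_mono le_rfl le_top
  exact h2 (Submodule.mem_map_of_mem hf)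

/-- elements of `span s • P` are combinations of the generators with coefficients in `P`. -/
lemma exists_sum_of_mem_span_smul {A : Type u} [CommRing A] {M : Type w} [AddCommGroup M]
    [Module A M] (s : Finset A) (P : Submodule A M) (x : M)
    (hx : x ∈ (Ideal.span (s : Set A)) • P) :
    ∃ c : s → M, (∀ j, c j ∈ P) ∧ x = ∑ j : s, (j : A) • c j := by
  refine Submodule.smul_induction_on hx ?_ ?_
  · intro r hr p hp
    rw [Ideal.span, Submodule.mem_span_finset'] at hr
    obtain ⟨a, rfl⟩ := hr
    refine ⟨fun j => a j • p, fun j => P.smul_mem _ hp, ?_⟩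
    rw [Finset.sum_smul]
    refine Finset.sum_congr rfl fun j _ => ?_
    rw [smul_eq_mul, mul_comm, mul_smul]
  · rintro x y ⟨c, hc, rfl⟩ ⟨d, hd, rfl⟩
    refine ⟨fun j => c j + d j, fun j => P.add_mem (hc j) (hd j), ?_⟩
    rw [← Finset.sum_add_distrib]
    refine Finset.sum_congr rfl fun j _ => ?_
    rw [smul_add]

theorem mem_pow_smul_top_decaying {A : Type u} [CommRing A] [IsNoetherianRing A] (I : Ideal A)
    (Z : Type v) (N : Type w) [AddCommGroup N] [Module A N] [IsHausdorff I N] (n : ℕ)
    (f : decaying I Z N) (hf : ∀ z, (f : Z → N) z ∈ (I ^ n • ⊤ : Submodule A N)) :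
    f ∈ (I ^ n • ⊤ : Submodule A (decaying I Z N)) := by
  classical
  obtain ⟨s, hs⟩ := (isNoetherianRing_iff_ideal_fg A).mp inferInstance (I ^ n)
  have key : ∀ z : Z, ∃ c : s → N, (f : Z → N) z = ∑ j : s, (j : A) • c j ∧
      ∀ m : ℕ, (f : Z → N) z ∈ (I ^ (n + m) • ⊤ : Submodule A N) →
        ∀ j, c j ∈ (I ^ m • ⊤ : Submodule A N) := by
    intro z
    by_cases hall : ∀ m : ℕ, (f : Z → N) z ∈ (I ^ (n + m) • ⊤ : Submodule A N)
    · refine ⟨fun _ => 0, ?_, fun m _ j => Submodule.zero_mem _⟩
      simp only [smul_zero, Finset.sum_const_zero]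
      apply IsHausdorff.haus ‹IsHausdorff I N›
      intro k
      rw [SModEq.zero]
      exact Submodule.smul_mono (Ideal.pow_le_pow_right (by omega : k ≤ n + k)) le_rfl (hall k)
    · push Not at hall
      have hn0 : Nat.find hall ≠ 0 := by
        intro h0
        have := Nat.find_spec hall
        rw [h0, add_zero] at this
        exact this (hf z)
      obtain ⟨m, hm⟩ := Nat.exists_eq_succ_of_ne_zero hn0
      have hmem : (f : Z → N) z ∈ (I ^ (n + m) • ⊤ : Submodule A N) := by
        by_contra hcon
        exact Nat.find_min hall (by omega : m < Nat.find hall) hcon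
      rw [pow_add, mul_smul, ← hs] at hmem
      obtain ⟨c, hc, hsum⟩ := exists_sum_of_mem_span_smul s _ _ hmem
      refine ⟨c, hsum, fun k hk j => ?_⟩
      have hkm : k ≤ m := by
        by_contra hcon
        have h1 : n + Nat.find hall ≤ n + k := by omega
        exact Nat.find_spec hall (Submodule.smul_mono (Ideal.pow_le_pow_right h1) le_rfl hk)
      exact Submodule.smul_mono (Ideal.pow_le_pow_right hkm) le_rfl (hc j)
  choose c hc1 hc2 using key
  have hbj : ∀ j : s, (fun z => c z j) ∈ decaying I Z N := by
    intro j
    rw [mem_decaying_iff]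
    intro m
    have hfd := f.2
    rw [mem_decaying_iff] at hfd
    refine (hfd (n + m)).subset ?_
    intro z hz hcon
    exact hz (hc2 z m hcon j)
  have hsum : f = ∑ j : s, (j : A) • (⟨fun z => c z j, hbj j⟩ : decaying I Z N) := by
    apply Subtype.ext
    funext z
    rw [Submodule.coe_sum, Finset.sum_apply, hc1 z]
    rfl
  rw [hsum]
  refine Submodule.sum_mem _ fun j _ => ?_
  refine Submodule.smul_mem_smul ?_ Submodule.mem_top
  rw [← hs]
  exact Ideal.subset_span j.2

theorem isAdicComplete_decaying {A : Type u} [CommRing A] [IsNoetherianRing A]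
    (I : Ideal A) (Z : Type v) (N : Type w) [AddCommGroup N] [Module A N] [IsAdicComplete I N] :
    IsAdicComplete I (decaying I Z N) := by
  have hH : IsHausdorff I (decaying I Z N) := isHausdorff_decaying I Z N
  refine { toIsHausdorff := hH, prec' := ?_ }
  intro f hf
  have hpt : ∀ z : Z, ∀ {m n : ℕ}, m ≤ n →
      (f m : Z → N) z ≡ (f n : Z → N) z [SMOD (I ^ m • ⊤ : Submodule A N)] := by
    intro z m n hmn
    have h1 := hf hmn
    rw [SModEq.sub_mem] at h1 ⊢
    exact apply_mem_of_mem_pow_smul_top I Z N m _ h1 z
  have hlim : ∀ z : Z, ∃ L : N, ∀ n, (f n : Z → N) z ≡ L [SMOD (I ^ n • ⊤ : Submodule A N)] :=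
    fun z => IsPrecomplete.prec (inferInstance : IsPrecomplete I N) (hpt z)
  choose L hL using hlim
  have hLn : ∀ n z, (f n : Z → N) z - L z ∈ (I ^ n • ⊤ : Submodule A N) := by
    intro n z
    have := hL z n
    rw [SModEq.sub_mem] at this
    exact this
  have hLdec : L ∈ decaying I Z N := by
    rw [mem_decaying_iff]
    intro n
    have hfn := (f n).2
    rw [mem_decaying_iff] at hfn
    refine (hfn n).subset ?_
    intro z hz hcon
    apply hz
    have h1 := hLn n z
    have : L z = (f n : Z → N) z - ((f n : Z → N) z - L z) := by abel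
    rw [this]
    exact Submodule.sub_mem _ hcon h1
  refine ⟨⟨L, hLdec⟩, fun n => ?_⟩
  rw [SModEq.sub_mem]
  apply mem_pow_smul_top_decaying
  intro z
  exact hLn n z

end Groth.Agent.Lib.Helper26
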