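import Mathlib
import Groth.Prelude.Def_W4c5adicflatcomplDec
import Groth.Agent.Lib.Helper26Decaying
import Groth.Agent.Lib.Helper18TensorPi

/-!
# Tensor products with modules of adically decaying functions

For a Noetherian `I`-adically complete ring `A` and a finite `A`-module `M`,
`M ⊗ dec(Z, A) ≃ dec(Z, M)`; `dec(Z, A)` is flat and `dec(Z, A) → (Z → A)` is universally
injective.
-/

set_option autoImplicit false

open W4c5adicflatcompl
open scoped TensorProduct

universe u v w w'

namespace Groth.Agent.Lib.Helper14.Dec

variable {A : Type u} [CommRing A] (I : Ideal A) (Z : Type v)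

/-- The canonical map `M ⊗ dec(Z, A) → (Z → M)`. -/
noncomputable def Phi (M : Type w) [AddCommGroup M] [Module A M] :
    M ⊗[A] decaying I Z A →ₗ[A] (Z → M) :=
  (TensorProduct.piScalarRightHom A A M Z) ∘ₗ ((decaying I Z A).subtype.lTensor M)

variable {I Z}

@[simp]
theorem Phi_tmul {M : Type w} [AddCommGroup M] [Module A M] (m : M) (g : decaying I Z A) (z : Z) :
    Phi I Z M (m ⊗ₜ[A] g) z = (g : Z → A) z • m := by
  simp [Phi]

theorem Phi_natural {M : Type w} [AddCommGroup M] [Module A M] {N : Type w'} [AddCommGroup N]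
    [Module A N] (φ : M →ₗ[A] N) (t : M ⊗[A] decaying I Z A) (z : Z) :
    Phi I Z N (φ.rTensor _ t) z = φ (Phi I Z M t z) := by
  induction t using TensorProduct.induction_on with
  | zero => simp
  | tmul m g => simp
  | add x y hx hy => simp only [map_add, Pi.add_apply, hx, hy]

theorem mem_pow_smul_top_self (n : ℕ) (a : A) :
    a ∈ (I ^ n • ⊤ : Submodule A A) ↔ a ∈ I ^ n := by
  rw [smul_eq_mul, Ideal.mul_top]

theorem Phi_mem_decaying {M : Type w} [AddCommGroup M] [Module A M]
    (t : M ⊗[A] decaying I Z A) : Phi I Z M t ∈ decaying I Z M := by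
  induction t using TensorProduct.induction_on with
  | zero => rw [map_zero]; exact Submodule.zero_mem _
  | tmul m g =>
    rw [mem_decaying_iff]
    intro n
    have hg := g.2
    rw [mem_decaying_iff] at hg
    refine (hg n).subset ?_
    intro z hz hcon
    apply hz
    rw [Phi_tmul]
    exact Submodule.smul_mem_smul ((mem_pow_smul_top_self n _).mp hcon) Submodule.mem_top
  | add x y hx hy => rw [map_add]; exact Submodule.add_mem _ hx hy

theorem apply_mem_pow_smul_top {r : ℕ} (n : ℕ) (x : Fin r → A)
    (hx : x ∈ (I ^ n • ⊤ : Submodule A (Fin r → A))) (i : Fin r) :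
    x i ∈ (I ^ n • ⊤ : Submodule A A) := by
  have h2 : (I ^ n • ⊤ : Submodule A (Fin r → A)).map (LinearMap.proj i) ≤ I ^ n • ⊤ := by
    rw [Submodule.map_smul'']
    exact Submodule.smul_mono le_rfl le_top
  exact h2 (Submodule.mem_map_of_mem hx)

theorem decaying_le_range [IsNoetherianRing A] [IsAdicComplete I A]
    (M : Type w) [AddCommGroup M] [Module A M] [Module.Finite A M] :
    decaying I Z M ≤ LinearMap.range (Phi I Z M) := by
  classical
  intro f hf
  obtain ⟨r, π, hπ⟩ := Module.Finite.exists_fin' A M
  obtain ⟨F, hF, hFf⟩ := Groth.Agent.Lib.Helper26.exists_decaying_lift I Z π hπ f hf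
  have hFi : ∀ i : Fin r, (fun z => F z i) ∈ decaying I Z A := by
    intro i
    rw [mem_decaying_iff] at hF ⊢
    intro n
    refine (hF n).subset ?_
    intro z hz hcon
    exact hz (apply_mem_pow_smul_top n _ hcon i)
  refine ⟨∑ i, π (fun j => if i = j then 1 else 0) ⊗ₜ[A] (⟨fun z => F z i, hFi i⟩ : decaying I Z A),
    ?_⟩
  funext z
  rw [map_sum, Finset.sum_apply]
  simp only [Phi_tmul]
  rw [← hFf z, LinearMap.pi_apply_eq_sum_univ π (F z)]

theorem piScalarRightHom_eq {N : Type w} [AddCommGroup N] [Module A N]
    (x : N ⊗[A] (Z → A)) (z : Z) :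
    TensorProduct.piScalarRightHom A A N Z x z =
      TensorProduct.rid A N (TensorProduct.piRightHom A A N (fun _ : Z => A) x z) := by
  induction x using TensorProduct.induction_on with
  | zero => simp
  | tmul n f => simp
  | add x y hx hy => simp only [map_add, Pi.add_apply, hx, hy]

theorem piScalarRightHom_injective {N : Type w} [AddCommGroup N] [Module A N]
    [Module.FinitePresentation A N] :
    Function.Injective (TensorProduct.piScalarRightHom A A N Z) := by
  rw [← LinearMap.ker_eq_bot, LinearMap.ker_eq_bot']
  intro x hx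
  apply Groth.Agent.Lib.Helper18.TensorPi.piRightHom_injective_of_finitePresentation
    (fun _ : Z => A)
  rw [map_zero]
  funext z
  have := congrFun hx z
  rw [piScalarRightHom_eq, Pi.zero_apply] at this
  rw [Pi.zero_apply]
  exact (TensorProduct.rid A N).injective (by rw [this, map_zero])

theorem Phi_injective_of_flat {N : Type w} [AddCommGroup N] [Module A N]
    [Module.FinitePresentation A N] [Module.Flat A N] :
    Function.Injective (Phi I Z N) := by
  unfold Phi
  rw [LinearMap.coe_comp]
  exact piScalarRightHom_injective.comp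
    (Module.Flat.lTensor_preserves_injective_linearMap _ (Subtype.val_injective))

theorem Phi_injective [IsNoetherianRing A] [IsAdicComplete I A]
    (M : Type w) [AddCommGroup M] [Module A M] [Module.Finite A M] :
    Function.Injective (Phi I Z M) := by
  classical
  obtain ⟨r, π, hπ⟩ := Module.Finite.exists_fin' A M
  rw [← LinearMap.ker_eq_bot, LinearMap.ker_eq_bot']
  intro t ht
  obtain ⟨s, rfl⟩ := LinearMap.rTensor_surjective (decaying I Z A) hπ t
  have hG : ∀ z, Phi I Z (Fin r → A) s z ∈ LinearMap.ker π := by
    intro z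
    rw [LinearMap.mem_ker, ← Phi_natural, ht]
    rfl
  let k : Z → LinearMap.ker π := fun z => ⟨Phi I Z (Fin r → A) s z, hG z⟩
  have hk : k ∈ decaying I Z (LinearMap.ker π) := by
    rw [Groth.Agent.Lib.Helper26.decaying_sub_iff]
    exact Phi_mem_decaying s
  have : Module.Finite A (LinearMap.ker π) := inferInstance
  obtain ⟨u, hu⟩ := decaying_le_range (I := I) (Z := Z) (LinearMap.ker π) hk
  have hs : (LinearMap.ker π).subtype.rTensor _ u = s := by
    apply Phi_injective_of_flat (I := I) (Z := Z) (N := Fin r → A)
    funext z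
    rw [Phi_natural, hu]
    rfl
  rw [← hs, ← LinearMap.comp_apply, ← LinearMap.rTensor_comp]
  have : π ∘ₗ (LinearMap.ker π).subtype = 0 := by
    ext x
    simp
  rw [this, LinearMap.rTensor_zero, LinearMap.zero_apply]

theorem range_Phi [IsNoetherianRing A] [IsAdicComplete I A]
    (M : Type w) [AddCommGroup M] [Module A M] [Module.Finite A M] :
    LinearMap.range (Phi I Z M) = decaying I Z M := by
  apply le_antisymm
  · rintro _ ⟨t, rfl⟩
    exact Phi_mem_decaying t
  · exact decaying_le_range M

theorem flat_decaying [IsNoetherianRing A] [IsAdicComplete I A] :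
    Module.Flat A (decaying I Z A) := by
  rw [Module.Flat.iff_rTensor_injective']
  intro J
  rw [← LinearMap.ker_eq_bot, LinearMap.ker_eq_bot']
  intro t ht
  apply Phi_injective (I := I) (Z := Z) J
  rw [map_zero]
  funext z
  have := Phi_natural (I := I) (Z := Z) J.subtype t z
  rw [ht, map_zero] at this
  exact Subtype.ext this.symm

/-- injectivity of `f.lTensor Q` can be checked on finitely generated submodules of `Q`. -/
theorem lTensor_injective_of_fg {N : Type w} {P : Type w'} [AddCommGroup N] [Module A N]
    [AddCommGroup P] [Module A P] {Q : Type*} [AddCommGroup Q] [Module A Q] (f : N →ₗ[A] P)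
    (h : ∀ Q' : Submodule A Q, Q'.FG → Function.Injective (f.lTensor Q')) :
    Function.Injective (f.lTensor Q) := by
  rw [← LinearMap.ker_eq_bot, LinearMap.ker_eq_bot']
  intro x hx
  obtain ⟨Q', hQ', x', rfl⟩ := Submodule.exists_fg_le_eq_rTensor_subtype x
  have h1 : Q'.subtype.rTensor P (f.lTensor Q' x') = Q'.subtype.rTensor P 0 := by
    rw [map_zero, ← hx, ← LinearMap.comp_apply, ← LinearMap.comp_apply,
      LinearMap.rTensor_comp_lTensor, LinearMap.lTensor_comp_rTensor]
  obtain ⟨Q'', hQ'', hle, h2⟩ := hQ'.exists_rTensor_fg_inclusion_eq h1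
  rw [map_zero] at h2
  have h3 : f.lTensor Q'' ((Submodule.inclusion hle).rTensor N x') = 0 := by
    rw [← h2, ← LinearMap.comp_apply, ← LinearMap.comp_apply,
      LinearMap.rTensor_comp_lTensor, LinearMap.lTensor_comp_rTensor]
  have h4 : (Submodule.inclusion hle).rTensor N x' = 0 := by
    apply h Q'' hQ''
    rw [h3, map_zero]
  have h5 : Q'.subtype = Q''.subtype ∘ₗ Submodule.inclusion hle := by
    ext y
    rfl
  rw [h5, LinearMap.rTensor_comp, LinearMap.comp_apply, h4, map_zero]

/-- The inclusion `dec(Z, A) → (Z → A)` is universally injective. -/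
theorem subtype_rTensor_injective [IsNoetherianRing A] [IsAdicComplete I A]
    (Q : Type w) [AddCommGroup Q] [Module A Q] :
    Function.Injective ((decaying I Z A).subtype.rTensor Q) := by
  have hl : Function.Injective ((decaying I Z A).subtype.lTensor Q) := by
    apply lTensor_injective_of_fg
    intro Q' hQ'
    have : Module.Finite A Q' := Module.Finite.iff_fg.mpr hQ'
    have := Phi_injective (I := I) (Z := Z) Q'
    unfold Phi at this
    rw [LinearMap.coe_comp] at this
    exact Function.Injective.of_comp this
  have heq : (decaying I Z A).subtype.rTensor Q =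
      (TensorProduct.comm A Q (Z → A)).toLinearMap ∘ₗ ((decaying I Z A).subtype.lTensor Q) ∘ₗ
        (TensorProduct.comm A (decaying I Z A) Q).toLinearMap := by
    apply TensorProduct.ext'
    intro g q
    simp
  rw [heq]
  simp only [LinearMap.coe_comp, LinearEquiv.coe_coe]
  exact (TensorProduct.comm A Q (Z → A)).injective.comp
    (hl.comp (TensorProduct.comm A (decaying I Z A) Q).injective)

end Groth.Agent.Lib.Helper14.Dec
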