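import Mathlib
import Groth.Prelude.Def_W4c5adicflatcomplDec
import Groth.Agent.Lib.Helper26Decaying
import Groth.Agent.S17537

/-!
# The adic completion of `Z →₀ M` as decaying functions `Z → M^`
-/

set_option autoImplicit false

open W4c5adicflatcompl

universe u v w

namespace Groth.Agent.Lib.Helper14.Dec

variable {A : Type u} [CommRing A] (I : Ideal A) (Z : Type v) (M : Type w) [AddCommGroup M]
  [Module A M]

/-- For complete `M^`, the kernel of `eval n` is `I ^ n • ⊤`. -/
theorem ker_eval_le [IsAdicComplete I (AdicCompletion I M)] (n : ℕ) :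
    LinearMap.ker (AdicCompletion.eval I M n) ≤
      (I ^ n • ⊤ : Submodule A (AdicCompletion I M)) := by
  have H := (Groth.Agent.S17537.result I M).mp inferInstance
  have hof : ∀ (n : ℕ) (y : M), y ∈ (I ^ n • ⊤ : Submodule A M) →
      AdicCompletion.of I M y ∈ (I ^ n • ⊤ : Submodule A (AdicCompletion I M)) := by
    intro n y hy
    have h2 : (I ^ n • ⊤ : Submodule A M).map (AdicCompletion.of I M) ≤ I ^ n • ⊤ := by
      rw [Submodule.map_smul'']
      exact Submodule.smul_mono le_rfl le_top
    exact h2 (Submodule.mem_map_of_mem hy)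
  intro z hz
  obtain ⟨y, hy⟩ := H n z
  have h1 := AdicCompletion.pow_smul_top_le_ker_eval (I := I) (M := M) n hy
  rw [LinearMap.mem_ker] at hz h1
  rw [map_sub, hz, zero_sub, neg_eq_zero, AdicCompletion.eval_of, Submodule.mkQ_apply,
    Submodule.Quotient.mk_eq_zero] at h1
  have h2 := hof n y h1
  have : z = (z - AdicCompletion.of I M y) + AdicCompletion.of I M y := by abel
  rw [this]
  exact Submodule.add_mem _ hy h2

variable {Z M} in
/-- membership in `I ^ n • ⊤` of `Z →₀ M` is coordinatewise. -/
theorem finsupp_mem_pow_smul_top_iff (n : ℕ) (f : Z →₀ M) :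
    f ∈ (I ^ n • ⊤ : Submodule A (Z →₀ M)) ↔ ∀ z, f z ∈ (I ^ n • ⊤ : Submodule A M) := by
  classical
  constructor
  · intro hf z
    have h2 : (I ^ n • ⊤ : Submodule A (Z →₀ M)).map (Finsupp.lapply z) ≤ I ^ n • ⊤ := by
      rw [Submodule.map_smul'']
      exact Submodule.smul_mono le_rfl le_top
    exact h2 (Submodule.mem_map_of_mem hf)
  · intro hf
    rw [← Finsupp.sum_single f]
    refine Submodule.sum_mem _ fun z _ => ?_
    have h2 : (I ^ n • ⊤ : Submodule A M).map (Finsupp.lsingle z) ≤
        (I ^ n • ⊤ : Submodule A (Z →₀ M)) := by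
      rw [Submodule.map_smul'']
      exact Submodule.smul_mono le_rfl le_top
    exact h2 (Submodule.mem_map_of_mem (hf z))

/-- The canonical map from the completion of `Z →₀ M` to `Z → M^`. -/
noncomputable def Psi : AdicCompletion I (Z →₀ M) →ₗ[A] (Z → AdicCompletion I M) :=
  LinearMap.pi fun z : Z =>
    (AdicCompletion.map I (Finsupp.lapply (M := M) (R := A) z)).restrictScalars A

variable {I Z M}

theorem Psi_val (x : AdicCompletion I (Z →₀ M)) (n : ℕ) (f : Z →₀ M)
    (hf : x.val n = Submodule.Quotient.mk f) (z : Z) :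
    (Psi I Z M x z).val n = Submodule.Quotient.mk (f z) := by
  change (AdicCompletion.map I (Finsupp.lapply (M := M) (R := A) z) x).val n = _
  rw [AdicCompletion.map_val_apply, hf, LinearMap.reduceModIdeal_apply]
  rfl

theorem Psi_injective : Function.Injective (Psi I Z M) := by
  rw [← LinearMap.ker_eq_bot, LinearMap.ker_eq_bot']
  intro x hx
  apply AdicCompletion.ext
  intro n
  obtain ⟨f, hf⟩ := Submodule.Quotient.mk_surjective _ (x.val n)
  rw [AdicCompletion.val_zero_apply, ← hf, Submodule.Quotient.mk_eq_zero,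
    finsupp_mem_pow_smul_top_iff]
  intro z
  have := Psi_val x n f hf.symm z
  rw [hx] at this
  rw [← Submodule.Quotient.mk_eq_zero, ← this]
  rfl

theorem Psi_mem_decaying [IsAdicComplete I (AdicCompletion I M)]
    (x : AdicCompletion I (Z →₀ M)) : Psi I Z M x ∈ decaying I Z (AdicCompletion I M) := by
  rw [mem_decaying_iff]
  intro n
  obtain ⟨f, hf⟩ := Submodule.Quotient.mk_surjective _ (x.val n)
  refine f.support.finite_toSet.subset ?_
  intro z hz
  by_contra hcon
  apply hz
  apply ker_eval_le I M n
  rw [LinearMap.mem_ker, AdicCompletion.eval_apply, Psi_val x n f hf.symm z]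
  have : f z = 0 := by
    simpa using hcon
  rw [this, Submodule.Quotient.mk_zero]

theorem decaying_le_range_Psi :
    decaying I Z (AdicCompletion I M) ≤ LinearMap.range (Psi I Z M) := by
  classical
  intro g hg
  rw [mem_decaying_iff] at hg
  -- representatives
  have hrep : ∀ (n : ℕ) (z : Z), ∃ r : M, Submodule.Quotient.mk r = (g z).val n :=
    fun n z => Submodule.Quotient.mk_surjective _ _
  choose r hr using hrep
  let f : ℕ → (Z →₀ M) := fun n => ∑ z ∈ (hg n).toFinset, Finsupp.single z (r n z)
  have hf_apply : ∀ n z, f n z = if z ∈ (hg n).toFinset then r n z else 0 := by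
    intro n z
    simp only [f, Finsupp.finset_sum_apply, Finsupp.single_apply]
    rw [Finset.sum_ite_eq']
  have K1 : ∀ n z, (Submodule.Quotient.mk (f n z) : M ⧸ (I ^ n • ⊤ : Submodule A M)) =
      (g z).val n := by
    intro n z
    rw [hf_apply]
    split_ifs with h
    · exact hr n z
    · rw [Set.Finite.mem_toFinset] at h
      simp only [Set.mem_ofPred_eq, not_not] at h
      have h1 := AdicCompletion.pow_smul_top_le_ker_eval (I := I) (M := M) n h
      rw [LinearMap.mem_ker, AdicCompletion.eval_apply] at h1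
      rw [h1, Submodule.Quotient.mk_zero]
  have hcau : ∀ n, f n ≡ f (n + 1) [SMOD (I ^ n • ⊤ : Submodule A (Z →₀ M))] := by
    intro n
    rw [SModEq.sub_mem, finsupp_mem_pow_smul_top_iff]
    intro z
    rw [Finsupp.sub_apply, ← Submodule.Quotient.eq, K1 n z,
      ← (g z).property (Nat.le_succ n), ← K1 (n + 1) z]
    rfl
  refine ⟨AdicCompletion.mk I _ (AdicCompletion.AdicCauchySequence.mk I _ f hcau), ?_⟩
  funext z
  apply AdicCompletion.ext
  intro n
  rw [Psi_val _ n (f n) rfl z, K1]

theorem range_Psi [IsAdicComplete I (AdicCompletion I M)] :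
    LinearMap.range (Psi I Z M) = decaying I Z (AdicCompletion I M) := by
  apply le_antisymm
  · rintro _ ⟨x, rfl⟩
    exact Psi_mem_decaying x
  · exact decaying_le_range_Psi

end Groth.Agent.Lib.Helper14.Dec
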