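import Mathlib
import Groth.Prelude.Def_W4c5adicflatcomplDec
import Groth.Agent.Lib.Helper14Decaying
import Groth.Agent.Lib.Helper14Decaying2

/-!
# The completion of a free module inside the product: universal injectivity
-/

set_option autoImplicit false

open W4c5adicflatcompl
open scoped TensorProduct

universe u v w w'

namespace Groth.Agent.Lib.Helper14.Dec

variable {A : Type u} [CommRing A] {I : Ideal A} {Z : Type v}

theorem mem_pow_smul_top_equiv {N : Type w} {N' : Type w'} [AddCommGroup N] [Module A N]
    [AddCommGroup N'] [Module A N'] (e : N ≃ₗ[A] N') (n : ℕ) (x : N) :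
    e x ∈ (I ^ n • ⊤ : Submodule A N') ↔ x ∈ (I ^ n • ⊤ : Submodule A N) := by
  have key : ∀ {P : Type w} {P' : Type w'} [AddCommGroup P] [Module A P]
      [AddCommGroup P'] [Module A P'] (f : P →ₗ[A] P') (y : P),
      y ∈ (I ^ n • ⊤ : Submodule A P) → f y ∈ (I ^ n • ⊤ : Submodule A P') := by
    intro P P' _ _ _ _ f y hy
    have h2 : (I ^ n • ⊤ : Submodule A P).map f ≤ I ^ n • ⊤ := by
      rw [Submodule.map_smul'']
      exact Submodule.smul_mono le_rfl le_top
    exact h2 (Submodule.mem_map_of_mem hy)
  constructor
  · intro h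
    have h2 : (I ^ n • ⊤ : Submodule A N').map e.symm.toLinearMap ≤ I ^ n • ⊤ := by
      rw [Submodule.map_smul'']
      exact Submodule.smul_mono le_rfl le_top
    have := h2 (Submodule.mem_map_of_mem h)
    simpa using this
  · intro h
    exact key e.toLinearMap x h

theorem decaying_equiv_iff {N : Type w} {N' : Type w'} [AddCommGroup N] [Module A N]
    [AddCommGroup N'] [Module A N'] (e : N ≃ₗ[A] N') (g : Z → N) :
    (fun z => e (g z)) ∈ decaying I Z N' ↔ g ∈ decaying I Z N := by
  rw [mem_decaying_iff, mem_decaying_iff]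
  refine forall_congr' fun n => ?_
  have : {z | e (g z) ∉ (I ^ n • ⊤ : Submodule A N')} = {z | g z ∉ (I ^ n • ⊤ : Submodule A N)} := by
    ext z
    simp only [Set.mem_ofPred_eq, mem_pow_smul_top_equiv]
  rw [this]

variable (I Z) in
/-- For a Noetherian `I`-adically complete ring `A`, the canonical map from the completion of
`Z →₀ A` to `Z → A^` is universally injective. -/
theorem Psi_rTensor_injective [IsNoetherianRing A] [IsAdicComplete I A]
    (Q : Type w) [AddCommGroup Q] [Module A Q] :
    Function.Injective ((Psi I Z A).rTensor Q) := by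
  have hcomplete : IsAdicComplete I (AdicCompletion I A) :=
    AdicCompletion.isAdicComplete (Ideal.fg_of_isNoetherianRing I)
  let e : A ≃ₗ[A] AdicCompletion I A := AdicCompletion.ofLinearEquiv I A
  let E : (Z → A) ≃ₗ[A] (Z → AdicCompletion I A) := LinearEquiv.piCongrRight fun _ => e
  have hθ : ∀ x : AdicCompletion I (Z →₀ A), E.symm (Psi I Z A x) ∈ decaying I Z A := by
    intro x
    rw [← decaying_equiv_iff e]
    have := Psi_mem_decaying (I := I) (Z := Z) (M := A) x
    convert this using 1
    funext z
    simp [E]
  let θ : AdicCompletion I (Z →₀ A) →ₗ[A] decaying I Z A :=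
    LinearMap.codRestrict _ (E.symm.toLinearMap ∘ₗ Psi I Z A) hθ
  have hθinj : Function.Injective θ := by
    intro x y hxy
    have := congrArg Subtype.val hxy
    simp only [θ, LinearMap.codRestrict_apply, LinearMap.comp_apply, LinearEquiv.coe_coe] at this
    exact Psi_injective (E.symm.injective this)
  have hθsurj : Function.Surjective θ := by
    intro g
    have hg : E (g : Z → A) ∈ decaying I Z (AdicCompletion I A) := by
      have := (decaying_equiv_iff (I := I) (Z := Z) e (g : Z → A)).mpr g.2
      exact this
    rw [← range_Psi] at hg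
    obtain ⟨x, hx⟩ := hg
    refine ⟨x, ?_⟩
    apply Subtype.ext
    simp only [θ, LinearMap.codRestrict_apply, LinearMap.comp_apply, LinearEquiv.coe_coe]
    rw [hx, LinearEquiv.symm_apply_apply]
  let θe : AdicCompletion I (Z →₀ A) ≃ₗ[A] decaying I Z A :=
    LinearEquiv.ofBijective θ ⟨hθinj, hθsurj⟩
  have hfac : Psi I Z A = E.toLinearMap ∘ₗ (decaying I Z A).subtype ∘ₗ θe.toLinearMap := by
    apply LinearMap.ext
    intro x
    simp only [LinearMap.comp_apply, LinearEquiv.coe_coe, Submodule.subtype_apply, θe,
      LinearEquiv.ofBijective_apply, θ, LinearMap.codRestrict_apply, LinearEquiv.apply_symm_apply]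
  rw [hfac, LinearMap.rTensor_comp, LinearMap.rTensor_comp, LinearMap.coe_comp, LinearMap.coe_comp]
  refine Function.Injective.comp ?_ (Function.Injective.comp ?_ ?_)
  · rw [← LinearEquiv.coe_rTensor]
    exact (LinearEquiv.rTensor Q E).injective
  · exact subtype_rTensor_injective Q
  · rw [← LinearEquiv.coe_rTensor]
    exact (LinearEquiv.rTensor Q θe).injective

end Groth.Agent.Lib.Helper14.Dec
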