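import Mathlib
import Groth.Prelude.Def_W4c5adicflatcomplDec
import Groth.Agent.Lib.Helper26Decaying
import Groth.Agent.Lib.Helper14Decaying
import Groth.Agent.Lib.Helper14Decaying3
import Groth.Agent.Lib.Helper14AdicSum
import Groth.Agent.Lib.Helper14AdicSum2
import Groth.Agent.Lib.Helper14AdicFree

/-!
# Adically free modules over a complete Noetherian local ring = flat + complete
-/

set_option autoImplicit false

open IsLocalRing W4c5adicflatcompl
open scoped TensorProduct

universe u v w w'

namespace Groth.Agent.Lib.Helper14.AdicFree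

open Groth.Agent.Lib.Helper14.Dec Groth.Agent.Lib.Helper14.AdicSum

section general

variable {A : Type u} [CommRing A] {I : Ideal A}

/-- Adic completeness is invariant under linear equivalences. -/
theorem isAdicComplete_of_linearEquiv {P : Type w} {P' : Type w'} [AddCommGroup P] [Module A P]
    [AddCommGroup P'] [Module A P'] (e : P ≃ₗ[A] P') [IsAdicComplete I P] :
    IsAdicComplete I P' := by
  have hH : IsHausdorff I P' := by
    refine ⟨fun x hx => ?_⟩
    have : e.symm x = 0 := by
      apply IsHausdorff.haus (inferInstance : IsHausdorff I P)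
      intro n
      have := hx n
      rw [SModEq.zero] at this ⊢
      exact (mem_pow_smul_top_equiv e.symm n x).mpr this
    simpa using this
  refine { toIsHausdorff := hH, prec' := ?_ }
  intro f hf
  have hcau : ∀ {m n : ℕ}, m ≤ n →
      e.symm (f m) ≡ e.symm (f n) [SMOD (I ^ m • ⊤ : Submodule A P)] := by
    intro m n hmn
    have := hf hmn
    rw [SModEq.sub_mem] at this ⊢
    rw [← map_sub]
    exact (mem_pow_smul_top_equiv e.symm m _).mpr this
  obtain ⟨L, hL⟩ := IsPrecomplete.prec (inferInstance : IsPrecomplete I P) hcau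
  refine ⟨e L, fun n => ?_⟩
  have := hL n
  rw [SModEq.sub_mem] at this ⊢
  have h2 := (mem_pow_smul_top_equiv e n _).mpr this
  rwa [map_sub, LinearEquiv.apply_symm_apply] at h2

/-- A linear equivalence of value modules induces one on decaying functions. -/
noncomputable def decayingCongr (Z : Type v) {N : Type w} {N' : Type w'} [AddCommGroup N]
    [Module A N] [AddCommGroup N'] [Module A N'] (e : N ≃ₗ[A] N') :
    decaying I Z N ≃ₗ[A] decaying I Z N' where
  toFun g := ⟨fun z => e ((g : Z → N) z), (decaying_equiv_iff e _).mpr g.2⟩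
  invFun g := ⟨fun z => e.symm ((g : Z → N') z), (decaying_equiv_iff e.symm _).mpr g.2⟩
  map_add' g h := by
    apply Subtype.ext
    funext z
    simp
  map_smul' a g := by
    apply Subtype.ext
    funext z
    simp
  left_inv g := by
    apply Subtype.ext
    funext z
    simp
  right_inv g := by
    apply Subtype.ext
    funext z
    simp

end general

variable {A : Type u} [CommRing A] [IsNoetherianRing A] [IsLocalRing A]
  [IsAdicComplete (maximalIdeal A) A]

/-- A flat, adically complete module over a complete Noetherian local ring is isomorphic to a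
module of decaying functions. -/
theorem exists_equiv_decaying (M : Type u) [AddCommGroup M] [Module A M] [Module.Flat A M]
    [IsAdicComplete (maximalIdeal A) M] :
    ∃ Z : Type u, Nonempty (M ≃ₗ[A] decaying (maximalIdeal A) Z A) := by
  classical
  letI : Field (A ⧸ maximalIdeal A) := Ideal.Quotient.field (maximalIdeal A)
  let Z := Module.Free.ChooseBasisIndex (A ⧸ maximalIdeal A)
    (M ⧸ (maximalIdeal A • ⊤ : Submodule A M))
  let b : Module.Basis Z (A ⧸ maximalIdeal A) (M ⧸ (maximalIdeal A • ⊤ : Submodule A M)) :=
    Module.Free.chooseBasis _ _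
  choose x hx using fun z => Submodule.Quotient.mk_surjective
    (maximalIdeal A • ⊤ : Submodule A M) (b z)
  -- independence modulo `m`
  have hP : ∀ (s : Finset Z) (f : Z → A),
      ∑ i ∈ s, f i • x i ∈ (maximalIdeal A • ⊤ : Submodule A M) →
        ∀ i ∈ s, f i ∈ maximalIdeal A := by
    intro s f hf i hi
    have h0 : ∑ i ∈ s, (Ideal.Quotient.mk (maximalIdeal A) (f i)) • b i = 0 := by
      have : (Submodule.Quotient.mk (∑ i ∈ s, f i • x i) :
          M ⧸ (maximalIdeal A • ⊤ : Submodule A M)) = 0 := by
        rwa [Submodule.Quotient.mk_eq_zero]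
      rw [← this, ← Submodule.mkQ_apply, map_sum]
      refine Finset.sum_congr rfl fun i _ => ?_
      rw [Submodule.mkQ_apply, Submodule.Quotient.mk_smul, hx]
      rfl
    have := (linearIndependent_iff'.mp b.linearIndependent) s
      (fun i => Ideal.Quotient.mk (maximalIdeal A) (f i)) h0 i hi
    exact Ideal.Quotient.eq_zero_iff_mem.mp this
  -- generation modulo `m`
  have hspan : Submodule.span A (Set.range x) ⊔ maximalIdeal A • ⊤ = ⊤ := by
    rw [eq_top_iff]
    intro y _
    let c := b.repr (Submodule.Quotient.mk y)
    let a : Z → A := fun z => Function.surjInv (Ideal.Quotient.mk_surjective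
      (I := maximalIdeal A)) (c z)
    have ha : ∀ z, Ideal.Quotient.mk (maximalIdeal A) (a z) = c z := fun z =>
      Function.surjInv_eq _ _
    have hy0 : (Submodule.Quotient.mk (∑ z ∈ c.support, a z • x z) :
        M ⧸ (maximalIdeal A • ⊤ : Submodule A M)) = Submodule.Quotient.mk y := by
      rw [← Submodule.mkQ_apply, map_sum]
      have : ∀ z ∈ c.support, (Submodule.mkQ (maximalIdeal A • ⊤ : Submodule A M)) (a z • x z) =
          c z • b z := by
        intro z _
        rw [Submodule.mkQ_apply, Submodule.Quotient.mk_smul, hx, ← ha z]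
        rfl
      rw [Finset.sum_congr rfl this]
      have h2 := b.linearCombination_repr (Submodule.Quotient.mk y)
      rw [Finsupp.linearCombination_apply] at h2
      exact h2
    have hmem : y - ∑ z ∈ c.support, a z • x z ∈ (maximalIdeal A • ⊤ : Submodule A M) := by
      rw [← Submodule.Quotient.mk_eq_zero, Submodule.Quotient.mk_sub, hy0, sub_self]
    have : y = ∑ z ∈ c.support, a z • x z + (y - ∑ z ∈ c.support, a z • x z) := by abel
    rw [this]
    refine Submodule.add_mem_sup ?_ hmem
    refine Submodule.sum_mem _ fun z _ => ?_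
    exact Submodule.smul_mem _ _ (Submodule.subset_span ⟨z, rfl⟩)
  obtain ⟨φ, hφ⟩ := exists_linearMap (I := maximalIdeal A) (Z := Z) x
  have hsurj : Function.Surjective φ := by
    intro y
    obtain ⟨g, hg, hsum⟩ := exists_isSum_of_span_sup_eq_top (I := maximalIdeal A) x hspan y
    exact ⟨⟨g, hg⟩, IsSum.unique (hφ ⟨g, hg⟩) hsum⟩
  have hinj : Function.Injective φ := by
    rw [← LinearMap.ker_eq_bot, LinearMap.ker_eq_bot']
    intro g hg
    apply Subtype.ext
    funext z
    change (g : Z → A) z = 0
    apply IsHausdorff.haus (inferInstance : IsHausdorff (maximalIdeal A) A)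
    intro N
    rw [SModEq.zero, smul_eq_mul, Ideal.mul_top]
    rcases Nat.eq_zero_or_pos N with rfl | hN
    · simp
    obtain ⟨S, hS1, hS2⟩ := hφ g N
    by_cases hz : z ∈ S
    · have hJ : maximalIdeal A ^ N ≠ ⊤ := by
        intro h
        have h1 : maximalIdeal A ^ N ≤ maximalIdeal A := Ideal.pow_le_self (by omega)
        rw [h] at h1
        exact (IsLocalRing.maximalIdeal.isMaximal A).ne_top (top_le_iff.mp h1)
      rw [hg, zero_sub, Submodule.neg_mem_iff] at hS2
      exact mem_of_sum_mem x hP _ hJ S _ hS2 z hz
    · exact hS1 z hz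
  exact ⟨Z, ⟨(LinearEquiv.ofBijective φ ⟨hinj, hsurj⟩).symm⟩⟩

end Groth.Agent.Lib.Helper14.AdicFree
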