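import Mathlib
import Groth.Prelude.Def_W4c5adicflatcomplDec
import Groth.Agent.Lib.Helper26Decaying
import Groth.Agent.Lib.Helper14AdicSum
import Groth.Agent.Lib.Helper14AdicSum2
import Groth.Agent.Lib.Helper14AdicFree
import Groth.Agent.Lib.Helper14AdicFree2

/-!
# Inverse limits of flat `m`-adic systems over a complete Noetherian local ring
-/

set_option autoImplicit false

open IsLocalRing W4c5adicflatcompl
open scoped TensorProduct

universe u v w

namespace Groth.Agent.Lib.Helper14.SysLim

open Groth.Agent.Lib.Helper14.AdicSum Groth.Agent.Lib.Helper14.AdicFree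

section general

variable {A : Type u} [CommRing A] {I : Ideal A}

theorem IsSum.map {Z : Type v} {M : Type w} {M' : Type*} [AddCommGroup M] [Module A M]
    [AddCommGroup M'] [Module A M'] (u : M →ₗ[A] M') {f : Z → M} {g : Z → A} {L : M}
    (h : IsSum I f g L) : IsSum I (fun z => u (f z)) g (u L) := by
  intro n
  obtain ⟨S, hS1, hS2⟩ := h n
  refine ⟨S, hS1, ?_⟩
  have h2 : (I ^ n • ⊤ : Submodule A M).map u ≤ I ^ n • ⊤ := by
    rw [Submodule.map_smul'']
    exact Submodule.smul_mono le_rfl le_top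
  have := h2 (Submodule.mem_map_of_mem hS2)
  simpa only [map_sub, map_sum, map_smul] using this

/-- A module killed by a power of `I` is `I`-adically complete. -/
theorem isAdicComplete_of_pow_smul_top_eq_bot {M : Type w} [AddCommGroup M] [Module A M] (k : ℕ)
    (hk : (I ^ k • ⊤ : Submodule A M) = ⊥) : IsAdicComplete I M := by
  have hH : IsHausdorff I M := by
    refine ⟨fun x hx => ?_⟩
    have := hx k
    rw [SModEq.zero, hk] at this
    exact (Submodule.mem_bot A).mp this
  refine { toIsHausdorff := hH, prec' := ?_ }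
  intro f hf
  refine ⟨f k, fun n => ?_⟩
  rcases le_total n k with h | h
  · exact hf h
  · have := hf h
    rw [SModEq.sub_mem, hk, Submodule.mem_bot, sub_eq_zero] at this
    rw [this]

end general

section system

variable {A : Type u} [CommRing A] [IsLocalRing A]
  (M : ℕ → Type u) [∀ n, AddCommGroup (M n)] [∀ n, Module A (M n)]
  [∀ n, Module (A ⧸ maximalIdeal A ^ (n + 1)) (M n)]
  [∀ n, IsScalarTower A (A ⧸ maximalIdeal A ^ (n + 1)) (M n)]

theorem smul_eq_zero_of_mem (n : ℕ) (a : A) (ha : a ∈ maximalIdeal A ^ (n + 1)) (y : M n) :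
    a • y = 0 := by
  rw [← algebraMap_smul (A ⧸ maximalIdeal A ^ (n + 1)) a y]
  have : algebraMap A (A ⧸ maximalIdeal A ^ (n + 1)) a = 0 :=
    Ideal.Quotient.eq_zero_iff_mem.mpr ha
  rw [this, zero_smul]

theorem pow_smul_top_eq_bot (n j : ℕ) (hj : n + 1 ≤ j) :
    (maximalIdeal A ^ j • ⊤ : Submodule A (M n)) = ⊥ := by
  rw [eq_bot_iff]
  intro y hy
  refine Submodule.smul_induction_on hy ?_ ?_
  · intro a ha y' _
    rw [Submodule.mem_bot]
    exact smul_eq_zero_of_mem M n a (Ideal.pow_le_pow_right hj ha) y'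
  · intro y₁ y₂ h1 h2
    exact Submodule.add_mem _ h1 h2

theorem isAdicComplete_level (n : ℕ) : IsAdicComplete (maximalIdeal A) (M n) :=
  isAdicComplete_of_pow_smul_top_eq_bot (n + 1) (pow_smul_top_eq_bot M n (n + 1) le_rfl)

variable {M}
variable (ψ : ∀ n, M (n + 1) →ₗ[A] M n)

theorem sysProj_zero_surjective (hψ : ∀ n, Function.Surjective (ψ n)) :
    Function.Surjective (sysProj M ψ 0) := by
  intro y
  let u : ∀ k : ℕ, M k := fun k =>
    Nat.rec (motive := fun k => M k) y (fun k yk => Function.surjInv (hψ k) yk) k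
  refine ⟨⟨u, fun n => ?_⟩, rfl⟩
  exact Function.surjInv_eq (hψ n) (u n)

end system


section basis

variable {A : Type u} [CommRing A] [IsLocalRing A]

/-- Lifts of a basis of `N / m N`: independent modulo `m` and generating modulo `m`. -/
theorem exists_basis_lift (N : Type u) [AddCommGroup N] [Module A N] :
    ∃ (Z : Type u) (x : Z → N),
      (∀ (s : Finset Z) (f : Z → A),
        ∑ i ∈ s, f i • x i ∈ (maximalIdeal A • ⊤ : Submodule A N) →
          ∀ i ∈ s, f i ∈ maximalIdeal A) ∧
      Submodule.span A (Set.range x) ⊔ maximalIdeal A • ⊤ = ⊤ := by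
  classical
  letI : Field (A ⧸ maximalIdeal A) := Ideal.Quotient.field (maximalIdeal A)
  let Z := Module.Free.ChooseBasisIndex (A ⧸ maximalIdeal A)
    (N ⧸ (maximalIdeal A • ⊤ : Submodule A N))
  let b : Module.Basis Z (A ⧸ maximalIdeal A) (N ⧸ (maximalIdeal A • ⊤ : Submodule A N)) :=
    Module.Free.chooseBasis _ _
  choose x hx using fun z => Submodule.Quotient.mk_surjective
    (maximalIdeal A • ⊤ : Submodule A N) (b z)
  refine ⟨Z, x, ?_, ?_⟩
  · intro s f hf i hi
    have h0 : ∑ i ∈ s, (Ideal.Quotient.mk (maximalIdeal A) (f i)) • b i = 0 := by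
      have : (Submodule.Quotient.mk (∑ i ∈ s, f i • x i) :
          N ⧸ (maximalIdeal A • ⊤ : Submodule A N)) = 0 := by
        rwa [Submodule.Quotient.mk_eq_zero]
      rw [← this, ← Submodule.mkQ_apply, map_sum]
      refine Finset.sum_congr rfl fun i _ => ?_
      rw [Submodule.mkQ_apply, Submodule.Quotient.mk_smul, hx]
      rfl
    have := (linearIndependent_iff'.mp b.linearIndependent) s
      (fun i => Ideal.Quotient.mk (maximalIdeal A) (f i)) h0 i hi
    exact Ideal.Quotient.eq_zero_iff_mem.mp this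
  · rw [eq_top_iff]
    intro y _
    let c := b.repr (Submodule.Quotient.mk y)
    let a : Z → A := fun z => Function.surjInv (Ideal.Quotient.mk_surjective
      (I := maximalIdeal A)) (c z)
    have ha : ∀ z, Ideal.Quotient.mk (maximalIdeal A) (a z) = c z := fun z =>
      Function.surjInv_eq _ _
    have hy0 : (Submodule.Quotient.mk (∑ z ∈ c.support, a z • x z) :
        N ⧸ (maximalIdeal A • ⊤ : Submodule A N)) = Submodule.Quotient.mk y := by
      rw [← Submodule.mkQ_apply, map_sum]
      have : ∀ z ∈ c.support, (Submodule.mkQ (maximalIdeal A • ⊤ : Submodule A N)) (a z • x z) =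
          c z • b z := by
        intro z _
        rw [Submodule.mkQ_apply, Submodule.Quotient.mk_smul, hx, ← ha z]
        rfl
      rw [Finset.sum_congr rfl this]
      have h2 := b.linearCombination_repr (Submodule.Quotient.mk y)
      rw [Finsupp.linearCombination_apply] at h2
      exact h2
    have hmem : y - ∑ z ∈ c.support, a z • x z ∈ (maximalIdeal A • ⊤ : Submodule A N) := by
      rw [← Submodule.Quotient.mk_eq_zero, Submodule.Quotient.mk_sub, hy0, sub_self]
    have : y = ∑ z ∈ c.support, a z • x z + (y - ∑ z ∈ c.support, a z • x z) := by abel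
    rw [this]
    refine Submodule.add_mem_sup ?_ hmem
    refine Submodule.sum_mem _ fun z _ => ?_
    exact Submodule.smul_mem _ _ (Submodule.subset_span ⟨z, rfl⟩)

end basis

section system1

variable {A : Type u} [CommRing A] [IsLocalRing A]
  {M : ℕ → Type u} [∀ n, AddCommGroup (M n)] [∀ n, Module A (M n)]
  (ψ : ∀ n, M (n + 1) →ₗ[A] M n)

/-- The level-`n` components of a family in the limit. -/
def lvl {Z : Type v} (x : Z → sysLim M ψ) (n : ℕ) : Z → M n :=
  fun z => ((x z : sysLim M ψ) : ∀ k, M k) n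

theorem psi_lvl {Z : Type v} (x : Z → sysLim M ψ) (n : ℕ) (z : Z) :
    ψ n (lvl ψ x (n + 1) z) = lvl ψ x n z := (x z).2 n

/-- Independence modulo `m` propagates up the tower. -/
theorem indep_mod {Z : Type v} (x : Z → sysLim M ψ)
    (h0 : ∀ (s : Finset Z) (f : Z → A),
      ∑ i ∈ s, f i • lvl ψ x 0 i ∈ (maximalIdeal A • ⊤ : Submodule A (M 0)) →
        ∀ i ∈ s, f i ∈ maximalIdeal A)
    (n : ℕ) (s : Finset Z) (f : Z → A)
    (h : ∑ i ∈ s, f i • lvl ψ x n i ∈ (maximalIdeal A • ⊤ : Submodule A (M n))) :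
    ∀ i ∈ s, f i ∈ maximalIdeal A := by
  induction n with
  | zero => exact h0 s f h
  | succ n ih =>
    apply ih
    have h2 : (maximalIdeal A • ⊤ : Submodule A (M (n + 1))).map (ψ n) ≤ maximalIdeal A • ⊤ := by
      rw [Submodule.map_smul'']
      exact Submodule.smul_mono le_rfl le_top
    have := h2 (Submodule.mem_map_of_mem h)
    rw [map_sum] at this
    have e : ∑ i ∈ s, ψ n (f i • lvl ψ x (n + 1) i) = ∑ i ∈ s, f i • lvl ψ x n i :=
      Finset.sum_congr rfl fun i _ => by rw [map_smul, psi_lvl]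
    rwa [e] at this

end system1

section system2

variable {A : Type u} [CommRing A] [IsLocalRing A]
  {M : ℕ → Type u} [∀ n, AddCommGroup (M n)] [∀ n, Module A (M n)]
  [∀ n, Module (A ⧸ maximalIdeal A ^ (n + 1)) (M n)]
  [∀ n, IsScalarTower A (A ⧸ maximalIdeal A ^ (n + 1)) (M n)]
  (ψ : ∀ n, M (n + 1) →ₗ[A] M n)

/-- A submodule of `M n` that generates modulo `m` is everything. -/
theorem eq_top_of_sup_smul_eq_top (n : ℕ) (N : Submodule A (M n))
    (h : N ⊔ maximalIdeal A • ⊤ = ⊤) : N = ⊤ := by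
  have key : ∀ j : ℕ, N ⊔ maximalIdeal A ^ j • ⊤ = ⊤ := by
    intro j
    induction j with
    | zero => simp
    | succ j ih =>
      rw [eq_top_iff]
      calc (⊤ : Submodule A (M n)) = N ⊔ maximalIdeal A • ⊤ := h.symm
        _ = N ⊔ maximalIdeal A • (N ⊔ maximalIdeal A ^ j • ⊤) := by rw [ih]
        _ = N ⊔ (maximalIdeal A • N ⊔ maximalIdeal A • (maximalIdeal A ^ j • ⊤)) := by
            rw [Submodule.smul_sup]
        _ ≤ N ⊔ maximalIdeal A ^ (j + 1) • ⊤ := by
            refine sup_le le_sup_left (sup_le ?_ ?_)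
            · exact le_trans Submodule.smul_le_right le_sup_left
            · rw [← Submodule.mul_smul, ← pow_succ']
              exact le_sup_right
  have := key (n + 1)
  rwa [pow_smul_top_eq_bot M n (n + 1) le_rfl, sup_bot_eq] at this

/-- The level-`n` components generate `M n`. -/
theorem span_lvl {Z : Type v} (x : Z → sysLim M ψ)
    (hker : ∀ n, LinearMap.ker (ψ n) =
      (maximalIdeal A ^ (n + 1) • ⊤ : Submodule A (M (n + 1))))
    (h0 : Submodule.span A (Set.range (lvl ψ x 0)) ⊔ maximalIdeal A • ⊤ = ⊤) (n : ℕ) :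
    Submodule.span A (Set.range (lvl ψ x n)) = ⊤ := by
  induction n with
  | zero => exact eq_top_of_sup_smul_eq_top 0 _ h0
  | succ n ih =>
    apply eq_top_of_sup_smul_eq_top (n + 1)
    rw [eq_top_iff]
    intro y _
    have hy : ψ n y ∈ Submodule.span A (Set.range (lvl ψ x n)) := by rw [ih]; trivial
    obtain ⟨c, hc⟩ := Finsupp.mem_span_range_iff_exists_finsupp.mp hy
    let w : M (n + 1) := c.sum fun i a => a • lvl ψ x (n + 1) i
    have hw : w ∈ Submodule.span A (Set.range (lvl ψ x (n + 1))) :=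
      Finsupp.mem_span_range_iff_exists_finsupp.mpr ⟨c, rfl⟩
    have hψw : ψ n w = ψ n y := by
      rw [← hc]
      simp only [w, map_finsuppSum, map_smul, psi_lvl]
    have hmem : y - w ∈ (maximalIdeal A • ⊤ : Submodule A (M (n + 1))) := by
      have : y - w ∈ LinearMap.ker (ψ n) := by
        rw [LinearMap.mem_ker, map_sub, hψw, sub_self]
      rw [hker] at this
      exact Submodule.smul_mono (Ideal.pow_le_self (by omega)) le_rfl this
    have : y = w + (y - w) := by abel
    rw [this]
    exact Submodule.add_mem_sup hw hmem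

/-- Independence modulo `m ^ (n + 1)` at level `n`, from flatness. -/
theorem indep [∀ n, Module.Flat (A ⧸ maximalIdeal A ^ (n + 1)) (M n)]
    {Z : Type v} (x : Z → sysLim M ψ)
    (h0 : ∀ (s : Finset Z) (f : Z → A),
      ∑ i ∈ s, f i • lvl ψ x 0 i ∈ (maximalIdeal A • ⊤ : Submodule A (M 0)) →
        ∀ i ∈ s, f i ∈ maximalIdeal A)
    (n : ℕ) (s : Finset Z) (f : Z → A)
    (h : ∑ i ∈ s, f i • lvl ψ x n i = 0) : ∀ i ∈ s, f i ∈ maximalIdeal A ^ (n + 1) := by
  classical
  have hne : maximalIdeal A ^ (n + 1) ≠ ⊤ := by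
    intro h
    have h1 : maximalIdeal A ^ (n + 1) ≤ maximalIdeal A := Ideal.pow_le_self (by omega)
    rw [h] at h1
    exact (IsLocalRing.maximalIdeal.isMaximal A).ne_top (top_le_iff.mp h1)
  have hnt : Nontrivial (A ⧸ maximalIdeal A ^ (n + 1)) := Ideal.Quotient.nontrivial_iff.mpr hne
  have hloc : IsLocalRing (A ⧸ maximalIdeal A ^ (n + 1)) :=
    IsLocalRing.of_surjective' (Ideal.Quotient.mk _) Ideal.Quotient.mk_surjective
  have hloc' : IsLocalHom (Ideal.Quotient.mk (maximalIdeal A ^ (n + 1))) :=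
    IsLocalHom.of_surjective _ Ideal.Quotient.mk_surjective
  have hsm : ∀ (a : A) (y : M n),
      (Ideal.Quotient.mk (maximalIdeal A ^ (n + 1)) a) • y = a • y := fun a y =>
    algebraMap_smul (A ⧸ maximalIdeal A ^ (n + 1)) a y
  have hle : ∀ y ∈ (maximalIdeal (A ⧸ maximalIdeal A ^ (n + 1)) • ⊤ :
      Submodule (A ⧸ maximalIdeal A ^ (n + 1)) (M n)),
      y ∈ (maximalIdeal A • ⊤ : Submodule A (M n)) := by
    intro y hy
    refine Submodule.smul_induction_on hy ?_ ?_
    · intro r' hr' y' _
      obtain ⟨r, rfl⟩ := Ideal.Quotient.mk_surjective r'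
      have hr : r ∈ maximalIdeal A := by
        rw [IsLocalRing.mem_maximalIdeal, mem_nonunits_iff] at hr' ⊢
        intro hu
        exact hr' (hu.map (Ideal.Quotient.mk _))
      rw [hsm]
      exact Submodule.smul_mem_smul hr Submodule.mem_top
    · intro y₁ y₂ h1 h2
      exact Submodule.add_mem _ h1 h2
  have hv : ∀ (s : Finset Z) (g : Z → A ⧸ maximalIdeal A ^ (n + 1)),
      ∑ i ∈ s, g i • lvl ψ x n i ∈ (maximalIdeal (A ⧸ maximalIdeal A ^ (n + 1)) • ⊤ :
        Submodule (A ⧸ maximalIdeal A ^ (n + 1)) (M n)) →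
      ∀ i ∈ s, g i ∈ maximalIdeal (A ⧸ maximalIdeal A ^ (n + 1)) := by
    intro s g hg i hi
    choose r hr using fun i => Ideal.Quotient.mk_surjective (I := maximalIdeal A ^ (n + 1)) (g i)
    have h1 : ∑ i ∈ s, g i • lvl ψ x n i = ∑ i ∈ s, r i • lvl ψ x n i :=
      Finset.sum_congr rfl fun i _ => by rw [← hr i, hsm]
    rw [h1] at hg
    have h2 := indep_mod ψ x h0 n s r (hle _ hg) i hi
    rw [← hr i, IsLocalRing.mem_maximalIdeal, mem_nonunits_iff]
    intro hu
    exact (IsLocalRing.mem_maximalIdeal _).mp h2 (hloc'.map_nonunit _ hu)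
  intro i hi
  have h' : ∑ i ∈ s, (Ideal.Quotient.mk (maximalIdeal A ^ (n + 1)) (f i)) • lvl ψ x n i ∈
      ((⊥ : Ideal (A ⧸ maximalIdeal A ^ (n + 1))) • ⊤ :
        Submodule (A ⧸ maximalIdeal A ^ (n + 1)) (M n)) := by
    have : ∑ i ∈ s, (Ideal.Quotient.mk (maximalIdeal A ^ (n + 1)) (f i)) • lvl ψ x n i = 0 := by
      rw [← h]
      exact Finset.sum_congr rfl fun i _ => hsm _ _
    rw [this]
    exact Submodule.zero_mem _
  have := mem_of_sum_mem (R := A ⧸ maximalIdeal A ^ (n + 1)) (lvl ψ x n) hv ⊥ bot_ne_top s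
    (fun i => Ideal.Quotient.mk (maximalIdeal A ^ (n + 1)) (f i)) h' i hi
  rw [Ideal.mem_bot] at this
  exact Ideal.Quotient.eq_zero_iff_mem.mp this

end system2


section main

variable {A : Type u} [CommRing A] [IsNoetherianRing A] [IsLocalRing A]
  [IsAdicComplete (maximalIdeal A) A]
  {M : ℕ → Type u} [∀ n, AddCommGroup (M n)] [∀ n, Module A (M n)]
  [∀ n, Module (A ⧸ maximalIdeal A ^ (n + 1)) (M n)]
  [∀ n, IsScalarTower A (A ⧸ maximalIdeal A ^ (n + 1)) (M n)]
  [∀ n, Module.Flat (A ⧸ maximalIdeal A ^ (n + 1)) (M n)]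
  (ψ : ∀ n, M (n + 1) →ₗ[A] M n)

theorem main (hψ : ∀ n, Function.Surjective (ψ n))
    (hker : ∀ n, LinearMap.ker (ψ n) =
      (maximalIdeal A ^ (n + 1) • ⊤ : Submodule A (M (n + 1)))) :
    ∃ Z : Type u, Nonempty (decaying (maximalIdeal A) Z A ≃ₗ[A] sysLim M ψ) ∧
      ∀ n, Function.Surjective (sysProj M ψ n) ∧
        LinearMap.ker (sysProj M ψ n) =
          (maximalIdeal A ^ (n + 1) • ⊤ : Submodule A (sysLim M ψ)) := by
  classical
  obtain ⟨Z, x0, hP0, hspan0⟩ := exists_basis_lift (A := A) (M 0)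
  choose x hx using fun z => sysProj_zero_surjective ψ hψ (x0 z)
  have hx0 : lvl ψ x 0 = x0 := funext hx
  have hP : ∀ (s : Finset Z) (f : Z → A),
      ∑ i ∈ s, f i • lvl ψ x 0 i ∈ (maximalIdeal A • ⊤ : Submodule A (M 0)) →
        ∀ i ∈ s, f i ∈ maximalIdeal A := by
    rw [hx0]; exact hP0
  have hInd := indep ψ x hP
  have hT := span_lvl ψ x hker (by rw [hx0]; exact hspan0)
  haveI hcompl : ∀ n, IsAdicComplete (maximalIdeal A) (M n) := isAdicComplete_level M
  choose φn hφn using fun n => exists_linearMap (I := maximalIdeal A) (Z := Z) (lvl ψ x n)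
  have hcompat : ∀ n g, ψ n (φn (n + 1) g) = φn n g := by
    intro n g
    have e : (fun z => ψ n (lvl ψ x (n + 1) z)) = lvl ψ x n := funext fun z => psi_lvl ψ x n z
    have h1 := IsSum.map (I := maximalIdeal A) (ψ n) (hφn (n + 1) g)
    rw [e] at h1
    exact IsSum.unique h1 (hφn n g)
  let φ : decaying (maximalIdeal A) Z A →ₗ[A] sysLim M ψ :=
    LinearMap.codRestrict (sysLim M ψ) (LinearMap.pi fun n => φn n) (fun g n => hcompat n g)
  have hφ_apply : ∀ g n, ((φ g : sysLim M ψ) : ∀ k, M k) n = φn n g := fun g n => rfl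
  -- exact finite sums at each level
  have hexact : ∀ n (g : decaying (maximalIdeal A) Z A), ∃ S : Finset Z,
      (∀ z, z ∉ S → (g : Z → A) z ∈ maximalIdeal A ^ (n + 1)) ∧
        φn n g = ∑ z ∈ S, (g : Z → A) z • lvl ψ x n z := by
    intro n g
    obtain ⟨S, hS1, hS2⟩ := hφn n g (n + 1)
    rw [pow_smul_top_eq_bot M n (n + 1) le_rfl, Submodule.mem_bot, sub_eq_zero] at hS2
    exact ⟨S, hS1, hS2⟩
  have hcoef : ∀ n (g : decaying (maximalIdeal A) Z A), φn n g = 0 →
      ∀ z, (g : Z → A) z ∈ maximalIdeal A ^ (n + 1) := by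
    intro n g hg z
    obtain ⟨S, hS1, hS2⟩ := hexact n g
    by_cases hz : z ∈ S
    · rw [hg] at hS2
      exact hInd n S _ hS2.symm z hz
    · exact hS1 z hz
  have hinj : Function.Injective φ := by
    rw [← LinearMap.ker_eq_bot, LinearMap.ker_eq_bot']
    intro g hg
    apply Subtype.ext
    funext z
    change (g : Z → A) z = 0
    apply IsHausdorff.haus (inferInstance : IsHausdorff (maximalIdeal A) A)
    intro N
    rw [SModEq.zero, smul_eq_mul, Ideal.mul_top]
    have h1 : φn N g = 0 := by rw [← hφ_apply, hg]; rfl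
    exact Ideal.pow_le_pow_right (Nat.le_succ N) (hcoef N g h1 z)
  have hsurj : Function.Surjective φ := by
    intro y
    have hc : ∀ n, ∃ c : Z →₀ A, (c.sum fun i a => a • lvl ψ x n i) = (y : ∀ k, M k) n := by
      intro n
      apply Finsupp.mem_span_range_iff_exists_finsupp.mp
      rw [hT n]; trivial
    choose c hc using hc
    have hsum : ∀ n (T : Finset Z), (c n).support ⊆ T →
        (y : ∀ k, M k) n = ∑ i ∈ T, c n i • lvl ψ x n i := by
      intro n T hT'
      rw [← hc n]
      exact Finsupp.sum_of_support_subset _ hT' _ fun i _ => zero_smul _ _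
    have hdiff : ∀ n z, c (n + 1) z - c n z ∈ maximalIdeal A ^ (n + 1) := by
      intro n z
      let T := (c (n + 1)).support ∪ (c n).support
      have h1 : ∑ i ∈ T, (c (n + 1) i - c n i) • lvl ψ x n i = 0 := by
        simp only [sub_smul, Finset.sum_sub_distrib]
        rw [← hsum n T Finset.subset_union_right, sub_eq_zero, ← y.2 n,
          hsum (n + 1) T Finset.subset_union_left, map_sum]
        exact Finset.sum_congr rfl fun i _ => by rw [map_smul, psi_lvl]
      by_cases hz : z ∈ T
      · exact hInd n T _ h1 z hz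
      · simp only [T, Finset.mem_union, Finsupp.mem_support_iff, not_or, not_not] at hz
        rw [hz.1, hz.2, sub_zero]
        exact Ideal.zero_mem _
    have hcau : ∀ z {k l : ℕ}, k ≤ l → c l z - c k z ∈ maximalIdeal A ^ (k + 1) := by
      intro z k l hkl
      induction l, hkl using Nat.le_induction with
      | base => rw [sub_self]; exact Ideal.zero_mem _
      | succ l hkl ih =>
        have : c (l + 1) z - c k z = (c (l + 1) z - c l z) + (c l z - c k z) := by ring
        rw [this]
        exact Ideal.add_mem _ (Ideal.pow_le_pow_right (by omega) (hdiff l z)) ih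
    have hlim : ∀ z, ∃ a : A, ∀ n, a - c n z ∈ maximalIdeal A ^ (n + 1) := by
      intro z
      obtain ⟨a, ha⟩ := IsPrecomplete.prec (inferInstance : IsPrecomplete (maximalIdeal A) A)
        (f := fun n => c n z) (by
          intro k l hkl
          rw [SModEq.comm, SModEq.sub_mem, smul_eq_mul, Ideal.mul_top]
          exact Ideal.pow_le_pow_right (Nat.le_succ k) (hcau z hkl))
      refine ⟨a, fun n => ?_⟩
      have h1 := ha (n + 1)
      rw [SModEq.comm, SModEq.sub_mem, smul_eq_mul, Ideal.mul_top] at h1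
      have : a - c n z = (a - c (n + 1) z) + (c (n + 1) z - c n z) := by ring
      rw [this]
      exact Ideal.add_mem _ h1 (hdiff n z)
    choose g hg using hlim
    have hgdec : g ∈ decaying (maximalIdeal A) Z A := by
      rw [mem_decaying_iff]
      intro n
      refine (c n).support.finite_toSet.subset ?_
      intro z hz
      simp only [Finset.mem_coe, Finsupp.mem_support_iff]
      intro h0
      apply hz
      rw [smul_eq_mul, Ideal.mul_top]
      have := hg z n
      rw [h0, sub_zero] at this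
      exact Ideal.pow_le_pow_right (Nat.le_succ n) this
    refine ⟨⟨g, hgdec⟩, ?_⟩
    apply Subtype.ext
    funext n
    rw [hφ_apply]
    obtain ⟨S, hS1, hS2⟩ := hexact n ⟨g, hgdec⟩
    rw [hS2, hsum n (S ∪ (c n).support) Finset.subset_union_right]
    rw [Finset.sum_subset (Finset.subset_union_left (s₂ := (c n).support))
      (fun z _ hz => smul_eq_zero_of_mem M n _ (hS1 z hz) _)]
    refine Finset.sum_congr rfl fun z _ => ?_
    rw [← sub_eq_zero, ← sub_smul]
    exact smul_eq_zero_of_mem M n _ (hg z n) _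
  refine ⟨Z, ⟨LinearEquiv.ofBijective φ ⟨hinj, hsurj⟩⟩, fun n => ⟨?_, ?_⟩⟩
  · intro y
    have hy : y ∈ Submodule.span A (Set.range (lvl ψ x n)) := by rw [hT n]; trivial
    obtain ⟨c, hc⟩ := Finsupp.mem_span_range_iff_exists_finsupp.mp hy
    refine ⟨c.sum fun i a => a • x i, ?_⟩
    rw [← hc, map_finsuppSum]
    exact Finsupp.sum_congr fun i _ => by rw [map_smul]; rfl
  · apply le_antisymm
    · intro y hy
      obtain ⟨g, rfl⟩ := hsurj y
      have h1 : φn n g = 0 := hy
      have h2 := hcoef n g h1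
      have h3 : g ∈ (maximalIdeal A ^ (n + 1) • ⊤ :
          Submodule A (decaying (maximalIdeal A) Z A)) :=
        ((Groth.Agent.Lib.Helper26.decaying_reduction (maximalIdeal A) Z (n + 1)).2 g).mpr h2
      have h4 : (maximalIdeal A ^ (n + 1) • ⊤ :
          Submodule A (decaying (maximalIdeal A) Z A)).map φ ≤ maximalIdeal A ^ (n + 1) • ⊤ := by
        rw [Submodule.map_smul'']
        exact Submodule.smul_mono le_rfl le_top
      exact h4 (Submodule.mem_map_of_mem h3)
    · rw [Submodule.smul_le]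
      intro a ha y _
      rw [LinearMap.mem_ker, map_smul]
      exact smul_eq_zero_of_mem M n a ha _

end main

end Groth.Agent.Lib.Helper14.SysLim
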