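import Mathlib

/-!
# Completeness along two ideals (Stacks 090T) (helper19)

If `A` is Noetherian, `I`-adically complete, and `A ⧸ I` is `J`-adically complete, then `A` is
`J`-adically complete.
-/

set_option autoImplicit false
universe u

namespace Groth.Agent.Lib.Helper19

open Ideal

section general

variable {R : Type u} [CommRing R] (J : Ideal R)

/-- Surjections preserve precompleteness. -/
theorem isPrecomplete_of_surjective_module {N M : Type*}
    [AddCommGroup N] [Module R N] [AddCommGroup M] [Module R M] (f : N →ₗ[R] M)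
    (hf : Function.Surjective f) [IsPrecomplete J N] : IsPrecomplete J M := by
  rw [← AdicCompletion.of_surjective_iff]
  intro y
  obtain ⟨x, rfl⟩ := AdicCompletion.map_surjective J hf y
  obtain ⟨n, rfl⟩ := AdicCompletion.of_surjective J N x
  exact ⟨f n, (AdicCompletion.map_of J f n).symm⟩

/-- Extensions of precomplete modules are precomplete (finite modules over a Noetherian ring). -/
theorem isPrecomplete_of_exact [IsNoetherianRing R]
    {M' M M'' : Type u} [AddCommGroup M'] [Module R M'] [AddCommGroup M] [Module R M]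
    [AddCommGroup M''] [Module R M''] [Module.Finite R M]
    (f : M' →ₗ[R] M) (g : M →ₗ[R] M'') (hf : Function.Injective f)
    (hfg : Function.Exact f g) (hg : Function.Surjective g)
    [IsPrecomplete J M'] [IsPrecomplete J M''] : IsPrecomplete J M := by
  rw [← AdicCompletion.of_surjective_iff]
  intro y
  obtain ⟨m'', hm''⟩ := AdicCompletion.of_surjective J M'' (AdicCompletion.map J g y)
  obtain ⟨m, rfl⟩ := hg m''
  have h0 : AdicCompletion.map J g (y - AdicCompletion.of J M m) = 0 := by
    rw [map_sub, AdicCompletion.map_of, hm'', sub_self]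
  obtain ⟨y', hy'⟩ := (AdicCompletion.map_exact (I := J) hf hfg hg _).mp h0
  obtain ⟨m', rfl⟩ := AdicCompletion.of_surjective J M' y'
  refine ⟨m + f m', ?_⟩
  rw [map_add, ← AdicCompletion.map_of, hy']
  abel

theorem isPrecomplete_of_subsingleton (M : Type*) [AddCommGroup M] [Module R M]
    [Subsingleton M] : IsPrecomplete J M :=
  ⟨fun f _ => ⟨0, fun n => by rw [Subsingleton.elim (f n) 0]⟩⟩

theorem map_mem_smul_top {N M : Type*} [AddCommGroup N] [Module R N] [AddCommGroup M]
    [Module R M] (f : N →ₗ[R] M) (L : Ideal R) {x : N} (hx : x ∈ (L • ⊤ : Submodule R N)) :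
    f x ∈ (L • ⊤ : Submodule R M) := by
  have : (L • ⊤ : Submodule R N).map f ≤ L • ⊤ := by
    rw [Submodule.map_smul'']
    exact Submodule.smul_mono le_rfl le_top
  exact this ⟨x, hx, rfl⟩

theorem mem_smul_top_pi_iff {ι : Type*} [Fintype ι] [DecidableEq ι] (M : Type*) [AddCommGroup M]
    [Module R M] (L : Ideal R) (x : ι → M) :
    x ∈ (L • ⊤ : Submodule R (ι → M)) ↔ ∀ i, x i ∈ (L • ⊤ : Submodule R M) := by
  constructor
  · intro hx i
    exact map_mem_smul_top (LinearMap.proj i : (ι → M) →ₗ[R] M) L hx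
  · intro hx
    have e : x = ∑ i, LinearMap.single R (fun _ : ι => M) i (x i) := by
      ext j
      simp [Finset.sum_apply, Pi.single_apply]
    rw [e]
    exact Submodule.sum_mem _ fun i _ => map_mem_smul_top _ L (hx i)

theorem isPrecomplete_pi_module {ι : Type*} [Finite ι] (M : Type*) [AddCommGroup M]
    [Module R M] [IsPrecomplete J M] : IsPrecomplete J (ι → M) := by
  classical
  haveI := Fintype.ofFinite ι
  refine ⟨fun {c} hc => ?_⟩
  have hj : ∀ j, ∃ l : M, ∀ n, c n j ≡ l [SMOD (J ^ n • ⊤ : Submodule R M)] := by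
    intro j
    apply IsPrecomplete.prec' (fun n => c n j)
    intro m n hmn
    have h1 := hc hmn
    rw [SModEq.sub_mem] at h1 ⊢
    rw [mem_smul_top_pi_iff] at h1
    exact h1 j
  choose l hl using hj
  refine ⟨l, fun n => ?_⟩
  rw [SModEq.sub_mem, mem_smul_top_pi_iff]
  intro j
  have h1 := hl j n
  rw [SModEq.sub_mem] at h1
  exact h1

end general

section main

variable {A : Type u} [CommRing A] (I J : Ideal A)

/-- membership of a class in `L • ⊤` of the quotient `A ⧸ K`. -/
theorem mk_mem_smul_top_quotient_iff (K L : Ideal A) (x : A) :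
    (Submodule.Quotient.mk x : A ⧸ K) ∈ (L • ⊤ : Submodule A (A ⧸ K)) ↔ x ∈ L ⊔ K := by
  have hmap : (L • ⊤ : Submodule A (A ⧸ K)) = Submodule.map (Submodule.mkQ K) L := by
    have h1 : Submodule.map (Submodule.mkQ K) (L • (⊤ : Submodule A A)) =
        L • Submodule.map (Submodule.mkQ K) ⊤ := Submodule.map_smul'' _ _ _
    rw [Submodule.map_top, Submodule.range_mkQ] at h1
    rw [← h1, smul_eq_mul, Ideal.mul_top]
  rw [hmap]
  constructor
  · rintro ⟨l, hl, hlx⟩
    have : x - l ∈ K := by
      have h2 : (Submodule.Quotient.mk (x - l) : A ⧸ K) = 0 := by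
        rw [Submodule.Quotient.mk_sub]
        rw [Submodule.mkQ_apply] at hlx
        rw [hlx, sub_self]
      exact (Submodule.Quotient.mk_eq_zero K).mp h2
    have e : x = l + (x - l) := by ring
    rw [e]
    exact Submodule.add_mem_sup hl this
  · intro hx
    obtain ⟨l, hl, k, hk, rfl⟩ := Submodule.mem_sup.mp hx
    refine ⟨l, hl, ?_⟩
    rw [Submodule.mkQ_apply, Submodule.Quotient.mk_add]
    rw [(Submodule.Quotient.mk_eq_zero K).mpr hk, add_zero]

/-- Krull intersection in the quotient `A ⧸ K`. -/
theorem mem_of_forall_mem_pow_sup [IsNoetherianRing A] (hJ : J ≤ Ideal.jacobson ⊥) (K : Ideal A)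
    (x : A) (h : ∀ k, x ∈ J ^ k ⊔ K) : x ∈ K := by
  haveI : IsHausdorff J (A ⧸ K) := IsHausdorff.of_le_jacobson J (A ⧸ K) hJ
  have h0 : (Submodule.Quotient.mk x : A ⧸ K) = 0 := by
    apply IsHausdorff.haus' (I := J)
    intro n
    rw [SModEq.zero, mk_mem_smul_top_quotient_iff]
    exact h n
  exact (Submodule.Quotient.mk_eq_zero K).mp h0

/-- The main step: if all `A ⧸ I ^ n` are `J`-adically precomplete, `A` is `I`-adically
complete, and `J` is in the Jacobson radical, then `A` is `J`-adically complete. -/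
theorem isAdicComplete_of_forall_quotient_pow [IsNoetherianRing A] [IsAdicComplete I A]
    (hJ : J ≤ Ideal.jacobson ⊥) (hq : ∀ n, IsPrecomplete J (A ⧸ I ^ n)) :
    IsAdicComplete J A := by
  have hI : I ≤ Ideal.jacobson ⊥ := IsAdicComplete.le_jacobson_bot I
  haveI hH : IsHausdorff J A := IsHausdorff.of_le_jacobson J A hJ
  refine { toIsHausdorff := hH, toIsPrecomplete := ⟨fun {f} hf => ?_⟩ }
  -- limits in each quotient
  have hlim : ∀ n, ∃ z : A, ∀ k, f k - z ∈ J ^ k ⊔ I ^ n := by
    intro n
    haveI := hq n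
    obtain ⟨L, hL⟩ := IsPrecomplete.prec' (I := J) (M := A ⧸ I ^ n)
      (fun k => (Submodule.Quotient.mk (f k) : A ⧸ I ^ n)) (by
        intro a b hab
        have h1 := hf hab
        rw [SModEq.sub_mem] at h1 ⊢
        rw [← Submodule.Quotient.mk_sub, mk_mem_smul_top_quotient_iff]
        rw [smul_eq_mul, Ideal.mul_top] at h1
        exact Submodule.mem_sup_left h1)
    obtain ⟨z, rfl⟩ := Submodule.Quotient.mk_surjective _ L
    refine ⟨z, fun k => ?_⟩
    have h1 := hL k
    rw [SModEq.sub_mem, ← Submodule.Quotient.mk_sub, mk_mem_smul_top_quotient_iff] at h1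
    exact h1
  choose z hz using hlim
  -- the z n form an I-adic Cauchy sequence
  have hzc : ∀ {m n : ℕ}, m ≤ n → z m ≡ z n [SMOD (I ^ m • ⊤ : Submodule A A)] := by
    intro m n hmn
    rw [SModEq.sub_mem, smul_eq_mul, Ideal.mul_top]
    apply mem_of_forall_mem_pow_sup J hJ
    intro k
    have h1 := hz m k
    have hle : J ^ k ⊔ I ^ n ≤ J ^ k ⊔ I ^ m :=
      sup_le_sup_left (Ideal.pow_le_pow_right hmn) _
    have h2 : f k - z n ∈ J ^ k ⊔ I ^ m := hle (hz n k)
    have e : z m - z n = (f k - z n) - (f k - z m) := by ring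
    rw [e]
    exact Ideal.sub_mem _ h2 h1
  obtain ⟨y, hy⟩ := IsPrecomplete.prec' (I := I) (M := A) z hzc
  refine ⟨y, fun k => ?_⟩
  rw [SModEq.sub_mem, smul_eq_mul, Ideal.mul_top]
  apply mem_of_forall_mem_pow_sup I hI
  intro n
  have h1 := hy n
  rw [SModEq.sub_mem, smul_eq_mul, Ideal.mul_top] at h1
  have h2 := hz n k
  have e : f k - y = (f k - z n) + (z n - y) := by ring
  rw [e, sup_comm]
  exact Ideal.add_mem _ h2 (Submodule.mem_sup_right h1)

/-- A finite module killed by `I` is `J`-adically precomplete if `A ⧸ I` is. -/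
theorem isPrecomplete_of_smul_eq_zero [IsPrecomplete J (A ⧸ I)] (M : Type u) [AddCommGroup M]
    [Module A M] [Module.Finite A M] (h : ∀ a ∈ I, ∀ m : M, a • m = 0) : IsPrecomplete J M := by
  classical
  obtain ⟨k, s, hs⟩ := Module.Finite.exists_fin (R := A) (M := M)
  have hle : ∀ i, I ≤ LinearMap.ker (LinearMap.toSpanSingleton A M (s i)) := fun i a ha => by
    rw [LinearMap.mem_ker, LinearMap.toSpanSingleton_apply]
    exact h a ha _
  let g : (Fin k → A ⧸ I) →ₗ[A] M :=
    ∑ i, (Submodule.liftQ I (LinearMap.toSpanSingleton A M (s i)) (hle i)) ∘ₗ (LinearMap.proj i)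
  have hg : Function.Surjective g := by
    intro x
    have hx : x ∈ Submodule.span A (Set.range s) := by rw [hs]; trivial
    obtain ⟨c, rfl⟩ := (Submodule.mem_span_range_iff_exists_fun A).mp hx
    refine ⟨fun i => Submodule.Quotient.mk (c i), ?_⟩
    simp only [g, LinearMap.sum_apply, LinearMap.comp_apply, LinearMap.proj_apply]
    refine Finset.sum_congr rfl fun i _ => ?_
    erw [Submodule.liftQ_apply]
    rw [LinearMap.toSpanSingleton_apply]
  haveI : IsPrecomplete J (Fin k → A ⧸ I) := isPrecomplete_pi_module J (A ⧸ I)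
  exact isPrecomplete_of_surjective_module J g hg

/-- A finite module killed by a power of `I` is `J`-adically precomplete if `A ⧸ I` is. -/
theorem isPrecomplete_of_pow_smul_eq_zero [IsNoetherianRing A] [IsPrecomplete J (A ⧸ I)] (n : ℕ) :
    ∀ (M : Type u) [AddCommGroup M] [Module A M] [Module.Finite A M],
      (∀ a ∈ I ^ n, ∀ m : M, a • m = 0) → IsPrecomplete J M := by
  induction n with
  | zero =>
    intro M _ _ _ h
    haveI : Subsingleton M := ⟨fun a b => by
      have h1 := h 1 (by simp) a
      have h2 := h 1 (by simp) b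
      rw [one_smul] at h1 h2
      rw [h1, h2]⟩
    exact isPrecomplete_of_subsingleton J M
  | succ n ih =>
    intro M _ _ _ h
    set N : Submodule A M := I • ⊤ with hN
    haveI h1 : IsPrecomplete J N := by
      apply ih
      rintro a ha ⟨x, hx⟩
      apply Subtype.ext
      change a • x = 0
      refine Submodule.smul_induction_on hx (fun r hr m _ => ?_) (fun x y hx hy => ?_)
      · rw [← mul_smul]
        apply h
        rw [pow_succ]
        exact Ideal.mul_mem_mul ha hr
      · rw [smul_add, hx, hy, add_zero]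
    haveI h2 : IsPrecomplete J (M ⧸ N) := by
      apply isPrecomplete_of_smul_eq_zero I J
      intro a ha m
      obtain ⟨m, rfl⟩ := Submodule.Quotient.mk_surjective _ m
      rw [← Submodule.Quotient.mk_smul, Submodule.Quotient.mk_eq_zero]
      exact Submodule.smul_mem_smul ha trivial
    exact isPrecomplete_of_exact J N.subtype N.mkQ N.injective_subtype
      (LinearMap.exact_subtype_mkQ N) (Submodule.mkQ_surjective N)

/-- **Stacks 090T.** -/
theorem isAdicComplete_of_isAdicComplete_quotient [IsNoetherianRing A] [IsAdicComplete I A]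
    [IsAdicComplete (Ideal.map (Ideal.Quotient.mk I) J) (A ⧸ I)] : IsAdicComplete J A := by
  have hI : I ≤ Ideal.jacobson ⊥ := IsAdicComplete.le_jacobson_bot I
  have hJ' : Ideal.map (Ideal.Quotient.mk I) J ≤ Ideal.jacobson ⊥ :=
    IsAdicComplete.le_jacobson_bot _
  have hJ : J ≤ Ideal.jacobson ⊥ := by
    intro x hx
    rw [Ideal.mem_jacobson_bot]
    intro y
    haveI := isLocalHom_of_le_jacobson_bot I hI
    apply isUnit_of_map_unit (Ideal.Quotient.mk I)
    rw [map_add, map_mul, map_one]
    exact Ideal.mem_jacobson_bot.mp (hJ' (Ideal.mem_map_of_mem _ hx)) _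
  haveI hc : IsAdicComplete J (A ⧸ I) :=
    (IsAdicComplete.map_algebraMap_iff (R := A) (S := A ⧸ I) (M := A ⧸ I) (I := J)).mp
      (by assumption)
  apply isAdicComplete_of_forall_quotient_pow I J hJ
  intro n
  apply isPrecomplete_of_pow_smul_eq_zero I J n
  intro a ha m
  obtain ⟨m, rfl⟩ := Submodule.Quotient.mk_surjective _ m
  rw [← Submodule.Quotient.mk_smul, Submodule.Quotient.mk_eq_zero, smul_eq_mul]
  exact Ideal.mul_mem_right _ _ ha

end main

end Groth.Agent.Lib.Helper19
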