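import Groth.Agent.Lib.Helper19PsIso
import Mathlib.LinearAlgebra.Contraction

set_option autoImplicit false
universe u v w

open CategoryTheory ArtFun ArtFun.Art
open scoped TensorProduct

namespace Groth.Agent.Lib.Helper19

section Contraction

variable {k : Type u} [Field k] {M N N' : Type u} [AddCommGroup M] [Module k M] [AddCommGroup N] [Module k N]
  [AddCommGroup N'] [Module k N'] [Module.Finite k M]

lemma dualTensorHom_lTensor (g : N →ₗ[k] N') (t : Module.Dual k M ⊗[k] N) :
    dualTensorHom k M N' (LinearMap.lTensor (Module.Dual k M) g t) = g ∘ₗ dualTensorHom k M N t := by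
  induction t using TensorProduct.induction_on with
  | zero => simp
  | tmul φ n =>
    ext m
    simp [dualTensorHom_apply]
  | add x y hx hy => rw [map_add, map_add, hx, hy, map_add, LinearMap.comp_add]

lemma dualTensorHomEquiv_symm_comp (g : N →ₗ[k] N') (f : M →ₗ[k] N) :
    (dualTensorHomEquiv k M N').symm (g ∘ₗ f) =
      LinearMap.lTensor (Module.Dual k M) g ((dualTensorHomEquiv k M N).symm f) := by
  apply (dualTensorHomEquiv k M N').injective
  rw [LinearEquiv.apply_symm_apply]
  have h1 : dualTensorHomEquiv k M N' (LinearMap.lTensor (Module.Dual k M) g ((dualTensorHomEquiv k M N).symm f)) =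
      dualTensorHom k M N' (LinearMap.lTensor (Module.Dual k M) g ((dualTensorHomEquiv k M N).symm f)) := rfl
  rw [h1, dualTensorHom_lTensor]
  have h2 : dualTensorHom k M N ((dualTensorHomEquiv k M N).symm f) = f :=
    (dualTensorHomEquiv k M N).apply_symm_apply f
  rw [h2]

end Contraction

section SqAgree

variable {Λ : Type u} {k : Type u} [CommRing Λ] [Field k] [Algebra Λ k]

/-- Two lifts of the same map along an extension with kernel killed by the maximal ideal agree on `m²`. -/
theorem homSet_eq_on_sq (S : CRing Λ k) {C' C : Art Λ k} (p : C' ⟶ C) (hp : IsSemismallExt p)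
    (ψ₁ ψ₂ : HomSet S.carrier S.res C') (h : HomSet.map p ψ₁ = HomSet.map p ψ₂)
    (s : S.carrier) (hs : s ∈ IsLocalRing.maximalIdeal S.carrier ^ 2) : ψ₁.1 s = ψ₂.1 s := by
  have hpx : ∀ a, p (ψ₁.1 a) = p (ψ₂.1 a) := fun a => AlgHom.congr_fun (congrArg Subtype.val h) a
  have hdiff : ∀ a, ψ₁.1 a - ψ₂.1 a ∈ RingHom.ker p.toAlgHom := by
    intro a
    rw [hom_mem_ker, hom_map_sub, hpx, sub_self]
  have hm : ∀ (ψ : HomSet S.carrier S.res C') (a : S.carrier), a ∈ IsLocalRing.maximalIdeal S.carrier →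
      ψ.1 a ∈ IsLocalRing.maximalIdeal C' := by
    intro ψ a ha
    exact map_maximalIdeal_le S.res S.res_surjective C'.res C'.res_surjective ψ.1 ψ.2
      (Ideal.mem_map_of_mem _ ha)
  have hzero : ∀ x ∈ IsLocalRing.maximalIdeal C', ∀ y ∈ RingHom.ker p.toAlgHom, x * y = 0 := by
    intro x hx y hy
    have : x * y ∈ IsLocalRing.maximalIdeal C' * RingHom.ker p.toAlgHom := Ideal.mul_mem_mul hx hy
    rwa [hp.2, Ideal.mem_bot] at this
  rw [pow_two] at hs
  induction hs using Submodule.mul_induction_on' with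
  | mem_mul_mem a ha b hb =>
    rw [← sub_eq_zero, map_mul, map_mul]
    have e : ψ₁.1 a * ψ₁.1 b - ψ₂.1 a * ψ₂.1 b =
        ψ₁.1 a * (ψ₁.1 b - ψ₂.1 b) + ψ₂.1 b * (ψ₁.1 a - ψ₂.1 a) := by ring
    rw [e, hzero _ (hm ψ₁ a ha) _ (hdiff b), hzero _ (hm ψ₂ b hb) _ (hdiff a), add_zero]
  | add x _ y _ hx hy => rw [map_add, map_add, hx, hy]

end SqAgree

section ObsPres

variable {k : Type u} [Field k]

lemma hk0 : Function.Surjective (algebraMap k k) := fun c => ⟨c, rfl⟩

theorem isAdicComplete_field : IsAdicComplete (IsLocalRing.maximalIdeal k) k := by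
  rw [IsLocalRing.maximalIdeal_eq_bot]
  infer_instance

attribute [local instance] isAdicComplete_field

variable {d : ℕ} {R : Type u} [CommRing R] [Algebra k R] (resR : R →ₐ[k] k)
  (g : MvPowerSeries (Fin d) k →ₐ[k] R) (J : Ideal (MvPowerSeries (Fin d) k))

/-- The composite of a point of `h_R` with the presentation. -/
noncomputable def preHom {C : Art k k} (u : HomSet R resR C) :
    HomSet (psCRing (Fin d) (hk0 (k := k))).carrier (psCRing (Fin d) (hk0 (k := k))).res C :=
  ⟨u.1.comp g, res_unique hk0 _ _⟩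

lemma preHom_apply {C : Art k k} (u : HomSet R resR C) (s : MvPowerSeries (Fin d) k) :
    (preHom resR g u).1 s = u.1 (g s) := rfl

/-- The space `J/mJ`. -/
abbrev RelMod (J : Ideal (MvPowerSeries (Fin d) k)) : Type u :=
  ↥J ⧸ (IsLocalRing.maximalIdeal (MvPowerSeries (Fin d) k) • (⊤ : Submodule (MvPowerSeries (Fin d) k) ↥J))

instance relMod_finite : Module.Finite k (RelMod J) := by
  classical
  obtain ⟨n, j, hj⟩ := Module.Finite.exists_fin (R := MvPowerSeries (Fin d) k) (M := ↥J)
  refine ⟨⟨Finset.univ.image (fun i => Submodule.Quotient.mk (j i)), ?_⟩⟩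
  rw [eq_top_iff]
  rintro x -
  obtain ⟨y, rfl⟩ := Submodule.Quotient.mk_surjective _ x
  have hy : y ∈ Submodule.span (MvPowerSeries (Fin d) k) (Set.range j) := hj ▸ Submodule.mem_top
  induction hy using Submodule.span_induction with
  | mem z hz =>
    obtain ⟨i, rfl⟩ := hz
    apply Submodule.subset_span
    rw [Finset.coe_image]
    exact ⟨i, Finset.mem_coe.2 (Finset.mem_univ i), rfl⟩
  | zero => exact Submodule.zero_mem _
  | add a b _ _ ha hb =>
    rw [Submodule.Quotient.mk_add]
    exact Submodule.add_mem _ ha hb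
  | smul a z _ hz =>
    obtain ⟨c, hc⟩ : ∃ c : k, c = MvPowerSeries.constantCoeff a := ⟨_, rfl⟩
    have hC : algebraMap k (MvPowerSeries (Fin d) k) c = MvPowerSeries.C c := by
      rw [MvPowerSeries.algebraMap_apply, Algebra.algebraMap_self, RingHom.id_apply]
    have h1 : a - algebraMap k (MvPowerSeries (Fin d) k) c ∈
        IsLocalRing.maximalIdeal (MvPowerSeries (Fin d) k) := by
      rw [CRing.mem_maximalIdeal_iff (psCRing (Fin d) (hk0 (k := k)))]
      change psRes (Fin d) (a - algebraMap k (MvPowerSeries (Fin d) k) c) = 0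
      rw [psRes_apply, map_sub, hC, MvPowerSeries.constantCoeff_C, hc, sub_self, map_zero]
    have h2 : (Submodule.Quotient.mk (a • z) : RelMod J) = c • Submodule.Quotient.mk z := by
      rw [← Submodule.Quotient.mk_smul, Submodule.Quotient.eq,
        ← algebraMap_smul (MvPowerSeries (Fin d) k) c z]
      have h3 : a • z - (algebraMap k (MvPowerSeries (Fin d) k) c) • z =
          (a - algebraMap k (MvPowerSeries (Fin d) k) c) • z := (sub_smul _ _ _).symm
      rw [h3]
      exact Submodule.smul_mem_smul h1 Submodule.mem_top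
    rw [h2]
    exact Submodule.smul_mem _ _ hz

/-- The linear map `J/mJ → ker p` induced by a map of the power series ring to `C'` sending `J` into `ker p`. -/
noncomputable def obsLin {C' C : Art k k} (p : C' ⟶ C) (hp : IsSemismallExt p)
    (ψ : HomSet (psCRing (Fin d) (hk0 (k := k))).carrier (psCRing (Fin d) (hk0 (k := k))).res C')
    (hψ : ∀ j ∈ J, p (ψ.1 j) = 0) : RelMod J →ₗ[k] ↥(RingHom.ker p.toAlgHom) :=
  let f₀ : ↥J →ₗ[k] ↥(RingHom.ker p.toAlgHom) :=
    { toFun := fun j => ⟨ψ.1 j, (hom_mem_ker p _).2 (hψ j j.2)⟩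
      map_add' := fun a b => Subtype.ext (map_add ψ.1 _ _)
      map_smul' := fun c a => Subtype.ext (by
        change ψ.1 (c • (a : MvPowerSeries (Fin d) k)) = c • ψ.1 (a : MvPowerSeries (Fin d) k)
        exact map_smul ψ.1 c _) }
  ((((IsLocalRing.maximalIdeal (MvPowerSeries (Fin d) k) •
      (⊤ : Submodule (MvPowerSeries (Fin d) k) ↥J)).restrictScalars k).liftQ f₀ (by
    intro x hx
    have hx' : x ∈ IsLocalRing.maximalIdeal (MvPowerSeries (Fin d) k) •
      (⊤ : Submodule (MvPowerSeries (Fin d) k) ↥J) := hx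
    rw [LinearMap.mem_ker]
    refine Submodule.smul_induction_on hx' ?_ ?_
    · intro a ha j _
      apply Subtype.ext
      change ψ.1 (a * (j : MvPowerSeries (Fin d) k)) = 0
      rw [map_mul]
      have h1 : ψ.1 a ∈ IsLocalRing.maximalIdeal C' :=
        map_maximalIdeal_le (psCRing (Fin d) (hk0 (k := k))).res (psCRing (Fin d) (hk0 (k := k))).res_surjective
          C'.res C'.res_surjective ψ.1 ψ.2 (Ideal.mem_map_of_mem _ ha)
      have h2 : ψ.1 (j : MvPowerSeries (Fin d) k) ∈ RingHom.ker p.toAlgHom := (hom_mem_ker p _).2 (hψ j j.2)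
      have : ψ.1 a * ψ.1 (j : MvPowerSeries (Fin d) k) ∈
          IsLocalRing.maximalIdeal C' * RingHom.ker p.toAlgHom := Ideal.mul_mem_mul h1 h2
      rwa [hp.2, Ideal.mem_bot] at this
    · intro x y hx hy
      rw [map_add, hx, hy, add_zero])).comp
    (Submodule.Quotient.restrictScalarsEquiv k (IsLocalRing.maximalIdeal (MvPowerSeries (Fin d) k) •
      (⊤ : Submodule (MvPowerSeries (Fin d) k) ↥J))).symm.toLinearMap)

lemma obsLin_mk {C' C : Art k k} (p : C' ⟶ C) (hp : IsSemismallExt p)
    (ψ : HomSet (psCRing (Fin d) (hk0 (k := k))).carrier (psCRing (Fin d) (hk0 (k := k))).res C')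
    (hψ : ∀ j ∈ J, p (ψ.1 j) = 0) (j : ↥J) :
    ((obsLin J p hp ψ hψ (Submodule.Quotient.mk j) : ↥(RingHom.ker p.toAlgHom)) : C') = ψ.1 j := by
  unfold obsLin
  rw [LinearMap.comp_apply]
  erw [Submodule.Quotient.restrictScalarsEquiv_symm_mk]
  rfl

lemma obsLin_ext {C' C : Art k k} (p : C' ⟶ C) (f₁ f₂ : RelMod J →ₗ[k] ↥(RingHom.ker p.toAlgHom))
    (h : ∀ j : ↥J, ((f₁ (Submodule.Quotient.mk j) : ↥(RingHom.ker p.toAlgHom)) : C') =
      f₂ (Submodule.Quotient.mk j)) : f₁ = f₂ := by
  apply LinearMap.ext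
  intro x
  obtain ⟨j, rfl⟩ := Submodule.Quotient.mk_surjective _ x
  exact Subtype.ext (h j)

/-- A chosen lift of a map out of the power series ring along a surjection. -/
noncomputable def liftPs {C' C : Art k k} (p : C' ⟶ C) (hp : Function.Surjective p)
    (φ : HomSet (psCRing (Fin d) (hk0 (k := k))).carrier (psCRing (Fin d) (hk0 (k := k))).res C) :
    HomSet (psCRing (Fin d) (hk0 (k := k))).carrier (psCRing (Fin d) (hk0 (k := k))).res C' :=
  Classical.choose (psCRing_lift hk0 p hp φ)

lemma liftPs_spec {C' C : Art k k} (p : C' ⟶ C) (hp : Function.Surjective p)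
    (φ : HomSet (psCRing (Fin d) (hk0 (k := k))).carrier (psCRing (Fin d) (hk0 (k := k))).res C) :
    HomSet.map p (liftPs p hp φ) = φ :=
  Classical.choose_spec (psCRing_lift hk0 p hp φ)

variable (hg : Function.Surjective g) (hker : ∀ s, g s = 0 ↔ s ∈ J)
  (hJ : J ≤ IsLocalRing.maximalIdeal (MvPowerSeries (Fin d) k) ^ 2)

include hker in
lemma lift_kills {C' C : Art k k} (p : C' ⟶ C) (u : HomSet R resR C)
    (ψ : HomSet (psCRing (Fin d) (hk0 (k := k))).carrier (psCRing (Fin d) (hk0 (k := k))).res C')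
    (hψ : HomSet.map p ψ = preHom resR g u) : ∀ j ∈ J, p (ψ.1 j) = 0 := by
  intro j hj
  have h1 : p (ψ.1 j) = (preHom resR g u).1 j := AlgHom.congr_fun (congrArg Subtype.val hψ) j
  rw [h1, preHom_apply, (hker j).2 hj, map_zero]

include hJ in
lemma obsLin_eq_of_lifts {C' C : Art k k} (p : C' ⟶ C) (hp : IsSemismallExt p)
    (ψ₁ ψ₂ : HomSet (psCRing (Fin d) (hk0 (k := k))).carrier (psCRing (Fin d) (hk0 (k := k))).res C')
    (h₁ : ∀ j ∈ J, p (ψ₁.1 j) = 0) (h₂ : ∀ j ∈ J, p (ψ₂.1 j) = 0)
    (h : HomSet.map p ψ₁ = HomSet.map p ψ₂) : obsLin J p hp ψ₁ h₁ = obsLin J p hp ψ₂ h₂ := by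
  apply obsLin_ext
  intro j
  rw [obsLin_mk, obsLin_mk]
  exact homSet_eq_on_sq (psCRing (Fin d) (hk0 (k := k))) p hp ψ₁ ψ₂ h j (hJ j.2)

/-- The obstruction theory of `h_R` for `R = k[[t]]/J`, `J ⊆ m²`, with values in `(J/mJ)^∨`. -/
noncomputable def obsTheoryOfPres : ObsTheory (hR R resR) (Module.Dual k (RelMod J)) where
  obs {C' C} p hp u := (dualTensorHomEquiv k (RelMod J) ↥(RingHom.ker p.toAlgHom)).symm
    (obsLin J p hp (liftPs p hp.1 (preHom resR g u))
      (lift_kills resR g J hker p u _ (liftPs_spec p hp.1 (preHom resR g u))))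
  obs_eq_zero_iff := by
    intro C' C p hp u
    have hψ := liftPs_spec p hp.1 (preHom resR g u)
    rw [LinearEquiv.map_eq_zero_iff]
    constructor
    · intro h0
      have hkill : ∀ j ∈ J, (liftPs p hp.1 (preHom resR g u)).1 j = 0 := by
        intro j hj
        have := congrArg (fun f : RelMod J →ₗ[k] ↥(RingHom.ker p.toAlgHom) =>
          ((f (Submodule.Quotient.mk ⟨j, hj⟩) : ↥(RingHom.ker p.toAlgHom)) : C')) h0
        simp only [obsLin_mk] at this
        exact this
      have H : RingHom.ker g.toRingHom ≤ RingHom.ker (liftPs p hp.1 (preHom resR g u)).1.toRingHom := by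
        intro s hs
        rw [RingHom.mem_ker] at hs ⊢
        exact hkill s ((hker s).1 hs)
      have hu'₀ : ∀ s, AlgHom.liftOfSurjective g hg (liftPs p hp.1 (preHom resR g u)).1 H (g s) =
          (liftPs p hp.1 (preHom resR g u)).1 s :=
        AlgHom.liftOfSurjective_apply g hg _ H
      refine ⟨⟨AlgHom.liftOfSurjective g hg (liftPs p hp.1 (preHom resR g u)).1 H, ?_⟩, ?_⟩
      · apply AlgHom.ext
        intro r
        obtain ⟨s, rfl⟩ := hg r
        rw [AlgHom.comp_apply, hu'₀]
        have h1 := AlgHom.congr_fun (liftPs p hp.1 (preHom resR g u)).2 s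
        have h2 := AlgHom.congr_fun (res_unique (hk0 (k := k)) (resR.comp g) (psRes (Fin d))) s
        rw [AlgHom.comp_apply] at h1 h2
        rw [h1, h2]
      · change HomSet.map p _ = u
        apply Subtype.ext
        apply AlgHom.ext
        intro r
        obtain ⟨s, rfl⟩ := hg r
        change p (AlgHom.liftOfSurjective g hg _ H (g s)) = u.1 (g s)
        rw [hu'₀]
        exact AlgHom.congr_fun (congrArg Subtype.val hψ) s
    · rintro ⟨u', hu'⟩
      have hu'' : HomSet.map p u' = u := hu'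
      have hlift : HomSet.map p (preHom resR g u') = preHom resR g u := by
        rw [← hu'']; rfl
      rw [obsLin_eq_of_lifts J hJ p hp _ (preHom resR g u') _
        (lift_kills resR g J hker p u _ hlift) (hψ.trans hlift.symm)]
      apply obsLin_ext
      intro j
      rw [obsLin_mk]
      change u'.1 (g j) = 0
      rw [(hker j).2 j.2, map_zero]
  obs_quot := by
    intro C' C p hp K hK hKJ hq u
    have h'' : HomSet.map (quotFactor hK p hKJ)
        (HomSet.map (quotMk C' K hK) (liftPs p hp.1 (preHom resR g u))) = preHom resR g u := by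
      rw [← homSet_map_comp, quotMk_quotFactor]
      exact liftPs_spec p hp.1 (preHom resR g u)
    rw [obsLin_eq_of_lifts J hJ (quotFactor hK p hKJ) hq _
      (HomSet.map (quotMk C' K hK) (liftPs p hp.1 (preHom resR g u))) _
      (lift_kills resR g J hker _ u _ h'') ((liftPs_spec _ hq.1 (preHom resR g u)).trans h''.symm)]
    rw [← dualTensorHomEquiv_symm_comp]
    congr 1
    apply obsLin_ext
    intro j
    rw [obsLin_mk]
    rfl

end ObsPres

end Groth.Agent.Lib.Helper19
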