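import Groth.Agent.Lib.Helper4Japanese2
import Mathlib.RingTheory.NoetherNormalization
import Mathlib.RingTheory.Algebraic.Integral
import Mathlib.RingTheory.Localization.Finiteness
import Mathlib.Algebra.MvPolynomial.Equiv
import Mathlib.RingTheory.Polynomial.Basic

/-!
# Fields are universally Japanese (helper4)

* `isN2_of_finite_injective`: a domain finite and injective over an N-2 domain is N-2.
* `isN2_mvPolynomial_fin`: `R[x₁..xₙ]` is N-2 for a Noetherian N-2 domain `R`.
* `isN2_of_finiteType_field`, `isUniversallyJapanese_field`: domains of finite type over a field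
  are N-2 (Noether normalization).
-/

set_option autoImplicit false
set_option linter.style.haveILetI false
universe u

namespace Groth.Agent.Lib.Helper4.Japanese

open Polynomial Groth.Agent.Lib.Helper14 CAlg

/-- A domain finite and injective over a Noetherian N-2 domain is N-2. -/
theorem isN2_of_finite_injective (P S : Type u) [CommRing P] [IsDomain P]
    [CommRing S] [IsDomain S] [Algebra P S] [Module.Finite P S]
    (hinj : Function.Injective (algebraMap P S)) (hP : IsN2 P) : IsN2 S := by
  intro L _ _ _ _ hfd
  let K_S := FractionRing S
  haveI : FaithfulSMul P S := (faithfulSMul_iff_algebraMap_injective P S).mpr hinj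
  letI : Algebra P L := ((algebraMap S L).comp (algebraMap P S)).toAlgebra
  haveI : IsScalarTower P S L := IsScalarTower.of_algebraMap_eq fun _ => rfl
  have hSL : Function.Injective (algebraMap S L) := by
    rw [IsScalarTower.algebraMap_eq S K_S L]
    exact (algebraMap K_S L).injective.comp (IsFractionRing.injective S K_S)
  haveI : FaithfulSMul S L := (faithfulSMul_iff_algebraMap_injective S L).mpr hSL
  haveI : FaithfulSMul P L := (faithfulSMul_iff_algebraMap_injective P L).mpr (hSL.comp hinj)
  haveI : IsScalarTower P K_S L := IsScalarTower.of_algebraMap_eq fun x => by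
    rw [IsScalarTower.algebraMap_apply P S K_S, ← IsScalarTower.algebraMap_apply S K_S L]
    rfl
  letI := FractionRing.liftAlgebra P K_S
  letI := FractionRing.liftAlgebra P L
  haveI : IsScalarTower (FractionRing P) K_S L := inferInstance
  haveI : Algebra.IsAlgebraic P S := (Algebra.IsIntegral.of_finite P S).isAlgebraic
  haveI : IsLocalization (Algebra.algebraMapSubmonoid S (nonZeroDivisors P)) K_S := inferInstance
  haveI : Module.Finite (FractionRing P) K_S :=
    Module.Finite.of_isLocalization P S (nonZeroDivisors P)
  haveI : FiniteDimensional (FractionRing P) L := Module.Finite.trans K_S L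
  have h1 : Module.Finite P (integralClosure P L) := IsN2.finite hP (FractionRing P) L
  rw [finite_integralClosure_iff_fg] at h1 ⊢
  obtain ⟨T, hT⟩ := h1
  refine ⟨T, le_antisymm ?_ ?_⟩
  · rw [Submodule.span_le]
    intro t ht
    have h2 : t ∈ Subalgebra.toSubmodule (integralClosure P L) := hT ▸ Submodule.subset_span ht
    exact IsIntegral.tower_top (A := S) h2
  · intro x hx
    haveI : Algebra.IsIntegral P S := Algebra.IsIntegral.of_finite P S
    have h2 : x ∈ Subalgebra.toSubmodule (integralClosure P L) := isIntegral_trans (R := P) x hx
    rw [← hT] at h2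
    exact Submodule.span_le_restrictScalars P S _ h2

/-- Polynomial rings in finitely many variables over a Noetherian N-2 domain are N-2. -/
theorem isN2_mvPolynomial_fin (R : Type u) [CommRing R] [IsDomain R] [IsNoetherianRing R]
    (h : IsN2 R) (n : ℕ) : IsN2 (MvPolynomial (Fin n) R) := by
  induction n with
  | zero => exact isN2_of_ringEquiv (MvPolynomial.isEmptyAlgEquiv R (Fin 0)).symm.toRingEquiv h
  | succ n ih =>
    exact isN2_of_ringEquiv (MvPolynomial.finSuccEquiv R n).symm.toRingEquiv
      (isN2_polynomial _ ih)

/-- A domain of finite type over a field is N-2 (a field is universally Japanese). -/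
theorem isN2_of_finiteType_field (k : Type u) [Field k] (S : Type u) [CommRing S] [IsDomain S]
    [Algebra k S] [Algebra.FiniteType k S] : IsN2 S := by
  obtain ⟨s, g, hg, hfin⟩ := exists_finite_inj_algHom_of_fg k S
  letI : Algebra (MvPolynomial (Fin s) k) S := g.toRingHom.toAlgebra
  haveI : Module.Finite (MvPolynomial (Fin s) k) S := hfin
  exact isN2_of_finite_injective (MvPolynomial (Fin s) k) S hg
    (isN2_mvPolynomial_fin k (isN2_of_isField k (Field.toIsField k)) s)

theorem isUniversallyJapanese_field (k : Type u) [Field k] : IsUniversallyJapanese k :=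
  fun S _ _ _ hS => haveI := hS; isN2_of_finiteType_field k S

end Groth.Agent.Lib.Helper4.Japanese
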