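import Groth.Agent.S0569
import Groth.Agent.S0581
import Groth.Agent.Lib.Helper28Catenary
import Groth.Agent.Lib.Helper19Normalization2
import Groth.Agent.Lib.Helper19Restricted2
import Groth.Agent.Lib.Helper19ComplTwo
import Groth.Agent.Lib.Helper14SysLim
import Groth.Agent.Lib.Helper19Obs
import Groth.Agent.Lib.Helper19PowerSeries
import Groth.Agent.Lib.Helper4Japanese3

/-!
# Complete Noetherian local rings are Nagata (helper28)
-/

set_option autoImplicit false
set_option linter.unusedSectionVars false
set_option linter.style.haveILetI false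
set_option linter.deprecated false
universe u
open CAlg IsLocalRing

namespace Groth.Agent.Lib.Helper28


/-- A Noetherian `I`-adically complete ring is `J`-adically complete for every `J ≤ I`. -/
theorem isAdicComplete_of_le {A : Type u} [CommRing A] [IsNoetherianRing A] (I J : Ideal A)
    [IsAdicComplete I A] (hJI : J ≤ I) : IsAdicComplete J A := by
  apply Groth.Agent.Lib.Helper19.isAdicComplete_of_forall_quotient_pow I J
    (hJI.trans (IsAdicComplete.le_jacobson_bot I))
  intro n
  have hk : (J ^ n • ⊤ : Submodule A (A ⧸ I ^ n)) = ⊥ := by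
    rw [eq_bot_iff, Submodule.smul_le]
    intro r hr m _
    obtain ⟨a, rfl⟩ := Ideal.Quotient.mk_surjective m
    rw [Submodule.mem_bot]
    change Ideal.Quotient.mk (I ^ n) (r * a) = 0
    rw [Ideal.Quotient.eq_zero_iff_mem]
    exact Ideal.mul_mem_right _ _ (Ideal.pow_right_mono hJI n hr)
  exact (Groth.Agent.Lib.Helper14.SysLim.isAdicComplete_of_pow_smul_top_eq_bot (I := J) n hk).toIsPrecomplete

/-- The quotient of a complete Noetherian local ring is complete. -/
theorem isAdicComplete_quotient_local {A : Type u} [CommRing A] [IsNoetherianRing A] [IsLocalRing A]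
    [IsAdicComplete (maximalIdeal A) A] (J : Ideal A) [IsLocalRing (A ⧸ J)] :
    IsAdicComplete (maximalIdeal (A ⧸ J)) (A ⧸ J) := by
  rw [Groth.Agent.Lib.Helper5.maximalIdeal_quotient_eq_map]
  exact Groth.Agent.Lib.Helper19.isAdicComplete_quotient_of_isNoetherianRing A (maximalIdeal A) J

/-- A complete regular local ring is N-2 (induction on the dimension, using Tate's lemma). -/
theorem isN2_of_isRegularLocalRing_aux (d : ℕ) :
    ∀ (P : Type u) [CommRing P] [IsRegularLocalRing P] [IsDomain P]
      [IsAdicComplete (maximalIdeal P) P], ringKrullDim P = d → CAlg.IsN2 P := by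
  induction d with
  | zero =>
    intro P _ _ _ _ hd
    have hfield : IsField P := by
      have : Ring.KrullDimLE 0 P := by
        rw [Ring.krullDimLE_iff, hd]
      exact Ring.KrullDimLE.isField_of_isDomain
    exact Groth.Agent.Lib.Helper14.isN2_of_isField P hfield
  | succ d ih =>
    intro P _ _ _ _ hd
    have hdim : ringKrullDim P ≠ 0 := by
      rw [hd]
      intro h
      have : (d + 1 : ℕ) = 0 := by exact_mod_cast h
      omega
    obtain ⟨x, hx, hx2, -⟩ :=
      Groth.Agent.Lib.Helper5.exists_mem_maximalIdeal_not_mem_sq_not_mem_minimalPrimes hdim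
    have hxle : Ideal.span ({x} : Set P) ≤ maximalIdeal P := by
      rw [Ideal.span_le, Set.singleton_subset_iff]; exact hx
    haveI hloc : IsLocalRing (P ⧸ Ideal.span ({x} : Set P)) :=
      Groth.Agent.Lib.Helper5.isLocalRing_quotient
        (fun h => (maximalIdeal.isMaximal P).ne_top (top_le_iff.mp (h ▸ hxle)))
    obtain ⟨hreg, hdimq⟩ := Groth.Agent.Lib.Helper5.isRegularLocalRing_quotient_span_singleton hx hx2
    have hdq : ringKrullDim (P ⧸ Ideal.span ({x} : Set P)) = d := by
      obtain ⟨d', hd'⟩ := Groth.Agent.Lib.Helper5.exists_nat_ringKrullDim_eq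
        (P ⧸ Ideal.span ({x} : Set P))
      rw [hd', hd] at hdimq
      have : d' + 1 = d + 1 := by exact_mod_cast hdimq
      rw [hd']
      have : d' = d := by omega
      exact_mod_cast this
    haveI hdomq : IsDomain (P ⧸ Ideal.span ({x} : Set P)) :=
      Groth.Agent.Lib.Helper5.isDomain_of_isRegularLocalRing _
    haveI hprime : (Ideal.span ({x} : Set P)).IsPrime := (Ideal.Quotient.isDomain_iff_prime _).mp hdomq
    haveI := isAdicComplete_quotient_local (Ideal.span ({x} : Set P))
    have hN2q : CAlg.IsN2 (P ⧸ Ideal.span ({x} : Set P)) := ih _ hdq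
    haveI : IsIntegrallyClosed P := Groth.Agent.Lib.Helper28.isIntegrallyClosed_of_isRegularLocalRing P
    haveI : IsAdicComplete (Ideal.span ({x} : Set P)) P :=
      isAdicComplete_of_le (maximalIdeal P) _ hxle
    exact Groth.Agent.S0569.result P x hN2q

theorem isN2_of_isRegularLocalRing (P : Type u) [CommRing P] [IsRegularLocalRing P]
    [IsAdicComplete (maximalIdeal P) P] :
    ∃ _ : IsDomain P, CAlg.IsN2 P := by
  haveI : IsDomain P := Groth.Agent.Lib.Helper5.isDomain_of_isRegularLocalRing P
  obtain ⟨d, hd⟩ := Groth.Agent.Lib.Helper5.exists_nat_ringKrullDim_eq P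
  exact ⟨inferInstance, isN2_of_isRegularLocalRing_aux d P hd⟩


/-- A complete Noetherian local ring is Nagata. -/
theorem isNagata_of_isAdicComplete_local (R : Type u) [CommRing R] [IsLocalRing R]
    [IsNoetherianRing R] [IsAdicComplete (IsLocalRing.maximalIdeal R) R] : CAlg.IsNagata R := by
  refine ⟨inferInstance, fun p hp => ?_⟩
  haveI : IsLocalRing (R ⧸ p) := Groth.Agent.Lib.Helper5.isLocalRing_quotient hp.ne_top
  haveI := isAdicComplete_quotient_local p
  obtain ⟨Λ, instΛ, n, f, hΛ, hinj, hfin, -⟩ := Groth.Agent.S0581.result (R ⧸ p)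
  have key : ∀ [IsRegularLocalRing Λ] [IsAdicComplete (maximalIdeal Λ) Λ], CAlg.IsN2 (R ⧸ p) := by
    intro _ _
    haveI : IsRegularLocalRing (MvPowerSeries (Fin n) Λ) :=
      Groth.Agent.Lib.Helper19.isRegularLocalRing_mvPowerSeries_of_isRegularLocalRing Λ n
    haveI : IsAdicComplete (maximalIdeal (MvPowerSeries (Fin n) Λ)) (MvPowerSeries (Fin n) Λ) :=
      Groth.Agent.Lib.Helper19.isAdicComplete_mvPowerSeries
    obtain ⟨hdom, hN2⟩ := isN2_of_isRegularLocalRing (MvPowerSeries (Fin n) Λ)
    letI : Algebra (MvPowerSeries (Fin n) Λ) (R ⧸ p) := f.toAlgebra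
    haveI : Module.Finite (MvPowerSeries (Fin n) Λ) (R ⧸ p) := hfin
    exact Groth.Agent.Lib.Helper4.Japanese.isN2_of_finite_injective (MvPowerSeries (Fin n) Λ)
      (R ⧸ p) hinj hN2
  rcases hΛ with hfield | hcohen
  · letI : Field Λ := hfield.toField
    haveI := Groth.Agent.Lib.Helper19.isAdicComplete_field (k := Λ)
    exact key
  · obtain ⟨hdom, hdvr, hcompl, -⟩ := hcohen
    exact key


end Groth.Agent.Lib.Helper28
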