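import Mathlib
import Groth.Agent.Lib.Helper28ComplFlatLocal
import Groth.Agent.Lib.Helper28ComplCat
import Groth.Agent.Lib.Helper28ComplQuot2

/-!
# Helper28ComplIso: a flat local homomorphism with `m_A T = m_T` and trivial residue field extension
induces an isomorphism on completions.
-/

set_option autoImplicit false
universe u

namespace Groth.Agent.Lib.Helper28
open IsLocalRing

section ComplIso

variable (A T : Type u) [CommRing A] [CommRing T] [IsNoetherianRing A] [IsNoetherianRing T]
  [IsLocalRing A] [IsLocalRing T] [Algebra A T] [IsLocalHom (algebraMap A T)] [Module.Flat A T]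

/-- A flat local homomorphism `A → T` of Noetherian local rings with `m_A T = m_T` and trivial
residue field extension induces an isomorphism on completions. -/
theorem exists_ringEquiv_adicCompletion_of_flat_of_map_maximalIdeal
    (h1 : (maximalIdeal A).map (algebraMap A T) = maximalIdeal T)
    (h2 : ∀ t : T, ∃ a : A, t - algebraMap A T a ∈ maximalIdeal T) :
    ∃ e : AdicCompletion (maximalIdeal A) A ≃+* AdicCompletion (maximalIdeal T) T,
      ∀ a : A, e (algebraMap A _ a) = algebraMap T _ (algebraMap A T a) := by
  obtain ⟨alg, htower, hloc, hflat⟩ := exists_algebra_adicCompletion_of_isLocalHom A T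
  have hflat' := hflat inferInstance
  have hcA := isAdicComplete_maximalIdeal_adicCompletion A
  have hcT := isAdicComplete_maximalIdeal_adicCompletion T
  have hmap : (maximalIdeal (AdicCompletion (maximalIdeal A) A)).map
      (algebraMap (AdicCompletion (maximalIdeal A) A) (AdicCompletion (maximalIdeal T) T)) =
      maximalIdeal (AdicCompletion (maximalIdeal T) T) := by
    rw [AdicCompletion.maximalIdeal_eq_map (R := A), Ideal.map_map, ← IsScalarTower.algebraMap_eq,
      IsScalarTower.algebraMap_eq A T (AdicCompletion (maximalIdeal T) T), ← Ideal.map_map, h1,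
      ← AdicCompletion.maximalIdeal_eq_map (R := T)]
  have hsurj : Function.Surjective
      (algebraMap (AdicCompletion (maximalIdeal A) A) (AdicCompletion (maximalIdeal T) T)) := by
    have hH : IsHausdorff ((maximalIdeal (AdicCompletion (maximalIdeal A) A)).map
        (algebraMap (AdicCompletion (maximalIdeal A) A) (AdicCompletion (maximalIdeal T) T)))
        (AdicCompletion (maximalIdeal T) T) := by
      rw [hmap]; infer_instance
    refine surjective_of_mk_map_comp_surjective
      (I := maximalIdeal (AdicCompletion (maximalIdeal A) A)) _ ?_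
    intro y
    obtain ⟨x, rfl⟩ := Ideal.Quotient.mk_surjective y
    obtain ⟨t, ht⟩ := exists_sub_of_mem_pow_smul_top (maximalIdeal T) (IsNoetherian.noetherian _) 1 x
    obtain ⟨a, ha⟩ := h2 t
    refine ⟨algebraMap A _ a, ?_⟩
    rw [RingHom.comp_apply, Ideal.Quotient.eq, hmap]
    have e1 : algebraMap (AdicCompletion (maximalIdeal A) A) (AdicCompletion (maximalIdeal T) T)
        (algebraMap A (AdicCompletion (maximalIdeal A) A) a) =
        algebraMap T (AdicCompletion (maximalIdeal T) T) (algebraMap A T a) := by
      rw [← IsScalarTower.algebraMap_apply, ← IsScalarTower.algebraMap_apply]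
    have ht' : x - algebraMap T (AdicCompletion (maximalIdeal T) T) t ∈
        maximalIdeal (AdicCompletion (maximalIdeal T) T) := by
      rw [AdicCompletion.maximalIdeal_eq_map (R := T), ← Submodule.restrictScalars_mem T,
        ← Ideal.smul_top_eq_map]
      rw [pow_one] at ht
      exact ht
    have ha' : algebraMap T (AdicCompletion (maximalIdeal T) T) (t - algebraMap A T a) ∈
        maximalIdeal (AdicCompletion (maximalIdeal T) T) := by
      rw [AdicCompletion.maximalIdeal_eq_map (R := T)]
      exact Ideal.mem_map_of_mem _ ha
    have e2 : algebraMap (AdicCompletion (maximalIdeal A) A) (AdicCompletion (maximalIdeal T) T)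
        (algebraMap A (AdicCompletion (maximalIdeal A) A) a) - x =
        -((x - algebraMap T (AdicCompletion (maximalIdeal T) T) t) +
          algebraMap T (AdicCompletion (maximalIdeal T) T) (t - algebraMap A T a)) := by
      rw [e1, map_sub]; ring
    rw [e2]
    exact Ideal.neg_mem_iff _ |>.mpr (Ideal.add_mem _ ht' ha')
  have hff : Module.FaithfullyFlat (AdicCompletion (maximalIdeal A) A)
      (AdicCompletion (maximalIdeal T) T) := Module.FaithfullyFlat.of_flat_of_isLocalHom
  have hinj : Function.Injective
      (algebraMap (AdicCompletion (maximalIdeal A) A) (AdicCompletion (maximalIdeal T) T)) :=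
    FaithfulSMul.algebraMap_injective _ _
  refine ⟨RingEquiv.ofBijective _ ⟨hinj, hsurj⟩, ?_⟩
  intro a
  rw [RingEquiv.ofBijective_apply, ← IsScalarTower.algebraMap_apply,
    ← IsScalarTower.algebraMap_apply]

end ComplIso

end Groth.Agent.Lib.Helper28
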