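import Mathlib
import Groth.Agent.Lib.Helper28GeomFibre3

/-!
# Helper28GeomFibre4: base change of maps with geometrically normal fibres along quasi-finite maps.
-/

set_option autoImplicit false
universe u

namespace Groth.Agent.Lib.Helper28
open IsLocalRing TensorProduct

section NormalFiberBaseChange

variable {R S A : Type u} [CommRing R] [CommRing S] [CommRing A] [Algebra R S] [Algebra R A]

/-- The fibres of a base change `A → A ⊗[R] S` along a quasi-finite `R → A` of a map `R → S` with
geometrically normal fibres are normal rings. -/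
theorem isNormalRing_fiber_tensorProduct [Algebra.QuasiFinite R A]
    (hS : ∀ (q : Ideal R) [q.IsPrime], EGA4.IsGeomNormal q.ResidueField (q.Fiber S))
    (P : Ideal A) [P.IsPrime] : EGA4.IsNormalRing (P.Fiber (A ⊗[R] S)) := by
  let p := P.under R
  let := Localization.AtPrime.algebraOfLiesOver p P
  let e : P.Fiber (A ⊗[R] S) ≃ₐ[P.ResidueField] P.ResidueField ⊗[p.ResidueField] (p.Fiber S) :=
    (Algebra.TensorProduct.cancelBaseChange _ _ _ _ _).trans
      (Algebra.TensorProduct.cancelBaseChange _ _ _ _ _).symm
  have hfin : Module.Finite p.ResidueField P.ResidueField := inferInstance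
  have h := hS p P.ResidueField hfin
  exact isNormalRing_of_ringEquiv e.symm.toRingEquiv h

theorem isNormalRing_tensorProduct_of_quasiFinite_of_isGeomNormal
    [Module.Flat R S] [Algebra.QuasiFinite R A] [IsNoetherianRing A] [IsNoetherianRing (A ⊗[R] S)]
    (hS : ∀ (q : Ideal R) [q.IsPrime], EGA4.IsGeomNormal q.ResidueField (q.Fiber S))
    (hA : EGA4.IsNormalRing A) : EGA4.IsNormalRing (A ⊗[R] S) :=
  isNormalRing_of_flat_of_forall_isNormalRing_fiber (A := A) (B := A ⊗[R] S) hA
    fun P _ => isNormalRing_fiber_tensorProduct hS P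

end NormalFiberBaseChange

end Groth.Agent.Lib.Helper28
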