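import Mathlib
import Groth.Agent.Lib.Helper28GeomFibre4

/-!
# Helper28GeomFibre5: geometric fibres of quasi-finite base changes (localizations, quotients).
-/

set_option autoImplicit false
universe u

namespace Groth.Agent.Lib.Helper28
open IsLocalRing TensorProduct

section QuasiFiniteBaseChangeFibre

variable {R S A : Type u} [CommRing R] [CommRing S] [CommRing A] [Algebra R S] [Algebra R A]

/-- Transfer of a property of the geometric fibres of `R → S` to the geometric fibres of a
quasi-finite base change `A → A ⊗[R] S`. -/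
theorem tensor_fiber_tensorProduct_of_property [Algebra.QuasiFinite R A]
    (QQ : ∀ (T : Type u) [CommRing T], Prop)
    (hQQ : ∀ (T T' : Type u) [CommRing T] [CommRing T'], (T ≃+* T') → QQ T → QQ T')
    (P : Ideal A) [P.IsPrime] (k'' : Type u) [Field k''] [Algebra P.ResidueField k'']
    [Module.Finite P.ResidueField k'']
    (h : ∀ (k' : Type u) [Field k'] [Algebra (P.under R).ResidueField k'],
      Module.Finite (P.under R).ResidueField k' →
        QQ (k' ⊗[(P.under R).ResidueField] ((P.under R).Fiber S))) :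
    QQ (k'' ⊗[P.ResidueField] (P.Fiber (A ⊗[R] S))) := by
  let p := P.under R
  let := Localization.AtPrime.algebraOfLiesOver p P
  let e : P.Fiber (A ⊗[R] S) ≃ₐ[P.ResidueField] P.ResidueField ⊗[p.ResidueField] (p.Fiber S) :=
    (Algebra.TensorProduct.cancelBaseChange _ _ _ _ _).trans
      (Algebra.TensorProduct.cancelBaseChange _ _ _ _ _).symm
  have hfin : Module.Finite p.ResidueField P.ResidueField := inferInstance
  let _ : Algebra p.ResidueField k'' :=
    ((algebraMap P.ResidueField k'').comp (algebraMap p.ResidueField P.ResidueField)).toAlgebra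
  have : IsScalarTower p.ResidueField P.ResidueField k'' := .of_algebraMap_eq' rfl
  have hfin2 : Module.Finite p.ResidueField k'' := Module.Finite.trans P.ResidueField k''
  have h1 := h k'' hfin2
  let e2 : k'' ⊗[P.ResidueField] (P.Fiber (A ⊗[R] S)) ≃+* k'' ⊗[p.ResidueField] (p.Fiber S) :=
    (Algebra.TensorProduct.congr (AlgEquiv.refl (R := P.ResidueField) (A₁ := k'')) e).toRingEquiv.trans
      (Algebra.TensorProduct.cancelBaseChange p.ResidueField P.ResidueField k'' k''
        (p.Fiber S)).toRingEquiv
  exact hQQ _ _ e2.symm h1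

/-- Transfer of a property of the fibres of `R → S` to the fibres of a base change
`A → A ⊗[R] S` along a map `R → A` which is surjective on stalks. -/
theorem fiber_tensorProduct_of_property_of_surjectiveOnStalks
    (hsurj : (algebraMap R A).SurjectiveOnStalks)
    (QQ : ∀ (T : Type u) [CommRing T], Prop)
    (hQQ : ∀ (T T' : Type u) [CommRing T] [CommRing T'], (T ≃+* T') → QQ T → QQ T')
    (P : Ideal A) [P.IsPrime] (h : QQ ((P.under R).Fiber S)) :
    QQ (P.Fiber (A ⊗[R] S)) := by
  let p := P.under R
  let := Localization.AtPrime.algebraOfLiesOver p P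
  let e : P.Fiber (A ⊗[R] S) ≃ₐ[P.ResidueField] P.ResidueField ⊗[p.ResidueField] (p.Fiber S) :=
    (Algebra.TensorProduct.cancelBaseChange _ _ _ _ _).trans
      (Algebra.TensorProduct.cancelBaseChange _ _ _ _ _).symm
  have hbij : Function.Bijective (algebraMap p.ResidueField P.ResidueField) :=
    hsurj.residueFieldMap_bijective p P (P.over_def p)
  let e3 : p.ResidueField ≃ₐ[p.ResidueField] P.ResidueField :=
    AlgEquiv.ofBijective (Algebra.ofId p.ResidueField P.ResidueField) hbij
  let e4 : P.ResidueField ⊗[p.ResidueField] (p.Fiber S) ≃+* p.Fiber S :=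
    (Algebra.TensorProduct.congr e3.symm (AlgEquiv.refl (R := p.ResidueField)
      (A₁ := p.Fiber S))).toRingEquiv.trans
      (Algebra.TensorProduct.lid p.ResidueField (p.Fiber S)).toRingEquiv
  exact hQQ _ _ (e.toRingEquiv.trans e4).symm h

end QuasiFiniteBaseChangeFibre

section AlgEquivFibre

variable {A B₁ B₂ : Type u} [CommRing A] [CommRing B₁] [CommRing B₂] [Algebra A B₁] [Algebra A B₂]

/-- Geometric fibres of isomorphic algebras are isomorphic. -/
noncomputable def tensorFiberCongr (e : B₁ ≃ₐ[A] B₂) (P : Ideal A) [P.IsPrime] (k'' : Type u)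
    [Field k''] [Algebra P.ResidueField k''] :
    (k'' ⊗[P.ResidueField] (P.Fiber B₁)) ≃+* (k'' ⊗[P.ResidueField] (P.Fiber B₂)) :=
  (Algebra.TensorProduct.congr (AlgEquiv.refl (R := P.ResidueField) (A₁ := k''))
    (Algebra.TensorProduct.congr (AlgEquiv.refl (R := P.ResidueField) (A₁ := P.ResidueField))
      e)).toRingEquiv

/-- Fibres of isomorphic algebras are isomorphic. -/
noncomputable def fiberCongr (e : B₁ ≃ₐ[A] B₂) (P : Ideal A) [P.IsPrime] :
    (P.Fiber B₁) ≃+* (P.Fiber B₂) :=
  (Algebra.TensorProduct.congr (AlgEquiv.refl (R := P.ResidueField) (A₁ := P.ResidueField))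
      e).toRingEquiv

end AlgEquivFibre

section Generic

variable {R S A B' : Type u} [CommRing R] [CommRing S] [CommRing A] [CommRing B'] [Algebra R S]
  [Algebra R A] [Algebra A B']

theorem tensor_fiber_of_property_of_algEquiv [Algebra.QuasiFinite R A] (e : A ⊗[R] S ≃ₐ[A] B')
    (QQ : ∀ (T : Type u) [CommRing T], Prop)
    (hQQ : ∀ (T T' : Type u) [CommRing T] [CommRing T'], (T ≃+* T') → QQ T → QQ T')
    (h : ∀ (p : Ideal R) [p.IsPrime] (k' : Type u) [Field k'] [Algebra p.ResidueField k'],
      Module.Finite p.ResidueField k' → QQ (k' ⊗[p.ResidueField] (p.Fiber S)))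
    (P : Ideal A) [P.IsPrime] (k'' : Type u) [Field k''] [Algebra P.ResidueField k'']
    [Module.Finite P.ResidueField k''] :
    QQ (k'' ⊗[P.ResidueField] (P.Fiber B')) :=
  hQQ _ _ (tensorFiberCongr e P k'')
    (tensor_fiber_tensorProduct_of_property QQ hQQ P k'' (fun k' _ _ hk' => h _ k' hk'))

theorem fiber_of_property_of_algEquiv (hsurj : (algebraMap R A).SurjectiveOnStalks)
    (e : A ⊗[R] S ≃ₐ[A] B')
    (QQ : ∀ (T : Type u) [CommRing T], Prop)
    (hQQ : ∀ (T T' : Type u) [CommRing T] [CommRing T'], (T ≃+* T') → QQ T → QQ T')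
    (h : ∀ (p : Ideal R) [p.IsPrime], QQ (p.Fiber S))
    (P : Ideal A) [P.IsPrime] : QQ (P.Fiber B') :=
  hQQ _ _ (fiberCongr e P)
    (fiber_tensorProduct_of_property_of_surjectiveOnStalks hsurj QQ hQQ P (h _))

end Generic

section LocalizationBaseChange

variable (A B : Type u) [CommRing A] [CommRing B] [Algebra A B] (S : Submonoid A)
    (A' B' : Type u) [CommRing A'] [CommRing B'] [Algebra A A'] [Algebra B B'] [Algebra A' B']
    [Algebra A B'] [IsScalarTower A A' B'] [IsScalarTower A B B'] [IsLocalization S A']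
    [IsLocalization (Algebra.algebraMapSubmonoid B S) B']

/-- `S⁻¹B = S⁻¹A ⊗[A] B`. -/
noncomputable def localizationTensorEquiv : A' ⊗[A] B ≃ₐ[A'] B' :=
  have : Algebra.IsPushout A A' B B' := (Algebra.isPushout_of_isLocalization S A' B B').symm
  Algebra.IsPushout.equiv A A' B B'

include S in
theorem quasiFinite_of_isLocalization' : Algebra.QuasiFinite A A' :=
  Algebra.QuasiFinite.of_isLocalization (R := A) (S := A) (T := A') S

include S in
theorem flat_localization_localization [Module.Flat A B] : Module.Flat A' B' :=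
  Module.Flat.of_linearEquiv (localizationTensorEquiv A B S A' B').symm.toLinearEquiv

end LocalizationBaseChange

end Groth.Agent.Lib.Helper28
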