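import Mathlib
import Groth.Agent.Lib.Helper28GeomFibre5
import Groth.Agent.Lib.Helper28FlatEquidim

/-!
# Helper28GeomFibre6: `(A/I)^ = (A/I) ⊗[A] Â` as `A/I`-algebras.
-/

set_option autoImplicit false
universe u

namespace Groth.Agent.Lib.Helper28
open IsLocalRing TensorProduct

section QuotientCompletion

variable (A : Type u) [CommRing A] [IsNoetherianRing A] [IsLocalRing A]

theorem nonempty_algEquiv_tensor_adicCompletion_quotient_aux (I : Ideal A) (J : Ideal (A ⧸ I))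
    (hJ : J = (maximalIdeal A).map (Ideal.Quotient.mk I)) :
    Nonempty (((A ⧸ I) ⊗[A] AdicCompletion (maximalIdeal A) A) ≃ₐ[A ⧸ I]
      AdicCompletion J (A ⧸ I)) := by
  subst hJ
  obtain ⟨e₂, he₂⟩ := exists_ringEquiv_adicCompletion_quotient (maximalIdeal A) I
  let e₁ := (Algebra.TensorProduct.quotIdealMapEquivQuotTensor
    (AdicCompletion (maximalIdeal A) A) I).symm
  let e₂' : (AdicCompletion (maximalIdeal A) A ⧸
      I.map (algebraMap A (AdicCompletion (maximalIdeal A) A))) ≃ₐ[A ⧸ I]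
      AdicCompletion ((maximalIdeal A).map (Ideal.Quotient.mk I)) (A ⧸ I) :=
    AlgEquiv.ofRingEquiv (f := e₂) (by
      intro x
      obtain ⟨a, rfl⟩ := Ideal.Quotient.mk_surjective x
      exact he₂ a)
  exact ⟨e₁.trans e₂'⟩

/-- `(A/I)^ = (A/I) ⊗[A] Â` as `A/I`-algebras. -/
theorem nonempty_algEquiv_tensor_adicCompletion_quotient (I : Ideal A) [Nontrivial (A ⧸ I)] :
    Nonempty (((A ⧸ I) ⊗[A] EGA4.Cpl A) ≃ₐ[A ⧸ I] EGA4.Cpl (A ⧸ I)) :=
  nonempty_algEquiv_tensor_adicCompletion_quotient_aux A I _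
    (Groth.Agent.Lib.Helper5.maximalIdeal_quotient_eq_map I)

end QuotientCompletion

end Groth.Agent.Lib.Helper28
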