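import Mathlib.RingTheory.AdicCompletion.Functoriality
import Mathlib.RingTheory.Finiteness.Ideal
import Mathlib.RingTheory.Ideal.Operations

/-! Helper14: inverse limits of `ℕ`-indexed systems of modules with `I`-adic kernels. -/

namespace Groth.Agent.Lib.Helper14

universe u v

/-- In an `ℕ`-indexed inverse system with surjective transition maps, every element extends
to a compatible family. -/
theorem exists_compatible_of_surjective : ∀ (n : ℕ) {M : ℕ → Type v}
    (f : ∀ n, M (n + 1) → M n) (_ : ∀ n, Function.Surjective (f n)) (m : M n),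
    ∃ y : ∀ k, M k, (∀ k, f k (y (k + 1)) = y k) ∧ y n = m := by
  intro n
  induction n with
  | zero =>
    intro M f hf m
    let y : ∀ k, M k := fun k => Nat.rec m (fun k yk => Classical.choose (hf k yk)) k
    refine ⟨y, fun k => ?_, rfl⟩
    exact Classical.choose_spec (hf k (y k))
  | succ n ih =>
    intro M f hf m
    obtain ⟨y', hy', hy'n⟩ := ih (M := fun k => M (k + 1)) (fun k => f (k + 1))
      (fun k => hf (k + 1)) m
    let y : ∀ k, M k := fun k => Nat.casesOn k (f 0 (y' 0)) (fun k => y' k)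
    refine ⟨y, fun k => ?_, hy'n⟩
    cases k with
    | zero => rfl
    | succ k => exact hy' k

section approx

/-- Successive approximation, module version (adapted from helper3's ring version in S2292). -/
theorem approx_module {A : Type*} [CommRing A] {L : Type*} [AddCommGroup L] [Module A L]
    {ι : Type*} [Fintype ι] (F : ℕ → Submodule A L) (hF : Antitone F)
    (hsep : ∀ x, (∀ k, x ∈ F k) → x = 0)
    (hcompl : ∀ c : ℕ → L, (∀ k, c k ∈ F k) →
      ∃ s, ∀ j, s - ∑ k ∈ Finset.range j, c k ∈ F j)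
    (a : ι → A)
    (hstep : ∀ k, ∀ z ∈ F (k + 1), ∃ c : ι → L, (∀ i, c i ∈ F k) ∧
      z - ∑ i, a i • c i ∈ F (k + 2))
    (n : ℕ) (x : L) (hx : x ∈ F (n + 1)) :
    ∃ s : ι → L, (∀ i, s i ∈ F n) ∧ x = ∑ i, a i • s i := by
  classical
  choose! c hc using hstep
  let xs : ℕ → L := fun k => Nat.rec x (fun k z => z - ∑ i, a i • c (n + k) z i) k
  have hxs0 : xs 0 = x := rfl
  have hxsS : ∀ k, xs (k + 1) = xs k - ∑ i, a i • c (n + k) (xs k) i := fun k => rfl
  have hxsmem : ∀ k, xs k ∈ F (n + k + 1) := by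
    intro k
    induction k with
    | zero => exact hx
    | succ k ih =>
      rw [hxsS]
      exact (hc (n + k) (xs k) ih).2
  have hcs : ∀ k i, c (n + k) (xs k) i ∈ F (n + k) :=
    fun k i => (hc (n + k) (xs k) (hxsmem k)).1 i
  have hsum : ∀ j, xs j = x - ∑ k ∈ Finset.range j, ∑ i, a i • c (n + k) (xs k) i := by
    intro j
    induction j with
    | zero => simp [hxs0]
    | succ j ih =>
      rw [hxsS, Finset.sum_range_succ, ← sub_sub, ← ih]
  choose s hs using fun i => hcompl (fun k => c (n + k) (xs k) i)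
    (fun k => hF (Nat.le_add_left k n) (hcs k i))
  refine ⟨s, fun i => ?_, ?_⟩
  · have h1 := hs i n
    have h2 : ∑ k ∈ Finset.range n, c (n + k) (xs k) i ∈ F n :=
      Submodule.sum_mem _ fun k _ => hF (Nat.le_add_right n k) (hcs k i)
    have := (F n).add_mem h1 h2
    simpa using this
  · rw [← sub_eq_zero]
    apply hsep
    intro j
    have e : x - ∑ i, a i • s i =
        xs j - ∑ i, a i • (s i - ∑ k ∈ Finset.range j, c (n + k) (xs k) i) := by
      rw [hsum j]
      simp only [smul_sub, Finset.sum_sub_distrib, Finset.smul_sum]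
      rw [Finset.sum_comm]
      abel
    rw [e]
    refine (F j).sub_mem (hF (by omega) (hxsmem j)) (Submodule.sum_mem _ fun i _ => ?_)
    exact Submodule.smul_mem _ _ (hs i j)

end approx

section span

variable {A : Type u} [CommRing A] {N : Type v} [AddCommGroup N] [Module A N]

/-- Elements of `span (range g) • P` are `g`-combinations of elements of `P`. -/
theorem exists_sum_of_mem_span_range_smul {r : ℕ} (g : Fin r → A) (P : Submodule A N) (y : N)
    (hy : y ∈ (Ideal.span (Set.range g)) • P) :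
    ∃ m : Fin r → N, (∀ j, m j ∈ P) ∧ y = ∑ j, g j • m j := by
  induction hy using Submodule.smul_induction_on' with
  | smul a ha n hn =>
    obtain ⟨c, rfl⟩ := (Ideal.mem_span_range_iff_exists_fun).mp ha
    refine ⟨fun j => c j • n, fun j => P.smul_mem _ hn, ?_⟩
    rw [Finset.sum_smul]
    refine Finset.sum_congr rfl fun j _ => ?_
    rw [smul_smul, mul_comm]
  | add x _ y _ hx hy =>
    obtain ⟨m1, hm1, rfl⟩ := hx
    obtain ⟨m2, hm2, rfl⟩ := hy
    refine ⟨fun j => m1 j + m2 j, fun j => P.add_mem (hm1 j) (hm2 j), ?_⟩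
    rw [← Finset.sum_add_distrib]
    refine Finset.sum_congr rfl fun j _ => ?_
    rw [smul_add]

theorem sum_smul_mem_span_range_smul {r : ℕ} (g : Fin r → A) (P : Submodule A N)
    (m : Fin r → N) (hm : ∀ j, m j ∈ P) :
    ∑ j, g j • m j ∈ (Ideal.span (Set.range g)) • P :=
  Submodule.sum_mem _ fun j _ =>
    Submodule.smul_mem_smul (Ideal.subset_span ⟨j, rfl⟩) (hm j)

end span

section main

variable {A : Type u} [CommRing A] (I : Ideal A)
  {M : ℕ → Type v} [∀ n, AddCommGroup (M n)] [∀ n, Module A (M n)]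
  (f : ∀ n, M (n + 1) →ₗ[A] M n)
  {L : Type v} [AddCommGroup L] [Module A L] (π : ∀ n, L →ₗ[A] M n)

include f in
theorem proj_surjective (hf : ∀ n, Function.Surjective (f n))
    (hlift : ∀ y : (∀ n, M n), (∀ n, f n (y (n + 1)) = y n) → ∃ x : L, ∀ n, π n x = y n)
    (n : ℕ) : Function.Surjective (π n) := by
  intro m
  obtain ⟨y, hy, hyn⟩ := exists_compatible_of_surjective n (fun k => f k) hf m
  obtain ⟨x, hx⟩ := hlift y hy
  exact ⟨x, (hx n).trans hyn⟩

theorem pow_smul_eq_zero (hf : ∀ n, Function.Surjective (f n))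
    (hker : ∀ n, LinearMap.ker (f n) = I ^ (n + 1) • (⊤ : Submodule A (M (n + 1))))
    (n : ℕ) (a : A) (ha : a ∈ I ^ (n + 1)) (m : M n) : a • m = 0 := by
  obtain ⟨m', rfl⟩ := hf n m
  rw [← map_smul]
  have : a • m' ∈ LinearMap.ker (f n) := by
    rw [hker]; exact Submodule.smul_mem_smul ha trivial
  exact this

include f in
theorem pow_smul_top_le_ker (hf : ∀ n, Function.Surjective (f n))
    (hker : ∀ n, LinearMap.ker (f n) = I ^ (n + 1) • (⊤ : Submodule A (M (n + 1))))
    (n : ℕ) : I ^ (n + 1) • (⊤ : Submodule A L) ≤ LinearMap.ker (π n) := by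
  rw [Submodule.smul_le]
  intro a ha x _
  rw [LinearMap.mem_ker, map_smul]
  exact pow_smul_eq_zero I f hf hker n a ha _

theorem ker_succ_le (hπ : ∀ n, f n ∘ₗ π (n + 1) = π n) (k : ℕ) :
    LinearMap.ker (π (k + 1)) ≤ LinearMap.ker (π k) := by
  intro x hx
  rw [LinearMap.mem_ker] at hx ⊢
  rw [← hπ k, LinearMap.comp_apply, hx, map_zero]

/-- The filtration `⊤, ker π₀, ker π₁, …`. -/
def filt : ℕ → Submodule A L
  | 0 => ⊤
  | k + 1 => LinearMap.ker (π k)

theorem filt_antitone (hπ : ∀ n, f n ∘ₗ π (n + 1) = π n) : Antitone (filt π) := by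
  apply antitone_nat_of_succ_le
  intro k
  cases k with
  | zero => exact le_top
  | succ k => exact ker_succ_le f π hπ k

include f in
theorem pow_smul_top_le_filt (hf : ∀ n, Function.Surjective (f n))
    (hker : ∀ n, LinearMap.ker (f n) = I ^ (n + 1) • (⊤ : Submodule A (M (n + 1))))
    (k : ℕ) : I ^ k • (⊤ : Submodule A L) ≤ filt π k := by
  cases k with
  | zero => exact le_top
  | succ k => exact pow_smul_top_le_ker I f π hf hker k

theorem filt_sep (hinj : ∀ x : L, (∀ n, π n x = 0) → x = 0) (x : L)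
    (hx : ∀ k, x ∈ filt π k) : x = 0 :=
  hinj x fun n => hx (n + 1)

theorem filt_compl (hπ : ∀ n, f n ∘ₗ π (n + 1) = π n)
    (hlift : ∀ y : (∀ n, M n), (∀ n, f n (y (n + 1)) = y n) → ∃ x : L, ∀ n, π n x = y n)
    (c : ℕ → L) (hc : ∀ k, c k ∈ filt π k) :
    ∃ s, ∀ j, s - ∑ k ∈ Finset.range j, c k ∈ filt π j := by
  obtain ⟨s, hs⟩ := hlift (fun m => π m (∑ k ∈ Finset.range (m + 1), c k)) (by
    intro m
    have h1 : f m (π (m + 1) (∑ k ∈ Finset.range (m + 1 + 1), c k)) =
        π m (∑ k ∈ Finset.range (m + 1 + 1), c k) := by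
      rw [← LinearMap.comp_apply, hπ m]
    rw [h1, Finset.sum_range_succ _ (m + 1), map_add]
    have h2 : π m (c (m + 1)) = 0 := hc (m + 1)
    rw [h2, add_zero])
  refine ⟨s, fun j => ?_⟩
  cases j with
  | zero => trivial
  | succ m =>
    show π m (s - ∑ k ∈ Finset.range (m + 1), c k) = 0
    rw [map_sub, hs m, sub_self]

include f in
theorem filt_step (hf : ∀ n, Function.Surjective (f n))
    (hker : ∀ n, LinearMap.ker (f n) = I ^ (n + 1) • (⊤ : Submodule A (M (n + 1))))
    (hπ : ∀ n, f n ∘ₗ π (n + 1) = π n)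
    (hlift : ∀ y : (∀ n, M n), (∀ n, f n (y (n + 1)) = y n) → ∃ x : L, ∀ n, π n x = y n)
    {r : ℕ} (a : Fin r → A) (ha : Ideal.span (Set.range a) = I)
    (k : ℕ) (z : L) (hz : z ∈ filt π (k + 1)) :
    ∃ c : Fin r → L, (∀ i, c i ∈ filt π k) ∧ z - ∑ i, a i • c i ∈ filt π (k + 2) := by
  have hz' : π k z = 0 := hz
  have h1 : π (k + 1) z ∈ LinearMap.ker (f k) := by
    rw [LinearMap.mem_ker, ← LinearMap.comp_apply, hπ k, hz']
  rw [hker k, pow_succ', Submodule.mul_smul, ← ha] at h1
  obtain ⟨m, hm, hsum⟩ := exists_sum_of_mem_span_range_smul a _ _ h1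
  have hsurj := proj_surjective f π hf hlift (k + 1)
  have hmap : (I ^ k • (⊤ : Submodule A (M (k + 1)))) =
      Submodule.map (π (k + 1)) (I ^ k • (⊤ : Submodule A L)) := by
    rw [Submodule.map_smul'', Submodule.map_top, LinearMap.range_eq_top.mpr hsurj]
  have hm' : ∀ i, ∃ c : L, c ∈ I ^ k • (⊤ : Submodule A L) ∧ π (k + 1) c = m i := by
    intro i
    have := hm i
    rw [ha, hmap] at this
    exact this
  choose c hc hcm using hm'
  refine ⟨c, fun i => pow_smul_top_le_filt I f π hf hker k (hc i), ?_⟩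
  show π (k + 1) (z - ∑ i, a i • c i) = 0
  rw [map_sub, map_sum, hsum, sub_eq_zero]
  refine Finset.sum_congr rfl fun i _ => ?_
  rw [map_smul, hcm]

include f in
theorem ker_le_pow_smul_top (hI : I.FG) (hf : ∀ n, Function.Surjective (f n))
    (hker : ∀ n, LinearMap.ker (f n) = I ^ (n + 1) • (⊤ : Submodule A (M (n + 1))))
    (hπ : ∀ n, f n ∘ₗ π (n + 1) = π n)
    (hinj : ∀ x : L, (∀ n, π n x = 0) → x = 0)
    (hlift : ∀ y : (∀ n, M n), (∀ n, f n (y (n + 1)) = y n) → ∃ x : L, ∀ n, π n x = y n)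
    (n : ℕ) : LinearMap.ker (π n) ≤ I ^ (n + 1) • (⊤ : Submodule A L) := by
  obtain ⟨r, a, ha0⟩ := Submodule.fg_iff_exists_fin_generating_family.mp hI
  have ha : Ideal.span (Set.range a) = I := ha0
  have key : ∀ n (x : L), x ∈ filt π (n + 1) →
      ∃ s : Fin r → L, (∀ i, s i ∈ filt π n) ∧ x = ∑ i, a i • s i :=
    approx_module (filt π) (filt_antitone f π hπ) (filt_sep π hinj)
      (filt_compl f π hπ hlift) a (filt_step I f π hf hker hπ hlift a ha)
  induction n with
  | zero =>
    intro x hx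
    obtain ⟨s, -, rfl⟩ := key 0 x hx
    rw [zero_add, pow_one]
    have := sum_smul_mem_span_range_smul a (⊤ : Submodule A L) s (fun _ => trivial)
    rwa [ha] at this
  | succ n ih =>
    intro x hx
    obtain ⟨s, hs, rfl⟩ := key (n + 1) x hx
    have := sum_smul_mem_span_range_smul a (I ^ (n + 1) • (⊤ : Submodule A L)) s
      (fun i => ih (hs i))
    rwa [ha, ← Submodule.mul_smul, ← pow_succ'] at this

include f in
theorem ker_eq_pow_smul_top (hI : I.FG) (hf : ∀ n, Function.Surjective (f n))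
    (hker : ∀ n, LinearMap.ker (f n) = I ^ (n + 1) • (⊤ : Submodule A (M (n + 1))))
    (hπ : ∀ n, f n ∘ₗ π (n + 1) = π n)
    (hinj : ∀ x : L, (∀ n, π n x = 0) → x = 0)
    (hlift : ∀ y : (∀ n, M n), (∀ n, f n (y (n + 1)) = y n) → ∃ x : L, ∀ n, π n x = y n)
    (n : ℕ) : LinearMap.ker (π n) = I ^ (n + 1) • (⊤ : Submodule A L) :=
  le_antisymm (ker_le_pow_smul_top I f π hI hf hker hπ hinj hlift n)
    (pow_smul_top_le_ker I f π hf hker n)

include f in
theorem isHausdorff_of_invLim (hf : ∀ n, Function.Surjective (f n))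
    (hker : ∀ n, LinearMap.ker (f n) = I ^ (n + 1) • (⊤ : Submodule A (M (n + 1))))
    (hinj : ∀ x : L, (∀ n, π n x = 0) → x = 0) : IsHausdorff I L := by
  refine ⟨fun x hx => hinj x fun n => ?_⟩
  have h1 := hx (n + 1)
  rw [SModEq.sub_mem, sub_zero] at h1
  exact pow_smul_top_le_ker I f π hf hker n h1

include f in
theorem isAdicComplete_of_invLim_of_ker (hf : ∀ n, Function.Surjective (f n))
    (hker : ∀ n, LinearMap.ker (f n) = I ^ (n + 1) • (⊤ : Submodule A (M (n + 1))))
    (hπ : ∀ n, f n ∘ₗ π (n + 1) = π n)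
    (hinj : ∀ x : L, (∀ n, π n x = 0) → x = 0)
    (hlift : ∀ y : (∀ n, M n), (∀ n, f n (y (n + 1)) = y n) → ∃ x : L, ∀ n, π n x = y n)
    (hkerπ : ∀ n, LinearMap.ker (π n) = I ^ (n + 1) • (⊤ : Submodule A L)) :
    IsAdicComplete I L := by
  haveI := isHausdorff_of_invLim I f π hf hker hinj
  refine { prec' := fun c hc => ?_ }
  obtain ⟨x, hx⟩ := hlift (fun k => π k (c (k + 1))) (by
    intro k
    have h1 : f k (π (k + 1) (c (k + 1 + 1))) = π k (c (k + 1 + 1)) := by
      rw [← LinearMap.comp_apply, hπ k]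
    rw [h1]
    have h2 := hc (Nat.le_succ (k + 1))
    rw [SModEq.sub_mem] at h2
    have h3 := pow_smul_top_le_ker I f π hf hker k h2
    rw [LinearMap.mem_ker, map_sub, sub_eq_zero] at h3
    exact h3.symm)
  refine ⟨x, fun n => ?_⟩
  cases n with
  | zero =>
    rw [SModEq.sub_mem, pow_zero, Ideal.one_eq_top, Submodule.top_smul]
    trivial
  | succ k =>
    rw [SModEq.sub_mem, ← hkerπ k,
      LinearMap.mem_ker, map_sub, hx k, sub_self]

include f in
theorem isAdicComplete_of_invLim (hI : I.FG) (hf : ∀ n, Function.Surjective (f n))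
    (hker : ∀ n, LinearMap.ker (f n) = I ^ (n + 1) • (⊤ : Submodule A (M (n + 1))))
    (hπ : ∀ n, f n ∘ₗ π (n + 1) = π n)
    (hinj : ∀ x : L, (∀ n, π n x = 0) → x = 0)
    (hlift : ∀ y : (∀ n, M n), (∀ n, f n (y (n + 1)) = y n) → ∃ x : L, ∀ n, π n x = y n) :
    IsAdicComplete I L :=
  isAdicComplete_of_invLim_of_ker I f π hf hker hπ hinj hlift
    (ker_eq_pow_smul_top I f π hI hf hker hπ hinj hlift)

end main

section finite

variable {A : Type u} [CommRing A]

theorem mem_smul_top_pi {r : ℕ} (J : Ideal A) (x : Fin r → A) :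
    x ∈ J • (⊤ : Submodule A (Fin r → A)) ↔ ∀ j, x j ∈ J := by
  constructor
  · intro hx j
    have h1 : (LinearMap.proj j : (Fin r → A) →ₗ[A] A) x ∈
        Submodule.map (LinearMap.proj j : (Fin r → A) →ₗ[A] A) (J • ⊤) := ⟨x, hx, rfl⟩
    rw [Submodule.map_smul''] at h1
    have h2 : J • Submodule.map (LinearMap.proj j : (Fin r → A) →ₗ[A] A) ⊤ ≤ J := by
      rw [Submodule.smul_le]
      intro a ha y _
      exact J.mul_mem_right _ ha
    exact h2 h1
  · intro hx
    have : x = ∑ j, x j • (Pi.single j 1 : Fin r → A) := by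
      ext i
      simp [Finset.sum_apply, Pi.single_apply]
    rw [this]
    exact Submodule.sum_mem _ fun j _ => Submodule.smul_mem_smul (hx j) trivial

theorem isPrecomplete_pi (I : Ideal A) [IsPrecomplete I A] (r : ℕ) :
    IsPrecomplete I (Fin r → A) := by
  refine ⟨fun c hc => ?_⟩
  have hj : ∀ j, ∃ l : A, ∀ n, c n j ≡ l [SMOD (I ^ n • ⊤ : Submodule A A)] := by
    intro j
    apply IsPrecomplete.prec' (fun n => c n j)
    intro m n hmn
    have h1 := hc hmn
    rw [SModEq.sub_mem] at h1 ⊢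
    rw [mem_smul_top_pi] at h1
    simpa using h1 j
  choose l hl using hj
  refine ⟨l, fun n => ?_⟩
  rw [SModEq.sub_mem, mem_smul_top_pi]
  intro j
  have h1 := hl j n
  rw [SModEq.sub_mem] at h1
  simpa using h1

variable (I : Ideal A)
  {M : ℕ → Type v} [∀ n, AddCommGroup (M n)] [∀ n, Module A (M n)]
  (f : ∀ n, M (n + 1) →ₗ[A] M n)
  {L : Type v} [AddCommGroup L] [Module A L] (π : ∀ n, L →ₗ[A] M n)

include f in
theorem finite_of_invLim (hI : I.FG) (hf : ∀ n, Function.Surjective (f n))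
    (hker : ∀ n, LinearMap.ker (f n) = I ^ (n + 1) • (⊤ : Submodule A (M (n + 1))))
    (hπ : ∀ n, f n ∘ₗ π (n + 1) = π n)
    (hinj : ∀ x : L, (∀ n, π n x = 0) → x = 0)
    (hlift : ∀ y : (∀ n, M n), (∀ n, f n (y (n + 1)) = y n) → ∃ x : L, ∀ n, π n x = y n)
    [IsPrecomplete I A] [Module.Finite A (M 0)] : Module.Finite A L := by
  obtain ⟨r, g, hg⟩ := Module.Finite.exists_fin (R := A) (M := M 0)
  have hsurj0 := proj_surjective f π hf hlift 0
  choose l hl using fun j => hsurj0 (g j)
  let φ : (Fin r → A) →ₗ[A] L := Fintype.linearCombination A l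
  haveI : IsHausdorff I L := isHausdorff_of_invLim I f π hf hker hinj
  haveI : IsPrecomplete I (Fin r → A) := isPrecomplete_pi I r
  have hφ : Function.Surjective φ := by
    apply surjective_of_mkQ_comp_surjective (I := I)
    intro y
    obtain ⟨x, rfl⟩ := Submodule.mkQ_surjective _ y
    have hx : π 0 x ∈ Submodule.span A (Set.range g) := by rw [hg]; trivial
    obtain ⟨c, hc⟩ := (Submodule.mem_span_range_iff_exists_fun A).mp hx
    refine ⟨c, ?_⟩
    rw [LinearMap.comp_apply, Submodule.mkQ_apply, Submodule.mkQ_apply, Submodule.Quotient.eq]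
    have hk : φ c - x ∈ LinearMap.ker (π 0) := by
      rw [LinearMap.mem_ker, map_sub, sub_eq_zero, ← hc]
      simp only [φ, Fintype.linearCombination_apply, map_sum, map_smul, hl]
    have := ker_le_pow_smul_top I f π hI hf hker hπ hinj hlift 0 hk
    simpa using this
  exact Module.Finite.of_surjective φ hφ

end finite

end Groth.Agent.Lib.Helper14
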