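import Mathlib

set_option autoImplicit false
universe u

namespace Groth.Agent.Lib.Helper3.Hensel

open Polynomial IsLocalRing

/-- simple root factorization over a field -/
theorem simple_root_factor {k : Type*} [Field k] (f : k[X]) (a : k) (h0 : f.eval a = 0)
    (h1 : f.derivative.eval a ≠ 0) :
    ∃ g : k[X], f = (X - C a) * g ∧ g.eval a ≠ 0 ∧ IsCoprime (X - C a) g := by
  refine ⟨f /ₘ (X - C a), (mul_divByMonic_eq_iff_isRoot.mpr h0).symm, ?_, ?_⟩
  · intro hg
    apply h1
    have := (mul_divByMonic_eq_iff_isRoot (p := f) (a := a)).mpr h0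
    rw [← this]
    simp [derivative_mul, hg]
  · have hg : (f /ₘ (X - C a)).eval a ≠ 0 := by
      intro hg
      apply h1
      have := (mul_divByMonic_eq_iff_isRoot (p := f) (a := a)).mpr h0
      rw [← this]
      simp [derivative_mul, hg]
    set g := f /ₘ (X - C a) with hgdef
    have h2 := modByMonic_add_div g (X - C a)
    rw [modByMonic_X_sub_C_eq_C_eval] at h2
    refine ⟨- C (g.eval a)⁻¹ * (g /ₘ (X - C a)), C (g.eval a)⁻¹, ?_⟩
    have h3 : C (g.eval a)⁻¹ * C (g.eval a) = (1 : k[X]) := by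
      rw [← C_mul, inv_mul_cancel₀ hg, C_1]
    calc - C (g.eval a)⁻¹ * (g /ₘ (X - C a)) * (X - C a) + C (g.eval a)⁻¹ * g
        = - C (g.eval a)⁻¹ * (g /ₘ (X - C a)) * (X - C a) +
            C (g.eval a)⁻¹ * (C (eval a g) + (X - C a) * (g /ₘ (X - C a))) := by rw [h2]
      _ = C (g.eval a)⁻¹ * C (g.eval a) := by ring
      _ = 1 := h3

theorem aeval_mem_map_of_coeff_mem {R C : Type*} [CommRing R] [CommRing C] [Algebra R C]
    (I : Ideal R) (p : R[X]) (hp : ∀ n, p.coeff n ∈ I) (x : C) :
    aeval x p ∈ I.map (algebraMap R C) := by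
  rw [aeval_eq_sum_range]
  refine Ideal.sum_mem _ fun i _ => ?_
  rw [Algebra.smul_def]
  exact Ideal.mul_mem_right _ _ (Ideal.mem_map_of_mem _ (hp i))

theorem coeff_mem_of_map_eq_zero {R : Type*} [CommRing R] [IsLocalRing R] (p : R[X])
    (hp : p.map (residue R) = 0) (n : ℕ) : p.coeff n ∈ maximalIdeal R := by
  rw [← residue_eq_zero_iff, ← coeff_map, hp, coeff_zero]

/-- Nakayama core -/
theorem exists_algebraMap_eq {R C : Type*} [CommRing R] [IsLocalRing R] [CommRing C] [Algebra R C]
    [Module.Finite R C] (x : C) (hx : Function.Surjective (aeval (R := R) x)) (a₁ : R)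
    (h : x - algebraMap R C a₁ ∈ (maximalIdeal R).map (algebraMap R C)) :
    ∃ a : R, algebraMap R C a = x := by
  let N : Submodule R C := LinearMap.range (Algebra.linearMap R C)
  have key : (⊤ : Submodule R C) ≤ N ⊔ (maximalIdeal R) • (⊤ : Submodule R C) := by
    intro c _
    obtain ⟨p, rfl⟩ := hx c
    have h1 : x - algebraMap R C a₁ ∣ aeval x p - algebraMap R C (p.eval a₁) := by
      have := Polynomial.sub_dvd_eval_sub x (algebraMap R C a₁) (p.map (algebraMap R C))
      rwa [eval_map_algebraMap, eval_map_algebraMap, aeval_algebraMap_apply] at this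
    have h2 : aeval x p - algebraMap R C (p.eval a₁) ∈ (maximalIdeal R).map (algebraMap R C) :=
      Ideal.mem_of_dvd _ h1 h
    have h3 : aeval x p = algebraMap R C (p.eval a₁) + (aeval x p - algebraMap R C (p.eval a₁)) := by
      ring
    rw [h3]
    refine Submodule.add_mem_sup ⟨_, rfl⟩ ?_
    rw [Ideal.smul_top_eq_map]
    exact h2
  have hN : (⊤ : Submodule R C) ≤ N :=
    Submodule.le_of_le_smul_of_le_jacobson_bot Module.Finite.fg_top
      (IsLocalRing.maximalIdeal_le_jacobson _) key
  obtain ⟨a, ha⟩ := hN (Submodule.mem_top (x := x))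
  exact ⟨a, ha⟩

theorem eval_residue {R : Type*} [CommRing R] [IsLocalRing R] (p : R[X]) (a : R) :
    (p.map (residue R)).eval (residue R a) = residue R (p.eval a) := by
  rw [eval_map, eval₂_at_apply]

/-- root from a factor `g` with `ḡ = X - a₀` dividing a monic `f` -/
theorem exists_root_of_factor {R : Type*} [CommRing R] [IsLocalRing R] (f g : R[X]) (hf : f.Monic)
    (hgf : g ∣ f) (a₀ : ResidueField R) (hg : g.map (residue R) = X - C a₀) :
    ∃ a : R, g.eval a = 0 ∧ residue R a = a₀ := by
  let Cq := R[X] ⧸ Ideal.span {g}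
  have hle : Ideal.span {f} ≤ Ideal.span {g} := by
    rw [Ideal.span_singleton_le_span_singleton]; exact hgf
  haveI : Module.Finite R (R[X] ⧸ Ideal.span {f}) := hf.finite_adjoinRoot
  haveI : Module.Finite R Cq :=
    Module.Finite.of_surjective (Ideal.Quotient.factorₐ R hle).toLinearMap
      (Ideal.Quotient.factor_surjective hle)
  let x : Cq := Ideal.Quotient.mk _ X
  have hx : ∀ p : R[X], aeval x p = Ideal.Quotient.mk _ p := by
    intro p
    have := aeval_algHom_apply (Ideal.Quotient.mkₐ R (Ideal.span {g})) X p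
    simpa using this
  obtain ⟨a₁, ha₁⟩ := residue_surjective a₀
  have h1 : x - algebraMap R Cq a₁ ∈ (maximalIdeal R).map (algebraMap R Cq) := by
    have h2 : x - algebraMap R Cq a₁ = aeval x (X - C a₁ - g) := by
      rw [hx, map_sub, map_sub]
      have : Ideal.Quotient.mk (Ideal.span {g}) g = 0 :=
        Ideal.Quotient.eq_zero_iff_mem.mpr (Ideal.mem_span_singleton_self g)
      rw [this, sub_zero]
      rfl
    rw [h2]
    refine aeval_mem_map_of_coeff_mem _ _ (coeff_mem_of_map_eq_zero _ ?_) _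
    simp [hg, ha₁]
  obtain ⟨a, ha⟩ := exists_algebraMap_eq x
    (fun c => by obtain ⟨p, rfl⟩ := Ideal.Quotient.mk_surjective c; exact ⟨p, hx p⟩) a₁ h1
  have h3 : X - C a ∈ Ideal.span {g} := by
    rw [← Ideal.Quotient.eq_zero_iff_mem, map_sub, sub_eq_zero]
    exact ha.symm
  obtain ⟨w, hw⟩ := Ideal.mem_span_singleton.mp h3
  have h4 : X - C (residue R a) = (X - C a₀) * w.map (residue R) := by
    have := congrArg (Polynomial.map (residue R)) hw
    simpa [hg] using this
  have h5 : residue R a = a₀ := by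
    have := congrArg (eval a₀) h4
    simp at this
    exact (sub_eq_zero.mp this).symm
  have h6 : w.map (residue R) = 1 := by
    rw [h5] at h4
    have hne : (X - C a₀ : (ResidueField R)[X]) ≠ 0 := X_sub_C_ne_zero a₀
    exact (mul_left_cancel₀ hne (by rw [mul_one]; exact h4)).symm
  have h7 : IsUnit (w.eval a) := by
    apply IsUnit.of_map (residue R)
    rw [← eval_residue, h6]
    simp
  have h8 : g.eval a * w.eval a = 0 := by
    have := congrArg (eval a) hw
    simpa using this.symm
  exact ⟨a, (h7.mul_left_eq_zero).mp h8, h5⟩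

/-- Core of "finite algebras are products of local rings ⇒ henselian". -/
theorem exists_root_of_local_factor {R : Type*} [CommRing R] [IsLocalRing R] (f : R[X])
    (hf : f.Monic) (a₀ : ResidueField R) (g₀ : (ResidueField R)[X])
    (hfg : f.map (residue R) = (X - C a₀) * g₀) (hg₀ : g₀.eval a₀ ≠ 0)
    (A₀ : Type*) [CommRing A₀] [IsLocalRing A₀] (φ : AdjoinRoot f →+* A₀)
    (hφ : Function.Surjective φ) (e : AdjoinRoot f) (he : ∀ b, φ b = 0 → b * e = 0)
    (π : AdjoinRoot f →ₐ[R] ResidueField R) (hπ : π (AdjoinRoot.root f) = a₀) (hπe : π e = 1)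
    (ρ : A₀ →+* ResidueField R) (hρ : ∀ b, ρ (φ b) = π b) :
    ∃ a : R, f.IsRoot a ∧ residue R a = a₀ := by
  letI : Algebra R A₀ := (φ.comp (algebraMap R (AdjoinRoot f))).toAlgebra
  let φₐ : AdjoinRoot f →ₐ[R] A₀ := { φ with commutes' := fun r => rfl }
  have hφₐ : ∀ b, φₐ b = φ b := fun b => rfl
  haveI : Module.Finite R (AdjoinRoot f) := hf.finite_adjoinRoot
  haveI : Module.Finite R A₀ := Module.Finite.of_surjective φₐ.toLinearMap hφ
  let ρₐ : A₀ →ₐ[R] ResidueField R :=
    { ρ with
      commutes' := fun r => by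
        change ρ (φ (algebraMap R (AdjoinRoot f) r)) = _
        rw [hρ, AlgHom.commutes] }
  have hρₐ : ∀ y, ρₐ y = ρ y := fun y => rfl
  have hπmk : ∀ p : R[X], π (AdjoinRoot.mk f p) = (p.map (residue R)).eval a₀ := by
    intro p
    rw [← AdjoinRoot.aeval_eq, ← aeval_algHom_apply, hπ, eval_map]; rfl
  have hπsurj : Function.Surjective π := by
    intro y
    obtain ⟨r, rfl⟩ := residue_surjective y
    exact ⟨algebraMap R _ r, by rw [AlgHom.commutes]; rfl⟩
  have hρsurj : Function.Surjective ρ := by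
    intro y
    obtain ⟨b, rfl⟩ := hπsurj y
    exact ⟨φ b, hρ b⟩
  have hker : RingHom.ker ρ = maximalIdeal A₀ :=
    IsLocalRing.eq_maximalIdeal (RingHom.ker_isMaximal_of_surjective ρ hρsurj)
  have hunit : ∀ y : A₀, ρ y ≠ 0 → IsUnit y := by
    intro y hy
    by_contra hnu
    exact hy (by rw [← RingHom.mem_ker, hker]; exact hnu)
  set x : A₀ := φ (AdjoinRoot.root f) with hxdef
  have hx : ∀ p : R[X], aeval x p = φ (AdjoinRoot.mk f p) := by
    intro p
    rw [← AdjoinRoot.aeval_eq, ← hφₐ, ← aeval_algHom_apply]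
    rfl
  have hρx : ρ x = a₀ := by rw [hxdef, hρ, hπ]
  obtain ⟨a₁, ha₁⟩ := residue_surjective a₀
  obtain ⟨g₁, hg₁⟩ := Polynomial.map_surjective (residue R) residue_surjective g₀
  have h1 : x - algebraMap R A₀ a₁ ∈ (maximalIdeal R).map (algebraMap R A₀) := by
    have hu : IsUnit (aeval x g₁) := by
      apply hunit
      rw [← hρₐ, ← aeval_algHom_apply, hρₐ, hρx]
      have : aeval a₀ g₁ = (g₁.map (residue R)).eval a₀ := by rw [eval_map]; rfl
      rw [this, hg₁]; exact hg₀
    have h2 : (x - algebraMap R A₀ a₁) * aeval x g₁ = aeval x ((X - C a₁) * g₁ - f) := by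
      rw [map_sub, map_mul, map_sub, aeval_X, aeval_C, hx f, AdjoinRoot.mk_self, map_zero,
        sub_zero]
    have h3 : aeval x ((X - C a₁) * g₁ - f) ∈ (maximalIdeal R).map (algebraMap R A₀) := by
      refine aeval_mem_map_of_coeff_mem _ _ (coeff_mem_of_map_eq_zero _ ?_) _
      simp [hg₁, ha₁, hfg]
    rw [← h2] at h3
    have := Ideal.mul_mem_right (↑hu.unit⁻¹ : A₀) _ h3
    rwa [mul_assoc, IsUnit.mul_val_inv, mul_one] at this
  obtain ⟨a, ha⟩ := exists_algebraMap_eq x
    (fun c => by
      obtain ⟨b, rfl⟩ := hφ c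
      obtain ⟨p, rfl⟩ := AdjoinRoot.mk_surjective b
      exact ⟨p, hx p⟩) a₁ h1
  have hres : residue R a = a₀ := by
    have := congrArg ρₐ ha
    rw [AlgHom.commutes, hρₐ, hρx] at this
    exact this
  obtain ⟨E, hE⟩ := AdjoinRoot.mk_surjective e
  have h4 : f ∣ (X - C a) * E := by
    rw [← AdjoinRoot.mk_eq_zero, map_mul, hE]
    apply he
    rw [← hx, map_sub, aeval_X, aeval_C, ha, sub_self]
  obtain ⟨w, hw⟩ := h4
  have h5 : (X - C a₀) * E.map (residue R) = (X - C a₀) * (g₀ * w.map (residue R)) := by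
    have := congrArg (Polynomial.map (residue R)) hw
    simp only [Polynomial.map_mul, Polynomial.map_sub, map_X, map_C, hres, hfg] at this
    rw [this, mul_assoc]
  have h6 : E.map (residue R) = g₀ * w.map (residue R) :=
    mul_left_cancel₀ (X_sub_C_ne_zero a₀) h5
  have h7 : (w.map (residue R)).eval a₀ ≠ 0 := by
    intro h0
    have := hπmk E
    rw [hE, hπe, h6, eval_mul, h0, mul_zero] at this
    exact one_ne_zero this
  have h8 : IsUnit (w.eval a) := by
    apply IsUnit.of_map (residue R)
    rw [← eval_residue, hres]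
    exact IsUnit.mk0 _ h7
  have h9 : f.eval a * w.eval a = 0 := by
    have := congrArg (eval a) hw
    simpa using this.symm
  exact ⟨a, (h8.mul_left_eq_zero).mp h9, hres⟩

/-- (H1) unique lifting of points of a standard étale pair over a henselian local ring. -/
theorem existsUnique_hasMap {R S : Type*} [CommRing R] [CommRing S] [HenselianLocalRing S]
    [Algebra R S] (P : StandardEtalePair R) (x₀ : ResidueField S) (h₀ : P.HasMap x₀) :
    ∃! x : S, P.HasMap x ∧ residue S x = x₀ := by
  have H := ((HenselianLocalRing.TFAE S).out 0 1).mp ‹HenselianLocalRing S›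
  have hmonic : (P.f.map (algebraMap R S)).Monic := P.monic_f.map _
  have h1 : aeval x₀ (P.f.map (algebraMap R S)) = 0 := by
    rw [aeval_map_algebraMap]; exact h₀.1
  have h2 : aeval x₀ (derivative (P.f.map (algebraMap R S))) ≠ 0 := by
    rw [derivative_map, aeval_map_algebraMap]
    exact h₀.isUnit_derivative_f.ne_zero
  obtain ⟨a, ha, hres⟩ := H _ hmonic x₀ h1 h2
  have key : ∀ p : R[X], residue S (aeval a p) = aeval x₀ p := by
    intro p
    rw [← hres]
    have := aeval_algHom_apply (IsScalarTower.toAlgHom R S (ResidueField S)) a p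
    simpa using this.symm
  have haf : aeval a P.f = 0 := by
    rw [IsRoot.def, eval_map_algebraMap] at ha; exact ha
  have hag : IsUnit (aeval a P.g) := by
    apply IsUnit.of_map (residue S)
    rw [key]; exact h₀.2
  refine ⟨a, ⟨⟨haf, hag⟩, hres⟩, ?_⟩
  rintro b ⟨hb, hbres⟩
  have hbf : eval b (P.f.map (algebraMap R S)) = 0 := by
    rw [eval_map_algebraMap]; exact hb.1
  refine IsLocalRing.eq_of_eval_eq_zero_of_not_isUnit_sub hbf ha ?_ ?_
  · rw [← mem_nonunits_iff, ← mem_maximalIdeal, ← residue_eq_zero_iff, map_sub, hbres, hres, sub_self]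
  · rw [derivative_map, eval_map_algebraMap]
    exact hb.isUnit_derivative_f

/-- (A) étale section lifting over a henselian local ring. -/
theorem existsUnique_algHom_of_etale {R : Type*} [CommRing R] {S : Type*} [CommRing S]
    [HenselianLocalRing S] [Algebra R S] {A : Type*} [CommRing A] [Algebra R A]
    [Algebra.Etale R A] (q : Ideal A) [q.IsPrime]
    (τ : q.ResidueField →ₐ[R] ResidueField S) :
    ∃! f : A →ₐ[R] S, ∀ a, residue S (f a) = τ (algebraMap A q.ResidueField a) := by
  obtain ⟨g, hgq, hstd⟩ := Algebra.IsEtaleAt.exists_isStandardEtale (R := R) q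
  let Ag := Localization.Away g
  obtain ⟨Pres⟩ := hstd.nonempty_standardEtalePresentation
  have hgu : IsUnit ((IsScalarTower.toAlgHom R A q.ResidueField) g) := by
    refine IsUnit.mk0 _ ?_
    change algebraMap A q.ResidueField g ≠ 0
    rwa [Ne, Ideal.algebraMap_residueField_eq_zero]
  let θ : Ag →ₐ[R] q.ResidueField := IsLocalization.Away.liftAlgHom g hgu
  have hθ : ∀ a : A, θ (algebraMap A Ag a) = algebraMap A q.ResidueField a := by
    intro a
    exact IsLocalization.Away.lift_eq g hgu a
  let resₐ : S →ₐ[R] ResidueField S := IsScalarTower.toAlgHom R S (ResidueField S)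
  let x₀ : ResidueField S := τ (θ Pres.x)
  have hx₀ : Pres.P.HasMap x₀ := Pres.hasMap.map (τ.comp θ)
  obtain ⟨s, ⟨hs, hsres⟩, hsuniq⟩ := existsUnique_hasMap Pres.P x₀ hx₀
  let φ : Ag →ₐ[R] S := (Pres.P.lift s hs).comp Pres.equivRing.toAlgHom
  have hφx : φ Pres.x = s := by
    change Pres.P.lift s hs (Pres.equivRing Pres.x) = s
    rw [Pres.equivRing_x, StandardEtalePair.lift_X]
  have hφres : resₐ.comp φ = τ.comp θ := by
    apply Pres.hom_ext
    change residue S (φ Pres.x) = x₀
    rw [hφx, hsres]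
  refine ⟨φ.comp (IsScalarTower.toAlgHom R A Ag), ?_, ?_⟩
  · intro a
    have := congrArg (fun ψ => ψ (algebraMap A Ag a)) hφres
    simp only [AlgHom.comp_apply] at this
    rw [hθ] at this
    exact this
  · intro f' hf'
    have hgu' : IsUnit (f' g) := by
      apply IsUnit.of_map (residue S)
      rw [hf']
      refine IsUnit.mk0 _ ?_
      rw [Ne, map_eq_zero, Ideal.algebraMap_residueField_eq_zero]
      exact hgq
    let φ' : Ag →ₐ[R] S := IsLocalization.Away.liftAlgHom g hgu'
    have hφ' : ∀ a : A, φ' (algebraMap A Ag a) = f' a := fun a =>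
      IsLocalization.Away.lift_eq g hgu' a
    have hφ'res : resₐ.comp φ' = τ.comp θ := by
      apply AlgHom.coe_ringHom_injective
      apply IsLocalization.ringHom_ext (Submonoid.powers g)
      ext a
      change residue S (φ' (algebraMap A Ag a)) = τ (θ (algebraMap A Ag a))
      rw [hφ', hθ, hf']
    have hs' : φ' Pres.x = s := by
      apply hsuniq
      refine ⟨Pres.hasMap.map φ', ?_⟩
      have := congrArg (fun ψ => ψ Pres.x) hφ'res
      exact this
    have : φ' = φ := Pres.hom_ext (by rw [hs', hφx])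
    ext a
    rw [← hφ', this]
    rfl

theorem comap_eq_of_residue {R : Type*} [CommRing R] {S : Type*} [CommRing S]
    [IsLocalRing S] [Algebra R S] {A : Type*} [CommRing A] [Algebra R A]
    (q : Ideal A) [q.IsPrime] (τ : q.ResidueField →+* ResidueField S) (f : A →ₐ[R] S)
    (hf : ∀ a, residue S (f a) = τ (algebraMap A q.ResidueField a)) :
    Ideal.comap f.toRingHom (maximalIdeal S) = q := by
  ext a
  rw [Ideal.mem_comap, ← residue_eq_zero_iff]
  change residue S (f a) = 0 ↔ _
  rw [hf, map_eq_zero, Ideal.algebraMap_residueField_eq_zero]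

end Groth.Agent.Lib.Helper3.Hensel
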