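import Mathlib
import Groth.Agent.Lib.Helper3HenselA

set_option autoImplicit false
universe u v

namespace Groth.Agent.Lib.Helper3.Hensel

open Polynomial IsLocalRing TensorProduct

/-- quotient by `1 - ε` is local as soon as it is nontrivial and at most one maximal ideal
avoids `ε`. -/
theorem isLocalRing_quotient_one_sub {S : Type*} [CommRing S] (ε : S)
    (hnt : Nontrivial (S ⧸ Ideal.span {1 - ε}))
    (huniq : ∀ M₁ M₂ : Ideal S, M₁.IsMaximal → M₂.IsMaximal → ε ∉ M₁ → ε ∉ M₂ → M₁ = M₂) :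
    IsLocalRing (S ⧸ Ideal.span {1 - ε}) := by
  apply IsLocalRing.of_unique_max_ideal
  obtain ⟨M, hM⟩ := Ideal.exists_maximal (S ⧸ Ideal.span {1 - ε})
  refine ⟨M, hM, ?_⟩
  intro M' hM'
  have hsurj : Function.Surjective (Ideal.Quotient.mk (Ideal.span {1 - ε})) :=
    Ideal.Quotient.mk_surjective
  have key : ∀ N : Ideal (S ⧸ Ideal.span {1 - ε}), N.IsMaximal →
      ε ∉ N.comap (Ideal.Quotient.mk (Ideal.span {1 - ε})) := by
    intro N hN hε
    have h1 : (1 - ε) ∈ N.comap (Ideal.Quotient.mk (Ideal.span {1 - ε})) := by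
      rw [Ideal.mem_comap]
      have : Ideal.Quotient.mk (Ideal.span {1 - ε}) (1 - ε) = 0 :=
        Ideal.Quotient.eq_zero_iff_mem.mpr (Ideal.mem_span_singleton_self _)
      rw [this]; exact N.zero_mem
    have h2 := Ideal.add_mem _ h1 hε
    rw [sub_add_cancel] at h2
    have hprime : (N.comap (Ideal.Quotient.mk (Ideal.span {1 - ε}))).IsPrime :=
      Ideal.comap_isPrime _ _
    exact hprime.ne_top ((Ideal.eq_top_iff_one _).mpr h2)
  have := huniq _ _ (Ideal.comap_isMaximal_of_surjective _ hsurj (K := M'))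
    (Ideal.comap_isMaximal_of_surjective _ hsurj (K := M)) (key M' hM') (key M hM)
  exact Ideal.comap_injective_of_surjective _ hsurj this

/-- drop trivial factors of a finite product -/
theorem exists_ringEquiv_pi_nontrivial {I : Type} [Fintype I] (B : I → Type u)
    [∀ i, CommRing (B i)] :
    ∃ (ι : Type u) (_ : Fintype ι) (f : ι → I), (∀ j, Nontrivial (B (f j))) ∧
      Nonempty ((∀ i, B i) ≃+* (∀ j, B (f j))) := by
  classical
  let ι₀ := {i : I // Nontrivial (B i)}
  refine ⟨ULift.{u} ι₀, inferInstance, fun j => j.down.1, fun j => j.down.2, ?_⟩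
  let F : (∀ i, B i) →+* (∀ j : ULift.{u} ι₀, B j.down.1) :=
    RingHom.pi (fun j => Pi.evalRingHom B j.down.1)
  refine ⟨RingEquiv.ofBijective F ⟨?_, ?_⟩⟩
  · intro z z' hzz'
    ext i
    by_cases hi : Nontrivial (B i)
    · exact congrFun hzz' ⟨⟨i, hi⟩⟩
    · haveI := not_nontrivial_iff_subsingleton.mp hi
      exact Subsingleton.elim _ _
  · intro w
    refine ⟨fun i => if hi : Nontrivial (B i) then w ⟨⟨i, hi⟩⟩ else 0, ?_⟩
    ext j
    change (if hi : Nontrivial (B j.down.1) then w ⟨⟨j.down.1, hi⟩⟩ else 0) = w j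
    rw [dif_pos j.down.2]

/-- product-of-local criterion -/
theorem exists_pi_isLocalRing_of_idempotents {S : Type u} [CommRing S] {I : Type} [Fintype I]
    (ε : I → S) (hε : CompleteOrthogonalIdempotents ε)
    (huniq : ∀ i, ∀ M₁ M₂ : Ideal S, M₁.IsMaximal → M₂.IsMaximal → ε i ∉ M₁ → ε i ∉ M₂ →
      M₁ = M₂) :
    ∃ (ι : Type u) (_ : Fintype ι) (A : ι → Type u) (_ : ∀ i, CommRing (A i)),
      (∀ i, IsLocalRing (A i)) ∧ Nonempty (S ≃+* (∀ i, A i)) := by
  obtain ⟨ι, hι, f, hnt, ⟨Φ⟩⟩ :=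
    exists_ringEquiv_pi_nontrivial (fun i => S ⧸ Ideal.span {1 - ε i})
  refine ⟨ι, hι, fun j => S ⧸ Ideal.span {1 - ε (f j)}, fun j => inferInstance, ?_, ?_⟩
  · intro j
    exact isLocalRing_quotient_one_sub _ (hnt j) (huniq (f j))
  · exact ⟨(RingEquiv.ofBijective _ hε.bijective_pi).trans Φ⟩

end Groth.Agent.Lib.Helper3.Hensel
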