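import Mathlib
import Groth.Agent.Lib.Helper3HenselA
import Groth.Agent.Lib.Helper3HenselB

set_option autoImplicit false
universe u v

namespace Groth.Agent.Lib.Helper3.Hensel

open Polynomial IsLocalRing TensorProduct

/-- section of an étale neighbourhood with trivial residue field extension
over a henselian local ring -/
theorem exists_section_of_etale {R : Type*} [CommRing R] [HenselianLocalRing R]
    {R' : Type*} [CommRing R'] [Algebra R R'] [Algebra.Etale R R'] (P : Ideal R') [P.IsPrime]
    [P.LiesOver (maximalIdeal R)]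
    (hbij : Function.Bijective (Ideal.ResidueField.mapₐ (maximalIdeal R) P (Algebra.ofId _ _)
      (P.over_def (maximalIdeal R)))) :
    ∃ σ : R' →ₐ[R] R, Ideal.comap σ.toRingHom (maximalIdeal R) = P := by
  let β : ResidueField R →ₐ[R] P.ResidueField :=
    (Ideal.ResidueField.mapₐ (maximalIdeal R) P (Algebra.ofId _ _)
      (P.over_def (maximalIdeal R))).comp
      (IsScalarTower.toAlgHom R (R ⧸ maximalIdeal R) (maximalIdeal R).ResidueField)
  have hβ : Function.Bijective β :=
    hbij.comp (Ideal.bijective_algebraMap_quotient_residueField (maximalIdeal R))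
  let τ : P.ResidueField →ₐ[R] ResidueField R := (AlgEquiv.ofBijective β hβ).symm.toAlgHom
  obtain ⟨σ, hσ, -⟩ := existsUnique_algHom_of_etale (R := R) (S := R) P τ
  exact ⟨σ, comap_eq_of_residue P τ.toRingHom σ hσ⟩

/-- the base change map along a section -/
noncomputable def sectionMap {R : Type*} [CommRing R] {R' : Type*} [CommRing R'] [Algebra R R']
    (S : Type*) [CommRing S] [Algebra R S] (σ : R' →ₐ[R] R) : R' ⊗[R] S →ₐ[R] S :=
  Algebra.TensorProduct.lift ((Algebra.ofId R S).comp σ) (AlgHom.id R S) (fun _ _ => Commute.all _ _)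

theorem sectionMap_tmul {R : Type*} [CommRing R] {R' : Type*} [CommRing R'] [Algebra R R']
    (S : Type*) [CommRing S] [Algebra R S] (σ : R' →ₐ[R] R) (r : R') (s : S) :
    sectionMap S σ (r ⊗ₜ s) = algebraMap R S (σ r) * s := by
  simp [sectionMap]

theorem sectionMap_surjective {R : Type*} [CommRing R] {R' : Type*} [CommRing R'] [Algebra R R']
    (S : Type*) [CommRing S] [Algebra R S] (σ : R' →ₐ[R] R) :
    Function.Surjective (sectionMap S σ) := fun s => ⟨1 ⊗ₜ s, by simp [sectionMap_tmul]⟩

/-- the pullback of a prime of `S` over `p` along the section map lies over `σ⁻¹ p`. -/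
theorem comap_sectionMap_liesOver {R : Type*} [CommRing R] {R' : Type*} [CommRing R']
    [Algebra R R'] (S : Type*) [CommRing S] [Algebra R S] (σ : R' →ₐ[R] R)
    (M : Ideal S) (p : Ideal R) (hM : M.comap (algebraMap R S) = p) :
    (M.comap (sectionMap S σ).toRingHom).LiesOver (p.comap σ.toRingHom) := by
  constructor
  ext r
  rw [Ideal.under_def, Ideal.mem_comap, Ideal.mem_comap, Ideal.mem_comap, ← hM, Ideal.mem_comap,
    Algebra.TensorProduct.algebraMap_apply]
  change _ ↔ sectionMap S σ (_ ⊗ₜ 1) ∈ M
  rw [sectionMap_tmul, mul_one]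
  rfl

/-- **Finite algebras over henselian local rings are finite products of local rings.** -/
theorem exists_pi_isLocalRing_of_finite (R : Type u) [CommRing R] [HenselianLocalRing R]
    (S : Type u) [CommRing S] [Algebra R S] [Module.Finite R S] :
    ∃ (ι : Type u) (_ : Fintype ι) (A : ι → Type u) (_ : ∀ i, CommRing (A i)),
      (∀ i, IsLocalRing (A i)) ∧ Nonempty (S ≃+* (∀ i, A i)) := by
  obtain ⟨R', _, _, _, P, _, _, n, e, he, P', hP'prime, hP'lies, hbij, heP', H⟩ :=
    Algebra.exists_etale_completeOrthogonalIdempotents_forall_liesOver_eq (R := R) (S := S)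
      (maximalIdeal R)
  obtain ⟨σ, hσ⟩ := exists_section_of_etale P hbij
  let ψ := sectionMap S σ
  have hψsurj : Function.Surjective ψ := sectionMap_surjective S σ
  -- maximal ideals of `S` lie over the maximal ideal
  have hmax : ∀ M : Ideal S, M.IsMaximal → M.comap (algebraMap R S) = maximalIdeal R := by
    intro M hM
    haveI : Algebra.IsIntegral R S := Algebra.IsIntegral.of_finite R S
    exact IsLocalRing.eq_maximalIdeal (Ideal.isMaximal_comap_of_isIntegral_of_isMaximal M)
  have hlies : ∀ M : Ideal S, M.IsMaximal → (M.comap ψ.toRingHom).LiesOver P := by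
    intro M hM
    have := comap_sectionMap_liesOver S σ M _ (hmax M hM)
    rwa [hσ] at this
  refine exists_pi_isLocalRing_of_idempotents (fun i => ψ (e i)) (he.map ψ.toRingHom) ?_
  intro i M₁ M₂ hM₁ hM₂ h1 h2
  haveI := hM₁.isPrime
  haveI := hM₂.isPrime
  have hp1 : (M₁.comap ψ.toRingHom).IsPrime := Ideal.comap_isPrime _ _
  have hp2 : (M₂.comap ψ.toRingHom).IsPrime := Ideal.comap_isPrime _ _
  obtain ⟨hl1, hc1⟩ := H _ hp1 (hlies M₁ hM₁)
  obtain ⟨hl2, hc2⟩ := H _ hp2 (hlies M₂ hM₂)
  induction i using Fin.lastCases with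
  | last => exact absurd hl1 h1
  | cast j =>
    have e1 := hc1 j h1
    have e2 := hc2 j h2
    exact Ideal.comap_injective_of_surjective ψ.toRingHom hψsurj (e1.trans e2.symm)

end Groth.Agent.Lib.Helper3.Hensel
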