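import Mathlib
import Groth.Agent.Lib.Helper3HenselC
import Groth.Agent.Lib.Helper14InvLim

/-! helper18: finite algebras over complete Noetherian local rings are finite products of
complete Noetherian local rings (S9405). -/

set_option autoImplicit false
set_option linter.unusedSectionVars false
set_option linter.style.haveILetI false
universe u

namespace Groth.Agent.Lib.Helper18ComplProd

open IsLocalRing

section product

variable {S : Type u} [CommRing S] {ι : Type u} [Fintype ι] [DecidableEq ι] (A : ι → Type u)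
  [∀ i, CommRing (A i)] [∀ i, IsLocalRing (A i)] (Φ : S ≃+* ∀ i, A i)

/-- projection to the i-th factor -/
def proj (i : ι) : S →+* A i := (Pi.evalRingHom A i).comp (Φ : S →+* ∀ i, A i)

/-- i-th idempotent -/
def idem (i : ι) : S := Φ.symm (Pi.single i 1)

/-- i-th maximal ideal -/
def maxI (i : ι) : Ideal S := (maximalIdeal (A i)).comap (proj A Φ i)

theorem proj_apply (i : ι) (x : S) : proj A Φ i x = Φ x i := rfl

theorem proj_surjective (i : ι) : Function.Surjective (proj A Φ i) := by
  intro a
  refine ⟨Φ.symm (Pi.single i a), ?_⟩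
  simp [proj_apply]

theorem proj_idem_self (i : ι) : proj A Φ i (idem A Φ i) = 1 := by
  simp [proj_apply, idem]

theorem mul_idem_eq_zero (i : ι) (x : S) (hx : proj A Φ i x = 0) : x * idem A Φ i = 0 := by
  apply Φ.injective
  rw [map_mul, map_zero, idem, RingEquiv.apply_symm_apply]
  ext j
  by_cases hj : j = i
  · subst hj
    rw [proj_apply] at hx
    simp [hx]
  · simp [Pi.single_eq_of_ne hj]

theorem idem_mul_idem (i j : ι) (hij : i ≠ j) : idem A Φ i * idem A Φ j = 0 := by
  apply mul_idem_eq_zero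
  simp [proj_apply, idem, Pi.single_eq_of_ne hij.symm]

theorem idem_mul_self (i : ι) : idem A Φ i * idem A Φ i = idem A Φ i := by
  apply Φ.injective
  rw [map_mul, idem, RingEquiv.apply_symm_apply, ← Pi.single_mul, mul_one]

theorem sum_idem : ∑ i, idem A Φ i = 1 := by
  apply Φ.injective
  rw [map_sum, map_one]
  simp only [idem, RingEquiv.apply_symm_apply]
  exact Finset.univ_sum_single (1 : ∀ i, A i)

theorem maxI_isMaximal (i : ι) : (maxI A Φ i).IsMaximal :=
  Ideal.comap_isMaximal_of_surjective _ (proj_surjective A Φ i)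

theorem idem_notMem (i : ι) : idem A Φ i ∉ maxI A Φ i := by
  intro h
  rw [maxI, Ideal.mem_comap, proj_idem_self] at h
  exact (Ideal.ne_top_iff_one _).mp (maximalIdeal.isMaximal (A i)).ne_top h

theorem eq_maxI_of_isMaximal (m : Ideal S) (hm : m.IsMaximal) : ∃ i, m = maxI A Φ i := by
  have hp := hm.isPrime
  -- some idempotent is not in m
  obtain ⟨i, hi⟩ : ∃ i, idem A Φ i ∉ m := by
    by_contra hcon
    push Not at hcon
    have : (1 : S) ∈ m := by
      rw [← sum_idem A Φ]
      exact Ideal.sum_mem _ fun i _ => hcon i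
    exact hm.ne_top ((Ideal.eq_top_iff_one _).mpr this)
  refine ⟨i, ?_⟩
  have hker : RingHom.ker (proj A Φ i) ≤ m := by
    intro x hx
    have h0 : x * idem A Φ i ∈ m := by
      rw [mul_idem_eq_zero A Φ i x hx]; exact m.zero_mem
    exact (hp.mem_or_mem h0).resolve_right hi
  have hmap : (m.map (proj A Φ i)).IsMaximal :=
    hm.map_of_surjective_of_ker_le (proj_surjective A Φ i) hker
  have := IsLocalRing.eq_maximalIdeal hmap
  rw [maxI, ← this, Ideal.comap_map_of_surjective _ (proj_surjective A Φ i)]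
  rw [← RingHom.ker_eq_comap_bot]
  exact (sup_eq_left.mpr hker).symm

include A Φ in
theorem finite_maximalSpectrum : Finite (MaximalSpectrum S) := by
  refine Finite.of_surjective
    (fun i => (⟨maxI A Φ i, maxI_isMaximal A Φ i⟩ : MaximalSpectrum S)) ?_
  intro m
  obtain ⟨i, hi⟩ := eq_maxI_of_isMaximal A Φ m.asIdeal m.isMaximal
  exact ⟨i, MaximalSpectrum.ext hi.symm⟩

theorem algebraMap_idem_self (j : ι) (hm : (maxI A Φ j).IsPrime) :
    algebraMap S (Localization.AtPrime (maxI A Φ j)) (idem A Φ j) = 1 := by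
  rw [← map_one (algebraMap S (Localization.AtPrime (maxI A Φ j))),
    IsLocalization.eq_iff_exists (maxI A Φ j).primeCompl]
  exact ⟨⟨idem A Φ j, idem_notMem A Φ j⟩, by simp [idem_mul_self]⟩

theorem algebraMap_idem_of_ne (i j : ι) (hij : i ≠ j) (hm : (maxI A Φ j).IsPrime) :
    algebraMap S (Localization.AtPrime (maxI A Φ j)) (idem A Φ i) = 0 := by
  rw [IsLocalization.map_eq_zero_iff (maxI A Φ j).primeCompl]
  exact ⟨⟨idem A Φ j, idem_notMem A Φ j⟩, by simp [mul_comm, idem_mul_idem A Φ i j hij]⟩

theorem algebraMap_surjective (j : ι) (hm : (maxI A Φ j).IsPrime) :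
    Function.Surjective (algebraMap S (Localization.AtPrime (maxI A Φ j))) := by
  intro z
  obtain ⟨a, s, rfl⟩ := IsLocalization.exists_mk'_eq (maxI A Φ j).primeCompl z
  have hs : proj A Φ j s ∉ maximalIdeal (A j) := fun h => s.2 h
  have hu : IsUnit (proj A Φ j s) := by
    by_contra hn
    exact hs ((IsLocalRing.mem_maximalIdeal _).mpr hn)
  obtain ⟨v, hv⟩ := hu.exists_right_inv
  obtain ⟨t, rfl⟩ := proj_surjective A Φ j v
  have h0 : ((s : S) * t - 1) * idem A Φ j = 0 := by
    apply mul_idem_eq_zero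
    rw [map_sub, map_mul, hv, map_one, sub_self]
  have h1 : algebraMap S (Localization.AtPrime (maxI A Φ j)) ((s : S) * t - 1) = 0 := by
    rw [IsLocalization.map_eq_zero_iff (maxI A Φ j).primeCompl]
    exact ⟨⟨idem A Φ j, idem_notMem A Φ j⟩, by rw [mul_comm]; exact h0⟩
  rw [map_sub, map_mul, map_one, sub_eq_zero] at h1
  refine ⟨a * t, ?_⟩
  rw [eq_comm, IsLocalization.mk'_eq_iff_eq_mul, map_mul, mul_assoc, mul_comm (algebraMap _ _ t), h1,
    mul_one]

include A Φ in
theorem algebraMap_pi_bijective :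
    Function.Bijective
      (algebraMap S ((m : MaximalSpectrum S) → Localization.AtPrime m.asIdeal)) := by
  refine ⟨MaximalSpectrum.toPiLocalization_injective S, ?_⟩
  intro x
  haveI : ∀ i, (maxI A Φ i).IsPrime := fun i => (maxI_isMaximal A Φ i).isPrime
  have hy : ∀ i, ∃ y : S, algebraMap S (Localization.AtPrime (maxI A Φ i)) y =
      x ⟨maxI A Φ i, maxI_isMaximal A Φ i⟩ := fun i =>
    algebraMap_surjective A Φ i (maxI_isMaximal A Φ i).isPrime _
  choose y hy using hy
  refine ⟨∑ i, idem A Φ i * y i, ?_⟩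
  funext m
  obtain ⟨m, hm⟩ := m
  obtain ⟨j, rfl⟩ := eq_maxI_of_isMaximal A Φ m hm
  rw [Pi.algebraMap_apply, map_sum]
  rw [Finset.sum_eq_single j]
  · rw [map_mul, algebraMap_idem_self A Φ j hm.isPrime, one_mul, hy]
  · intro i _ hij
    rw [map_mul, algebraMap_idem_of_ne A Φ i j hij hm.isPrime, zero_mul]
  · intro h; exact absurd (Finset.mem_univ j) h

end product


theorem isPrecomplete_of_surjective {R : Type*} [CommRing R] (I : Ideal R) {N M : Type*}
    [AddCommGroup N] [Module R N] [AddCommGroup M] [Module R M] (f : N →ₗ[R] M)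
    (hf : Function.Surjective f) [IsPrecomplete I N] : IsPrecomplete I M := by
  rw [← AdicCompletion.of_surjective_iff]
  intro y
  obtain ⟨x, rfl⟩ := AdicCompletion.map_surjective I hf y
  obtain ⟨n, rfl⟩ := AdicCompletion.of_surjective I N x
  exact ⟨f n, (AdicCompletion.map_of I f n).symm⟩

theorem isPrecomplete_of_pow_le {B : Type*} [CommRing B] (I J : Ideal B) (M : Type*)
    [AddCommGroup M] [Module B M] [IsPrecomplete I M] (hIJ : I ≤ J) (k : ℕ) (hk : J ^ k ≤ I) :
    IsPrecomplete J M := by
  have hk' : J ^ (k + 1) ≤ I := (Ideal.pow_le_pow_right (Nat.le_succ k)).trans hk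
  refine ⟨fun f hf => ?_⟩
  -- subsequence
  have hg : ∀ {m n : ℕ}, m ≤ n →
      f ((k + 1) * m) ≡ f ((k + 1) * n) [SMOD (I ^ m • ⊤ : Submodule B M)] := by
    intro m n hmn
    have h1 := hf (Nat.mul_le_mul_left (k + 1) hmn)
    rw [SModEq.sub_mem] at h1 ⊢
    have hle : (J ^ ((k + 1) * m) • ⊤ : Submodule B M) ≤ I ^ m • ⊤ := by
      apply Submodule.smul_mono_left
      rw [pow_mul]
      exact Ideal.pow_right_mono hk' m
    exact hle h1
  obtain ⟨L, hL⟩ := IsPrecomplete.prec' (I := I) (fun n => f ((k + 1) * n)) hg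
  refine ⟨L, fun n => ?_⟩
  have h1 : f n ≡ f ((k + 1) * n) [SMOD (J ^ n • ⊤ : Submodule B M)] :=
    hf (Nat.le_mul_of_pos_left n (Nat.succ_pos k))
  have h2 : f ((k + 1) * n) ≡ L [SMOD (J ^ n • ⊤ : Submodule B M)] := by
    have h3 := hL n
    rw [SModEq.sub_mem] at h3 ⊢
    have hle : (I ^ n • ⊤ : Submodule B M) ≤ J ^ n • ⊤ :=
      Submodule.smul_mono_left (Ideal.pow_right_mono hIJ n)
    exact hle h3
  exact h1.trans h2

theorem isAdicComplete_of_finite (R : Type*) [CommRing R] [IsLocalRing R] [IsNoetherianRing R]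
    [IsAdicComplete (maximalIdeal R) R] (B : Type*) [CommRing B] [IsLocalRing B] [Algebra R B]
    [Module.Finite R B] :
    IsNoetherianRing B ∧ IsAdicComplete (maximalIdeal B) B := by
  have hN : IsNoetherianRing B := IsNoetherianRing.of_finite R B
  refine ⟨hN, ?_⟩
  have hInt : Algebra.IsIntegral R B := Algebra.IsIntegral.of_finite R B
  have hH : IsHausdorff (maximalIdeal B) B := inferInstance
  -- precomplete as R-module
  have hP : IsPrecomplete (maximalIdeal R) B := by
    obtain ⟨n, f, hf⟩ := Module.Finite.exists_fin' R B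
    haveI := Groth.Agent.Lib.Helper14.isPrecomplete_pi (maximalIdeal R) n
    exact isPrecomplete_of_surjective (maximalIdeal R) f hf
  have hP' : IsPrecomplete ((maximalIdeal R).map (algebraMap R B)) B :=
    IsPrecomplete.map_algebraMap_iff.mpr hP
  -- I ≤ J
  have hIJ : (maximalIdeal R).map (algebraMap R B) ≤ maximalIdeal B := by
    apply IsLocalRing.le_maximalIdeal
    intro htop
    -- comap of a maximal ideal
    have h1 : ((maximalIdeal B).comap (algebraMap R B)).IsMaximal :=
      Ideal.isMaximal_comap_of_isIntegral_of_isMaximal (maximalIdeal B)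
    have h2 := IsLocalRing.eq_maximalIdeal h1
    have h3 : (maximalIdeal R).map (algebraMap R B) ≤ maximalIdeal B := by
      rw [Ideal.map_le_iff_le_comap, h2]
    rw [htop] at h3
    exact (maximalIdeal.isMaximal B).ne_top (top_le_iff.mp h3)
  -- J ≤ radical I
  have hrad : maximalIdeal B ≤ ((maximalIdeal R).map (algebraMap R B)).radical := by
    rw [Ideal.radical_eq_sInf]
    refine le_sInf ?_
    rintro P ⟨hIP, hP⟩
    have h1 : maximalIdeal R ≤ P.comap (algebraMap R B) := Ideal.map_le_iff_le_comap.mp hIP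
    have h2 : P.comap (algebraMap R B) = maximalIdeal R :=
      ((maximalIdeal.isMaximal R).eq_of_le (Ideal.comap_ne_top _ hP.ne_top) h1).symm
    have h3 : P.IsMaximal := by
      apply Ideal.isMaximal_of_isIntegral_of_isMaximal_comap (R := R) P
      rw [h2]; exact maximalIdeal.isMaximal R
    rw [IsLocalRing.eq_maximalIdeal h3]
  obtain ⟨k, hk⟩ := Ideal.exists_pow_le_of_le_radical_of_fg hrad
    (IsNoetherian.noetherian (maximalIdeal B))
  have hPJ : IsPrecomplete (maximalIdeal B) B :=
    isPrecomplete_of_pow_le _ _ B hIJ k hk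
  exact { toIsHausdorff := hH, toIsPrecomplete := hPJ }


theorem main (R : Type u) [CommRing R] [IsLocalRing R] [IsNoetherianRing R]
    [IsAdicComplete (IsLocalRing.maximalIdeal R) R]
    (S : Type u) [CommRing S] [Algebra R S] [Module.Finite R S] :
    Finite (MaximalSpectrum S) ∧
      Function.Bijective
        (algebraMap S ((m : MaximalSpectrum S) → Localization.AtPrime m.asIdeal)) ∧
      ∀ m : MaximalSpectrum S, IsNoetherianRing (Localization.AtPrime m.asIdeal) ∧
        IsAdicComplete (IsLocalRing.maximalIdeal (Localization.AtPrime m.asIdeal))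
          (Localization.AtPrime m.asIdeal) := by
  classical
  haveI : HenselianLocalRing R :=
    { is_henselian := fun f hf a₀ h₁ h₂ =>
        (inferInstance : HenselianRing R (maximalIdeal R)).is_henselian f hf a₀ h₁
          (h₂.map (Ideal.Quotient.mk (maximalIdeal R))) }
  obtain ⟨ι, hι, A, hA, hloc, ⟨Φ⟩⟩ :=
    Groth.Agent.Lib.Helper3.Hensel.exists_pi_isLocalRing_of_finite R S
  refine ⟨finite_maximalSpectrum A Φ, algebraMap_pi_bijective A Φ, fun m => ?_⟩
  obtain ⟨m, hm⟩ := m
  obtain ⟨j, rfl⟩ := eq_maxI_of_isMaximal A Φ m hm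
  have hsurj := algebraMap_surjective A Φ j hm.isPrime
  haveI : Module.Finite R (Localization.AtPrime (maxI A Φ j)) :=
    Module.Finite.of_surjective (IsScalarTower.toAlgHom R S _).toLinearMap hsurj
  exact isAdicComplete_of_finite R _

end Groth.Agent.Lib.Helper18ComplProd
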