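import Mathlib

set_option autoImplicit false
set_option linter.style.haveILetI false
universe u

namespace Groth.Agent.Lib.Helper18StdEtaleCover
open Polynomial TensorProduct


/-- universal-ish splitting algebra by iterated root adjunction -/
theorem exists_splitting (d : ℕ) : ∀ (R : Type u) [CommRing R] [Nontrivial R] (f : R[X]), f.Monic →
    f.natDegree = d →
    ∃ (S' : Type u) (_ : CommRing S') (_ : Algebra R S'), Module.Finite R S' ∧ Module.Free R S' ∧
      Nontrivial S' ∧ ∃ r : Fin d → S', f.map (algebraMap R S') = ∏ i, (X - C (r i)) := by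
  induction d with
  | zero =>
    intro R _ _ f hf hd
    refine ⟨R, inferInstance, inferInstance, inferInstance, inferInstance, inferInstance,
      Fin.elim0, ?_⟩
    have : f = 1 := by
      exact Polynomial.eq_one_of_monic_natDegree_zero hf hd
    simp [this]
  | succ d ih =>
    intro R _ _ f hf hd
    let S₁ := AdjoinRoot f
    let pb := AdjoinRoot.powerBasis' hf
    have hdim : pb.dim = d + 1 := by
      simp [pb, hd]
    haveI : Module.Finite R S₁ := pb.finite
    haveI : Module.Free R S₁ := Module.Free.of_basis pb.basis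
    haveI : Nontrivial S₁ := by
      have h0 : 0 < pb.dim := by omega
      exact ⟨⟨pb.basis ⟨0, h0⟩, 0, pb.basis.ne_zero _⟩⟩
    let a : S₁ := AdjoinRoot.root f
    let fS : S₁[X] := f.map (AdjoinRoot.of f)
    have hroot : fS.IsRoot a := AdjoinRoot.isRoot_root f
    let f₁ : S₁[X] := fS /ₘ (X - C a)
    have hfac : (X - C a) * f₁ = fS := mul_divByMonic_eq_iff_isRoot.mpr hroot
    have hfSm : fS.Monic := hf.map _
    have hf₁m : f₁.Monic := by
      apply Monic.of_mul_monic_left (monic_X_sub_C a)
      rw [hfac]; exact hfSm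
    have hf₁d : f₁.natDegree = d := by
      simp only [f₁]
      rw [natDegree_divByMonic _ (monic_X_sub_C a), natDegree_X_sub_C]
      have : fS.natDegree = d + 1 := by
        rw [← hd]; exact hf.natDegree_map (AdjoinRoot.of f)
      omega
    obtain ⟨S', _, _, hfin, hfree, hnt, r, hr⟩ := ih S₁ f₁ hf₁m hf₁d
    letI : Algebra R S' := ((algebraMap S₁ S').comp (algebraMap R S₁)).toAlgebra
    haveI : IsScalarTower R S₁ S' := .of_algebraMap_eq' rfl
    refine ⟨S', inferInstance, inferInstance, Module.Finite.trans S₁ S', Module.Free.trans (S := S₁),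
      hnt, Fin.cons (algebraMap S₁ S' a) r, ?_⟩
    rw [Fin.prod_univ_succ]
    simp only [Fin.cons_zero, Fin.cons_succ]
    rw [← hr, IsScalarTower.algebraMap_eq R S₁ S', ← Polynomial.map_map]
    change map (algebraMap S₁ S') fS = _
    rw [← hfac, Polynomial.map_mul, Polynomial.map_sub, map_X, map_C]



theorem nontrivial_tensor_of_ker_eq (R K L : Type*) [CommRing R] [Field K] [Field L]
    [Algebra R K] [Algebra R L]
    (h : RingHom.ker (algebraMap R K) = RingHom.ker (algebraMap R L)) :
    Nontrivial (K ⊗[R] L) := by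
  let p := RingHom.ker (algebraMap R K)
  letI : Algebra (R ⧸ p) K := (RingHom.kerLift (algebraMap R K)).toAlgebra
  letI : Algebra (R ⧸ p) L := (Ideal.Quotient.lift p (algebraMap R L) (fun a ha => by
    have : a ∈ RingHom.ker (algebraMap R L) := h ▸ ha
    exact this)).toAlgebra
  haveI : IsScalarTower R (R ⧸ p) K := .of_algebraMap_eq fun x => rfl
  haveI : IsScalarTower R (R ⧸ p) L := .of_algebraMap_eq fun x => rfl
  have hK : Function.Injective (algebraMap (R ⧸ p) K) := RingHom.kerLift_injective _
  have hL : Function.Injective (algebraMap (R ⧸ p) L) := by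
    apply RingHom.lift_injective_of_ker_le_ideal
    rw [← h]
  haveI := Algebra.TensorProduct.nontrivial_of_algebraMap_injective_of_isDomain (R ⧸ p) K L hK hL
  exact (TensorProduct.mapOfCompatibleSMul_surjective (R ⧸ p) R R K L).nontrivial

theorem exists_prime_tensor (R A B : Type*) [CommRing R] [CommRing A] [CommRing B]
    [Algebra R A] [Algebra R B]
    (P : Ideal A) [P.IsPrime] (Q : Ideal B) [Q.IsPrime] (h : P.under R = Q.under R) :
    ∃ (𝔔 : Ideal (A ⊗[R] B)), 𝔔.IsPrime ∧
      𝔔.comap (Algebra.TensorProduct.includeLeft : A →ₐ[R] A ⊗[R] B) = P ∧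
      𝔔.comap (Algebra.TensorProduct.includeRight : B →ₐ[R] A ⊗[R] B) = Q := by
  let K := P.ResidueField
  let L := Q.ResidueField
  have hkK : RingHom.ker (algebraMap R K) = P.under R := by
    rw [IsScalarTower.algebraMap_eq R A K, ← RingHom.comap_ker, Ideal.ker_algebraMap_residueField]
  have hkL : RingHom.ker (algebraMap R L) = Q.under R := by
    rw [IsScalarTower.algebraMap_eq R B L, ← RingHom.comap_ker, Ideal.ker_algebraMap_residueField]
  haveI : Nontrivial (K ⊗[R] L) := nontrivial_tensor_of_ker_eq R K L (by rw [hkK, hkL, h])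
  obtain ⟨m, hm⟩ := Ideal.exists_maximal (K ⊗[R] L)
  haveI := hm.isPrime
  let Φ : A ⊗[R] B →ₐ[R] K ⊗[R] L :=
    Algebra.TensorProduct.map (IsScalarTower.toAlgHom R A K) (IsScalarTower.toAlgHom R B L)
  refine ⟨m.comap Φ, Ideal.comap_isPrime _ _, ?_, ?_⟩
  · have e1 : Φ.comp (Algebra.TensorProduct.includeLeft : A →ₐ[R] A ⊗[R] B) =
        (Algebra.TensorProduct.includeLeft : K →ₐ[R] K ⊗[R] L).comp (IsScalarTower.toAlgHom R A K) := by
      ext x; simp [Φ]
    have e2 : (m.comap (Algebra.TensorProduct.includeLeft : K →ₐ[R] K ⊗[R] L)) = ⊥ :=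
      Ideal.eq_bot_of_prime _
    ext x
    have := congrArg (fun f : A →ₐ[R] K ⊗[R] L => f x) e1
    simp only [AlgHom.comp_apply] at this
    rw [Ideal.mem_comap, Ideal.mem_comap, this]
    have h3 : (Algebra.TensorProduct.includeLeft : K →ₐ[R] K ⊗[R] L) (IsScalarTower.toAlgHom R A K x) ∈ m ↔
        IsScalarTower.toAlgHom R A K x ∈ (m.comap (Algebra.TensorProduct.includeLeft : K →ₐ[R] K ⊗[R] L)) :=
      Iff.rfl
    rw [h3, e2, Ideal.mem_bot]
    exact Ideal.algebraMap_residueField_eq_zero
  · have e1 : Φ.comp (Algebra.TensorProduct.includeRight : B →ₐ[R] A ⊗[R] B) =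
        (Algebra.TensorProduct.includeRight : L →ₐ[R] K ⊗[R] L).comp (IsScalarTower.toAlgHom R B L) := by
      ext x; simp [Φ]
    have e2 : (m.comap (Algebra.TensorProduct.includeRight : L →ₐ[R] K ⊗[R] L)) = ⊥ :=
      Ideal.eq_bot_of_prime _
    ext x
    have := congrArg (fun f : B →ₐ[R] K ⊗[R] L => f x) e1
    simp only [AlgHom.comp_apply] at this
    rw [Ideal.mem_comap, Ideal.mem_comap, this]
    have h3 : (Algebra.TensorProduct.includeRight : L →ₐ[R] K ⊗[R] L) (IsScalarTower.toAlgHom R B L x) ∈ m ↔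
        IsScalarTower.toAlgHom R B L x ∈ (m.comap (Algebra.TensorProduct.includeRight : L →ₐ[R] K ⊗[R] L)) :=
      Iff.rfl
    rw [h3, e2, Ideal.mem_bot]
    exact Ideal.algebraMap_residueField_eq_zero

/-- core step, with a splitting of `f` given -/
theorem core (R : Type u) [CommRing R] (S : Type u) [CommRing S] [Algebra R S]
    (PP : StandardEtalePresentation R S)
    (S' : Type u) [CommRing S'] [Algebra R S'] (d : ℕ) (r : Fin d → S')
    (hr : PP.f.map (algebraMap R S') = ∏ i, (X - C (r i)))
    (q : Ideal S) [q.IsPrime] (q' : Ideal S') [q'.IsPrime] (hqq : q'.under R = q.under R) :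
    ∃ (g' : S') (_ : g' ∉ q') (φ : S →ₐ[R] Localization.Away g'),
      (q'.map (algebraMap S' (Localization.Away g'))).comap φ = q := by
  classical
  obtain ⟨𝔔, h𝔔, hL, hR⟩ := exists_prime_tensor R S S' q q' hqq.symm
  let D := (S ⊗[R] S') ⧸ 𝔔
  let ι₁ : S →ₐ[R] D := (Ideal.Quotient.mkₐ R 𝔔).comp Algebra.TensorProduct.includeLeft
  let ι₂ : S' →ₐ[R] D := (Ideal.Quotient.mkₐ R 𝔔).comp Algebra.TensorProduct.includeRight
  have hι₁ : ∀ s, ι₁ s = 0 ↔ s ∈ q := by
    intro s
    rw [← hL]
    exact Ideal.Quotient.eq_zero_iff_mem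
  have hι₂ : ∀ s, ι₂ s = 0 ↔ s ∈ q' := by
    intro s
    rw [← hR]
    exact Ideal.Quotient.eq_zero_iff_mem
  -- f(ι₁ x) = 0
  have h0 : aeval (ι₁ PP.x) PP.f = 0 := by
    rw [aeval_algHom_apply, PP.hasMap.1, map_zero]
  have h1 : aeval (ι₁ PP.x) PP.f = ∏ i, (ι₁ PP.x - ι₂ (r i)) := by
    have : aeval (ι₁ PP.x) PP.f =
        eval (ι₁ PP.x) ((PP.f.map (algebraMap R S')).map (ι₂ : S' →+* D)) := by
      rw [Polynomial.map_map, ι₂.comp_algebraMap, aeval_def, eval_map]
    rw [this, hr, Polynomial.map_prod, eval_prod]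
    simp
  obtain ⟨i, -, hi⟩ := Finset.prod_eq_zero_iff.mp (h1 ▸ h0)
  have hi : ι₁ PP.x = ι₂ (r i) := sub_eq_zero.mp hi
  let g' : S' := aeval (r i) PP.g
  have hg'unit : IsUnit (ι₂ g') := by
    have : ι₂ g' = ι₁ (aeval PP.x PP.g) := by
      simp only [g']
      rw [← aeval_algHom_apply, ← aeval_algHom_apply, hi]
    rw [this]
    exact PP.hasMap.2.map ι₁
  have hg' : g' ∉ q' := by
    intro h
    rw [← hι₂] at h
    rw [h] at hg'unit
    exact not_isUnit_zero hg'unit
  let y : Localization.Away g' := algebraMap S' (Localization.Away g') (r i)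
  have hy : PP.HasMap y := by
    constructor
    · simp only [y]
      rw [aeval_algebraMap_apply]
      have : aeval (r i) PP.f = 0 := by
        rw [aeval_def, ← eval_map, hr, eval_prod]
        apply Finset.prod_eq_zero (Finset.mem_univ i)
        simp
      rw [this, map_zero]
    · simp only [y]
      rw [aeval_algebraMap_apply]
      exact IsLocalization.Away.algebraMap_isUnit g'
  let φ : S →ₐ[R] Localization.Away g' := (PP.lift y hy).comp PP.equivRing.toAlgHom
  have hφx : φ PP.x = y := by
    simp [φ]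
  let lam : Localization.Away g' →ₐ[R] D :=
    IsLocalization.liftAlgHom (M := Submonoid.powers g') (f := ι₂) (by
      rintro ⟨_, n, rfl⟩
      simpa using hg'unit.pow n)
  have hlam : ∀ s, lam (algebraMap S' _ s) = ι₂ s := by
    intro s
    simp [lam]
  have hcomp : lam.comp φ = ι₁ := by
    apply PP.hom_ext
    rw [AlgHom.comp_apply, hφx, hlam, hi]
  have hker : RingHom.ker lam.toRingHom = q'.map (algebraMap S' (Localization.Away g')) := by
    rw [← IsLocalization.map_under (Submonoid.powers g') (Localization.Away g')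
      (RingHom.ker lam.toRingHom)]
    congr 1
    ext s
    rw [Ideal.mem_comap, RingHom.mem_ker]
    change lam (algebraMap S' _ s) = 0 ↔ _
    rw [hlam, hι₂]
  refine ⟨g', hg', φ, ?_⟩
  rw [← hker]
  ext s
  rw [Ideal.mem_comap, RingHom.mem_ker]
  change (lam.comp φ) s = 0 ↔ _
  rw [hcomp, hι₁]

theorem main (R : Type u) [CommRing R] (S : Type u)
    [CommRing S] [Algebra R S] [Algebra.IsStandardEtale R S] :
    ∃ (S' : Type u) (_ : CommRing S') (_ : Algebra R S'),
      Module.Finite R S' ∧ Algebra.FinitePresentation R S' ∧ Module.Flat R S' ∧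
        Function.Surjective (PrimeSpectrum.comap (algebraMap R S')) ∧
        ∀ (q : Ideal S) [q.IsPrime] (q' : Ideal S') [q'.IsPrime], q'.under R = q.under R →
          ∃ (g' : S') (_ : g' ∉ q') (φ : S →ₐ[R] Localization.Away g'),
            (q'.map (algebraMap S' (Localization.Away g'))).comap φ = q := by
  rcases subsingleton_or_nontrivial R with hR | hR
  · haveI : Subsingleton S := Module.subsingleton R S
    refine ⟨R, inferInstance, inferInstance, inferInstance, inferInstance, inferInstance, ?_, ?_⟩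
    · intro p
      exact absurd (Subsingleton.elim p.asIdeal ⊤) p.2.ne_top
    · intro q hq
      exact absurd (Subsingleton.elim q ⊤) hq.ne_top
  · obtain ⟨PP⟩ := Algebra.IsStandardEtale.nonempty_standardEtalePresentation (R := R) (S := S)
    obtain ⟨S', _, _, hfin, hfree, hnt, r, hr⟩ :=
      exists_splitting PP.f.natDegree R PP.f PP.monic_f rfl
    haveI : Module.FinitePresentation R S' := Module.finitePresentation_of_projective R S'
    refine ⟨S', inferInstance, inferInstance, hfin, inferInstance, inferInstance,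
      PrimeSpectrum.comap_surjective_of_faithfullyFlat, ?_⟩
    intro q _ q' _ hqq
    exact core R S PP S' _ r hr q q' hqq

end Groth.Agent.Lib.Helper18StdEtaleCover
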