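import Groth.Prelude.Def_Found
import Mathlib.RingTheory.Localization.Integral
import Mathlib.RingTheory.Localization.Finiteness
import Mathlib.RingTheory.Localization.LocalizationLocalization
import Mathlib.RingTheory.Localization.Away.Basic
import Mathlib.RingTheory.IntegralClosure.IsIntegralClosure.Basic
import Mathlib.RingTheory.Finiteness.Basic
import Mathlib.RingTheory.Localization.Ideal
import Mathlib.RingTheory.Localization.Submodule
import Mathlib.RingTheory.Ideal.Over
import Mathlib.AlgebraicGeometry.Noetherian
import Mathlib.RingTheory.Localization.Away.AdjoinRoot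
import Mathlib.RingTheory.FinitePresentation
import Mathlib.RingTheory.DedekindDomain.IntegralClosure
import Mathlib.FieldTheory.Perfect
import Mathlib.Algebra.CharP.Algebra
import Mathlib.RingTheory.EssentialFiniteness

/-!
# N-1 / N-2 (Japanese) rings and localization  (helper14)

* `finite_integralClosure_iff_fg` : finiteness of the integral closure as `FG` of a submodule.
* `finite_integralClosure_of_isLocalization` : if the integral closure of `R` in `L` is a finite
  `R`-module then the integral closure of `M⁻¹R` in `L` is a finite `M⁻¹R`-module.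
* `finite_integralClosure_of_away_cover` : finiteness of the integral closure of `R` in `L`
  can be checked on a finite cover by principal opens.
* `isFractionRing_of_isLocalization_of_isFractionRing` : a fraction field of a localization
  `M⁻¹R` (a domain) is a fraction field of `R`.
* `isN1_iff_of_isFractionRing`, `IsN2.finite`: N-1 / N-2 through an arbitrary fraction field.
* `isN1_of_isLocalization`, `isN2_of_isLocalization`, `isN1_of_away_cover`, `isN2_of_away_cover`.
-/

set_option autoImplicit false
universe u

namespace Groth.Agent.Lib.Helper14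

open CAlg

section General

variable {R S L : Type*} [CommRing R] [CommRing S] [CommRing L]
  [Algebra R S] [Algebra R L] [Algebra S L] [IsScalarTower R S L]

theorem finite_integralClosure_iff_fg (R L : Type*) [CommRing R] [CommRing L] [Algebra R L] :
    Module.Finite R (integralClosure R L) ↔ (Subalgebra.toSubmodule (integralClosure R L)).FG :=
  Module.Finite.iff_fg (N := Subalgebra.toSubmodule (integralClosure R L))

/-- If the integral closure of `R` in `L` is a finite `R`-module then the integral closure of
a localization `S = M⁻¹R` in `L` is a finite `S`-module. -/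
theorem finite_integralClosure_of_isLocalization (M : Submonoid R) [IsLocalization M S]
    (h : Module.Finite R (integralClosure R L)) : Module.Finite S (integralClosure S L) := by
  rw [finite_integralClosure_iff_fg] at h ⊢
  obtain ⟨T, hT⟩ := h
  refine ⟨T, le_antisymm ?_ ?_⟩
  · rw [Submodule.span_le]
    intro t ht
    have h1 : t ∈ Subalgebra.toSubmodule (integralClosure R L) := hT ▸ Submodule.subset_span ht
    exact IsIntegral.tower_top (A := S) h1
  · intro y hy
    have hy' : IsIntegral S y := hy
    obtain ⟨m, hm⟩ := IsIntegral.exists_multiple_integral_of_isLocalization M y hy'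
    have h2 : m • y ∈ Submodule.span R (T : Set L) := by
      rw [hT]; exact hm
    have h3 : m • y ∈ Submodule.span S (T : Set L) :=
      Submodule.span_le_restrictScalars R S _ h2
    have hu : IsUnit (algebraMap R S m) := IsLocalization.map_units S m
    obtain ⟨u, hu'⟩ := hu
    have h4 : y = (↑u⁻¹ : S) • (m • y) := by
      rw [Submonoid.smul_def, ← algebraMap_smul S (m : R) y, ← hu', smul_smul, Units.inv_mul,
        one_smul]
    rw [h4]
    exact Submodule.smul_mem _ _ h3

/-- Finiteness of the integral closure can be checked on a finite cover by principal opens. -/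
theorem finite_integralClosure_of_away_cover {ι : Type*} [Finite ι] (f : ι → R)
    (hf : Ideal.span (Set.range f) = ⊤)
    (Rf : ι → Type*) [∀ i, CommRing (Rf i)] [∀ i, Algebra R (Rf i)]
    [∀ i, IsLocalization.Away (f i) (Rf i)] [∀ i, Algebra (Rf i) L]
    [∀ i, IsScalarTower R (Rf i) L]
    (h : ∀ i, Module.Finite (Rf i) (integralClosure (Rf i) L)) :
    Module.Finite R (integralClosure R L) := by
  classical
  cases nonempty_fintype ι
  rw [finite_integralClosure_iff_fg]
  simp only [finite_integralClosure_iff_fg] at h
  choose T hT using h
  -- every generator becomes integral over `R` after multiplying by a power of `f i`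
  have key : ∀ i, ∀ t ∈ T i, ∃ n : ℕ, IsIntegral R ((f i) ^ n • t) := by
    intro i t ht
    have h1 : IsIntegral (Rf i) t := by
      have : t ∈ Subalgebra.toSubmodule (integralClosure (Rf i) L) :=
        hT i ▸ Submodule.subset_span ht
      exact this
    obtain ⟨⟨m, n, rfl⟩, hm⟩ :=
      IsIntegral.exists_multiple_integral_of_isLocalization (Submonoid.powers (f i)) t h1
    exact ⟨n, hm⟩
  choose! n hn using key
  -- a uniform exponent for each `i`
  let N : ι → ℕ := fun i => (T i).sup (n i)
  have hN : ∀ i, ∀ t ∈ T i, IsIntegral R ((f i) ^ (N i) • t) := by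
    intro i t ht
    have hle : n i t ≤ N i := Finset.le_sup (f := n i) ht
    obtain ⟨k, hk⟩ := Nat.exists_eq_add_of_le hle
    have : (f i) ^ (N i) • t = algebraMap R L ((f i) ^ k) * ((f i) ^ (n i t) • t) := by
      rw [hk, pow_add, mul_comm, mul_smul, Algebra.smul_def ((f i) ^ k)]
    rw [this]
    exact isIntegral_algebraMap.mul (hn i t ht)
  let U : Finset L := Finset.univ.biUnion fun i => (T i).image fun t => (f i) ^ (N i) • t
  refine ⟨U, le_antisymm ?_ ?_⟩
  · rw [Submodule.span_le]
    intro u hu
    simp only [U, Finset.coe_biUnion, Finset.coe_univ, Set.mem_univ, Set.iUnion_true,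
      Finset.coe_image, Set.mem_iUnion, Set.mem_image, Finset.mem_coe] at hu
    obtain ⟨i, t, ht, rfl⟩ := hu
    exact hN i t ht
  · intro x hx
    have hx' : IsIntegral R x := hx
    -- the ideal of all `r` with `r • x ∈ span U`
    let I : Ideal R := (Submodule.span R (U : Set L)).comap (LinearMap.toSpanSingleton R L x)
    have hI : ∀ i, ∃ k : ℕ, (f i) ^ k ∈ I := by
      intro i
      have h1 : x ∈ Submodule.span (Rf i) (T i : Set L) := by
        rw [hT i]
        exact IsIntegral.tower_top (A := Rf i) hx'
      obtain ⟨⟨m, k, rfl⟩, hk⟩ :=
        multiple_mem_span_of_mem_localization_span (Submonoid.powers (f i)) (Rf i) (T i : Set L)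
          x h1
      refine ⟨N i + k, ?_⟩
      change ((f i) ^ (N i + k)) • x ∈ Submodule.span R (U : Set L)
      rw [pow_add, mul_smul]
      have hk' : (f i) ^ k • x ∈ Submodule.span R (T i : Set L) := hk
      -- multiply a combination of the `t` by `f i ^ N i`
      refine Submodule.span_induction (p := fun y _ => (f i) ^ (N i) • y ∈
        Submodule.span R (U : Set L)) ?_ ?_ ?_ ?_ hk'
      · intro t ht
        apply Submodule.subset_span
        simp only [U, Finset.coe_biUnion, Finset.coe_univ, Set.mem_univ, Set.iUnion_true,
          Finset.coe_image, Set.mem_iUnion, Set.mem_image, Finset.mem_coe]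
        exact ⟨i, t, ht, rfl⟩
      · simp
      · intro a b _ _ ha hb
        rw [smul_add]; exact Submodule.add_mem _ ha hb
      · intro r a _ ha
        rw [smul_comm]; exact Submodule.smul_mem _ _ ha
    have hI' : ∀ y : Set.range f, ∃ k : ℕ, (y : R) ^ k ∈ I := by
      rintro ⟨_, i, rfl⟩
      exact hI i
    choose k hk using hI'
    have htop : I = ⊤ := by
      rw [_root_.eq_top_iff, ← Ideal.span_range_pow_eq_top (Set.range f) hf k, Ideal.span_le]
      rintro _ ⟨y, rfl⟩
      exact hk y
    have h1 : (1 : R) ∈ I := by rw [htop]; trivial
    have : (1 : R) • x ∈ Submodule.span R (U : Set L) := h1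
    simpa using this

end General

section FractionRing

/-- A fraction field of a localization of a domain (which is a domain) is a fraction
field of the domain. -/
theorem isFractionRing_of_isLocalization_of_isFractionRing {R : Type*} [CommRing R] [IsDomain R]
    (M : Submonoid R) (S K : Type*) [CommRing S] [IsDomain S] [CommRing K] [Algebra R S]
    [Algebra S K] [Algebra R K] [IsScalarTower R S K] [IsLocalization M S] [IsFractionRing S K] :
    IsFractionRing R K := by
  have hM : M ≤ nonZeroDivisors R := by
    intro x hx
    rw [mem_nonZeroDivisors_iff_ne_zero]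
    rintro rfl
    have := IsLocalization.map_units S (⟨0, hx⟩ : M)
    simp at this
  have hinj : Function.Injective (algebraMap R S) := IsLocalization.injective S hM
  have h1 := IsLocalization.localization_localization_isLocalization_of_has_all_units M
    (nonZeroDivisors S) K (fun x hx => hx.mem_nonZeroDivisors)
  have h2 : (nonZeroDivisors S).comap (algebraMap R S) = nonZeroDivisors R := by
    ext x
    simp only [Submonoid.mem_comap, mem_nonZeroDivisors_iff_ne_zero, ne_eq,
      map_eq_zero_iff _ hinj]
  rw [h2] at h1
  exact h1

theorem not_zero_mem_of_isLocalization_of_nontrivial {R : Type*} [CommRing R]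
    (M : Submonoid R) (S : Type*) [CommRing S] [Nontrivial S] [Algebra R S] [IsLocalization M S] :
    (0 : R) ∉ M := by
  intro hx
  have := IsLocalization.map_units S (⟨0, hx⟩ : M)
  simp at this

/-- N-1 can be tested on any fraction field. -/
theorem isN1_iff_of_isFractionRing (R : Type u) [CommRing R] [IsDomain R] (K : Type*) [Field K]
    [Algebra R K] [IsFractionRing R K] :
    IsN1 R ↔ Module.Finite R (integralClosure R K) := by
  let e : FractionRing R ≃ₐ[R] K := FractionRing.algEquiv R K
  exact Module.Finite.equiv_iff e.mapIntegralClosure.toLinearEquiv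

/-- N-2 can be tested on any fraction field and any finite extension of it. -/
theorem IsN2.finite {R : Type u} [CommRing R] [IsDomain R] (h : IsN2 R) (K L : Type u) [Field K]
    [Field L] [Algebra R K] [IsFractionRing R K] [Algebra K L] [Algebra R L] [IsScalarTower R K L]
    [FiniteDimensional K L] : Module.Finite R (integralClosure R L) := by
  let e : FractionRing R ≃ₐ[R] K := FractionRing.algEquiv R K
  letI : Algebra (FractionRing R) L := ((algebraMap K L).comp e.toRingHom).toAlgebra
  have hmap : ∀ x, algebraMap (FractionRing R) L x = algebraMap K L (e x) := fun _ => rfl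
  haveI : IsScalarTower R (FractionRing R) L := IsScalarTower.of_algebraMap_eq fun r => by
    rw [hmap, e.commutes, ← IsScalarTower.algebraMap_apply]
  letI : Algebra K (FractionRing R) := e.symm.toRingHom.toAlgebra
  have hmap' : ∀ x, algebraMap K (FractionRing R) x = e.symm x := fun _ => rfl
  haveI : IsScalarTower K (FractionRing R) L := IsScalarTower.of_algebraMap_eq fun r => by
    rw [hmap, hmap', e.apply_symm_apply]
  haveI : FiniteDimensional (FractionRing R) L :=
    Module.Finite.of_restrictScalars_finite K (FractionRing R) L
  exact h L inferInstance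

/-- A localization of an N-1 domain which is a domain is N-1. -/
theorem isN1_of_isLocalization (R : Type u) [CommRing R] [IsDomain R] (M : Submonoid R)
    (S : Type u) [CommRing S] [IsDomain S] [Algebra R S] [IsLocalization M S]
    (h : IsN1 R) : IsN1 S := by
  have h0 : (0 : R) ∉ M := not_zero_mem_of_isLocalization_of_nontrivial M S
  have hM : M ≤ nonZeroDivisors R := le_nonZeroDivisors_of_noZeroDivisors h0
  let K := FractionRing R
  letI : Algebra S K := (IsLocalization.lift (M := M) (S := S) (g := algebraMap R K)
    (fun y => IsLocalization.map_units K (⟨y, hM y.2⟩ : nonZeroDivisors R))).toAlgebra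
  haveI : IsScalarTower R S K := IsScalarTower.of_algebraMap_eq fun r =>
    (IsLocalization.lift_eq _ r).symm
  haveI : IsFractionRing S K := IsFractionRing.isFractionRing_of_isDomain_of_isLocalization M S K
  rw [isN1_iff_of_isFractionRing S K]
  exact finite_integralClosure_of_isLocalization M h

/-- A localization of an N-2 domain which is a domain is N-2. -/
theorem isN2_of_isLocalization (R : Type u) [CommRing R] [IsDomain R] (M : Submonoid R)
    (S : Type u) [CommRing S] [IsDomain S] [Algebra R S] [IsLocalization M S]
    (h : IsN2 R) : IsN2 S := by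
  intro L _ _ _ _ hfd
  let K := FractionRing S
  haveI : IsScalarTower R S K := inferInstance
  letI : Algebra R L := ((algebraMap S L).comp (algebraMap R S)).toAlgebra
  haveI : IsScalarTower R S L := IsScalarTower.of_algebraMap_eq fun r => rfl
  haveI : IsScalarTower R K L := IsScalarTower.of_algebraMap_eq fun r => by
    change algebraMap S L (algebraMap R S r) = algebraMap K L (algebraMap R K r)
    rw [IsScalarTower.algebraMap_apply R S K, ← IsScalarTower.algebraMap_apply S K L]
  haveI : IsFractionRing R K := isFractionRing_of_isLocalization_of_isFractionRing M S K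
  have := IsN2.finite h K L
  exact finite_integralClosure_of_isLocalization M this

/-- N-1 can be checked on a finite cover by principal opens. -/
theorem isN1_of_away_cover (R : Type u) [CommRing R] [IsDomain R]
    {ι : Type*} [Finite ι] (f : ι → R) (hf : Ideal.span (Set.range f) = ⊤)
    (Rf : ι → Type u) [∀ i, CommRing (Rf i)] [∀ i, IsDomain (Rf i)] [∀ i, Algebra R (Rf i)]
    [∀ i, IsLocalization.Away (f i) (Rf i)] (h : ∀ i, IsN1 (Rf i)) : IsN1 R := by
  let K := FractionRing R
  have hf0 : ∀ i, f i ≠ 0 := fun i h0 =>
    not_zero_mem_of_isLocalization_of_nontrivial (Submonoid.powers (f i)) (Rf i)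
      (h0 ▸ Submonoid.mem_powers (f i))
  have hunit : ∀ i, IsUnit (algebraMap R K (f i)) := fun i =>
    IsUnit.mk0 _ (by simpa using hf0 i)
  letI : ∀ i, Algebra (Rf i) K := fun i =>
    (IsLocalization.Away.lift (f i) (g := algebraMap R K) (hunit i)).toAlgebra
  haveI : ∀ i, IsScalarTower R (Rf i) K := fun i => IsScalarTower.of_algebraMap_eq fun r =>
    (IsLocalization.Away.lift_eq (f i) (hunit i) r).symm
  haveI : ∀ i, IsFractionRing (Rf i) K := fun i =>
    IsFractionRing.isFractionRing_of_isDomain_of_isLocalization (Submonoid.powers (f i)) (Rf i) K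
  have h' : ∀ i, Module.Finite (Rf i) (integralClosure (Rf i) K) := fun i =>
    (isN1_iff_of_isFractionRing (Rf i) K).mp (h i)
  exact finite_integralClosure_of_away_cover f hf Rf h'

/-- N-2 can be checked on a finite cover by principal opens. -/
theorem isN2_of_away_cover (R : Type u) [CommRing R] [IsDomain R]
    {ι : Type*} [Finite ι] (f : ι → R) (hf : Ideal.span (Set.range f) = ⊤)
    (Rf : ι → Type u) [∀ i, CommRing (Rf i)] [∀ i, IsDomain (Rf i)] [∀ i, Algebra R (Rf i)]
    [∀ i, IsLocalization.Away (f i) (Rf i)] (h : ∀ i, IsN2 (Rf i)) : IsN2 R := by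
  intro L _ _ _ _ hfd
  let K := FractionRing R
  have hf0 : ∀ i, f i ≠ 0 := fun i h0 =>
    not_zero_mem_of_isLocalization_of_nontrivial (Submonoid.powers (f i)) (Rf i)
      (h0 ▸ Submonoid.mem_powers (f i))
  have hunit : ∀ i, IsUnit (algebraMap R K (f i)) := fun i =>
    IsUnit.mk0 _ (by simpa using hf0 i)
  letI : ∀ i, Algebra (Rf i) K := fun i =>
    (IsLocalization.Away.lift (f i) (g := algebraMap R K) (hunit i)).toAlgebra
  haveI : ∀ i, IsScalarTower R (Rf i) K := fun i => IsScalarTower.of_algebraMap_eq fun r =>
    (IsLocalization.Away.lift_eq (f i) (hunit i) r).symm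
  haveI : ∀ i, IsFractionRing (Rf i) K := fun i =>
    IsFractionRing.isFractionRing_of_isDomain_of_isLocalization (Submonoid.powers (f i)) (Rf i) K
  letI : ∀ i, Algebra (Rf i) L := fun i =>
    ((algebraMap K L).comp (algebraMap (Rf i) K)).toAlgebra
  haveI : ∀ i, IsScalarTower (Rf i) K L := fun i => IsScalarTower.of_algebraMap_eq fun r => rfl
  haveI : ∀ i, IsScalarTower R (Rf i) L := fun i => IsScalarTower.of_algebraMap_eq fun r => by
    change algebraMap R L r = algebraMap K L (algebraMap (Rf i) K (algebraMap R (Rf i) r))
    rw [← IsScalarTower.algebraMap_apply R (Rf i) K, ← IsScalarTower.algebraMap_apply R K L]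
  have h' : ∀ i, Module.Finite (Rf i) (integralClosure (Rf i) L) := fun i =>
    IsN2.finite (h i) K L
  exact finite_integralClosure_of_away_cover f hf Rf h'

end FractionRing

section Basic

/-- N-2 transfers along ring isomorphisms. -/
theorem isN2_of_ringEquiv {R S : Type u} [CommRing R] [IsDomain R] [CommRing S] [IsDomain S]
    (e : R ≃+* S) (h : IsN2 R) : IsN2 S := by
  letI : Algebra R S := e.toRingHom.toAlgebra
  haveI : IsLocalization (⊥ : Submonoid R) R := IsLocalization.self bot_le
  haveI : IsLocalization (⊥ : Submonoid R) S :=
    IsLocalization.isLocalization_of_algEquiv ⊥ ({ e with commutes' := fun _ => rfl } : R ≃ₐ[R] S)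
  exact isN2_of_isLocalization R ⊥ S h

/-- N-1 transfers along ring isomorphisms. -/
theorem isN1_of_ringEquiv {R S : Type u} [CommRing R] [IsDomain R] [CommRing S] [IsDomain S]
    (e : R ≃+* S) (h : IsN1 R) : IsN1 S := by
  letI : Algebra R S := e.toRingHom.toAlgebra
  haveI : IsLocalization (⊥ : Submonoid R) R := IsLocalization.self bot_le
  haveI : IsLocalization (⊥ : Submonoid R) S :=
    IsLocalization.isLocalization_of_algEquiv ⊥ ({ e with commutes' := fun _ => rfl } : R ≃ₐ[R] S)
  exact isN1_of_isLocalization R ⊥ S h

/-- A field is N-2. -/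
theorem isN2_of_isField (R : Type u) [CommRing R] [IsDomain R] (hR : IsField R) : IsN2 R := by
  intro L _ _ _ _ hfd
  have hsurj : Function.Surjective (algebraMap R (FractionRing R)) :=
    (IsFractionRing.surjective_iff_isField (R := R) (K := FractionRing R)).mpr hR
  haveI : Module.Finite R (FractionRing R) :=
    Module.Finite.of_surjective (Algebra.linearMap R (FractionRing R)) hsurj
  haveI : Module.Finite R L := Module.Finite.trans (FractionRing R) L
  haveI : Algebra.IsIntegral R L := Algebra.IsIntegral.of_finite R L
  have htop : integralClosure R L = ⊤ := integralClosure_eq_top_iff.mpr inferInstance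
  rw [htop]
  exact Module.Finite.equiv (Subalgebra.topEquiv (R := R) (A := L)).symm.toLinearEquiv

/-- N-2 implies N-1. -/
theorem IsN2.isN1 {R : Type u} [CommRing R] [IsDomain R] (h : IsN2 R) : IsN1 R :=
  h (FractionRing R) inferInstance

/-- An integrally closed Noetherian domain with perfect fraction field is N-2. -/
theorem isN2_of_isIntegrallyClosed_of_perfectField (R : Type u) [CommRing R] [IsDomain R]
    [IsNoetherianRing R] [IsIntegrallyClosed R] [PerfectField (FractionRing R)] : IsN2 R := by
  intro L _ _ _ _ hfd
  haveI : Algebra.IsSeparable (FractionRing R) L := inferInstance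
  exact IsIntegralClosure.finite R (FractionRing R) L (integralClosure R L)

/-- For a Noetherian domain of characteristic zero, N-1 implies N-2. -/
theorem isN2_of_isN1_of_charZero (R : Type u) [CommRing R] [IsDomain R] [IsNoetherianRing R]
    [CharZero R] (h : IsN1 R) : IsN2 R := by
  intro L _ _ _ _ hfd
  let K := FractionRing R
  let R' := integralClosure R K
  haveI hfin : Module.Finite R R' := h
  haveI : IsNoetherian R R' := isNoetherian_of_isNoetherianRing_of_finite R R'
  haveI : IsNoetherianRing R' := isNoetherianRing_iff.mpr (isNoetherian_of_tower R inferInstance)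
  haveI : IsFractionRing R' K := integralClosure.isFractionRing_of_finite_extension K K
  haveI : IsIntegrallyClosed R' := integralClosure.isIntegrallyClosedOfFiniteExtension K (L := K)
  haveI : Algebra.IsSeparable K L := inferInstance
  have h1 : Module.Finite R' (integralClosure R' L) :=
    IsIntegralClosure.finite R' K L (integralClosure R' L)
  have h2 : Module.Finite R (integralClosure R' L) := Module.Finite.trans R' _
  rw [finite_integralClosure_iff_fg]
  have h3 : Subalgebra.toSubmodule (integralClosure R L) =
      (Subalgebra.toSubmodule (integralClosure R' L)).restrictScalars R := by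
    ext x
    exact ⟨fun hx => IsIntegral.tower_top (A := R') hx, fun hx => isIntegral_trans (R := R) x hx⟩
  rw [h3]
  exact Module.Finite.iff_fg.mp h2

end Basic

section Nagata

/-- A localization of a Nagata ring is Nagata. -/
theorem isNagata_of_isLocalization (R : Type u) [CommRing R] (M : Submonoid R)
    (S : Type u) [CommRing S] [Algebra R S] [IsLocalization M S]
    (h : IsNagata R) : IsNagata S := by
  obtain ⟨hnoeth, hN2⟩ := h
  refine ⟨IsLocalization.isNoetherianRing M S hnoeth, ?_⟩
  intro q hq
  let p : Ideal R := q.comap (algebraMap R S)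
  haveI : p.IsPrime := Ideal.comap_isPrime _ _
  haveI : IsLocalization (M.map (Ideal.Quotient.mk p)) (S ⧸ q) :=
    IsLocalization.of_surjective M S (Ideal.Quotient.mk p) Ideal.Quotient.mk_surjective
      (Ideal.Quotient.mk q) Ideal.Quotient.mk_surjective rfl (by
        rw [Ideal.mk_ker, Ideal.mk_ker]
        exact (IsLocalization.map_under M S q).ge)
  exact isN2_of_isLocalization (R ⧸ p) (M.map (Ideal.Quotient.mk p)) (S ⧸ q) (hN2 p)

/-- Being Nagata can be checked on a finite cover by principal opens. -/
theorem isNagata_of_away_cover' (R : Type u) [CommRing R]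
    {ι : Type*} [Finite ι] (f : ι → R) (hf : Ideal.span (Set.range f) = ⊤)
    (Rf : ι → Type u) [∀ i, CommRing (Rf i)] [∀ i, Algebra R (Rf i)]
    [∀ i, IsLocalization.Away (f i) (Rf i)]
    (h : ∀ i, IsNagata (Rf i)) : IsNagata R := by
  classical
  cases nonempty_fintype ι
  refine ⟨?_, ?_⟩
  · refine AlgebraicGeometry.isNoetherianRing_of_away (Finset.univ.image f) (by simpa using hf) ?_
    rintro ⟨s, hs⟩
    obtain ⟨i, -, rfl⟩ := Finset.mem_image.mp hs
    haveI := (h i).1
    exact isNoetherianRing_of_ringEquiv (Rf i)
      (IsLocalization.algEquiv (Submonoid.powers (f i)) (Rf i)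
        (Localization.Away (f i))).toRingEquiv
  · intro p hp
    let J := {i : ι // f i ∉ p}
    let fJ : J → R ⧸ p := fun i => Ideal.Quotient.mk p (f i.1)
    have hfJ : Ideal.span (Set.range fJ) = ⊤ := by
      have h1 : Ideal.span (Set.range fun i => Ideal.Quotient.mk p (f i)) = ⊤ := by
        have := congrArg (Ideal.map (Ideal.Quotient.mk p)) hf
        rw [Ideal.map_span, Ideal.map_top, ← Set.range_comp] at this
        exact this
      rw [_root_.eq_top_iff, ← h1, Ideal.span_le]
      rintro _ ⟨i, rfl⟩
      by_cases hi : f i ∈ p
      · have : Ideal.Quotient.mk p (f i) = 0 := Ideal.Quotient.eq_zero_iff_mem.mpr hi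
        simp only [this, SetLike.mem_coe, zero_mem]
      · exact Ideal.subset_span ⟨⟨i, hi⟩, rfl⟩
    have hdisj : ∀ i : J, Disjoint (Submonoid.powers (f i.1) : Set R) (p : Set R) := by
      intro i
      rw [Set.disjoint_left]
      rintro _ ⟨n, rfl⟩ hmem
      exact i.2 (hp.mem_of_pow_mem n hmem)
    haveI hq : ∀ i : J, (p.map (algebraMap R (Rf i.1))).IsPrime := fun i =>
      IsLocalization.isPrime_of_isPrime_disjoint (Submonoid.powers (f i.1)) _ p hp (hdisj i)
    let Rf' : J → Type u := fun i => Rf i.1 ⧸ p.map (algebraMap R (Rf i.1))
    haveI : ∀ i : J, IsLocalization.Away (fJ i) (Rf' i) := by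
      intro i
      have h1 : IsLocalization (Algebra.algebraMapSubmonoid (R ⧸ p) (Submonoid.powers (f i.1)))
          (Rf' i) := inferInstance
      have h2 : Algebra.algebraMapSubmonoid (R ⧸ p) (Submonoid.powers (f i.1)) =
          Submonoid.powers (fJ i) := by
        simp only [Algebra.algebraMapSubmonoid, Submonoid.map_powers]
        rfl
      rw [h2] at h1
      exact h1
    exact isN2_of_away_cover (R ⧸ p) fJ hfJ Rf' (fun i => (h i.1).2 _)

/-- Being Nagata can be checked on a finite cover by principal opens. -/
theorem isNagata_of_away_cover (R : Type u) [CommRing R]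
    {ι : Type*} [Finite ι] (f : ι → R) (hf : Ideal.span (Set.range f) = ⊤)
    (h : ∀ i, IsNagata (Localization.Away (f i))) : IsNagata R :=
  isNagata_of_away_cover' R f hf (fun i => Localization.Away (f i)) h

end Nagata

section UniversallyJapanese

/-- If `A` is a finite `R`-algebra and the integral closure of `A` in `L` is finite over `A`,
then the integral closure of `R` in `L` is finite over `R`. -/
theorem finite_integralClosure_of_finite_tower (R A L : Type*) [CommRing R] [CommRing A]
    [CommRing L] [Algebra R A] [Algebra A L] [Algebra R L] [IsScalarTower R A L]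
    [Module.Finite R A] (h : Module.Finite A (integralClosure A L)) :
    Module.Finite R (integralClosure R L) := by
  haveI : Algebra.IsIntegral R A := Algebra.IsIntegral.of_finite R A
  have h2 : Module.Finite R (integralClosure A L) := Module.Finite.trans A _
  rw [finite_integralClosure_iff_fg]
  have h3 : Subalgebra.toSubmodule (integralClosure R L) =
      (Subalgebra.toSubmodule (integralClosure A L)).restrictScalars R := by
    ext x
    exact ⟨fun hx => IsIntegral.tower_top (A := A) hx, fun hx => isIntegral_trans (R := R) x hx⟩
  rw [h3]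
  exact Module.Finite.iff_fg.mp h2

/-- If `L` is a field, spanned over `K = Frac S` by elements of the `S`-subalgebra `S'`,
then `L` is a fraction field of `S'`. -/
theorem isFractionRing_subalgebra_of_span_eq_top (S K L : Type*) [CommRing S] [IsDomain S]
    [Field K] [Field L] [Algebra S K] [IsFractionRing S K] [Algebra K L] [Algebra S L]
    [IsScalarTower S K L] (S' : Subalgebra S L)
    (hspan : Submodule.span K (S' : Set L) = ⊤) : IsFractionRing S' L := by
  have hinj : Function.Injective (algebraMap S L) := by
    rw [IsScalarTower.algebraMap_eq S K L]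
    exact (algebraMap K L).injective.comp (IsFractionRing.injective S K)
  have key : ∀ z : L, ∃ d : S, d ≠ 0 ∧ d • z ∈ S' := by
    intro z
    have hz : z ∈ Submodule.span K (S' : Set L) := hspan ▸ Submodule.mem_top
    induction hz using Submodule.span_induction with
    | mem x hx => exact ⟨1, one_ne_zero, by simpa using hx⟩
    | zero => exact ⟨1, one_ne_zero, by simp⟩
    | add x y _ _ hx hy =>
      obtain ⟨d1, hd1, h1⟩ := hx
      obtain ⟨d2, hd2, h2⟩ := hy
      refine ⟨d1 * d2, mul_ne_zero hd1 hd2, ?_⟩
      rw [smul_add]
      refine S'.add_mem ?_ ?_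
      · rw [mul_comm, mul_smul]; exact S'.smul_mem h1 d2
      · rw [mul_smul]; exact S'.smul_mem h2 d1
    | smul k x _ hx =>
      obtain ⟨d, hd, h1⟩ := hx
      obtain ⟨a, t, rfl⟩ := IsLocalization.exists_mk'_eq (nonZeroDivisors S) k
      refine ⟨t * d, mul_ne_zero (nonZeroDivisors.ne_zero t.2) hd, ?_⟩
      have : ((t : S) * d) • (IsLocalization.mk' K a t • x) = a • (d • x) := by
        simp only [Algebra.smul_def, IsScalarTower.algebraMap_apply S K L, map_mul]
        have h := IsLocalization.mk'_spec K a t
        rw [← h, map_mul]
        ring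
      rw [this]
      exact S'.smul_mem h1 a
  refine IsFractionRing.of_field (R := S') (K := L) fun z => ?_
  obtain ⟨d, hd, h1⟩ := key z
  refine ⟨⟨d • z, h1⟩, algebraMap S S' d, ?_⟩
  have hd' : algebraMap S L d ≠ 0 := fun h0 => hd (hinj (by rw [h0, map_zero]))
  have e1 : algebraMap S' L (algebraMap S S' d) = algebraMap S L d := rfl
  have e2 : algebraMap S' L ⟨d • z, h1⟩ = d • z := rfl
  rw [e1, e2, Algebra.smul_def, mul_div_assoc, mul_comm, div_mul_cancel₀ _ hd']

/-- A ring all of whose finite type domains are N-1 is universally Japanese. -/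
theorem isUniversallyJapanese_of_forall_isN1 (R : Type u) [CommRing R]
    (h : ∀ (S : Type u) [CommRing S] [IsDomain S] [Algebra R S], Algebra.FiniteType R S → IsN1 S) :
    IsUniversallyJapanese R := by
  intro S _ _ _ hS L _ _ _ _ hfd
  let K := FractionRing S
  obtain ⟨s, b, hb⟩ := FiniteDimensional.exists_is_basis_integral S K L
  let S' : Subalgebra S L := Algebra.adjoin S (Set.range b)
  haveI hfin : Module.Finite S S' := by
    refine (Module.Finite.iff_fg (N := Subalgebra.toSubmodule S')).mpr ?_
    exact fg_adjoin_of_finite (Set.finite_range b) (by rintro _ ⟨i, rfl⟩; exact hb i)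
  letI : Algebra R L := ((algebraMap S L).comp (algebraMap R S)).toAlgebra
  haveI : IsScalarTower R S L := IsScalarTower.of_algebraMap_eq fun _ => rfl
  have hft : Algebra.FiniteType R S' :=
    Algebra.FiniteType.trans (S := S) hS inferInstance
  have hN1 : IsN1 S' := h S' hft
  haveI : IsFractionRing S' L := by
    refine isFractionRing_subalgebra_of_span_eq_top S K L S' ?_
    rw [_root_.eq_top_iff, ← b.span_eq]
    exact Submodule.span_mono Algebra.subset_adjoin
  have h1 : Module.Finite S' (integralClosure S' L) := (isN1_iff_of_isFractionRing S' L).mp hN1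
  exact finite_integralClosure_of_finite_tower S S' L h1

end UniversallyJapanese

section UniversallyJapanese'

/-- A finite type algebra over a universally Japanese ring is universally Japanese. -/
theorem isUniversallyJapanese_of_finiteType (R : Type u) [CommRing R]
    (hR : IsUniversallyJapanese R) (T : Type u) [CommRing T] [Algebra R T]
    [Algebra.FiniteType R T] : IsUniversallyJapanese T := by
  intro S _ _ _ hS
  letI : Algebra R S := ((algebraMap T S).comp (algebraMap R T)).toAlgebra
  haveI : IsScalarTower R T S := IsScalarTower.of_algebraMap_eq fun r => rfl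
  exact hR S (Algebra.FiniteType.trans (S := T) inferInstance hS)

/-- A localization away from an element of a universally Japanese ring is universally Japanese. -/
theorem isUniversallyJapanese_of_away (R : Type u) [CommRing R]
    (hR : IsUniversallyJapanese R) (r : R) (T : Type u) [CommRing T] [Algebra R T]
    [IsLocalization.Away r T] : IsUniversallyJapanese T := by
  haveI : Algebra.FinitePresentation R T := IsLocalization.Away.finitePresentation r
  exact isUniversallyJapanese_of_finiteType R hR T

/-- Being universally Japanese can be checked on a finite cover by principal opens. -/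
theorem isUniversallyJapanese_of_away_cover (R : Type u) [CommRing R]
    {ι : Type*} [Finite ι] (f : ι → R) (hf : Ideal.span (Set.range f) = ⊤)
    (Rf : ι → Type u) [∀ i, CommRing (Rf i)] [∀ i, Algebra R (Rf i)]
    [∀ i, IsLocalization.Away (f i) (Rf i)]
    (h : ∀ i, IsUniversallyJapanese (Rf i)) : IsUniversallyJapanese R := by
  intro S _ _ _ hS
  let J := {i : ι // algebraMap R S (f i) ≠ 0}
  let fJ : J → S := fun i => algebraMap R S (f i.1)
  have hfJ : Ideal.span (Set.range fJ) = ⊤ := by
    have h1 : Ideal.span (Set.range fun i => algebraMap R S (f i)) = ⊤ := by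
      have := congrArg (Ideal.map (algebraMap R S)) hf
      rw [Ideal.map_span, Ideal.map_top, ← Set.range_comp] at this
      exact this
    rw [_root_.eq_top_iff, ← h1, Ideal.span_le]
    rintro _ ⟨i, rfl⟩
    by_cases hi : algebraMap R S (f i) = 0
    · simp only [hi, SetLike.mem_coe, zero_mem]
    · exact Ideal.subset_span ⟨⟨i, hi⟩, rfl⟩
  let Sf : J → Type u := fun i => Localization.Away (fJ i)
  haveI : ∀ i : J, IsDomain (Sf i) := fun i =>
    IsLocalization.isDomain_localization (powers_le_nonZeroDivisors_of_noZeroDivisors i.2)
  have hunit : ∀ i : J, IsUnit (((algebraMap S (Sf i)).comp (algebraMap R S)) (f i.1)) := fun i =>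
    IsLocalization.Away.algebraMap_isUnit (fJ i)
  letI : ∀ i : J, Algebra (Rf i.1) (Sf i) := fun i =>
    (IsLocalization.Away.lift (f i.1) (hunit i)).toAlgebra
  haveI : ∀ i : J, IsScalarTower R (Rf i.1) (Sf i) := fun i =>
    IsScalarTower.of_algebraMap_eq fun r => by
      rw [IsScalarTower.algebraMap_apply R S (Sf i)]
      exact (IsLocalization.Away.lift_eq (f i.1) (hunit i) r).symm
  have hft : ∀ i : J, Algebra.FiniteType (Rf i.1) (Sf i) := fun i => by
    haveI : Algebra.FinitePresentation S (Sf i) := IsLocalization.Away.finitePresentation (fJ i)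
    haveI : Algebra.FiniteType R (Sf i) := Algebra.FiniteType.trans (S := S) hS inferInstance
    exact Algebra.FiniteType.of_restrictScalars_finiteType R (Rf i.1) (Sf i)
  exact isN2_of_away_cover S fJ hfJ Sf (fun i => h i.1 (Sf i) (hft i))

/-- A domain essentially of finite type over a universally Japanese ring is N-2. -/
theorem isN2_of_essFiniteType (R : Type u) [CommRing R] (hR : IsUniversallyJapanese R)
    (S : Type u) [CommRing S] [IsDomain S] [Algebra R S] [Algebra.EssFiniteType R S] : IsN2 S := by
  let S₀ := Algebra.EssFiniteType.subalgebra R S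
  have h0 : IsN2 S₀ := hR S₀ inferInstance
  exact isN2_of_isLocalization S₀ (Algebra.EssFiniteType.submonoid R S) S h0

/-- An algebra essentially of finite type over a universally Japanese ring is universally
Japanese. -/
theorem isUniversallyJapanese_of_essFiniteType (R : Type u) [CommRing R]
    (hR : IsUniversallyJapanese R) (T : Type u) [CommRing T] [Algebra R T]
    [Algebra.EssFiniteType R T] : IsUniversallyJapanese T := by
  intro S _ _ _ hS
  letI : Algebra R S := ((algebraMap T S).comp (algebraMap R T)).toAlgebra
  haveI : IsScalarTower R T S := IsScalarTower.of_algebraMap_eq fun r => rfl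
  haveI : Algebra.FiniteType T S := hS
  haveI : Algebra.EssFiniteType R S := Algebra.EssFiniteType.comp R T S
  exact isN2_of_essFiniteType R hR S

end UniversallyJapanese'

end Groth.Agent.Lib.Helper14
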