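import Mathlib

/-!
# Associated primes of principal ideals in Noetherian normal domains have height one (helper22)
-/

namespace Groth.Agent.Lib.Helper22.AssHeightOne

variable {A : Type*} [CommRing A] [IsDomain A] [IsNoetherianRing A] [IsIntegrallyClosed A]

/-- If `p = ((b) : x)` is a prime ideal in a Noetherian integrally closed domain, `b ≠ 0`, then
`p` has height one. -/
theorem height_eq_one_of_colon (b x : A) (hb : b ≠ 0) (p : Ideal A) [hp : p.IsPrime]
    (hpx : ∀ y, y ∈ p ↔ b ∣ y * x) : p.height = 1 := by
  have hbp : b ∈ p := (hpx b).mpr (Dvd.intro x rfl)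
  have hpbot : p ≠ ⊥ := fun h => hb (by rw [h] at hbp; exact hbp)
  have hge : 1 ≤ p.height := by
    rw [Order.one_le_iff_pos, pos_iff_ne_zero, Ne, Ideal.height_eq_zero_iff_eq_bot]
    exact hpbot
  refine le_antisymm ?_ hge
  by_cases hcase : ∀ z ∈ p, ∀ w, z * x = b * w → w ∈ p
  · -- case 1: t = x / b is integral, contradiction
    exfalso
    let K := FractionRing A
    have hbK : algebraMap A K b ≠ 0 := by
      rw [Ne, map_eq_zero_iff _ (IsFractionRing.injective A K)]; exact hb
    set t : K := algebraMap A K x / algebraMap A K b with ht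
    set N : Submodule A K := Submodule.map (Algebra.linearMap A K) p with hN
    have hNfg : N.FG := Submodule.FG.map _ (IsNoetherian.noetherian p)
    have hNbot : N ≠ ⊥ := by
      intro h
      have : algebraMap A K b ∈ N := Submodule.mem_map.mpr ⟨b, hbp, rfl⟩
      rw [h, Submodule.mem_bot] at this
      exact hbK this
    have hint : IsIntegral A t := by
      refine isIntegral_of_smul_mem_submodule N hNbot hNfg t ?_
      intro n hn
      obtain ⟨z, hz, rfl⟩ := Submodule.mem_map.mp hn
      obtain ⟨w, hw⟩ := (hpx z).mp hz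
      refine Submodule.mem_map.mpr ⟨w, hcase z hz w hw, ?_⟩
      simp only [Algebra.linearMap_apply, smul_eq_mul, ht]
      rw [div_mul_eq_mul_div, eq_div_iff hbK, ← map_mul, ← map_mul, mul_comm w b, ← hw,
        mul_comm]
    obtain ⟨r, hr⟩ := IsIntegrallyClosed.algebraMap_eq_of_integral hint
    have hxr : x = b * r := by
      apply IsFractionRing.injective A K
      rw [map_mul, hr, ht, mul_div_cancel₀ _ hbK]
    have h1 : (1 : A) ∈ p := (hpx 1).mpr ⟨r, by rw [one_mul]; exact hxr⟩
    exact hp.ne_top ((Ideal.eq_top_iff_one p).mpr h1)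
  · -- case 2: p is minimal over a principal ideal
    push Not at hcase
    obtain ⟨y, hy, u, hyu, hu⟩ := hcase
    have hmin : p ∈ (Ideal.span {y}).minimalPrimes := by
      refine ⟨⟨hp, (Ideal.span_singleton_le_iff_mem p).mpr hy⟩, ?_⟩
      rintro q ⟨hq, hyq⟩ hqp z hz
      obtain ⟨w, hw⟩ := (hpx z).mp hz
      have hyq' : y ∈ q := (Ideal.span_singleton_le_iff_mem q).mp hyq
      have h2 : z * u = y * w := by
        apply mul_left_cancel₀ hb
        calc b * (z * u) = z * (b * u) := by ring
          _ = z * (y * x) := by rw [hyu]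
          _ = y * (z * x) := by ring
          _ = y * (b * w) := by rw [hw]
          _ = b * (y * w) := by ring
      have h3 : z * u ∈ q := by rw [h2]; exact q.mul_mem_right _ hyq'
      rcases hq.mem_or_mem h3 with h4 | h4
      · exact h4
      · exact absurd (hqp h4) hu
    exact Ideal.height_le_one_of_isPrincipal_of_mem_minimalPrimes (Ideal.span {y}) p hmin

/-- Associated primes of `A/(b)`, `b ≠ 0`, have height one (no embedded primes). -/
theorem height_eq_one_of_mem_associatedPrimes (b : A) (hb : b ≠ 0) (p : Ideal A)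
    (hp : p ∈ associatedPrimes A (A ⧸ Ideal.span {b})) : p.height = 1 := by
  obtain ⟨hprime, xbar, hx⟩ := (isAssociatedPrime_iff).mp hp
  obtain ⟨x, rfl⟩ := Ideal.Quotient.mk_surjective xbar
  haveI := hprime
  refine height_eq_one_of_colon b x hb p ?_
  intro y
  rw [hx, Submodule.mem_colon_singleton, Submodule.mem_bot, ← Ideal.mem_span_singleton]
  change (Ideal.Quotient.mk _ (y * x) = 0) ↔ _
  rw [Ideal.Quotient.eq_zero_iff_mem]

end Groth.Agent.Lib.Helper22.AssHeightOne
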