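import Groth.Agent.Lib.Helper28DepthMore
import Mathlib.RingTheory.Localization.FractionRing
import Mathlib.RingTheory.Localization.AtPrime.Basic

/-!
# Depth library, part 9 (helper28): localized quotients, (S_2) for domains via associated primes
of principal ideals, intersection of depth-one localizations
-/

set_option autoImplicit false
universe u v w u' v'

namespace Groth.Agent.Lib.Helper28
open RingTheory.Sequence CategoryTheory Abelian
open scoped Pointwise

section LocQuot

variable {R : Type u} [CommRing R] [IsNoetherianRing R]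
  {M : Type v} [AddCommGroup M] [Module R M] [Module.Finite R M]

theorem localization_quot_ofList_add_length (p : Ideal R) [p.IsPrime] (rs : List R)
    (hrs : IsWeaklyRegular M rs) (hmem : ∀ r ∈ rs, r ∈ p)
    [hMp : Nontrivial (LocalizedModule p.primeCompl M)] :
    LocCoh.depth (Localization.AtPrime p)
        (LocalizedModule p.primeCompl (M ⧸ (Ideal.ofList rs • ⊤ : Submodule R M))) + rs.length =
      LocCoh.depth (Localization.AtPrime p) (LocalizedModule p.primeCompl M) ∧
    Module.supportDim (Localization.AtPrime p)
        (LocalizedModule p.primeCompl (M ⧸ (Ideal.ofList rs • ⊤ : Submodule R M))) + rs.length =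
      Module.supportDim (Localization.AtPrime p) (LocalizedModule p.primeCompl M) := by
  have hreg' : IsWeaklyRegular (LocalizedModule p.primeCompl M)
      (rs.map (algebraMap R (Localization.AtPrime p))) :=
    hrs.of_isLocalizedModule (Localization.AtPrime p) p.primeCompl
      (LocalizedModule.mkLinearMap p.primeCompl M)
  have hmem' : ∀ r ∈ rs.map (algebraMap R (Localization.AtPrime p)),
      r ∈ IsLocalRing.maximalIdeal (Localization.AtPrime p) := by
    intro r hr'
    obtain ⟨a, ha, rfl⟩ := List.mem_map.mp hr'
    rw [← Localization.AtPrime.map_eq_maximalIdeal]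
    exact Ideal.mem_map_of_mem _ (hmem a ha)
  have hmM : IsLocalRing.maximalIdeal (Localization.AtPrime p) •
      (⊤ : Submodule (Localization.AtPrime p) (LocalizedModule p.primeCompl M)) ≠ ⊤ :=
    maximalIdeal_smul_top_ne_top
  have hdepth := idealDepth_quot_ofList_add_length
    (IsLocalRing.maximalIdeal (Localization.AtPrime p)) (LocalizedModule p.primeCompl M)
    hmM _ hmem' hreg'
  have hdim := Module.supportDim_add_length_eq_supportDim_of_isRegular _
    (isRegular_of_isWeaklyRegular_of_mem hreg' hmem' hmM)
  rw [idealDepth_congr (localizedQuotOfListEquiv p M rs), List.length_map] at hdepth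
  rw [Module.supportDim_eq_of_equiv (localizedQuotOfListEquiv p M rs), List.length_map] at hdim
  exact ⟨hdepth, hdim⟩

end LocQuot

section SelfQuot

variable {R : Type u} [CommRing R]

/-- `R ⧸ (a)` as the quotient of the module `R` by the list `[a]`. -/
noncomputable def quotOfListSingletonSelfEquiv (a : R) :
    (R ⧸ (Ideal.ofList [a] • ⊤ : Submodule R R)) ≃ₗ[R] (R ⧸ Ideal.span {a}) :=
  Submodule.quotEquivOfEq _ _ (by
    rw [Ideal.ofList_singleton, smul_eq_mul, Ideal.mul_top])

variable [IsNoetherianRing R]

theorem localization_quotient_span_singleton_add_one (p : Ideal R) [p.IsPrime] {a : R}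
    (ha : a ∈ p) (hreg : IsSMulRegular R a) :
    LocCoh.depth (Localization.AtPrime p) (LocalizedModule p.primeCompl (R ⧸ Ideal.span {a})) + 1 =
      LocCoh.depth (Localization.AtPrime p) (Localization.AtPrime p) ∧
    Module.supportDim (Localization.AtPrime p)
        (LocalizedModule p.primeCompl (R ⧸ Ideal.span {a})) + 1 = ((p.height : ℕ∞) : WithBot ℕ∞) := by
  have hnt : Nontrivial (LocalizedModule p.primeCompl R) :=
    (localizedModuleSelfEquiv p).toEquiv.nontrivial
  obtain ⟨h1, h2⟩ := localization_quot_ofList_add_length (M := R) p [a]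
    ((isWeaklyRegular_singleton_iff R a).mpr hreg) (by simpa using ha)
  rw [depth_localization_congr (quotOfListSingletonSelfEquiv a) p,
    depth_localizedModule_self] at h1
  have e := IsLocalizedModule.mapEquiv p.primeCompl
    (LocalizedModule.mkLinearMap p.primeCompl (R ⧸ (Ideal.ofList [a] • ⊤ : Submodule R R)))
    (LocalizedModule.mkLinearMap p.primeCompl (R ⧸ Ideal.span {a}))
    (Localization.AtPrime p) (quotOfListSingletonSelfEquiv a)
  rw [Module.supportDim_eq_of_equiv e,
    Module.supportDim_eq_of_equiv (localizedModuleSelfEquiv p), supportDim_localization_self] at h2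
  exact ⟨by simpa using h1, by simpa using h2⟩

end SelfQuot


section S2Domain

variable {R : Type u} [CommRing R] [IsDomain R] [IsNoetherianRing R]

omit [IsDomain R] [IsNoetherianRing R] in
theorem mem_of_mem_associatedPrimes_quotient_span_singleton {a : R} {P : Ideal R}
    (hP : P ∈ associatedPrimes R (R ⧸ Ideal.span {a})) : a ∈ P := by
  have hsupp := mem_support_of_mem_associatedPrimes hP
  have hann := Module.annihilator_le_of_mem_support hsupp
  rw [Ideal.annihilator_quotient] at hann
  exact hann (Ideal.mem_span_singleton_self a)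

theorem hasSk_two_iff_forall_associatedPrimes_height_eq_one :
    LocCoh.HasSk 2 R R ↔
      ∀ a : R, a ≠ 0 → ∀ P : Ideal R, P ∈ associatedPrimes R (R ⧸ Ideal.span {a}) →
        P.height = 1 := by
  constructor
  · intro hS a ha P hP
    have hPp : P.IsPrime := hP.isPrime
    have haP := mem_of_mem_associatedPrimes_quotient_span_singleton hP
    have hreg : IsSMulRegular R a := (IsRegular.of_ne_zero ha).isSMulRegular
    obtain ⟨h1, h2⟩ := localization_quotient_span_singleton_add_one P haP hreg
    have h0 := (depth_localization_eq_zero_iff (M := R ⧸ Ideal.span {a}) P).mpr hP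
    rw [h0, zero_add] at h1
    -- `S_2` at `P`
    have hS' := hS P
    rw [depth_localizedModule_self, ← h1,
      Module.supportDim_eq_of_equiv (localizedModuleSelfEquiv P), supportDim_localization_self] at hS'
    have hle1 : P.height ≤ 1 := by
      by_contra hgt
      rw [not_le] at hgt
      have h2 : ((2 : ℕ) : ℕ∞) ≤ P.height := by
        have := Order.add_one_le_of_lt hgt
        norm_num at this ⊢
        exact this
      have h2' : ((2 : ℕ) : WithBot ℕ∞) ≤ ((P.height : ℕ∞) : WithBot ℕ∞) :=
        WithBot.coe_le_coe.mpr h2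
      have := le_of_min_le hS' le_rfl h2'
      norm_num at this
    have hge : (1 : ℕ∞) ≤ P.height := by
      have hd : ((LocCoh.depth (Localization.AtPrime P) (Localization.AtPrime P) : ℕ∞) :
          WithBot ℕ∞) ≤ Module.supportDim (Localization.AtPrime P) (Localization.AtPrime P) :=
        depth_le_supportDim
      rw [supportDim_localization_self, ← h1] at hd
      exact_mod_cast hd
    exact le_antisymm hle1 hge
  · intro h P hP
    apply min_le_of_forall_nat
    intro j hj hjd
    rw [Module.supportDim_eq_of_equiv (localizedModuleSelfEquiv P),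
      supportDim_localization_self] at hjd
    have hjd' : (j : ℕ∞) ≤ P.height := by exact_mod_cast hjd
    rw [depth_localizedModule_self]
    interval_cases j
    · simp
    · -- `P ≠ 0`, take `a ∈ P` nonzero
      have hP0 : P ≠ ⊥ := by
        rintro rfl
        rw [Ideal.height_bot] at hjd'
        exact absurd hjd' (by simp)
      obtain ⟨a, haP, ha0⟩ := Submodule.exists_mem_ne_zero_of_ne_bot hP0
      have hreg : IsSMulRegular R a := (IsRegular.of_ne_zero ha0).isSMulRegular
      obtain ⟨h1, -⟩ := localization_quotient_span_singleton_add_one P haP hreg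
      rw [← h1]
      simp
    · have hP0 : P ≠ ⊥ := by
        rintro rfl
        rw [Ideal.height_bot] at hjd'
        exact absurd hjd' (by simp)
      obtain ⟨a, haP, ha0⟩ := Submodule.exists_mem_ne_zero_of_ne_bot hP0
      have hreg : IsSMulRegular R a := (IsRegular.of_ne_zero ha0).isSMulRegular
      obtain ⟨h1, -⟩ := localization_quotient_span_singleton_add_one P haP hreg
      rw [← h1]
      have hne : LocCoh.depth (Localization.AtPrime P)
          (LocalizedModule P.primeCompl (R ⧸ Ideal.span {a})) ≠ 0 := by
        intro h0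
        have hass := (depth_localization_eq_zero_iff (M := R ⧸ Ideal.span {a}) P).mp h0
        have := h a ha0 P hass
        rw [this] at hjd'
        exact absurd hjd' (by norm_num)
      have h1le : (1 : ℕ∞) ≤ LocCoh.depth (Localization.AtPrime P)
          (LocalizedModule P.primeCompl (R ⧸ Ideal.span {a})) := Order.one_le_iff_pos.mpr
            (pos_iff_ne_zero.mpr hne)
      calc ((2 : ℕ) : ℕ∞) = 1 + 1 := by norm_num
        _ ≤ _ := add_le_add_left h1le 1

end S2Domain


section DepthOneIntersection

variable {A : Type u} [CommRing A] [IsDomain A] [IsNoetherianRing A]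

theorem mem_range_of_forall_depth_one (x : FractionRing A)
    (hx : ∀ (p : Ideal A) [p.IsPrime],
      LocCoh.depth (Localization.AtPrime p) (Localization.AtPrime p) = 1 →
        x ∈ Set.range (algebraMap (Localization.AtPrime p) (FractionRing A))) :
    x ∈ Set.range (algebraMap A (FractionRing A)) := by
  set ι := algebraMap A (FractionRing A) with hι
  have hinj : Function.Injective ι := IsFractionRing.injective A (FractionRing A)
  by_contra hxA
  -- the denominator ideal
  let D : Ideal A :=
    { carrier := {a | ι a * x ∈ Set.range ι}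
      add_mem' := by
        rintro a b ⟨u, hu⟩ ⟨v, hv⟩
        exact ⟨u + v, by rw [map_add, map_add, add_mul, hu, hv]⟩
      zero_mem' := ⟨0, by simp⟩
      smul_mem' := by
        rintro c a ⟨u, hu⟩
        exact ⟨c * u, by rw [smul_eq_mul, map_mul, map_mul, mul_assoc, hu]⟩ }
  have hD1 : (1 : A) ∉ D := by
    rintro ⟨u, hu⟩
    exact hxA ⟨u, by simpa using hu⟩
  have hDtop : D ≠ ⊤ := fun h => hD1 (h ▸ Submodule.mem_top)
  have hnt : Nontrivial (A ⧸ D) := Ideal.Quotient.nontrivial_iff.mpr hDtop
  obtain ⟨P, hP⟩ := associatedPrimes.nonempty A (A ⧸ D)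
  obtain ⟨hPp, zbar, hz⟩ := (isAssociatedPrime_iff (M := A ⧸ D)).mp hP
  obtain ⟨b, rfl⟩ := Ideal.Quotient.mk_surjective zbar
  set y := ι b * x with hy
  have hPmem : ∀ r : A, r ∈ P ↔ ι r * y ∈ Set.range ι := by
    intro r
    rw [hz, Submodule.mem_colon_singleton, Submodule.mem_bot]
    change r • (Ideal.Quotient.mk D b) = 0 ↔ _
    rw [← Ideal.Quotient.mk_eq_mk, ← Submodule.Quotient.mk_smul, Ideal.Quotient.mk_eq_mk,
      Ideal.Quotient.eq_zero_iff_mem, smul_eq_mul]
    change ι (r * b) * x ∈ Set.range ι ↔ _
    rw [map_mul, mul_assoc]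
  have hyA : y ∉ Set.range ι := by
    intro hy'
    apply hPp.ne_top
    rw [eq_top_iff]
    intro r _
    rw [hPmem]
    obtain ⟨u, hu⟩ := hy'
    exact ⟨r * u, by rw [map_mul, hu]⟩
  -- a nonzero element of `P`
  obtain ⟨n, d, hd, hxd⟩ := IsFractionRing.div_surjective (A := A) x
  have hd0 : d ≠ 0 := nonZeroDivisors.ne_zero hd
  have hιd : ι d ≠ 0 := fun h => hd0 (hinj (by rw [h, map_zero]))
  have hdP : d ∈ P := by
    rw [hPmem]
    refine ⟨b * n, ?_⟩
    rw [hy, ← hxd, map_mul, ← hι, mul_left_comm, mul_div_cancel₀ _ hιd]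
  obtain ⟨c, hc⟩ := (hPmem d).mp hdP
  -- `P` is associated to `A/(d)`
  have hPass : P ∈ associatedPrimes A (A ⧸ Ideal.span {d}) := by
    rw [AssociatedPrimes.mem_iff, isAssociatedPrime_iff]
    refine ⟨hPp, Ideal.Quotient.mk _ c, ?_⟩
    ext r
    rw [hPmem, Submodule.mem_colon_singleton, Submodule.mem_bot]
    change _ ↔ r • (Ideal.Quotient.mk (Ideal.span {d}) c) = 0
    rw [← Ideal.Quotient.mk_eq_mk, ← Submodule.Quotient.mk_smul, Ideal.Quotient.mk_eq_mk,
      Ideal.Quotient.eq_zero_iff_mem, smul_eq_mul, Ideal.mem_span_singleton']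
    constructor
    · rintro ⟨t, ht⟩
      refine ⟨t, hinj ?_⟩
      rw [map_mul, map_mul, hc, ht]
      ring
    · rintro ⟨t, ht⟩
      refine ⟨t, ?_⟩
      have h1 : ι t * ι d = ι r * (ι d * y) := by rw [← map_mul, ht, map_mul, hc]
      have h2 : ι d * ι t = ι d * (ι r * y) := by rw [mul_comm, h1]; ring
      exact mul_left_cancel₀ hιd h2
  have hreg : IsSMulRegular A d := (IsRegular.of_ne_zero hd0).isSMulRegular
  obtain ⟨h1, -⟩ := localization_quotient_span_singleton_add_one P hdP hreg
  rw [(depth_localization_eq_zero_iff (M := A ⧸ Ideal.span {d}) P).mpr hPass, zero_add] at h1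
  obtain ⟨w, hw⟩ := hx P h1.symm
  obtain ⟨n', s, rfl⟩ := IsLocalization.exists_mk'_eq P.primeCompl w
  have hs : ι s * x = ι n' := by
    rw [← hw, hι, IsScalarTower.algebraMap_apply A (Localization.AtPrime P) (FractionRing A),
      IsScalarTower.algebraMap_apply A (Localization.AtPrime P) (FractionRing A), ← map_mul,
      IsLocalization.mk'_spec']
  have hsP : (s : A) ∈ P := by
    rw [hPmem]
    refine ⟨b * n', ?_⟩
    rw [hy, map_mul, ← hs]
    ring
  exact s.2 hsP

end DepthOneIntersection

end Groth.Agent.Lib.Helper28
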