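import Mathlib
import Groth.Prelude.Def_Found
import Groth.Agent.Lib.Helper14Japanese
import Groth.Agent.Lib.Helper4Japanese3
import Groth.Agent.Lib.Helper22AssHeightOne
import Groth.Agent.Lib.Helper28Normal
import Groth.Agent.Lib.Helper5IntDim
import Groth.Agent.S2093

set_option autoImplicit false
set_option linter.unusedSectionVars false
set_option linter.style.haveILetI false
set_option linter.deprecated false
universe u

namespace Groth.Agent.Lib.Helper28
open IsLocalRing CAlg

section NagataTransfer

/-- Nagata rings are stable under surjections. -/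
theorem isNagata_of_surjective {R S : Type u} [CommRing R] [CommRing S] (f : R →+* S)
    (hf : Function.Surjective f) (hR : IsNagata R) : IsNagata S := by
  haveI := hR.1
  refine ⟨isNoetherianRing_of_surjective R S f hf, fun q _ => ?_⟩
  have hφ : Function.Surjective ((Ideal.Quotient.mk q).comp f) :=
    Ideal.Quotient.mk_surjective.comp hf
  haveI : (RingHom.ker ((Ideal.Quotient.mk q).comp f)).IsPrime := RingHom.ker_isPrime _
  have h1 := hR.2 (RingHom.ker ((Ideal.Quotient.mk q).comp f))
  exact Groth.Agent.Lib.Helper14.isN2_of_ringEquiv (RingHom.quotientKerEquivOfSurjective hφ) h1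

/-- A finite extension ring of a Nagata ring is Nagata. -/
theorem isNagata_of_finite (R R' : Type u) [CommRing R] [CommRing R'] [Algebra R R']
    [Module.Finite R R'] (hR : IsNagata R) : IsNagata R' := by
  haveI := hR.1
  refine ⟨IsNoetherianRing.of_finite R R', fun q _ => ?_⟩
  have h1 := hR.2 (q.under R)
  exact Groth.Agent.Lib.Helper4.Japanese.isN2_of_finite_injective (R ⧸ q.under R) (R' ⧸ q)
    (FaithfulSMul.algebraMap_injective _ _) h1

/-- A Nagata domain is N-2. -/
theorem isN2_of_isNagata_of_isDomain (R : Type u) [CommRing R] [IsDomain R] (hR : IsNagata R) :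
    IsN2 R := by
  have h1 := hR.2 (⊥ : Ideal R)
  exact Groth.Agent.Lib.Helper14.isN2_of_ringEquiv (RingEquiv.quotientBot R) h1

end NagataTransfer

section NormalCase

variable {R : Type u} [CommRing R] [IsDomain R] [IsLocalRing R] [IsNoetherianRing R]
  [IsIntegrallyClosed R]

/-- The completion of a normal Noetherian local domain is reduced as soon as all proper quotient
domains are analytically unramified. -/
theorem isReduced_adicCompletion_of_isIntegrallyClosed
    (hrec : ∀ (p : Ideal R) [p.IsPrime], p ≠ ⊥ →
      IsReduced (AdicCompletion ((maximalIdeal R).map (Ideal.Quotient.mk p)) (R ⧸ p))) :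
    IsReduced (AdicCompletion (maximalIdeal R) R) := by
  by_cases hm : maximalIdeal R = ⊥
  · haveI : IsAdicComplete (maximalIdeal R) R := by rw [hm]; infer_instance
    let e := AdicCompletion.ofAlgEquiv (maximalIdeal R) (S := R)
    exact isReduced_of_injective e.symm.toRingEquiv.toRingHom e.symm.injective
  · obtain ⟨x, hxm, hx0⟩ := Submodule.exists_mem_ne_zero_of_ne_bot hm
    have hxp : ∀ p ∈ associatedPrimes R (R ⧸ Ideal.span {x}), x ∈ p := by
      intro p hp
      have h1 := IsAssociatedPrime.annihilator_le hp
      apply h1
      rw [Submodule.mem_annihilator]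
      intro m _
      obtain ⟨a, rfl⟩ := Ideal.Quotient.mk_surjective m
      change Ideal.Quotient.mk _ (x * a) = 0
      rw [Ideal.Quotient.eq_zero_iff_mem]
      exact Ideal.mul_mem_right _ _ (Ideal.mem_span_singleton_self x)
    refine Groth.Agent.S2093.result x hx0 hxm ?_ ?_
    · intro p hp
      have hprime : p.IsPrime := IsAssociatedPrime.isPrime hp
      have hht := Groth.Agent.Lib.Helper22.AssHeightOne.height_eq_one_of_mem_associatedPrimes
        x hx0 p hp
      refine ⟨⟨hprime, (Ideal.span_singleton_le_iff_mem _).mpr (hxp p hp)⟩, ?_⟩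
      rintro q ⟨hq, hxq⟩ hqp
      by_contra hpq
      have hlt : q < p := lt_of_le_not_ge hqp hpq
      have h2 : q.height < p.height := Ideal.height_strict_mono_of_isPrime_of_isPrime hlt
      rw [hht, ENat.lt_one_iff_eq_zero, Ideal.height_eq_zero_iff_eq_bot] at h2
      rw [h2] at hxq
      exact hx0 ((Ideal.span_singleton_le_iff_mem _).mp hxq)
    · intro p hp hprime
      have hht := Groth.Agent.Lib.Helper22.AssHeightOne.height_eq_one_of_mem_associatedPrimes
        x hx0 p hp
      refine ⟨?_, hrec p ?_⟩
      · haveI : IsIntegrallyClosed (Localization.AtPrime p) :=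
          isIntegrallyClosed_of_isLocalization (Localization.AtPrime p) p.primeCompl
            p.primeCompl_le_nonZeroDivisors
        apply isRegularLocalRing_of_isIntegrallyClosed_of_dim_le_one
        rw [IsLocalization.AtPrime.ringKrullDim_eq_height p, hht]
        rfl
      · intro h0
        rw [h0] at hp
        exact hx0 (hxp ⊥ hp)

end NormalCase

end Groth.Agent.Lib.Helper28
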