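import Groth.Agent.Lib.Helper14Japanese
import Mathlib.FieldTheory.AlgebraicClosure
import Mathlib.FieldTheory.FinTrdeg
import Mathlib.RingTheory.AlgebraicIndependent.AlgebraicClosure
import Mathlib.RingTheory.Localization.Module
import Mathlib.RingTheory.Ideal.MinimalPrime.Noetherian
import Mathlib.LinearAlgebra.Dimension.Finite

/-!
# Algebraic closure in a finitely generated field extension; Nagata rings (helper4)

* `finiteDimensional_algebraicClosure`: for a finitely generated field extension `K / κ` the algebraic
  closure of `κ` in `K` is finite over `κ` (Stacks 037J).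
* `IsN2.finite_of_essFiniteType`: the integral closure of an N-2 domain in a finitely generated
  extension of its fraction field is a finite module.
* `finite_integralClosure_fractionRing_quotient`, `finite_integralClosure_of_isNagata` (Stacks 03GH,
  finite type case).
-/

set_option autoImplicit false
set_option linter.style.haveILetI false
set_option linter.unusedSectionVars false
universe u

open Groth CAlg Groth.Agent.Lib.Helper14

namespace Groth.Agent.Lib.Helper4.AlgClosFin

open IntermediateField

section Field

variable {κ K : Type*} [Field κ] [Field K] [Algebra κ K]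

/-- A family in the algebraic closure `L` of `κ` in `K`, linearly independent over `κ`, stays linearly
independent over the polynomial ring in an algebraically independent family. -/
lemma sum_aeval_mul_eq_zero {ι : Type*} (x : ι → K) (hx : AlgebraicIndependent κ x)
    {σ : Type*} [Fintype σ] (a : σ → algebraicClosure κ K) (ha : LinearIndependent κ a)
    (p : σ → MvPolynomial ι κ)
    (h : ∑ i, MvPolynomial.aeval x (p i) * (a i : K) = 0) : ∀ i, p i = 0 := by
  classical
  let L := algebraicClosure κ K
  have hxL : AlgebraicIndependent L x := hx.extendScalars L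
  let P : MvPolynomial ι L := ∑ i, MvPolynomial.C (a i) * MvPolynomial.map (algebraMap κ L) (p i)
  have hP : MvPolynomial.aeval x P = 0 := by
    simp only [P, map_sum, map_mul, MvPolynomial.aeval_C, MvPolynomial.aeval_map_algebraMap]
    rw [← h]
    refine Finset.sum_congr rfl (fun i _ => ?_)
    rw [mul_comm]
    rfl
  have hP0 : P = 0 := hxL.eq_zero_of_aeval_eq_zero P hP
  intro i
  ext m
  have hm : MvPolynomial.coeff m P = 0 := by rw [hP0]; rfl
  simp only [P, MvPolynomial.coeff_sum, MvPolynomial.coeff_C_mul, MvPolynomial.coeff_map] at hm
  have hm' : ∑ j, (MvPolynomial.coeff m (p j)) • a j = 0 := by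
    rw [← hm]
    refine Finset.sum_congr rfl (fun j _ => ?_)
    rw [Algebra.smul_def, mul_comm]
  have := Fintype.linearIndependent_iff.mp ha (fun j => MvPolynomial.coeff m (p j)) hm' i
  rw [this]
  rfl


open scoped IntermediateField.algebraAdjoinAdjoin in
/-- linear independence over `κ` of a family in the algebraic closure of `κ` in `K` is preserved
over the field generated by an algebraically independent family. -/
lemma linearIndependent_adjoin {ι : Type*} (x : ι → K) (hx : AlgebraicIndependent κ x)
    {σ : Type*} [Fintype σ] (a : σ → algebraicClosure κ K) (ha : LinearIndependent κ a) :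
    LinearIndependent (IntermediateField.adjoin κ (Set.range x)) (fun i => (a i : K)) := by
  rw [← LinearIndependent.iff_fractionRing (Algebra.adjoin κ (Set.range x))
    (IntermediateField.adjoin κ (Set.range x))]
  rw [Fintype.linearIndependent_iff]
  intro g hg
  have hg' : ∀ i, ∃ p : MvPolynomial ι κ, MvPolynomial.aeval x p = (g i : K) := by
    intro i
    have h1 : (g i : K) ∈ Algebra.adjoin κ (Set.range x) := (g i).2
    have h2 : (g i : K) ∈ (MvPolynomial.aeval x : MvPolynomial ι κ →ₐ[κ] K).range := by
      rw [← Algebra.adjoin_range_eq_range_aeval]; exact h1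
    exact h2
  choose p hp using hg'
  have h0 := sum_aeval_mul_eq_zero x hx a ha p (by
    rw [← hg]
    refine Finset.sum_congr rfl (fun i _ => ?_)
    rw [hp i]
    rfl)
  intro i
  apply Subtype.ext
  rw [← hp i, h0 i, map_zero]
  rfl

theorem finiteDimensional_algebraicClosure [Algebra.EssFiniteType κ K] :
    FiniteDimensional κ (algebraicClosure κ K) := by
  classical
  obtain ⟨ι, x, hx⟩ := exists_isTranscendenceBasis' κ K
  let F := IntermediateField.adjoin κ (Set.range x)
  haveI : Algebra.IsAlgebraic F K := hx.isAlgebraic_field
  haveI : Algebra.EssFiniteType F K := Algebra.EssFiniteType.of_comp κ F K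
  haveI : Module.Finite F K := Algebra.finite_of_essFiniteType_of_isAlgebraic
  by_contra hnf
  have hrank : ¬ Module.rank κ (algebraicClosure κ K) < Cardinal.aleph0 := by
    rwa [Module.rank_lt_aleph0_iff]
  push Not at hrank
  have hle : ((Module.finrank F K + 1 : ℕ) : Cardinal) ≤ Module.rank κ (algebraicClosure κ K) :=
    le_trans (le_of_lt Cardinal.natCast_lt_aleph0) hrank
  obtain ⟨s, hs, hlin⟩ := exists_finset_linearIndependent_of_le_rank hle
  have h2 := linearIndependent_adjoin x hx.1 (fun i : s => (i : algebraicClosure κ K)) hlin
  have h3 := h2.fintype_card_le_finrank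
  rw [Fintype.card_coe, hs] at h3
  change Module.finrank F K + 1 ≤ Module.finrank F K at h3
  omega


end Field

/-- The integral closure of an N-2 domain in a finitely generated field extension of its fraction
field is a finite module. -/
theorem IsN2.finite_of_essFiniteType {D : Type u} [CommRing D] [IsDomain D] (hD : IsN2 D)
    (κ K : Type u) [Field κ] [Field K] [Algebra D κ] [IsFractionRing D κ] [Algebra κ K]
    [Algebra D K] [IsScalarTower D κ K] [Algebra.EssFiniteType κ K] :
    Module.Finite D (integralClosure D K) := by
  let L := algebraicClosure κ K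
  haveI : FiniteDimensional κ L := finiteDimensional_algebraicClosure
  haveI : Module.Finite D (integralClosure D L) := IsN2.finite hD κ L
  haveI : IsScalarTower D L K := IsScalarTower.of_algebraMap_eq (fun d => rfl)
  let ψ : L →ₐ[D] K := IsScalarTower.toAlgHom D L K
  have hsurj : Function.Surjective ψ.mapIntegralClosure := by
    rintro ⟨y, hy⟩
    have hyalg : IsAlgebraic κ y := (hy.tower_top (A := κ)).isAlgebraic
    have hyL : y ∈ L := mem_algebraicClosure_iff'.mpr hyalg.isIntegral
    have hy' : IsIntegral D (⟨y, hyL⟩ : L) :=
      (isIntegral_algebraMap_iff (B := K) (algebraMap L K).injective).mp hy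
    exact ⟨⟨⟨y, hyL⟩, hy'⟩, Subtype.ext rfl⟩
  exact Module.Finite.of_surjective ψ.mapIntegralClosure.toLinearMap hsurj


/-- For a Nagata ring `R`, a finite type `R`-algebra `S` and a prime `q` of `S`, the integral closure
of `R` in the fraction field of `S / q` is a finite `R`-module. -/
theorem finite_integralClosure_fractionRing_quotient (R : Type u) [CommRing R] (hR : IsNagata R)
    (S : Type u) [CommRing S] [Algebra R S] [Algebra.FiniteType R S] (q : Ideal S) [q.IsPrime] :
    Module.Finite R (integralClosure R (FractionRing (S ⧸ q))) := by
  haveI : IsNoetherianRing R := hR.1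
  let p : Ideal R := q.comap (algebraMap R S)
  haveI : p.IsPrime := Ideal.comap_isPrime _ q
  let D := R ⧸ p
  let B := S ⧸ q
  let K := FractionRing B
  let κ := FractionRing D
  have hinjDB : Function.Injective (algebraMap D B) := Ideal.algebraMap_quotient_injective
  haveI : FaithfulSMul D K := by
    rw [faithfulSMul_iff_algebraMap_injective]
    rw [IsScalarTower.algebraMap_eq D B K]
    exact (IsFractionRing.injective B K).comp hinjDB
  letI : Algebra κ K := FractionRing.liftAlgebra D K
  haveI : IsScalarTower D κ K := FractionRing.isScalarTower_liftAlgebra D K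
  haveI : Algebra.FiniteType R B := inferInstance
  haveI : Algebra.FiniteType D B := Algebra.FiniteType.of_restrictScalars_finiteType R D B
  haveI : Algebra.EssFiniteType B K := Algebra.EssFiniteType.of_isLocalization K (nonZeroDivisors B)
  haveI : Algebra.EssFiniteType D K := Algebra.EssFiniteType.comp D B K
  haveI : Algebra.EssFiniteType κ K := Algebra.EssFiniteType.of_comp D κ K
  have hD : IsN2 D := hR.2 p
  haveI h1 : Module.Finite D (integralClosure D K) := IsN2.finite_of_essFiniteType hD κ K
  haveI h2 : Module.Finite R (integralClosure D K) := Module.Finite.trans D _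
  haveI : IsNoetherian R (integralClosure D K) := isNoetherian_of_isNoetherianRing_of_finite R _
  let g : integralClosure R K →ₗ[R] integralClosure D K :=
    { toFun := fun x => ⟨x.1, x.2.tower_top⟩
      map_add' := fun x y => rfl
      map_smul' := fun r x => Subtype.ext (by
        change r • (x : K) = (r • (⟨x.1, x.2.tower_top⟩ : integralClosure D K) : integralClosure D K).1
        rfl) }
  have hg : Function.Injective g := fun x y hxy =>
    Subtype.ext (congrArg (fun z : integralClosure D K => (z : K)) hxy)
  exact Module.Finite.of_injective g hg


/-- Stacks 03GH (finite type case): the integral closure of a Nagata ring in a reduced algebra of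
finite type is a finite module. -/
theorem finite_integralClosure_of_isNagata (R : Type u) [CommRing R] (hR : IsNagata R)
    (S : Type u) [CommRing S] [IsReduced S] [Algebra R S] [Algebra.FiniteType R S] :
    Module.Finite R (integralClosure R S) := by
  haveI : IsNoetherianRing R := hR.1
  haveI : IsNoetherianRing S := Algebra.FiniteType.isNoetherianRing R S
  haveI : Finite (minimalPrimes S) := (minimalPrimes.finite_of_isNoetherianRing S).to_subtype
  haveI : ∀ q : minimalPrimes S, q.1.IsPrime := fun q => Ideal.IsMinimalPrime.isPrime q.2
  haveI : ∀ q : minimalPrimes S,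
      Module.Finite R (integralClosure R (FractionRing (S ⧸ q.1))) :=
    fun q => finite_integralClosure_fractionRing_quotient R hR S q.1
  let g : integralClosure R S →ₗ[R]
      (∀ q : minimalPrimes S, integralClosure R (FractionRing (S ⧸ q.1))) :=
    LinearMap.pi (fun q =>
      (AlgHom.mapIntegralClosure (IsScalarTower.toAlgHom R S (FractionRing (S ⧸ q.1)))).toLinearMap)
  have hg : Function.Injective g := by
    rw [injective_iff_map_eq_zero]
    intro a ha
    have h1 : ∀ q : minimalPrimes S, (a : S) ∈ q.1 := by
      intro q
      have h2 := congrFun ha q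
      have h3 : algebraMap S (FractionRing (S ⧸ q.1)) (a : S) = 0 :=
        congrArg Subtype.val h2
      rw [IsScalarTower.algebraMap_apply S (S ⧸ q.1) (FractionRing (S ⧸ q.1))] at h3
      have h4 := (IsFractionRing.injective (S ⧸ q.1) (FractionRing (S ⧸ q.1)))
        (h3.trans (map_zero _).symm)
      exact Ideal.Quotient.eq_zero_iff_mem.mp h4
    have h5 : (a : S) ∈ sInf (minimalPrimes S) := by
      rw [Submodule.mem_sInf]
      intro q hq
      exact h1 ⟨q, hq⟩
    have h6 : sInf (minimalPrimes S) = (⊥ : Ideal S) := by
      change sInf (⊥ : Ideal S).minimalPrimes = ⊥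
      rw [Ideal.sInf_minimalPrimes]
      exact nilradical_eq_zero S
    rw [h6] at h5
    exact Subtype.ext h5
  haveI : IsNoetherian R (∀ q : minimalPrimes S, integralClosure R (FractionRing (S ⧸ q.1))) :=
    isNoetherian_of_isNoetherianRing_of_finite R _
  exact Module.Finite.of_injective g hg


end Groth.Agent.Lib.Helper4.AlgClosFin
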