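/-
Helper library (helper4): total rings of fractions of reduced Noetherian rings, normalization of a
reduced Nagata ring as a finite product of normal domains, finiteness of the normalization and of the
δ-invariant in dimension one.
-/
import Groth.Agent.Lib.Helper4AlgClosFin
import Mathlib

set_option autoImplicit false
set_option linter.style.haveILetI false
set_option linter.unusedSectionVars false
universe u

open Groth CAlg Groth.Agent.Lib.Helper14

namespace Groth.Agent.Lib.Helper4.TotalFrac

/-- A reduced Noetherian total ring of fractions has Krull dimension zero. -/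
theorem krullDimLE_zero_of_isFractionRing_self (Q : Type*) [CommRing Q] [IsNoetherianRing Q]
    [IsReduced Q] [IsFractionRing Q Q] : Ring.KrullDimLE 0 Q := by
  refine Ring.KrullDimLE.mk₀ (fun P hP => ?_)
  obtain ⟨M, hM, hPM⟩ := Ideal.exists_le_maximal P hP.ne_top
  have hass : M ∈ associatedPrimes Q Q := hM.mem_associatedPrimes_of_isFractionRing
  rw [AssociatedPrimes.mem_iff, isAssociatedPrime_iff] at hass
  obtain ⟨-, x, hx⟩ := hass
  -- `M = ann x`; if `P < M` then `x ∈ P ⊆ M` so `x^2 = 0`
  by_contra hnot
  have hne : P ≠ M := fun h => hnot (h ▸ hM)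
  have hlt : P < M := lt_of_le_of_ne hPM hne
  obtain ⟨m, hmM, hmP⟩ := SetLike.exists_of_lt hlt
  have hmx : m * x = 0 := by
    have : m ∈ Submodule.colon (⊥ : Submodule Q Q) {x} := hx ▸ hmM
    rwa [Submodule.mem_colon_singleton, Submodule.mem_bot, smul_eq_mul] at this
  have hxP : x ∈ P := (hP.mem_or_mem (hmx ▸ P.zero_mem : m * x ∈ P)).resolve_left hmP
  have hxM : x ∈ M := hPM hxP
  have hxx : x * x = 0 := by
    have : x ∈ Submodule.colon (⊥ : Submodule Q Q) {x} := hx ▸ hxM
    rwa [Submodule.mem_colon_singleton, Submodule.mem_bot, smul_eq_mul] at this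
  have hx0 : x = 0 := by
    have : IsNilpotent x := ⟨2, by rw [pow_two]; exact hxx⟩
    exact this.eq_zero
  -- then `M = ann 0 = ⊤`
  have : M = ⊤ := by
    rw [hx, hx0]
    ext y
    simp [Submodule.mem_colon_singleton]
  exact hM.ne_top this

instance (A : Type*) [CommRing A] [IsNoetherianRing A] [IsReduced A] :
    IsArtinianRing (FractionRing A) := by
  haveI : IsNoetherianRing (FractionRing A) :=
    IsLocalization.isNoetherianRing (nonZeroDivisors A) _ inferInstance
  haveI : IsReduced (FractionRing A) := inferInstanceAs (IsReduced (Localization (nonZeroDivisors A)))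
  haveI := krullDimLE_zero_of_isFractionRing_self (FractionRing A)
  exact isArtinianRing_iff_krullDimLE_zero.mpr inferInstance

/-- The integral closure of a Nagata ring in a field essentially of finite type over it is a finite
module. -/
theorem finite_integralClosure_field (A : Type u) [CommRing A] (hA : IsNagata A)
    (K : Type u) [Field K] [Algebra A K] [Algebra.EssFiniteType A K] :
    Module.Finite A (integralClosure A K) := by
  haveI : IsNoetherianRing A := hA.1
  let p : Ideal A := RingHom.ker (algebraMap A K)
  haveI : p.IsPrime := RingHom.ker_isPrime _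
  let D := A ⧸ p
  letI : Algebra D K := (Ideal.Quotient.lift p (algebraMap A K) (fun a ha => ha)).toAlgebra
  haveI : IsScalarTower A D K := IsScalarTower.of_algebraMap_eq (fun a => rfl)
  have hinj : Function.Injective (algebraMap D K) := by
    rw [injective_iff_map_eq_zero]
    intro x hx
    obtain ⟨a, rfl⟩ := Ideal.Quotient.mk_surjective x
    exact Ideal.Quotient.eq_zero_iff_mem.mpr hx
  haveI : FaithfulSMul D K := (faithfulSMul_iff_algebraMap_injective D K).mpr hinj
  let κ := FractionRing D
  letI : Algebra κ K := FractionRing.liftAlgebra D K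
  haveI : IsScalarTower D κ K := FractionRing.isScalarTower_liftAlgebra D K
  haveI : Algebra.EssFiniteType D K := Algebra.EssFiniteType.of_comp A D K
  haveI : Algebra.EssFiniteType κ K := Algebra.EssFiniteType.of_comp D κ K
  have hD : IsN2 D := hA.2 p
  haveI h1 : Module.Finite D (integralClosure D K) :=
    AlgClosFin.IsN2.finite_of_essFiniteType hD κ K
  haveI h2 : Module.Finite A (integralClosure D K) := Module.Finite.trans D _
  haveI : IsNoetherian A (integralClosure D K) := isNoetherian_of_isNoetherianRing_of_finite A _
  let g : integralClosure A K →ₗ[A] integralClosure D K :=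
    { toFun := fun x => ⟨x.1, x.2.tower_top⟩
      map_add' := fun x y => rfl
      map_smul' := fun r x => Subtype.ext (by
        change r • (x : K) = (r • (⟨x.1, x.2.tower_top⟩ : integralClosure D K) : integralClosure D K).1
        rfl) }
  have hg : Function.Injective g := fun x y hxy =>
    Subtype.ext (congrArg (fun z : integralClosure D K => (z : K)) hxy)
  exact Module.Finite.of_injective g hg

/-- The integral closure of a ring in a field is an integrally closed domain. -/
theorem isIntegrallyClosed_integralClosure_field (A : Type*) [CommRing A] (K : Type*) [Field K]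
    [Algebra A K] : IsIntegrallyClosed (integralClosure A K) := by
  let N := integralClosure A K
  rw [isIntegrallyClosed_iff (FractionRing N)]
  intro x hx
  let φ : FractionRing N →+* K := IsFractionRing.lift (g := algebraMap N K)
    (FaithfulSMul.algebraMap_injective N K)
  have hφ : ∀ n : N, φ (algebraMap N (FractionRing N) n) = algebraMap N K n :=
    fun n => IsFractionRing.lift_algebraMap _ n
  have h1 : IsIntegral N (φ x) :=
    IsIntegral.map_of_comp_eq (RingHom.id N) φ (by ext n; exact (hφ n).symm) hx
  have h2 : IsIntegral A (φ x) := isIntegral_trans (R := A) (A := N) _ h1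
  refine ⟨⟨φ x, h2⟩, ?_⟩
  apply φ.injective
  rw [hφ]
  rfl

/-- The localization of a finite product of domains at a prime is the localization of one factor at a
prime. -/
theorem isLocalization_atPrime_pi {ι : Type*} [Finite ι] [DecidableEq ι] (N : ι → Type*)
    [∀ i, CommRing (N i)] [∀ i, IsDomain (N i)] (i : ι) (q : Ideal (N i)) [q.IsPrime] :
    @IsLocalization.AtPrime (∀ i, N i) _ (Localization.AtPrime q) _
      ((algebraMap (N i) (Localization.AtPrime q)).comp (Pi.evalRingHom N i)).toAlgebra
      (q.comap (Pi.evalRingHom N i)) _ := by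
  letI : Algebra (∀ i, N i) (Localization.AtPrime q) :=
    ((algebraMap (N i) (Localization.AtPrime q)).comp (Pi.evalRingHom N i)).toAlgebra
  have halg : ∀ b : ∀ i, N i, algebraMap (∀ i, N i) (Localization.AtPrime q) b =
      algebraMap (N i) (Localization.AtPrime q) (b i) := fun b => rfl
  refine ⟨⟨?_, ?_, ?_⟩⟩
  · rintro ⟨b, hb⟩
    rw [halg]
    exact IsLocalization.map_units (Localization.AtPrime q) (⟨b i, hb⟩ : q.primeCompl)
  · intro z
    obtain ⟨n, s, rfl⟩ := IsLocalization.exists_mk'_eq q.primeCompl z
    have hs : Pi.single i (s : N i) ∈ (q.comap (Pi.evalRingHom N i)).primeCompl := by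
      change ¬ (Pi.single i (s : N i) : ∀ i, N i) i ∈ q
      rw [Pi.single_eq_same]
      exact s.2
    refine ⟨⟨Pi.single i n, ⟨Pi.single i (s : N i), hs⟩⟩, ?_⟩
    rw [halg, halg]
    change IsLocalization.mk' (Localization.AtPrime q) n s *
      algebraMap (N i) (Localization.AtPrime q) ((Pi.single i (s : N i) : ∀ i, N i) i) =
      algebraMap (N i) (Localization.AtPrime q) ((Pi.single i n : ∀ i, N i) i)
    rw [Pi.single_eq_same, Pi.single_eq_same, IsLocalization.mk'_spec]
  · intro b b' hbb'
    rw [halg, halg] at hbb'
    have hinj : Function.Injective (algebraMap (N i) (Localization.AtPrime q)) :=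
      IsLocalization.injective _ q.primeCompl_le_nonZeroDivisors
    have h1 : b i = b' i := hinj hbb'
    have hs : Pi.single i (1 : N i) ∈ (q.comap (Pi.evalRingHom N i)).primeCompl := by
      change ¬ (Pi.single i (1 : N i) : ∀ i, N i) i ∈ q
      rw [Pi.single_eq_same]
      exact Ideal.IsPrime.one_notMem inferInstance
    refine ⟨⟨Pi.single i (1 : N i), hs⟩, ?_⟩
    ext j
    by_cases hj : j = i
    · subst hj
      simp [h1]
    · simp [Pi.single_eq_of_ne hj]

/-- Localizations of a finite product of integrally closed domains at primes are integrally closed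
domains. -/
theorem isDomain_isIntegrallyClosed_localization_pi {ι : Type*} [Finite ι] (N : ι → Type*)
    [∀ i, CommRing (N i)] [∀ i, IsDomain (N i)] [∀ i, IsIntegrallyClosed (N i)]
    (P : Ideal (∀ i, N i)) [hP : P.IsPrime] :
    IsDomain (Localization.AtPrime P) ∧ IsIntegrallyClosed (Localization.AtPrime P) := by
  classical
  obtain ⟨i, q, hq⟩ := PrimeSpectrum.exists_comap_evalRingHom_eq (⟨P, hP⟩ : PrimeSpectrum (∀ i, N i))
  have hq' : q.asIdeal.comap (Pi.evalRingHom N i) = P := congrArg PrimeSpectrum.asIdeal hq
  subst hq'
  letI : Algebra (∀ i, N i) (Localization.AtPrime q.asIdeal) :=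
    ((algebraMap (N i) (Localization.AtPrime q.asIdeal)).comp (Pi.evalRingHom N i)).toAlgebra
  haveI := isLocalization_atPrime_pi N i q.asIdeal
  let e : Localization.AtPrime (q.asIdeal.comap (Pi.evalRingHom N i)) ≃ₐ[∀ i, N i]
      Localization.AtPrime q.asIdeal :=
    IsLocalization.algEquiv (q.asIdeal.comap (Pi.evalRingHom N i)).primeCompl _ _
  haveI : IsIntegrallyClosed (Localization.AtPrime q.asIdeal) :=
    isIntegrallyClosed_of_isLocalization _ q.asIdeal.primeCompl
      q.asIdeal.primeCompl_le_nonZeroDivisors
  exact ⟨e.toRingEquiv.toMulEquiv.isDomain _, IsIntegrallyClosed.of_equiv e.symm.toRingEquiv⟩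

/-- An element of a finite product is integral as soon as all its components are. -/
theorem isIntegral_pi {A : Type*} [CommRing A] {ι : Type*} [Finite ι] (B : ι → Type*)
    [∀ i, CommRing (B i)] [∀ i, Algebra A (B i)] (x : ∀ i, B i) (h : ∀ i, IsIntegral A (x i)) :
    IsIntegral A x := by
  classical
  cases nonempty_fintype ι
  choose p hp hpx using h
  refine ⟨∏ i, p i, Polynomial.monic_prod_of_monic _ _ (fun i _ => hp i), ?_⟩
  rw [← Polynomial.aeval_def]
  funext j
  have h1 : Polynomial.aeval (x j) (∏ i, p i) = 0 := by
    rw [map_prod]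
    exact Finset.prod_eq_zero (Finset.mem_univ j) (by rw [Polynomial.aeval_def]; exact hpx j)
  have h2 := Polynomial.aeval_algHom_apply (Pi.evalAlgHom A B j) x (∏ i, p i)
  rw [Pi.evalAlgHom_apply] at h2
  rw [Pi.zero_apply, ← h1, h2]
  rfl

/-- The integral closure in a finite product is the product of the integral closures. -/
noncomputable def integralClosurePiEquiv (A : Type*) [CommRing A] {ι : Type*} [Finite ι]
    (B : ι → Type*) [∀ i, CommRing (B i)] [∀ i, Algebra A (B i)] :
    integralClosure A (∀ i, B i) ≃ₐ[A] (∀ i, integralClosure A (B i)) where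
  toFun x := fun i => ⟨x.1 i, x.2.map (Pi.evalAlgHom A B i)⟩
  invFun y := ⟨fun i => (y i : B i), isIntegral_pi B _ (fun i => (y i).2)⟩
  left_inv x := rfl
  right_inv y := rfl
  map_mul' x y := rfl
  map_add' x y := rfl
  commutes' a := rfl

section Main

variable (A : Type u) [CommRing A] [IsNoetherianRing A] [IsReduced A]

/-- The residue fields of the total ring of fractions. -/
abbrev resField (M : MaximalSpectrum (FractionRing A)) : Type u := FractionRing A ⧸ M.asIdeal

noncomputable instance (M : MaximalSpectrum (FractionRing A)) : Field (resField A M) :=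
  Ideal.Quotient.field M.asIdeal

/-- The integral closure of a reduced Noetherian ring in its total ring of fractions is the product of
the integral closures in the residue fields of the total ring of fractions. -/
noncomputable def normalizationEquivPi :
    integralClosure A (FractionRing A) ≃ₐ[A]
      (∀ M : MaximalSpectrum (FractionRing A), integralClosure A (resField A M)) :=
  (((IsArtinianRing.equivPi (FractionRing A)).restrictScalars A).mapIntegralClosure).trans
    (integralClosurePiEquiv A (resField A))

instance (M : MaximalSpectrum (FractionRing A)) : Algebra.EssFiniteType A (resField A M) := by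
  haveI : Algebra.EssFiniteType A (FractionRing A) :=
    Algebra.EssFiniteType.of_isLocalization (FractionRing A) (nonZeroDivisors A)
  exact Algebra.EssFiniteType.comp A (FractionRing A) (resField A M)

variable {A}

theorem finite_normalization (hA : IsNagata A) :
    Module.Finite A (integralClosure A (FractionRing A)) := by
  haveI : ∀ M : MaximalSpectrum (FractionRing A),
      Module.Finite A (integralClosure A (resField A M)) :=
    fun M => finite_integralClosure_field A hA (resField A M)
  exact Module.Finite.equiv (normalizationEquivPi A).symm.toLinearEquiv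

theorem isDomain_isIntegrallyClosed_localization_normalization
    (p : Ideal (integralClosure A (FractionRing A))) [hp : p.IsPrime] :
    IsDomain (Localization.AtPrime p) ∧ IsIntegrallyClosed (Localization.AtPrime p) := by
  let ψ := (normalizationEquivPi A).toRingEquiv
  let P : Ideal (∀ M : MaximalSpectrum (FractionRing A), integralClosure A (resField A M)) :=
    p.map ψ
  haveI hP : P.IsPrime := Ideal.map_isPrime_of_equiv ψ
  haveI : ∀ M : MaximalSpectrum (FractionRing A),
      IsIntegrallyClosed (integralClosure A (resField A M)) :=
    fun M => isIntegrallyClosed_integralClosure_field A (resField A M)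
  obtain ⟨h1, h2⟩ := isDomain_isIntegrallyClosed_localization_pi
    (fun M : MaximalSpectrum (FractionRing A) => integralClosure A (resField A M)) P
  have hmap : p.primeCompl.map ψ.toMonoidHom = P.primeCompl := by
    ext y
    simp only [Submonoid.mem_map, Ideal.mem_primeCompl_iff]
    constructor
    · rintro ⟨x, hx, rfl⟩ hy
      apply hx
      have := (Ideal.mem_map_of_equiv ψ (ψ x)).mp hy
      obtain ⟨z, hz, hzx⟩ := this
      rwa [← ψ.injective hzx]
    · intro hy
      refine ⟨ψ.symm y, fun h => hy ?_, ψ.apply_symm_apply y⟩
      have := Ideal.mem_map_of_mem ψ h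
      simpa using this
  let e : Localization.AtPrime p ≃+* Localization.AtPrime P :=
    IsLocalization.ringEquivOfRingEquiv (Localization.AtPrime p) (Localization.AtPrime P) ψ hmap
  haveI := h1
  haveI := h2
  exact ⟨e.toMulEquiv.isDomain (Localization.AtPrime P), IsIntegrallyClosed.of_equiv e.symm⟩

end Main

/-- A finite module over a one-dimensional Noetherian ring killed by a nonzerodivisor has finite
length. -/
theorem isFiniteLength_of_smul_eq_zero {A M : Type*} [CommRing A] [IsNoetherianRing A]
    [Ring.KrullDimLE 1 A] [AddCommGroup M] [Module A M] [Module.Finite A M] {s : A}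
    (hs : s ∈ nonZeroDivisors A) (h : ∀ m : M, s • m = 0) : IsFiniteLength A M := by
  rw [isFiniteLength_iff_isNoetherian_isArtinian]
  refine ⟨inferInstance, ?_⟩
  have hB : IsFiniteLength A (A ⧸ Ideal.span {s}) := isFiniteLength_quotient_span_singleton A hs
  rw [isFiniteLength_iff_isNoetherian_isArtinian] at hB
  haveI : IsArtinianRing (A ⧸ Ideal.span {s}) := isArtinian_of_tower A hB.2
  have htors : Module.IsTorsionBySet A M (Ideal.span {s} : Ideal A) := by
    rw [Module.isTorsionBySet_iff_subset_annihilator]
    intro a ha
    rw [SetLike.mem_coe, Ideal.mem_span_singleton'] at ha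
    obtain ⟨c, rfl⟩ := ha
    rw [SetLike.mem_coe, Module.mem_annihilator]
    intro m
    rw [mul_smul, h, smul_zero]
  letI : Module (A ⧸ Ideal.span {s}) M := htors.module
  haveI : IsScalarTower A (A ⧸ Ideal.span {s}) M := htors.isScalarTower
  haveI : Module.Finite (A ⧸ Ideal.span {s}) M := Module.Finite.of_restrictScalars_finite A _ M
  exact isArtinian_of_surjective_algebraMap (R := A ⧸ Ideal.span {s}) (S := A)
    Ideal.Quotient.mk_surjective

/-- If the integral closure `A'` of `A` in its total ring of fractions is finite and `A` is
Noetherian of dimension `≤ 1`, then `A'/A` has finite length. -/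
theorem length_quotient_lt_top {A : Type*} [CommRing A] [IsNoetherianRing A]
    [Ring.KrullDimLE 1 A] [Module.Finite A (integralClosure A (FractionRing A))] :
    Module.length A (↥(integralClosure A (FractionRing A)) ⧸
      LinearMap.range (Algebra.linearMap A ↥(integralClosure A (FractionRing A)))) < ⊤ := by
  have hfg : (integralClosure A (FractionRing A)).toSubmodule.FG :=
    Module.Finite.iff_fg.mp ‹_›
  obtain ⟨s, hs, hI⟩ := FractionalIdeal.isFractional_of_fg (S := nonZeroDivisors A) hfg
  rw [lt_top_iff_ne_top, Module.length_ne_top_iff]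
  refine isFiniteLength_of_smul_eq_zero hs ?_
  intro m
  obtain ⟨x, rfl⟩ := Submodule.Quotient.mk_surjective _ m
  rw [← Submodule.Quotient.mk_smul, Submodule.Quotient.mk_eq_zero]
  obtain ⟨a, ha⟩ := hI x.1 x.2
  refine ⟨a, Subtype.ext ?_⟩
  simpa using ha

/-- Transport of "localization at a prime is a normal domain" along a ring isomorphism. -/
theorem isDomain_isIntegrallyClosed_localization_of_ringEquiv {R R' : Type*} [CommRing R]
    [CommRing R'] (ψ : R ≃+* R') (p : Ideal R) [hp : p.IsPrime]
    (h : ∀ (P : Ideal R') [P.IsPrime],
      IsDomain (Localization.AtPrime P) ∧ IsIntegrallyClosed (Localization.AtPrime P)) :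
    IsDomain (Localization.AtPrime p) ∧ IsIntegrallyClosed (Localization.AtPrime p) := by
  let P : Ideal R' := p.map ψ
  haveI hP : P.IsPrime := Ideal.map_isPrime_of_equiv ψ
  obtain ⟨h1, h2⟩ := h P
  have hmap : p.primeCompl.map ψ.toMonoidHom = P.primeCompl := by
    ext y
    simp only [Submonoid.mem_map, Ideal.mem_primeCompl_iff]
    constructor
    · rintro ⟨x, hx, rfl⟩ hy
      apply hx
      have := (Ideal.mem_map_of_equiv ψ (ψ x)).mp hy
      obtain ⟨z, hz, hzx⟩ := this
      rwa [← ψ.injective hzx]
    · intro hy
      refine ⟨ψ.symm y, fun h => hy ?_, ψ.apply_symm_apply y⟩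
      have := Ideal.mem_map_of_mem ψ h
      simpa using this
  let e : Localization.AtPrime p ≃+* Localization.AtPrime P :=
    IsLocalization.ringEquivOfRingEquiv (Localization.AtPrime p) (Localization.AtPrime P) ψ hmap
  haveI := h1
  haveI := h2
  exact ⟨e.toMulEquiv.isDomain (Localization.AtPrime P), IsIntegrallyClosed.of_equiv e.symm⟩

/-- A local ring all of whose localizations at primes are normal domains is a normal domain. -/
theorem isDomain_isIntegrallyClosed_of_isLocalRing {R : Type*} [CommRing R] [IsLocalRing R]
    (h : IsDomain (Localization.AtPrime (IsLocalRing.maximalIdeal R)) ∧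
      IsIntegrallyClosed (Localization.AtPrime (IsLocalRing.maximalIdeal R))) :
    IsDomain R ∧ IsIntegrallyClosed R := by
  obtain ⟨h1, h2⟩ := h
  have hle : (IsLocalRing.maximalIdeal R).primeCompl ≤ IsUnit.submonoid R := by
    intro x hx
    rw [Ideal.mem_primeCompl_iff, IsLocalRing.mem_maximalIdeal, mem_nonunits_iff, not_not] at hx
    exact hx
  let e : R ≃ₐ[R] Localization.AtPrime (IsLocalRing.maximalIdeal R) :=
    IsLocalization.atUnits R (IsLocalRing.maximalIdeal R).primeCompl hle
  exact ⟨e.toRingEquiv.toMulEquiv.isDomain _, IsIntegrallyClosed.of_equiv e.symm.toRingEquiv⟩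

/-- For a reduced Noetherian ring of dimension `≤ 1` with finite normalization: if `A → A'` is
surjective then all localizations of `A` at primes are normal domains. -/
theorem deltaInv_eq_zero_iff_dvr (A : Type u) [CommRing A] [IsLocalRing A]
    [IsReduced A] (hN : CAlg.IsNagata A) (hdim : ringKrullDim A = 1) :
    Module.length A (↥(integralClosure A (FractionRing A)) ⧸
      LinearMap.range (Algebra.linearMap A ↥(integralClosure A (FractionRing A)))) = 0 ↔
      ∃ _ : IsDomain A, IsDiscreteValuationRing A := by
  haveI : IsNoetherianRing A := hN.1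
  haveI hK1 : Ring.KrullDimLE 1 A := by
    rw [Ring.KrullDimLE, Order.krullDimLE_iff]
    exact hdim.le
  rw [Module.length_eq_zero_iff, Submodule.Quotient.subsingleton_iff,
    LinearMap.range_eq_top]
  constructor
  · intro hsurj
    have hinj : Function.Injective (algebraMap A (integralClosure A (FractionRing A))) := by
      intro a b hab
      apply IsFractionRing.injective A (FractionRing A)
      exact congrArg Subtype.val hab
    let ψ : A ≃+* integralClosure A (FractionRing A) :=
      RingEquiv.ofBijective (algebraMap A (integralClosure A (FractionRing A))) ⟨hinj, hsurj⟩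
    have h1 := isDomain_isIntegrallyClosed_localization_of_ringEquiv ψ (IsLocalRing.maximalIdeal A)
      (fun P _ => isDomain_isIntegrallyClosed_localization_normalization P)
    obtain ⟨hD, hIC⟩ := isDomain_isIntegrallyClosed_of_isLocalRing h1
    refine ⟨hD, ?_⟩
    have hnf : ¬ IsField A := by
      intro hf
      have := ringKrullDim_eq_zero_of_isField hf
      rw [hdim] at this
      exact one_ne_zero this
    refine ((IsDiscreteValuationRing.TFAE A hnf).out 0 2).mpr ?_
    exact { toIsDomain := hD
            maximalOfPrime := fun {p} hp0 hp =>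
              Ring.krullDimLE_one_iff_of_noZeroDivisors.mp hK1 p hp0 hp }
  · rintro ⟨hD, hdvr⟩
    intro x
    have hx : (x : FractionRing A) ∈ (⊥ : Subalgebra A (FractionRing A)) := by
      rw [← IsIntegrallyClosed.integralClosure_eq_bot (R := A) (K := FractionRing A)]
      exact x.2
    obtain ⟨a, ha⟩ := Algebra.mem_bot.mp hx
    exact ⟨a, Subtype.ext ha⟩

end Groth.Agent.Lib.Helper4.TotalFrac
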