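import Mathlib
import Groth.Agent.Lib.Helper28ComplNagata
import Groth.Agent.Lib.Helper4TotalFrac
import Groth.Agent.Lib.Helper19ComplNoeth

/-!
# Analytically unramified local domains (helper28)
-/

set_option autoImplicit false
set_option linter.unusedSectionVars false
set_option linter.style.haveILetI false
set_option linter.deprecated false
universe u
open CAlg IsLocalRing TensorProduct

namespace Groth.Agent.Lib.Helper28


/-- Descent of finiteness of the integral closure along a faithfully flat extension `R → C` with `C`
reduced Noetherian whose normalization is finite. -/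
theorem isN1_of_faithfullyFlat {R : Type u} [CommRing R] [IsDomain R] (C : Type u) [CommRing C]
    [Algebra R C] [Module.FaithfullyFlat R C] [IsNoetherianRing C]
    (hfin : Module.Finite C (integralClosure C (FractionRing C))) : CAlg.IsN1 R := by
  unfold CAlg.IsN1
  have hreg : ∀ r : R, r ∈ nonZeroDivisors R → algebraMap R C r ∈ nonZeroDivisors C := by
    intro r hr
    have h1 : IsSMulRegular R r := (isRegular_iff_mem_nonZeroDivisors.mpr hr).isSMulRegular
    have h2 : IsSMulRegular C (algebraMap R C r) := h1.of_flat
    rw [← isRegular_iff_mem_nonZeroDivisors]
    exact isLeftRegular_iff_isRegular.mp h2.isLeftRegular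
  have hunit : ∀ y : nonZeroDivisors R,
      IsUnit ((Algebra.ofId R (FractionRing C) : R →ₐ[R] FractionRing C) y) := by
    intro y
    have h1 : (Algebra.ofId R (FractionRing C)) (y : R) =
        algebraMap C (FractionRing C) (algebraMap R C y) :=
      IsScalarTower.algebraMap_apply R C (FractionRing C) y
    rw [h1]
    exact IsLocalization.map_units (FractionRing C) ⟨_, hreg y y.2⟩
  let ι : FractionRing R →ₐ[R] FractionRing C := IsLocalization.liftAlgHom hunit
  let g : integralClosure R (FractionRing R) →ₐ[R] FractionRing C :=
    ι.comp (integralClosure R (FractionRing R)).val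
  let f : C ⊗[R] integralClosure R (FractionRing R) →ₐ[C] FractionRing C :=
    Algebra.TensorProduct.lift (Algebra.ofId C (FractionRing C)) g (fun _ _ => Commute.all _ _)
  -- `f` is injective
  have hf : Function.Injective f := by
    -- factor through `C ⊗ K`
    let g₂ : C ⊗[R] FractionRing R →ₐ[C] FractionRing C :=
      Algebra.TensorProduct.lift (Algebra.ofId C (FractionRing C)) ι (fun _ _ => Commute.all _ _)
    have hfac : ∀ t, f t = g₂ (LinearMap.lTensor C
        (integralClosure R (FractionRing R)).val.toLinearMap t) := by
      intro t
      induction t using TensorProduct.induction_on with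
      | zero => simp
      | tmul c r => simp [f, g₂, g]
      | add a b ha hb => rw [map_add, map_add, map_add, ha, hb]
    have h1 : Function.Injective (LinearMap.lTensor C
        (integralClosure R (FractionRing R)).val.toLinearMap) :=
      Module.Flat.lTensor_preserves_injective_linearMap _ Subtype.val_injective
    have h2 : Function.Injective g₂ := by
      rw [injective_iff_map_eq_zero]
      intro z hz
      obtain ⟨⟨c, m⟩, hcm⟩ := IsLocalization.surj
        (Algebra.algebraMapSubmonoid C (nonZeroDivisors R)) z
      have h3 : g₂ (z * algebraMap C (C ⊗[R] FractionRing R) m) = 0 := by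
        rw [map_mul, hz, zero_mul]
      rw [hcm, AlgHom.commutes] at h3
      have h4 : c = 0 := IsFractionRing.injective C (FractionRing C) (by rw [h3, map_zero])
      rw [h4, map_zero] at hcm
      exact (IsLocalization.map_units (C ⊗[R] FractionRing R) m).mul_left_eq_zero.mp hcm
    intro a b hab
    rw [hfac, hfac] at hab
    exact h1 (h2 hab)
  -- `f` lands in the integral closure
  let F : C ⊗[R] integralClosure R (FractionRing R) →ₐ[C] integralClosure C (FractionRing C) :=
    f.codRestrict _ (fun t => (Algebra.IsIntegral.isIntegral t).map f)
  have hF : Function.Injective F := by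
    intro a b hab
    exact hf (congrArg Subtype.val hab)
  haveI : IsNoetherian C (integralClosure C (FractionRing C)) :=
    isNoetherian_of_isNoetherianRing_of_finite C _
  haveI : Module.Finite C (C ⊗[R] integralClosure R (FractionRing R)) :=
    Module.Finite.of_injective F.toLinearMap hF
  exact Module.Finite.of_finite_tensorProduct_of_faithfullyFlat C


/-- An analytically unramified Noetherian local domain is N-1. -/
theorem isN1_of_isReduced_adicCompletion {R : Type u} [CommRing R] [IsDomain R] [IsLocalRing R]
    [IsNoetherianRing R] [IsReduced (AdicCompletion (IsLocalRing.maximalIdeal R) R)] : CAlg.IsN1 R := by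
  haveI hNS : IsNoetherianRing (AdicCompletion (IsLocalRing.maximalIdeal R) R) :=
    Groth.Agent.Lib.Helper19.isNoetherianRing_adicCompletion _
  haveI : Module.FaithfullyFlat R (AdicCompletion (IsLocalRing.maximalIdeal R) R) :=
    Module.FaithfullyFlat.of_flat_of_isLocalHom
  have hNag : CAlg.IsNagata (AdicCompletion (IsLocalRing.maximalIdeal R) R) :=
    Groth.Agent.Lib.Helper28.isNagata_of_isAdicComplete_local _
  exact isN1_of_faithfullyFlat (AdicCompletion (IsLocalRing.maximalIdeal R) R)
    (Groth.Agent.Lib.Helper4.TotalFrac.finite_normalization hNag)


end Groth.Agent.Lib.Helper28
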