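import Mathlib

set_option autoImplicit false
set_option linter.unusedSectionVars false
set_option linter.style.haveILetI false
set_option linter.deprecated false
universe u
open Polynomial

namespace Groth.Agent.Lib.Helper28.WeakKrull

/-- `scaleRoots` commutes with finite products of monic polynomials. -/
theorem scaleRoots_prod_of_monic {R : Type*} [CommRing R] [Nontrivial R] {ι : Type*}
    (s : Finset ι) (q : ι → R[X]) (hq : ∀ i ∈ s, (q i).Monic) (r : R) :
    (∏ i ∈ s, q i).scaleRoots r = ∏ i ∈ s, (q i).scaleRoots r := by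
  classical
  induction s using Finset.induction_on with
  | empty => simp [one_scaleRoots]
  | insert i s hi ih =>
    rw [Finset.prod_insert hi, Finset.prod_insert hi, mul_scaleRoots', ih]
    · intro j hj; exact hq j (Finset.mem_insert_of_mem hj)
    · have h1 : (q i).Monic := hq i (Finset.mem_insert_self i s)
      have h2 : (∏ j ∈ s, q j).Monic :=
        monic_prod_of_monic s q (fun j hj => hq j (Finset.mem_insert_of_mem hj))
      rw [h1.leadingCoeff, h2.leadingCoeff, one_mul]
      exact one_ne_zero

/-- `scaleRoots` commutes with powers of monic polynomials. -/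
theorem scaleRoots_pow_of_monic {R : Type*} [CommRing R] [Nontrivial R]
    (q : R[X]) (hq : q.Monic) (r : R) (n : ℕ) :
    (q ^ n).scaleRoots r = (q.scaleRoots r) ^ n := by
  apply pow_scaleRoots'
  rw [hq.leadingCoeff, one_pow]
  exact one_ne_zero

/-- Expansion of `eval a (scaleRoots q b)` for monic `q`. -/
theorem eval_scaleRoots_monic {R : Type*} [CommRing R] (q : R[X]) (hq : q.Monic) (a b : R) :
    (q.scaleRoots b).eval a =
      a ^ q.natDegree + ∑ i : Fin q.natDegree, q.coeff i * (a ^ (i : ℕ) * b ^ (q.natDegree - i)) := by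
  rw [eval_eq_sum_range, natDegree_scaleRoots, Finset.sum_range_succ, coeff_scaleRoots_natDegree,
    hq.leadingCoeff, one_mul, add_comm, Finset.sum_range]
  congr 1
  apply Finset.sum_congr rfl
  intro i _
  rw [coeff_scaleRoots]
  ring


/-- **Descent of integrality.** Let `O → S` be faithfully flat with `S` Noetherian and `O` a domain
with fraction field `K`. If for every minimal prime `P` of `S` the element `a` is integral over the
ideal `b S` modulo `P`, then `a / b` is integral over `O`. -/
theorem isIntegral_div_of_forall_minimalPrimes {O S K : Type*} [CommRing O] [IsDomain O]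
    [CommRing S] [IsNoetherianRing S] [Algebra O S] [Module.FaithfullyFlat O S]
    [Field K] [Algebra O K] [FaithfulSMul O K]
    (a b : O) (hb : b ≠ 0)
    (h : ∀ P ∈ minimalPrimes S, ∃ q : S[X], q.Monic ∧
      (q.scaleRoots (algebraMap O S b)).eval (algebraMap O S a) ∈ P) :
    IsIntegral O (algebraMap O K a / algebraMap O K b) := by
  classical
  haveI : Nontrivial S := (FaithfulSMul.algebraMap_injective O S).nontrivial
  set aS := algebraMap O S a with haS
  set bS := algebraMap O S b with hbS
  -- step (ii): a single monic polynomial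
  have hfin : (minimalPrimes S).Finite := minimalPrimes.finite_of_isNoetherianRing S
  let F := hfin.toFinset
  let q' : Ideal S → S[X] := fun P =>
    if hP : P ∈ minimalPrimes S then Classical.choose (h P hP) else 1
  have hq'mon : ∀ P, (q' P).Monic := by
    intro P
    by_cases hP : P ∈ minimalPrimes S
    · simp only [q', dif_pos hP]; exact (Classical.choose_spec (h P hP)).1
    · simp only [q', dif_neg hP]; exact monic_one
  have hq'mem : ∀ P ∈ minimalPrimes S, ((q' P).scaleRoots bS).eval aS ∈ P := by
    intro P hP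
    simp only [q', dif_pos hP]; exact (Classical.choose_spec (h P hP)).2
  let Q : S[X] := ∏ P ∈ F, q' P
  have hQmon : Q.Monic := monic_prod_of_monic F q' (fun P _ => hq'mon P)
  have hQeval : (Q.scaleRoots bS).eval aS = ∏ P ∈ F, ((q' P).scaleRoots bS).eval aS := by
    rw [scaleRoots_prod_of_monic F q' (fun P _ => hq'mon P), eval_prod]
  have hQnil : IsNilpotent ((Q.scaleRoots bS).eval aS) := by
    rw [← mem_nilradical, nilradical, ← Ideal.sInf_minimalPrimes, Ideal.mem_sInf]
    intro P hP
    have hP' : P ∈ minimalPrimes S := hP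
    rw [hQeval]
    exact Ideal.mem_of_dvd P (Finset.dvd_prod_of_mem _ (hfin.mem_toFinset.mpr hP')) (hq'mem P hP')
  obtain ⟨N, hN⟩ := hQnil
  set q := Q ^ N with hq
  have hqmon : q.Monic := hQmon.pow N
  have hqeval : (q.scaleRoots bS).eval aS = 0 := by
    rw [hq, scaleRoots_pow_of_monic Q hQmon, eval_pow, hN]
  -- step (iii)
  set n := q.natDegree with hn
  let I : Ideal O := Ideal.span (Set.range fun i : Fin n => a ^ (i : ℕ) * b ^ (n - i))
  have hmem : aS ^ n ∈ I.map (algebraMap O S) := by
    rw [eval_scaleRoots_monic q hqmon, add_eq_zero_iff_eq_neg] at hqeval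
    rw [hqeval]
    refine neg_mem (Ideal.sum_mem _ fun i _ => Ideal.mul_mem_left _ _ ?_)
    have h' : a ^ (i : ℕ) * b ^ (n - i) ∈ I := Ideal.subset_span ⟨i, rfl⟩
    have h'' := Ideal.mem_map_of_mem (algebraMap O S) h'
    rwa [map_mul, map_pow, map_pow] at h''
  -- step (iv)
  have hmemO : a ^ n ∈ I := by
    have h1 : a ^ n ∈ (I.map (algebraMap O S)).comap (algebraMap O S) := by
      rw [Ideal.mem_comap, map_pow]; exact hmem
    rwa [Ideal.comap_map_eq_self_of_faithfullyFlat] at h1
  -- step (v)
  obtain ⟨c, hc⟩ := (Ideal.mem_span_range_iff_exists_fun).mp hmemO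
  set α := algebraMap O K a with hα
  set β := algebraMap O K b with hβ
  have hβ0 : β ≠ 0 := by
    rw [hβ, Ne, map_eq_zero_iff _ (FaithfulSMul.algebraMap_injective O K)]; exact hb
  let p : O[X] := X ^ n - ∑ i : Fin n, C (c i) * X ^ (i : ℕ)
  have hpmon : p.Monic := monic_X_pow_sub (degree_sum_fin_lt c)
  refine ⟨p, hpmon, ?_⟩
  have hcK : ∑ i : Fin n, algebraMap O K (c i) * (α ^ (i : ℕ) * β ^ (n - i)) = α ^ n := by
    have := congrArg (algebraMap O K) hc
    simpa [map_sum, map_mul, map_pow] using this
  have key : β ^ n * (p.eval₂ (algebraMap O K) (α / β)) = 0 := by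
    simp only [p, eval₂_sub, eval₂_pow, eval₂_X, eval₂_finset_sum, eval₂_mul, eval₂_C]
    rw [mul_sub, Finset.mul_sum, div_pow, mul_div_cancel₀ _ (pow_ne_zero n hβ0), ← hcK, sub_eq_zero]
    apply Finset.sum_congr rfl
    intro i _
    have hi : (i : ℕ) ≤ n := i.2.le
    rw [div_pow]
    have : β ^ n = β ^ (n - i) * β ^ (i : ℕ) := by rw [← pow_add, Nat.sub_add_cancel hi]
    rw [this]
    field_simp
  exact (mul_eq_zero.mp key).resolve_left (pow_ne_zero n hβ0)

end Groth.Agent.Lib.Helper28.WeakKrull
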