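import Mathlib
import Groth.Agent.Lib.Helper28AnalUnram
import Groth.Agent.Lib.Helper28AUNormal
import Groth.Agent.Lib.Helper28WeakKrull1

set_option autoImplicit false
set_option linter.unusedSectionVars false
set_option linter.style.haveILetI false
set_option linter.deprecated false
universe u
open Polynomial IsLocalRing

namespace Groth.Agent.Lib.Helper28.WeakKrull

/-- Bridging lemma: integrality of `a/b` over `S ⧸ P` gives an integral dependence of `a` on `b S`
modulo `P`. -/
theorem exists_monic_of_isIntegral_quotient {S : Type*} [CommRing S] (P : Ideal S) [P.IsPrime]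
    (L : Type*) [Field L] [Algebra (S ⧸ P) L] [IsFractionRing (S ⧸ P) L] (a b : S) (hb : b ∉ P)
    (h : IsIntegral (S ⧸ P) (algebraMap (S ⧸ P) L (Ideal.Quotient.mk P a) /
      algebraMap (S ⧸ P) L (Ideal.Quotient.mk P b))) :
    ∃ q : S[X], q.Monic ∧ (q.scaleRoots b).eval a ∈ P := by
  obtain ⟨p, hp, hpe⟩ := h
  have hinj : Function.Injective (algebraMap (S ⧸ P) L) := IsFractionRing.injective _ _
  have hb0 : Ideal.Quotient.mk P b ≠ 0 := by
    rw [Ne, Ideal.Quotient.eq_zero_iff_mem]; exact hb
  have h1 := scaleRoots_aeval_eq_zero_of_aeval_div_eq_zero hinj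
    (p := p) (r := Ideal.Quotient.mk P a) (s := Ideal.Quotient.mk P b) hpe
    (mem_nonZeroDivisors_of_ne_zero hb0)
  rw [aeval_algebraMap_apply, map_eq_zero_iff _ hinj] at h1
  have hlift : p ∈ Polynomial.lifts (Ideal.Quotient.mk P) := by
    rw [Polynomial.mem_lifts]
    exact Polynomial.map_surjective _ Ideal.Quotient.mk_surjective p
  obtain ⟨q, hq, -, hqm⟩ := Polynomial.lifts_and_natDegree_eq_and_monic hlift hp
  refine ⟨q, hqm, ?_⟩
  rw [← Ideal.Quotient.eq_zero_iff_mem]
  have h2 : (q.scaleRoots b).map (Ideal.Quotient.mk P) =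
      (q.map (Ideal.Quotient.mk P)).scaleRoots (Ideal.Quotient.mk P b) := by
    apply map_scaleRoots
    rw [hqm.leadingCoeff, map_one]; exact one_ne_zero
  have h3 : Ideal.Quotient.mk P ((q.scaleRoots b).eval a) =
      ((q.scaleRoots b).map (Ideal.Quotient.mk P)).eval (Ideal.Quotient.mk P a) := by
    rw [eval_map, eval₂_at_apply]
  rw [h3, h2, hq]
  simpa using h1


section Local

variable (O : Type u) [CommRing O] [IsDomain O] [IsNoetherianRing O] [IsLocalRing O]
  (K : Type u) [Field K] [Algebra O K] [IsFractionRing O K]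

local notation "Ohat" => AdicCompletion (maximalIdeal O) O

/-- the map `O → Ô ⧸ P`. -/
noncomputable def rho (P : Ideal Ohat) : O →+* Ohat ⧸ P :=
  (Ideal.Quotient.mk P).comp (algebraMap O Ohat)

theorem algebraMap_not_mem_of_mem_minimalPrimes (P : Ideal Ohat) (hP : P ∈ minimalPrimes Ohat)
    (b : O) (hb : b ≠ 0) : algebraMap O Ohat b ∉ P := by
  intro hbP
  have h1 : IsSMulRegular O b :=
    (isRegular_iff_mem_nonZeroDivisors.mpr (mem_nonZeroDivisors_of_ne_zero hb)).isSMulRegular
  have h2 : IsSMulRegular Ohat (algebraMap O Ohat b) := h1.of_flat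
  have h3 : algebraMap O Ohat b ∈ nonZeroDivisors Ohat := by
    rw [← isRegular_iff_mem_nonZeroDivisors]
    exact isLeftRegular_iff_isRegular.mp h2.isLeftRegular
  exact Set.disjoint_left.mp (Ideal.disjoint_nonZeroDivisors_of_mem_minimalPrimes hP) hbP h3

theorem rho_injective (P : Ideal Ohat) (hP : P ∈ minimalPrimes Ohat) :
    Function.Injective (rho O P) := by
  rw [injective_iff_map_eq_zero]
  intro b hb
  by_contra hb0
  refine algebraMap_not_mem_of_mem_minimalPrimes O P hP b hb0 ?_
  rw [← Ideal.Quotient.eq_zero_iff_mem]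
  exact hb


theorem injective_comp_rho (P : Ideal Ohat) [P.IsPrime] (hP : P ∈ minimalPrimes Ohat) :
    Function.Injective
      ((algebraMap (Ohat ⧸ P) (FractionRing (Ohat ⧸ P))).comp (rho O P)) := by
  rw [RingHom.coe_comp]
  exact (IsFractionRing.injective (Ohat ⧸ P) (FractionRing (Ohat ⧸ P))).comp
    (rho_injective O P hP)

/-- the induced map of fraction fields `K → Frac (Ô ⧸ P)`. -/
noncomputable def psi (P : Ideal Ohat) [P.IsPrime] (hP : P ∈ minimalPrimes Ohat) :
    K →+* FractionRing (Ohat ⧸ P) :=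
  IsFractionRing.lift (A := O) (K := K) (injective_comp_rho O P hP)

theorem psi_algebraMap (P : Ideal Ohat) [P.IsPrime] (hP : P ∈ minimalPrimes Ohat) (a : O) :
    psi O K P hP (algebraMap O K a) =
      algebraMap (Ohat ⧸ P) (FractionRing (Ohat ⧸ P))
        (Ideal.Quotient.mk P (algebraMap O Ohat a)) := by
  unfold psi
  rw [IsFractionRing.lift_algebraMap]
  rfl

theorem isIntegral_psi (P : Ideal Ohat) [P.IsPrime] (hP : P ∈ minimalPrimes Ohat) (x : K)
    (hx : IsIntegral O x) : IsIntegral (Ohat ⧸ P) (psi O K P hP x) := by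
  refine IsIntegral.map_of_comp_eq (rho O P) (psi O K P hP) ?_ hx
  ext a
  exact (psi_algebraMap O K P hP a).symm

/-- **Key descent**: an element of `K` whose images in all `Frac (Ô ⧸ P)` are integral over
`Ô ⧸ P` is integral over `O`. -/
theorem isIntegral_of_forall_psi (y : K)
    (h : ∀ (P : Ideal Ohat) [P.IsPrime] (hP : P ∈ minimalPrimes Ohat),
      IsIntegral (Ohat ⧸ P) (psi O K P hP y)) : IsIntegral O y := by
  obtain ⟨a, b, hb, rfl⟩ := IsFractionRing.div_surjective (A := O) y
  have hb0 : b ≠ 0 := nonZeroDivisors.ne_zero hb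
  haveI hNS : IsNoetherianRing Ohat := Groth.Agent.Lib.Helper19.isNoetherianRing_adicCompletion _
  haveI : Module.FaithfullyFlat O Ohat := Module.FaithfullyFlat.of_flat_of_isLocalHom
  refine isIntegral_div_of_forall_minimalPrimes (S := Ohat) a b hb0 ?_
  intro P hP
  haveI : P.IsPrime := hP.1.1
  have h1 := h P hP
  rw [map_div₀, psi_algebraMap, psi_algebraMap] at h1
  exact exists_monic_of_isIntegral_quotient P _ _ _
    (algebraMap_not_mem_of_mem_minimalPrimes O P hP b hb0) h1


/-- the map from the integral closure of `O` to the normalization of `Ô ⧸ P`. -/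
noncomputable def theta (P : Ideal Ohat) [P.IsPrime] (hP : P ∈ minimalPrimes Ohat) :
    integralClosure O K →+* integralClosure (Ohat ⧸ P) (FractionRing (Ohat ⧸ P)) where
  toFun x := ⟨psi O K P hP x, isIntegral_psi O K P hP x x.2⟩
  map_one' := Subtype.ext (by simp)
  map_mul' x y := Subtype.ext (by simp)
  map_zero' := Subtype.ext (by simp)
  map_add' x y := Subtype.ext (by simp)

theorem theta_injective (P : Ideal Ohat) [P.IsPrime] (hP : P ∈ minimalPrimes Ohat) :
    Function.Injective (theta O K P hP) := by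
  intro x y hxy
  have h1 : psi O K P hP x = psi O K P hP y := congrArg Subtype.val hxy
  exact Subtype.ext ((psi O K P hP).injective h1)

/-- the normalization of `Ô ⧸ P` is a finite `Ô ⧸ P`-module. -/
theorem finite_normalization_quotient (P : Ideal Ohat) [P.IsPrime] :
    Module.Finite (Ohat ⧸ P) (integralClosure (Ohat ⧸ P) (FractionRing (Ohat ⧸ P))) := by
  haveI hNS : IsNoetherianRing Ohat := Groth.Agent.Lib.Helper19.isNoetherianRing_adicCompletion _
  have hNag : CAlg.IsNagata Ohat := Groth.Agent.Lib.Helper28.isNagata_of_isAdicComplete_local _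
  exact hNag.2 P (FractionRing (Ohat ⧸ P)) inferInstance

/-- **Weak Krull property, first stage**: the integral closure of a Noetherian local domain embeds
compatibly with divisibility into finitely many Noetherian normal domains. -/
theorem exists_normal_family :
    ∃ (ι : Type u) (_ : Finite ι) (W : ι → Type u) (_ : ∀ j, CommRing (W j))
      (_ : ∀ j, IsDomain (W j)) (_ : ∀ j, IsNoetherianRing (W j))
      (_ : ∀ j, IsIntegrallyClosed (W j)) (θ : ∀ j, integralClosure O K →+* W j),
      (∀ j, Function.Injective (θ j)) ∧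
      ∀ s x : integralClosure O K, s ≠ 0 → (∀ j, θ j s ∣ θ j x) → s ∣ x := by
  haveI hNS : IsNoetherianRing Ohat := Groth.Agent.Lib.Helper19.isNoetherianRing_adicCompletion _
  have hprime : ∀ j : {P : Ideal Ohat // P ∈ minimalPrimes Ohat}, j.1.IsPrime := fun j => j.2.1.1
  refine ⟨{P : Ideal Ohat // P ∈ minimalPrimes Ohat},
    (minimalPrimes.finite_of_isNoetherianRing Ohat).to_subtype,
    fun j => integralClosure (Ohat ⧸ j.1) (FractionRing (Ohat ⧸ j.1)),
    fun j => inferInstance, fun j => ?_, fun j => ?_, fun j => ?_,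
    fun j => haveI := hprime j; theta O K j.1 j.2, fun j => ?_, ?_⟩
  · haveI := hprime j; infer_instance
  · haveI := hprime j
    haveI := finite_normalization_quotient O j.1
    exact IsNoetherianRing.of_finite (Ohat ⧸ j.1) _
  · haveI := hprime j
    exact integralClosure.isIntegrallyClosedOfFiniteExtension (FractionRing (Ohat ⧸ j.1))
  · haveI := hprime j; exact theta_injective O K j.1 j.2
  · intro s x hs hdiv
    have hsK : (s : K) ≠ 0 := fun h0 => hs (Subtype.ext h0)
    have hy : IsIntegral O ((x : K) / (s : K)) := by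
      refine isIntegral_of_forall_psi O K _ ?_
      intro P _ hP
      obtain ⟨w, hw⟩ := hdiv ⟨P, hP⟩
      have hw' : psi O K P hP x = psi O K P hP s * (w : FractionRing (Ohat ⧸ P)) :=
        congrArg Subtype.val hw
      have hs' : psi O K P hP s ≠ 0 := by
        rw [Ne, map_eq_zero_iff _ (psi O K P hP).injective]; exact hsK
      rw [map_div₀, hw', mul_div_cancel_left₀ _ hs']
      exact w.2
    refine ⟨⟨(x : K) / (s : K), hy⟩, Subtype.ext ?_⟩
    change (x : K) = (s : K) * ((x : K) / (s : K))
    rw [mul_div_cancel₀ _ hsK]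

end Local

end Groth.Agent.Lib.Helper28.WeakKrull
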