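import Mathlib
import Groth.Agent.Lib.Helper22AssHeightOne

set_option autoImplicit false
set_option linter.unusedSectionVars false
set_option linter.style.haveILetI false
set_option linter.deprecated false
universe u
open Polynomial IsLocalRing

namespace Groth.Agent.Lib.Helper28.WeakKrull

section NormalAss

variable (W : Type u) [CommRing W] [IsDomain W] [IsNoetherianRing W] [IsIntegrallyClosed W]

/-- The localization of a Noetherian integrally closed domain at a height one prime is a DVR. -/
theorem isDiscreteValuationRing_localization_of_height_one (Q : Ideal W) [Q.IsPrime]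
    (hQ : Q.height = 1) : IsDiscreteValuationRing (Localization.AtPrime Q) := by
  haveI : IsIntegrallyClosed (Localization.AtPrime Q) :=
    isIntegrallyClosed_of_isLocalization (Localization.AtPrime Q) Q.primeCompl
      Q.primeCompl_le_nonZeroDivisors
  have hdim : ringKrullDim (Localization.AtPrime Q) = 1 := by
    rw [IsLocalization.AtPrime.ringKrullDim_eq_height Q, hQ]; rfl
  have hnf : ¬ IsField (Localization.AtPrime Q) := by
    intro hf
    have := ringKrullDim_eq_zero_of_isField hf
    rw [hdim] at this
    exact one_ne_zero this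
  haveI : Ring.KrullDimLE 1 (Localization.AtPrime Q) := by
    rw [Ring.krullDimLE_iff, hdim]; rfl
  have hmax : ∀ I : Ideal (Localization.AtPrime Q), I ≠ ⊥ → I.IsPrime → I.IsMaximal :=
    Ring.krullDimLE_one_iff_of_noZeroDivisors.mp inferInstance
  have key : IsIntegrallyClosed (Localization.AtPrime Q) ∧
      ∃! P : Ideal (Localization.AtPrime Q), P ≠ ⊥ ∧ P.IsPrime := by
    refine ⟨inferInstance, maximalIdeal _, ⟨?_, inferInstance⟩, ?_⟩
    · intro h0
      exact hnf (IsLocalRing.isField_iff_maximalIdeal_eq.mpr h0)
    · rintro P ⟨hP0, hPp⟩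
      exact IsLocalRing.eq_maximalIdeal (hmax P hP0 hPp)
  exact ((IsDiscreteValuationRing.TFAE (Localization.AtPrime Q) hnf).out 3 0).mp key

/-- Associated primes of a nonzero principal ideal localize to DVRs. -/
theorem isDiscreteValuationRing_localization_of_mem_associatedPrimes (s : W) (hs : s ≠ 0)
    (Q : Ideal W) [Q.IsPrime] (hQ : Q ∈ associatedPrimes W (W ⧸ Ideal.span {s})) :
    IsDiscreteValuationRing (Localization.AtPrime Q) :=
  isDiscreteValuationRing_localization_of_height_one W Q
    (Groth.Agent.Lib.Helper22.AssHeightOne.height_eq_one_of_mem_associatedPrimes s hs Q hQ)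

/-- Divisibility by `s` can be tested in the localizations at the associated primes of `(s)`. -/
theorem dvd_of_forall_associatedPrimes (s z : W)
    (h : ∀ (Q : Ideal W) [Q.IsPrime], Q ∈ associatedPrimes W (W ⧸ Ideal.span {s}) →
      algebraMap W (Localization.AtPrime Q) s ∣ algebraMap W (Localization.AtPrime Q) z) :
    s ∣ z := by
  by_contra hsz
  have hz : (Ideal.Quotient.mk (Ideal.span {s}) z) ≠ 0 := by
    rw [Ne, Ideal.Quotient.eq_zero_iff_mem, Ideal.mem_span_singleton]; exact hsz
  obtain ⟨Q, hQ, hle⟩ := exists_le_isAssociatedPrime_of_isNoetherianRing W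
    (Ideal.Quotient.mk (Ideal.span {s}) z) hz
  haveI : Q.IsPrime := hQ.isPrime
  obtain ⟨w, hw⟩ := h Q hQ
  obtain ⟨w₀, d, rfl⟩ := IsLocalization.exists_mk'_eq Q.primeCompl w
  have h1 : algebraMap W (Localization.AtPrime Q) (z * d) =
      algebraMap W (Localization.AtPrime Q) (s * w₀) := by
    rw [map_mul, map_mul, hw, mul_assoc, IsLocalization.mk'_spec]
  have h2 : z * d = s * w₀ :=
    IsLocalization.injective (Localization.AtPrime Q) Q.primeCompl_le_nonZeroDivisors h1
  have h3 : (d : W) ∈ Q := by
    apply hle
    rw [Submodule.mem_colon_singleton, Submodule.mem_bot]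
    change Ideal.Quotient.mk (Ideal.span {s}) ((d : W) * z) = 0
    rw [Ideal.Quotient.eq_zero_iff_mem, Ideal.mem_span_singleton, mul_comm, h2]
    exact Dvd.intro _ rfl
  exact d.2 h3

end NormalAss

end Groth.Agent.Lib.Helper28.WeakKrull
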