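import Mathlib

set_option autoImplicit false
set_option linter.unusedSectionVars false
set_option linter.style.haveILetI false
set_option linter.deprecated false
universe u
open Polynomial IsLocalRing TensorProduct

namespace Groth.Agent.Lib.Helper28.WeakKrull

theorem map_scaleRoots_of_monic {R S : Type*} [CommRing R] [CommRing S] (f : R →+* S) (p : R[X])
    (hp : p.Monic) (x : R) : (p.scaleRoots x).map f = (p.map f).scaleRoots (f x) := by
  rcases subsingleton_or_nontrivial S with h | h
  · exact Subsingleton.elim _ _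
  · apply map_scaleRoots
    rw [hp.leadingCoeff, map_one]; exact one_ne_zero

/-- image of an integral dependence relation under a ring hom -/
theorem eval_scaleRoots_map_eq_zero {R S : Type*} [CommRing R] [CommRing S] (f : R →+* S)
    (p : R[X]) (hp : p.Monic) (x ρ : R) (h : (p.scaleRoots x).eval ρ = 0) :
    ((p.map f).scaleRoots (f x)).eval (f ρ) = 0 := by
  rw [← map_scaleRoots_of_monic f p hp, eval_map, eval₂_at_apply, h, map_zero]

/-- **Abstract lemma.** If `τ` is a non-zero-divisor with `(τ)` radical, then an element integral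
over the ideal `(v τ ^ n)` is divisible by `τ ^ n`. -/
theorem pow_dvd_of_eval_scaleRoots_eq_zero {R : Type*} [CommRing R] (τ : R)
    (hτ : τ ∈ nonZeroDivisors R) (hrad : (Ideal.span {τ}).IsRadical) (v : R) (n : ℕ) :
    ∀ (ρ : R) (p : R[X]), p.Monic → (p.scaleRoots (v * τ ^ n)).eval ρ = 0 → τ ^ n ∣ ρ := by
  induction n with
  | zero => intro ρ p _ _; rw [pow_zero]; exact one_dvd ρ
  | succ n ih =>
    intro ρ p hp h
    -- first, `τ ∣ ρ`
    have h1 : τ ∣ ρ := by
      rw [← Ideal.mem_span_singleton]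
      apply hrad
      refine ⟨p.natDegree, ?_⟩
      have h2 := h
      rw [eval_eq_sum_range, natDegree_scaleRoots, Finset.sum_range_succ,
        coeff_scaleRoots_natDegree, hp.leadingCoeff, one_mul, add_eq_zero_iff_neg_eq] at h2
      rw [← h2]
      apply neg_mem
      apply Ideal.sum_mem
      intro i hi
      rw [Finset.mem_range] at hi
      rw [coeff_scaleRoots, Ideal.mem_span_singleton]
      have h3 : τ ∣ (v * τ ^ (n + 1)) ^ (p.natDegree - i) := by
        apply dvd_pow _ (Nat.sub_ne_zero_of_lt hi)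
        exact Dvd.intro_left (v * τ ^ n) (by ring)
      exact Dvd.dvd.mul_right (Dvd.dvd.mul_left h3 _) _
    obtain ⟨ρ₁, rfl⟩ := h1
    have h4 : (p.scaleRoots (v * τ ^ (n + 1))) = (p.scaleRoots (v * τ ^ n)).scaleRoots τ := by
      rw [← scaleRoots_mul]; congr 1; ring
    rw [h4, scaleRoots_eval_mul, natDegree_scaleRoots] at h
    have h5 : (p.scaleRoots (v * τ ^ n)).eval ρ₁ = 0 := by
      have := (mul_comm _ _).trans h
      exact (mul_right_mem_nonZeroDivisors_eq_zero_iff (pow_mem hτ _)).mp this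
    obtain ⟨ρ₂, rfl⟩ := ih ρ₁ p hp h5
    exact ⟨ρ₂, by ring⟩


section SGood

variable (C C' : Type u) [CommRing C] [CommRing C'] [Algebra C C']

/-- `B` is `s`-good (relative to `C → C'`) if every element of `C' ⊗ B` integral over the ideal
generated by `s` is divisible by `s`. -/
def SGood (s : C) (B : Type u) [CommRing B] [Algebra C B] : Prop :=
  ∀ (ρ : C' ⊗[C] B) (p : (C' ⊗[C] B)[X]), p.Monic →
    (p.scaleRoots (algebraMap C (C' ⊗[C] B) s)).eval ρ = 0 → algebraMap C (C' ⊗[C] B) s ∣ ρ

variable {C C'}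

/-- **(G1)** a DVR whose residue field has reduced base change is `s`-good. -/
theorem sGood_of_isDiscreteValuationRing [Module.Flat C C'] (s : C) (U : Type u) [CommRing U]
    [IsDomain U] [IsDiscreteValuationRing U] [Algebra C U] (hs : algebraMap C U s ≠ 0)
    (hred : IsReduced (C' ⊗[C] IsLocalRing.ResidueField U)) : SGood C C' s U := by
  obtain ⟨ϖ, hϖ⟩ := IsDiscreteValuationRing.exists_irreducible U
  obtain ⟨n, u, hu⟩ := IsDiscreteValuationRing.eq_unit_mul_pow_irreducible hs hϖ
  set τ : C' ⊗[C] U := (1 : C') ⊗ₜ[C] ϖ with hτdef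
  have hmulτ : ∀ x : C' ⊗[C] U, τ * x = LinearMap.lTensor C' (LinearMap.mulLeft C ϖ) x := by
    intro x
    induction x using TensorProduct.induction_on with
    | zero => simp
    | tmul a b => simp [hτdef, Algebra.TensorProduct.tmul_mul_tmul]
    | add a b ha hb => rw [mul_add, map_add, ha, hb]
  -- `τ` is a non-zero-divisor
  have hτ : τ ∈ nonZeroDivisors (C' ⊗[C] U) := by
    rw [mem_nonZeroDivisors_iff_right]
    intro x hx
    rw [mul_comm, hmulτ] at hx
    have hinj : Function.Injective (LinearMap.lTensor C' (LinearMap.mulLeft C ϖ)) :=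
      Module.Flat.lTensor_preserves_injective_linearMap _
        (mul_right_injective₀ hϖ.ne_zero)
    exact hinj (hx.trans (map_zero _).symm)
  -- `(τ)` is radical
  let res : U →ₐ[C] IsLocalRing.ResidueField U := IsScalarTower.toAlgHom C U _
  let φ : C' ⊗[C] U →ₐ[C'] C' ⊗[C] IsLocalRing.ResidueField U :=
    Algebra.TensorProduct.map (AlgHom.id C' C') res
  have hφsurj : Function.Surjective φ :=
    Algebra.TensorProduct.map_surjective _ _ Function.surjective_id
      IsLocalRing.residue_surjective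
  have hker : RingHom.ker φ.toRingHom = Ideal.span {τ} := by
    have hexact : Function.Exact (LinearMap.mulLeft C ϖ) res.toLinearMap := by
      intro y
      constructor
      · intro hy
        have : y ∈ maximalIdeal U := (IsLocalRing.residue_eq_zero_iff y).mp hy
        rw [hϖ.maximalIdeal_eq, Ideal.mem_span_singleton] at this
        obtain ⟨z, rfl⟩ := this
        exact ⟨z, rfl⟩
      · rintro ⟨z, rfl⟩
        change IsLocalRing.residue U (ϖ * z) = 0
        rw [IsLocalRing.residue_eq_zero_iff, hϖ.maximalIdeal_eq, Ideal.mem_span_singleton]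
        exact Dvd.intro _ rfl
    have hexact' := lTensor_exact C' hexact IsLocalRing.residue_surjective
    ext x
    rw [RingHom.mem_ker, Ideal.mem_span_singleton]
    have hφx : φ.toRingHom x = LinearMap.lTensor C' res.toLinearMap x := by
      induction x using TensorProduct.induction_on with
      | zero => simp
      | tmul a b => simp [φ]
      | add a b ha hb => rw [map_add, map_add, ha, hb]
    rw [hφx, hexact' x]
    constructor
    · rintro ⟨y, rfl⟩; exact ⟨y, (hmulτ y).symm⟩
    · rintro ⟨y, rfl⟩; exact ⟨y, (hmulτ y).symm⟩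
  have hrad : (Ideal.span {τ}).IsRadical := by
    rw [← hker]
    exact (RingHom.ker_isRadical_iff_reduced_of_surjective hφsurj).mpr hred
  -- conclusion
  intro ρ p hp h
  have hsR : algebraMap C (C' ⊗[C] U) s = ((1 : C') ⊗ₜ[C] (u : U)) * τ ^ n := by
    rw [hτdef, Algebra.TensorProduct.tmul_pow, one_pow, Algebra.TensorProduct.tmul_mul_tmul,
      one_mul, ← hu, Algebra.TensorProduct.algebraMap_apply']
  rw [hsR] at h ⊢
  obtain ⟨ρ₁, rfl⟩ := pow_dvd_of_eval_scaleRoots_eq_zero τ hτ hrad _ n ρ p hp h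
  have hunit : IsUnit ((1 : C') ⊗ₜ[C] (u : U)) := by
    refine IsUnit.of_mul_eq_one ((1 : C') ⊗ₜ[C] ((u⁻¹ : Uˣ) : U)) ?_
    rw [Algebra.TensorProduct.tmul_mul_tmul, one_mul, Units.mul_inv]
    rfl
  obtain ⟨w, hw⟩ := hunit
  refine ⟨(↑w⁻¹ : C' ⊗[C] U) * ρ₁, ?_⟩
  rw [← hw]
  have : (w : C' ⊗[C] U) * (↑w⁻¹ : C' ⊗[C] U) = 1 := Units.mul_inv w
  linear_combination (-(τ ^ n * ρ₁)) * this


/-- multiplication by `s` kills `C' ⊗ (B ⧸ (s))`. -/
theorem lTensor_mk_eq_zero_of_dvd (s : C) (B : Type u) [CommRing B] [Algebra C B]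
    (ρ : C' ⊗[C] B) (h : algebraMap C (C' ⊗[C] B) s ∣ ρ) :
    LinearMap.lTensor C' ((Ideal.Quotient.mkₐ C (Ideal.span {algebraMap C B s})).toLinearMap) ρ
      = 0 := by
  obtain ⟨σ, rfl⟩ := h
  rw [← Algebra.smul_def, map_smul]
  generalize LinearMap.lTensor C'
    ((Ideal.Quotient.mkₐ C (Ideal.span {algebraMap C B s})).toLinearMap) σ = z
  induction z using TensorProduct.induction_on with
  | zero => simp
  | tmul a b =>
    rw [TensorProduct.smul_tmul', TensorProduct.smul_tmul]
    obtain ⟨b, rfl⟩ := Ideal.Quotient.mk_surjective b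
    have : s • (Ideal.Quotient.mk (Ideal.span {algebraMap C B s}) b) = 0 := by
      have h0 : algebraMap C (B ⧸ Ideal.span {algebraMap C B s}) s =
          Ideal.Quotient.mk (Ideal.span {algebraMap C B s}) (algebraMap C B s) := rfl
      rw [Algebra.smul_def, h0, ← map_mul,
        Ideal.Quotient.eq_zero_iff_mem, Ideal.mem_span_singleton]
      exact Dvd.intro _ rfl
    rw [this, TensorProduct.tmul_zero]
  | add a b ha hb => rw [smul_add, ha, hb, add_zero]

/-- components of `C' ⊗ ∏ → ∏ C' ⊗`. -/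
theorem piRight_lTensor_pi {ι : Type u} [Fintype ι] [DecidableEq ι] (M : Type u) [AddCommGroup M]
    [Module C M] (Q : ι → Type u) [∀ j, AddCommGroup (Q j)] [∀ j, Module C (Q j)]
    (gj : ∀ j, M →ₗ[C] Q j) (ν : C' ⊗[C] M) (j : ι) :
    TensorProduct.piRight C C C' Q (LinearMap.lTensor C' (LinearMap.pi gj) ν) j =
      LinearMap.lTensor C' (gj j) ν := by
  induction ν using TensorProduct.induction_on with
  | zero => simp
  | tmul a b => simp
  | add a b ha hb => simp only [map_add, Pi.add_apply, ha, hb]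

/-- an element of `C' ⊗ N` with `N` consisting of multiples of `s` maps to a multiple of `s`. -/
theorem dvd_lTensor_of_forall_dvd (s : C) (B : Type u) [CommRing B] [Algebra C B]
    (N : Type u) [AddCommMonoid N] [Module C N] (i : N →ₗ[C] B)
    (h : ∀ x : N, algebraMap C B s ∣ i x) (ν : C' ⊗[C] N) :
    algebraMap C (C' ⊗[C] B) s ∣ LinearMap.lTensor C' i ν := by
  induction ν using TensorProduct.induction_on with
  | zero => simp
  | tmul a b =>
    obtain ⟨y, hy⟩ := h b
    refine ⟨a ⊗ₜ[C] y, ?_⟩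
    rw [LinearMap.lTensor_tmul, hy, Algebra.TensorProduct.algebraMap_apply',
      Algebra.TensorProduct.tmul_mul_tmul, one_mul]
  | add a b ha hb => rw [map_add]; exact dvd_add ha hb

theorem lTensor_comp_apply_aux (s : C) (B B₁ : Type u) [CommRing B] [Algebra C B] [CommRing B₁]
    [Algebra C B₁] (f : B →ₐ[C] B₁) (M : Submodule C B) (μ : C' ⊗[C] M) :
    LinearMap.lTensor C'
      (((Ideal.Quotient.mkₐ C (Ideal.span {algebraMap C B₁ s})).toLinearMap).comp
        (f.toLinearMap.comp M.subtype)) μ =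
    LinearMap.lTensor C' ((Ideal.Quotient.mkₐ C (Ideal.span {algebraMap C B₁ s})).toLinearMap)
      (Algebra.TensorProduct.map (AlgHom.id C' C') f (LinearMap.lTensor C' M.subtype μ)) := by
  induction μ using TensorProduct.induction_on with
  | zero => simp
  | tmul a b => simp
  | add a b ha hb => simp only [map_add, ha, hb]

theorem map_algebraMap_aux (s : C) (B B₁ : Type u) [CommRing B] [Algebra C B] [CommRing B₁]
    [Algebra C B₁] (f : B →ₐ[C] B₁) :
    (Algebra.TensorProduct.map (AlgHom.id C' C') f).toRingHom (algebraMap C (C' ⊗[C] B) s) =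
      algebraMap C (C' ⊗[C] B₁) s := by
  rw [IsScalarTower.algebraMap_apply C C' (C' ⊗[C] B),
    IsScalarTower.algebraMap_apply C C' (C' ⊗[C] B₁)]
  exact (Algebra.TensorProduct.map (AlgHom.id C' C') f).commutes _

theorem exists_lTensor_ker_of_lTensor_eq_zero [Module.Flat C C'] {M N : Type u} [AddCommGroup M]
    [Module C M] [AddCommGroup N] [Module C N] (g : M →ₗ[C] N) (μ : C' ⊗[C] M)
    (h : LinearMap.lTensor C' g μ = 0) :
    ∃ ν : C' ⊗[C] (LinearMap.ker g), LinearMap.lTensor C' (LinearMap.ker g).subtype ν = μ := by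
  have hexact' : Function.Exact (LinearMap.lTensor C' (LinearMap.ker g).subtype)
      (LinearMap.lTensor C' g) :=
    Module.Flat.lTensor_exact C' (LinearMap.exact_subtype_ker_map g)
  exact (hexact' μ).mp h

/-- **(G2')** local-global principle for `s`-goodness through finite families. -/
theorem sGood_of_family [Module.Flat C C'] (s : C) (B : Type u) [CommRing B] [Algebra C B]
    (h : ∀ M : Submodule C B, M.FG →
      ∃ (ι : Type u) (_ : Finite ι) (Bj : ι → Type u) (_ : ∀ j, CommRing (Bj j))
        (_ : ∀ j, Algebra C (Bj j)) (f : ∀ j, B →ₐ[C] Bj j),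
        (∀ j, SGood C C' s (Bj j)) ∧
        ∀ x ∈ M, (∀ j, algebraMap C (Bj j) s ∣ f j x) → algebraMap C B s ∣ x) :
    SGood C C' s B := by
  classical
  intro ρ p hp hρ
  obtain ⟨M, hMfin, hM⟩ :=
    TensorProduct.exists_finite_submodule_right_of_setFinite ({ρ} : Set (C' ⊗[C] B))
      (Set.finite_singleton ρ)
  obtain ⟨μ, hμ⟩ := hM (Set.mem_singleton ρ)
  have hMfg : M.FG := Module.Finite.iff_fg.mp hMfin
  obtain ⟨ι, hι, Bj, instR, instA, f, hgood, hdiv⟩ := h M hMfg
  haveI : Fintype ι := Fintype.ofFinite ι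
  -- the map `M → ∏ Bj / s`
  let gj : ∀ j, M →ₗ[C] (Bj j ⧸ Ideal.span {algebraMap C (Bj j) s}) := fun j =>
    ((Ideal.Quotient.mkₐ C (Ideal.span {algebraMap C (Bj j) s})).toLinearMap).comp
      ((f j).toLinearMap.comp M.subtype)
  -- `μ` maps to zero
  have hμ0 : LinearMap.lTensor C' (LinearMap.pi gj) μ = 0 := by
    apply (TensorProduct.piRight C C C'
      (fun j => Bj j ⧸ Ideal.span {algebraMap C (Bj j) s})).injective
    rw [map_zero]
    ext j
    rw [piRight_lTensor_pi, Pi.zero_apply, lTensor_comp_apply_aux, hμ]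
    apply lTensor_mk_eq_zero_of_dvd
    have h1 := eval_scaleRoots_map_eq_zero
      (Algebra.TensorProduct.map (AlgHom.id C' C') (f j)).toRingHom p hp _ ρ hρ
    rw [map_algebraMap_aux] at h1
    exact hgood j _ _ (hp.map _) h1
  -- exactness
  obtain ⟨ν, hν⟩ := exists_lTensor_ker_of_lTensor_eq_zero (LinearMap.pi gj) μ hμ0
  -- elements of the kernel are divisible by `s`
  have hkerdiv : ∀ x : LinearMap.ker (LinearMap.pi gj),
      algebraMap C B s ∣ (M.subtype.comp (LinearMap.ker (LinearMap.pi gj)).subtype) x := by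
    intro x
    apply hdiv _ (x : M).2
    intro j
    have h1 : LinearMap.pi gj (x : M) j = 0 := by rw [LinearMap.mem_ker.mp x.2]; rfl
    have h2 : Ideal.Quotient.mk (Ideal.span {algebraMap C (Bj j) s}) (f j ((x : M) : B)) = 0 := h1
    rwa [Ideal.Quotient.eq_zero_iff_mem, Ideal.mem_span_singleton] at h2
  have := dvd_lTensor_of_forall_dvd (C' := C') s B _ _ hkerdiv ν
  rwa [LinearMap.lTensor_comp, LinearMap.comp_apply, hν, hμ] at this

end SGood

end Groth.Agent.Lib.Helper28.WeakKrull
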