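import Mathlib
import Groth.Agent.Lib.Helper28WeakKrull2
import Groth.Agent.Lib.Helper28WeakKrull3
import Groth.Agent.Lib.Helper28WeakKrull4

set_option autoImplicit false
set_option linter.unusedSectionVars false
set_option linter.style.haveILetI false
set_option linter.deprecated false
universe u
open Polynomial IsLocalRing TensorProduct

namespace Groth.Agent.Lib.Helper28.WeakKrull

section G3

variable {C C' : Type u} [CommRing C] [CommRing C'] [Algebra C C'] [Module.Flat C C']

/-- **(G3)** a Noetherian integrally closed domain is `s`-good. -/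
theorem sGood_of_isIntegrallyClosed
    (hred : ∀ (κ : Type u) [Field κ] [Algebra C κ], IsReduced (C' ⊗[C] κ)) (s : C)
    (W : Type u) [CommRing W] [IsDomain W] [IsNoetherianRing W] [IsIntegrallyClosed W]
    [Algebra C W] (hs : algebraMap C W s ≠ 0) : SGood C C' s W := by
  apply sGood_of_family
  intro M _
  let A : Set (Ideal W) := associatedPrimes W (W ⧸ Ideal.span {algebraMap C W s})
  have hAfin : A.Finite := associatedPrimes.finite W _
  let ι := {Q : PrimeSpectrum W // Q.asIdeal ∈ A}
  haveI : Finite ι := by
    haveI := hAfin.to_subtype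
    refine Finite.of_injective (fun j : ι => (⟨j.1.asIdeal, j.2⟩ : A)) ?_
    intro j j' hjj'
    exact Subtype.ext (PrimeSpectrum.ext (congrArg Subtype.val hjj'))
  refine ⟨ι, inferInstance, fun j => Localization.AtPrime j.1.asIdeal, fun j => inferInstance,
    fun j => inferInstance, fun j => IsScalarTower.toAlgHom C W _, fun j => ?_, ?_⟩
  · haveI : IsDiscreteValuationRing (Localization.AtPrime j.1.asIdeal) :=
      isDiscreteValuationRing_localization_of_mem_associatedPrimes W _ hs j.1.asIdeal j.2
    refine sGood_of_isDiscreteValuationRing s _ ?_ (hred _)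
    rw [IsScalarTower.algebraMap_apply C W (Localization.AtPrime j.1.asIdeal), Ne,
      map_eq_zero_iff _ (IsLocalization.injective _ j.1.asIdeal.primeCompl_le_nonZeroDivisors)]
    exact hs
  · intro x _ hx
    apply dvd_of_forall_associatedPrimes W
    intro Q hQp hQ
    have := hx ⟨⟨Q, hQp⟩, hQ⟩
    rwa [IsScalarTower.algebraMap_apply C W (Localization.AtPrime Q)] at this


/-- **(LocGood)** the integral closure of a Noetherian local domain is `s`-good. -/
theorem sGood_integralClosure_of_isLocalRing
    (hred : ∀ (κ : Type u) [Field κ] [Algebra C κ], IsReduced (C' ⊗[C] κ)) (s : C)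
    (O K : Type u) [CommRing O] [IsDomain O] [IsNoetherianRing O] [IsLocalRing O]
    [Field K] [Algebra O K] [IsFractionRing O K] [Algebra C O] [Algebra C K] [IsScalarTower C O K]
    (hs : algebraMap C K s ≠ 0) : SGood C C' s (integralClosure O K) := by
  obtain ⟨ι, hι, W, instR, instD, instN, instI, θ, hθinj, hθ⟩ := exists_normal_family O K
  have hs' : algebraMap C (integralClosure O K) s ≠ 0 := by
    intro h0
    apply hs
    have := congrArg (algebraMap (integralClosure O K) K) h0
    rwa [map_zero, ← IsScalarTower.algebraMap_apply C (integralClosure O K) K] at this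
  apply sGood_of_family
  intro M _
  refine ⟨ι, hι, W, instR,
    fun j => ((θ j).comp (algebraMap C (integralClosure O K))).toAlgebra,
    fun j => letI := ((θ j).comp (algebraMap C (integralClosure O K))).toAlgebra
      { θ j with commutes' := fun c => rfl }, fun j => ?_, ?_⟩
  · letI := ((θ j).comp (algebraMap C (integralClosure O K))).toAlgebra
    refine sGood_of_isIntegrallyClosed hred s (W j) ?_
    change θ j (algebraMap C (integralClosure O K) s) ≠ 0
    rw [Ne, map_eq_zero_iff _ (hθinj j)]
    exact hs'
  · intro x _ hx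
    exact hθ _ x hs' hx

end G3


section Core

variable {C : Type u} [CommRing C] [IsDomain C] (K : Type u) [Field K] [Algebra C K]
  [IsFractionRing C K]

/-- the algebra structure `C_𝔭 → K`. -/
@[reducible] noncomputable def locAlgebra (𝔭 : Ideal C) [𝔭.IsPrime] : Algebra (Localization.AtPrime 𝔭) K :=
  (IsLocalization.lift (M := 𝔭.primeCompl) (S := Localization.AtPrime 𝔭) (g := algebraMap C K)
    (fun y => by
      have hy : (y : C) ≠ 0 := fun h0 => y.2 (h0 ▸ 𝔭.zero_mem)
      exact IsUnit.mk0 _ (by
        rw [Ne, map_eq_zero_iff _ (IsFractionRing.injective C K)]; exact hy))).toAlgebra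

attribute [local instance] locAlgebra

theorem locAlgebra_isScalarTower (𝔭 : Ideal C) [𝔭.IsPrime] :
    IsScalarTower C (Localization.AtPrime 𝔭) K :=
  IsScalarTower.of_algebraMap_eq fun x => (IsLocalization.lift_eq _ x).symm

attribute [local instance] locAlgebra_isScalarTower

theorem locAlgebra_isFractionRing (𝔭 : Ideal C) [𝔭.IsPrime] :
    IsFractionRing (Localization.AtPrime 𝔭) K :=
  IsFractionRing.isFractionRing_of_isDomain_of_isLocalization 𝔭.primeCompl _ K

attribute [local instance] locAlgebra_isFractionRing


variable [IsNoetherianRing C] {C' : Type u} [CommRing C'] [Algebra C C'] [Module.Flat C C']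
  (B : Type u) [CommRing B] [IsDomain B] [IsIntegrallyClosed B] [Algebra C B]
  [Algebra.IsIntegral C B] [Algebra B K] [IsFractionRing B K] [IsScalarTower C B K]

/-- the map from `B` to the integral closure of `C_𝔭`. -/
noncomputable def toLocClosure (𝔭 : Ideal C) [𝔭.IsPrime] :
    B →ₐ[C] integralClosure (Localization.AtPrime 𝔭) K where
  toFun b := ⟨algebraMap B K b, by
    have h1 : IsIntegral C (algebraMap B K b) := (Algebra.IsIntegral.isIntegral b).map
      (IsScalarTower.toAlgHom C B K)
    exact h1.tower_top⟩
  map_one' := Subtype.ext (map_one _)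
  map_mul' x y := Subtype.ext (map_mul _ x y)
  map_zero' := Subtype.ext (map_zero _)
  map_add' x y := Subtype.ext (map_add _ x y)
  commutes' c := Subtype.ext (IsScalarTower.algebraMap_apply C B K c).symm

include K in
/-- **Core theorem**: an integrally closed domain, integral over the Noetherian domain `C` and with
the same fraction field, is `s`-good for every `s ≠ 0`. -/
theorem sGood_of_isIntegral
    (hred : ∀ (κ : Type u) [Field κ] [Algebra C κ], IsReduced (C' ⊗[C] κ)) (s : C) (hs : s ≠ 0) :
    SGood C C' s B := by
  have hsK : algebraMap C K s ≠ 0 := by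
    rw [Ne, map_eq_zero_iff _ (IsFractionRing.injective C K)]; exact hs
  apply sGood_of_family
  intro M hM
  let I : Ideal B := Ideal.span {algebraMap C B s}
  let π : B →ₗ[C] B ⧸ I := (Ideal.Quotient.mkₐ C I).toLinearMap
  let Mbar : Submodule C (B ⧸ I) := M.map π
  haveI : Module.Finite C Mbar := Module.Finite.iff_fg.mpr (hM.map π)
  have hAfin : (associatedPrimes C Mbar).Finite := associatedPrimes.finite C Mbar
  let ι := {𝔭 : PrimeSpectrum C // 𝔭.asIdeal ∈ associatedPrimes C Mbar}
  haveI : Finite ι := by
    haveI := hAfin.to_subtype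
    refine Finite.of_injective
      (fun j : ι => (⟨j.1.asIdeal, j.2⟩ : associatedPrimes C Mbar)) ?_
    intro j j' hjj'
    exact Subtype.ext (PrimeSpectrum.ext (congrArg Subtype.val hjj'))
  refine ⟨ι, inferInstance,
    fun j => integralClosure (Localization.AtPrime j.1.asIdeal) K, fun j => inferInstance,
    fun j => inferInstance, fun j => toLocClosure K B j.1.asIdeal, fun j => ?_, ?_⟩
  · exact sGood_integralClosure_of_isLocalRing hred s (Localization.AtPrime j.1.asIdeal) K hsK
  · intro x hxM hx
    by_contra hdiv
    have hxbar : π x ∈ Mbar := Submodule.mem_map_of_mem hxM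
    have hx0 : (⟨π x, hxbar⟩ : Mbar) ≠ 0 := by
      intro h0
      have h1 : π x = 0 := congrArg Subtype.val h0
      apply hdiv
      have h2 : Ideal.Quotient.mk I x = 0 := h1
      rwa [Ideal.Quotient.eq_zero_iff_mem, Ideal.mem_span_singleton] at h2
    obtain ⟨𝔭, h𝔭, hle⟩ := exists_le_isAssociatedPrime_of_isNoetherianRing C _ hx0
    haveI h𝔭p : 𝔭.IsPrime := h𝔭.isPrime
    obtain ⟨y, hy⟩ := hx ⟨⟨𝔭, h𝔭p⟩, h𝔭⟩
    have hyK : algebraMap B K x = algebraMap C K s * (y : K) := by
      have := congrArg Subtype.val hy
      exact this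
    obtain ⟨⟨d, hd⟩, hdint⟩ := IsIntegral.exists_multiple_integral_of_isLocalization
      𝔭.primeCompl (Rₘ := Localization.AtPrime 𝔭) (y : K) y.2
    have hdint' : IsIntegral B (d • (y : K)) := hdint.tower_top
    obtain ⟨b, hb⟩ := IsIntegrallyClosed.algebraMap_eq_of_integral hdint'
    have hkey : d • x = algebraMap C B s * b := by
      apply IsFractionRing.injective B K
      rw [map_mul, hb, Algebra.smul_def, map_mul, hyK,
        ← IsScalarTower.algebraMap_apply C B K, ← IsScalarTower.algebraMap_apply C B K,
        Algebra.smul_def]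
      ring
    apply hd
    apply hle
    rw [Submodule.mem_colon_singleton, Submodule.mem_bot]
    apply Subtype.ext
    change d • π x = 0
    rw [← map_smul, hkey]
    change Ideal.Quotient.mk I (algebraMap C B s * b) = 0
    rw [Ideal.Quotient.eq_zero_iff_mem, Ideal.mem_span_singleton]
    exact Dvd.intro _ rfl

end Core

end Groth.Agent.Lib.Helper28.WeakKrull
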