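import Mathlib
import Groth.Agent.Lib.Helper3HenselC
import Groth.Agent.Lib.Helper28WeakKrull5

set_option autoImplicit false
set_option linter.unusedSectionVars false
set_option linter.style.haveILetI false
set_option linter.deprecated false
universe u
open Polynomial IsLocalRing TensorProduct

namespace Groth.Agent.Lib.Helper28.GeomRed

/-- a finite algebra over a henselian local ring which is a domain is local. -/
theorem isLocalRing_of_finite_of_isDomain (A : Type u) [CommRing A] [HenselianLocalRing A]
    (B : Type u) [CommRing B] [IsDomain B] [Algebra A B] [Module.Finite A B] : IsLocalRing B := by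
  classical
  obtain ⟨ι, hι, Aι, hA, hloc, ⟨Φ⟩⟩ :=
    Groth.Agent.Lib.Helper3.Hensel.exists_pi_isLocalRing_of_finite A B
  have hsub : ∀ i j : ι, i = j := by
    intro i j
    by_contra hij
    have h0 : (Pi.single i 1 : ∀ i, Aι i) * Pi.single j 1 = 0 := by
      funext k
      by_cases hk : k = i
      · subst hk
        simp [Pi.single_eq_of_ne hij]
      · simp [Pi.single_eq_of_ne hk]
    have h1 : Φ.symm (Pi.single i 1) * Φ.symm (Pi.single j 1) = 0 := by
      rw [← map_mul, h0, map_zero]
    have hne : ∀ k : ι, Φ.symm (Pi.single k 1) ≠ 0 := by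
      intro k hk
      have h2 : (Pi.single k 1 : ∀ i, Aι i) = 0 := by
        have := congrArg Φ hk
        rwa [Φ.apply_symm_apply, map_zero] at this
      have h3 := congrFun h2 k
      simp at h3
    rcases mul_eq_zero.mp h1 with h | h
    · exact hne i h
    · exact hne j h
  have hne : Nonempty ι := by
    by_contra hemp
    rw [not_nonempty_iff] at hemp
    have h1 : (1 : B) = 0 := by
      apply Φ.injective
      funext i
      exact (hemp.false i).elim
    exact one_ne_zero h1
  obtain ⟨i₀⟩ := hne
  let f : B →+* Aι i₀ := (Pi.evalRingHom Aι i₀).comp Φ.toRingHom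
  have hf : Function.Bijective f := by
    constructor
    · intro x y hxy
      apply Φ.injective
      funext k
      rw [hsub k i₀]
      exact hxy
    · intro a
      refine ⟨Φ.symm (Pi.single i₀ a), ?_⟩
      show (Φ (Φ.symm (Pi.single i₀ a))) i₀ = a
      rw [Φ.apply_symm_apply, Pi.single_eq_same]
  exact (RingEquiv.ofBijective f hf).symm.isLocalRing

/-- complete local rings are henselian local rings. -/
theorem henselianLocalRing_of_isAdicComplete (A : Type u) [CommRing A] [IsLocalRing A]
    [IsAdicComplete (maximalIdeal A) A] : HenselianLocalRing A :=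
  { is_henselian := fun f hf a₀ h₁ h₂ =>
      (inferInstance : HenselianRing A (IsLocalRing.maximalIdeal A)).is_henselian f hf a₀ h₁
        (h₂.map (Ideal.Quotient.mk (IsLocalRing.maximalIdeal A))) }

open WeakKrull in
/-- refined (G3): only the residue fields at the associated primes of `W/s` are needed. -/
theorem sGood_of_isIntegrallyClosed' {C C' : Type u} [CommRing C] [CommRing C'] [Algebra C C']
    [Module.Flat C C'] (s : C)
    (W : Type u) [CommRing W] [IsDomain W] [IsNoetherianRing W] [IsIntegrallyClosed W]
    [Algebra C W] (hs : algebraMap C W s ≠ 0)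
    (hred : ∀ (Q : Ideal W) [Q.IsPrime],
      Q ∈ associatedPrimes W (W ⧸ Ideal.span {algebraMap C W s}) →
      IsReduced (C' ⊗[C] IsLocalRing.ResidueField (Localization.AtPrime Q))) :
    SGood C C' s W := by
  apply sGood_of_family
  intro M _
  let A : Set (Ideal W) := associatedPrimes W (W ⧸ Ideal.span {algebraMap C W s})
  have hAfin : A.Finite := associatedPrimes.finite W _
  let ι := {Q : PrimeSpectrum W // Q.asIdeal ∈ A}
  haveI : Finite ι := by
    haveI := hAfin.to_subtype
    refine Finite.of_injective (fun j : ι => (⟨j.1.asIdeal, j.2⟩ : A)) ?_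
    intro j j' hjj'
    exact Subtype.ext (PrimeSpectrum.ext (congrArg Subtype.val hjj'))
  refine ⟨ι, inferInstance, fun j => Localization.AtPrime j.1.asIdeal, fun j => inferInstance,
    fun j => inferInstance, fun j => IsScalarTower.toAlgHom C W _, fun j => ?_, ?_⟩
  · haveI : IsDiscreteValuationRing (Localization.AtPrime j.1.asIdeal) :=
      isDiscreteValuationRing_localization_of_mem_associatedPrimes W _ hs j.1.asIdeal j.2
    refine sGood_of_isDiscreteValuationRing s _ ?_ (hred j.1.asIdeal j.2)
    rw [IsScalarTower.algebraMap_apply C W (Localization.AtPrime j.1.asIdeal), Ne,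
      map_eq_zero_iff _ (IsLocalization.injective _ j.1.asIdeal.primeCompl_le_nonZeroDivisors)]
    exact hs
  · intro x _ hx
    apply dvd_of_forall_associatedPrimes W
    intro Q hQp hQ
    have := hx ⟨⟨Q, hQp⟩, hQ⟩
    rwa [IsScalarTower.algebraMap_apply C W (Localization.AtPrime Q)] at this

/-- base change of a localization preserves reducedness. -/
theorem isReduced_tensor_of_isLocalization (R S : Type u) [CommRing R] [CommRing S] [Algebra R S]
    (R₂ F : Type u) [CommRing R₂] [CommRing F] [Algebra R R₂] [Algebra R F] [Algebra R₂ F]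
    [IsScalarTower R R₂ F] (M : Submonoid R₂) [IsLocalization M F]
    (h : IsReduced (R₂ ⊗[R] S)) : IsReduced (F ⊗[R] S) := by
  letI : Algebra (R₂ ⊗[R] S) (F ⊗[R] S) :=
    (Algebra.TensorProduct.map (IsScalarTower.toAlgHom R R₂ F) (AlgHom.id R S)).toRingHom.toAlgebra
  haveI : IsScalarTower R₂ (R₂ ⊗[R] S) (F ⊗[R] S) := by
    refine IsScalarTower.of_algebraMap_eq fun x => ?_
    change _ = (Algebra.TensorProduct.map (IsScalarTower.toAlgHom R R₂ F) (AlgHom.id R S))
      (x ⊗ₜ 1)
    simp [Algebra.TensorProduct.algebraMap_apply]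
  have hloc : IsLocalization (Algebra.algebraMapSubmonoid (R₂ ⊗[R] S) M) (F ⊗[R] S) := by
    refine IsLocalization.tensorProduct_tensorProduct R S M F ?_
    ext x
    change (Algebra.TensorProduct.map (IsScalarTower.toAlgHom R R₂ F) (AlgHom.id R S))
      (1 ⊗ₜ x) = 1 ⊗ₜ x
    simp
  exact isReduced_localizationPreserves (Algebra.algebraMapSubmonoid (R₂ ⊗[R] S) M) (F ⊗[R] S) h

/-- Nakayama-type criterion for reducedness. -/
theorem isReduced_of_forall_isNilpotent_dvd (T : Type u) [CommRing T] [IsNoetherianRing T] (t : T)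
    (ht : t ∈ nonZeroDivisors T) (hrad : t ∈ Ideal.jacobson (⊥ : Ideal T))
    (h : ∀ x : T, IsNilpotent x → t ∣ x) : IsReduced T := by
  have hN : nilradical T ≤ Ideal.span {t} • nilradical T := by
    intro x hx
    obtain ⟨y, rfl⟩ := h x hx
    have hy : IsNilpotent y := by
      obtain ⟨n, hn⟩ := hx
      refine ⟨n, ?_⟩
      rw [mul_pow] at hn
      have h1 : t ^ n ∈ nonZeroDivisors T := pow_mem ht n
      exact (mul_right_mem_nonZeroDivisors_eq_zero_iff h1).mp (by rwa [mul_comm] at hn)
    exact Ideal.mul_mem_mul (Ideal.mem_span_singleton_self t) hy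
  have hfg : (nilradical T).FG := IsNoetherian.noetherian _
  have hle : Ideal.span {t} ≤ Ideal.jacobson (⊥ : Ideal T) := by
    rw [Ideal.span_le, Set.singleton_subset_iff]; exact hrad
  have := Submodule.eq_bot_of_le_smul_of_le_jacobson_bot (Ideal.span {t}) (nilradical T) hfg hN hle
  rw [← nilradical_eq_bot_iff]
  exact this

end Groth.Agent.Lib.Helper28.GeomRed
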