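import Mathlib
import Groth.Agent.Lib.Helper3HenselC

set_option autoImplicit false
universe u v

namespace Groth.Agent.Lib.Helper3.Hensel

open Polynomial IsLocalRing TensorProduct

/-- finiteness descends along the section map -/
theorem finite_quotient_of_sectionMap {R : Type*} [CommRing R] {R' : Type*} [CommRing R']
    [Algebra R R'] (S : Type*) [CommRing S] [Algebra R S] (σ : R' →ₐ[R] R)
    (e' : R' ⊗[R] S) (he' : IsIdempotentElem e')
    [Module.Finite R' (Localization.Away e')] :
    Module.Finite R (S ⧸ Ideal.span {1 - sectionMap S σ e'}) := by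
  set ψ := sectionMap S σ with hψ
  set e := ψ e' with he
  let B' := (R' ⊗[R] S) ⧸ Ideal.span {1 - e'}
  haveI : IsLocalization.Away e' B' := IsLocalization.Away.quotient_of_isIdempotentElem he'
  let α : Localization.Away e' ≃ₐ[R' ⊗[R] S] B' :=
    IsLocalization.algEquiv (Submonoid.powers e') (Localization.Away e') B'
  haveI : Module.Finite R' B' :=
    Module.Finite.equiv (α.restrictScalars R').toLinearEquiv
  have hle : Ideal.span {1 - e'} ≤ (Ideal.span {1 - e}).comap ψ.toRingHom := by
    rw [Ideal.span_le, Set.singleton_subset_iff]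
    change ψ (1 - e') ∈ Ideal.span {1 - e}
    rw [map_sub, map_one]
    exact Ideal.mem_span_singleton_self _
  let ψbar : B' →+* S ⧸ Ideal.span {1 - e} := Ideal.quotientMap _ ψ.toRingHom hle
  have hψbar_surj : Function.Surjective ψbar :=
    Ideal.quotientMap_surjective (sectionMap_surjective S σ)
  have hsemi : ∀ (r : R') (z : B'), ψbar (r • z) = σ r • ψbar z := by
    intro r z
    obtain ⟨z, rfl⟩ := Ideal.Quotient.mk_surjective z
    have h1 : r • (Ideal.Quotient.mk (Ideal.span {1 - e'}) z) =
        Ideal.Quotient.mk (Ideal.span {1 - e'}) (r • z) := rfl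
    rw [h1]
    change Ideal.Quotient.mk (Ideal.span {1 - e}) (ψ (r • z)) =
      σ r • Ideal.Quotient.mk (Ideal.span {1 - e}) (ψ z)
    have h2 : ψ (r • z) = algebraMap R S (σ r) * ψ z := by
      rw [Algebra.smul_def, map_mul, Algebra.TensorProduct.algebraMap_apply, hψ,
        sectionMap_tmul, mul_one]
      rfl
    rw [h2, ← Algebra.smul_def]
    rfl
  classical
  obtain ⟨T, hT⟩ := (Module.finite_def.mp ‹Module.Finite R' B'›)
  refine ⟨⟨T.image ψbar, ?_⟩⟩
  rw [eq_top_iff]
  intro y hy
  clear hy
  obtain ⟨z, rfl⟩ := hψbar_surj y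
  have hz : z ∈ Submodule.span R' (T : Set B') := by rw [hT]; trivial
  induction hz using Submodule.span_induction with
  | mem t ht =>
    apply Submodule.subset_span
    rw [Finset.coe_image]
    exact ⟨t, ht, rfl⟩
  | zero => rw [map_zero]; exact Submodule.zero_mem _
  | add a b _ _ ha hb => rw [map_add]; exact Submodule.add_mem _ ha hb
  | smul r a _ ha => rw [hsemi]; exact Submodule.smul_mem _ _ ha

end Groth.Agent.Lib.Helper3.Hensel
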