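import Mathlib
import Groth.Agent.Lib.Helper3HenselC
import Groth.Agent.Lib.Helper3HenselD

set_option autoImplicit false
universe u v

namespace Groth.Agent.Lib.Helper3.Hensel

open Polynomial IsLocalRing TensorProduct

section Idem

variable {R : Type*} [CommRing R] {S : Type*} [CommRing S] [Algebra R S]

/-- the `R`-submodule `εS` is isomorphic to `S/(1-ε)` -/
noncomputable def idemEquiv (ε : S) (hε : IsIdempotentElem ε) :
    ((Ideal.span {ε}).restrictScalars R) ≃ₗ[R] (S ⧸ Ideal.span {1 - ε}) :=
  LinearEquiv.ofBijective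
    ((Ideal.Quotient.mkₐ R (Ideal.span {1 - ε})).toLinearMap.comp
      ((Ideal.span {ε}).restrictScalars R).subtype)
    (by
      constructor
      · rw [← LinearMap.ker_eq_bot, eq_bot_iff]
        rintro ⟨z, hz⟩ hker
        rw [LinearMap.mem_ker] at hker
        change Ideal.Quotient.mk (Ideal.span {1 - ε}) z = 0 at hker
        rw [Ideal.Quotient.eq_zero_iff_mem, Ideal.mem_span_singleton'] at hker
        obtain ⟨t, ht⟩ := hker
        have hz' : z ∈ Ideal.span {ε} := hz
        rw [Ideal.mem_span_singleton'] at hz'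
        obtain ⟨s, hs⟩ := hz'
        have h1 : ε * z = z := by rw [← hs, mul_comm s ε, ← mul_assoc, hε.eq]
        have h2 : ε * z = 0 := by
          rw [← ht, mul_comm t, ← mul_assoc, mul_sub, mul_one, hε.eq, sub_self, zero_mul]
        rw [Submodule.mem_bot]
        ext
        change z = 0
        rw [← h1, h2]
      · intro y
        obtain ⟨s, rfl⟩ := Ideal.Quotient.mk_surjective y
        refine ⟨⟨ε * s, Ideal.mul_mem_right _ _ (Ideal.mem_span_singleton_self ε)⟩, ?_⟩
        change Ideal.Quotient.mk (Ideal.span {1 - ε}) (ε * s) = Ideal.Quotient.mk _ s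
        rw [Ideal.Quotient.eq, Ideal.mem_span_singleton']
        exact ⟨-s, by ring⟩)

theorem finite_quotient_iff_fg (ε : S) (hε : IsIdempotentElem ε) :
    Module.Finite R (S ⧸ Ideal.span {1 - ε}) ↔ ((Ideal.span {ε}).restrictScalars R).FG := by
  rw [← Module.Finite.iff_fg]
  exact ⟨fun h => Module.Finite.equiv (idemEquiv (R := R) ε hε).symm,
    fun h => Module.Finite.equiv (idemEquiv (R := R) ε hε)⟩

/-- binary sup of idempotents -/
theorem fg_sup_idem (ε₁ ε₂ : S) (h₁ : IsIdempotentElem ε₁) (h₂ : IsIdempotentElem ε₂)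
    (hf₁ : ((Ideal.span {ε₁}).restrictScalars R).FG)
    (hf₂ : ((Ideal.span {ε₂}).restrictScalars R).FG) :
    ((Ideal.span {1 - (1 - ε₁) * (1 - ε₂)}).restrictScalars R).FG := by
  have : (Ideal.span {1 - (1 - ε₁) * (1 - ε₂)}).restrictScalars R =
      (Ideal.span {ε₁}).restrictScalars R ⊔ (Ideal.span {ε₂}).restrictScalars R := by
    apply le_antisymm
    · intro z hz
      have hz' : z ∈ Ideal.span {1 - (1 - ε₁) * (1 - ε₂)} := hz
      rw [Ideal.mem_span_singleton'] at hz'
      obtain ⟨s, rfl⟩ := hz'
      have : s * (1 - (1 - ε₁) * (1 - ε₂)) = s * ε₁ + (s - s * ε₁) * ε₂ := by ring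
      rw [this]
      exact Submodule.add_mem_sup
        (Ideal.mul_mem_left _ _ (Ideal.mem_span_singleton_self ε₁))
        (Ideal.mul_mem_left _ _ (Ideal.mem_span_singleton_self ε₂))
    · rw [sup_le_iff]
      constructor
      · intro z hz
        have hz' : z ∈ Ideal.span {ε₁} := hz
        rw [Ideal.mem_span_singleton'] at hz'
        obtain ⟨s, rfl⟩ := hz'
        change s * ε₁ ∈ Ideal.span {1 - (1 - ε₁) * (1 - ε₂)}
        rw [Ideal.mem_span_singleton']
        refine ⟨s * ε₁, ?_⟩
        have e1 : ε₁ * ε₁ = ε₁ := h₁.eq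
        linear_combination (s * (1 - ε₂)) * e1
      · intro z hz
        have hz' : z ∈ Ideal.span {ε₂} := hz
        rw [Ideal.mem_span_singleton'] at hz'
        obtain ⟨s, rfl⟩ := hz'
        change s * ε₂ ∈ Ideal.span {1 - (1 - ε₁) * (1 - ε₂)}
        rw [Ideal.mem_span_singleton']
        refine ⟨s * ε₂, ?_⟩
        have e2 : ε₂ * ε₂ = ε₂ := h₂.eq
        linear_combination (s * (1 - ε₁)) * e2
  rw [this]
  exact hf₁.sup hf₂

/-- sup of a finite family of idempotents with module-finite factors -/
theorem sup_idem {ι : Type*} (T : Finset ι) (E : ι → S)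
    (hE : ∀ i ∈ T, IsIdempotentElem (E i) ∧ Module.Finite R (S ⧸ Ideal.span {1 - E i})) :
    IsIdempotentElem (1 - ∏ i ∈ T, (1 - E i)) ∧
      Module.Finite R (S ⧸ Ideal.span {1 - (1 - ∏ i ∈ T, (1 - E i))}) ∧
      ∀ i ∈ T, E i * (1 - ∏ i ∈ T, (1 - E i)) = E i := by
  classical
  have hidem : ∀ T' : Finset ι, T' ⊆ T → IsIdempotentElem (1 - ∏ i ∈ T', (1 - E i)) := by
    intro T' hT'
    apply IsIdempotentElem.one_sub
    induction T' using Finset.induction_on with
    | empty => simp [IsIdempotentElem]
    | insert a T'' ha ih =>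
      rw [Finset.prod_insert ha]
      exact ((hE a (hT' (Finset.mem_insert_self _ _))).1.one_sub).mul
        (ih (fun i hi => hT' (Finset.mem_insert_of_mem hi)))
  refine ⟨hidem T subset_rfl, ?_, ?_⟩
  · rw [finite_quotient_iff_fg _ (hidem T subset_rfl)]
    have : ∀ T' : Finset ι, T' ⊆ T →
        ((Ideal.span {1 - ∏ i ∈ T', (1 - E i)}).restrictScalars R).FG := by
      intro T' hT'
      induction T' using Finset.induction_on with
      | empty =>
        simp only [Finset.prod_empty, sub_self]
        have : (Ideal.span {(0 : S)}).restrictScalars R = ⊥ := by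
          rw [Ideal.span_singleton_eq_bot.mpr rfl]; rfl
        rw [this]
        exact Submodule.fg_bot
      | insert a T'' ha ih =>
        rw [Finset.prod_insert ha]
        have h1 := hE a (hT' (Finset.mem_insert_self _ _))
        have h2 := ih (fun i hi => hT' (Finset.mem_insert_of_mem hi))
        have h3 := hidem T'' (fun i hi => hT' (Finset.mem_insert_of_mem hi))
        have := fg_sup_idem (R := R) (E a) (1 - ∏ i ∈ T'', (1 - E i)) h1.1 h3
          ((finite_quotient_iff_fg _ h1.1).mp h1.2) h2
        rwa [sub_sub_cancel] at this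
    exact this T subset_rfl
  · intro i hi
    rw [mul_sub, mul_one, sub_eq_self, ← Finset.mul_prod_erase T _ hi, ← mul_assoc, mul_sub,
      mul_one, (hE i hi).1.eq, sub_self, zero_mul]

end Idem

/-- **Lemma Q**: over a henselian local ring, a prime over the closed point at which a finite
type algebra is quasi-finite is cut out (in the closed fibre) by an idempotent whose
factor is module-finite. -/
theorem exists_idempotent_of_quasiFiniteAt {R : Type u} [CommRing R] [HenselianLocalRing R]
    {S : Type v} [CommRing S] [Algebra R S] [Algebra.FiniteType R S] (q : Ideal S) [q.IsPrime]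
    [q.LiesOver (maximalIdeal R)] [Algebra.QuasiFiniteAt R q] :
    ∃ e : S, IsIdempotentElem e ∧ e ∉ q ∧ Module.Finite R (S ⧸ Ideal.span {1 - e}) ∧
      ∀ q' : Ideal S, q'.IsPrime → q'.LiesOver (maximalIdeal R) → e ∉ q' → q' = q := by
  obtain ⟨R', _, _, _, P, _, _, e', he', P', _, _, hP'q, he'P', hbij, hfin, H⟩ :=
    Algebra.exists_etale_isIdempotentElem_forall_liesOver_eq (R := R) (S := S)
      (maximalIdeal R) q
  obtain ⟨σ, hσ⟩ := exists_section_of_etale P hbij
  set ψ := sectionMap S σ with hψ
  have hψsurj : Function.Surjective ψ := sectionMap_surjective S σ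
  have hψincl : ∀ s : S, ψ (Algebra.TensorProduct.includeRight s) = s := by
    intro s
    change ψ (1 ⊗ₜ s) = s
    rw [hψ, sectionMap_tmul, map_one, map_one, one_mul]
  have hlies : ∀ q' : Ideal S, q'.IsPrime → q'.LiesOver (maximalIdeal R) →
      (q'.comap ψ.toRingHom).LiesOver P := by
    intro q' _ hq'
    have := comap_sectionMap_liesOver S σ q' (maximalIdeal R)
      ((q'.over_def (maximalIdeal R)).symm)
    rwa [hσ] at this
  have hcomap : ∀ q' : Ideal S,
      (q'.comap ψ.toRingHom).comap Algebra.TensorProduct.includeRight.toRingHom = q' := by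
    intro q'
    ext s
    rw [Ideal.mem_comap, Ideal.mem_comap]
    change ψ (Algebra.TensorProduct.includeRight s) ∈ q' ↔ _
    rw [hψincl]
  have hq_eq : q.comap ψ.toRingHom = P' := by
    haveI : (q.comap ψ.toRingHom).IsPrime := Ideal.comap_isPrime _ _
    haveI := hlies q inferInstance inferInstance
    exact Ideal.eq_of_comap_eq_comap_of_bijective_residueFieldMap hbij _ _
      ((hcomap q).trans hP'q.symm)
  refine ⟨ψ e', he'.map ψ, ?_, ?_, ?_⟩
  · intro hmem
    apply he'P'
    rw [← hq_eq]
    exact hmem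
  · haveI := hfin
    exact finite_quotient_of_sectionMap S σ e' he'
  · intro q' hq'prime hq'lies hq'
    haveI : (q'.comap ψ.toRingHom).IsPrime := Ideal.comap_isPrime _ _
    have h1 := H (q'.comap ψ.toRingHom) inferInstance (hlies q' hq'prime hq'lies) hq'
    exact Ideal.comap_injective_of_surjective ψ.toRingHom hψsurj (h1.trans hq_eq.symm)

end Groth.Agent.Lib.Helper3.Hensel
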