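import Mathlib
import Groth.Agent.Lib.Helper3HenselC
import Groth.Agent.Lib.Helper3HenselD
import Groth.Agent.Lib.Helper3HenselE

set_option autoImplicit false
universe u v

namespace Groth.Agent.Lib.Helper3.Hensel

open Polynomial IsLocalRing TensorProduct

/-- common core of the splitting theorems -/
theorem exists_idempotent_of_finset {R : Type u} [CommRing R] [HenselianLocalRing R] {S : Type v}
    [CommRing S] [Algebra R S] [Algebra.FiniteType R S] (T : Finset (Ideal S))
    (hT : ∀ q ∈ T, ∃ (_ : q.IsPrime), q.LiesOver (maximalIdeal R) ∧ Algebra.QuasiFiniteAt R q) :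
    ∃ e : S, IsIdempotentElem e ∧ Module.Finite R (S ⧸ Ideal.span {1 - e}) ∧ ∀ q ∈ T, e ∉ q := by
  have : ∀ q : Ideal S, ∃ ε : S, q ∈ T →
      (IsIdempotentElem ε ∧ ε ∉ q ∧ Module.Finite R (S ⧸ Ideal.span {1 - ε})) := by
    intro q
    by_cases hq : q ∈ T
    · obtain ⟨hp, hl, hqf⟩ := hT q hq
      obtain ⟨ε, h1, h2, h3, -⟩ := exists_idempotent_of_quasiFiniteAt (R := R) q
      exact ⟨ε, fun _ => ⟨h1, h2, h3⟩⟩
    · exact ⟨0, fun h => absurd h hq⟩
  choose E hE using this
  obtain ⟨h1, h2, h3⟩ := sup_idem (R := R) T E (fun q hq => ⟨(hE q hq).1, (hE q hq).2.2⟩)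
  refine ⟨1 - ∏ q ∈ T, (1 - E q), h1, h2, ?_⟩
  intro q hq hmem
  apply (hE q hq).2.1
  rw [← h3 q hq]
  exact Ideal.mul_mem_left _ _ hmem

theorem map_eq_top_of_forall_not_mem {R : Type*} [CommRing R] [IsLocalRing R] {S : Type*}
    [CommRing S] [Algebra R S] (e : S)
    (h : ∀ q : Ideal S, q.IsPrime → q.LiesOver (maximalIdeal R) → e ∉ q) :
    Ideal.map (algebraMap R (S ⧸ Ideal.span {e})) (maximalIdeal R) = ⊤ := by
  by_contra hne
  obtain ⟨M, hM, hle⟩ := Ideal.exists_le_maximal _ hne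
  haveI := hM.isPrime
  let q' := M.comap (Ideal.Quotient.mk (Ideal.span {e}))
  have hq'prime : q'.IsPrime := Ideal.comap_isPrime _ _
  have he : e ∈ q' := by
    change Ideal.Quotient.mk (Ideal.span {e}) e ∈ M
    rw [Ideal.Quotient.eq_zero_iff_mem.mpr (Ideal.mem_span_singleton_self e)]
    exact M.zero_mem
  refine h q' hq'prime ⟨?_⟩ he
  have hle' : maximalIdeal R ≤ q'.under R := by
    intro r hr
    rw [Ideal.under_def, Ideal.mem_comap]
    change Ideal.Quotient.mk (Ideal.span {e}) (algebraMap R S r) ∈ M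
    apply hle
    exact Ideal.mem_map_of_mem _ hr
  have hne' : q'.under R ≠ ⊤ := (Ideal.comap_isPrime (algebraMap R S) q').ne_top
  exact (Ideal.IsMaximal.eq_of_le (maximalIdeal.isMaximal R) hne' hle')

/-- quasi-finite splitting over a henselian local ring -/
theorem quasiFinite_split (R : Type u) [CommRing R] [HenselianLocalRing R]
    (S : Type v) [CommRing S] [Algebra R S] [Algebra.FiniteType R S] [Algebra.QuasiFinite R S] :
    ∃ e : S, IsIdempotentElem e ∧ Module.Finite R (S ⧸ Ideal.span ({1 - e} : Set S)) ∧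
      Ideal.map (algebraMap R (S ⧸ Ideal.span ({e} : Set S))) (maximalIdeal R) = ⊤ := by
  have hfin := Algebra.QuasiFinite.finite_primesOver (S := S) (maximalIdeal R)
  obtain ⟨e, h1, h2, h3⟩ := exists_idempotent_of_finset (R := R) hfin.toFinset (by
    intro q hq
    rw [Set.Finite.mem_toFinset] at hq
    haveI := hq.1
    exact ⟨hq.1, hq.2, inferInstance⟩)
  refine ⟨e, h1, h2, map_eq_top_of_forall_not_mem e ?_⟩
  intro q hq hl
  exact h3 q (by rw [Set.Finite.mem_toFinset]; exact ⟨hq, hl⟩)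

end Groth.Agent.Lib.Helper3.Hensel
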