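import Mathlib
import Groth.Agent.Lib.Helper3HenselF

set_option autoImplicit false
universe u v

namespace Groth.Agent.Lib.Helper3.Hensel

open Polynomial IsLocalRing TensorProduct

theorem under_eq_of_map_le {R : Type*} [CommRing R] [IsLocalRing R] {S : Type*}
    [CommRing S] [Algebra R S] (K : Ideal S) [K.IsPrime]
    (h : (maximalIdeal R).map (algebraMap R S) ≤ K) : K.LiesOver (maximalIdeal R) := by
  constructor
  have hle' : maximalIdeal R ≤ K.under R := by
    intro r hr
    rw [Ideal.under_def, Ideal.mem_comap]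
    exact h (Ideal.mem_map_of_mem _ hr)
  have hne' : K.under R ≠ ⊤ := (Ideal.comap_isPrime (algebraMap R S) K).ne_top
  exact (Ideal.IsMaximal.eq_of_le (maximalIdeal.isMaximal R) hne' hle')

theorem finite_quasiFiniteAt_primes {R : Type u} [CommRing R] [HenselianLocalRing R] {S : Type v}
    [CommRing S] [Algebra R S] [Algebra.FiniteType R S] :
    {q : Ideal S | ∃ (_ : q.IsPrime), q.LiesOver (maximalIdeal R) ∧
      Algebra.QuasiFiniteAt R q}.Finite := by
  set I := (maximalIdeal R).map (algebraMap R S) with hI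
  haveI : Algebra.FiniteType (R ⧸ maximalIdeal R) (S ⧸ I) :=
    Algebra.FiniteType.of_restrictScalars_finiteType R _ _
  haveI : IsNoetherianRing (R ⧸ maximalIdeal R) :=
    inferInstanceAs (IsNoetherianRing (ResidueField R))
  haveI : IsNoetherianRing (S ⧸ I) :=
    Algebra.FiniteType.isNoetherianRing (R ⧸ maximalIdeal R) (S ⧸ I)
  have hfin : I.minimalPrimes.Finite := by
    rw [Ideal.minimalPrimes_eq_comap]
    exact (minimalPrimes.finite_of_isNoetherianRing (S ⧸ I)).image _
  refine hfin.subset ?_
  rintro q ⟨hqp, hql, hqf⟩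
  have hIq : I ≤ q := by
    rw [hI, Ideal.map_le_iff_le_comap, ← Ideal.under_def, ← hql.over]
  refine ⟨⟨hqp, hIq⟩, ?_⟩
  rintro K ⟨hKp, hIK⟩ hKq
  obtain ⟨e, -, heq, -, huniq⟩ := exists_idempotent_of_quasiFiniteAt (R := R) q
  have hKl : K.LiesOver (maximalIdeal R) := under_eq_of_map_le K hIK
  have : K = q := huniq K hKp hKl (fun hmem => heq (hKq hmem))
  exact this.ge

theorem quasiFiniteAt_comap_of_idempotent {R : Type*} [CommRing R] {S : Type*} [CommRing S]
    [Algebra R S] (e : S) (he : IsIdempotentElem e) (qt : Ideal (S ⧸ Ideal.span {e}))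
    [qt.IsPrime] [Algebra.QuasiFiniteAt R qt]
    (hq : (qt.comap (Ideal.Quotient.mk (Ideal.span {e}))).IsPrime) :
    Algebra.QuasiFiniteAt R (qt.comap (Ideal.Quotient.mk (Ideal.span {e}))) := by
  let T := S ⧸ Ideal.span {e}
  haveI : IsLocalization.Away (1 - e) T :=
    IsLocalization.away_of_isIdempotentElem he.one_sub
      (by rw [sub_sub_cancel]; exact Ideal.mk_ker) Ideal.Quotient.mk_surjective
  haveI h2 : IsLocalization.AtPrime (Localization.AtPrime qt) (qt.comap (algebraMap S T)) :=
    IsLocalization.isLocalization_isLocalization_atPrime_isLocalization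
      (Submonoid.powers (1 - e)) (Localization.AtPrime qt) qt
  let q' := qt.comap (Ideal.Quotient.mk (Ideal.span {e}))
  haveI : IsLocalization.AtPrime (Localization.AtPrime qt) q' := h2
  let α : Localization.AtPrime q' ≃ₐ[S] Localization.AtPrime qt :=
    IsLocalization.algEquiv q'.primeCompl _ _
  exact (Algebra.QuasiFinite.iff_of_algEquiv (α.restrictScalars R)).mpr ‹_›

/-- finite-type splitting over a henselian local ring -/
theorem finiteType_split (R : Type u) [CommRing R] [HenselianLocalRing R]
    (S : Type v) [CommRing S] [Algebra R S] [Algebra.FiniteType R S] :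
    ∃ e : S, IsIdempotentElem e ∧ Module.Finite R (S ⧸ Ideal.span ({1 - e} : Set S)) ∧
      ∀ (q : Ideal (S ⧸ Ideal.span ({e} : Set S))) [q.IsPrime],
        q.LiesOver (IsLocalRing.maximalIdeal R) → ¬ Algebra.QuasiFiniteAt R q := by
  have hfin := finite_quasiFiniteAt_primes (R := R) (S := S)
  obtain ⟨e, h1, h2, h3⟩ := exists_idempotent_of_finset (R := R) hfin.toFinset (by
    intro q hq
    rw [Set.Finite.mem_toFinset] at hq
    exact hq)
  refine ⟨e, h1, h2, ?_⟩
  intro qt _ hl hqf
  let q' := qt.comap (Ideal.Quotient.mk (Ideal.span {e}))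
  have hq'p : q'.IsPrime := Ideal.comap_isPrime _ _
  have hq'f := quasiFiniteAt_comap_of_idempotent (R := R) e h1 qt hq'p
  have hq'l : q'.LiesOver (maximalIdeal R) := by
    constructor
    rw [hl.over]
    rfl
  have he : e ∈ q' := by
    change Ideal.Quotient.mk (Ideal.span {e}) e ∈ qt
    rw [Ideal.Quotient.eq_zero_iff_mem.mpr (Ideal.mem_span_singleton_self e)]
    exact qt.zero_mem
  exact h3 q' (by rw [Set.Finite.mem_toFinset]; exact ⟨hq'p, hq'l, hq'f⟩) he

end Groth.Agent.Lib.Helper3.Hensel
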