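import Mathlib
import Groth.Agent.Lib.Helper3HenselG

set_option autoImplicit false
universe u v

namespace Groth.Agent.Lib.Helper3.Hensel

open Polynomial IsLocalRing TensorProduct

/-- Over a henselian local ring `R`, if a finite type algebra `S` is quasi-finite at a prime `q`
over the maximal ideal, then `S_q` is a finite `R`-module (it is a direct factor of `S`). -/
theorem finite_localization_of_quasiFiniteAt {R : Type u} [CommRing R] [HenselianLocalRing R]
    {S : Type v} [CommRing S] [Algebra R S] [Algebra.FiniteType R S] (q : Ideal S) [q.IsPrime]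
    [q.LiesOver (maximalIdeal R)] [Algebra.QuasiFiniteAt R q] :
    Module.Finite R (Localization.AtPrime q) := by
  obtain ⟨e, he, heq, hfin, huniq⟩ := exists_idempotent_of_quasiFiniteAt (R := R) q
  let T := S ⧸ Ideal.span ({1 - e} : Set S)
  have h1e : 1 - e ∈ q := by
    have : e * (1 - e) ∈ q := by
      rw [mul_sub, mul_one, he.eq, sub_self]; exact q.zero_mem
    exact (Ideal.IsPrime.mem_or_mem inferInstance this).resolve_left heq
  haveI : Algebra.IsIntegral R T := Algebra.IsIntegral.of_finite R T
  haveI hloc : IsLocalization.AtPrime T q := by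
    refine ⟨⟨?_, ?_, ?_⟩⟩
    · rintro ⟨s, hs⟩
      show IsUnit (algebraMap S T s)
      by_contra hnu
      obtain ⟨M, hM, hsM⟩ := exists_max_ideal_of_mem_nonunits hnu
      let M' := M.comap (Ideal.Quotient.mk (Ideal.span ({1 - e} : Set S)))
      haveI hM'max : M'.IsMaximal := Ideal.comap_isMaximal_of_surjective _ Ideal.Quotient.mk_surjective
      have hM'l : M'.LiesOver (maximalIdeal R) := by
        constructor
        have hmax : (M.comap (algebraMap R T)).IsMaximal :=
          Ideal.isMaximal_comap_of_isIntegral_of_isMaximal M
        have := IsLocalRing.eq_maximalIdeal hmax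
        rw [← this]
        rfl
      have heM' : e ∉ M' := by
        intro hmem
        have h1 : (1 - e) ∈ M' := by
          show Ideal.Quotient.mk _ (1 - e) ∈ M
          rw [Ideal.Quotient.eq_zero_iff_mem.mpr (Ideal.mem_span_singleton_self _)]
          exact M.zero_mem
        have : (1 : S) ∈ M' := by
          have := M'.add_mem hmem h1
          simpa using this
        exact hM'max.ne_top ((Ideal.eq_top_iff_one _).mpr this)
      have := huniq M' inferInstance hM'l heM'
      apply hs
      rw [← this]
      exact hsM
    · intro z
      obtain ⟨s, rfl⟩ := Ideal.Quotient.mk_surjective z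
      exact ⟨(s, 1), by simp; rfl⟩
    · intro a b hab
      have hab' : Ideal.Quotient.mk (Ideal.span ({1 - e} : Set S)) a
          = Ideal.Quotient.mk (Ideal.span ({1 - e} : Set S)) b := hab
      rw [Ideal.Quotient.mk_eq_mk_iff_sub_mem, Ideal.mem_span_singleton'] at hab'
      obtain ⟨w, hw⟩ := hab'
      refine ⟨⟨e, heq⟩, ?_⟩
      show e * a = e * b
      have : e * (a - b) = 0 := by
        rw [← hw, mul_comm w, ← mul_assoc, mul_sub, mul_one, he.eq, sub_self, zero_mul]
      rw [mul_sub, sub_eq_zero] at this
      exact this
  let α : T ≃ₐ[S] Localization.AtPrime q := IsLocalization.algEquiv q.primeCompl T _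
  exact Module.Finite.equiv (α.restrictScalars R).toLinearEquiv

end Groth.Agent.Lib.Helper3.Hensel
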