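import Mathlib
import Groth.Prelude.Def_Found
import Groth.Agent.Lib.Helper19GRLoc
import Groth.Agent.Lib.Helper28GeomFibre5
import Groth.Agent.Lib.Helper28FibreTrans

/-!
# Helper7RegLoc: regular homomorphisms and localization

* `isRegularHom_of_isLocalization`: `R → Λ` regular ⇒ `R → M⁻¹Λ` regular;
* `isRegularHom_self`, `isRegularHom_localization_self`;
* `isRegularHom_localization_base`: `S⁻¹A → S⁻¹B` (only `B` Noetherian needed);
* `isRegularHom_localRingHom`: `R_p → Λ_q` regular (one half of "regularity is local").
-/

set_option autoImplicit false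
universe u

open TensorProduct

namespace Groth.Agent.Lib.Helper7.RegLoc

section TL

variable {R Λ Λ' : Type u} [CommRing R] [CommRing Λ] [CommRing Λ'] [Algebra R Λ] [Algebra Λ Λ']
  [Algebra R Λ'] [IsScalarTower R Λ Λ']

/-- `k ⊗[R] M⁻¹Λ` is a localization of `k ⊗[R] Λ`: transfer of regularity. -/
theorem isRegularRing_tensor_of_isLocalization (M : Submonoid Λ) [IsLocalization M Λ']
    (k : Type u) [CommRing k] [Algebra R k] (h : IsRegularRing (k ⊗[R] Λ)) :
    IsRegularRing (k ⊗[R] Λ') := by
  letI : Algebra (k ⊗[R] Λ) (k ⊗[R] Λ') :=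
    (Algebra.TensorProduct.map (AlgHom.id R k) (IsScalarTower.toAlgHom R Λ Λ')).toAlgebra
  haveI : IsScalarTower k (k ⊗[R] Λ) (k ⊗[R] Λ') :=
    .of_algebraMap_eq <| by intro; simp [RingHom.algebraMap_toAlgebra]
  haveI := IsLocalization.tensorProduct_tensorProduct_right R k M Λ'
    (by ext; simp [RingHom.algebraMap_toAlgebra])
  exact Groth.Agent.Lib.Helper19.GR.isRegularRing_of_isLocalization
    (M.map (Algebra.TensorProduct.includeRight (R := R) (A := k)))

/-- `k ⊗[R] M⁻¹Λ` is a localization of `k ⊗[R] Λ`: transfer of Noetherianity. -/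
theorem isNoetherianRing_tensor_of_isLocalization (M : Submonoid Λ) [IsLocalization M Λ']
    (k : Type u) [CommRing k] [Algebra R k] (h : IsNoetherianRing (k ⊗[R] Λ)) :
    IsNoetherianRing (k ⊗[R] Λ') := by
  letI : Algebra (k ⊗[R] Λ) (k ⊗[R] Λ') :=
    (Algebra.TensorProduct.map (AlgHom.id R k) (IsScalarTower.toAlgHom R Λ Λ')).toAlgebra
  haveI : IsScalarTower k (k ⊗[R] Λ) (k ⊗[R] Λ') :=
    .of_algebraMap_eq <| by intro; simp [RingHom.algebraMap_toAlgebra]
  haveI := IsLocalization.tensorProduct_tensorProduct_right R k M Λ'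
    (by ext; simp [RingHom.algebraMap_toAlgebra])
  exact IsLocalization.isNoetherianRing
    (M.map (Algebra.TensorProduct.includeRight (R := R) (A := k))) _ h

/-- **Localizing the target** of a regular homomorphism gives a regular homomorphism. -/
theorem isRegularHom_of_isLocalization (M : Submonoid Λ) [IsLocalization M Λ']
    (h : CAlg.IsRegularHom R Λ) : CAlg.IsRegularHom R Λ' := by
  obtain ⟨hflat, hfib⟩ := h
  haveI : Module.Flat Λ Λ' := IsLocalization.flat Λ' M
  refine ⟨Module.Flat.trans R Λ Λ', fun P _ => ?_⟩
  obtain ⟨hN, hG⟩ := hfib P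
  refine ⟨isNoetherianRing_tensor_of_isLocalization M P.ResidueField hN, ?_⟩
  intro k' _ _ hfin
  letI : Algebra R k' := ((algebraMap P.ResidueField k').comp (algebraMap R P.ResidueField)).toAlgebra
  haveI : IsScalarTower R P.ResidueField k' := IsScalarTower.of_algebraMap_eq fun _ => rfl
  have h1 : IsRegularRing (k' ⊗[R] Λ) := by
    haveI := hG k' hfin
    exact IsRegularRing.of_ringEquiv
      (Algebra.TensorProduct.cancelBaseChange R P.ResidueField k' k' Λ).toRingEquiv
  have h2 : IsRegularRing (k' ⊗[R] Λ') := isRegularRing_tensor_of_isLocalization M k' h1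
  exact IsRegularRing.of_ringEquiv
    (Algebra.TensorProduct.cancelBaseChange R P.ResidueField k' k' Λ').toRingEquiv.symm

end TL

section Self

variable (R : Type u) [CommRing R]

/-- The identity is a regular homomorphism. -/
theorem isRegularHom_self : CAlg.IsRegularHom R R := by
  refine ⟨inferInstance, fun P _ => ?_⟩
  have e : P.Fiber R ≃ₐ[P.ResidueField] P.ResidueField :=
    Algebra.TensorProduct.rid R P.ResidueField P.ResidueField
  refine ⟨isNoetherianRing_of_ringEquiv _ e.symm.toRingEquiv, ?_⟩
  intro k' _ _ hfin
  let e2 : k' ⊗[P.ResidueField] (P.Fiber R) ≃+* k' :=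
    (Algebra.TensorProduct.congr (AlgEquiv.refl (R := P.ResidueField) (A₁ := k')) e).toRingEquiv.trans
      (Algebra.TensorProduct.rid P.ResidueField k' k').toRingEquiv
  haveI : IsRegularRing k' := inferInstance
  exact IsRegularRing.of_ringEquiv e2.symm

/-- A localization map is a regular homomorphism. -/
theorem isRegularHom_localization_self (M : Submonoid R) (R' : Type u) [CommRing R'] [Algebra R R']
    [IsLocalization M R'] : CAlg.IsRegularHom R R' :=
  isRegularHom_of_isLocalization M (isRegularHom_self R)

end Self

section Base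

open Groth.Agent.Lib.Helper28

/-- `S⁻¹A → S⁻¹B` is regular when `A → B` is (variant of S4736 with only `B` Noetherian). -/
theorem isRegularHom_localization_base (A B : Type u) [CommRing A] [CommRing B]
    [IsNoetherianRing B] [Algebra A B] (h : CAlg.IsRegularHom A B) (S : Submonoid A)
    (A' B' : Type u) [CommRing A'] [CommRing B'] [Algebra A A'] [Algebra B B'] [Algebra A' B']
    [Algebra A B'] [IsScalarTower A A' B'] [IsScalarTower A B B'] [IsLocalization S A']
    [IsLocalization (Algebra.algebraMapSubmonoid B S) B'] :
    CAlg.IsRegularHom A' B' := by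
  have hflat := h.1
  have hqf := quasiFinite_of_isLocalization' A S A'
  have hN : IsNoetherianRing B' :=
    IsLocalization.isNoetherianRing (Algebra.algebraMapSubmonoid B S) B' inferInstance
  refine ⟨flat_localization_localization A B S A' B', fun P' _ => ⟨isNoetherianRing_fiber P', ?_⟩⟩
  intro k'' _ _ hfin
  exact tensor_fiber_of_property_of_algEquiv (localizationTensorEquiv A B S A' B')
    (fun T _ => IsRegularRing T) (fun T T' _ _ e h => IsRegularRing.of_ringEquiv (R := T) e)
    (fun p _ k' _ _ hk' => (h.2 p).2 k' hk') P' k''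

end Base

section Local

variable (R Λ : Type u) [CommRing R] [CommRing Λ] [Algebra R Λ] [IsNoetherianRing Λ]

/-- **Regularity passes to the local rings**: `R_p → Λ_q` is regular for `p = q ∩ R`. -/
theorem isRegularHom_localRingHom (h : CAlg.IsRegularHom R Λ) (q : Ideal Λ) [q.IsPrime] :
    letI := (Localization.localRingHom (Ideal.comap (algebraMap R Λ) q) q (algebraMap R Λ)
      rfl).toAlgebra
    CAlg.IsRegularHom (Localization.AtPrime (Ideal.comap (algebraMap R Λ) q))
      (Localization.AtPrime q) := by
  letI alg := (Localization.localRingHom (Ideal.comap (algebraMap R Λ) q) q (algebraMap R Λ)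
      rfl).toAlgebra
  set p := Ideal.comap (algebraMap R Λ) q with hp
  have h1 : CAlg.IsRegularHom R (Localization.AtPrime q) :=
    isRegularHom_of_isLocalization q.primeCompl h
  haveI : IsNoetherianRing (Localization.AtPrime q) :=
    IsLocalization.isNoetherianRing q.primeCompl _ inferInstance
  haveI : IsScalarTower R (Localization.AtPrime p) (Localization.AtPrime q) :=
    IsScalarTower.of_algebraMap_eq fun x => by
      rw [RingHom.algebraMap_toAlgebra, Localization.localRingHom_to_map,
        IsScalarTower.algebraMap_apply R Λ (Localization.AtPrime q)]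
  haveI : IsLocalization (Algebra.algebraMapSubmonoid (Localization.AtPrime q) p.primeCompl)
      (Localization.AtPrime q) := by
    apply IsLocalization.of_le_isUnit
    rintro _ ⟨x, hx, rfl⟩
    rw [IsScalarTower.algebraMap_apply R Λ (Localization.AtPrime q)]
    exact IsLocalization.map_units (Localization.AtPrime q)
      (⟨algebraMap R Λ x, fun hmem => hx hmem⟩ : q.primeCompl)
  exact isRegularHom_localization_base R (Localization.AtPrime q) h1 p.primeCompl
    (Localization.AtPrime p) (Localization.AtPrime q)

end Local

end Groth.Agent.Lib.Helper7.RegLoc
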