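import Mathlib
import Groth.Prelude
import Groth.Agent.Lib.Helper7RegLoc
import Groth.Agent.Lib.Helper6HomBC
import Groth.Agent.Lib.Helper3HenselLF
import Groth.Agent.Lib.Helper18ComplProd
import Groth.Agent.Lib.Helper18StdEtaleCover
import Groth.Agent.Lib.Helper19ComplNoeth
import Groth.Agent.Lib.Helper28GeomRed1
import Groth.Agent.S4704
import Groth.Agent.S9294

/-!
# Helper7QFFF: formal fibres of a quasi-finite point

If `R'` is of finite type over `R` and quasi-finite at `p'` over `p`, and the completion map of
`R_p` is regular, then the completion map of `R'_{p'}` is regular.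
-/

set_option autoImplicit false
universe u

open TensorProduct IsLocalRing

namespace Groth.Agent.Lib.Helper7.QFFF

open Groth.Agent.Lib.Helper28 in
/-- Regular homomorphisms transfer along isomorphisms of the target. -/
theorem isRegularHom_of_algEquiv {A B B' : Type u} [CommRing A] [CommRing B] [CommRing B']
    [Algebra A B] [Algebra A B'] (e : B ≃ₐ[A] B') (h : CAlg.IsRegularHom A B) :
    CAlg.IsRegularHom A B' := by
  obtain ⟨hflat, hfib⟩ := h
  refine ⟨Module.Flat.of_linearEquiv e.toLinearEquiv.symm, fun P _ => ?_⟩
  obtain ⟨hN, hG⟩ := hfib P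
  refine ⟨isNoetherianRing_of_ringEquiv _ (fiberCongr e P), ?_⟩
  intro k' _ _ hfin
  haveI := hG k' hfin
  exact IsRegularRing.of_ringEquiv (R := k' ⊗[P.ResidueField] P.Fiber B) (tensorFiberCongr e P k')

/-- The completion map of a complete local ring is regular. -/
theorem isRegularHom_cpl_of_isAdicComplete (C : Type u) [CommRing C] [IsLocalRing C]
    [IsAdicComplete (maximalIdeal C) C] : CAlg.IsRegularHom C (EGA4.Cpl C) :=
  isRegularHom_of_algEquiv (AdicCompletion.ofAlgEquiv (maximalIdeal C))
    (RegLoc.isRegularHom_self C)

/-- If `R' → W` is regular and `W_N` is a complete local ring, then `R'_q` (`q = N ∩ R'`) has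
a regular completion map. -/
theorem isRegularHom_cpl_of_complete_target (R' W : Type u) [CommRing R'] [CommRing W]
    [Algebra R' W] [IsNoetherianRing R'] [IsNoetherianRing W] (hW : CAlg.IsRegularHom R' W)
    (N : Ideal W) [N.IsPrime]
    (hC : IsAdicComplete (maximalIdeal (Localization.AtPrime N)) (Localization.AtPrime N))
    (q : Ideal R') [q.IsPrime] (hq : q = N.comap (algebraMap R' W)) :
    CAlg.IsRegularHom (Localization.AtPrime q) (EGA4.Cpl (Localization.AtPrime q)) := by
  subst hq
  letI alg := (Localization.localRingHom (Ideal.comap (algebraMap R' W) N) N (algebraMap R' W)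
      rfl).toAlgebra
  have h1 := RegLoc.isRegularHom_localRingHom R' W hW N
  haveI : IsLocalHom (algebraMap (Localization.AtPrime (Ideal.comap (algebraMap R' W) N))
      (Localization.AtPrime N)) :=
    Localization.isLocalHom_localRingHom _ _ _ rfl
  haveI : IsNoetherianRing (Localization.AtPrime N) :=
    IsLocalization.isNoetherianRing N.primeCompl _ inferInstance
  haveI : IsNoetherianRing (Localization.AtPrime (Ideal.comap (algebraMap R' W) N)) :=
    IsLocalization.isNoetherianRing (Ideal.comap (algebraMap R' W) N).primeCompl _ inferInstance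
  exact S4704.result _ _ h1 (isRegularHom_cpl_of_isAdicComplete _)


/-- Key step: `Â` a complete Noetherian local `R`-algebra, regular over `R`, whose closed point
lies over the same prime of `R` as `p'`, where `R'` is of finite type over `R` and quasi-finite
at `p'`. Then `R'_{p'}` has a regular completion map. -/
theorem aux (R R' Â : Type u) [CommRing R] [CommRing R'] [CommRing Â] [IsNoetherianRing R']
    [Algebra R R'] [Algebra.FiniteType R R'] [Algebra R Â] [IsNoetherianRing Â] [IsLocalRing Â]
    [IsAdicComplete (maximalIdeal Â) Â] (h1 : CAlg.IsRegularHom R Â)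
    (p' : Ideal R') [p'.IsPrime] [Algebra.QuasiFiniteAt R p']
    (hm : (maximalIdeal Â).under R = p'.under R) :
    CAlg.IsRegularHom (Localization.AtPrime p') (EGA4.Cpl (Localization.AtPrime p')) := by
  -- (ii) base change
  have h2 : CAlg.IsRegularHom R' (R' ⊗[R] Â) :=
    Groth.Agent.Lib.Helper6.HomBC.regularHom_baseChange R Â R' (Or.inr inferInstance) h1
  haveI : IsNoetherianRing (Â ⊗[R] R') := Algebra.FiniteType.isNoetherianRing Â _
  letI : Algebra R' (Â ⊗[R] R') := Algebra.TensorProduct.rightAlgebra
  let e : R' ⊗[R] Â ≃ₐ[R'] Â ⊗[R] R' :=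
    { (Algebra.TensorProduct.comm R R' Â).toRingEquiv with
      commutes' := fun r => by
        simp [Algebra.TensorProduct.algebraMap_apply, RingHom.algebraMap_toAlgebra] }
  have h3 : CAlg.IsRegularHom R' (Â ⊗[R] R') := isRegularHom_of_algEquiv e h2
  -- (iii) the prime `N`
  obtain ⟨N, hNp, hNl, hNr⟩ := Groth.Agent.Lib.Helper18StdEtaleCover.exists_prime_tensor R Â R'
    (maximalIdeal Â) p' hm
  haveI := hNp
  -- (v) `W_N` is finite over `Â`, hence complete
  haveI : Algebra.QuasiFiniteAt Â N := Algebra.QuasiFiniteAt.baseChange p' N hNr.symm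
  haveI : N.LiesOver (maximalIdeal Â) := ⟨hNl.symm⟩
  haveI : HenselianLocalRing Â :=
    Groth.Agent.Lib.Helper28.GeomRed.henselianLocalRing_of_isAdicComplete Â
  haveI : Module.Finite Â (Localization.AtPrime N) :=
    Groth.Agent.Lib.Helper3.Hensel.finite_localization_of_quasiFiniteAt N
  obtain ⟨-, hC⟩ := Groth.Agent.Lib.Helper18ComplProd.isAdicComplete_of_finite Â
    (Localization.AtPrime N)
  exact isRegularHom_cpl_of_complete_target R' (Â ⊗[R] R') h3 N hC p' hNr.symm

/-- **Formal fibres at a quasi-finite point.** -/
theorem main (R R' : Type u) [CommRing R]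
    [CommRing R'] [IsNoetherianRing R] [IsNoetherianRing R'] [Algebra R R'] [Algebra.FiniteType R R']
    (p' : Ideal R') [p'.IsPrime] [Algebra.QuasiFiniteAt R p']
    (h : CAlg.IsRegularHom (Localization.AtPrime (Ideal.comap (algebraMap R R') p'))
      (AdicCompletion (IsLocalRing.maximalIdeal (Localization.AtPrime (Ideal.comap (algebraMap R R') p')))
        (Localization.AtPrime (Ideal.comap (algebraMap R R') p')))) :
    CAlg.IsRegularHom (Localization.AtPrime p')
      (AdicCompletion (IsLocalRing.maximalIdeal (Localization.AtPrime p')) (Localization.AtPrime p')) := by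
  set p := Ideal.comap (algebraMap R R') p' with hp
  haveI : IsNoetherianRing (Localization.AtPrime p) :=
    IsLocalization.isNoetherianRing p.primeCompl _ inferInstance
  haveI hNÂ : IsNoetherianRing (AdicCompletion (maximalIdeal (Localization.AtPrime p))
      (Localization.AtPrime p)) :=
    Groth.Agent.Lib.Helper19.isNoetherianRing_adicCompletion _
  -- (i) `R → Â` is regular
  have h1 : CAlg.IsRegularHom R (AdicCompletion (maximalIdeal (Localization.AtPrime p))
      (Localization.AtPrime p)) :=
    S9294.result R (Localization.AtPrime p) _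
      (RegLoc.isRegularHom_localization_self R p.primeCompl (Localization.AtPrime p)) h
      (fun P _ => Groth.Agent.Lib.Helper28.isNoetherianRing_fiber P)
  refine aux R R' _ h1 p' ?_
  have hloc : IsLocalHom (algebraMap (Localization.AtPrime p)
      (AdicCompletion (maximalIdeal (Localization.AtPrime p)) (Localization.AtPrime p))) :=
    inferInstance
  have hcm : (maximalIdeal (AdicCompletion (maximalIdeal (Localization.AtPrime p))
      (Localization.AtPrime p))).comap (algebraMap (Localization.AtPrime p)
      (AdicCompletion (maximalIdeal (Localization.AtPrime p)) (Localization.AtPrime p))) =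
      maximalIdeal (Localization.AtPrime p) :=
    ((IsLocalRing.local_hom_TFAE (algebraMap (Localization.AtPrime p)
      (AdicCompletion (maximalIdeal (Localization.AtPrime p)) (Localization.AtPrime p)))).out 0 4).mp
      hloc
  rw [Ideal.under_def, Ideal.under_def,
    IsScalarTower.algebraMap_eq R (Localization.AtPrime p) (AdicCompletion _ _),
    ← Ideal.comap_comap, hcm]
  exact IsLocalization.AtPrime.comap_maximalIdeal (Localization.AtPrime p) p

end Groth.Agent.Lib.Helper7.QFFF
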