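import Mathlib
import Groth.Prelude
import Groth.Agent.Lib.Helper7QFFF
import Groth.Agent.Lib.Helper28GeomFibre3

/-!
# Helper7QFFF2: pointwise formal fibres at a quasi-finite point (S9290)
-/

set_option autoImplicit false
set_option linter.style.haveILetI false
universe u

open TensorProduct IsLocalRing

namespace Groth.Agent.Lib.Helper7.QFFF

open Groth.Agent.Lib.Helper28 Groth.Agent.Lib.Helper6.HomBC

section Pointwise

/-- L1: geometric regularity of a fibre transfers along an isomorphism of the target. -/
theorem geomRegular_fiber_of_algEquiv {A B B' : Type u} [CommRing A] [CommRing B] [CommRing B']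
    [Algebra A B] [Algebra A B'] (e : B ≃ₐ[A] B') (P : Ideal A) [P.IsPrime]
    (h : CAlg.IsGeometricallyRegular P.ResidueField (P.Fiber B)) :
    CAlg.IsGeometricallyRegular P.ResidueField (P.Fiber B') := by
  intro k' _ _ hfin
  haveI := h k' hfin
  exact IsRegularRing.of_ringEquiv (R := k' ⊗[P.ResidueField] P.Fiber B) (tensorFiberCongr e P k')

/-- L2: localizing the target. -/
theorem geomRegular_fiber_of_isLocalization {R Λ Λ' : Type u} [CommRing R] [CommRing Λ]
    [CommRing Λ'] [Algebra R Λ] [Algebra Λ Λ'] [Algebra R Λ'] [IsScalarTower R Λ Λ']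
    (M : Submonoid Λ) [IsLocalization M Λ'] (P : Ideal R) [P.IsPrime]
    (hG : CAlg.IsGeometricallyRegular P.ResidueField (P.Fiber Λ)) :
    CAlg.IsGeometricallyRegular P.ResidueField (P.Fiber Λ') := by
  intro k' _ _ hfin
  letI : Algebra R k' := ((algebraMap P.ResidueField k').comp (algebraMap R P.ResidueField)).toAlgebra
  haveI : IsScalarTower R P.ResidueField k' := IsScalarTower.of_algebraMap_eq fun _ => rfl
  have h1 : IsRegularRing (k' ⊗[R] Λ) := by
    haveI := hG k' hfin
    exact IsRegularRing.of_ringEquiv
      (Algebra.TensorProduct.cancelBaseChange R P.ResidueField k' k' Λ).toRingEquiv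
  have h2 : IsRegularRing (k' ⊗[R] Λ') := RegLoc.isRegularRing_tensor_of_isLocalization M k' h1
  exact IsRegularRing.of_ringEquiv
    (Algebra.TensorProduct.cancelBaseChange R P.ResidueField k' k' Λ').toRingEquiv.symm

/-- L3: localizing the base (and the target compatibly). -/
theorem geomRegular_fiber_localization_base (A B : Type u) [CommRing A] [CommRing B] [Algebra A B]
    (S : Submonoid A)
    (A' B' : Type u) [CommRing A'] [CommRing B'] [Algebra A A'] [Algebra B B'] [Algebra A' B']
    [Algebra A B'] [IsScalarTower A A' B'] [IsScalarTower A B B'] [IsLocalization S A']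
    [IsLocalization (Algebra.algebraMapSubmonoid B S) B'] (P' : Ideal A') [P'.IsPrime]
    (h : CAlg.IsGeometricallyRegular (P'.under A).ResidueField ((P'.under A).Fiber B)) :
    CAlg.IsGeometricallyRegular P'.ResidueField (P'.Fiber B') := by
  haveI hqf := quasiFinite_of_isLocalization' A S A'
  intro k'' _ _ hfin
  have := tensor_fiber_tensorProduct_of_property (R := A) (S := B) (A := A')
    (fun T _ => IsRegularRing T) (fun T T' _ _ e h => IsRegularRing.of_ringEquiv (R := T) e)
    P' k'' (fun k' _ _ hk' => h k' hk')
  exact IsRegularRing.of_ringEquiv (R := k'' ⊗[P'.ResidueField] P'.Fiber (A' ⊗[A] B))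
    (tensorFiberCongr (localizationTensorEquiv A B S A' B') P' k'')

/-- L3': from a fibre over the localization to the fibre over the base. -/
theorem geomRegular_fiber_under_of_localization (A B : Type u) [CommRing A] [CommRing B]
    [Algebra A B] (S : Submonoid A)
    (A' B' : Type u) [CommRing A'] [CommRing B'] [Algebra A A'] [Algebra B B'] [Algebra A' B']
    [Algebra A B'] [IsScalarTower A A' B'] [IsScalarTower A B B'] [IsLocalization S A']
    [IsLocalization (Algebra.algebraMapSubmonoid B S) B'] (P' : Ideal A') [P'.IsPrime]
    (h : CAlg.IsGeometricallyRegular P'.ResidueField (P'.Fiber B')) :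
    CAlg.IsGeometricallyRegular (P'.under A).ResidueField ((P'.under A).Fiber B) := by
  haveI : P'.LiesOver (P'.under A) := ⟨rfl⟩
  exact geomRegular_fiber_of A B A' (P'.under A) P'
    (geomRegular_fiber_of_algEquiv (localizationTensorEquiv A B S A' B').symm P' h)

end Pointwise

section Local

variable (R Λ : Type u) [CommRing R] [CommRing Λ] [Algebra R Λ]

/-- Pointwise version of `RegLoc.isRegularHom_localRingHom`. -/
theorem geomRegular_fiber_localRingHom (q : Ideal Λ) [q.IsPrime]
    (P' : Ideal (Localization.AtPrime (Ideal.comap (algebraMap R Λ) q))) [P'.IsPrime]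
    (h : CAlg.IsGeometricallyRegular (P'.under R).ResidueField ((P'.under R).Fiber Λ)) :
    letI := (Localization.localRingHom (Ideal.comap (algebraMap R Λ) q) q (algebraMap R Λ)
      rfl).toAlgebra
    CAlg.IsGeometricallyRegular P'.ResidueField (P'.Fiber (Localization.AtPrime q)) := by
  letI alg := (Localization.localRingHom (Ideal.comap (algebraMap R Λ) q) q (algebraMap R Λ)
      rfl).toAlgebra
  set p := Ideal.comap (algebraMap R Λ) q with hp
  have h1 : CAlg.IsGeometricallyRegular (P'.under R).ResidueField
      ((P'.under R).Fiber (Localization.AtPrime q)) :=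
    geomRegular_fiber_of_isLocalization q.primeCompl (P'.under R) h
  haveI : IsScalarTower R (Localization.AtPrime p) (Localization.AtPrime q) :=
    IsScalarTower.of_algebraMap_eq fun x => by
      rw [RingHom.algebraMap_toAlgebra, Localization.localRingHom_to_map,
        IsScalarTower.algebraMap_apply R Λ (Localization.AtPrime q)]
  haveI : IsLocalization (Algebra.algebraMapSubmonoid (Localization.AtPrime q) p.primeCompl)
      (Localization.AtPrime q) := by
    apply IsLocalization.of_le_isUnit
    rintro _ ⟨x, hx, rfl⟩
    rw [IsScalarTower.algebraMap_apply R Λ (Localization.AtPrime q)]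
    exact IsLocalization.map_units (Localization.AtPrime q)
      (⟨algebraMap R Λ x, fun hmem => hx hmem⟩ : q.primeCompl)
  exact geomRegular_fiber_localization_base R (Localization.AtPrime q) p.primeCompl
    (Localization.AtPrime p) (Localization.AtPrime q) P' h1

/-- Flatness passes to the local rings. -/
theorem flat_localRingHom [Module.Flat R Λ] (q : Ideal Λ) [q.IsPrime] :
    letI := (Localization.localRingHom (Ideal.comap (algebraMap R Λ) q) q (algebraMap R Λ)
      rfl).toAlgebra
    Module.Flat (Localization.AtPrime (Ideal.comap (algebraMap R Λ) q))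
      (Localization.AtPrime q) := by
  letI alg := (Localization.localRingHom (Ideal.comap (algebraMap R Λ) q) q (algebraMap R Λ)
      rfl).toAlgebra
  set p := Ideal.comap (algebraMap R Λ) q with hp
  haveI : Module.Flat Λ (Localization.AtPrime q) := IsLocalization.flat _ q.primeCompl
  haveI : Module.Flat R (Localization.AtPrime q) := Module.Flat.trans R Λ _
  haveI : IsScalarTower R (Localization.AtPrime p) (Localization.AtPrime q) :=
    IsScalarTower.of_algebraMap_eq fun x => by
      rw [RingHom.algebraMap_toAlgebra, Localization.localRingHom_to_map,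
        IsScalarTower.algebraMap_apply R Λ (Localization.AtPrime q)]
  haveI : IsLocalization (Algebra.algebraMapSubmonoid (Localization.AtPrime q) p.primeCompl)
      (Localization.AtPrime q) := by
    apply IsLocalization.of_le_isUnit
    rintro _ ⟨x, hx, rfl⟩
    rw [IsScalarTower.algebraMap_apply R Λ (Localization.AtPrime q)]
    exact IsLocalization.map_units (Localization.AtPrime q)
      (⟨algebraMap R Λ x, fun hmem => hx hmem⟩ : q.primeCompl)
  exact flat_localization_localization R (Localization.AtPrime q) p.primeCompl
    (Localization.AtPrime p) (Localization.AtPrime q)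

end Local

/-- Pointwise version of `isRegularHom_cpl_of_complete_target`. -/
theorem geomRegular_formalFibre_of_complete_target (R' W : Type u) [CommRing R'] [CommRing W]
    [Algebra R' W] [IsNoetherianRing R'] [IsNoetherianRing W] [Module.Flat R' W]
    (N : Ideal W) [N.IsPrime]
    (hC : IsAdicComplete (maximalIdeal (Localization.AtPrime N)) (Localization.AtPrime N))
    (q : Ideal R') [q.IsPrime] (hq : q = N.comap (algebraMap R' W))
    (Q' : Ideal (Localization.AtPrime q)) [Q'.IsPrime]
    (h : CAlg.IsGeometricallyRegular (Q'.under R').ResidueField ((Q'.under R').Fiber W)) :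
    CAlg.IsGeometricallyRegular Q'.ResidueField
      (EGA4.formalFibre (Localization.AtPrime q) Q') := by
  subst hq
  letI alg := (Localization.localRingHom (Ideal.comap (algebraMap R' W) N) N (algebraMap R' W)
      rfl).toAlgebra
  have h1 := geomRegular_fiber_localRingHom R' W N Q' h
  haveI := flat_localRingHom R' W N
  haveI : IsLocalHom (algebraMap (Localization.AtPrime (Ideal.comap (algebraMap R' W) N))
      (Localization.AtPrime N)) :=
    Localization.isLocalHom_localRingHom _ _ _ rfl
  haveI : IsNoetherianRing (Localization.AtPrime N) :=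
    IsLocalization.isNoetherianRing N.primeCompl _ inferInstance
  haveI : IsNoetherianRing (Localization.AtPrime (Ideal.comap (algebraMap R' W) N)) :=
    IsLocalization.isNoetherianRing (Ideal.comap (algebraMap R' W) N).primeCompl _ inferInstance
  have hA' := isRegularHom_cpl_of_isAdicComplete (Localization.AtPrime N)
  have hflat' := hA'.1
  intro k' _ _ hfin
  exact formalFibre_property_of_flat_local
    (Localization.AtPrime (Ideal.comap (algebraMap R' W) N)) (Localization.AtPrime N)
    (fun R _ => IsRegularRing R)
    (fun R S _ _ e h => IsRegularRing.of_ringEquiv (R := R) e)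
    (fun R' _ _ _ _ _ h => isRegularRing_tensorProduct_of_quasiFinite (fun q _ => (hA'.2 q).2))
    (fun R' T _ _ _ _ _ _ h => isRegularRing_of_faithfullyFlat (R := R') (S := T))
    Q' k' (h1 k' hfin)


/-- The prime `N` of `Â ⊗[R] R'` over `p'` and the closed point of `Â`, with `(Â ⊗[R] R')_N`
complete. -/
theorem exists_prime_complete (R R' Â : Type u) [CommRing R] [CommRing R'] [CommRing Â]
    [Algebra R R'] [Algebra.FiniteType R R'] [Algebra R Â] [IsNoetherianRing Â] [IsLocalRing Â]
    [IsAdicComplete (maximalIdeal Â) Â]
    (p' : Ideal R') [p'.IsPrime] [Algebra.QuasiFiniteAt R p']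
    (hm : (maximalIdeal Â).under R = p'.under R) :
    ∃ (N : Ideal (Â ⊗[R] R')) (_ : N.IsPrime),
      p' = N.comap (Algebra.TensorProduct.includeRight : R' →ₐ[R] Â ⊗[R] R') ∧
      IsAdicComplete (maximalIdeal (Localization.AtPrime N)) (Localization.AtPrime N) := by
  obtain ⟨N, hNp, hNl, hNr⟩ := Groth.Agent.Lib.Helper18StdEtaleCover.exists_prime_tensor R Â R'
    (maximalIdeal Â) p' hm
  haveI := hNp
  haveI : Algebra.QuasiFiniteAt Â N := Algebra.QuasiFiniteAt.baseChange p' N hNr.symm
  haveI : N.LiesOver (maximalIdeal Â) := ⟨hNl.symm⟩
  haveI : HenselianLocalRing Â :=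
    Groth.Agent.Lib.Helper28.GeomRed.henselianLocalRing_of_isAdicComplete Â
  haveI : Module.Finite Â (Localization.AtPrime N) :=
    Groth.Agent.Lib.Helper3.Hensel.finite_localization_of_quasiFiniteAt N
  obtain ⟨-, hC⟩ := Groth.Agent.Lib.Helper18ComplProd.isAdicComplete_of_finite Â
    (Localization.AtPrime N)
  exact ⟨N, hNp, hNr.symm, hC⟩

/-- **Formal fibres at a quasi-finite point, pointwise.** -/
theorem main_pointwise (R R' : Type u) [CommRing R] [CommRing R']
    [IsNoetherianRing R] [IsNoetherianRing R'] [Algebra R R'] [Algebra.FiniteType R R']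
    (p' : Ideal R') [p'.IsPrime] [Algebra.QuasiFiniteAt R p']
    (Q' : Ideal (Localization.AtPrime p')) [Q'.IsPrime]
    (Q : Ideal (Localization.AtPrime (Ideal.comap (algebraMap R R') p'))) [Q.IsPrime]
    (hQ : Ideal.comap (algebraMap R (Localization.AtPrime (Ideal.comap (algebraMap R R') p'))) Q =
      Ideal.comap (algebraMap R (Localization.AtPrime p')) Q')
    (h : CAlg.IsGeometricallyRegular Q.ResidueField
      (EGA4.formalFibre (Localization.AtPrime (Ideal.comap (algebraMap R R') p')) Q)) :
    CAlg.IsGeometricallyRegular Q'.ResidueField (EGA4.formalFibre (Localization.AtPrime p') Q') := by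
  set p := Ideal.comap (algebraMap R R') p' with hp
  haveI : IsNoetherianRing (Localization.AtPrime p) :=
    IsLocalization.isNoetherianRing p.primeCompl _ inferInstance
  haveI hNÂ : IsNoetherianRing (AdicCompletion (maximalIdeal (Localization.AtPrime p))
      (Localization.AtPrime p)) :=
    Groth.Agent.Lib.Helper19.isNoetherianRing_adicCompletion _
  -- (b) the fibre of `R → Â` at `Q ∩ R`
  haveI : IsLocalization (Algebra.algebraMapSubmonoid (AdicCompletion (maximalIdeal
      (Localization.AtPrime p)) (Localization.AtPrime p)) p.primeCompl)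
      (AdicCompletion (maximalIdeal (Localization.AtPrime p)) (Localization.AtPrime p)) := by
    apply IsLocalization.of_le_isUnit
    rintro _ ⟨x, hx, rfl⟩
    rw [IsScalarTower.algebraMap_apply R (Localization.AtPrime p) (AdicCompletion _ _)]
    exact (IsLocalization.map_units (Localization.AtPrime p) (⟨x, hx⟩ : p.primeCompl)).map _
  have hb : CAlg.IsGeometricallyRegular (Q.under R).ResidueField
      ((Q.under R).Fiber (AdicCompletion (maximalIdeal (Localization.AtPrime p))
        (Localization.AtPrime p))) :=
    geomRegular_fiber_under_of_localization R _ p.primeCompl (Localization.AtPrime p) _ Q h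
  -- (c) base change to `R'`
  haveI : (Q'.under R').LiesOver (Q.under R) := ⟨by
    rw [Ideal.under_under, Ideal.under_def, Ideal.under_def]; exact hQ⟩
  haveI : IsNoetherianRing ((Q.under R).Fiber (AdicCompletion (maximalIdeal
      (Localization.AtPrime p)) (Localization.AtPrime p))) := isNoetherianRing_fiber _
  have hc := geomRegular_fiber_bc R (AdicCompletion (maximalIdeal
      (Localization.AtPrime p)) (Localization.AtPrime p)) R' (Q.under R) (Q'.under R')
      (Or.inr inferInstance) hb
  -- flatness
  haveI : Module.Flat R (Localization.AtPrime p) := IsLocalization.flat _ p.primeCompl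
  haveI : Module.Flat R (AdicCompletion (maximalIdeal (Localization.AtPrime p))
      (Localization.AtPrime p)) := Module.Flat.trans R (Localization.AtPrime p) _
  haveI : IsNoetherianRing ((AdicCompletion (maximalIdeal (Localization.AtPrime p))
      (Localization.AtPrime p)) ⊗[R] R') := Algebra.FiniteType.isNoetherianRing
    (AdicCompletion (maximalIdeal (Localization.AtPrime p)) (Localization.AtPrime p)) _
  letI : Algebra R' ((AdicCompletion (maximalIdeal (Localization.AtPrime p))
      (Localization.AtPrime p)) ⊗[R] R') := Algebra.TensorProduct.rightAlgebra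
  let e : R' ⊗[R] (AdicCompletion (maximalIdeal (Localization.AtPrime p))
      (Localization.AtPrime p)) ≃ₐ[R'] (AdicCompletion (maximalIdeal (Localization.AtPrime p))
      (Localization.AtPrime p)) ⊗[R] R' :=
    { (Algebra.TensorProduct.comm R R' (AdicCompletion (maximalIdeal (Localization.AtPrime p))
      (Localization.AtPrime p))).toRingEquiv with
      commutes' := fun r => by
        simp [Algebra.TensorProduct.algebraMap_apply, RingHom.algebraMap_toAlgebra] }
  haveI : Module.Flat R' ((AdicCompletion (maximalIdeal (Localization.AtPrime p))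
      (Localization.AtPrime p)) ⊗[R] R') := Module.Flat.of_linearEquiv e.symm.toLinearEquiv
  have hc' := geomRegular_fiber_of_algEquiv e (Q'.under R') hc
  -- the prime `N`
  have hloc : IsLocalHom (algebraMap (Localization.AtPrime p)
      (AdicCompletion (maximalIdeal (Localization.AtPrime p)) (Localization.AtPrime p))) :=
    inferInstance
  have hcm : (maximalIdeal (AdicCompletion (maximalIdeal (Localization.AtPrime p))
      (Localization.AtPrime p))).comap (algebraMap (Localization.AtPrime p)
      (AdicCompletion (maximalIdeal (Localization.AtPrime p)) (Localization.AtPrime p))) =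
      maximalIdeal (Localization.AtPrime p) :=
    ((IsLocalRing.local_hom_TFAE (algebraMap (Localization.AtPrime p)
      (AdicCompletion (maximalIdeal (Localization.AtPrime p)) (Localization.AtPrime p)))).out 0 4).mp
      hloc
  have hm : (maximalIdeal (AdicCompletion (maximalIdeal (Localization.AtPrime p))
      (Localization.AtPrime p))).under R = p'.under R := by
    rw [Ideal.under_def, Ideal.under_def,
      IsScalarTower.algebraMap_eq R (Localization.AtPrime p) (AdicCompletion _ _),
      ← Ideal.comap_comap, hcm]
    exact IsLocalization.AtPrime.comap_maximalIdeal (Localization.AtPrime p) p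
  obtain ⟨N, hNp, hN, hC⟩ := exists_prime_complete R R' _ p' hm
  exact geomRegular_formalFibre_of_complete_target R' _ N hC p' hN Q' hc'

end Groth.Agent.Lib.Helper7.QFFF
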