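import Mathlib
import Groth.Prelude
import Groth.Agent.Lib.Helper7QFFF2
import Groth.Agent.Lib.Helper7ExcLoc
import Groth.Agent.Lib.Helper28GeomFibre6
import Groth.Agent.Lib.Helper28ComplIso
import Groth.Agent.S4737

/-!
# Helper7GenFF: G-rings via generic formal fibres of the local domains `(R/q)_p` (S9257)
-/

set_option autoImplicit false
set_option linter.style.haveILetI false
universe u

open TensorProduct IsLocalRing

namespace Groth.Agent.Lib.Helper7.GenFF

open Groth.Agent.Lib.Helper28 Groth.Agent.Lib.Helper6.HomBC Groth.Agent.Lib.Helper7.QFFF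

/-- Transport of geometric regularity of a formal fibre along a ring isomorphism. -/
theorem geomRegular_formalFibre_of_ringEquiv (D D' : Type u) [CommRing D] [CommRing D']
    [IsLocalRing D] [IsLocalRing D'] [IsNoetherianRing D] [IsNoetherianRing D'] (e : D ≃+* D')
    (Q : Ideal D) [Q.IsPrime] (Q' : Ideal D') [Q'.IsPrime] (hQ : Q = Q'.comap e.toRingHom)
    (h : CAlg.IsGeometricallyRegular Q.ResidueField (EGA4.formalFibre D Q)) :
    CAlg.IsGeometricallyRegular Q'.ResidueField (EGA4.formalFibre D' Q') := by
  letI : Algebra D D' := e.toRingHom.toAlgebra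
  haveI hlh : IsLocalHom (algebraMap D D') := by
    refine ⟨fun a ha => ?_⟩
    have : IsUnit (e a) := ha
    simpa using this
  let eA : D ≃ₐ[D] D' := AlgEquiv.ofBijective (Algebra.ofId D D') e.bijective
  haveI : Module.Flat D D' := Module.Flat.of_linearEquiv eA.symm.toLinearEquiv
  haveI : Algebra.FiniteType D D' := Algebra.FiniteType.of_surjective (Algebra.ofId D D') e.surjective
  haveI : Q'.LiesOver Q := ⟨hQ⟩
  haveI : IsNoetherianRing (EGA4.Cpl D) := Groth.Agent.Lib.Helper19.isNoetherianRing_adicCompletion _
  haveI : IsNoetherianRing (Q.Fiber (EGA4.Cpl D)) := isNoetherianRing_fiber Q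
  have hbc := geomRegular_fiber_bc D (EGA4.Cpl D) D' Q Q' (Or.inr inferInstance) h
  -- the completion isomorphism
  have h1 : (maximalIdeal D).map (algebraMap D D') = maximalIdeal D' := by
    apply le_antisymm (((IsLocalRing.local_hom_TFAE (algebraMap D D')).out 0 2).mp hlh)
    intro x hx
    have hx' : e.symm x ∈ maximalIdeal D := by
      rw [IsLocalRing.mem_maximalIdeal, mem_nonunits_iff] at hx ⊢
      intro hu
      exact hx (by simpa using hu.map e)
    have := Ideal.mem_map_of_mem (algebraMap D D') hx'
    rwa [show algebraMap D D' (e.symm x) = x from e.apply_symm_apply x] at this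
  have h2 : ∀ t : D', ∃ a : D, t - algebraMap D D' a ∈ maximalIdeal D' := fun t =>
    ⟨e.symm t, by
      rw [show algebraMap D D' (e.symm t) = t from e.apply_symm_apply t, sub_self]
      exact Ideal.zero_mem _⟩
  obtain ⟨ê, hê⟩ := exists_ringEquiv_adicCompletion_of_flat_of_map_maximalIdeal D D' h1 h2
  let ψ : D' ⊗[D] EGA4.Cpl D ≃ₐ[D'] EGA4.Cpl D' :=
    { ((Algebra.TensorProduct.congr eA.symm (AlgEquiv.refl (R := D)
        (A₁ := EGA4.Cpl D))).toRingEquiv.trans
        ((Algebra.TensorProduct.lid D (EGA4.Cpl D)).toRingEquiv.trans ê)) with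
      commutes' := fun d' => by
        show ê (Algebra.TensorProduct.lid D (EGA4.Cpl D)
          (Algebra.TensorProduct.congr eA.symm AlgEquiv.refl (algebraMap D' _ d'))) = _
        rw [Algebra.TensorProduct.algebraMap_apply, Algebra.TensorProduct.congr_apply,
          Algebra.TensorProduct.map_tmul]
        simp only [Algebra.algebraMap_self, RingHom.id_apply, AlgEquiv.coe_toAlgHom, map_one,
          Algebra.TensorProduct.lid_tmul, Algebra.smul_def, mul_one]
        rw [hê]
        congr 1
        exact eA.apply_symm_apply d' }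
  exact geomRegular_fiber_of_algEquiv ψ Q' hbc


section Quot

variable (R : Type u) [CommRing R] [IsNoetherianRing R] (p : Ideal R) [p.IsPrime]
  (q : Ideal R) [q.IsPrime]

/-- `(R/q)_P ≅ R_p / q R_p` for `P` lying over `p`. -/
theorem exists_ringEquiv_localization_quotient (P : Ideal (R ⧸ q)) [P.IsPrime] [P.LiesOver p] :
    Nonempty (Localization.AtPrime P ≃+*
      (Localization.AtPrime p ⧸ q.map (algebraMap R (Localization.AtPrime p)))) := by
  have hM : Algebra.algebraMapSubmonoid (R ⧸ q) p.primeCompl = P.primeCompl :=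
    Ideal.algebraMapSubmonoid_primeCompl_of_liesOver_surjective P p Ideal.Quotient.mk_surjective
  haveI h1 : IsLocalization (Algebra.algebraMapSubmonoid (R ⧸ q) p.primeCompl)
      (Localization.AtPrime p ⧸ q.map (algebraMap R (Localization.AtPrime p))) := inferInstance
  haveI h2 : IsLocalization P.primeCompl
      (Localization.AtPrime p ⧸ q.map (algebraMap R (Localization.AtPrime p))) := hM ▸ h1
  exact ⟨(IsLocalization.algEquiv P.primeCompl (Localization.AtPrime P)
    (Localization.AtPrime p ⧸ q.map (algebraMap R (Localization.AtPrime p)))).toRingEquiv⟩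

end Quot

/-- (⇒) of S9257. -/
theorem geomRegular_generic_formalFibre_of_isGRing (R : Type u) [CommRing R] [IsNoetherianRing R]
    (hR : CAlg.IsGRing R) (q : Ideal R) [q.IsPrime] (P : Ideal (R ⧸ q)) [P.IsPrime] :
    CAlg.IsRegularHom (Localization.AtPrime P) (EGA4.Cpl (Localization.AtPrime P)) := by
  haveI : P.LiesOver (P.under R) := ⟨rfl⟩
  obtain ⟨e⟩ := exists_ringEquiv_localization_quotient R (P.under R) q P
  haveI : IsNoetherianRing (Localization.AtPrime (P.under R)) :=
    IsLocalization.isNoetherianRing (P.under R).primeCompl _ inferInstance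
  haveI : Nontrivial (Localization.AtPrime (P.under R) ⧸
      q.map (algebraMap R (Localization.AtPrime (P.under R)))) := e.injective.nontrivial
  have h1 := Groth.Agent.S4737.result (Localization.AtPrime (P.under R)) (hR.2 (P.under R))
    (q.map (algebraMap R (Localization.AtPrime (P.under R))))
  exact Groth.Agent.Lib.Helper7.ExcLoc.isRegularHom_cpl_of_ringEquiv _ _ e h1


theorem geomRegular_fiber_congr {A B : Type u} [CommRing A] [CommRing B] [Algebra A B]
    (Q Q' : Ideal A) [Q.IsPrime] [Q'.IsPrime] (h : Q = Q')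
    (hK : CAlg.IsGeometricallyRegular Q.ResidueField (Q.Fiber B)) :
    CAlg.IsGeometricallyRegular Q'.ResidueField (Q'.Fiber B) := by
  subst h; exact hK

/-- (⇐) of S9257. -/
theorem isGRing_of_generic_formalFibres (R : Type u) [CommRing R] [IsNoetherianRing R]
    (H : ∀ (q : Ideal R) [q.IsPrime] (P : Ideal (R ⧸ q)) [P.IsPrime],
        CAlg.IsGeometricallyRegular (⊥ : Ideal (Localization.AtPrime P)).ResidueField
          (EGA4.formalFibre (Localization.AtPrime P) (⊥ : Ideal (Localization.AtPrime P)))) :
    CAlg.IsGRing R := by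
  refine ⟨inferInstance, fun p _ => ?_⟩
  haveI : IsNoetherianRing (Localization.AtPrime p) :=
    IsLocalization.isNoetherianRing p.primeCompl _ inferInstance
  haveI hNÂ : IsNoetherianRing (AdicCompletion (maximalIdeal (Localization.AtPrime p))
      (Localization.AtPrime p)) :=
    Groth.Agent.Lib.Helper19.isNoetherianRing_adicCompletion _
  refine ⟨inferInstance, fun Q _ => ⟨isNoetherianRing_fiber Q, ?_⟩⟩
  set q := Q.under R with hq
  have hqp : q ≤ p := by
    have hd := ((IsLocalization.isPrime_iff_isPrime_disjoint p.primeCompl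
      (Localization.AtPrime p) Q).mp inferInstance).2
    intro x hx
    by_contra hxp
    exact (Set.disjoint_left.mp hd) hxp hx
  have hQ : q.map (algebraMap R (Localization.AtPrime p)) = Q :=
    IsLocalization.map_comap p.primeCompl (Localization.AtPrime p) Q
  haveI hQm : (q.map (algebraMap R (Localization.AtPrime p))).IsPrime := hQ ▸ inferInstance
  haveI hP : (p.map (Ideal.Quotient.mk q)).IsPrime :=
    Ideal.map_isPrime_of_surjective Ideal.Quotient.mk_surjective (by rwa [Ideal.mk_ker])
  haveI : (p.map (Ideal.Quotient.mk q)).LiesOver p := ⟨by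
    rw [Ideal.under_def, Ideal.Quotient.algebraMap_eq,
      Ideal.comap_map_of_surjective _ Ideal.Quotient.mk_surjective, ← RingHom.ker_eq_comap_bot,
      Ideal.mk_ker, sup_eq_left.mpr hqp]⟩
  obtain ⟨e⟩ := exists_ringEquiv_localization_quotient R p q (p.map (Ideal.Quotient.mk q))
  haveI : Nontrivial (Localization.AtPrime p ⧸ q.map (algebraMap R (Localization.AtPrime p))) :=
    e.injective.nontrivial
  have hgen := H q (p.map (Ideal.Quotient.mk q))
  haveI : IsNoetherianRing (Localization.AtPrime (p.map (Ideal.Quotient.mk q))) :=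
    IsLocalization.isNoetherianRing (p.map (Ideal.Quotient.mk q)).primeCompl _ inferInstance
  have h' := geomRegular_formalFibre_of_ringEquiv _ _ e ⊥ ⊥
    (by rw [← RingHom.ker_eq_comap_bot]; exact ((RingHom.injective_iff_ker_eq_bot _).mp
      e.injective).symm) hgen
  obtain ⟨ψ⟩ := nonempty_algEquiv_tensor_adicCompletion_quotient (Localization.AtPrime p)
    (q.map (algebraMap R (Localization.AtPrime p)))
  have h'' := geomRegular_fiber_of_algEquiv ψ.symm ⊥ h'
  haveI : (⊥ : Ideal (Localization.AtPrime p ⧸ q.map (algebraMap R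
      (Localization.AtPrime p)))).LiesOver (q.map (algebraMap R (Localization.AtPrime p))) := ⟨by
    rw [Ideal.under_def, Ideal.Quotient.algebraMap_eq, ← RingHom.ker_eq_comap_bot, Ideal.mk_ker]⟩
  have h3 := geomRegular_fiber_of (Localization.AtPrime p) (EGA4.Cpl (Localization.AtPrime p))
    (Localization.AtPrime p ⧸ q.map (algebraMap R (Localization.AtPrime p)))
    (q.map (algebraMap R (Localization.AtPrime p))) ⊥ h''
  exact geomRegular_fiber_congr _ Q hQ h3

end Groth.Agent.Lib.Helper7.GenFF
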