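import Mathlib

/-!
# The fraction field of a localization of a domain is the fraction field of the domain (helper7)
-/

set_option autoImplicit false
set_option linter.style.haveILetI false
set_option linter.unusedSectionVars false

namespace Groth.Agent.Lib.Helper7.FracLoc

theorem isFractionRing_of_isLocalization (R C K : Type*) [CommRing R] [IsDomain R] [CommRing C]
    [IsDomain C] [Field K] [Algebra R C] [Algebra C K] [Algebra R K] [IsScalarTower R C K]
    (M : Submonoid R) [IsLocalization M C] [IsFractionRing C K] : IsFractionRing R K := by
  have hM : M ≤ nonZeroDivisors R := by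
    intro m hm
    rw [mem_nonZeroDivisors_iff_ne_zero]
    rintro rfl
    have := IsLocalization.map_units C (⟨0, hm⟩ : M)
    simp at this
  have hinjRC : Function.Injective (algebraMap R C) := IsLocalization.injective C hM
  have hinjCK : Function.Injective (algebraMap C K) := IsFractionRing.injective C K
  have hinj : Function.Injective (algebraMap R K) := by
    rw [IsScalarTower.algebraMap_eq R C K]
    exact hinjCK.comp hinjRC
  haveI : FaithfulSMul R K := (faithfulSMul_iff_algebraMap_injective R K).2 hinj
  apply IsFractionRing.of_field
  intro z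
  obtain ⟨c, s, hs, rfl⟩ := IsFractionRing.div_surjective (A := C) z
  obtain ⟨⟨a, m⟩, ha⟩ := IsLocalization.surj M c
  obtain ⟨⟨a', m'⟩, ha'⟩ := IsLocalization.surj M s
  refine ⟨a * m', a' * m, ?_⟩
  have hmu : algebraMap R K m ≠ 0 := by
    rw [Ne, map_eq_zero_iff _ hinj]
    exact nonZeroDivisors.ne_zero (hM m.2)
  have hmu' : algebraMap R K m' ≠ 0 := by
    rw [Ne, map_eq_zero_iff _ hinj]
    exact nonZeroDivisors.ne_zero (hM m'.2)
  have hs0 : algebraMap C K s ≠ 0 := by
    rw [Ne, map_eq_zero_iff _ hinjCK]
    exact nonZeroDivisors.ne_zero hs
  have h1 : algebraMap C K c * algebraMap R K m = algebraMap R K a := by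
    have := congrArg (algebraMap C K) ha
    simpa [← IsScalarTower.algebraMap_apply] using this
  have h2 : algebraMap C K s * algebraMap R K m' = algebraMap R K a' := by
    have := congrArg (algebraMap C K) ha'
    simpa [← IsScalarTower.algebraMap_apply] using this
  rw [map_mul, map_mul, ← h1, ← h2]
  field_simp

end Groth.Agent.Lib.Helper7.FracLoc
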