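import Mathlib
import Groth.Prelude.Def_Found
import Groth.Prelude.Def_EGA4b
import Groth.Agent.Lib.Helper19ComplDim
import Groth.Agent.Lib.Helper19GRLoc
import Groth.Agent.Lib.Helper6SepBC

/-!
# Generic formal fibre of a localization of a regular domain: reduction to finite extensions
(helper7)
-/

set_option autoImplicit false
set_option linter.style.haveILetI false
set_option linter.unusedSectionVars false
universe u

namespace Groth.Agent.Lib.Helper7.PsCoreGen

open TensorProduct IsLocalRing

/-- the base case: `K ⊗[A₀] Ĉ` is regular -/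
theorem isRegularRing_base (A₀ : Type u) [CommRing A₀] [IsDomain A₀] [IsRegularRing A₀]
    (𝔭 : Ideal A₀) [𝔭.IsPrime] :
    IsRegularRing ((⊥ : Ideal (Localization.AtPrime 𝔭)).ResidueField ⊗[A₀]
      EGA4.Cpl (Localization.AtPrime 𝔭)) := by
  haveI : IsNoetherianRing (Localization.AtPrime 𝔭) :=
    IsLocalization.isNoetherianRing 𝔭.primeCompl _ inferInstance
  haveI : IsRegularLocalRing (Localization.AtPrime 𝔭) :=
    IsRegularRing.isRegularLocalRing_localization 𝔭
  haveI : IsRegularLocalRing (EGA4.Cpl (Localization.AtPrime 𝔭)) :=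
    (Groth.Agent.Lib.Helper19.isRegularLocalRing_adicCompletion_iff (Localization.AtPrime 𝔭)).1
      inferInstance
  haveI : IsRegularRing (EGA4.Cpl (Localization.AtPrime 𝔭)) :=
    Groth.Agent.Lib.Helper6.SepBC.isRegularRing_of_isRegularLocalRing _
  haveI h1 : IsRegularRing (EGA4.Cpl (Localization.AtPrime 𝔭) ⊗[Localization.AtPrime 𝔭]
      (⊥ : Ideal (Localization.AtPrime 𝔭)).ResidueField) :=
    Groth.Agent.Lib.Helper19.GR.isRegularRing_of_isLocalization
      (R := EGA4.Cpl (Localization.AtPrime 𝔭))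
      (Algebra.algebraMapSubmonoid (EGA4.Cpl (Localization.AtPrime 𝔭))
        (nonZeroDivisors (Localization.AtPrime 𝔭)))
  haveI h2 : IsRegularRing ((⊥ : Ideal (Localization.AtPrime 𝔭)).ResidueField
      ⊗[Localization.AtPrime 𝔭] EGA4.Cpl (Localization.AtPrime 𝔭)) :=
    IsRegularRing.of_ringEquiv (Algebra.TensorProduct.comm _ _ _).toRingEquiv
  exact IsRegularRing.of_ringEquiv
    (IsLocalization.algebraTensorEquiv 𝔭.primeCompl (Localization.AtPrime 𝔭)
      (⊥ : Ideal (Localization.AtPrime 𝔭)).ResidueField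
      (EGA4.Cpl (Localization.AtPrime 𝔭))).toRingEquiv

/-- reduction of geometric regularity of the generic formal fibre to finite extensions of the
fraction field, tensored over `A₀` -/
theorem isGeometricallyRegular_generic_formalFibre (A₀ : Type u) [CommRing A₀] [IsDomain A₀]
    (𝔭 : Ideal A₀) [𝔭.IsPrime]
    (hfin : ∀ (L : Type u) [Field L] [Algebra (⊥ : Ideal (Localization.AtPrime 𝔭)).ResidueField L]
      [Algebra A₀ L] [IsScalarTower A₀ (⊥ : Ideal (Localization.AtPrime 𝔭)).ResidueField L]
      [Module.Finite (⊥ : Ideal (Localization.AtPrime 𝔭)).ResidueField L],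
      IsRegularRing (L ⊗[A₀] EGA4.Cpl (Localization.AtPrime 𝔭))) :
    CAlg.IsGeometricallyRegular (⊥ : Ideal (Localization.AtPrime 𝔭)).ResidueField
      (EGA4.formalFibre (Localization.AtPrime 𝔭) (⊥ : Ideal (Localization.AtPrime 𝔭))) := by
  intro k' _ _ hfink
  letI : Algebra (Localization.AtPrime 𝔭) k' :=
    ((algebraMap (⊥ : Ideal (Localization.AtPrime 𝔭)).ResidueField k').comp
      (algebraMap (Localization.AtPrime 𝔭) _)).toAlgebra
  haveI : IsScalarTower (Localization.AtPrime 𝔭)
      (⊥ : Ideal (Localization.AtPrime 𝔭)).ResidueField k' :=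
    IsScalarTower.of_algebraMap_eq (fun _ => rfl)
  letI : Algebra A₀ k' :=
    ((algebraMap (Localization.AtPrime 𝔭) k').comp (algebraMap A₀ _)).toAlgebra
  haveI : IsScalarTower A₀ (Localization.AtPrime 𝔭) k' :=
    IsScalarTower.of_algebraMap_eq (fun _ => rfl)
  haveI : IsScalarTower A₀ (⊥ : Ideal (Localization.AtPrime 𝔭)).ResidueField k' :=
    IsScalarTower.of_algebraMap_eq (fun r => by
      rw [IsScalarTower.algebraMap_apply A₀ (Localization.AtPrime 𝔭) k',
        IsScalarTower.algebraMap_apply (Localization.AtPrime 𝔭)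
          (⊥ : Ideal (Localization.AtPrime 𝔭)).ResidueField k',
        ← IsScalarTower.algebraMap_apply A₀ (Localization.AtPrime 𝔭)
          (⊥ : Ideal (Localization.AtPrime 𝔭)).ResidueField])
  have h1 : IsRegularRing (k' ⊗[A₀] EGA4.Cpl (Localization.AtPrime 𝔭)) := hfin k'
  have h2 : IsRegularRing (k' ⊗[Localization.AtPrime 𝔭] EGA4.Cpl (Localization.AtPrime 𝔭)) :=
    IsRegularRing.of_ringEquiv
      (IsLocalization.algebraTensorEquiv 𝔭.primeCompl (Localization.AtPrime 𝔭) k'
        (EGA4.Cpl (Localization.AtPrime 𝔭))).symm.toRingEquiv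
  exact IsRegularRing.of_ringEquiv
    (Algebra.TensorProduct.cancelBaseChange (Localization.AtPrime 𝔭)
      (⊥ : Ideal (Localization.AtPrime 𝔭)).ResidueField k' k'
      (EGA4.Cpl (Localization.AtPrime 𝔭))).symm.toRingEquiv

end Groth.Agent.Lib.Helper7.PsCoreGen
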