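import Mathlib

/-!
# Induction along finite purely inseparable extensions (helper7)

A property of finite field extensions of `K₀` (characteristic `p`) which is invariant under
isomorphism and passes from `E` to `E(a^{1/p})` passes from `E` to every finite purely inseparable
extension of `E`.
-/

set_option autoImplicit false
set_option linter.style.haveILetI false
set_option linter.unusedSectionVars false
universe u

namespace Groth.Agent.Lib.Helper7.PInsepInd

open Polynomial IntermediateField

theorem induction_purelyInseparable (p : ℕ) [hp : Fact p.Prime] (K₀ : Type u) [Field K₀]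
    [CharP K₀ p]
    (P : ∀ (E : Type u) [Field E] [Algebra K₀ E], Prop)
    (hiso : ∀ (E E' : Type u) [Field E] [Field E'] [Algebra K₀ E] [Algebra K₀ E'],
      (E ≃ₐ[K₀] E') → P E → P E')
    (hstep : ∀ (E : Type u) [Field E] [Algebra K₀ E] [Module.Finite K₀ E] (a : E),
      (∀ y : E, y ^ p ≠ a) →
      ∀ (E' : Type u) [Field E'] [Algebra K₀ E'] [Algebra E E'] [IsScalarTower K₀ E E'],
        (AdjoinRoot (X ^ p - C a : E[X]) ≃ₐ[E] E') → P E → P E') :
    ∀ (d : ℕ) (E L : Type u) [Field E] [Field L] [Algebra K₀ E] [Algebra K₀ L] [Algebra E L]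
      [IsScalarTower K₀ E L] [Module.Finite K₀ E] [Module.Finite E L] [IsPurelyInseparable E L],
      Module.finrank E L = d → P E → P L := by
  intro d
  induction d using Nat.strong_induction_on with
  | _ d ih =>
  intro E L _ _ _ _ _ _ _ _ _ hd hPE
  haveI : CharP E p := charP_of_injective_algebraMap (algebraMap K₀ E).injective p
  haveI : CharP L p := charP_of_injective_algebraMap (algebraMap E L).injective p
  haveI : ExpChar E p := ExpChar.prime hp.out
  by_cases hsurj : Function.Surjective (algebraMap E L)
  · -- `E ≃ L`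
    let e : E ≃ₐ[K₀] L := AlgEquiv.ofBijective (IsScalarTower.toAlgHom K₀ E L)
      ⟨(algebraMap E L).injective, hsurj⟩
    exact hiso E L e hPE
  · -- pick `x ∉ E`
    have hx : ∃ x : L, x ∉ (algebraMap E L).range := by
      by_contra hcon
      push Not at hcon
      exact hsurj fun x => hcon x
    obtain ⟨x, hx⟩ := hx
    have hpow := IsPurelyInseparable.pow_mem E p x
    classical
    have hn0 : Nat.find hpow ≠ 0 := by
      intro h0
      have := Nat.find_spec hpow
      rw [h0, pow_zero, pow_one] at this
      exact hx this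
    obtain ⟨m, hm⟩ := Nat.exists_eq_succ_of_ne_zero hn0
    have hc1 : x ^ p ^ m ∉ (algebraMap E L).range := by
      have := Nat.find_min hpow (m := m) (by omega)
      exact this
    have hc2 : (x ^ p ^ m) ^ p ∈ (algebraMap E L).range := by
      have := Nat.find_spec hpow
      rw [hm, pow_succ, pow_mul] at this
      exact this
    obtain ⟨a, ha⟩ := hc2
    have hane : ∀ y : E, y ^ p ≠ a := by
      intro y hy
      apply hc1
      refine ⟨y, ?_⟩
      apply frobenius_inj L p
      rw [frobenius_def, frobenius_def, ← map_pow, hy, ha]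
    have hirr : Irreducible (X ^ p - C a : E[X]) := X_pow_sub_C_irreducible_of_prime hp.out hane
    have hmonic : (X ^ p - C a : E[X]).Monic := monic_X_pow_sub_C a hp.out.ne_zero
    have hroot : aeval (x ^ p ^ m) (X ^ p - C a : E[X]) = 0 := by
      simp [ha]
    have hmin : (X ^ p - C a : E[X]) = minpoly E (x ^ p ^ m) :=
      minpoly.eq_of_irreducible_of_monic hirr hroot hmonic
    have hint : IsIntegral E (x ^ p ^ m) := Algebra.IsIntegral.isIntegral _
    have e : AdjoinRoot (X ^ p - C a : E[X]) ≃ₐ[E] E⟮x ^ p ^ m⟯ :=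
      (AdjoinRoot.algEquivOfEq E _ _ hmin).trans (adjoinRootEquivAdjoin E hint)
    have hP' : P E⟮x ^ p ^ m⟯ := hstep E a hane E⟮x ^ p ^ m⟯ e hPE
    haveI : Module.Finite K₀ E⟮x ^ p ^ m⟯ := Module.Finite.trans E _
    haveI : IsPurelyInseparable E⟮x ^ p ^ m⟯ L := IsPurelyInseparable.tower_top E _ L
    haveI : IsScalarTower K₀ E⟮x ^ p ^ m⟯ L := IsScalarTower.of_algebraMap_eq (fun r => rfl)
    have hfr : Module.finrank E E⟮x ^ p ^ m⟯ = p := by
      rw [IntermediateField.adjoin.finrank hint, ← hmin, natDegree_X_pow_sub_C]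
    have hmul := Module.finrank_mul_finrank E E⟮x ^ p ^ m⟯ L
    have hpos : 0 < Module.finrank E⟮x ^ p ^ m⟯ L := Module.finrank_pos
    have hlt : Module.finrank E⟮x ^ p ^ m⟯ L < d := by
      rw [← hd, ← hmul, hfr]
      have := hp.out.two_le
      nlinarith
    exact ih _ hlt E⟮x ^ p ^ m⟯ L rfl hP'

end Groth.Agent.Lib.Helper7.PInsepInd
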