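import Mathlib

/-!
# Extending a derivation to the adic completion (helper19)

For an `R`-algebra `A`, an ideal `I` of `A` and an `R`-derivation `D : A → A`, we have
`D (I ^ (n+1)) ⊆ I ^ n`, so `D` is `I`-adically continuous and extends (uniquely) to an
`R`-derivation of the `I`-adic completion of `A`.
-/

set_option autoImplicit false
universe u v

namespace Groth.Agent.Lib.Helper19

open AdicCompletion

section
variable {R : Type u} [CommRing R] {A : Type v} [CommRing A] [Algebra R A] (I : Ideal A)
  (D : Derivation R A A)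

theorem derivation_mem_pow_of_mem_pow_succ (n : ℕ) {x : A} (hx : x ∈ I ^ (n + 1)) :
    D x ∈ I ^ n := by
  induction n generalizing x with
  | zero => simp
  | succ n ih =>
    rw [pow_succ] at hx
    refine Submodule.mul_induction_on hx ?_ ?_
    · intro a ha b hb
      rw [D.leibniz]
      refine Ideal.add_mem _ ?_ ?_
      · rw [smul_eq_mul]; exact Ideal.mul_mem_right _ _ ha
      · rw [smul_eq_mul, pow_succ']; exact Ideal.mul_mem_mul hb (ih ha)
    · intro a b ha hb
      rw [map_add]; exact Ideal.add_mem _ ha hb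

theorem derivation_mk_eq_of_mk_eq (n : ℕ) {a b : A}
    (h : Ideal.Quotient.mk (I ^ (n + 1)) a = Ideal.Quotient.mk (I ^ (n + 1)) b) :
    Ideal.Quotient.mk (I ^ n) (D a) = Ideal.Quotient.mk (I ^ n) (D b) := by
  rw [Ideal.Quotient.eq] at h ⊢
  rw [← map_sub]
  exact derivation_mem_pow_of_mem_pow_succ I D n h

/-- The Cauchy sequence `n ↦ D (f (n+1))`. -/
noncomputable def derivCauchy (f : AdicCauchySequence I A) : AdicCauchySequence I A :=
  AdicCauchySequence.mk I A (fun n => D (f (n + 1))) (by
    intro n
    have h := f.2 (Nat.le_succ (n + 1))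
    rw [SModEq.sub_mem] at h ⊢
    rw [← map_sub]
    have h2 : (f (n + 1) - f (n + 1 + 1)) ∈ I ^ (n + 1) := by
      simpa using h
    have := derivation_mem_pow_of_mem_pow_succ I D n h2
    simpa using this)

/-- The underlying function of the extension of `D` to the completion. -/
noncomputable def derivComplFun (x : AdicCompletion I A) : AdicCompletion I A :=
  AdicCompletion.mk I A
    (derivCauchy I D (Function.surjInv (AdicCompletion.mk_surjective I A) x))

theorem evalₐ_derivComplFun (n : ℕ) (x : AdicCompletion I A) (a : A)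
    (h : evalₐ I (n + 1) x = Ideal.Quotient.mk (I ^ (n + 1)) a) :
    evalₐ I n (derivComplFun I D x) = Ideal.Quotient.mk (I ^ n) (D a) := by
  unfold derivComplFun
  set f := Function.surjInv (AdicCompletion.mk_surjective I A) x with hf
  have hfx : AdicCompletion.mk I A f = x := Function.surjInv_eq _ x
  rw [evalₐ_mk]
  have h1 : evalₐ I (n + 1) x = Ideal.Quotient.mk (I ^ (n + 1)) (f (n + 1)) := by
    rw [← hfx, evalₐ_mk]
  rw [h1] at h
  exact derivation_mk_eq_of_mk_eq I D n h

theorem exists_rep (n : ℕ) (x : AdicCompletion I A) :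
    ∃ a : A, evalₐ I n x = Ideal.Quotient.mk (I ^ n) a := by
  obtain ⟨a, ha⟩ := Ideal.Quotient.mk_surjective (evalₐ I n x)
  exact ⟨a, ha.symm⟩

theorem evalₐ_succ_eq (n : ℕ) (x : AdicCompletion I A) (a : A)
    (h : evalₐ I (n + 1) x = Ideal.Quotient.mk (I ^ (n + 1)) a) :
    evalₐ I n x = Ideal.Quotient.mk (I ^ n) a := by
  obtain ⟨f, rfl⟩ := AdicCompletion.mk_surjective I A x
  rw [evalₐ_mk] at h ⊢
  rw [Ideal.Quotient.eq] at h ⊢
  have h1 : f n - f (n + 1) ∈ I ^ n := by
    have := f.2 (Nat.le_succ n)
    rw [SModEq.sub_mem] at this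
    simpa using this
  have h2 : f (n + 1) - a ∈ I ^ n := Ideal.pow_le_pow_right (Nat.le_succ n) h
  have : f n - a = (f n - f (n + 1)) + (f (n + 1) - a) := by ring
  rw [this]
  exact Ideal.add_mem _ h1 h2

theorem derivComplFun_add (x y : AdicCompletion I A) :
    derivComplFun I D (x + y) = derivComplFun I D x + derivComplFun I D y := by
  refine ext_evalₐ fun n => ?_
  obtain ⟨a, ha⟩ := exists_rep I (n + 1) x
  obtain ⟨b, hb⟩ := exists_rep I (n + 1) y
  have hab : evalₐ I (n + 1) (x + y) = Ideal.Quotient.mk (I ^ (n + 1)) (a + b) := by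
    rw [map_add, ha, hb, map_add]
  have e1 := evalₐ_derivComplFun I D n _ _ hab
  have e2 := evalₐ_derivComplFun I D n _ _ ha
  have e3 := evalₐ_derivComplFun I D n _ _ hb
  rw [e1, map_add (evalₐ I n), e2, e3, map_add D, map_add]

theorem derivComplFun_smul (r : R) (x : AdicCompletion I A) :
    derivComplFun I D (r • x) = r • derivComplFun I D x := by
  refine ext_evalₐ fun n => ?_
  obtain ⟨a, ha⟩ := exists_rep I (n + 1) x
  have h1 : r • x = (algebraMap R A r) • x := (algebraMap_smul A r x).symm
  have h2 : r • derivComplFun I D x = (algebraMap R A r) • derivComplFun I D x :=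
    (algebraMap_smul A r _).symm
  have hra : evalₐ I (n + 1) (r • x) =
      Ideal.Quotient.mk (I ^ (n + 1)) (algebraMap R A r * a) := by
    rw [h1, map_smul, ha, map_mul, Algebra.smul_def, Ideal.Quotient.algebraMap_eq]
  have e1 := evalₐ_derivComplFun I D n _ _ hra
  have e2 := evalₐ_derivComplFun I D n _ _ ha
  rw [e1, h2, map_smul (evalₐ I n), e2,
    D.leibniz, D.map_algebraMap, smul_zero, add_zero, smul_eq_mul, map_mul, Algebra.smul_def,
    Ideal.Quotient.algebraMap_eq]

theorem derivComplFun_mul (x y : AdicCompletion I A) :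
    derivComplFun I D (x * y) = x • derivComplFun I D y + y • derivComplFun I D x := by
  refine ext_evalₐ fun n => ?_
  obtain ⟨a, ha⟩ := exists_rep I (n + 1) x
  obtain ⟨b, hb⟩ := exists_rep I (n + 1) y
  have ha' := evalₐ_succ_eq I n x a ha
  have hb' := evalₐ_succ_eq I n y b hb
  have hab : evalₐ I (n + 1) (x * y) = Ideal.Quotient.mk (I ^ (n + 1)) (a * b) := by
    rw [map_mul, ha, hb, map_mul]
  have e1 := evalₐ_derivComplFun I D n _ _ hab
  have e2 := evalₐ_derivComplFun I D n _ _ ha
  have e3 := evalₐ_derivComplFun I D n _ _ hb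
  rw [e1, map_add (evalₐ I n), smul_eq_mul, smul_eq_mul, map_mul (evalₐ I n),
    map_mul (evalₐ I n), e2, e3, ha', hb',
    D.leibniz, smul_eq_mul, smul_eq_mul, map_add, map_mul, map_mul]

theorem derivComplFun_algebraMap (a : A) :
    derivComplFun I D (algebraMap A (AdicCompletion I A) a) =
      algebraMap A (AdicCompletion I A) (D a) := by
  refine ext_evalₐ fun n => ?_
  have h : evalₐ I (n + 1) (algebraMap A (AdicCompletion I A) a) =
      Ideal.Quotient.mk (I ^ (n + 1)) a := by
    rw [AlgHom.commutes, Ideal.Quotient.algebraMap_eq]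
  rw [evalₐ_derivComplFun I D n _ _ h, AlgHom.commutes, Ideal.Quotient.algebraMap_eq]

/-- A derivation `D : A → A` extends to the `I`-adic completion of `A`. -/
theorem exists_derivation_adicCompletion :
    ∃ Dhat : Derivation R (AdicCompletion I A) (AdicCompletion I A),
      ∀ a : A, Dhat (algebraMap A (AdicCompletion I A) a) =
        algebraMap A (AdicCompletion I A) (D a) := by
  refine ⟨Derivation.mk'
    { toFun := derivComplFun I D
      map_add' := derivComplFun_add I D
      map_smul' := fun r x => derivComplFun_smul I D r x }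
    (fun x y => derivComplFun_mul I D x y), fun a => ?_⟩
  exact derivComplFun_algebraMap I D a

end

end Groth.Agent.Lib.Helper19
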