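import Mathlib

/-!
# Linear independence over a directed intersection of subfields (helper7)

If `(F a)` is a directed family of subfields of `K` with intersection `F∞` and a finite family of
vectors of a `K`-vector space is linearly independent over `F∞`, then it is linearly independent
over some `F a`.  Consequently `⋂ₐ span_{F a} w = span_{F∞} w` for finite families `w`.
-/

set_option autoImplicit false
set_option linter.style.haveILetI false
universe u v w

namespace Groth.Agent.Lib.Helper7.LinDisj

variable {K : Type u} [Field K] {W : Type v} [AddCommGroup W] [Module K W]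

/-- concrete form of linear independence over a subfield -/
def LI (F : Subfield K) {r : ℕ} (v : Fin r → W) : Prop :=
  ∀ g : Fin r → K, (∀ i, g i ∈ F) → ∑ i, g i • v i = 0 → ∀ i, g i = 0

theorem linearIndependent_iff_LI (F : Subfield K) {r : ℕ} (v : Fin r → W) :
    LinearIndependent F v ↔ LI F v := by
  rw [Fintype.linearIndependent_iff]
  constructor
  · intro h g hg hsum i
    have := h (fun i => ⟨g i, hg i⟩) (by simpa [Subfield.smul_def] using hsum) i
    simpa using congrArg Subtype.val this
  · intro h g hsum i
    have := h (fun i => (g i : K)) (fun i => (g i).2) (by simpa [Subfield.smul_def] using hsum) i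
    exact Subtype.ext this

theorem LI_mono {F F' : Subfield K} (h : F ≤ F') {r : ℕ} {v : Fin r → W} (hv : LI F' v) :
    LI F v := fun g hg hsum => hv g (fun i => h (hg i)) hsum

theorem LI_castSucc {F : Subfield K} {r : ℕ} {v : Fin (r + 1) → W} (hv : LI F v) :
    LI F (fun i : Fin r => v i.castSucc) := by
  intro g hg hsum i
  have := hv (Fin.snoc g 0) (fun j => by
    refine Fin.lastCases ?_ (fun j => ?_) j
    · simp
    · simpa using hg j) (by
    rw [Fin.sum_univ_castSucc]
    simpa using hsum) i.castSucc
  simpa using this

variable {ι : Type w} [Nonempty ι] (F : ι → Subfield K) (hdir : ∀ a b, ∃ c, F c ≤ F a ⊓ F b)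
include hdir

theorem exists_LI : ∀ (r : ℕ) (v : Fin r → W), LI (⨅ a, F a) v → ∃ a, LI (F a) v := by
  intro r
  induction r with
  | zero => exact fun v _ => ⟨Classical.arbitrary ι, fun g _ _ i => i.elim0⟩
  | succ r ih =>
    intro v hv
    obtain ⟨a1, ha1⟩ := ih _ (LI_castSucc hv)
    by_contra hcon
    push_neg at hcon
    -- for each `a` below `a1`, the last vector is an `F a`-combination of the first `r`
    have key : ∀ a, F a ≤ F a1 → ∃ c : Fin r → K, (∀ i, c i ∈ F a) ∧
        v (Fin.last r) = ∑ i, c i • v i.castSucc := by
      intro a ha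
      have hna := hcon a
      unfold LI at hna
      push_neg at hna
      obtain ⟨g, hg, hsum, i0, hi0⟩ := hna
      have hlast : g (Fin.last r) ≠ 0 := by
        intro h0
        have h1 := LI_mono ha ha1 (fun i => g i.castSucc) (fun i => hg _) (by
          rw [Fin.sum_univ_castSucc, h0, zero_smul, add_zero] at hsum
          exact hsum)
        refine Fin.lastCases ?_ (fun j => ?_) i0 |> fun h => hi0 h
        · exact h0
        · exact h1 j
      refine ⟨fun i => -(g (Fin.last r))⁻¹ * g i.castSucc, fun i => ?_, ?_⟩
      · exact mul_mem (neg_mem (inv_mem (hg _))) (hg _)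
      · rw [Fin.sum_univ_castSucc] at hsum
        have h2 : g (Fin.last r) • v (Fin.last r) = -∑ i : Fin r, g i.castSucc • v i.castSucc := by
          rw [eq_neg_iff_add_eq_zero, add_comm]; exact hsum
        have h3 : v (Fin.last r) = (g (Fin.last r))⁻¹ • (g (Fin.last r) • v (Fin.last r)) := by
          rw [smul_smul, inv_mul_cancel₀ hlast, one_smul]
        rw [h3, h2, smul_neg, Finset.smul_sum, ← Finset.sum_neg_distrib]
        refine Finset.sum_congr rfl fun i _ => ?_
        simp only [smul_smul, neg_mul, neg_smul]
    obtain ⟨c, hc, hvc⟩ := key a1 le_rfl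
    -- the coefficients lie in every `F b`
    have hcall : ∀ b i, c i ∈ F b := by
      intro b i
      obtain ⟨a, ha⟩ := hdir b a1
      obtain ⟨c', hc', hvc'⟩ := key a (ha.trans inf_le_right)
      have hsub : ∑ i, (c i - c' i) • v i.castSucc = 0 := by
        simp only [sub_smul, Finset.sum_sub_distrib]
        rw [← hvc, ← hvc', sub_self]
      have := ha1 (fun i => c i - c' i)
        (fun i => sub_mem (hc i) ((ha.trans inf_le_right) (hc' i))) hsub i
      have hcc : c i = c' i := sub_eq_zero.1 this
      rw [hcc]
      exact (ha.trans inf_le_left) (hc' i)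
    -- contradiction with independence over the intersection
    have hfin := hv (Fin.snoc (fun i => c i) (-1)) (fun j => by
      refine Fin.lastCases ?_ (fun j => ?_) j
      · simp only [Fin.snoc_last]; exact neg_mem (one_mem _)
      · simp only [Fin.snoc_castSucc]
        exact Subfield.mem_iInf.2 fun b => hcall b j) (by
      rw [Fin.sum_univ_castSucc]
      simp only [Fin.snoc_castSucc, Fin.snoc_last, neg_smul, one_smul]
      rw [← hvc, add_neg_cancel]) (Fin.last r)
    simp at hfin

/-- linear independence over the intersection of a directed family of subfields descends to a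
member of the family -/
theorem exists_linearIndependent_of_iInf {ι' : Type*} [Finite ι'] (v : ι' → W)
    (hv : LinearIndependent (⨅ a, F a : Subfield K) v) : ∃ a, LinearIndependent (F a) v := by
  obtain ⟨r, ⟨e⟩⟩ := Finite.exists_equiv_fin ι'
  have h1 : LinearIndependent (⨅ a, F a : Subfield K) (v ∘ e.symm) :=
    (linearIndependent_equiv e.symm).2 hv
  obtain ⟨a, ha⟩ := exists_LI F hdir r _ ((linearIndependent_iff_LI _ _).1 h1)
  exact ⟨a, (linearIndependent_equiv e.symm).1 ((linearIndependent_iff_LI _ _).2 ha)⟩

/-- `⋂ₐ span_{F a} s = span_{F∞} s` for finite `s` -/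
theorem mem_span_iInf_of_forall_mem_span (s : Set W) (hs : s.Finite) (f : W)
    (hf : ∀ a, f ∈ Submodule.span (F a) s) : f ∈ Submodule.span (⨅ a, F a : Subfield K) s := by
  classical
  obtain ⟨b, hbs, hspan, hli⟩ := _root_.exists_linearIndependent (⨅ a, F a : Subfield K) s
  have hbfin : b.Finite := hs.subset hbs
  rw [← hspan]
  by_contra hfb
  have hli' : LinearIndepOn (⨅ a, F a : Subfield K) id b := hli
  have hins : LinearIndependent (⨅ a, F a : Subfield K) (fun x : (insert f b : Set W) => (x : W)) :=
    (hli'.id_insert hfb : LinearIndepOn (⨅ a, F a : Subfield K) id (insert f b))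
  haveI : Finite (insert f b : Set W) := (hbfin.insert f).to_subtype
  obtain ⟨a, ha⟩ := exists_linearIndependent_of_iInf F hdir _ hins
  have hfa : f ∈ Submodule.span (F a) b := by
    have h1 : s ⊆ Submodule.span (F a) b := by
      intro x hx
      have h2 : x ∈ Submodule.span (⨅ a, F a : Subfield K) b := by
        rw [hspan]; exact Submodule.subset_span hx
      -- enlarge scalars
      refine Submodule.span_induction (p := fun y _ => y ∈ Submodule.span (F a) b) ?_ ?_ ?_ ?_ h2
      · intro y hy; exact Submodule.subset_span hy
      · exact zero_mem _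
      · intro y z _ _ hy hz; exact add_mem hy hz
      · intro c y _ hy
        have : c • y = (⟨(c : K), (iInf_le F a) c.2⟩ : F a) • y := rfl
        rw [this]
        exact Submodule.smul_mem _ _ hy
    exact (Submodule.span_le.2 h1) (hf a)
  have hnot : f ∉ Submodule.span (F a) b := by
    by_cases hfb' : f ∈ b
    · exact absurd (Submodule.subset_span hfb') hfb
    · have ha' : LinearIndepOn (F a) id (insert f b) := ha
      exact ((linearIndepOn_id_insert hfb').1 ha').2
  exact hnot hfa

end Groth.Agent.Lib.Helper7.LinDisj
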