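import Mathlib
import Groth.Agent.Lib.Helper7PField

/-!
# The cofinite family of subfields `k ⊇ k_S ⊇ k^p` attached to a `p`-basis (helper7)

For a field `k` of characteristic `p` there is a family `F S` of subfields of `k`, indexed by the
finite subsets `S` of a type `I`, antitone in `S`, containing `k^p`, with intersection `k^p`, and
such that `k` is a finite `F S`-module for every `S`.
-/

set_option autoImplicit false
set_option linter.style.haveILetI false
universe u

namespace Groth.Agent.Lib.Helper7.PFamily

open KaehlerDifferential Groth.Agent.Lib.Helper7.PPow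

variable (k : Type u) [Field k] (p : ℕ) [Fact p.Prime] [CharP k p]

/-- the subfield `k^p` -/
abbrev kp : Subfield k := (frobenius k p).fieldRange

theorem pow_mem_kp (y : k) : y ^ p ∈ kp k p := ⟨y, rfl⟩

theorem exists_family : ∃ (I : Type u) (F : Finset I → Subfield k),
    (∀ S, kp k p ≤ F S) ∧ (∀ S S', S ⊆ S' → F S' ≤ F S) ∧ (⨅ S, F S = kp k p) ∧
      (∀ S, Module.Finite (F S) k) := by
  classical
  set E : Subfield k := kp k p with hE_def
  have hE : ∀ y : k, y ^ p ∈ Set.range (algebraMap E k) := fun y => ⟨⟨y ^ p, pow_mem_kp k p y⟩, rfl⟩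
  obtain ⟨T, -, hT, hgen⟩ := exists_pfreeSet_adjoin_eq_top (E := E) p hE (pfreeSet_empty p)
  have hd : ∀ t : T, ∃ d : Derivation E k k, d t = 1 ∧ ∀ t' ∈ T, t' ≠ (t : k) → d t' = 0 :=
    fun t => exists_derivation_of_pfreeSet p hE hT hgen t.2
  choose d hd1 hd0 using hd
  -- the subfields
  let F : Finset T → Subfield k := fun S =>
    { carrier := {c | ∀ t ∈ S, d t c = 0}
      mul_mem' := fun {a b} ha hb t ht => by
        rw [Derivation.leibniz, ha t ht, hb t ht, smul_zero, smul_zero, add_zero]
      one_mem' := fun t _ => Derivation.map_one_eq_zero _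
      add_mem' := fun {a b} ha hb t ht => by rw [map_add, ha t ht, hb t ht, add_zero]
      zero_mem' := fun t _ => map_zero _
      neg_mem' := fun {a} ha t ht => by rw [map_neg, ha t ht, neg_zero]
      inv_mem' := fun a ha t ht => by
        by_cases h0 : a = 0
        · rw [h0, inv_zero, map_zero]
        · have h1 : d t (a * a⁻¹) = 0 := by
            rw [mul_inv_cancel₀ h0]; exact Derivation.map_one_eq_zero _
          rw [Derivation.leibniz, ha t ht, smul_zero, add_zero, smul_eq_mul] at h1
          exact (mul_eq_zero.1 h1).resolve_left h0 }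
  have hFmem : ∀ S c, c ∈ F S ↔ ∀ t ∈ S, d t c = 0 := fun _ _ => Iff.rfl
  have hEF : ∀ S, E ≤ F S := by
    intro S c hc t _
    have : c = algebraMap E k ⟨c, hc⟩ := rfl
    rw [this, Derivation.map_algebraMap]
  refine ⟨T, F, hEF, ?_, ?_, ?_⟩
  · intro S S' hSS' c hc t ht
    exact hc t (hSS' ht)
  · apply le_antisymm _ (le_iInf hEF)
    intro c hc
    rw [Subfield.mem_iInf] at hc
    have hdc : ∀ t : T, d t c = 0 := fun t => hc {t} t (Finset.mem_singleton_self t)
    -- `D c` is a combination of the `D t`
    have hspan : D E k c ∈ Submodule.span k (D E k '' T) :=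
      D_mem_span_of_mem_adjoin (k := E) (E := E) (fun e => Derivation.map_algebraMap _ e)
        (hgen ▸ Algebra.mem_top)
    have hD0 : D E k c = 0 := by
      rw [Submodule.mem_span_image_iff_exists_fun] at hspan
      obtain ⟨s, hsT, a, ha⟩ := hspan
      rw [← ha]
      refine Finset.sum_eq_zero fun t0 _ => ?_
      have ht0 : (t0 : k) ∈ T := hsT t0.2
      have h1 := congrArg (d ⟨t0, ht0⟩).liftKaehlerDifferential ha
      rw [Derivation.liftKaehlerDifferential_comp_D, hdc, map_sum] at h1
      have h2 : ∀ t : s, (d ⟨t0, ht0⟩).liftKaehlerDifferential (a t • D E k (t : k)) =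
          if t = t0 then a t else 0 := by
        intro t
        rw [map_smul, Derivation.liftKaehlerDifferential_comp_D]
        split_ifs with h
        · rw [h]
          have := hd1 ⟨t0, ht0⟩
          simp only at this
          rw [this, smul_eq_mul, mul_one]
        · have hne : (t : k) ≠ (t0 : k) := fun h' => h (Subtype.ext h')
          have := hd0 ⟨t0, ht0⟩ (t : k) (hsT t.2) hne
          rw [this, smul_zero]
      rw [Finset.sum_congr rfl (fun t _ => h2 t), Finset.sum_ite_eq' Finset.univ t0] at h1
      simp only [Finset.mem_univ, if_true] at h1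
      rw [h1, zero_smul]
    obtain ⟨e, he⟩ := mem_range_of_D_eq_zero (k := E) (E := E) p hE hD0
    rw [← he]
    exact e.2
  · intro S
    -- `k` is generated over `F S` by the finitely many elements of `S`
    have hadj : Algebra.adjoin (F S) ((fun t : T => (t : k)) '' (S : Set T)) = ⊤ := by
      rw [eq_top_iff]
      rintro c -
      have hc : c ∈ Algebra.adjoin E T := hgen ▸ Algebra.mem_top
      induction hc using Algebra.adjoin_induction with
      | mem t ht =>
        by_cases htS : (⟨t, ht⟩ : T) ∈ S
        · exact Algebra.subset_adjoin ⟨⟨t, ht⟩, htS, rfl⟩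
        · have : t ∈ F S := by
            intro t' ht'
            have hne : t ≠ (t' : k) := fun h => htS (by
              have : (⟨t, ht⟩ : T) = t' := Subtype.ext h
              rw [this]; exact ht')
            exact hd0 t' t ht hne
          exact Subalgebra.algebraMap_mem _ (⟨t, this⟩ : F S)
      | algebraMap e => exact Subalgebra.algebraMap_mem _ (⟨(e : k), hEF S e.2⟩ : F S)
      | add a b _ _ ha hb => exact add_mem ha hb
      | mul a b _ _ ha hb => exact mul_mem ha hb
    have hfin : ((fun t : T => (t : k)) '' (S : Set T)).Finite := (S.finite_toSet).image _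
    have hint : ∀ x ∈ (fun t : T => (t : k)) '' (S : Set T), IsIntegral (F S) x := by
      rintro x -
      refine ⟨Polynomial.X ^ p - Polynomial.C (⟨x ^ p, hEF S (pow_mem_kp k p x)⟩ : F S),
        Polynomial.monic_X_pow_sub_C _ (Fact.out : p.Prime).ne_zero, ?_⟩
      simp only [Polynomial.eval₂_sub, Polynomial.eval₂_pow, Polynomial.eval₂_X, Polynomial.eval₂_C]
      exact sub_eq_zero.2 rfl
    have hfg := fg_adjoin_of_finite hfin hint
    rw [hadj] at hfg
    exact ⟨by simpa using hfg⟩

end Groth.Agent.Lib.Helper7.PFamily
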