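import Mathlib

/-!
# Subrings `F[[x^p]]` of `k[[x]]` and their fraction fields (helper7)

For a subfield `F` of a field `k` of characteristic `p`, `Rsub p F` is the subring of `k[[x]]`
of power series in the `x_i^p` with coefficients in `F`, and `Ksub σ p K₀ F` the subfield of a
fraction field `K₀` of `k[[x]]` generated by it.
-/

set_option autoImplicit false
set_option linter.style.haveILetI false
set_option linter.unusedSectionVars false
universe u v w

namespace Groth.Agent.Lib.Helper7.PsFam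

open MvPowerSeries

section Basic

variable {σ : Type v} {k : Type u} [Field k] (p : ℕ)

/-- the subring `F[[x^p]]` -/
def Rsub (F : Subfield k) : Subring (MvPowerSeries σ k) where
  carrier := {g | ∀ n, coeff n g ∈ F ∧ (coeff n g ≠ 0 → ∀ i, p ∣ n i)}
  mul_mem' := by
    classical
    intro a b ha hb n
    rw [coeff_mul]
    refine ⟨sum_mem fun x _ => mul_mem (ha _).1 (hb _).1, fun hne => ?_⟩
    obtain ⟨x, hx, hx0⟩ := Finset.exists_ne_zero_of_sum_ne_zero hne
    have h1 := (ha x.1).2 (left_ne_zero_of_mul hx0)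
    have h2 := (hb x.2).2 (right_ne_zero_of_mul hx0)
    intro i
    rw [← (Finset.HasAntidiagonal.mem_antidiagonal.1 hx), Finsupp.add_apply]
    exact dvd_add (h1 i) (h2 i)
  one_mem' := by
    classical
    intro n
    rw [coeff_one]
    split_ifs with h
    · exact ⟨one_mem _, fun _ i => by rw [h]; exact dvd_zero _⟩
    · exact ⟨zero_mem _, fun h0 => absurd rfl h0⟩
  add_mem' := by
    intro a b ha hb n
    rw [map_add]
    refine ⟨add_mem (ha _).1 (hb _).1, fun hne => ?_⟩
    by_cases h0 : coeff n a = 0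
    · rw [h0, zero_add] at hne
      exact (hb n).2 hne
    · exact (ha n).2 h0
  zero_mem' := by
    intro n
    rw [map_zero]
    exact ⟨zero_mem _, fun h0 => absurd rfl h0⟩
  neg_mem' := by
    intro a ha n
    rw [map_neg]
    exact ⟨neg_mem (ha _).1, fun hne => (ha n).2 (neg_ne_zero.1 hne)⟩

variable {p}

lemma mem_Rsub {F : Subfield k} {g : MvPowerSeries σ k} :
    g ∈ Rsub p F ↔ ∀ n, coeff n g ∈ F ∧ (coeff n g ≠ 0 → ∀ i, p ∣ n i) := Iff.rfl

lemma Rsub_mono {F F' : Subfield k} (h : F ≤ F') : Rsub (σ := σ) p F ≤ Rsub p F' :=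
  fun _ hg n => ⟨h (hg n).1, (hg n).2⟩

/-- an `F`-linear retraction of `k[[x]]` onto `F[[x^p]]`, coefficientwise -/
theorem exists_retraction (F : Subfield k) :
    ∃ πt : MvPowerSeries σ k → MvPowerSeries σ k,
      (∀ g, πt g ∈ Rsub p F) ∧ (∀ g ∈ Rsub p F, πt g = g) ∧
        ∀ b ∈ Rsub p F, ∀ g, πt (b * g) = b * πt g := by
  classical
  obtain ⟨π, hπ⟩ := LinearMap.exists_leftInverse_of_injective (Algebra.linearMap F k)
    (LinearMap.ker_eq_bot.2 (algebraMap F k).injective)
  have hπ' : ∀ c : F, π (c : k) = c := fun c => by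
    have := congrArg (fun f => f c) hπ
    exact this
  let πt : MvPowerSeries σ k → MvPowerSeries σ k := fun g n =>
    if ∀ i, p ∣ n i then ((π (coeff n g) : F) : k) else 0
  have hπt : ∀ g n, coeff n (πt g) = if ∀ i, p ∣ n i then ((π (coeff n g) : F) : k) else 0 :=
    fun g n => rfl
  refine ⟨πt, fun g n => ?_, fun g hg => ?_, fun b hb g => ?_⟩
  · rw [hπt]
    split_ifs with h
    · exact ⟨(π _).2, fun _ => h⟩
    · exact ⟨zero_mem _, fun h0 => absurd rfl h0⟩
  · ext n
    rw [hπt]
    split_ifs with h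
    · rw [hπ' ⟨_, (hg n).1⟩]
    · by_contra hne
      exact h ((hg n).2 (Ne.symm hne))
  · ext n
    rw [hπt, coeff_mul, coeff_mul]
    split_ifs with h
    · rw [map_sum, AddSubmonoidClass.coe_finsetSum]
      refine Finset.sum_congr rfl fun x hx => ?_
      by_cases hb0 : coeff x.1 b = 0
      · rw [hb0, zero_mul, zero_mul, map_zero]; rfl
      · have h1 := (hb x.1).2 hb0
        have h2 : ∀ i, p ∣ x.2 i := by
          intro i
          have := h i
          rw [← (Finset.HasAntidiagonal.mem_antidiagonal.1 hx), Finsupp.add_apply] at this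
          exact (Nat.dvd_add_right (h1 i)).1 this
        rw [hπt, if_pos h2]
        have h3 : coeff x.1 b * coeff x.2 g = (⟨_, (hb x.1).1⟩ : F) • coeff x.2 g := rfl
        rw [h3, map_smul]
        rfl
    · symm
      refine Finset.sum_eq_zero fun x hx => ?_
      by_cases hb0 : coeff x.1 b = 0
      · rw [hb0, zero_mul]
      · have h1 := (hb x.1).2 hb0
        have h2 : ¬ ∀ i, p ∣ x.2 i := by
          intro h2
          apply h
          intro i
          rw [← (Finset.HasAntidiagonal.mem_antidiagonal.1 hx), Finsupp.add_apply]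
          exact dvd_add (h1 i) (h2 i)
        rw [hπt, if_neg h2, mul_zero]

end Basic

section Frac

variable (σ : Type v) {k : Type u} [Field k] (p : ℕ)
  (K₀ : Type w) [Field K₀] [Algebra (MvPowerSeries σ k) K₀] [IsFractionRing (MvPowerSeries σ k) K₀]

/-- the subfield `F((x^p))` of a fraction field of `k[[x]]` -/
noncomputable def Ksub (F : Subfield k) : Subfield K₀ :=
  Subfield.closure (algebraMap (MvPowerSeries σ k) K₀ '' (Rsub (σ := σ) p F : Set (MvPowerSeries σ k)))

variable {σ p K₀}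

lemma Ksub_mono {F F' : Subfield k} (h : F ≤ F') : Ksub σ p K₀ F ≤ Ksub σ p K₀ F' :=
  Subfield.closure_mono (Set.image_mono (Rsub_mono h))

lemma algebraMap_mem_Ksub {F : Subfield k} {g : MvPowerSeries σ k} (hg : g ∈ Rsub p F) :
    algebraMap (MvPowerSeries σ k) K₀ g ∈ Ksub σ p K₀ F :=
  Subfield.subset_closure ⟨g, hg, rfl⟩

lemma mem_Ksub_iff {F : Subfield k} {z : K₀} :
    z ∈ Ksub σ p K₀ F ↔ ∃ a ∈ Rsub (σ := σ) p F, ∃ b ∈ Rsub (σ := σ) p F, b ≠ 0 ∧
      algebraMap (MvPowerSeries σ k) K₀ a / algebraMap (MvPowerSeries σ k) K₀ b = z := by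
  constructor
  · intro hz
    rw [Ksub, Subfield.mem_closure_iff] at hz
    obtain ⟨y, hy, w, hw, rfl⟩ := hz
    have himg : (algebraMap (MvPowerSeries σ k) K₀ '' (Rsub (σ := σ) p F : Set (MvPowerSeries σ k))) =
        ((Rsub (σ := σ) p F).map (algebraMap (MvPowerSeries σ k) K₀) : Set K₀) := rfl
    rw [himg, Subring.closure_eq] at hy hw
    obtain ⟨a, ha, rfl⟩ := hy
    obtain ⟨b, hb, rfl⟩ := hw
    by_cases hb0 : b = 0
    · refine ⟨0, zero_mem _, 1, one_mem _, one_ne_zero, ?_⟩
      rw [hb0, map_zero, zero_div, div_zero]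
    · exact ⟨a, ha, b, hb, hb0, rfl⟩
  · rintro ⟨a, ha, b, hb, -, rfl⟩
    exact div_mem (algebraMap_mem_Ksub ha) (algebraMap_mem_Ksub hb)

/-- key: a power series lying in `F((x^p))` lies in `F[[x^p]]` -/
theorem mem_Rsub_of_algebraMap_mem_Ksub {F : Subfield k} {h : MvPowerSeries σ k}
    (hh : algebraMap (MvPowerSeries σ k) K₀ h ∈ Ksub σ p K₀ F) : h ∈ Rsub p F := by
  obtain ⟨a, ha, b, hb, hb0, hab⟩ := mem_Ksub_iff.1 hh
  have hinj : Function.Injective (algebraMap (MvPowerSeries σ k) K₀) :=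
    IsFractionRing.injective _ _
  have hb0' : algebraMap (MvPowerSeries σ k) K₀ b ≠ 0 := fun h0 =>
    hb0 (hinj (by rw [h0, map_zero]))
  have hbh : b * h = a := by
    apply hinj
    rw [map_mul, ← hab, mul_div_cancel₀ _ hb0']
  obtain ⟨πt, h1, h2, h3⟩ := exists_retraction (σ := σ) (p := p) F
  have h4 : b * πt h = b * h := by rw [← h3 b hb h, hbh, h2 a ha]
  have h5 : πt h = h := mul_left_cancel₀ hb0 h4
  rw [← h5]
  exact h1 h

end Frac

section Frob

variable {σ : Type v} {k : Type u} [Field k] (p : ℕ) [Fact p.Prime] [CharP k p]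

/-- the subfield `k^p` -/
abbrev kp : Subfield k := (frobenius k p).fieldRange

lemma pow_mem_Rsub_kp (g : MvPowerSeries σ k) : g ^ p ∈ Rsub p (kp (k := k) p) := by
  have hp : p ≠ 0 := (Fact.out : p.Prime).ne_zero
  haveI : ExpChar k p := ExpChar.prime Fact.out
  intro n
  rw [← map_frobenius_expand p hp, coeff_map]
  refine ⟨⟨_, rfl⟩, fun hne i => ?_⟩
  by_contra hnd
  apply hne
  rw [coeff_expand_of_not_dvd p hp g hnd, map_zero]

/-- elements of `k^p[[x^p]]` are `p`-th powers -/
lemma exists_pow_eq_of_mem_Rsub_kp {h : MvPowerSeries σ k} (hh : h ∈ Rsub p (kp (k := k) p)) :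
    ∃ u : MvPowerSeries σ k, u ^ p = h := by
  classical
  have hp : p ≠ 0 := (Fact.out : p.Prime).ne_zero
  haveI : ExpChar k p := ExpChar.prime Fact.out
  have hroot : ∀ m : σ →₀ ℕ, ∃ c : k, c ^ p = coeff (p • m) h := fun m => by
    obtain ⟨c, hc⟩ := (hh (p • m)).1
    exact ⟨c, hc⟩
  choose c hc using hroot
  refine ⟨fun m => c m, ?_⟩
  ext n
  rw [← map_frobenius_expand p hp, coeff_map]
  by_cases hn : ∀ i, p ∣ n i
  · have hnm : n = p • (n.mapRange (fun x => x / p) (by simp)) := by
      ext i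
      simp only [Finsupp.smul_apply, Finsupp.mapRange_apply, smul_eq_mul]
      exact (Nat.mul_div_cancel' (hn i)).symm
    rw [hnm, coeff_expand_smul, ← hc]
    rfl
  · push_neg at hn
    obtain ⟨i, hi⟩ := hn
    rw [coeff_expand_of_not_dvd p hp _ hi, map_zero]
    by_contra hne
    exact hi ((hh n).2 (Ne.symm hne) i)

variable {K₀ : Type w} [Field K₀] [Algebra (MvPowerSeries σ k) K₀]
  [IsFractionRing (MvPowerSeries σ k) K₀]

lemma pow_mem_Ksub {F : Subfield k} (hF : kp (k := k) p ≤ F) (z : K₀) :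
    z ^ p ∈ Ksub σ p K₀ F := by
  obtain ⟨f, g, hg, rfl⟩ := IsFractionRing.div_surjective (A := MvPowerSeries σ k) z
  rw [div_pow, ← map_pow, ← map_pow]
  exact div_mem (algebraMap_mem_Ksub (Rsub_mono hF (pow_mem_Rsub_kp p f)))
    (algebraMap_mem_Ksub (Rsub_mono hF (pow_mem_Rsub_kp p g)))

/-- the intersection of the `F((x^p))` is `K₀^p` -/
theorem exists_pow_eq_of_forall_mem_Ksub {ι : Type*} [Nonempty ι] (F : ι → Subfield k)
    (hF : ∀ i, kp (k := k) p ≤ F i) (hInf : ⨅ i, F i = kp (k := k) p) (z : K₀)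
    (hz : ∀ i, z ∈ Ksub σ p K₀ (F i)) : ∃ y : K₀, y ^ p = z := by
  have hp : p ≠ 0 := (Fact.out : p.Prime).ne_zero
  have hppos : 0 < p := Nat.pos_of_ne_zero hp
  obtain ⟨f, g, hg, rfl⟩ := IsFractionRing.div_surjective (A := MvPowerSeries σ k) z
  have hg0 : g ≠ 0 := nonZeroDivisors.ne_zero hg
  have hinj : Function.Injective (algebraMap (MvPowerSeries σ k) K₀) :=
    IsFractionRing.injective _ _
  have hg0' : algebraMap (MvPowerSeries σ k) K₀ g ≠ 0 := fun h0 =>
    hg0 (hinj (by rw [h0, map_zero]))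
  have hgp0' : algebraMap (MvPowerSeries σ k) K₀ (g ^ p) ≠ 0 := by
    rw [map_pow]; exact pow_ne_zero _ hg0'
  -- `h = f g^(p-1)`
  have hh : f * g ^ (p - 1) ∈ Rsub p (kp (k := k) p) := by
    have hall : ∀ i, f * g ^ (p - 1) ∈ Rsub p (F i) := by
      intro i
      apply mem_Rsub_of_algebraMap_mem_Ksub (K₀ := K₀)
      have : algebraMap (MvPowerSeries σ k) K₀ (f * g ^ (p - 1)) =
          (algebraMap (MvPowerSeries σ k) K₀ f / algebraMap (MvPowerSeries σ k) K₀ g) *
            algebraMap (MvPowerSeries σ k) K₀ (g ^ p) := by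
        rw [div_mul_eq_mul_div, eq_div_iff hg0', ← map_mul, ← map_mul, mul_assoc, ← pow_succ,
          Nat.sub_add_cancel hppos]
      rw [this]
      exact mul_mem (hz i) (algebraMap_mem_Ksub (Rsub_mono (hF i) (pow_mem_Rsub_kp p g)))
    intro n
    refine ⟨?_, (hall (Classical.arbitrary ι) n).2⟩
    rw [← hInf, Subfield.mem_iInf]
    exact fun i => (hall i n).1
  obtain ⟨u, hu⟩ := exists_pow_eq_of_mem_Rsub_kp p hh
  refine ⟨algebraMap (MvPowerSeries σ k) K₀ u / algebraMap (MvPowerSeries σ k) K₀ g, ?_⟩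
  rw [div_pow, ← map_pow, ← map_pow, hu, div_eq_div_iff hgp0' hg0', ← map_mul, ← map_mul]
  congr 1
  rw [mul_assoc, ← pow_succ, Nat.sub_add_cancel hppos]

end Frob

section Gen

variable {σ : Type v} [Finite σ] {k : Type u} [Field k] (p : ℕ) [Fact p.Prime]

/-- `k[[x]]` is generated as a module over `F[[x^p]]` by finitely many elements, when `k` is finite
over `F`. -/
theorem exists_finite_generators (F : Subfield k) [Module.Finite F k] :
    ∃ (J : Type v) (_ : Fintype J) (g : J → MvPowerSeries σ k), ∀ r : MvPowerSeries σ k,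
      ∃ c : J → MvPowerSeries σ k, (∀ j, c j ∈ Rsub p F) ∧ r = ∑ j, c j * g j := by
  classical
  haveI : Fintype σ := Fintype.ofFinite σ
  have hp : p.Prime := Fact.out
  have hppos : 0 < p := hp.pos
  haveI : NeZero p := ⟨hp.ne_zero⟩
  obtain ⟨s, u, hu⟩ := Module.Finite.exists_fin (R := F) (M := k)
  have hφ : ∀ c : k, ∃ a : Fin s → F, ∑ l, a l • u l = c := fun c =>
    (Submodule.mem_span_range_iff_exists_fun F).1 (hu ▸ Submodule.mem_top)
  choose φ hφ using hφ
  -- exponent vectors
  let hat : (σ → Fin p) → (σ →₀ ℕ) := fun e => Finsupp.equivFunOnFinite.symm fun i => (e i : ℕ)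
  have hhat : ∀ e i, hat e i = (e i : ℕ) := fun e i => rfl
  refine ⟨ULift.{v} ((σ → Fin p) × Fin s), inferInstance,
    fun j => monomial (hat j.down.1) (u j.down.2), fun r => ?_⟩
  let c : ULift.{v} ((σ → Fin p) × Fin s) → MvPowerSeries σ k := fun j m =>
    if ∀ i, p ∣ m i then ((φ (coeff (m + hat j.down.1) r) j.down.2 : F) : k) else 0
  have hc : ∀ j m, coeff m (c j) =
      if ∀ i, p ∣ m i then ((φ (coeff (m + hat j.down.1) r) j.down.2 : F) : k) else 0 :=
    fun j m => rfl
  refine ⟨c, fun j m => ?_, ?_⟩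
  · rw [hc]
    split_ifs with h
    · exact ⟨(φ _ _).2, fun _ => h⟩
    · exact ⟨zero_mem _, fun h0 => absurd rfl h0⟩
  · ext n
    rw [map_sum]
    -- the unique exponent vector
    let e0 : σ → Fin p := fun i => ⟨n i % p, Nat.mod_lt _ hppos⟩
    have hcond : ∀ e : σ → Fin p, (hat e ≤ n ∧ ∀ i, p ∣ (n - hat e) i) ↔ e = e0 := by
      intro e
      constructor
      · rintro ⟨hle, hdvd⟩
        funext i
        apply Fin.ext
        change (e i : ℕ) = n i % p
        have h1 : (e i : ℕ) ≤ n i := by simpa [hhat] using hle i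
        have h2 : p ∣ n i - (e i : ℕ) := by simpa [hhat] using hdvd i
        obtain ⟨q, hq⟩ := h2
        have h3 : n i = (e i : ℕ) + p * q := by omega
        rw [h3, Nat.add_mul_mod_self_left, Nat.mod_eq_of_lt (e i).2]
      · rintro rfl
        refine ⟨fun i => ?_, fun i => ?_⟩
        · simpa [hhat, e0] using Nat.mod_le (n i) p
        · have : (n - hat e0) i = n i - n i % p := by simp [hhat, e0]
          rw [this]
          exact Nat.dvd_sub_mod (n i)
    have hterm : ∀ j : ULift.{v} ((σ → Fin p) × Fin s),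
        coeff n (c j * monomial (hat j.down.1) (u j.down.2)) =
          if j.down.1 = e0 then ((φ (coeff n r) j.down.2 : F) : k) * u j.down.2 else 0 := by
      intro j
      rw [coeff_mul_monomial]
      by_cases hle : hat j.down.1 ≤ n
      · rw [if_pos hle, hc]
        by_cases hd : ∀ i, p ∣ (n - hat j.down.1) i
        · rw [if_pos hd, if_pos ((hcond _).1 ⟨hle, hd⟩), tsub_add_cancel_of_le hle]
        · rw [if_neg hd, zero_mul, if_neg (fun h => hd ((hcond _).2 h).2)]
      · rw [if_neg hle, if_neg (fun h => hle ((hcond _).2 h).1)]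
    rw [Finset.sum_congr rfl (fun j _ => hterm j)]
    -- reindex the sum
    have hsum : ∑ j : ULift.{v} ((σ → Fin p) × Fin s),
        (if j.down.1 = e0 then ((φ (coeff n r) j.down.2 : F) : k) * u j.down.2 else 0) =
        ∑ l : Fin s, ((φ (coeff n r) l : F) : k) * u l := by
      rw [← Equiv.sum_comp Equiv.ulift.symm, Fintype.sum_prod_type]
      simp only [Equiv.ulift_symm_apply]
      rw [Finset.sum_eq_single e0]
      · simp
      · intro e _ hne
        simp [hne]
      · intro h; exact absurd (Finset.mem_univ _) h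
    rw [hsum]
    have := hφ (coeff n r)
    simp only [Subfield.smul_def, smul_eq_mul] at this
    exact this.symm

end Gen

end Groth.Agent.Lib.Helper7.PsFam
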