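import Mathlib
import Groth.Agent.Lib.Helper7PField3
import Groth.Agent.Lib.Helper7PFamily
import Groth.Agent.Lib.Helper7PsFam
import Groth.Agent.Lib.Helper7LinDisj

/-!
# Existence of derivations on finite extensions of `k((x))` (helper7)

Let `k` be a field of characteristic `p`, `R₀ = k[[x_1,…,x_n]]`, `K₀` its fraction field and `L` a
finite extension of `K₀`.  If `f ∈ L` is not a `p`-th power then there is a derivation `δ` of `L`
with `δ f ≠ 0` whose restriction to `R₀` is of the form `r ↦ ∑ⱼ Dⱼ(r) eⱼ` for finitely many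
`eⱼ ∈ L` and derivations `Dⱼ` of `R₀` (Stacks 07PF-type statement).
-/

set_option autoImplicit false
set_option linter.style.haveILetI false
set_option linter.unusedSectionVars false
universe u

namespace Groth.Agent.Lib.Helper7.DerExist

open MvPowerSeries KaehlerDifferential Groth.Agent.Lib.Helper7.PsFam

/-- step 1: a cofinite subfield `F` of `k` and a derivation of `L` over `F((x^p))` not killing
`f`. -/
theorem exists_subfield_derivation {k : Type u} [Field k] (p : ℕ) [Fact p.Prime] [CharP k p]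
    (n : ℕ) (K₀ : Type u) [Field K₀] [Algebra (MvPowerSeries (Fin n) k) K₀]
    [IsFractionRing (MvPowerSeries (Fin n) k) K₀]
    (L : Type u) [Field L] [Algebra K₀ L] [Algebra (MvPowerSeries (Fin n) k) L]
    [IsScalarTower (MvPowerSeries (Fin n) k) K₀ L] [Module.Finite K₀ L]
    [CharP L p] (f : L) (hf : ∀ y : L, y ^ p ≠ f) :
    ∃ (F : Subfield k) (_ : Module.Finite F k) (δ : Derivation ℤ L L), δ f ≠ 0 ∧
      ∀ c ∈ Rsub (σ := Fin n) p F, δ (algebraMap (MvPowerSeries (Fin n) k) L c) = 0 := by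
  classical
  have hpp : p.Prime := Fact.out
  haveI : ExpChar L p := ExpChar.prime hpp
  obtain ⟨I, F, hF1, hF2, hF3, hF4⟩ := Groth.Agent.Lib.Helper7.PFamily.exists_family k p
  let KS : Finset I → Subfield K₀ := fun S => Ksub (Fin n) p K₀ (F S)
  have hdir : ∀ a b : Finset I, ∃ c, KS c ≤ KS a ⊓ KS b := fun a b =>
    ⟨a ∪ b, le_inf (Ksub_mono (hF2 _ _ Finset.subset_union_left))
      (Ksub_mono (hF2 _ _ Finset.subset_union_right))⟩
  -- the intersection is `K₀^p`
  have hInf : ∀ z : K₀, z ∈ (⨅ S, KS S : Subfield K₀) ↔ ∃ y : K₀, y ^ p = z := by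
    intro z
    rw [Subfield.mem_iInf]
    constructor
    · intro hz
      exact exists_pow_eq_of_forall_mem_Ksub p F hF1 hF3 z hz
    · rintro ⟨y, rfl⟩ S
      exact pow_mem_Ksub p (hF1 S) y
  -- a basis of `L` over `K₀`
  let b := Module.finBasis K₀ L
  let s : Set L := Set.range fun j => b j ^ p
  have hsfin : s.Finite := Set.finite_range _
  -- `p`-th powers lie in the span of `s` over `K₀^p`
  have hpow : ∀ (S : Finset I) (y : L), y ^ p ∈ Submodule.span (KS S) s := by
    intro S y
    have hy : y = ∑ j, b.repr y j • b j := (b.sum_repr y).symm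
    rw [hy, sum_pow_char]
    refine Submodule.sum_mem _ fun j _ => ?_
    rw [Algebra.smul_def, mul_pow, ← map_pow]
    have h1 : (b.repr y j) ^ p ∈ KS S := pow_mem_Ksub p (hF1 S) _
    have h2 : algebraMap K₀ L ((b.repr y j) ^ p) * b j ^ p =
        (⟨(b.repr y j) ^ p, h1⟩ : KS S) • (b j ^ p) := by
      rw [Subfield.smul_def, Algebra.smul_def]
    rw [h2]
    exact Submodule.smul_mem _ _ (Submodule.subset_span ⟨j, rfl⟩)
  -- some member of the family does not contain `f` in its span
  have hex : ∃ S, f ∉ Submodule.span (KS S) s := by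
    by_contra hcon
    push Not at hcon
    have h1 := Groth.Agent.Lib.Helper7.LinDisj.mem_span_iInf_of_forall_mem_span KS hdir s hsfin f hcon
    -- elements of the span over `K₀^p` are `p`-th powers
    have h2 : ∀ x ∈ Submodule.span (⨅ S, KS S : Subfield K₀) s, ∃ y : L, y ^ p = x := by
      intro x hx
      refine Submodule.span_induction (p := fun x _ => ∃ y : L, y ^ p = x) ?_ ?_ ?_ ?_ hx
      · rintro _ ⟨j, rfl⟩; exact ⟨b j, rfl⟩
      · exact ⟨0, zero_pow hpp.ne_zero⟩
      · rintro x y _ _ ⟨x', rfl⟩ ⟨y', rfl⟩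
        exact ⟨x' + y', add_pow_char_of_commute p (Commute.all _ _)⟩
      · rintro c x _ ⟨x', rfl⟩
        obtain ⟨c', hc'⟩ := (hInf c).1 c.2
        refine ⟨algebraMap K₀ L c' * x', ?_⟩
        rw [mul_pow, ← map_pow, hc', Subfield.smul_def, Algebra.smul_def]
    obtain ⟨y, hy⟩ := h2 f h1
    exact hf y hy
  obtain ⟨S, hS⟩ := hex
  -- `f` is not in `E[L^p]` for `E = KS S`
  have hfE : f ∉ EGA41.pPowerSubalgebra p (KS S) L := by
    intro hmem
    apply hS
    have h1 : f ∈ Subalgebra.toSubmodule (Algebra.adjoin (KS S) (Set.range fun y : L => y ^ p)) :=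
      hmem
    rw [Algebra.adjoin_eq_span] at h1
    have hcl : (Submonoid.closure (Set.range fun y : L => y ^ p) : Set L) ⊆
        Submodule.span (KS S) s := by
      intro x hx
      have hx' : x ∈ Set.range fun y : L => y ^ p := by
        refine Submonoid.closure_induction (motive := fun x _ => x ∈ Set.range fun y : L => y ^ p)
          (fun x hx => hx) ⟨1, one_pow p⟩ ?_ hx
        rintro x y _ _ ⟨x', rfl⟩ ⟨y', rfl⟩
        exact ⟨x' * y', mul_pow x' y' p⟩
      obtain ⟨y, rfl⟩ := hx'
      exact hpow S y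
    exact (Submodule.span_le.2 hcl) h1
  have hDf : D (KS S) L f ≠ 0 := fun h0 =>
    hfE (Groth.Agent.Lib.Helper7.PPow.mem_pPowerSubalgebra_of_D_eq_zero p h0)
  obtain ⟨lam, hlam⟩ : ∃ lam : Module.Dual L (Ω[L⁄(KS S)]), lam (D (KS S) L f) ≠ 0 := by
    by_contra hcon
    push Not at hcon
    exact hDf ((Module.forall_dual_apply_eq_zero_iff L _).1 hcon)
  let δ₀ : Derivation (KS S) L L := lam.compDer (D (KS S) L)
  refine ⟨F S, hF4 S, δ₀.restrictScalars ℤ, hlam, fun c hc => ?_⟩
  have h1 : algebraMap (MvPowerSeries (Fin n) k) L c =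
      algebraMap (KS S) L ⟨algebraMap (MvPowerSeries (Fin n) k) K₀ c, algebraMap_mem_Ksub hc⟩ := by
    rw [IsScalarTower.algebraMap_apply (MvPowerSeries (Fin n) k) K₀ L]
    rfl
  change δ₀ _ = 0
  rw [h1, Derivation.map_algebraMap]

/-- **Existence of derivations** on a finite extension `L` of `k((x))`: if `f ∈ L` is not a `p`-th
power, some derivation `δ` of `L` has `δ f ≠ 0` and restricts on `k[[x]]` to `r ↦ ∑ⱼ Dⱼ(r) eⱼ`
with derivations `Dⱼ` of `k[[x]]` (given as additive maps satisfying the Leibniz rule). -/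
theorem exists_derivation_of_not_pow {k : Type u} [Field k] (p : ℕ) [Fact p.Prime] [CharP k p]
    (n : ℕ) (K₀ : Type u) [Field K₀] [Algebra (MvPowerSeries (Fin n) k) K₀]
    [IsFractionRing (MvPowerSeries (Fin n) k) K₀]
    (L : Type u) [Field L] [Algebra K₀ L] [Algebra (MvPowerSeries (Fin n) k) L]
    [IsScalarTower (MvPowerSeries (Fin n) k) K₀ L] [Module.Finite K₀ L]
    [CharP L p] (f : L) (hf : ∀ y : L, y ^ p ≠ f) :
    ∃ (δ : Derivation ℤ L L) (d : ℕ) (e : Fin d → L)
      (D : Fin d → (MvPowerSeries (Fin n) k →+ MvPowerSeries (Fin n) k)),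
      δ f ≠ 0 ∧ (∀ j a b, D j (a * b) = a * D j b + b * D j a) ∧
      ∀ r : MvPowerSeries (Fin n) k,
        δ (algebraMap (MvPowerSeries (Fin n) k) L r) =
          ∑ j, algebraMap (MvPowerSeries (Fin n) k) L (D j r) * e j := by
  classical
  obtain ⟨F, hfin, δ₀, hδ₀f, hδ₀c⟩ := exists_subfield_derivation (k := k) p n K₀ L f hf
  obtain ⟨J, hJ, g, hg⟩ := exists_finite_generators (σ := Fin n) p F
  have hinjK : Function.Injective (algebraMap (MvPowerSeries (Fin n) k) K₀) := IsFractionRing.injective _ _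
  have hinjL : Function.Injective (algebraMap (MvPowerSeries (Fin n) k) L) := by
    rw [IsScalarTower.algebraMap_eq (MvPowerSeries (Fin n) k) K₀ L]
    exact (algebraMap K₀ L).injective.comp hinjK
  let b := Module.finBasis K₀ L
  set d := Module.finrank K₀ L with hd
  have key : ∀ (r : (MvPowerSeries (Fin n) k)) (x : L) (i : Fin d),
      b.repr (algebraMap (MvPowerSeries (Fin n) k) L r * x) i = algebraMap (MvPowerSeries (Fin n) k) K₀ r * b.repr x i := by
    intro r x i
    rw [IsScalarTower.algebraMap_apply (MvPowerSeries (Fin n) k) K₀ L, ← Algebra.smul_def, map_smul, Finsupp.smul_apply,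
      smul_eq_mul]
  obtain ⟨t, ht⟩ := IsLocalization.exist_integer_multiples (nonZeroDivisors (MvPowerSeries (Fin n) k))
    (Finset.univ : Finset (J × Fin d))
    (fun ji => b.repr (δ₀ (algebraMap (MvPowerSeries (Fin n) k) L (g ji.1))) ji.2)
  have hα : ∀ j i, ∃ α : (MvPowerSeries (Fin n) k), algebraMap (MvPowerSeries (Fin n) k) K₀ α =
      algebraMap (MvPowerSeries (Fin n) k) K₀ (t : (MvPowerSeries (Fin n) k)) * b.repr (δ₀ (algebraMap (MvPowerSeries (Fin n) k) L (g j))) i := by
    intro j i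
    obtain ⟨α, hα⟩ := ht (j, i) (Finset.mem_univ _)
    exact ⟨α, by rw [hα, Algebra.smul_def]⟩
  choose α hα using hα
  have ht0 : algebraMap (MvPowerSeries (Fin n) k) L (t : (MvPowerSeries (Fin n) k)) ≠ 0 := fun h0 =>
    nonZeroDivisors.ne_zero t.2 (hinjL (by rw [h0, map_zero]))
  let δ : Derivation ℤ L L := (algebraMap (MvPowerSeries (Fin n) k) L (t : (MvPowerSeries (Fin n) k))) • δ₀
  have hδ : ∀ x, δ x = algebraMap (MvPowerSeries (Fin n) k) L (t : (MvPowerSeries (Fin n) k)) * δ₀ x := fun x => rfl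
  -- the coordinates of `δ (r)` lie in `(MvPowerSeries (Fin n) k)`
  have hcoord : ∀ (r : (MvPowerSeries (Fin n) k)) (i : Fin d), ∃ x : (MvPowerSeries (Fin n) k),
      algebraMap (MvPowerSeries (Fin n) k) K₀ x = b.repr (δ (algebraMap (MvPowerSeries (Fin n) k) L r)) i := by
    intro r i
    obtain ⟨c, hc, hr⟩ := hg r
    refine ⟨∑ j, c j * α j i, ?_⟩
    have h1 : δ₀ (algebraMap (MvPowerSeries (Fin n) k) L r) =
        ∑ j, algebraMap (MvPowerSeries (Fin n) k) L (c j) * δ₀ (algebraMap (MvPowerSeries (Fin n) k) L (g j)) := by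
      rw [hr, map_sum, map_sum]
      refine Finset.sum_congr rfl fun j _ => ?_
      rw [map_mul, Derivation.leibniz, hδ₀c (c j) (hc j), smul_zero, add_zero, smul_eq_mul]
    have h2 : b.repr (δ (algebraMap (MvPowerSeries (Fin n) k) L r)) i =
        ∑ j, algebraMap (MvPowerSeries (Fin n) k) K₀ (c j) * algebraMap (MvPowerSeries (Fin n) k) K₀ (α j i) := by
      rw [hδ, h1, Finset.mul_sum, map_sum, Finsupp.finsetSum_apply]
      refine Finset.sum_congr rfl fun j _ => ?_
      rw [key, key, hα]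
      ring
    rw [h2, map_sum]
    refine Finset.sum_congr rfl fun j _ => ?_
    rw [map_mul]
  choose Dfun hDfun using hcoord
  have hadd : ∀ i r r', Dfun (r + r') i = Dfun r i + Dfun r' i := by
    intro i r r'
    apply hinjK
    rw [map_add, hDfun, hDfun, hDfun, map_add, map_add, map_add, Finsupp.add_apply]
  have hzero : ∀ i, Dfun 0 i = 0 := by
    intro i
    apply hinjK
    rw [hDfun, map_zero, map_zero, map_zero, map_zero, Finsupp.zero_apply]
  have hmul : ∀ i r r', Dfun (r * r') i = r * Dfun r' i + r' * Dfun r i := by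
    intro i r r'
    apply hinjK
    rw [hDfun, map_mul, Derivation.leibniz, smul_eq_mul, smul_eq_mul, map_add, Finsupp.add_apply,
      key, key, ← hDfun, ← hDfun, map_add, map_mul, map_mul]
  let D : Fin d → ((MvPowerSeries (Fin n) k) →+ (MvPowerSeries (Fin n) k)) := fun i =>
    { toFun := fun r => Dfun r i
      map_zero' := hzero i
      map_add' := hadd i }
  refine ⟨δ, d, fun i => b i, D, ?_, fun i r r' => hmul i r r', fun r => ?_⟩
  · rw [hδ]
    exact mul_ne_zero ht0 hδ₀f
  · conv_lhs => rw [← b.sum_repr (δ (algebraMap (MvPowerSeries (Fin n) k) L r))]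
    refine Finset.sum_congr rfl fun i _ => ?_
    change _ = algebraMap (MvPowerSeries (Fin n) k) L (Dfun r i) * b i
    rw [← hDfun r i, Algebra.smul_def, ← IsScalarTower.algebraMap_apply]

end Groth.Agent.Lib.Helper7.DerExist
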