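import Mathlib

/-!
# Derivations: extension to localizations, and gluing on a tensor product (helper7)

* `exists_derivation_of_isLocalization`: a derivation `D : R → R` extends to any localization.
* `exists_derivation_tensorProduct`: additive Leibniz maps `dL : L → L ⊗[R] C`, `dC : C → L ⊗[R] C`
  agreeing on `R` glue to a derivation of `L ⊗[R] C`.
-/

set_option autoImplicit false
set_option linter.style.haveILetI false
universe u v w

namespace Groth.Agent.Lib.Helper7.DerTensor

open TensorProduct KaehlerDifferential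

section Loc

/-- A derivation of `R` extends to every localization of `R`. -/
theorem exists_derivation_of_isLocalization {R : Type u} [CommRing R] (M : Submonoid R)
    (A : Type v) [CommRing A] [Algebra R A] [IsLocalization M A] (D : Derivation ℤ R R) :
    ∃ D' : Derivation ℤ A A, ∀ r : R, D' (algebraMap R A r) = algebraMap R A (D r) := by
  haveI : Algebra.FormallyEtale R A := Algebra.FormallyEtale.of_isLocalization M
  let e := tensorKaehlerEquivOfFormallyEtale ℤ R A
  let lam : Ω[R⁄ℤ] →ₗ[R] A := (Algebra.linearMap R A) ∘ₗ D.liftKaehlerDifferential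
  let Lam : A ⊗[R] Ω[R⁄ℤ] →ₗ[A] A := LinearMap.liftBaseChange A lam
  let f : Ω[A⁄ℤ] →ₗ[A] A := Lam ∘ₗ e.symm.toLinearMap
  refine ⟨f.compDer (KaehlerDifferential.D ℤ A), fun r => ?_⟩
  change Lam (e.symm (KaehlerDifferential.D ℤ A (algebraMap R A r))) = _
  rw [tensorKaehlerEquivOfFormallyEtale_symm_D_algebraMap]
  simp [Lam, lam]

end Loc

section Tensor

variable {R : Type u} {L : Type v} {C : Type w} [CommRing R] [CommRing L] [CommRing C]
  [Algebra R L] [Algebra R C]

/-- Gluing of derivations on a tensor product (additive-map form). -/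
theorem exists_addMonoidHom_tensorProduct (dL : L →+ L ⊗[R] C) (dC : C →+ L ⊗[R] C)
    (hL : ∀ a b : L, dL (a * b) = (a ⊗ₜ[R] (1 : C)) * dL b + (b ⊗ₜ[R] (1 : C)) * dL a)
    (hC : ∀ a b : C, dC (a * b) = ((1 : L) ⊗ₜ[R] a) * dC b + ((1 : L) ⊗ₜ[R] b) * dC a)
    (h : ∀ r : R, dL (algebraMap R L r) = dC (algebraMap R C r)) :
    ∃ Δ : (L ⊗[R] C) →+ (L ⊗[R] C), (∀ a b, Δ (a * b) = a * Δ b + b * Δ a) ∧
      ∀ (l : L) (c : C), Δ (l ⊗ₜ[R] c) = ((1 : L) ⊗ₜ[R] c) * dL l + (l ⊗ₜ[R] (1 : C)) * dC c := by
  classical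
  have hL1 : dL 1 = 0 := by
    have := hL 1 1
    rw [mul_one, Algebra.TensorProduct.one_def.symm, one_mul] at this
    have h2 : dL 1 + 0 = dL 1 + dL 1 := by rw [add_zero]; exact this
    exact (add_left_cancel h2).symm
  have hC1 : dC 1 = 0 := by
    have := hC 1 1
    rw [mul_one, Algebra.TensorProduct.one_def.symm, one_mul] at this
    have h2 : dC 1 + 0 = dC 1 + dC 1 := by rw [add_zero]; exact this
    exact (add_left_cancel h2).symm
  -- the two ring homs to the dual numbers
  let φL : L →+* DualNumber (L ⊗[R] C) :=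
    { toFun := fun l => TrivSqZeroExt.inl (l ⊗ₜ[R] (1 : C)) + TrivSqZeroExt.inr (dL l)
      map_one' := by
        rw [hL1]
        ext <;> simp [Algebra.TensorProduct.one_def]
      map_mul' := fun a b => by
        rw [hL]
        ext
        · simp [TrivSqZeroExt.fst_mul]
        · simp [TrivSqZeroExt.snd_mul]
          ring
      map_zero' := by
        ext <;> simp
      map_add' := fun a b => by
        ext
        · simp [TensorProduct.add_tmul]
        · simp }
  let φC : C →+* DualNumber (L ⊗[R] C) :=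
    { toFun := fun c => TrivSqZeroExt.inl ((1 : L) ⊗ₜ[R] c) + TrivSqZeroExt.inr (dC c)
      map_one' := by
        rw [hC1]
        ext <;> simp [Algebra.TensorProduct.one_def]
      map_mul' := fun a b => by
        rw [hC]
        ext
        · simp [TrivSqZeroExt.fst_mul]
        · simp [TrivSqZeroExt.snd_mul]
          ring
      map_zero' := by
        ext <;> simp
      map_add' := fun a b => by
        ext
        · simp [TensorProduct.tmul_add]
        · simp }
  have hφL : ∀ l, φL l = TrivSqZeroExt.inl (l ⊗ₜ[R] (1 : C)) + TrivSqZeroExt.inr (dL l) :=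
    fun _ => rfl
  have hφC : ∀ c, φC c = TrivSqZeroExt.inl ((1 : L) ⊗ₜ[R] c) + TrivSqZeroExt.inr (dC c) :=
    fun _ => rfl
  have hcomm : ∀ r : R, φC (algebraMap R C r) = φL (algebraMap R L r) := by
    intro r
    rw [hφL, hφC, h r]
    congr 2
    rw [Algebra.algebraMap_eq_smul_one, Algebra.algebraMap_eq_smul_one, TensorProduct.smul_tmul]
  -- the induced ring hom on the tensor product, via the algebra structure given by `φL`
  letI algX : Algebra R (DualNumber (L ⊗[R] C)) := (φL.comp (algebraMap R L)).toAlgebra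
  let fL : L →ₐ[R] DualNumber (L ⊗[R] C) := { φL with commutes' := fun r => rfl }
  let fC : C →ₐ[R] DualNumber (L ⊗[R] C) :=
    { φC with commutes' := fun r => hcomm r }
  haveI : @IsScalarTower R R (DualNumber (L ⊗[R] C)) _ algX.toSMul algX.toSMul :=
    @IsScalarTower.left R (DualNumber (L ⊗[R] C)) _ algX.toModule.toMulAction
  let Φ : (L ⊗[R] C) →ₐ[R] DualNumber (L ⊗[R] C) :=
    Algebra.TensorProduct.lift fL fC (fun _ _ => Commute.all _ _)
  have hΦ : ∀ (l : L) (c : C), Φ (l ⊗ₜ[R] c) = φL l * φC c := fun l c =>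
    Algebra.TensorProduct.lift_tmul fL fC _ l c
  have hfst : ∀ t : L ⊗[R] C, (Φ t).fst = t := by
    intro t
    induction t using TensorProduct.induction_on with
    | zero => simp
    | tmul l c =>
      rw [hΦ, hφL, hφC]
      simp [TrivSqZeroExt.fst_mul]
    | add x y hx hy => rw [map_add, TrivSqZeroExt.fst_add, hx, hy]
  let Δ₀ : (L ⊗[R] C) →+ (L ⊗[R] C) :=
    { toFun := fun t => (Φ t).snd
      map_zero' := by simp
      map_add' := fun x y => by rw [map_add, TrivSqZeroExt.snd_add] }
  have hΔ₀ : ∀ t, Δ₀ t = (Φ t).snd := fun _ => rfl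
  have hleib : ∀ a b : L ⊗[R] C, Δ₀ (a * b) = a * Δ₀ b + b * Δ₀ a := by
    intro a b
    rw [hΔ₀, hΔ₀, hΔ₀, map_mul, TrivSqZeroExt.snd_mul, hfst, hfst]
    simp [mul_comm]
  refine ⟨Δ₀, hleib, fun l c => ?_⟩
  change (Φ (l ⊗ₜ[R] c)).snd = _
  rw [hΦ, hφL, hφC]
  simp [TrivSqZeroExt.snd_mul]
  ring

end Tensor

end Groth.Agent.Lib.Helper7.DerTensor
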