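import Mathlib
import Groth.Agent.Lib.Helper7DerExist
import Groth.Agent.Lib.Helper7DerTensor
import Groth.Agent.Lib.Helper19DerivCompl
import Groth.Agent.S9227

/-!
# The `p`-th root step for formal fibres of `k[[x]]` (helper7)

`R₀ = k[[x_1,…,x_n]]` (characteristic `p`), `A` a localization of `R₀`, `Ĉ` an adic completion of
`A`.  If `L` is a finite extension of the fraction field of `R₀`, `L ⊗[R₀] Ĉ` is regular and
`L' = L(f^{1/p})`, then `L' ⊗[R₀] Ĉ` is regular.
-/

set_option autoImplicit false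
set_option linter.style.haveILetI false
set_option linter.unusedSectionVars false
universe u

namespace Groth.Agent.Lib.Helper7.PsCore

open TensorProduct Polynomial

/-- a derivation from an additive map satisfying the Leibniz rule -/
def derivationOfLeibniz {A : Type*} [CommRing A] (D : A →+ A)
    (h : ∀ a b, D (a * b) = a * D b + b * D a) : Derivation ℤ A A :=
  Derivation.mk' D.toIntLinearMap (fun a b => h a b)

@[simp] lemma derivationOfLeibniz_apply {A : Type*} [CommRing A] (D : A →+ A)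
    (h : ∀ a b, D (a * b) = a * D b + b * D a) (a : A) : derivationOfLeibniz D h a = D a := rfl

section

lemma leibniz_sum_tmul {R C L : Type*} [CommRing R] [CommRing C] [CommRing L] [Algebra R C]
    [Algebra R L] {d : ℕ} (DC : Fin d → Derivation ℤ C C) (e : Fin d → L) (a b : C) :
    ∑ j, (DC j (a * b)) ⊗ₜ[R] e j =
      a ⊗ₜ[R] (1 : L) * ∑ j, (DC j b) ⊗ₜ[R] e j + b ⊗ₜ[R] (1 : L) * ∑ j, (DC j a) ⊗ₜ[R] e j := by
  rw [Finset.mul_sum, Finset.mul_sum, ← Finset.sum_add_distrib]
  refine Finset.sum_congr rfl fun j _ => ?_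
  rw [Derivation.leibniz, smul_eq_mul, smul_eq_mul, TensorProduct.add_tmul,
      Algebra.TensorProduct.tmul_mul_tmul, Algebra.TensorProduct.tmul_mul_tmul, one_mul]

/-- the derivation on `Ĉ ⊗[R₀] L` (as an additive map with the Leibniz rule) -/
theorem exists_derivation_tensor {k : Type u} [Field k] (p : ℕ) [Fact p.Prime] [CharP k p] (n : ℕ)
    (M : Submonoid (MvPowerSeries (Fin n) k)) (A : Type u) [CommRing A]
    [Algebra (MvPowerSeries (Fin n) k) A] [IsLocalization M A] (I : Ideal A)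
    (K₀ : Type u) [Field K₀] [Algebra (MvPowerSeries (Fin n) k) K₀]
    [IsFractionRing (MvPowerSeries (Fin n) k) K₀]
    (L : Type u) [Field L] [Algebra K₀ L] [Algebra (MvPowerSeries (Fin n) k) L]
    [IsScalarTower (MvPowerSeries (Fin n) k) K₀ L] [Module.Finite K₀ L]
    [CharP L p] (f : L) (hf : ∀ y : L, y ^ p ≠ f) :
    ∃ Δ : (AdicCompletion I A ⊗[MvPowerSeries (Fin n) k] L) →+
        (AdicCompletion I A ⊗[MvPowerSeries (Fin n) k] L),
      (∀ a b, Δ (a * b) = a * Δ b + b * Δ a) ∧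
      IsUnit (Δ ((1 : AdicCompletion I A) ⊗ₜ[MvPowerSeries (Fin n) k] f)) := by
  classical
  obtain ⟨δ, d, e, D, hδf, hD, hδ⟩ :=
    Groth.Agent.Lib.Helper7.DerExist.exists_derivation_of_not_pow (k := k) p n K₀ L f hf
  -- extend the `D j` to `A` and then to the completion
  have hDA : ∀ j, ∃ D' : Derivation ℤ A A, ∀ r : MvPowerSeries (Fin n) k,
      D' (algebraMap _ A r) = algebraMap _ A (D j r) := fun j =>
    Groth.Agent.Lib.Helper7.DerTensor.exists_derivation_of_isLocalization M A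
      (derivationOfLeibniz (D j) (hD j))
  choose DA hDA using hDA
  have hDC : ∀ j, ∃ Dhat : Derivation ℤ (AdicCompletion I A) (AdicCompletion I A),
      ∀ a : A, Dhat (algebraMap A (AdicCompletion I A) a) =
        algebraMap A (AdicCompletion I A) (DA j a) := fun j =>
    Groth.Agent.Lib.Helper19.exists_derivation_adicCompletion I (DA j)
  choose DC hDC using hDC
  -- the two partial derivations
  let dC : AdicCompletion I A →+ AdicCompletion I A ⊗[MvPowerSeries (Fin n) k] L :=
    ∑ j, ((TensorProduct.mk (MvPowerSeries (Fin n) k) (AdicCompletion I A) L).flip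
      (e j)).toAddMonoidHom.comp (DC j : AdicCompletion I A →+ AdicCompletion I A)
  have hdC : ∀ c, dC c = ∑ j, (DC j c) ⊗ₜ[MvPowerSeries (Fin n) k] (e j) := by
    intro c
    simp [dC]
  let dL : L →+ AdicCompletion I A ⊗[MvPowerSeries (Fin n) k] L :=
    ((TensorProduct.mk (MvPowerSeries (Fin n) k) (AdicCompletion I A) L)
      1).toAddMonoidHom.comp (δ : L →+ L)
  have hdL : ∀ l, dL l = (1 : AdicCompletion I A) ⊗ₜ[MvPowerSeries (Fin n) k] (δ l) := fun l => rfl
  have h1 : ∀ a b : AdicCompletion I A, dC (a * b) =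
      (a ⊗ₜ[MvPowerSeries (Fin n) k] (1 : L)) * dC b +
        (b ⊗ₜ[MvPowerSeries (Fin n) k] (1 : L)) * dC a := by
    intro a b
    rw [hdC, hdC, hdC]
    exact leibniz_sum_tmul DC e a b
  have h2 : ∀ a b : L, dL (a * b) =
      ((1 : AdicCompletion I A) ⊗ₜ[MvPowerSeries (Fin n) k] a) * dL b +
        ((1 : AdicCompletion I A) ⊗ₜ[MvPowerSeries (Fin n) k] b) * dL a := by
    intro a b
    rw [hdL, hdL, hdL, Derivation.leibniz, smul_eq_mul, smul_eq_mul, TensorProduct.tmul_add,
      Algebra.TensorProduct.tmul_mul_tmul, Algebra.TensorProduct.tmul_mul_tmul, one_mul]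
  have h3 : ∀ r : MvPowerSeries (Fin n) k,
      dC (algebraMap _ (AdicCompletion I A) r) = dL (algebraMap _ L r) := by
    intro r
    rw [hdC, hdL, hδ, TensorProduct.tmul_sum]
    refine Finset.sum_congr rfl fun j _ => ?_
    rw [IsScalarTower.algebraMap_apply (MvPowerSeries (Fin n) k) A (AdicCompletion I A), hDC, hDA,
      ← IsScalarTower.algebraMap_apply (MvPowerSeries (Fin n) k) A (AdicCompletion I A),
      Algebra.algebraMap_eq_smul_one, ← Algebra.smul_def, TensorProduct.smul_tmul]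
  obtain ⟨Δ, hΔleib, hΔ⟩ := Groth.Agent.Lib.Helper7.DerTensor.exists_addMonoidHom_tensorProduct
    (R := MvPowerSeries (Fin n) k) (L := AdicCompletion I A) (C := L) dC dL h1 h2 h3
  refine ⟨Δ, hΔleib, ?_⟩
  rw [hΔ, hdL, hdC]
  have h0 : ∀ j, DC j 1 = 0 := fun j => Derivation.map_one_eq_zero _
  simp only [h0, TensorProduct.zero_tmul, Finset.sum_const_zero, mul_zero, zero_add]
  rw [← Algebra.TensorProduct.one_def, one_mul]
  have hu : IsUnit (δ f) := isUnit_iff_ne_zero.2 hδf
  exact hu.map (Algebra.TensorProduct.includeRight :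
    L →ₐ[MvPowerSeries (Fin n) k] AdicCompletion I A ⊗[MvPowerSeries (Fin n) k] L)

/-- Stacks 07PE in `AdjoinRoot` form. -/
lemma isRegularRing_adjoinRoot_X_pow_sub_C {T : Type u} [CommRing T] [IsRegularRing T]
    (D : Derivation ℤ T T) (f : T) (hD : IsUnit (D f)) (m : ℕ) :
    IsRegularRing (AdjoinRoot (X ^ m - C f : T[X])) := by
  have h := Groth.Agent.S9227.result T f D hD (X ^ m)
  have h2 : (Polynomial.map (Int.castRingHom T) (X ^ m : ℤ[X]) - C f) = X ^ m - C f := by simp
  rw [h2] at h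
  exact h

/-- base change of `S[X]/(X^m - f)` -/
lemma isRegularRing_tensor_adjoinRoot_aux {R S T : Type u} [CommRing R] [CommRing S] [CommRing T]
    [Algebra R S] [Algebra R T] (m : ℕ) (f : S)
    (h1 : IsRegularRing (AdjoinRoot (R := T ⊗[R] S) (X ^ m - C ((1 : T) ⊗ₜ[R] f)))) :
    IsRegularRing (T ⊗[R] AdjoinRoot (X ^ m - C f : S[X])) := by
  have hq : Polynomial.map (Algebra.TensorProduct.includeRight : S →ₐ[R] T ⊗[R] S).toRingHom
      (X ^ m - C f : S[X]) = (X ^ m - C ((1 : T) ⊗ₜ[R] f) :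
        @Polynomial (T ⊗[R] S) CommRing.toCommSemiring.toSemiring) := by
    simp
  let e3 := AdjoinRoot.tensorAlgEquiv (R := R) (S := S)
    (T := T) (X ^ m - C f : S[X]) _ hq
  exact IsRegularRing.of_ringEquiv
    (R := AdjoinRoot (R := T ⊗[R] S) (X ^ m - C ((1 : T) ⊗ₜ[R] f))) e3.symm.toRingEquiv

/-- **The `p`-th root step.** -/
theorem isRegularRing_tensor_of_adjoinRoot {k : Type u} [Field k] (p : ℕ) [Fact p.Prime]
    [CharP k p] (n : ℕ)
    (M : Submonoid (MvPowerSeries (Fin n) k)) (A : Type u) [CommRing A]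
    [Algebra (MvPowerSeries (Fin n) k) A] [IsLocalization M A] (I : Ideal A)
    (K₀ : Type u) [Field K₀] [Algebra (MvPowerSeries (Fin n) k) K₀]
    [IsFractionRing (MvPowerSeries (Fin n) k) K₀]
    (L : Type u) [Field L] [Algebra K₀ L] [Algebra (MvPowerSeries (Fin n) k) L]
    [IsScalarTower (MvPowerSeries (Fin n) k) K₀ L] [Module.Finite K₀ L]
    [CharP L p] (f : L) (hf : ∀ y : L, y ^ p ≠ f)
    (hreg : IsRegularRing (L ⊗[MvPowerSeries (Fin n) k] AdicCompletion I A))
    (L' : Type u) [Field L'] [Algebra L L'] [Algebra (MvPowerSeries (Fin n) k) L']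
    [IsScalarTower (MvPowerSeries (Fin n) k) L L']
    (e : AdjoinRoot (X ^ p - C f : L[X]) ≃ₐ[L] L') :
    IsRegularRing (L' ⊗[MvPowerSeries (Fin n) k] AdicCompletion I A) := by
  classical
  haveI regT : IsRegularRing (AdicCompletion I A ⊗[MvPowerSeries (Fin n) k] L) :=
    IsRegularRing.of_ringEquiv (R := L ⊗[MvPowerSeries (Fin n) k] AdicCompletion I A)
      (Algebra.TensorProduct.comm (MvPowerSeries (Fin n) k) L (AdicCompletion I A)).toRingEquiv
  obtain ⟨Δ, hleib, hu⟩ := exists_derivation_tensor (k := k) p n M A I K₀ L f hf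
  have hu' : IsUnit ((derivationOfLeibniz Δ hleib)
      ((1 : AdicCompletion I A) ⊗ₜ[MvPowerSeries (Fin n) k] f)) := hu
  have h1 := isRegularRing_adjoinRoot_X_pow_sub_C (derivationOfLeibniz Δ hleib)
    ((1 : AdicCompletion I A) ⊗ₜ[MvPowerSeries (Fin n) k] f) hu' p
  have h3 : IsRegularRing (AdicCompletion I A ⊗[MvPowerSeries (Fin n) k]
      AdjoinRoot (X ^ p - C f : L[X])) :=
    isRegularRing_tensor_adjoinRoot_aux (R := MvPowerSeries (Fin n) k) (S := L)
      (T := AdicCompletion I A) p f h1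
  have h4 : IsRegularRing (AdicCompletion I A ⊗[MvPowerSeries (Fin n) k] L') :=
    IsRegularRing.of_ringEquiv (R := AdicCompletion I A ⊗[MvPowerSeries (Fin n) k]
      AdjoinRoot (X ^ p - C f : L[X]))
      (Algebra.TensorProduct.congr (AlgEquiv.refl : AdicCompletion I A ≃ₐ[MvPowerSeries (Fin n) k]
        AdicCompletion I A) (e.restrictScalars (MvPowerSeries (Fin n) k))).toRingEquiv
  exact IsRegularRing.of_ringEquiv (R := AdicCompletion I A ⊗[MvPowerSeries (Fin n) k] L')
    (Algebra.TensorProduct.comm (MvPowerSeries (Fin n) k) (AdicCompletion I A) L').toRingEquiv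

end

end Groth.Agent.Lib.Helper7.PsCore
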