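import Mathlib
import Groth.Agent.Lib.Helper28GeomFibre
import Groth.Agent.Lib.Helper7RegHomField

/-!
# The separable step for formal fibres (helper7)

If `E₂/E₁` is a finite separable field extension and `E₁ ⊗[R₀] C` is a regular (Noetherian) ring,
then `E₂ ⊗[R₀] C` is regular.
-/

set_option autoImplicit false
set_option linter.style.haveILetI false
set_option linter.unusedSectionVars false
universe u

namespace Groth.Agent.Lib.Helper7.PsSep

open TensorProduct

/-- finite separable base change of a regular ring over a field is regular -/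
theorem isRegularRing_tensor_of_isSeparable_aux (E₁ E₂ B : Type u) [Field E₁] [Field E₂]
    [CommRing B] [Algebra E₁ E₂] [Algebra E₁ B] [Module.Finite E₁ E₂] [Algebra.IsSeparable E₁ E₂]
    [IsRegularRing B] : IsRegularRing (B ⊗[E₁] E₂) := by
  haveI : Module.Finite B (B ⊗[E₁] E₂) := inferInstance
  haveI : IsNoetherianRing (B ⊗[E₁] E₂) := IsNoetherianRing.of_finite B _
  haveI : Module.Flat B (B ⊗[E₁] E₂) := inferInstance
  apply Groth.Agent.Lib.Helper28.isRegularRing_of_flat_of_forall_isRegularRing_fiber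
    (A := B) (B := B ⊗[E₁] E₂)
  intro P _
  let e := Algebra.TensorProduct.cancelBaseChange E₁ B P.ResidueField P.ResidueField E₂
  haveI : Algebra.FormallyUnramified E₁ E₂ := Algebra.FormallyUnramified.of_isSeparable E₁ E₂
  haveI : Algebra.FormallyUnramified P.ResidueField (P.ResidueField ⊗[E₁] E₂) := inferInstance
  haveI : Module.Finite P.ResidueField (P.ResidueField ⊗[E₁] E₂) := inferInstance
  haveI : IsReduced (P.ResidueField ⊗[E₁] E₂) :=
    Algebra.FormallyUnramified.isReduced_of_field P.ResidueField _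
  haveI : IsArtinianRing (P.ResidueField ⊗[E₁] E₂) := IsArtinianRing.of_finite P.ResidueField _
  haveI := Groth.Agent.Lib.Helper7.RegHomField.isRegularRing_of_isArtinianRing_of_isReduced
    (P.ResidueField ⊗[E₁] E₂)
  exact IsRegularRing.of_ringEquiv (R := P.ResidueField ⊗[E₁] E₂) e.symm.toRingEquiv

/-- **The separable step.** -/
theorem isRegularRing_tensor_of_isSeparable (R₀ : Type u) [CommRing R₀] (E₁ E₂ C : Type u)
    [Field E₁] [Field E₂] [CommRing C] [Algebra R₀ E₁] [Algebra R₀ E₂] [Algebra E₁ E₂]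
    [IsScalarTower R₀ E₁ E₂] [Algebra R₀ C] [Module.Finite E₁ E₂] [Algebra.IsSeparable E₁ E₂]
    (h : IsRegularRing (E₁ ⊗[R₀] C)) :
    IsRegularRing (E₂ ⊗[R₀] C) := by
  have h1 := isRegularRing_tensor_of_isSeparable_aux E₁ E₂ (E₁ ⊗[R₀] C)
  have h2 : IsRegularRing (E₂ ⊗[E₁] (E₁ ⊗[R₀] C)) :=
    IsRegularRing.of_ringEquiv (R := (E₁ ⊗[R₀] C) ⊗[E₁] E₂)
      (Algebra.TensorProduct.comm E₁ (E₁ ⊗[R₀] C) E₂).toRingEquiv
  exact IsRegularRing.of_ringEquiv (R := E₂ ⊗[E₁] (E₁ ⊗[R₀] C))
    (Algebra.TensorProduct.cancelBaseChange R₀ E₁ E₂ E₂ C).toRingEquiv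

end Groth.Agent.Lib.Helper7.PsSep
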