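import Mathlib
import Groth.Agent.Lib.Helper7PsCore1
import Groth.Agent.Lib.Helper7PsSepStep
import Groth.Agent.Lib.Helper7PInsepInd

/-!
# Formal fibres of `k[[x]]` in characteristic `p`: all finite extensions (helper7)

`R₀ = k[[x_1,…,x_n]]`, `A` a localization of `R₀`, `Ĉ` an adic completion of `A`, `K₀ = Frac R₀`.
If `K₀ ⊗[R₀] Ĉ` is regular then `L ⊗[R₀] Ĉ` is regular for every finite extension `L/K₀`.
-/

set_option autoImplicit false
set_option linter.style.haveILetI false
set_option linter.unusedSectionVars false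
universe u

namespace Groth.Agent.Lib.Helper7.PsMainP

open TensorProduct Polynomial

theorem isRegularRing_tensor_of_finite {k : Type u} [Field k] (p : ℕ) [Fact p.Prime]
    [CharP k p] (n : ℕ)
    (M : Submonoid (MvPowerSeries (Fin n) k)) (A : Type u) [CommRing A]
    [Algebra (MvPowerSeries (Fin n) k) A] [IsLocalization M A] (I : Ideal A)
    (K₀ : Type u) [Field K₀] [Algebra (MvPowerSeries (Fin n) k) K₀]
    [IsFractionRing (MvPowerSeries (Fin n) k) K₀]
    (hbase : IsRegularRing (K₀ ⊗[MvPowerSeries (Fin n) k] AdicCompletion I A))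
    (L : Type u) [Field L] [Algebra K₀ L] [Algebra (MvPowerSeries (Fin n) k) L]
    [IsScalarTower (MvPowerSeries (Fin n) k) K₀ L] [Module.Finite K₀ L] :
    IsRegularRing (L ⊗[MvPowerSeries (Fin n) k] AdicCompletion I A) := by
  classical
  haveI : CharP K₀ p := by
    have hinj : Function.Injective ((algebraMap (MvPowerSeries (Fin n) k) K₀).comp
        (MvPowerSeries.C (σ := Fin n) (R := k))) := RingHom.injective _
    exact charP_of_injective_ringHom hinj p
  -- the property
  let P : ∀ (E : Type u) [Field E] [Algebra K₀ E], Prop := fun E _ _ =>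
    ∀ (inst : Algebra (MvPowerSeries (Fin n) k) E)
      (_ : IsScalarTower (MvPowerSeries (Fin n) k) K₀ E),
      IsRegularRing (E ⊗[MvPowerSeries (Fin n) k] AdicCompletion I A)
  have hiso : ∀ (E E' : Type u) [Field E] [Field E'] [Algebra K₀ E] [Algebra K₀ E'],
      (E ≃ₐ[K₀] E') → P E → P E' := by
    intro E E' _ _ _ _ e hPE inst' h'
    letI : Algebra (MvPowerSeries (Fin n) k) E :=
      ((algebraMap K₀ E).comp (algebraMap (MvPowerSeries (Fin n) k) K₀)).toAlgebra
    haveI : IsScalarTower (MvPowerSeries (Fin n) k) K₀ E :=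
      IsScalarTower.of_algebraMap_eq (fun _ => rfl)
    have h1 := hPE inferInstance inferInstance
    exact IsRegularRing.of_ringEquiv
      (R := E ⊗[MvPowerSeries (Fin n) k] AdicCompletion I A)
      (Algebra.TensorProduct.congr (e.restrictScalars (MvPowerSeries (Fin n) k))
        (AlgEquiv.refl : AdicCompletion I A ≃ₐ[MvPowerSeries (Fin n) k]
          AdicCompletion I A)).toRingEquiv
  have hstep : ∀ (E : Type u) [Field E] [Algebra K₀ E] [Module.Finite K₀ E] (a : E),
      (∀ y : E, y ^ p ≠ a) →
      ∀ (E' : Type u) [Field E'] [Algebra K₀ E'] [Algebra E E'] [IsScalarTower K₀ E E'],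
        (AdjoinRoot (X ^ p - C a : E[X]) ≃ₐ[E] E') → P E → P E' := by
    intro E _ _ _ a ha E' _ _ _ _ e hPE inst' h'
    letI : Algebra (MvPowerSeries (Fin n) k) E :=
      ((algebraMap K₀ E).comp (algebraMap (MvPowerSeries (Fin n) k) K₀)).toAlgebra
    haveI : IsScalarTower (MvPowerSeries (Fin n) k) K₀ E :=
      IsScalarTower.of_algebraMap_eq (fun _ => rfl)
    have h1 := hPE inferInstance inferInstance
    haveI : CharP E p := charP_of_injective_algebraMap (algebraMap K₀ E).injective p
    haveI : IsScalarTower (MvPowerSeries (Fin n) k) E E' :=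
      IsScalarTower.of_algebraMap_eq (fun r => by
        rw [IsScalarTower.algebraMap_apply (MvPowerSeries (Fin n) k) K₀ E',
          IsScalarTower.algebraMap_apply K₀ E E']
        rfl)
    exact Groth.Agent.Lib.Helper7.PsCore.isRegularRing_tensor_of_adjoinRoot (k := k) p n M A I K₀
      E a ha h1 E' e
  have hind := Groth.Agent.Lib.Helper7.PInsepInd.induction_purelyInseparable p K₀ P hiso hstep
  -- the separable closure
  let Es := separableClosure K₀ L
  have hPEs : P Es := by
    intro inst h
    exact Groth.Agent.Lib.Helper7.PsSep.isRegularRing_tensor_of_isSeparable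
      (MvPowerSeries (Fin n) k) K₀ Es (AdicCompletion I A) hbase
  haveI : IsPurelyInseparable Es L := separableClosure.isPurelyInseparable K₀ L
  exact hind _ Es L rfl hPEs inferInstance inferInstance

end Groth.Agent.Lib.Helper7.PsMainP
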