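import Mathlib
import Groth.Agent.Lib.Helper7PsCoreGen
import Groth.Agent.Lib.Helper7PsMainP
import Groth.Agent.Lib.Helper7FracLoc
import Groth.Agent.Lib.Helper28RegPow

/-!
# The generic formal fibres of localizations of `Λ[[x_1,…,x_n]]` are geometrically regular
(helper7)

`Λ` a field of characteristic `p` (via derivations), or any regular domain `A₀` of characteristic
zero (only separable extensions occur).
-/

set_option autoImplicit false
set_option linter.style.haveILetI false
set_option linter.unusedSectionVars false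
universe u

namespace Groth.Agent.Lib.Helper7.PsCoreP

open TensorProduct IsLocalRing

/-- characteristic `p`, `A₀ = k[[x_1,…,x_n]]` -/
theorem isGeometricallyRegular_generic_formalFibre_charP (k : Type u) [Field k] (p : ℕ)
    [Fact p.Prime] [CharP k p] (n : ℕ) (𝔭 : Ideal (MvPowerSeries (Fin n) k)) [𝔭.IsPrime] :
    CAlg.IsGeometricallyRegular (⊥ : Ideal (Localization.AtPrime 𝔭)).ResidueField
      (EGA4.formalFibre (Localization.AtPrime 𝔭) (⊥ : Ideal (Localization.AtPrime 𝔭))) := by
  haveI : IsDomain (MvPowerSeries (Fin n) k) := NoZeroDivisors.to_isDomain _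
  haveI : IsRegularRing (MvPowerSeries (Fin n) k) :=
    Groth.Agent.Lib.Helper28.isRegularRing_mvPowerSeries_fin k n
  haveI : IsFractionRing (MvPowerSeries (Fin n) k)
      (⊥ : Ideal (Localization.AtPrime 𝔭)).ResidueField :=
    Groth.Agent.Lib.Helper7.FracLoc.isFractionRing_of_isLocalization (MvPowerSeries (Fin n) k)
      (Localization.AtPrime 𝔭) _ 𝔭.primeCompl
  apply Groth.Agent.Lib.Helper7.PsCoreGen.isGeometricallyRegular_generic_formalFibre
  intro L _ _ _ _ _
  exact Groth.Agent.Lib.Helper7.PsMainP.isRegularRing_tensor_of_finite (k := k) p n 𝔭.primeCompl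
    (Localization.AtPrime 𝔭) (maximalIdeal (Localization.AtPrime 𝔭))
    (⊥ : Ideal (Localization.AtPrime 𝔭)).ResidueField
    (Groth.Agent.Lib.Helper7.PsCoreGen.isRegularRing_base (MvPowerSeries (Fin n) k) 𝔭) L

/-- characteristic zero, `A₀` any regular domain -/
theorem isGeometricallyRegular_generic_formalFibre_charZero (A₀ : Type u) [CommRing A₀]
    [IsDomain A₀] [IsRegularRing A₀] [CharZero A₀] (𝔭 : Ideal A₀) [𝔭.IsPrime] :
    CAlg.IsGeometricallyRegular (⊥ : Ideal (Localization.AtPrime 𝔭)).ResidueField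
      (EGA4.formalFibre (Localization.AtPrime 𝔭) (⊥ : Ideal (Localization.AtPrime 𝔭))) := by
  haveI : IsFractionRing A₀ (⊥ : Ideal (Localization.AtPrime 𝔭)).ResidueField :=
    Groth.Agent.Lib.Helper7.FracLoc.isFractionRing_of_isLocalization A₀
      (Localization.AtPrime 𝔭) _ 𝔭.primeCompl
  haveI : CharZero (⊥ : Ideal (Localization.AtPrime 𝔭)).ResidueField :=
    charZero_of_injective_algebraMap
      (IsFractionRing.injective A₀ (⊥ : Ideal (Localization.AtPrime 𝔭)).ResidueField)
  apply Groth.Agent.Lib.Helper7.PsCoreGen.isGeometricallyRegular_generic_formalFibre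
  intro L _ _ _ _ _
  exact Groth.Agent.Lib.Helper7.PsSep.isRegularRing_tensor_of_isSeparable A₀
    (⊥ : Ideal (Localization.AtPrime 𝔭)).ResidueField L _
    (Groth.Agent.Lib.Helper7.PsCoreGen.isRegularRing_base A₀ 𝔭)

end Groth.Agent.Lib.Helper7.PsCoreP
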