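import Mathlib
import Groth.Agent.Lib.Helper7PsCoreP
import Groth.Agent.Lib.Helper7QFFF2
import Groth.Agent.Lib.Helper7GenFF
import Groth.Agent.Lib.Helper19Normalization2
import Groth.Agent.Lib.Helper19CohenRingLift
import Groth.Agent.Lib.Helper28ComplNagata

/-!
# A complete Noetherian local ring is a G-ring (helper7)
-/

set_option autoImplicit false
set_option linter.style.haveILetI false
set_option linter.unusedSectionVars false
universe u

namespace Groth.Agent.Lib.Helper7.PsGRing

open TensorProduct IsLocalRing

/-- transfer of the generic formal fibres along a finite injective map of domains -/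
theorem generic_formalFibre_of_finite (A₀ D : Type u) [CommRing A₀] [IsDomain A₀]
    [IsNoetherianRing A₀] [CommRing D] [IsDomain D] [IsNoetherianRing D] [Algebra A₀ D]
    [Module.Finite A₀ D] (hinj : Function.Injective (algebraMap A₀ D))
    (hA₀ : ∀ (𝔭 : Ideal A₀) [𝔭.IsPrime],
      CAlg.IsGeometricallyRegular (⊥ : Ideal (Localization.AtPrime 𝔭)).ResidueField
        (EGA4.formalFibre (Localization.AtPrime 𝔭) (⊥ : Ideal (Localization.AtPrime 𝔭))))
    (P : Ideal D) [P.IsPrime] :
    CAlg.IsGeometricallyRegular (⊥ : Ideal (Localization.AtPrime P)).ResidueField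
      (EGA4.formalFibre (Localization.AtPrime P) (⊥ : Ideal (Localization.AtPrime P))) := by
  haveI : Algebra.QuasiFiniteAt A₀ P := inferInstance
  refine Groth.Agent.Lib.Helper7.QFFF.main_pointwise A₀ D P ⊥ ⊥ ?_ (hA₀ _)
  rw [Ideal.comap_bot_of_injective, Ideal.comap_bot_of_injective]
  · rw [IsScalarTower.algebraMap_eq A₀ D (Localization.AtPrime P)]
    exact (IsLocalization.injective (Localization.AtPrime P) P.primeCompl_le_nonZeroDivisors).comp
      hinj
  · exact IsLocalization.injective (Localization.AtPrime (Ideal.comap (algebraMap A₀ D) P))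
      (M := (Ideal.comap (algebraMap A₀ D) P).primeCompl)
      (Ideal.primeCompl_le_nonZeroDivisors (Ideal.comap (algebraMap A₀ D) P))

/-- generic formal fibres of localizations of a complete local domain -/
theorem generic_formalFibre_of_complete (D : Type u) [CommRing D] [IsDomain D] [IsLocalRing D]
    [IsNoetherianRing D] [IsAdicComplete (maximalIdeal D) D] (P : Ideal D) [P.IsPrime] :
    CAlg.IsGeometricallyRegular (⊥ : Ideal (Localization.AtPrime P)).ResidueField
      (EGA4.formalFibre (Localization.AtPrime P) (⊥ : Ideal (Localization.AtPrime P))) := by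
  obtain ⟨Λ, _, n, f, hΛ, hinj, hfin, -⟩ :=
    Groth.Agent.Lib.Helper19.Normalization.exists_finite_injective_mvPowerSeries_of_complete_local_domain D
  letI : Algebra (MvPowerSeries (Fin n) Λ) D := f.toAlgebra
  haveI : Module.Finite (MvPowerSeries (Fin n) Λ) D := hfin
  rcases hΛ with hΛ | hΛ
  · -- a field
    letI : Field Λ := hΛ.toField
    haveI : IsDomain (MvPowerSeries (Fin n) Λ) := NoZeroDivisors.to_isDomain _
    haveI : IsRegularRing (MvPowerSeries (Fin n) Λ) :=
      Groth.Agent.Lib.Helper28.isRegularRing_mvPowerSeries_fin Λ n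
    obtain ⟨p, hp⟩ := CharP.exists Λ
    rcases CharP.char_is_prime_or_zero Λ p with hpp | rfl
    · haveI : Fact p.Prime := ⟨hpp⟩
      exact generic_formalFibre_of_finite (MvPowerSeries (Fin n) Λ) D hinj
        (fun 𝔭 _ => Groth.Agent.Lib.Helper7.PsCoreP.isGeometricallyRegular_generic_formalFibre_charP
          Λ p n 𝔭) P
    · haveI : CharZero Λ := CharP.charP_to_charZero Λ
      haveI : CharZero (MvPowerSeries (Fin n) Λ) :=
        charZero_of_injective_ringHom (f := (MvPowerSeries.C (σ := Fin n) (R := Λ)))
          (MvPowerSeries.C_injective)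
      exact generic_formalFibre_of_finite (MvPowerSeries (Fin n) Λ) D hinj
        (fun 𝔭 _ =>
          Groth.Agent.Lib.Helper7.PsCoreP.isGeometricallyRegular_generic_formalFibre_charZero
            (MvPowerSeries (Fin n) Λ) 𝔭) P
  · -- a Cohen ring
    obtain ⟨hdom, hdvr, -, -⟩ := id hΛ
    haveI := hdom
    haveI := hdvr
    haveI : CharZero Λ := Groth.Agent.Lib.Helper19.FlatLift.charZero_of_isCohenRing hΛ
    haveI : IsDomain (MvPowerSeries (Fin n) Λ) := NoZeroDivisors.to_isDomain _
    haveI : IsRegularRing Λ := inferInstance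
    haveI : IsRegularRing (MvPowerSeries (Fin n) Λ) :=
      Groth.Agent.Lib.Helper28.isRegularRing_mvPowerSeries_fin Λ n
    haveI : CharZero (MvPowerSeries (Fin n) Λ) :=
      charZero_of_injective_ringHom (f := (MvPowerSeries.C (σ := Fin n) (R := Λ)))
        (MvPowerSeries.C_injective)
    exact generic_formalFibre_of_finite (MvPowerSeries (Fin n) Λ) D hinj
      (fun 𝔭 _ =>
        Groth.Agent.Lib.Helper7.PsCoreP.isGeometricallyRegular_generic_formalFibre_charZero
          (MvPowerSeries (Fin n) Λ) 𝔭) P

/-- **A complete Noetherian local ring is a G-ring** (Stacks 07PS). -/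
theorem isGRing_of_isAdicComplete_local (R : Type u) [CommRing R] [IsLocalRing R]
    [IsNoetherianRing R] [IsAdicComplete (maximalIdeal R) R] : CAlg.IsGRing R := by
  apply Groth.Agent.Lib.Helper7.GenFF.isGRing_of_generic_formalFibres R
  intro q _ P _
  haveI : IsLocalRing (R ⧸ q) :=
    IsLocalRing.of_surjective' (Ideal.Quotient.mk q) Ideal.Quotient.mk_surjective
  haveI : IsAdicComplete (maximalIdeal (R ⧸ q)) (R ⧸ q) :=
    Groth.Agent.Lib.Helper28.isAdicComplete_quotient_local q
  exact generic_formalFibre_of_complete (R ⧸ q) P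

end Groth.Agent.Lib.Helper7.PsGRing
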