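import Mathlib
import Groth.Agent.Lib.Helper7PsGRing
import Groth.Agent.Lib.Helper7RegLoc
import Groth.Agent.Lib.Helper7ExcLoc
import Groth.Agent.Lib.Helper28ComplCat
import Groth.Agent.Lib.Helper19Jacobson
import Groth.Agent.S4704

/-!
# G-rings can be tested at maximal ideals (helper7)
-/

set_option autoImplicit false
set_option linter.style.haveILetI false
set_option linter.unusedSectionVars false
universe u

namespace Groth.Agent.Lib.Helper7.GRingMax

open TensorProduct IsLocalRing

/-- a Noetherian local ring whose completion map is regular is a G-ring -/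
theorem isGRing_of_isRegularHom_cpl (A : Type u) [CommRing A] [IsLocalRing A] [IsNoetherianRing A]
    (h : CAlg.IsRegularHom A (EGA4.Cpl A)) : CAlg.IsGRing A := by
  haveI := Groth.Agent.Lib.Helper28.isAdicComplete_maximalIdeal_adicCompletion A
  haveI : IsNoetherianRing (EGA4.Cpl A) := Groth.Agent.Lib.Helper19.isNoetherianRing_adicCompletion _
  have hG := Groth.Agent.Lib.Helper7.PsGRing.isGRing_of_isAdicComplete_local (EGA4.Cpl A)
  haveI : Module.FaithfullyFlat A (EGA4.Cpl A) :=
    Groth.Agent.Lib.Helper19.faithfullyFlat_adicCompletion_of_le_jacobson A (maximalIdeal A)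
      (IsLocalRing.maximalIdeal_le_jacobson ⊥)
  have key : ∀ (Q : Ideal (EGA4.Cpl A)) [Q.IsPrime] (P : Ideal A) [P.IsPrime],
      P = Q.comap (algebraMap A (EGA4.Cpl A)) →
      CAlg.IsRegularHom (Localization.AtPrime P) (EGA4.Cpl (Localization.AtPrime P)) := by
    intro Q _ P _ hP
    subst hP
    letI alg := (Localization.localRingHom (Ideal.comap (algebraMap A (EGA4.Cpl A)) Q) Q
      (algebraMap A (EGA4.Cpl A)) rfl).toAlgebra
    have h1 := Groth.Agent.Lib.Helper7.RegLoc.isRegularHom_localRingHom A (EGA4.Cpl A) h Q
    haveI : IsLocalHom (algebraMap (Localization.AtPrime (Ideal.comap (algebraMap A (EGA4.Cpl A)) Q))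
        (Localization.AtPrime Q)) :=
      Localization.isLocalHom_localRingHom _ _ _ rfl
    haveI : IsNoetherianRing (Localization.AtPrime (Ideal.comap (algebraMap A (EGA4.Cpl A)) Q)) :=
      IsLocalization.isNoetherianRing (Ideal.comap (algebraMap A (EGA4.Cpl A)) Q).primeCompl _
        inferInstance
    haveI : IsNoetherianRing (Localization.AtPrime Q) :=
      IsLocalization.isNoetherianRing Q.primeCompl _ inferInstance
    exact Groth.Agent.S4704.result _ _ h1 (hG.2 Q)
  refine ⟨inferInstance, fun P _ => ?_⟩
  obtain ⟨Q, hQ⟩ := PrimeSpectrum.comap_surjective_of_faithfullyFlat (A := A) (B := EGA4.Cpl A)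
    ⟨P, inferInstance⟩
  haveI := Q.2
  exact key Q.asIdeal P (by
    have := congrArg PrimeSpectrum.asIdeal hQ
    exact this.symm)

/-- **S2047**: a Noetherian ring is a G-ring iff the completion maps at maximal ideals are
regular -/
theorem isGRing_iff_maximalIdeals {R : Type u} [CommRing R] [IsNoetherianRing R] :
    CAlg.IsGRing R ↔ ∀ (m : Ideal R) [m.IsMaximal],
      CAlg.IsRegularHom (Localization.AtPrime m)
        (AdicCompletion (IsLocalRing.maximalIdeal (Localization.AtPrime m))
          (Localization.AtPrime m)) := by
  constructor
  · intro h m _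
    exact h.2 m
  · intro h
    refine ⟨inferInstance, fun p _ => ?_⟩
    obtain ⟨m, hm, hpm⟩ := Ideal.exists_le_maximal p (Ideal.IsPrime.ne_top inferInstance)
    haveI := hm
    haveI : IsNoetherianRing (Localization.AtPrime m) :=
      IsLocalization.isNoetherianRing m.primeCompl _ inferInstance
    have hG := isGRing_of_isRegularHom_cpl (Localization.AtPrime m) (h m)
    -- the prime of `R_m` over `p`
    have hdisj : Disjoint (m.primeCompl : Set R) p := by
      rw [Set.disjoint_left]
      intro x hx hxp
      exact hx (hpm hxp)
    haveI hP : (p.map (algebraMap R (Localization.AtPrime m))).IsPrime :=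
      IsLocalization.isPrime_of_isPrime_disjoint m.primeCompl _ p inferInstance hdisj
    have hcomap : (p.map (algebraMap R (Localization.AtPrime m))).comap
        (algebraMap R (Localization.AtPrime m)) = p :=
      IsLocalization.comap_map_of_isPrime_disjoint m.primeCompl _ inferInstance hdisj
    have h1 := hG.2 (p.map (algebraMap R (Localization.AtPrime m)))
    have key : ∀ (p' : Ideal R) [p'.IsPrime],
        p' = (p.map (algebraMap R (Localization.AtPrime m))).comap
          (algebraMap R (Localization.AtPrime m)) →
        CAlg.IsRegularHom (Localization.AtPrime p') (EGA4.Cpl (Localization.AtPrime p')) := by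
      intro p' _ hp'
      subst hp'
      haveI : IsLocalization.AtPrime
          (Localization.AtPrime (p.map (algebraMap R (Localization.AtPrime m))))
          ((p.map (algebraMap R (Localization.AtPrime m))).comap
            (algebraMap R (Localization.AtPrime m))) :=
        IsLocalization.isLocalization_isLocalization_atPrime_isLocalization m.primeCompl _
          (p.map (algebraMap R (Localization.AtPrime m)))
      let e : Localization.AtPrime (p.map (algebraMap R (Localization.AtPrime m))) ≃ₐ[R]
          Localization.AtPrime ((p.map (algebraMap R (Localization.AtPrime m))).comap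
            (algebraMap R (Localization.AtPrime m))) :=
        IsLocalization.algEquiv ((p.map (algebraMap R (Localization.AtPrime m))).comap
            (algebraMap R (Localization.AtPrime m))).primeCompl _ _
      haveI : IsNoetherianRing
          (Localization.AtPrime (p.map (algebraMap R (Localization.AtPrime m)))) :=
        IsLocalization.isNoetherianRing
          (p.map (algebraMap R (Localization.AtPrime m))).primeCompl _ inferInstance
      exact Groth.Agent.Lib.Helper7.ExcLoc.isRegularHom_cpl_of_ringEquiv
        (Localization.AtPrime (p.map (algebraMap R (Localization.AtPrime m)))) _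
        e.symm.toRingEquiv h1
    exact key p hcomap.symm

end Groth.Agent.Lib.Helper7.GRingMax
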