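import Mathlib

/-!
# Admissible families of subrings in characteristic `p` (helper7)

An abstract version of the family `F_S[[x^p]] ⊆ k[[x]]`: a directed family of subrings `S i` of a
ring `R`, each containing all `p`-th powers, with intersection `R^p`, each admitting an
`S i`-linear retraction `R → S i` and such that `R` is finitely generated as an `S i`-module.
-/

set_option autoImplicit false
set_option linter.style.haveILetI false
set_option linter.unusedSectionVars false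
universe u

namespace Groth.Agent.Lib.Helper7.PFamAbs

/-- an admissible family of subrings -/
structure Fam (p : ℕ) (R : Type u) [CommRing R] where
  ι : Type u
  ne : Nonempty ι
  S : ι → Subring R
  directed : ∀ a b, ∃ c, S c ≤ S a ⊓ S b
  pow_mem : ∀ i (r : R), r ^ p ∈ S i
  exists_pow : ∀ r : R, (∀ i, r ∈ S i) → ∃ u : R, u ^ p = r
  retraction : ∀ i, ∃ π : R →+ R, (∀ g, π g ∈ S i) ∧ (∀ g ∈ S i, π g = g) ∧
    ∀ b ∈ S i, ∀ g, π (b * g) = b * π g
  generators : ∀ i, ∃ (d : ℕ) (g : Fin d → R), ∀ r, ∃ c : Fin d → R,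
    (∀ j, c j ∈ S i) ∧ r = ∑ j, c j * g j

section Frac

variable {R : Type u} [CommRing R] [IsDomain R] (K₀ : Type u) [Field K₀] [Algebra R K₀]
  [IsFractionRing R K₀]

/-- the subfield of the fraction field generated by a subring -/
noncomputable def KS (T : Subring R) : Subfield K₀ :=
  Subfield.closure (algebraMap R K₀ '' (T : Set R))

variable {K₀}

lemma KS_mono {T T' : Subring R} (h : T ≤ T') : KS K₀ T ≤ KS K₀ T' :=
  Subfield.closure_mono (Set.image_mono h)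

lemma algebraMap_mem_KS {T : Subring R} {g : R} (hg : g ∈ T) : algebraMap R K₀ g ∈ KS K₀ T :=
  Subfield.subset_closure ⟨g, hg, rfl⟩

lemma mem_KS_iff {T : Subring R} {z : K₀} :
    z ∈ KS K₀ T ↔ ∃ a ∈ T, ∃ b ∈ T, b ≠ 0 ∧ algebraMap R K₀ a / algebraMap R K₀ b = z := by
  constructor
  · intro hz
    rw [KS, Subfield.mem_closure_iff] at hz
    obtain ⟨y, hy, w, hw, rfl⟩ := hz
    have himg : (algebraMap R K₀ '' (T : Set R)) = ((T.map (algebraMap R K₀) : Subring K₀) : Set K₀) :=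
      rfl
    rw [himg, Subring.closure_eq] at hy hw
    obtain ⟨a, ha, rfl⟩ := hy
    obtain ⟨b, hb, rfl⟩ := hw
    by_cases hb0 : b = 0
    · refine ⟨0, zero_mem _, 1, one_mem _, one_ne_zero, ?_⟩
      rw [hb0, map_zero, zero_div, div_zero]
    · exact ⟨a, ha, b, hb, hb0, rfl⟩
  · rintro ⟨a, ha, b, hb, -, rfl⟩
    exact div_mem (algebraMap_mem_KS ha) (algebraMap_mem_KS hb)

/-- an element of `R` lying in the fraction field of a retract `T` lies in `T` -/
theorem mem_of_algebraMap_mem_KS {T : Subring R}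
    (hret : ∃ π : R →+ R, (∀ g, π g ∈ T) ∧ (∀ g ∈ T, π g = g) ∧ ∀ b ∈ T, ∀ g, π (b * g) = b * π g)
    {h : R} (hh : algebraMap R K₀ h ∈ KS K₀ T) : h ∈ T := by
  obtain ⟨a, ha, b, hb, hb0, hab⟩ := mem_KS_iff.1 hh
  have hinj : Function.Injective (algebraMap R K₀) := IsFractionRing.injective _ _
  have hb0' : algebraMap R K₀ b ≠ 0 := fun h0 => hb0 (hinj (by rw [h0, map_zero]))
  have hbh : b * h = a := by
    apply hinj
    rw [map_mul, ← hab, mul_div_cancel₀ _ hb0']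
  obtain ⟨π, h1, h2, h3⟩ := hret
  have h4 : b * π h = b * h := by rw [← h3 b hb h, hbh, h2 a ha]
  have h5 : π h = h := mul_left_cancel₀ hb0 h4
  rw [← h5]
  exact h1 h

variable {p : ℕ} (𝓕 : Fam p R)

lemma Fam.pow_mem_KS (i : 𝓕.ι) (z : K₀) : z ^ p ∈ KS K₀ (𝓕.S i) := by
  obtain ⟨f, g, hg, rfl⟩ := IsFractionRing.div_surjective (A := R) z
  rw [div_pow, ← map_pow, ← map_pow]
  exact div_mem (algebraMap_mem_KS (𝓕.pow_mem i f)) (algebraMap_mem_KS (𝓕.pow_mem i g))

lemma Fam.KS_directed (a b : 𝓕.ι) : ∃ c, KS K₀ (𝓕.S c) ≤ KS K₀ (𝓕.S a) ⊓ KS K₀ (𝓕.S b) := by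
  obtain ⟨c, hc⟩ := 𝓕.directed a b
  exact ⟨c, le_inf (KS_mono (hc.trans inf_le_left)) (KS_mono (hc.trans inf_le_right))⟩

/-- the intersection of the `KS (S i)` is `K₀^p` -/
theorem Fam.exists_pow_eq_of_forall_mem_KS (hp : 0 < p) (z : K₀)
    (hz : ∀ i, z ∈ KS K₀ (𝓕.S i)) : ∃ y : K₀, y ^ p = z := by
  obtain ⟨f, g, hg, rfl⟩ := IsFractionRing.div_surjective (A := R) z
  have hg0 : g ≠ 0 := nonZeroDivisors.ne_zero hg
  have hinj : Function.Injective (algebraMap R K₀) := IsFractionRing.injective _ _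
  have hg0' : algebraMap R K₀ g ≠ 0 := fun h0 => hg0 (hinj (by rw [h0, map_zero]))
  have hgp0' : algebraMap R K₀ (g ^ p) ≠ 0 := by
    rw [map_pow]; exact pow_ne_zero _ hg0'
  have hall : ∀ i, f * g ^ (p - 1) ∈ 𝓕.S i := by
    intro i
    apply mem_of_algebraMap_mem_KS (K₀ := K₀) (𝓕.retraction i)
    have : algebraMap R K₀ (f * g ^ (p - 1)) =
        (algebraMap R K₀ f / algebraMap R K₀ g) * algebraMap R K₀ (g ^ p) := by
      rw [div_mul_eq_mul_div, eq_div_iff hg0', ← map_mul, ← map_mul, mul_assoc, ← pow_succ,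
        Nat.sub_add_cancel hp]
    rw [this]
    exact mul_mem (hz i) (algebraMap_mem_KS (𝓕.pow_mem i g))
  obtain ⟨u, hu⟩ := 𝓕.exists_pow _ hall
  refine ⟨algebraMap R K₀ u / algebraMap R K₀ g, ?_⟩
  rw [div_pow, ← map_pow, ← map_pow, hu, div_eq_div_iff hgp0' hg0', ← map_mul, ← map_mul]
  congr 1
  rw [mul_assoc, ← pow_succ, Nat.sub_add_cancel hp]

theorem Fam.mem_iInf_KS_iff (hp : 0 < p) (z : K₀) :
    z ∈ (⨅ i, KS K₀ (𝓕.S i) : Subfield K₀) ↔ ∃ y : K₀, y ^ p = z := by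
  rw [Subfield.mem_iInf]
  constructor
  · exact 𝓕.exists_pow_eq_of_forall_mem_KS hp z
  · rintro ⟨y, rfl⟩ i
    exact 𝓕.pow_mem_KS i y

end Frac

end Groth.Agent.Lib.Helper7.PFamAbs
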