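import Mathlib
import Groth.Agent.Lib.Helper7PField3
import Groth.Agent.Lib.Helper7LinDisj
import Groth.Agent.Lib.Helper7PFamAbs

/-!
# Existence of derivations from an admissible family of subrings (helper7)

`R₀` a domain of characteristic `p` with an admissible family of subrings (`PFamAbs.Fam`),
`K₀ = Frac R₀`, `L/K₀` finite.  If `f ∈ L` is not a `p`-th power there is a derivation `δ` of `L`
with `δ f ≠ 0` whose restriction to `R₀` is `r ↦ ∑ⱼ Dⱼ(r) eⱼ` for derivations `Dⱼ` of `R₀`.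
-/

set_option autoImplicit false
set_option linter.style.haveILetI false
set_option linter.unusedSectionVars false
universe u

namespace Groth.Agent.Lib.Helper7.HasDer

open KaehlerDifferential Groth.Agent.Lib.Helper7.PFamAbs

/-- the property: enough derivations on finite extensions of the fraction field, controlled by
derivations of `R₀` -/
def HasDer (p : ℕ) (R₀ : Type u) [CommRing R₀] : Prop :=
  ∀ (K₀ : Type u) [Field K₀] [Algebra R₀ K₀] [IsFractionRing R₀ K₀]
    (L : Type u) [Field L] [Algebra K₀ L] [Algebra R₀ L] [IsScalarTower R₀ K₀ L]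
    [Module.Finite K₀ L] [CharP L p] (f : L) (_ : ∀ y : L, y ^ p ≠ f),
    ∃ (δ : Derivation ℤ L L) (d : ℕ) (e : Fin d → L) (D : Fin d → (R₀ →+ R₀)),
      δ f ≠ 0 ∧ (∀ j a b, D j (a * b) = a * D j b + b * D j a) ∧
      ∀ r : R₀, δ (algebraMap R₀ L r) = ∑ j, algebraMap R₀ L (D j r) * e j

variable {R₀ : Type u} [CommRing R₀] [IsDomain R₀]

/-- step 1: a member of the family and a derivation of `L` over it not killing `f`. -/
theorem exists_index_derivation (p : ℕ) [Fact p.Prime] (𝓕 : Fam p R₀)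
    (K₀ : Type u) [Field K₀] [Algebra R₀ K₀] [IsFractionRing R₀ K₀]
    (L : Type u) [Field L] [Algebra K₀ L] [Algebra R₀ L] [IsScalarTower R₀ K₀ L]
    [Module.Finite K₀ L] [CharP L p] (f : L) (hf : ∀ y : L, y ^ p ≠ f) :
    ∃ (i : 𝓕.ι) (δ : Derivation ℤ L L), δ f ≠ 0 ∧
      ∀ c ∈ 𝓕.S i, δ (algebraMap R₀ L c) = 0 := by
  classical
  have hpp : p.Prime := Fact.out
  haveI : ExpChar L p := ExpChar.prime hpp
  haveI := 𝓕.ne
  let KS' : 𝓕.ι → Subfield K₀ := fun i => KS K₀ (𝓕.S i)
  have hdir : ∀ a b : 𝓕.ι, ∃ c, KS' c ≤ KS' a ⊓ KS' b := fun a b => 𝓕.KS_directed a b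
  have hInf : ∀ z : K₀, z ∈ (⨅ i, KS' i : Subfield K₀) ↔ ∃ y : K₀, y ^ p = z :=
    fun z => 𝓕.mem_iInf_KS_iff hpp.pos z
  -- a basis of `L` over `K₀`
  let b := Module.finBasis K₀ L
  let s : Set L := Set.range fun j => b j ^ p
  have hsfin : s.Finite := Set.finite_range _
  have hpow : ∀ (i : 𝓕.ι) (y : L), y ^ p ∈ Submodule.span (KS' i) s := by
    intro i y
    have hy : y = ∑ j, b.repr y j • b j := (b.sum_repr y).symm
    rw [hy, sum_pow_char]
    refine Submodule.sum_mem _ fun j _ => ?_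
    rw [Algebra.smul_def, mul_pow, ← map_pow]
    have h1 : (b.repr y j) ^ p ∈ KS' i := 𝓕.pow_mem_KS i _
    have h2 : algebraMap K₀ L ((b.repr y j) ^ p) * b j ^ p =
        (⟨(b.repr y j) ^ p, h1⟩ : KS' i) • (b j ^ p) := by
      rw [Subfield.smul_def, Algebra.smul_def]
    rw [h2]
    exact Submodule.smul_mem _ _ (Submodule.subset_span ⟨j, rfl⟩)
  have hex : ∃ i, f ∉ Submodule.span (KS' i) s := by
    by_contra hcon
    push Not at hcon
    have h1 := Groth.Agent.Lib.Helper7.LinDisj.mem_span_iInf_of_forall_mem_span KS' hdir s hsfin f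
      hcon
    have h2 : ∀ x ∈ Submodule.span (⨅ i, KS' i : Subfield K₀) s, ∃ y : L, y ^ p = x := by
      intro x hx
      refine Submodule.span_induction (p := fun x _ => ∃ y : L, y ^ p = x) ?_ ?_ ?_ ?_ hx
      · rintro _ ⟨j, rfl⟩; exact ⟨b j, rfl⟩
      · exact ⟨0, zero_pow hpp.ne_zero⟩
      · rintro x y _ _ ⟨x', rfl⟩ ⟨y', rfl⟩
        exact ⟨x' + y', add_pow_char_of_commute p (Commute.all _ _)⟩
      · rintro c x _ ⟨x', rfl⟩
        obtain ⟨c', hc'⟩ := (hInf c).1 c.2
        refine ⟨algebraMap K₀ L c' * x', ?_⟩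
        rw [mul_pow, ← map_pow, hc', Subfield.smul_def, Algebra.smul_def]
    obtain ⟨y, hy⟩ := h2 f h1
    exact hf y hy
  obtain ⟨i, hi⟩ := hex
  have hfE : f ∉ EGA41.pPowerSubalgebra p (KS' i) L := by
    intro hmem
    apply hi
    have h1 : f ∈ Subalgebra.toSubmodule (Algebra.adjoin (KS' i) (Set.range fun y : L => y ^ p)) :=
      hmem
    rw [Algebra.adjoin_eq_span] at h1
    have hcl : (Submonoid.closure (Set.range fun y : L => y ^ p) : Set L) ⊆
        Submodule.span (KS' i) s := by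
      intro x hx
      have hx' : x ∈ Set.range fun y : L => y ^ p := by
        refine Submonoid.closure_induction (motive := fun x _ => x ∈ Set.range fun y : L => y ^ p)
          (fun x hx => hx) ⟨1, one_pow p⟩ ?_ hx
        rintro x y _ _ ⟨x', rfl⟩ ⟨y', rfl⟩
        exact ⟨x' * y', mul_pow x' y' p⟩
      obtain ⟨y, rfl⟩ := hx'
      exact hpow i y
    exact (Submodule.span_le.2 hcl) h1
  have hDf : D (KS' i) L f ≠ 0 := fun h0 =>
    hfE (Groth.Agent.Lib.Helper7.PPow.mem_pPowerSubalgebra_of_D_eq_zero p h0)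
  obtain ⟨lam, hlam⟩ : ∃ lam : Module.Dual L (Ω[L⁄(KS' i)]), lam (D (KS' i) L f) ≠ 0 := by
    by_contra hcon
    push Not at hcon
    exact hDf ((Module.forall_dual_apply_eq_zero_iff L _).1 hcon)
  let δ₀ : Derivation (KS' i) L L := lam.compDer (D (KS' i) L)
  refine ⟨i, δ₀.restrictScalars ℤ, hlam, fun c hc => ?_⟩
  have h1 : algebraMap R₀ L c =
      algebraMap (KS' i) L ⟨algebraMap R₀ K₀ c, algebraMap_mem_KS hc⟩ := by
    rw [IsScalarTower.algebraMap_apply R₀ K₀ L]
    rfl
  change δ₀ _ = 0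
  rw [h1, Derivation.map_algebraMap]

/-- **Existence of derivations** from an admissible family. -/
theorem hasDer_of_fam (p : ℕ) [Fact p.Prime] (𝓕 : Fam p R₀) : HasDer p R₀ := by
  intro K₀ _ _ _ L _ _ _ _ _ _ f hf
  classical
  obtain ⟨i, δ₀, hδ₀f, hδ₀c⟩ := exists_index_derivation p 𝓕 K₀ L f hf
  obtain ⟨J, g, hg⟩ := 𝓕.generators i
  have hinjK : Function.Injective (algebraMap R₀ K₀) := IsFractionRing.injective _ _
  have hinjL : Function.Injective (algebraMap R₀ L) := by
    rw [IsScalarTower.algebraMap_eq R₀ K₀ L]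
    exact (algebraMap K₀ L).injective.comp hinjK
  let b := Module.finBasis K₀ L
  set d := Module.finrank K₀ L with hd
  have key : ∀ (r : R₀) (x : L) (i : Fin d),
      b.repr (algebraMap R₀ L r * x) i = algebraMap R₀ K₀ r * b.repr x i := by
    intro r x i
    rw [IsScalarTower.algebraMap_apply R₀ K₀ L, ← Algebra.smul_def, map_smul, Finsupp.smul_apply,
      smul_eq_mul]
  obtain ⟨t, ht⟩ := IsLocalization.exist_integer_multiples (nonZeroDivisors R₀)
    (Finset.univ : Finset (Fin J × Fin d))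
    (fun ji => b.repr (δ₀ (algebraMap R₀ L (g ji.1))) ji.2)
  have hα : ∀ j i, ∃ α : R₀, algebraMap R₀ K₀ α =
      algebraMap R₀ K₀ (t : R₀) * b.repr (δ₀ (algebraMap R₀ L (g j))) i := by
    intro j i
    obtain ⟨α, hα⟩ := ht (j, i) (Finset.mem_univ _)
    exact ⟨α, by rw [hα, Algebra.smul_def]⟩
  choose α hα using hα
  have ht0 : algebraMap R₀ L (t : R₀) ≠ 0 := fun h0 =>
    nonZeroDivisors.ne_zero t.2 (hinjL (by rw [h0, map_zero]))
  let δ : Derivation ℤ L L := (algebraMap R₀ L (t : R₀)) • δ₀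
  have hδ : ∀ x, δ x = algebraMap R₀ L (t : R₀) * δ₀ x := fun x => rfl
  have hcoord : ∀ (r : R₀) (i : Fin d), ∃ x : R₀,
      algebraMap R₀ K₀ x = b.repr (δ (algebraMap R₀ L r)) i := by
    intro r i'
    obtain ⟨c, hc, hr⟩ := hg r
    refine ⟨∑ j, c j * α j i', ?_⟩
    have h1 : δ₀ (algebraMap R₀ L r) =
        ∑ j, algebraMap R₀ L (c j) * δ₀ (algebraMap R₀ L (g j)) := by
      rw [hr, map_sum, map_sum]
      refine Finset.sum_congr rfl fun j _ => ?_
      rw [map_mul, Derivation.leibniz, hδ₀c (c j) (hc j), smul_zero, add_zero, smul_eq_mul]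
    have h2 : b.repr (δ (algebraMap R₀ L r)) i' =
        ∑ j, algebraMap R₀ K₀ (c j) * algebraMap R₀ K₀ (α j i') := by
      rw [hδ, h1, Finset.mul_sum, map_sum, Finsupp.finsetSum_apply]
      refine Finset.sum_congr rfl fun j _ => ?_
      rw [key, key, hα]
      ring
    rw [h2, map_sum]
    refine Finset.sum_congr rfl fun j _ => ?_
    rw [map_mul]
  choose Dfun hDfun using hcoord
  have hadd : ∀ i r r', Dfun (r + r') i = Dfun r i + Dfun r' i := by
    intro i r r'
    apply hinjK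
    rw [map_add, hDfun, hDfun, hDfun, map_add, map_add, map_add, Finsupp.add_apply]
  have hzero : ∀ i, Dfun 0 i = 0 := by
    intro i
    apply hinjK
    rw [hDfun, map_zero, map_zero, map_zero, map_zero, Finsupp.zero_apply]
  have hmul : ∀ i r r', Dfun (r * r') i = r * Dfun r' i + r' * Dfun r i := by
    intro i r r'
    apply hinjK
    rw [hDfun, map_mul, Derivation.leibniz, smul_eq_mul, smul_eq_mul, map_add, Finsupp.add_apply,
      key, key, ← hDfun, ← hDfun, map_add, map_mul, map_mul]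
  let D : Fin d → (R₀ →+ R₀) := fun i =>
    { toFun := fun r => Dfun r i
      map_zero' := hzero i
      map_add' := hadd i }
  refine ⟨δ, d, fun i => b i, D, ?_, fun i r r' => hmul i r r', fun r => ?_⟩
  · rw [hδ]
    exact mul_ne_zero ht0 hδ₀f
  · conv_lhs => rw [← b.sum_repr (δ (algebraMap R₀ L r))]
    refine Finset.sum_congr rfl fun i _ => ?_
    change _ = algebraMap R₀ L (Dfun r i) * b i
    rw [← hDfun r i, Algebra.smul_def, ← IsScalarTower.algebraMap_apply]

end Groth.Agent.Lib.Helper7.HasDer
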