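import Mathlib
import Groth.Agent.Lib.Helper7HasDer
import Groth.Agent.Lib.Helper7PsCore1
import Groth.Agent.Lib.Helper7PsSepStep
import Groth.Agent.Lib.Helper7PInsepInd

/-!
# Finite extensions of the fraction field and regularity of `L ⊗[R₀] T` (helper7)

`R₀` a domain of characteristic `p` with enough derivations (`HasDer`), `T` an `R₀`-algebra to
which every derivation of `R₀` extends.  If `K₀ ⊗[R₀] T` is regular (`K₀ = Frac R₀`) then
`L ⊗[R₀] T` is regular for every finite extension `L/K₀`.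
-/

set_option autoImplicit false
set_option linter.style.haveILetI false
set_option linter.unusedSectionVars false
universe u

namespace Groth.Agent.Lib.Helper7.DerStep

open TensorProduct Polynomial Groth.Agent.Lib.Helper7.HasDer Groth.Agent.Lib.Helper7.PsCore

/-- every derivation of `R₀` extends to `T` -/
def ExtendsDer (R₀ T : Type u) [CommRing R₀] [CommRing T] [Algebra R₀ T] : Prop :=
  ∀ D : Derivation ℤ R₀ R₀, ∃ D' : Derivation ℤ T T,
    ∀ r : R₀, D' (algebraMap R₀ T r) = algebraMap R₀ T (D r)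

variable {R₀ : Type u} [CommRing R₀] [IsDomain R₀] (p : ℕ) [Fact p.Prime]

/-- the derivation on `T ⊗[R₀] L` (as an additive map with the Leibniz rule) -/
theorem exists_derivation_tensor (hder : HasDer p R₀) (T : Type u) [CommRing T] [Algebra R₀ T]
    (hext : ExtendsDer R₀ T)
    (K₀ : Type u) [Field K₀] [Algebra R₀ K₀] [IsFractionRing R₀ K₀]
    (L : Type u) [Field L] [Algebra K₀ L] [Algebra R₀ L] [IsScalarTower R₀ K₀ L]
    [Module.Finite K₀ L] [CharP L p] (f : L) (hf : ∀ y : L, y ^ p ≠ f) :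
    ∃ Δ : (T ⊗[R₀] L) →+ (T ⊗[R₀] L),
      (∀ a b, Δ (a * b) = a * Δ b + b * Δ a) ∧ IsUnit (Δ ((1 : T) ⊗ₜ[R₀] f)) := by
  classical
  obtain ⟨δ, d, e, D, hδf, hD, hδ⟩ := hder K₀ L f hf
  have hDC : ∀ j, ∃ Dhat : Derivation ℤ T T, ∀ r : R₀,
      Dhat (algebraMap R₀ T r) = algebraMap R₀ T (D j r) := fun j =>
    hext (derivationOfLeibniz (D j) (hD j))
  choose DC hDC using hDC
  let dC : T →+ T ⊗[R₀] L :=
    ∑ j, ((TensorProduct.mk R₀ T L).flip (e j)).toAddMonoidHom.comp (DC j : T →+ T)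
  have hdC : ∀ c, dC c = ∑ j, (DC j c) ⊗ₜ[R₀] (e j) := by
    intro c
    simp [dC]
  let dL : L →+ T ⊗[R₀] L := ((TensorProduct.mk R₀ T L) 1).toAddMonoidHom.comp (δ : L →+ L)
  have hdL : ∀ l, dL l = (1 : T) ⊗ₜ[R₀] (δ l) := fun l => rfl
  have h1 : ∀ a b : T, dC (a * b) =
      (a ⊗ₜ[R₀] (1 : L)) * dC b + (b ⊗ₜ[R₀] (1 : L)) * dC a := by
    intro a b
    rw [hdC, hdC, hdC]
    exact leibniz_sum_tmul DC e a b
  have h2 : ∀ a b : L, dL (a * b) =
      ((1 : T) ⊗ₜ[R₀] a) * dL b + ((1 : T) ⊗ₜ[R₀] b) * dL a := by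
    intro a b
    rw [hdL, hdL, hdL, Derivation.leibniz, smul_eq_mul, smul_eq_mul, TensorProduct.tmul_add,
      Algebra.TensorProduct.tmul_mul_tmul, Algebra.TensorProduct.tmul_mul_tmul, one_mul]
  have h3 : ∀ r : R₀, dC (algebraMap _ T r) = dL (algebraMap _ L r) := by
    intro r
    rw [hdC, hdL, hδ, TensorProduct.tmul_sum]
    refine Finset.sum_congr rfl fun j _ => ?_
    rw [hDC, Algebra.algebraMap_eq_smul_one, ← Algebra.smul_def, TensorProduct.smul_tmul]
  obtain ⟨Δ, hΔleib, hΔ⟩ := Groth.Agent.Lib.Helper7.DerTensor.exists_addMonoidHom_tensorProduct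
    (R := R₀) (L := T) (C := L) dC dL h1 h2 h3
  refine ⟨Δ, hΔleib, ?_⟩
  rw [hΔ, hdL, hdC]
  have h0 : ∀ j, DC j 1 = 0 := fun j => Derivation.map_one_eq_zero _
  simp only [h0, TensorProduct.zero_tmul, Finset.sum_const_zero, mul_zero, zero_add]
  rw [← Algebra.TensorProduct.one_def, one_mul]
  have hu : IsUnit (δ f) := isUnit_iff_ne_zero.2 hδf
  exact hu.map (Algebra.TensorProduct.includeRight : L →ₐ[R₀] T ⊗[R₀] L)

/-- **The `p`-th root step.** -/
theorem isRegularRing_tensor_of_adjoinRoot (hder : HasDer p R₀) (T : Type u) [CommRing T]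
    [Algebra R₀ T] (hext : ExtendsDer R₀ T)
    (K₀ : Type u) [Field K₀] [Algebra R₀ K₀] [IsFractionRing R₀ K₀]
    (L : Type u) [Field L] [Algebra K₀ L] [Algebra R₀ L] [IsScalarTower R₀ K₀ L]
    [Module.Finite K₀ L] [CharP L p] (f : L) (hf : ∀ y : L, y ^ p ≠ f)
    (hreg : IsRegularRing (L ⊗[R₀] T))
    (L' : Type u) [Field L'] [Algebra L L'] [Algebra R₀ L'] [IsScalarTower R₀ L L']
    (e : AdjoinRoot (X ^ p - Polynomial.C f : L[X]) ≃ₐ[L] L') :
    IsRegularRing (L' ⊗[R₀] T) := by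
  classical
  haveI regT : IsRegularRing (T ⊗[R₀] L) :=
    IsRegularRing.of_ringEquiv (R := L ⊗[R₀] T) (Algebra.TensorProduct.comm R₀ L T).toRingEquiv
  obtain ⟨Δ, hleib, hu⟩ := exists_derivation_tensor p hder T hext K₀ L f hf
  have hu' : IsUnit ((derivationOfLeibniz Δ hleib) ((1 : T) ⊗ₜ[R₀] f)) := hu
  have h1 := isRegularRing_adjoinRoot_X_pow_sub_C (derivationOfLeibniz Δ hleib)
    ((1 : T) ⊗ₜ[R₀] f) hu' p
  have h3 : IsRegularRing (T ⊗[R₀] AdjoinRoot (X ^ p - Polynomial.C f : L[X])) :=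
    isRegularRing_tensor_adjoinRoot_aux (R := R₀) (S := L) (T := T) p f h1
  have h4 : IsRegularRing (T ⊗[R₀] L') :=
    IsRegularRing.of_ringEquiv (R := T ⊗[R₀] AdjoinRoot (X ^ p - Polynomial.C f : L[X]))
      (Algebra.TensorProduct.congr (AlgEquiv.refl : T ≃ₐ[R₀] T)
        (e.restrictScalars R₀)).toRingEquiv
  exact IsRegularRing.of_ringEquiv (R := T ⊗[R₀] L')
    (Algebra.TensorProduct.comm R₀ T L').toRingEquiv

/-- **All finite extensions.** -/
theorem isRegularRing_tensor_of_finite [CharP R₀ p] (hder : HasDer p R₀) (T : Type u) [CommRing T]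
    [Algebra R₀ T] (hext : ExtendsDer R₀ T)
    (K₀ : Type u) [Field K₀] [Algebra R₀ K₀] [IsFractionRing R₀ K₀]
    (hbase : IsRegularRing (K₀ ⊗[R₀] T))
    (L : Type u) [Field L] [Algebra K₀ L] [Algebra R₀ L] [IsScalarTower R₀ K₀ L]
    [Module.Finite K₀ L] :
    IsRegularRing (L ⊗[R₀] T) := by
  classical
  haveI : CharP K₀ p :=
    charP_of_injective_algebraMap (IsFractionRing.injective R₀ K₀) p
  let P : ∀ (E : Type u) [Field E] [Algebra K₀ E], Prop := fun E _ _ =>
    ∀ (inst : Algebra R₀ E) (_ : IsScalarTower R₀ K₀ E), IsRegularRing (E ⊗[R₀] T)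
  have hiso : ∀ (E E' : Type u) [Field E] [Field E'] [Algebra K₀ E] [Algebra K₀ E'],
      (E ≃ₐ[K₀] E') → P E → P E' := by
    intro E E' _ _ _ _ e hPE inst' h'
    letI : Algebra R₀ E := ((algebraMap K₀ E).comp (algebraMap R₀ K₀)).toAlgebra
    haveI : IsScalarTower R₀ K₀ E := IsScalarTower.of_algebraMap_eq (fun _ => rfl)
    have h1 := hPE inferInstance inferInstance
    exact IsRegularRing.of_ringEquiv (R := E ⊗[R₀] T)
      (Algebra.TensorProduct.congr (e.restrictScalars R₀)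
        (AlgEquiv.refl : T ≃ₐ[R₀] T)).toRingEquiv
  have hstep : ∀ (E : Type u) [Field E] [Algebra K₀ E] [Module.Finite K₀ E] (a : E),
      (∀ y : E, y ^ p ≠ a) →
      ∀ (E' : Type u) [Field E'] [Algebra K₀ E'] [Algebra E E'] [IsScalarTower K₀ E E'],
        (AdjoinRoot (X ^ p - Polynomial.C a : E[X]) ≃ₐ[E] E') → P E → P E' := by
    intro E _ _ _ a ha E' _ _ _ _ e hPE inst' h'
    letI : Algebra R₀ E := ((algebraMap K₀ E).comp (algebraMap R₀ K₀)).toAlgebra
    haveI : IsScalarTower R₀ K₀ E := IsScalarTower.of_algebraMap_eq (fun _ => rfl)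
    have h1 := hPE inferInstance inferInstance
    haveI : CharP E p := charP_of_injective_algebraMap (algebraMap K₀ E).injective p
    haveI : IsScalarTower R₀ E E' :=
      IsScalarTower.of_algebraMap_eq (fun r => by
        rw [IsScalarTower.algebraMap_apply R₀ K₀ E', IsScalarTower.algebraMap_apply K₀ E E']
        rfl)
    exact isRegularRing_tensor_of_adjoinRoot p hder T hext K₀ E a ha h1 E' e
  have hind := Groth.Agent.Lib.Helper7.PInsepInd.induction_purelyInseparable p K₀ P hiso hstep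
  let Es := separableClosure K₀ L
  have hPEs : P Es := by
    intro inst h
    exact Groth.Agent.Lib.Helper7.PsSep.isRegularRing_tensor_of_isSeparable R₀ K₀ Es T hbase
  haveI : IsPurelyInseparable Es L := separableClosure.isPurelyInseparable K₀ L
  exact hind _ Es L rfl hPEs inferInstance inferInstance

end Groth.Agent.Lib.Helper7.DerStep
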