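import Mathlib
import Groth.Agent.Lib.Helper7PFamAbs

/-!
# Admissible families pass to polynomial rings (helper7)

If `(S i)` is an admissible family of subrings of `R` (characteristic `p`), then the subrings
`S i [X^p]` of `R[X]` form an admissible family.
-/

set_option autoImplicit false
set_option linter.style.haveILetI false
set_option linter.unusedSectionVars false
universe u

namespace Groth.Agent.Lib.Helper7.PFamPoly

open Polynomial Groth.Agent.Lib.Helper7.PFamAbs

variable {R : Type u} [CommRing R] (p : ℕ)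

/-- the subring `T[X^p]` of `R[X]` -/
def polySub (T : Subring R) : Subring R[X] where
  carrier := {P | ∀ n, P.coeff n ∈ T ∧ (P.coeff n ≠ 0 → p ∣ n)}
  mul_mem' := by
    classical
    intro a b ha hb n
    rw [coeff_mul]
    refine ⟨sum_mem fun x _ => mul_mem (ha _).1 (hb _).1, fun hne => ?_⟩
    obtain ⟨x, hx, hx0⟩ := Finset.exists_ne_zero_of_sum_ne_zero hne
    have h1 := (ha x.1).2 (left_ne_zero_of_mul hx0)
    have h2 := (hb x.2).2 (right_ne_zero_of_mul hx0)
    rw [← (Finset.HasAntidiagonal.mem_antidiagonal.1 hx)]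
    exact dvd_add h1 h2
  one_mem' := by
    intro n
    rw [coeff_one]
    split_ifs with h
    · exact ⟨one_mem _, fun _ => by rw [h]; exact dvd_zero _⟩
    · exact ⟨zero_mem _, fun h0 => absurd rfl h0⟩
  add_mem' := by
    intro a b ha hb n
    rw [coeff_add]
    refine ⟨add_mem (ha _).1 (hb _).1, fun hne => ?_⟩
    by_cases h0 : a.coeff n = 0
    · rw [h0, zero_add] at hne
      exact (hb n).2 hne
    · exact (ha n).2 h0
  zero_mem' := by
    intro n
    rw [coeff_zero]
    exact ⟨zero_mem _, fun h0 => absurd rfl h0⟩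
  neg_mem' := by
    intro a ha n
    rw [coeff_neg]
    exact ⟨neg_mem (ha _).1, fun hne => (ha n).2 (neg_ne_zero.1 hne)⟩

variable {p}

lemma mem_polySub {T : Subring R} {P : R[X]} :
    P ∈ polySub p T ↔ ∀ n, P.coeff n ∈ T ∧ (P.coeff n ≠ 0 → p ∣ n) := Iff.rfl

lemma polySub_mono {T T' : Subring R} (h : T ≤ T') : polySub p T ≤ polySub p T' :=
  fun _ hP n => ⟨h (hP n).1, (hP n).2⟩

lemma monomial_mem_polySub {T : Subring R} {n : ℕ} (hn : p ∣ n) {c : R} (hc : c ∈ T) :
    monomial n c ∈ polySub p T := by
  intro m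
  rw [coeff_monomial]
  split_ifs with h
  · exact ⟨hc, fun _ => h ▸ hn⟩
  · exact ⟨zero_mem _, fun h0 => absurd rfl h0⟩

variable (p)

/-- the coefficientwise retraction -/
noncomputable def retrFun (π : R → R) (P : R[X]) : R[X] :=
  ∑ n ∈ P.support, if p ∣ n then monomial n (π (P.coeff n)) else 0

lemma coeff_retrFun (π : R → R) (hπ0 : π 0 = 0) (P : R[X]) (m : ℕ) :
    (retrFun p π P).coeff m = if p ∣ m then π (P.coeff m) else 0 := by
  classical
  rw [retrFun, finset_sum_coeff]
  have hterm : ∀ n : ℕ, (if p ∣ n then monomial n (π (P.coeff n)) else 0 : R[X]).coeff m =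
      if n = m then (if p ∣ m then π (P.coeff m) else 0) else 0 := by
    intro n
    by_cases hnm : n = m
    · subst hnm
      rw [if_pos rfl]
      split_ifs
      · rw [coeff_monomial, if_pos rfl]
      · rw [coeff_zero]
    · rw [if_neg hnm]
      split_ifs
      · rw [coeff_monomial, if_neg hnm]
      · rw [coeff_zero]
  rw [Finset.sum_congr rfl (fun n _ => hterm n), Finset.sum_ite_eq']
  split_ifs with h1 h2
  · rfl
  · rfl
  · rw [notMem_support_iff.1 h1, hπ0]
  · rfl

section Char

variable [Fact p.Prime] [CharP R p]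

lemma pow_mem_polySub {T : Subring R} (hT : ∀ r : R, r ^ p ∈ T) (P : R[X]) :
    P ^ p ∈ polySub p T := by
  haveI : ExpChar R p := ExpChar.prime Fact.out
  have hppos : 0 < p := (Fact.out : p.Prime).pos
  rw [← map_frobenius_expand (p := p) P]
  intro n
  rw [coeff_map, coeff_expand hppos]
  split_ifs with h
  · exact ⟨hT _, fun _ => h⟩
  · rw [map_zero]
    exact ⟨zero_mem _, fun h0 => absurd rfl h0⟩

/-- a polynomial in `X^p` whose coefficients are `p`-th powers is a `p`-th power -/
lemma exists_pow_eq {P : R[X]} (h1 : ∀ n, P.coeff n ≠ 0 → p ∣ n)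
    (h2 : ∀ n, ∃ u : R, u ^ p = P.coeff n) : ∃ Q : R[X], Q ^ p = P := by
  classical
  haveI : ExpChar R p := ExpChar.prime Fact.out
  have hppos : 0 < p := (Fact.out : p.Prime).pos
  choose u hu using h2
  refine ⟨∑ n ∈ P.support, monomial (n / p) (u n), ?_⟩
  rw [← map_frobenius_expand (p := p), map_sum, Polynomial.map_sum]
  conv_rhs => rw [P.as_sum_support]
  refine Finset.sum_congr rfl fun n hn => ?_
  rw [expand_monomial, map_monomial, frobenius_def, hu,
    Nat.div_mul_cancel (h1 n (mem_support_iff.1 hn))]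

end Char

/-- generators of `R[X]` over `T[X^p]` -/
lemma exists_generators (hp : 0 < p) {T : Subring R} {d : ℕ} (g : Fin d → R)
    (hg : ∀ r : R, ∃ c : Fin d → R, (∀ j, c j ∈ T) ∧ r = ∑ j, c j * g j) (P : R[X]) :
    ∃ c : Fin d × Fin p → R[X], (∀ je, c je ∈ polySub p T) ∧
      P = ∑ je, c je * monomial (je.2 : ℕ) (g je.1) := by
  classical
  haveI : NeZero p := ⟨hp.ne'⟩
  choose cc hcc hr using hg
  refine ⟨fun je => ∑ n ∈ P.support,
    if n % p = (je.2 : ℕ) then monomial (n - (je.2 : ℕ)) (cc (P.coeff n) je.1) else 0,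
    fun je => ?_, ?_⟩
  · refine Subring.sum_mem _ fun n _ => ?_
    split_ifs with h
    · refine monomial_mem_polySub ?_ (hcc _ _)
      rw [← h]
      exact Nat.dvd_sub_mod n
    · exact zero_mem _
  · conv_lhs => rw [P.as_sum_support]
    simp_rw [Finset.sum_mul]
    rw [Finset.sum_comm]
    refine Finset.sum_congr rfl fun n hn => ?_
    rw [Fintype.sum_prod_type]
    have hinner : ∀ j : Fin d, ∑ e : Fin p,
        (if n % p = (e : ℕ) then monomial (n - (e : ℕ)) (cc (P.coeff n) j) else 0) *
          monomial (e : ℕ) (g j) = monomial n (cc (P.coeff n) j * g j) := by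
      intro j
      rw [Finset.sum_eq_single (⟨n % p, Nat.mod_lt _ hp⟩ : Fin p)]
      · rw [if_pos rfl, monomial_mul_monomial, Nat.sub_add_cancel (Nat.mod_le n p)]
      · intro e _ hne
        rw [if_neg, zero_mul]
        intro h
        exact hne (Fin.ext h.symm)
      · intro h; exact absurd (Finset.mem_univ _) h
    rw [Finset.sum_congr rfl (fun j _ => hinner j), ← map_sum, ← hr]

/-- **Admissible families pass to polynomial rings.** -/
noncomputable def famPolynomial [Fact p.Prime] [CharP R p] (𝓕 : Fam p R) : Fam p R[X] where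
  ι := 𝓕.ι
  ne := 𝓕.ne
  S := fun i => polySub p (𝓕.S i)
  directed := fun a b => by
    obtain ⟨c, hc⟩ := 𝓕.directed a b
    exact ⟨c, le_inf (polySub_mono (hc.trans inf_le_left)) (polySub_mono (hc.trans inf_le_right))⟩
  pow_mem := fun i P => pow_mem_polySub p (𝓕.pow_mem i) P
  exists_pow := fun P hP => by
    haveI := 𝓕.ne
    refine exists_pow_eq p (fun n hn => ((hP (Classical.arbitrary _)) n).2 hn) (fun n => ?_)
    exact 𝓕.exists_pow _ (fun i => (hP i n).1)
  retraction := fun i => by
    classical
    obtain ⟨π, h1, h2, h3⟩ := 𝓕.retraction i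
    have hc := coeff_retrFun p π (map_zero π)
    have hadd : ∀ a b : R[X], retrFun p π (a + b) = retrFun p π a + retrFun p π b := by
      intro a b
      ext m
      rw [coeff_add, hc, hc, hc, coeff_add]
      split_ifs
      · rw [map_add]
      · rw [add_zero]
    refine ⟨AddMonoidHom.mk' (retrFun p π) hadd, fun P n => ?_, fun P hP => ?_, fun B hB P => ?_⟩
    · change (retrFun p π P).coeff n ∈ _ ∧ ((retrFun p π P).coeff n ≠ 0 → _)
      rw [hc]
      split_ifs with h
      · exact ⟨h1 _, fun _ => h⟩
      · exact ⟨zero_mem _, fun h0 => absurd rfl h0⟩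
    · change retrFun p π P = P
      ext n
      rw [hc]
      split_ifs with h
      · exact h2 _ (hP n).1
      · by_contra hne
        exact h ((hP n).2 (Ne.symm hne))
    · change retrFun p π (B * P) = B * retrFun p π P
      ext n
      rw [hc, coeff_mul, coeff_mul]
      split_ifs with h
      · rw [map_sum]
        refine Finset.sum_congr rfl fun x hx => ?_
        by_cases hb0 : B.coeff x.1 = 0
        · rw [hb0, zero_mul, zero_mul, map_zero]
        · have hd1 := (hB x.1).2 hb0
          have hd2 : p ∣ x.2 := by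
            have := h
            rw [← (Finset.HasAntidiagonal.mem_antidiagonal.1 hx)] at this
            exact (Nat.dvd_add_right hd1).1 this
          rw [hc, if_pos hd2, h3 _ (hB x.1).1]
      · symm
        refine Finset.sum_eq_zero fun x hx => ?_
        by_cases hb0 : B.coeff x.1 = 0
        · rw [hb0, zero_mul]
        · have hd1 := (hB x.1).2 hb0
          have hd2 : ¬ p ∣ x.2 := by
            intro hd2
            apply h
            rw [← (Finset.HasAntidiagonal.mem_antidiagonal.1 hx)]
            exact dvd_add hd1 hd2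
          rw [hc, if_neg hd2, mul_zero]
  generators := fun i => by
    classical
    have hppos : 0 < p := (Fact.out : p.Prime).pos
    obtain ⟨d, g, hg⟩ := 𝓕.generators i
    let e := (finProdFinEquiv : Fin d × Fin p ≃ Fin (d * p))
    refine ⟨d * p, fun t => monomial ((e.symm t).2 : ℕ) (g (e.symm t).1), fun P => ?_⟩
    obtain ⟨c, hc, hP⟩ := exists_generators p hppos g hg P
    refine ⟨fun t => c (e.symm t), fun t => hc _, ?_⟩
    rw [hP]
    exact (Equiv.sum_comp e.symm (fun je => c je * monomial (je.2 : ℕ) (g je.1))).symm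

end Groth.Agent.Lib.Helper7.PFamPoly
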