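import Mathlib
import Groth.Agent.Lib.Helper7PFamAbs
import Groth.Agent.Lib.Helper7PsFam
import Groth.Agent.Lib.Helper7PFamily

/-!
# The admissible family `F_S[[x^p]]` of `k[[x_1,…,x_n]]` (helper7)
-/

set_option autoImplicit false
set_option linter.style.haveILetI false
set_option linter.unusedSectionVars false
universe u v

namespace Groth.Agent.Lib.Helper7.PFamPs

open MvPowerSeries Groth.Agent.Lib.Helper7.PsFam Groth.Agent.Lib.Helper7.PFamAbs

/-- an additive `F[[x^p]]`-linear retraction of `k[[x]]` onto `F[[x^p]]`, coefficientwise -/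
theorem exists_retraction_add {σ : Type v} {k : Type u} [Field k] (p : ℕ) (F : Subfield k) :
    ∃ πt : MvPowerSeries σ k →+ MvPowerSeries σ k,
      (∀ g, πt g ∈ Rsub p F) ∧ (∀ g ∈ Rsub p F, πt g = g) ∧
        ∀ b ∈ Rsub p F, ∀ g, πt (b * g) = b * πt g := by
  classical
  obtain ⟨π, hπ⟩ := LinearMap.exists_leftInverse_of_injective (Algebra.linearMap F k)
    (LinearMap.ker_eq_bot.2 (algebraMap F k).injective)
  have hπ' : ∀ c : F, π (c : k) = c := fun c => by
    have := congrArg (fun f => f c) hπ
    exact this
  let πt : MvPowerSeries σ k →+ MvPowerSeries σ k :=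
    { toFun := fun g n => if ∀ i, p ∣ n i then ((π (coeff n g) : F) : k) else 0
      map_zero' := by
        funext n
        change (if ∀ i, p ∣ n i then ((π (coeff n (0 : MvPowerSeries σ k)) : F) : k) else 0) = 0
        rw [map_zero, map_zero]
        simp
      map_add' := by
        intro a b
        funext n
        change (if ∀ i, p ∣ n i then ((π (coeff n (a + b)) : F) : k) else 0) =
          (if ∀ i, p ∣ n i then ((π (coeff n a) : F) : k) else 0) +
            (if ∀ i, p ∣ n i then ((π (coeff n b) : F) : k) else 0)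
        split_ifs
        · rw [map_add, map_add]; rfl
        · rw [add_zero] }
  have hπt : ∀ g n, coeff n (πt g) = if ∀ i, p ∣ n i then ((π (coeff n g) : F) : k) else 0 :=
    fun g n => rfl
  refine ⟨πt, fun g n => ?_, fun g hg => ?_, fun b hb g => ?_⟩
  · rw [hπt]
    split_ifs with h
    · exact ⟨(π _).2, fun _ => h⟩
    · exact ⟨zero_mem _, fun h0 => absurd rfl h0⟩
  · ext n
    rw [hπt]
    split_ifs with h
    · rw [hπ' ⟨_, (hg n).1⟩]
    · by_contra hne
      exact h ((hg n).2 (Ne.symm hne))
  · ext n
    rw [hπt, coeff_mul, coeff_mul]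
    split_ifs with h
    · rw [map_sum, AddSubmonoidClass.coe_finsetSum]
      refine Finset.sum_congr rfl fun x hx => ?_
      by_cases hb0 : coeff x.1 b = 0
      · rw [hb0, zero_mul, zero_mul, map_zero]; rfl
      · have h1 := (hb x.1).2 hb0
        have h2 : ∀ i, p ∣ x.2 i := by
          intro i
          have := h i
          rw [← (Finset.HasAntidiagonal.mem_antidiagonal.1 hx), Finsupp.add_apply] at this
          exact (Nat.dvd_add_right (h1 i)).1 this
        rw [hπt, if_pos h2]
        have h3 : coeff x.1 b * coeff x.2 g = (⟨_, (hb x.1).1⟩ : F) • coeff x.2 g := rfl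
        rw [h3, map_smul]
        rfl
    · symm
      refine Finset.sum_eq_zero fun x hx => ?_
      by_cases hb0 : coeff x.1 b = 0
      · rw [hb0, zero_mul]
      · have h1 := (hb x.1).2 hb0
        have h2 : ¬ ∀ i, p ∣ x.2 i := by
          intro h2
          apply h
          intro i
          rw [← (Finset.HasAntidiagonal.mem_antidiagonal.1 hx), Finsupp.add_apply]
          exact dvd_add (h1 i) (h2 i)
        rw [hπt, if_neg h2, mul_zero]

/-- the admissible family of `k[[x_1,…,x_n]]` -/
theorem nonempty_fam (k : Type u) [Field k] (p : ℕ) [Fact p.Prime] [CharP k p] (n : ℕ) :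
    Nonempty (Fam p (MvPowerSeries (Fin n) k)) := by
  classical
  obtain ⟨I, F, hF1, hF2, hF3, hF4⟩ := Groth.Agent.Lib.Helper7.PFamily.exists_family k p
  refine ⟨{
    ι := Finset I
    ne := ⟨∅⟩
    S := fun S => Rsub (σ := Fin n) p (F S)
    directed := fun a b => ⟨a ∪ b, le_inf (Rsub_mono (hF2 _ _ Finset.subset_union_left))
      (Rsub_mono (hF2 _ _ Finset.subset_union_right))⟩
    pow_mem := fun S r => Rsub_mono (hF1 S) (pow_mem_Rsub_kp p r)
    exists_pow := fun r hr => by
      apply exists_pow_eq_of_mem_Rsub_kp p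
      intro m
      refine ⟨?_, (hr ∅ m).2⟩
      have h3 : (coeff m r) ∈ (⨅ S, F S : Subfield k) := by
        rw [Subfield.mem_iInf]
        exact fun S => (hr S m).1
      rw [hF3] at h3
      exact h3
    retraction := fun S => exists_retraction_add p (F S)
    generators := fun S => by
      haveI := hF4 S
      obtain ⟨J, hJ, g, hg⟩ := exists_finite_generators (σ := Fin n) p (F S)
      let e := Fintype.equivFin J
      refine ⟨Fintype.card J, g ∘ e.symm, fun r => ?_⟩
      obtain ⟨c, hc, hr⟩ := hg r
      refine ⟨c ∘ e.symm, fun j => hc _, ?_⟩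
      rw [hr]
      exact (Equiv.sum_comp e.symm (fun j => c j * g j)).symm }⟩

end Groth.Agent.Lib.Helper7.PFamPs
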