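import Mathlib
import Groth.Agent.Lib.Helper7PFamAbs
import Groth.Agent.Lib.Helper7PFamPoly
import Groth.Agent.Lib.Helper7PFamPs

/-!
# Admissible families: transport along ring isomorphisms, `MvPolynomial (Fin m)` (helper7)
-/

set_option autoImplicit false
set_option linter.style.haveILetI false
set_option linter.unusedSectionVars false
universe u

namespace Groth.Agent.Lib.Helper7.PFamEquiv

open Groth.Agent.Lib.Helper7.PFamAbs

variable {R R' : Type u} [CommRing R] [CommRing R'] {p : ℕ}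

/-- transport of an admissible family along a ring isomorphism -/
noncomputable def famOfRingEquiv (e : R ≃+* R') (𝓕 : Fam p R) : Fam p R' where
  ι := 𝓕.ι
  ne := 𝓕.ne
  S := fun i => (𝓕.S i).map (e : R →+* R')
  directed := fun a b => by
    obtain ⟨c, hc⟩ := 𝓕.directed a b
    exact ⟨c, le_inf ((Subring.gc_map_comap (e : R →+* R')).monotone_l (hc.trans inf_le_left))
      ((Subring.gc_map_comap (e : R →+* R')).monotone_l (hc.trans inf_le_right))⟩
  pow_mem := fun i r => ⟨(e.symm r) ^ p, 𝓕.pow_mem i _, by simp⟩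
  exists_pow := fun r hr => by
    have h1 : ∀ i, e.symm r ∈ 𝓕.S i := by
      intro i
      obtain ⟨x, hx, hxr⟩ := hr i
      have : e.symm r = x := by rw [← hxr]; simp
      rw [this]
      exact hx
    obtain ⟨u, hu⟩ := 𝓕.exists_pow _ h1
    exact ⟨e u, by rw [← map_pow, hu]; simp⟩
  retraction := fun i => by
    obtain ⟨π, h1, h2, h3⟩ := 𝓕.retraction i
    refine ⟨(e : R →+ R').comp (π.comp (e.symm : R' →+ R)), fun g => ⟨_, h1 (e.symm g), rfl⟩,
      fun g hg => ?_, fun b hb g => ?_⟩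
    · obtain ⟨x, hx, rfl⟩ := hg
      change e (π (e.symm (e x))) = e x
      rw [RingEquiv.symm_apply_apply, h2 x hx]
    · obtain ⟨x, hx, rfl⟩ := hb
      change e (π (e.symm (e x * g))) = e x * e (π (e.symm g))
      rw [map_mul, RingEquiv.symm_apply_apply, h3 x hx, map_mul]
  generators := fun i => by
    obtain ⟨d, g, hg⟩ := 𝓕.generators i
    refine ⟨d, fun j => e (g j), fun r => ?_⟩
    obtain ⟨c, hc, hr⟩ := hg (e.symm r)
    refine ⟨fun j => e (c j), fun j => ⟨_, hc j, rfl⟩, ?_⟩
    have : r = e (e.symm r) := by simp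
    rw [this, hr, map_sum]
    refine Finset.sum_congr rfl fun j _ => ?_
    rw [map_mul]

/-- `MvPolynomial (Fin m) R` has an admissible family when `R` does -/
theorem nonempty_fam_mvPolynomial [Fact p.Prime] [CharP R p] (h : Nonempty (Fam p R)) (m : ℕ) :
    Nonempty (Fam p (MvPolynomial (Fin m) R)) := by
  induction m with
  | zero =>
    obtain ⟨𝓕⟩ := h
    exact ⟨famOfRingEquiv (MvPolynomial.isEmptyAlgEquiv R (Fin 0)).symm.toRingEquiv 𝓕⟩
  | succ m ih =>
    obtain ⟨𝓕⟩ := ih
    haveI : CharP (MvPolynomial (Fin m) R) p := inferInstance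
    exact ⟨famOfRingEquiv (MvPolynomial.finSuccEquiv R m).symm.toRingEquiv
      (Groth.Agent.Lib.Helper7.PFamPoly.famPolynomial p 𝓕)⟩

/-- `k[[x_1,…,x_n]][y_1,…,y_m]` -/
theorem nonempty_fam_mvPolynomial_mvPowerSeries (k : Type u) [Field k] (p : ℕ) [Fact p.Prime]
    [CharP k p] (n m : ℕ) :
    Nonempty (Fam p (MvPolynomial (Fin m) (MvPowerSeries (Fin n) k))) := by
  haveI : CharP (MvPowerSeries (Fin n) k) p :=
    charP_of_injective_ringHom (f := (MvPowerSeries.C (σ := Fin n) (R := k)))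
      MvPowerSeries.C_injective p
  exact nonempty_fam_mvPolynomial (Groth.Agent.Lib.Helper7.PFamPs.nonempty_fam k p n) m

/-- `k[[x_1,…,x_n]][y]` -/
theorem nonempty_fam_polynomial_mvPowerSeries (k : Type u) [Field k] (p : ℕ) [Fact p.Prime]
    [CharP k p] (n : ℕ) :
    Nonempty (Fam p (Polynomial (MvPowerSeries (Fin n) k))) := by
  haveI : CharP (MvPowerSeries (Fin n) k) p :=
    charP_of_injective_ringHom (f := (MvPowerSeries.C (σ := Fin n) (R := k)))
      MvPowerSeries.C_injective p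
  obtain ⟨𝓕⟩ := Groth.Agent.Lib.Helper7.PFamPs.nonempty_fam k p n
  exact ⟨Groth.Agent.Lib.Helper7.PFamPoly.famPolynomial p 𝓕⟩

end Groth.Agent.Lib.Helper7.PFamEquiv
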