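import Mathlib
import Groth.Agent.Lib.Helper7DerStep
import Groth.Agent.Lib.Helper7PFamEquiv
import Groth.Agent.Lib.Helper7PsCoreGen
import Groth.Agent.Lib.Helper7FracLoc
import Groth.Agent.Lib.Helper28RegPow
import Groth.Agent.Lib.Helper6SepBC

/-!
# Generic formal fibres of localizations of `k[[x]][y]` are geometrically regular (helper7)
-/

set_option autoImplicit false
set_option linter.style.haveILetI false
set_option linter.unusedSectionVars false
universe u

namespace Groth.Agent.Lib.Helper7.PolyPsCore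

open TensorProduct IsLocalRing Groth.Agent.Lib.Helper7.HasDer Groth.Agent.Lib.Helper7.DerStep

/-- derivations extend to adic completions of localizations -/
theorem extendsDer_adicCompletion {R₀ : Type u} [CommRing R₀] (M : Submonoid R₀) (A : Type u)
    [CommRing A] [Algebra R₀ A] [IsLocalization M A] (I : Ideal A) :
    ExtendsDer R₀ (AdicCompletion I A) := by
  intro D
  obtain ⟨DA, hDA⟩ := Groth.Agent.Lib.Helper7.DerTensor.exists_derivation_of_isLocalization M A D
  have hDC : ∃ Dhat : Derivation ℤ (AdicCompletion I A) (AdicCompletion I A),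
      ∀ a : A, Dhat (algebraMap A (AdicCompletion I A) a) =
        algebraMap A (AdicCompletion I A) (DA a) :=
    Groth.Agent.Lib.Helper19.exists_derivation_adicCompletion I DA
  obtain ⟨DC, hDC⟩ := hDC
  refine ⟨Groth.Agent.Lib.Helper7.PsCore.derivationOfLeibniz
    (DC : AdicCompletion I A →+ AdicCompletion I A) (fun a b => by
      change DC (a * b) = a * DC b + b * DC a
      rw [Derivation.leibniz, smul_eq_mul, smul_eq_mul]), fun r => ?_⟩
  change DC _ = _
  rw [IsScalarTower.algebraMap_apply R₀ A (AdicCompletion I A), hDC, hDA,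
    ← IsScalarTower.algebraMap_apply R₀ A (AdicCompletion I A)]

/-- generic formal fibres for a regular domain of characteristic `p` with enough derivations -/
theorem isGeometricallyRegular_generic_formalFibre_of_hasDer (p : ℕ) [Fact p.Prime]
    (A₀ : Type u) [CommRing A₀] [IsDomain A₀] [IsRegularRing A₀] [CharP A₀ p]
    (hder : HasDer p A₀) (𝔭 : Ideal A₀) [𝔭.IsPrime] :
    CAlg.IsGeometricallyRegular (⊥ : Ideal (Localization.AtPrime 𝔭)).ResidueField
      (EGA4.formalFibre (Localization.AtPrime 𝔭) (⊥ : Ideal (Localization.AtPrime 𝔭))) := by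
  haveI : IsFractionRing A₀ (⊥ : Ideal (Localization.AtPrime 𝔭)).ResidueField :=
    Groth.Agent.Lib.Helper7.FracLoc.isFractionRing_of_isLocalization A₀
      (Localization.AtPrime 𝔭) _ 𝔭.primeCompl
  apply Groth.Agent.Lib.Helper7.PsCoreGen.isGeometricallyRegular_generic_formalFibre
  intro L _ _ _ _ _
  exact isRegularRing_tensor_of_finite p hder (EGA4.Cpl (Localization.AtPrime 𝔭))
    (extendsDer_adicCompletion 𝔭.primeCompl (Localization.AtPrime 𝔭)
      (maximalIdeal (Localization.AtPrime 𝔭)))
    (⊥ : Ideal (Localization.AtPrime 𝔭)).ResidueField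
    (Groth.Agent.Lib.Helper7.PsCoreGen.isRegularRing_base A₀ 𝔭) L

/-- `MvPolynomial (Fin m) R` is regular when `R` is -/
theorem isRegularRing_mvPolynomial_fin (R : Type u) [CommRing R] [IsRegularRing R] (m : ℕ) :
    IsRegularRing (MvPolynomial (Fin m) R) :=
  Groth.Agent.Lib.Helper6.SepBC.isRegularRing_of_formallySmooth R _

/-- `R[X]` is regular when `R` is -/
theorem isRegularRing_polynomial (R : Type u) [CommRing R] [IsRegularRing R] :
    IsRegularRing (Polynomial R) :=
  Groth.Agent.Lib.Helper6.SepBC.isRegularRing_of_formallySmooth R _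

/-- **S9299**: `A = k[[x_1,…,x_n]][y_1,…,y_m]` -/
theorem generic_formalFibre_mvPolynomial_mvPowerSeries (p : ℕ) [Fact p.Prime] (k : Type u)
    [Field k] [CharP k p] (n m : ℕ) [IsDomain (MvPolynomial (Fin m) (MvPowerSeries (Fin n) k))]
    (P : Ideal (MvPolynomial (Fin m) (MvPowerSeries (Fin n) k))) [P.IsPrime] :
    CAlg.IsGeometricallyRegular (@Ideal.ResidueField (Localization.AtPrime P) _ ⊥ _)
      (EGA4.formalFibre (Localization.AtPrime P) (⊥ : Ideal (Localization.AtPrime P))) := by
  haveI : IsRegularRing (MvPowerSeries (Fin n) k) :=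
    Groth.Agent.Lib.Helper28.isRegularRing_mvPowerSeries_fin k n
  haveI := isRegularRing_mvPolynomial_fin (MvPowerSeries (Fin n) k) m
  haveI : CharP (MvPowerSeries (Fin n) k) p :=
    charP_of_injective_ringHom (f := (MvPowerSeries.C (σ := Fin n) (R := k)))
      MvPowerSeries.C_injective p
  obtain ⟨𝓕⟩ := Groth.Agent.Lib.Helper7.PFamEquiv.nonempty_fam_mvPolynomial_mvPowerSeries k p n m
  exact isGeometricallyRegular_generic_formalFibre_of_hasDer p _ (hasDer_of_fam p 𝓕) P

/-- `A = k[[x_1,…,x_n]][y]` -/
theorem generic_formalFibre_polynomial_mvPowerSeries (p : ℕ) [Fact p.Prime] (k : Type u)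
    [Field k] [CharP k p] (n : ℕ)
    (P : Ideal (Polynomial (MvPowerSeries (Fin n) k))) [P.IsPrime] :
    CAlg.IsGeometricallyRegular (@Ideal.ResidueField (Localization.AtPrime P) _ ⊥ _)
      (EGA4.formalFibre (Localization.AtPrime P) (⊥ : Ideal (Localization.AtPrime P))) := by
  haveI : IsDomain (MvPowerSeries (Fin n) k) := NoZeroDivisors.to_isDomain _
  haveI : IsRegularRing (MvPowerSeries (Fin n) k) :=
    Groth.Agent.Lib.Helper28.isRegularRing_mvPowerSeries_fin k n
  haveI := isRegularRing_polynomial (MvPowerSeries (Fin n) k)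
  haveI : CharP (MvPowerSeries (Fin n) k) p :=
    charP_of_injective_ringHom (f := (MvPowerSeries.C (σ := Fin n) (R := k)))
      MvPowerSeries.C_injective p
  obtain ⟨𝓕⟩ := Groth.Agent.Lib.Helper7.PFamEquiv.nonempty_fam_polynomial_mvPowerSeries k p n
  exact isGeometricallyRegular_generic_formalFibre_of_hasDer p _ (hasDer_of_fam p 𝓕) P

end Groth.Agent.Lib.Helper7.PolyPsCore
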