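import Mathlib
import Groth.Agent.Lib.Helper7DerStep
import Groth.Agent.Lib.Helper7PolyPsCore

/-!
# Extending derivations to polynomial rings and beyond (helper7)
-/

set_option autoImplicit false
set_option linter.style.haveILetI false
set_option linter.unusedSectionVars false
universe u

namespace Groth.Agent.Lib.Helper7.PolyDer

open Polynomial Groth.Agent.Lib.Helper7.DerStep Groth.Agent.Lib.Helper7.PsCore

/-- transitivity of the extension property -/
theorem ExtendsDer.trans {R₀ A C : Type u} [CommRing R₀] [CommRing A] [CommRing C] [Algebra R₀ A]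
    [Algebra A C] [Algebra R₀ C] [IsScalarTower R₀ A C] (h1 : ExtendsDer R₀ A)
    (h2 : ExtendsDer A C) : ExtendsDer R₀ C := by
  intro D
  obtain ⟨D1, hD1⟩ := h1 D
  obtain ⟨D2, hD2⟩ := h2 D1
  refine ⟨D2, fun r => ?_⟩
  rw [IsScalarTower.algebraMap_apply R₀ A C, hD2, hD1, ← IsScalarTower.algebraMap_apply R₀ A C]

/-- derivations extend coefficientwise to the polynomial ring -/
theorem extendsDer_polynomial (R₀ : Type u) [CommRing R₀] : ExtendsDer R₀ R₀[X] := by
  intro D
  let _ : Differential R₀ := ⟨D⟩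
  let D0 := Differential.mapCoeffs (A := R₀)
  refine ⟨derivationOfLeibniz (D0 : R₀[X] →+ R₀[X]) (fun a b => by
    change D0 (a * b) = a * D0 b + b * D0 a
    rw [Derivation.leibniz, smul_eq_mul, smul_eq_mul]), fun r => ?_⟩
  change D0 (algebraMap R₀ R₀[X] r) = _
  rw [Polynomial.algebraMap_apply, Algebra.algebraMap_self, RingHom.id_apply,
    Differential.mapCoeffs_C]
  rfl

/-- the derivation `d/dX`, extended -/
theorem exists_derivative_extension {R₀ C : Type u} [CommRing R₀] [CommRing C] [Algebra R₀ C]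
    [Algebra R₀[X] C] [IsScalarTower R₀ R₀[X] C] (h : ExtendsDer R₀[X] C) :
    ∃ Δ : Derivation ℤ C C, (∀ r : R₀, Δ (algebraMap R₀ C r) = 0) ∧
      Δ (algebraMap R₀[X] C X) = 1 := by
  let D0 : Derivation R₀ R₀[X] R₀[X] := Polynomial.derivative'
  obtain ⟨Δ, hΔ⟩ := h (derivationOfLeibniz (D0 : R₀[X] →+ R₀[X]) (fun a b => by
    change D0 (a * b) = a * D0 b + b * D0 a
    rw [Derivation.leibniz, smul_eq_mul, smul_eq_mul]))
  refine ⟨Δ, fun r => ?_, ?_⟩
  · rw [IsScalarTower.algebraMap_apply R₀ R₀[X] C, hΔ]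
    change algebraMap R₀[X] C (Polynomial.derivative (algebraMap R₀ R₀[X] r)) = 0
    rw [Polynomial.algebraMap_apply, Algebra.algebraMap_self, RingHom.id_apply,
      Polynomial.derivative_C, map_zero]
  · rw [hΔ]
    change algebraMap R₀[X] C (Polynomial.derivative X) = 1
    rw [Polynomial.derivative_X, map_one]

end Groth.Agent.Lib.Helper7.PolyDer
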