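import Mathlib
import Groth.Agent.Lib.Helper7PolyDer
import Groth.Agent.Lib.Helper5RLR2

/-!
# Regularity of `C ⊗[A] L` from regularity of `C ⊗[R₀] L`, `A ≃ R₀[X]` (helper7)

Abstract version of `Helper7BirStep`: `A` is any `R₀`-algebra isomorphic to `R₀[X]`.
-/

set_option autoImplicit false
set_option linter.style.haveILetI false
set_option linter.unusedSectionVars false
universe u

namespace Groth.Agent.Lib.Helper7.BirStep2

open Polynomial TensorProduct Groth.Agent.Lib.Helper7.DerStep Groth.Agent.Lib.Helper7.PsCore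

variable (R₀ A C L : Type u) [CommRing R₀] [CommRing A] [CommRing C] [CommRing L] [Algebra R₀ A]
  (e : R₀[X] ≃ₐ[R₀] A) [Algebra R₀ C] [Algebra A C] [IsScalarTower R₀ A C] [Algebra R₀ L]
  [Algebra A L] [IsScalarTower R₀ A L]

/-- the element `x ⊗ 1 - 1 ⊗ x` -/
noncomputable def u : C ⊗[R₀] L :=
  (algebraMap A C (e X)) ⊗ₜ[R₀] (1 : L) - (1 : C) ⊗ₜ[R₀] (algebraMap A L (e X))

/-- the canonical map `C ⊗[R₀] L → C ⊗[A] L` -/
noncomputable def phi : C ⊗[R₀] L →ₐ[R₀] C ⊗[A] L :=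
  Algebra.TensorProduct.lift
    ((Algebra.TensorProduct.includeLeft : C →ₐ[A] C ⊗[A] L).restrictScalars R₀)
    ((Algebra.TensorProduct.includeRight : L →ₐ[A] C ⊗[A] L).restrictScalars R₀)
    (fun _ _ => Commute.all _ _)

lemma phi_tmul (c : C) (l : L) : phi R₀ A C L (c ⊗ₜ[R₀] l) = c ⊗ₜ[A] l := by
  simp [phi]

lemma phi_u : phi R₀ A C L (u R₀ A C L e) = 0 := by
  rw [u, map_sub, phi_tmul, phi_tmul, Algebra.algebraMap_eq_smul_one,
    Algebra.algebraMap_eq_smul_one, TensorProduct.smul_tmul, sub_self]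

theorem nonempty_ringEquiv :
    Nonempty (((C ⊗[R₀] L) ⧸ Ideal.span ({u R₀ A C L e} : Set (C ⊗[R₀] L))) ≃+* C ⊗[A] L) := by
  classical
  set I := Ideal.span ({u R₀ A C L e} : Set (C ⊗[R₀] L)) with hI
  have hIker : ∀ a ∈ I, (phi R₀ A C L : C ⊗[R₀] L →+* C ⊗[A] L) a = 0 := by
    intro a ha
    have : I ≤ RingHom.ker (phi R₀ A C L : C ⊗[R₀] L →+* C ⊗[A] L) := by
      rw [hI, Ideal.span_le]
      rintro _ rfl
      exact phi_u R₀ A C L e
    exact this ha
  let phibar : ((C ⊗[R₀] L) ⧸ I) →+* C ⊗[A] L :=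
    Ideal.Quotient.lift I (phi R₀ A C L : C ⊗[R₀] L →+* C ⊗[A] L) hIker
  let ι₁ : C →+* (C ⊗[R₀] L) ⧸ I :=
    (Ideal.Quotient.mk I).comp (Algebra.TensorProduct.includeLeft : C →ₐ[R₀] C ⊗[R₀] L).toRingHom
  let ι₂ : L →+* (C ⊗[R₀] L) ⧸ I :=
    (Ideal.Quotient.mk I).comp (Algebra.TensorProduct.includeRight : L →ₐ[R₀] C ⊗[R₀] L).toRingHom
  have hι₁ : ∀ c, ι₁ c = Ideal.Quotient.mk I (c ⊗ₜ[R₀] (1 : L)) := fun c => rfl
  have hι₂ : ∀ l, ι₂ l = Ideal.Quotient.mk I ((1 : C) ⊗ₜ[R₀] l) := fun l => rfl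
  have hagree' : (ι₁.comp (algebraMap A C)).comp (e : R₀[X] →+* A) =
      (ι₂.comp (algebraMap A L)).comp (e : R₀[X] →+* A) := by
    apply Polynomial.ringHom_ext
    · intro r
      change ι₁ (algebraMap A C (e (Polynomial.C r))) = ι₂ (algebraMap A L (e (Polynomial.C r)))
      have h0 : e (Polynomial.C r) = algebraMap R₀ A r := by
        have := e.commutes r
        rwa [Polynomial.algebraMap_apply, Algebra.algebraMap_self, RingHom.id_apply] at this
      rw [h0, ← IsScalarTower.algebraMap_apply R₀ A C, ← IsScalarTower.algebraMap_apply R₀ A L,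
        hι₁, hι₂, Algebra.algebraMap_eq_smul_one, Algebra.algebraMap_eq_smul_one,
        TensorProduct.smul_tmul]
    · change ι₁ (algebraMap A C (e X)) = ι₂ (algebraMap A L (e X))
      rw [hι₁, hι₂, ← sub_eq_zero, ← map_sub, Ideal.Quotient.eq_zero_iff_mem]
      exact Ideal.subset_span rfl
  have hagree : ∀ a : A, ι₁ (algebraMap A C a) = ι₂ (algebraMap A L a) := by
    intro a
    obtain ⟨b, rfl⟩ := e.surjective a
    exact congrArg (fun h => h b) hagree'
  have halg : ∀ a : A, algebraMap A ((C ⊗[R₀] L) ⧸ I) a = ι₁ (algebraMap A C a) := by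
    intro a
    rw [hι₁, ← Ideal.Quotient.mk_algebraMap, Algebra.TensorProduct.algebraMap_apply]
  let f' : C →ₐ[A] (C ⊗[R₀] L) ⧸ I := { ι₁ with commutes' := fun a => (halg a).symm }
  have hg' : ∀ a : A, ι₂ (algebraMap A L a) = algebraMap A ((C ⊗[R₀] L) ⧸ I) a := by
    intro a
    rw [halg]
    exact (hagree a).symm
  let g' : L →ₐ[A] (C ⊗[R₀] L) ⧸ I := { ι₂ with commutes' := hg' }
  let psi : C ⊗[A] L →ₐ[A] (C ⊗[R₀] L) ⧸ I :=
    Algebra.TensorProduct.lift f' g' (fun _ _ => Commute.all _ _)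
  have hpsi : ∀ c l, psi (c ⊗ₜ[A] l) = Ideal.Quotient.mk I (c ⊗ₜ[R₀] l) := by
    intro c l
    have : psi (c ⊗ₜ[A] l) = f' c * g' l := by simp [psi]
    rw [this]
    change ι₁ c * ι₂ l = _
    rw [hι₁, hι₂, ← map_mul, Algebra.TensorProduct.tmul_mul_tmul, mul_one, one_mul]
  have h1 : ∀ x : C ⊗[R₀] L, psi (phi R₀ A C L x) = Ideal.Quotient.mk I x := by
    intro x
    induction x using TensorProduct.induction_on with
    | zero => simp
    | tmul c l => rw [phi_tmul, hpsi]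
    | add x y hx hy => rw [map_add, map_add, hx, hy, map_add]
  have h2 : ∀ y : C ⊗[A] L, phibar (psi y) = y := by
    intro y
    induction y using TensorProduct.induction_on with
    | zero => simp
    | tmul c l =>
      rw [hpsi]
      change (phi R₀ A C L) (c ⊗ₜ[R₀] l) = _
      rw [phi_tmul]
    | add x y hx hy => rw [map_add, map_add, hx, hy]
  have h3 : ∀ q : (C ⊗[R₀] L) ⧸ I, psi (phibar q) = q := by
    intro q
    obtain ⟨x, rfl⟩ := Ideal.Quotient.mk_surjective q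
    change psi (phi R₀ A C L x) = _
    exact h1 x
  exact ⟨RingEquiv.ofBijective phibar
    ⟨fun a b hab => by rw [← h3 a, ← h3 b, hab], fun y => ⟨psi y, h2 y⟩⟩⟩

/-- the derivation `d/dX`, extended -/
theorem exists_derivative_extension (h : ExtendsDer A C) :
    ∃ Δ : Derivation ℤ C C, (∀ r : R₀, Δ (algebraMap R₀ C r) = 0) ∧
      Δ (algebraMap A C (e X)) = 1 := by
  let D0 : A →+ A :=
    ((e : R₀[X] →+ A).comp (Polynomial.derivative (R := R₀) : R₀[X] →+ R₀[X])).comp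
      (e.symm : A →+ R₀[X])
  have hD0 : ∀ a, D0 a = e (Polynomial.derivative (e.symm a)) := fun a => rfl
  obtain ⟨Δ, hΔ⟩ := h (derivationOfLeibniz D0 (fun a b => by
    rw [hD0, hD0, hD0, map_mul, Polynomial.derivative_mul, map_add, map_mul, map_mul,
      AlgEquiv.apply_symm_apply, AlgEquiv.apply_symm_apply]
    ring))
  refine ⟨Δ, fun r => ?_, ?_⟩
  · rw [IsScalarTower.algebraMap_apply R₀ A C, hΔ, derivationOfLeibniz_apply, hD0]
    have : e.symm (algebraMap R₀ A r) = Polynomial.C r := by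
      rw [← e.commutes r, AlgEquiv.symm_apply_apply]
      rfl
    rw [this, Polynomial.derivative_C, map_zero, map_zero]
  · rw [hΔ, derivationOfLeibniz_apply, hD0, AlgEquiv.symm_apply_apply, Polynomial.derivative_X,
      map_one, map_one]

include e in
theorem isRegularRing_tensor_polynomial (hext : ExtendsDer A C)
    (hreg : IsRegularRing (C ⊗[R₀] L)) : IsRegularRing (C ⊗[A] L) := by
  classical
  obtain ⟨Δ, hΔ0, hΔX⟩ := exists_derivative_extension R₀ A C e hext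
  let dL : C →+ C ⊗[R₀] L :=
    ((TensorProduct.mk R₀ C L).flip (1 : L)).toAddMonoidHom.comp (Δ : C →+ C)
  have hdL : ∀ c, dL c = (Δ c) ⊗ₜ[R₀] (1 : L) := fun c => rfl
  let dC : L →+ C ⊗[R₀] L := 0
  have hL : ∀ a b : C, dL (a * b) = (a ⊗ₜ[R₀] (1 : L)) * dL b + (b ⊗ₜ[R₀] (1 : L)) * dL a := by
    intro a b
    rw [hdL, hdL, hdL, Derivation.leibniz, smul_eq_mul, smul_eq_mul, TensorProduct.add_tmul,
      Algebra.TensorProduct.tmul_mul_tmul, Algebra.TensorProduct.tmul_mul_tmul, one_mul]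
  have hC : ∀ a b : L, dC (a * b) = ((1 : C) ⊗ₜ[R₀] a) * dC b + ((1 : C) ⊗ₜ[R₀] b) * dC a := by
    intro a b
    simp [dC]
  have h : ∀ r : R₀, dL (algebraMap R₀ C r) = dC (algebraMap R₀ L r) := by
    intro r
    rw [hdL, hΔ0, TensorProduct.zero_tmul]
    rfl
  obtain ⟨Δ', hleib, hΔ'⟩ := Groth.Agent.Lib.Helper7.DerTensor.exists_addMonoidHom_tensorProduct
    (R := R₀) (L := C) (C := L) dL dC hL hC h
  have hΔ'' : ∀ (c : C) (l : L), Δ' (c ⊗ₜ[R₀] l) = (Δ c) ⊗ₜ[R₀] l := by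
    intro c l
    rw [hΔ', hdL]
    change _ + (c ⊗ₜ[R₀] (1 : L)) * 0 = _
    rw [mul_zero, add_zero, Algebra.TensorProduct.tmul_mul_tmul, one_mul, mul_one]
  have hu : Δ' (u R₀ A C L e) = 1 := by
    rw [u, map_sub, hΔ'', hΔ'', hΔX, Derivation.map_one_eq_zero, TensorProduct.zero_tmul, sub_zero,
      Algebra.TensorProduct.one_def]
  haveI := hreg
  have hq : IsRegularRing ((C ⊗[R₀] L) ⧸ Ideal.span ({u R₀ A C L e} : Set (C ⊗[R₀] L))) := by
    apply Groth.Agent.Lib.Helper5.isRegularRing_quotient_span_singleton_of_derivation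
      (u R₀ A C L e) (derivationOfLeibniz Δ' hleib)
    rw [derivationOfLeibniz_apply, hu, map_one]
    exact isUnit_one
  obtain ⟨eq⟩ := nonempty_ringEquiv R₀ A C L e
  exact IsRegularRing.of_ringEquiv
    (R := (C ⊗[R₀] L) ⧸ Ideal.span ({u R₀ A C L e} : Set (C ⊗[R₀] L))) eq

end Groth.Agent.Lib.Helper7.BirStep2
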