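import Mathlib
import Groth.Prelude.Def_Found
import Groth.Prelude.Def_EGA4b

/-!
# Formal fibres via tensor products over the unlocalized ring (helper7)
-/

set_option autoImplicit false
set_option linter.style.haveILetI false
set_option linter.unusedSectionVars false
universe u

namespace Groth.Agent.Lib.Helper7.FFTensor

open TensorProduct IsLocalRing

/-- geometric regularity of the formal fibre of `(A₀)_𝔭` at `Q`, tested by tensoring over `A₀` with
finite extensions of `κ(Q)` -/
theorem isGeometricallyRegular_formalFibre_of_tensor (A₀ : Type u) [CommRing A₀]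
    (𝔭 : Ideal A₀) [𝔭.IsPrime] (Q : Ideal (Localization.AtPrime 𝔭)) [Q.IsPrime]
    (hfin : ∀ (L : Type u) [Field L] [Algebra Q.ResidueField L]
      [Algebra A₀ L] [IsScalarTower A₀ Q.ResidueField L]
      [Module.Finite Q.ResidueField L],
      IsRegularRing (L ⊗[A₀] EGA4.Cpl (Localization.AtPrime 𝔭))) :
    CAlg.IsGeometricallyRegular Q.ResidueField
      (EGA4.formalFibre (Localization.AtPrime 𝔭) Q) := by
  intro k' _ _ hfink
  letI : Algebra (Localization.AtPrime 𝔭) k' :=
    ((algebraMap Q.ResidueField k').comp (algebraMap (Localization.AtPrime 𝔭) _)).toAlgebra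
  haveI : IsScalarTower (Localization.AtPrime 𝔭) Q.ResidueField k' :=
    IsScalarTower.of_algebraMap_eq (fun _ => rfl)
  letI : Algebra A₀ k' :=
    ((algebraMap (Localization.AtPrime 𝔭) k').comp (algebraMap A₀ _)).toAlgebra
  haveI : IsScalarTower A₀ (Localization.AtPrime 𝔭) k' :=
    IsScalarTower.of_algebraMap_eq (fun _ => rfl)
  haveI : IsScalarTower A₀ Q.ResidueField k' :=
    IsScalarTower.of_algebraMap_eq (fun r => by
      rw [IsScalarTower.algebraMap_apply A₀ (Localization.AtPrime 𝔭) k',
        IsScalarTower.algebraMap_apply (Localization.AtPrime 𝔭) Q.ResidueField k',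
        ← IsScalarTower.algebraMap_apply A₀ (Localization.AtPrime 𝔭) Q.ResidueField])
  have h1 : IsRegularRing (k' ⊗[A₀] EGA4.Cpl (Localization.AtPrime 𝔭)) := hfin k'
  have h2 : IsRegularRing (k' ⊗[Localization.AtPrime 𝔭] EGA4.Cpl (Localization.AtPrime 𝔭)) :=
    IsRegularRing.of_ringEquiv
      (IsLocalization.algebraTensorEquiv 𝔭.primeCompl (Localization.AtPrime 𝔭) k'
        (EGA4.Cpl (Localization.AtPrime 𝔭))).symm.toRingEquiv
  exact IsRegularRing.of_ringEquiv
    (Algebra.TensorProduct.cancelBaseChange (Localization.AtPrime 𝔭) Q.ResidueField k' k'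
      (EGA4.Cpl (Localization.AtPrime 𝔭))).symm.toRingEquiv

end Groth.Agent.Lib.Helper7.FFTensor
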