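import Mathlib

/-!
# Residue fields of non-generic primes of `P₀[X]` lying over `0` are finite over `Frac P₀`
(helper7)
-/

set_option autoImplicit false
set_option linter.style.haveILetI false
set_option linter.unusedSectionVars false
universe u

namespace Groth.Agent.Lib.Helper7.ResFin

open Polynomial IntermediateField

/-- a field generated (as a field of fractions) by the image of `P₀[X]`, in which the image of `X`
is algebraic over `K₀ = Frac P₀`, is finite over `K₀` -/
theorem finite_of_algebraic_generator (P₀ K₀ κ : Type u) [CommRing P₀] [IsDomain P₀] [Field K₀]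
    [Algebra P₀ K₀] [IsFractionRing P₀ K₀] [Field κ] [Algebra K₀ κ] [Algebra P₀ κ]
    [IsScalarTower P₀ K₀ κ] [Algebra P₀[X] κ] [IsScalarTower P₀ P₀[X] κ]
    (h : ∃ a : P₀[X], a ≠ 0 ∧ algebraMap P₀[X] κ a = 0)
    (hgen : ∀ z : κ, ∃ a b : P₀[X], z = algebraMap P₀[X] κ a / algebraMap P₀[X] κ b) :
    Module.Finite K₀ κ := by
  classical
  set ξ : κ := algebraMap P₀[X] κ X with hξ
  -- the structure map of `κ` is evaluation at `ξ`
  have heval : ∀ a : P₀[X], algebraMap P₀[X] κ a = aeval ξ (a.map (algebraMap P₀ K₀)) := by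
    intro a
    have : (algebraMap P₀[X] κ) =
        ((aeval ξ : K₀[X] →ₐ[K₀] κ) : K₀[X] →+* κ).comp (Polynomial.mapRingHom (algebraMap P₀ K₀)) := by
      apply Polynomial.ringHom_ext
      · intro r
        simp only [RingHom.coe_comp, RingHom.coe_coe, Function.comp_apply, coe_mapRingHom, map_C,
          aeval_C]
        rw [← IsScalarTower.algebraMap_apply P₀ K₀ κ, IsScalarTower.algebraMap_apply P₀ P₀[X] κ]
        rfl
      · simp [hξ]
    rw [this]
    rfl
  obtain ⟨a, ha0, ha⟩ := h
  have hinj : Function.Injective (algebraMap P₀ K₀) := IsFractionRing.injective _ _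
  have halg : IsAlgebraic K₀ ξ := by
    refine ⟨a.map (algebraMap P₀ K₀), ?_, ?_⟩
    · rwa [Ne, Polynomial.map_eq_zero_iff hinj]
    · rw [← heval, ha]
  have hint : IsIntegral K₀ ξ := halg.isIntegral
  haveI : FiniteDimensional K₀ K₀⟮ξ⟯ := adjoin.finiteDimensional hint
  have hmem : ∀ b : P₀[X], algebraMap P₀[X] κ b ∈ K₀⟮ξ⟯ := by
    intro b
    rw [heval]
    induction (b.map (algebraMap P₀ K₀)) using Polynomial.induction_on' with
    | add f g hf hg => rw [map_add]; exact add_mem hf hg
    | monomial n c =>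
      rw [aeval_monomial]
      exact mul_mem (K₀⟮ξ⟯.algebraMap_mem c) (pow_mem (mem_adjoin_simple_self K₀ ξ) n)
  have htop : K₀⟮ξ⟯ = ⊤ := by
    rw [eq_top_iff]
    intro z _
    obtain ⟨x, y, rfl⟩ := hgen z
    exact div_mem (hmem x) (hmem y)
  haveI : FiniteDimensional K₀ (⊤ : IntermediateField K₀ κ) := htop ▸ inferInstance
  exact Module.Finite.equiv (IntermediateField.topEquiv (F := K₀) (E := κ)).toLinearEquiv

end Groth.Agent.Lib.Helper7.ResFin
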