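import Mathlib
import Groth.Agent.Lib.Helper7BirStep2
import Groth.Agent.Lib.Helper7FFTensor
import Groth.Agent.Lib.Helper7ResFin
import Groth.Agent.Lib.Helper7PolyPsCore

/-!
# Formal fibres of `P₀[X]_𝔭` at non-generic primes lying over `0` of `P₀` (helper7)
-/

set_option autoImplicit false
set_option linter.style.haveILetI false
set_option linter.unusedSectionVars false
universe u

namespace Groth.Agent.Lib.Helper7.PolyFF

open Polynomial TensorProduct IsLocalRing

theorem core_formalFibre (P₀ A : Type u) [CommRing P₀] [IsDomain P₀] [CommRing A] [Algebra P₀ A]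
    (e : P₀[X] ≃ₐ[P₀] A) (𝔭 : Ideal A) [𝔭.IsPrime] (Q : Ideal (Localization.AtPrime 𝔭))
    [Q.IsPrime]
    (hQ0 : (Q.comap (algebraMap A (Localization.AtPrime 𝔭))).comap (algebraMap P₀ A) = ⊥)
    (hQ : Q ≠ ⊥)
    (hfin : ∀ (L : Type u) [Field L] [Algebra (FractionRing P₀) L] [Algebra P₀ L]
      [IsScalarTower P₀ (FractionRing P₀) L] [Module.Finite (FractionRing P₀) L],
      IsRegularRing (EGA4.Cpl (Localization.AtPrime 𝔭) ⊗[P₀] L)) :
    CAlg.IsGeometricallyRegular Q.ResidueField
      (EGA4.formalFibre (Localization.AtPrime 𝔭) Q) := by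
  classical
  haveI : IsDomain A := MulEquiv.isDomain (P₀[X]) e.symm.toMulEquiv
  -- injectivity of `P₀ → κ(Q)`
  have hinjκ : Function.Injective (algebraMap P₀ Q.ResidueField) := by
    rw [injective_iff_map_eq_zero]
    intro r hr
    rw [IsScalarTower.algebraMap_apply P₀ A Q.ResidueField,
      IsScalarTower.algebraMap_apply A (Localization.AtPrime 𝔭) Q.ResidueField,
      Ideal.algebraMap_residueField_eq_zero] at hr
    have : r ∈ (Q.comap (algebraMap A (Localization.AtPrime 𝔭))).comap (algebraMap P₀ A) := hr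
    rw [hQ0] at this
    exact this
  letI algK : Algebra (FractionRing P₀) Q.ResidueField := (IsFractionRing.lift hinjκ).toAlgebra
  haveI : IsScalarTower P₀ (FractionRing P₀) Q.ResidueField :=
    IsScalarTower.of_algebraMap_eq (fun r => (IsFractionRing.lift_algebraMap hinjκ r).symm)
  -- finiteness of `κ(Q)` over `K₀`
  haveI hfinκ : Module.Finite (FractionRing P₀) Q.ResidueField := by
    letI : Algebra P₀[X] Q.ResidueField :=
      ((algebraMap A Q.ResidueField).comp (e : P₀[X] →+* A)).toAlgebra
    have halg : ∀ a : P₀[X], algebraMap P₀[X] Q.ResidueField a = algebraMap A Q.ResidueField (e a) :=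
      fun a => rfl
    haveI : IsScalarTower P₀ P₀[X] Q.ResidueField := IsScalarTower.of_algebraMap_eq (fun r => by
      rw [halg, Polynomial.algebraMap_apply, Algebra.algebraMap_self, RingHom.id_apply]
      have := e.commutes r
      rw [Polynomial.algebraMap_apply, Algebra.algebraMap_self, RingHom.id_apply] at this
      rw [this, ← IsScalarTower.algebraMap_apply P₀ A Q.ResidueField])
    apply Groth.Agent.Lib.Helper7.ResFin.finite_of_algebraic_generator P₀ (FractionRing P₀)
      Q.ResidueField
    · -- a nonzero element of the kernel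
      obtain ⟨z, hzQ, hz0⟩ := Submodule.exists_mem_ne_zero_of_ne_bot hQ
      obtain ⟨a', s, rfl⟩ := IsLocalization.exists_mk'_eq 𝔭.primeCompl z
      have ha' : a' ≠ 0 := by
        rintro rfl
        exact hz0 (IsLocalization.mk'_zero s)
      refine ⟨e.symm a', fun h0 => ha' ?_, ?_⟩
      · have := congrArg e h0
        rwa [AlgEquiv.apply_symm_apply, map_zero] at this
      · rw [halg, AlgEquiv.apply_symm_apply,
          IsScalarTower.algebraMap_apply A (Localization.AtPrime 𝔭) Q.ResidueField,
          Ideal.algebraMap_residueField_eq_zero, ← IsLocalization.mk'_spec (Localization.AtPrime 𝔭) a' s]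
        exact Q.mul_mem_right _ hzQ
    · -- generation
      intro z
      obtain ⟨x, y, -, rfl⟩ := IsFractionRing.div_surjective (A := Localization.AtPrime 𝔭 ⧸ Q) z
      obtain ⟨x', rfl⟩ := Ideal.Quotient.mk_surjective x
      obtain ⟨y', rfl⟩ := Ideal.Quotient.mk_surjective y
      obtain ⟨a₁, s₁, rfl⟩ := IsLocalization.exists_mk'_eq 𝔭.primeCompl x'
      obtain ⟨a₂, s₂, rfl⟩ := IsLocalization.exists_mk'_eq 𝔭.primeCompl y'
      refine ⟨e.symm (a₁ * s₂), e.symm (a₂ * s₁), ?_⟩
      rw [halg, halg, AlgEquiv.apply_symm_apply, AlgEquiv.apply_symm_apply,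
        Ideal.algebraMap_quotient_residueField_mk, Ideal.algebraMap_quotient_residueField_mk]
      have hs : ∀ s : 𝔭.primeCompl, algebraMap A Q.ResidueField (s : A) ≠ 0 := by
        intro s h0
        rw [IsScalarTower.algebraMap_apply A (Localization.AtPrime 𝔭) Q.ResidueField,
          Ideal.algebraMap_residueField_eq_zero] at h0
        exact (Ideal.IsPrime.ne_top inferInstance)
          (Ideal.eq_top_of_isUnit_mem Q h0 (IsLocalization.map_units _ s))
      have hmk : ∀ (a : A) (s : 𝔭.primeCompl),
          algebraMap (Localization.AtPrime 𝔭) Q.ResidueField (IsLocalization.mk' _ a s) =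
            algebraMap A Q.ResidueField a / algebraMap A Q.ResidueField (s : A) := by
        intro a s
        rw [eq_div_iff (hs s), IsScalarTower.algebraMap_apply A (Localization.AtPrime 𝔭)
          Q.ResidueField, IsScalarTower.algebraMap_apply A (Localization.AtPrime 𝔭) Q.ResidueField,
          ← map_mul, IsLocalization.mk'_spec]
      rw [hmk, hmk, map_mul, map_mul]
      by_cases ha2 : algebraMap A Q.ResidueField a₂ = 0
      · rw [ha2, zero_div, div_zero, zero_mul, div_zero]
      · field_simp [hs s₁, hs s₂]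
  apply Groth.Agent.Lib.Helper7.FFTensor.isGeometricallyRegular_formalFibre_of_tensor A 𝔭 Q
  intro L _ _ _ _ _
  letI : Algebra P₀ L := ((algebraMap A L).comp (algebraMap P₀ A)).toAlgebra
  haveI : IsScalarTower P₀ A L := IsScalarTower.of_algebraMap_eq (fun _ => rfl)
  letI : Algebra (FractionRing P₀) L :=
    ((algebraMap Q.ResidueField L).comp (algebraMap (FractionRing P₀) Q.ResidueField)).toAlgebra
  haveI : IsScalarTower (FractionRing P₀) Q.ResidueField L :=
    IsScalarTower.of_algebraMap_eq (fun _ => rfl)
  haveI : IsScalarTower P₀ (FractionRing P₀) L := IsScalarTower.of_algebraMap_eq (fun r => by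
    rw [IsScalarTower.algebraMap_apply (FractionRing P₀) Q.ResidueField L,
      ← IsScalarTower.algebraMap_apply P₀ (FractionRing P₀) Q.ResidueField,
      IsScalarTower.algebraMap_apply P₀ A Q.ResidueField,
      ← IsScalarTower.algebraMap_apply A Q.ResidueField L]
    rfl)
  haveI : Module.Finite (FractionRing P₀) L := Module.Finite.trans Q.ResidueField L
  have h1 := hfin L
  have hext : Groth.Agent.Lib.Helper7.DerStep.ExtendsDer A
      (EGA4.Cpl (Localization.AtPrime 𝔭)) :=
    Groth.Agent.Lib.Helper7.PolyPsCore.extendsDer_adicCompletion 𝔭.primeCompl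
      (Localization.AtPrime 𝔭) (maximalIdeal (Localization.AtPrime 𝔭))
  have h2 : IsRegularRing (EGA4.Cpl (Localization.AtPrime 𝔭) ⊗[A] L) :=
    Groth.Agent.Lib.Helper7.BirStep2.isRegularRing_tensor_polynomial P₀ A
      (EGA4.Cpl (Localization.AtPrime 𝔭)) L e hext h1
  exact IsRegularRing.of_ringEquiv (R := EGA4.Cpl (Localization.AtPrime 𝔭) ⊗[A] L)
    (Algebra.TensorProduct.comm A (EGA4.Cpl (Localization.AtPrime 𝔭)) L).toRingEquiv

end Groth.Agent.Lib.Helper7.PolyFF
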