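import Mathlib
import Groth.Agent.Lib.Helper7PolyFF
import Groth.Agent.Lib.Helper7PsCoreP
import Groth.Agent.Lib.Helper19ComplDim
import Groth.Agent.Lib.Helper19GRLoc

/-!
# Formal fibres of `P₀[X]_𝔭` at primes lying over `0` of `P₀` (helper7)

`P₀` a regular domain which either has characteristic `p` and an admissible family of subrings, or
has characteristic zero.
-/

set_option autoImplicit false
set_option linter.style.haveILetI false
set_option linter.unusedSectionVars false
universe u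

namespace Groth.Agent.Lib.Helper7.PolyFF2

open Polynomial TensorProduct IsLocalRing Groth.Agent.Lib.Helper7.DerStep
  Groth.Agent.Lib.Helper7.PsCore Groth.Agent.Lib.Helper7.PFamAbs

/-- derivations of `P₀` extend to any `A ≃ P₀[X]` -/
theorem extendsDer_of_algEquiv_polynomial (P₀ A : Type u) [CommRing P₀] [CommRing A]
    [Algebra P₀ A] (e : P₀[X] ≃ₐ[P₀] A) : ExtendsDer P₀ A := by
  intro D
  obtain ⟨D1, hD1⟩ := Groth.Agent.Lib.Helper7.PolyDer.extendsDer_polynomial P₀ D
  let D0 : A →+ A := ((e : P₀[X] →+ A).comp (D1 : P₀[X] →+ P₀[X])).comp (e.symm : A →+ P₀[X])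
  have hD0 : ∀ a, D0 a = e (D1 (e.symm a)) := fun a => rfl
  refine ⟨derivationOfLeibniz D0 (fun a b => by
    rw [hD0, hD0, hD0, map_mul, Derivation.leibniz, smul_eq_mul, smul_eq_mul, map_add, map_mul,
      map_mul, AlgEquiv.apply_symm_apply, AlgEquiv.apply_symm_apply]), fun r => ?_⟩
  rw [derivationOfLeibniz_apply, hD0, ← e.commutes r, AlgEquiv.symm_apply_apply, hD1,
    e.commutes]

/-- the base case: `K₀ ⊗[P₀] Ĉ` is regular -/
theorem isRegularRing_base (P₀ A : Type u) [CommRing P₀] [IsDomain P₀] [CommRing A]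
    [IsRegularRing A] [Algebra P₀ A] (𝔭 : Ideal A) [𝔭.IsPrime] :
    IsRegularRing (FractionRing P₀ ⊗[P₀] EGA4.Cpl (Localization.AtPrime 𝔭)) := by
  haveI : IsNoetherianRing (Localization.AtPrime 𝔭) :=
    IsLocalization.isNoetherianRing 𝔭.primeCompl _ inferInstance
  haveI : IsRegularLocalRing (Localization.AtPrime 𝔭) :=
    IsRegularRing.isRegularLocalRing_localization 𝔭
  haveI : IsRegularLocalRing (EGA4.Cpl (Localization.AtPrime 𝔭)) :=
    (Groth.Agent.Lib.Helper19.isRegularLocalRing_adicCompletion_iff (Localization.AtPrime 𝔭)).1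
      inferInstance
  haveI : IsRegularRing (EGA4.Cpl (Localization.AtPrime 𝔭)) :=
    Groth.Agent.Lib.Helper6.SepBC.isRegularRing_of_isRegularLocalRing _
  haveI h1 : IsRegularRing (EGA4.Cpl (Localization.AtPrime 𝔭) ⊗[P₀] FractionRing P₀) :=
    Groth.Agent.Lib.Helper19.GR.isRegularRing_of_isLocalization
      (R := EGA4.Cpl (Localization.AtPrime 𝔭))
      (Algebra.algebraMapSubmonoid (EGA4.Cpl (Localization.AtPrime 𝔭)) (nonZeroDivisors P₀))
  exact IsRegularRing.of_ringEquiv (Algebra.TensorProduct.comm _ _ _).toRingEquiv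

section

variable (P₀ A : Type u) [CommRing P₀] [IsDomain P₀] [IsRegularRing P₀] [CommRing A]
  [Algebra P₀ A] (e : P₀[X] ≃ₐ[P₀] A) (𝔭 : Ideal A) [𝔭.IsPrime]
  (Q : Ideal (Localization.AtPrime 𝔭)) [Q.IsPrime]

include e in
/-- characteristic `p` -/
theorem formalFibre_of_fam (p : ℕ) [Fact p.Prime] [CharP P₀ p] (𝓕 : Fam p P₀)
    (hQ0 : (Q.comap (algebraMap A (Localization.AtPrime 𝔭))).comap (algebraMap P₀ A) = ⊥) :
    CAlg.IsGeometricallyRegular Q.ResidueField
      (EGA4.formalFibre (Localization.AtPrime 𝔭) Q) := by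
  haveI : IsDomain A := MulEquiv.isDomain (P₀[X]) e.symm.toMulEquiv
  haveI := Groth.Agent.Lib.Helper7.PolyPsCore.isRegularRing_polynomial P₀
  haveI : IsRegularRing A := IsRegularRing.of_ringEquiv (R := P₀[X]) e.toRingEquiv
  haveI : CharP A p := charP_of_injective_ringHom (f := (e : P₀[X] →+* A)) e.injective p
  by_cases hQ : Q = ⊥
  · subst hQ
    let 𝓕A : Fam p A := Groth.Agent.Lib.Helper7.PFamEquiv.famOfRingEquiv e.toRingEquiv
      (Groth.Agent.Lib.Helper7.PFamPoly.famPolynomial p 𝓕)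
    exact Groth.Agent.Lib.Helper7.PolyPsCore.isGeometricallyRegular_generic_formalFibre_of_hasDer p
      A (Groth.Agent.Lib.Helper7.HasDer.hasDer_of_fam p 𝓕A) 𝔭
  · apply Groth.Agent.Lib.Helper7.PolyFF.core_formalFibre P₀ A e 𝔭 Q hQ0 hQ
    intro L _ _ _ _ _
    have hext : ExtendsDer P₀ (EGA4.Cpl (Localization.AtPrime 𝔭)) :=
      Groth.Agent.Lib.Helper7.PolyDer.ExtendsDer.trans (extendsDer_of_algEquiv_polynomial P₀ A e)
        (Groth.Agent.Lib.Helper7.PolyPsCore.extendsDer_adicCompletion 𝔭.primeCompl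
          (Localization.AtPrime 𝔭) (maximalIdeal (Localization.AtPrime 𝔭)))
    have h1 := isRegularRing_tensor_of_finite p (Groth.Agent.Lib.Helper7.HasDer.hasDer_of_fam p 𝓕)
      (EGA4.Cpl (Localization.AtPrime 𝔭)) hext (FractionRing P₀) (isRegularRing_base P₀ A 𝔭) L
    exact IsRegularRing.of_ringEquiv (R := L ⊗[P₀] EGA4.Cpl (Localization.AtPrime 𝔭))
      (Algebra.TensorProduct.comm _ _ _).toRingEquiv

include e in
/-- characteristic zero -/
theorem formalFibre_of_charZero [CharZero P₀]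
    (hQ0 : (Q.comap (algebraMap A (Localization.AtPrime 𝔭))).comap (algebraMap P₀ A) = ⊥) :
    CAlg.IsGeometricallyRegular Q.ResidueField
      (EGA4.formalFibre (Localization.AtPrime 𝔭) Q) := by
  haveI : IsDomain A := MulEquiv.isDomain (P₀[X]) e.symm.toMulEquiv
  haveI := Groth.Agent.Lib.Helper7.PolyPsCore.isRegularRing_polynomial P₀
  haveI : IsRegularRing A := IsRegularRing.of_ringEquiv (R := P₀[X]) e.toRingEquiv
  haveI : CharZero P₀[X] :=
    charZero_of_injective_ringHom (f := (Polynomial.C : P₀ →+* P₀[X])) Polynomial.C_injective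
  haveI : CharZero A := charZero_of_injective_ringHom (f := (e : P₀[X] →+* A)) e.injective
  by_cases hQ : Q = ⊥
  · subst hQ
    exact Groth.Agent.Lib.Helper7.PsCoreP.isGeometricallyRegular_generic_formalFibre_charZero A 𝔭
  · apply Groth.Agent.Lib.Helper7.PolyFF.core_formalFibre P₀ A e 𝔭 Q hQ0 hQ
    intro L _ _ _ _ _
    haveI : CharZero (FractionRing P₀) :=
      charZero_of_injective_algebraMap (IsFractionRing.injective P₀ (FractionRing P₀))
    have h1 := Groth.Agent.Lib.Helper7.PsSep.isRegularRing_tensor_of_isSeparable P₀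
      (FractionRing P₀) L (EGA4.Cpl (Localization.AtPrime 𝔭)) (isRegularRing_base P₀ A 𝔭)
    exact IsRegularRing.of_ringEquiv (R := L ⊗[P₀] EGA4.Cpl (Localization.AtPrime 𝔭))
      (Algebra.TensorProduct.comm _ _ _).toRingEquiv

end

end Groth.Agent.Lib.Helper7.PolyFF2
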