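import Mathlib
import Groth.Agent.Lib.Helper7PolyFF2
import Groth.Agent.Lib.Helper7QFFF2
import Groth.Agent.Lib.Helper7GenFF
import Groth.Agent.Lib.Helper19Normalization2
import Groth.Agent.Lib.Helper19CohenRingLift
import Groth.Agent.Lib.Helper28ComplNagata

/-!
# The polynomial ring over a complete Noetherian local ring is a G-ring (helper7)
-/

set_option autoImplicit false
set_option linter.style.haveILetI false
set_option linter.unusedSectionVars false
universe u

namespace Groth.Agent.Lib.Helper7.PolyGRing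

open Polynomial TensorProduct IsLocalRing

/-- the hypothesis on `(P₀, A)`: formal fibres of the localizations of `A` at primes lying over `0`
of `P₀` are geometrically regular -/
def HasGoodFF (P₀ A : Type u) [CommRing P₀] [CommRing A] [Algebra P₀ A] : Prop :=
  ∀ (𝔭 : Ideal A) [𝔭.IsPrime] (Q : Ideal (Localization.AtPrime 𝔭)) [Q.IsPrime],
    (Q.comap (algebraMap A (Localization.AtPrime 𝔭))).comap (algebraMap P₀ A) = ⊥ →
    CAlg.IsGeometricallyRegular Q.ResidueField (EGA4.formalFibre (Localization.AtPrime 𝔭) Q)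

/-- transfer to finite domain extensions in which `P₀` injects -/
theorem generic_formalFibre_of_hasGoodFF (P₀ A B : Type u) [CommRing P₀] [CommRing A]
    [IsNoetherianRing A] [Algebra P₀ A] (hA : HasGoodFF P₀ A) [CommRing B] [IsDomain B]
    [IsNoetherianRing B] [Algebra A B] [Module.Finite A B] [Algebra P₀ B] [IsScalarTower P₀ A B]
    (hinj : Function.Injective (algebraMap P₀ B)) (P : Ideal B) [P.IsPrime] :
    CAlg.IsGeometricallyRegular (⊥ : Ideal (Localization.AtPrime P)).ResidueField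
      (EGA4.formalFibre (Localization.AtPrime P) (⊥ : Ideal (Localization.AtPrime P))) := by
  haveI : Algebra.QuasiFiniteAt A P := inferInstance
  set p := Ideal.comap (algebraMap A B) P with hp
  set 𝔮₀ := RingHom.ker (algebraMap A B) with h𝔮₀
  haveI h𝔮₀p : 𝔮₀.IsPrime := RingHom.ker_isPrime _
  have hle : 𝔮₀ ≤ p := fun x hx => by
    change algebraMap A B x ∈ P
    rw [(RingHom.mem_ker).1 hx]
    exact zero_mem _
  have hdisj : Disjoint (p.primeCompl : Set A) 𝔮₀ := by
    rw [Set.disjoint_left]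
    intro x hx hxq
    exact hx (hle hxq)
  haveI hQp : (𝔮₀.map (algebraMap A (Localization.AtPrime p))).IsPrime :=
    IsLocalization.isPrime_of_isPrime_disjoint p.primeCompl _ 𝔮₀ inferInstance hdisj
  have hcomap : (𝔮₀.map (algebraMap A (Localization.AtPrime p))).comap
      (algebraMap A (Localization.AtPrime p)) = 𝔮₀ :=
    IsLocalization.comap_map_of_isPrime_disjoint p.primeCompl _ inferInstance hdisj
  refine Groth.Agent.Lib.Helper7.QFFF.main_pointwise A B P ⊥
    (𝔮₀.map (algebraMap A (Localization.AtPrime p))) ?_ (hA p _ ?_)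
  · rw [hcomap, ← RingHom.ker_eq_comap_bot]
    ext x
    rw [RingHom.mem_ker, RingHom.mem_ker, IsScalarTower.algebraMap_apply A B (Localization.AtPrime P)]
    constructor
    · intro h; rw [h, map_zero]
    · intro h
      exact (IsLocalization.injective (Localization.AtPrime P) P.primeCompl_le_nonZeroDivisors)
        (by rw [h, map_zero])
  · rw [hcomap]
    ext r
    rw [Ideal.mem_comap, RingHom.mem_ker, ← IsScalarTower.algebraMap_apply P₀ A B, Ideal.mem_bot]
    exact ⟨fun h => hinj (by rw [h, map_zero]), fun h => by rw [h, map_zero]⟩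

/-- `HasGoodFF` for power series rings over fields and Cohen rings -/
theorem hasGoodFF_mvPowerSeries (Λ : Type u) [CommRing Λ] (hΛ : IsField Λ ∨ CAlg.IsCohenRing Λ)
    (n : ℕ) : HasGoodFF (MvPowerSeries (Fin n) Λ) (Polynomial (MvPowerSeries (Fin n) Λ)) := by
  intro 𝔭 _ Q _ hQ0
  rcases hΛ with hΛ | hΛ
  · letI : Field Λ := hΛ.toField
    haveI : IsDomain (MvPowerSeries (Fin n) Λ) := NoZeroDivisors.to_isDomain _
    haveI : IsRegularRing (MvPowerSeries (Fin n) Λ) :=
      Groth.Agent.Lib.Helper28.isRegularRing_mvPowerSeries_fin Λ n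
    obtain ⟨p, hp⟩ := CharP.exists Λ
    rcases CharP.char_is_prime_or_zero Λ p with hpp | rfl
    · haveI : Fact p.Prime := ⟨hpp⟩
      haveI : CharP (MvPowerSeries (Fin n) Λ) p :=
        charP_of_injective_ringHom (f := (MvPowerSeries.C (σ := Fin n) (R := Λ)))
          MvPowerSeries.C_injective p
      obtain ⟨𝓕⟩ := Groth.Agent.Lib.Helper7.PFamPs.nonempty_fam Λ p n
      exact Groth.Agent.Lib.Helper7.PolyFF2.formalFibre_of_fam (MvPowerSeries (Fin n) Λ)
        (Polynomial (MvPowerSeries (Fin n) Λ)) AlgEquiv.refl 𝔭 Q p 𝓕 hQ0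
    · haveI : CharZero Λ := CharP.charP_to_charZero Λ
      haveI : CharZero (MvPowerSeries (Fin n) Λ) :=
        charZero_of_injective_ringHom (f := (MvPowerSeries.C (σ := Fin n) (R := Λ)))
          (MvPowerSeries.C_injective)
      exact Groth.Agent.Lib.Helper7.PolyFF2.formalFibre_of_charZero (MvPowerSeries (Fin n) Λ)
        (Polynomial (MvPowerSeries (Fin n) Λ)) AlgEquiv.refl 𝔭 Q hQ0
  · obtain ⟨hdom, hdvr, -, -⟩ := id hΛ
    haveI := hdom
    haveI := hdvr
    haveI : CharZero Λ := Groth.Agent.Lib.Helper19.FlatLift.charZero_of_isCohenRing hΛ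
    haveI : IsDomain (MvPowerSeries (Fin n) Λ) := NoZeroDivisors.to_isDomain _
    haveI : IsRegularRing Λ := inferInstance
    haveI : IsRegularRing (MvPowerSeries (Fin n) Λ) :=
      Groth.Agent.Lib.Helper28.isRegularRing_mvPowerSeries_fin Λ n
    haveI : CharZero (MvPowerSeries (Fin n) Λ) :=
      charZero_of_injective_ringHom (f := (MvPowerSeries.C (σ := Fin n) (R := Λ)))
        (MvPowerSeries.C_injective)
    exact Groth.Agent.Lib.Helper7.PolyFF2.formalFibre_of_charZero (MvPowerSeries (Fin n) Λ)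
      (Polynomial (MvPowerSeries (Fin n) Λ)) AlgEquiv.refl 𝔭 Q hQ0

/-- **The polynomial ring over a complete Noetherian local ring is a G-ring.** -/
theorem isGRing_polynomial_of_complete_local (R : Type u) [CommRing R] [IsLocalRing R]
    [IsNoetherianRing R] [IsAdicComplete (maximalIdeal R) R] : CAlg.IsGRing (Polynomial R) := by
  classical
  apply Groth.Agent.Lib.Helper7.GenFF.isGRing_of_generic_formalFibres
  intro 𝔮 _ P _
  set 𝔭 : Ideal R := 𝔮.comap (C : R →+* R[X]) with h𝔭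
  haveI : 𝔭.IsPrime := Ideal.comap_isPrime _ _
  haveI : IsLocalRing (R ⧸ 𝔭) :=
    IsLocalRing.of_surjective' (Ideal.Quotient.mk 𝔭) Ideal.Quotient.mk_surjective
  haveI : IsAdicComplete (maximalIdeal (R ⧸ 𝔭)) (R ⧸ 𝔭) :=
    Groth.Agent.Lib.Helper28.isAdicComplete_quotient_local 𝔭
  obtain ⟨Λ, _, n, f, hΛ, hinj, hfin, -⟩ :=
    Groth.Agent.Lib.Helper19.Normalization.exists_finite_injective_mvPowerSeries_of_complete_local_domain
      (R ⧸ 𝔭)
  let ψ : R ⧸ 𝔭 →+* R[X] ⧸ 𝔮 := Ideal.quotientMap 𝔮 (C : R →+* R[X]) le_rfl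
  have hψ : Function.Injective ψ := Ideal.quotientMap_injective
  have hψmk : ∀ r : R, ψ (Ideal.Quotient.mk 𝔭 r) = Ideal.Quotient.mk 𝔮 (C r) := fun r => rfl
  let φ : MvPowerSeries (Fin n) Λ →+* R[X] ⧸ 𝔮 := ψ.comp f
  let Φ : Polynomial (MvPowerSeries (Fin n) Λ) →+* R[X] ⧸ 𝔮 :=
    Polynomial.eval₂RingHom φ (Ideal.Quotient.mk 𝔮 X)
  letI algA : Algebra (Polynomial (MvPowerSeries (Fin n) Λ)) (R[X] ⧸ 𝔮) := Φ.toAlgebra
  letI algP : Algebra (MvPowerSeries (Fin n) Λ) (R[X] ⧸ 𝔮) := φ.toAlgebra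
  haveI : IsScalarTower (MvPowerSeries (Fin n) Λ) (Polynomial (MvPowerSeries (Fin n) Λ))
      (R[X] ⧸ 𝔮) := IsScalarTower.of_algebraMap_eq (fun r => by
    change φ r = Polynomial.eval₂ φ (Ideal.Quotient.mk 𝔮 X) (Polynomial.C r)
    rw [Polynomial.eval₂_C])
  -- finiteness
  letI algR₁ : Algebra (MvPowerSeries (Fin n) Λ) (R ⧸ 𝔭) := f.toAlgebra
  haveI : Module.Finite (MvPowerSeries (Fin n) Λ) (R ⧸ 𝔭) := hfin
  let ψₐ : (R ⧸ 𝔭) →ₐ[MvPowerSeries (Fin n) Λ] (R[X] ⧸ 𝔮) := { ψ with commutes' := fun r => rfl }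
  let T : (Polynomial (MvPowerSeries (Fin n) Λ)) ⊗[MvPowerSeries (Fin n) Λ] (R ⧸ 𝔭)
      →ₐ[Polynomial (MvPowerSeries (Fin n) Λ)] (R[X] ⧸ 𝔮) :=
    Algebra.TensorProduct.lift (Algebra.ofId _ _) ψₐ (fun _ _ => Commute.all _ _)
  have hT : ∀ (a : Polynomial (MvPowerSeries (Fin n) Λ)) (r : R ⧸ 𝔭),
      T (a ⊗ₜ r) = Φ a * ψ r := by
    intro a r
    simp [T]
    rfl
  have hsurj : Function.Surjective T := by
    intro b
    obtain ⟨Pb, rfl⟩ := Ideal.Quotient.mk_surjective b
    induction Pb using Polynomial.induction_on' with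
    | add f g hf hg =>
      obtain ⟨t1, h1⟩ := hf
      obtain ⟨t2, h2⟩ := hg
      exact ⟨t1 + t2, by rw [map_add, h1, h2, map_add]⟩
    | monomial i r =>
      refine ⟨(X ^ i) ⊗ₜ (Ideal.Quotient.mk 𝔭 r), ?_⟩
      rw [hT, hψmk]
      change Polynomial.eval₂ φ (Ideal.Quotient.mk 𝔮 X) (X ^ i) * _ = _
      rw [Polynomial.eval₂_X_pow, ← map_pow, ← map_mul, mul_comm, Polynomial.C_mul_X_pow_eq_monomial]
  haveI : Module.Finite (Polynomial (MvPowerSeries (Fin n) Λ)) (R[X] ⧸ 𝔮) :=
    Module.Finite.of_surjective T.toLinearMap hsurj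
  haveI : IsNoetherianRing (MvPowerSeries (Fin n) Λ) := by
    rcases hΛ with hΛ | hΛ
    · letI : Field Λ := hΛ.toField
      haveI := Groth.Agent.Lib.Helper28.isRegularRing_mvPowerSeries_fin Λ n
      infer_instance
    · obtain ⟨hdom, hdvr, -, -⟩ := id hΛ
      haveI := hdom
      haveI := hdvr
      haveI : IsRegularRing Λ := inferInstance
      haveI := Groth.Agent.Lib.Helper28.isRegularRing_mvPowerSeries_fin Λ n
      infer_instance
  exact generic_formalFibre_of_hasGoodFF (MvPowerSeries (Fin n) Λ)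
    (Polynomial (MvPowerSeries (Fin n) Λ)) (R[X] ⧸ 𝔮) (hasGoodFF_mvPowerSeries Λ hΛ n)
    (hψ.comp hinj) P

end Groth.Agent.Lib.Helper7.PolyGRing
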