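import Mathlib
import Groth.Agent.Lib.Helper7PolyGRing
import Groth.Agent.Lib.Helper7GRingMax
import Groth.Agent.Lib.Helper7QFFF
import Groth.Agent.Lib.Helper6HomBC2
import Groth.Agent.S4737
import Groth.Agent.S4704

/-!
# Polynomial rings over G-rings are G-rings; finite type algebras over G-rings (helper7)
-/

set_option autoImplicit false
set_option linter.style.haveILetI false
set_option linter.unusedSectionVars false
universe u

namespace Groth.Agent.Lib.Helper7.PolyGRing2

open TensorProduct IsLocalRing Polynomial

/-- `R' → W` regular with `W` a G-ring: the local ring of `R'` at the contraction of a prime of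
`W` has a regular completion map. -/
theorem isRegularHom_cpl_of_isGRing_target (R' W : Type u) [CommRing R'] [CommRing W]
    [Algebra R' W] [IsNoetherianRing R'] (hW : CAlg.IsRegularHom R' W) (hG : CAlg.IsGRing W)
    (N : Ideal W) [N.IsPrime] (q : Ideal R') [q.IsPrime] (hq : q = N.comap (algebraMap R' W)) :
    CAlg.IsRegularHom (Localization.AtPrime q) (EGA4.Cpl (Localization.AtPrime q)) := by
  subst hq
  haveI := hG.1
  letI alg := (Localization.localRingHom (Ideal.comap (algebraMap R' W) N) N (algebraMap R' W)
      rfl).toAlgebra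
  have h1 := Groth.Agent.Lib.Helper7.RegLoc.isRegularHom_localRingHom R' W hW N
  haveI : IsLocalHom (algebraMap (Localization.AtPrime (Ideal.comap (algebraMap R' W) N))
      (Localization.AtPrime N)) :=
    Localization.isLocalHom_localRingHom _ _ _ rfl
  haveI : IsNoetherianRing (Localization.AtPrime N) :=
    IsLocalization.isNoetherianRing N.primeCompl _ inferInstance
  haveI : IsNoetherianRing (Localization.AtPrime (Ideal.comap (algebraMap R' W) N)) :=
    IsLocalization.isNoetherianRing (Ideal.comap (algebraMap R' W) N).primeCompl _ inferInstance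
  exact Groth.Agent.S4704.result _ _ h1 (hG.2 N)

/-- **G-rings descend along faithfully flat regular maps.** -/
theorem isGRing_of_faithfullyFlat_regular (R' W : Type u) [CommRing R'] [CommRing W]
    [Algebra R' W] [IsNoetherianRing R'] [Module.FaithfullyFlat R' W]
    (hW : CAlg.IsRegularHom R' W) (hG : CAlg.IsGRing W) : CAlg.IsGRing R' := by
  refine ⟨inferInstance, fun P _ => ?_⟩
  obtain ⟨Q, hQ⟩ := PrimeSpectrum.comap_surjective_of_faithfullyFlat (A := R') (B := W)
    ⟨P, inferInstance⟩
  haveI := Q.2
  exact isRegularHom_cpl_of_isGRing_target R' W hW hG Q.asIdeal P (by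
    have := congrArg PrimeSpectrum.asIdeal hQ
    exact this.symm)

/-- G-rings are invariant under ring isomorphisms -/
theorem isGRing_of_ringEquiv {R R' : Type u} [CommRing R] [CommRing R'] (e : R ≃+* R')
    (h : CAlg.IsGRing R) : CAlg.IsGRing R' := by
  haveI := h.1
  haveI : IsNoetherianRing R' := isNoetherianRing_of_ringEquiv R e
  letI : Algebra R' R := e.symm.toRingHom.toAlgebra
  let e' : R' ≃ₐ[R'] R := { e.symm with commutes' := fun r => rfl }
  have hreg : CAlg.IsRegularHom R' R :=
    Groth.Agent.Lib.Helper7.QFFF.isRegularHom_of_algEquiv e'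
      (Groth.Agent.Lib.Helper7.RegLoc.isRegularHom_self R')
  haveI : Module.FaithfullyFlat R' R := Module.FaithfullyFlat.of_linearEquiv _ _ e'.symm.toLinearEquiv
  exact isGRing_of_faithfullyFlat_regular R' R hreg h

/-- a localization of a G-ring: local rings of `A` at primes disjoint from `M` -/
theorem isRegularHom_cpl_of_isLocalization (A : Type u) [CommRing A] [IsNoetherianRing A]
    (M : Submonoid A) (S : Type u) [CommRing S] [Algebra A S] [IsLocalization M S]
    (hS : CAlg.IsGRing S) (q : Ideal A) [q.IsPrime] (hdisj : Disjoint (M : Set A) q) :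
    CAlg.IsRegularHom (Localization.AtPrime q) (EGA4.Cpl (Localization.AtPrime q)) := by
  haveI := hS.1
  haveI hP : (q.map (algebraMap A S)).IsPrime :=
    IsLocalization.isPrime_of_isPrime_disjoint M _ q inferInstance hdisj
  have hcomap : (q.map (algebraMap A S)).comap (algebraMap A S) = q :=
    IsLocalization.comap_map_of_isPrime_disjoint M _ inferInstance hdisj
  have h1 := hS.2 (q.map (algebraMap A S))
  have key : ∀ (p' : Ideal A) [p'.IsPrime],
      p' = (q.map (algebraMap A S)).comap (algebraMap A S) →
      CAlg.IsRegularHom (Localization.AtPrime p') (EGA4.Cpl (Localization.AtPrime p')) := by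
    intro p' _ hp'
    subst hp'
    haveI : IsLocalization.AtPrime (Localization.AtPrime (q.map (algebraMap A S)))
        ((q.map (algebraMap A S)).comap (algebraMap A S)) :=
      IsLocalization.isLocalization_isLocalization_atPrime_isLocalization M _
        (q.map (algebraMap A S))
    let e : Localization.AtPrime (q.map (algebraMap A S)) ≃ₐ[A]
        Localization.AtPrime ((q.map (algebraMap A S)).comap (algebraMap A S)) :=
      IsLocalization.algEquiv ((q.map (algebraMap A S)).comap (algebraMap A S)).primeCompl _ _
    haveI : IsNoetherianRing (Localization.AtPrime (q.map (algebraMap A S))) :=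
      IsLocalization.isNoetherianRing (q.map (algebraMap A S)).primeCompl _ inferInstance
    exact Groth.Agent.Lib.Helper7.ExcLoc.isRegularHom_cpl_of_ringEquiv
      (Localization.AtPrime (q.map (algebraMap A S))) _ e.symm.toRingEquiv h1
  exact key q hcomap.symm

/-- the polynomial ring over a Noetherian local ring with regular completion map is a G-ring -/
theorem isGRing_polynomial_of_local (R : Type u) [CommRing R] [IsLocalRing R] [IsNoetherianRing R]
    (h : CAlg.IsRegularHom R (EGA4.Cpl R)) : CAlg.IsGRing R[X] := by
  haveI := Groth.Agent.Lib.Helper28.isAdicComplete_maximalIdeal_adicCompletion R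
  haveI : IsNoetherianRing (EGA4.Cpl R) := Groth.Agent.Lib.Helper19.isNoetherianRing_adicCompletion _
  have hG := Groth.Agent.Lib.Helper7.PolyGRing.isGRing_polynomial_of_complete_local (EGA4.Cpl R)
  haveI : Module.FaithfullyFlat R (EGA4.Cpl R) :=
    Groth.Agent.Lib.Helper19.faithfullyFlat_adicCompletion_of_le_jacobson R (maximalIdeal R)
      (IsLocalRing.maximalIdeal_le_jacobson ⊥)
  have hW : CAlg.IsRegularHom R[X] (R[X] ⊗[R] EGA4.Cpl R) :=
    Groth.Agent.Lib.Helper6.HomBC.main9293 R (EGA4.Cpl R) R[X] h
  let e : (EGA4.Cpl R)[X] ≃+* R[X] ⊗[R] EGA4.Cpl R :=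
    (polyEquivTensor R (EGA4.Cpl R)).toRingEquiv.trans
      (Algebra.TensorProduct.comm R (EGA4.Cpl R) R[X]).toRingEquiv
  have hGW : CAlg.IsGRing (R[X] ⊗[R] EGA4.Cpl R) := isGRing_of_ringEquiv e hG
  haveI : Module.FaithfullyFlat R[X] (R[X] ⊗[R] EGA4.Cpl R) := inferInstance
  exact isGRing_of_faithfullyFlat_regular R[X] _ hW hGW

/-- **The polynomial ring over a G-ring is a G-ring.** -/
theorem isGRing_polynomial (R : Type u) [CommRing R] (h : CAlg.IsGRing R) : CAlg.IsGRing R[X] := by
  haveI := h.1
  refine ⟨inferInstance, fun q _ => ?_⟩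
  set p : Ideal R := q.comap (C : R →+* R[X]) with hp
  haveI : p.IsPrime := Ideal.comap_isPrime _ _
  haveI : IsNoetherianRing (Localization.AtPrime p) :=
    IsLocalization.isNoetherianRing p.primeCompl _ inferInstance
  have h1 : CAlg.IsGRing (Localization.AtPrime p)[X] :=
    isGRing_polynomial_of_local (Localization.AtPrime p) (h.2 p)
  letI := Polynomial.algebra R (Localization.AtPrime p)
  haveI : IsLocalization (p.primeCompl.map (C : R →+* R[X])) (Localization.AtPrime p)[X] :=
    Polynomial.isLocalization p.primeCompl (Localization.AtPrime p)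
  have hdisj : Disjoint ((p.primeCompl.map (C : R →+* R[X]) : Submonoid R[X]) : Set R[X]) q := by
    rw [Set.disjoint_left]
    rintro x ⟨r, hr, rfl⟩ hxq
    exact hr hxq
  exact isRegularHom_cpl_of_isLocalization R[X] (p.primeCompl.map (C : R →+* R[X]))
    (Localization.AtPrime p)[X] h1 q hdisj

/-- polynomial rings in finitely many variables over a G-ring -/
theorem isGRing_mvPolynomial_fin (R : Type u) [CommRing R] (h : CAlg.IsGRing R) (n : ℕ) :
    CAlg.IsGRing (MvPolynomial (Fin n) R) := by
  induction n with
  | zero => exact isGRing_of_ringEquiv (MvPolynomial.isEmptyAlgEquiv R (Fin 0)).symm.toRingEquiv h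
  | succ n ih =>
    exact isGRing_of_ringEquiv (MvPolynomial.finSuccEquiv R n).symm.toRingEquiv
      (isGRing_polynomial _ ih)

/-- a quotient of a G-ring is a G-ring -/
theorem isGRing_quotient (R : Type u) [CommRing R] (h : CAlg.IsGRing R) (I : Ideal R) :
    CAlg.IsGRing (R ⧸ I) := by
  haveI := h.1
  refine ⟨inferInstance, fun P _ => ?_⟩
  set p : Ideal R := P.under R with hp
  haveI : P.LiesOver p := ⟨rfl⟩
  have hM : Algebra.algebraMapSubmonoid (R ⧸ I) p.primeCompl = P.primeCompl :=
    Ideal.algebraMapSubmonoid_primeCompl_of_liesOver_surjective P p Ideal.Quotient.mk_surjective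
  haveI h1 : IsLocalization (Algebra.algebraMapSubmonoid (R ⧸ I) p.primeCompl)
      (Localization.AtPrime p ⧸ I.map (algebraMap R (Localization.AtPrime p))) := inferInstance
  haveI h2 : IsLocalization P.primeCompl
      (Localization.AtPrime p ⧸ I.map (algebraMap R (Localization.AtPrime p))) := hM ▸ h1
  let e : Localization.AtPrime P ≃+*
      (Localization.AtPrime p ⧸ I.map (algebraMap R (Localization.AtPrime p))) :=
    (IsLocalization.algEquiv P.primeCompl (Localization.AtPrime P)
      (Localization.AtPrime p ⧸ I.map (algebraMap R (Localization.AtPrime p)))).toRingEquiv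
  haveI : IsNoetherianRing (Localization.AtPrime p) :=
    IsLocalization.isNoetherianRing p.primeCompl _ inferInstance
  haveI : Nontrivial (Localization.AtPrime p ⧸ I.map (algebraMap R (Localization.AtPrime p))) :=
    e.injective.nontrivial
  have h3 := Groth.Agent.S4737.result (Localization.AtPrime p) (h.2 p)
    (I.map (algebraMap R (Localization.AtPrime p)))
  exact Groth.Agent.Lib.Helper7.ExcLoc.isRegularHom_cpl_of_ringEquiv _ _ e h3

/-- **An algebra of finite type over a G-ring is a G-ring.** -/
theorem isGRing_of_finiteType (R : Type u) [CommRing R] (hR : CAlg.IsGRing R) (S : Type u)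
    [CommRing S] [Algebra R S] [Algebra.FiniteType R S] : CAlg.IsGRing S := by
  obtain ⟨n, f, hf⟩ := Algebra.FiniteType.iff_quotient_mvPolynomial''.1
    (inferInstance : Algebra.FiniteType R S)
  have h1 := isGRing_quotient _ (isGRing_mvPolynomial_fin R hR n) (RingHom.ker f.toRingHom)
  exact isGRing_of_ringEquiv (RingHom.quotientKerEquivOfSurjective (f := f.toRingHom) hf) h1

end Groth.Agent.Lib.Helper7.PolyGRing2
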