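import Groth.Agent.Lib.Helper7Smoothing31

set_option autoImplicit false
set_option linter.style.haveILetI false
universe u
open MvPolynomial

namespace Groth.Agent.Lib.Helper7.Smoothing

/-- uniform exponent and multiplier over a finite set -/
theorem exists_uniform_kill {A Λ : Type*} [CommRing A] [CommRing Λ] (φ : A →+* Λ) (𝔮 : Ideal Λ)
    [𝔮.IsPrime] (s : Finset A) (h : ∀ a ∈ s, ∃ N : ℕ, ∃ ν ∉ 𝔮, ν * φ a ^ N = 0) :
    ∃ N : ℕ, ∃ ν ∉ 𝔮, ∀ a ∈ s, ν * φ a ^ N = 0 := by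
  classical
  induction s using Finset.induction_on with
  | empty => exact ⟨0, 1, fun h1 => (Ideal.IsPrime.ne_top inferInstance)
      ((Ideal.eq_top_iff_one 𝔮).mpr h1), by simp⟩
  | insert a t hat ih =>
    obtain ⟨N₁, ν₁, hν₁, h₁⟩ := ih (fun b hb => h b (Finset.mem_insert_of_mem hb))
    obtain ⟨N₂, ν₂, hν₂, h₂⟩ := h a (Finset.mem_insert_self a t)
    refine ⟨N₁ + N₂, ν₁ * ν₂, fun hmem =>
      (Ideal.IsPrime.mem_or_mem inferInstance hmem).elim hν₁ hν₂, fun b hb => ?_⟩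
    rcases Finset.mem_insert.mp hb with rfl | hb
    · rw [pow_add]
      calc ν₁ * ν₂ * (φ b ^ N₁ * φ b ^ N₂) = ν₁ * φ b ^ N₁ * (ν₂ * φ b ^ N₂) := by ring
        _ = 0 := by rw [h₂, mul_zero]
    · rw [pow_add]
      calc ν₁ * ν₂ * (φ b ^ N₁ * φ b ^ N₂) = ν₁ * φ b ^ N₁ * (ν₂ * φ b ^ N₂) := by ring
        _ = 0 := by rw [h₁ b hb, zero_mul]

section
variable {R A Λ Cc : Type u} [CommRing R] [CommRing A] [Algebra R A] [CommRing Λ] [Algebra R Λ]
  [CommRing Cc] [Algebra R Cc]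

/-- the difference of the two maps `P → Λ` is killed by `ν` -/
theorem mul_polyMap_eq_of_kill {σ : Type*} (g : A →ₐ[R] Cc) (h : Cc →ₐ[R] Λ) (φ : A →ₐ[R] Λ)
    (hgh : ∀ a, h (g a) = φ a) (ξ : σ → Cc) (η : σ → Λ) (ν : Λ)
    (hη : ∀ i, ν * η i = ν * h (ξ i)) (p : MvPolynomial σ A) :
    ν * polyMap φ η p = ν * h (polyMap g ξ p) := by
  induction p using MvPolynomial.induction_on with
  | C a => rw [polyMap_C, polyMap_C, hgh]
  | add p q hp hq => rw [map_add, map_add, map_add, mul_add, mul_add, hp, hq]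
  | mul_X p i hp =>
    rw [map_mul, map_mul, map_mul, polyMap_X, polyMap_X]
    calc ν * (polyMap φ η p * η i) = (ν * polyMap φ η p) * η i := by ring
      _ = (ν * h (polyMap g ξ p)) * η i := by rw [hp]
      _ = h (polyMap g ξ p) * (ν * η i) := by ring
      _ = h (polyMap g ξ p) * (ν * h (ξ i)) := by rw [hη]
      _ = ν * (h (polyMap g ξ p) * h (ξ i)) := by ring

end

theorem resolvable_of_factor {R A Λ Cc : Type u} [CommRing R] [IsNoetherianRing R] [CommRing A]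
    [Algebra R A] [Algebra.FinitePresentation R A] [CommRing Λ] [Algebra R Λ] (φ : A →ₐ[R] Λ)
    (𝔮 : Ideal Λ) [𝔮.IsPrime] [CommRing Cc] [Algebra R Cc] [Algebra.FinitePresentation R Cc]
    (g : A →ₐ[R] Cc) (h : Cc →ₐ[R] Λ) (hgh : h.comp g = φ)
    (hC : ¬ (Smoothing.singularIdeal R Cc).map h ≤ 𝔮)
    (hnil : ∀ a ∈ Smoothing.singularIdeal R A, ∃ N : ℕ, ∃ ν ∉ 𝔮, ν * φ a ^ N = 0) :
    Smoothing.Resolvable R φ 𝔮 := by
  classical
  haveI : IsNoetherianRing A := Algebra.FiniteType.isNoetherianRing R A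
  obtain ⟨sA, hsA⟩ := (IsNoetherian.noetherian (Smoothing.singularIdeal R A) :
    (Smoothing.singularIdeal R A).FG)
  have hsA_mem : ∀ a ∈ sA, a ∈ Smoothing.singularIdeal R A := fun a ha =>
    hsA ▸ Ideal.subset_span ha
  obtain ⟨N, ν, hνq, hνa⟩ := exists_uniform_kill (φ : A →+* Λ) 𝔮 sA
    (fun a ha => hnil a (hsA_mem a ha))
  obtain ⟨sC, hsC⟩ := (Algebra.FiniteType.out : (⊤ : Subalgebra R Cc).FG)
  have hgh' : ∀ a, h (g a) = φ a := fun a => DFunLike.congr_fun hgh a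
  -- the maps
  let ξ : (↥sC ⊕ ↥sA) → Cc := Sum.elim (fun x => x.1) (fun _ => 0)
  let η : (↥sC ⊕ ↥sA) → Λ := Sum.elim (fun x => h x.1) (fun a => φ a.1 ^ N)
  have hρψ : ∀ p, ν * polyMap φ η p = ν * h (polyMap g ξ p) := by
    refine mul_polyMap_eq_of_kill g h φ hgh' ξ η ν ?_
    rintro (x | a)
    · rfl
    · change ν * φ a.1 ^ N = ν * h 0
      rw [map_zero, mul_zero]
      exact hνa a.1 a.2
  have hψsurj : Function.Surjective (polyMap g ξ) := by
    rw [← AlgHom.range_eq_top, eq_top_iff, ← hsC]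
    refine Algebra.adjoin_le ?_
    intro x hx
    exact ⟨X (Sum.inl ⟨x, hx⟩), polyMap_X _ _ _⟩
  rw [Ideal.map_le_iff_le_comap] at hC
  obtain ⟨c, hc, hcn⟩ := SetLike.not_le_iff_exists.mp hC
  obtain ⟨ct, hct⟩ := hψsurj c
  refine resolvable_of_zk φ 𝔮 (polyMap g ξ) hψsurj (polyMap φ η) (fun a => polyMap_C _ _ _) ν
    (fun p hp => by rw [hρψ, hp, map_zero, mul_zero]) (sA : Set A) hsA ?_ ?_
  · intro a ha
    refine ⟨X (Sum.inr ⟨a, ha⟩), polyMap_X _ _ _, N, ?_⟩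
    rw [polyMap_X, pow_succ]
    rfl
  · refine ⟨c, hc, ct, hct, ?_⟩
    rw [hρψ, hct]
    intro hmem
    exact (Ideal.IsPrime.mem_or_mem inferInstance hmem).elim hνq hcn

end Groth.Agent.Lib.Helper7.Smoothing
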