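import Groth.Agent.Lib.Helper7Smoothing28

set_option autoImplicit false
set_option linter.style.haveILetI false
universe u
open MvPolynomial

namespace Groth.Agent.Lib.Helper7.Smoothing

theorem delocalize_of_resolution {R A Λ Rₚ Λq B₀ : Type u} [CommRing R] [IsNoetherianRing R]
    [CommRing A] [Algebra R A] [Algebra.FinitePresentation R A] [CommRing Λ] [Algebra R Λ]
    (φ : A →ₐ[R] Λ) (𝔮 : Ideal Λ) [𝔮.IsPrime] [CommRing Rₚ] [Algebra R Rₚ] (M : Submonoid R)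
    [IsLocalization M Rₚ] [CommRing Λq] [Algebra Λ Λq] [IsLocalization.AtPrime Λq 𝔮]
    [Algebra R Λq] [IsScalarTower R Λ Λq] [Algebra Rₚ Λq] [IsScalarTower R Rₚ Λq]
    [CommRing B₀] [Algebra Rₚ B₀] [Algebra R B₀] [IsScalarTower R Rₚ B₀]
    [Algebra.FinitePresentation Rₚ B₀] (gA : A →ₐ[R] B₀) (h₀ : B₀ →ₐ[Rₚ] Λq)
    (hcomp : ∀ a, h₀ (gA a) = algebraMap Λ Λq (φ a)) (b : B₀)
    (hb : b ∈ Smoothing.singularIdeal Rₚ B₀) (hbu : IsUnit (h₀ b)) :
    ∃ (C : Type u) (_ : CommRing C) (_ : Algebra R C), Algebra.FinitePresentation R C ∧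
      ∃ (g : A →ₐ[R] C) (h : C →ₐ[R] Λ), h.comp g = φ ∧
        ¬ (Smoothing.singularIdeal R C).map h ≤ 𝔮 := by
  classical
  obtain ⟨s, hs⟩ := (Algebra.FiniteType.out : (⊤ : Subalgebra Rₚ B₀).FG)
  obtain ⟨⟨μ₀, hμ₀⟩, hint⟩ :=
    IsLocalization.exist_integer_multiples_of_finset 𝔮.primeCompl (s.image h₀)
  have hl : ∀ β : B₀, β ∈ s → ∃ l : Λ, algebraMap Λ Λq l = algebraMap Λ Λq μ₀ * h₀ β := by
    intro β hβ
    obtain ⟨l, hl⟩ := hint (h₀ β) (Finset.mem_image_of_mem _ hβ)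
    exact ⟨l, by rw [hl, Algebra.smul_def]⟩
  choose! l hl using hl
  haveI : Algebra.FormallySmooth Rₚ (Localization.Away (C b * X 0 : MvPolynomial (Fin 1) B₀)) :=
    formallySmooth_away_C_mul_X b hb
  haveI : Algebra.FormallySmooth R Rₚ := Algebra.FormallySmooth.of_isLocalization M
  haveI : Algebra.FormallySmooth R (Localization.Away (C b * X 0 : MvPolynomial (Fin 1) B₀)) :=
    Algebra.FormallySmooth.comp R Rₚ _
  -- hPB
  let hPB : MvPolynomial (Fin 1) B₀ →ₐ[R] Λq :=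
    polyMap (h₀.restrictScalars R) (fun _ => algebraMap Λ Λq μ₀)
  have hPB_C : ∀ β, hPB (C β) = h₀ β := fun β => polyMap_C _ _ _
  have hPB_X : ∀ i, hPB (X i) = algebraMap Λ Λq μ₀ := fun i => polyMap_X _ _ _
  have hμu : IsUnit (algebraMap Λ Λq μ₀) := IsLocalization.map_units Λq ⟨μ₀, hμ₀⟩
  have hunit : ∀ y : Submonoid.powers (C b * X 0 : MvPolynomial (Fin 1) B₀), IsUnit (hPB y) := by
    rintro ⟨_, n, rfl⟩
    rw [map_pow]
    refine IsUnit.pow n ?_
    rw [map_mul, hPB_C, hPB_X]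
    exact hbu.mul hμu
  let hE : Localization.Away (C b * X 0 : MvPolynomial (Fin 1) B₀) →ₐ[R] Λq :=
    IsLocalization.liftAlgHom hunit
  have hE_can : ∀ p : MvPolynomial (Fin 1) B₀, hE (algebraMap _ _ p) = hPB p :=
    fun p => IsLocalization.lift_eq _ _
  -- P₀
  let gE : A →ₐ[R] Localization.Away (C b * X 0 : MvPolynomial (Fin 1) B₀) :=
    (IsScalarTower.toAlgHom R (MvPolynomial (Fin 1) B₀) _).comp
      ((IsScalarTower.toAlgHom R B₀ (MvPolynomial (Fin 1) B₀)).comp gA)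
  have hgE : ∀ a, gE a = algebraMap (MvPolynomial (Fin 1) B₀) _ (C (gA a)) := fun a => rfl
  let τ : Option s → Localization.Away (C b * X 0 : MvPolynomial (Fin 1) B₀) :=
    fun o => o.elim (algebraMap (MvPolynomial (Fin 1) B₀) _ (X 0))
      (fun β => algebraMap (MvPolynomial (Fin 1) B₀) _ (X 0 * C β.1))
  let ψ₀ : MvPolynomial (Option s) A →ₐ[R] Localization.Away (C b * X 0 : MvPolynomial (Fin 1) B₀) :=
    polyMap gE τ
  have hψ₀_C : ∀ a, ψ₀ (C a) = gE a := fun a => polyMap_C _ _ _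
  have hψ₀_X : ∀ i, ψ₀ (X i) = τ i := fun i => polyMap_X _ _ _
  let l' : Option s → Λ := fun o => o.elim μ₀ (fun β => l β.1)
  let lam₀ : MvPolynomial (Option s) A →ₐ[R] Λ := polyMap φ l'
  have hlam₀_C : ∀ a, lam₀ (C a) = φ a := fun a => polyMap_C _ _ _
  have hlam₀_X : ∀ i, lam₀ (X i) = l' i := fun i => polyMap_X _ _ _
  have hcomm : ∀ p, algebraMap Λ Λq (lam₀ p) = hE (ψ₀ p) := by
    intro p
    refine polyMap_ext' ((algebraMap Λ Λq).comp (lam₀ : MvPolynomial (Option s) A →+* Λ))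
      ((hE : Localization.Away (C b * X 0 : MvPolynomial (Fin 1) B₀) →+* Λq).comp
        (ψ₀ : MvPolynomial (Option s) A →+*
          Localization.Away (C b * X 0 : MvPolynomial (Fin 1) B₀))) ?_ ?_ p
    · intro a
      change algebraMap Λ Λq (lam₀ (C a)) = hE (ψ₀ (C a))
      rw [hlam₀_C, hψ₀_C, hgE, hE_can, hPB_C, hcomp]
    · rintro (_ | β)
      · change algebraMap Λ Λq (lam₀ (X none)) = hE (ψ₀ (X none))
        rw [hlam₀_X, hψ₀_X]
        change algebraMap Λ Λq μ₀ = hE (algebraMap (MvPolynomial (Fin 1) B₀) _ (X 0))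
        rw [hE_can, hPB_X]
      · change algebraMap Λ Λq (lam₀ (X (some β))) = hE (ψ₀ (X (some β)))
        rw [hlam₀_X, hψ₀_X]
        change algebraMap Λ Λq (l β.1) =
          hE (algebraMap (MvPolynomial (Fin 1) B₀) _ (X 0 * C β.1))
        rw [hE_can, map_mul, hPB_X, hPB_C, hl β.1 β.2]
  have hfrac : fracClosure ψ₀.range = ⊤ := by
    refine fracClosure_eq_top_of_gens M b (s : Set B₀) hs ψ₀.range
      ⟨X none, hψ₀_X none⟩ ?_
    intro β hβ
    exact ⟨X (some ⟨β, hβ⟩), hψ₀_X _⟩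
  obtain ⟨Cc, _, _, hfp, g', h, hgh, hsing⟩ := delocalize_core 𝔮 ψ₀ hfrac hE lam₀ hcomm
  refine ⟨Cc, inferInstance, inferInstance, hfp,
    g'.comp (IsScalarTower.toAlgHom R A (MvPolynomial (Option s) A)), h, ?_, hsing⟩
  rw [← AlgHom.comp_assoc, hgh]
  ext a
  exact hlam₀_C a

end Groth.Agent.Lib.Helper7.Smoothing
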