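import Mathlib
import Groth.Prelude.Def_Smoothing
import Groth.Agent.S2034

/-!
# Helper7Smoothing46 (helper7): `resolvable_of_indSmooth_local` (zero-dimensional ind-smooth local problem is resolvable, via S2034), `singularIdeal_eq_top_of_smooth`.
-/

set_option autoImplicit false
set_option linter.style.haveILetI false
universe u
open Function TensorProduct MvPolynomial

namespace Groth.Agent.Lib.Helper7.Smoothing

theorem singularIdeal_eq_top_of_smooth {R B : Type u} [CommRing R] [CommRing B] [Algebra R B]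
    [Algebra.Smooth R B] : Smoothing.singularIdeal R B = ⊤ := by
  rw [Smoothing.singularIdeal, Algebra.smoothLocus_eq_univ, Set.compl_univ]
  exact PrimeSpectrum.vanishingIdeal_empty

/-- Local problem: if `Λ_𝔮` is zero-dimensional and ind-smooth over `R_𝔭`, the problem can be
resolved (via `S2034`). -/
theorem resolvable_of_indSmooth_local {R A Λ Rₚ Λq : Type u} [CommRing R] [IsNoetherianRing R]
    [CommRing A] [Algebra R A] [Algebra.FinitePresentation R A] [CommRing Λ] [Algebra R Λ]
    (φ : A →ₐ[R] Λ) (𝔮 : Ideal Λ) [𝔮.IsPrime]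
    (hmin : 𝔮 ∈ (Smoothing.singRad R φ).minimalPrimes)
    [CommRing Rₚ] [Algebra R Rₚ] [IsLocalization.AtPrime Rₚ (𝔮.comap (algebraMap R Λ))]
    [CommRing Λq] [Algebra Λ Λq] [IsLocalization.AtPrime Λq 𝔮] [Algebra R Λq]
    [IsScalarTower R Λ Λq] [Algebra Rₚ Λq] [IsScalarTower R Rₚ Λq]
    (hdim : ringKrullDim Λq = 0) (hind : Smoothing.IndSmooth Rₚ Λq) :
    Smoothing.Resolvable R φ 𝔮 := by
  refine Groth.Agent.S2034.result (Rₚ := Rₚ) (Λq := Λq) φ 𝔮 hmin hdim ?_
  obtain ⟨B, _, _, hB, g, h, hgh⟩ := hind (Rₚ ⊗[R] A) inferInstance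
    (Algebra.TensorProduct.lift (Algebra.ofId Rₚ Λq) ((IsScalarTower.toAlgHom R Λ Λq).comp φ)
        (fun _ _ => Commute.all _ _))
  haveI := hB
  refine ⟨B, inferInstance, inferInstance, inferInstance, g, h, hgh, ?_, ?_⟩
  · have : Smoothing.singRad Rₚ h = ⊤ := by
      rw [Smoothing.singRad, singularIdeal_eq_top_of_smooth, Ideal.map_top, Ideal.radical_top]
    rw [this]
    exact le_top
  · have : Smoothing.singRad Rₚ h = ⊤ := by
      rw [Smoothing.singRad, singularIdeal_eq_top_of_smooth, Ideal.map_top, Ideal.radical_top]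
    rw [this, top_le_iff]
    haveI : IsLocalRing Λq := IsLocalization.AtPrime.isLocalRing Λq 𝔮
    rw [IsLocalization.AtPrime.map_eq_maximalIdeal 𝔮 Λq]
    exact Ideal.IsPrime.ne_top inferInstance

end Groth.Agent.Lib.Helper7.Smoothing
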