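import Mathlib

/-!
# Idempotents of tensor products over a field (helper14)

Shared lemmas for S9623 (connectedness of `R ⊗_k S` over a separably closed field) and
S9624 (idempotents of `R ⊗_k S` for `S` geometrically connected).

Main results (namespace `Groth.Agent.Lib.Helper14Idem`):
* `eq_of_isNilpotent_sub`: idempotents with nilpotent difference are equal.
* `idem_trivial_of_connected`, `connected_of_idem_trivial`.
* `exists_idem_of_forall_maximal`: an idempotent of `R ⊗_k S` (`R` of finite type over the field `k`)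
  which is `0` or `1` modulo every maximal ideal of `R` equals `ε ⊗ 1` for an idempotent `ε` of `R`.
* `exists_fg_subalgebra`, `map_val_injective`: reduction to a finitely generated subalgebra.
* `idem_trivial_tensor_of_purelyInseparable`: `κ ⊗_k S` has only trivial idempotents when `κ/k` is
  purely inseparable and `S` has only trivial idempotents.
-/

set_option autoImplicit false
universe u
open TensorProduct

namespace Groth.Agent.Lib.Helper14Idem

/-- commuting idempotents whose difference is nilpotent are equal -/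
lemma eq_of_isNilpotent_sub {A : Type*} [CommRing A] {e f : A} (he : IsIdempotentElem e)
    (hf : IsIdempotentElem f) (h : IsNilpotent (e - f)) : e = f := by
  set d := e - f with hd
  have h3 : d * (d * d) = d := by
    have he' : e * e = e := he
    have hf' : f * f = f := hf
    have : d * (d * d) = e * e * e - 3 * (e * e) * f + 3 * e * (f * f) - f * f * f := by
      rw [hd]; ring
    rw [this, he', he', hf', hf', hd]; ring
  have hk : ∀ k : ℕ, d * (d * d) ^ k = d := by
    intro k
    induction k with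
    | zero => simp
    | succ k ih => rw [pow_succ, ← mul_assoc, ih, h3]
  obtain ⟨n, hn⟩ := h
  have h0 : (d * d) ^ n = 0 := by rw [mul_pow, hn, zero_mul]
  have := hk n
  rw [h0, mul_zero] at this
  exact sub_eq_zero.mp this.symm

lemma idem_trivial_of_connected {R : Type*} [CommRing R] [ConnectedSpace (PrimeSpectrum R)]
    {e : R} (he : IsIdempotentElem e) : e = 0 ∨ e = 1 := by
  have hcl : IsClopen (PrimeSpectrum.basicOpen e : Set (PrimeSpectrum R)) :=
    PrimeSpectrum.isClopen_iff.2 ⟨e, he, rfl⟩
  rcases isClopen_iff.1 hcl with h | h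
  · left
    apply PrimeSpectrum.basicOpen_injOn_isIdempotentElem he IsIdempotentElem.zero
    apply TopologicalSpace.Opens.ext
    rw [h]
    simp
  · right
    apply PrimeSpectrum.basicOpen_injOn_isIdempotentElem he IsIdempotentElem.one
    apply TopologicalSpace.Opens.ext
    rw [h]
    simp

lemma connected_of_idem_trivial {R : Type*} [CommRing R] [Nontrivial R]
    (h : ∀ e : R, IsIdempotentElem e → e = 0 ∨ e = 1) : ConnectedSpace (PrimeSpectrum R) := by
  rw [connectedSpace_iff_clopen]
  refine ⟨inferInstance, fun s hs => ?_⟩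
  obtain ⟨e, he, rfl⟩ := PrimeSpectrum.isClopen_iff.1 hs
  rcases h e he with rfl | rfl
  · left; simp
  · right; simp

section Repr

variable {k : Type*} [Field k] {A A' S : Type*} [CommRing A] [CommRing A'] [CommRing S]
  [Algebra k A] [Algebra k A'] [Algebra k S] {ι : Type*} (b : Module.Basis ι k S)

lemma repr_map (φ : A →ₐ[k] A') (y : A ⊗[k] S) (i : ι) :
    (Algebra.TensorProduct.basis A' b).repr (Algebra.TensorProduct.map φ (AlgHom.id k S) y) i =
      φ ((Algebra.TensorProduct.basis A b).repr y i) := by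
  induction y using TensorProduct.induction_on with
  | zero => simp
  | tmul a m =>
    rw [Algebra.TensorProduct.map_tmul, Algebra.TensorProduct.basis_repr_tmul,
      Algebra.TensorProduct.basis_repr_tmul]
    simp
  | add y z hy hz => simp only [map_add, Finsupp.add_apply, hy, hz]

lemma repr_one (i : ι) :
    (Algebra.TensorProduct.basis A b).repr (1 : A ⊗[k] S) i = algebraMap k A (b.repr 1 i) := by
  rw [Algebra.TensorProduct.one_def, Algebra.TensorProduct.basis_repr_tmul]
  simp

end Repr


section Main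

variable {k : Type u} [Field k] {R S : Type u} [CommRing R] [CommRing S] [Algebra k R] [Algebra k S]

/-- Main lemma: an idempotent of `R ⊗ S` (R f.g. over the field k) which is `0` or `1` modulo every
maximal ideal of `R` is of the form `ε ⊗ 1` with `ε` idempotent in `R`. -/
theorem exists_idem_of_forall_maximal [Algebra.FiniteType k R] [Nontrivial S]
    (x : R ⊗[k] S) (hx : IsIdempotentElem x)
    (H : ∀ (m : Ideal R) [m.IsMaximal],
      Algebra.TensorProduct.map (Ideal.Quotient.mkₐ k m) (AlgHom.id k S) x = 0 ∨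
      Algebra.TensorProduct.map (Ideal.Quotient.mkₐ k m) (AlgHom.id k S) x = 1) :
    ∃ ε : R, IsIdempotentElem ε ∧ x = ε ⊗ₜ[k] (1 : S) := by
  classical
  have : IsJacobsonRing R := isJacobsonRing_of_finiteType (A := k)
  let ι := Module.Free.ChooseBasisIndex k S
  let b : Module.Basis ι k S := Module.Free.chooseBasis k S
  let B := Algebra.TensorProduct.basis R b
  set r := B.repr x with hr
  set c := b.repr 1 with hc
  obtain ⟨I₀, hI₀⟩ : ∃ I : Ideal R, I = Ideal.span (Set.range r) := ⟨_, rfl⟩
  obtain ⟨I₁, hI₁⟩ : ∃ I : Ideal R, I = Ideal.span (Set.range fun i => r i - algebraMap k R (c i)) :=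
    ⟨_, rfl⟩
  have hmem₀ : ∀ i, r i ∈ I₀ := fun i => hI₀ ▸ Ideal.subset_span ⟨i, rfl⟩
  have hmem₁ : ∀ i, r i - algebraMap k R (c i) ∈ I₁ := fun i => hI₁ ▸ Ideal.subset_span ⟨i, rfl⟩
  -- dichotomy at maximal ideals
  have hdich : ∀ (m : Ideal R) [m.IsMaximal], I₀ ≤ m ∨ I₁ ≤ m := by
    intro m hm
    rcases H m with h0 | h1
    · left
      rw [hI₀, Ideal.span_le]
      rintro _ ⟨i, rfl⟩
      have := repr_map b (Ideal.Quotient.mkₐ k m) x i
      rw [h0] at this
      simp only [map_zero, Finsupp.coe_zero, Pi.zero_apply] at this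
      exact Ideal.Quotient.eq_zero_iff_mem.mp this.symm
    · right
      rw [hI₁, Ideal.span_le]
      rintro _ ⟨i, rfl⟩
      have := repr_map b (Ideal.Quotient.mkₐ k m) x i
      rw [h1, repr_one] at this
      change r i - algebraMap k R (c i) ∈ m
      rw [← Ideal.Quotient.eq_zero_iff_mem, map_sub, ← Ideal.Quotient.mkₐ_eq_mk k, ← this]
      rw [AlgHom.commutes, sub_self]
  have hsup : I₀ ⊔ I₁ = ⊤ := by
    by_contra hne
    obtain ⟨m, hm, hle⟩ := Ideal.exists_le_maximal _ hne
    have hc0 : ∀ i, c i = 0 := by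
      intro i
      by_contra hci
      have h1 : r i ∈ m := hle (Ideal.mem_sup_left (hmem₀ i))
      have h2 : r i - algebraMap k R (c i) ∈ m := hle (Ideal.mem_sup_right (hmem₁ i))
      have h3 : algebraMap k R (c i) ∈ m := by
        have := m.sub_mem h1 h2
        simpa using this
      have hu : IsUnit (algebraMap k R (c i)) := (isUnit_iff_ne_zero.mpr hci).map _
      exact hm.ne_top (Ideal.eq_top_of_isUnit_mem _ h3 hu)
    have : (1 : S) = 0 := by
      have h1 : c = 0 := Finsupp.ext hc0
      exact b.repr.map_eq_zero_iff.mp h1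
    exact one_ne_zero this
  have hmul : I₀ * I₁ ≤ nilradical R := by
    intro y hy
    have : y ∈ (⊥ : Ideal R).jacobson := by
      rw [Ideal.jacobson, Ideal.mem_sInf]
      rintro m ⟨-, hm⟩
      rcases hdich m with h | h
      · exact h (Ideal.mul_le_left hy)
      · exact h (Ideal.mul_le_right hy)
    rwa [← Ideal.radical_eq_jacobson] at this
  -- every prime contains I₀ or I₁, and not both
  have hprime : ∀ p : PrimeSpectrum R, I₀ ≤ p.asIdeal ∨ I₁ ≤ p.asIdeal := by
    intro p
    have h1 : I₀ * I₁ ≤ p.asIdeal := hmul.trans (nilradical_le_prime p.asIdeal)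
    exact (p.2.mul_le).mp h1
  have hZ : IsClopen (PrimeSpectrum.zeroLocus (I₀ : Set R)) := by
    refine ⟨PrimeSpectrum.isClosed_zeroLocus _, ?_⟩
    have hcompl : (PrimeSpectrum.zeroLocus (I₀ : Set R))ᶜ = PrimeSpectrum.zeroLocus (I₁ : Set R) := by
      ext p
      simp only [Set.mem_compl_iff, PrimeSpectrum.mem_zeroLocus, SetLike.coe_subset_coe]
      constructor
      · intro h; exact (hprime p).resolve_left h
      · intro h1 h0
        have : (⊤ : Ideal R) ≤ p.asIdeal := hsup ▸ sup_le h0 h1
        exact p.2.ne_top (top_le_iff.mp this)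
    rw [← isClosed_compl_iff, hcompl]
    exact PrimeSpectrum.isClosed_zeroLocus _
  obtain ⟨ε, hε, hZε⟩ := PrimeSpectrum.isClopen_iff_zeroLocus.mp hZ
  refine ⟨ε, hε, ?_⟩
  -- the coordinates of x - ε ⊗ 1 are nilpotent
  have hnil : ∀ i, IsNilpotent (r i - ε * algebraMap k R (c i)) := by
    intro i
    rw [nilpotent_iff_mem_prime]
    intro J hJ
    let p : PrimeSpectrum R := ⟨J, hJ⟩
    by_cases hp : p ∈ PrimeSpectrum.zeroLocus (I₀ : Set R)
    · have h1 : r i ∈ J := hp (hmem₀ i)
      have h2 : ε ∈ J := by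
        rw [hZε] at hp
        exact hp (Set.mem_singleton ε)
      exact J.sub_mem h1 (J.mul_mem_right _ h2)
    · have h1 : I₁ ≤ J := (hprime p).resolve_left hp
      have h2 : ε ∉ J := by
        intro hεJ
        apply hp
        rw [hZε]
        intro z hz
        rw [Set.mem_singleton_iff] at hz
        rw [hz]; exact hεJ
      have h3 : 1 - ε ∈ J := by
        have : ε * (1 - ε) ∈ J := by
          have hε' : ε * ε = ε := hε
          have : ε * (1 - ε) = 0 := by rw [mul_sub, mul_one, hε', sub_self]
          rw [this]; exact J.zero_mem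
        exact (hJ.mem_or_mem this).resolve_left h2
      have h4 : r i - ε * algebraMap k R (c i) =
          (r i - algebraMap k R (c i)) + (1 - ε) * algebraMap k R (c i) := by ring
      rw [h4]
      exact J.add_mem (h1 (hmem₁ i)) (J.mul_mem_right _ h3)
  have hεidem : IsIdempotentElem (ε ⊗ₜ[k] (1 : S)) := by
    change (ε ⊗ₜ[k] (1 : S)) * (ε ⊗ₜ[k] (1 : S)) = _
    rw [Algebra.TensorProduct.tmul_mul_tmul, hε.eq, mul_one]
  apply eq_of_isNilpotent_sub hx hεidem
  -- x - ε ⊗ 1 = Σ (r i - ε c i) • B i
  have hrepr : ∀ i, B.repr (x - ε ⊗ₜ[k] (1 : S)) i = r i - ε * algebraMap k R (c i) := by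
    intro i
    have h1 : ε ⊗ₜ[k] (1 : S) = ε • (1 : R ⊗[k] S) := by
      rw [Algebra.TensorProduct.one_def, TensorProduct.smul_tmul', smul_eq_mul, mul_one]
    rw [map_sub, Finsupp.sub_apply, h1, map_smul, Finsupp.smul_apply, repr_one, smul_eq_mul]
  rw [← B.linearCombination_repr (x - ε ⊗ₜ[k] (1 : S)), Finsupp.linearCombination_apply, Finsupp.sum]
  refine isNilpotent_sum fun i _ => ?_ 
  rw [hrepr]
  obtain ⟨n, hn⟩ := hnil i
  exact ⟨n, by rw [smul_pow, hn, zero_smul]⟩

end Main


section Reduce

variable {k : Type u} [Field k] {R S : Type u} [CommRing R] [CommRing S] [Algebra k R] [Algebra k S]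

lemma map_val_injective (R₀ : Subalgebra k R) :
    Function.Injective (Algebra.TensorProduct.map R₀.val (AlgHom.id k S)) := by
  have h := Module.Flat.rTensor_preserves_injective_linearMap (M := S) R₀.val.toLinearMap
    Subtype.val_injective
  intro a b hab
  apply h
  have e : ∀ z : R₀ ⊗[k] S, LinearMap.rTensor S R₀.val.toLinearMap z =
      Algebra.TensorProduct.map R₀.val (AlgHom.id k S) z := by
    intro z
    induction z using TensorProduct.induction_on with
    | zero => simp
    | tmul a m => simp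
    | add y z hy hz => simp only [map_add, hy, hz]
  rw [e, e, hab]

lemma exists_fg_subalgebra (x : R ⊗[k] S) :
    ∃ R₀ : Subalgebra k R, R₀.FG ∧
      x ∈ Set.range (Algebra.TensorProduct.map R₀.val (AlgHom.id k S)) := by
  induction x using TensorProduct.induction_on with
  | zero => exact ⟨⊥, Subalgebra.fg_bot, 0, map_zero _⟩
  | tmul r s =>
    have hfg : (Algebra.adjoin k ({r} : Set R)).FG := by
      have := Subalgebra.fg_adjoin_finset (R := k) ({r} : Finset R)
      simpa using this
    refine ⟨Algebra.adjoin k {r}, hfg, ?_⟩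
    exact ⟨⟨r, Algebra.subset_adjoin (Set.mem_singleton r)⟩ ⊗ₜ s, by simp⟩
  | add y z hy hz =>
    obtain ⟨R₁, h1, y', hy'⟩ := hy
    obtain ⟨R₂, h2, z', hz'⟩ := hz
    refine ⟨R₁ ⊔ R₂, h1.sup h2, ?_⟩
    let i₁ : R₁ →ₐ[k] (R₁ ⊔ R₂ : Subalgebra k R) := Subalgebra.inclusion le_sup_left
    let i₂ : R₂ →ₐ[k] (R₁ ⊔ R₂ : Subalgebra k R) := Subalgebra.inclusion le_sup_right
    refine ⟨Algebra.TensorProduct.map i₁ (AlgHom.id k S) y' +
      Algebra.TensorProduct.map i₂ (AlgHom.id k S) z', ?_⟩
    rw [map_add, ← hy', ← hz']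
    congr 1
    · rw [← AlgHom.comp_apply, ← Algebra.TensorProduct.map_comp]
      rfl
    · rw [← AlgHom.comp_apply, ← Algebra.TensorProduct.map_comp]
      rfl

end Reduce


section PI

variable {k : Type u} [Field k] {κ S : Type u} [Field κ] [CommRing S] [Algebra k κ] [Algebra k S]

lemma includeRight_injective' : Function.Injective
    (Algebra.TensorProduct.includeRight : S →ₐ[k] κ ⊗[k] S) :=
  Algebra.TensorProduct.includeRight_injective (algebraMap k κ).injective

lemma exists_pow_mem_range [IsPurelyInseparable k κ] [Nontrivial S] (q : ℕ) [ExpChar k q]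
    (x : κ ⊗[k] S) :
    ∃ N : ℕ, x ^ q ^ N ∈ Set.range (Algebra.TensorProduct.includeRight : S →ₐ[k] κ ⊗[k] S) := by
  have : Nontrivial (κ ⊗[k] S) := (includeRight_injective' (k := k) (κ := κ) (S := S)).nontrivial
  have : ExpChar (κ ⊗[k] S) q :=
    expChar_of_injective_algebraMap (algebraMap k (κ ⊗[k] S)).injective q
  induction x using TensorProduct.induction_on with
  | zero => exact ⟨0, 0, by simp⟩
  | tmul c s =>
    obtain ⟨n, a, ha⟩ := IsPurelyInseparable.pow_mem k q c
    refine ⟨n, a • s ^ q ^ n, ?_⟩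
    rw [Algebra.TensorProduct.tmul_pow, ← ha, Algebra.TensorProduct.includeRight_apply,
      TensorProduct.tmul_smul, TensorProduct.smul_tmul', Algebra.algebraMap_eq_smul_one]
  | add y z hy hz =>
    obtain ⟨n, s₁, h1⟩ := hy
    obtain ⟨m, s₂, h2⟩ := hz
    refine ⟨n + m, s₁ ^ q ^ m + s₂ ^ q ^ n, ?_⟩
    rw [add_pow_expChar_pow, map_add, map_pow, map_pow, h1, h2, ← pow_mul, ← pow_mul, ← pow_add,
      ← pow_add, add_comm m n]

lemma idem_trivial_tensor_of_purelyInseparable [IsPurelyInseparable k κ] [Nontrivial S]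
    (hS : ∀ e : S, IsIdempotentElem e → e = 0 ∨ e = 1) (x : κ ⊗[k] S) (hx : IsIdempotentElem x) :
    x = 0 ∨ x = 1 := by
  obtain ⟨q, hq⟩ := ExpChar.exists k
  obtain ⟨N, s, hs⟩ := exists_pow_mem_range q x
  have hpos : 0 < q ^ N := pow_pos (expChar_pos k q) N
  have hpow : x ^ q ^ N = x := by
    obtain ⟨d, hd⟩ : ∃ d, q ^ N = d + 1 := ⟨q ^ N - 1, by omega⟩
    rw [hd]; exact hx.pow_succ_eq d
  rw [hpow] at hs
  have hsid : IsIdempotentElem s := by
    apply includeRight_injective' (k := k) (κ := κ)
    rw [map_mul, hs]; exact hx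
  rcases hS s hsid with rfl | rfl
  · left; rw [← hs, map_zero]
  · right; rw [← hs, map_one]

end PI

end Groth.Agent.Lib.Helper14Idem
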