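import Mathlib

/-! Helper14: over an algebraically closed field `k`, the tensor product of a finitely generated
`k`-domain with any field extension of `k` is a domain (Nullstellensatz argument). -/

set_option autoImplicit false

namespace Groth.Agent.Lib.Helper14.TensorDomain

open TensorProduct

universe u v

variable (k : Type u) [Field k] [IsAlgClosed k] (A : Type u) [CommRing A] [Algebra k A]
  [Algebra.FiniteType k A]

theorem exists_algHom_of_isMaximal (m : Ideal A) [hm : m.IsMaximal] :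
    ∃ ev : A →ₐ[k] k, ∀ a, ev a = 0 ↔ a ∈ m := by
  letI := Ideal.Quotient.field m
  haveI : Algebra.FiniteType k (A ⧸ m) :=
    Algebra.FiniteType.of_surjective (Ideal.Quotient.mkₐ k m) (Ideal.Quotient.mkₐ_surjective k m)
  haveI : Module.Finite k (A ⧸ m) := finite_of_finite_type_of_isJacobsonRing k (A ⧸ m)
  have hbij : Function.Bijective (Algebra.ofId k (A ⧸ m)) :=
    IsAlgClosed.algebraMap_bijective_of_isIntegral (k := k) (K := A ⧸ m)
  let e : k ≃ₐ[k] (A ⧸ m) := AlgEquiv.ofBijective (Algebra.ofId k (A ⧸ m)) hbij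
  refine ⟨(e.symm : (A ⧸ m) →ₐ[k] k).comp (Ideal.Quotient.mkₐ k m), fun a => ?_⟩
  rw [AlgHom.comp_apply, AlgEquiv.coe_toAlgHom, map_eq_zero_iff _ e.symm.injective,
    Ideal.Quotient.mkₐ_eq_mk, Ideal.Quotient.eq_zero_iff_mem]

variable [IsDomain A] (κ : Type v) [Field κ] [Algebra k κ]

theorem noZeroDivisors_tensor : NoZeroDivisors (A ⊗[k] κ) := by
  classical
  let c := Module.Basis.ofVectorSpace k κ
  let 𝔟 := Algebra.TensorProduct.basis A c
  have key : ∀ (ev : A →ₐ[k] k) (x : A ⊗[k] κ) l,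
      c.repr ((Algebra.TensorProduct.lid k κ)
        (Algebra.TensorProduct.map ev (AlgHom.id k κ) x)) l = ev (𝔟.repr x l) := by
    intro ev x l
    induction x using TensorProduct.induction_on with
    | zero => simp
    | tmul a z =>
      simp only [Algebra.TensorProduct.map_tmul, AlgHom.coe_id, id_eq,
        Algebra.TensorProduct.lid_tmul, map_smul, Finsupp.smul_apply, smul_eq_mul, 𝔟,
        Algebra.TensorProduct.basis_repr_tmul, Finsupp.mapRange_apply, map_mul, AlgHom.commutes,
        Algebra.algebraMap_self, RingHom.id_apply]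
    | add x y hx hy => simp only [map_add, Finsupp.add_apply, hx, hy]
  haveI : IsJacobsonRing A := isJacobsonRing_of_finiteType (A := k) (B := A)
  constructor
  intro x y hxy
  by_contra h
  push Not at h
  obtain ⟨hx, hy⟩ := h
  obtain ⟨l₀, hl₀⟩ : ∃ l, 𝔟.repr x l ≠ 0 := by
    by_contra hh
    push Not at hh
    exact hx (𝔟.repr.map_eq_zero_iff.mp (Finsupp.ext hh))
  obtain ⟨l₁, hl₁⟩ : ∃ l, 𝔟.repr y l ≠ 0 := by
    by_contra hh
    push Not at hh
    exact hy (𝔟.repr.map_eq_zero_iff.mp (Finsupp.ext hh))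
  have hprod : 𝔟.repr x l₀ * 𝔟.repr y l₁ ≠ 0 := mul_ne_zero hl₀ hl₁
  obtain ⟨m, hm, hnot⟩ : ∃ m : Ideal A, m.IsMaximal ∧ 𝔟.repr x l₀ * 𝔟.repr y l₁ ∉ m := by
    by_contra hh
    push Not at hh
    apply hprod
    have hjac : (⊥ : Ideal A).jacobson = ⊥ := by
      rw [← Ideal.radical_eq_jacobson, Ideal.radical_bot_of_isReduced]
    have : 𝔟.repr x l₀ * 𝔟.repr y l₁ ∈ (⊥ : Ideal A).jacobson := by
      rw [Ideal.jacobson, Ideal.mem_sInf]
      rintro J ⟨-, hJ⟩
      exact hh J hJ
    rw [hjac] at this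
    exact this
  obtain ⟨ev, hev⟩ := exists_algHom_of_isMaximal k A m
  have h0 : (Algebra.TensorProduct.lid k κ) (Algebra.TensorProduct.map ev (AlgHom.id k κ) x) *
      (Algebra.TensorProduct.lid k κ) (Algebra.TensorProduct.map ev (AlgHom.id k κ) y) = 0 := by
    rw [← map_mul, ← map_mul, hxy, map_zero, map_zero]
  rcases mul_eq_zero.mp h0 with h1 | h1
  · have := key ev x l₀
    rw [h1, map_zero, Finsupp.zero_apply] at this
    exact hnot (m.mul_mem_right _ ((hev _).mp this.symm))
  · have := key ev y l₁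
    rw [h1, map_zero, Finsupp.zero_apply] at this
    exact hnot (m.mul_mem_left _ ((hev _).mp this.symm))

theorem isDomain_tensor : IsDomain (A ⊗[k] κ) := by
  haveI := noZeroDivisors_tensor k A κ
  obtain ⟨m, hm⟩ := Ideal.exists_maximal A
  obtain ⟨ev, -⟩ := exists_algHom_of_isMaximal k A m
  haveI : Nontrivial (A ⊗[k] κ) :=
    RingHom.domain_nontrivial (((Algebra.TensorProduct.lid k κ) : k ⊗[k] κ →ₐ[k] κ).comp
      (Algebra.TensorProduct.map ev (AlgHom.id k κ))).toRingHom
  exact NoZeroDivisors.to_isDomain _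

theorem isDomain_tensor' : IsDomain (κ ⊗[k] A) := by
  haveI := isDomain_tensor k A κ
  exact (Algebra.TensorProduct.comm k κ A).toMulEquiv.isDomain

end Groth.Agent.Lib.Helper14.TensorDomain
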