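import Mathlib
import Groth.Agent.Lib.Helper14TensorDomain
import Groth.Agent.Lib.Helper14Idem

/-! Helper14: geometric irreducibility of algebras over a field (ring-level).
`IrreducibleSpace (PrimeSpectrum A) ↔ (nilradical A).IsPrime`; stability of "prime nilradical"
under purely inseparable base change, base change from an algebraically closed field,
directed unions of finite subextensions; bijection of minimal primes for `R → R ⊗[k] S`
with `S` geometrically irreducible. -/

set_option autoImplicit false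

universe u
open TensorProduct

namespace Groth.Agent.Lib.Helper14.GeomIrr

open Groth.Agent.Lib.Helper14Idem

section Basic

lemma isPrime_nilradical_iff {A : Type*} [CommRing A] :
    (nilradical A).IsPrime ↔ Nontrivial A ∧ ∀ a b : A, IsNilpotent (a * b) →
      IsNilpotent a ∨ IsNilpotent b := by
  constructor
  · intro h
    refine ⟨?_, fun a b hab => ?_⟩
    · by_contra hn
      rw [not_nontrivial_iff_subsingleton] at hn
      exact h.ne_top (Ideal.eq_top_iff_one _ |>.mpr (by
        rw [mem_nilradical]; rw [Subsingleton.elim (1 : A) 0]; exact IsNilpotent.zero))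
    · exact h.mem_or_mem (mem_nilradical.mpr hab)
  · rintro ⟨hnt, h⟩
    refine ⟨?_, fun {a b} hab => h a b (mem_nilradical.mp hab)⟩
    intro htop
    have h1 : (1 : A) ∈ nilradical A := htop ▸ Submodule.mem_top
    rw [mem_nilradical] at h1
    exact not_isNilpotent_one h1

lemma isPrime_nilradical_of_injective {A B : Type*} [CommRing A] [CommRing B] (φ : A →+* B)
    (hφ : Function.Injective φ) (h : (nilradical B).IsPrime) : (nilradical A).IsPrime := by
  have : nilradical A = (nilradical B).comap φ := by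
    ext x
    rw [Ideal.mem_comap, mem_nilradical, mem_nilradical]
    exact (IsNilpotent.map_iff hφ).symm
  rw [this]; exact Ideal.IsPrime.comap _

lemma isPrime_nilradical_of_ringEquiv {A B : Type*} [CommRing A] [CommRing B] (e : A ≃+* B)
    (h : (nilradical B).IsPrime) : (nilradical A).IsPrime :=
  isPrime_nilradical_of_injective e.toRingHom e.injective h

lemma irreducibleSpace_iff {A : Type*} [CommRing A] :
    IrreducibleSpace (PrimeSpectrum A) ↔ (nilradical A).IsPrime :=
  PrimeSpectrum.irreducibleSpace_iff_isPrime_nilradical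

/-- if any two elements of `A` lie in the image of an injective ring hom from a ring with prime
nilradical, then `A` has prime nilradical. -/
lemma isPrime_nilradical_of_forall_exists {A : Type*} [CommRing A] [Nontrivial A]
    (H : ∀ a b : A, ∃ (B : Type u) (_ : CommRing B) (φ : B →+* A), Function.Injective φ ∧
      (nilradical B).IsPrime ∧ a ∈ Set.range φ ∧ b ∈ Set.range φ) : (nilradical A).IsPrime := by
  rw [isPrime_nilradical_iff]
  refine ⟨inferInstance, fun a b hab => ?_⟩
  obtain ⟨B, _, φ, hφ, hB, ⟨a', rfl⟩, ⟨b', rfl⟩⟩ := H a b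
  rw [← map_mul, IsNilpotent.map_iff hφ] at hab
  rcases (isPrime_nilradical_iff.mp hB).2 a' b' hab with h | h
  · exact Or.inl (h.map φ)
  · exact Or.inr (h.map φ)

/-- if any two elements of `A` lie in the image of an injective ring hom from a domain, then `A`
is a domain. -/
lemma isDomain_of_forall_exists {A : Type*} [CommRing A] [Nontrivial A]
    (H : ∀ a b : A, ∃ (B : Type u) (_ : CommRing B) (φ : B →+* A), Function.Injective φ ∧
      IsDomain B ∧ a ∈ Set.range φ ∧ b ∈ Set.range φ) : IsDomain A := by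
  haveI : NoZeroDivisors A := by
    refine ⟨fun {a b} hab => ?_⟩
    obtain ⟨B, _, φ, hφ, hB, ⟨a', rfl⟩, ⟨b', rfl⟩⟩ := H a b
    rw [← map_mul, map_eq_zero_iff φ hφ] at hab
    rcases mul_eq_zero.mp hab with h | h
    · left; rw [h, map_zero]
    · right; rw [h, map_zero]
  exact NoZeroDivisors.to_isDomain A

end Basic

section Tensor

variable {k : Type u} [Field k] {R S : Type u} [CommRing R] [CommRing S] [Algebra k R] [Algebra k S]

lemma range_map_val_mono {R₁ R₂ : Subalgebra k R} (h : R₁ ≤ R₂) :
    Set.range (Algebra.TensorProduct.map R₁.val (AlgHom.id k S)) ⊆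
      Set.range (Algebra.TensorProduct.map R₂.val (AlgHom.id k S)) := by
  rintro _ ⟨y, rfl⟩
  refine ⟨Algebra.TensorProduct.map (Subalgebra.inclusion h) (AlgHom.id k S) y, ?_⟩
  rw [← AlgHom.comp_apply, ← Algebra.TensorProduct.map_comp]
  rfl

lemma exists_fg_subalgebra₂ (x y : R ⊗[k] S) :
    ∃ R₀ : Subalgebra k R, R₀.FG ∧
      x ∈ Set.range (Algebra.TensorProduct.map R₀.val (AlgHom.id k S)) ∧
      y ∈ Set.range (Algebra.TensorProduct.map R₀.val (AlgHom.id k S)) := by
  obtain ⟨R₁, h1, hx⟩ := exists_fg_subalgebra (k := k) (R := R) (S := S) x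
  obtain ⟨R₂, h2, hy⟩ := exists_fg_subalgebra (k := k) (R := R) (S := S) y
  exact ⟨R₁ ⊔ R₂, h1.sup h2, range_map_val_mono le_sup_left hx, range_map_val_mono le_sup_right hy⟩

/-- Over an algebraically closed field, a domain tensor a field is a domain (no finiteness). -/
theorem isDomain_tensor_of_isAlgClosed [IsAlgClosed k] (A κ : Type u) [CommRing A] [IsDomain A]
    [Algebra k A] [Field κ] [Algebra k κ] : IsDomain (A ⊗[k] κ) := by
  haveI : Nontrivial (A ⊗[k] κ) :=
    (Algebra.TensorProduct.includeLeft_injective (R := k) (S := k) (A := A) (B := κ)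
      (algebraMap k κ).injective).nontrivial
  apply isDomain_of_forall_exists.{u}
  intro a b
  obtain ⟨A₀, hfg, ha, hb⟩ := exists_fg_subalgebra₂ (k := k) a b
  haveI : Algebra.FiniteType k A₀ := ⟨A₀.fg_top.mpr hfg⟩
  exact ⟨A₀ ⊗[k] κ, inferInstance, (Algebra.TensorProduct.map A₀.val (AlgHom.id k κ)).toRingHom,
    map_val_injective A₀, Groth.Agent.Lib.Helper14.TensorDomain.isDomain_tensor k A₀ κ, ha, hb⟩

end Tensor

section Tensor2

variable {k : Type u} [Field k] {S : Type u} [CommRing S] [Algebra k S]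

lemma map_left_injective {A B : Type u} [CommRing A] [CommRing B] [Algebra k A] [Algebra k B]
    (f : A →ₐ[k] B) (hf : Function.Injective f) :
    Function.Injective (Algebra.TensorProduct.map f (AlgHom.id k S)) := by
  have h := Module.Flat.rTensor_preserves_injective_linearMap (M := S) f.toLinearMap hf
  intro a b hab
  apply h
  have e : ∀ z : A ⊗[k] S, LinearMap.rTensor S f.toLinearMap z =
      Algebra.TensorProduct.map f (AlgHom.id k S) z := by
    intro z
    induction z using TensorProduct.induction_on with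
    | zero => simp
    | tmul a m => simp
    | add y z hy hz => simp only [map_add, hy, hz]
  rw [e, e, hab]

lemma map_right_injective {A B : Type u} [CommRing A] [CommRing B] [Algebra k A] [Algebra k B]
    (f : A →ₐ[k] B) (hf : Function.Injective f) :
    Function.Injective (Algebra.TensorProduct.map (AlgHom.id k S) f) := by
  have h := Module.Flat.lTensor_preserves_injective_linearMap (M := S) f.toLinearMap hf
  intro a b hab
  apply h
  have e : ∀ z : S ⊗[k] A, LinearMap.lTensor S f.toLinearMap z =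
      Algebra.TensorProduct.map (AlgHom.id k S) f z := by
    intro z
    induction z using TensorProduct.induction_on with
    | zero => simp
    | tmul a m => simp
    | add y z hy hz => simp only [map_add, hy, hz]
  rw [e, e, hab]

/-- Over an algebraically closed field, prime nilradical is preserved by field base change. -/
theorem isPrime_nilradical_tensor_of_isAlgClosed [IsAlgClosed k] (κ A : Type u) [Field κ]
    [Algebra k κ] [CommRing A] [Algebra k A] (h : (nilradical A).IsPrime) :
    (nilradical (κ ⊗[k] A)).IsPrime := by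
  haveI := h
  haveI : IsDomain (A ⧸ nilradical A) := Ideal.Quotient.isDomain _
  haveI : IsDomain ((A ⧸ nilradical A) ⊗[k] κ) := isDomain_tensor_of_isAlgClosed _ κ
  haveI : IsDomain (κ ⊗[k] (A ⧸ nilradical A)) :=
    (Algebra.TensorProduct.comm k κ (A ⧸ nilradical A)).toMulEquiv.isDomain
  let g : A →ₐ[k] (A ⧸ nilradical A) := Ideal.Quotient.mkₐ k _
  have hg : Function.Surjective g := Ideal.Quotient.mkₐ_surjective k _
  let π := Algebra.TensorProduct.map (AlgHom.id k κ) g
  have hker : RingHom.ker π ≤ nilradical (κ ⊗[k] A) := by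
    rw [Algebra.TensorProduct.lTensor_ker _ hg, Ideal.map_le_iff_le_comap]
    intro x hx
    have hx' : x ∈ nilradical A := by
      have : g x = 0 := hx
      rwa [Ideal.Quotient.mkₐ_eq_mk, Ideal.Quotient.eq_zero_iff_mem] at this
    rw [Ideal.mem_comap, mem_nilradical]
    exact (mem_nilradical.mp hx').map _
  haveI : (RingHom.ker π).IsPrime := RingHom.ker_isPrime π
  have : nilradical (κ ⊗[k] A) = RingHom.ker π :=
    le_antisymm (nilradical_le_prime _) hker
  rw [this]; exact RingHom.ker_isPrime π

/-- Purely inseparable base change preserves prime nilradical. -/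
theorem isPrime_nilradical_tensor_of_purelyInseparable (κ : Type u) [Field κ] [Algebra k κ]
    [IsPurelyInseparable k κ] (h : (nilradical S).IsPrime) :
    (nilradical (κ ⊗[k] S)).IsPrime := by
  rw [isPrime_nilradical_iff] at h ⊢
  obtain ⟨hnt, h⟩ := h
  have hinj := includeRight_injective' (k := k) (κ := κ) (S := S)
  refine ⟨hinj.nontrivial, fun x y hxy => ?_⟩
  obtain ⟨q, hq⟩ := ExpChar.exists k
  obtain ⟨N₁, a, ha⟩ := exists_pow_mem_range q x
  obtain ⟨N₂, b, hb⟩ := exists_pow_mem_range q y
  set ι : S →ₐ[k] κ ⊗[k] S := Algebra.TensorProduct.includeRight with hι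
  have hx' : x ^ q ^ (N₁ + N₂) = ι (a ^ q ^ N₂) := by
    rw [pow_add, pow_mul, ← ha, map_pow]
  have hy' : y ^ q ^ (N₁ + N₂) = ι (b ^ q ^ N₁) := by
    rw [add_comm, pow_add, pow_mul, ← hb, map_pow]
  have hab : IsNilpotent (a ^ q ^ N₂ * b ^ q ^ N₁) := by
    rw [← IsNilpotent.map_iff hinj, map_mul, ← hx', ← hy', ← mul_pow]
    exact hxy.pow_of_pos (pow_pos (expChar_pos k q) _).ne'
  rcases h _ _ hab with h1 | h1
  · left
    have : IsNilpotent (x ^ q ^ (N₁ + N₂)) := hx' ▸ h1.map ι
    exact IsNilpotent.of_pow this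
  · right
    have : IsNilpotent (y ^ q ^ (N₁ + N₂)) := hy' ▸ h1.map ι
    exact IsNilpotent.of_pow this

end Tensor2

section IntField

open IntermediateField

variable {k : Type u} [Field k] {S : Type u} [CommRing S] [Algebra k S]
variable {L : Type u} [Field L] [Algebra k L]

lemma range_map_val_mono' {E₁ E₂ : IntermediateField k L} (h : E₁ ≤ E₂) :
    Set.range (Algebra.TensorProduct.map E₁.val (AlgHom.id k S)) ⊆
      Set.range (Algebra.TensorProduct.map E₂.val (AlgHom.id k S)) := by
  rintro _ ⟨y, rfl⟩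
  refine ⟨Algebra.TensorProduct.map (IntermediateField.inclusion h) (AlgHom.id k S) y, ?_⟩
  rw [← AlgHom.comp_apply, ← Algebra.TensorProduct.map_comp]
  rfl

lemma exists_finite_intermediateField [Algebra.IsAlgebraic k L] (x : L ⊗[k] S) :
    ∃ E : IntermediateField k L, FiniteDimensional k E ∧
      x ∈ Set.range (Algebra.TensorProduct.map E.val (AlgHom.id k S)) := by
  induction x using TensorProduct.induction_on with
  | zero => exact ⟨⊥, inferInstance, 0, map_zero _⟩
  | tmul c s =>
    refine ⟨k⟮c⟯, IntermediateField.adjoin.finiteDimensional (Algebra.IsIntegral.isIntegral c), ?_⟩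
    exact ⟨⟨c, mem_adjoin_simple_self k c⟩ ⊗ₜ s, by simp⟩
  | add y z hy hz =>
    obtain ⟨E₁, h1, hy'⟩ := hy
    obtain ⟨E₂, h2, hz'⟩ := hz
    refine ⟨E₁ ⊔ E₂, IntermediateField.finiteDimensional_sup E₁ E₂, ?_⟩
    obtain ⟨y', rfl⟩ := range_map_val_mono' (le_sup_left : E₁ ≤ E₁ ⊔ E₂) hy'
    obtain ⟨z', rfl⟩ := range_map_val_mono' (le_sup_right : E₂ ≤ E₁ ⊔ E₂) hz'
    exact ⟨y' + z', map_add _ _ _⟩

lemma exists_finite_intermediateField₂ [Algebra.IsAlgebraic k L] (x y : L ⊗[k] S) :
    ∃ E : IntermediateField k L, FiniteDimensional k E ∧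
      x ∈ Set.range (Algebra.TensorProduct.map E.val (AlgHom.id k S)) ∧
      y ∈ Set.range (Algebra.TensorProduct.map E.val (AlgHom.id k S)) := by
  obtain ⟨E₁, h1, hx⟩ := exists_finite_intermediateField (k := k) x
  obtain ⟨E₂, h2, hy⟩ := exists_finite_intermediateField (k := k) y
  exact ⟨E₁ ⊔ E₂, IntermediateField.finiteDimensional_sup E₁ E₂,
    range_map_val_mono' le_sup_left hx, range_map_val_mono' le_sup_right hy⟩

end IntField

section Algebraic

variable {k : Type u} [Field k] {S : Type u} [CommRing S] [Algebra k S]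
variable {L : Type u} [Field L] [Algebra k L]

theorem isPrime_nilradical_tensor_of_forall_finite [Algebra.IsAlgebraic k L]
    (H : ∀ E : IntermediateField k L, FiniteDimensional k E → (nilradical (E ⊗[k] S)).IsPrime) :
    (nilradical (L ⊗[k] S)).IsPrime := by
  haveI : Nontrivial (L ⊗[k] S) := by
    obtain ⟨E, hE, -⟩ := exists_finite_intermediateField (k := k) (0 : L ⊗[k] S)
    have h0 := H E hE
    haveI : Nontrivial (E ⊗[k] S) := by
      by_contra hn
      rw [not_nontrivial_iff_subsingleton] at hn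
      exact h0.ne_top (Subsingleton.elim _ _)
    exact (map_left_injective (S := S) E.val E.val.injective).nontrivial
  apply isPrime_nilradical_of_forall_exists.{u}
  intro a b
  obtain ⟨E, hE, ha, hb⟩ := exists_finite_intermediateField₂ (k := k) a b
  exact ⟨E ⊗[k] S, inferInstance, (Algebra.TensorProduct.map E.val (AlgHom.id k S)).toRingHom,
    map_left_injective E.val E.val.injective, H E hE, ha, hb⟩

theorem isDomain_tensor_of_forall_finite [Algebra.IsAlgebraic k L]
    (H : ∀ E : IntermediateField k L, FiniteDimensional k E → IsDomain (E ⊗[k] S)) :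
    IsDomain (L ⊗[k] S) := by
  haveI : Nontrivial (L ⊗[k] S) := by
    obtain ⟨E, hE, -⟩ := exists_finite_intermediateField (k := k) (0 : L ⊗[k] S)
    haveI := H E hE
    exact (map_left_injective (S := S) E.val E.val.injective).nontrivial
  apply isDomain_of_forall_exists.{u}
  intro a b
  obtain ⟨E, hE, ha, hb⟩ := exists_finite_intermediateField₂ (k := k) a b
  exact ⟨E ⊗[k] S, inferInstance, (Algebra.TensorProduct.map E.val (AlgHom.id k S)).toRingHom,
    map_left_injective E.val E.val.injective, H E hE, ha, hb⟩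

end Algebraic

section TFAE

variable {k R : Type u} [Field k] [CommRing R] [Algebra k R]

/-- (2) ⇒ (3) -/
theorem isPrime_nilradical_sepClosure
    (H : ∀ (k' : Type u) [Field k'] [Algebra k k'] [Module.Finite k k'] [Algebra.IsSeparable k k'],
      (nilradical (k' ⊗[k] R)).IsPrime) :
    (nilradical (SeparableClosure k ⊗[k] R)).IsPrime := by
  apply isPrime_nilradical_tensor_of_forall_finite
  intro E hE
  exact H E

/-- (3) ⇒ (4) -/
theorem isPrime_nilradical_algClosure (H : (nilradical (SeparableClosure k ⊗[k] R)).IsPrime) :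
    (nilradical (AlgebraicClosure k ⊗[k] R)).IsPrime := by
  have h1 := isPrime_nilradical_tensor_of_purelyInseparable (k := SeparableClosure k)
    (S := SeparableClosure k ⊗[k] R) (AlgebraicClosure k) H
  let e := Algebra.TensorProduct.cancelBaseChange k (SeparableClosure k) (SeparableClosure k)
    (AlgebraicClosure k) R
  exact isPrime_nilradical_of_ringEquiv e.symm.toRingEquiv h1

/-- (4) ⇒ (1) -/
theorem isPrime_nilradical_of_algClosure (H : (nilradical (AlgebraicClosure k ⊗[k] R)).IsPrime)
    (k' : Type u) [Field k'] [Algebra k k'] : (nilradical (k' ⊗[k] R)).IsPrime := by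
  let Ω := AlgebraicClosure k'
  let f : AlgebraicClosure k →ₐ[k] Ω := IsAlgClosed.lift
  letI : Algebra (AlgebraicClosure k) Ω := f.toRingHom.toAlgebra
  haveI : IsScalarTower k (AlgebraicClosure k) Ω :=
    IsScalarTower.of_algebraMap_eq (fun x => (f.commutes x).symm)
  have h1 := isPrime_nilradical_tensor_of_isAlgClosed (k := AlgebraicClosure k) Ω
    (AlgebraicClosure k ⊗[k] R) H
  let e := Algebra.TensorProduct.cancelBaseChange k (AlgebraicClosure k) (AlgebraicClosure k) Ω R
  have h2 : (nilradical (Ω ⊗[k] R)).IsPrime :=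
    isPrime_nilradical_of_ringEquiv e.symm.toRingEquiv h1
  exact isPrime_nilradical_of_injective
    (Algebra.TensorProduct.map (IsScalarTower.toAlgHom k k' Ω) (AlgHom.id k R)).toRingHom
    (map_left_injective _ (algebraMap k' Ω).injective) h2

end TFAE

section MinPrimes

variable {k R S : Type u} [Field k] [CommRing R] [CommRing S] [Algebra k R] [Algebra k S]

lemma isPrime_nilradical_fiber
    (hS : ∀ (k' : Type u) [Field k'] [Algebra k k'], (nilradical (k' ⊗[k] S)).IsPrime)
    (p : Ideal R) [p.IsPrime] : (nilradical (p.Fiber (R ⊗[k] S))).IsPrime := by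
  let e := Algebra.TensorProduct.cancelBaseChange k R R p.ResidueField S
  exact isPrime_nilradical_of_ringEquiv e.toRingEquiv (hS p.ResidueField)

/-- a minimal prime in the fibre over `p` corresponds to the nilradical of the fibre ring -/
lemma eq_symm_nilradical_of_minimal {T : Type u} [CommRing T] [Algebra R T] (p : PrimeSpectrum R)
    (hN : (nilradical (p.asIdeal.Fiber T)).IsPrime)
    (x : PrimeSpectrum.comap (algebraMap R T) ⁻¹' {p}) (hx : x.1.asIdeal ∈ minimalPrimes T) :
    x = (PrimeSpectrum.preimageOrderIsoFiber R T p).symm ⟨nilradical (p.asIdeal.Fiber T), hN⟩ := by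
  set o := PrimeSpectrum.preimageOrderIsoFiber R T p
  set N : PrimeSpectrum (p.asIdeal.Fiber T) := ⟨nilradical (p.asIdeal.Fiber T), hN⟩
  have h1 : N ≤ o x := by
    change nilradical _ ≤ (o x).asIdeal
    exact nilradical_le_prime _
  have h2 : o.symm N ≤ x := by
    rw [← o.symm_apply_apply x]
    exact o.symm.monotone h1
  have h3 : (o.symm N).1.asIdeal ≤ x.1.asIdeal := h2
  have h4 : x.1.asIdeal ≤ (o.symm N).1.asIdeal :=
    hx.2 ⟨(o.symm N).1.isPrime, bot_le⟩ h3
  exact Subtype.ext (PrimeSpectrum.ext (le_antisymm h4 h3))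

theorem bijOn_comap_minimalPrimes
    (hS : ∀ (k' : Type u) [Field k'] [Algebra k k'], (nilradical (k' ⊗[k] S)).IsPrime) :
    Set.BijOn (Ideal.comap (algebraMap R (R ⊗[k] S))) (minimalPrimes (R ⊗[k] S))
      (minimalPrimes R) := by
  refine ⟨?_, ?_, ?_⟩
  · intro q hq
    haveI := hq.1.1
    refine ⟨⟨Ideal.comap_isPrime _ _, bot_le⟩, fun p' hp' hle => ?_⟩
    haveI := hp'.1
    obtain ⟨P, hPq, hP, hPl⟩ := Ideal.exists_ideal_le_liesOver_of_le (p := p')
      (q := q.under R) q hle
    have hqP : q ≤ P := hq.2 ⟨hP, bot_le⟩ hPq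
    have : P = q := le_antisymm hPq hqP
    subst this
    rw [hPl.over]
  · intro q₁ hq₁ q₂ hq₂ h
    haveI := hq₁.1.1
    haveI := hq₂.1.1
    let p : PrimeSpectrum R := ⟨Ideal.comap (algebraMap R (R ⊗[k] S)) q₁, Ideal.comap_isPrime _ _⟩
    have hN := isPrime_nilradical_fiber hS p.asIdeal
    let x₁ : PrimeSpectrum.comap (algebraMap R (R ⊗[k] S)) ⁻¹' {p} := ⟨⟨q₁, hq₁.1.1⟩, rfl⟩
    let x₂ : PrimeSpectrum.comap (algebraMap R (R ⊗[k] S)) ⁻¹' {p} :=
      ⟨⟨q₂, hq₂.1.1⟩, PrimeSpectrum.ext h.symm⟩
    have e1 := eq_symm_nilradical_of_minimal p hN x₁ hq₁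
    have e2 := eq_symm_nilradical_of_minimal p hN x₂ hq₂
    have : x₁ = x₂ := e1.trans e2.symm
    exact congrArg (fun x => x.1.asIdeal) this
  · intro p hp
    haveI := hp.1.1
    have hN := isPrime_nilradical_fiber hS p
    let pp : PrimeSpectrum R := ⟨p, hp.1.1⟩
    let o := PrimeSpectrum.preimageOrderIsoFiber R (R ⊗[k] S) pp
    let x := o.symm ⟨nilradical (p.Fiber (R ⊗[k] S)), hN⟩
    have hx : Ideal.comap (algebraMap R (R ⊗[k] S)) x.1.asIdeal = p :=
      congrArg PrimeSpectrum.asIdeal x.2
    haveI := x.1.isPrime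
    obtain ⟨q, hq, hqx⟩ := Ideal.exists_minimalPrimes_le (I := ⊥) (J := x.1.asIdeal) bot_le
    haveI := hq.1.1
    refine ⟨q, hq, ?_⟩
    have h1 : Ideal.comap (algebraMap R (R ⊗[k] S)) q ≤ p := hx ▸ Ideal.comap_mono hqx
    exact le_antisymm h1 (hp.2 ⟨Ideal.comap_isPrime _ _, bot_le⟩ h1)

end MinPrimes

section SepClosed

variable {k S : Type u} [Field k] [CommRing S] [Algebra k S]

theorem isPrime_nilradical_tensor_of_isSepClosed [IsSepClosed k] (h : (nilradical S).IsPrime)
    (k' : Type u) [Field k'] [Algebra k k'] : (nilradical (k' ⊗[k] S)).IsPrime := by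
  refine isPrime_nilradical_of_algClosure (isPrime_nilradical_algClosure
    (isPrime_nilradical_sepClosure ?_)) k'
  intro E _ _ _ _
  have hbij : Function.Bijective (Algebra.ofId k E) :=
    ⟨(algebraMap k E).injective, IsSepClosed.algebraMap_surjective k E⟩
  let e : k ≃ₐ[k] E := AlgEquiv.ofBijective (Algebra.ofId k E) hbij
  let e2 : E ⊗[k] S ≃ₐ[k] S :=
    (Algebra.TensorProduct.congr e.symm (AlgEquiv.refl (R := k) (A₁ := S))).trans
      (Algebra.TensorProduct.lid k S)
  exact isPrime_nilradical_of_ringEquiv e2.toRingEquiv h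

lemma exists_unique_minimalPrimes_iff {A : Type*} [CommRing A] :
    (∃! p : Ideal A, p ∈ minimalPrimes A) ↔ (nilradical A).IsPrime := by
  constructor
  · rintro ⟨P, hP, huniq⟩
    have : nilradical A = P := by
      rw [nilradical, ← Ideal.sInf_minimalPrimes]
      apply le_antisymm
      · exact sInf_le hP
      · exact le_sInf fun Q hQ => (huniq Q hQ).ge
    rw [this]
    exact hP.1.1
  · intro h
    have hmin : nilradical A ∈ minimalPrimes A :=
      ⟨⟨h, bot_le⟩, fun Q hQ _ => nilradical_le_prime (H := hQ.1) Q⟩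
    refine ⟨nilradical A, hmin, fun Q hQ => ?_⟩
    have h1 : nilradical A ≤ Q := nilradical_le_prime (H := hQ.1.1) Q
    exact le_antisymm (hQ.2 ⟨h, bot_le⟩ h1) h1

end SepClosed

section Trans

/-- `R` irreducible, `S` geometrically irreducible ⇒ `R ⊗ S` irreducible. -/
theorem isPrime_nilradical_tensor {k R S : Type u} [Field k] [CommRing R] [CommRing S]
    [Algebra k R] [Algebra k S]
    (hS : ∀ (k' : Type u) [Field k'] [Algebra k k'], (nilradical (k' ⊗[k] S)).IsPrime)
    (hR : (nilradical R).IsPrime) : (nilradical (R ⊗[k] S)).IsPrime := by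
  have hbij := bijOn_comap_minimalPrimes (k := k) (R := R) (S := S) hS
  rw [← exists_unique_minimalPrimes_iff] at hR ⊢
  obtain ⟨p, hp, hpu⟩ := hR
  obtain ⟨q, hq, hqp⟩ := hbij.surjOn hp
  refine ⟨q, hq, fun q' hq' => ?_⟩
  apply hbij.injOn hq' hq
  rw [hqp]; exact hpu _ (hbij.mapsTo hq')

theorem isPrime_nilradical_trans {k K S : Type u} [Field k] [Field K] [Algebra k K] [CommRing S]
    [Algebra K S] [Algebra k S] [IsScalarTower k K S]
    (hK : ∀ (k' : Type u) [Field k'] [Algebra k k'], (nilradical (k' ⊗[k] K)).IsPrime)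
    (hS : ∀ (K' : Type u) [Field K'] [Algebra K K'], (nilradical (K' ⊗[K] S)).IsPrime)
    (k' : Type u) [Field k'] [Algebra k k'] : (nilradical (k' ⊗[k] S)).IsPrime := by
  have hB : (nilradical (K ⊗[k] k')).IsPrime :=
    isPrime_nilradical_of_ringEquiv (Algebra.TensorProduct.comm k K k').toRingEquiv (hK k')
  have h1 : (nilradical ((K ⊗[k] k') ⊗[K] S)).IsPrime := isPrime_nilradical_tensor hS hB
  let e1 : (K ⊗[k] k') ⊗[K] S ≃ₐ[K] S ⊗[K] (K ⊗[k] k') := Algebra.TensorProduct.comm K _ _
  let e2 : S ⊗[K] (K ⊗[k] k') ≃ₐ[K] S ⊗[k] k' := Algebra.TensorProduct.cancelBaseChange k K K S k'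
  let e3 : S ⊗[k] k' ≃ₐ[k] k' ⊗[k] S := Algebra.TensorProduct.comm k S k'
  exact isPrime_nilradical_of_ringEquiv
    (e3.symm.toRingEquiv.trans (e2.symm.toRingEquiv.trans e1.symm.toRingEquiv)) h1

end Trans

section GeomIntegral

variable {k S : Type u} [Field k] [CommRing S] [Algebra k S]

theorem isDomain_algClosure
    (H : ∀ (k' : Type u) [Field k'] [Algebra k k'] [Module.Finite k k'], IsDomain (k' ⊗[k] S)) :
    IsDomain (AlgebraicClosure k ⊗[k] S) := by
  apply isDomain_tensor_of_forall_finite
  intro E hE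
  exact H E

theorem isDomain_of_algClosure (H : IsDomain (AlgebraicClosure k ⊗[k] S))
    (k' : Type u) [Field k'] [Algebra k k'] : IsDomain (k' ⊗[k] S) := by
  let Ω := AlgebraicClosure k'
  let f : AlgebraicClosure k →ₐ[k] Ω := IsAlgClosed.lift
  letI : Algebra (AlgebraicClosure k) Ω := f.toRingHom.toAlgebra
  haveI : IsScalarTower k (AlgebraicClosure k) Ω :=
    IsScalarTower.of_algebraMap_eq (fun x => (f.commutes x).symm)
  haveI h1 : IsDomain ((AlgebraicClosure k ⊗[k] S) ⊗[AlgebraicClosure k] Ω) :=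
    isDomain_tensor_of_isAlgClosed (k := AlgebraicClosure k) (AlgebraicClosure k ⊗[k] S) Ω
  let e0 := Algebra.TensorProduct.comm (AlgebraicClosure k) (AlgebraicClosure k ⊗[k] S) Ω
  let e := Algebra.TensorProduct.cancelBaseChange k (AlgebraicClosure k) (AlgebraicClosure k) Ω S
  haveI h2 : IsDomain (Ω ⊗[k] S) :=
    (e.symm.toRingEquiv.trans e0.symm.toRingEquiv).toMulEquiv.isDomain
  exact (map_left_injective (S := S) (IsScalarTower.toAlgHom k k' Ω)
    (algebraMap k' Ω).injective).isDomain
    (Algebra.TensorProduct.map (IsScalarTower.toAlgHom k k' Ω) (AlgHom.id k S)).toRingHom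

end GeomIntegral

end Groth.Agent.Lib.Helper14.GeomIrr
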