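import Mathlib
import Groth.Agent.Lib.Helper14GeomIrr

/-! Helper14: geometric reducedness of algebras over a field (ring level). Geometrically reduced
(Mathlib: `k̄ ⊗ S` reduced) ⇒ `K ⊗ S` reduced for every field `K/k`; separable algebraic base change
preserves reducedness; purely inseparable test. -/

set_option autoImplicit false

universe u
open TensorProduct Polynomial

namespace Groth.Agent.Lib.Helper14.GeomRed

open Groth.Agent.Lib.Helper14Idem Groth.Agent.Lib.Helper14.GeomIrr

section AlgClosed

variable {k : Type u} [Field k] [IsAlgClosed k]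

/-- Over an algebraically closed field, a reduced f.g. algebra stays reduced after any field
extension (Nullstellensatz). -/
theorem isReduced_tensor_of_isAlgClosed_of_finiteType (A κ : Type u) [CommRing A] [Algebra k A]
    [Algebra.FiniteType k A] [IsReduced A] [Field κ] [Algebra k κ] : IsReduced (A ⊗[k] κ) := by
  classical
  have : IsJacobsonRing A := isJacobsonRing_of_finiteType (A := k)
  let c := Module.Basis.ofVectorSpace k κ
  refine ⟨fun x hx => ?_⟩
  -- all coordinates of x vanish
  have hcoord : ∀ i, (Algebra.TensorProduct.basis A c).repr x i = 0 := by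
    intro i
    have hmem : (Algebra.TensorProduct.basis A c).repr x i ∈ (⊥ : Ideal A).jacobson := by
      rw [Ideal.jacobson, Ideal.mem_sInf]
      rintro m ⟨-, hm⟩
      haveI := hm
      obtain ⟨ev, hev⟩ := Groth.Agent.Lib.Helper14.TensorDomain.exists_algHom_of_isMaximal k A m
      rw [← hev, ← repr_map c ev x i]
      have hnil : IsNilpotent (Algebra.TensorProduct.map ev (AlgHom.id k κ) x) := hx.map _
      haveI : IsReduced (k ⊗[k] κ) :=
        isReduced_of_injective (Algebra.TensorProduct.lid k κ) (Algebra.TensorProduct.lid k κ).injective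
      rw [hnil.eq_zero, map_zero, Finsupp.zero_apply]
    rw [(isJacobsonRing_iff.mp this) ⊥ Ideal.isRadical_bot] at hmem
    exact hmem
  apply (Algebra.TensorProduct.basis A c).repr.injective
  ext i
  rw [hcoord i, map_zero, Finsupp.zero_apply]

theorem isReduced_tensor_of_isAlgClosed (A κ : Type u) [CommRing A] [Algebra k A] [IsReduced A]
    [Field κ] [Algebra k κ] : IsReduced (κ ⊗[k] A) := by
  apply IsReduced.tensorProduct_of_flat_of_forall_fg
  intro B hB
  haveI : Algebra.FiniteType k B := ⟨B.fg_top.mpr hB⟩
  haveI : IsReduced B := isReduced_of_injective B.val Subtype.val_injective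
  haveI := isReduced_tensor_of_isAlgClosed_of_finiteType (k := k) B κ
  exact isReduced_of_injective (Algebra.TensorProduct.comm k κ B)
    (Algebra.TensorProduct.comm k κ B).injective

end AlgClosed

section General

variable {k S : Type u} [Field k] [CommRing S] [Algebra k S]

/-- Mathlib's TODO: geometrically reduced ⇒ reduced after any field base change. -/
theorem isReduced_tensor_of_isGeometricallyReduced [Algebra.IsGeometricallyReduced k S]
    (K : Type u) [Field K] [Algebra k K] : IsReduced (K ⊗[k] S) := by
  have H : IsReduced (AlgebraicClosure k ⊗[k] S) :=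
    (Algebra.isGeometricallyReduced_field_iff k S).mp inferInstance
  let Ω := AlgebraicClosure K
  let f : AlgebraicClosure k →ₐ[k] Ω := IsAlgClosed.lift
  letI : Algebra (AlgebraicClosure k) Ω := f.toRingHom.toAlgebra
  haveI : IsScalarTower k (AlgebraicClosure k) Ω :=
    IsScalarTower.of_algebraMap_eq (fun x => (f.commutes x).symm)
  haveI h1 : IsReduced (Ω ⊗[AlgebraicClosure k] (AlgebraicClosure k ⊗[k] S)) :=
    isReduced_tensor_of_isAlgClosed (k := AlgebraicClosure k) (AlgebraicClosure k ⊗[k] S) Ω
  let e := Algebra.TensorProduct.cancelBaseChange k (AlgebraicClosure k) (AlgebraicClosure k) Ω S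
  haveI h2 : IsReduced (Ω ⊗[k] S) := isReduced_of_injective e.symm e.symm.injective
  exact isReduced_of_injective
    (Algebra.TensorProduct.map (IsScalarTower.toAlgHom k K Ω) (AlgHom.id k S))
    (map_left_injective (S := S) (IsScalarTower.toAlgHom k K Ω) (algebraMap K Ω).injective)

end General

section Sep

variable {L : Type u} [Field L] {R : Type u} [CommRing R] [Algebra L R]

/-- `R[X]/(f)` is reduced for `R` a reduced `L`-algebra and `f ∈ L[X]` monic separable. -/
theorem isReduced_adjoinRoot_map [IsReduced R] {f : L[X]} (hf : f.Monic) (hsep : f.Separable) :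
    IsReduced (AdjoinRoot (f.map (algebraMap L R))) := by
  classical
  refine ⟨fun x hx => ?_⟩
  obtain ⟨h, rfl⟩ := AdjoinRoot.mk_surjective x
  set g := f.map (algebraMap L R) with hg
  have hgm : g.Monic := hf.map _
  set r := h %ₘ g with hr
  have hmk : AdjoinRoot.mk g h = AdjoinRoot.mk g r := by
    rw [AdjoinRoot.mk_eq_mk]
    refine ⟨h /ₘ g, ?_⟩
    have := Polynomial.modByMonic_add_div h g
    rw [hr]
    linear_combination this.symm
  rw [hmk] at hx ⊢
  obtain ⟨n, hn⟩ := hx
  rw [← map_pow, AdjoinRoot.mk_eq_zero] at hn
  suffices r = 0 by rw [this, map_zero]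
  ext i
  rw [coeff_zero]
  have hmem : r.coeff i ∈ nilradical R := by
    rw [nilradical_eq_sInf, Ideal.mem_sInf]
    intro p hp
    haveI : p.IsPrime := hp
    haveI : Nontrivial R := ⟨⟨0, 1, fun h01 => hp.ne_top (by
      rw [Ideal.eq_top_iff_one, ← h01]; exact p.zero_mem)⟩⟩
    let ψ : R →+* p.ResidueField := algebraMap R p.ResidueField
    have hgsep : (g.map ψ).Separable := by
      rw [hg, Polynomial.map_map]
      exact hsep.map
    have hdvd : g.map ψ ∣ (r.map ψ) ^ n := by
      rw [← Polynomial.map_pow]
      exact Polynomial.map_dvd ψ hn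
    have hdvd' : g.map ψ ∣ r.map ψ := hgsep.squarefree.isRadical n _ hdvd
    have hdeg : (r.map ψ).degree < (g.map ψ).degree := by
      calc (r.map ψ).degree ≤ r.degree := Polynomial.degree_map_le
        _ < g.degree := Polynomial.degree_modByMonic_lt h hgm
        _ = (g.map ψ).degree := (hgm.degree_map ψ).symm
    have h0 : r.map ψ = 0 := Polynomial.eq_zero_of_dvd_of_degree_lt hdvd' hdeg
    have h1 : ψ (r.coeff i) = 0 := by
      rw [← Polynomial.coeff_map, h0, coeff_zero]
    exact (Ideal.algebraMap_residueField_eq_zero).mp h1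
  rw [nilradical_eq_zero] at hmem
  exact hmem

end Sep

section Sep2

variable {L : Type u} [Field L] {R : Type u} [CommRing R] [Algebra L R]

/-- base change of `L[X]/(f)` to an `L`-algebra `R` -/
noncomputable def adjoinRootTensorEquiv' (f : L[X]) :
    R ⊗[L] AdjoinRoot f ≃ₐ[R] AdjoinRoot (f.map (algebraMap L R)) :=
  (AdjoinRoot.tensorAlgEquiv (R := L) (S := L) (T := R) f
    (f.map (Algebra.TensorProduct.includeRight : L →ₐ[L] R ⊗[L] L).toRingHom) rfl).trans
  (AdjoinRoot.mapAlgEquiv (Algebra.TensorProduct.rid L R R)
    (f.map (Algebra.TensorProduct.includeRight : L →ₐ[L] R ⊗[L] L).toRingHom)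
    (f.map (algebraMap L R)) (by
      rw [Polynomial.map_map]
      have : ((Algebra.TensorProduct.rid L R R : R ⊗[L] L →+* R)).comp
          (Algebra.TensorProduct.includeRight : L →ₐ[L] R ⊗[L] L).toRingHom = algebraMap L R := by
        ext x
        simp [Algebra.algebraMap_eq_smul_one]
      first | rw [this] | (show Associated (f.map _) _; erw [this])))

/-- finite separable base change of a reduced algebra is reduced -/
theorem isReduced_tensor_of_finite_separable [IsReduced R] (E : Type u) [Field E] [Algebra L E]
    [Module.Finite L E] [Algebra.IsSeparable L E] : IsReduced (E ⊗[L] R) := by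
  let pb := Field.powerBasisOfFiniteOfSeparable L E
  have hint : IsIntegral L pb.gen := Algebra.IsIntegral.isIntegral pb.gen
  have hsep : (minpoly L pb.gen).Separable := Algebra.IsSeparable.isSeparable L pb.gen
  let e : AdjoinRoot (minpoly L pb.gen) ≃ₐ[L] E :=
    AdjoinRoot.equiv' (minpoly L pb.gen) pb (by rw [AdjoinRoot.aeval_eq, AdjoinRoot.mk_self])
      (minpoly.aeval L pb.gen)
  haveI h1 := isReduced_adjoinRoot_map (R := R) (minpoly.monic hint) hsep
  let e2 : E ⊗[L] R ≃ₐ[L] AdjoinRoot (minpoly L pb.gen) ⊗[L] R :=
    Algebra.TensorProduct.congr e.symm AlgEquiv.refl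
  let e3 := (e2.toRingEquiv.trans ((Algebra.TensorProduct.comm L _ R).toRingEquiv.trans
      (adjoinRootTensorEquiv' (R := R) (minpoly L pb.gen)).toRingEquiv))
  exact isReduced_of_injective e3 e3.injective

end Sep2

section Alg

variable {k S : Type u} [Field k] [CommRing S] [Algebra k S] {L : Type u} [Field L] [Algebra k L]

theorem isReduced_tensor_of_forall_finite [Algebra.IsAlgebraic k L]
    (H : ∀ E : IntermediateField k L, FiniteDimensional k E → IsReduced (E ⊗[k] S)) :
    IsReduced (L ⊗[k] S) := by
  refine ⟨fun x hx => ?_⟩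
  obtain ⟨E, hE, y, rfl⟩ := exists_finite_intermediateField (k := k) x
  have hinj := map_left_injective (S := S) E.val E.val.injective
  rw [IsNilpotent.map_iff hinj] at hx
  haveI := H E hE
  rw [hx.eq_zero, map_zero]

/-- separable algebraic base change of a reduced algebra is reduced -/
theorem isReduced_tensor_of_isSeparable [Algebra.IsSeparable k L] [IsReduced S] :
    IsReduced (L ⊗[k] S) := by
  apply isReduced_tensor_of_forall_finite
  intro E hE
  exact isReduced_tensor_of_finite_separable E

theorem isReduced_tensor_of_purelyInseparable [IsPurelyInseparable k L]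
    (H : ∀ (k' : Type u) [Field k'] [Algebra k k'] [Module.Finite k k'] [IsPurelyInseparable k k'],
      IsReduced (k' ⊗[k] S)) : IsReduced (L ⊗[k] S) := by
  haveI : Algebra.IsAlgebraic k L := inferInstance
  apply isReduced_tensor_of_forall_finite
  intro E hE
  haveI : IsPurelyInseparable k E := IsPurelyInseparable.tower_bot k E L
  exact H E

/-- chain: purely inseparable then separable -/
theorem isReduced_tensor_of_chain {M : Type u} [Field M] [Algebra k M] [Algebra L M]
    [IsScalarTower k L M] [IsPurelyInseparable k L] [Algebra.IsSeparable L M]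
    (H : ∀ (k' : Type u) [Field k'] [Algebra k k'] [Module.Finite k k'] [IsPurelyInseparable k k'],
      IsReduced (k' ⊗[k] S)) : IsReduced (M ⊗[k] S) := by
  haveI h1 : IsReduced (L ⊗[k] S) := isReduced_tensor_of_purelyInseparable H
  haveI h2 : IsReduced (M ⊗[L] (L ⊗[k] S)) := isReduced_tensor_of_isSeparable
  let e := Algebra.TensorProduct.cancelBaseChange k L L M S
  exact isReduced_of_injective e.symm e.symm.injective

end Alg

section Main

variable {k S : Type u} [Field k] [CommRing S] [Algebra k S]

theorem isGeometricallyReduced_of_forall_finite_purelyInseparable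
    (H : ∀ (k' : Type u) [Field k'] [Algebra k k'] [Module.Finite k k'] [IsPurelyInseparable k k'],
      IsReduced (k' ⊗[k] S)) : Algebra.IsGeometricallyReduced k S := by
  rw [Algebra.isGeometricallyReduced_field_iff]
  haveI : PerfectField (perfectClosure k (AlgebraicClosure k)) := inferInstance
  haveI : Algebra.IsAlgebraic (perfectClosure k (AlgebraicClosure k)) (AlgebraicClosure k) :=
    Algebra.IsAlgebraic.tower_top (K := k) _
  haveI : Algebra.IsSeparable (perfectClosure k (AlgebraicClosure k)) (AlgebraicClosure k) :=
    Algebra.IsAlgebraic.isSeparable_of_perfectField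
  exact isReduced_tensor_of_chain (k := k) (S := S) (L := perfectClosure k (AlgebraicClosure k))
    (M := AlgebraicClosure k) H

end Main

end Groth.Agent.Lib.Helper14.GeomRed
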