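import Groth.Agent.Lib.Helper7Smoothing29

set_option autoImplicit false
set_option linter.style.haveILetI false
universe u
open MvPolynomial

namespace Groth.Agent.Lib.Helper7.Smoothing

/-- If every prime not containing `u` is in the smooth locus then `u` is in the singular ideal. -/
theorem mem_singularIdeal_of_forall {R B : Type u} [CommRing R] [CommRing B] [Algebra R B] (u : B)
    (H : ∀ Q : Ideal B, ∀ _ : Q.IsPrime, u ∉ Q → Algebra.IsSmoothAt R Q) :
    u ∈ Smoothing.singularIdeal R B := by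
  rw [Smoothing.singularIdeal, PrimeSpectrum.mem_vanishingIdeal]
  intro x hx
  by_contra hux
  exact hx (H x.asIdeal x.isPrime hux)

/-- If `a` is in the singular ideal, every prime not containing `a` is in the smooth locus. -/
theorem isSmoothAt_of_notMem_of_mem_singularIdeal {R A : Type u} [CommRing R] [CommRing A]
    [Algebra R A] (a : A) (ha : a ∈ Smoothing.singularIdeal R A) (q : Ideal A) [q.IsPrime]
    (haq : a ∉ q) : Algebra.IsSmoothAt R q := by
  have hq : (⟨q, inferInstance⟩ : PrimeSpectrum A) ∈ Algebra.smoothLocus R A := by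
    by_contra hns
    rw [Smoothing.singularIdeal, PrimeSpectrum.mem_vanishingIdeal] at ha
    exact haq (ha _ hns)
  exact hq

/-- A prime of a polynomial ring over `A` not containing `C a`, `a` in the singular ideal of `A`,
is in the smooth locus. -/
theorem isSmoothAt_mvPolynomial_of_notMem {R A : Type u} [CommRing R] [CommRing A] [Algebra R A]
    {σ : Type*} (a : A) (ha : a ∈ Smoothing.singularIdeal R A) (Q : Ideal (MvPolynomial σ A))
    [Q.IsPrime] (haQ : (C a : MvPolynomial σ A) ∉ Q) : Algebra.IsSmoothAt R Q := by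
  let q₀ : Ideal A := Q.under A
  haveI : q₀.IsPrime := Ideal.comap_isPrime _ _
  have haq : a ∉ q₀ := fun hmem => haQ hmem
  haveI : Algebra.IsSmoothAt R q₀ := isSmoothAt_of_notMem_of_mem_singularIdeal a ha q₀ haq
  haveI : Q.LiesOver q₀ := Ideal.over_under _
  haveI : Algebra.IsSmoothAt A Q := by
    change Algebra.FormallySmooth A (Localization.AtPrime Q)
    haveI : Algebra.FormallySmooth (MvPolynomial σ A) (Localization.AtPrime Q) :=
      Algebra.FormallySmooth.of_isLocalization Q.primeCompl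
    exact Algebra.FormallySmooth.comp A (MvPolynomial σ A) _
  exact isSmoothAt_comp q₀ Q

/-- Smoothness at a prime `Q ∌ s` can be checked on a surjective image whose kernel `s` kills. -/
theorem isSmoothAt_of_surjective_of_ker_killed {R B B₂ : Type u} [CommRing R] [CommRing B]
    [CommRing B₂] [Algebra R B] [Algebra R B₂] (f : B →ₐ[R] B₂) (hf : Function.Surjective f)
    (s : B) (hs : ∀ x, f x = 0 → s * x = 0) (Q : Ideal B) [Q.IsPrime] (hsQ : s ∉ Q)
    (H : ∀ Q₂ : Ideal B₂, ∀ _ : Q₂.IsPrime, Q₂.comap f = Q → Algebra.IsSmoothAt R Q₂) :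
    Algebra.IsSmoothAt R Q := by
  have hker : RingHom.ker (f : B →+* B₂) ≤ Q := by
    intro x hx
    have h0 : s * x = 0 := hs x ((RingHom.mem_ker).mp hx)
    have : s * x ∈ Q := h0 ▸ Q.zero_mem
    exact (Ideal.IsPrime.mem_or_mem inferInstance this).resolve_left hsQ
  have hf' : Function.Surjective (f : B →+* B₂) := hf
  haveI hQ₂ : (Q.map (f : B →+* B₂)).IsPrime := Ideal.map_isPrime_of_surjective hf' hker
  have hcomap : (Q.map (f : B →+* B₂)).comap (f : B →+* B₂) = Q := by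
    rw [Ideal.comap_map_of_surjective _ hf']
    exact sup_eq_left.mpr (by rwa [← RingHom.ker_eq_comap_bot])
  have hsQ₂ : f s ∉ Q.map (f : B →+* B₂) := by
    intro hmem
    apply hsQ
    rw [← hcomap]
    exact hmem
  haveI : Algebra.IsSmoothAt R (Q.map (f : B →+* B₂)) := H _ hQ₂ hcomap
  have key := isSmoothAt_comap_of_surjective_of_ker_killed f hf s hs (Q.map (f : B →+* B₂)) hsQ₂
  convert key using 2
  exact hcomap.symm

section ZK
variable {R P Cc Λ : Type u} [CommRing R] [CommRing P] [Algebra R P] [CommRing Cc] [Algebra R Cc]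
  [CommRing Λ] [Algebra R Λ]

/-- the ideal `z · ker ψ` of `P[z]` -/
noncomputable def zkJ (ψ : P →ₐ[R] Cc) : Ideal (MvPolynomial (Fin 1) P) :=
  Ideal.span {X 0} * (RingHom.ker (ψ : P →+* Cc)).map (C : P →+* MvPolynomial (Fin 1) P)

lemma zkJ_le_ker_polyMap (ψ : P →ₐ[R] Cc) (ρ : P →ₐ[R] Λ) (ν : Λ)
    (hν : ∀ p, ψ p = 0 → ν * ρ p = 0) :
    ∀ x ∈ zkJ ψ, polyMap ρ (fun _ : Fin 1 => ν) x = 0 := by
  intro x hx
  have hle : zkJ ψ ≤ RingHom.ker (polyMap ρ (fun _ : Fin 1 => ν) :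
      MvPolynomial (Fin 1) P →+* Λ) := by
    rw [zkJ, Ideal.span_singleton_mul_le_iff]
    intro z hz
    rw [RingHom.mem_ker]
    change polyMap ρ (fun _ : Fin 1 => ν) (X 0 * z) = 0
    rw [map_mul, polyMap_X]
    rw [Ideal.map] at hz
    induction hz using Submodule.span_induction with
    | mem z hz =>
      obtain ⟨p, hp, rfl⟩ := hz
      change ν * polyMap ρ (fun _ : Fin 1 => ν) (C p) = 0
      rw [polyMap_C]
      exact hν p ((RingHom.mem_ker).mp hp)
    | zero => simp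
    | add x y _ _ hx hy => rw [map_add, mul_add, hx, hy, add_zero]
    | smul a x _ hx => rw [smul_eq_mul, map_mul, mul_left_comm, hx, mul_zero]
  exact hle hx

/-- the map `P[z]/J → Λ` -/
noncomputable def zkh (ψ : P →ₐ[R] Cc) (ρ : P →ₐ[R] Λ) (ν : Λ)
    (hν : ∀ p, ψ p = 0 → ν * ρ p = 0) : (MvPolynomial (Fin 1) P ⧸ zkJ ψ) →ₐ[R] Λ :=
  Ideal.Quotient.liftₐ (zkJ ψ) (polyMap ρ (fun _ : Fin 1 => ν)) (zkJ_le_ker_polyMap ψ ρ ν hν)

lemma zkh_mk (ψ : P →ₐ[R] Cc) (ρ : P →ₐ[R] Λ) (ν : Λ)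
    (hν : ∀ p, ψ p = 0 → ν * ρ p = 0) (x : MvPolynomial (Fin 1) P) :
    zkh ψ ρ ν hν (Ideal.Quotient.mk _ x) = polyMap ρ (fun _ : Fin 1 => ν) x := by
  rw [zkh]
  exact Ideal.Quotient.liftₐ_apply _ _ _ _

lemma zkJ_le_ker_map (ψ : P →ₐ[R] Cc) :
    ∀ x ∈ zkJ ψ, MvPolynomial.mapAlgHom (σ := Fin 1) ψ x = 0 := by
  intro x hx
  have h1 : zkJ ψ ≤ (RingHom.ker (ψ : P →+* Cc)).map
      (C : P →+* MvPolynomial (Fin 1) P) := Ideal.mul_le_right
  have h2 := h1 hx
  rw [← MvPolynomial.ker_map] at h2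
  exact (RingHom.mem_ker).mp h2

/-- the map `P[z]/J → Cc[z]` -/
noncomputable def zkf (ψ : P →ₐ[R] Cc) :
    (MvPolynomial (Fin 1) P ⧸ zkJ ψ) →ₐ[R] MvPolynomial (Fin 1) Cc :=
  Ideal.Quotient.liftₐ (zkJ ψ) (MvPolynomial.mapAlgHom (σ := Fin 1) ψ) (zkJ_le_ker_map ψ)

lemma zkf_mk (ψ : P →ₐ[R] Cc) (x : MvPolynomial (Fin 1) P) :
    zkf ψ (Ideal.Quotient.mk _ x) = MvPolynomial.map (ψ : P →+* Cc) x := by
  rw [zkf]
  exact Ideal.Quotient.liftₐ_apply _ _ _ _

lemma zkf_surjective (ψ : P →ₐ[R] Cc) (hψ : Function.Surjective ψ) :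
    Function.Surjective (zkf ψ) := by
  intro y
  obtain ⟨x, rfl⟩ := MvPolynomial.map_surjective (ψ : P →+* Cc) hψ y
  exact ⟨Ideal.Quotient.mk _ x, zkf_mk ψ x⟩

lemma zkf_ker_killed (ψ : P →ₐ[R] Cc) (x : MvPolynomial (Fin 1) P ⧸ zkJ ψ)
    (hx : zkf ψ x = 0) : Ideal.Quotient.mk (zkJ ψ) (X 0) * x = 0 := by
  obtain ⟨p, rfl⟩ := Ideal.Quotient.mk_surjective x
  rw [zkf_mk] at hx
  have h2 : p ∈ RingHom.ker (MvPolynomial.map (σ := Fin 1) (ψ : P →+* Cc)) := hx
  rw [MvPolynomial.ker_map] at h2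
  rw [← map_mul, Ideal.Quotient.eq_zero_iff_mem, zkJ]
  exact Ideal.mul_mem_mul (Ideal.mem_span_singleton_self _) h2

/-- evaluation at `z = 0` as an algebra map `P[z] → P` -/
noncomputable def zkev : MvPolynomial (Fin 1) P →ₐ[R] P :=
  polyMap (AlgHom.id R P) (fun _ : Fin 1 => (0 : P))

lemma sub_C_zkev_mem (p : MvPolynomial (Fin 1) P) :
    p - C (zkev (R := R) p) ∈ Ideal.span {(X 0 : MvPolynomial (Fin 1) P)} := by
  induction p using MvPolynomial.induction_on with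
  | C a => simp [zkev]
  | add p q hp hq =>
    rw [map_add, map_add]
    have : p + q - (C (zkev (R := R) p) + C (zkev (R := R) q)) =
      (p - C (zkev (R := R) p)) + (q - C (zkev (R := R) q)) := by ring
    rw [this]
    exact Ideal.add_mem _ hp hq
  | mul_X p i hp =>
    rw [map_mul, zkev, polyMap_X, mul_zero, map_zero, sub_zero, Subsingleton.elim i 0]
    exact Ideal.mul_mem_left _ _ (Ideal.mem_span_singleton_self _)

lemma zkJ_le_ker_zkev (ψ : P →ₐ[R] Cc) : ∀ x ∈ zkJ ψ, zkev (R := R) x = 0 := by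
  intro x hx
  have hle : zkJ ψ ≤ RingHom.ker
      ((zkev (R := R) (P := P) : MvPolynomial (Fin 1) P →ₐ[R] P) : MvPolynomial (Fin 1) P →+* P) := by
    rw [zkJ, Ideal.span_singleton_mul_le_iff]
    intro z _
    rw [RingHom.mem_ker]
    change zkev (R := R) (X 0 * z) = 0
    rw [map_mul, zkev, polyMap_X, zero_mul]
  exact hle hx

/-- the map `P[z]/J → P`, `z ↦ 0` -/
noncomputable def zkg (ψ : P →ₐ[R] Cc) : (MvPolynomial (Fin 1) P ⧸ zkJ ψ) →ₐ[R] P :=
  Ideal.Quotient.liftₐ (zkJ ψ) zkev (zkJ_le_ker_zkev ψ)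

lemma zkg_mk (ψ : P →ₐ[R] Cc) (x : MvPolynomial (Fin 1) P) :
    zkg ψ (Ideal.Quotient.mk _ x) = zkev (R := R) x := by
  rw [zkg]
  exact Ideal.Quotient.liftₐ_apply _ _ _ _

lemma zkg_surjective (ψ : P →ₐ[R] Cc) : Function.Surjective (zkg ψ) := by
  intro p
  refine ⟨Ideal.Quotient.mk _ (C p), ?_⟩
  rw [zkg_mk, zkev, polyMap_C]
  rfl

lemma zkg_ker_killed (ψ : P →ₐ[R] Cc) (y : P) (hy : ψ y = 0)
    (x : MvPolynomial (Fin 1) P ⧸ zkJ ψ) (hx : zkg ψ x = 0) :
    Ideal.Quotient.mk (zkJ ψ) (C y) * x = 0 := by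
  obtain ⟨p, rfl⟩ := Ideal.Quotient.mk_surjective x
  rw [zkg_mk] at hx
  have h1 := sub_C_zkev_mem (R := R) p
  rw [hx, map_zero, sub_zero] at h1
  obtain ⟨q, rfl⟩ := Ideal.mem_span_singleton'.mp h1
  rw [← map_mul, Ideal.Quotient.eq_zero_iff_mem, zkJ]
  have : C y * (q * X 0) = X 0 * (C y * q) := by ring
  rw [this]
  refine Ideal.mul_mem_mul (Ideal.mem_span_singleton_self _) (Ideal.mul_mem_right _ _ ?_)
  exact Ideal.mem_map_of_mem _ ((RingHom.mem_ker).mpr hy)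

end ZK

end Groth.Agent.Lib.Helper7.Smoothing
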