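import Mathlib

universe u
set_option linter.style.haveILetI false
open TensorProduct IsLocalRing KaehlerDifferential

namespace Groth.Agent.Helper18Jac2

variable {R A B : Type u} [CommRing R] [CommRing A] [CommRing B] [Algebra R A] [Algebra A B]
  [Algebra R B] [IsScalarTower R A B]

/-- Jacobian criterion at a prime of a quotient of a smooth algebra (both directions). -/
theorem isSmoothAt_iff_injective [Algebra.Smooth R A]
    (hsurj : Function.Surjective (algebraMap A B))
    (hfg : (RingHom.ker (algebraMap A B)).FG) (p : Ideal B) [p.IsPrime] :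
    Algebra.FormallySmooth R (Localization.AtPrime p) ↔ Function.Injective
      (cotangentComplexBaseChange R B A (ResidueField (Localization.AtPrime p))) := by
  let q : Ideal A := p.comap (algebraMap A B)
  let P := Localization.AtPrime q
  let S := Localization.AtPrime p
  let f : P →+* S := Localization.localRingHom q p (algebraMap A B) rfl
  letI : Algebra P S := f.toAlgebra
  have hfdef : ∀ x : P, algebraMap P S x = f x := fun _ => rfl
  haveI tBPS : IsScalarTower A P S := .of_algebraMap_eq (fun b => by
    rw [hfdef, Localization.localRingHom_to_map]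
    exact IsScalarTower.algebraMap_apply A B S b)
  haveI tABS : IsScalarTower R A S := .of_algebraMap_eq (fun a => by
    rw [IsScalarTower.algebraMap_apply R B S, IsScalarTower.algebraMap_apply R A B,
      ← IsScalarTower.algebraMap_apply A B S])
  haveI tAPS : IsScalarTower R P S := .of_algebraMap_eq (fun a => by
    rw [IsScalarTower.algebraMap_apply R A P, ← IsScalarTower.algebraMap_apply A P S,
      ← IsScalarTower.algebraMap_apply R A S])
  haveI : Algebra.FormallyEtale A P := Algebra.FormallyEtale.of_isLocalization q.primeCompl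
  haveI : Algebra.FormallySmooth R P := Algebra.FormallySmooth.comp R A P
  let eΩ : P ⊗[A] Ω[A⁄R] ≃ₗ[P] Ω[P⁄R] := KaehlerDifferential.tensorKaehlerEquivOfFormallyEtale R A P
  haveI : Module.Finite A Ω[A⁄R] := inferInstance
  haveI : Module.Projective A Ω[A⁄R] := inferInstance
  haveI : Module.Finite P Ω[P⁄R] := Module.Finite.equiv eΩ
  haveI : Module.Projective P Ω[P⁄R] := Module.Projective.of_equiv eΩ
  haveI : Module.Free P Ω[P⁄R] := Module.free_of_flat_of_isLocalRing
  have hsurj' : Function.Surjective (algebraMap P S) :=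
    RingHom.surjective_localRingHom_of_surjective (algebraMap A B) hsurj p
  have hker' : RingHom.ker (algebraMap P S) =
      (RingHom.ker (algebraMap A B)).map (algebraMap A P) := by
    have hT : Submonoid.map (algebraMap A B) q.primeCompl = p.primeCompl :=
      Submonoid.map_comap_eq_of_surjective hsurj p.primeCompl
    exact IsLocalization.ker_map (S := P) (Q := S) (M := q.primeCompl)
      (T := p.primeCompl) (algebraMap A B) hT
  have hfg' : (RingHom.ker (algebraMap P S)).FG := by
    rw [hker']; exact hfg.map _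
  rw [Algebra.FormallySmooth.iff_injective_cotangentComplexBaseChange_residueField P hsurj' hfg']
  let K := ResidueField S
  haveI tABK : IsScalarTower A B K := inferInstance
  haveI tAPK : IsScalarTower A P K := inferInstance
  let I := RingHom.ker (algebraMap A B)
  -- the comparison equivalence on kernels
  let e0 : P ⊗[A] I ≃ₗ[P] I.map (algebraMap A P) :=
    (IsLocalizedModule.isBaseChange q.primeCompl P (Algebra.idealMap P I)).equiv
  let e1 : I.map (algebraMap A P) ≃ₗ[P] RingHom.ker (algebraMap P S) :=
    LinearEquiv.ofEq _ _ hker'.symm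
  let Φ : K ⊗[A] I ≃ₗ[K] K ⊗[P] RingHom.ker (algebraMap P S) :=
    (AlgebraTensorModule.cancelBaseChange A P K K I).symm ≪≫ₗ
      AlgebraTensorModule.congr (LinearEquiv.refl K K) (e0 ≪≫ₗ e1)
  have hmem : ∀ j : I, algebraMap A P j.1 ∈ RingHom.ker (algebraMap P S) := by
    intro j
    rw [hker']
    exact Ideal.mem_map_of_mem _ j.2
  have hΦ : ∀ (x : K) (j : I), Φ (x ⊗ₜ j) = x ⊗ₜ[P] ⟨algebraMap A P j.1, hmem j⟩ := by
    intro x j
    simp only [Φ, LinearEquiv.trans_apply, AlgebraTensorModule.cancelBaseChange_symm_tmul,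
      AlgebraTensorModule.congr_tmul, LinearEquiv.refl_apply]
    congr 1
    ext
    simp [e0, e1, IsBaseChange.equiv_tmul, Algebra.idealMap]
    rfl
  let e2 : K ⊗[P] (P ⊗[A] Ω[A⁄R]) ≃ₗ[K] K ⊗[A] Ω[A⁄R] :=
    AlgebraTensorModule.cancelBaseChange A P K K Ω[A⁄R]
  let e3 : K ⊗[P] (P ⊗[A] Ω[A⁄R]) ≃ₗ[K] K ⊗[P] Ω[P⁄R] :=
    AlgebraTensorModule.congr (LinearEquiv.refl K K) eΩ
  let θ : K ⊗[P] Ω[P⁄R] ≃ₗ[K] K ⊗[A] Ω[A⁄R] := e3.symm ≪≫ₗ e2
  have hcomp : ∀ z, θ (cotangentComplexBaseChange R S P K (Φ z)) =
      cotangentComplexBaseChange R B A K z := by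
    intro z
    induction z with
    | zero => simp
    | add z z' hz hz' => simp only [map_add, hz, hz']
    | tmul x j =>
      rw [hΦ, cotangentComplexBaseChange_tmul, cotangentComplexBaseChange_tmul, map_smul,
        kerToTensor_apply, kerToTensor_apply]
      congr 1
      simp only [θ, LinearEquiv.trans_apply, e3, e2]
      have : (AlgebraTensorModule.congr (LinearEquiv.refl K K) eΩ).symm
          ((1 : K) ⊗ₜ[P] (D R P) (algebraMap A P j.1)) = (1 : K) ⊗ₜ[P] ((1 : P) ⊗ₜ[A] D R A j.1) := by
        rw [LinearEquiv.symm_apply_eq, AlgebraTensorModule.congr_tmul]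
        simp [eΩ]
      rw [this, AlgebraTensorModule.cancelBaseChange_tmul, one_smul]
  have hfun : (cotangentComplexBaseChange R B A K : K ⊗[A] I → K ⊗[A] Ω[A⁄R]) =
      θ ∘ (cotangentComplexBaseChange R S P K) ∘ Φ := by
    funext z
    exact (hcomp z).symm
  constructor
  · intro h
    rw [hfun]
    exact θ.injective.comp (h.comp Φ.injective)
  · intro h y y' hyy
    obtain ⟨z, rfl⟩ := Φ.surjective y
    obtain ⟨z', rfl⟩ := Φ.surjective y'
    congr 1
    apply h
    rw [← hcomp, ← hcomp, hyy]

end Groth.Agent.Helper18Jac2
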