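import Mathlib
import Groth.Agent.Lib.Helper18Jac2

universe u
set_option linter.style.haveILetI false
set_option linter.unusedSimpArgs false
open TensorProduct KaehlerDifferential MvPolynomial

namespace Groth.Agent.Helper18Nak

/-- From a finite spanning family, select a sub-family (along an embedding of `Fin c`) that is a
basis. -/
lemma exists_embedding_basis {K V : Type*} [Field K] [AddCommGroup V] [Module K V] {m : ℕ}
    (v : Fin m → V) (hv : Submodule.span K (Set.range v) = ⊤) :
    ∃ (c : ℕ) (e : Fin c ↪ Fin m), LinearIndependent K (v ∘ e) ∧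
      Submodule.span K (Set.range (v ∘ e)) = ⊤ := by
  obtain ⟨b, hb, hspan, hli⟩ := exists_linearIndependent K (Set.range v)
  haveI : Finite b := (Set.Finite.subset (Set.finite_range v) hb).to_subtype
  let eq : b ≃ Fin (Nat.card b) := Finite.equivFin b
  have hch : ∀ x : b, ∃ i, v i = x.1 := fun x => hb x.2
  choose g hg using hch
  have hginj : Function.Injective g := by
    intro x y hxy
    apply Subtype.ext
    rw [← hg x, ← hg y, hxy]
  let e : Fin (Nat.card b) ↪ Fin m := ⟨g ∘ eq.symm, hginj.comp eq.symm.injective⟩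
  have hve : v ∘ e = Subtype.val ∘ eq.symm := by
    funext k
    exact hg _
  refine ⟨Nat.card b, e, ?_, ?_⟩
  · rw [hve]
    exact hli.comp _ eq.symm.injective
  · rw [hve, Set.range_comp, Set.range_eq_univ.mpr eq.symm.surjective, Set.image_univ,
      Subtype.range_coe_subtype]
    exact hspan.trans hv

/-- A `c × n` matrix over a field with linearly independent rows has a nonzero `c × c` minor. -/
lemma exists_cols {K : Type*} [Field K] {c n : ℕ} (w : Fin c → Fin n → K)
    (hw : LinearIndependent K w) :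
    ∃ cols : Fin c ↪ Fin n, Matrix.det (Matrix.of fun j k => w j (cols k)) ≠ 0 := by
  let col : Fin n → (Fin c → K) := fun i j => w j i
  have hspan : Submodule.span K (Set.range col) = ⊤ := by
    by_contra hne
    obtain ⟨φ, hφ0, hφ⟩ := Submodule.exists_le_ker_of_lt_top _ (lt_top_iff_ne_top.mpr hne)
    apply hφ0
    have hzero : ∑ j, φ (Pi.single j 1) • w j = 0 := by
      funext i
      have h1 : φ (col i) = 0 := hφ (Submodule.subset_span ⟨i, rfl⟩)
      have h2 : col i = ∑ j, (w j i) • (Pi.single j (1 : K) : Fin c → K) := by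
        funext j'
        simp [col, Finset.sum_apply, Pi.single_apply]
      rw [h2, map_sum] at h1
      simp only [map_smul, smul_eq_mul] at h1
      simp only [Finset.sum_apply, Pi.smul_apply, smul_eq_mul, Pi.zero_apply]
      rw [← h1]
      exact Finset.sum_congr rfl fun j _ => mul_comm _ _
    have hcoef := (Fintype.linearIndependent_iff.mp hw) (fun j => φ (Pi.single j 1)) hzero
    apply LinearMap.pi_ext'
    intro j
    apply LinearMap.ext_ring
    simpa using hcoef j
  obtain ⟨c', e, hli, hsp⟩ := exists_embedding_basis col hspan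
  have hc : c' = c := by
    let B : Module.Basis (Fin c') K (Fin c → K) := Module.Basis.mk hli (le_of_eq hsp.symm)
    have := Module.finrank_eq_card_basis B
    simpa using this.symm
  subst hc
  refine ⟨e, ?_⟩
  have hunit : IsUnit (Matrix.of (col ∘ e)) := by
    rw [← Matrix.linearIndependent_rows_iff_isUnit]
    exact hli
  have hdet : IsUnit (Matrix.det (Matrix.of (col ∘ e))) := (Matrix.isUnit_iff_isUnit_det _).mp hunit
  have : (Matrix.of fun j k => w j (e k)) = Matrix.transpose (Matrix.of (col ∘ e)) := by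
    ext j k
    rfl
  rw [this, Matrix.det_transpose]
  exact hdet.ne_zero

open Algebra.Extension in
/-- Nakayama at a prime for the cotangent module of an extension: if chosen generators span the
fibre of `I/I²` at `q`, then locally at `q` they generate `I/I²`. -/
lemma exists_mul_mem {R A : Type u} [CommRing R] [CommRing A] [Algebra R A]
    (E : Algebra.Extension R A) {m c : ℕ} (f : Fin m → E.Ring) (hf : ∀ ℓ, f ℓ ∈ E.ker)
    (hfg : E.ker.FG) (q : Ideal A) [q.IsPrime] (rows : Fin c → Fin m)
    (hspan : Submodule.span q.ResidueField (Set.range fun j =>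
      (1 : q.ResidueField) ⊗ₜ[A] Cotangent.mk (P := E) ⟨f (rows j), hf _⟩) = ⊤) :
    ∃ s : E.Ring, algebraMap E.Ring A s ∉ q ∧
      ∀ ℓ, s * f ℓ ∈ Ideal.span (Set.range (f ∘ rows)) ⊔ E.ker ^ 2 := by
  classical
  let K := q.ResidueField
  let C := E.Cotangent
  haveI : Module.Finite E.Ring E.Cotangent :=
    have : Module.Finite E.Ring E.ker := .of_fg hfg
    .of_surjective _ Cotangent.mk_surjective
  haveI : Module.Finite A E.Cotangent := Module.Finite.of_restrictScalars_finite E.Ring _ _
  let g : Fin c → C := fun j => Cotangent.mk ⟨f (rows j), hf _⟩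
  let N : Submodule A C := Submodule.span A (Set.range g)
  let Q := C ⧸ N
  -- the fibre of `Q` at `q` vanishes
  have hsub : Subsingleton (K ⊗[A] Q) := by
    have hsurj : Function.Surjective (N.mkQ.baseChange K) :=
      LinearMap.lTensor_surjective K N.mkQ_surjective
    have hzero : N.mkQ.baseChange K = 0 := by
      apply LinearMap.ext_on_range (R := K) hspan
      intro j
      rw [LinearMap.baseChange_tmul, LinearMap.zero_apply]
      have : N.mkQ (g j) = 0 := (Submodule.Quotient.mk_eq_zero _).mpr (Submodule.subset_span ⟨j, rfl⟩)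
      change (1 : K) ⊗ₜ[A] N.mkQ (g j) = 0
      rw [this, TensorProduct.tmul_zero]
    refine ⟨fun a b => ?_⟩
    obtain ⟨a', rfl⟩ := hsurj a
    obtain ⟨b', rfl⟩ := hsurj b
    rw [hzero, LinearMap.zero_apply, LinearMap.zero_apply]
  have hsupp : (⟨q, inferInstance⟩ : PrimeSpectrum A) ∉ Module.support A Q := by
    rw [Module.mem_support_iff_nontrivial_residueField_tensorProduct]
    exact not_nontrivial_iff_subsingleton.mpr hsub
  rw [Module.notMem_support_iff'] at hsupp
  -- for each `ℓ` choose a multiplier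
  have hℓ : ∀ ℓ : Fin m, ∃ s : E.Ring, algebraMap E.Ring A s ∉ q ∧
      s * f ℓ ∈ Ideal.span (Set.range (f ∘ rows)) ⊔ E.ker ^ 2 := by
    intro ℓ
    obtain ⟨r, hr, hrm⟩ := hsupp (N.mkQ (Cotangent.mk ⟨f ℓ, hf ℓ⟩))
    obtain ⟨s, rfl⟩ := E.algebraMap_surjective r
    refine ⟨s, hr, ?_⟩
    rw [← map_smul, ← LinearMap.mem_ker, Submodule.ker_mkQ] at hrm
    obtain ⟨α, hα⟩ := (Submodule.mem_span_range_iff_exists_fun A).mp hrm
    choose p hp using fun j => E.algebraMap_surjective (α j)
    have h1 : algebraMap E.Ring A s • Cotangent.mk (P := E) ⟨f ℓ, hf ℓ⟩ =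
        Cotangent.mk (s • ⟨f ℓ, hf ℓ⟩) := by
      rw [algebraMap_smul, map_smul]
    have h2 : ∑ j, α j • g j = Cotangent.mk (∑ j, p j • (⟨f (rows j), hf _⟩ : E.ker)) := by
      rw [map_sum]
      refine Finset.sum_congr rfl fun j _ => ?_
      rw [map_smul, ← hp j, algebraMap_smul]
    rw [h1, h2] at hα
    have h3 := (Cotangent.mk_eq_mk_iff_sub_mem _ _).mp hα
    have h4 : s * f ℓ = (∑ j, p j * f (rows j)) - ((∑ j, p j * f (rows j)) - s * f ℓ) := by ring
    rw [h4]
    refine Ideal.sub_mem _ (Ideal.mem_sup_left ?_) (Ideal.mem_sup_right ?_)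
    · exact Ideal.sum_mem _ fun j _ => Ideal.mul_mem_left _ _ (Ideal.subset_span ⟨j, rfl⟩)
    · convert h3 using 1
      simp [Submodule.coe_sum]
  choose s hs hsf using hℓ
  refine ⟨∏ ℓ, s ℓ, ?_, fun ℓ => ?_⟩
  · rw [map_prod]
    intro hmem
    obtain ⟨ℓ, -, hℓ'⟩ := (Ideal.IsPrime.prod_mem_iff (hp := inferInstance)).mp hmem
    exact hs ℓ hℓ'
  · obtain ⟨t, ht⟩ := Finset.dvd_prod_of_mem s (Finset.mem_univ ℓ)
    rw [ht, mul_comm (s ℓ) t, mul_assoc]
    exact Ideal.mul_mem_left _ _ (hsf ℓ)

/-- `K ⊗ I` is spanned over `K` by `1 ⊗ fℓ` when the `fℓ` generate `I`. -/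
lemma span_one_tmul_eq_top {P : Type u} [CommRing P] (K : Type u) [Field K] [Algebra P K]
    (I : Ideal P) {m : ℕ} (f : Fin m → P) (hI : I = Ideal.span (Set.range f))
    (hf : ∀ ℓ, f ℓ ∈ I) :
    Submodule.span K (Set.range fun ℓ => (1 : K) ⊗ₜ[P] (⟨f ℓ, hf ℓ⟩ : I)) = ⊤ := by
  rw [eq_top_iff]
  rintro x -
  induction x with
  | zero => exact zero_mem _
  | add x y hx hy => exact add_mem hx hy
  | tmul a i =>
    obtain ⟨i, hi⟩ := i
    have hi' := hi
    rw [hI] at hi'
    obtain ⟨cf, hcf⟩ := (Ideal.mem_span_range_iff_exists_fun).mp hi'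
    have : (⟨i, hi⟩ : I) = ∑ ℓ, cf ℓ • (⟨f ℓ, hf ℓ⟩ : I) := by
      ext
      simp [← hcf, Submodule.coe_sum]
    rw [this, TensorProduct.tmul_sum]
    refine Submodule.sum_mem _ fun ℓ _ => ?_
    rw [TensorProduct.tmul_smul]
    have h2 : cf ℓ • (a ⊗ₜ[P] (⟨f ℓ, hf ℓ⟩ : I)) =
        (algebraMap P K (cf ℓ) * a) • ((1 : K) ⊗ₜ[P] (⟨f ℓ, hf ℓ⟩ : I)) := by
      rw [TensorProduct.smul_tmul', TensorProduct.smul_tmul', smul_eq_mul, mul_one,
        Algebra.smul_def]
    rw [h2]
    exact Submodule.smul_mem _ _ (Submodule.subset_span ⟨ℓ, rfl⟩)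

theorem main {R A : Type u} [CommRing R] [CommRing A] [Algebra R A] {n m : ℕ}
    (f : Fin m → MvPolynomial (Fin n) R) (φ : MvPolynomial (Fin n) R →ₐ[R] A)
    (hφ : Function.Surjective φ)
    (hker : RingHom.ker φ.toRingHom = Ideal.span (Set.range f)) (q : Ideal A) [q.IsPrime]
    [Algebra.IsSmoothAt R q] :
    ∃ a : A, a ∉ q ∧ ∃ (c : ℕ) (rows : Fin c ↪ Fin m) (cols : Fin c ↪ Fin n) (a' : A),
      a = a' * φ (Matrix.det (Matrix.of fun j k : Fin c => pderiv (cols k) (f (rows j)))) ∧
      ∀ a₁ : MvPolynomial (Fin n) R, φ a₁ = a → ∀ ℓ : Fin m,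
        a₁ * f ℓ ∈ Ideal.span (Set.range (f ∘ rows)) ⊔ Ideal.span (Set.range f) ^ 2 := by
  classical
  let P := MvPolynomial (Fin n) R
  letI : Algebra P A := φ.toRingHom.toAlgebra
  haveI : IsScalarTower R P A := .of_algebraMap_eq (fun a => (φ.commutes a).symm)
  have hsurj : Function.Surjective (algebraMap P A) := hφ
  have hkerI : RingHom.ker (algebraMap P A) = Ideal.span (Set.range f) := hker
  have hfg : (RingHom.ker (algebraMap P A)).FG := by
    rw [hkerI]; exact Submodule.fg_span (Set.finite_range f)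
  haveI : Algebra.Smooth R P := ⟨inferInstance, inferInstance⟩
  let K := q.ResidueField
  have hinj : Function.Injective (cotangentComplexBaseChange R A P K) :=
    (Groth.Agent.Helper18Jac2.isSmoothAt_iff_injective hsurj hfg q).mp inferInstance
  let I := RingHom.ker (algebraMap P A)
  have hfmem : ∀ ℓ, f ℓ ∈ I := fun ℓ => by
    change f ℓ ∈ RingHom.ker (algebraMap P A)
    rw [hkerI]; exact Ideal.subset_span ⟨ℓ, rfl⟩
  let v : Fin m → K ⊗[P] I := fun ℓ => (1 : K) ⊗ₜ[P] (⟨f ℓ, hfmem ℓ⟩ : I)
  have hvspan : Submodule.span K (Set.range v) = ⊤ :=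
    span_one_tmul_eq_top K I f hkerI hfmem
  obtain ⟨c, rows, hrli, hrspan⟩ := exists_embedding_basis v hvspan
  -- coordinates of the differentials
  let bW : Module.Basis (Fin n) K (K ⊗[P] Ω[P⁄R]) := (mvPolynomialBasis R (Fin n)).baseChange K
  let w : Fin c → Fin n → K := fun j i => algebraMap P K (pderiv i (f (rows j)))
  have hw : LinearIndependent K w := by
    have h1 : LinearIndependent K ((cotangentComplexBaseChange R A P K) ∘ (v ∘ rows)) :=
      hrli.map' _ (LinearMap.ker_eq_bot.mpr hinj)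
    have h2 := h1.map' bW.equivFun.toLinearMap (LinearMap.ker_eq_bot.mpr bW.equivFun.injective)
    have hweq : w = (bW.equivFun.toLinearMap ∘ (cotangentComplexBaseChange R A P K) ∘ (v ∘ rows)) := by
      funext j i
      simp only [Function.comp_apply, LinearEquiv.coe_coe, Module.Basis.equivFun_apply, v, w]
      rw [cotangentComplexBaseChange_tmul, one_smul, kerToTensor_apply]
      rw [Module.Basis.baseChange_repr_tmul, mvPolynomialBasis_repr_apply, Algebra.smul_def, mul_one]
    rw [hweq]
    exact h2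
  obtain ⟨cols, hcols⟩ := exists_cols w hw
  have hminor : φ (Matrix.det (Matrix.of fun j k : Fin c => pderiv (cols k) (f (rows j)))) ∉ q := by
    intro hmem
    apply hcols
    have h1 : algebraMap P K (Matrix.det (Matrix.of fun j k : Fin c =>
        pderiv (cols k) (f (rows j)))) = Matrix.det (Matrix.of fun j k => w j (cols k)) := by
      rw [RingHom.map_det]
      rfl
    rw [← h1, IsScalarTower.algebraMap_apply P A K, Ideal.algebraMap_residueField_eq_zero]
    exact hmem
  -- Nakayama
  let E : Algebra.Extension R A :=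
    { Ring := P, σ := _, algebraMap_σ := Function.surjInv_eq hsurj }
  have hEker : E.ker = I := rfl
  let g0 : I →ₗ[P] K ⊗[A] E.Cotangent :=
    { toFun := fun i => (1 : K) ⊗ₜ[A] Algebra.Extension.Cotangent.mk (P := E) i
      map_add' := fun i i' => by rw [map_add, TensorProduct.tmul_add]
      map_smul' := fun p i => by
        rw [RingHom.id_apply, map_smul, ← algebraMap_smul A p
          (Algebra.Extension.Cotangent.mk (P := E) i), TensorProduct.tmul_smul,
          algebraMap_smul] }
  let Ψ : K ⊗[P] I →ₗ[K] K ⊗[A] E.Cotangent := LinearMap.liftBaseChange K g0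
  have hΨ : ∀ i : I, Ψ ((1 : K) ⊗ₜ[P] i) =
      (1 : K) ⊗ₜ[A] Algebra.Extension.Cotangent.mk (P := E) i := by
    intro i
    simp [Ψ, g0]
  have hΨsurj : Function.Surjective Ψ := by
    intro y
    induction y with
    | zero => exact ⟨0, map_zero _⟩
    | add y y' hy hy' =>
      obtain ⟨z, rfl⟩ := hy
      obtain ⟨z', rfl⟩ := hy'
      exact ⟨z + z', map_add _ _ _⟩
    | tmul x cc =>
      obtain ⟨i, rfl⟩ := Algebra.Extension.Cotangent.mk_surjective cc
      refine ⟨x ⊗ₜ[P] i, ?_⟩
      simp [Ψ, g0, TensorProduct.smul_tmul']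
  have hspanC : Submodule.span K (Set.range fun j =>
      (1 : K) ⊗ₜ[A] Algebra.Extension.Cotangent.mk (P := E) ⟨f (rows j), hfmem _⟩) = ⊤ := by
    have h1 : Submodule.map Ψ (Submodule.span K (Set.range (v ∘ rows))) = ⊤ := by
      rw [hrspan, Submodule.map_top, LinearMap.range_eq_top.mpr hΨsurj]
    rw [← h1, Submodule.map_span, ← Set.range_comp]
    congr 2
    funext j
    exact (hΨ _).symm
  obtain ⟨s, hs, hsf⟩ := exists_mul_mem E f hfmem hfg q rows hspanC
  refine ⟨φ s * φ (Matrix.det (Matrix.of fun j k : Fin c => pderiv (cols k) (f (rows j)))),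
    fun h => ?_, c, rows, cols, φ s, rfl, fun a₁ ha₁ ℓ => ?_⟩
  · rcases Ideal.IsPrime.mem_or_mem inferInstance h with h | h
    · exact hs h
    · exact hminor h
  · set minor := Matrix.det (Matrix.of fun j k : Fin c => pderiv (cols k) (f (rows j)))
    have hdiff : a₁ - s * minor ∈ I := by
      change a₁ - s * minor ∈ RingHom.ker (algebraMap P A)
      rw [RingHom.mem_ker, map_sub, map_mul]
      change φ a₁ - φ s * φ minor = 0
      rw [ha₁, sub_self]
    have h1 : a₁ * f ℓ = (a₁ - s * minor) * f ℓ + minor * (s * f ℓ) := by ring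
    rw [h1]
    refine Ideal.add_mem _ (Ideal.mem_sup_right ?_) (Ideal.mul_mem_left _ _ ?_)
    · rw [← hkerI, sq]
      exact Ideal.mul_mem_mul hdiff (hfmem ℓ)
    · have := hsf ℓ
      rw [hEker] at this
      rw [← hkerI]
      exact this

end Groth.Agent.Helper18Nak
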