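import Mathlib
import Groth.Prelude.Def_Smoothing
import Groth.Agent.Lib.Helper18Nak

universe u
set_option linter.style.haveILetI false
open TensorProduct KaehlerDifferential MvPolynomial

namespace Groth.Agent.Helper18Std

/-- If a spanning family has linearly independent image, the linear map is injective. -/
lemma injective_of_span_of_li {K V W : Type*} [Field K] [AddCommGroup V] [Module K V]
    [AddCommGroup W] [Module K W] {ι : Type*} [Fintype ι] (T : V →ₗ[K] W) (v : ι → V)
    (hv : Submodule.span K (Set.range v) = ⊤) (hli : LinearIndependent K (T ∘ v)) :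
    Function.Injective T := by
  rw [injective_iff_map_eq_zero]
  intro x hx
  have hx' : x ∈ Submodule.span K (Set.range v) := hv ▸ Submodule.mem_top
  obtain ⟨a, rfl⟩ := (Submodule.mem_span_range_iff_exists_fun K).mp hx'
  rw [map_sum] at hx
  simp only [map_smul] at hx
  have := (Fintype.linearIndependent_iff.mp hli) a hx
  simp [this]

/-- Sufficient condition for smoothness at a prime: a nonvanishing minor of the chosen relations,
which generate the conormal module locally. -/
theorem isSmoothAt_of_minor {R A : Type u} [CommRing R] [CommRing A] [Algebra R A] {n m c : ℕ}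
    (f : Fin m → MvPolynomial (Fin n) R) (φ : MvPolynomial (Fin n) R →ₐ[R] A)
    (hφ : Function.Surjective φ)
    (hker : RingHom.ker φ.toRingHom = Ideal.span (Set.range f))
    (lead : Fin c → Fin m) (cols : Fin c → Fin n) (q : Ideal A) [q.IsPrime]
    (hminor : φ (Matrix.det (Matrix.of fun j k : Fin c => pderiv (cols k) (f (lead j)))) ∉ q)
    (s : MvPolynomial (Fin n) R) (hs : φ s ∉ q)
    (htail : ∀ ℓ, s * f ℓ ∈ Ideal.span (Set.range (f ∘ lead)) ⊔ Ideal.span (Set.range f) ^ 2) :
    Algebra.IsSmoothAt R q := by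
  classical
  let P := MvPolynomial (Fin n) R
  letI : Algebra P A := φ.toRingHom.toAlgebra
  haveI : IsScalarTower R P A := .of_algebraMap_eq (fun a => (φ.commutes a).symm)
  have hsurj : Function.Surjective (algebraMap P A) := hφ
  have hkerI : RingHom.ker (algebraMap P A) = Ideal.span (Set.range f) := hker
  have hfg : (RingHom.ker (algebraMap P A)).FG := by
    rw [hkerI]; exact Submodule.fg_span (Set.finite_range f)
  haveI : Algebra.Smooth R P := ⟨inferInstance, inferInstance⟩
  let K := q.ResidueField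
  refine (Groth.Agent.Helper18Jac2.isSmoothAt_iff_injective hsurj hfg q).mpr ?_
  let I := RingHom.ker (algebraMap P A)
  have hfmem : ∀ ℓ, f ℓ ∈ I := fun ℓ => by
    change f ℓ ∈ RingHom.ker (algebraMap P A)
    rw [hkerI]; exact Ideal.subset_span ⟨ℓ, rfl⟩
  have hIK : ∀ i ∈ I, algebraMap P K i = 0 := by
    intro i hi
    rw [IsScalarTower.algebraMap_apply P A K, RingHom.mem_ker.mp hi, map_zero]
  let τ : I →ₗ[P] K ⊗[P] I := TensorProduct.mk P K I 1
  let v : Fin m → K ⊗[P] I := fun ℓ => τ ⟨f ℓ, hfmem ℓ⟩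
  have hvspan : Submodule.span K (Set.range v) = ⊤ :=
    Groth.Agent.Helper18Nak.span_one_tmul_eq_top K I f hkerI hfmem
  let W : Submodule K (K ⊗[P] I) := Submodule.span K (Set.range (v ∘ lead))
  -- elements of the span of leading relations land in `W`
  have h1 : ∀ x ∈ Ideal.span (Set.range (f ∘ lead)), ∀ hx : x ∈ I, τ ⟨x, hx⟩ ∈ W := by
    intro x hx0
    refine Submodule.span_induction (p := fun x _ => ∀ hx : x ∈ I, τ ⟨x, hx⟩ ∈ W) ?_ ?_ ?_ ?_ hx0
    · rintro _ ⟨j, rfl⟩ hx
      exact Submodule.subset_span ⟨j, rfl⟩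
    · intro hx
      have : (⟨0, hx⟩ : I) = 0 := rfl
      rw [this, map_zero]
      exact zero_mem _
    · intro x y hx hy hx' hy' hxy
      have hxI : x ∈ I := by
        change x ∈ RingHom.ker (algebraMap P A)
        rw [hkerI]
        exact Ideal.span_mono (Set.range_comp_subset_range _ _) hx
      have hyI : y ∈ I := by
        change y ∈ RingHom.ker (algebraMap P A)
        rw [hkerI]
        exact Ideal.span_mono (Set.range_comp_subset_range _ _) hy
      have : (⟨x + y, hxy⟩ : I) = ⟨x, hxI⟩ + ⟨y, hyI⟩ := rfl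
      rw [this, map_add]
      exact add_mem (hx' hxI) (hy' hyI)
    · intro p x hx hx' hpx
      have hxI : x ∈ I := by
        change x ∈ RingHom.ker (algebraMap P A)
        rw [hkerI]
        exact Ideal.span_mono (Set.range_comp_subset_range _ _) hx
      have : (⟨p • x, hpx⟩ : I) = p • ⟨x, hxI⟩ := rfl
      rw [this, map_smul, ← algebraMap_smul K p]
      exact Submodule.smul_mem _ _ (hx' hxI)
  -- squares die
  have h2 : ∀ y ∈ Ideal.span (Set.range f) ^ 2, ∀ hy : y ∈ I, τ ⟨y, hy⟩ = 0 := by
    intro y hy0 hy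
    rw [sq, ← hkerI] at hy0
    have : ∃ hy : y ∈ I, τ ⟨y, hy⟩ = 0 := by
      refine Submodule.mul_induction_on (C := fun y => ∃ hy : y ∈ I, τ ⟨y, hy⟩ = 0) hy0 ?_ ?_
      · intro i₁ hi₁ i₂ hi₂
        refine ⟨Ideal.mul_mem_left _ _ hi₂, ?_⟩
        have : (⟨i₁ * i₂, Ideal.mul_mem_left _ _ hi₂⟩ : I) = i₁ • ⟨i₂, hi₂⟩ := rfl
        rw [this, map_smul, ← algebraMap_smul K i₁, hIK i₁ hi₁, zero_smul]
      · rintro x y ⟨hxI, hx⟩ ⟨hyI, hy⟩
        refine ⟨add_mem hxI hyI, ?_⟩
        have : (⟨x + y, add_mem hxI hyI⟩ : I) = ⟨x, hxI⟩ + ⟨y, hyI⟩ := rfl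
        rw [this, map_add, hx, hy, add_zero]
    obtain ⟨_, h⟩ := this
    exact h
  have hsK : algebraMap P K s ≠ 0 := by
    rw [IsScalarTower.algebraMap_apply P A K, Ne, Ideal.algebraMap_residueField_eq_zero]
    exact hs
  have hvW : ∀ ℓ, v ℓ ∈ W := by
    intro ℓ
    obtain ⟨x, hx, y, hy, hxy⟩ := Submodule.mem_sup.mp (htail ℓ)
    have hxI : x ∈ I := by
      change x ∈ RingHom.ker (algebraMap P A)
      rw [hkerI]
      exact Ideal.span_mono (Set.range_comp_subset_range _ _) hx
    have hyI : y ∈ I := by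
      change y ∈ RingHom.ker (algebraMap P A)
      rw [hkerI]
      exact Ideal.pow_le_self two_ne_zero hy
    have e1 : s • (⟨f ℓ, hfmem ℓ⟩ : I) = ⟨x, hxI⟩ + ⟨y, hyI⟩ := by
      apply Subtype.ext
      simp only [SetLike.mk_smul_mk, smul_eq_mul, AddMemClass.mk_add_mk]
      exact hxy.symm
    have e2 : algebraMap P K s • v ℓ = τ ⟨x, hxI⟩ := by
      rw [algebraMap_smul, ← map_smul, e1, map_add, h2 y hy hyI, add_zero]
    have e3 : v ℓ = (algebraMap P K s)⁻¹ • τ ⟨x, hxI⟩ := by
      rw [← e2, smul_smul, inv_mul_cancel₀ hsK, one_smul]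
    rw [e3]
    exact Submodule.smul_mem _ _ (h1 x hx hxI)
  have hspanlead : Submodule.span K (Set.range (v ∘ lead)) = ⊤ := by
    rw [eq_top_iff, ← hvspan, Submodule.span_le]
    rintro _ ⟨ℓ, rfl⟩
    exact hvW ℓ
  -- linear independence of the differentials of the leading relations
  let bW : Module.Basis (Fin n) K (K ⊗[P] Ω[P⁄R]) := (mvPolynomialBasis R (Fin n)).baseChange K
  let T := cotangentComplexBaseChange R A P K
  let proj : K ⊗[P] Ω[P⁄R] →ₗ[K] (Fin c → K) :=
    (LinearMap.funLeft K K cols) ∘ₗ bW.equivFun.toLinearMap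
  let Mw : Matrix (Fin c) (Fin c) K :=
    Matrix.of fun j k => algebraMap P K (pderiv (cols k) (f (lead j)))
  have hMw : (proj ∘ (T ∘ (v ∘ lead))) = Mw.row := by
    funext j k
    simp only [Function.comp_apply, proj, LinearMap.coe_comp, LinearEquiv.coe_coe,
      LinearMap.funLeft_apply, Module.Basis.equivFun_apply, v, τ, T, TensorProduct.mk_apply]
    rw [cotangentComplexBaseChange_tmul, one_smul, kerToTensor_apply]
    rw [Module.Basis.baseChange_repr_tmul, mvPolynomialBasis_repr_apply, Algebra.smul_def, mul_one]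
    rfl
  have hdet : Mw.det ≠ 0 := by
    have h1 : algebraMap P K (Matrix.det (Matrix.of fun j k : Fin c =>
        pderiv (cols k) (f (lead j)))) = Mw.det := by
      rw [RingHom.map_det]
      rfl
    rw [← h1, IsScalarTower.algebraMap_apply P A K, Ne, Ideal.algebraMap_residueField_eq_zero]
    exact hminor
  have hli : LinearIndependent K (T ∘ (v ∘ lead)) := by
    apply LinearIndependent.of_comp proj
    rw [hMw, Matrix.linearIndependent_rows_iff_isUnit, Matrix.isUnit_iff_isUnit_det]
    exact hdet.isUnit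
  exact injective_of_span_of_li T (v ∘ lead) hspanlead hli

/-- An embedding `Fin c ↪ Fin m` extends to a permutation of `Fin m` (along `Fin.castLE`). -/
lemma exists_perm_extend {c m : ℕ} (e : Fin c ↪ Fin m) (h : c ≤ m) :
    ∃ σ : Fin m ≃ Fin m, ∀ j : Fin c, σ (Fin.castLE h j) = e j := by
  classical
  let f : Fin m → Fin m := fun i => if hi : (i : ℕ) < c then e ⟨i, hi⟩ else i
  have hf : ∀ j : Fin c, f (Fin.castLE h j) = e j := by
    intro j
    simp only [f, Fin.val_castLE, j.isLt, ↓reduceDIte]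
  let s : Set (Fin m) := Set.range (Fin.castLE h)
  have hmaps : s.MapsTo f (Finset.univ : Finset (Fin m)) := fun _ _ => Finset.mem_coe.mpr (Finset.mem_univ _)
  have hinj : Set.InjOn f s := by
    rintro _ ⟨j, rfl⟩ _ ⟨j', rfl⟩ hjj
    rw [hf, hf] at hjj
    rw [e.injective hjj]
  obtain ⟨g, hg⟩ := Set.MapsTo.exists_equiv_extend_of_card_eq (by simp) hmaps hinj
  refine ⟨g.trans (Equiv.subtypeUnivEquiv (fun x => Finset.mem_univ x)), fun j => ?_⟩
  simp only [Equiv.trans_apply, Equiv.subtypeUnivEquiv_apply]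
  rw [hg _ ⟨j, rfl⟩, hf]

/-- At a smooth point of a finitely presented algebra there is an elementary standard element
not in the prime. -/
theorem exists_elementaryStandard {R A : Type u} [CommRing R] [CommRing A] [Algebra R A]
    [Algebra.FinitePresentation R A] (q : Ideal A) [q.IsPrime] [Algebra.IsSmoothAt R q] :
    ∃ a : A, a ∉ q ∧ Smoothing.IsElementaryStandard R A a := by
  classical
  obtain ⟨n, φ, hφ, hfgker⟩ := Algebra.FinitePresentation.out (R := R) (A := A)
  obtain ⟨m, f, hf⟩ := Submodule.fg_iff_exists_fin_generating_family.mp hfgker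
  have hker : RingHom.ker φ.toRingHom = Ideal.span (Set.range f) := hf.symm
  obtain ⟨a, haq, c, rows, cols, a', haa', htail⟩ :=
    Groth.Agent.Helper18Nak.main f φ hφ hker q
  have hcm : c ≤ m := by simpa using Fintype.card_le_of_embedding rows
  have hcn : c ≤ n := by simpa using Fintype.card_le_of_embedding cols
  obtain ⟨σ, hσ⟩ := exists_perm_extend rows hcm
  obtain ⟨τ, hτ⟩ := exists_perm_extend cols hcn
  let ρ : MvPolynomial (Fin n) R ≃ₐ[R] MvPolynomial (Fin n) R := renameEquiv R τ
  have hρ : ∀ x, ρ x = rename τ x := fun x => rfl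
  have hρs : ∀ x, ρ.symm x = rename τ.symm x := fun x => rfl
  let rel' : Fin m → MvPolynomial (Fin n) R := fun ℓ => ρ.symm (f (σ ℓ))
  let hom' : MvPolynomial (Fin n) R →ₐ[R] A := φ.comp ρ.toAlgHom
  have hsurj' : Function.Surjective hom' := hφ.comp ρ.surjective
  have hrange : Set.range rel' = ρ.symm '' Set.range f := by
    ext x
    constructor
    · rintro ⟨ℓ, rfl⟩
      exact ⟨f (σ ℓ), ⟨σ ℓ, rfl⟩, rfl⟩
    · rintro ⟨_, ⟨ℓ, rfl⟩, rfl⟩
      exact ⟨σ.symm ℓ, by simp [rel']⟩
  have hρsurj : Function.Surjective (ρ.symm : MvPolynomial (Fin n) R →+* MvPolynomial (Fin n) R) :=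
    ρ.symm.surjective
  have hspan' : Ideal.span (Set.range rel') =
      (Ideal.span (Set.range f)).map (ρ.symm : MvPolynomial (Fin n) R →+* MvPolynomial (Fin n) R) := by
    rw [hrange, Ideal.map_span]
    rfl
  have hker' : RingHom.ker hom'.toRingHom = Ideal.span (Set.range rel') := by
    rw [hspan', ← hker]
    ext x
    rw [RingHom.mem_ker, Ideal.mem_map_iff_of_surjective _ hρsurj]
    constructor
    · intro hx
      exact ⟨ρ x, hx, ρ.symm_apply_apply x⟩
    · rintro ⟨y, hy, rfl⟩
      change φ (ρ (ρ.symm y)) = 0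
      rw [ρ.apply_symm_apply]
      exact hy
  let MP : Smoothing.MarkedPresentation R A :=
    { n := n, m := m, c := c, hcn := hcn, hcm := hcm, rel := rel', hom := hom',
      surj := hsurj', ker_eq := hker' }
  refine ⟨a, haq, MP, ⟨a', ?_⟩, ?_⟩
  · -- the leading minor
    rw [haa']
    congr 1
    change φ _ = φ (ρ (Smoothing.jacobianMinor rel' (Fin.castLE hcm) (Fin.castLE hcn)))
    congr 1
    unfold Smoothing.jacobianMinor
    rw [← AlgEquiv.coe_ringEquiv, ← RingEquiv.coe_toRingHom, RingHom.map_det]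
    congr 1
    ext j k
    simp only [Matrix.of_apply, RingHom.mapMatrix_apply, Matrix.map_apply, RingEquiv.coe_toRingHom,
      AlgEquiv.coe_ringEquiv, rel', hσ]
    have h1 : Fin.castLE hcn k = τ.symm (cols k) := by rw [← hτ, Equiv.symm_apply_apply]
    rw [h1, hρs, pderiv_rename τ.symm.injective, ← hρs, ρ.apply_symm_apply]
  · -- kills the tail
    intro a'' ha'' j _
    have h1 := htail (ρ a'') ha'' (σ j)
    have h2 := Ideal.mem_map_of_mem (ρ.symm : MvPolynomial (Fin n) R →+* MvPolynomial (Fin n) R) h1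
    rw [Ideal.map_sup, Ideal.map_pow, ← hspan', Ideal.map_span] at h2
    have h3 : (ρ.symm : MvPolynomial (Fin n) R →+* MvPolynomial (Fin n) R) (ρ a'' * f (σ j)) =
        a'' * rel' j := by
      rw [map_mul]
      change ρ.symm (ρ a'') * _ = _
      rw [ρ.symm_apply_apply]
      rfl
    rw [h3] at h2
    have h4 : (⇑(ρ.symm : MvPolynomial (Fin n) R →+* MvPolynomial (Fin n) R) ''
        Set.range (f ∘ rows)) = rel' '' {j' : Fin m | (j' : ℕ) < c} := by
      ext x
      constructor
      · rintro ⟨_, ⟨k, rfl⟩, rfl⟩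
        refine ⟨Fin.castLE hcm k, by simp, ?_⟩
        simp only [rel', hσ]
        rfl
      · rintro ⟨j', hj', rfl⟩
        refine ⟨f (rows ⟨j', hj'⟩), ⟨⟨j', hj'⟩, rfl⟩, ?_⟩
        have e : σ j' = rows ⟨j', hj'⟩ := by
          rw [← hσ]
          congr 1
        simp only [rel']
        rw [e]
        rfl
    rw [h4] at h2
    exact h2

/-- A strictly standard element is smooth on its principal open. -/
theorem isSmoothAt_of_isStrictlyStandard {R A : Type u} [CommRing R] [CommRing A] [Algebra R A]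
    (a : A) (ha : Smoothing.IsStrictlyStandard R A a) (q : Ideal A) [q.IsPrime] (haq : a ∉ q) :
    Algebra.IsSmoothAt R q := by
  obtain ⟨P, hspan, htail⟩ := ha
  -- some minor is outside `q`
  have hex : ∃ cols : Fin P.c → Fin P.n,
      P.hom (Smoothing.jacobianMinor P.rel (Fin.castLE P.hcm) cols) ∉ q := by
    by_contra hno
    push_neg at hno
    apply haq
    have : Ideal.span (Set.range fun cols : Fin P.c → Fin P.n =>
        P.hom (Smoothing.jacobianMinor P.rel (Fin.castLE P.hcm) cols)) ≤ q := by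
      rw [Ideal.span_le]
      rintro _ ⟨cols, rfl⟩
      exact hno cols
    exact this hspan
  obtain ⟨cols, hcols⟩ := hex
  obtain ⟨s, hs⟩ := P.surj a
  refine isSmoothAt_of_minor P.rel P.hom P.surj P.ker_eq (Fin.castLE P.hcm) cols q hcols s
    (hs ▸ haq) (fun ℓ => ?_)
  have hset : Set.range (P.rel ∘ Fin.castLE P.hcm) = P.rel '' {j' : Fin P.m | (j' : ℕ) < P.c} := by
    ext x
    constructor
    · rintro ⟨k, rfl⟩
      exact ⟨Fin.castLE P.hcm k, by simp, rfl⟩
    · rintro ⟨j', hj', rfl⟩
      exact ⟨⟨j', hj'⟩, rfl⟩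
  rw [hset]
  by_cases hℓ : P.c ≤ (ℓ : ℕ)
  · exact htail s hs ℓ hℓ
  · push_neg at hℓ
    exact Ideal.mem_sup_left (Ideal.mul_mem_left _ _ (Ideal.subset_span ⟨ℓ, hℓ, rfl⟩))

/-- An elementary standard element is strictly standard. -/
theorem isStrictlyStandard_of_isElementaryStandard {R A : Type u} [CommRing R] [CommRing A]
    [Algebra R A] (a : A) (ha : Smoothing.IsElementaryStandard R A a) :
    Smoothing.IsStrictlyStandard R A a := by
  obtain ⟨P, ⟨a', rfl⟩, htail⟩ := ha
  refine ⟨P, ?_, htail⟩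
  exact Ideal.mul_mem_left _ _ (Ideal.subset_span ⟨fun k => Fin.castLE P.hcn k, rfl⟩)

theorem main {R A : Type u} [CommRing R] [CommRing A] [Algebra R A]
    [Algebra.FinitePresentation R A] :
    Smoothing.singularIdeal R A =
        (Ideal.span {a : A | Smoothing.IsStrictlyStandard R A a}).radical ∧
      Smoothing.singularIdeal R A =
        (Ideal.span {a : A | Smoothing.IsElementaryStandard R A a}).radical := by
  set JS := Ideal.span {a : A | Smoothing.IsStrictlyStandard R A a}
  set JE := Ideal.span {a : A | Smoothing.IsElementaryStandard R A a}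
  have hES : JE ≤ JS := Ideal.span_mono fun a ha => isStrictlyStandard_of_isElementaryStandard a ha
  have h1 : JS ≤ Smoothing.singularIdeal R A := by
    rw [Ideal.span_le]
    intro a ha
    change a ∈ PrimeSpectrum.vanishingIdeal _
    rw [PrimeSpectrum.mem_vanishingIdeal]
    intro x hx
    by_contra hax
    apply hx
    exact isSmoothAt_of_isStrictlyStandard a ha x.asIdeal hax
  have h2 : JS.radical ≤ Smoothing.singularIdeal R A := by
    have hrad : (Smoothing.singularIdeal R A).IsRadical :=
      PrimeSpectrum.isRadical_vanishingIdeal _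
    exact hrad.radical_le_iff.mpr h1
  have h3 : Smoothing.singularIdeal R A ≤ JE.radical := by
    rw [Ideal.radical_eq_sInf]
    refine le_sInf ?_
    rintro p ⟨hJp, hp⟩
    have hns : (⟨p, hp⟩ : PrimeSpectrum A) ∈ (Algebra.smoothLocus R A)ᶜ := by
      intro hsm
      haveI : p.IsPrime := hp
      haveI : Algebra.IsSmoothAt R p := hsm
      obtain ⟨a, hap, hae⟩ := exists_elementaryStandard (R := R) p
      exact hap (hJp (Ideal.subset_span hae))
    intro x hx
    have := (PrimeSpectrum.mem_vanishingIdeal _ _).mp hx ⟨p, hp⟩ hns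
    exact this
  have h4 : JE.radical ≤ JS.radical := Ideal.radical_mono hES
  exact ⟨le_antisymm (h3.trans h4) h2, le_antisymm h3 (h4.trans h2)⟩

end Groth.Agent.Helper18Std
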