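import Groth.Agent.Lib.Helper7Smoothing21

set_option autoImplicit false
set_option linter.style.haveILetI false
universe u
open MvPolynomial

namespace Groth.Agent.Lib.Helper7.Smoothing

theorem isSmoothAt_comp {R A B : Type*} [CommRing R] [CommRing A] [CommRing B] [Algebra R A]
    [Algebra A B] [Algebra R B] [IsScalarTower R A B]
    (p : Ideal A) (P : Ideal B) [P.LiesOver p] [p.IsPrime] [P.IsPrime]
    [Algebra.IsSmoothAt R p] [Algebra.IsSmoothAt A P] : Algebra.IsSmoothAt R P := by
  let := Localization.AtPrime.algebraOfLiesOver p P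
  have : Algebra.FormallySmooth (Localization.AtPrime p) (Localization.AtPrime P) :=
    .localization_base p.primeCompl
  exact Algebra.FormallySmooth.comp R (Localization.AtPrime p) _

theorem exists_notMem_ann_of_isSmoothAt {R D : Type u} [CommRing R] [CommRing D] [Algebra R D]
    [Algebra.FinitePresentation R D] [IsNoetherianRing D] (π : R)
    (hR : ∀ r : R, π ^ 2 * r = 0 → π * r = 0) (q : Ideal D) [q.IsPrime]
    [Algebra.IsSmoothAt R q] :
    ∃ r₀ : D, r₀ ∉ q ∧ ∀ x : D, algebraMap R D π ^ 2 * x = 0 →
      algebraMap R D π * (r₀ * x) = 0 := by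
  classical
  obtain ⟨f, hfq, hsm⟩ := Algebra.IsSmoothAt.exists_notMem_smooth R q
  haveI : Module.Flat R (Localization.Away f) := inferInstance
  -- the annihilator of π² is finitely generated
  let I : Ideal D := LinearMap.ker (LinearMap.mulLeft D (algebraMap R D π ^ 2))
  have hI : ∀ x, x ∈ I ↔ algebraMap R D π ^ 2 * x = 0 := fun x => by
    simp [I, LinearMap.mem_ker]
  obtain ⟨s, hs⟩ := (isNoetherianRing_iff_ideal_fg D).mp inferInstance I
  have key : ∀ x ∈ I, ∃ N : ℕ, f ^ N * (algebraMap R D π * x) = 0 := by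
    intro x hx
    have h1 : π ^ 2 • (algebraMap D (Localization.Away f) x) = 0 := by
      rw [Algebra.smul_def, IsScalarTower.algebraMap_apply R D (Localization.Away f), ← map_mul,
        map_pow, (hI x).mp hx, map_zero]
    have h2 := smul_eq_zero_of_sq_smul_of_flat π hR _ h1
    rw [Algebra.smul_def, IsScalarTower.algebraMap_apply R D (Localization.Away f), ← map_mul]
      at h2
    obtain ⟨⟨_, N, rfl⟩, hN⟩ := (IsLocalization.map_eq_zero_iff (Submonoid.powers f)
      (Localization.Away f) _).mp h2
    exact ⟨N, hN⟩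
  choose! N hN using key
  refine ⟨f ^ (s.sup N), fun h => hfq (Ideal.IsPrime.mem_of_pow_mem inferInstance _ h), ?_⟩
  intro x hx
  have hxI : x ∈ Ideal.span (s : Set D) := hs.symm ▸ (hI x).mpr hx
  have hle : Ideal.span (s : Set D) ≤ LinearMap.ker
      (LinearMap.mulLeft D (algebraMap R D π * f ^ (s.sup N))) := by
    rw [Ideal.span_le]
    intro y hy
    have hyI : y ∈ I := hs ▸ Ideal.subset_span hy
    have h1 := hN y hyI
    have hle' : N y ≤ s.sup N := Finset.le_sup hy
    obtain ⟨k, hk⟩ := Nat.exists_eq_add_of_le hle'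
    simp only [SetLike.mem_coe, LinearMap.mem_ker, LinearMap.mulLeft_apply]
    rw [hk, pow_add]
    calc algebraMap R D π * (f ^ N y * f ^ k) * y = f ^ k * (f ^ N y * (algebraMap R D π * y)) := by
          ring
      _ = 0 := by rw [h1, mul_zero]
  have := hle hxI
  simp only [LinearMap.mem_ker, LinearMap.mulLeft_apply] at this
  rw [← mul_assoc]
  exact this

end Groth.Agent.Lib.Helper7.Smoothing
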