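import Mathlib
import Groth.Prelude.Def_Smoothing
import Groth.Agent.Lib.Helper7Smoothing22
import Groth.Agent.Lib.Helper18Std

/-!
# Helper7Smoothing50 (helper7): the algebra `B = A[z_ij]/(ξᵢⁿ − Σⱼ z_ij αⱼ)` (Stacks 07F1), smooth where some `αⱼ` is invertible (`exists_BB`).
-/

set_option autoImplicit false
set_option linter.style.haveILetI false
universe u
open Function TensorProduct MvPolynomial

namespace Groth.Agent.Lib.Helper7.Smoothing

section BB
variable {A' : Type u} [CommRing A'] (d r n : ℕ) (ξ : Fin d → A') (α : Fin r → A')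

/-- the relations `ξᵢⁿ − Σⱼ z_{ij} αⱼ`. -/
noncomputable def bbRel : Fin d → MvPolynomial (Fin (d * r)) A' :=
  fun i => C (ξ i) ^ n - ∑ j : Fin r, X (finProdFinEquiv (i, j)) * C (α j)

lemma pderiv_bbRel (i i' : Fin d) (j : Fin r) :
    pderiv (finProdFinEquiv (i', j)) (bbRel d r n ξ α i) = if i = i' then - C (α j) else 0 := by
  classical
  unfold bbRel
  rw [map_sub, map_sum]
  have h1 : pderiv (finProdFinEquiv (i', j)) ((C (ξ i) : MvPolynomial (Fin (d * r)) A') ^ n) = 0 := by
    rw [← map_pow, pderiv_C]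
  have h2 : ∀ j' : Fin r, pderiv (finProdFinEquiv (i', j))
      ((X (finProdFinEquiv (i, j')) : MvPolynomial (Fin (d * r)) A') * C (α j')) =
      if (i, j') = (i', j) then C (α j') else 0 := by
    intro j'
    rw [Derivation.leibniz, pderiv_C, smul_zero, zero_add, pderiv_X, smul_eq_mul,
      Pi.single_apply]
    by_cases h : (i, j') = (i', j)
    · rw [if_pos h, if_pos (congrArg finProdFinEquiv h), mul_one]
    · rw [if_neg h, if_neg (fun h' => h (finProdFinEquiv.injective h')), mul_zero]
  rw [h1, zero_sub, Finset.sum_congr rfl (fun j' _ => h2 j')]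
  by_cases hi : i = i'
  · subst hi
    simp [Prod.mk.injEq]
  · simp [Prod.mk.injEq, hi]

lemma jacobianMinor_bbRel (j : Fin r) :
    Smoothing.jacobianMinor (bbRel d r n ξ α) (Fin.castLE (le_refl d))
      (fun i => finProdFinEquiv (i, j)) = (- C (α j)) ^ d := by
  classical
  unfold Smoothing.jacobianMinor
  have : (Matrix.of fun i k : Fin d => pderiv (finProdFinEquiv (k, j))
      (bbRel d r n ξ α (Fin.castLE (le_refl d) i))) =
      Matrix.diagonal (fun _ : Fin d => - (C (α j) : MvPolynomial (Fin (d * r)) A')) := by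
    ext i k
    rw [Matrix.of_apply, Fin.castLE_refl, pderiv_bbRel, Matrix.diagonal_apply]
  rw [this, Matrix.det_diagonal, Finset.prod_const, Finset.card_univ, Fintype.card_fin]

theorem exists_BB {R A' : Type u} [CommRing R] [CommRing A'] [Algebra R A']
    [Algebra.FinitePresentation R A'] (d r n : ℕ) (ξ : Fin d → A') (α : Fin r → A')
    (hsm : ∀ j, ∀ q' : Ideal A', ∀ _ : q'.IsPrime, α j ∉ q' → Algebra.IsSmoothAt R q') :
    ∃ (B : Type u) (_ : CommRing B) (_ : Algebra A' B) (_ : Algebra R B)
      (_ : IsScalarTower R A' B), Algebra.FinitePresentation R B ∧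
      (∀ i, algebraMap A' B (ξ i) ^ n ∈
        Ideal.span (Set.range fun j => algebraMap A' B (α j))) ∧
      (∀ (Q : Ideal B) (_ : Q.IsPrime) (j : Fin r), algebraMap A' B (α j) ∉ Q →
        Algebra.IsSmoothAt R Q) ∧
      (∀ (T : Type u) [CommRing T] [Algebra A' T] (t : Fin d → Fin r → T),
        (∀ i, algebraMap A' T (ξ i) ^ n = ∑ j, t i j * algebraMap A' T (α j)) →
        Nonempty (B →ₐ[A'] T)) := by
  classical
  letI algRB : Algebra R (QuotAlg (bbRel d r n ξ α)) :=
    ((algebraMap A' (QuotAlg (bbRel d r n ξ α))).comp (algebraMap R A')).toAlgebra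
  haveI tower : IsScalarTower R A' (QuotAlg (bbRel d r n ξ α)) :=
    IsScalarTower.of_algebraMap_eq (fun _ => rfl)
  have hC : ∀ x : A', algebraMap A' (QuotAlg (bbRel d r n ξ α)) x =
      qmk (bbRel d r n ξ α) (C x) := fun _ => rfl
  refine ⟨QuotAlg (bbRel d r n ξ α), inferInstance, inferInstance, algRB, tower,
    Algebra.FinitePresentation.trans R A' _, ?_, ?_, ?_⟩
  · intro i
    have h0 : qmk (bbRel d r n ξ α) (C (ξ i) ^ n -
        ∑ j : Fin r, X (finProdFinEquiv (i, j)) * C (α j)) = 0 := qmk_rel (bbRel d r n ξ α) i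
    rw [map_sub, sub_eq_zero, map_pow, map_sum] at h0
    rw [hC, h0]
    refine Ideal.sum_mem _ fun j _ => ?_
    rw [map_mul]
    exact Ideal.mul_mem_left _ _ (Ideal.subset_span ⟨j, (hC _).symm⟩)
  · intro Q hQ j hαQ
    have hr : 0 < r := j.pos
    have hdN : d ≤ d * r := Nat.le_mul_of_pos_right d hr
    have hstd : Smoothing.IsStrictlyStandard A' (QuotAlg (bbRel d r n ξ α))
        (qmk (bbRel d r n ξ α) (C (α j) ^ d)) := by
      refine isStrictlyStandard_quotAlg (bbRel d r n ξ α) d hdN (le_refl d) _ ?_ ?_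
      · have hmin := jacobianMinor_bbRel d r n ξ α j
        have h1 : qmk (bbRel d r n ξ α) (C (α j) ^ d) = (-1) ^ d *
            qmk (bbRel d r n ξ α) (Smoothing.jacobianMinor (bbRel d r n ξ α)
              (Fin.castLE (le_refl d)) (fun i => finProdFinEquiv (i, j))) := by
          rw [hmin, map_pow, map_pow, map_neg, neg_pow (qmk (bbRel d r n ξ α) (C (α j))),
            ← mul_assoc, ← mul_pow]
          simp
        rw [h1]
        exact Ideal.mul_mem_left _ _ (Ideal.subset_span ⟨_, rfl⟩)
      · intro a' _ j' hj'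
        exact absurd j'.2 (not_lt.mpr hj')
    haveI : Algebra.IsSmoothAt A' Q :=
      Groth.Agent.Helper18Std.isSmoothAt_of_isStrictlyStandard _ hstd Q (by
        rw [map_pow, ← hC]
        exact fun h => hαQ (Ideal.IsPrime.mem_of_pow_mem hQ _ h))
    haveI : (Q.under A').IsPrime := Ideal.comap_isPrime _ _
    haveI : Algebra.IsSmoothAt R (Q.under A') := hsm j _ inferInstance (fun h => hαQ h)
    haveI : Q.LiesOver (Q.under A') := Ideal.over_under _
    exact isSmoothAt_comp (Q.under A') Q
  · intro T _ _ t ht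
    refine ⟨qlift (bbRel d r n ξ α)
      (aeval (fun v => t (finProdFinEquiv.symm v).1 (finProdFinEquiv.symm v).2)) ?_⟩
    intro i
    change aeval (fun v => t (finProdFinEquiv.symm v).1 (finProdFinEquiv.symm v).2)
      (C (ξ i) ^ n - ∑ j : Fin r, X (finProdFinEquiv (i, j)) * C (α j)) = 0
    rw [map_sub, map_pow, map_sum, sub_eq_zero]
    simp only [map_mul, aeval_X, aeval_C, Equiv.symm_apply_apply]
    exact ht i

end BB

end Groth.Agent.Lib.Helper7.Smoothing
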