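import Groth.Agent.Lib.Helper19GRKaehler

/-!
# Extension of derivations for formally smooth local algebras: general residue field (helper19)

The lemmas of `Helper19GRKaehler` for an arbitrary field `K` receiving a surjection from `A`.
-/

set_option autoImplicit false
set_option linter.style.haveILetI false
set_option linter.unusedSectionVars false
universe u

namespace Groth.Agent.Lib.Helper19.GR

open IsLocalRing TensorProduct

section general

variable {k A K : Type u} [Field k] [CommRing A] [IsLocalRing A] [Algebra k A] [Field K]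
  [Algebra A K] [Algebra k K] [IsScalarTower k A K]

/-- the twisted ring map `k → K[ε]`, `c ↦ c̄ + d(c) ε` -/
noncomputable def twistK (d : Derivation ℤ k K) : k →+* TrivSqZeroExt K K where
  toFun c := TrivSqZeroExt.inl (algebraMap k K c) + TrivSqZeroExt.inr (d c)
  map_one' := by
    rw [map_one, d.map_one_eq_zero, TrivSqZeroExt.inr_zero, add_zero, TrivSqZeroExt.inl_one]
  map_zero' := by
    rw [map_zero, map_zero, TrivSqZeroExt.inr_zero, add_zero, TrivSqZeroExt.inl_zero]
  map_add' a b := by
    rw [map_add, map_add, TrivSqZeroExt.inl_add, TrivSqZeroExt.inr_add]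
    abel
  map_mul' a b := by
    apply TrivSqZeroExt.ext
    · simp
    · simp only [TrivSqZeroExt.snd_add, TrivSqZeroExt.snd_inl, TrivSqZeroExt.snd_inr, zero_add,
        TrivSqZeroExt.snd_mul, TrivSqZeroExt.fst_add, TrivSqZeroExt.fst_inl,
        TrivSqZeroExt.fst_inr, add_zero, Derivation.leibniz, MulOpposite.smul_eq_mul_unop,
        MulOpposite.unop_op, smul_eq_mul, Algebra.smul_def]
      ring

theorem twistK_fst (d : Derivation ℤ k K) (c : k) : (twistK d c).fst = algebraMap k K c := by
  simp [twistK]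

theorem twistK_snd (d : Derivation ℤ k K) (c : k) : (twistK d c).snd = d c := by
  simp [twistK]

/-- a formally smooth local algebra over a field: every derivation of the field with values in
the residue field extends -/
theorem exists_derivation_extensionK (hK : ∀ x ∈ maximalIdeal A, algebraMap A K x = 0)
    (h : CAlgX.IsAdicFormallySmooth k A (maximalIdeal A)) (d : Derivation ℤ k K) :
    ∃ D : Derivation ℤ A K, ∀ c, D (algebraMap k A c) = d c := by
  letI : Algebra k (TrivSqZeroExt K K) := (twistK d).toAlgebra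
  have halg : ∀ c, algebraMap k (TrivSqZeroExt K K) c = twistK d c := fun c => rfl
  let J : Ideal (TrivSqZeroExt K K) := RingHom.ker (TrivSqZeroExt.fstHom K K K).toRingHom
  have hJmem : ∀ z, z ∈ J ↔ z.fst = 0 := fun z => by
    change (TrivSqZeroExt.fstHom K K K) z = 0 ↔ _
    rfl
  have hJ : J ^ 2 = ⊥ := by
    rw [eq_bot_iff, pow_two, Ideal.mul_le]
    intro a ha b hb
    rw [hJmem] at ha hb
    rw [Ideal.mem_bot]
    apply TrivSqZeroExt.ext
    · simp [ha, hb]
    · simp [ha, hb]
  let ψ : A →ₐ[k] TrivSqZeroExt K K ⧸ J :=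
    { toRingHom := (Ideal.Quotient.mk J).comp ((TrivSqZeroExt.inlHom K K).comp (algebraMap A K))
      commutes' := fun c => by
        change Ideal.Quotient.mk J (TrivSqZeroExt.inl (algebraMap A K (algebraMap k A c))) =
          Ideal.Quotient.mk J (twistK d c)
        rw [Ideal.Quotient.eq, hJmem, TrivSqZeroExt.fst_sub, twistK_fst, TrivSqZeroExt.fst_inl,
          ← IsScalarTower.algebraMap_apply]
        exact sub_self _ }
  have hψ : ∀ a, ψ a = Ideal.Quotient.mk J (TrivSqZeroExt.inl (algebraMap A K a)) := fun a => rfl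
  obtain ⟨χ, hχ⟩ := h _ J hJ ψ ⟨1, fun x hx => by
    rw [pow_one] at hx
    rw [hψ, hK x hx, TrivSqZeroExt.inl_zero, map_zero]⟩
  have hχfst : ∀ a, (χ a).fst = algebraMap A K a := by
    intro a
    have h1 : Ideal.Quotient.mk J (χ a) = ψ a := congrArg (fun g => g a) hχ
    rw [hψ, Ideal.Quotient.eq, hJmem, TrivSqZeroExt.fst_sub, TrivSqZeroExt.fst_inl,
      sub_eq_zero] at h1
    exact h1
  let D₀ : A →ₗ[ℤ] K :=
    ((TrivSqZeroExt.sndHom K K).toAddMonoidHom.comp (χ : A →+* _).toAddMonoidHom).toIntLinearMap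
  have hD₀ : ∀ a, D₀ a = (χ a).snd := fun a => rfl
  refine ⟨Derivation.mk' D₀ ?_, fun c => ?_⟩
  · intro a b
    rw [hD₀, hD₀, hD₀, map_mul, TrivSqZeroExt.snd_mul, hχfst, hχfst,
      MulOpposite.smul_eq_mul_unop, MulOpposite.unop_op, smul_eq_mul, Algebra.smul_def,
      Algebra.smul_def]
    ring
  · change D₀ (algebraMap k A c) = d c
    rw [hD₀, χ.commutes, halg, twistK_snd]

/-- if every derivation `k → K` extends to `A`, then `Ω_{k/ℤ} ⊗ K → Ω_{A/ℤ} ⊗ K` is
injective -/
theorem injective_lTensor_of_extensionK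
    (hext : ∀ d : Derivation ℤ k K, ∃ D : Derivation ℤ A K, ∀ c, D (algebraMap k A c) = d c) :
    Function.Injective ((KaehlerDifferential.mapBaseChange ℤ k A).lTensor K) := by
  rw [injective_iff_map_eq_zero]
  intro v hv
  rw [← Module.forall_dual_apply_eq_zero_iff K]
  intro φ
  let d : Derivation ℤ k K :=
    (AlgebraTensorModule.curry ((AlgebraTensorModule.curry φ) 1) 1).compDer
      (KaehlerDifferential.D ℤ k)
  have hd : ∀ c, d c = φ (1 ⊗ₜ (1 ⊗ₜ KaehlerDifferential.D ℤ k c)) := fun c => rfl
  obtain ⟨D, hD⟩ := hext d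
  let ℓ : K ⊗[A] Ω[A⁄ℤ] →ₗ[K] K := LinearMap.liftBaseChange K D.liftKaehlerDifferential
  have key : ℓ ∘ₗ (LinearMap.baseChange K (KaehlerDifferential.mapBaseChange ℤ k A)) = φ := by
    ext c
    simp only [AlgebraTensorModule.curry_apply, LinearMap.restrictScalars_comp, curry_apply,
      LinearMap.coe_comp, LinearMap.coe_restrictScalars, Function.comp_apply,
      Derivation.coe_comp, LinearMap.baseChange_tmul,
      KaehlerDifferential.mapBaseChange_tmul, one_smul, ℓ,
      LinearMap.liftBaseChange_tmul]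
    change D.liftKaehlerDifferential ((KaehlerDifferential.map ℤ ℤ k A)
      (KaehlerDifferential.D ℤ k c)) = φ (1 ⊗ₜ (1 ⊗ₜ KaehlerDifferential.D ℤ k c))
    rw [KaehlerDifferential.map_D, Derivation.liftKaehlerDifferential_comp_D, hD, hd]
  have h1 : φ v = ℓ (LinearMap.baseChange K (KaehlerDifferential.mapBaseChange ℤ k A) v) := by
    rw [← key]; rfl
  rw [h1, LinearMap.baseChange_eq_ltensor, hv, map_zero]

/-- if `Ω_{k/ℤ} ⊗ K → Ω_{A/ℤ} ⊗ K` is injective, every derivation `k → K` extends to `A` -/
theorem exists_extension_of_injectiveK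
    (hinj : Function.Injective ((KaehlerDifferential.mapBaseChange ℤ k A).lTensor K))
    (d : Derivation ℤ k K) :
    ∃ D : Derivation ℤ A K, ∀ c, D (algebraMap k A c) = d c := by
  have hinj' : Function.Injective (LinearMap.baseChange K
      (KaehlerDifferential.mapBaseChange ℤ k A)) := by
    intro a b hab
    apply hinj
    rw [← LinearMap.baseChange_eq_ltensor]
    exact hab
  obtain ⟨g, hg⟩ := LinearMap.exists_leftInverse_of_injective _ (LinearMap.ker_eq_bot.2 hinj')
  let φ : K ⊗[A] (A ⊗[k] Ω[k⁄ℤ]) →ₗ[K] K :=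
    LinearMap.liftBaseChange K (LinearMap.liftBaseChange A d.liftKaehlerDifferential)
  let ℓ : K ⊗[A] Ω[A⁄ℤ] →ₗ[K] K := φ ∘ₗ g
  let D : Derivation ℤ A K :=
    ((ℓ.restrictScalars A) ∘ₗ (TensorProduct.mk A K Ω[A⁄ℤ] 1)).compDer
      (KaehlerDifferential.D ℤ A)
  have hDdef : ∀ a, D a = ℓ (1 ⊗ₜ KaehlerDifferential.D ℤ A a) := fun a => rfl
  refine ⟨D, fun c => ?_⟩
  have h1 : (1 : K) ⊗ₜ[A] KaehlerDifferential.D ℤ A (algebraMap k A c) =
      LinearMap.baseChange K (KaehlerDifferential.mapBaseChange ℤ k A)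
        (1 ⊗ₜ (1 ⊗ₜ KaehlerDifferential.D ℤ k c)) := by
    rw [LinearMap.baseChange_tmul, KaehlerDifferential.mapBaseChange_tmul, one_smul,
      KaehlerDifferential.map_D]
  have h2 : ∀ v, g (LinearMap.baseChange K
      (KaehlerDifferential.mapBaseChange ℤ k A) v) = v := fun v =>
    LinearMap.congr_fun hg v
  rw [hDdef, h1]
  change φ (g _) = _
  rw [h2]
  simp only [φ, LinearMap.liftBaseChange_tmul, one_smul,
    Derivation.liftKaehlerDifferential_comp_D]

/-- the extension property for `K` implies the extension property for the residue field -/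
theorem hext_residueField_of_hextK (hs : Function.Surjective (algebraMap A K))
    (hK : ∀ x ∈ maximalIdeal A, algebraMap A K x = 0)
    (hext : ∀ d : Derivation ℤ k K, ∃ D : Derivation ℤ A K, ∀ c, D (algebraMap k A c) = d c)
    (d : Derivation ℤ k (ResidueField A)) :
    ∃ D : Derivation ℤ A (ResidueField A), ∀ c, D (algebraMap k A c) = d c := by
  let ι₀ : ResidueField A →ₐ[A] K :=
    Ideal.Quotient.liftₐ (maximalIdeal A) (Algebra.ofId A K) (fun a ha => hK a ha)
  have hι₀ : ∀ a, ι₀ (residue A a) = algebraMap A K a := fun a => rfl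
  have hbij : Function.Bijective ι₀ := by
    refine ⟨(ι₀ : ResidueField A →+* K).injective, fun y => ?_⟩
    obtain ⟨a, rfl⟩ := hs y
    exact ⟨residue A a, hι₀ a⟩
  let ι : ResidueField A ≃ₐ[A] K := AlgEquiv.ofBijective ι₀ hbij
  let d₁ : Derivation ℤ k K := ((ι.toLinearMap).restrictScalars k).compDer d
  have hd₁ : ∀ c, d₁ c = ι (d c) := fun c => rfl
  obtain ⟨D₁, hD₁⟩ := hext d₁
  refine ⟨(ι.symm.toLinearMap).compDer D₁, fun c => ?_⟩
  change ι.symm (D₁ (algebraMap k A c)) = d c
  rw [hD₁, hd₁, AlgEquiv.symm_apply_apply]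

/-- a regular local algebra over a field in which derivations of the field extend is formally
smooth -/
theorem isAdicFormallySmooth_of_regular_of_extensionK [IsNoetherianRing A]
    (hreg : IsRegularLocalRing A) (hs : Function.Surjective (algebraMap A K))
    (hK : ∀ x ∈ maximalIdeal A, algebraMap A K x = 0)
    (hext : ∀ d : Derivation ℤ k K, ∃ D : Derivation ℤ A K, ∀ c, D (algebraMap k A c) = d c) :
    CAlgX.IsAdicFormallySmooth k A (maximalIdeal A) :=
  isAdicFormallySmooth_iff_regular_and_injective.2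
    ⟨hreg, injective_lTensor_of_extension (hext_residueField_of_hextK hs hK hext)⟩

end general

end Groth.Agent.Lib.Helper19.GR
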