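import Mathlib

/-!
# Helper7Smoothing62 (helper7): cotangent independence via derivations (towards Stacks 07FJ/S6824)

* `derivation_eq_sum_pderiv`, `derivation_eq_zero_of_mem_sq`, `derivationOfVanish`.
* `cotangent_indep`: if the partial derivatives preserve `ker (k[X] → 𝕂)`, derivations of `k` extend to
  `L`, and `x_i` admit dual test derivations, then the `x_i` are independent in `𝔪_L/𝔪_L²`.
-/
set_option autoImplicit false
set_option linter.style.haveILetI false
universe u
open MvPolynomial IsLocalRing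

namespace Groth.Agent.Lib.Helper7.Smoothing

/-- a `k`-derivation of a polynomial ring is determined by partial derivatives -/
theorem derivation_eq_sum_pderiv {k M : Type*} [CommRing k] {t : ℕ} [AddCommGroup M]
    [Module k M] [Module (MvPolynomial (Fin t) k) M] [IsScalarTower k (MvPolynomial (Fin t) k) M]
    (D : Derivation k (MvPolynomial (Fin t) k) M) (f : MvPolynomial (Fin t) k) :
    D f = ∑ j, pderiv j f • D (X j) := by
  classical
  induction f using MvPolynomial.induction_on with
  | C a =>
    rw [derivation_C]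
    simp
  | add p q hp hq =>
    rw [map_add, hp, hq, ← Finset.sum_add_distrib]
    refine Finset.sum_congr rfl fun j _ => ?_
    rw [map_add, add_smul]
  | mul_X p i hp =>
    rw [Derivation.leibniz, hp, Finset.smul_sum]
    have : ∀ j : Fin t, pderiv j (p * X i) • D (X j) =
        (X i : MvPolynomial (Fin t) k) • (pderiv j p • D (X j)) +
          (p * pderiv j (X i : MvPolynomial (Fin t) k)) • D (X j) := by
      intro j
      rw [pderiv_mul, add_smul, smul_smul, mul_comm (X i)]
    rw [Finset.sum_congr rfl (fun j _ => this j), Finset.sum_add_distrib, add_comm]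
    congr 1
    rw [Finset.sum_eq_single i]
    · rw [pderiv_X_self, mul_one]
    · intro j _ hj
      rw [pderiv_X_of_ne (Ne.symm hj), mul_zero, zero_smul]
    · intro h; exact absurd (Finset.mem_univ i) h

/-- a derivation into a module killed by the ideal `I` kills `I ^ 2`. -/
theorem derivation_eq_zero_of_mem_sq {A M : Type*} [CommRing A] [AddCommGroup M] [Module A M]
    (D : Derivation ℤ A M) (I : Ideal A) (hI : ∀ a ∈ I, ∀ m : M, a • m = 0) (x : A)
    (hx : x ∈ I ^ 2) : D x = 0 := by
  rw [pow_two] at hx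
  refine Submodule.mul_induction_on hx (fun a ha b hb => ?_) (fun x y hx hy => ?_)
  · rw [Derivation.leibniz, hI a ha, hI b hb, add_zero]
  · rw [map_add, hx, hy, add_zero]

/-- a `ℤ`-derivation of `k[X]` vanishing on constants is `k`-linear. -/
noncomputable def derivationOfVanish {k M : Type*} [CommRing k] {t : ℕ} [AddCommGroup M]
    [Module k M] [Module (MvPolynomial (Fin t) k) M] [IsScalarTower k (MvPolynomial (Fin t) k) M]
    (E : Derivation ℤ (MvPolynomial (Fin t) k) M) (hE : ∀ a : k, E (C a) = 0) :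
    Derivation k (MvPolynomial (Fin t) k) M where
  toFun := E
  map_add' := map_add E
  map_smul' := fun a f => by
    rw [RingHom.id_apply, MvPolynomial.smul_eq_C_mul, Derivation.leibniz, hE, smul_zero, add_zero,
      ← IsScalarTower.algebraMap_smul (MvPolynomial (Fin t) k) a (E f)]
    rfl
  map_one_eq_zero' := E.map_one_eq_zero
  leibniz' := E.leibniz


/-- **INJ** (derivation form of Stacks 07EL's cotangent injectivity). -/
theorem cotangent_indep {k L 𝕂 : Type u} [Field k] [CommRing L] [IsLocalRing L] [Algebra k L]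
    [Field 𝕂] [Algebra L 𝕂] [Algebra k 𝕂] [IsScalarTower k L 𝕂]
    (hK : ∀ x ∈ maximalIdeal L, algebraMap L 𝕂 x = 0)
    (hext : ∀ d : Derivation ℤ k 𝕂, ∃ D : Derivation ℤ L 𝕂, ∀ c, D (algebraMap k L c) = d c)
    {t : ℕ} [Algebra (MvPolynomial (Fin t) k) L] [IsScalarTower k (MvPolynomial (Fin t) k) L]
    [Algebra (MvPolynomial (Fin t) k) 𝕂] [IsScalarTower (MvPolynomial (Fin t) k) L 𝕂]
    [IsScalarTower k (MvPolynomial (Fin t) k) 𝕂]
    (hT : ∀ x : MvPolynomial (Fin t) k, algebraMap (MvPolynomial (Fin t) k) 𝕂 x = 0 →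
      ∀ j, algebraMap (MvPolynomial (Fin t) k) 𝕂 (pderiv j x) = 0)
    {r : ℕ} (x : Fin r → MvPolynomial (Fin t) k)
    (hx : ∀ i, algebraMap (MvPolynomial (Fin t) k) 𝕂 (x i) = 0)
    (hS : ∀ i, ∃ D : Derivation ℤ (MvPolynomial (Fin t) k) 𝕂,
      ∀ j, D (x j) = if j = i then 1 else 0)
    (c : Fin r → L)
    (hc : ∑ i, c i * algebraMap (MvPolynomial (Fin t) k) L (x i) ∈ maximalIdeal L ^ 2) :
    ∀ i, c i ∈ maximalIdeal L := by
  classical
  intro i₀
  obtain ⟨D₀, hD₀⟩ := hS i₀
  obtain ⟨D', hD'⟩ := hext (D₀.compAlgebraMap k)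
  -- the difference derivation
  obtain ⟨E, hE⟩ : ∃ E : Derivation ℤ (MvPolynomial (Fin t) k) 𝕂,
      E = D'.compAlgebraMap (MvPolynomial (Fin t) k) - D₀ := ⟨_, rfl⟩
  have hEC : ∀ a : k, E (C a) = 0 := by
    intro a
    rw [hE, Derivation.sub_apply, Derivation.compAlgebraMap_apply, sub_eq_zero]
    have h1 : algebraMap (MvPolynomial (Fin t) k) L (C a) = algebraMap k L a := by
      rw [← MvPolynomial.algebraMap_eq, ← IsScalarTower.algebraMap_apply]
    rw [h1, hD', Derivation.compAlgebraMap_apply]
    rfl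
  have hEx : ∀ i, E (x i) = 0 := by
    intro i
    have h2 := derivation_eq_sum_pderiv (derivationOfVanish E hEC) (x i)
    have h3 : E (x i) = ∑ j, pderiv j (x i) • E (X j) := h2
    rw [h3]
    refine Finset.sum_eq_zero fun j _ => ?_
    rw [Algebra.smul_def, hT (x i) (hx i) j, zero_mul]
  have hD'x : ∀ i, D' (algebraMap (MvPolynomial (Fin t) k) L (x i)) = if i = i₀ then 1 else 0 := by
    intro i
    have := hEx i
    rw [hE, Derivation.sub_apply, Derivation.compAlgebraMap_apply, sub_eq_zero] at this
    rw [this, hD₀]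
  -- apply `D'` to the relation
  have h0 : D' (∑ i, c i * algebraMap (MvPolynomial (Fin t) k) L (x i)) = 0 :=
    derivation_eq_zero_of_mem_sq D' (maximalIdeal L)
      (fun a ha m => by rw [Algebra.smul_def, hK a ha, zero_mul]) _ hc
  rw [map_sum] at h0
  have h1 : ∀ i, D' (c i * algebraMap (MvPolynomial (Fin t) k) L (x i)) =
      if i = i₀ then algebraMap L 𝕂 (c i) else 0 := by
    intro i
    rw [Derivation.leibniz, hD'x]
    have hx0 : algebraMap L 𝕂 (algebraMap (MvPolynomial (Fin t) k) L (x i)) = 0 := by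
      rw [← IsScalarTower.algebraMap_apply]; exact hx i
    rw [Algebra.smul_def (algebraMap (MvPolynomial (Fin t) k) L (x i)), hx0, zero_mul, add_zero,
      Algebra.smul_def]
    split_ifs <;> simp
  rw [Finset.sum_congr rfl (fun i _ => h1 i), Finset.sum_ite_eq' Finset.univ i₀] at h0
  simp only [Finset.mem_univ, if_true] at h0
  by_contra hci
  have hu : IsUnit (c i₀) := by
    by_contra hnu
    exact hci hnu
  exact (hu.map (algebraMap L 𝕂)).ne_zero h0

end Groth.Agent.Lib.Helper7.Smoothing
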