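import Groth.Agent.Lib.Helper19GRKaehlerGen

/-!
# The imperfection module of the residue field of a formally smooth Noetherian local algebra is
finite (EGA 0_IV 22.2) (helper19)
-/

set_option autoImplicit false
set_option linter.style.haveILetI false
set_option linter.unusedSectionVars false
universe u

namespace Groth.Agent.Lib.Helper19.GR

open IsLocalRing TensorProduct

section finite

variable {k A K : Type u} [Field k] [CommRing A] [IsLocalRing A] [IsNoetherianRing A]
  [Algebra k A] [Field K] [Algebra A K] [Algebra k K] [IsScalarTower k A K]

/-- the kernel of `Ω_{A/ℤ} ⊗ K → Ω_{K/ℤ}` is finite-dimensional -/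
theorem finite_ker_mapBaseChange (hs : Function.Surjective (algebraMap A K)) :
    Module.Finite K (LinearMap.ker (KaehlerDifferential.mapBaseChange ℤ A K)) := by
  have hex := KaehlerDifferential.exact_kerCotangentToTensor_mapBaseChange ℤ A K hs
  haveI : Module.Finite A (RingHom.ker (algebraMap A K)).Cotangent :=
    Module.Finite.of_surjective _ (Ideal.toCotangent_surjective _)
  have hfg : (LinearMap.range (KaehlerDifferential.kerCotangentToTensor ℤ A K)).FG := by
    rw [LinearMap.range_eq_map]
    exact Module.Finite.fg_top.map _
  have heq : (LinearMap.ker (KaehlerDifferential.mapBaseChange ℤ A K)).restrictScalars A =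
      LinearMap.range (KaehlerDifferential.kerCotangentToTensor ℤ A K) := by
    ext x
    rw [Submodule.restrictScalars_mem, LinearMap.mem_ker, LinearMap.mem_range]
    exact hex x
  rw [← heq] at hfg
  exact Module.Finite.of_fg (Submodule.FG.of_restrictScalars A hfg)

/-- **EGA 0_IV 22.2**: the imperfection module of the residue field of a formally smooth
Noetherian local algebra over a field is finite -/
theorem finite_imperfection_of_isAdicFormallySmooth (hs : Function.Surjective (algebraMap A K))
    (hK : ∀ x ∈ maximalIdeal A, algebraMap A K x = 0)
    (h : CAlgX.IsAdicFormallySmooth k A (maximalIdeal A)) :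
    Module.Finite K (EGA41.imperfection ℤ k K) := by
  have hinj : Function.Injective (LinearMap.baseChange K
      (KaehlerDifferential.mapBaseChange ℤ k A)) := by
    intro a b hab
    apply injective_lTensor_of_extensionK (exists_derivation_extensionK hK h)
    rw [← LinearMap.baseChange_eq_ltensor]
    exact hab
  have hcomm : (KaehlerDifferential.mapBaseChange ℤ A K) ∘ₗ
      (LinearMap.baseChange K (KaehlerDifferential.mapBaseChange ℤ k A)) =
      (KaehlerDifferential.mapBaseChange ℤ k K) ∘ₗ
        (AlgebraTensorModule.cancelBaseChange k A K K Ω[k⁄ℤ]).toLinearMap := by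
    ext c
    simp only [AlgebraTensorModule.curry_apply, LinearMap.restrictScalars_comp, curry_apply,
      LinearMap.coe_comp, LinearMap.coe_restrictScalars, Function.comp_apply,
      Derivation.coe_comp, LinearMap.baseChange_tmul,
      KaehlerDifferential.mapBaseChange_tmul, one_smul, LinearEquiv.coe_coe,
      AlgebraTensorModule.cancelBaseChange_tmul]
    change KaehlerDifferential.map ℤ ℤ A K (KaehlerDifferential.map ℤ ℤ k A
      (KaehlerDifferential.D ℤ k c)) = KaehlerDifferential.map ℤ ℤ k K
      (KaehlerDifferential.D ℤ k c)
    rw [KaehlerDifferential.map_D, KaehlerDifferential.map_D, KaehlerDifferential.map_D,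
      ← IsScalarTower.algebraMap_apply]
  haveI := finite_ker_mapBaseChange (A := A) (K := K) hs
  let f : EGA41.imperfection ℤ k K →ₗ[K]
      LinearMap.ker (KaehlerDifferential.mapBaseChange ℤ A K) :=
    LinearMap.codRestrict _
      ((LinearMap.baseChange K (KaehlerDifferential.mapBaseChange ℤ k A)) ∘ₗ
        (AlgebraTensorModule.cancelBaseChange k A K K Ω[k⁄ℤ]).symm.toLinearMap ∘ₗ
        (EGA41.imperfection ℤ k K).subtype) (fun u => by
      rw [LinearMap.mem_ker]
      have h1 := LinearMap.congr_fun hcomm
        ((AlgebraTensorModule.cancelBaseChange k A K K Ω[k⁄ℤ]).symm u.1)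
      simp only [LinearMap.coe_comp, Function.comp_apply, LinearEquiv.coe_coe,
        LinearEquiv.apply_symm_apply] at h1
      simp only [LinearMap.coe_comp, Function.comp_apply, LinearEquiv.coe_coe,
        Submodule.coe_subtype]
      rw [h1]
      exact u.2)
  have hf : Function.Injective f := by
    intro u v huv
    have h1 := congrArg Subtype.val huv
    simp only [f, LinearMap.codRestrict_apply, LinearMap.coe_comp, Function.comp_apply,
      LinearEquiv.coe_coe, Submodule.coe_subtype] at h1
    exact Subtype.ext ((AlgebraTensorModule.cancelBaseChange k A K K Ω[k⁄ℤ]).symm.injective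
      (hinj h1))
  exact FiniteDimensional.of_injective (K := K) (V := EGA41.imperfection ℤ k K)
    (V₂ := LinearMap.ker (KaehlerDifferential.mapBaseChange ℤ A K)) f hf

end finite

end Groth.Agent.Lib.Helper19.GR
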