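import Mathlib
import Groth.Prelude.Def_EGA41
import Groth.Agent.Lib.Helper7Imperf2

set_option autoImplicit false
set_option linter.style.haveILetI false
set_option linter.unusedSectionVars false
open TensorProduct KaehlerDifferential
universe u w

namespace Groth.Agent.Lib.Helper7.ExalLib

section SixTerm

variable {k : Type u} {K L M : Type w} [CommRing k] [CommRing K] [Field L] [Field M]
  [Algebra k K] [Algebra k L] [Algebra k M] [Algebra K L] [Algebra K M] [Algebra L M]
  [IsScalarTower k K L] [IsScalarTower k K M] [IsScalarTower k L M] [IsScalarTower K L M]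

lemma bcPhi_bcBeta_eq_zero (x : M ⊗[K] Ω[K⁄k]) : bcPhi k K L M (bcBeta k K L M x) = 0 := by
  have := bc_kaehler_ext (Λ := k) (P := K) (C := M) (N := M ⊗[L] Ω[L⁄K])
    ((bcPhi k K L M).toAddMonoidHom.comp (bcBeta k K L M).toAddMonoidHom) 0 ?_
  · exact DFunLike.congr_fun this x
  · intro c p
    simp only [AddMonoidHom.coe_comp, LinearMap.toAddMonoidHom_coe, Function.comp_apply,
      AddMonoidHom.zero_apply]
    rw [bcBeta_tmul_D, bcPhi_tmul_D, Derivation.map_algebraMap, TensorProduct.tmul_zero]

lemma ker_bcPhi_eq_range_bcBeta :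
    LinearMap.ker (bcPhi k K L M) = LinearMap.range (bcBeta k K L M) := by
  apply le_antisymm
  · rw [ker_bcPhi_eq_span, Submodule.span_le]
    rintro _ ⟨y, rfl⟩
    exact ⟨(1 : M) ⊗ₜ D k K y, bcBeta_tmul_D _ _⟩
  · rintro _ ⟨x, rfl⟩
    exact bcPhi_bcBeta_eq_zero x

/-- flat base change of a kernel: ranks agree -/
theorem rank_ker_baseChange {N P : Type w} [AddCommGroup N] [Module L N] [AddCommGroup P]
    [Module L P] (f : N →ₗ[L] P) :
    Module.rank M ↥(LinearMap.ker (f.baseChange M)) = Module.rank L ↥(LinearMap.ker f) := by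
  have := rank_ker_baseChange_inf (M := M) f f
  rwa [inf_idem, inf_idem] at this

lemma rank_ker_bcBeta :
    Module.rank M ↥(LinearMap.ker (bcBeta k K L M)) =
      Module.rank L ↥(EGA41.imperfection k K L) := by
  set α := TensorProduct.AlgebraTensorModule.cancelBaseChange K L M M Ω[K⁄k] with hα
  have hZ : Submodule.comap α.toLinearMap (LinearMap.ker (bcBeta k K L M)) =
      LinearMap.ker ((KaehlerDifferential.mapBaseChange k K L).baseChange M) := by
    ext y
    rw [Submodule.mem_comap, LinearMap.mem_ker, LinearMap.mem_ker, LinearEquiv.coe_coe, hα,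
      bcBeta_cancel]
  rw [← (LinearEquiv.ofSubmodule' α (LinearMap.ker (bcBeta k K L M))).rank_eq, hZ,
    rank_ker_baseChange]
  rfl

/-- (1) `rank Υ_{M/K/k} = rank Υ_{L/K/k} + rank (Υ_{M/L/k} ∩ ker φ)` -/
theorem rank_imperfection_tower_aux1 :
    Module.rank M ↥(EGA41.imperfection k K M) =
      Module.rank L ↥(EGA41.imperfection k K L) +
        Module.rank M ↥(EGA41.imperfection k L M ⊓ LinearMap.ker (bcPhi k K L M)) := by
  set Υ := EGA41.imperfection k K M with hΥ
  set g := (bcBeta k K L M).domRestrict Υ with hg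
  have hrange : LinearMap.range g =
      EGA41.imperfection k L M ⊓ LinearMap.ker (bcPhi k K L M) := by
    apply le_antisymm
    · rintro _ ⟨⟨x, hx⟩, rfl⟩
      rw [hg, LinearMap.domRestrict_apply, Submodule.mem_inf, LinearMap.mem_ker]
      exact ⟨(mem_imperfection_iff_bcBeta x).1 hx, bcPhi_bcBeta_eq_zero x⟩
    · intro w hw
      rw [Submodule.mem_inf, ker_bcPhi_eq_range_bcBeta] at hw
      obtain ⟨x, rfl⟩ := hw.2
      exact ⟨⟨x, (mem_imperfection_iff_bcBeta x).2 hw.1⟩, rfl⟩
  have hle : LinearMap.ker (bcBeta k K L M) ≤ Υ := by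
    intro x hx
    rw [hΥ, mem_imperfection_iff_bcBeta (B := L), LinearMap.mem_ker.1 hx]
    exact zero_mem _
  have hker : LinearMap.ker g = Submodule.comap Υ.subtype (LinearMap.ker (bcBeta k K L M)) := by
    ext ⟨x, hx⟩
    rw [LinearMap.mem_ker, hg, LinearMap.domRestrict_apply, Submodule.mem_comap,
      Submodule.subtype_apply, LinearMap.mem_ker]
  have key := LinearMap.rank_range_add_rank_ker (R := M) (M := ↥Υ) (M₁ := M ⊗[L] Ω[L⁄k]) g
  rw [hrange, hker, (Submodule.comapSubtypeEquivOfLe hle).rank_eq, rank_ker_bcBeta] at key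
  rw [← key, add_comm]

/-- (2) `rank Υ_{M/L/k} = rank (Υ_{M/L/k} ∩ ker φ) + rank Υ_{M/L/K}` -/
theorem rank_imperfection_tower_aux2 :
    Module.rank M ↥(EGA41.imperfection k L M) =
      Module.rank M ↥(EGA41.imperfection k L M ⊓ LinearMap.ker (bcPhi k K L M)) +
        Module.rank M ↥(EGA41.imperfection K L M) := by
  set Υ := EGA41.imperfection k L M with hΥ
  set h := (bcPhi k K L M).domRestrict Υ with hh
  have hrange : LinearMap.range h = EGA41.imperfection K L M := by
    apply le_antisymm
    · rintro _ ⟨⟨x, hx⟩, rfl⟩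
      rw [hh, LinearMap.domRestrict_apply]
      exact bcPhi_mem_imperfection hx
    · intro w hw
      obtain ⟨z, hz, rfl⟩ := exists_mem_imperfection_bcPhi_eq (R := k) hw
      exact ⟨⟨z, hz⟩, rfl⟩
  have hle : Υ ⊓ LinearMap.ker (bcPhi k K L M) ≤ Υ := inf_le_left
  have hker : LinearMap.ker h =
      Submodule.comap Υ.subtype (Υ ⊓ LinearMap.ker (bcPhi k K L M)) := by
    ext ⟨x, hx⟩
    rw [LinearMap.mem_ker, hh, LinearMap.domRestrict_apply, Submodule.mem_comap,
      Submodule.subtype_apply, Submodule.mem_inf, LinearMap.mem_ker]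
    exact ⟨fun h => ⟨hx, h⟩, fun h => h.2⟩
  have key := LinearMap.rank_range_add_rank_ker (R := M) (M := ↥Υ) (M₁ := M ⊗[L] Ω[L⁄K]) h
  rw [hrange, hker, (Submodule.comapSubtypeEquivOfLe hle).rank_eq] at key
  rw [← key, add_comm]

/-- (3) `rank Ω_{L/K} = rank Υ_{M/L/K} + rank (image of M ⊗ Ω_{L/K} in Ω_{M/K})` -/
theorem rank_imperfection_tower_aux3 :
    Module.rank L (Ω[L⁄K]) =
      Module.rank M ↥(EGA41.imperfection K L M) +
        Module.rank M ↥(LinearMap.range (KaehlerDifferential.mapBaseChange K L M)) := by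
  have key := LinearMap.rank_range_add_rank_ker (KaehlerDifferential.mapBaseChange K L M)
  rw [Module.rank_baseChange, Cardinal.lift_id] at key
  rw [← key, add_comm]
  rfl

/-- (4) `rank Ω_{M/K} = rank (image) + rank Ω_{M/L}` -/
theorem rank_imperfection_tower_aux4 :
    Module.rank M (Ω[M⁄K]) =
      Module.rank M ↥(LinearMap.range (KaehlerDifferential.mapBaseChange K L M)) +
        Module.rank M (Ω[M⁄L]) := by
  have key := LinearMap.rank_range_add_rank_ker (KaehlerDifferential.map K L M M)
  have hex := KaehlerDifferential.exact_mapBaseChange_map K L M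
  rw [LinearMap.exact_iff] at hex
  rw [hex, LinearMap.range_eq_top.2 (KaehlerDifferential.map_surjective K L M), rank_top] at key
  rw [← key, add_comm]

/-- the rank identity coming from the six-term exact sequence of a tower `K ⊆ L ⊆ M`:
`rk Ω_{M/K} + rk Υ_{L/K/k} + rk Υ_{M/L/k} = rk Ω_{M/L} + rk Ω_{L/K} + rk Υ_{M/K/k}` -/
theorem rank_six_term :
    Module.rank M (Ω[M⁄K]) + Module.rank L ↥(EGA41.imperfection k K L) +
        Module.rank M ↥(EGA41.imperfection k L M) =
      Module.rank M (Ω[M⁄L]) + Module.rank L (Ω[L⁄K]) +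
        Module.rank M ↥(EGA41.imperfection k K M) := by
  rw [rank_imperfection_tower_aux4 (K := K) (L := L) (M := M),
    rank_imperfection_tower_aux2 (k := k) (K := K) (L := L) (M := M),
    rank_imperfection_tower_aux3 (K := K) (L := L) (M := M),
    rank_imperfection_tower_aux1 (k := k) (K := K) (L := L) (M := M)]
  ring

end SixTerm

end Groth.Agent.Lib.Helper7.ExalLib
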