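import Mathlib
import Groth.Prelude.Def_EGA41
import Groth.Agent.Lib.Helper7SixTerm

set_option autoImplicit false
set_option linter.style.haveILetI false
set_option linter.unusedSectionVars false
open TensorProduct KaehlerDifferential
universe u w

namespace Groth.Agent.Lib.Helper7.ExalLib

section SimpleAlg

variable {k : Type u} {K L : Type w} [CommRing k] [Field K] [Field L] [Algebra k K] [Algebra k L]
  [Algebra K L] [IsScalarTower k K L]

lemma imperfection_eq_range_delta :
    EGA41.imperfection k K L = LinearMap.range (Algebra.H1Cotangent.δ k K L) := by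
  rw [EGA41.imperfection]
  exact LinearMap.exact_iff.1 (Algebra.H1Cotangent.exact_δ_mapBaseChange k K L)

/-- For a monogenic field extension `L = K[z]`: `Ω_{L/K}` has rank `≤ 1` and
`rank H¹(L_{L/K}) ≤ rank Ω_{L/K}`. -/
theorem simple_bounds (z : L)
    (hz : Function.Surjective (MvPolynomial.aeval (R := K) (fun _ : Unit => z))) :
    Module.Finite L (Ω[L⁄K]) ∧ Module.finrank L (Ω[L⁄K]) ≤ 1 ∧
      Module.Finite L (Algebra.H1Cotangent K L) ∧
      Module.finrank L (Algebra.H1Cotangent K L) ≤ Module.finrank L (Ω[L⁄K]) := by
  classical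
  let P := Algebra.Generators.ofSurjective (fun _ : Unit => z) hz
  let E := P.toExtension
  let bCS := P.cotangentSpaceBasis
  haveI : Module.Finite L E.CotangentSpace := Module.Finite.of_basis bCS
  have hCS : Module.finrank L E.CotangentSpace = 1 := by
    rw [Module.finrank_eq_card_basis bCS]; simp
  have hPIR : IsPrincipalIdealRing (MvPolynomial Unit K) :=
    IsPrincipalIdealRing.of_surjective (MvPolynomial.pUnitAlgEquiv K).symm.toRingEquiv.toRingHom
      (MvPolynomial.pUnitAlgEquiv K).symm.surjective
  haveI : IsPrincipalIdealRing E.Ring := hPIR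
  obtain ⟨g, hg⟩ := (IsPrincipalIdealRing.principal E.ker).principal
  have hg' : Ideal.span (Set.range fun _ : Unit => g) = E.ker := by
    rw [hg]
    congr 1
    ext x
    simp
  have hspan := Algebra.Extension.Cotangent.span_eq_top_of_span_eq_ker (P := E)
    (fun _ : Unit => g) hg'
  haveI : Module.Finite L E.Cotangent := by
    rw [Module.finite_def, ← hspan]
    exact Submodule.fg_span (Set.finite_range _)
  have hC : Module.finrank L E.Cotangent ≤ 1 := by
    have h1 := finrank_range_le_card (R := L)
      (fun i : Unit => Algebra.Extension.Cotangent.mk (P := E)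
        ⟨g, hg'.le (Ideal.subset_span ⟨i, rfl⟩)⟩)
    rw [Set.finrank, hspan, finrank_top] at h1
    simpa using h1
  have hsurj := E.toKaehler_surjective
  have hex := E.exact_cotangentComplex_toKaehler
  haveI : Module.Finite L (Ω[L⁄K]) := Module.Finite.of_surjective E.toKaehler hsurj
  have e1 := LinearMap.finrank_range_add_finrank_ker E.toKaehler
  rw [LinearMap.range_eq_top.2 hsurj, finrank_top, hCS] at e1
  rw [LinearMap.exact_iff] at hex
  rw [hex] at e1
  have e2 := LinearMap.finrank_range_add_finrank_ker E.cotangentComplex
  have hH1 : Module.finrank L E.H1Cotangent =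
      Module.finrank L ↥(LinearMap.ker E.cotangentComplex) := rfl
  haveI : Module.Finite L E.H1Cotangent :=
    inferInstanceAs (Module.Finite L ↥(LinearMap.ker E.cotangentComplex))
  have heq := P.equivH1Cotangent
  refine ⟨inferInstance, by omega, Module.Finite.equiv heq, ?_⟩
  rw [← heq.finrank_eq, hH1]
  omega

/-- For a monogenic field extension `L = K[z]`: `Υ_{L/K/k}` is finite and of rank at most
`rank Ω_{L/K}`. -/
theorem simple_imperfection_bounds (z : L)
    (hz : Function.Surjective (MvPolynomial.aeval (R := K) (fun _ : Unit => z))) :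
    Module.Finite L (EGA41.imperfection k K L) ∧
      Module.finrank L (EGA41.imperfection k K L) ≤ Module.finrank L (Ω[L⁄K]) := by
  obtain ⟨_, _, h3, h4⟩ := simple_bounds (K := K) z hz
  rw [imperfection_eq_range_delta]
  exact ⟨Module.Finite.range _, (LinearMap.finrank_range_le _).trans h4⟩

end SimpleAlg

end Groth.Agent.Lib.Helper7.ExalLib
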