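import Mathlib
import Groth.Prelude.Def_EGA41
import Groth.Agent.Lib.Helper7Cartier
import Groth.Agent.Lib.Helper7SepDer
import Groth.Agent.Lib.Helper12SepGen

set_option autoImplicit false
set_option linter.style.haveILetI false
set_option linter.unusedSectionVars false
open TensorProduct KaehlerDifferential
universe u w

namespace Groth.Agent.Lib.Helper7.ExalLib

section TowerNat

variable {k : Type u} {K L M : Type w} [CommRing k] [Field K] [Field L] [Field M]
  [Algebra k K] [Algebra k L] [Algebra k M] [Algebra K L] [Algebra K M] [Algebra L M]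
  [IsScalarTower k K L] [IsScalarTower k K M] [IsScalarTower k L M] [IsScalarTower K L M]

/-- finiteness and the numerical identity for a tower `K ⊆ L ⊆ M` -/
theorem tower_finrank [Module.Finite L (Ω[L⁄K])] [Module.Finite L (EGA41.imperfection k K L)]
    [Module.Finite M (Ω[M⁄L])] [Module.Finite M (EGA41.imperfection k L M)] :
    Module.Finite M (Ω[M⁄K]) ∧ Module.Finite M (EGA41.imperfection k K M) ∧
      Module.finrank M (Ω[M⁄K]) + Module.finrank L (EGA41.imperfection k K L) +
          Module.finrank M (EGA41.imperfection k L M) =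
        Module.finrank M (Ω[M⁄L]) + Module.finrank L (Ω[L⁄K]) +
          Module.finrank M (EGA41.imperfection k K M) := by
  have a1 := rank_imperfection_tower_aux1 (k := k) (K := K) (L := L) (M := M)
  have a3 := rank_imperfection_tower_aux3 (K := K) (L := L) (M := M)
  have a4 := rank_imperfection_tower_aux4 (K := K) (L := L) (M := M)
  have hI : Module.rank M ↥(EGA41.imperfection k L M ⊓ LinearMap.ker (bcPhi k K L M)) <
      Cardinal.aleph0 :=
    lt_of_le_of_lt (Submodule.rank_mono inf_le_left) (Module.rank_lt_aleph0 M _)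
  have hJ : Module.rank M ↥(LinearMap.range (KaehlerDifferential.mapBaseChange K L M)) <
      Cardinal.aleph0 := by
    have h : Module.rank M ↥(LinearMap.range (KaehlerDifferential.mapBaseChange K L M)) ≤
        Module.rank L (Ω[L⁄K]) := by
      rw [a3]; exact le_add_self
    exact lt_of_le_of_lt h (Module.rank_lt_aleph0 L _)
  have hΥ : Module.Finite M (EGA41.imperfection k K M) := by
    have h0 : Module.rank M ↥(EGA41.imperfection k K M) < Cardinal.aleph0 := by
      rw [a1]
      exact Cardinal.add_lt_aleph0 (Module.rank_lt_aleph0 L _) hI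
    have h : IsNoetherian M ↥(EGA41.imperfection k K M) := (IsNoetherian.iff_rank_lt_aleph0 (K := M) (V := ↥(EGA41.imperfection k K M))).2 h0
    exact Module.IsNoetherian.finite M _
  have hΩ : Module.Finite M (Ω[M⁄K]) := by
    rw [← Module.rank_lt_aleph0_iff, a4]
    exact Cardinal.add_lt_aleph0 hJ (Module.rank_lt_aleph0 M _)
  refine ⟨hΩ, hΥ, ?_⟩
  have key := rank_six_term (k := k) (K := K) (L := L) (M := M)
  rw [← Module.finrank_eq_rank M (Ω[M⁄K]), ← Module.finrank_eq_rank L ↥(EGA41.imperfection k K L),
    ← Module.finrank_eq_rank M ↥(EGA41.imperfection k L M), ← Module.finrank_eq_rank M (Ω[M⁄L]),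
    ← Module.finrank_eq_rank L (Ω[L⁄K]),
    ← Module.finrank_eq_rank M ↥(EGA41.imperfection k K M)] at key
  exact_mod_cast key

end TowerNat

section Packages

/-- the Cartier inequality package for `L/K` relative to `k` -/
def CartierLE (k : Type u) (K L : Type w) [CommRing k] [Field K] [Field L] [Algebra k K]
    [Algebra k L] [Algebra K L] [IsScalarTower k K L] : Prop :=
  Module.Finite L (Ω[L⁄K]) ∧ Module.Finite L (EGA41.imperfection k K L) ∧
    Algebra.trdeg K L < Cardinal.aleph0 ∧
    Module.finrank L (EGA41.imperfection k K L) + Cardinal.toNat (Algebra.trdeg K L) ≤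
      Module.finrank L (Ω[L⁄K])

/-- the Cartier equality package for `L/K` (absolute differentials) -/
def CartierEQ (K L : Type w) [Field K] [Field L] [Algebra K L] : Prop :=
  Module.Finite L (Ω[L⁄K]) ∧ Module.Finite L (EGA41.imperfection ℤ K L) ∧
    Algebra.trdeg K L < Cardinal.aleph0 ∧
    Module.finrank L (EGA41.imperfection ℤ K L) + Cardinal.toNat (Algebra.trdeg K L) =
      Module.finrank L (Ω[L⁄K])

variable {k : Type u} {K L M : Type w} [CommRing k] [Field K] [Field L] [Field M]
  [Algebra k K] [Algebra k L] [Algebra k M] [Algebra K L] [Algebra K M] [Algebra L M]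
  [IsScalarTower k K L] [IsScalarTower k K M] [IsScalarTower k L M] [IsScalarTower K L M]

lemma toNat_trdeg_tower (t1 : Algebra.trdeg K L < Cardinal.aleph0)
    (t2 : Algebra.trdeg L M < Cardinal.aleph0) :
    Algebra.trdeg K M < Cardinal.aleph0 ∧
      Cardinal.toNat (Algebra.trdeg K M) =
        Cardinal.toNat (Algebra.trdeg K L) + Cardinal.toNat (Algebra.trdeg L M) := by
  have ht : Algebra.trdeg K L + Algebra.trdeg L M = Algebra.trdeg K M :=
    trdeg_add_eq K L (A := M)
  rw [← ht]
  exact ⟨Cardinal.add_lt_aleph0 t1 t2, Cardinal.toNat_add t1 t2⟩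

theorem CartierLE.trans (h1 : CartierLE k K L) (h2 : CartierLE k L M) : CartierLE k K M := by
  obtain ⟨f1, f2, t1, i1⟩ := h1
  obtain ⟨g1, g2, t2, i2⟩ := h2
  obtain ⟨hΩ, hΥ, hid⟩ := tower_finrank (k := k) (K := K) (L := L) (M := M)
  obtain ⟨t3, ht⟩ := toNat_trdeg_tower (K := K) (L := L) (M := M) t1 t2
  refine ⟨hΩ, hΥ, t3, ?_⟩
  omega

theorem CartierEQ.trans (h1 : CartierEQ K L) (h2 : CartierEQ L M) : CartierEQ K M := by
  obtain ⟨f1, f2, t1, i1⟩ := h1
  obtain ⟨g1, g2, t2, i2⟩ := h2
  obtain ⟨hΩ, hΥ, hid⟩ := tower_finrank (k := ℤ) (K := K) (L := L) (M := M)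
  obtain ⟨t3, ht⟩ := toNat_trdeg_tower (K := K) (L := L) (M := M) t1 t2
  refine ⟨hΩ, hΥ, t3, ?_⟩
  omega

end Packages

section Simple

variable {k : Type u} {K L : Type w} [CommRing k] [Field K] [Field L] [Algebra k K] [Algebra k L]
  [Algebra K L] [IsScalarTower k K L]

lemma essFiniteType_of_adjoin_simple_eq_top {z : L}
    (htop : IntermediateField.adjoin K {z} = ⊤) : Algebra.EssFiniteType K L :=
  IntermediateField.fg_top_iff.1 ⟨{z}, by simpa using htop⟩

/-- transcendental simple extensions -/
theorem cartier_transcendental {z : L} (hz : Transcendental K z)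
    (htop : IntermediateField.adjoin K {z} = ⊤) :
    Module.Finite L (Ω[L⁄K]) ∧ EGA41.imperfection k K L = ⊥ ∧
      Module.finrank L (Ω[L⁄K]) = 1 ∧ Algebra.trdeg K L = 1 := by
  classical
  haveI := essFiniteType_of_adjoin_simple_eq_top htop
  have hb : AlgebraicIndependent K (fun _ : PUnit.{w+1} => z) :=
    algebraicIndependent_unique_type_iff.2 hz
  have hrange : Set.range (fun _ : PUnit.{w+1} => z) = {z} := Set.range_const
  haveI : Algebra.FormallySmooth K L :=
    Algebra.FormallySmooth.of_algebraicIndependent hb (by rw [hrange]; exact htop)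
  have hΥ : EGA41.imperfection k K L = ⊥ := by
    obtain ⟨r, hr⟩ := exists_retraction_mapBaseChange k K L
    rw [EGA41.imperfection, LinearMap.ker_eq_bot]
    intro x y hxy
    have := congrArg r hxy
    rwa [← LinearMap.comp_apply, ← LinearMap.comp_apply, hr] at this
  have hspan : ∀ y : L, D K L y ∈ Submodule.span L {D K L z} := by
    intro y
    have hy : y ∈ IntermediateField.adjoin K {z} := by rw [htop]; trivial
    induction hy using IntermediateField.adjoin_induction with
    | mem w hw => rw [Set.mem_singleton_iff.1 hw]; exact Submodule.subset_span rfl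
    | algebraMap r => rw [Derivation.map_algebraMap]; exact zero_mem _
    | add a c _ _ ha hc => rw [map_add]; exact add_mem ha hc
    | inv a _ ha => rw [Derivation.leibniz_inv]; exact Submodule.smul_mem _ _ ha
    | mul a c _ _ ha hc =>
      rw [Derivation.leibniz]
      exact add_mem (Submodule.smul_mem _ _ hc) (Submodule.smul_mem _ _ ha)
  have htopΩ : Submodule.span L {D K L z} = ⊤ := by
    rw [eq_top_iff, ← KaehlerDifferential.span_range_derivation, Submodule.span_le]
    rintro _ ⟨y, rfl⟩
    exact hspan y
  have hle : Module.finrank L (Ω[L⁄K]) ≤ 1 := by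
    rw [← finrank_top L, ← htopΩ]
    exact (finrank_span_le_card ({D K L z} : Set _)).trans (by simp)
  have hge : 1 ≤ Module.finrank L (Ω[L⁄K]) := by
    by_contra hcon
    have h0 : Module.finrank L (Ω[L⁄K]) = 0 := by omega
    haveI : Subsingleton (Ω[L⁄K]) := Module.finrank_zero_iff.1 h0
    haveI : Algebra.FormallyUnramified K L := (Algebra.formallyUnramified_iff K L).2 inferInstance
    haveI : Algebra.IsSeparable K L := Algebra.FormallyUnramified.isSeparable K L
    exact hz (Algebra.IsAlgebraic.isAlgebraic z)
  have htr : Algebra.trdeg K L = 1 := by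
    have hbasis : IsTranscendenceBasis K (fun _ : PUnit.{w+1} => z) := by
      rw [hb.isTranscendenceBasis_iff_isAlgebraic]
      refine ⟨fun y => ?_⟩
      have hy : y ∈ IntermediateField.adjoin K (Set.range fun _ : PUnit.{w+1} => z) := by
        rw [hrange, htop]; trivial
      open scoped IntermediateField.algebraAdjoinAdjoin in
      exact (Algebra.IsAlgebraic.isAlgebraic
        (R := Algebra.adjoin K (Set.range fun _ : PUnit.{w+1} => z))
        (⟨y, hy⟩ : IntermediateField.adjoin K (Set.range fun _ : PUnit.{w+1} => z))).algHom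
          (IsScalarTower.toAlgHom _ _ L)
    rw [← hbasis.cardinalMk_eq_trdeg]
    simp
  exact ⟨inferInstance, hΥ, le_antisymm hle hge, htr⟩

theorem aeval_surjective_of_isIntegral {z : L} (hz : IsIntegral K z)
    (htop : IntermediateField.adjoin K {z} = ⊤) :
    Function.Surjective (MvPolynomial.aeval (R := K) (fun _ : Unit => z)) := by
  have h1 := IntermediateField.adjoin_simple_toSubalgebra_of_isAlgebraic hz.isAlgebraic
  rw [htop, IntermediateField.top_toSubalgebra] at h1
  have h2 : Algebra.adjoin K (Set.range fun _ : Unit => z) = ⊤ := by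
    rw [Set.range_const]; exact h1.symm
  rw [Algebra.adjoin_range_eq_range_aeval] at h2
  intro y
  have : y ∈ (MvPolynomial.aeval (R := K) fun _ : Unit => z).range := by rw [h2]; trivial
  exact this

lemma isAlgebraic_of_adjoin_simple_eq_top {z : L} (hz : IsIntegral K z)
    (htop : IntermediateField.adjoin K {z} = ⊤) : Algebra.IsAlgebraic K L := by
  have := IntermediateField.isAlgebraic_adjoin_simple hz
  refine ⟨fun y => ?_⟩
  have hy : y ∈ IntermediateField.adjoin K {z} := by rw [htop]; trivial
  exact IntermediateField.isAlgebraic_iff.1 (Algebra.IsAlgebraic.isAlgebraic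
    (⟨y, hy⟩ : IntermediateField.adjoin K {z}))

theorem cartierLE_algebraic {z : L} (hz : IsIntegral K z)
    (htop : IntermediateField.adjoin K {z} = ⊤) : CartierLE k K L := by
  have hsurj := aeval_surjective_of_isIntegral hz htop
  obtain ⟨h1, h2, _, _⟩ := simple_bounds (K := K) z hsurj
  obtain ⟨h3, h4⟩ := simple_imperfection_bounds (k := k) (K := K) z hsurj
  haveI := isAlgebraic_of_adjoin_simple_eq_top hz htop
  have htr : Algebra.trdeg K L = 0 := trdeg_eq_zero
  refine ⟨h1, h3, by rw [htr]; exact Cardinal.aleph0_pos, ?_⟩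
  rw [htr]
  simpa using h4

theorem cartierLE_transcendental {z : L} (hz : Transcendental K z)
    (htop : IntermediateField.adjoin K {z} = ⊤) : CartierLE k K L := by
  obtain ⟨h1, h2, h3, h4⟩ := cartier_transcendental (k := k) hz htop
  refine ⟨h1, by rw [h2]; infer_instance, by rw [h4]; exact Cardinal.one_lt_aleph0, ?_⟩
  rw [h2, h3, h4]
  simp

theorem cartierLE_simple {z : L} (htop : IntermediateField.adjoin K {z} = ⊤) :
    CartierLE k K L := by
  by_cases hz : IsIntegral K z
  · exact cartierLE_algebraic hz htop
  · exact cartierLE_transcendental (fun h => hz h.isIntegral) htop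

end Simple

section SimpleEQ

variable {K L : Type w} [Field K] [Field L] [Algebra K L]

theorem cartierEQ_transcendental {z : L} (hz : Transcendental K z)
    (htop : IntermediateField.adjoin K {z} = ⊤) : CartierEQ K L := by
  obtain ⟨h1, h2, h3, h4⟩ := cartier_transcendental (k := ℤ) hz htop
  refine ⟨h1, by rw [h2]; infer_instance, by rw [h4]; exact Cardinal.one_lt_aleph0, ?_⟩
  rw [h2, h3, h4]
  simp

theorem isSeparable_of_isGeometricallyReduced_of_isAlgebraic [Algebra.EssFiniteType K L]
    [Algebra.IsGeometricallyReduced K L] [Algebra.IsAlgebraic K L] : Algebra.IsSeparable K L := by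
  obtain ⟨s, hs, hsep⟩ :=
    Groth.Agent.Lib.Helper12.SepGen.exists_isTranscendenceBasis_and_isSeparable K L
  haveI : IsEmpty ↥s := hs.isEmpty_iff_isAlgebraic.2 inferInstance
  have hs0 : (s : Set L) = ∅ := by
    ext x
    simp only [Finset.mem_coe, Set.mem_empty_iff_false, iff_false]
    intro hx
    exact IsEmpty.false (⟨x, hx⟩ : ↥s)
  haveI : Algebra.IsSeparable K (IntermediateField.adjoin K (s : Set L)) := by
    refine ⟨fun e => ?_⟩
    have he : (e : L) ∈ (⊥ : IntermediateField K L) := by
      have h1 : IntermediateField.adjoin K (s : Set L) = ⊥ := by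
        rw [hs0, IntermediateField.adjoin_empty]
      exact h1 ▸ e.2
    obtain ⟨r, hr⟩ := IntermediateField.mem_bot.1 he
    have : e = algebraMap K (IntermediateField.adjoin K (s : Set L)) r := Subtype.ext hr.symm
    rw [this]
    exact isSeparable_algebraMap r
  exact Algebra.IsSeparable.trans K (IntermediateField.adjoin K (s : Set L)) L

theorem cartierEQ_algebraic {z : L} (hz : IsIntegral K z)
    (htop : IntermediateField.adjoin K {z} = ⊤) : CartierEQ K L := by
  obtain ⟨f1, f2, t, hle⟩ := cartierLE_algebraic (k := ℤ) hz htop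
  have hsurj := aeval_surjective_of_isIntegral hz htop
  obtain ⟨_, hΩ1, _, _⟩ := simple_bounds (K := K) z hsurj
  haveI := essFiniteType_of_adjoin_simple_eq_top htop
  haveI := isAlgebraic_of_adjoin_simple_eq_top hz htop
  have htr : Algebra.trdeg K L = 0 := trdeg_eq_zero
  refine ⟨f1, f2, t, ?_⟩
  rw [htr] at hle ⊢
  simp only [map_zero, add_zero] at hle ⊢
  by_cases h0 : Module.finrank L (EGA41.imperfection ℤ K L) = 0
  · have hbot : EGA41.imperfection ℤ K L = ⊥ := Submodule.finrank_eq_zero.1 h0
    have hinj : Function.Injective (KaehlerDifferential.mapBaseChange ℤ K L) :=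
      LinearMap.ker_eq_bot.1 hbot
    haveI : Algebra.IsGeometricallyReduced K L :=
      Groth.Agent.Lib.Helper7.PPow.isGeometricallyReduced_iff_injective_mapBaseChange.2 hinj
    haveI : Algebra.IsSeparable K L := isSeparable_of_isGeometricallyReduced_of_isAlgebraic
    haveI := Algebra.FormallyUnramified.of_isSeparable K L
    haveI : Subsingleton (Ω[L⁄K]) := (Algebra.formallyUnramified_iff K L).1 inferInstance
    rw [h0, Module.finrank_zero_of_subsingleton]
  · omega

theorem cartierEQ_simple {z : L} (htop : IntermediateField.adjoin K {z} = ⊤) :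
    CartierEQ K L := by
  by_cases hz : IsIntegral K z
  · exact cartierEQ_algebraic hz htop
  · exact cartierEQ_transcendental (fun h => hz h.isIntegral) htop

end SimpleEQ

section Induction

lemma adjoin_gen_eq_top {K L : Type w} [Field K] [Field L] [Algebra K L] (x : L) :
    IntermediateField.adjoin K
      {(⟨x, IntermediateField.mem_adjoin_simple_self K x⟩ : IntermediateField.adjoin K {x})} = ⊤ := by
  apply IntermediateField.lift_injective
  rw [IntermediateField.lift_adjoin_simple, IntermediateField.lift_top]

lemma adjoin_adjoin_simple_eq_top {K L : Type w} [Field K] [Field L] [Algebra K L] (x : L)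
    (s' : Set L) (htop : IntermediateField.adjoin K (insert x s') = ⊤) :
    IntermediateField.adjoin (IntermediateField.adjoin K {x}) s' = ⊤ := by
  apply IntermediateField.restrictScalars_injective K
  rw [IntermediateField.adjoin_adjoin_left, IntermediateField.restrictScalars_top, ← htop,
    Set.singleton_union]

variable {k : Type u} [CommRing k] {L : Type w} [Field L] [Algebra k L]

theorem cartierLE_of_card : ∀ (n : ℕ) (K : Type w) [Field K] [Algebra k K] [Algebra K L]
    [IsScalarTower k K L] (s : Finset L), s.card = n →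
    IntermediateField.adjoin K (s : Set L) = ⊤ → CartierLE k K L := by
  intro n
  induction n with
  | zero =>
    intro K _ _ _ _ s hs htop
    have : s = ∅ := Finset.card_eq_zero.1 hs
    subst this
    have h1 : IntermediateField.adjoin K {(1 : L)} = ⊤ := by
      rw [eq_top_iff, ← htop]
      exact IntermediateField.adjoin.mono K _ _ (by simp)
    exact cartierLE_simple h1
  | succ n ih =>
    intro K _ _ _ _ s hs htop
    classical
    obtain ⟨x, s', hx, rfl, hs'⟩ := Finset.card_eq_succ.1 hs
    rw [Finset.coe_insert] at htop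
    have htop' := adjoin_adjoin_simple_eq_top x (s' : Set L) htop
    have h2 : CartierLE k (IntermediateField.adjoin K {x}) L :=
      ih (IntermediateField.adjoin K {x}) s' hs' htop'
    have h1 : CartierLE k K (IntermediateField.adjoin K {x}) :=
      cartierLE_simple (adjoin_gen_eq_top x)
    exact h1.trans h2

theorem cartierEQ_of_card {L : Type w} [Field L] : ∀ (n : ℕ) (K : Type w) [Field K] [Algebra K L]
    (s : Finset L), s.card = n →
    IntermediateField.adjoin K (s : Set L) = ⊤ → CartierEQ K L := by
  intro n
  induction n with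
  | zero =>
    intro K _ _ s hs htop
    have : s = ∅ := Finset.card_eq_zero.1 hs
    subst this
    have h1 : IntermediateField.adjoin K {(1 : L)} = ⊤ := by
      rw [eq_top_iff, ← htop]
      exact IntermediateField.adjoin.mono K _ _ (by simp)
    exact cartierEQ_simple h1
  | succ n ih =>
    intro K _ _ s hs htop
    classical
    obtain ⟨x, s', hx, rfl, hs'⟩ := Finset.card_eq_succ.1 hs
    rw [Finset.coe_insert] at htop
    have htop' := adjoin_adjoin_simple_eq_top x (s' : Set L) htop
    have h2 : CartierEQ (IntermediateField.adjoin K {x}) L :=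
      ih (IntermediateField.adjoin K {x}) s' hs' htop'
    have h1 : CartierEQ K (IntermediateField.adjoin K {x}) :=
      cartierEQ_simple (adjoin_gen_eq_top x)
    exact h1.trans h2

end Induction

section Final

variable {k : Type u} {K L : Type w} [CommRing k] [Field K] [Field L] [Algebra k K] [Algebra k L]
  [Algebra K L] [IsScalarTower k K L]

theorem cartierLE_of_essFiniteType [Algebra.EssFiniteType K L] : CartierLE k K L := by
  obtain ⟨s, hs⟩ := IntermediateField.fg_top K L
  exact cartierLE_of_card s.card K s rfl hs

theorem cartierEQ_of_essFiniteType {K L : Type w} [Field K] [Field L] [Algebra K L]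
    [Algebra.EssFiniteType K L] : CartierEQ K L := by
  obtain ⟨s, hs⟩ := IntermediateField.fg_top K L
  exact cartierEQ_of_card s.card K s rfl hs

end Final

end Groth.Agent.Lib.Helper7.ExalLib
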