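import Mathlib
import Groth.Agent.Lib.Helper19FSField

/-!
# Uniqueness of coefficient fields (EGA 0_IV 21.x) (helper7)
-/

set_option autoImplicit false
set_option linter.style.haveILetI false
set_option linter.unusedSectionVars false
open TensorProduct KaehlerDifferential IsLocalRing
universe u v w

namespace Groth.Agent.Lib.Helper7.CoefField

section PowComplete

variable {R : Type*} [CommRing R] (I : Ideal R) (M : Type*) [AddCommGroup M] [Module R M]

/-- `I`-adically complete implies `I^2`-adically complete -/
theorem isAdicComplete_sq [IsAdicComplete I M] : IsAdicComplete (I ^ 2) M := by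
  have hle : ∀ n : ℕ, ((I ^ 2) ^ n • ⊤ : Submodule R M) ≤ (I ^ n • ⊤ : Submodule R M) := by
    intro n
    rw [← pow_mul]
    exact Submodule.smul_mono_left (Ideal.pow_le_pow_right (by omega))
  refine { haus' := ?_, prec' := ?_ }
  · intro x hx
    exact IsHausdorff.haus (inferInstance : IsHausdorff I M) x (fun n => (hx n).mono (hle n))
  · intro f hf
    obtain ⟨L, hL⟩ := IsPrecomplete.prec (inferInstance : IsPrecomplete I M) (f := f)
      (fun {m n} hmn => (hf hmn).mono (hle m))
    refine ⟨L, fun n => ?_⟩
    have h1 : f n ≡ f (2 * n) [SMOD ((I ^ 2) ^ n • ⊤ : Submodule R M)] := hf (by omega)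
    have h2 : f (2 * n) ≡ L [SMOD ((I ^ 2) ^ n • ⊤ : Submodule R M)] := by
      rw [← pow_mul]
      exact hL (2 * n)
    exact h1.trans h2

end PowComplete

section IntAlgHom

/-- a ring hom as a `ℤ`-algebra hom, for arbitrary `Algebra ℤ` instances -/
def intAlgHom {A B : Type*} [CommRing A] [CommRing B] [Algebra ℤ A] [Algebra ℤ B] (f : A →+* B) :
    A →ₐ[ℤ] B :=
  { f with
    commutes' := fun n => by
      change f (algebraMap ℤ A n) = algebraMap ℤ B n
      rw [eq_intCast (algebraMap ℤ A) n, eq_intCast (algebraMap ℤ B) n, map_intCast] }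

@[simp] lemma intAlgHom_apply {A B : Type*} [CommRing A] [CommRing B] [Algebra ℤ A] [Algebra ℤ B]
    (f : A →+* B) (x : A) : intAlgHom f x = f x := rfl

end IntAlgHom

section Uniq

variable {C : Type u} [CommRing C] [IsLocalRing C] [IsNoetherianRing C]

/-- if `Ω_{K/ℤ} = 0`, then sections of the residue map are unique -/
theorem section_unique_of_subsingleton [Subsingleton (Ω[ResidueField C⁄ℤ])]
    (u v : ResidueField C →+* C) (hu : ∀ x, residue C (u x) = x) (hv : ∀ x, residue C (v x) = x) :
    v = u := by
  haveI : Algebra.FormallyUnramified ℤ (ResidueField C) := ⟨inferInstance⟩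
  have hI : ⨅ i, (maximalIdeal C) ^ i = ⊥ :=
    Ideal.iInf_pow_eq_bot_of_isLocalRing _ (maximalIdeal.isMaximal C).ne_top
  have := Algebra.FormallyUnramified.ext_of_iInf (R := ℤ) (A := ResidueField C) (B := C)
    (I := maximalIdeal C) hI (g₁ := intAlgHom v) (g₂ := intAlgHom u) (fun x => by
      rw [Ideal.Quotient.eq]
      change v x - u x ∈ maximalIdeal C
      rw [← IsLocalRing.residue_eq_zero_iff, map_sub, hu, hv, sub_self])
  ext x
  exact congrArg (fun f => f x) this

end Uniq


section Exist

variable {C : Type u} [CommRing C] [IsLocalRing C] [IsNoetherianRing C]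
  [IsAdicComplete (maximalIdeal C) C]

/-- from a "derivation" `d` of the residue field with `d a ≠ 0` one constructs a second
coefficient field, when `K` is formally smooth over a ring `R₀` with unique ring homs out of it. -/
theorem exists_ne_section_of_derivation (R₀ : Type v) [CommRing R₀] [Algebra R₀ (ResidueField C)]
    [Algebra.FormallySmooth R₀ (ResidueField C)]
    (hR₀ : ∀ (S : Type u) [CommRing S] (f g : R₀ →+* S), f = g)
    (hm : maximalIdeal C ≠ ⊥) (u : ResidueField C →+* C) (hu : ∀ x, residue C (u x) = x)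
    (d : ResidueField C → ResidueField C) (hadd : ∀ x y, d (x + y) = d x + d y)
    (hmul : ∀ x y, d (x * y) = x * d y + y * d x)
    (a : ResidueField C) (hda : d a ≠ 0) :
    ∃ v : ResidueField C →+* C, (∀ x, residue C (v x) = x) ∧ v ≠ u := by
  set 𝔍 := maximalIdeal C with h𝔍
  have hd0 : d 0 = 0 := by
    have := hadd 0 0
    rw [add_zero] at this
    exact left_eq_add.mp this
  have hd1 : d 1 = 0 := by
    have := hmul 1 1
    rw [mul_one, one_mul] at this
    exact left_eq_add.mp this
  obtain ⟨t, ht, ht2⟩ : ∃ t ∈ 𝔍, t ∉ 𝔍 ^ 2 := by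
    by_contra hcon
    push Not at hcon
    have hle : 𝔍 ≤ 𝔍 • 𝔍 := by
      intro t ht
      have := hcon t ht
      rwa [pow_two] at this
    exact hm (Submodule.eq_bot_of_le_smul_of_le_jacobson_bot 𝔍 𝔍 (IsNoetherian.noetherian 𝔍) hle
      (IsLocalRing.maximalIdeal_le_jacobson ⊥))
  have htt : t * t ∈ 𝔍 ^ 2 := by
    rw [pow_two]
    exact Ideal.mul_mem_mul ht ht
  let v₂ : ResidueField C →+* C ⧸ 𝔍 ^ 2 :=
    { toFun := fun x => Ideal.Quotient.mk _ (u x + u (d x) * t)
      map_one' := by rw [hd1, map_zero, zero_mul, add_zero, map_one, map_one]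
      map_mul' := fun x y => by
        rw [← map_mul, Ideal.Quotient.eq, hmul]
        have : u (x * y) + u (x * d y + y * d x) * t - (u x + u (d x) * t) * (u y + u (d y) * t)
            = - (u (d x) * u (d y)) * (t * t) := by
          simp only [map_mul, map_add]
          ring
        rw [this]
        exact Ideal.mul_mem_left _ _ htt
      map_zero' := by rw [hd0, map_zero, zero_mul, add_zero, map_zero]
      map_add' := fun x y => by
        change Ideal.Quotient.mk (𝔍 ^ 2) (u (x + y) + u (d (x + y)) * t) =
          Ideal.Quotient.mk (𝔍 ^ 2) (u x + u (d x) * t) +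
            Ideal.Quotient.mk (𝔍 ^ 2) (u y + u (d y) * t)
        have e : u (x + y) + u (d (x + y)) * t =
            (u x + u (d x) * t) + (u y + u (d y) * t) := by
          rw [hadd]
          simp only [map_add]
          ring
        rw [e, map_add] }
  have hv₂ : ∀ x, v₂ x = Ideal.Quotient.mk _ (u x + u (d x) * t) := fun x => rfl
  letI algC : Algebra R₀ C := (u.comp (algebraMap R₀ (ResidueField C))).toAlgebra
  let v₂' : ResidueField C →ₐ[R₀] C ⧸ 𝔍 ^ 2 :=
    { v₂ with
      commutes' := fun r => by
        have := hR₀ (C ⧸ 𝔍 ^ 2) (v₂.comp (algebraMap R₀ (ResidueField C)))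
          (algebraMap R₀ (C ⧸ 𝔍 ^ 2))
        exact congrArg (fun f => f r) this }
  haveI : IsAdicComplete (𝔍 ^ 2) C := isAdicComplete_sq 𝔍 C
  obtain ⟨g, hg⟩ := Algebra.FormallySmooth.exists_mkₐ_comp_eq_of_isAdicComplete (I := 𝔍 ^ 2) v₂'
  have hgx : ∀ x, g x - (u x + u (d x) * t) ∈ 𝔍 ^ 2 := by
    intro x
    rw [← Ideal.Quotient.eq]
    have := congrArg (fun f => f x) hg
    exact this
  have hle : 𝔍 ^ 2 ≤ 𝔍 := Ideal.pow_le_self two_ne_zero
  have hres_t : residue C t = 0 := (IsLocalRing.residue_eq_zero_iff t).2 ht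
  refine ⟨g.toRingHom, fun x => ?_, fun hcon => ?_⟩
  · have h1 := (IsLocalRing.residue_eq_zero_iff _).2 (hle (hgx x))
    rw [map_sub, map_add, map_mul, hu, hres_t, mul_zero, add_zero, sub_eq_zero] at h1
    exact h1
  · have h1 := hgx a
    have h2 : g a = u a := congrArg (fun f => f a) hcon
    rw [h2] at h1
    have h3 : u (d a) * t ∈ 𝔍 ^ 2 := by
      have : u a - (u a + u (d a) * t) = - (u (d a) * t) := by ring
      rw [this] at h1
      exact (Ideal.neg_mem_iff _).1 h1
    have hunit : IsUnit (u (d a)) := by
      by_contra hnu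
      have : u (d a) ∈ 𝔍 := (IsLocalRing.mem_maximalIdeal _).2 hnu
      have := (IsLocalRing.residue_eq_zero_iff _).2 this
      rw [hu] at this
      exact hda this
    obtain ⟨w, hw⟩ := hunit.exists_left_inv
    apply ht2
    have : t = w * (u (d a) * t) := by rw [← mul_assoc, hw, one_mul]
    rw [this]
    exact Ideal.mul_mem_left _ _ h3

end Exist


section Main

variable {C : Type u} [CommRing C] [IsLocalRing C] [IsNoetherianRing C]
  [IsAdicComplete (maximalIdeal C) C]

theorem formallySmooth_rat (K : Type u) [Field K] [CharZero K] : Algebra.FormallySmooth ℚ K := by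
  obtain ⟨ι, x, hx⟩ := exists_isTranscendenceBasis' ℚ K
  have halg := hx.isAlgebraic_field
  have : Algebra.IsSeparable (IntermediateField.adjoin ℚ (Set.range x)) K := inferInstance
  exact Algebra.FormallySmooth.of_algebraicIndependent_of_isSeparable hx.1

theorem coefficientField_unique_iff (hm : maximalIdeal C ≠ ⊥) (u : ResidueField C →+* C)
    (hu : ∀ x, residue C (u x) = x) :
    (∀ v : ResidueField C →+* C, (∀ x, residue C (v x) = x) → v = u) ↔
      Subsingleton (Ω[ResidueField C⁄ℤ]) := by
  constructor
  · intro huniq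
    by_contra hns
    rw [not_subsingleton_iff_nontrivial] at hns
    obtain ⟨ω, hω⟩ := exists_ne (0 : Ω[ResidueField C⁄ℤ])
    obtain ⟨ℓ, hℓ⟩ : ∃ ℓ : Module.Dual (ResidueField C) (Ω[ResidueField C⁄ℤ]), ℓ ω ≠ 0 := by
      by_contra h
      push Not at h
      exact hω ((Module.forall_dual_apply_eq_zero_iff (ResidueField C) ω).1 h)
    obtain ⟨a, ha⟩ : ∃ a, ℓ (D ℤ (ResidueField C) a) ≠ 0 := by
      by_contra h
      push Not at h
      have key : ∀ z ∈ Submodule.span (ResidueField C) (Set.range (D ℤ (ResidueField C))),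
          ℓ z = 0 := by
        intro z hz
        induction hz using Submodule.span_induction with
        | mem x hx => obtain ⟨b, rfl⟩ := hx; exact h b
        | zero => exact map_zero ℓ
        | add x y _ _ hx hy => rw [map_add, hx, hy, add_zero]
        | smul r x _ hx => rw [map_smul, hx, smul_zero]
      apply hℓ
      apply key
      rw [KaehlerDifferential.span_range_derivation]
      trivial
    have hadd : ∀ x y : ResidueField C, ℓ (D ℤ (ResidueField C) (x + y)) =
        ℓ (D ℤ (ResidueField C) x) + ℓ (D ℤ (ResidueField C) y) := by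
      intro x y
      rw [map_add, map_add]
    have hmul : ∀ x y : ResidueField C, ℓ (D ℤ (ResidueField C) (x * y)) =
        x * ℓ (D ℤ (ResidueField C) y) + y * ℓ (D ℤ (ResidueField C) x) := by
      intro x y
      rw [Derivation.leibniz, map_add, map_smul, map_smul, smul_eq_mul, smul_eq_mul]
    obtain ⟨p, hp⟩ := CharP.exists (ResidueField C)
    rcases CharP.char_is_prime_or_zero (ResidueField C) p with hpp | rfl
    · haveI : Fact p.Prime := ⟨hpp⟩
      letI : Algebra (ZMod p) (ResidueField C) := ZMod.algebra (ResidueField C) p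
      haveI := Groth.Agent.Lib.Helper19.PBasis.formallySmooth_zmod p (ResidueField C)
      obtain ⟨v, hv, hvu⟩ := exists_ne_section_of_derivation (ZMod p)
        (fun S _ f g => Subsingleton.elim f g) hm u hu
        (fun x => ℓ (D ℤ (ResidueField C) x)) hadd hmul a ha
      exact hvu (huniq v hv)
    · haveI : CharZero (ResidueField C) := CharP.charP_to_charZero (ResidueField C)
      haveI := formallySmooth_rat (ResidueField C)
      obtain ⟨v, hv, hvu⟩ := exists_ne_section_of_derivation ℚ
        (fun S _ f g => RingHom.ext_rat f g) hm u hu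
        (fun x => ℓ (D ℤ (ResidueField C) x)) hadd hmul a ha
      exact hvu (huniq v hv)
  · intro h v hv
    exact section_unique_of_subsingleton u v hu hv

end Main

end Groth.Agent.Lib.Helper7.CoefField
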