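import Groth.Agent.Lib.Helper14InvLim

/-! Helper14: inverse limits of `I`-adic systems over a complete base with `M₀` finite
(no finite generation of `I`). -/

namespace Groth.Agent.Lib.Helper14

universe u v

section approx

/-- Successive approximation with coefficients in a precomplete ring. -/
theorem approx_coeff {A : Type*} [CommRing A] {L : Type*} [AddCommGroup L] [Module A L]
    {ι : Type*} [Fintype ι] (I : Ideal A) [IsPrecomplete I A]
    (F : ℕ → Submodule A L) (hF : Antitone F)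
    (hsep : ∀ x, (∀ k, x ∈ F k) → x = 0)
    (hIF : ∀ k, I ^ k • (⊤ : Submodule A L) ≤ F k)
    (l : ι → L)
    (hstep : ∀ k, ∀ z ∈ F k, ∃ e : ι → A, (∀ i, e i ∈ I ^ k) ∧ z - ∑ i, e i • l i ∈ F (k + 1))
    (n : ℕ) (x : L) (hx : x ∈ F n) :
    ∃ c : ι → A, (∀ i, c i ∈ I ^ n) ∧ x = ∑ i, c i • l i := by
  classical
  choose! e he using hstep
  let xs : ℕ → L := fun k => Nat.rec x (fun k z => z - ∑ i, e (n + k) z i • l i) k
  obtain ⟨E, hE⟩ : ∃ E : ℕ → ι → A, ∀ k i, E k i = e (n + k) (xs k) i := ⟨_, fun _ _ => rfl⟩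
  have hxs0 : xs 0 = x := rfl
  have hxsS : ∀ k, xs (k + 1) = xs k - ∑ i, E k i • l i := by
    intro k
    simp only [hE]
    rfl
  have hxsmem : ∀ k, xs k ∈ F (n + k) := by
    intro k
    induction k with
    | zero => exact hx
    | succ k ih =>
      rw [hxsS]
      simp only [hE]
      exact (he (n + k) (xs k) ih).2
  have hes : ∀ k i, E k i ∈ I ^ (n + k) := by
    intro k i
    rw [hE]
    exact (he (n + k) (xs k) (hxsmem k)).1 i
  have hsum : ∀ j, xs j = x - ∑ i, (∑ k ∈ Finset.range j, E k i) • l i := by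
    intro j
    induction j with
    | zero => simp [hxs0]
    | succ j ih =>
      rw [hxsS, ih, sub_sub, ← Finset.sum_add_distrib]
      congr 1
      refine Finset.sum_congr rfl fun i _ => ?_
      rw [Finset.sum_range_succ, add_smul]
  -- partial sums are Cauchy
  have hP : ∀ i, ∃ c : A, ∀ m, (∑ k ∈ Finset.range m, E k i) ≡ c
      [SMOD (I ^ m • ⊤ : Submodule A A)] := by
    intro i
    apply IsPrecomplete.prec' (fun m => ∑ k ∈ Finset.range m, E k i)
    intro m m' hmm'
    rw [SModEq.sub_mem, smul_eq_mul, Ideal.mul_top]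
    rw [← Finset.sum_range_add_sum_Ico _ hmm', sub_add_cancel_left]
    refine (I ^ m).neg_mem (Ideal.sum_mem _ fun k hk => ?_)
    exact Ideal.pow_le_pow_right (by have := (Finset.mem_Ico.mp hk).1; omega) (hes k i)
  choose c hc using hP
  have hc' : ∀ i m, c i - ∑ k ∈ Finset.range m, E k i ∈ I ^ m := by
    intro i m
    have := (hc i m).symm
    rwa [SModEq.sub_mem, smul_eq_mul, Ideal.mul_top] at this
  refine ⟨c, fun i => ?_, ?_⟩
  · have h1 := hc' i n
    have h2 : ∑ k ∈ Finset.range n, E k i ∈ I ^ n :=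
      Ideal.sum_mem _ fun k _ => Ideal.pow_le_pow_right (Nat.le_add_right n k) (hes k i)
    have := (I ^ n).add_mem h1 h2
    simpa using this
  · rw [← sub_eq_zero]
    apply hsep
    intro j
    have e1 : x - ∑ i, c i • l i =
        xs j - ∑ i, (c i - ∑ k ∈ Finset.range j, E k i) • l i := by
      rw [hsum j]
      simp only [sub_smul, Finset.sum_sub_distrib]
      abel
    rw [e1]
    refine (F j).sub_mem (hF (Nat.le_add_left j n) (hxsmem j)) (Submodule.sum_mem _ fun i _ => ?_)
    exact hIF j (Submodule.smul_mem_smul (hc' i j) trivial)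

end approx

section main2

variable {A : Type u} [CommRing A] (I : Ideal A)
  {M : ℕ → Type v} [∀ n, AddCommGroup (M n)] [∀ n, Module A (M n)]
  (f : ∀ n, M (n + 1) →ₗ[A] M n)
  {L : Type v} [AddCommGroup L] [Module A L] (π : ∀ n, L →ₗ[A] M n)

include f in
/-- Nakayama: lifts of generators of `M₀` generate every `M k`. -/
theorem span_proj_eq_top
    (hk : ∀ n, I ^ (n + 1) • (⊤ : Submodule A (M n)) = ⊥)
    (hker : ∀ n, LinearMap.ker (f n) = I ^ (n + 1) • (⊤ : Submodule A (M (n + 1))))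
    (hπ : ∀ n, f n ∘ₗ π (n + 1) = π n) {r : ℕ} (l : Fin r → L)
    (h0 : Submodule.span A (Set.range fun i => π 0 (l i)) = ⊤) :
    ∀ k, Submodule.span A (Set.range fun i => π k (l i)) = ⊤ := by
  intro k
  induction k with
  | zero => exact h0
  | succ k ih =>
    set N := Submodule.span A (Set.range fun i => π (k + 1) (l i)) with hN
    have hmap : Submodule.map (f k) N = ⊤ := by
      rw [hN, Submodule.map_span, ← Set.range_comp, ← ih]
      congr 2
      funext i
      show f k (π (k + 1) (l i)) = π k (l i)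
      rw [← LinearMap.comp_apply, hπ k]
    have htop : (⊤ : Submodule A (M (k + 1))) = N ⊔ I ^ (k + 1) • ⊤ := by
      rw [← hker k, ← Submodule.comap_map_eq, hmap, Submodule.comap_top]
    have hJJ : I ^ (k + 1) • (I ^ (k + 1) • (⊤ : Submodule A (M (k + 1)))) = ⊥ := by
      rw [← Submodule.mul_smul, ← pow_add, eq_bot_iff, ← hk (k + 1)]
      exact Submodule.smul_mono_left (Ideal.pow_le_pow_right (by omega))
    have hJ : I ^ (k + 1) • (⊤ : Submodule A (M (k + 1))) ≤ N := by
      conv_lhs => rw [htop]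
      rw [Submodule.smul_sup, hJJ, sup_bot_eq]
      exact Submodule.smul_le_right
    rw [eq_top_iff, htop]
    exact sup_le le_rfl hJ

include f in
theorem filt_step_coeff (hf : ∀ n, Function.Surjective (f n))
    (hk : ∀ n, I ^ (n + 1) • (⊤ : Submodule A (M n)) = ⊥)
    (hker : ∀ n, LinearMap.ker (f n) = I ^ (n + 1) • (⊤ : Submodule A (M (n + 1))))
    (hπ : ∀ n, f n ∘ₗ π (n + 1) = π n) {r : ℕ} (l : Fin r → L)
    (h0 : Submodule.span A (Set.range fun i => π 0 (l i)) = ⊤)
    (k : ℕ) (z : L) (hz : z ∈ filt π k) :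
    ∃ e : Fin r → A, (∀ i, e i ∈ I ^ k) ∧ z - ∑ i, e i • l i ∈ filt π (k + 1) := by
  have h1 : π k z ∈ I ^ k • (⊤ : Submodule A (M k)) := by
    cases k with
    | zero => rw [pow_zero, Ideal.one_eq_top, Submodule.top_smul]; trivial
    | succ k =>
      have hz' : π k z = 0 := hz
      rw [← hker k, LinearMap.mem_ker, ← LinearMap.comp_apply, hπ k, hz']
  rw [← span_proj_eq_top I f π hk hker hπ l h0 k,
    Submodule.mem_ideal_smul_span_iff_exists_sum] at h1
  obtain ⟨a, ha, hsum⟩ := h1
  refine ⟨fun i => a i, ha, ?_⟩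
  show π k (z - ∑ i, a i • l i) = 0
  rw [map_sub, map_sum, ← hsum, sub_eq_zero, Finsupp.sum_fintype]
  · refine Finset.sum_congr rfl fun i _ => ?_
    rw [map_smul]
  · intro i
    exact zero_smul _ _

include f in
theorem exists_coeff_of_mem_filt [IsPrecomplete I A] (hf : ∀ n, Function.Surjective (f n))
    (hk : ∀ n, I ^ (n + 1) • (⊤ : Submodule A (M n)) = ⊥)
    (hker : ∀ n, LinearMap.ker (f n) = I ^ (n + 1) • (⊤ : Submodule A (M (n + 1))))
    (hπ : ∀ n, f n ∘ₗ π (n + 1) = π n)
    (hinj : ∀ x : L, (∀ n, π n x = 0) → x = 0) {r : ℕ} (l : Fin r → L)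
    (h0 : Submodule.span A (Set.range fun i => π 0 (l i)) = ⊤)
    (n : ℕ) (x : L) (hx : x ∈ filt π n) :
    ∃ c : Fin r → A, (∀ i, c i ∈ I ^ n) ∧ x = ∑ i, c i • l i :=
  approx_coeff I (filt π) (filt_antitone f π hπ) (filt_sep π hinj)
    (pow_smul_top_le_filt I f π hf hker) l (filt_step_coeff I f π hf hk hker hπ l h0) n x hx

include f in
theorem invLim_complete_base [IsPrecomplete I A] (hf : ∀ n, Function.Surjective (f n))
    (hk : ∀ n, I ^ (n + 1) • (⊤ : Submodule A (M n)) = ⊥)
    (hker : ∀ n, LinearMap.ker (f n) = I ^ (n + 1) • (⊤ : Submodule A (M (n + 1))))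
    (hπ : ∀ n, f n ∘ₗ π (n + 1) = π n)
    (hinj : ∀ x : L, (∀ n, π n x = 0) → x = 0)
    (hlift : ∀ y : (∀ n, M n), (∀ n, f n (y (n + 1)) = y n) → ∃ x : L, ∀ n, π n x = y n)
    [h0 : Module.Finite A (M 0)] :
    Module.Finite A L ∧ IsAdicComplete I L ∧
      ∀ n, Function.Surjective (π n) ∧
        LinearMap.ker (π n) = I ^ (n + 1) • (⊤ : Submodule A L) := by
  obtain ⟨r, g, hg⟩ := Module.Finite.exists_fin (R := A) (M := M 0)
  have hsurj := proj_surjective f π hf hlift
  choose l hl using fun j => hsurj 0 (g j)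
  have hspan : Submodule.span A (Set.range fun i => π 0 (l i)) = ⊤ := by
    rw [← hg]; congr 2; funext i; exact hl i
  have hkerπ : ∀ n, LinearMap.ker (π n) = I ^ (n + 1) • (⊤ : Submodule A L) := by
    intro n
    refine le_antisymm ?_ (pow_smul_top_le_ker I f π hf hker n)
    intro x hx
    obtain ⟨c, hc, rfl⟩ := exists_coeff_of_mem_filt I f π hf hk hker hπ hinj l hspan (n + 1) x hx
    exact Submodule.sum_mem _ fun i _ => Submodule.smul_mem_smul (hc i) trivial
  refine ⟨?_, isAdicComplete_of_invLim_of_ker I f π hf hker hπ hinj hlift hkerπ,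
    fun n => ⟨hsurj n, hkerπ n⟩⟩
  apply Module.Finite.of_surjective (Fintype.linearCombination A l)
  intro x
  obtain ⟨c, -, rfl⟩ := exists_coeff_of_mem_filt I f π hf hk hker hπ hinj l hspan 0 x trivial
  exact ⟨c, by simp [Fintype.linearCombination_apply]⟩

end main2

end Groth.Agent.Lib.Helper14
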