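import Mathlib
import Groth.Agent.Lib.Helper14InvLim2

/-!
# Completed modules of differentials (helper7)

* `finite_of_isHausdorff_of_finite_quotient`: complete Nakayama.
* `finite_adicCompletion_kaehler`: EGA 0_IV 20.7.15-type finiteness of `Ω̂_{A/k}`.
-/

set_option autoImplicit false
set_option linter.style.haveILetI false
universe u

open TensorProduct IsLocalRing

namespace Groth.Agent.Lib.Helper7.ComplKaehler

section Nakayama

/-- **Complete Nakayama**: a Hausdorff module over a precomplete ring which is generated modulo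
`I` by finitely many elements is generated by them. -/
theorem finite_of_isHausdorff_of_finite_quotient {A : Type*} [CommRing A] (I : Ideal A)
    [IsPrecomplete I A] {L : Type*} [AddCommGroup L] [Module A L] [IsHausdorff I L]
    {r : ℕ} (l : Fin r → L)
    (hl : ∀ y : L, ∃ c : Fin r → A, y - ∑ i, c i • l i ∈ I • (⊤ : Submodule A L)) :
    Module.Finite A L := by
  have hstep : ∀ k, ∀ z ∈ I ^ k • (⊤ : Submodule A L), ∃ e : Fin r → A, (∀ i, e i ∈ I ^ k) ∧
      z - ∑ i, e i • l i ∈ I ^ (k + 1) • (⊤ : Submodule A L) := by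
    intro k z hz
    refine Submodule.smul_induction_on hz ?_ ?_
    · intro a ha y _
      obtain ⟨c, hc⟩ := hl y
      refine ⟨fun i => a * c i, fun i => Ideal.mul_mem_right _ _ ha, ?_⟩
      have : a • y - ∑ i, (a * c i) • l i = a • (y - ∑ i, c i • l i) := by
        rw [smul_sub, Finset.smul_sum]
        simp only [mul_smul]
      rw [this, pow_succ, Submodule.mul_smul]
      exact Submodule.smul_mem_smul ha hc
    · intro x y hx hy
      obtain ⟨e, he, hx⟩ := hx
      obtain ⟨e', he', hy⟩ := hy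
      refine ⟨fun i => e i + e' i, fun i => Ideal.add_mem _ (he i) (he' i), ?_⟩
      have : x + y - ∑ i, (e i + e' i) • l i =
          (x - ∑ i, e i • l i) + (y - ∑ i, e' i • l i) := by
        simp only [add_smul, Finset.sum_add_distrib]
        abel
      rw [this]
      exact Submodule.add_mem _ hx hy
  have key := Groth.Agent.Lib.Helper14.approx_coeff I
    (fun k => I ^ k • (⊤ : Submodule A L))
    (fun a b hab => Submodule.smul_mono_left (Ideal.pow_le_pow_right hab))
    (fun x hx => IsHausdorff.haus' (I := I) x (fun n => by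
      rw [SModEq.zero]; exact hx n))
    (fun k => le_rfl) l hstep 0
  apply Module.Finite.of_surjective (Fintype.linearCombination A l)
  intro x
  obtain ⟨c, -, rfl⟩ := key x (by simp)
  exact ⟨c, by simp [Fintype.linearCombination_apply]⟩

end Nakayama

section Kaehler

variable {k A : Type u} [Field k] [CommRing A] [IsLocalRing A] [IsNoetherianRing A] [Algebra k A]

/-- `K ⊗ Ω_{A/k}` is finite when `K/k` is essentially of finite type -/
theorem finite_residueField_tensor_kaehler [Algebra.EssFiniteType k (ResidueField A)] :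
    Module.Finite A (ResidueField A ⊗[A] Ω[A⁄k]) := by
  have hsurj : Function.Surjective (algebraMap A (ResidueField A)) := residue_surjective
  haveI : Module.Finite A (ResidueField A) := Module.Finite.of_surjective
    (Algebra.linearMap A (ResidueField A)) hsurj
  haveI : Module.Finite A Ω[ResidueField A⁄k] := Module.Finite.trans (ResidueField A) _
  let g : ResidueField A ⊗[A] Ω[A⁄k] →ₗ[A] Ω[ResidueField A⁄k] :=
    (KaehlerDifferential.mapBaseChange k A (ResidueField A)).restrictScalars A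
  have hg : Function.Surjective g := KaehlerDifferential.mapBaseChange_surjective k A _ hsurj
  have hker : LinearMap.ker g =
      LinearMap.range (KaehlerDifferential.kerCotangentToTensor k A (ResidueField A)) := by
    rw [KaehlerDifferential.range_kerCotangentToTensor k A _ hsurj]
    rfl
  refine ⟨Submodule.fg_of_fg_map_of_fg_inf_ker g ?_ ?_⟩
  · rw [Submodule.map_top, LinearMap.range_eq_top.2 hg]
    exact Module.Finite.fg_top
  · haveI : Module.Finite A (RingHom.ker (algebraMap A (ResidueField A))) :=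
      Module.IsNoetherian.finite _ _
    haveI : Module.Finite A (RingHom.ker (algebraMap A (ResidueField A))).Cotangent :=
      Module.Finite.of_surjective _ (Ideal.toCotangent_surjective _)
    rw [top_inf_eq, hker, LinearMap.range_eq_map]
    exact Submodule.FG.map _ Module.Finite.fg_top

/-- **EGA 0_IV 20.7.15 (finiteness)**: the completed module of differentials of a complete
Noetherian local `k`-algebra with residue field essentially of finite type over `k` is finite. -/
theorem finite_adicCompletion_kaehler [IsAdicComplete (maximalIdeal A) A]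
    [Algebra.EssFiniteType k (ResidueField A)] :
    Module.Finite A (AdicCompletion (maximalIdeal A) (Ω[A⁄k])) := by
  have hfg : (maximalIdeal A).FG := (isNoetherianRing_iff_ideal_fg A).1 inferInstance _
  haveI := AdicCompletion.isAdicComplete (I := maximalIdeal A) (M := Ω[A⁄k]) hfg
  haveI h1 : Module.Finite A (ResidueField A ⊗[A] Ω[A⁄k]) := finite_residueField_tensor_kaehler
  haveI h2 : Module.Finite A (Ω[A⁄k] ⧸ (maximalIdeal A • ⊤ : Submodule A Ω[A⁄k])) :=
    @Module.Finite.equiv A _ _ _ _ _ _ _ h1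
      (TensorProduct.quotTensorEquivQuotSMul Ω[A⁄k] (maximalIdeal A))
  haveI h3 : Module.Finite A (Ω[A⁄k] ⧸ (maximalIdeal A ^ 1 • ⊤ : Submodule A Ω[A⁄k])) :=
    Module.Finite.equiv (Submodule.quotEquivOfEq _ _ (by rw [pow_one]))
  obtain ⟨r, g, hg⟩ := Module.Finite.exists_fin (R := A)
    (M := Ω[A⁄k] ⧸ (maximalIdeal A ^ 1 • ⊤ : Submodule A Ω[A⁄k]))
  choose l hl using fun i => AdicCompletion.eval_surjective (maximalIdeal A) Ω[A⁄k] 1 (g i)
  refine finite_of_isHausdorff_of_finite_quotient (maximalIdeal A) l (fun y => ?_)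
  have hy : AdicCompletion.eval (maximalIdeal A) Ω[A⁄k] 1 y ∈ Submodule.span A (Set.range g) := by
    rw [hg]; trivial
  obtain ⟨c, hc⟩ := (Submodule.mem_span_range_iff_exists_fun A).1 hy
  refine ⟨c, ?_⟩
  have hker := AdicCompletion.pow_smul_top_eq_ker_eval (I := maximalIdeal A) (M := Ω[A⁄k])
    (n := 1) hfg
  have h1' : (maximalIdeal A • ⊤ : Submodule A (AdicCompletion (maximalIdeal A) Ω[A⁄k])) =
      maximalIdeal A ^ 1 • ⊤ := by rw [pow_one]
  rw [h1', hker, LinearMap.mem_ker, map_sub, map_sum, ← hc, sub_eq_zero]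
  refine Finset.sum_congr rfl fun i _ => ?_
  rw [map_smul, hl]

end Kaehler

section Adic

variable {A B : Type u} [CommRing A] [CommRing B] [Algebra A B] (𝔫 : Ideal B)

/-- an ideal of definition of a complete ring with `𝔫/𝔫²` finite is finitely generated -/
theorem fg_of_isAdicComplete_of_finite_cotangent [IsAdicComplete 𝔫 B]
    [Module.Finite (B ⧸ 𝔫) 𝔫.Cotangent] : 𝔫.FG := by
  haveI : IsHausdorff 𝔫 ↥𝔫 := by
    refine ⟨fun x hx => ?_⟩
    apply Subtype.ext
    refine IsHausdorff.haus' (I := 𝔫) (x : B) (fun k => ?_)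
    have h1 := hx k
    rw [SModEq.zero] at h1 ⊢
    have h2 : Submodule.map 𝔫.subtype (𝔫 ^ k • (⊤ : Submodule B ↥𝔫)) ≤
        𝔫 ^ k • (⊤ : Submodule B B) := by
      rw [Submodule.map_smul'']
      exact Submodule.smul_mono le_rfl le_top
    exact h2 ⟨x, h1, rfl⟩
  haveI : Module.Finite B (B ⧸ 𝔫) := Module.Finite.of_surjective
    (Algebra.linearMap B (B ⧸ 𝔫)) Ideal.Quotient.mk_surjective
  haveI : Module.Finite B 𝔫.Cotangent := Module.Finite.trans (B ⧸ 𝔫) _
  obtain ⟨r, g, hg⟩ := Module.Finite.exists_fin (R := B) (M := 𝔫.Cotangent)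
  choose l hl using fun i => Ideal.toCotangent_surjective 𝔫 (g i)
  haveI := finite_of_isHausdorff_of_finite_quotient 𝔫 l (fun y => by
    have hy : 𝔫.toCotangent y ∈ Submodule.span B (Set.range g) := by rw [hg]; trivial
    obtain ⟨c, hc⟩ := (Submodule.mem_span_range_iff_exists_fun B).1 hy
    refine ⟨c, ?_⟩
    have : 𝔫.toCotangent (y - ∑ i, c i • l i) = 0 := by
      rw [map_sub, map_sum, ← hc, sub_eq_zero]
      refine Finset.sum_congr rfl fun i _ => ?_
      rw [map_smul, hl]
    exact (Submodule.Quotient.mk_eq_zero (𝔫 • ⊤ : Submodule B ↥𝔫)).1 this)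
  exact (Submodule.fg_top 𝔫).1 Module.Finite.fg_top

/-- **EGA 0_IV 20.7.15**: if `Ω_{B₀/A}` and `𝔫/𝔫²` are finite over `B₀ = B/𝔫` and `B` is
`𝔫`-adically complete then `Ω̂_{B/A}` is finite over `B`. -/
theorem finite_adicCompletion_kaehler_of_adic [IsAdicComplete 𝔫 B]
    [Module.Finite (B ⧸ 𝔫) (Ω[B ⧸ 𝔫⁄A])] [Module.Finite (B ⧸ 𝔫) 𝔫.Cotangent] :
    Module.Finite B (AdicCompletion 𝔫 (Ω[B⁄A])) := by
  have hfg : 𝔫.FG := fg_of_isAdicComplete_of_finite_cotangent 𝔫
  haveI := AdicCompletion.isAdicComplete (I := 𝔫) (M := Ω[B⁄A]) hfg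
  have hsurj : Function.Surjective (algebraMap B (B ⧸ 𝔫)) := Ideal.Quotient.mk_surjective
  haveI : Module.Finite B (B ⧸ 𝔫) := Module.Finite.of_surjective
    (Algebra.linearMap B (B ⧸ 𝔫)) hsurj
  haveI : Module.Finite B Ω[B ⧸ 𝔫⁄A] := Module.Finite.trans (B ⧸ 𝔫) _
  have h1 : Module.Finite B ((B ⧸ 𝔫) ⊗[B] Ω[B⁄A]) := by
    let g : (B ⧸ 𝔫) ⊗[B] Ω[B⁄A] →ₗ[B] Ω[B ⧸ 𝔫⁄A] :=
      (KaehlerDifferential.mapBaseChange A B (B ⧸ 𝔫)).restrictScalars B
    have hg : Function.Surjective g := KaehlerDifferential.mapBaseChange_surjective A B _ hsurj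
    have hker : LinearMap.ker g =
        LinearMap.range (KaehlerDifferential.kerCotangentToTensor A B (B ⧸ 𝔫)) := by
      rw [KaehlerDifferential.range_kerCotangentToTensor A B _ hsurj]
      rfl
    refine ⟨Submodule.fg_of_fg_map_of_fg_inf_ker g ?_ ?_⟩
    · rw [Submodule.map_top, LinearMap.range_eq_top.2 hg]
      exact Module.Finite.fg_top
    · have hk : RingHom.ker (algebraMap B (B ⧸ 𝔫)) = 𝔫 := by
        rw [Ideal.Quotient.algebraMap_eq, Ideal.mk_ker]
      haveI : Module.Finite B (RingHom.ker (algebraMap B (B ⧸ 𝔫))) := by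
        rw [hk]; exact Module.Finite.of_fg hfg
      haveI : Module.Finite B (RingHom.ker (algebraMap B (B ⧸ 𝔫))).Cotangent :=
        Module.Finite.of_surjective _ (Ideal.toCotangent_surjective _)
      rw [top_inf_eq, hker, LinearMap.range_eq_map]
      exact Submodule.FG.map _ Module.Finite.fg_top
  haveI h2 : Module.Finite B (Ω[B⁄A] ⧸ (𝔫 • ⊤ : Submodule B Ω[B⁄A])) :=
    @Module.Finite.equiv B _ _ _ _ _ _ _ h1 (TensorProduct.quotTensorEquivQuotSMul Ω[B⁄A] 𝔫)
  haveI h3 : Module.Finite B (Ω[B⁄A] ⧸ (𝔫 ^ 1 • ⊤ : Submodule B Ω[B⁄A])) :=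
    Module.Finite.equiv (Submodule.quotEquivOfEq _ _ (by rw [pow_one]))
  obtain ⟨r, g, hg⟩ := Module.Finite.exists_fin (R := B)
    (M := Ω[B⁄A] ⧸ (𝔫 ^ 1 • ⊤ : Submodule B Ω[B⁄A]))
  choose l hl using fun i => AdicCompletion.eval_surjective 𝔫 Ω[B⁄A] 1 (g i)
  refine finite_of_isHausdorff_of_finite_quotient 𝔫 l (fun y => ?_)
  have hy : AdicCompletion.eval 𝔫 Ω[B⁄A] 1 y ∈ Submodule.span B (Set.range g) := by
    rw [hg]; trivial
  obtain ⟨c, hc⟩ := (Submodule.mem_span_range_iff_exists_fun B).1 hy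
  refine ⟨c, ?_⟩
  have hker := AdicCompletion.pow_smul_top_eq_ker_eval (I := 𝔫) (M := Ω[B⁄A]) (n := 1) hfg
  have h1' : (𝔫 • ⊤ : Submodule B (AdicCompletion 𝔫 Ω[B⁄A])) = 𝔫 ^ 1 • ⊤ := by rw [pow_one]
  rw [h1', hker, LinearMap.mem_ker, map_sub, map_sum, ← hc, sub_eq_zero]
  refine Finset.sum_congr rfl fun i _ => ?_
  rw [map_smul, hl]

end Adic

end Groth.Agent.Lib.Helper7.ComplKaehler
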