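import Mathlib
import Groth.Agent.Lib.Helper19CoeffField
import Groth.Agent.Lib.Helper7CoefField
import Groth.Agent.Lib.Helper7Cartier2
import Groth.Agent.Lib.Helper7ComplKaehler
import Groth.Agent.Lib.Helper19ImperfFinite
import Groth.Agent.Lib.Helper19FSGeomReg

/-!
# The rank of `K ⊗ Ω_{A/k₀}` for a formally smooth Noetherian local algebra over a field
(EGA 0_IV 22.2.?; towards S2476) (helper19)
-/

set_option autoImplicit false
set_option linter.style.haveILetI false
set_option linter.unusedSectionVars false
universe u v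

namespace Groth.Agent.Lib.Helper19.CKRank

open IsLocalRing TensorProduct KaehlerDifferential

/-- dimension count in the diagram used for the completed module of differentials -/
theorem finrank_add_of_diagram {K X X' Y W Z Q : Type*} [Field K]
    [AddCommGroup X] [Module K X] [AddCommGroup X'] [Module K X'] [AddCommGroup Y] [Module K Y]
    [AddCommGroup W] [Module K W] [AddCommGroup Z] [Module K Z] [AddCommGroup Q] [Module K Q]
    (α : X →ₗ[K] Y) (π : Y →ₗ[K] W) (β : Y →ₗ[K] Z) (m : X' →ₗ[K] Z) (e : X ≃ₗ[K] X')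
    (q : Z →ₗ[K] Q)
    (hα : Function.Injective α) (hπ : Function.Surjective π) (hαπ : Function.Exact α π)
    (hβ : Function.Surjective β) (hcomm : β ∘ₗ α = m ∘ₗ e.toLinearMap)
    (hq : Function.Surjective q) (hmq : Function.Exact m q)
    [FiniteDimensional K W] [FiniteDimensional K (LinearMap.ker β)] :
    Module.finrank K W + Module.finrank K (LinearMap.ker m) =
      Module.finrank K Q + Module.finrank K (LinearMap.ker β) := by
  have hc : ∀ x, β (α x) = m (e x) := fun x => LinearMap.congr_fun hcomm x
  obtain ⟨s, hs⟩ := LinearMap.exists_rightInverse_of_surjective π (LinearMap.range_eq_top.2 hπ)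
  have hs' : ∀ w, π (s w) = w := fun w => LinearMap.congr_fun hs w
  let θ : LinearMap.ker β →ₗ[K] W := π ∘ₗ (LinearMap.ker β).subtype
  let βb : W →ₗ[K] Q := q ∘ₗ β ∘ₗ s
  have hβb : ∀ y, βb (π y) = q (β y) := by
    intro y
    have h1 : π (s (π y) - y) = 0 := by rw [map_sub, hs', sub_self]
    obtain ⟨x, hx⟩ := (hαπ _).1 h1
    have h2 : q (β (s (π y) - y)) = 0 := by
      rw [← hx, hc]
      exact (hmq _).2 ⟨_, rfl⟩
    rw [map_sub, map_sub, sub_eq_zero] at h2
    exact h2
  have hβbs : Function.Surjective βb := by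
    intro z'
    obtain ⟨z, rfl⟩ := hq z'
    obtain ⟨y, rfl⟩ := hβ z
    exact ⟨π y, hβb y⟩
  have hker : LinearMap.ker βb = LinearMap.range θ := by
    ext w
    rw [LinearMap.mem_ker, LinearMap.mem_range]
    constructor
    · intro hw
      obtain ⟨y, rfl⟩ := hπ w
      rw [hβb] at hw
      obtain ⟨x', hx'⟩ := (hmq _).1 hw
      obtain ⟨x, rfl⟩ := e.surjective x'
      rw [← hc] at hx'
      refine ⟨⟨y - α x, ?_⟩, ?_⟩
      · rw [LinearMap.mem_ker, map_sub, hx', sub_self]
      · change π (y - α x) = π y
        rw [map_sub, (hαπ _).2 ⟨x, rfl⟩, sub_zero]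
    · rintro ⟨u, rfl⟩
      change βb (π u.1) = 0
      rw [hβb, LinearMap.mem_ker.1 u.2, map_zero]
  let ι : LinearMap.ker m →ₗ[K] LinearMap.ker θ :=
    LinearMap.codRestrict _ (LinearMap.codRestrict _ (α ∘ₗ e.symm.toLinearMap ∘ₗ
      (LinearMap.ker m).subtype) (fun x => by
        rw [LinearMap.mem_ker]
        change β (α (e.symm x.1)) = 0
        rw [hc, e.apply_symm_apply]
        exact x.2)) (fun x => by
        rw [LinearMap.mem_ker]
        change π (α (e.symm x.1)) = 0
        exact (hαπ _).2 ⟨_, rfl⟩)
  have hι : Function.Bijective ι := by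
    constructor
    · intro a b hab
      have h1 := congrArg (fun v : LinearMap.ker θ => (v.1.1 : Y)) hab
      exact Subtype.ext (e.symm.injective (hα h1))
    · intro u
      have hu : π u.1.1 = 0 := u.2
      obtain ⟨x, hx⟩ := (hαπ _).1 hu
      have hm : m (e x) = 0 := by
        rw [← hc, hx]
        exact u.1.2
      refine ⟨⟨e x, hm⟩, ?_⟩
      apply Subtype.ext
      apply Subtype.ext
      change α (e.symm (e x)) = u.1.1
      rw [e.symm_apply_apply, hx]
  have h1 := LinearMap.finrank_range_add_finrank_ker θ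
  have h2 := LinearMap.finrank_range_add_finrank_ker βb
  have h3 : Module.finrank K (LinearMap.range βb) = Module.finrank K Q := by
    rw [LinearMap.range_eq_top.2 hβbs, finrank_top]
  have h4 : Module.finrank K (LinearMap.ker m) = Module.finrank K (LinearMap.ker θ) :=
    (LinearEquiv.ofBijective ι hι).finrank_eq
  rw [hker] at h2
  omega


/-- ring section of `A/I² → K` from a formally smooth base -/
theorem exists_section_sq {F : Type v} [CommRing F] {A K : Type u} [CommRing A] [Field K]
    [Algebra A K] [Algebra F K] [Algebra.FormallySmooth F K]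
    (hs : Function.Surjective (algebraMap A K)) (ψ : F →+* A)
    (hψ : ∀ r, algebraMap A K (ψ r) = algebraMap F K r) :
    ∃ g : K →ₐ[ℤ] A ⧸ (RingHom.ker (algebraMap A K)) ^ 2,
      (IsScalarTower.toAlgHom ℤ A K).kerSquareLift.comp g = AlgHom.id ℤ K := by
  let πa : A ⧸ (RingHom.ker (algebraMap A K)) ^ 2 →ₐ[ℤ] K :=
    (IsScalarTower.toAlgHom ℤ A K).kerSquareLift
  let π : A ⧸ (RingHom.ker (algebraMap A K)) ^ 2 →+* K := (πa : _ →+* K)
  have hπmk : ∀ a, π (Ideal.Quotient.mk _ a) = algebraMap A K a := fun a => rfl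
  have hπ : Function.Surjective π := by
    intro x
    obtain ⟨a, rfl⟩ := hs x
    exact ⟨Ideal.Quotient.mk _ a, hπmk a⟩
  have hnil : IsNilpotent (RingHom.ker π) := by
    refine ⟨2, ?_⟩
    have hle : RingHom.ker π ≤ (RingHom.ker (algebraMap A K)).map
        (Ideal.Quotient.mk ((RingHom.ker (algebraMap A K)) ^ 2)) := by
      intro x hx
      obtain ⟨a, rfl⟩ := Ideal.Quotient.mk_surjective x
      rw [RingHom.mem_ker, hπmk] at hx
      exact Ideal.mem_map_of_mem _ hx
    rw [Ideal.zero_eq_bot, eq_bot_iff]
    refine (Ideal.pow_right_mono hle 2).trans ?_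
    rw [← Ideal.map_pow, Ideal.map_quotient_self]
  obtain ⟨σ, hσ, -⟩ := Groth.Agent.Lib.Helper19.exists_section_of_formallySmooth
    ((Ideal.Quotient.mk _).comp ψ) π hπ hnil (fun r => by
      rw [RingHom.comp_apply, hπmk, hψ])
  refine ⟨σ.toIntAlgHom, ?_⟩
  ext x
  exact RingHom.congr_fun hσ x

/-- the conormal map `I/I² → K ⊗ Ω_{A/ℤ}` is injective when `A` contains a field -/
theorem injective_kerCotangentToTensor {k₀ A K : Type u} [Field k₀] [CommRing A] [Algebra k₀ A]
    [Field K] [Algebra A K] [Algebra k₀ K] [IsScalarTower k₀ A K]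
    (hs : Function.Surjective (algebraMap A K)) :
    Function.Injective (kerCotangentToTensor ℤ A K) := by
  have key : ∃ g : K →ₐ[ℤ] A ⧸ (RingHom.ker (algebraMap A K)) ^ 2,
      (IsScalarTower.toAlgHom ℤ A K).kerSquareLift.comp g = AlgHom.id ℤ K := by
    obtain ⟨p, hp⟩ := CharP.exists k₀
    rcases CharP.char_is_prime_or_zero k₀ p with hpp | rfl
    · haveI : Fact p.Prime := ⟨hpp⟩
      letI : Algebra (ZMod p) k₀ := ZMod.algebra k₀ p
      letI : Algebra (ZMod p) K := ((algebraMap k₀ K).comp (algebraMap (ZMod p) k₀)).toAlgebra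
      haveI : Algebra.FormallySmooth (ZMod p) K := PBasis.formallySmooth_zmod p K
      refine exists_section_sq (F := ZMod p) hs ((algebraMap k₀ A).comp (algebraMap (ZMod p) k₀))
        (fun r => ?_)
      rw [RingHom.comp_apply, ← IsScalarTower.algebraMap_apply k₀ A K]
      rfl
    · haveI : CharZero k₀ := CharP.charP_to_charZero k₀
      haveI : CharZero K := charZero_of_injective_algebraMap (algebraMap k₀ K).injective
      haveI : Algebra.FormallySmooth ℚ K := Groth.Agent.Lib.Helper7.CoefField.formallySmooth_rat K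
      refine exists_section_sq (F := ℚ) hs ((algebraMap k₀ A).comp (algebraMap ℚ k₀))
        (fun r => ?_)
      rw [RingHom.comp_apply, ← IsScalarTower.algebraMap_apply k₀ A K]
      exact RingHom.congr_fun (Subsingleton.elim ((algebraMap k₀ K).comp (algebraMap ℚ k₀))
        (algebraMap ℚ K)) r
  obtain ⟨g, hg⟩ := key
  obtain ⟨l, hl⟩ := (retractionKerCotangentToTensorEquivSection (R := ℤ) hs).symm ⟨g, hg⟩
  intro a b hab
  have := congrArg l hab
  rwa [← LinearMap.comp_apply, ← LinearMap.comp_apply, hl] at this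


/-- the dimension of the kernel of `K ⊗ Ω_{A/ℤ} → Ω_{K/ℤ}` is that of `I/I²` -/
theorem finrank_ker_mapBaseChange {k₀ A K : Type u} [Field k₀] [CommRing A] [Algebra k₀ A]
    [Field K] [Algebra A K] [Algebra k₀ K] [IsScalarTower k₀ A K]
    (hs : Function.Surjective (algebraMap A K)) (I : Ideal A)
    (hI : I = RingHom.ker (algebraMap A K)) :
    Module.finrank K (LinearMap.ker (KaehlerDifferential.mapBaseChange ℤ A K)) =
      Module.finrank (A ⧸ I) I.Cotangent := by
  subst hI
  have hex := KaehlerDifferential.exact_kerCotangentToTensor_mapBaseChange ℤ A K hs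
  have hinj := injective_kerCotangentToTensor (k₀ := k₀) hs
  let f : (RingHom.ker (algebraMap A K)).Cotangent →+
      LinearMap.ker (KaehlerDifferential.mapBaseChange ℤ A K) :=
    (kerCotangentToTensor ℤ A K).toAddMonoidHom.codRestrict _ (fun x => by
      rw [LinearMap.mem_ker]
      exact (hex _).2 ⟨x, rfl⟩)
  have hf : Function.Bijective f := by
    constructor
    · intro a b hab
      exact hinj (congrArg Subtype.val hab)
    · intro y
      obtain ⟨x, hx⟩ := (hex _).1 y.2
      exact ⟨x, Subtype.ext hx⟩
  let i : A ⧸ RingHom.ker (algebraMap A K) → K :=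
    Ideal.Quotient.lift _ (algebraMap A K) (fun a ha => ha)
  have hi : Function.Bijective i := by
    constructor
    · exact RingHom.kerLift_injective (algebraMap A K)
    · intro x
      obtain ⟨a, rfl⟩ := hs x
      exact ⟨Ideal.Quotient.mk _ a, rfl⟩
  have key := rank_eq_of_equiv_equiv i (AddEquiv.ofBijective f hf) hi (fun r m => by
    obtain ⟨a, rfl⟩ := Ideal.Quotient.mk_surjective r
    apply Subtype.ext
    change kerCotangentToTensor ℤ A K (Ideal.Quotient.mk _ a • m) =
      algebraMap A K a • kerCotangentToTensor ℤ A K m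
    rw [algebraMap_smul, ← map_smul]
    rfl)
  exact (congrArg Cardinal.toNat key).symm

/-- **The rank of `K ⊗ Ω_{A/k₀}`** for a formally smooth Noetherian local `k₀`-algebra with
residue field essentially of finite type: `dim A + trdeg_{k₀} K`. -/
theorem finrank_residueField_tensor_kaehler {k₀ A : Type u} [Field k₀] [CommRing A]
    [IsLocalRing A] [IsNoetherianRing A] [Algebra k₀ A]
    (hfs : CAlgX.IsAdicFormallySmooth k₀ A (maximalIdeal A))
    [Algebra.EssFiniteType k₀ (ResidueField A)] :
    Module.Finite (ResidueField A) (ResidueField A ⊗[A] Ω[A⁄k₀]) ∧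
      (Module.finrank (ResidueField A) (ResidueField A ⊗[A] Ω[A⁄k₀]) : WithBot ℕ∞) =
        ringKrullDim A + (Cardinal.toNat (Algebra.trdeg k₀ (ResidueField A)) : WithBot ℕ∞) := by
  have hs : Function.Surjective (algebraMap A (ResidueField A)) := residue_surjective
  have hK : ∀ x ∈ maximalIdeal A, algebraMap A (ResidueField A) x = 0 := fun x hx =>
    (residue_eq_zero_iff x).2 hx
  haveI hWA : Module.Finite A (ResidueField A ⊗[A] Ω[A⁄k₀]) :=
    Groth.Agent.Lib.Helper7.ComplKaehler.finite_residueField_tensor_kaehler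
  haveI hW : Module.Finite (ResidueField A) (ResidueField A ⊗[A] Ω[A⁄k₀]) :=
    Module.Finite.of_restrictScalars_finite A _ _
  refine ⟨hW, ?_⟩
  haveI : FiniteDimensional (ResidueField A)
      (LinearMap.ker (KaehlerDifferential.mapBaseChange ℤ A (ResidueField A))) :=
    GR.finite_ker_mapBaseChange (A := A) (K := ResidueField A) hs
  have hinj : Function.Injective (LinearMap.baseChange (ResidueField A)
      (KaehlerDifferential.mapBaseChange ℤ k₀ A)) := by
    intro a b hab
    apply GR.injective_lTensor_of_extensionK (GR.exists_derivation_extensionK hK hfs)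
    rw [← LinearMap.baseChange_eq_ltensor]
    exact hab
  have hcomm : (KaehlerDifferential.mapBaseChange ℤ A (ResidueField A)) ∘ₗ
      (LinearMap.baseChange (ResidueField A) (KaehlerDifferential.mapBaseChange ℤ k₀ A)) =
      (KaehlerDifferential.mapBaseChange ℤ k₀ (ResidueField A)) ∘ₗ
        (AlgebraTensorModule.cancelBaseChange k₀ A (ResidueField A) (ResidueField A)
          Ω[k₀⁄ℤ]).toLinearMap := by
    ext c
    simp only [AlgebraTensorModule.curry_apply, LinearMap.restrictScalars_comp, curry_apply,
      LinearMap.coe_comp, LinearMap.coe_restrictScalars, Function.comp_apply,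
      Derivation.coe_comp, LinearMap.baseChange_tmul,
      KaehlerDifferential.mapBaseChange_tmul, one_smul, LinearEquiv.coe_coe,
      AlgebraTensorModule.cancelBaseChange_tmul]
    change KaehlerDifferential.map ℤ ℤ A (ResidueField A) (KaehlerDifferential.map ℤ ℤ k₀ A
      (KaehlerDifferential.D ℤ k₀ c)) = KaehlerDifferential.map ℤ ℤ k₀ (ResidueField A)
      (KaehlerDifferential.D ℤ k₀ c)
    rw [KaehlerDifferential.map_D, KaehlerDifferential.map_D, KaehlerDifferential.map_D,
      ← IsScalarTower.algebraMap_apply]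
  have hex0 := KaehlerDifferential.exact_mapBaseChange_map ℤ k₀ A
  have hsurj0 : Function.Surjective (KaehlerDifferential.map ℤ k₀ A A) :=
    KaehlerDifferential.map_surjective ℤ k₀ A
  have hπ : Function.Surjective (LinearMap.baseChange (ResidueField A)
      (KaehlerDifferential.map ℤ k₀ A A)) := by
    rw [LinearMap.baseChange_eq_ltensor]
    exact LinearMap.lTensor_surjective _ hsurj0
  have hαπ : Function.Exact (LinearMap.baseChange (ResidueField A)
      (KaehlerDifferential.mapBaseChange ℤ k₀ A)) (LinearMap.baseChange (ResidueField A)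
      (KaehlerDifferential.map ℤ k₀ A A)) := by
    have := lTensor_exact (ResidueField A) hex0 hsurj0
    rw [LinearMap.baseChange_eq_ltensor, LinearMap.baseChange_eq_ltensor]
    exact this
  have hmain := finrank_add_of_diagram
    (LinearMap.baseChange (ResidueField A) (KaehlerDifferential.mapBaseChange ℤ k₀ A))
    (LinearMap.baseChange (ResidueField A) (KaehlerDifferential.map ℤ k₀ A A))
    (KaehlerDifferential.mapBaseChange ℤ A (ResidueField A))
    (KaehlerDifferential.mapBaseChange ℤ k₀ (ResidueField A))
    (AlgebraTensorModule.cancelBaseChange k₀ A (ResidueField A) (ResidueField A) Ω[k₀⁄ℤ])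
    (KaehlerDifferential.map ℤ k₀ (ResidueField A) (ResidueField A))
    hinj hπ hαπ (KaehlerDifferential.mapBaseChange_surjective ℤ A _ hs) hcomm
    (KaehlerDifferential.map_surjective ℤ k₀ (ResidueField A))
    (KaehlerDifferential.exact_mapBaseChange_map ℤ k₀ (ResidueField A))
  obtain ⟨-, -, -, hcart⟩ :=
    (Groth.Agent.Lib.Helper7.ExalLib.cartierEQ_of_essFiniteType (K := k₀) (L := ResidueField A))
  have hker := finrank_ker_mapBaseChange (k₀ := k₀) hs (maximalIdeal A)
    (by rw [ResidueField.algebraMap_eq, ker_residue])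
  have hreg := (FSGeomReg.isRegular_and_completion_of_isAdicFormallySmooth hfs).1
  have hdim : (Module.finrank (ResidueField A) (CotangentSpace A) : WithBot ℕ∞) =
      ringKrullDim A := (IsRegularLocalRing.iff_finrank_cotangentSpace A).1 hreg
  have hcot : Module.finrank (A ⧸ maximalIdeal A) (maximalIdeal A).Cotangent =
      Module.finrank (ResidueField A) (CotangentSpace A) := rfl
  have key : ∀ (rW υ ωK a t : ℕ), rW + υ = ωK + a → υ + t = ωK → rW = a + t := by
    intros; omega
  have h5 : Module.finrank (ResidueField A)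
      (LinearMap.ker (KaehlerDifferential.mapBaseChange ℤ A (ResidueField A))) =
      Module.finrank (ResidueField A) (CotangentSpace A) := hker.trans hcot
  have h7 : Module.finrank (ResidueField A) (ResidueField A ⊗[A] Ω[A⁄k₀]) =
      Module.finrank (ResidueField A) (CotangentSpace A) +
        Cardinal.toNat (Algebra.trdeg k₀ (ResidueField A)) :=
    (key _ _ _ _ _ hmain hcart).trans (congrArg (· + _) h5)
  rw [← hdim, h7]
  push_cast
  rfl

end Groth.Agent.Lib.Helper19.CKRank
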