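import Mathlib
import Groth.Agent.Lib.Helper19CKRank

/-!
# Helper7Smoothing63 (helper7): `exists_test_derivation` — derivations `W → κ(W)` dual to a minimal system
of generators of the maximal ideal of a local ring containing a field (via helper19's
`injective_kerCotangentToTensor`).
-/
set_option autoImplicit false
set_option linter.style.haveILetI false
universe u
open MvPolynomial IsLocalRing TensorProduct KaehlerDifferential

namespace Groth.Agent.Lib.Helper7.Smoothing

/-- test derivations dual to a minimal system of generators. -/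
theorem exists_test_derivation {k W : Type u} [Field k] [CommRing W] [IsLocalRing W] [Algebra k W]
    {r : ℕ} (x : Fin r → W) (hx : ∀ i, x i ∈ maximalIdeal W)
    (hmin : ∀ c : Fin r → W, ∑ i, c i * x i ∈ maximalIdeal W ^ 2 → ∀ i, c i ∈ maximalIdeal W)
    (i : Fin r) :
    ∃ D : Derivation ℤ W (ResidueField W), ∀ j, D (x j) = if j = i then 1 else 0 := by
  classical
  have hs : Function.Surjective (algebraMap W (ResidueField W)) := residue_surjective
  have hinj := Groth.Agent.Lib.Helper19.CKRank.injective_kerCotangentToTensor (k₀ := k) (A := W)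
    (K := ResidueField W) hs
  have hker : RingHom.ker (algebraMap W (ResidueField W)) = maximalIdeal W := ker_residue
  have hxI : ∀ j, x j ∈ RingHom.ker (algebraMap W (ResidueField W)) := fun j => by
    rw [hker]; exact hx j
  -- linear independence
  have hli : LinearIndependent (ResidueField W)
      (fun j => (1 : ResidueField W) ⊗ₜ[W] D ℤ W (x j)) := by
    rw [Fintype.linearIndependent_iff]
    intro a ha j₀
    choose c hc using fun j => hs (a j)
    have h1 : ∑ j, a j • ((1 : ResidueField W) ⊗ₜ[W] D ℤ W (x j)) =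
        kerCotangentToTensor ℤ W (ResidueField W)
          (∑ j, c j • Ideal.toCotangent _ ⟨x j, hxI j⟩) := by
      rw [map_sum]
      refine Finset.sum_congr rfl fun j _ => ?_
      rw [map_smul, kerCotangentToTensor_toCotangent, ← hc j, algebraMap_smul]
    rw [h1] at ha
    have h2 := hinj (ha.trans (map_zero _).symm)
    have h3 : ∑ j, c j • Ideal.toCotangent _ ⟨x j, hxI j⟩ =
        Ideal.toCotangent (RingHom.ker (algebraMap W (ResidueField W)))
          ⟨∑ j, c j * x j, Ideal.sum_mem _ fun j _ => Ideal.mul_mem_left _ _ (hxI j)⟩ := by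
      have : (⟨∑ j, c j * x j, Ideal.sum_mem _ fun j _ => Ideal.mul_mem_left _ _ (hxI j)⟩ :
          RingHom.ker (algebraMap W (ResidueField W))) = ∑ j, c j • ⟨x j, hxI j⟩ := by
        apply Subtype.ext
        rw [Submodule.coe_sum]
        rfl
      rw [this, map_sum]
      refine Finset.sum_congr rfl fun j _ => ?_
      rw [map_smul]
    rw [h3, Ideal.toCotangent_eq_zero] at h2
    have h4 : ∑ j, c j * x j ∈ maximalIdeal W ^ 2 := by rw [← hker]; exact h2
    have h5 := hmin c h4 j₀
    rw [← hc j₀]
    exact (residue_eq_zero_iff _).mpr h5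
  -- a left inverse
  have hinjf : Function.Injective (Fintype.linearCombination (ResidueField W)
      (fun j => (1 : ResidueField W) ⊗ₜ[W] D ℤ W (x j))) :=
    hli.fintypeLinearCombination_injective
  obtain ⟨g, hg⟩ := LinearMap.exists_leftInverse_of_injective _ (LinearMap.ker_eq_bot.mpr hinjf)
  let Φ : ResidueField W ⊗[W] Ω[W⁄ℤ] →ₗ[ResidueField W] ResidueField W :=
    (LinearMap.proj (R := ResidueField W) (φ := fun _ : Fin r => ResidueField W) i) ∘ₗ g
  refine ⟨((Φ.restrictScalars W) ∘ₗ (TensorProduct.mk W (ResidueField W) Ω[W⁄ℤ] 1)).compDer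
    (D ℤ W), fun j => ?_⟩
  have h6 : (1 : ResidueField W) ⊗ₜ[W] D ℤ W (x j) = Fintype.linearCombination (ResidueField W)
      (fun j => (1 : ResidueField W) ⊗ₜ[W] D ℤ W (x j)) (Pi.single j 1) := by
    rw [Fintype.linearCombination_apply_single, one_smul]
  have h7 : g (Fintype.linearCombination (ResidueField W)
      (fun j => (1 : ResidueField W) ⊗ₜ[W] D ℤ W (x j)) (Pi.single j 1)) = Pi.single j 1 :=
    LinearMap.congr_fun hg _
  change (g ((1 : ResidueField W) ⊗ₜ[W] D ℤ W (x j))) i = _
  rw [h6, h7]
  change (Pi.single j (1 : ResidueField W) : Fin r → ResidueField W) i = _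
  rw [Pi.single_apply]
  simp only [eq_comm]

/-- plain (instance-free) form of `exists_test_derivation`. -/
theorem exists_test_derivation' {k W : Type u} [Field k] [CommRing W] [IsLocalRing W] [Algebra k W]
    {r : ℕ} (x : Fin r → W) (hx : ∀ i, x i ∈ maximalIdeal W)
    (hmin : ∀ c : Fin r → W, ∑ i, c i * x i ∈ maximalIdeal W ^ 2 → ∀ i, c i ∈ maximalIdeal W)
    (i : Fin r) :
    ∃ D : W →+ ResidueField W, D 1 = 0 ∧ (∀ a b, D (a * b) = a • D b + b • D a) ∧
      ∀ j, D (x j) = if j = i then 1 else 0 := by
  obtain ⟨D, hD⟩ := exists_test_derivation (k := k) x hx hmin i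
  exact ⟨(D : W →ₗ[ℤ] ResidueField W).toAddMonoidHom, D.map_one_eq_zero, D.leibniz, hD⟩

end Groth.Agent.Lib.Helper7.Smoothing
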