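import Mathlib

/-!
# Helper7Smoothing66 (helper7): cotangent-space linear algebra for Stacks 07FJ

* `linearIndependent_toCotangent_iff`: elementary form of independence in `𝔪/𝔪²`.
* `exists_complement_family`, `exists_complement_generators`: complete independent elements of `𝔪` to a
  system of generators using members of a given generating family.
* `exists_minimal_generators_atPrime`: minimal generators of `pR_p` coming from `p`.
-/
set_option autoImplicit false
set_option linter.style.haveILetI false
universe u
open IsLocalRing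

namespace Groth.Agent.Lib.Helper7.Smoothing

/-- elementary reformulation of linear independence in the cotangent space. -/
theorem linearIndependent_toCotangent_iff {S : Type*} [CommRing S] [IsLocalRing S] {r : ℕ}
    (z : Fin r → S) (hz : ∀ i, z i ∈ maximalIdeal S) :
    LinearIndependent (ResidueField S)
      (fun i => (maximalIdeal S).toCotangent ⟨z i, hz i⟩) ↔
      ∀ c : Fin r → S, ∑ i, c i * z i ∈ maximalIdeal S ^ 2 → ∀ i, c i ∈ maximalIdeal S := by
  have key : ∀ c : Fin r → S, ∑ i, residue S (c i) • (maximalIdeal S).toCotangent ⟨z i, hz i⟩ =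
      (maximalIdeal S).toCotangent ⟨∑ i, c i * z i,
        Ideal.sum_mem _ fun i _ => Ideal.mul_mem_left _ _ (hz i)⟩ := by
    intro c
    have : (⟨∑ i, c i * z i, Ideal.sum_mem _ fun i _ => Ideal.mul_mem_left _ _ (hz i)⟩ :
        maximalIdeal S) = ∑ i, c i • ⟨z i, hz i⟩ := by
      apply Subtype.ext
      rw [Submodule.coe_sum]
      rfl
    rw [this, map_sum]
    refine Finset.sum_congr rfl fun i _ => ?_
    rw [map_smul]
    rfl
  rw [Fintype.linearIndependent_iff]
  constructor
  · intro h c hc i
    have h1 := h (fun i => residue S (c i)) (by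
      rw [key, Ideal.toCotangent_eq_zero]
      exact hc) i
    exact (residue_eq_zero_iff _).mp h1
  · intro h a ha i
    choose c hc using fun i => residue_surjective (a i)
    have h1 : ∑ i, c i * z i ∈ maximalIdeal S ^ 2 := by
      rw [← Ideal.toCotangent_eq_zero (maximalIdeal S) ⟨∑ i, c i * z i,
        Ideal.sum_mem _ fun i _ => Ideal.mul_mem_left _ _ (hz i)⟩, ← key]
      simp only [hc]
      exact ha
    rw [← hc i]
    exact (residue_eq_zero_iff _).mpr (h c h1 i)

/-- complete an independent family to a spanning family using vectors from a spanning family. -/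
theorem exists_complement_family {K V : Type u} [Field K] [AddCommGroup V] [Module K V]
    [FiniteDimensional K V] {r N : ℕ} (v : Fin r → V) (hv : LinearIndependent K v)
    (w : Fin N → V) (hspan : Submodule.span K (Set.range v ∪ Set.range w) = ⊤) :
    ∃ (m' : ℕ) (f : Fin m' → Fin N), r + m' = Module.finrank K V ∧
      Submodule.span K (Set.range v ∪ Set.range (w ∘ f)) = ⊤ := by
  classical
  obtain ⟨P, hP⟩ : ∃ P : Submodule K V, P = Submodule.span K (Set.range v) := ⟨_, rfl⟩
  obtain ⟨κ, a, ha, hsp, hli⟩ := exists_linearIndependent' K (P.mkQ ∘ w)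
  haveI : Finite κ := Finite.of_injective a ha
  haveI : Fintype κ := Fintype.ofFinite κ
  let e : Fin (Fintype.card κ) ≃ κ := (Fintype.equivFin κ).symm
  -- `w̄` spans the quotient
  have hwspan : Submodule.span K (Set.range (P.mkQ ∘ w)) = ⊤ := by
    rw [Set.range_comp, ← Submodule.map_span, Submodule.map_mkQ_eq_top, hP, ← Submodule.span_union]
    exact hspan
  have hbasis_span : ⊤ ≤ Submodule.span K (Set.range ((P.mkQ ∘ w) ∘ a)) := by
    rw [hsp, hwspan]
  let B := Module.Basis.mk hli hbasis_span
  have hcard : Module.finrank K (V ⧸ P) = Fintype.card κ := Module.finrank_eq_card_basis B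
  have hPrank : Module.finrank K P = r := by
    rw [hP, finrank_span_eq_card hv, Fintype.card_fin]
  refine ⟨Fintype.card κ, a ∘ e, ?_, ?_⟩
  · rw [← hcard, ← hPrank, add_comm]
    exact Submodule.finrank_quotient_add_finrank P
  · rw [Submodule.span_union, ← hP, ← Submodule.map_mkQ_eq_top, Submodule.map_span, ← Set.range_comp]
    have : Set.range (P.mkQ ∘ (w ∘ (a ∘ e))) = Set.range ((P.mkQ ∘ w) ∘ a) := by
      have : P.mkQ ∘ (w ∘ (a ∘ e)) = ((P.mkQ ∘ w) ∘ a) ∘ e := rfl
      rw [this, e.surjective.range_comp]
    rw [this]
    exact top_le_iff.mp hbasis_span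


/-- span of a family of elements of the maximal ideal, in submodule and ideal forms. -/
theorem span_subtype_eq_top_iff {S : Type*} [CommRing S] [IsLocalRing S]
    (s : Set (maximalIdeal S)) :
    Submodule.span S s = ⊤ ↔ Ideal.span (Subtype.val '' s) = maximalIdeal S := by
  constructor
  · intro h
    have := congrArg (Submodule.map (maximalIdeal S).subtype) h
    rw [Submodule.map_span, Submodule.map_top, Submodule.range_subtype] at this
    exact this
  · intro h
    apply Submodule.map_injective_of_injective (maximalIdeal S).injective_subtype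
    rw [Submodule.map_span, Submodule.map_top, Submodule.range_subtype]
    exact h

/-- complete independent elements of `𝔪` to generators of `𝔪` using elements of a generating
family. -/
theorem exists_complement_generators {L : Type u} [CommRing L] [IsLocalRing L] [IsNoetherianRing L]
    {r N : ℕ} (xt : Fin r → L) (hxt : ∀ i, xt i ∈ maximalIdeal L)
    (hind : ∀ c : Fin r → L, ∑ i, c i * xt i ∈ maximalIdeal L ^ 2 → ∀ i, c i ∈ maximalIdeal L)
    (g : Fin N → L) (hg : Ideal.span (Set.range g) = maximalIdeal L) :
    ∃ (m' : ℕ) (f : Fin m' → Fin N),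
      r + m' = Module.finrank (ResidueField L) (CotangentSpace L) ∧
      Ideal.span (Set.range xt ∪ Set.range (g ∘ f)) = maximalIdeal L := by
  have hgm : ∀ l, g l ∈ maximalIdeal L := fun l => hg ▸ Ideal.subset_span ⟨l, rfl⟩
  have hv := (linearIndependent_toCotangent_iff xt hxt).mpr hind
  have hsp : Submodule.span (ResidueField L)
      (Set.range (fun i => (maximalIdeal L).toCotangent ⟨xt i, hxt i⟩) ∪
        Set.range (fun l => (maximalIdeal L).toCotangent ⟨g l, hgm l⟩)) = ⊤ := by
    have h1 : (Set.range (fun i => (maximalIdeal L).toCotangent ⟨xt i, hxt i⟩) ∪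
        Set.range (fun l => (maximalIdeal L).toCotangent ⟨g l, hgm l⟩)) =
        (maximalIdeal L).toCotangent '' (Set.range (fun i => (⟨xt i, hxt i⟩ : maximalIdeal L)) ∪
          Set.range (fun l => (⟨g l, hgm l⟩ : maximalIdeal L))) := by
      rw [Set.image_union, ← Set.range_comp, ← Set.range_comp]
      rfl
    rw [h1, CotangentSpace.span_image_eq_top_iff, span_subtype_eq_top_iff, Set.image_union,
      ← Set.range_comp, ← Set.range_comp]
    refine le_antisymm ?_ ?_
    · rw [Ideal.span_le]
      rintro _ (⟨i, rfl⟩ | ⟨l, rfl⟩)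
      · exact hxt i
      · exact hgm l
    · refine hg.symm.le.trans (Ideal.span_mono ?_)
      rintro _ ⟨l, rfl⟩
      exact Or.inr ⟨l, rfl⟩
  obtain ⟨m', f, hcard, hspan⟩ := exists_complement_family (K := ResidueField L)
    (V := CotangentSpace L) (fun i => (maximalIdeal L).toCotangent ⟨xt i, hxt i⟩) hv
    (fun l => (maximalIdeal L).toCotangent ⟨g l, hgm l⟩) hsp
  refine ⟨m', f, hcard, ?_⟩
  have h1 : (Set.range (fun i => (maximalIdeal L).toCotangent ⟨xt i, hxt i⟩) ∪
      Set.range ((fun l => (maximalIdeal L).toCotangent ⟨g l, hgm l⟩) ∘ f)) =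
      (maximalIdeal L).toCotangent '' (Set.range (fun i => (⟨xt i, hxt i⟩ : maximalIdeal L)) ∪
        Set.range (fun l => (⟨g (f l), hgm (f l)⟩ : maximalIdeal L))) := by
    rw [Set.image_union, ← Set.range_comp, ← Set.range_comp]
    rfl
  rw [h1, CotangentSpace.span_image_eq_top_iff, span_subtype_eq_top_iff, Set.image_union,
    ← Set.range_comp, ← Set.range_comp] at hspan
  exact hspan


/-- the maximal ideal of `R_p` has a minimal system of generators coming from `p`. -/
theorem exists_minimal_generators_atPrime {R₁ : Type u} [CommRing R₁] [IsNoetherianRing R₁]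
    (p' : Ideal R₁) [p'.IsPrime] :
    ∃ (r : ℕ) (x : Fin r → R₁), (∀ i, x i ∈ p') ∧
      Ideal.span (Set.range fun i => algebraMap R₁ (Localization.AtPrime p') (x i)) =
        maximalIdeal (Localization.AtPrime p') ∧
      ∀ c : Fin r → Localization.AtPrime p',
        ∑ i, c i * algebraMap R₁ (Localization.AtPrime p') (x i) ∈
          maximalIdeal (Localization.AtPrime p') ^ 2 →
        ∀ i, c i ∈ maximalIdeal (Localization.AtPrime p') := by
  classical
  have hmem : ∀ g : p', algebraMap R₁ (Localization.AtPrime p') g ∈
      maximalIdeal (Localization.AtPrime p') := by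
    intro g
    rw [← Localization.AtPrime.map_eq_maximalIdeal]
    exact Ideal.mem_map_of_mem _ g.2
  let w : p' → CotangentSpace (Localization.AtPrime p') :=
    fun g => (maximalIdeal (Localization.AtPrime p')).toCotangent ⟨_, hmem g⟩
  have hwspan : Submodule.span (ResidueField (Localization.AtPrime p')) (Set.range w) = ⊤ := by
    have h1 : Set.range w = (maximalIdeal (Localization.AtPrime p')).toCotangent ''
        (Set.range fun g : p' => (⟨_, hmem g⟩ : maximalIdeal (Localization.AtPrime p'))) := by
      rw [← Set.range_comp]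
      rfl
    rw [h1, CotangentSpace.span_image_eq_top_iff, span_subtype_eq_top_iff, ← Set.range_comp]
    refine Eq.trans ?_ (Localization.AtPrime.map_eq_maximalIdeal (I := p'))
    rw [Ideal.map]
    congr 1
    ext y
    constructor
    · rintro ⟨g, rfl⟩
      exact ⟨g, g.2, rfl⟩
    · rintro ⟨g, hg, rfl⟩
      exact ⟨⟨g, hg⟩, rfl⟩
  obtain ⟨κ, a, ha, hsp, hli⟩ :=
    exists_linearIndependent' (ResidueField (Localization.AtPrime p')) w
  haveI : Finite κ := hli.finite_of_isNoetherian
  haveI : Fintype κ := Fintype.ofFinite κ
  let e : Fin (Fintype.card κ) ≃ κ := (Fintype.equivFin κ).symm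
  refine ⟨Fintype.card κ, fun i => (a (e i) : R₁), fun i => (a (e i)).2, ?_, ?_⟩
  · have h2 : Submodule.span (ResidueField (Localization.AtPrime p')) (Set.range (w ∘ a)) = ⊤ := by
      rw [hsp, hwspan]
    have h3 : Set.range (w ∘ a) = (maximalIdeal (Localization.AtPrime p')).toCotangent ''
        (Set.range fun i : Fin (Fintype.card κ) =>
          (⟨_, hmem (a (e i))⟩ : maximalIdeal (Localization.AtPrime p'))) := by
      rw [← Set.range_comp]
      have : (w ∘ a) ∘ e = (maximalIdeal (Localization.AtPrime p')).toCotangent ∘
          fun i : Fin (Fintype.card κ) =>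
            (⟨_, hmem (a (e i))⟩ : maximalIdeal (Localization.AtPrime p')) := rfl
      rw [← this, e.surjective.range_comp]
    rw [h3, CotangentSpace.span_image_eq_top_iff, span_subtype_eq_top_iff, ← Set.range_comp] at h2
    exact h2
  · have hli' : LinearIndependent (ResidueField (Localization.AtPrime p'))
        (fun i : Fin (Fintype.card κ) => (maximalIdeal (Localization.AtPrime p')).toCotangent
          ⟨algebraMap R₁ (Localization.AtPrime p') (a (e i)), hmem (a (e i))⟩) :=
      hli.comp e e.injective
    exact (linearIndependent_toCotangent_iff _ (fun i => hmem (a (e i)))).mp hli'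

end Groth.Agent.Lib.Helper7.Smoothing
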