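import Mathlib
import Groth.Agent.Lib.Helper7Smoothing62
import Groth.Agent.Lib.Helper7Smoothing63
import Groth.Agent.Lib.Helper7Smoothing66

/-!
# Helper7Smoothing68 (helper7): `exists_indep_generators` (More on Algebra 15.35.2, cotangent part)

For `k[X₁..X_t] → Λ ⊇ q` with the partial derivatives preserving the kernel of `k[X] → κ(q)` and
derivations of `k` extending to `Λ_q`, there are `x_i ∈ p' = q ∩ k[X]` generating `p' k[X]_{p'}` whose
images in `Λ_q` are independent modulo `𝔪²`.  Also `DerivExt`, `derivationOfLeibniz`.
-/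
set_option autoImplicit false
set_option linter.style.haveILetI false
universe u
open MvPolynomial IsLocalRing

namespace Groth.Agent.Lib.Helper7.Smoothing

/-- derivations of `k` into `𝕂` extend to `L` (definition freezing the `ℤ`-algebra structures). -/
def DerivExt (k L 𝕂 : Type*) [CommRing k] [CommRing L] [Algebra k L] [CommRing 𝕂] [Algebra L 𝕂]
    [Algebra k 𝕂] [IsScalarTower k L 𝕂] : Prop :=
  ∀ d : Derivation ℤ k 𝕂, ∃ D : Derivation ℤ L 𝕂, ∀ c, D (algebraMap k L c) = d c

/-- a `ℤ`-derivation from an additive map satisfying the Leibniz rule. -/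
def derivationOfLeibniz {A M : Type*} [CommRing A] [AddCommGroup M] [Module A M] (d : A →+ M)
    (h1 : d 1 = 0) (hl : ∀ a b, d (a * b) = a • d b + b • d a) : Derivation ℤ A M where
  toLinearMap := d.toIntLinearMap
  map_one_eq_zero' := h1
  leibniz' := hl

/-- **Stacks 07EL / More on Algebra 15.35.2, cotangent part.** -/
theorem exists_indep_generators {k Λ : Type u} [Field k] [CommRing Λ] [Algebra k Λ] {t : ℕ}
    [Algebra (MvPolynomial (Fin t) k) Λ] [IsScalarTower k (MvPolynomial (Fin t) k) Λ]
    (q : Ideal Λ) [q.IsPrime]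
    (hext : DerivExt k (Localization.AtPrime q) q.ResidueField)
    (hT : ∀ x : MvPolynomial (Fin t) k, algebraMap (MvPolynomial (Fin t) k) q.ResidueField x = 0 →
      ∀ j, algebraMap (MvPolynomial (Fin t) k) q.ResidueField (pderiv j x) = 0) :
    ∃ (r : ℕ) (x : Fin r → MvPolynomial (Fin t) k),
      (∀ i, x i ∈ q.comap (algebraMap (MvPolynomial (Fin t) k) Λ)) ∧
      (∀ g ∈ q.comap (algebraMap (MvPolynomial (Fin t) k) Λ),
        ∃ s ∉ q.comap (algebraMap (MvPolynomial (Fin t) k) Λ), s * g ∈ Ideal.span (Set.range x)) ∧
      ∀ c : Fin r → Localization.AtPrime q,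
        ∑ i, c i * algebraMap (MvPolynomial (Fin t) k) (Localization.AtPrime q) (x i) ∈
          maximalIdeal (Localization.AtPrime q) ^ 2 →
        ∀ i, c i ∈ maximalIdeal (Localization.AtPrime q) := by
  classical
  obtain ⟨p', hp'⟩ : ∃ p' : Ideal (MvPolynomial (Fin t) k),
      p' = q.comap (algebraMap (MvPolynomial (Fin t) k) Λ) := ⟨_, rfl⟩
  haveI : p'.IsPrime := hp' ▸ inferInstance
  rw [← hp']
  obtain ⟨r, x, hx, hspanW, hminW⟩ := exists_minimal_generators_atPrime p'
  refine ⟨r, x, hx, ?_, ?_⟩
  · intro g hg
    have h1 : algebraMap (MvPolynomial (Fin t) k) (Localization.AtPrime p') g ∈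
        (Ideal.span (Set.range x)).map (algebraMap _ (Localization.AtPrime p')) := by
      rw [Ideal.map_span, ← Set.range_comp]
      change _ ∈ Ideal.span (Set.range fun i => algebraMap _ (Localization.AtPrime p') (x i))
      rw [hspanW, ← Localization.AtPrime.map_eq_maximalIdeal]
      exact Ideal.mem_map_of_mem _ hg
    rw [IsLocalization.mem_map_algebraMap_iff p'.primeCompl] at h1
    obtain ⟨⟨a, s⟩, h2⟩ := h1
    rw [← map_mul] at h2
    obtain ⟨u, hu⟩ := (IsLocalization.eq_iff_exists p'.primeCompl (Localization.AtPrime p')).mp h2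
    refine ⟨u * s, p'.primeCompl.mul_mem u.2 s.2, ?_⟩
    have : (u : MvPolynomial (Fin t) k) * s * g = u * a := by
      rw [mul_assoc, mul_comm (s : MvPolynomial (Fin t) k) g]
      exact hu
    rw [this]
    exact Ideal.mul_mem_left _ _ a.2
  · -- the residue field map
    let ι : p'.ResidueField →ₐ[MvPolynomial (Fin t) k] q.ResidueField :=
      Ideal.ResidueField.mapₐ p' q (Algebra.ofId (MvPolynomial (Fin t) k) Λ) hp'
    have hxK : ∀ i, algebraMap (MvPolynomial (Fin t) k) q.ResidueField (x i) = 0 := by
      intro i
      rw [IsScalarTower.algebraMap_apply (MvPolynomial (Fin t) k) Λ q.ResidueField,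
        Ideal.algebraMap_residueField_eq_zero]
      have := hx i
      rw [hp'] at this
      exact this
    have hS : ∀ i, ∃ D : Derivation ℤ (MvPolynomial (Fin t) k) q.ResidueField,
        ∀ j, D (x j) = if j = i then 1 else 0 := by
      intro i
      obtain ⟨D, hD1, hDl, hD⟩ := exists_test_derivation' (k := k) (W := Localization.AtPrime p')
        (fun i => algebraMap (MvPolynomial (Fin t) k) (Localization.AtPrime p') (x i))
        (fun i => by
          rw [← Localization.AtPrime.map_eq_maximalIdeal]
          exact Ideal.mem_map_of_mem _ (hx i)) hminW i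
      let d₀ : MvPolynomial (Fin t) k →+ q.ResidueField :=
        { toFun := fun y => ι (D (algebraMap (MvPolynomial (Fin t) k) (Localization.AtPrime p') y))
          map_zero' := by simp
          map_add' := fun a b => by simp }
      refine ⟨derivationOfLeibniz d₀ ?_ ?_, fun j => ?_⟩
      · change ι (D (algebraMap (MvPolynomial (Fin t) k) (Localization.AtPrime p') 1)) = 0
        rw [map_one, hD1, map_zero]
      · intro a b
        change ι (D (algebraMap (MvPolynomial (Fin t) k) (Localization.AtPrime p') (a * b))) =
          a • ι (D (algebraMap (MvPolynomial (Fin t) k) (Localization.AtPrime p') b)) +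
          b • ι (D (algebraMap (MvPolynomial (Fin t) k) (Localization.AtPrime p') a))
        rw [map_mul, hDl, map_add]
        have hsm : ∀ (c : MvPolynomial (Fin t) k) (m : p'.ResidueField),
            algebraMap (MvPolynomial (Fin t) k) (Localization.AtPrime p') c • m = c • m :=
          fun c m => by
            rw [Algebra.smul_def, Algebra.smul_def, ← IsScalarTower.algebraMap_apply]
        rw [hsm, hsm, map_smul, map_smul]
      · change ι (D (algebraMap (MvPolynomial (Fin t) k) (Localization.AtPrime p') (x j))) = _
        rw [hD j]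
        split_ifs <;> simp
    exact cotangent_indep (k := k) (L := Localization.AtPrime q) (𝕂 := q.ResidueField)
      (fun y hy => (residue_eq_zero_iff y).mpr hy) hext hT x hxK hS

end Groth.Agent.Lib.Helper7.Smoothing
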