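import Mathlib
import Groth.Prelude.Def_Found
import Groth.Agent.Lib.Helper7Smoothing68
import Groth.Agent.Lib.Helper7RegHomField
import Groth.Agent.Lib.Helper19GRKaehlerGen

/-!
# Helper7Smoothing84 (helper7): small lemmas for S6824
-/

set_option autoImplicit false
set_option linter.style.haveILetI false
universe u
open Function TensorProduct IsLocalRing

namespace Groth.Agent.Lib.Helper7.Smoothing

/-- geometric regularity of a field extension implies geometric reducedness -/
theorem isGeometricallyReduced_of_isGeometricallyRegular (k K : Type u) [Field k] [Field K]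
    [Algebra k K] (h : CAlg.IsGeometricallyRegular k K) : Algebra.IsGeometricallyReduced k K := by
  rw [Algebra.isGeometricallyReduced_field_iff]
  have h1 : IsReduced (K ⊗[k] AlgebraicClosure k) := by
    refine IsReduced.tensorProduct_of_flat_of_forall_fg (fun B' hB' => ?_)
    have hfield : IsField B' := Subalgebra.isField_of_algebraic B'
    let F := B'.toIntermediateField' hfield
    have hF : F.toSubalgebra = B' := toSubalgebra_toIntermediateField' B' hfield
    haveI : Algebra.FiniteType k B' := (Subalgebra.fg_iff_finiteType B').1 hB'
    haveI : Algebra.IsIntegral k B' :=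
      Algebra.IsIntegral.of_injective B'.val Subtype.val_injective
    haveI : Module.Finite k B' := Algebra.IsIntegral.finite
    haveI : Module.Finite k F :=
      Module.Finite.equiv (Subalgebra.equivOfEq _ _ hF.symm).toLinearEquiv
    haveI : IsRegularRing (F ⊗[k] K) := h F inferInstance
    haveI := Groth.Agent.Lib.Helper7.RegHomField.isReduced_of_isRegularRing (F ⊗[k] K)
    let e' : K ⊗[k] B' ≃ₐ[k] F ⊗[k] K :=
      (Algebra.TensorProduct.congr AlgEquiv.refl (Subalgebra.equivOfEq _ _ hF.symm)).trans
        (Algebra.TensorProduct.comm _ _ _)
    exact isReduced_of_injective e' e'.injective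
  exact isReduced_of_injective (Algebra.TensorProduct.comm k (AlgebraicClosure k) K)
    (AlgEquiv.injective _)

/-- `DerivExt` from formal smoothness. -/
theorem derivExt_of_isAdicFormallySmooth {k A K : Type u} [Field k] [CommRing A] [IsLocalRing A]
    [Algebra k A] [Field K] [Algebra A K] [Algebra k K] [IsScalarTower k A K]
    (hK : ∀ x ∈ maximalIdeal A, algebraMap A K x = 0)
    (h : CAlgX.IsAdicFormallySmooth k A (maximalIdeal A)) : DerivExt k A K :=
  fun d => Groth.Agent.Lib.Helper19.GR.exists_derivation_extensionK hK h d

end Groth.Agent.Lib.Helper7.Smoothing
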