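import Mathlib

/-!
# Helper7Smoothing42 (helper7): linear algebra for S2031

* `nonempty_equiv_of_exact_stablyFree`: cancellation for a split exact sequence whose quotient is
  stably free and whose middle term has a free summand of rank `q` killed by the second map.
* `det_mul_eq_sum_minors`: weak Cauchy–Binet for a rectangular product.
* `exists_coef_minors_of_leftInverse`: a split injection between free modules has maximal minors
  generating the unit ideal.
* `exists_pow_mem_of_one_mem_map`: `1 ∈ 𝔪 A_a` gives `a ^ K ∈ 𝔪`.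
-/

set_option autoImplicit false
open Function

namespace Groth.Agent.Lib.Helper7.Smoothing

/-- Lemma X: cancellation for a split exact sequence whose quotient is stably free
and whose middle term has a free summand of rank `q` killed by the second map. -/
theorem nonempty_equiv_of_exact_stablyFree {T : Type*} [CommRing T] {M V Om V₁ : Type*}
    [AddCommGroup M] [Module T M] [AddCommGroup V] [Module T V] [AddCommGroup Om] [Module T Om]
    [AddCommGroup V₁] [Module T V₁] {p q : ℕ}
    (F1 : M →ₗ[T] V) (F2 : V →ₗ[T] Om) (hinj : Injective F1) (hex : Function.Exact F1 F2)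
    (hsurj : Surjective F2) [Module.Projective T Om]
    (eV : V ≃ₗ[T] V₁ × (Fin q → T)) (hkill : ∀ v₂, F2 (eV.symm (0, v₂)) = 0)
    (e : (Om × (Fin p → T)) ≃ₗ[T] (Fin q → T)) : Nonempty (M ≃ₗ[T] V₁ × (Fin p → T)) := by
  let g : V₁ →ₗ[T] Om := F2 ∘ₗ eV.symm.toLinearMap ∘ₗ LinearMap.inl T V₁ (Fin q → T)
  have hF2 : ∀ v₁ v₂, F2 (eV.symm (v₁, v₂)) = g v₁ := by
    intro v₁ v₂
    have : ((v₁, v₂) : V₁ × (Fin q → T)) = (v₁, 0) + (0, v₂) := by simp
    rw [this, map_add, map_add, hkill, add_zero]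
    rfl
  have hg : Surjective g := by
    intro ω
    obtain ⟨v, rfl⟩ := hsurj ω
    refine ⟨(eV v).1, ?_⟩
    rw [← hF2 _ (eV v).2]
    simp
  obtain ⟨σ, hσ⟩ := Module.projective_lifting_property g LinearMap.id hg
  have hσ' : ∀ ω, g (σ ω) = ω := fun ω => LinearMap.congr_fun hσ ω
  let A : V →ₗ[T] V₁ × (Fin p → T) :=
    ((LinearMap.fst T V₁ (Fin q → T) +
        σ ∘ₗ LinearMap.fst T Om (Fin p → T) ∘ₗ e.symm.toLinearMap ∘ₗ
          LinearMap.snd T V₁ (Fin q → T)).prod
      (LinearMap.snd T Om (Fin p → T) ∘ₗ e.symm.toLinearMap ∘ₗ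
          LinearMap.snd T V₁ (Fin q → T))) ∘ₗ eV.toLinearMap
  let B : V₁ × (Fin p → T) →ₗ[T] V :=
    eV.symm.toLinearMap ∘ₗ
      ((LinearMap.fst T V₁ (Fin p → T) - σ ∘ₗ g ∘ₗ LinearMap.fst T V₁ (Fin p → T)).prod
        (e.toLinearMap ∘ₗ ((g ∘ₗ LinearMap.fst T V₁ (Fin p → T)).prod
          (LinearMap.snd T V₁ (Fin p → T)))))
  have hA : ∀ v₁ v₂, A (eV.symm (v₁, v₂)) = (v₁ + σ (e.symm v₂).1, (e.symm v₂).2) := by
    intro v₁ v₂
    simp [A]
  have hB : ∀ w t, B (w, t) = eV.symm (w - σ (g w), e (g w, t)) := by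
    intro w t
    simp [B]
  have hAB : ∀ x, A (B x) = x := by
    rintro ⟨w, t⟩
    rw [hB, hA]
    simp
  have hF2B : ∀ x, F2 (B x) = 0 := by
    rintro ⟨w, t⟩
    rw [hB, hF2, map_sub, hσ', sub_self]
  have hBA : ∀ v, F2 v = 0 → B (A v) = v := by
    intro v hv
    obtain ⟨⟨v₁, v₂⟩, rfl⟩ := eV.symm.surjective v
    rw [hF2] at hv
    rw [hA, hB]
    congr 1
    rw [map_add, hv, hσ', zero_add, add_sub_cancel_right]
    simp
  refine ⟨LinearEquiv.ofBijective (A ∘ₗ F1) ⟨?_, ?_⟩⟩
  · intro m m' h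
    apply hinj
    have h1 := congrArg B h
    simp only [LinearMap.comp_apply] at h1
    rwa [hBA _ (hex.apply_apply_eq_zero m), hBA _ (hex.apply_apply_eq_zero m')] at h1
  · intro x
    obtain ⟨m, hm⟩ := (hex (B x)).mp (hF2B x)
    exact ⟨m, by simp only [LinearMap.comp_apply]; rw [hm, hAB]⟩

/-- weak Cauchy–Binet for a rectangular product. -/
theorem det_mul_eq_sum_minors {R : Type*} [CommRing R] {p n : ℕ}
    (Y : Matrix (Fin p) (Fin n) R) (Z : Matrix (Fin n) (Fin p) R) :
    (Y * Z).det = ∑ τ : Fin p → Fin n, (∏ t, Z (τ t) t) * (Y.submatrix id τ).det := by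
  rw [← Matrix.det_transpose]
  have h1 : (Y * Z).transpose =
      Matrix.of (fun t : Fin p => ∑ j : Fin n, Z j t • (fun s : Fin p => Y s j)) := by
    ext t s
    simp only [Matrix.transpose_apply, Matrix.mul_apply,
      Matrix.of_apply, Finset.sum_apply, Pi.smul_apply, smul_eq_mul]
    exact Finset.sum_congr rfl (fun j _ => mul_comm _ _)
  rw [h1]
  have h2 := (Matrix.detRowAlternating (R := R) (n := Fin p)).toMultilinearMap.map_sum
    (fun (t : Fin p) (j : Fin n) => Z j t • (fun s : Fin p => Y s j))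
  change Matrix.detRowAlternating (R := R) (n := Fin p)
    (fun t : Fin p => ∑ j : Fin n, Z j t • (fun s : Fin p => Y s j)) = _
  erw [h2]
  refine Finset.sum_congr rfl (fun τ _ => ?_)
  have h3 := (Matrix.detRowAlternating (R := R) (n := Fin p)).toMultilinearMap.map_smul_univ
    (fun t : Fin p => Z (τ t) t) (fun (t : Fin p) => (fun s : Fin p => Y s (τ t)))
  erw [h3]
  rw [smul_eq_mul]
  congr 1
  change Matrix.det (Matrix.of (fun (t : Fin p) (s : Fin p) => Y s (τ t))) = _
  rw [← Matrix.det_transpose]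
  rfl

/-- A split injection between finite free modules has maximal minors generating the unit ideal. -/
theorem exists_coef_minors_of_leftInverse {T : Type*} [CommRing T] {M V : Type*}
    [AddCommGroup M] [Module T M] [AddCommGroup V] [Module T V] {c n : ℕ}
    (F1 : M →ₗ[T] V) (L : V →ₗ[T] M) (hL : L ∘ₗ F1 = LinearMap.id)
    (β : Module.Basis (Fin c) T M) (b : Module.Basis (Fin n) T V)
    (J : Matrix (Fin c) (Fin n) T) (hJ : ∀ j k, b.repr (F1 (β j)) k = J j k) :
    ∃ coef : (Fin c → Fin n) → T,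
      ∑ cols : Fin c → Fin n, coef cols * (J.submatrix id cols).det = 1 := by
  classical
  let Lmat : Matrix (Fin n) (Fin c) T := Matrix.of fun k j' => β.repr (L (b k)) j'
  have hmul : J * Lmat = 1 := by
    ext j j'
    rw [Matrix.mul_apply]
    have h1 : ∀ k, J j k * Lmat k j' = β.repr (L (b.repr (F1 (β j)) k • b k)) j' := by
      intro k
      rw [map_smul, map_smul, Finsupp.smul_apply, smul_eq_mul, hJ]
      rfl
    rw [Finset.sum_congr rfl (fun k _ => h1 k)]
    rw [← Finsupp.finset_sum_apply, ← map_sum, ← map_sum, b.sum_repr]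
    have h2 : L (F1 (β j)) = β j := LinearMap.congr_fun hL (β j)
    rw [h2, β.repr_self, Finsupp.single_apply, Matrix.one_apply]
  refine ⟨fun τ => ∏ t, Lmat (τ t) t, ?_⟩
  rw [← det_mul_eq_sum_minors, hmul, Matrix.det_one]

/-- If the extension of an ideal to `A_a` is the unit ideal, the ideal contains a power of `a`. -/
theorem exists_pow_mem_of_one_mem_map {A : Type*} [CommRing A] (a : A) (𝔪 : Ideal A)
    (h : (1 : Localization.Away a) ∈ 𝔪.map (algebraMap A (Localization.Away a))) :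
    ∃ K : ℕ, a ^ K ∈ 𝔪 := by
  rw [IsLocalization.mem_map_algebraMap_iff (Submonoid.powers a)] at h
  obtain ⟨⟨x, s⟩, hx⟩ := h
  rw [one_mul] at hx
  obtain ⟨⟨_, k', rfl⟩, hk'⟩ := (IsLocalization.eq_iff_exists (Submonoid.powers a) _).mp hx
  obtain ⟨k, hk⟩ := s.2
  refine ⟨k' + k, ?_⟩
  have hk2 : a ^ k = (s : A) := hk
  have hk3 : a ^ k' * (s : A) = a ^ k' * (x : A) := hk'
  rw [pow_add, hk2, hk3]
  exact Ideal.mul_mem_left _ _ x.2

end Groth.Agent.Lib.Helper7.Smoothing
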