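import Mathlib
import Groth.Prelude.Def_Smoothing
import Groth.Agent.Lib.Helper7Smoothing42

/-!
# Helper7Smoothing43 (helper7): localized conormal sequence of a smooth localization (after helper3 S2110),
freeness of the localized conormal module after adding variables (`nonempty_basis_locCot`).
-/

set_option autoImplicit false
set_option linter.style.haveILetI false
universe u
open Function TensorProduct

namespace Groth.Agent.Lib.Helper7.Smoothing

section Loc
variable {R A : Type u} [CommRing R] [CommRing A] [Algebra R A] {ι : Type}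
  (G : Algebra.Generators R A ι) (a : A)

theorem mk_eq_zero_iff'' {A M : Type*} [CommRing A] [AddCommGroup M] [Module A M] (S : Submonoid A)
    (z : M) (s : S) : LocalizedModule.mk z s = 0 ↔ ∃ c : S, c • z = 0 := by
  rw [← LocalizedModule.zero_mk s, LocalizedModule.mk_eq]
  constructor
  · rintro ⟨u, hu⟩
    refine ⟨u * s, ?_⟩
    rw [mul_smul, hu, smul_zero, smul_zero]
  · rintro ⟨c, hc⟩
    refine ⟨c, ?_⟩
    rw [smul_comm, hc, smul_zero, smul_zero]

/-- (after helper3, S2110) the localized conormal sequence of a smooth localization: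
injective, exact, surjective. -/
theorem locCot_seq [Algebra.FormallySmooth R (Localization.Away a)] :
    Injective (LocalizedModule.map (Submonoid.powers a) G.toExtension.cotangentComplex) ∧
    Function.Exact (LocalizedModule.map (Submonoid.powers a) G.toExtension.cotangentComplex)
      (LocalizedModule.map (Submonoid.powers a) G.toExtension.toKaehler) ∧
    Surjective (LocalizedModule.map (Submonoid.powers a) G.toExtension.toKaehler) := by
  have hH1 : ∀ z : G.toExtension.Cotangent, G.toExtension.cotangentComplex z = 0 →
      ∃ c ∈ Submonoid.powers a, c • z = 0 := by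
    intro z hz
    let z' : G.toExtension.H1Cotangent := ⟨z, hz⟩
    have h1 : Algebra.H1Cotangent.map R R A (Localization.Away a) (G.equivH1Cotangent z') = 0 :=
      Subsingleton.elim _ _
    obtain ⟨c, hc⟩ := (IsLocalizedModule.eq_zero_iff (Submonoid.powers a)
      (Algebra.H1Cotangent.map R R A (Localization.Away a))).mp h1
    refine ⟨c, c.2, ?_⟩
    have h2 : G.equivH1Cotangent ((c : A) • z') = G.equivH1Cotangent 0 := by
      rw [map_smul, map_zero]; exact hc
    have h3 : (c : A) • z' = 0 := G.equivH1Cotangent.injective h2
    exact congrArg Subtype.val h3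
  refine ⟨?_, ?_, ?_⟩
  · rw [injective_iff_map_eq_zero]
    intro x hx
    induction x using LocalizedModule.induction_on with
    | h z s =>
      rw [LocalizedModule.map_mk, mk_eq_zero_iff''] at hx
      obtain ⟨t, ht⟩ := hx
      have h2 : G.toExtension.cotangentComplex (t • z) = 0 := by
        rw [Submonoid.smul_def, map_smul]; exact ht
      obtain ⟨c, hc, hcz⟩ := hH1 _ h2
      rw [mk_eq_zero_iff'']
      refine ⟨⟨c, hc⟩ * t, ?_⟩
      rw [mul_smul]
      exact hcz
  · exact LocalizedModule.map_exact (Submonoid.powers a) _ _
      G.toExtension.exact_cotangentComplex_toKaehler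
  · exact LocalizedModule.map_surjective (Submonoid.powers a) _
      G.toExtension.toKaehler_surjective

/-- localized Kähler differentials. -/
noncomputable def locOmEquiv : LocalizedModule (Submonoid.powers a) Ω[A⁄R]
    ≃ₗ[Localization.Away a] Ω[Localization.Away a⁄R] :=
  (IsLocalizedModule.iso (Submonoid.powers a)
    (KaehlerDifferential.map R R A (Localization.Away a))).extendScalarsOfIsLocalization
    (Submonoid.powers a) (Localization (Submonoid.powers a))

end Loc

/-- splitting `T^(m+n)` as `T^m × T^n`. -/
noncomputable def finAddEquivProd (T : Type*) [CommRing T] (m n : ℕ) :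
    (Fin (m + n) → T) ≃ₗ[T] (Fin m → T) × (Fin n → T) :=
  (LinearEquiv.funCongrLeft T T finSumFinEquiv).trans
    (LinearEquiv.sumArrowLequivProdArrow (Fin m) (Fin n) T T)

theorem finAddEquivProd_symm_apply_castAdd (T : Type*) [CommRing T] (m n : ℕ)
    (x : (Fin m → T) × (Fin n → T)) (i : Fin m) :
    (finAddEquivProd T m n).symm x (Fin.castAdd n i) = x.1 i := by
  obtain ⟨x1, x2⟩ := x
  simp [finAddEquivProd, LinearEquiv.funCongrLeft]

theorem finAddEquivProd_symm_apply_natAdd (T : Type*) [CommRing T] (m n : ℕ)
    (x : (Fin m → T) × (Fin n → T)) (i : Fin n) :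
    (finAddEquivProd T m n).symm x (Fin.natAdd m i) = x.2 i := by
  obtain ⟨x1, x2⟩ := x
  simp [finAddEquivProd, LinearEquiv.funCongrLeft]

theorem nonempty_basis_locCot {R A : Type u} [CommRing R] [CommRing A] [Algebra R A] {n₀ q p : ℕ}
    (G : Algebra.Generators R A (Fin (n₀ + q))) (hG : ∀ k : Fin q, G.val (Fin.natAdd n₀ k) = 0)
    (a : A) [Algebra.FormallySmooth R (Localization.Away a)]
    (e : (Ω[Localization.Away a⁄R] × (Fin p → Localization.Away a)) ≃ₗ[Localization.Away a]
      (Fin q → Localization.Away a)) :
    Nonempty (Module.Basis (Fin (n₀ + p)) (Localization.Away a)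
      (LocalizedModule (Submonoid.powers a) G.toExtension.Cotangent)) := by
  obtain ⟨hinj, hex, hsurj⟩ := locCot_seq G a
  let bV : Module.Basis (Fin (n₀ + q)) (Localization.Away a)
      (LocalizedModule (Submonoid.powers a) G.toExtension.CotangentSpace) :=
    G.cotangentSpaceBasis.ofIsLocalizedModule (Localization.Away a) (Submonoid.powers a)
      (LocalizedModule.mkLinearMap (Submonoid.powers a) G.toExtension.CotangentSpace)
  let eV := bV.equivFun.trans (finAddEquivProd (Localization.Away a) n₀ q)
  haveI : Module.Projective (Localization.Away a)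
      (LocalizedModule (Submonoid.powers a) Ω[A⁄R]) :=
    Module.Projective.of_equiv (locOmEquiv (R := R) a).symm
  let e' : (LocalizedModule (Submonoid.powers a) Ω[A⁄R] × (Fin p → Localization.Away a))
      ≃ₗ[Localization.Away a] (Fin q → Localization.Away a) :=
    (LinearEquiv.prodCongr (locOmEquiv (R := R) a) (LinearEquiv.refl _ _)).trans e
  have hbV : ∀ k : Fin q, LocalizedModule.map (Submonoid.powers a) G.toExtension.toKaehler
      (bV (Fin.natAdd n₀ k)) = 0 := by
    intro k
    have h1 : bV (Fin.natAdd n₀ k) =
        LocalizedModule.mk (G.cotangentSpaceBasis (Fin.natAdd n₀ k)) 1 := by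
      simp only [bV, Module.Basis.ofIsLocalizedModule_apply]
      rfl
    rw [h1, LocalizedModule.map_mk, Algebra.Generators.toKaehler_cotangentSpaceBasis, hG, map_zero,
      LocalizedModule.zero_mk]
  have hkill : ∀ v₂, LocalizedModule.map (Submonoid.powers a) G.toExtension.toKaehler
      (eV.symm (0, v₂)) = 0 := by
    intro v₂
    have h1 : eV.symm (0, v₂) = ∑ i, ((finAddEquivProd (Localization.Away a) n₀ q).symm (0, v₂)) i
        • bV i := by
      simp only [eV, LinearEquiv.trans_symm, LinearEquiv.trans_apply]
      rw [Module.Basis.equivFun_symm_apply]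
    rw [h1, map_sum, Fin.sum_univ_add]
    have h2 : ∀ i : Fin n₀, ((finAddEquivProd (Localization.Away a) n₀ q).symm (0, v₂))
        (Fin.castAdd q i) = 0 := by
      intro i
      rw [finAddEquivProd_symm_apply_castAdd]
      rfl
    simp only [map_smul, h2, zero_smul, Finset.sum_const_zero, hbV, smul_zero, add_zero, map_zero]
  obtain ⟨E⟩ := nonempty_equiv_of_exact_stablyFree (T := Localization.Away a)
    (M := LocalizedModule (Submonoid.powers a) G.toExtension.Cotangent)
    (V := LocalizedModule (Submonoid.powers a) G.toExtension.CotangentSpace)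
    (Om := LocalizedModule (Submonoid.powers a) Ω[A⁄R]) (V₁ := Fin n₀ → Localization.Away a)
    (LocalizedModule.map (Submonoid.powers a) G.toExtension.cotangentComplex)
    (LocalizedModule.map (Submonoid.powers a) G.toExtension.toKaehler) hinj hex hsurj eV hkill e'
  exact ⟨Module.Basis.ofEquivFun (E.trans (finAddEquivProd (Localization.Away a) n₀ p).symm)⟩

end Groth.Agent.Lib.Helper7.Smoothing
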