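import Mathlib
import Groth.Prelude.Def_Smoothing
import Groth.Agent.Lib.Helper7Smoothing43

/-!
# Helper7Smoothing44 (helper7): from a basis of the localized conormal module to strictly standard powers
(`exists_pow_isStrictlyStandard_of_basis`), the bookkeeping lemma `isStrictlyStandard_of_data`.
-/
set_option autoImplicit false
set_option linter.style.haveILetI false
universe u
open Function TensorProduct MvPolynomial

namespace Groth.Agent.Lib.Helper7.Smoothing

section
variable {R A : Type u} [CommRing R] [CommRing A] [Algebra R A]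

theorem isStrictlyStandard_of_data
    {N c m' : ℕ} (hcN : c ≤ N) (φ : MvPolynomial (Fin N) R →ₐ[R] A)
    (hφ : Surjective φ) (f : Fin c → MvPolynomial (Fin N) R) (r : Fin m' → MvPolynomial (Fin N) R)
    (hf : ∀ j, f j ∈ RingHom.ker φ.toRingHom)
    (hr : RingHom.ker φ.toRingHom = Ideal.span (Set.range r)) (b : A)
    (hminor : b ∈ Ideal.span (Set.range fun cols : Fin c → Fin N =>
      φ (Matrix.det (Matrix.of fun j k : Fin c => pderiv (cols k) (f j)))))
    (htail : ∀ b' : MvPolynomial (Fin N) R, φ b' = b → ∀ ℓ,
      b' * r ℓ ∈ Ideal.span (Set.range f) ⊔ (RingHom.ker φ.toRingHom) ^ 2) :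
    Smoothing.IsStrictlyStandard R A b := by
  have hker : RingHom.ker φ.toRingHom = Ideal.span (Set.range (Fin.append f r)) := by
    apply le_antisymm
    · rw [hr]
      apply Ideal.span_mono
      rintro _ ⟨ℓ, rfl⟩
      exact ⟨Fin.natAdd c ℓ, Fin.append_right f r ℓ⟩
    · rw [Ideal.span_le]
      rintro _ ⟨i, rfl⟩
      induction i using Fin.addCases with
      | left j => rw [Fin.append_left]; exact hf j
      | right ℓ =>
        rw [Fin.append_right, SetLike.mem_coe, hr]
        exact Ideal.subset_span ⟨ℓ, rfl⟩
  let P : Smoothing.MarkedPresentation R A :=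
    { n := N, m := c + m', c := c, hcn := hcN, hcm := Nat.le_add_right c m',
      rel := Fin.append f r, hom := φ, surj := hφ, ker_eq := hker }
  refine ⟨P, ?_, ?_⟩
  · have h1 : (fun cols : Fin P.c → Fin P.n =>
        P.hom (Smoothing.jacobianMinor P.rel (Fin.castLE P.hcm) cols)) =
        fun cols : Fin c → Fin N =>
          φ (Matrix.det (Matrix.of fun j k : Fin c => pderiv (cols k) (f j))) := by
      funext cols
      change φ (Matrix.det (Matrix.of fun j k : Fin c =>
        pderiv (cols k) (Fin.append f r (Fin.castAdd m' j)))) = _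
      simp only [Fin.append_left]
    rw [h1]
    exact hminor
  · intro b' hb' i hi
    change b' * Fin.append f r i ∈
      Ideal.span (Fin.append f r '' {j' : Fin (c + m') | (j' : ℕ) < c}) ⊔
        Ideal.span (Set.range (Fin.append f r)) ^ 2
    have hle : Ideal.span (Set.range f) ≤
        Ideal.span (Fin.append f r '' {j' : Fin (c + m') | (j' : ℕ) < c}) := by
      apply Ideal.span_mono
      rintro _ ⟨j, rfl⟩
      exact ⟨Fin.castAdd m' j, by simp, Fin.append_left f r j⟩
    rw [← hker]
    induction i using Fin.addCases with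
    | left j =>
      exfalso
      simp at hi
      change c ≤ (j : ℕ) at hi
      omega
    | right ℓ =>
      rw [Fin.append_right]
      exact sup_le_sup_right hle _ (htail b' hb' ℓ)

theorem algebraMap_smul_mk {M : Type*} [AddCommGroup M] [Module A M] (S : Submonoid A) (r : A) (m : M)
    (s : S) : algebraMap A (Localization S) r • LocalizedModule.mk m s =
      LocalizedModule.mk (r • m) s := by
  rw [← Localization.mk_one_eq_algebraMap, LocalizedModule.mk_smul_mk, one_mul]

theorem exists_basis_mk_one {ι : Type} (G : Algebra.Generators R A ι) (a : A) {c : ℕ}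
    (β : Module.Basis (Fin c) (Localization.Away a)
      (LocalizedModule (Submonoid.powers a) G.toExtension.Cotangent)) :
    ∃ (f : Fin c → G.toExtension.ker) (β' : Module.Basis (Fin c) (Localization.Away a)
      (LocalizedModule (Submonoid.powers a) G.toExtension.Cotangent)),
      ∀ j, β' j = LocalizedModule.mk (Algebra.Extension.Cotangent.mk (f j)) 1 := by
  have h1 : ∀ x : LocalizedModule (Submonoid.powers a) G.toExtension.Cotangent,
      ∃ (m : G.toExtension.Cotangent) (s : Submonoid.powers a), x = LocalizedModule.mk m s := by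
    intro x
    induction x using LocalizedModule.induction_on with
    | h m s => exact ⟨m, s, rfl⟩
  choose m s hms using fun j => h1 (β j)
  choose f hf using fun j => Algebra.Extension.Cotangent.mk_surjective (m j)
  have hw : ∀ j, IsUnit (algebraMap A (Localization.Away a) (s j)) :=
    fun j => IsLocalization.map_units _ (s j)
  refine ⟨f, β.isUnitSMul hw, fun j => ?_⟩
  rw [Module.Basis.isUnitSMul_apply, hms j, hf j]
  erw [algebraMap_smul_mk]
  exact LocalizedModule.mk_cancel (s j) (m j)

theorem mul_mem_of_smul_mk_mem {c : ℕ} (E : Algebra.Extension R A) (f : Fin c → E.ker) (x : E.ker)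
    (b : A)
    (h : b • Algebra.Extension.Cotangent.mk x ∈
      Submodule.span A (Set.range fun j => Algebra.Extension.Cotangent.mk (f j)))
    (b' : E.Ring) (hb' : algebraMap E.Ring A b' = b) :
    b' * (x : E.Ring) ∈ Ideal.span (Set.range fun j => ((f j : E.ker) : E.Ring)) ⊔ E.ker ^ 2 := by
  obtain ⟨α, hα⟩ := (Submodule.mem_span_range_iff_exists_fun A).mp h
  choose α' hα' using fun j => E.algebraMap_surjective (α j)
  have h1 : Algebra.Extension.Cotangent.mk (b' • x - ∑ j, α' j • f j) = 0 := by
    rw [map_sub, map_smul, map_sum]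
    simp only [map_smul]
    rw [← algebraMap_smul A b', hb', ← hα, sub_eq_zero]
    refine Finset.sum_congr rfl fun j _ => ?_
    rw [← algebraMap_smul A (α' j), hα']
  rw [Algebra.Extension.Cotangent.mk_eq_zero_iff] at h1
  have h2 : b' * (x : E.Ring) =
      ∑ j, α' j * ((f j : E.ker) : E.Ring) + ((b' • x - ∑ j, α' j • f j : E.ker) : E.Ring) := by
    simp
  rw [h2]
  exact Submodule.add_mem_sup
    (Ideal.sum_mem _ fun j _ => Ideal.mul_mem_left _ _ (Ideal.subset_span ⟨j, rfl⟩)) h1

theorem exists_pow_smul_mem_span {ι : Type} (G : Algebra.Generators R A ι) (a : A) {c : ℕ} (f : Fin c → G.toExtension.ker)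
    (β' : Module.Basis (Fin c) (Localization.Away a)
      (LocalizedModule (Submonoid.powers a) G.toExtension.Cotangent))
    (hβ' : ∀ j, β' j = LocalizedModule.mk (Algebra.Extension.Cotangent.mk (f j)) 1)
    (x : G.toExtension.Cotangent) :
    ∃ k : ℕ, a ^ k • x ∈
      Submodule.span A (Set.range fun j => Algebra.Extension.Cotangent.mk (f j)) := by
  have h1 : (LocalizedModule.mk x 1 : LocalizedModule (Submonoid.powers a) G.toExtension.Cotangent) ∈
      (Submodule.span A (Set.range fun j => Algebra.Extension.Cotangent.mk (f j))).localized'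
        (Localization.Away a) (Submonoid.powers a)
        (LocalizedModule.mkLinearMap (Submonoid.powers a) G.toExtension.Cotangent) := by
    rw [Submodule.localized'_span]
    have h2 : (LocalizedModule.mkLinearMap (Submonoid.powers a) G.toExtension.Cotangent) ''
        (Set.range fun j => Algebra.Extension.Cotangent.mk (f j)) = Set.range β' := by
      ext y
      constructor
      · rintro ⟨_, ⟨j, rfl⟩, rfl⟩
        exact ⟨j, hβ' j⟩
      · rintro ⟨j, rfl⟩
        exact ⟨_, ⟨j, rfl⟩, (hβ' j).symm⟩
    rw [h2, β'.span_eq]
    exact Submodule.mem_top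
  rw [Submodule.mem_localized'] at h1
  obtain ⟨m, hm, s, hs⟩ := h1
  rw [← IsLocalizedModule.mk_eq_mk', LocalizedModule.mk_eq] at hs
  obtain ⟨u, hu⟩ := hs
  obtain ⟨k1, hk1⟩ := u.2
  obtain ⟨k2, hk2⟩ := s.2
  refine ⟨k1 + k2, ?_⟩
  have h3 : a ^ (k1 + k2) • x = u • s • x := by
    rw [pow_add, mul_smul, Submonoid.smul_def, Submonoid.smul_def]
    simp only at hk1 hk2
    rw [← hk1, ← hk2]
  rw [h3, ← hu, one_smul]
  exact Submodule.smul_mem _ _ hm

theorem repr_locF1_mk {N : ℕ} (G : Algebra.Generators R A (Fin N)) (a : A) (x : G.toExtension.ker)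
    (k : Fin N) :
    (G.cotangentSpaceBasis.ofIsLocalizedModule (Localization.Away a) (Submonoid.powers a)
      (LocalizedModule.mkLinearMap (Submonoid.powers a) G.toExtension.CotangentSpace)).repr
      (LocalizedModule.map (Submonoid.powers a) G.toExtension.cotangentComplex
        (LocalizedModule.mk (Algebra.Extension.Cotangent.mk x) 1)) k =
      algebraMap A (Localization.Away a) (aeval G.val (pderiv k (x : G.toExtension.Ring))) := by
  rw [LocalizedModule.map_mk, Algebra.Extension.cotangentComplex_mk]
  have h1 : ∀ v : G.toExtension.CotangentSpace,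
      (LocalizedModule.mk v 1 : LocalizedModule (Submonoid.powers a) G.toExtension.CotangentSpace) =
      LocalizedModule.mkLinearMap (Submonoid.powers a) G.toExtension.CotangentSpace v := fun _ => rfl
  rw [h1, Module.Basis.ofIsLocalizedModule_repr_apply]
  congr 1
  exact G.cotangentSpaceBasis_repr_one_tmul _ _

theorem exists_pow_isStrictlyStandard_of_basis [Algebra.FinitePresentation R A] {N c : ℕ}
    (hcN : c ≤ N) (G : Algebra.Generators R A (Fin N)) (a : A)
    [Algebra.FormallySmooth R (Localization.Away a)]
    (β : Module.Basis (Fin c) (Localization.Away a)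
      (LocalizedModule (Submonoid.powers a) G.toExtension.Cotangent)) :
    ∃ e₀ : ℕ, ∀ n, e₀ ≤ n → Smoothing.IsStrictlyStandard R A (a ^ n) := by
  classical
  obtain ⟨f, β', hβ'⟩ := exists_basis_mk_one G a β
  -- generators of the kernel
  have hkerφ : RingHom.ker (aeval (R := R) G.val).toRingHom = G.toExtension.ker := by
    rw [← Algebra.Generators.ker, Algebra.Generators.ker_eq_ker_aeval_val]
    rfl
  have hfg : (G.toExtension.ker).FG := by
    rw [← hkerφ]
    exact Algebra.FinitePresentation.ker_fG_of_surjective (aeval (R := R) G.val)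
      G.aeval_val_surjective
  obtain ⟨m', r, hr⟩ := Submodule.fg_iff_exists_fin_generating_family.mp hfg
  have hrmem : ∀ ℓ, r ℓ ∈ G.toExtension.ker := fun ℓ => by
    rw [← hr]; exact Submodule.subset_span ⟨ℓ, rfl⟩
  -- splitting
  obtain ⟨hinj, hex, hsurj⟩ := locCot_seq G a
  haveI : Module.Projective (Localization.Away a)
      (LocalizedModule (Submonoid.powers a) Ω[A⁄R]) :=
    Module.Projective.of_equiv (locOmEquiv (R := R) a).symm
  obtain ⟨σ, hσ⟩ := Module.projective_lifting_property
    (LocalizedModule.map (Submonoid.powers a) G.toExtension.toKaehler) LinearMap.id hsurj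
  have htfae := Function.Exact.split_tfae (R := Localization.Away a)
    (M := LocalizedModule (Submonoid.powers a) G.toExtension.Cotangent)
    (N := LocalizedModule (Submonoid.powers a) G.toExtension.CotangentSpace)
    (P := LocalizedModule (Submonoid.powers a) Ω[A⁄R])
    (f := LocalizedModule.map (Submonoid.powers a) G.toExtension.cotangentComplex)
    (g := LocalizedModule.map (Submonoid.powers a) G.toExtension.toKaehler) hex hinj hsurj
  have h01 : (∃ l, (LocalizedModule.map (Submonoid.powers a) G.toExtension.toKaehler) ∘ₗ l =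
      LinearMap.id) → ∃ l, l ∘ₗ (LocalizedModule.map (Submonoid.powers a)
        G.toExtension.cotangentComplex) = LinearMap.id := (htfae.out 0 1).mp
  obtain ⟨L, hL⟩ := h01 ⟨σ, hσ⟩
  -- minors
  have hJ : ∀ j k, (G.cotangentSpaceBasis.ofIsLocalizedModule (Localization.Away a)
      (Submonoid.powers a)
      (LocalizedModule.mkLinearMap (Submonoid.powers a) G.toExtension.CotangentSpace)).repr
      (LocalizedModule.map (Submonoid.powers a) G.toExtension.cotangentComplex (β' j)) k =
      (Matrix.of fun j k => algebraMap A (Localization.Away a)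
        (aeval G.val (pderiv k ((f j : G.toExtension.ker) : G.toExtension.Ring)))) j k := by
    intro j k
    rw [hβ' j, repr_locF1_mk]
    rfl
  obtain ⟨coef, hcoef⟩ := exists_coef_minors_of_leftInverse (T := Localization.Away a)
    (M := LocalizedModule (Submonoid.powers a) G.toExtension.Cotangent)
    (V := LocalizedModule (Submonoid.powers a) G.toExtension.CotangentSpace)
    (LocalizedModule.map (Submonoid.powers a) G.toExtension.cotangentComplex) L hL β'
    (G.cotangentSpaceBasis.ofIsLocalizedModule (Localization.Away a) (Submonoid.powers a)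
      (LocalizedModule.mkLinearMap (Submonoid.powers a) G.toExtension.CotangentSpace))
    (Matrix.of fun j k => algebraMap A (Localization.Away a)
      (aeval G.val (pderiv k ((f j : G.toExtension.ker) : G.toExtension.Ring)))) hJ
  have hdet : ∀ cols : Fin c → Fin N,
      ((Matrix.of fun j k => algebraMap A (Localization.Away a)
        (aeval G.val (pderiv k ((f j : G.toExtension.ker) : G.toExtension.Ring)))).submatrix id
          cols).det =
      algebraMap A (Localization.Away a) (aeval (R := R) G.val (Matrix.det (Matrix.of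
        fun j k : Fin c => pderiv (cols k) ((f j : G.toExtension.ker) : G.toExtension.Ring)))) := by
    intro cols
    have : (Matrix.of fun j k => algebraMap A (Localization.Away a)
        (aeval G.val (pderiv k ((f j : G.toExtension.ker) : G.toExtension.Ring)))).submatrix id
          cols =
        ((algebraMap A (Localization.Away a)).comp (aeval (R := R) G.val).toRingHom).mapMatrix
          (Matrix.of fun j k : Fin c =>
            pderiv (cols k) ((f j : G.toExtension.ker) : G.toExtension.Ring)) := by
      ext j k
      simp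
    rw [this, ← RingHom.map_det]
    rfl
  obtain ⟨K1, hK1⟩ := exists_pow_mem_of_one_mem_map a
    (Ideal.span (Set.range fun cols : Fin c → Fin N => aeval (R := R) G.val (Matrix.det (Matrix.of
      fun j k : Fin c => pderiv (cols k) ((f j : G.toExtension.ker) : G.toExtension.Ring))))) (by
    rw [← hcoef]
    refine Ideal.sum_mem _ fun cols _ => Ideal.mul_mem_left _ _ ?_
    rw [hdet]
    exact Ideal.mem_map_of_mem _ (Ideal.subset_span ⟨cols, rfl⟩))
  -- tail
  choose kk hkk using fun ℓ => exists_pow_smul_mem_span G a f β' hβ'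
    (Algebra.Extension.Cotangent.mk ⟨r ℓ, hrmem ℓ⟩)
  refine ⟨max K1 (Finset.univ.sup kk), fun n hn => ?_⟩
  refine isStrictlyStandard_of_data hcN (aeval (R := R) G.val) G.aeval_val_surjective
    (fun j => ((f j : G.toExtension.ker) : G.toExtension.Ring)) r
    (fun j => by rw [hkerφ]; exact (f j).2) (by rw [hkerφ, ← hr]; rfl) (a ^ n) ?_ ?_
  · have h1 : a ^ n = a ^ (n - K1) * a ^ K1 := by
      rw [← pow_add]; congr 1; have := le_of_max_le_left hn; omega
    rw [h1]
    exact Ideal.mul_mem_left _ _ hK1
  · intro b' hb' ℓ
    rw [hkerφ]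
    have hkl : kk ℓ ≤ n := le_trans (Finset.le_sup (Finset.mem_univ ℓ)) (le_of_max_le_right hn)
    have h1 : a ^ n • Algebra.Extension.Cotangent.mk (⟨r ℓ, hrmem ℓ⟩ : G.toExtension.ker) ∈
        Submodule.span A (Set.range fun j => Algebra.Extension.Cotangent.mk (f j)) := by
      have h2 : a ^ n = a ^ (n - kk ℓ) * a ^ (kk ℓ) := by
        rw [← pow_add]; congr 1; omega
      rw [h2, mul_smul]
      exact Submodule.smul_mem _ _ (hkk ℓ)
    exact mul_mem_of_smul_mk_mem G.toExtension f ⟨r ℓ, hrmem ℓ⟩ (a ^ n) h1 b'
      (by rw [← hb']; exact G.algebraMap_apply b')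

end
end Groth.Agent.Lib.Helper7.Smoothing
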