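import Mathlib

set_option autoImplicit false
universe u
open TensorProduct

namespace Groth.Agent.Lib.Helper10

section
variable (A : Type u) [CommRing A] (M : Type u) [AddCommGroup M] [Module A M]
  (N : Type u) [AddCommGroup N] [Module A N] [Module (SymmetricAlgebra A M) N]
  [IsScalarTower A (SymmetricAlgebra A M) N]

/-- A derivation out of the symmetric algebra with prescribed values on generators. -/
theorem exists_derivation_symmetricAlgebra (g : M →ₗ[A] N) :
    ∃ δ : Derivation A (SymmetricAlgebra A M) N, ∀ m, δ (SymmetricAlgebra.ι A M m) = g m := by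
  let _ : Module (SymmetricAlgebra A M)ᵐᵒᵖ N :=
    Module.compHom _ ((RingHom.id (SymmetricAlgebra A M)).fromOpposite mul_comm)
  have : IsCentralScalar (SymmetricAlgebra A M) N := ⟨fun r m => rfl⟩
  have : IsScalarTower A (SymmetricAlgebra A M)ᵐᵒᵖ N := ⟨fun a c n => by
    change (a • c).unop • n = a • (c.unop • n)
    rw [MulOpposite.unop_smul, smul_assoc]⟩
  let f : M →ₗ[A] TrivSqZeroExt (SymmetricAlgebra A M) N :=
    (TrivSqZeroExt.inlAlgHom A (SymmetricAlgebra A M) N).toLinearMap ∘ₗ SymmetricAlgebra.ι A M +
      ((TrivSqZeroExt.inrHom (SymmetricAlgebra A M) N).restrictScalars A) ∘ₗ g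
  let F : SymmetricAlgebra A M →ₐ[A] TrivSqZeroExt (SymmetricAlgebra A M) N :=
    SymmetricAlgebra.lift f
  have hF1 : ∀ c, (F c).fst = c := by
    intro c
    have : (TrivSqZeroExt.fstHom A (SymmetricAlgebra A M) N).comp F = AlgHom.id A _ := by
      apply SymmetricAlgebra.algHom_ext
      ext m
      simp [F, f]
    exact congrArg (fun φ : SymmetricAlgebra A M →ₐ[A] SymmetricAlgebra A M => φ c) this
  refine ⟨{ toLinearMap := (TrivSqZeroExt.sndHom (SymmetricAlgebra A M) N).restrictScalars A ∘ₗ F.toLinearMap
            map_one_eq_zero' := ?_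
            leibniz' := ?_ }, ?_⟩
  · simp
  · intro a b
    simp only [LinearMap.coe_comp, Function.comp_apply, LinearMap.coe_restrictScalars, AlgHom.toLinearMap_apply,
      map_mul]
    change (F a * F b).snd = _
    rw [TrivSqZeroExt.snd_mul, hF1, hF1]
    rfl
  · intro m
    simp [F, f]

end

end Groth.Agent.Lib.Helper10

namespace Groth.Agent.Lib.Helper10

theorem kaehler_symmetricAlgebra_bijective (A : Type u) [CommRing A] (M : Type u)
    [AddCommGroup M] [Module A M] :
    Function.Bijective (LinearMap.liftBaseChange (SymmetricAlgebra A M)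
      ((KaehlerDifferential.D A (SymmetricAlgebra A M)).toLinearMap.restrictScalars A ∘ₗ SymmetricAlgebra.ι A M)) := by
  set φ := LinearMap.liftBaseChange (SymmetricAlgebra A M)
      ((KaehlerDifferential.D A (SymmetricAlgebra A M)).toLinearMap.restrictScalars A ∘ₗ SymmetricAlgebra.ι A M) with hφ
  obtain ⟨δ, hδ⟩ := exists_derivation_symmetricAlgebra A M (SymmetricAlgebra A M ⊗[A] M)
    (TensorProduct.mk A (SymmetricAlgebra A M) M 1)
  let ψ : Ω[SymmetricAlgebra A M⁄A] →ₗ[SymmetricAlgebra A M] (SymmetricAlgebra A M ⊗[A] M) :=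
    δ.liftKaehlerDifferential
  have hφ1 : ∀ (c : SymmetricAlgebra A M) (m : M), φ (c ⊗ₜ m) =
      c • KaehlerDifferential.D A (SymmetricAlgebra A M) (SymmetricAlgebra.ι A M m) := by
    intro c m
    simp [hφ]
  have h1 : ψ ∘ₗ φ = LinearMap.id := by
    apply TensorProduct.AlgebraTensorModule.ext
    intro c m
    simp only [LinearMap.coe_comp, Function.comp_apply, LinearMap.id_coe, id_eq]
    rw [hφ1, map_smul]
    change c • δ.liftKaehlerDifferential (KaehlerDifferential.D A _ _) = _
    rw [Derivation.liftKaehlerDifferential_comp_D, hδ, TensorProduct.mk_apply, TensorProduct.smul_tmul',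
      smul_eq_mul, mul_one]
  have h2 : ∀ c : SymmetricAlgebra A M, φ (δ c) = KaehlerDifferential.D A _ c := by
    intro c
    induction c using SymmetricAlgebra.induction with
    | algebraMap r => rw [Derivation.map_algebraMap, Derivation.map_algebraMap, map_zero]
    | ι m => rw [hδ, TensorProduct.mk_apply, hφ1, one_smul]
    | mul a b ha hb =>
      rw [Derivation.leibniz, Derivation.leibniz, map_add, map_smul, map_smul, ha, hb]
    | add a b ha hb => rw [map_add, map_add, map_add, ha, hb]
  have h3 : φ ∘ₗ ψ = LinearMap.id := by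
    apply LinearMap.ext_on_range (KaehlerDifferential.span_range_derivation A (SymmetricAlgebra A M))
    intro c
    simp only [LinearMap.coe_comp, Function.comp_apply, LinearMap.id_coe, id_eq]
    change φ (δ.liftKaehlerDifferential (KaehlerDifferential.D A _ c)) = _
    rw [Derivation.liftKaehlerDifferential_comp_D, h2]
  refine ⟨?_, ?_⟩
  · intro x y hxy
    have := congrArg ψ hxy
    rwa [← LinearMap.comp_apply, ← LinearMap.comp_apply, h1] at this
  · intro y
    exact ⟨ψ y, by rw [← LinearMap.comp_apply, h3]; rfl⟩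

end Groth.Agent.Lib.Helper10
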