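import Mathlib

set_option autoImplicit false

namespace Groth.Agent.Helper13SymLoc

universe u

open SymmetricAlgebra

section

variable {R : Type u} [CommRing R] {R' : Type u} [CommRing R'] [Algebra R R']
  {M : Type u} [AddCommGroup M] [Module R M] {M' : Type u} [AddCommGroup M'] [Module R M']
  [Module R' M'] [IsScalarTower R R' M']

/-- the `R`-algebra homomorphism `Sym_R M → Sym_R' M'` induced by an `R`-linear map `M → M'` -/
noncomputable def symMapₐ (f : M →ₗ[R] M') : SymmetricAlgebra R M →ₐ[R] SymmetricAlgebra R' M' :=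
  SymmetricAlgebra.lift (((SymmetricAlgebra.ι R' M').restrictScalars R).comp f)

@[simp]
theorem symMapₐ_ι (f : M →ₗ[R] M') (m : M) :
    symMapₐ (R' := R') f (ι R M m) = ι R' M' (f m) :=
  SymmetricAlgebra.lift_ι_apply _ _

theorem isLocalization_symMapₐ (r : R) [IsLocalization.Away r R'] (f : M →ₗ[R] M')
    [IsLocalizedModule (Submonoid.powers r) f] :
    letI := (symMapₐ (R' := R') f).toRingHom.toAlgebra
    IsLocalization.Away (algebraMap R (SymmetricAlgebra R M) r) (SymmetricAlgebra R' M') := by
  letI := (symMapₐ (R' := R') f).toRingHom.toAlgebra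
  have halg : ∀ t : SymmetricAlgebra R M,
      algebraMap (SymmetricAlgebra R M) (SymmetricAlgebra R' M') t = symMapₐ (R' := R') f t :=
    fun t => rfl
  have hr : IsUnit (algebraMap R R' r) := IsLocalization.Away.algebraMap_isUnit r
  have hrT' : IsUnit (algebraMap R (SymmetricAlgebra R' M') r) := by
    rw [IsScalarTower.algebraMap_apply R R' (SymmetricAlgebra R' M')]
    exact hr.map _
  rw [IsLocalization.Away, isLocalization_iff]
  refine ⟨?_, ?_, ?_⟩
  · rintro ⟨_, n, rfl⟩
    rw [halg, map_pow, AlgHom.commutes]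
    exact hrT'.pow n
  · -- surjectivity
    suffices h : ∀ z : SymmetricAlgebra R' M', ∃ (n : ℕ) (t : SymmetricAlgebra R M),
        symMapₐ (R' := R') f t = algebraMap R (SymmetricAlgebra R' M') r ^ n * z by
      intro z
      obtain ⟨n, t, ht⟩ := h z
      refine ⟨⟨t, ⟨_, n, rfl⟩⟩, ?_⟩
      change z * algebraMap _ _ (algebraMap R (SymmetricAlgebra R M) r ^ n) = algebraMap _ _ t
      rw [halg, halg, ht, map_pow, AlgHom.commutes, mul_comm]
    intro z
    induction z using SymmetricAlgebra.induction with
    | algebraMap s =>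
      obtain ⟨⟨a, ⟨_, n, rfl⟩⟩, ha⟩ := IsLocalization.surj (Submonoid.powers r) s
      refine ⟨n, algebraMap R _ a, ?_⟩
      rw [AlgHom.commutes, IsScalarTower.algebraMap_apply R R' (SymmetricAlgebra R' M'),
        IsScalarTower.algebraMap_apply R R' (SymmetricAlgebra R' M') r, ← map_pow, ← map_mul,
        ← ha, map_pow, mul_comm]
    | ι s =>
      obtain ⟨⟨t, ⟨_, n, rfl⟩⟩, ht⟩ := IsLocalizedModule.surj (Submonoid.powers r) f s
      refine ⟨n, ι R M t, ?_⟩
      rw [symMapₐ_ι, ← ht]
      change (ι R' M') (r ^ n • s) = _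
      rw [← algebraMap_smul R' (r ^ n) s, map_smul, Algebra.smul_def,
        ← IsScalarTower.algebraMap_apply R R' (SymmetricAlgebra R' M'), map_pow]
    | mul a b ha hb =>
      obtain ⟨n₁, t₁, h₁⟩ := ha
      obtain ⟨n₂, t₂, h₂⟩ := hb
      refine ⟨n₁ + n₂, t₁ * t₂, ?_⟩
      rw [map_mul, h₁, h₂, pow_add]
      ring
    | add a b ha hb =>
      obtain ⟨n₁, t₁, h₁⟩ := ha
      obtain ⟨n₂, t₂, h₂⟩ := hb
      refine ⟨n₁ + n₂, algebraMap R _ (r ^ n₂) * t₁ + algebraMap R _ (r ^ n₁) * t₂, ?_⟩
      rw [map_add, map_mul, map_mul, h₁, h₂, AlgHom.commutes, AlgHom.commutes, map_pow, map_pow,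
        pow_add]
      ring
  · -- injectivity up to powers
    intro x y hxy
    rw [halg, halg] at hxy
    let T := SymmetricAlgebra R M
    let L := Localization.Away (algebraMap R T r)
    have hrL : IsUnit (algebraMap R L r) := by
      rw [IsScalarTower.algebraMap_apply R T L]
      exact IsLocalization.Away.algebraMap_isUnit _
    let ψ : R' →+* L := IsLocalization.Away.lift r hrL
    letI : Algebra R' L := ψ.toAlgebra
    haveI : IsScalarTower R R' L := IsScalarTower.of_algebraMap_eq fun a =>
      (IsLocalization.Away.lift_eq r hrL a).symm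
    let g : M →ₗ[R] L := ((Algebra.linearMap T L).restrictScalars R).comp (ι R M)
    have hunits : ∀ x : Submonoid.powers r, IsUnit (algebraMap R (Module.End R L) x) := by
      rintro ⟨_, n, rfl⟩
      have h1 : IsUnit (algebraMap R L (r ^ n)) := by rw [map_pow]; exact hrL.pow n
      have h2 := h1.map (Algebra.lmul R L)
      rwa [AlgHom.commutes] at h2
    let g' : M' →ₗ[R] L := IsLocalizedModule.lift (Submonoid.powers r) f g hunits
    let g'' : M' →ₗ[R'] L := LinearMap.extendScalarsOfIsLocalization (Submonoid.powers r) R' g'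
    let σ : SymmetricAlgebra R' M' →ₐ[R'] L := SymmetricAlgebra.lift g''
    have key : (σ.restrictScalars R).comp (symMapₐ (R' := R') f) = IsScalarTower.toAlgHom R T L := by
      apply SymmetricAlgebra.algHom_ext
      refine LinearMap.ext fun m => ?_
      change σ (symMapₐ (R' := R') f (ι R M m)) = algebraMap T L (ι R M m)
      rw [symMapₐ_ι, SymmetricAlgebra.lift_ι_apply]
      change g' (f m) = _
      rw [IsLocalizedModule.lift_apply]
      rfl
    have hxy' : algebraMap T L x = algebraMap T L y := by
      have hx := congrArg (fun F : T →ₐ[R] L => F x) key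
      have hy := congrArg (fun F : T →ₐ[R] L => F y) key
      simp only [AlgHom.coe_comp, AlgHom.coe_restrictScalars', Function.comp_apply,
        IsScalarTower.coe_toAlgHom'] at hx hy
      rw [← hx, ← hy, hxy]
    exact (IsLocalization.eq_iff_exists (Submonoid.powers (algebraMap R T r)) L).mp hxy'

end

section Semilinear

variable {R : Type u} [CommRing R] {R' : Type u} [CommRing R'] {R'' : Type u} [CommRing R'']
  {M : Type u} [AddCommGroup M] [Module R M] {M' : Type u} [AddCommGroup M'] [Module R' M']
  {M'' : Type u} [AddCommGroup M''] [Module R'' M'']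

/-- ring homomorphisms out of a symmetric algebra are determined by their values on scalars and
generators -/
theorem ringHom_ext {B : Type*} [Semiring B] {F G : SymmetricAlgebra R M →+* B}
    (h1 : ∀ a : R, F (algebraMap R _ a) = G (algebraMap R _ a))
    (h2 : ∀ m : M, F (ι R M m) = G (ι R M m)) : F = G := by
  refine RingHom.ext fun z => ?_
  induction z using SymmetricAlgebra.induction with
  | algebraMap a => exact h1 a
  | ι m => exact h2 m
  | mul a b ha hb => rw [map_mul, map_mul, ha, hb]
  | add a b ha hb => rw [map_add, map_add, ha, hb]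

/-- the ring homomorphism `Sym_R M → Sym_R' M'` induced by a `φ`-semilinear map `M → M'` -/
noncomputable def symMap (φ : R →+* R') (f : M →+ M') (hf : ∀ (a : R) (m : M), f (a • m) = φ a • f m) :
    SymmetricAlgebra R M →+* SymmetricAlgebra R' M' :=
  letI := φ.toAlgebra
  letI : Module R M' := Module.compHom M' φ
  haveI : IsScalarTower R R' M' := ⟨fun a b m => by
    change (φ a * b) • m = φ a • (b • m)
    rw [mul_smul]⟩
  (symMapₐ (R' := R') ({ toFun := f, map_add' := f.map_add, map_smul' := hf } : M →ₗ[R] M')).toRingHom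

@[simp]
theorem symMap_ι (φ : R →+* R') (f : M →+ M') (hf : ∀ (a : R) (m : M), f (a • m) = φ a • f m)
    (m : M) : symMap φ f hf (ι R M m) = ι R' M' (f m) := by
  letI := φ.toAlgebra
  letI : Module R M' := Module.compHom M' φ
  haveI : IsScalarTower R R' M' := ⟨fun a b m => by
    change (φ a * b) • m = φ a • (b • m)
    rw [mul_smul]⟩
  exact symMapₐ_ι (R' := R') ({ toFun := f, map_add' := f.map_add, map_smul' := hf } : M →ₗ[R] M') m

@[simp]
theorem symMap_algebraMap (φ : R →+* R') (f : M →+ M')
    (hf : ∀ (a : R) (m : M), f (a • m) = φ a • f m) (a : R) :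
    symMap φ f hf (algebraMap R _ a) = algebraMap R' _ (φ a) := by
  letI := φ.toAlgebra
  letI : Module R M' := Module.compHom M' φ
  haveI : IsScalarTower R R' M' := ⟨fun a b m => by
    change (φ a * b) • m = φ a • (b • m)
    rw [mul_smul]⟩
  change (symMapₐ (R' := R') ({ toFun := f, map_add' := f.map_add, map_smul' := hf } : M →ₗ[R] M'))
    (algebraMap R _ a) = _
  rw [AlgHom.commutes, IsScalarTower.algebraMap_apply R R' (SymmetricAlgebra R' M')]
  rfl

theorem symMap_id :
    symMap (RingHom.id R) (AddMonoidHom.id M) (fun _ _ => rfl) = RingHom.id (SymmetricAlgebra R M) :=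
  ringHom_ext (fun a => by simp) (fun m => by simp)

theorem symMap_comp (φ : R →+* R') (f : M →+ M') (hf : ∀ (a : R) (m : M), f (a • m) = φ a • f m)
    (φ' : R' →+* R'') (f' : M' →+ M'') (hf' : ∀ (a : R') (m : M'), f' (a • m) = φ' a • f' m) :
    (symMap φ' f' hf').comp (symMap φ f hf) =
      symMap (φ'.comp φ) (f'.comp f) (fun a m => by
        simp only [AddMonoidHom.coe_comp, Function.comp_apply, RingHom.coe_comp, hf, hf']) :=
  ringHom_ext (fun a => by simp) (fun m => by simp)

theorem isLocalization_symMap (φ : R →+* R') (f : M →+ M')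
    (hf : ∀ (a : R) (m : M), f (a • m) = φ a • f m) (r : R)
    (hφ : letI := φ.toAlgebra; IsLocalization.Away r R')
    (hf2 : ∀ s : M', ∃ (n : ℕ) (t : M), φ r ^ n • s = f t)
    (hf3 : ∀ t : M, f t = 0 → ∃ n : ℕ, r ^ n • t = 0) :
    letI := (symMap φ f hf).toAlgebra
    IsLocalization.Away (algebraMap R (SymmetricAlgebra R M) r) (SymmetricAlgebra R' M') := by
  letI := φ.toAlgebra
  letI : Module R M' := Module.compHom M' φ
  haveI : IsScalarTower R R' M' := ⟨fun a b m => by
    change (φ a * b) • m = φ a • (b • m)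
    rw [mul_smul]⟩
  haveI : IsLocalization.Away r R' := hφ
  let fl : M →ₗ[R] M' := { toFun := f, map_add' := f.map_add, map_smul' := hf }
  haveI : IsLocalizedModule (Submonoid.powers r) fl := by
    refine IsLocalizedModule.Away.mk_of_addCommGroup ?_ ?_ ?_
    · have h1 : IsUnit (φ r) := IsLocalization.Away.algebraMap_isUnit (S := R') r
      have h2 : IsUnit (algebraMap R' (Module.End R' M') (φ r)) := h1.map _
      rw [Module.End.isUnit_iff] at h2 ⊢
      exact h2
    · intro s
      obtain ⟨n, t, ht⟩ := hf2 s
      exact ⟨n, t, by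
        change (φ (r ^ n)) • s = f t
        rw [map_pow]; exact ht⟩
    · exact hf3
  exact isLocalization_symMapₐ (R' := R') r fl

/-- the ring homomorphism out of a symmetric algebra determined by a ring homomorphism on scalars
and a compatible additive map on generators -/
noncomputable def symLift {B : Type u} [CommRing B] (σ : R →+* B) (g : M →+ B)
    (hg : ∀ (a : R) (m : M), g (a • m) = σ a * g m) : SymmetricAlgebra R M →+* B :=
  letI := σ.toAlgebra
  (SymmetricAlgebra.lift (A := B)
    ({ toFun := g, map_add' := g.map_add, map_smul' := fun a m => by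
        rw [hg]; rfl } : M →ₗ[R] B)).toRingHom

@[simp]
theorem symLift_ι {B : Type u} [CommRing B] (σ : R →+* B) (g : M →+ B)
    (hg : ∀ (a : R) (m : M), g (a • m) = σ a * g m) (m : M) :
    symLift σ g hg (ι R M m) = g m := by
  letI := σ.toAlgebra
  exact SymmetricAlgebra.lift_ι_apply (A := B)
    ({ toFun := g, map_add' := g.map_add, map_smul' := fun a m => by
        rw [hg]; rfl } : M →ₗ[R] B) m

@[simp]
theorem symLift_algebraMap {B : Type u} [CommRing B] (σ : R →+* B) (g : M →+ B)
    (hg : ∀ (a : R) (m : M), g (a • m) = σ a * g m) (a : R) :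
    symLift σ g hg (algebraMap R _ a) = σ a := by
  letI := σ.toAlgebra
  change (SymmetricAlgebra.lift (A := B)
    ({ toFun := g, map_add' := g.map_add, map_smul' := fun a m => by
        rw [hg]; rfl } : M →ₗ[R] B)) (algebraMap R _ a) = _
  rw [AlgHom.commutes]
  rfl

end Semilinear

end Groth.Agent.Helper13SymLoc
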