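import Mathlib
import Groth.Agent.Lib.Helper13SymLoc

set_option autoImplicit false

namespace Groth.Agent.Helper13SymLoc

universe u

open SymmetricAlgebra

section

variable {R : Type u} [CommRing R] {M : Type u} [AddCommGroup M] [Module R M]

/-- the symmetric algebra of a finite module is an algebra of finite type -/
theorem finiteType_symmetricAlgebra [Module.Finite R M] :
    Algebra.FiniteType R (SymmetricAlgebra R M) := by
  classical
  obtain ⟨s, hs⟩ := (Module.finite_def (R := R) (M := M)).mp inferInstance
  refine ⟨⟨s.image (ι R M), ?_⟩⟩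
  rw [eq_top_iff]
  rintro z -
  have hι : ∀ m : M, ι R M m ∈ Algebra.adjoin R ((s.image (ι R M) : Finset _) : Set (SymmetricAlgebra R M)) := by
    intro m
    have hm : m ∈ Submodule.span R (s : Set M) := by rw [hs]; exact Submodule.mem_top
    induction hm using Submodule.span_induction with
    | mem x hx =>
      exact Algebra.subset_adjoin (Finset.mem_coe.mpr (Finset.mem_image_of_mem _ hx))
    | zero => rw [map_zero]; exact zero_mem _
    | add x y _ _ hx hy => rw [map_add]; exact add_mem hx hy
    | smul a x _ hx => rw [map_smul]; exact Subalgebra.smul_mem _ hx a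
  induction z using SymmetricAlgebra.induction with
  | algebraMap a => exact Subalgebra.algebraMap_mem _ a
  | ι m => exact hι m
  | mul a b ha hb => exact mul_mem ha hb
  | add a b ha hb => exact add_mem ha hb

theorem finiteType_algebraMap_symmetricAlgebra [Module.Finite R M] :
    (algebraMap R (SymmetricAlgebra R M)).FiniteType := by
  haveI := finiteType_symmetricAlgebra (R := R) (M := M)
  exact RingHom.finiteType_algebraMap.mpr inferInstance

variable {R' : Type u} [CommRing R'] {M' : Type u} [AddCommGroup M'] [Module R' M']

theorem symMap_surjective (φ : R →+* R') (f : M →+ M')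
    (hf : ∀ (a : R) (m : M), f (a • m) = φ a • f m) (hφ : Function.Surjective φ)
    (hfs : Function.Surjective f) : Function.Surjective (symMap φ f hf) := by
  intro z
  induction z using SymmetricAlgebra.induction with
  | algebraMap a =>
    obtain ⟨a', rfl⟩ := hφ a
    exact ⟨algebraMap R _ a', symMap_algebraMap φ f hf a'⟩
  | ι m =>
    obtain ⟨m', rfl⟩ := hfs m
    exact ⟨ι R M m', symMap_ι φ f hf m'⟩
  | mul a b ha hb =>
    obtain ⟨a', rfl⟩ := ha
    obtain ⟨b', rfl⟩ := hb
    exact ⟨a' * b', map_mul _ _ _⟩
  | add a b ha hb =>
    obtain ⟨a', rfl⟩ := ha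
    obtain ⟨b', rfl⟩ := hb
    exact ⟨a' + b', map_add _ _ _⟩

end

end Groth.Agent.Helper13SymLoc
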