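import Mathlib
import Groth.Prelude.Def_Smoothing
import Groth.Agent.S2110
import Groth.Agent.S2031

/-!
# Helper7Smoothing49 (helper7): Elkik trick packaged

* `formallySmooth_sym_away` (after helper3 S2110.main_free).
* `exists_equiv_fin_of_free_finite`.
* `exists_retract_strictlyStandard`: over a Noetherian base a f.p. algebra `B` has a f.p. retract-algebra `C`
  with large powers of `b` strictly standard in `C` whenever `B_b` is smooth.
-/

set_option autoImplicit false
set_option linter.style.haveILetI false
universe u
open Function TensorProduct MvPolynomial

namespace Groth.Agent.Lib.Helper7.Smoothing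

/-- (after helper3's `S2110.main_free`) the localization of the symmetric algebra of the conormal
module at a point where the base is smooth is formally smooth over `R`. -/
theorem formallySmooth_sym_away {R A : Type u} [CommRing R] [CommRing A] [Algebra R A] {ι : Type}
    (G : Algebra.Generators R A ι) (a : A)
    [Algebra.FormallySmooth R (Localization.Away a)] :
    Algebra.FormallySmooth R
      (Localization.Away (algebraMap A (SymmetricAlgebra A G.toExtension.Cotangent) a)) := by
  haveI hfree : Module.Free (Localization.Away a)
      (LocalizedModule (Submonoid.powers a) G.toExtension.Cotangent × Ω[Localization.Away a⁄R]) :=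
    Groth.Agent.S2110.free_prod_of_smooth_away G a
  haveI : Module.Projective (Localization.Away a)
      (LocalizedModule (Submonoid.powers a) G.toExtension.Cotangent) :=
    Module.Projective.of_split
      (LinearMap.inl (Localization.Away a)
        (LocalizedModule (Submonoid.powers a) G.toExtension.Cotangent) Ω[Localization.Away a⁄R])
      (LinearMap.fst (Localization.Away a)
        (LocalizedModule (Submonoid.powers a) G.toExtension.Cotangent) Ω[Localization.Away a⁄R])
      (by ext; simp)
  haveI : Algebra.FormallySmooth (Localization.Away a)
      (SymmetricAlgebra (Localization.Away a)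
        (LocalizedModule (Submonoid.powers a) G.toExtension.Cotangent)) :=
    Groth.Agent.Lib.Helper26.SymSmooth.formallySmooth
      (SymmetricAlgebra.isSymmetricAlgebra_ι (R := Localization.Away a)
        (M := LocalizedModule (Submonoid.powers a) G.toExtension.Cotangent))
  haveI : Algebra.FormallySmooth R (SymmetricAlgebra (Localization.Away a)
        (LocalizedModule (Submonoid.powers a) G.toExtension.Cotangent)) :=
    Algebra.FormallySmooth.comp R (Localization.Away a) _
  letI algCT : Algebra (SymmetricAlgebra A G.toExtension.Cotangent)
      (SymmetricAlgebra (Localization.Away a)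
        (LocalizedModule (Submonoid.powers a) G.toExtension.Cotangent)) :=
    (Groth.Agent.Helper13SymLoc.symMapₐ (R' := Localization.Away a)
      (LocalizedModule.mkLinearMap (Submonoid.powers a) G.toExtension.Cotangent)).toRingHom.toAlgebra
  haveI hloc : IsLocalization.Away (algebraMap A (SymmetricAlgebra A G.toExtension.Cotangent) a)
      (SymmetricAlgebra (Localization.Away a)
        (LocalizedModule (Submonoid.powers a) G.toExtension.Cotangent)) :=
    Groth.Agent.Helper13SymLoc.isLocalization_symMapₐ a
      (LocalizedModule.mkLinearMap (Submonoid.powers a) G.toExtension.Cotangent)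
  haveI : IsScalarTower R (SymmetricAlgebra A G.toExtension.Cotangent)
      (SymmetricAlgebra (Localization.Away a)
        (LocalizedModule (Submonoid.powers a) G.toExtension.Cotangent)) := by
    apply IsScalarTower.of_algebraMap_eq
    intro r
    rw [IsScalarTower.algebraMap_apply R A (SymmetricAlgebra A G.toExtension.Cotangent)]
    change _ = (Groth.Agent.Helper13SymLoc.symMapₐ (R' := Localization.Away a)
      (LocalizedModule.mkLinearMap (Submonoid.powers a) G.toExtension.Cotangent))
      (algebraMap A _ (algebraMap R A r))
    rw [AlgHom.commutes, IsScalarTower.algebraMap_apply A (Localization.Away a),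
      ← IsScalarTower.algebraMap_apply R A (Localization.Away a),
      ← IsScalarTower.algebraMap_apply R (Localization.Away a)]
  have e : (SymmetricAlgebra (Localization.Away a)
        (LocalizedModule (Submonoid.powers a) G.toExtension.Cotangent)) ≃ₐ[R]
      Localization.Away (algebraMap A (SymmetricAlgebra A G.toExtension.Cotangent) a) :=
    (IsLocalization.algEquiv
      (Submonoid.powers (algebraMap A (SymmetricAlgebra A G.toExtension.Cotangent) a))
      (SymmetricAlgebra (Localization.Away a)
        (LocalizedModule (Submonoid.powers a) G.toExtension.Cotangent))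
      (Localization.Away (algebraMap A (SymmetricAlgebra A G.toExtension.Cotangent) a))).restrictScalars R
  exact Algebra.FormallySmooth.of_equiv e

/-- A finite free module is isomorphic to some `Fin q → T`. -/
theorem exists_equiv_fin_of_free_finite {T M : Type*} [CommRing T] [AddCommGroup M] [Module T M]
    [Module.Free T M] [Module.Finite T M] :
    ∃ q : ℕ, Nonempty ((M × (Fin 0 → T)) ≃ₗ[T] (Fin q → T)) := by
  by_cases hT : Nontrivial T
  · haveI := hT
    let b := Module.Free.chooseBasis T M
    haveI : Finite (Module.Free.ChooseBasisIndex T M) := Module.Finite.finite_basis b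
    haveI : Fintype (Module.Free.ChooseBasisIndex T M) := Fintype.ofFinite _
    refine ⟨Fintype.card (Module.Free.ChooseBasisIndex T M), ⟨?_⟩⟩
    have e1 : (M × (Fin 0 → T)) ≃ₗ[T] M :=
      { toFun := fun x => x.1
        invFun := fun m => (m, 0)
        map_add' := fun _ _ => rfl
        map_smul' := fun _ _ => rfl
        left_inv := fun x => Prod.ext rfl (Subsingleton.elim _ _)
        right_inv := fun _ => rfl }
    exact e1.trans ((b.reindex (Fintype.equivFin _)).equivFun)
  · rw [not_nontrivial_iff_subsingleton] at hT
    haveI := hT
    haveI : Subsingleton M := Module.subsingleton T M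
    refine ⟨0, ⟨?_⟩⟩
    exact
      { toFun := fun _ => 0
        invFun := fun _ => 0
        map_add' := fun _ _ => Subsingleton.elim _ _
        map_smul' := fun _ _ => Subsingleton.elim _ _
        left_inv := fun _ => Subsingleton.elim _ _
        right_inv := fun _ => Subsingleton.elim _ _ }

/-- Elkik's trick packaged (Stacks 07CF + 07CJ): over a Noetherian base, a finitely presented
algebra `B` has a finitely presented retract-algebra `C` such that for `b ∈ B` with `B_b` smooth, large
powers of `b` are strictly standard in `C`, and `b` lies in the singular ideal of `C`. -/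
theorem exists_retract_strictlyStandard {R B : Type u} [CommRing R] [IsNoetherianRing R]
    [CommRing B] [Algebra R B] [Algebra.FinitePresentation R B] :
    ∃ (C : Type u) (_ : CommRing C) (_ : Algebra B C) (_ : Algebra R C)
      (_ : IsScalarTower R B C), Algebra.FinitePresentation R C ∧ Nonempty (C →ₐ[B] B) ∧
      ∀ b : B, Algebra.Smooth R (Localization.Away b) →
        (∃ e₀ : ℕ, ∀ n, e₀ ≤ n → Smoothing.IsStrictlyStandard R C (algebraMap B C b ^ n)) ∧
        algebraMap B C b ∈ Smoothing.singularIdeal R C := by
  obtain ⟨P, hP⟩ : ∃ P, P = Algebra.Presentation.ofFinitePresentation R B := ⟨_, rfl⟩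
  haveI : Module.Finite B P.toGenerators.toExtension.Cotangent :=
    Algebra.Extension.Cotangent.finite P.fg_ker
  haveI hft : Algebra.FiniteType B (SymmetricAlgebra B P.toGenerators.toExtension.Cotangent) :=
    Groth.Agent.Helper13SymLoc.finiteType_symmetricAlgebra
  haveI hftR : Algebra.FiniteType R (SymmetricAlgebra B P.toGenerators.toExtension.Cotangent) :=
    Algebra.FiniteType.trans (S := B) inferInstance hft
  haveI hfp : Algebra.FinitePresentation R
      (SymmetricAlgebra B P.toGenerators.toExtension.Cotangent) :=
    Algebra.FinitePresentation.of_finiteType.mp hftR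
  refine ⟨SymmetricAlgebra B P.toGenerators.toExtension.Cotangent, inferInstance, inferInstance,
    inferInstance, inferInstance, hfp, ⟨SymmetricAlgebra.algebraMapInv⟩, ?_⟩
  intro b hsm
  haveI : Algebra.FormallySmooth R (Localization.Away b) := hsm.formallySmooth
  haveI hfree := Groth.Agent.S2110.main_free P.toGenerators b
  haveI hfs := formallySmooth_sym_away P.toGenerators b
  haveI hsmC : Algebra.Smooth R (Localization.Away
      (algebraMap B (SymmetricAlgebra B P.toGenerators.toExtension.Cotangent) b)) :=
    ⟨hfs, Algebra.FinitePresentation.trans R
      (SymmetricAlgebra B P.toGenerators.toExtension.Cotangent) _⟩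
  refine ⟨?_, ?_⟩
  · obtain ⟨q, ⟨e⟩⟩ := exists_equiv_fin_of_free_finite
      (T := Localization.Away
        (algebraMap B (SymmetricAlgebra B P.toGenerators.toExtension.Cotangent) b))
      (M := Ω[Localization.Away
        (algebraMap B (SymmetricAlgebra B P.toGenerators.toExtension.Cotangent) b)⁄R])
    exact Groth.Agent.S2031.result _ 0 q e
  · rw [Smoothing.singularIdeal, PrimeSpectrum.mem_vanishingIdeal]
    intro x hx
    by_contra hbx
    apply hx
    have hsub := (Algebra.basicOpen_subset_smoothLocus_iff (R := R)
      (f := algebraMap B (SymmetricAlgebra B P.toGenerators.toExtension.Cotangent) b)).mpr hfs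
    exact hsub hbx

end Groth.Agent.Lib.Helper7.Smoothing
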