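import Mathlib
import Groth.Prelude.Def_Smoothing
import Groth.Agent.Lib.Helper7Smoothing49
import Groth.Agent.Lib.Helper7Smoothing50
import Groth.Agent.Lib.Helper7Smoothing30

/-!
# Helper7Smoothing51 (helper7): Stacks 07F1, the construction part

* `isSmoothAt_tensor_of_notMem`: base change of the smooth locus along `k → R`.
* `smooth_away_of_forall`.
* `exists_BC`: for a f.p. algebra `A` over a field `k` and `d, n`, a f.p. `k[x₁..x_d]`-algebra `C` with
  `A → C`, with `xᵢ^c` strictly standard in `C`, `H_{A/k} ⊆ H_{C/k[x]}`, and maps `C → Λ` for any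
  `A → Λ` and `π : Fin d → Λ` with `πᵢⁿ ∈ H_{A/k}Λ`.
-/

set_option autoImplicit false
set_option linter.style.haveILetI false
universe u
open Function TensorProduct MvPolynomial

namespace Groth.Agent.Lib.Helper7.Smoothing

theorem isSmoothAt_tensor_of_notMem {k A : Type u} [CommRing k] [CommRing A] [Algebra k A]
    [Algebra.FinitePresentation k A] (R : Type u) [CommRing R] [Algebra k R]
    (a : A) (ha : a ∈ Smoothing.singularIdeal k A) (q' : Ideal (R ⊗[k] A)) [q'.IsPrime]
    (haq : (1 : R) ⊗ₜ[k] a ∉ q') : Algebra.IsSmoothAt R q' := by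
  haveI hsm : Algebra.Smooth k (Localization.Away a) := by
    rw [← Algebra.basicOpen_subset_smoothLocus_iff_smooth]
    intro x hx
    haveI := x.2
    exact isSmoothAt_of_notMem_of_mem_singularIdeal a ha x.asIdeal hx
  haveI : Algebra.FormallySmooth R (R ⊗[k] Localization.Away a) := inferInstance
  haveI : Algebra.FormallySmooth R (Localization.Away ((1 : R) ⊗ₜ[k] a)) :=
    Algebra.FormallySmooth.of_equiv
      (IsLocalization.Away.tensorProductEquivTMulRight k R a (Localization.Away a))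
  have hsub := (Algebra.basicOpen_subset_smoothLocus_iff (R := R)
    (f := (1 : R) ⊗ₜ[k] a)).mpr inferInstance
  exact hsub (show (⟨q', inferInstance⟩ : PrimeSpectrum (R ⊗[k] A)) ∈ _ from haq)

/-- smoothness of a principal localization from pointwise smoothness. -/
theorem smooth_away_of_forall {R B : Type u} [CommRing R] [CommRing B] [Algebra R B]
    [Algebra.FinitePresentation R B] (b : B)
    (H : ∀ Q : Ideal B, ∀ _ : Q.IsPrime, b ∉ Q → Algebra.IsSmoothAt R Q) :
    Algebra.Smooth R (Localization.Away b) := by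
  rw [← Algebra.basicOpen_subset_smoothLocus_iff_smooth]
  intro x hx
  exact H x.asIdeal x.2 hx

/-- **Stacks 07F1, construction part.** -/
theorem exists_BC {k A : Type u} [Field k] [CommRing A] [Algebra k A]
    [Algebra.FinitePresentation k A] (d n : ℕ) :
    ∃ (C : Type u) (_ : CommRing C) (_ : Algebra (MvPolynomial (Fin d) k) C) (_ : Algebra k C)
      (_ : IsScalarTower k (MvPolynomial (Fin d) k) C),
      Algebra.FinitePresentation (MvPolynomial (Fin d) k) C ∧
      ∃ (g : A →ₐ[k] C) (c : ℕ), 0 < c ∧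
        (∀ i, Smoothing.IsStrictlyStandard (MvPolynomial (Fin d) k) C
          (algebraMap (MvPolynomial (Fin d) k) C (X i ^ c))) ∧
        (∀ a ∈ Smoothing.singularIdeal k A,
          g a ∈ Smoothing.singularIdeal (MvPolynomial (Fin d) k) C) ∧
        ∀ (Λ : Type u) [CommRing Λ] [Algebra k Λ] (φ : A →ₐ[k] Λ) (π : Fin d → Λ),
          (∀ i, π i ^ n ∈ (Smoothing.singularIdeal k A).map φ) →
          ∃ h : C →ₐ[k] Λ, h.comp g = φ ∧
            ∀ i, h (algebraMap (MvPolynomial (Fin d) k) C (X i)) = π i := by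
  classical
  haveI : IsNoetherianRing A := Algebra.FiniteType.isNoetherianRing k A
  obtain ⟨r, a, ha⟩ := Submodule.fg_iff_exists_fin_generating_family.mp
    (IsNoetherian.noetherian (Smoothing.singularIdeal k A))
  have haH : ∀ j, a j ∈ Smoothing.singularIdeal k A := fun j => by
    rw [← ha]; exact Submodule.subset_span ⟨j, rfl⟩
  -- the algebra B
  obtain ⟨B, _, _, _, _, hBfp, hBrel, hBsm, hBmap⟩ :=
    exists_BB (R := MvPolynomial (Fin d) k) (A' := MvPolynomial (Fin d) k ⊗[k] A) d r n
      (fun i => (X i : MvPolynomial (Fin d) k) ⊗ₜ[k] (1 : A))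
      (fun j => (1 : MvPolynomial (Fin d) k) ⊗ₜ[k] a j)
      (fun j q' hq' hj => by
        haveI := hq'
        exact isSmoothAt_tensor_of_notMem (MvPolynomial (Fin d) k) (a j) (haH j) q' hj)
  haveI := hBfp
  -- the algebra C
  obtain ⟨C, _, _, _, _, hCfp, ⟨ρ⟩, hC⟩ :=
    exists_retract_strictlyStandard (R := MvPolynomial (Fin d) k) (B := B)
  haveI := hCfp
  letI algkC : Algebra k C :=
    ((algebraMap (MvPolynomial (Fin d) k) C).comp (algebraMap k (MvPolynomial (Fin d) k))).toAlgebra
  haveI towerkC : IsScalarTower k (MvPolynomial (Fin d) k) C :=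
    IsScalarTower.of_algebraMap_eq (fun _ => rfl)
  -- the ring map `A → B`
  obtain ⟨ιA, hιA⟩ : ∃ ιA : A →+* B, ιA = (algebraMap (MvPolynomial (Fin d) k ⊗[k] A) B).comp
      (Algebra.TensorProduct.includeRight (R := k) (A := MvPolynomial (Fin d) k)
        (B := A)).toRingHom := ⟨_, rfl⟩
  have hιA_apply : ∀ x, ιA x = algebraMap (MvPolynomial (Fin d) k ⊗[k] A) B
      ((1 : MvPolynomial (Fin d) k) ⊗ₜ[k] x) := fun x => by rw [hιA]; rfl
  -- compatibility of the algebra maps
  have hRB : ∀ p : MvPolynomial (Fin d) k, algebraMap (MvPolynomial (Fin d) k) B p =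
      algebraMap (MvPolynomial (Fin d) k ⊗[k] A) B (p ⊗ₜ[k] (1 : A)) := by
    intro p
    rw [IsScalarTower.algebraMap_apply (MvPolynomial (Fin d) k) (MvPolynomial (Fin d) k ⊗[k] A) B,
      Algebra.TensorProduct.algebraMap_apply, Algebra.algebraMap_self_apply]
  have hkB : ∀ c₀ : k, algebraMap (MvPolynomial (Fin d) k) B
      (algebraMap k (MvPolynomial (Fin d) k) c₀) = ιA (algebraMap k A c₀) := by
    intro c₀
    have ht : (algebraMap k (MvPolynomial (Fin d) k) c₀) ⊗ₜ[k] (1 : A) =
        (1 : MvPolynomial (Fin d) k) ⊗ₜ[k] (algebraMap k A c₀) := by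
      rw [Algebra.algebraMap_eq_smul_one, Algebra.algebraMap_eq_smul_one, TensorProduct.smul_tmul]
    rw [hRB, hιA_apply, ht]
  -- smoothness
  have hkey : ∀ (b : B), b ∈ Ideal.span (Set.range fun j =>
      algebraMap (MvPolynomial (Fin d) k ⊗[k] A) B ((1 : MvPolynomial (Fin d) k) ⊗ₜ[k] a j)) →
      Algebra.Smooth (MvPolynomial (Fin d) k) (Localization.Away b) := by
    intro b hb
    refine smooth_away_of_forall b (fun Q hQ hbQ => ?_)
    by_contra hns
    apply hbQ
    have hle : Ideal.span (Set.range fun j =>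
        algebraMap (MvPolynomial (Fin d) k ⊗[k] A) B
          ((1 : MvPolynomial (Fin d) k) ⊗ₜ[k] a j)) ≤ Q := by
      rw [Ideal.span_le]
      rintro _ ⟨j, rfl⟩
      by_contra hj
      exact hns (hBsm Q hQ j hj)
    exact hle hb
  have hpow_smooth : ∀ (b : B) (m : ℕ), Algebra.Smooth (MvPolynomial (Fin d) k)
      (Localization.Away (b ^ m)) →
      Algebra.Smooth (MvPolynomial (Fin d) k) (Localization.Away b) := by
    intro b m hsm
    refine smooth_away_of_forall b (fun Q hQ hbQ => ?_)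
    have hsub := (Algebra.basicOpen_subset_smoothLocus_iff_smooth
      (R := MvPolynomial (Fin d) k) (f := b ^ m)).mpr hsm
    exact hsub (show (⟨Q, hQ⟩ : PrimeSpectrum B) ∈ _ from
      fun h => hbQ (Ideal.IsPrime.mem_of_pow_mem hQ _ h))
  have hx_smooth : ∀ i : Fin d, Algebra.Smooth (MvPolynomial (Fin d) k) (Localization.Away
      (algebraMap (MvPolynomial (Fin d) k ⊗[k] A) B
        ((X i : MvPolynomial (Fin d) k) ⊗ₜ[k] (1 : A)))) :=
    fun i => hpow_smooth _ n (hkey _ (hBrel i))
  have hιA_span : ∀ x ∈ Smoothing.singularIdeal k A, ιA x ∈ Ideal.span (Set.range fun j =>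
      algebraMap (MvPolynomial (Fin d) k ⊗[k] A) B
        ((1 : MvPolynomial (Fin d) k) ⊗ₜ[k] a j)) := by
    intro x hx
    have h1 : ιA x ∈ (Ideal.span (Set.range a)).map ιA := Ideal.mem_map_of_mem _ (by
      change x ∈ Submodule.span A (Set.range a)
      rw [ha]; exact hx)
    rw [Ideal.map_span] at h1
    refine Ideal.span_mono ?_ h1
    rintro _ ⟨_, ⟨j, rfl⟩, rfl⟩
    exact ⟨j, (hιA_apply _).symm⟩
  -- the exponent
  choose e₀ he₀ using fun i => (hC _ (hx_smooth i)).1
  obtain ⟨c, hc⟩ : ∃ c : ℕ, c = max 1 (Finset.univ.sup e₀) := ⟨_, rfl⟩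
  have hc1 : 0 < c := by rw [hc]; exact lt_of_lt_of_le Nat.one_pos (le_max_left _ _)
  have hce : ∀ i, e₀ i ≤ c := fun i => by
    rw [hc]; exact le_trans (Finset.le_sup (Finset.mem_univ i)) (le_max_right _ _)
  have hRC : ∀ i : Fin d, algebraMap (MvPolynomial (Fin d) k) C (X i) = algebraMap B C
      (algebraMap (MvPolynomial (Fin d) k ⊗[k] A) B
        ((X i : MvPolynomial (Fin d) k) ⊗ₜ[k] (1 : A))) := by
    intro i
    rw [IsScalarTower.algebraMap_apply (MvPolynomial (Fin d) k) B C, hRB]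
  -- the map `A → C`
  let g : A →ₐ[k] C :=
    { toRingHom := (algebraMap B C).comp ιA
      commutes' := by
        intro c₀
        change algebraMap B C (ιA (algebraMap k A c₀)) =
          algebraMap (MvPolynomial (Fin d) k) C (algebraMap k (MvPolynomial (Fin d) k) c₀)
        rw [← hkB, ← IsScalarTower.algebraMap_apply (MvPolynomial (Fin d) k) B C] }
  have hg : ∀ x, g x = algebraMap B C (ιA x) := fun _ => rfl
  refine ⟨C, inferInstance, inferInstance, algkC, towerkC, hCfp, g, c, hc1, ?_, ?_, ?_⟩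
  · intro i
    rw [map_pow, hRC]
    exact he₀ i c (hce i)
  · intro x hx
    rw [hg]
    exact (hC _ (hkey _ (hιA_span x hx))).2
  · intro Λ _ _ φ π hπ
    obtain ⟨ψ₁, hψ₁⟩ : ∃ ψ₁ : MvPolynomial (Fin d) k ⊗[k] A →ₐ[k] Λ,
        ψ₁ = Algebra.TensorProduct.productMap (aeval π) φ := ⟨_, rfl⟩
    have hψ : ∀ (p : MvPolynomial (Fin d) k) (x : A), ψ₁ (p ⊗ₜ[k] x) = aeval π p * φ x := by
      intro p x
      rw [hψ₁, Algebra.TensorProduct.productMap_apply_tmul]
    letI algΛ : Algebra (MvPolynomial (Fin d) k ⊗[k] A) Λ := ψ₁.toRingHom.toAlgebra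
    have halg : ∀ y, algebraMap (MvPolynomial (Fin d) k ⊗[k] A) Λ y = ψ₁ y := fun _ => rfl
    have hmapspan : (Smoothing.singularIdeal k A).map φ =
        Ideal.span (Set.range fun j => φ (a j)) := by
      rw [← ha]
      change (Ideal.span (Set.range a)).map φ = _
      rw [Ideal.map_span]
      congr 1
      ext y
      constructor
      · rintro ⟨_, ⟨j, rfl⟩, rfl⟩
        exact ⟨j, rfl⟩
      · rintro ⟨j, rfl⟩
        exact ⟨_, ⟨j, rfl⟩, rfl⟩
    choose lam hlam using fun i => (Ideal.mem_span_range_iff_exists_fun.mp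
      (by rw [← hmapspan]; exact hπ i : π i ^ n ∈ Ideal.span (Set.range fun j => φ (a j))))
    obtain ⟨hB⟩ := hBmap Λ lam (fun i => by
      rw [halg, hψ, aeval_X, map_one, mul_one, ← hlam i]
      refine Finset.sum_congr rfl fun j _ => ?_
      rw [halg, hψ, map_one, one_mul])
    have hρ : ∀ b : B, ρ (algebraMap B C b) = b := fun b => ρ.commutes b
    have hhB : ∀ y, hB (algebraMap (MvPolynomial (Fin d) k ⊗[k] A) B y) = ψ₁ y :=
      fun y => hB.commutes y
    let h : C →ₐ[k] Λ :=
      { toRingHom := (hB : B →+* Λ).comp (ρ : C →+* B)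
        commutes' := by
          intro c₀
          change hB (ρ (algebraMap (MvPolynomial (Fin d) k) C
            (algebraMap k (MvPolynomial (Fin d) k) c₀))) = _
          rw [IsScalarTower.algebraMap_apply (MvPolynomial (Fin d) k) B C, hρ, hRB, hhB, hψ,
            map_one, mul_one, AlgHom.commutes] }
    have hh : ∀ y, h y = hB (ρ y) := fun _ => rfl
    refine ⟨h, ?_, ?_⟩
    · ext x
      rw [AlgHom.comp_apply, hh, hg, hρ, hιA_apply, hhB, hψ, map_one, one_mul]
    · intro i
      rw [hh, hRC, hρ, hhB, hψ, aeval_X, map_one, mul_one]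

end Groth.Agent.Lib.Helper7.Smoothing
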