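import Mathlib
import Groth.Agent.Lib.Helper20SmoothDesc

set_option autoImplicit false
universe u

open TensorProduct IsLocalRing

namespace Groth.Agent.Lib.Helper20.SmoothFiber

attribute [local instance] Algebra.TensorProduct.rightAlgebra

theorem isUnit_right_of_mul {M : Type*} [CommMonoid M] {a b : M} (h : IsUnit (a * b)) : IsUnit b :=
  (IsUnit.mul_iff.mp h).2

set_option synthInstance.maxHeartbeats 200000 in
/-- localization of the fibre at a prime `q` is the base change of the localization of `B` at
the contraction of `q` -/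
theorem isLocalization_fiber_tensor {A B : Type u} [CommRing A] [CommRing B] [Algebra A B]
    (p : Ideal A) [p.IsPrime] (q : Ideal (p.Fiber B)) [q.IsPrime] :
    IsLocalization q.primeCompl
      ((p.Fiber B) ⊗[B] Localization.AtPrime (q.comap (algebraMap B (p.Fiber B)))) := by
  set r := q.comap (algebraMap B (p.Fiber B)) with hr
  have h0 : IsLocalization (Algebra.algebraMapSubmonoid (p.Fiber B) r.primeCompl)
      ((p.Fiber B) ⊗[B] Localization.AtPrime r) := inferInstance
  refine IsLocalization.of_le (Algebra.algebraMapSubmonoid (p.Fiber B) r.primeCompl) _ ?_ ?_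
  · rintro _ ⟨b, hb, rfl⟩
    exact hb
  · intro t ht
    obtain ⟨a, ha, b, hab⟩ := Ideal.Fiber.exists_smul_eq_one_tmul p t
    have hunit : IsUnit (algebraMap A (p.Fiber B) a) := by
      rw [IsScalarTower.algebraMap_apply A p.ResidueField (p.Fiber B)]
      refine IsUnit.map _ ?_
      rw [isUnit_iff_ne_zero, Ne, Ideal.algebraMap_residueField_eq_zero]
      exact ha
    have hb : b ∉ r := by
      intro hb
      have h1 : a • t ∈ q := by
        rw [hab]; exact hb
      rw [Algebra.smul_def] at h1
      rcases Ideal.IsPrime.mem_or_mem inferInstance h1 with h2 | h2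
      · exact (Ideal.IsPrime.ne_top inferInstance) (Ideal.eq_top_of_isUnit_mem _ h2 hunit)
      · exact ht h2
    have h3 : IsUnit (algebraMap (p.Fiber B) ((p.Fiber B) ⊗[B] Localization.AtPrime r)
        (1 ⊗ₜ[A] b)) :=
      IsLocalization.map_units ((p.Fiber B) ⊗[B] Localization.AtPrime r) (⟨_, ⟨b, hb, rfl⟩⟩ :
        Algebra.algebraMapSubmonoid (p.Fiber B) r.primeCompl)
    have h4 : algebraMap (p.Fiber B) ((p.Fiber B) ⊗[B] Localization.AtPrime r) (1 ⊗ₜ[A] b) =
        algebraMap (p.Fiber B) ((p.Fiber B) ⊗[B] Localization.AtPrime r)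
          (algebraMap A (p.Fiber B) a) *
        algebraMap (p.Fiber B) ((p.Fiber B) ⊗[B] Localization.AtPrime r) t := by
      rw [← map_mul, ← Algebra.smul_def, hab]
    rw [h4] at h3
    exact isUnit_right_of_mul (M := p.Fiber B ⊗[B] Localization.AtPrime r) h3

set_option synthInstance.maxHeartbeats 200000 in
set_option maxHeartbeats 1600000 in
/-- variant of `Algebra.IsSmoothAt.of_formallySmooth_fiber` with pointwise hypotheses -/
theorem isSmoothAt_of_flat_of_formallySmooth_tensor {A B : Type u} [CommRing A] [CommRing B]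
    [Algebra A B] [Algebra.FinitePresentation A B] (p : Ideal A) [p.IsPrime]
    (r : Ideal B) [r.IsPrime] [r.LiesOver p]
    (hflat : Module.Flat A (Localization.AtPrime r))
    (hs : Algebra.FormallySmooth p.ResidueField
      ((p.ResidueField ⊗[A] B) ⊗[B] Localization.AtPrime r)) :
    Algebra.IsSmoothAt A r := by
  let Rp := Localization.AtPrime p
  let Sp := Localization (Algebra.algebraMapSubmonoid B p.primeCompl)
  let Sr := Localization.AtPrime r
  let := Localization.AtPrime.algebraOfLiesOver p r
  let f : Sp →ₐ[B] Sr := IsLocalization.liftAlgHom (M := Algebra.algebraMapSubmonoid B p.primeCompl)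
        (f := Algebra.ofId _ _) (by
      rintro ⟨_, x, hx, rfl⟩
      simpa using! IsLocalization.map_units (M := r.primeCompl) Sr ⟨algebraMap _ _ x,
        by simp_all [r.over_def p]⟩)
  algebraize [f.toRingHom]
  have : IsScalarTower A Sp Sr := .to₁₃₄ _ B _ _
  have : IsScalarTower Rp Sp Sr := .of_algebraMap_eq' <| by
    apply IsLocalization.ringHom_ext p.primeCompl
    simp only [RingHom.comp_assoc, ← IsScalarTower.algebraMap_eq]
  have : IsLocalization (Algebra.algebraMapSubmonoid Sp r.primeCompl) Sr :=
    .isLocalization_of_submonoid_le _ _ (Algebra.algebraMapSubmonoid B p.primeCompl) _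
    (by rintro _ ⟨x, hx, rfl⟩; simp_all [r.over_def p])
  have : Algebra.FinitePresentation Rp Sp := by
    have : Algebra.IsPushout A Rp B Sp :=
      .symm <| Algebra.isPushout_of_isLocalization p.primeCompl _ _ _
    exact .equiv (Algebra.IsPushout.equiv A Rp B Sp)
  have : Module.Flat Rp Sr := (Module.flat_iff_of_isLocalization Rp p.primeCompl Sr).mpr hflat
  have : IsLocalHom (algebraMap Rp Sr) := Localization.isLocalHom_localRingHom _ _ _ _
  have : Algebra.FormallySmooth (ResidueField Rp) ((ResidueField Rp) ⊗[Rp] Sr) := by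
    have : Algebra.FormallySmooth (ResidueField Rp) (((ResidueField Rp) ⊗[A] B) ⊗[B] Sr) := hs
    let e : (ResidueField Rp) ⊗[A] B ≃ₐ[B] B ⊗[A] (ResidueField Rp) :=
      { __ := Algebra.TensorProduct.comm _ _ _, commutes' _ := rfl }
    let e' : ((ResidueField Rp) ⊗[A] B) ⊗[B] Sr ≃ₐ[A] (ResidueField Rp) ⊗[Rp] Sr :=
      ((Algebra.TensorProduct.comm _ _ _).restrictScalars A).trans <|
      ((Algebra.TensorProduct.congr (.refl (R := B)) e).restrictScalars A).trans <|
      ((Algebra.TensorProduct.cancelBaseChange _ _ B _ _).restrictScalars A).trans <|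
      (Algebra.TensorProduct.comm _ _ _).trans (Algebra.TensorProduct.equivOfCompatibleSMul ..)
    have : e'.toAlgHom.comp (IsScalarTower.toAlgHom A p.ResidueField _) =
        IsScalarTower.toAlgHom _ _ _ := by ext
    let e'' : ((ResidueField Rp) ⊗[A] B) ⊗[B] Sr ≃ₐ[ResidueField Rp] (ResidueField Rp) ⊗[Rp] Sr :=
      { __ := e', commutes' r := congr($this r) }
    exact .of_equiv e''
  have := Algebra.FormallySmooth.of_formallySmooth_residueField_tensor
    (R := Rp) (S := Sr) (P := Sp) (Algebra.algebraMapSubmonoid _ r.primeCompl)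
  exact .comp A Rp Sr

set_option synthInstance.maxHeartbeats 200000 in
set_option maxHeartbeats 1600000 in
/-- flat + fibre smooth at a point ⇒ smooth at the point -/
theorem isSmoothAt_of_flat_of_isSmoothAt_fiber {A B : Type u} [CommRing A] [CommRing B]
    [Algebra A B] [Algebra.FinitePresentation A B] (p : Ideal A) [p.IsPrime]
    (q : Ideal (p.Fiber B)) [q.IsPrime]
    (hflat : Module.Flat A (Localization.AtPrime (q.comap (algebraMap B (p.Fiber B)))))
    (hs : Algebra.IsSmoothAt p.ResidueField q) :
    Algebra.IsSmoothAt A (q.comap (algebraMap B (p.Fiber B))) := by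
  have hrp : (q.comap (algebraMap B (p.Fiber B))).LiesOver p := by
    have h1 : q.LiesOver p := inferInstance
    refine ⟨Ideal.ext fun x => ?_⟩
    rw [Ideal.mem_of_liesOver q p x, Ideal.under_def, Ideal.mem_comap, Ideal.mem_comap]
    have h2 : algebraMap B (p.Fiber B) (algebraMap A B x) = algebraMap A (p.Fiber B) x := by
      simp [Algebra.TensorProduct.algebraMap_apply, Algebra.algebraMap_eq_smul_one,
        TensorProduct.smul_tmul]
    rw [h2]
  refine isSmoothAt_of_flat_of_formallySmooth_tensor p _ hflat ?_
  have h0 := isLocalization_fiber_tensor p q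
  let e0 : Localization.AtPrime q ≃ₐ[p.Fiber B]
      (p.Fiber B) ⊗[B] Localization.AtPrime (q.comap (algebraMap B (p.Fiber B))) :=
    IsLocalization.algEquiv q.primeCompl (Localization.AtPrime q)
      ((p.Fiber B) ⊗[B] Localization.AtPrime (q.comap (algebraMap B (p.Fiber B))))
  have : Algebra.FormallySmooth p.ResidueField (Localization.AtPrime q) := hs
  let e1 : Localization.AtPrime q ≃ₐ[p.ResidueField]
      ((p.ResidueField ⊗[A] B) ⊗[B] Localization.AtPrime (q.comap (algebraMap B (p.Fiber B)))) :=
    e0.restrictScalars p.ResidueField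
  exact Algebra.FormallySmooth.of_equiv (A := Localization.AtPrime q) e1

theorem flat_localization_congr {R S : Type*} [CommRing R] [CommRing S] [Algebra R S]
    (I J : Ideal S) [I.IsPrime] [J.IsPrime] (h : I = J)
    (hI : Module.Flat R (Localization.AtPrime I)) :
    Module.Flat R (Localization.AtPrime J) := by
  subst h; exact hI

open Groth.Agent.Lib.Helper20.SmoothDesc in
set_option synthInstance.maxHeartbeats 200000 in
set_option maxHeartbeats 1600000 in
/-- flat at a point + smooth at a point of a field-valued fibre ⇒ smooth at the point -/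
theorem isSmoothAt_of_flat_of_isSmoothAt_field {A B K T : Type u} [CommRing A] [CommRing B]
    [CommRing K] [CommRing T] [Algebra A B] [Algebra A K] [Algebra A T] [Algebra B T] [Algebra K T]
    [IsScalarTower A B T] [IsScalarTower A K T] [Algebra.IsPushout A K B T]
    [Algebra.FinitePresentation A B] (hK : IsField K)
    (q : Ideal T) [q.IsPrime]
    (hflat : Module.Flat A (Localization.AtPrime (q.comap (algebraMap B T))))
    (hs : Algebra.IsSmoothAt K q) :
    Algebra.IsSmoothAt A (q.comap (algebraMap B T)) := by
  let p : Ideal A := RingHom.ker (algebraMap A K)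
  have hKd : IsDomain K := hK.isDomain
  have hp : p.IsPrime := RingHom.ker_isPrime _
  let φ : p.ResidueField →+* K := Ideal.ResidueField.lift p (algebraMap A K) le_rfl (by
    intro a ha
    simp only [Submonoid.mem_comap, IsUnit.mem_submonoid_iff]
    obtain ⟨b, hb⟩ := hK.mul_inv_cancel (a := algebraMap A K a) ha
    exact IsUnit.of_mul_eq_one _ hb)
  let _ : Algebra p.ResidueField K := φ.toAlgebra
  have : IsScalarTower A p.ResidueField K := .of_algebraMap_eq fun a => by
    rw [RingHom.algebraMap_toAlgebra]
    exact (Ideal.ResidueField.lift_algebraMap ..).symm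
  let _ : Algebra p.ResidueField T := ((algebraMap K T).comp φ).toAlgebra
  have : IsScalarTower p.ResidueField K T := .of_algebraMap_eq' rfl
  have : IsScalarTower A p.ResidueField T := .of_algebraMap_eq fun a => by
    rw [IsScalarTower.algebraMap_apply A K T, IsScalarTower.algebraMap_apply A p.ResidueField K,
      ← IsScalarTower.algebraMap_apply p.ResidueField K T]
  let ψ : p.Fiber B →ₐ[A] T := Algebra.TensorProduct.lift
    (IsScalarTower.toAlgHom A p.ResidueField T) (IsScalarTower.toAlgHom A B T)
    (fun _ _ => .all _ _)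
  let _ : Algebra (p.Fiber B) T := ψ.toRingHom.toAlgebra
  have hκ : @IsScalarTower p.ResidueField (p.Fiber B) T Algebra.toSMul Algebra.toSMul
      Algebra.toSMul := .of_algebraMap_eq fun x => by
    simp [RingHom.algebraMap_toAlgebra, ψ, Algebra.TensorProduct.algebraMap_apply]
  have : IsScalarTower p.ResidueField (p.Fiber B) T := hκ
  have : IsScalarTower B (p.Fiber B) T := .of_algebraMap_eq fun x => by
    simp [RingHom.algebraMap_toAlgebra, ψ, Algebra.TensorProduct.algebraMap_apply]
  have : IsScalarTower A (p.Fiber B) T := .of_algebraMap_eq fun a => (ψ.commutes a).symm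
  have hpush : Algebra.IsPushout p.ResidueField K (p.Fiber B) T :=
    (Algebra.IsPushout.comp_iff A p.ResidueField B (p.Fiber B)).mp inferInstance
  have h1 := isSmoothAt_of_flat_baseChange p.ResidueField (p.Fiber B) K T q hs
  have h3 : (q.comap (algebraMap (p.Fiber B) T)).comap (algebraMap B (p.Fiber B)) =
      q.comap (algebraMap B T) := by
    rw [Ideal.comap_comap, ← IsScalarTower.algebraMap_eq]
  have h2 := isSmoothAt_of_flat_of_isSmoothAt_fiber p (q.comap (algebraMap (p.Fiber B) T))
    (flat_localization_congr _ _ h3.symm hflat) h1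
  exact isSmoothAt_congr _ _ h3 h2

end Groth.Agent.Lib.Helper20.SmoothFiber
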