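import Mathlib
import Groth.Agent.Lib.Helper5RLR
import Groth.Agent.Lib.Helper5RLR2
import Groth.Agent.Lib.Helper28FGDim

/-!
# Smooth algebras over a field are local complete intersections (helper6)

Jacobian independence in the cotangent space of `k[x]_M`, dimension `n - c` of a standard smooth
algebra, `Synt.IsGlobalCI` / `Synt.IsLCIOver` for smooth algebras.
-/

set_option autoImplicit false
universe u
open MvPolynomial IsLocalRing

namespace Groth.Agent.Lib.Helper6.SmLCI

theorem derivation_mem_of_mem_sq {R A : Type*} [CommRing R] [CommRing A] [Algebra R A]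
    (D : Derivation R A A) (p : Ideal A) {y : A} (hy : y ∈ p ^ 2) : D y ∈ p := by
  rw [pow_two] at hy
  refine Submodule.mul_induction_on hy ?_ ?_
  · intro a ha b hb
    rw [Derivation.leibniz, smul_eq_mul, smul_eq_mul]
    exact Ideal.add_mem _ (Ideal.mul_mem_right _ _ ha) (Ideal.mul_mem_right _ _ hb)
  · intro a b ha hb
    rw [map_add]
    exact Ideal.add_mem _ ha hb

variable {k : Type u} [Field k] {n c : ℕ}

theorem linearIndependent_toCotangent (M : Ideal (MvPolynomial (Fin n) k)) [hM : M.IsMaximal]
    (r : Fin c → MvPolynomial (Fin n) k) (g : Fin c → Fin n) (hr : ∀ j, r j ∈ M)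
    (hdet : (Matrix.of fun i j => pderiv (g i) (r j)).det ∉ M)
    (x' : Fin c → maximalIdeal (Localization.AtPrime M))
    (hx' : ∀ j, (x' j : Localization.AtPrime M) = algebraMap _ _ (r j)) :
    LinearIndependent (ResidueField (Localization.AtPrime M))
      (fun j => (maximalIdeal (Localization.AtPrime M)).toCotangent (x' j)) := by
  classical
  rw [Fintype.linearIndependent_iff]
  intro a ha
  choose b hb using fun j => residue_surjective (a j)
  obtain ⟨s, hs⟩ := IsLocalization.exist_integer_multiples_of_finset M.primeCompl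
    (Finset.univ.image b)
  choose p hp using fun j => hs (b j) (Finset.mem_image_of_mem _ (Finset.mem_univ j))
  -- hp j : algebraMap (p j) = s • b j
  have h1 : (maximalIdeal (Localization.AtPrime M)).toCotangent (∑ j, b j • x' j) = 0 := by
    rw [map_sum, ← ha]
    refine Finset.sum_congr rfl fun j _ => ?_
    rw [map_smul, ← hb j, ← IsLocalRing.ResidueField.algebraMap_eq, algebraMap_smul]
  rw [Ideal.toCotangent_eq_zero] at h1
  let G : MvPolynomial (Fin n) k := ∑ j, p j * r j
  have h2 : algebraMap _ (Localization.AtPrime M) G ∈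
      (M ^ 2).map (algebraMap _ (Localization.AtPrime M)) := by
    rw [Ideal.map_pow, Localization.AtPrime.map_eq_maximalIdeal]
    have : algebraMap _ (Localization.AtPrime M) G =
        algebraMap _ (Localization.AtPrime M) (s : MvPolynomial (Fin n) k) *
          ((∑ j, b j • x' j : maximalIdeal (Localization.AtPrime M)) : Localization.AtPrime M) := by
      simp only [G, map_sum, map_mul, Submodule.coe_sum, Submodule.coe_smul, smul_eq_mul,
        Finset.mul_sum, hx']
      refine Finset.sum_congr rfl fun j _ => ?_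
      rw [hp j, Algebra.smul_def]
      ring
    rw [this]
    exact Ideal.mul_mem_left _ _ h1
  obtain ⟨s', hs'M, hs'⟩ := (IsLocalization.algebraMap_mem_map_algebraMap_iff M.primeCompl
    (Localization.AtPrime M) (M ^ 2) G).mp h2
  -- work in the residue field `P ⧸ M`
  letI : Field (MvPolynomial (Fin n) k ⧸ M) := Ideal.Quotient.field M
  let π := Ideal.Quotient.mk M
  have hπr : ∀ j, π (r j) = 0 := fun j => Ideal.Quotient.eq_zero_iff_mem.mpr (hr j)
  have hπs' : π s' ≠ 0 := fun h => hs'M (Ideal.Quotient.eq_zero_iff_mem.mp h)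
  have h3 : ∀ i : Fin n, ∑ j, π (pderiv i (r j)) * π (p j) = 0 := by
    intro i
    have h4 : π (pderiv i (s' * G)) = 0 :=
      Ideal.Quotient.eq_zero_iff_mem.mpr (derivation_mem_of_mem_sq (pderiv i) M hs')
    have hG : π G = 0 := by
      simp only [G, map_sum, map_mul, hπr, mul_zero, Finset.sum_const_zero]
    rw [Derivation.leibniz, smul_eq_mul, smul_eq_mul, map_add, map_mul, map_mul, hG, zero_mul,
      add_zero] at h4
    have h5 : π (pderiv i G) = 0 := by
      rcases mul_eq_zero.mp h4 with h | h
      · exact absurd h hπs'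
      · exact h
    rw [← h5]
    simp only [G, map_sum, Derivation.leibniz, smul_eq_mul, map_add, map_mul, hπr, zero_mul,
      add_zero]
    refine Finset.sum_congr rfl fun j _ => ?_
    ring
  have h6 : ((Matrix.of fun i j => pderiv (g i) (r j)).map π).mulVec (fun j => π (p j)) = 0 := by
    ext i
    simp only [Matrix.mulVec, dotProduct, Matrix.map_apply, Matrix.of_apply, Pi.zero_apply]
    exact h3 (g i)
  have hdet' : ((Matrix.of fun i j => pderiv (g i) (r j)).map π).det ≠ 0 := by
    rw [← RingHom.mapMatrix_apply, ← RingHom.map_det]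
    exact fun h => hdet (Ideal.Quotient.eq_zero_iff_mem.mp h)
  have h7 := Matrix.eq_zero_of_mulVec_eq_zero hdet' h6
  intro j
  have hpj : p j ∈ M := Ideal.Quotient.eq_zero_iff_mem.mp (congrFun h7 j)
  have hbj : b j ∈ maximalIdeal (Localization.AtPrime M) := by
    have h8 : algebraMap _ (Localization.AtPrime M) (p j) ∈ maximalIdeal (Localization.AtPrime M) := by
      rw [← Localization.AtPrime.map_eq_maximalIdeal]
      exact Ideal.mem_map_of_mem _ hpj
    rw [hp j, Algebra.smul_def] at h8
    have hu : IsUnit (algebraMap _ (Localization.AtPrime M) (s : MvPolynomial (Fin n) k)) :=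
      IsLocalization.map_units _ s
    exact (Ideal.unit_mul_mem_iff_mem _ hu).mp h8
  rw [← hb j]
  exact (residue_eq_zero_iff _).mpr hbj

theorem height_eq_of_isMaximal (r : Fin c → MvPolynomial (Fin n) k) (g : Fin c → Fin n)
    (I : Ideal (MvPolynomial (Fin n) k)) (hI : I = Ideal.span (Set.range r))
    (hdet : IsUnit (Ideal.Quotient.mk I (Matrix.of fun i j => pderiv (g i) (r j)).det))
    (m : Ideal (MvPolynomial (Fin n) k ⧸ I)) (hm : m.IsMaximal) :
    c ≤ n ∧ m.height = ((n - c : ℕ) : ℕ∞) := by
  set M : Ideal (MvPolynomial (Fin n) k) := m.comap (Ideal.Quotient.mk I) with hMdef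
  haveI hMmax : M.IsMaximal := Ideal.comap_isMaximal_of_surjective _ Ideal.Quotient.mk_surjective
  haveI : m.IsPrime := hm.isPrime
  have hIM : I ≤ M := by
    intro x hx
    rw [hMdef, Ideal.mem_comap, Ideal.Quotient.eq_zero_iff_mem.mpr hx]
    exact m.zero_mem
  have hr : ∀ j, r j ∈ M := fun j => hIM (hI ▸ Ideal.subset_span ⟨j, rfl⟩)
  have hdetM : (Matrix.of fun i j => pderiv (g i) (r j)).det ∉ M := by
    intro h
    exact hm.ne_top (Ideal.eq_top_of_isUnit_mem _ h hdet)
  have hx'mem : ∀ j, algebraMap _ (Localization.AtPrime M) (r j) ∈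
      maximalIdeal (Localization.AtPrime M) := by
    intro j
    rw [← Localization.AtPrime.map_eq_maximalIdeal]
    exact Ideal.mem_map_of_mem _ (hr j)
  let x' : Fin c → maximalIdeal (Localization.AtPrime M) := fun j => ⟨_, hx'mem j⟩
  have hli := linearIndependent_toCotangent M r g hr hdetM x' (fun j => rfl)
  have hJ : Ideal.span (Set.range fun j => (x' j : Localization.AtPrime M)) =
      I.map (algebraMap _ (Localization.AtPrime M)) := by
    have h0 : I.map (algebraMap _ (Localization.AtPrime M)) =
        (Ideal.span (Set.range r)).map (algebraMap _ (Localization.AtPrime M)) :=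
      congrArg (Ideal.map _) hI
    rw [h0, Ideal.map_span, ← Set.range_comp]
    rfl
  haveI : IsLocalRing (Localization.AtPrime M ⧸
      Ideal.span (Set.range fun j => (x' j : Localization.AtPrime M))) :=
    Groth.Agent.Lib.Helper5.isLocalRing_quotient_span_range x'
  obtain ⟨-, hdim⟩ := Groth.Agent.Lib.Helper5.isRegularLocalRing_quotient_of_linearIndependent x' hli
  have hB : ringKrullDim (Localization.AtPrime M) = (n : WithBot ℕ∞) := by
    rw [IsLocalization.AtPrime.ringKrullDim_eq_height M (Localization.AtPrime M),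
      Groth.Agent.Lib.Helper28.height_eq_of_isMaximal_mvPolynomial_fin k n M hMmax]
    rfl
  -- the localization of the quotient
  have hMs : Algebra.algebraMapSubmonoid (MvPolynomial (Fin n) k ⧸ I) M.primeCompl =
      m.primeCompl := by
    ext y
    constructor
    · rintro ⟨x, hx, rfl⟩
      exact hx
    · intro hy
      obtain ⟨x, rfl⟩ := Ideal.Quotient.mk_surjective y
      exact ⟨x, hy, rfl⟩
  have hloc : IsLocalization (Algebra.algebraMapSubmonoid (MvPolynomial (Fin n) k ⧸ I) M.primeCompl)
      (Localization.AtPrime M ⧸ I.map (algebraMap _ (Localization.AtPrime M))) :=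
    inferInstance
  rw [hMs] at hloc
  let e := (IsLocalization.algEquiv m.primeCompl (Localization.AtPrime m)
      (Localization.AtPrime M ⧸ I.map (algebraMap _ (Localization.AtPrime M)))).toRingEquiv
  have h1 : ringKrullDim (Localization.AtPrime m) =
      ringKrullDim (Localization.AtPrime M ⧸ I.map (algebraMap _ (Localization.AtPrime M))) :=
    ringKrullDim_eq_of_ringEquiv e
  rw [IsLocalization.AtPrime.ringKrullDim_eq_height m (Localization.AtPrime m), ← hJ] at h1
  rw [← h1, hB] at hdim
  -- hdim : (m.height : WithBot ℕ∞) + c = n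
  have hfin : m.height ≠ ⊤ := Ideal.height_ne_top hm.ne_top
  obtain ⟨d, hd⟩ := ENat.ne_top_iff_exists.mp hfin
  rw [← hd] at hdim ⊢
  have h2 : d + c = n := by exact_mod_cast hdim
  refine ⟨by omega, ?_⟩
  have : d = n - c := by omega
  rw [this]

theorem isGlobalCI_of_submersivePresentation (T : Type u) [CommRing T] [Algebra k T] [Nontrivial T]
    (Pres : Algebra.SubmersivePresentation k T (Fin n) (Fin c)) : Synt.IsGlobalCI k T := by
  classical
  right
  let φ : MvPolynomial (Fin n) k →ₐ[k] T := MvPolynomial.aeval Pres.val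
  have hφalg : (algebraMap Pres.Ring T) = φ.toRingHom := by
    rw [Pres.algebraMap_eq]; rfl
  have hφ : Function.Surjective φ := by
    have := Pres.algebraMap_surjective
    rw [hφalg] at this
    exact this
  have hker : RingHom.ker φ.toRingHom = Ideal.span (Set.range Pres.relation) := by
    rw [Pres.span_range_relation_eq_ker, ← hφalg]
    rfl
  let e : (MvPolynomial (Fin n) k ⧸ RingHom.ker φ.toRingHom) ≃+* T :=
    RingHom.quotientKerEquivOfSurjective (f := φ.toRingHom) hφ
  have hdet : IsUnit (Ideal.Quotient.mk (RingHom.ker φ.toRingHom)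
      (Matrix.of fun i j => pderiv (Pres.map i) (Pres.relation j)).det) := by
    have h1 := Pres.jacobian_isUnit
    rw [Pres.jacobian_eq_jacobiMatrix_det, hφalg] at h1
    have h2 : Pres.jacobiMatrix = Matrix.of fun i j => pderiv (Pres.map i) (Pres.relation j) := by
      ext i j
      rw [Pres.jacobiMatrix_apply]
      rfl
    rw [h2] at h1
    have h3 := h1.map e.symm
    convert h3 using 1
    rw [RingEquiv.eq_symm_apply]
    rfl
  haveI : Nontrivial (MvPolynomial (Fin n) k ⧸ RingHom.ker φ.toRingHom) :=
    e.toEquiv.nontrivial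
  have key := height_eq_of_isMaximal Pres.relation Pres.map (RingHom.ker φ.toRingHom) hker hdet
  obtain ⟨m, hm⟩ := Ideal.exists_maximal (MvPolynomial (Fin n) k ⧸ RingHom.ker φ.toRingHom)
  refine ⟨n, c, (key m hm).1, φ, Pres.relation, hφ, hker, ?_⟩
  rw [← ringKrullDim_eq_of_ringEquiv e]
  exact Groth.Agent.Lib.Helper28.ringKrullDim_eq_of_forall_isMaximal_height_eq (n - c)
    (fun m hm => (key m hm).2)

theorem isGlobalCI_of_isStandardSmooth (T : Type u) [CommRing T] [Algebra k T] [Nontrivial T]
    [hstd : Algebra.IsStandardSmooth k T] : Synt.IsGlobalCI k T := by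
  classical
  obtain ⟨ι, σ, hσ, hι, ⟨Pres⟩⟩ := hstd.out
  letI := Fintype.ofFinite ι
  letI := Fintype.ofFinite σ
  exact isGlobalCI_of_submersivePresentation T
    (Pres.reindex (Fintype.equivFin ι).symm (Fintype.equivFin σ).symm)

theorem isLCIOver_of_smooth (k : Type u) [Field k] (S : Type u) [CommRing S] [Algebra k S]
    [Algebra.Smooth k S] : Synt.IsLCIOver k S := by
  refine ⟨inferInstance, fun p => ?_⟩
  haveI : Algebra.FormallySmooth S (Localization.AtPrime p.asIdeal) :=
    .of_isLocalization p.asIdeal.primeCompl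
  haveI : Algebra.IsSmoothAt k p.asIdeal :=
    Algebra.FormallySmooth.comp k S (Localization.AtPrime p.asIdeal)
  obtain ⟨g, hg, hstd⟩ := Algebra.IsSmoothAt.exists_notMem_isStandardSmooth k p.asIdeal
  refine ⟨g, hg, ?_⟩
  haveI : Nontrivial (Localization.Away g) := by
    rw [← not_subsingleton_iff_nontrivial,
      IsLocalization.subsingleton_iff (M := Submonoid.powers g)]
    rintro ⟨m, hm⟩
    exact hg (p.isPrime.mem_of_pow_mem m (by rw [show g ^ m = 0 from hm]; exact Ideal.zero_mem _))
  exact isGlobalCI_of_isStandardSmooth (Localization.Away g)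

end Groth.Agent.Lib.Helper6.SmLCI
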