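import Mathlib
import Groth.Agent.Lib.Helper6SmLCI

set_option autoImplicit false
universe u
open CategoryTheory CategoryTheory.Limits AlgebraicGeometry

namespace Groth.Agent.Lib.Helper6.SmSynt

theorem isSyntomic_of_smooth (R S : Type u) [CommRing R] [CommRing S] [Algebra R S]
    [Algebra.Smooth R S] : Synt.IsSyntomic R S := by
  refine ⟨inferInstance, inferInstance, fun p => ?_⟩
  haveI : Algebra.Smooth p.asIdeal.ResidueField (p.asIdeal.Fiber S) := inferInstance
  exact Groth.Agent.Lib.Helper6.SmLCI.isLCIOver_of_smooth _ _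

theorem isSyntomicMor_of_smooth {X S : Scheme.{u}} (f : X ⟶ S) [Smooth f] :
    Synt.IsSyntomicMor f := by
  intro x
  obtain ⟨V, hV, hfxV, -⟩ := exists_isAffineOpen_mem_and_subset (X := S) (x := f x)
    (U := ⊤) trivial
  obtain ⟨U, hU, hxU, hUV⟩ := exists_isAffineOpen_mem_and_subset (X := X) (x := x)
    (U := f ⁻¹ᵁ V) hfxV
  refine ⟨⟨U, hU⟩, ⟨V, hV⟩, hUV, hxU, ?_⟩
  have hsm := f.smooth_appLE hV hU hUV
  letI := (f.appLE V U hUV).hom.toAlgebra
  haveI : Algebra.Smooth Γ(S, V) Γ(X, U) := hsm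
  exact isSyntomic_of_smooth _ _

end Groth.Agent.Lib.Helper6.SmSynt
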