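import Groth.Agent.Lib.Helper7Synt34

/-! # Lifting syntomic algebras over `R/I` (helper7): `nonempty_tensor_away_equiv`, `exists_lift_relGCI_quotient` -/

set_option autoImplicit false
set_option linter.style.haveILetI false
universe u
open TensorProduct

namespace Groth.Agent.Lib.Helper7.Synt

section Lift

variable (R : Type u) [CommRing R] (I : Ideal R)

/-- if `g ≡ 1` modulo `I S`, then `(R/I) ⊗ S ≃ (R/I) ⊗ S_g`. -/
theorem nonempty_tensor_away_equiv (S : Type u) [CommRing S] [Algebra R S] (g : S)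
    (hg : Ideal.Quotient.mk (I.map (algebraMap R S)) g = 1) :
    Nonempty ((R ⧸ I) ⊗[R] S ≃ₐ[R ⧸ I] (R ⧸ I) ⊗[R] Localization.Away g) := by
  let ψ : (R ⧸ I) ⊗[R] S →ₐ[R ⧸ I] (R ⧸ I) ⊗[R] Localization.Away g :=
    Algebra.TensorProduct.map (AlgHom.id _ _) (IsScalarTower.toAlgHom R S (Localization.Away g))
  letI : Algebra ((R ⧸ I) ⊗[R] S) ((R ⧸ I) ⊗[R] Localization.Away g) := ψ.toRingHom.toAlgebra
  haveI htower : IsScalarTower (R ⧸ I) ((R ⧸ I) ⊗[R] S) ((R ⧸ I) ⊗[R] Localization.Away g) := by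
    refine ⟨fun a b c => ?_⟩
    change ψ (a • b) * c = a • (ψ b * c)
    rw [map_smul, smul_mul_assoc]
  have hone : ((1 : R ⧸ I) ⊗ₜ[R] g : (R ⧸ I) ⊗[R] S) = 1 := by
    have h1 : g - 1 ∈ I.map (algebraMap R S) := by
      rw [← Ideal.Quotient.eq_zero_iff_mem, map_sub, hg, map_one, sub_self]
    have h2 := one_tmul_eq_zero_of_mem_map I (g - 1) h1
    rw [TensorProduct.tmul_sub, sub_eq_zero] at h2
    rw [h2]
    rfl
  haveI hloc' : IsLocalization (Submonoid.powers ((1 : R ⧸ I) ⊗ₜ[R] g : (R ⧸ I) ⊗[R] S))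
      ((R ⧸ I) ⊗[R] Localization.Away g) := by
    have hpow : Submonoid.powers ((1 : R ⧸ I) ⊗ₜ[R] g : (R ⧸ I) ⊗[R] S) =
        (Submonoid.powers g).map (Algebra.TensorProduct.includeRight (R := R)
          (A := R ⧸ I) (B := S)) := by
      rw [Submonoid.map_powers]
      rfl
    rw [hpow]
    refine IsLocalization.tensorProduct_tensorProduct_right R (R ⧸ I)
      (Submonoid.powers g) (Localization.Away g) ?_
    ext x
    simp [RingHom.algebraMap_toAlgebra, ψ]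
  have hunits : Submonoid.powers ((1 : R ⧸ I) ⊗ₜ[R] g : (R ⧸ I) ⊗[R] S) ≤
      IsUnit.submonoid ((R ⧸ I) ⊗[R] S) := by
    rintro _ ⟨k, rfl⟩
    show IsUnit (((1 : R ⧸ I) ⊗ₜ[R] g : (R ⧸ I) ⊗[R] S) ^ k)
    rw [hone, one_pow]
    exact isUnit_one
  exact ⟨(IsLocalization.atUnits ((R ⧸ I) ⊗[R] S) _ hunits).restrictScalars (R ⧸ I)⟩

open Groth.Agent.Lib.Helper7.Synt in
theorem exists_lift_relGCI_quotient (Sb : Type u) [CommRing Sb] [Algebra R Sb]
    [Algebra (R ⧸ I) Sb] [IsScalarTower R (R ⧸ I) Sb] (h : Synt.IsSyntomic (R ⧸ I) Sb)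
    (q : PrimeSpectrum Sb) :
    ∃ g : Sb, g ∉ q.asIdeal ∧ ∃ (n c : ℕ) (F : Fin c → MvPolynomial (Fin n) R),
      Synt.IsRelGCI R n c F ∧ Nonempty (Localization.Away g ≃ₐ[R]
        (Synt.RelGCIRing R n c F ⧸ I.map (algebraMap R (Synt.RelGCIRing R n c F)))) := by
  obtain ⟨g, hg, n, c, Fb, hGCI, ⟨e⟩⟩ := exists_relGCI_away_of_isSyntomic (R ⧸ I) Sb h q
  have hsurj := MvPolynomial.map_surjective (σ := Fin n) (Ideal.Quotient.mk I)
    Ideal.Quotient.mk_surjective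
  choose F hF using fun i => hsurj (Fb i)
  have hFb : (fun i => MvPolynomial.map (Ideal.Quotient.mk I) (F i)) = Fb := funext hF
  have hGCI' : Synt.IsRelGCI (R ⧸ I) n c
      (fun i => MvPolynomial.map (Ideal.Quotient.mk I) (F i)) := by
    rw [hFb]; exact hGCI
  obtain ⟨hh, hh1, hRel, ⟨ε₁⟩⟩ := exists_relGCI_away_of_quotient (F := F) (I := I) hGCI'
  refine ⟨g, hg, n + 1, c + 1, snocRel F hh, hRel, ?_⟩
  have heq : (Ideal.span (Set.range F)).map (MvPolynomial.map (algebraMap R (R ⧸ I))) =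
      Ideal.span (Set.range Fb) := by
    rw [Ideal.map_span, ← Set.range_comp, ← hFb]
    rfl
  let t1 : (R ⧸ I) ⊗[R] Synt.RelGCIRing R n c F ≃ₐ[R ⧸ I] Synt.RelGCIRing (R ⧸ I) n c Fb :=
    (tensorQuotEquiv (R ⧸ I) (Ideal.span (Set.range F))).trans
      (Ideal.quotientEquivAlgOfEq (R ⧸ I) heq)
  obtain ⟨t2⟩ := nonempty_tensor_away_equiv R I (Synt.RelGCIRing R n c F)
    (Ideal.Quotient.mk (Ideal.span (Set.range F)) hh) hh1
  let t3 : (R ⧸ I) ⊗[R] Localization.Away (Ideal.Quotient.mk (Ideal.span (Set.range F)) hh)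
      ≃ₐ[R ⧸ I] (R ⧸ I) ⊗[R] Synt.RelGCIRing R (n + 1) (c + 1) (snocRel F hh) :=
    Algebra.TensorProduct.congr AlgEquiv.refl ε₁
  let t4 := Algebra.TensorProduct.quotIdealMapEquivQuotTensor
    (Synt.RelGCIRing R (n + 1) (c + 1) (snocRel F hh)) I
  let total : Localization.Away g ≃ₐ[R ⧸ I]
      (Synt.RelGCIRing R (n + 1) (c + 1) (snocRel F hh) ⧸
        I.map (algebraMap R (Synt.RelGCIRing R (n + 1) (c + 1) (snocRel F hh)))) :=
    (((e.trans t1.symm).trans t2).trans t3).trans t4.symm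
  exact ⟨total.restrictScalars R⟩

end Lift

end Groth.Agent.Lib.Helper7.Synt
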