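import Mathlib

/-!
# Monomials attached to functions `ι → κ` (universe-polymorphic version; helper19)
-/

set_option autoImplicit false

namespace Groth.Agent.Lib.Helper19.QRegMon

open MvPolynomial

variable {ι : Type*} [Fintype ι] {κ : Type*}

/-- the exponent vector of the monomial `∏ X (f i)` -/
noncomputable def mon (f : ι → κ) : κ →₀ ℕ := ∑ i, Finsupp.single (f i) 1

theorem mon_apply [DecidableEq κ] (f : ι → κ) (k : κ) :
    mon f k = Fintype.card {i // f i = k} := by
  rw [mon, Finsupp.finsetSum_apply, Fintype.card_subtype]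
  simp only [Finsupp.single_apply]
  rw [Finset.sum_boole]
  simp

theorem exists_perm_of_mon_eq (f g : ι → κ) (h : mon f = mon g) :
    ∃ e : Equiv.Perm ι, ∀ i, g (e i) = f i := by
  classical
  have hc : ∀ k, Nonempty ({i // f i = k} ≃ {i // g i = k}) := by
    intro k
    rw [← Fintype.card_eq]
    have h1 := mon_apply f k
    have h2 := mon_apply g k
    rw [← h1, ← h2, h]
  exact ⟨Equiv.ofFiberEquiv (fun k => (hc k).some),
    fun i => Equiv.ofFiberEquiv_map (fun k => (hc k).some) i⟩

theorem prod_X_eq_monomial {A : Type*} [CommSemiring A] (f : ι → κ) :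
    ∏ i, (X (f i) : MvPolynomial κ A) = monomial (mon f) 1 := by
  rw [mon, MvPolynomial.monomial_sum_one]
  rfl

theorem degree_mon (f : ι → κ) : (mon f).degree = Fintype.card ι := by
  rw [mon, map_sum]
  simp

theorem exists_fin_of_degree (n : ℕ) (m : κ →₀ ℕ) (hm : m.degree = n) :
    ∃ f : Fin n → κ, ∑ i, Finsupp.single (f i) 1 = m := by
  classical
  induction n generalizing m with
  | zero =>
    refine ⟨Fin.elim0, ?_⟩
    rw [Finsupp.degree_eq_zero_iff] at hm
    simp [hm]
  | succ n ih =>
    have hne : m ≠ 0 := by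
      rintro rfl
      simp at hm
    obtain ⟨k, hk⟩ := Finsupp.support_nonempty_iff.2 hne
    rw [Finsupp.mem_support_iff] at hk
    have h1 := Finsupp.sub_add_single_one_cancel hk
    have h2 : (m - Finsupp.single k 1).degree = n := by
      have := congrArg Finsupp.degree h1
      rw [map_add, Finsupp.degree_single, hm] at this
      omega
    obtain ⟨f, hf⟩ := ih _ h2
    refine ⟨Fin.cons k f, ?_⟩
    rw [Fin.sum_univ_succ]
    simp only [Fin.cons_zero, Fin.cons_succ]
    rw [hf, add_comm, h1]

theorem exists_mon_eq (m : κ →₀ ℕ) (hm : m.degree = Fintype.card ι) :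
    ∃ f : ι → κ, mon f = m := by
  obtain ⟨f, hf⟩ := exists_fin_of_degree _ m hm
  refine ⟨fun i => f (Fintype.equivFin ι i), ?_⟩
  rw [mon, ← hf]
  exact Equiv.sum_comp (Fintype.equivFin ι) (fun j => Finsupp.single (f j) (1 : ℕ))

theorem eval_prod_eq {A : Type*} [CommSemiring A] (x : κ → A) (f : ι → κ) :
    eval x (monomial (mon f) (1 : A)) = ∏ i, x (f i) := by
  rw [← prod_X_eq_monomial, map_prod]
  simp

end Groth.Agent.Lib.Helper19.QRegMon
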