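import Mathlib

/-!
# Descending a multilinear map along a surjection (helper19)
-/

set_option autoImplicit false
universe u v w

namespace Groth.Agent.Lib.Helper19.SymPow

section descend

variable {R : Type*} [CommRing R] {ι : Type*} {M M' N : Type*}
  [AddCommGroup M] [Module R M] [AddCommGroup M'] [Module R M'] [AddCommGroup N] [Module R N]

/-- a multilinear map vanishing as soon as one argument lies in `ker π` only depends on the
classes of its arguments -/
theorem multilinear_congr_of_ker [Fintype ι] (g : MultilinearMap R (fun _ : ι => M) N)
    (π : M →ₗ[R] M')
    (hg : ∀ (f : ι → M) (i : ι), π (f i) = 0 → g f = 0) (f f' : ι → M)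
    (h : ∀ i, π (f i) = π (f' i)) : g f = g f' := by
  classical
  have key : ∀ s : Finset ι, g (s.piecewise f' f) = g f := by
    intro s
    induction s using Finset.induction_on with
    | empty => simp
    | insert a s ha ih =>
      rw [Finset.piecewise_insert]
      have h1 : f' a = (s.piecewise f' f) a + (f' a - f a) := by
        rw [Finset.piecewise_eq_of_notMem _ _ _ ha]; abel
      rw [h1, MultilinearMap.map_update_add, Function.update_eq_self, ih]
      rw [hg (Function.update (s.piecewise f' f) a (f' a - f a)) a (by
        rw [Function.update_self, map_sub, h a, sub_self]), add_zero]
  have := key Finset.univ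
  rw [Finset.piecewise_univ] at this
  exact this.symm

/-- **Descent** of a multilinear map along a surjective linear map. -/
theorem exists_multilinear_descend [Fintype ι] (g : MultilinearMap R (fun _ : ι => M) N)
    (π : M →ₗ[R] M') (hπ : Function.Surjective π)
    (hg : ∀ (f : ι → M) (i : ι), π (f i) = 0 → g f = 0) :
    ∃ g' : MultilinearMap R (fun _ : ι => M') N, ∀ f : ι → M, g' (fun i => π (f i)) = g f := by
  classical
  have hs : ∀ x, π (Function.surjInv hπ x) = x := Function.surjInv_eq hπ
  refine ⟨{ toFun := fun m => g (fun i => Function.surjInv hπ (m i))
            map_update_add' := ?_
            map_update_smul' := ?_ }, fun f => ?_⟩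
  · intro _ m i x y
    have e1 : g (fun j => Function.surjInv hπ (Function.update m i (x + y) j)) =
        g (Function.update (fun j => Function.surjInv hπ (m j)) i
          (Function.surjInv hπ x + Function.surjInv hπ y)) := by
      apply multilinear_congr_of_ker g π hg
      intro j
      by_cases hj : j = i
      · subst hj; simp [hs]
      · simp [Function.update_of_ne hj]
    have e2 : ∀ z, g (fun j => Function.surjInv hπ (Function.update m i z j)) =
        g (Function.update (fun j => Function.surjInv hπ (m j)) i (Function.surjInv hπ z)) := by
      intro z
      apply multilinear_congr_of_ker g π hg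
      intro j
      by_cases hj : j = i
      · subst hj; simp
      · simp [Function.update_of_ne hj]
    rw [e1, e2 x, e2 y, MultilinearMap.map_update_add]
  · intro _ m i c x
    have e1 : g (fun j => Function.surjInv hπ (Function.update m i (c • x) j)) =
        g (Function.update (fun j => Function.surjInv hπ (m j)) i
          (c • Function.surjInv hπ x)) := by
      apply multilinear_congr_of_ker g π hg
      intro j
      by_cases hj : j = i
      · subst hj; simp [hs]
      · simp [Function.update_of_ne hj]
    have e2 : ∀ z, g (fun j => Function.surjInv hπ (Function.update m i z j)) =
        g (Function.update (fun j => Function.surjInv hπ (m j)) i (Function.surjInv hπ z)) := by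
      intro z
      apply multilinear_congr_of_ker g π hg
      intro j
      by_cases hj : j = i
      · subst hj; simp
      · simp [Function.update_of_ne hj]
    rw [e1, e2 x, MultilinearMap.map_update_smul]
  · change g (fun i => Function.surjInv hπ (π (f i))) = g f
    apply multilinear_congr_of_ker g π hg
    intro i
    exact hs _

end descend

end Groth.Agent.Lib.Helper19.SymPow
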