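import Mathlib

/-!
# Universal property and functoriality of `SymmetricPower` (helper19)
-/

set_option autoImplicit false
universe u v w

namespace Groth.Agent.Lib.Helper19.SymPow

open TensorProduct

section lift

variable {R ι : Type u} [CommRing R] {M : Type v} [AddCommGroup M] [Module R M]
  {N : Type w} [AddCommGroup N] [Module R N]

/-- the additive map underlying `lift` -/
noncomputable def liftAddHom (g : MultilinearMap R (fun _ : ι => M) N)
    (hg : ∀ (e : Equiv.Perm ι) (f : ι → M), g (fun i => f (e i)) = g f) :
    SymmetricPower R ι M →+ N :=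
  AddCon.lift _ (PiTensorProduct.lift g).toAddMonoidHom (by
    rw [AddCon.addConGen_le]
    intro x y h
    cases h with
    | perm e f =>
      rw [AddCon.ker_rel]
      simp only [LinearMap.toAddMonoidHom_coe, PiTensorProduct.lift.tprod]
      exact (hg e f).symm)

theorem liftAddHom_mk (g : MultilinearMap R (fun _ : ι => M) N)
    (hg : ∀ (e : Equiv.Perm ι) (f : ι → M), g (fun i => f (e i)) = g f)
    (y : PiTensorProduct R (fun _ : ι => M)) :
    liftAddHom g hg (SymmetricPower.mk R ι M y) = PiTensorProduct.lift g y := rfl

/-- **Universal property** of the symmetric power: a symmetric multilinear map factors. -/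
noncomputable def lift (g : MultilinearMap R (fun _ : ι => M) N)
    (hg : ∀ (e : Equiv.Perm ι) (f : ι → M), g (fun i => f (e i)) = g f) :
    SymmetricPower R ι M →ₗ[R] N where
  toFun := liftAddHom g hg
  map_add' := map_add _
  map_smul' r x := by
    obtain ⟨y, rfl⟩ : ∃ y, SymmetricPower.mk R ι M y = x :=
      AddCon.mk'_surjective x
    rw [← map_smul, liftAddHom_mk, liftAddHom_mk, map_smul, RingHom.id_apply]

@[simp]
theorem lift_tprod (g : MultilinearMap R (fun _ : ι => M) N)
    (hg : ∀ (e : Equiv.Perm ι) (f : ι → M), g (fun i => f (e i)) = g f) (f : ι → M) :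
    lift g hg (SymmetricPower.tprod R f) = g f := by
  change liftAddHom g hg (SymmetricPower.mk R ι M (PiTensorProduct.tprod R f)) = g f
  rw [liftAddHom_mk, PiTensorProduct.lift.tprod]

/-- linear maps out of a symmetric power agreeing on pure tensors are equal -/
theorem ext {φ ψ : SymmetricPower R ι M →ₗ[R] N}
    (h : ∀ f : ι → M, φ (SymmetricPower.tprod R f) = ψ (SymmetricPower.tprod R f)) : φ = ψ := by
  apply LinearMap.ext_on (SymmetricPower.span_tprod_eq_top R ι M)
  rintro _ ⟨f, rfl⟩
  exact h f

end lift

section map

variable {R ι : Type u} [CommRing R] {M : Type v} [AddCommGroup M] [Module R M]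
  {N : Type w} [AddCommGroup N] [Module R N]

/-- functoriality of the symmetric power -/
noncomputable def map (f : M →ₗ[R] N) : SymmetricPower R ι M →ₗ[R] SymmetricPower R ι N :=
  lift ((SymmetricPower.tprod R (ι := ι) (M := N)).compLinearMap (fun _ => f))
    (fun e m => by
      simp only [MultilinearMap.compLinearMap_apply]
      exact SymmetricPower.tprod_equiv e (fun i => f (m i)))

@[simp]
theorem map_tprod (f : M →ₗ[R] N) (m : ι → M) :
    map f (SymmetricPower.tprod R m) = SymmetricPower.tprod R (fun i => f (m i)) := by
  rw [map, lift_tprod]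
  rfl

theorem map_id : map (ι := ι) (LinearMap.id : M →ₗ[R] M) = LinearMap.id :=
  ext fun m => by rw [map_tprod]; rfl

theorem map_comp {P : Type*} [AddCommGroup P] [Module R P] (g : N →ₗ[R] P) (f : M →ₗ[R] N) :
    map (ι := ι) (g ∘ₗ f) = map g ∘ₗ map f :=
  ext fun m => by
    rw [map_tprod, LinearMap.comp_apply, map_tprod, map_tprod]
    rfl

/-- a split injection induces an injection on symmetric powers -/
theorem map_injective_of_leftInverse (i : M →ₗ[R] N) (r : N →ₗ[R] M)
    (h : r ∘ₗ i = LinearMap.id) : Function.Injective (map (ι := ι) i) := by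
  have h1 : map (ι := ι) r ∘ₗ map i = LinearMap.id := by rw [← map_comp, h, map_id]
  exact Function.LeftInverse.injective (g := map r) (fun x => LinearMap.congr_fun h1 x)

/-- if `a` kills `M` and `ι` is nonempty then `a` kills the symmetric power -/
theorem smul_eq_zero_of_forall [Nonempty ι] (a : R) (ha : ∀ m : M, a • m = 0)
    (z : SymmetricPower R ι M) : a • z = 0 := by
  classical
  have hz : z ∈ (⊤ : Submodule R _) := Submodule.mem_top
  rw [← SymmetricPower.span_tprod_eq_top R ι M] at hz
  induction hz using Submodule.span_induction with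
  | mem x hx =>
    obtain ⟨f, rfl⟩ := hx
    obtain ⟨i⟩ := ‹Nonempty ι›
    have h1 := (SymmetricPower.tprod R (ι := ι) (M := M)).map_update_smul f i a (f i)
    rw [Function.update_eq_self] at h1
    rw [← h1, ha, MultilinearMap.map_update_zero]
  | zero => exact smul_zero a
  | add x y _ _ hx hy => rw [smul_add, hx, hy, add_zero]
  | smul r x _ hx => rw [smul_comm, hx, smul_zero]

end map

end Groth.Agent.Lib.Helper19.SymPow
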