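import Groth.Prelude.Def_PP16
import Groth.Agent.Lib.Helper19SymPow
import Groth.Agent.Lib.Helper19SymDescend

/-!
# The canonical map `Sym^n(J/J²) → J^n/J^(n+1)` (helper19)
-/

set_option autoImplicit false
universe u

namespace Groth.Agent.Lib.Helper19.SymGr

open Groth.Agent.Lib.Helper19.SymPow
open scoped Pointwise

variable {R : Type u} [CommRing R] (J : Ideal R)

section canonical

variable (ι : Type u) [Fintype ι]

/-- the product map `J^ι → J^n/J^(n+1)` as a multilinear map -/
noncomputable def prodGr : MultilinearMap R (fun _ : ι => ↥J) (PP16.grJ R J (Fintype.card ι)) where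
  toFun x := PP16.zetaJ R J x
  map_update_add' := by
    intro _ x i a b
    unfold PP16.zetaJ
    rw [← Submodule.Quotient.mk_add]
    congr 1
    apply Subtype.ext
    simp only [Submodule.coe_add]
    have h : ∀ (c : ↥J) (j : ι), ((Function.update x i c j : ↥J) : R) =
        Function.update (fun j => (x j : R)) i (c : R) j := fun c j =>
      Function.apply_update (fun _ (y : ↥J) => (y : R)) x i c j
    simp only [h, Finset.prod_update_of_mem (Finset.mem_univ i), Submodule.coe_add, add_mul]
  map_update_smul' := by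
    intro _ x i c a
    unfold PP16.zetaJ
    rw [← Submodule.Quotient.mk_smul]
    congr 1
    apply Subtype.ext
    have h : ∀ (c : ↥J) (j : ι), ((Function.update x i c j : ↥J) : R) =
        Function.update (fun j => (x j : R)) i (c : R) j := fun c j =>
      Function.apply_update (fun _ (y : ↥J) => (y : R)) x i c j
    simp only [h, Finset.prod_update_of_mem (Finset.mem_univ i), Submodule.coe_smul, smul_eq_mul,
      mul_assoc]

theorem prodGr_apply (x : ι → ↥J) : prodGr J ι x = PP16.zetaJ R J x := rfl

theorem zetaJ_eq_zero_of_mem_sq (x : ι → ↥J) (i : ι) (hi : (x i : R) ∈ J ^ 2) :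
    PP16.zetaJ R J x = 0 := by
  classical
  unfold PP16.zetaJ
  rw [Submodule.Quotient.mk_eq_zero, Submodule.mem_comap]
  change ∏ j, (x j : R) ∈ J ^ (Fintype.card ι + 1)
  rw [← Finset.mul_prod_erase Finset.univ (fun j => (x j : R)) (Finset.mem_univ i)]
  have h1 : ∏ j ∈ Finset.univ.erase i, (x j : R) ∈ J ^ (Finset.univ.erase i).card :=
    PP16.prod_mem_pow J _ _ (fun j _ => (x j).2)
  rw [Finset.card_erase_of_mem (Finset.mem_univ i), Finset.card_univ] at h1
  have h2 : Fintype.card ι + 1 = 2 + (Fintype.card ι - 1) := by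
    have := Fintype.card_pos_iff.2 ⟨i⟩
    omega
  rw [h2, pow_add]
  exact Ideal.mul_mem_mul hi h1

theorem exists_cotProd : ∃ g : MultilinearMap R (fun _ : ι => J.Cotangent)
    (PP16.grJ R J (Fintype.card ι)), ∀ x : ι → ↥J,
      g (fun i => J.toCotangent (x i)) = PP16.zetaJ R J x :=
  exists_multilinear_descend (prodGr J ι) J.toCotangent (Ideal.toCotangent_surjective J)
    (fun x i hi => zetaJ_eq_zero_of_mem_sq J ι x i ((Ideal.toCotangent_eq_zero J (x i)).1 hi))

/-- the product map `(J/J²)^ι → J^n/J^(n+1)` as a multilinear map -/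
noncomputable def cotProd : MultilinearMap R (fun _ : ι => J.Cotangent)
    (PP16.grJ R J (Fintype.card ι)) := (exists_cotProd J ι).choose

theorem cotProd_apply (x : ι → ↥J) :
    cotProd J ι (fun i => J.toCotangent (x i)) = PP16.zetaJ R J x :=
  (exists_cotProd J ι).choose_spec x

theorem zetaJ_perm (e : Equiv.Perm ι) (x : ι → ↥J) :
    PP16.zetaJ R J (fun i => x (e i)) = PP16.zetaJ R J x := by
  unfold PP16.zetaJ
  congr 1
  apply Subtype.ext
  exact Equiv.prod_comp e (fun i => (x i : R))

theorem cotProd_perm (e : Equiv.Perm ι) (m : ι → J.Cotangent) :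
    cotProd J ι (fun i => m (e i)) = cotProd J ι m := by
  have hs : ∀ c, J.toCotangent (Function.surjInv (Ideal.toCotangent_surjective J) c) = c :=
    Function.surjInv_eq (Ideal.toCotangent_surjective J)
  obtain ⟨x, rfl⟩ : ∃ x : ι → ↥J, (fun i => J.toCotangent (x i)) = m :=
    ⟨fun i => Function.surjInv (Ideal.toCotangent_surjective J) (m i), funext fun i => hs _⟩
  change cotProd J ι (fun i => J.toCotangent (x (e i))) =
    cotProd J ι (fun i => J.toCotangent (x i))
  rw [cotProd_apply J ι x, cotProd_apply J ι (fun i => x (e i))]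
  exact zetaJ_perm J ι e x

/-- **the canonical map** `Sym^n(J/J²) → J^n/J^(n+1)` -/
noncomputable def symToGr : SymmetricPower R ι J.Cotangent →ₗ[R] PP16.grJ R J (Fintype.card ι) :=
  lift (cotProd J ι) (cotProd_perm J ι)

theorem symToGr_tprod (x : ι → ↥J) :
    symToGr J ι (SymmetricPower.tprod R (fun i => J.toCotangent (x i))) = PP16.zetaJ R J x := by
  rw [symToGr, lift_tprod, cotProd_apply]

/-- uniqueness of the canonical map -/
theorem eq_symToGr (φ : SymmetricPower R ι J.Cotangent →ₗ[R] PP16.grJ R J (Fintype.card ι))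
    (h : ∀ x : ι → ↥J,
      φ (SymmetricPower.tprod R (fun i => J.toCotangent (x i))) = PP16.zetaJ R J x) :
    φ = symToGr J ι := by
  apply SymPow.ext
  intro m
  have hs : ∀ c, J.toCotangent (Function.surjInv (Ideal.toCotangent_surjective J) c) = c :=
    Function.surjInv_eq (Ideal.toCotangent_surjective J)
  obtain ⟨x, rfl⟩ : ∃ x : ι → ↥J, (fun i => J.toCotangent (x i)) = m :=
    ⟨fun i => Function.surjInv (Ideal.toCotangent_surjective J) (m i), funext fun i => hs _⟩
  rw [h, symToGr_tprod]

theorem symToGr_surjective : Function.Surjective (symToGr J ι) := by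
  rw [← LinearMap.range_eq_top, eq_top_iff]
  rintro y -
  obtain ⟨⟨y, hy⟩, rfl⟩ := Submodule.Quotient.mk_surjective _ y
  have hy' := hy
  rw [Submodule.pow_eq_span_pow_set] at hy'
  -- induction over the span
  have key : ∀ (z : R) (hz : z ∈ Submodule.span R ((J : Set R) ^ Fintype.card ι))
      (hz' : z ∈ J ^ Fintype.card ι),
      (Submodule.Quotient.mk ⟨z, hz'⟩ : PP16.grJ R J (Fintype.card ι)) ∈
        LinearMap.range (symToGr J ι) := by
    intro z hz
    induction hz using Submodule.span_induction with
    | mem z hz =>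
      intro hz'
      rw [Set.mem_pow_iff_prod] at hz
      obtain ⟨f, hf, rfl⟩ := hz
      let e := Fintype.equivFin ι
      refine ⟨SymmetricPower.tprod R (fun i => J.toCotangent ⟨f (e i), hf _⟩), ?_⟩
      rw [symToGr_tprod]
      unfold PP16.zetaJ
      congr 1
      apply Subtype.ext
      exact Equiv.prod_comp e (fun i => f i)
    | zero =>
      intro hz'
      have : (⟨0, hz'⟩ : ↥(J ^ Fintype.card ι)) = 0 := rfl
      rw [this, Submodule.Quotient.mk_zero]
      exact Submodule.zero_mem _
    | add a b ha hb iha ihb =>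
      intro hz'
      have ha' : a ∈ J ^ Fintype.card ι := by
        rw [Submodule.pow_eq_span_pow_set]; exact ha
      have hb' : b ∈ J ^ Fintype.card ι := by
        rw [Submodule.pow_eq_span_pow_set]; exact hb
      have : (⟨a + b, hz'⟩ : ↥(J ^ Fintype.card ι)) = ⟨a, ha'⟩ + ⟨b, hb'⟩ := rfl
      rw [this, Submodule.Quotient.mk_add]
      exact Submodule.add_mem _ (iha ha') (ihb hb')
    | smul r a ha iha =>
      intro hz'
      have ha' : a ∈ J ^ Fintype.card ι := by
        rw [Submodule.pow_eq_span_pow_set]; exact ha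
      have : (⟨r • a, hz'⟩ : ↥(J ^ Fintype.card ι)) = r • ⟨a, ha'⟩ := rfl
      rw [this, Submodule.Quotient.mk_smul]
      exact Submodule.smul_mem _ r (iha ha')
  exact key y hy' hy

/-- `SymGrBijective` in terms of the canonical map -/
theorem symGrBijective_iff :
    PP16.SymGrBijective R J ↔
      ∀ (ι : Type u) [Fintype ι] [Nonempty ι], Function.Injective (symToGr J ι) := by
  constructor
  · intro h ι _ _
    obtain ⟨φ, hφ, hbij⟩ := h ι
    rw [← eq_symToGr J ι φ hφ]
    exact hbij.1
  · intro h ι _ _
    exact ⟨symToGr J ι, symToGr_tprod J ι, h ι, symToGr_surjective J ι⟩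

end canonical

end Groth.Agent.Lib.Helper19.SymGr
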