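import Groth.Agent.Lib.Helper19QRegChart
import Groth.Agent.Lib.Helper19QRegMon
import Groth.Agent.Lib.Helper19SymGr

/-!
# From `FG + projective conormal module + Sym = gr` to local quasi-regularity (helper19)
-/

set_option autoImplicit false
set_option linter.style.haveILetI false
universe u

namespace Groth.Agent.Lib.Helper19.QRegConv

open MvPolynomial Groth.Agent.Lib.Helper19.SymPow Groth.Agent.Lib.Helper19.SymGr
  Groth.Agent.Lib.Helper19.QRegMon Groth.Agent.Lib.Helper19.QRegChart

section lifts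

theorem exists_mutual_lifts {R : Type*} [CommRing R] (S : Submonoid R)
    {M N M' N' : Type*} [AddCommGroup M] [AddCommGroup N] [AddCommGroup M'] [AddCommGroup N']
    [Module R M] [Module R N] [Module R M'] [Module R N']
    [Module.FinitePresentation R M] [Module.FinitePresentation R N]
    (f : M →ₗ[R] M') (g : N →ₗ[R] N') [IsLocalizedModule S f] [IsLocalizedModule S g]
    (l : M' ≃ₗ[R] N') :
    ∃ (α : M →ₗ[R] N) (β : N →ₗ[R] M) (s : R), s ∈ S ∧
      (∀ m, β (α m) = s • m) ∧ (∀ n, α (β n) = s • n) := by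
  obtain ⟨α, s₁, hα⟩ := Module.FinitePresentation.exists_lift_of_isLocalizedModule S g
    (l.toLinearMap ∘ₗ f)
  obtain ⟨β, s₂, hβ⟩ := Module.FinitePresentation.exists_lift_of_isLocalizedModule S f
    (l.symm.toLinearMap ∘ₗ g)
  have hα' : ∀ m, g (α m) = (s₁ : R) • l (f m) := fun m => by
    simpa [Submonoid.smul_def] using LinearMap.congr_fun hα m
  have hβ' : ∀ n, f (β n) = (s₂ : R) • l.symm (g n) := fun n => by
    simpa [Submonoid.smul_def] using LinearMap.congr_fun hβ n
  have h1 : f ∘ₗ (β ∘ₗ α) = f ∘ₗ (((s₁ : R) * (s₂ : R)) • LinearMap.id) := by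
    ext m
    simp only [LinearMap.coe_comp, Function.comp_apply, LinearMap.smul_apply, LinearMap.id_apply]
    rw [hβ', hα', map_smul, LinearEquiv.symm_apply_apply, smul_smul, map_smul, mul_comm]
  have h2 : g ∘ₗ (α ∘ₗ β) = g ∘ₗ (((s₁ : R) * (s₂ : R)) • LinearMap.id) := by
    ext m
    simp only [LinearMap.coe_comp, Function.comp_apply, LinearMap.smul_apply, LinearMap.id_apply]
    rw [hα', hβ', map_smul, LinearEquiv.apply_symm_apply, smul_smul, map_smul]
  obtain ⟨s₃, hs₃⟩ := Module.Finite.exists_smul_of_comp_eq_of_isLocalizedModule S f _ _ h1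
  obtain ⟨s₄, hs₄⟩ := Module.Finite.exists_smul_of_comp_eq_of_isLocalizedModule S g _ _ h2
  have hs₃' : ∀ m, (s₃ : R) • β (α m) = (s₃ : R) • ((s₁ : R) * (s₂ : R)) • m := fun m => by
    simpa [Submonoid.smul_def] using LinearMap.congr_fun hs₃ m
  have hs₄' : ∀ n, (s₄ : R) • α (β n) = (s₄ : R) • ((s₁ : R) * (s₂ : R)) • n := fun n => by
    simpa [Submonoid.smul_def] using LinearMap.congr_fun hs₄ n
  refine ⟨((s₃ : R) * (s₄ : R)) • α, β, (s₃ : R) * (s₄ : R) * ((s₁ : R) * (s₂ : R)),
    (s₃ * s₄ * (s₁ * s₂) : S).2, ?_, ?_⟩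
  · intro m
    rw [LinearMap.smul_apply, map_smul, mul_comm (s₃ : R), mul_smul, hs₃', smul_smul, smul_smul]
  · intro n
    rw [LinearMap.smul_apply, mul_smul, hs₄', smul_smul, smul_smul]


theorem exists_local_coords {A : Type*} [CommRing A] {N : Type*} [AddCommGroup N] [Module A N]
    [Module.Finite A N] [Module.Projective A N] (p : Ideal A) [p.IsPrime] :
    ∃ (r : ℕ) (α : N →ₗ[A] (Fin r →₀ A)) (β : (Fin r →₀ A) →ₗ[A] N) (s : A), s ∉ p ∧
      (∀ m, β (α m) = s • m) ∧ (∀ n, α (β n) = s • n) := by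
  haveI : Module.FinitePresentation A N := Module.finitePresentation_of_projective A N
  let Ap := Localization.AtPrime p
  let Np := LocalizedModule p.primeCompl N
  haveI : Module.Free Ap Np := Module.free_of_flat_of_isLocalRing
  let b := Module.finBasis Ap Np
  let l : Np ≃ₗ[A] (Fin (Module.finrank Ap Np) →₀ Ap) := b.repr.restrictScalars A
  obtain ⟨α, β, s, hs, h1, h2⟩ := exists_mutual_lifts p.primeCompl
    (LocalizedModule.mkLinearMap p.primeCompl N)
    (Finsupp.mapRange.linearMap (α := Fin (Module.finrank Ap Np)) (Algebra.linearMap A Ap)) l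
  exact ⟨_, α, β, s, hs, h1, h2⟩


end lifts

variable {R : Type u} [CommRing R] (J : Ideal R) {r : ℕ}

/-- the linear form attached to a family of functionals -/
noncomputable def linF (μ : Fin r → (J.Cotangent →ₗ[R] R ⧸ J)) :
    J.Cotangent →ₗ[R] MvPolynomial (Fin r) (R ⧸ J) :=
  ∑ i, ((LinearMap.toSpanSingleton (R ⧸ J) (MvPolynomial (Fin r) (R ⧸ J)) (X i)).restrictScalars R) ∘ₗ
    μ i

theorem linF_apply (μ : Fin r → (J.Cotangent →ₗ[R] R ⧸ J)) (v : J.Cotangent) :
    linF J μ v = ∑ i, C (μ i v) * X i := by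
  rw [linF, LinearMap.sum_apply]
  refine Finset.sum_congr rfl fun i _ => ?_
  rw [LinearMap.comp_apply, LinearMap.restrictScalars_apply, LinearMap.toSpanSingleton_apply,
    MvPolynomial.smul_eq_C_mul]

variable (ι : Type u) [Fintype ι]

/-- the comparison map to polynomials -/
noncomputable def Theta (μ : Fin r → (J.Cotangent →ₗ[R] R ⧸ J)) :
    SymmetricPower R ι J.Cotangent →ₗ[R] MvPolynomial (Fin r) (R ⧸ J) :=
  Groth.Agent.Lib.Helper19.SymPow.lift ((MultilinearMap.mkPiAlgebra R ι (MvPolynomial (Fin r) (R ⧸ J))).compLinearMap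
    (fun _ => linF J μ)) (fun e f => by
      simp only [MultilinearMap.compLinearMap_apply, MultilinearMap.mkPiAlgebra_apply]
      exact Equiv.prod_comp e (fun i => linF J μ (f i)))

theorem Theta_tprod (μ : Fin r → (J.Cotangent →ₗ[R] R ⧸ J)) (m : ι → J.Cotangent) :
    Theta J ι μ (SymmetricPower.tprod R m) = ∏ a, linF J μ (m a) := by
  rw [Theta, lift_tprod]
  rfl

theorem Theta_basis (μ : Fin r → (J.Cotangent →ₗ[R] R ⧸ J)) (x : Fin r → J) (g : R)
    (hμ : ∀ i j, μ i (J.toCotangent (x j)) = if i = j then Ideal.Quotient.mk J g else 0)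
    (w : ι → Fin r) :
    Theta J ι μ (SymmetricPower.tprod R (fun a => J.toCotangent (x (w a)))) =
      monomial (mon w) (Ideal.Quotient.mk J g ^ Fintype.card ι) := by
  rw [Theta_tprod]
  have h1 : ∀ a, linF J μ (J.toCotangent (x (w a))) = C (Ideal.Quotient.mk J g) * X (w a) := by
    intro a
    rw [linF_apply, Finset.sum_eq_single (w a)]
    · rw [hμ, if_pos rfl]
    · intro i _ hi
      rw [hμ, if_neg hi, C_0, zero_mul]
    · intro h; exact absurd (Finset.mem_univ _) h
  simp only [h1]
  rw [Finset.prod_mul_distrib, Finset.prod_const, Finset.card_univ, prod_X_eq_monomial,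
    ← C_pow, C_mul_monomial, mul_one]


theorem coeff_mem_of_symToGr_injective [Nonempty ι] (hinj : Function.Injective (symToGr J ι))
    (μ : Fin r → (J.Cotangent →ₗ[R] R ⧸ J)) (x : Fin r → J) (g : R)
    (hμ : ∀ i j, μ i (J.toCotangent (x j)) = if i = j then Ideal.Quotient.mk J g else 0)
    (Q : MvPolynomial (Fin r) R) (hQ : Q.IsHomogeneous (Fintype.card ι))
    (hev : eval (fun i => (x i : R)) Q ∈ J ^ (Fintype.card ι + 1)) (d₀ : Fin r →₀ ℕ) :
    g ^ Fintype.card ι * Q.coeff d₀ ∈ J := by
  classical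
  have hex : ∀ d ∈ Q.support, ∃ w : ι → Fin r, mon w = d := fun d hd => by
    apply exists_mon_eq
    rw [Finsupp.degree_eq_weight_one]; exact hQ (mem_support_iff.1 hd)
  have hmemP : ∀ w : ι → Fin r, ∏ a, (x (w a) : R) ∈ J ^ Fintype.card ι := fun w => by
    simpa using PP16.prod_mem_pow J Finset.univ (fun a => (x (w a) : R)) (fun a _ => (x (w a)).2)
  let T : (Fin r →₀ ℕ) → SymmetricPower R ι J.Cotangent := fun d =>
    if h : ∃ w : ι → Fin r, mon w = d then
      SymmetricPower.tprod R (fun a => J.toCotangent (x (h.choose a))) else 0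
  let Pd : (Fin r →₀ ℕ) → ↥(J ^ Fintype.card ι) := fun d =>
    if h : ∃ w : ι → Fin r, mon w = d then ⟨∏ a, (x (h.choose a) : R), hmemP _⟩ else 0
  have hT : ∀ d, symToGr J ι (T d) = Submodule.Quotient.mk (Pd d) := by
    intro d
    by_cases h : ∃ w : ι → Fin r, mon w = d
    · simp only [T, Pd, dif_pos h]
      rw [symToGr_tprod J ι (fun a => x (h.choose a))]
      rfl
    · simp only [T, Pd, dif_neg h]
      rw [map_zero, Submodule.Quotient.mk_zero]
  have hPd : ∀ d ∈ Q.support, ((Pd d : ↥(J ^ Fintype.card ι)) : R) =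
      eval (fun i => (x i : R)) (monomial d 1) := by
    intro d hd
    have h := hex d hd
    simp only [Pd, dif_pos h]
    have := eval_prod_eq (fun i => (x i : R)) h.choose
    rw [h.choose_spec] at this
    exact this.symm
  let σ : SymmetricPower R ι J.Cotangent := ∑ d ∈ Q.support, Q.coeff d • T d
  have hσ : symToGr J ι σ = 0 := by
    simp only [σ, map_sum, map_smul, hT]
    have e : ∑ d ∈ Q.support, Q.coeff d •
        (Submodule.Quotient.mk (Pd d) : PP16.grJ R J (Fintype.card ι)) =
        Submodule.Quotient.mk (∑ d ∈ Q.support, Q.coeff d • Pd d) := by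
      rw [← Submodule.mkQ_apply, map_sum]
      refine Finset.sum_congr rfl fun d _ => ?_
      rw [map_smul]; rfl
    rw [e, Submodule.Quotient.mk_eq_zero, Submodule.mem_comap]
    have : ((J ^ Fintype.card ι).subtype (∑ d ∈ Q.support, Q.coeff d • Pd d) : R) =
        eval (fun i => (x i : R)) Q := by
      rw [Submodule.subtype_apply, Submodule.coe_sum]
      conv_rhs => rw [← support_sum_monomial_coeff Q, map_sum]
      refine Finset.sum_congr rfl fun d hd => ?_
      rw [Submodule.coe_smul, hPd d hd, smul_eq_mul, eval_monomial, eval_monomial, one_mul]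
    rw [this]
    exact hev
  have hσ0 : σ = 0 := hinj (by rw [hσ, map_zero])
  have hΘ : Theta J ι μ σ = ∑ d ∈ Q.support,
      monomial d (Ideal.Quotient.mk J (Q.coeff d) * Ideal.Quotient.mk J g ^ Fintype.card ι) := by
    simp only [σ, map_sum, map_smul]
    refine Finset.sum_congr rfl fun d hd => ?_
    have h := hex d hd
    simp only [T, dif_pos h]
    rw [Theta_basis J ι μ x g hμ, h.choose_spec, MvPolynomial.smul_monomial, Algebra.smul_def,
      Ideal.Quotient.algebraMap_eq]
  by_cases hd₀ : d₀ ∈ Q.support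
  · have h1 := congrArg (coeff d₀) hΘ
    rw [hσ0, map_zero, coeff_zero, coeff_sum, Finset.sum_eq_single d₀] at h1
    · rw [coeff_monomial, if_pos rfl] at h1
      rw [← Ideal.Quotient.eq_zero_iff_mem, map_mul, map_pow, mul_comm]
      exact h1.symm
    · intro d _ hd
      rw [coeff_monomial, if_neg hd]
    · intro h; exact absurd hd₀ h
  · rw [notMem_support_iff.1 hd₀, mul_zero]
    exact J.zero_mem


section main

omit r

theorem mk_smul_cot (a : R) (v : J.Cotangent) : (Ideal.Quotient.mk J a) • v = a • v := by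
  rw [← Ideal.Quotient.algebraMap_eq, algebraMap_smul]

theorem isLocallyQuasiRegular_of_fg_projective_symGr (hFG : J.FG)
    (hproj : Module.Projective (R ⧸ J) J.Cotangent) (hsym : PP16.SymGrBijective R J) :
    PP16.IsLocallyQuasiRegular R J := by
  classical
  intro P hP hJP
  have hinj := (symGrBijective_iff J).1 hsym
  haveI : Module.Finite R J := Module.Finite.iff_fg.2 hFG
  haveI : Module.Finite R J.Cotangent :=
    Module.Finite.of_surjective J.toCotangent J.toCotangent_surjective
  haveI : Module.Finite (R ⧸ J) J.Cotangent := Module.Finite.of_restrictScalars_finite R _ _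
  let Pbar := P.map (Ideal.Quotient.mk J)
  haveI : Pbar.IsPrime := Ideal.map_isPrime_of_surjective Ideal.Quotient.mk_surjective
    (by rw [Ideal.mk_ker]; exact hJP)
  obtain ⟨r, α, β, s, hs, h1, h2⟩ := exists_local_coords (A := R ⧸ J) (N := J.Cotangent) Pbar
  obtain ⟨g, rfl⟩ := Ideal.Quotient.mk_surjective s
  have hgP : g ∉ P := fun h => hs (Ideal.mem_map_of_mem _ h)
  choose x hx using fun i : Fin r => Ideal.toCotangent_surjective J (β (Finsupp.single i 1))
  let μ : Fin r → (J.Cotangent →ₗ[R] R ⧸ J) := fun i =>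
    ((Finsupp.lapply i : (Fin r →₀ R ⧸ J) →ₗ[R ⧸ J] R ⧸ J).restrictScalars R) ∘ₗ
      (α.restrictScalars R)
  have hμ : ∀ i j, μ i (J.toCotangent (x j)) =
      if i = j then Ideal.Quotient.mk J g else 0 := by
    intro i j
    change (α (J.toCotangent (x j))) i = _
    rw [hx, h2, Finsupp.smul_apply, Finsupp.single_apply, smul_eq_mul]
    by_cases h : i = j
    · rw [if_pos h, if_pos h.symm, mul_one]
    · rw [if_neg h, if_neg (Ne.symm h), mul_zero]
  have hrel : ∀ y : J, ∃ a : Fin r → R, g * (y : R) - ∑ i, a i * (x i : R) ∈ J ^ 2 := by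
    intro y
    choose a ha using fun i => Ideal.Quotient.mk_surjective (α (J.toCotangent y) i)
    refine ⟨a, ?_⟩
    have h3 : J.toCotangent (g • y - ∑ i, a i • x i) = 0 := by
      rw [map_sub, map_smul, map_sum, ← mk_smul_cot, ← h1, sub_eq_zero]
      conv_lhs => rw [← Finsupp.univ_sum_single (α (J.toCotangent y)), map_sum]
      refine Finset.sum_congr rfl fun i _ => ?_
      rw [← Finsupp.smul_single_one, map_smul, ← hx, ← ha i, mk_smul_cot, map_smul]
    rw [Ideal.toCotangent_eq_zero] at h3
    convert h3 using 1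
    rw [Submodule.coe_sub, Submodule.coe_sum]
    simp
  -- Nakayama in the localization
  let φ := algebraMap R (Localization.Away g)
  let J' : Ideal (Localization.Away g) := J.map φ
  let X' : Ideal (Localization.Away g) := Ideal.span (Set.range fun i => φ (x i))
  have hJ'fg : J'.FG := hFG.map φ
  have hle : J' ≤ X' ⊔ J' • J' := by
    rw [Ideal.map_le_iff_le_comap]
    intro y hy
    rw [Ideal.mem_comap]
    obtain ⟨a, ha⟩ := hrel ⟨y, hy⟩
    have h4 : φ (g ^ 1) * φ y ∈ X' ⊔ J' • J' := by
      have : φ (g ^ 1) * φ y =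
          ∑ i, φ (a i) * φ (x i) + φ (g * y - ∑ i, a i * (x i : R)) := by
        simp [map_sub, map_sum, map_mul]
      rw [this]
      refine Submodule.add_mem_sup (Ideal.sum_mem _ fun i _ =>
        Ideal.mul_mem_left _ _ (Ideal.subset_span ⟨i, rfl⟩)) ?_
      rw [smul_eq_mul, ← pow_two, ← Ideal.map_pow]
      exact Ideal.mem_map_of_mem _ ha
    exact (Ideal.unit_mul_mem_iff_mem _ (isUnit_pow g 1)).1 h4
  obtain ⟨t, ht1, ht2⟩ :=
    Submodule.exists_sub_one_mem_and_smul_le_of_fg_of_le_sup hJ'fg le_rfl hle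
  obtain ⟨⟨c, ⟨_, k, rfl⟩⟩, hc⟩ := IsLocalization.surj (Submonoid.powers g) t
  simp only at hc
  have hcP : c ∉ P := by
    intro hcP
    have h5 : φ (c - g ^ k) ∈ J' := by
      rw [map_sub, ← hc]
      have : t * φ (g ^ k) - φ (g ^ k) = (t - 1) * φ (g ^ k) := by ring
      rw [this]
      exact Ideal.mul_mem_right _ _ ht1
    obtain ⟨m, ⟨l, rfl⟩, hm⟩ := (IsLocalization.algebraMap_mem_map_algebraMap_iff
      (Submonoid.powers g) (Localization.Away g) _ _).1 h5
    have h6 : g ^ (l + k) ∈ P := by
      have e : g ^ (l + k) = g ^ l * c - g ^ l * (c - g ^ k) := by ring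
      rw [e]
      exact sub_mem (Ideal.mul_mem_left _ _ hcP) (hJP hm)
    exact hgP (hP.mem_of_pow_mem _ h6)
  have hg₂ : g * c ∉ P := fun h => (hP.mem_or_mem h).elim hgP hcP
  have chart : IsChart J (g * c) (fun i => (x i : R)) :=
    { mem := fun i => (x i).2
      gen := by
        intro y hy
        have h7 : t • φ y ∈ X' :=
          ht2 (Submodule.smul_mem_pointwise_smul _ _ _ (Ideal.mem_map_of_mem _ hy))
        have h8 : φ (c * y) ∈ (Ideal.span (Set.range fun i => (x i : R))).map φ := by
          rw [← span_range_comp, map_mul, ← hc]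
          have : t * φ (g ^ k) * φ y = φ (g ^ k) * (t • φ y) := by
            rw [smul_eq_mul]; ring
          rw [this]
          exact Ideal.mul_mem_left _ _ h7
        obtain ⟨m, ⟨l, rfl⟩, hm⟩ := (IsLocalization.algebraMap_mem_map_algebraMap_iff
          (Submonoid.powers g) (Localization.Away g) _ _).1 h8
        refine ⟨l + 1, ?_⟩
        have e : (g * c) ^ (l + 1) * y = (g * c ^ l) * (g ^ l * (c * y)) := by ring
        rw [e]
        exact Ideal.mul_mem_left _ _ hm
      qr := by
        intro n Q hQ hev d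
        rcases Nat.eq_zero_or_pos n with rfl | hn
        · refine ⟨0, ?_⟩
          rw [pow_zero, one_mul]
          by_cases hd : d = 0
          · subst hd
            have h9 : Q.totalDegree = 0 := Nat.le_zero.1 hQ.totalDegree_le
            rw [totalDegree_eq_zero_iff_eq_C] at h9
            rw [h9, eval_C, zero_add, pow_one] at hev
            exact hev
          · rw [hQ.coeff_eq_zero (by
              rw [Ne, Finsupp.degree_eq_zero_iff]; exact hd)]
            exact J.zero_mem
        · haveI : Nonempty (ULift.{u} (Fin n)) := ⟨ULift.up ⟨0, hn⟩⟩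
          have hcard : Fintype.card (ULift.{u} (Fin n)) = n := by simp
          have := coeff_mem_of_symToGr_injective J (ULift.{u} (Fin n)) (hinj _) μ x g hμ Q
            (by rw [hcard]; exact hQ) (by rw [hcard]; exact hev) d
          rw [hcard] at this
          refine ⟨n, ?_⟩
          have e : (g * c) ^ n * Q.coeff d = c ^ n * (g ^ n * Q.coeff d) := by ring
          rw [e]
          exact Ideal.mul_mem_left _ _ this }
  exact ⟨g * c, hg₂, r, fun i => algebraMap R (Localization.Away (g * c)) (x i),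
    chart.isQuasiRegular, chart.span_eq⟩


end main

end Groth.Agent.Lib.Helper19.QRegConv
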