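import Groth.Agent.Lib.Helper5KzPerm

/-!
# Koszul-regular sequences are minimal generating sequences; the conormal module is free (helper5)
-/

set_option autoImplicit false
set_option linter.style.haveILetI false
universe u

open CategoryTheory CategoryTheory.Limits CochainComplex CohIII

namespace Groth.Agent.Lib.Helper5.KzMin

open Groth.Agent.Lib.Helper21 Groth.Agent.Helper13Kz Groth.Agent.Helper13KzLift
open Groth.Agent.Lib.Helper5.KzComp Groth.Agent.Lib.Helper5.KzPerm

variable {A : Type u} [CommRing A]

/-- for `f` Koszul-regular, `K(f' ++ f)` has no homology below degree `-|f'|`. -/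
theorem subsingleton_KH_append_of_lt (f f' : List A) (hf : LCI.IsKoszulRegularSeq A f) (j : ℤ)
    (hj : j < -(f'.length : ℤ)) : Subsingleton (KH (f' ++ f) A j) := by
  rw [isKoszulRegularSeq_iff] at hf
  obtain ⟨M', ε, hε⟩ := exists_quasiIso_single (koszulCx (ModuleCat.of A A) f)
    (isZero_koszulCx_X_pos _ f)
    (fun k hk => by
      have := hf k hk.ne
      exact ModuleCat.isZero_of_subsingleton _)
  haveI := hε
  haveI := quasiIso_KcMap ε f'
  have h4 : IsZero ((koszulCx M' f').homology j) :=
    isZero_homology_of_isZero_X _ j (isZero_koszulCx_X_neg M' f' j hj)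
  have h5 := (isZero_congr (Kc_single M' f') j).mp h4
  have h6 : IsZero ((Kc (koszulCx (ModuleCat.of A A) f) f').homology j) :=
    h5.of_iso (asIso (HomologicalComplex.homologyMap (KcMap ε f') j))
  have h7 := (isZero_congr (Kc_append (ModuleCat.of A A) f f') j).mpr h6
  exact ModuleCat.subsingleton_of_isZero h7

/-- `H^0 K(h) = 0` forces `(h) = ⊤`. -/
theorem ofList_eq_top_of_subsingleton_KH_zero (h : List A) (hs : Subsingleton (KH h A 0)) :
    Ideal.ofList h = ⊤ := by
  have hk := aug_ker (ModuleCat.of A A) h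
  have h1 : LinearMap.ker (aug (ModuleCat.of A A) h).hom = ⊤ := by
    rw [eq_top_iff]
    intro x _
    rw [LinearMap.mem_ker]
    exact Subsingleton.elim _ _
  rw [h1] at hk
  have h2 := smul_top_eq (Ideal.ofList h)
  rw [← h2]
  exact hk.symm

/-- a Koszul-regular sequence generating a proper ideal has minimal length. -/
theorem length_le_of_isKoszulRegularSeq (f h : List A) (hf : LCI.IsKoszulRegularSeq A f)
    (hI : Ideal.ofList h = Ideal.ofList f) (hne : Ideal.ofList f ≠ ⊤) : f.length ≤ h.length := by
  by_contra hlt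
  push Not at hlt
  have h3 := subsingleton_KH_append_of_lt f h hf (-(f.length : ℤ)) (by
    have : (h.length : ℤ) < f.length := by exact_mod_cast hlt
    omega)
  obtain ⟨e⟩ := nonempty_koszulCx_iso_of_perm (ModuleCat.of A A)
    (List.perm_append_comm : (f ++ h).Perm (h ++ f))
  have h2 : Subsingleton (KH (f ++ h) A (-(f.length : ℤ))) := by
    have e' := (HomologicalComplex.homologyFunctor (ModuleCat.{u} A) (ComplexShape.up ℤ)
      (-(f.length : ℤ))).mapIso e
    have hz : IsZero ((koszulCx (ModuleCat.of A A) (h ++ f)).homology (-(f.length : ℤ))) :=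
      ModuleCat.isZero_of_subsingleton _
    exact ModuleCat.subsingleton_of_isZero (hz.of_iso e')
  have h1 := subsingleton_KH_of_append A h f (fun a ha => by
    have : a ∈ Ideal.ofList f := Ideal.subset_span ha
    rw [← hI] at this
    exact this) (-(f.length : ℤ)) h2
  have e1 : -(f.length : ℤ) + f.length = 0 := by ring
  rw [e1] at h1
  exact hne (hI ▸ ofList_eq_top_of_subsingleton_KH_zero h h1)

/-- S18935 -/
theorem isKoszulRegularSeq_iff_length_le {I : Ideal A} (hI : I ≠ ⊤)
    (g : List A) (hg : LCI.IsKoszulRegularSeq A g) (hgI : Ideal.ofList g = I)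
    (f : List A) (hfI : Ideal.ofList f = I) :
    LCI.IsKoszulRegularSeq A f ↔ ∀ h : List A, Ideal.ofList h = I → f.length ≤ h.length := by
  constructor
  · intro hf h hhI
    exact length_le_of_isKoszulRegularSeq f h hf (hhI.trans hfI.symm) (hfI ▸ hI)
  · intro H
    exact isKoszulRegularSeq_of_ofList_eq g f hg (hfI.trans hgI.symm) (H g hgI)

section Relations

theorem smul_injective_of_subsingleton_cone (K : CochainComplex (ModuleCat.{u} A) ℤ) (a : A)
    (i j : ℤ) (hj : i + 1 = j)
    (h : Subsingleton ((mappingCone (a • 𝟙 K)).homology i)) :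
    Function.Injective (a • (LinearMap.id : K.homology j →ₗ[A] K.homology j)) := by
  subst hj
  obtain ⟨g, δ, -, -, h3⟩ := cone_les K a i
  intro x y hxy
  rw [← sub_eq_zero]
  have h0 : (a • (LinearMap.id : K.homology (i + 1) →ₗ[A] K.homology (i + 1))) (x - y) = 0 := by
    rw [map_sub, sub_eq_zero]
    exact hxy
  obtain ⟨z, hz⟩ := (h3 (x - y)).mp h0
  rw [← hz, Subsingleton.elim z 0, map_zero]

/-- in a Koszul-regular sequence the first element is a nonzerodivisor modulo the others. -/
theorem mem_of_mul_mem_of_cons (a : A) (l : List A) (h : LCI.IsKoszulRegularSeq A (a :: l))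
    (c : A) (hc : c * a ∈ Ideal.ofList l) : c ∈ Ideal.ofList l := by
  rw [isKoszulRegularSeq_iff] at h
  have h1 : Subsingleton (KH (a :: l) A (-1)) := h (-1) (by norm_num)
  have hinj := smul_injective_of_subsingleton_cone (koszulCx (ModuleCat.of A A) l) a (-1) 0
    (by norm_num) h1
  have hk := aug_ker (ModuleCat.of A A) l
  rw [smul_top_eq] at hk
  have h2 : (aug (ModuleCat.of A A) l).hom (c * a) = 0 := by
    rw [← LinearMap.mem_ker, hk]
    exact hc
  have h3 : (a • (LinearMap.id : (koszulCx (ModuleCat.of A A) l).homology 0 →ₗ[A] _))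
      ((aug (ModuleCat.of A A) l).hom c) = 0 := by
    rw [LinearMap.smul_apply, LinearMap.id_apply, ← map_smul, smul_eq_mul, mul_comm]
    exact h2
  have h4 : (aug (ModuleCat.of A A) l).hom c = 0 := by
    apply hinj
    rw [h3, map_zero]
  rw [← hk, LinearMap.mem_ker]
  exact h4

/-- the coefficients of a relation between the members of a Koszul-regular sequence lie in the ideal. -/
theorem coeff_mem_of_relation {r : ℕ} (F : Fin r → A)
    (hF : LCI.IsKoszulRegularSeq A (List.ofFn F)) (c : Fin r → A)
    (hc : ∑ i, c i * F i = 0) (i : Fin r) : c i ∈ Ideal.span (Set.range F) := by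
  classical
  set L := List.ofFn F with hL
  have hn : i.val < L.length := by
    rw [hL, List.length_ofFn]
    exact i.isLt
  have hLi : L[i.val] = F i := by
    simp [hL]
  have hperm : (L[i.val] :: L.eraseIdx i.val).Perm L := List.getElem_cons_eraseIdx_perm hn
  have hreg : LCI.IsKoszulRegularSeq A (F i :: L.eraseIdx i.val) := by
    rw [← hLi]
    exact isKoszulRegularSeq_of_perm hperm.symm hF
  have hmem : ∀ k : Fin r, k ≠ i → F k ∈ L.eraseIdx i.val := by
    intro k hk
    rw [List.mem_eraseIdx_iff_getElem]
    refine ⟨k.val, by rw [hL, List.length_ofFn]; exact k.isLt, fun h => hk (Fin.ext h), ?_⟩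
    simp [hL]
  have hsum : c i * F i = -∑ k ∈ Finset.univ.erase i, c k * F k := by
    rw [← Finset.add_sum_erase Finset.univ (fun k => c k * F k) (Finset.mem_univ i)] at hc
    exact eq_neg_of_add_eq_zero_left hc
  have h1 : c i * F i ∈ Ideal.ofList (L.eraseIdx i.val) := by
    rw [hsum]
    refine Ideal.neg_mem_iff _ |>.mpr (Ideal.sum_mem _ fun k hk => ?_)
    exact Ideal.mul_mem_left _ _ (Ideal.subset_span (hmem k (Finset.ne_of_mem_erase hk)))
  have h2 := mem_of_mul_mem_of_cons (F i) (L.eraseIdx i.val) hreg (c i) h1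
  have h3 : Ideal.ofList (L.eraseIdx i.val) ≤ Ideal.span (Set.range F) := by
    refine Ideal.span_mono fun x hx => ?_
    have hx' : x ∈ L := List.mem_of_mem_eraseIdx hx
    rw [hL, List.mem_ofFn] at hx'
    exact hx'
  exact h3 h2

end Relations

section Cotangent

/-- S18939 -/
theorem exists_basis_cotangent {I : Ideal A} (r : ℕ) (f : Fin r → I)
    (hf : LCI.IsKoszulRegularSeq A (List.ofFn (fun i => (f i : A))))
    (hfI : Ideal.span (Set.range (fun i => (f i : A))) = I) :
    ∃ b : Module.Basis (Fin r) (A ⧸ I) I.Cotangent, ∀ i, b i = I.toCotangent (f i) := by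
  classical
  -- key: coefficients of elements of `I^2`
  have key : ∀ a : Fin r → A, (∑ i, a i * (f i : A)) ∈ I ^ 2 → ∀ i, a i ∈ I := by
    intro a ha i
    have h1 : (∑ i, a i * (f i : A)) ∈ I • Ideal.span (Set.range (fun i => (f i : A))) := by
      rw [hfI, smul_eq_mul, ← pow_two]
      exact ha
    obtain ⟨b, hb, hsum⟩ := (Submodule.mem_ideal_smul_span_iff_exists_sum I _ _).mp h1
    rw [Finsupp.sum_fintype b (fun i c => c • (f i : A)) (fun i => zero_smul _ _)] at hsum
    have h2 : ∑ i, (a i - b i) * (f i : A) = 0 := by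
      simp only [sub_mul, Finset.sum_sub_distrib]
      rw [sub_eq_zero]
      simpa [smul_eq_mul] using hsum.symm
    have h3 := coeff_mem_of_relation (fun i => (f i : A)) hf (fun i => a i - b i) h2 i
    rw [hfI] at h3
    have : a i = (a i - b i) + b i := by ring
    rw [this]
    exact I.add_mem h3 (hb i)
  have hsmul : ∀ (a : A) (x : I.Cotangent), (Ideal.Quotient.mk I a) • x = a • x := by
    intro a x
    exact algebraMap_smul (A ⧸ I) a x
  have hli : LinearIndependent (A ⧸ I) (fun i => I.toCotangent (f i)) := by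
    rw [Fintype.linearIndependent_iff]
    intro g hg i
    choose a ha using fun i => Ideal.Quotient.mk_surjective (g i)
    have h1 : I.toCotangent (∑ i, a i • f i) = 0 := by
      rw [map_sum, ← hg]
      refine Finset.sum_congr rfl fun k _ => ?_
      rw [map_smul, ← ha k, hsmul]
    rw [Ideal.toCotangent_eq_zero] at h1
    have h2 : ((∑ i, a i • f i : I) : A) = ∑ i, a i * (f i : A) := by
      simp [smul_eq_mul]
    rw [h2] at h1
    rw [← ha i, Ideal.Quotient.eq_zero_iff_mem]
    exact key a h1 i
  have hsp : ⊤ ≤ Submodule.span (A ⧸ I) (Set.range (fun i => I.toCotangent (f i))) := by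
    intro y _
    obtain ⟨x, rfl⟩ := Ideal.toCotangent_surjective I y
    have hx : (x : A) ∈ Ideal.span (Set.range (fun i => (f i : A))) := by
      rw [hfI]
      exact x.2
    obtain ⟨c, hc⟩ := Ideal.mem_span_range_iff_exists_fun.mp hx
    have hx' : x = ∑ i, c i • f i := by
      apply Subtype.ext
      rw [← hc]
      simp [smul_eq_mul]
    rw [hx', map_sum]
    refine Submodule.sum_mem _ fun k _ => ?_
    rw [map_smul, ← hsmul]
    exact Submodule.smul_mem _ _ (Submodule.subset_span ⟨k, rfl⟩)
  refine ⟨Module.Basis.mk hli hsp, fun i => ?_⟩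
  rw [Module.Basis.mk_apply]

end Cotangent

end Groth.Agent.Lib.Helper5.KzMin
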