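import Groth.Agent.Lib.Helper13KzIdeal
import Groth.Agent.Lib.Helper5KzMin
import Groth.Agent.Lib.Helper19QRegConv

/-!
# Koszul-regular ideals are finitely generated with projective conormal module (helper13)

The proofs follow helper19's `Helper19QRegDir` with a weaker notion of chart (only the linear part of
quasi-regularity is needed).
-/

set_option autoImplicit false
set_option linter.style.haveILetI false
universe u

namespace Groth.Agent.Helper13KzDesc

open Groth.Agent.Lib.Helper19.QRegConv Groth.Agent.Helper13KzIdeal Groth.Agent.Lib.Helper5.KzMin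

variable {R : Type u} [CommRing R] (J : Ideal R)

/-- weak chart: the `z i` generate `J` on `D(g)` and the relations between them modulo `J ^ 2` have
coefficients in `J` on `D(g)` -/
structure WChart (g : R) {r : ℕ} (z : Fin r → R) : Prop where
  mem : ∀ i, z i ∈ J
  gen : ∀ y ∈ J, ∃ l : ℕ, g ^ l * y ∈ Ideal.span (Set.range z)
  rel : ∀ E : Fin r → R, (∑ i, E i * z i) ∈ J ^ 2 → ∀ i, ∃ l : ℕ, g ^ l * E i ∈ J

/-- the set of elements carrying a weak chart -/
def wchartSet : Set R := {g | ∃ (r : ℕ) (z : Fin r → R), WChart J g z}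

variable {J}

theorem smul_cot_eq_zero (a : R) (ha : a ∈ J) (v : J.Cotangent) : a • v = 0 := by
  rw [← mk_smul_cot, Ideal.Quotient.eq_zero_iff_mem.2 ha, zero_smul]

section basis

variable {g : R} {r : ℕ} {z : Fin r → R} (hz : WChart J g z)

/-- the classes of the chart elements in the conormal module -/
noncomputable def zbar (i : Fin r) : J.Cotangent := J.toCotangent ⟨z i, hz.mem i⟩

theorem exists_smul_eq_sum (y : J) : ∃ (l : ℕ) (E : Fin r → R),
    g ^ l • J.toCotangent y = ∑ i, E i • zbar hz i := by
  obtain ⟨l, hl⟩ := hz.gen y y.2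
  obtain ⟨E, hE⟩ := Ideal.mem_span_range_iff_exists_fun.1 hl
  refine ⟨l, E, ?_⟩
  have : g ^ l • y = ∑ i, E i • (⟨z i, hz.mem i⟩ : J) := by
    apply Subtype.ext
    rw [Submodule.coe_smul, Submodule.coe_sum, smul_eq_mul, ← hE]
    simp
  rw [← map_smul, this, map_sum]
  simp only [map_smul]
  rfl

theorem coeff_mem_of_sum_mem (E : Fin r → R)
    (h : J.toCotangent (∑ i, E i • (⟨z i, hz.mem i⟩ : J)) = 0) (i : Fin r) :
    ∃ l : ℕ, g ^ l * E i ∈ J := by
  classical
  rw [Ideal.toCotangent_eq_zero] at h
  have hev : ((∑ j, E j • (⟨z j, hz.mem j⟩ : J) : J) : R) = ∑ j, E j * z j := by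
    rw [Submodule.coe_sum]
    refine Finset.sum_congr rfl fun j _ => ?_
    simp
  rw [hev] at h
  exact hz.rel E h i

local notation "a" => Ideal.Quotient.mk J g
local notation "Ma" => Submonoid.powers (Ideal.Quotient.mk J g)
local notation "Aa" => Localization.Away (Ideal.Quotient.mk J g)
local notation "Na" => LocalizedModule.Away (Ideal.Quotient.mk J g) J.Cotangent

/-- the candidate basis of the localized conormal module -/
noncomputable def vloc (i : Fin r) : LocalizedModule.Away (Ideal.Quotient.mk J g) J.Cotangent :=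
  LocalizedModule.mkLinearMap (Submonoid.powers (Ideal.Quotient.mk J g)) J.Cotangent (zbar hz i)

theorem linearIndependent_vloc : LinearIndependent Aa (vloc hz) := by
  classical
  rw [Fintype.linearIndependent_iff]
  intro c hc i
  obtain ⟨b, hb⟩ := IsLocalization.exist_integer_multiples_of_finite Ma c
  choose e he using hb
  choose E hE using fun i => Ideal.Quotient.mk_surjective (e i)
  have h0 : LocalizedModule.mkLinearMap Ma J.Cotangent (∑ i, e i • zbar hz i) = 0 := by
    rw [map_sum]
    have : ∀ i, LocalizedModule.mkLinearMap Ma J.Cotangent (e i • zbar hz i) =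
        (b : R ⧸ J) • (c i • vloc hz i) := by
      intro i
      rw [map_smul, ← algebraMap_smul Aa (e i), he i, smul_assoc]
      rfl
    simp only [this]
    rw [← Finset.smul_sum, hc, smul_zero]
  obtain ⟨⟨_, l, rfl⟩, hl⟩ := (IsLocalizedModule.eq_zero_iff Ma
    (LocalizedModule.mkLinearMap Ma J.Cotangent)).1 h0
  have h1 : J.toCotangent (∑ i, (g ^ l * E i) • (⟨z i, hz.mem i⟩ : J)) = 0 := by
    rw [map_sum]
    rw [Submonoid.smul_def, Finset.smul_sum] at hl
    rw [← hl]
    refine Finset.sum_congr rfl fun i _ => ?_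
    rw [map_smul, mul_smul, ← mk_smul_cot, ← mk_smul_cot, hE i, map_pow]
    rfl
  obtain ⟨l', hl'⟩ := coeff_mem_of_sum_mem hz _ h1 i
  have h2 : algebraMap (R ⧸ J) Aa (e i) = 0 := by
    rw [IsLocalization.map_eq_zero_iff Ma]
    refine ⟨⟨a ^ (l' + l), _, rfl⟩, ?_⟩
    rw [← hE i]
    change (Ideal.Quotient.mk J g) ^ (l' + l) * Ideal.Quotient.mk J (E i) = 0
    rw [← map_pow, ← map_mul, Ideal.Quotient.eq_zero_iff_mem, pow_add, mul_assoc]
    exact hl'
  rw [he i, Algebra.smul_def] at h2
  exact (IsUnit.mul_right_eq_zero (IsLocalization.map_units Aa b)).1 h2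

theorem span_vloc : Submodule.span Aa (Set.range (vloc hz)) = ⊤ := by
  rw [eq_top_iff]
  rintro m -
  induction m using LocalizedModule.induction_on with
  | h n t =>
    obtain ⟨y, rfl⟩ := J.toCotangent_surjective n
    obtain ⟨l, E, hE⟩ := exists_smul_eq_sum hz y
    have h2 : LocalizedModule.mk (J.toCotangent y) t =
        (Localization.mk 1 ((⟨a ^ l, l, rfl⟩ : Ma) * t)) •
          LocalizedModule.mkLinearMap Ma J.Cotangent ((⟨a ^ l, l, rfl⟩ : Ma) • J.toCotangent y) := by
      rw [LocalizedModule.mkLinearMap_apply, LocalizedModule.mk_smul_mk, one_smul, mul_one,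
        LocalizedModule.mk_cancel_common_left]
    have h3 : (⟨a ^ l, l, rfl⟩ : Ma) • J.toCotangent y =
        ∑ i, Ideal.Quotient.mk J (E i) • zbar hz i := by
      simp only [mk_smul_cot]
      rw [← hE, Submonoid.smul_def]
      change (Ideal.Quotient.mk J g) ^ l • J.toCotangent y = _
      rw [← map_pow, mk_smul_cot]
    rw [h2, h3, map_sum]
    refine Submodule.smul_mem _ _ (Submodule.sum_mem _ fun i _ => ?_)
    rw [map_smul, ← algebraMap_smul Aa]
    exact Submodule.smul_mem _ _ (Submodule.subset_span ⟨i, rfl⟩)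

include hz in
theorem free_finite_localized :
    Module.Free Aa Na ∧ Module.Finite Aa Na := by
  let b := Module.Basis.mk (linearIndependent_vloc hz) (span_vloc hz).ge
  exact ⟨Module.Free.of_basis b, Module.Finite.of_basis b⟩

end basis

theorem span_eq_of_gen {g : R} {r : ℕ} {z : Fin r → R} (hmem : ∀ i, z i ∈ J)
    (hgen : ∀ y ∈ J, ∃ l : ℕ, g ^ l * y ∈ Ideal.span (Set.range z)) :
    Ideal.span (Set.range (fun i => algebraMap R (Localization.Away g) (z i))) =
      J.map (algebraMap R (Localization.Away g)) := by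
  have e : Ideal.span (Set.range (fun i => algebraMap R (Localization.Away g) (z i))) =
      (Ideal.span (Set.range z)).map (algebraMap R (Localization.Away g)) := by
    rw [Ideal.map_span]
    congr 1
    ext y
    constructor
    · rintro ⟨i, rfl⟩; exact ⟨z i, ⟨i, rfl⟩, rfl⟩
    · rintro ⟨_, ⟨i, rfl⟩, rfl⟩; exact ⟨i, rfl⟩
  rw [e]
  apply le_antisymm
  · apply Ideal.map_mono
    rw [Ideal.span_le]
    rintro _ ⟨i, rfl⟩
    exact hmem i
  · rw [Ideal.map_le_iff_le_comap]
    intro y hy
    obtain ⟨l, hl⟩ := hgen y hy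
    rw [Ideal.mem_comap]
    have h1 := Ideal.mem_map_of_mem (algebraMap R (Localization.Away g)) hl
    rw [map_mul] at h1
    have hu : IsUnit ((algebraMap R (Localization.Away g)) (g ^ l)) :=
      IsLocalization.map_units (Localization.Away g) (⟨g ^ l, l, rfl⟩ : Submonoid.powers g)
    exact (Ideal.unit_mul_mem_iff_mem _ hu).1 h1

theorem WChart.span_eq {g : R} {r : ℕ} {z : Fin r → R} (h : WChart J g z) :
    Ideal.span (Set.range (fun i => algebraMap R (Localization.Away g) (z i))) =
      J.map (algebraMap R (Localization.Away g)) :=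
  span_eq_of_gen h.mem h.gen

end Groth.Agent.Helper13KzDesc

namespace Groth.Agent.Helper13KzDesc

open Groth.Agent.Lib.Helper19.QRegConv Groth.Agent.Helper13KzIdeal Groth.Agent.Lib.Helper5.KzMin

variable {R : Type u} [CommRing R] {J : Ideal R}

/-- relations modulo `J ^ 2` between Koszul-regular generators of `J` have coefficients in `J` -/
theorem coeff_mem_of_sum_mem_sq {r : ℕ} (F : Fin r → R)
    (hF : LCI.IsKoszulRegularSeq R (List.ofFn F)) (hJ : Ideal.span (Set.range F) = J)
    (a : Fin r → R) (ha : (∑ i, a i * F i) ∈ J ^ 2) (i : Fin r) : a i ∈ J := by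
  classical
  have h1 : (∑ i, a i * F i) ∈ J • Ideal.span (Set.range F) := by
    rw [hJ, smul_eq_mul, ← pow_two]
    exact ha
  obtain ⟨b, hb, hsum⟩ := (Submodule.mem_ideal_smul_span_iff_exists_sum J _ _).mp h1
  rw [Finsupp.sum_fintype b (fun i c => c • F i) (fun i => zero_smul _ _)] at hsum
  have h2 : ∑ i, (a i - b i) * F i = 0 := by
    simp only [sub_mul, Finset.sum_sub_distrib]
    rw [sub_eq_zero]
    simpa [smul_eq_mul] using hsum.symm
  have h3 := coeff_mem_of_relation F hF (fun i => a i - b i) h2 i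
  rw [hJ] at h3
  have : a i = (a i - b i) + b i := by ring
  rw [this]
  exact J.add_mem h3 (hb i)

/-- a Koszul-regular ideal has a weak chart around every prime containing it -/
theorem exists_wchart (hJ : LCI.IsKoszulRegularIdeal J) (p : PrimeSpectrum R)
    (hp : J ≤ p.asIdeal) : ∃ g : R, g ∉ p.asIdeal ∧ g ∈ wchartSet J := by
  classical
  obtain ⟨g, hg, l, hlJ, hreg, hgen⟩ := exists_list_of_isKoszulRegularIdeal J hJ p hp
  refine ⟨g, hg, l.length, fun i => l.get i, ?_⟩
  let φ := algebraMap R (Localization.Away g)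
  have hrange : Set.range (fun i => l.get i) = {x | x ∈ l} := Set.range_list_get l
  have hofFn : List.ofFn (fun i => φ (l.get i)) = l.map φ := by
    have := List.map_ofFn (f := fun i => l.get i) (g := φ)
    rw [List.ofFn_get] at this
    exact this.symm
  have hspan : Ideal.span (Set.range (fun i => φ (l.get i))) = J.map φ := by
    rw [hgen]
    have : Set.range (fun i => φ (l.get i)) = {x | x ∈ l.map φ} := by
      ext y
      simp only [Set.mem_range, Set.mem_ofPred_eq, List.mem_map]
      constructor
      · rintro ⟨i, rfl⟩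
        exact ⟨l.get i, List.get_mem l i, rfl⟩
      · rintro ⟨x, hx, rfl⟩
        obtain ⟨i, rfl⟩ := List.get_of_mem hx
        exact ⟨i, rfl⟩
    rw [this]
  have hmap : J.map φ = (Ideal.span (Set.range (fun i => l.get i))).map φ := by
    rw [← hspan, Ideal.map_span]
    congr 1
    ext y
    constructor
    · rintro ⟨i, rfl⟩; exact ⟨l.get i, ⟨i, rfl⟩, rfl⟩
    · rintro ⟨_, ⟨i, rfl⟩, rfl⟩; exact ⟨i, rfl⟩
  refine ⟨fun i => hlJ _ (List.get_mem l i), ?_, ?_⟩
  · intro y hy
    apply exists_pow_mul_mem_of_map_mem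
    rw [← hmap]
    exact Ideal.mem_map_of_mem _ hy
  · intro E hE i
    apply exists_pow_mul_mem_of_map_mem
    have hreg' : LCI.IsKoszulRegularSeq (Localization.Away g)
        (List.ofFn (fun i => φ (l.get i))) := by
      rw [hofFn]; exact hreg
    have hE' : (∑ i, φ (E i) * φ (l.get i)) ∈ (J.map φ) ^ 2 := by
      rw [← Ideal.map_pow]
      have := Ideal.mem_map_of_mem φ hE
      rw [map_sum] at this
      simpa [map_mul] using this
    exact coeff_mem_of_sum_mem_sq (fun i => φ (l.get i)) hreg' hspan (fun i => φ (E i)) hE' i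

theorem span_wchartSet (hJ : LCI.IsKoszulRegularIdeal J) : Ideal.span (wchartSet J) = ⊤ := by
  by_contra hne
  obtain ⟨m, hm, hle⟩ := Ideal.exists_le_maximal _ hne
  haveI := hm.isPrime
  by_cases hJm : J ≤ m
  · obtain ⟨g, hg, hgc⟩ := exists_wchart hJ ⟨m, hm.isPrime⟩ hJm
    exact hg (hle (Ideal.subset_span hgc))
  · obtain ⟨g, hgJ, hgm⟩ := SetLike.not_le_iff_exists.1 hJm
    have : WChart J g (fun _ : Fin 1 => g) :=
      { mem := fun _ => hgJ
        gen := fun y _ => ⟨1, by
          rw [pow_one]
          exact Ideal.mul_mem_right _ _ (Ideal.subset_span ⟨0, rfl⟩)⟩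
        rel := fun E _ i => ⟨1, by rw [pow_one]; exact J.mul_mem_right _ hgJ⟩ }
    exact hgm (hle (Ideal.subset_span ⟨1, _, this⟩))

theorem fg_of_isKoszulRegularIdeal (hJ : LCI.IsKoszulRegularIdeal J) : J.FG := by
  apply Ideal.fg_of_localizationSpan (wchartSet J) (span_wchartSet hJ)
  rintro ⟨g, r, z, hz⟩
  rw [← hz.span_eq]
  exact Submodule.fg_span (Set.finite_range _)

theorem projective_of_isKoszulRegularIdeal (hJ : LCI.IsKoszulRegularIdeal J) :
    Module.Projective (R ⧸ J) J.Cotangent := by
  let s : Set (R ⧸ J) := (Ideal.Quotient.mk J) '' wchartSet J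
  have hs : Ideal.span s = ⊤ := by
    rw [← Ideal.map_span, span_wchartSet hJ, Ideal.map_top]
  have key : ∀ b : s, Module.Free (Localization.Away b.1) (LocalizedModule.Away b.1 J.Cotangent) ∧
      Module.Finite (Localization.Away b.1) (LocalizedModule.Away b.1 J.Cotangent) := by
    rintro ⟨_, g, ⟨r, z, hz⟩, rfl⟩
    exact free_finite_localized hz
  haveI : Module.FinitePresentation (R ⧸ J) J.Cotangent :=
    Module.FinitePresentation.of_localizationSpan s hs (fun b => by
      haveI := (key b).1
      haveI := (key b).2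
      exact Module.finitePresentation_of_projective _ _)
  haveI : Module.Flat (R ⧸ J) J.Cotangent :=
    Module.flat_of_localized_span _ _ s hs (fun b => by
      haveI := (key b).1
      exact Module.Flat.trans (R ⧸ J) (Localization.Away b.1) _)
  exact Module.Flat.projective_of_finitePresentation

end Groth.Agent.Helper13KzDesc
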