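import Mathlib

/-!
# Constructible sets in Noetherian spaces (helper2)

EGA 0_III 9.2: traces of constructible sets on irreducible subsets, Noetherian induction on closed
subsets.
-/

set_option autoImplicit false
universe u

open Topology TopologicalSpace Set

namespace Groth.Agent.Lib.Helper2.Constr

variable {X : Type*} [TopologicalSpace X]

/-- On an irreducible subset `Y`, a constructible set `E` or its complement contains a nonempty
relatively open subset of `Y`. -/
theorem exists_open_subset_or_compl {E : Set X} (hE : IsConstructible E) {Y : Set X}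
    (hY : IsIrreducible Y) :
    ∃ U : Set X, IsOpen U ∧ (U ∩ Y).Nonempty ∧ (U ∩ Y ⊆ E ∨ U ∩ Y ⊆ Eᶜ) := by
  induction hE using IsConstructible.empty_union_induction with
  | open_retrocompact U hU _ =>
    by_cases h : (U ∩ Y).Nonempty
    · exact ⟨U, hU, h, Or.inl inter_subset_left⟩
    · refine ⟨univ, isOpen_univ, by rw [univ_inter]; exact hY.1, Or.inr ?_⟩
      rw [univ_inter]
      intro y hy hyU
      exact h ⟨y, hyU, hy⟩
  | union s hs t ht ihs iht =>
    obtain ⟨Us, hUs, hne_s, hs'⟩ := ihs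
    obtain ⟨Ut, hUt, hne_t, ht'⟩ := iht
    have hne : (Y ∩ (Us ∩ Ut)).Nonempty :=
      hY.2 Us Ut hUs hUt (by rwa [inter_comm]) (by rwa [inter_comm])
    refine ⟨Us ∩ Ut, hUs.inter hUt, by rwa [inter_comm], ?_⟩
    rcases hs' with hs' | hs'
    · left
      intro y hy
      exact Or.inl (hs' ⟨hy.1.1, hy.2⟩)
    · rcases ht' with ht' | ht'
      · left
        intro y hy
        exact Or.inr (ht' ⟨hy.1.2, hy.2⟩)
      · right
        intro y hy
        rw [compl_union]
        exact ⟨hs' ⟨hy.1.1, hy.2⟩, ht' ⟨hy.1.2, hy.2⟩⟩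
  | compl s hs ih =>
    obtain ⟨U, hU, hne, h⟩ := ih
    refine ⟨U, hU, hne, ?_⟩
    rw [compl_compl]
    exact h.symm

/-- EGA 0_III 9.2.2: if the trace of a constructible set `E` on an irreducible subset `Y` is dense
in `Y`, it contains a nonempty relatively open subset of `Y`. -/
theorem exists_open_subset_of_dense {E : Set X} (hE : IsConstructible E) {Y : Set X}
    (hY : IsIrreducible Y) (hd : Y ⊆ closure (E ∩ Y)) :
    ∃ U : Set X, IsOpen U ∧ (U ∩ Y).Nonempty ∧ U ∩ Y ⊆ E := by
  obtain ⟨U, hU, hne, h | h⟩ := exists_open_subset_or_compl hE hY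
  · exact ⟨U, hU, hne, h⟩
  · exfalso
    have h1 : E ∩ Y ⊆ Uᶜ := by
      intro y hy hyU
      exact h ⟨hyU, hy.2⟩ hy.1
    have h2 : closure (E ∩ Y) ⊆ Uᶜ := closure_minimal h1 hU.isClosed_compl
    obtain ⟨y, hyU, hyY⟩ := hne
    exact h2 (hd hyY) hyU

/-- A nonempty relatively open subset of an irreducible set is dense in it. -/
theorem subset_closure_of_open_inter {Y U : Set X} (hY : IsIrreducible Y) (hU : IsOpen U)
    (hne : (U ∩ Y).Nonempty) : Y ⊆ closure (U ∩ Y) := by
  intro y hy
  rw [mem_closure_iff]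
  intro V hV hyV
  have h1 : (Y ∩ (V ∩ U)).Nonempty :=
    hY.2 V U hV hU ⟨y, hy, hyV⟩ (by rwa [inter_comm])
  obtain ⟨z, hzY, hzV, hzU⟩ := h1
  exact ⟨z, hzV, hzU, hzY⟩


/-- Density of the trace in the subspace topology, in terms of the ambient closure. -/
theorem dense_preimage_val_iff {Y E : Set X} :
    Dense (Subtype.val ⁻¹' E : Set Y) ↔ Y ⊆ closure (E ∩ Y) := by
  constructor
  · intro h y hy
    have h1 := h ⟨y, hy⟩
    rw [closure_subtype, Subtype.image_preimage_coe, inter_comm] at h1
    exact h1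
  · intro h y
    rw [closure_subtype, Subtype.image_preimage_coe, inter_comm]
    exact h y.2

/-- If the trace of `E` on a nonempty `Y` is nowhere dense in `Y`, it is not dense in `Y`. -/
theorem not_subset_closure_of_isNowhereDense {Y E : Set X} (hY : Y.Nonempty)
    (h : IsNowhereDense (Subtype.val ⁻¹' E : Set Y)) : ¬ Y ⊆ closure (E ∩ Y) := by
  intro hsub
  have hd : Dense (Subtype.val ⁻¹' E : Set Y) := dense_preimage_val_iff.mpr hsub
  have h1 : interior (closure (Subtype.val ⁻¹' E : Set Y)) = ∅ := h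
  rw [hd.closure_eq, interior_univ] at h1
  obtain ⟨y, hy⟩ := hY
  exact (Set.mem_empty_iff_false (⟨y, hy⟩ : Y)).mp (h1 ▸ Set.mem_univ _)

/-- If the trace of `E` on `Y` is not nowhere dense in `Y`, its closure contains a nonempty
relatively open subset of `Y`. -/
theorem exists_open_of_not_isNowhereDense {Y E : Set X}
    (h : ¬ IsNowhereDense (Subtype.val ⁻¹' E : Set Y)) :
    ∃ W : Set X, IsOpen W ∧ (W ∩ Y).Nonempty ∧ W ∩ Y ⊆ closure (E ∩ Y) := by
  have h1 : (interior (closure (Subtype.val ⁻¹' E : Set Y))).Nonempty := by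
    rw [Set.nonempty_iff_ne_empty]; exact h
  obtain ⟨W, hW, hWeq⟩ := isOpen_induced_iff.mp
    (isOpen_interior (s := closure (Subtype.val ⁻¹' E : Set Y)))
  refine ⟨W, hW, ?_, ?_⟩
  · obtain ⟨y, hy⟩ := h1
    rw [← hWeq] at hy
    exact ⟨y.1, hy, y.2⟩
  · rintro z ⟨hzW, hzY⟩
    have h2 : (⟨z, hzY⟩ : Y) ∈ interior (closure (Subtype.val ⁻¹' E : Set Y)) := by
      rw [← hWeq]; exact hzW
    have h3 := interior_subset h2
    rw [closure_subtype, Subtype.image_preimage_coe, inter_comm] at h3
    exact h3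


/-- Induction principle: constructible sets are finite unions of differences of retrocompact
opens. -/
theorem sdiff_union_induction {P : Set X → Prop}
    (sdiff : ∀ U V : Set X, IsOpen U → IsRetrocompact U → IsOpen V → IsRetrocompact V → P (U \ V))
    (union : ∀ s t : Set X, P s → P t → P (s ∪ t)) {s : Set X} (hs : IsConstructible s) : P s := by
  induction s, hs using BooleanSubalgebra.closure_sdiff_sup_induction with
  | isSublattice =>
    exact ⟨fun s hs t ht ↦ ⟨hs.1.union ht.1, hs.2.union ht.2⟩,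
      fun s hs t ht ↦ ⟨hs.1.inter ht.1, hs.2.inter_isOpen ht.2 ht.1⟩⟩
  | bot_mem => exact ⟨isOpen_empty, .empty⟩
  | top_mem => exact ⟨isOpen_univ, .univ⟩
  | sdiff U hU V hV => exact sdiff U V hU.1 hU.2 hV.1 hV.2
  | sup s _ t _ hs' ht' => exact union s t hs' ht'

/-- Constructible sets are retrocompact. -/
theorem isRetrocompact_of_isConstructible {s : Set X} (hs : IsConstructible s) :
    IsRetrocompact s := by
  refine sdiff_union_induction (P := IsRetrocompact) ?_ ?_ hs
  · intro U V hU hUr hV _ W hWc hWo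
    have h1 : IsCompact (U ∩ W) := hUr hWc hWo
    have h2 : U \ V ∩ W = (U ∩ W) ∩ Vᶜ := by
      ext z; constructor
      · rintro ⟨⟨a, b⟩, c⟩; exact ⟨⟨a, c⟩, b⟩
      · rintro ⟨⟨a, c⟩, b⟩; exact ⟨⟨a, b⟩, c⟩
    rw [h2]
    exact h1.inter_right hV.isClosed_compl
  · intro s t hs ht; exact hs.union ht

section Noeth
variable [NoetherianSpace X]

lemma isConstructible_of_isOpen {U : Set X} (hU : IsOpen U) : IsConstructible U :=
  IsRetrocompact.isConstructible hU (fun _ _ _ => NoetherianSpace.isCompact _)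

lemma isConstructible_of_isClosed {Z : Set X} (hZ : IsClosed Z) : IsConstructible Z := by
  rw [← compl_compl Z, isConstructible_compl]
  exact isConstructible_of_isOpen hZ.isOpen_compl

/-- Noetherian induction on closed subsets, split into the reducible and irreducible cases. -/
theorem closed_induction {P : Set X → Prop} (hempty : P ∅)
    (hunion : ∀ Z₁ Z₂ : Set X, IsClosed Z₁ → IsClosed Z₂ → P Z₁ → P Z₂ → P (Z₁ ∪ Z₂))
    (hirr : ∀ Z : Set X, IsClosed Z → IsIrreducible Z →
      (∀ Z' : Set X, IsClosed Z' → Z' ⊂ Z → P Z') → P Z)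
    (Z : Set X) (hZ : IsClosed Z) : P Z := by
  suffices h : ∀ s : Closeds X, P (s : Set X) from h ⟨Z, hZ⟩
  intro s
  apply wellFounded_lt.induction s; clear s
  intro s H
  rcases eq_or_ne s ⊥ with rfl | h₀
  · exact hempty
  · by_cases h₁ : IsPreirreducible (s : Set X)
    · replace h₁ : IsIrreducible (s : Set X) := ⟨Closeds.coe_nonempty.2 h₀, h₁⟩
      apply hirr _ s.isClosed h₁
      intro Z' hZ' hlt
      exact H ⟨Z', hZ'⟩ hlt
    · simp only [isPreirreducible_iff_isClosed_union_isClosed, not_forall, not_or] at h₁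
      obtain ⟨z₁, z₂, hz₁, hz₂, h, hz₁', hz₂'⟩ := h₁
      lift z₁ to Closeds X using hz₁
      lift z₂ to Closeds X using hz₂
      have h1 := H (s ⊓ z₁) (inf_lt_left.2 hz₁')
      have h2 := H (s ⊓ z₂) (inf_lt_left.2 hz₂')
      have h3 := hunion _ _ (s ⊓ z₁).isClosed (s ⊓ z₂).isClosed h1 h2
      have h4 : ((s ⊓ z₁ : Closeds X) : Set X) ∪ ((s ⊓ z₂ : Closeds X) : Set X) = (s : Set X) := by
        simp only [Closeds.coe_inf]
        rw [← inter_union_distrib_left]
        exact inter_eq_left.mpr h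
      rwa [h4] at h3

end Noeth

end Groth.Agent.Lib.Helper2.Constr
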