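import Mathlib

set_option autoImplicit false
set_option linter.style.haveILetI false
universe u
open CategoryTheory CategoryTheory.Limits AlgebraicGeometry

namespace Groth.Agent.Lib.Helper3.BaseMap

variable {X Y S : Scheme.{u}} (f : X ⟶ Y) (g : Y ⟶ S)

/-- the base change of `f` (as a morphism over `S`) along `a : T ⟶ S`. -/
noncomputable abbrev baseMap {T : Scheme.{u}} (a : T ⟶ S) : pullback (f ≫ g) a ⟶ pullback g a :=
  pullback.lift (pullback.fst (f ≫ g) a ≫ f) (pullback.snd (f ≫ g) a)
    ((Category.assoc _ _ _).trans pullback.condition)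

@[reassoc (attr := simp)]
theorem baseMap_fst {T : Scheme.{u}} (a : T ⟶ S) :
    baseMap f g a ≫ pullback.fst g a = pullback.fst (f ≫ g) a ≫ f := pullback.lift_fst _ _ _

@[reassoc (attr := simp)]
theorem baseMap_snd {T : Scheme.{u}} (a : T ⟶ S) :
    baseMap f g a ≫ pullback.snd g a = pullback.snd (f ≫ g) a := pullback.lift_snd _ _ _

theorem isPullback_baseMap {T : Scheme.{u}} (a : T ⟶ S) :
    IsPullback (pullback.fst (f ≫ g) a) (baseMap f g a) f (pullback.fst g a) := by
  refine IsPullback.of_bot ?_ (pullback.lift_fst _ _ _).symm (IsPullback.of_hasPullback g a)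
  rw [pullback.lift_snd]
  exact IsPullback.of_hasPullback (f ≫ g) a

/-- transition between pullbacks along `b ≫ a` and `a`. -/
noncomputable def baseMapY {T T' : Scheme.{u}} (a : T ⟶ S) (b : T' ⟶ T) :
    pullback g (b ≫ a) ⟶ pullback g a :=
  pullback.lift (pullback.fst _ _) (pullback.snd _ _ ≫ b) (by
    rw [Category.assoc, pullback.condition])

@[reassoc (attr := simp)]
theorem baseMapY_fst {T T' : Scheme.{u}} (a : T ⟶ S) (b : T' ⟶ T) :
    baseMapY g a b ≫ pullback.fst g a = pullback.fst g (b ≫ a) := pullback.lift_fst _ _ _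

@[reassoc (attr := simp)]
theorem baseMapY_snd {T T' : Scheme.{u}} (a : T ⟶ S) (b : T' ⟶ T) :
    baseMapY g a b ≫ pullback.snd g a = pullback.snd g (b ≫ a) ≫ b := pullback.lift_snd _ _ _

theorem isPullback_baseMapY {T T' : Scheme.{u}} (a : T ⟶ S) (b : T' ⟶ T) :
    IsPullback (baseMapY g a b) (pullback.snd g (b ≫ a)) (pullback.snd g a) b := by
  refine IsPullback.of_right ?_ (baseMapY_snd g a b) (IsPullback.of_hasPullback g a)
  rw [baseMapY_fst]
  exact IsPullback.of_hasPullback g (b ≫ a)

theorem isPullback_baseMap_comp {T T' : Scheme.{u}} (a : T ⟶ S) (b : T' ⟶ T) :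
    IsPullback (baseMapY (f ≫ g) a b) (baseMap f g (b ≫ a)) (baseMap f g a) (baseMapY g a b) := by
  refine IsPullback.of_right ?_ ?_ (isPullback_baseMap f g a)
  · rw [baseMapY_fst, baseMapY_fst]
    exact isPullback_baseMap f g (b ≫ a)
  · apply pullback.hom_ext <;> simp

/-- model independence -/
theorem iff_of_isPullback (P : MorphismProperty Scheme.{u}) [P.RespectsIso]
    {T XT YT : Scheme.{u}} (a : T ⟶ S) {pY : YT ⟶ Y} {gT : YT ⟶ T} {pX : XT ⟶ X} {fT : XT ⟶ YT}
    (hY : IsPullback pY gT g a) (hX : IsPullback pX fT f pY) :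
    P fT ↔ P (baseMap f g a) := by
  have hXa : IsPullback pX (fT ≫ gT) (f ≫ g) a := hX.paste_vert hY
  have key : hXa.isoPullback.hom ≫ baseMap f g a = fT ≫ hY.isoPullback.hom := by
    apply pullback.hom_ext
    · simp [hX.w]
    · simp
  rw [← P.cancel_left_of_respectsIso hXa.isoPullback.hom, key, P.cancel_right_of_respectsIso]

theorem of_comp (P : MorphismProperty Scheme.{u}) [P.IsStableUnderBaseChange]
    {T T' : Scheme.{u}} (a : T ⟶ S) (b : T' ⟶ T) (h : P (baseMap f g a)) :
    P (baseMap f g (b ≫ a)) :=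
  P.of_isPullback (isPullback_baseMap_comp f g a b) h

theorem of_descendsAlong (P Q : MorphismProperty Scheme.{u}) [P.DescendsAlong Q]
    [Q.IsStableUnderBaseChange]
    {T T' : Scheme.{u}} (a : T ⟶ S) (b : T' ⟶ T) (hb : Q b) (h : P (baseMap f g (b ≫ a))) :
    P (baseMap f g a) :=
  MorphismProperty.of_isPullback_of_descendsAlong (P := P) (Q := Q)
    (isPullback_baseMap_comp f g a b).flip
    (Q.of_isPullback (isPullback_baseMapY g a b).flip hb) h

theorem congr_map (P : MorphismProperty Scheme.{u}) {T : Scheme.{u}} {a a' : T ⟶ S} (e : a = a')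
    (h : P (baseMap f g a)) : P (baseMap f g a') := by
  subst e; exact h

end Groth.Agent.Lib.Helper3.BaseMap
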