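import Mathlib
import Groth.Prelude.Def_W4ega4s0809p4Pair

set_option autoImplicit false
set_option linter.style.haveILetI false
universe u
open CategoryTheory CategoryTheory.Limits AlgebraicGeometry Topology

namespace Groth.Agent.Lib.Helper3.LocusBC

instance subsingleton_spec_residueField {S : Scheme.{u}} (s : S) :
    Subsingleton ↥(Spec (S.residueField s)) :=
  inferInstanceAs (Subsingleton (PrimeSpectrum (S.residueField s)))

instance lft_fiberToSpecResidueField {X S : Scheme.{u}} (u : X ⟶ S) [LocallyOfFiniteType u] (s : S) :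
    LocallyOfFiniteType (u.fiberToSpecResidueField s) :=
  MorphismProperty.pullback_snd _ _ inferInstance

instance qc_fiberToSpecResidueField {X S : Scheme.{u}} (u : X ⟶ S) [QuasiCompact u] (s : S) :
    QuasiCompact (u.fiberToSpecResidueField s) :=
  MorphismProperty.pullback_snd _ _ inferInstance

@[reassoc]
theorem fiberMap_fiberToSpecResidueField {X Y S : Scheme.{u}} (f : X ⟶ Y) (g : Y ⟶ S) (s : S) :
    MoreMor.fiberMap f g s ≫ g.fiberToSpecResidueField s = (f ≫ g).fiberToSpecResidueField s :=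
  pullback.lift_snd _ _ _

@[reassoc]
theorem fiberMap_fiberι {X Y S : Scheme.{u}} (f : X ⟶ Y) (g : Y ⟶ S) (s : S) :
    MoreMor.fiberMap f g s ≫ g.fiberι s = (f ≫ g).fiberι s ≫ f :=
  pullback.lift_fst _ _ _

theorem fiber_hom_ext {X S Z : Scheme.{u}} {u : X ⟶ S} {s : S} {p q : Z ⟶ u.fiber s}
    (h1 : p ≫ u.fiberι s = q ≫ u.fiberι s)
    (h2 : p ≫ u.fiberToSpecResidueField s = q ≫ u.fiberToSpecResidueField s) : p = q :=
  pullback.hom_ext h1 h2

theorem exists_fiber_lift {X S X' S' : Scheme.{u}} {u : X ⟶ S} {u' : X' ⟶ S'} {a : S' ⟶ S}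
    {pX : X' ⟶ X} (hX : IsPullback pX u' u a) (s' : S') :
    ∃ eX : u'.fiber s' ⟶ u.fiber (a s'), eX ≫ u.fiberι (a s') = u'.fiberι s' ≫ pX ∧
      eX ≫ u.fiberToSpecResidueField (a s') =
        u'.fiberToSpecResidueField s' ≫ Spec.map (a.residueFieldMap s') ∧
      IsPullback eX (u'.fiberToSpecResidueField s') (u.fiberToSpecResidueField (a s'))
        (Spec.map (a.residueFieldMap s')) :=
  ⟨_, pullback.lift_fst _ _ _, pullback.lift_snd _ _ _,
    isPullback_fiberToSpecResidueField_of_isPullback hX s'⟩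

theorem locusMor_eq_preimage {P : ∀ ⦃X Y T : Scheme.{u}⦄, (X ⟶ Y) → (Y ⟶ T) → Prop}
    (hP : ConsProp.IsFieldStableMor P) {X Y S X' Y' S' : Scheme.{u}} {f : X ⟶ Y} {g : Y ⟶ S}
    {f' : X' ⟶ Y'} {g' : Y' ⟶ S'} {a : S' ⟶ S} {pX : X' ⟶ X} {pY : Y' ⟶ Y}
    [LocallyOfFiniteType g] [QuasiCompact g] [LocallyOfFiniteType (f ≫ g)] [QuasiCompact (f ≫ g)]
    (hY : IsPullback pY g' g a) (hX : IsPullback pX f' f pY) :
    ConsProp.locusMor P f' g' = a ⁻¹' ConsProp.locusMor P f g := by
  ext s'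
  have hXY : IsPullback pX (f' ≫ g') (f ≫ g) a := hX.paste_vert hY
  obtain ⟨eY, hY1, hY2, h1⟩ := exists_fiber_lift hY s'
  obtain ⟨eX, hX1, hX2, h2⟩ := exists_fiber_lift hXY s'
  haveI : LocallyOfFiniteType (MoreMor.fiberMap f g (a s') ≫ g.fiberToSpecResidueField (a s')) := by
    rw [fiberMap_fiberToSpecResidueField]; infer_instance
  haveI : QuasiCompact (MoreMor.fiberMap f g (a s') ≫ g.fiberToSpecResidueField (a s')) := by
    rw [fiberMap_fiberToSpecResidueField]; infer_instance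
  refine (hP (MoreMor.fiberMap f g (a s')) (g.fiberToSpecResidueField (a s'))
    (MoreMor.fiberMap f' g' s') (g'.fiberToSpecResidueField s') eX eY _ h1 ?_).symm
  refine IsPullback.of_bot ?_ ?_ h1
  · rw [fiberMap_fiberToSpecResidueField, fiberMap_fiberToSpecResidueField]
    exact h2
  · refine fiber_hom_ext ?_ ?_
    · rw [Category.assoc, Category.assoc, fiberMap_fiberι, reassoc_of% hX1, hY1,
        fiberMap_fiberι_assoc, hX.w]
    · rw [Category.assoc, Category.assoc, fiberMap_fiberToSpecResidueField, hX2, hY2,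
        fiberMap_fiberToSpecResidueField_assoc]

theorem locusPair_eq_preimage {P : ∀ ⦃X Y T : Scheme.{u}⦄, (X ⟶ T) → (Y ⟶ T) → Prop}
    (hP : ConsPropPair.IsFieldStablePair P) {X Y S X' Y' S' : Scheme.{u}} {u : X ⟶ S} {v : Y ⟶ S}
    {u' : X' ⟶ S'} {v' : Y' ⟶ S'} {a : S' ⟶ S} {pX : X' ⟶ X} {pY : Y' ⟶ Y}
    [LocallyOfFiniteType u] [QuasiCompact u] [LocallyOfFiniteType v] [QuasiCompact v]
    (hX : IsPullback pX u' u a) (hY : IsPullback pY v' v a) :
    ConsPropPair.locusPair P u' v' = a ⁻¹' ConsPropPair.locusPair P u v := by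
  ext s'
  exact (hP (u.fiberToSpecResidueField (a s')) (v.fiberToSpecResidueField (a s'))
    (u'.fiberToSpecResidueField s') (v'.fiberToSpecResidueField s') _ _ _
    (isPullback_fiberToSpecResidueField_of_isPullback hX s')
    (isPullback_fiberToSpecResidueField_of_isPullback hY s')).symm

end Groth.Agent.Lib.Helper3.LocusBC
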