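import Mathlib
import Groth.Prelude.Def_W4ega4s0809p4Pair
import Groth.Agent.Lib.Helper3LocusBC
import Groth.Agent.Lib.Helper3BaseMap
import Groth.Agent.Lib.Helper2Constr

set_option autoImplicit false
set_option linter.style.haveILetI false
set_option linter.unusedVariables false
universe u
open CategoryTheory CategoryTheory.Limits AlgebraicGeometry Topology

namespace Groth.Agent.Lib.Helper3.ConsOfLocus

open Groth.Agent.Lib.Helper3.LocusBC Groth.Agent.Lib.Helper3.BaseMap

/-- a morphism of one-point integral schemes is fpqc. -/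
theorem fpqc_of_onePoint {T T' : Scheme.{u}} (h : T' ⟶ T) [IsIntegral T] [Subsingleton T]
    [IsIntegral T'] [Subsingleton T'] :
    (@Surjective ⊓ @Flat ⊓ @QuasiCompact : MorphismProperty Scheme.{u}) h := by
  refine ⟨⟨?_, inferInstance⟩, inferInstance⟩
  exact ⟨fun x => ⟨Classical.arbitrary _, Subsingleton.elim _ _⟩⟩

/-- In an irreducible space, a constructible set or its complement has nonempty interior. -/
theorem interior_nonempty_or_of_isConstructible {X : Type*} [TopologicalSpace X]
    [IrreducibleSpace X] {E : Set X} (hE : IsConstructible E) :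
    (interior E).Nonempty ∨ (interior Eᶜ).Nonempty := by
  obtain ⟨U, hU, hne, h | h⟩ := Groth.Agent.Lib.Helper2.Constr.exists_open_subset_or_compl hE
    (Y := Set.univ) (IrreducibleSpace.isIrreducible_univ X)
  · left
    rw [Set.inter_univ] at hne h
    exact hne.mono (interior_maximal h hU)
  · right
    rw [Set.inter_univ] at hne h
    exact hne.mono (interior_maximal h hU)


section Mor

variable (Q : MorphismProperty Scheme.{u}) [Q.IsStableUnderBaseChange]
  [Q.DescendsAlong (@Surjective ⊓ @Flat ⊓ @QuasiCompact)]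

theorem isFieldStableMor_of : ConsProp.IsFieldStableMor (fun X Y T f g => Q f) := by
  intro X X' Y Y' T T' f g f' g' eX eY h _ _ _ _ _ _ _ _ hY hX
  have hfpqc : (@Surjective ⊓ @Flat ⊓ @QuasiCompact : MorphismProperty Scheme.{u}) eY :=
    MorphismProperty.of_isPullback hY.flip (fpqc_of_onePoint h)
  exact ⟨fun hf => Q.of_isPullback hX hf,
    fun hf' => MorphismProperty.of_isPullback_of_descendsAlong (P := Q) hX.flip hfpqc hf'⟩

theorem isFieldStable_of : ConsProp.IsFieldStable (fun Y T g => Q g) := by
  intro Y Y' T T' g g' e h _ _ _ _ _ _ hY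
  have hfpqc : (@Surjective ⊓ @Flat ⊓ @QuasiCompact : MorphismProperty Scheme.{u}) h :=
    fpqc_of_onePoint h
  exact ⟨fun hg => Q.of_isPullback hY hg,
    fun hg' => MorphismProperty.of_isPullback_of_descendsAlong (P := Q) hY.flip hfpqc hg'⟩

variable (hloc : ∀ {X Y S : Scheme.{u}} (f : X ⟶ Y) (g : Y ⟶ S)
    [LocallyOfFinitePresentation g] [QuasiCompact g] [QuasiSeparated g]
    [LocallyOfFinitePresentation (f ≫ g)] [QuasiCompact (f ≫ g)] [QuasiSeparated (f ≫ g)],
    IsLocallyConstructible {s : S | Q (baseMap f g (S.fromSpecResidueField s))})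

include hloc in
theorem isConsMor_of : ConsProp.IsConsMor (fun X Y T f g => Q f) := by
  refine ⟨isFieldStableMor_of Q, ?_⟩
  intro X Y S f g _ _ _ _ _ _
  haveI : IsLocallyNoetherian Y := LocallyOfFiniteType.isLocallyNoetherian g
  haveI : IsLocallyNoetherian X := LocallyOfFiniteType.isLocallyNoetherian (f ≫ g)
  have h1 : IsLocallyConstructible (ConsProp.locusMor (fun X Y T f g => Q f) f g) := hloc f g
  exact interior_nonempty_or_of_isConstructible h1.isConstructible

include hloc in
theorem isCons_of : ConsProp.IsCons (fun Y T g => Q g) := by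
  refine ⟨isFieldStable_of Q, ?_⟩
  intro X S u _ _ _ _
  haveI : IsLocallyNoetherian X := LocallyOfFiniteType.isLocallyNoetherian u
  have key : ∀ (u' : X ⟶ S) (e : u' = u) (s : S),
      Q (baseMap u' (𝟙 S) (S.fromSpecResidueField s)) ↔ Q (u.fiberToSpecResidueField s) := by
    intro u' e s
    have h1 : baseMap u' (𝟙 S) (S.fromSpecResidueField s) ≫
        pullback.snd (𝟙 S) (S.fromSpecResidueField s) =
        pullback.snd (u' ≫ 𝟙 S) (S.fromSpecResidueField s) := baseMap_snd _ _ _
    rw [← Q.cancel_right_of_respectsIso _ (pullback.snd (𝟙 S) (S.fromSpecResidueField s)), h1]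
    subst e
    have : ∀ (w : X ⟶ S) (e : w = u' ≫ 𝟙 S), Q (pullback.snd w (S.fromSpecResidueField s)) ↔
        Q (pullback.snd (u' ≫ 𝟙 S) (S.fromSpecResidueField s)) := by
      intro w e; subst e; rfl
    exact (this u' (Category.comp_id u').symm).symm
  haveI : LocallyOfFinitePresentation (u ≫ 𝟙 S) := by rw [Category.comp_id]; infer_instance
  haveI : QuasiCompact (u ≫ 𝟙 S) := by rw [Category.comp_id]; infer_instance
  haveI : QuasiSeparated (u ≫ 𝟙 S) := by rw [Category.comp_id]; infer_instance
  have h1 := hloc u (𝟙 S)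
  have h2 : {s : S | Q (baseMap u (𝟙 S) (S.fromSpecResidueField s))} =
      ConsProp.locus (fun Y T g => Q g) u := by
    ext s
    exact key u rfl s
  rw [h2] at h1
  exact interior_nonempty_or_of_isConstructible h1.isConstructible

end Mor


theorem isCons_congr {P P' : ∀ ⦃Y T : Scheme.{u}⦄, (Y ⟶ T) → Prop} (hP : ConsProp.IsCons P)
    (h : ∀ ⦃Y T : Scheme.{u}⦄ (g : Y ⟶ T) [IsIntegral T] [Subsingleton T]
      [LocallyOfFiniteType g] [QuasiCompact g], P g ↔ P' g) : ConsProp.IsCons P' := by
  refine ⟨?_, ?_⟩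
  · intro Y Y' T T' g g' e h' _ _ _ _ _ _ hpb
    haveI : LocallyOfFiniteType g' := MorphismProperty.of_isPullback hpb inferInstance
    haveI : QuasiCompact g' := MorphismProperty.of_isPullback hpb inferInstance
    rw [← h g, ← h g']
    exact hP.1 g g' e h' hpb
  · intro X S u _ _ _ _
    have : ConsProp.locus P' u = ConsProp.locus P u := by
      ext s
      exact (h (u.fiberToSpecResidueField s)).symm
    rw [this]
    exact hP.2 u

theorem isConsMor_congr {P P' : ∀ ⦃X Y T : Scheme.{u}⦄, (X ⟶ Y) → (Y ⟶ T) → Prop}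
    (hP : ConsProp.IsConsMor P)
    (h : ∀ ⦃X Y T : Scheme.{u}⦄ (f : X ⟶ Y) (g : Y ⟶ T) [IsIntegral T] [Subsingleton T]
      [LocallyOfFiniteType g] [QuasiCompact g] [LocallyOfFiniteType (f ≫ g)]
      [QuasiCompact (f ≫ g)], P f g ↔ P' f g) : ConsProp.IsConsMor P' := by
  refine ⟨?_, ?_⟩
  · intro X X' Y Y' T T' f g f' g' eX eY h' _ _ _ _ _ _ _ _ hY hX
    haveI : LocallyOfFiniteType g' := MorphismProperty.of_isPullback hY inferInstance
    haveI : QuasiCompact g' := MorphismProperty.of_isPullback hY inferInstance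
    have hXY := hX.paste_vert hY
    haveI : LocallyOfFiniteType (f' ≫ g') := MorphismProperty.of_isPullback hXY inferInstance
    haveI : QuasiCompact (f' ≫ g') := MorphismProperty.of_isPullback hXY inferInstance
    rw [← h f g, ← h f' g']
    exact hP.1 f g f' g' eX eY h' hY hX
  · intro X Y S f g _ _ _ _ _ _
    have : ConsProp.locusMor P' f g = ConsProp.locusMor P f g := by
      ext s
      haveI : LocallyOfFiniteType (MoreMor.fiberMap f g s ≫ g.fiberToSpecResidueField s) := by
        rw [fiberMap_fiberToSpecResidueField]; infer_instance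
      haveI : QuasiCompact (MoreMor.fiberMap f g s ≫ g.fiberToSpecResidueField s) := by
        rw [fiberMap_fiberToSpecResidueField]; infer_instance
      exact (h (MoreMor.fiberMap f g s) (g.fiberToSpecResidueField s)).symm
    rw [this]
    exact hP.2 f g

end Groth.Agent.Lib.Helper3.ConsOfLocus
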