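import Mathlib
import Groth.Prelude.Def_Flat

open Set Function Order TopologicalSpace Topology

universe u

namespace Groth.Agent.Lib.Helper7.TopDim

variable {X : Type*} [TopologicalSpace X]

/-- preimage in a subspace `Y` of a preirreducible subset of `X` contained in `Y` -/
lemma isPreirreducible_preimage_val {Y V : Set X} (hV : IsPreirreducible V) (hVY : V ⊆ Y) :
    IsPreirreducible ((Subtype.val : Y → X) ⁻¹' V) := by
  intro u v hu hv ⟨a, haV, hau⟩ ⟨b, hbV, hbv⟩
  obtain ⟨u', hu', rfl⟩ := isOpen_induced_iff.mp hu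
  obtain ⟨v', hv', rfl⟩ := isOpen_induced_iff.mp hv
  obtain ⟨z, hzV, hzu, hzv⟩ := hV u' v' hu' hv' ⟨a.1, haV, hau⟩ ⟨b.1, hbV, hbv⟩
  exact ⟨⟨z, hVY hzV⟩, hzV, hzu, hzv⟩

/-- restriction of an irreducible closed subset contained in `Y` to the subspace `Y` -/
def restrictIrr (Y : Set X) (V : IrreducibleCloseds X) (hVY : (V : Set X) ⊆ Y) :
    IrreducibleCloseds Y where
  carrier := (Subtype.val : Y → X) ⁻¹' V
  isIrreducible' := by
    refine ⟨?_, isPreirreducible_preimage_val V.isIrreducible.isPreirreducible hVY⟩
    obtain ⟨z, hz⟩ := V.isIrreducible.nonempty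
    exact ⟨⟨z, hVY hz⟩, hz⟩
  isClosed' := V.isClosed.preimage continuous_subtype_val

lemma restrictIrr_lt (Y : Set X) {V W : IrreducibleCloseds X} (hVY : (V : Set X) ⊆ Y)
    (hWY : (W : Set X) ⊆ Y) (h : V < W) : restrictIrr Y V hVY < restrictIrr Y W hWY := by
  rw [lt_iff_le_and_ne] at h ⊢
  refine ⟨fun y hy => h.1 hy, fun heq => h.2 ?_⟩
  apply IrreducibleCloseds.ext
  apply Set.Subset.antisymm h.1
  intro z hz
  have : (⟨z, hWY hz⟩ : Y) ∈ (restrictIrr Y W hWY : Set Y) := hz
  rw [← heq] at this
  exact this

/-- a chain of irreducible closed subsets all contained in `Y` bounds the dimension of `Y` -/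
lemma length_le_of_forall_subset (Y : Set X) (p : LTSeries (IrreducibleCloseds X))
    (h : ∀ j, (p j : Set X) ⊆ Y) : (p.length : WithBot ℕ∞) ≤ topologicalKrullDim Y := by
  let q : LTSeries (IrreducibleCloseds Y) :=
    { length := p.length
      toFun := fun j => restrictIrr Y (p j) (h j)
      step := fun j => restrictIrr_lt Y (h _) (h _) (p.step j) }
  exact Order.LTSeries.length_le_krullDim q

/-- a chain of irreducible closed subsets whose smallest member meets the open `U` bounds the
dimension of `U` -/
lemma length_le_of_mem_head {U : Set X} (hU : IsOpen U) (p : LTSeries (IrreducibleCloseds X))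
    {x : X} (hx : x ∈ (p.head : Set X)) (hxU : x ∈ U) :
    (p.length : WithBot ℕ∞) ≤ topologicalKrullDim U := by
  let e := IrreducibleCloseds.orderIsoOfIsOpenEmbedding (Subtype.val : U → X)
    hU.isOpenEmbedding_subtypeVal
  have hne : ∀ j, ((Subtype.val : U → X) ⁻¹' (p j : Set X)).Nonempty := by
    intro j
    refine ⟨⟨x, hxU⟩, ?_⟩
    have : p.head ≤ p j := p.strictMono.monotone (Fin.zero_le j)
    exact this hx
  let q : LTSeries (IrreducibleCloseds U) :=
    { length := p.length
      toFun := fun j => e.symm ⟨p j, hne j⟩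
      step := fun j => by
        apply e.symm.strictMono
        exact p.step j }
  exact Order.LTSeries.length_le_krullDim q

theorem topologicalKrullDim_eq_iSup_of_locallyFinite_closed_cover {ι : Type*} (Y : ι → Set X)
    (hY : ∀ i, IsClosed (Y i)) (hlf : LocallyFinite Y) (hcov : ⋃ i, Y i = Set.univ) :
    topologicalKrullDim X = ⨆ i, topologicalKrullDim (Y i) := by
  apply le_antisymm
  · unfold topologicalKrullDim
    rw [Order.krullDim]
    refine iSup_le fun p => ?_
    obtain ⟨x, hx⟩ := p.head.isIrreducible.nonempty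
    obtain ⟨W, hW, hfin⟩ := hlf x
    set S : Set X := (p.last : Set X) with hS
    have hSirr : IsIrreducible S := p.last.isIrreducible
    have hxS : x ∈ S := (p.strictMono.monotone (Fin.le_last 0)) hx
    have hxW : x ∈ interior W := mem_interior_iff_mem_nhds.mpr hW
    have h1 : S ⊆ closure (S ∩ interior W) :=
      subset_closure_inter_of_isPreirreducible_of_isOpen hSirr.isPreirreducible isOpen_interior
        ⟨x, hxS, hxW⟩
    have h2 : S ∩ interior W ⊆ ⋃ i ∈ hfin.toFinset, Y i := by
      intro z hz
      have : z ∈ ⋃ i, Y i := hcov ▸ Set.mem_univ z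
      obtain ⟨i, hi⟩ := Set.mem_iUnion.mp this
      refine Set.mem_biUnion (x := i) ?_ hi
      rw [Set.Finite.coe_toFinset]
      exact ⟨z, hi, interior_subset hz.2⟩
    have hclosed : IsClosed (⋃ i ∈ hfin.toFinset, Y i) :=
      Set.Finite.isClosed_biUnion (Finset.finite_toSet _) (fun i _ => hY i)
    have h3 : S ⊆ ⋃ i ∈ hfin.toFinset, Y i :=
      h1.trans (closure_minimal h2 hclosed)
    classical
    obtain ⟨z, hz, hSz⟩ := isIrreducible_iff_sUnion_isClosed.mp hSirr (hfin.toFinset.image Y)
      (by
        intro z hz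
        obtain ⟨i, -, rfl⟩ := Finset.mem_image.mp hz
        exact hY i)
      (by
        intro w hw
        obtain ⟨i, hi, hwi⟩ := Set.mem_iUnion₂.mp (h3 hw)
        exact Set.mem_sUnion.mpr ⟨Y i, Finset.mem_coe.mpr (Finset.mem_image_of_mem Y hi), hwi⟩)
    obtain ⟨i, -, rfl⟩ := Finset.mem_image.mp hz
    refine le_trans ?_ (le_iSup (fun i => topologicalKrullDim (Y i)) i)
    apply length_le_of_forall_subset (Y i) p
    intro j
    have hj : p j ≤ p.last := p.strictMono.monotone (Fin.le_last j)
    exact fun w hw => hSz (hj hw)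
  · exact iSup_le fun i => topologicalKrullDim_subspace_le X (Y i)

theorem topologicalKrullDim_eq_iSup_of_open_cover {ι : Type*} (U : ι → Opens X)
    (hcov : ⨆ i, U i = ⊤) :
    topologicalKrullDim X = ⨆ i, topologicalKrullDim (U i) := by
  apply le_antisymm
  · unfold topologicalKrullDim
    rw [Order.krullDim]
    refine iSup_le fun p => ?_
    obtain ⟨x, hx⟩ := p.head.isIrreducible.nonempty
    have hxU : x ∈ (⨆ i, U i : Opens X) := by rw [hcov]; trivial
    obtain ⟨i, hi⟩ := Opens.mem_iSup.mp hxU
    refine le_trans ?_ (le_iSup (fun i => krullDim (IrreducibleCloseds (U i))) i)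
    exact length_le_of_mem_head (U i).isOpen p hx hi
  · exact iSup_le fun i => topologicalKrullDim_subspace_le X (U i : Set X)


lemma localDim_le (x : X) (U : Opens X) (hx : x ∈ U) :
    FlatMor.localDim X x ≤ topologicalKrullDim (U : Set X) :=
  iInf_le (fun U : {U : Opens X // x ∈ U} => topologicalKrullDim (U.1 : Set X)) ⟨U, hx⟩

lemma le_localDim_iff (x : X) (d : WithBot ℕ∞) :
    d ≤ FlatMor.localDim X x ↔ ∀ U : Opens X, x ∈ U → d ≤ topologicalKrullDim (U : Set X) := by
  unfold FlatMor.localDim
  rw [le_iInf_iff]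
  exact ⟨fun h U hU => h ⟨U, hU⟩, fun h U => h U.1 U.2⟩

lemma localDim_le_dim (x : X) : FlatMor.localDim X x ≤ topologicalKrullDim X :=
  (localDim_le x ⊤ trivial).trans (topologicalKrullDim_subspace_le X _)

lemma length_le_localDim (p : LTSeries (IrreducibleCloseds X)) {x : X}
    (hx : x ∈ (p.head : Set X)) : (p.length : WithBot ℕ∞) ≤ FlatMor.localDim X x := by
  rw [le_localDim_iff]
  intro U hU
  exact length_le_of_mem_head U.isOpen p hx hU

theorem topologicalKrullDim_eq_iSup_localDim :
    topologicalKrullDim X = ⨆ x : X, FlatMor.localDim X x := by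
  apply le_antisymm
  · unfold topologicalKrullDim
    rw [Order.krullDim]
    refine iSup_le fun p => ?_
    obtain ⟨x, hx⟩ := p.head.isIrreducible.nonempty
    exact (length_le_localDim p hx).trans (le_iSup (fun x => FlatMor.localDim X x) x)
  · exact iSup_le fun x => localDim_le_dim x

theorem topologicalKrullDim_eq_iSup_localDim_closedPoints [NoetherianSpace X] [T0Space X] :
    topologicalKrullDim X = ⨆ x ∈ {x : X | IsClosed ({x} : Set X)}, FlatMor.localDim X x := by
  apply le_antisymm
  · unfold topologicalKrullDim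
    rw [Order.krullDim]
    refine iSup_le fun p => ?_
    obtain ⟨x, hx, hxc⟩ := IsClosed.exists_closed_singleton p.head.isClosed
      p.head.isIrreducible.nonempty
    refine (length_le_localDim p hx).trans ?_
    exact le_iSup₂ (f := fun x (_ : x ∈ {x : X | IsClosed ({x} : Set X)}) =>
      FlatMor.localDim X x) x hxc
  · exact iSup₂_le fun x _ => localDim_le_dim x

theorem upperSemicontinuous_localDim :
    UpperSemicontinuous fun x : X => FlatMor.localDim X x := by
  intro x d hd
  unfold FlatMor.localDim at hd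
  rw [iInf_lt_iff] at hd
  obtain ⟨⟨U, hxU⟩, hU⟩ := hd
  filter_upwards [U.isOpen.mem_nhds hxU] with y hy
  exact lt_of_le_of_lt (localDim_le y U hy) hU


/-- closure of a point as an irreducible closed subset -/
def closurePt (x : X) : IrreducibleCloseds X where
  carrier := closure {x}
  isIrreducible' := isIrreducible_singleton.closure
  isClosed' := isClosed_closure

lemma topologicalKrullDim_nonneg [Nonempty X] : 0 ≤ topologicalKrullDim X := by
  have : Nonempty (IrreducibleCloseds X) := ⟨closurePt (Classical.arbitrary X)⟩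
  exact Order.krullDim_nonneg

/-- in a T0 space of dimension ≤ 0 all points are closed -/
lemma isClosed_singleton_of_dim_le_zero [T0Space X] (h : topologicalKrullDim X ≤ 0) (x : X) :
    IsClosed ({x} : Set X) := by
  have hmin := Order.krullDim_nonpos_iff_forall_isMin.mp h
  have : closure ({x} : Set X) = {x} := by
    apply Set.Subset.antisymm _ subset_closure
    intro y hy
    have hle : closurePt y ≤ closurePt x := by
      intro z hz
      exact (closure_minimal (Set.singleton_subset_iff.mpr hy) isClosed_closure) hz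
    have hge : closurePt x ≤ closurePt y := hmin (closurePt x) hle
    have hxy : x ∈ closure ({y} : Set X) := hge (subset_closure rfl)
    have hspec1 : y ⤳ x := specializes_iff_mem_closure.mpr hxy
    have hspec2 : x ⤳ y := specializes_iff_mem_closure.mpr hy
    exact (hspec2.antisymm hspec1).eq.symm
  rw [← this]
  exact isClosed_closure

theorem dim_eq_zero_iff_finite_discrete [NoetherianSpace X] [T0Space X] [Nonempty X] :
    topologicalKrullDim X = 0 ↔ Finite X ∧ DiscreteTopology X := by
  constructor
  · intro h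
    have hcl := isClosed_singleton_of_dim_le_zero h.le
    have : T1Space X := ⟨hcl⟩
    have hmax := Order.krullDim_nonpos_iff_forall_isMax.mp h.le
    have hcomp : ∀ x : X, ({x} : Set X) ∈ irreducibleComponents X := by
      intro x
      refine ⟨isIrreducible_singleton, fun s hs hxs => ?_⟩
      let S : IrreducibleCloseds X := ⟨closure s, hs.closure, isClosed_closure⟩
      let P : IrreducibleCloseds X := ⟨{x}, isIrreducible_singleton, hcl x⟩
      have hPS : P ≤ S := fun z hz => subset_closure (hxs hz)
      have hSP : S ≤ P := hmax P hPS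
      exact fun z hz => hSP (subset_closure hz)
    have hfin : (irreducibleComponents X).Finite :=
      NoetherianSpace.finite_irreducibleComponents
    have : Finite X := by
      have hinj : Function.Injective (fun x : X => (⟨{x}, hcomp x⟩ : irreducibleComponents X)) := by
        intro x y hxy
        have : ({x} : Set X) = {y} := congrArg Subtype.val hxy
        exact Set.singleton_eq_singleton_iff.mp this
      have := hfin.to_subtype
      exact Finite.of_injective _ hinj
    exact ⟨inferInstance, inferInstance⟩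
  · rintro ⟨_, _⟩
    exact le_antisymm (topologicalKrullDim_zero_of_discreteTopology X) topologicalKrullDim_nonneg


lemma le_zero_of_lt_one (d : WithBot ℕ∞) (h : d < 1) : d ≤ 0 := by
  induction d using WithBot.recBotCoe with
  | bot => exact bot_le
  | coe n =>
    have h1 : n < 1 := by exact_mod_cast h
    have h2 : n = 0 := Order.lt_one_iff.mp h1
    rw [h2]; rfl

lemma exists_opens_dim_eq_localDim (x : X) :
    ∃ U : Opens X, x ∈ U ∧ topologicalKrullDim (U : Set X) = FlatMor.localDim X x := by
  have : Nonempty {U : Opens X // x ∈ U} := ⟨⟨⊤, trivial⟩⟩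
  obtain ⟨⟨U, hU⟩, h⟩ := ciInf_mem
    (fun U : {U : Opens X // x ∈ U} => topologicalKrullDim (U.1 : Set X))
  exact ⟨U, hU, h⟩

lemma localDim_nonneg (x : X) : 0 ≤ FlatMor.localDim X x := by
  rw [le_localDim_iff]
  intro U hU
  have : Nonempty (U : Set X) := ⟨⟨x, hU⟩⟩
  exact topologicalKrullDim_nonneg

theorem isOpen_singleton_iff_localDim_eq_zero [NoetherianSpace X] [T0Space X] (x : X) :
    IsOpen ({x} : Set X) ↔ FlatMor.localDim X x = 0 := by
  constructor
  · intro h
    apply le_antisymm _ (localDim_nonneg x)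
    refine (localDim_le x ⟨{x}, h⟩ rfl).trans ?_
    have : Subsingleton (({x} : Set X) : Type _) :=
      (Set.subsingleton_coe _).mpr Set.subsingleton_singleton
    exact topologicalKrullDim_zero_of_discreteTopology ({x} : Set X)
  · intro h
    obtain ⟨U, hxU, hU⟩ := exists_opens_dim_eq_localDim x
    rw [h] at hU
    have : Nonempty (U : Set X) := ⟨⟨x, hxU⟩⟩
    obtain ⟨_, hdisc⟩ := (dim_eq_zero_iff_finite_discrete (X := (U : Set X))).mp hU
    have h1 : IsOpen ({⟨x, hxU⟩} : Set (U : Set X)) := isOpen_discrete _
    have h2 := U.isOpen.isOpenEmbedding_subtypeVal.isOpenMap _ h1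
    simpa using h2

lemma isInducing_of_comp_eq {A B : Type*} [TopologicalSpace A] [TopologicalSpace B] (f : A → B)
    (a : A → X) (b : B → X) (ha : IsInducing a) (hb : IsInducing b) (h : b ∘ f = a) :
    IsInducing f := by
  have hf : Continuous f := by
    rw [hb.continuous_iff, h]
    exact ha.continuous
  exact IsInducing.of_comp hf hb.continuous (h ▸ ha)

theorem localDim_eq_iSup_of_finite_closed_cover {ι : Type*} [Finite ι] (x : X) (Y : ι → Set X)
    (hY : ∀ i, IsClosed (Y i)) (hx : ∀ i, x ∈ Y i) (hcov : ⋃ i, Y i = Set.univ) :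
    FlatMor.localDim X x = ⨆ i, FlatMor.localDim (Y i) ⟨x, hx i⟩ := by
  apply le_antisymm
  · choose V hxV hV using fun i => exists_opens_dim_eq_localDim (X := Y i) ⟨x, hx i⟩
    have hex : ∀ i, ∃ U : Set X, IsOpen U ∧ Subtype.val ⁻¹' U = (V i : Set (Y i)) :=
      fun i => isOpen_induced_iff.mp (V i).isOpen
    choose U hUo hUV using hex
    let W : Opens X := ⟨⋂ i, U i, isOpen_iInter_of_finite hUo⟩
    have hxW : x ∈ W := by
      refine mem_iInter.mpr fun i => ?_
      have h1 : (⟨x, hx i⟩ : Y i) ∈ (V i : Set (Y i)) := hxV i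
      rw [← hUV i] at h1
      exact h1
    refine (localDim_le x W hxW).trans ?_
    have hcov' : ⋃ i, (Subtype.val : ↥(W : Set X) → X) ⁻¹' (Y i) = Set.univ := by
      rw [← Set.preimage_iUnion, hcov, Set.preimage_univ]
    rw [topologicalKrullDim_eq_iSup_of_locallyFinite_closed_cover (X := (W : Set X))
      (fun i => (Subtype.val : ↥(W : Set X) → X) ⁻¹' (Y i))
      (fun i => (hY i).preimage continuous_subtype_val)
      (locallyFinite_of_finite _) hcov']
    refine iSup_mono fun i => ?_
    rw [← hV i]
    let f : ((Subtype.val : ↥(W : Set X) → X) ⁻¹' (Y i)) → ((V i : Opens (Y i)) : Set (Y i)) :=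
      fun z => ⟨⟨z.1.1, z.2⟩, by
        have h1 : z.1.1 ∈ U i := mem_iInter.mp z.1.2 i
        rw [← hUV i]
        exact h1⟩
    have hf : IsInducing f :=
      isInducing_of_comp_eq f (fun z => z.1.1) (fun v => v.1.1)
        (IsInducing.subtypeVal.comp IsInducing.subtypeVal)
        (IsInducing.subtypeVal.comp IsInducing.subtypeVal) rfl
    exact hf.topologicalKrullDim_le
  · refine iSup_le fun i => ?_
    rw [le_localDim_iff]
    intro U hU
    refine (localDim_le (X := Y i) ⟨x, hx i⟩
      ⟨Subtype.val ⁻¹' (U : Set X), U.isOpen.preimage continuous_subtype_val⟩ hU).trans ?_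
    let f : ((Subtype.val : ↥(Y i) → X) ⁻¹' (U : Set X)) → (U : Set X) := fun z => ⟨z.1.1, z.2⟩
    have hf : IsInducing f :=
      isInducing_of_comp_eq f (fun z => z.1.1) (fun v => v.1)
        (IsInducing.subtypeVal.comp IsInducing.subtypeVal) IsInducing.subtypeVal rfl
    exact hf.topologicalKrullDim_le

end Groth.Agent.Lib.Helper7.TopDim
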