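import Groth.Agent.Lib.Helper4TensorDim
import Groth.Agent.Lib.Helper7TopDim
import Mathlib.AlgebraicGeometry.Pullbacks
import Mathlib.AlgebraicGeometry.Morphisms.FiniteType

/-!
# Dimension of fibre products over a field (affine pieces)
-/

set_option autoImplicit false
set_option linter.style.haveILetI false
universe u

open AlgebraicGeometry CategoryTheory CategoryTheory.Limits TopologicalSpace Topology TensorProduct

namespace Groth.Agent.Lib.Helper4.ProdDim

/-- The dimension of a scheme is the supremum of the dimensions of the members of an open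
cover. -/
theorem topologicalKrullDim_eq_iSup_openCover (W : Scheme.{u}) (𝒰 : W.OpenCover) :
    topologicalKrullDim W = ⨆ i, topologicalKrullDim (𝒰.X i) := by
  rw [Groth.Agent.Lib.Helper7.TopDim.topologicalKrullDim_eq_iSup_of_open_cover
    (fun i => (𝒰.f i).opensRange) 𝒰.iSup_opensRange]
  refine iSup_congr fun i => ?_
  exact (IsHomeomorph.topologicalKrullDim_eq _
    ((𝒰.f i).isOpenEmbedding.isEmbedding.toHomeomorph.isHomeomorph)).symm

theorem topologicalKrullDim_Spec (R : CommRingCat.{u}) :
    topologicalKrullDim (Spec R) = ringKrullDim R :=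
  PrimeSpectrum.topologicalKrullDim_eq_ringKrullDim R

theorem topologicalKrullDim_eq_of_iso {X Y : Scheme.{u}} (e : X ≅ Y) :
    topologicalKrullDim X = topologicalKrullDim Y :=
  IsHomeomorph.topologicalKrullDim_eq _ (Scheme.homeoOfIso e).isHomeomorph

variable (k : Type u) [Field k]

/-- Dimension of the fibre product of an affine scheme of finite type over `k` with the spectrum
of a Noetherian `k`-algebra. -/
theorem topologicalKrullDim_pullback_Spec (R : CommRingCat.{u}) (φ : Spec R ⟶ Spec (CommRingCat.of k))
    [LocallyOfFiniteType φ] (T : Type u) [CommRing T] [Algebra k T] [IsNoetherianRing T] :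
    topologicalKrullDim ↥(pullback φ (Spec.map (CommRingCat.ofHom (algebraMap k T)))) =
      ringKrullDim R + ringKrullDim T := by
  letI : Algebra k R := (Spec.preimage φ).hom.toAlgebra
  have hφ : φ = Spec.map (CommRingCat.ofHom (algebraMap k R)) := (Spec.map_preimage φ).symm
  haveI : Algebra.FiniteType k R := by
    have h1 : LocallyOfFiniteType (Spec.map (Spec.preimage φ)) := by
      rw [Spec.map_preimage]; infer_instance
    have h2 := (HasRingHomProperty.Spec_iff (P := @LocallyOfFiniteType)).mp h1
    exact h2
  have e : pullback φ (Spec.map (CommRingCat.ofHom (algebraMap k T))) ≅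
      Spec (CommRingCat.of (R ⊗[k] T)) :=
    pullback.congrHom hφ rfl ≪≫ pullbackSpecIso k R T
  rw [topologicalKrullDim_eq_of_iso e, topologicalKrullDim_Spec]
  exact Groth.Agent.Lib.Helper4.TensorDim.ringKrullDim_tensor_eq_add k R T

/-- Dimension of the fibre product of an affine scheme of finite type over `k` with the spectrum
of a Noetherian `k`-algebra. -/
theorem topologicalKrullDim_pullback_of_isAffine (U : Scheme.{u}) [IsAffine U]
    (φ : U ⟶ Spec (CommRingCat.of k)) [LocallyOfFiniteType φ] (T : Type u) [CommRing T]
    [Algebra k T] [IsNoetherianRing T] :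
    topologicalKrullDim ↥(pullback φ (Spec.map (CommRingCat.ofHom (algebraMap k T)))) =
      topologicalKrullDim U + ringKrullDim T := by
  have e : pullback φ (Spec.map (CommRingCat.ofHom (algebraMap k T))) ≅
      pullback (U.isoSpec.inv ≫ φ) (Spec.map (CommRingCat.ofHom (algebraMap k T))) :=
    asIso (pullback.map φ _ (U.isoSpec.inv ≫ φ) _ U.isoSpec.hom (𝟙 _) (𝟙 _) (by simp) (by simp))
  rw [topologicalKrullDim_eq_of_iso e, topologicalKrullDim_pullback_Spec k _ (U.isoSpec.inv ≫ φ) T,
    topologicalKrullDim_eq_of_iso U.isoSpec, topologicalKrullDim_Spec]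

end Groth.Agent.Lib.Helper4.ProdDim
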