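import Mathlib
import Groth.Agent.Lib.Helper4ProdDim

set_option autoImplicit false
set_option linter.style.haveILetI false
universe u
open CategoryTheory CategoryTheory.Limits AlgebraicGeometry Topology

namespace Groth.Agent.Lib.Helper3.FibDimBC

open Groth.Agent.Lib.Helper4.ProdDim

/-- the dimension of a scheme locally of finite type over a field is invariant under extension
of the base field. -/
theorem topologicalKrullDim_pullback_field (k K : Type u) [Field k] [Field K] [Algebra k K]
    {Z : Scheme.{u}} (z : Z ⟶ Spec (CommRingCat.of k)) [LocallyOfFiniteType z] :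
    topologicalKrullDim ↥(pullback z (Spec.map (CommRingCat.ofHom (algebraMap k K)))) =
      topologicalKrullDim Z := by
  rw [topologicalKrullDim_eq_iSup_openCover _
    (Scheme.Pullback.openCoverOfLeft Z.affineCover z
      (Spec.map (CommRingCat.ofHom (algebraMap k K)))),
    topologicalKrullDim_eq_iSup_openCover Z Z.affineCover]
  refine iSup_congr fun i => ?_
  show topologicalKrullDim ↥(pullback (Z.affineCover.f i ≫ z)
    (Spec.map (CommRingCat.ofHom (algebraMap k K)))) = _
  rw [topologicalKrullDim_pullback_of_isAffine k _ (Z.affineCover.f i ≫ z) K,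
    ringKrullDim_eq_zero_of_field, add_zero]

theorem topologicalKrullDim_eq_of_isPullback_field (k K : Type u) [Field k] [Field K] [Algebra k K]
    {Z Z' : Scheme.{u}} (z : Z ⟶ Spec (CommRingCat.of k)) [LocallyOfFiniteType z]
    (z' : Z' ⟶ Spec (CommRingCat.of K)) (e : Z' ⟶ Z)
    (h : IsPullback e z' z (Spec.map (CommRingCat.ofHom (algebraMap k K)))) :
    topologicalKrullDim Z' = topologicalKrullDim Z := by
  rw [topologicalKrullDim_eq_of_iso h.isoPullback]
  exact topologicalKrullDim_pullback_field k K z

end Groth.Agent.Lib.Helper3.FibDimBC
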