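import Groth.Agent.Lib.Helper5IntDim

/-!
# Krull dimension of a tensor product with a finite type algebra over a field

`ringKrullDim_tensor_eq_add`: for a field `k`, a finite type `k`-algebra `A` and a Noetherian
`k`-algebra `B`, `dim (A ⊗[k] B) = dim A + dim B`.
-/

set_option autoImplicit false
set_option linter.style.haveILetI false
universe u

open TensorProduct

namespace Groth.Agent.Lib.Helper4.TensorDim

variable (k : Type u) [Field k]

/-- Dimension of a nontrivial finite type algebra via Noether normalization. -/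
theorem ringKrullDim_eq_of_integral_injective (A : Type u) [CommRing A] [Algebra k A] (a : ℕ)
    (g : MvPolynomial (Fin a) k →ₐ[k] A) (hinj : Function.Injective g) (hint : g.IsIntegral) :
    ringKrullDim A = (a : WithBot ℕ∞) := by
  letI := g.toRingHom.toAlgebra
  haveI : Algebra.IsIntegral (MvPolynomial (Fin a) k) A := ⟨hint⟩
  rw [Groth.Agent.Lib.Helper5.ringKrullDim_eq_of_isIntegral_of_injective
    (MvPolynomial (Fin a) k) A hinj, MvPolynomial.ringKrullDim_of_isNoetherianRing,
    ringKrullDim_eq_zero_of_field]
  simp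

theorem ringKrullDim_tensor_of_integral_injective (A B : Type u) [CommRing A] [Algebra k A]
    [CommRing B] [Algebra k B] [IsNoetherianRing B] (a : ℕ)
    (g : MvPolynomial (Fin a) k →ₐ[k] A) (hinj : Function.Injective g) (hint : g.IsIntegral) :
    ringKrullDim (A ⊗[k] B) = ringKrullDim B + (a : WithBot ℕ∞) := by
  set P := MvPolynomial (Fin a) k with hP
  let G : P ⊗[k] B →ₐ[k] A ⊗[k] B := Algebra.TensorProduct.map g (AlgHom.id k B)
  have hGinj : Function.Injective G := by
    have h1 := Module.Flat.rTensor_preserves_injective_linearMap (M := B) g.toLinearMap hinj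
    intro x y hxy
    apply h1
    exact hxy
  letI algG : Algebra (P ⊗[k] B) (A ⊗[k] B) := G.toRingHom.toAlgebra
  letI algg : Algebra P A := g.toRingHom.toAlgebra
  have hGint : Algebra.IsIntegral (P ⊗[k] B) (A ⊗[k] B) := by
    constructor
    intro z
    induction z using TensorProduct.induction_on with
    | zero => exact isIntegral_zero
    | tmul x y =>
      have h1 : IsIntegral (P ⊗[k] B) ((x ⊗ₜ[k] (1 : B)) : A ⊗[k] B) := by
        have hx : IsIntegral P x := hint x
        have := IsIntegral.map_of_comp_eq (R := P) (S := A) (T := P ⊗[k] B) (U := A ⊗[k] B)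
          (Algebra.TensorProduct.includeLeftRingHom (R := k) (A := P) (B := B))
          (Algebra.TensorProduct.includeLeftRingHom (R := k) (A := A) (B := B))
          (RingHom.ext fun p => by
            change G (p ⊗ₜ[k] 1) = (g p) ⊗ₜ[k] 1
            simp [G]) hx
        exact this
      have h2 : IsIntegral (P ⊗[k] B) (((1 : A) ⊗ₜ[k] y) : A ⊗[k] B) := by
        have : ((1 : A) ⊗ₜ[k] y : A ⊗[k] B) = algebraMap (P ⊗[k] B) (A ⊗[k] B) ((1 : P) ⊗ₜ[k] y) := by
          change _ = G ((1 : P) ⊗ₜ[k] y)
          simp [G]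
        rw [this]
        exact isIntegral_algebraMap
      have h3 : (x ⊗ₜ[k] y : A ⊗[k] B) = (x ⊗ₜ[k] (1 : B)) * ((1 : A) ⊗ₜ[k] y) := by
        rw [Algebra.TensorProduct.tmul_mul_tmul, mul_one, one_mul]
      rw [h3]
      exact h1.mul h2
    | add x y hx hy => exact hx.add hy
  rw [Groth.Agent.Lib.Helper5.ringKrullDim_eq_of_isIntegral_of_injective (P ⊗[k] B) (A ⊗[k] B)
    hGinj]
  have e : P ⊗[k] B ≃+* MvPolynomial (Fin a) B :=
    ((Algebra.TensorProduct.comm k P B).toRingEquiv).trans
      (MvPolynomial.algebraTensorAlgEquiv k B).toRingEquiv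
  rw [ringKrullDim_eq_of_ringEquiv e, MvPolynomial.ringKrullDim_of_isNoetherianRing]
  simp

/-- `dim (A ⊗[k] B) = dim A + dim B` for `A` of finite type over the field `k` and `B`
Noetherian. -/
theorem ringKrullDim_tensor_eq_add (A B : Type u) [CommRing A] [Algebra k A]
    [Algebra.FiniteType k A] [CommRing B] [Algebra k B] [IsNoetherianRing B] :
    ringKrullDim (A ⊗[k] B) = ringKrullDim A + ringKrullDim B := by
  by_cases hA : Subsingleton A
  · haveI : Subsingleton (A ⊗[k] B) := by
      refine subsingleton_of_zero_eq_one ?_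
      have : (1 : A ⊗[k] B) = (1 : A) ⊗ₜ[k] (1 : B) := rfl
      rw [this, Subsingleton.elim (1 : A) 0, TensorProduct.zero_tmul]
    rw [ringKrullDim_eq_bot_of_subsingleton, ringKrullDim_eq_bot_of_subsingleton (R := A),
      WithBot.bot_add]
  · rw [not_subsingleton_iff_nontrivial] at hA
    obtain ⟨a, g, hinj, hint⟩ := exists_integral_inj_algHom_of_fg k A
    rw [ringKrullDim_tensor_of_integral_injective k A B a g hinj hint,
      ringKrullDim_eq_of_integral_injective k A a g hinj hint, add_comm]

end Groth.Agent.Lib.Helper4.TensorDim
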