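import Mathlib

/-!
# Small lemmas on `WithBot ℕ∞`
-/

set_option autoImplicit false

namespace Groth.Agent.Lib.Helper4.WithBotENat

theorem eq_top_of_forall_natCast_le (z : WithBot ℕ∞) (h : ∀ n : ℕ, ((n : ℕ) : WithBot ℕ∞) ≤ z) :
    z = ⊤ := by
  induction z using WithBot.recBotCoe with
  | bot => exact absurd (h 0) (by simp)
  | coe z =>
    induction z using ENat.recTopCoe with
    | top => rfl
    | coe e =>
      have := h (e + 1)
      have h2 : e + 1 ≤ e := by exact_mod_cast this
      omega

/-- `x + y ≤ z` as soon as `n + m ≤ z` for all naturals `n ≤ x`, `m ≤ y`. -/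
theorem add_le_of_forall_nat (x y z : WithBot ℕ∞)
    (h : ∀ n m : ℕ, ((n : ℕ) : WithBot ℕ∞) ≤ x → ((m : ℕ) : WithBot ℕ∞) ≤ y →
      ((n + m : ℕ) : WithBot ℕ∞) ≤ z) : x + y ≤ z := by
  induction x using WithBot.recBotCoe with
  | bot => rw [WithBot.bot_add]; exact bot_le
  | coe x =>
    induction y using WithBot.recBotCoe with
    | bot => rw [WithBot.add_bot]; exact bot_le
    | coe y =>
      induction x using ENat.recTopCoe with
      | top =>
        have : z = ⊤ := eq_top_of_forall_natCast_le z fun n => by
          have := h n 0 le_top (by exact_mod_cast (zero_le : (0 : ℕ∞) ≤ y))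
          simpa using this
        rw [this]
        exact le_top
      | coe a =>
        induction y using ENat.recTopCoe with
        | top =>
          have : z = ⊤ := eq_top_of_forall_natCast_le z fun n => by
            have := h 0 n (by exact_mod_cast (zero_le : (0 : ℕ∞) ≤ (a : ℕ∞))) le_top
            simpa using this
          rw [this]
          exact le_top
        | coe b =>
          have := h a b le_rfl le_rfl
          exact_mod_cast this

/-- A natural number below a supremum is below one of the terms. -/
theorem exists_le_of_natCast_le_iSup {ι : Sort*} (a : ι → WithBot ℕ∞) (n : ℕ)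
    (h : ((n : ℕ) : WithBot ℕ∞) ≤ ⨆ i, a i) : ∃ i, ((n : ℕ) : WithBot ℕ∞) ≤ a i := by
  by_contra hcon
  push Not at hcon
  rcases Nat.eq_zero_or_pos n with rfl | hpos
  · have hbot : ∀ i, a i ≤ ⊥ := fun i => by
      have := hcon i
      induction hai : a i using WithBot.recBotCoe with
      | bot => exact le_rfl
      | coe c =>
        rw [hai] at this
        have h2 : c < (0 : ℕ∞) := by exact_mod_cast this
        simp at h2
    have h3 : ⨆ i, a i ≤ ⊥ := iSup_le hbot
    have := h.trans h3
    simp at this
  · have hb : ∀ i, a i ≤ ((n - 1 : ℕ) : WithBot ℕ∞) := fun i => by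
      have := hcon i
      induction hai : a i using WithBot.recBotCoe with
      | bot => exact bot_le
      | coe c =>
        rw [hai] at this
        have h2 : c < (n : ℕ∞) := by exact_mod_cast this
        induction c using ENat.recTopCoe with
        | top => simp at h2
        | coe e =>
          have h3 : e < n := by exact_mod_cast h2
          have h4 : e ≤ n - 1 := by omega
          have h5 : ((e : ℕ) : ℕ∞) ≤ ((n - 1 : ℕ) : ℕ∞) := by exact_mod_cast h4
          exact WithBot.coe_le_coe.mpr h5
    have h3 : ⨆ i, a i ≤ ((n - 1 : ℕ) : WithBot ℕ∞) := iSup_le hb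
    have h4 := h.trans h3
    have h5 : n ≤ n - 1 := by exact_mod_cast h4
    omega

end Groth.Agent.Lib.Helper4.WithBotENat
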