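import Groth.Agent.Lib.Helper4FibDimE

/-!
# Fibre dimension (part F): Chevalley's upper semicontinuity for schemes

* `fibLD_fromSpec`: affine-local computation of `fibLD`.
* `isOpen_setOf_fibreDimAt_le`: for `f` locally of finite type, `{x | fibreDimAt f x ≤ n}` is open.
-/

set_option autoImplicit false
set_option linter.style.haveILetI false
universe u

open TensorProduct PrimeSpectrum TopologicalSpace Topology AlgebraicGeometry CategoryTheory

namespace Groth.Agent.Lib.Helper4.FibDim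

variable {X S : Scheme.{u}} (f : X ⟶ S)

theorem fibLD_fromSpec {U : X.Opens} {V : S.Opens} (hU : IsAffineOpen U) (hV : IsAffineOpen V)
    (hUV : U ≤ f ⁻¹ᵁ V) (z : Spec Γ(X, U)) :
    fibLD f (hU.fromSpec z) = fibLD (Spec.map (f.appLE V U hUV)) z := by
  have h1 := fibLD_comp_isOpenEmbedding f hU.fromSpec hU.fromSpec.isOpenEmbedding z
  have h2 : (f : X → S) ∘ (hU.fromSpec : Spec Γ(X, U) → X) =
      (hV.fromSpec : Spec Γ(S, V) → S) ∘ (Spec.map (f.appLE V U hUV) : Spec Γ(X, U) → Spec Γ(S, V)) := by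
    ext w
    have := congrArg (fun g : Spec Γ(X, U) ⟶ S => g w) (hV.SpecMap_appLE_fromSpec f hU hUV)
    simp only [Scheme.Hom.comp_apply] at this
    exact this.symm
  rw [← h1, h2, fibLD_comp_injective _ _ hV.fromSpec.isOpenEmbedding.injective]

theorem isOpen_setOf_fibreDimAt_le [LocallyOfFiniteType f] (n : ℕ) :
    IsOpen {x : X | FlatMor.fibreDimAt f x ≤ (n : WithBot ℕ∞)} := by
  rw [isOpen_iff_forall_mem_open]
  intro x hx
  obtain ⟨_, ⟨V : S.Opens, hV, rfl⟩, hxV, -⟩ :=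
    S.isBasis_affineOpens.exists_subset_of_mem_open (Set.mem_univ (f x)) isOpen_univ
  obtain ⟨_, ⟨U : X.Opens, hU, rfl⟩, hxU, hUV⟩ :=
    X.isBasis_affineOpens.exists_subset_of_mem_open hxV (f ⁻¹ᵁ V).2
  replace hU : IsAffineOpen U := hU
  replace hV : IsAffineOpen V := hV
  have hft : (f.appLE V U hUV).hom.FiniteType := LocallyOfFiniteType.finiteType_appLE f hV hU hUV
  algebraize [(f.appLE V U hUV).hom]
  have hopen := isOpen_setOf_fibLD_comap_le Γ(S, V) Γ(X, U) n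
  refine ⟨hU.fromSpec '' {q : PrimeSpectrum Γ(X, U) |
      fibLD (PrimeSpectrum.comap (algebraMap Γ(S, V) Γ(X, U))) q ≤ (n : WithBot ℕ∞)}, ?_, ?_, ?_⟩
  · rintro _ ⟨z, hz, rfl⟩
    simp only [Set.mem_ofPred_eq] at hz ⊢
    rw [fibreDimAt_eq_fibLD, fibLD_fromSpec f hU hV hUV]
    exact hz
  · exact hU.fromSpec.isOpenEmbedding.isOpenMap _ hopen
  · refine ⟨hU.primeIdealOf ⟨x, hxU⟩, ?_, hU.fromSpec_primeIdealOf ⟨x, hxU⟩⟩
    simp only [Set.mem_ofPred_eq] at hx ⊢
    have e : hU.fromSpec (hU.primeIdealOf ⟨x, hxU⟩) = x := hU.fromSpec_primeIdealOf ⟨x, hxU⟩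
    have h3 := fibLD_fromSpec f hU hV hUV (hU.primeIdealOf ⟨x, hxU⟩)
    rw [e] at h3
    rw [fibreDimAt_eq_fibLD, h3] at hx
    exact hx

end Groth.Agent.Lib.Helper4.FibDim
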