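import Mathlib
import Groth.Prelude.Def_W4ega4s0809p4Pair
import Groth.Prelude.Def_Flat
import Groth.Agent.Lib.Helper3FibDimBC
import Groth.Agent.Lib.Helper3ConsOfLocus
import Groth.Agent.Lib.Helper7TopDim
import Groth.Agent.Lib.Helper4TensorDim
import Groth.Agent.Lib.Helper4WithBotENat
import Groth.Agent.S0402

set_option autoImplicit false
set_option linter.style.haveILetI false
set_option linter.unusedVariables false
universe u
open CategoryTheory CategoryTheory.Limits AlgebraicGeometry Topology

namespace Groth.Agent.Lib.Helper3.DimCons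

open Groth.Agent.Lib.Helper4.ProdDim Groth.Agent.Lib.Helper3.FibDimBC
  Groth.Agent.Lib.Helper3.ConsOfLocus

theorem ringKrullDim_lt_top_of_finiteType (k : Type u) [Field k] (A : Type u) [CommRing A]
    [Algebra k A] [Algebra.FiniteType k A] : ringKrullDim A < ⊤ := by
  rcases subsingleton_or_nontrivial A with h | h
  · rw [ringKrullDim_eq_bot_of_subsingleton]; exact bot_lt_top
  · obtain ⟨s, g, hinj, hint⟩ := exists_integral_inj_algHom_of_fg k A
    rw [Groth.Agent.Lib.Helper4.TensorDim.ringKrullDim_eq_of_integral_injective k A s g hinj hint]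
    exact WithBot.coe_lt_coe.mpr (ENat.natCast_lt_top s)

theorem topologicalKrullDim_lt_top_of_lft_field (k : Type u) [Field k] {Z : Scheme.{u}}
    (z : Z ⟶ Spec (CommRingCat.of k)) [LocallyOfFiniteType z] [CompactSpace Z] :
    topologicalKrullDim Z < ⊤ := by
  let 𝒰 := Z.affineCover.finiteSubcover
  rw [topologicalKrullDim_eq_iSup_openCover Z 𝒰]
  have hpiece : ∀ i, topologicalKrullDim (𝒰.X i) < ⊤ := by
    intro i
    haveI : IsAffine (𝒰.X i) := by
      show IsAffine (Z.affineCover.X _)
      infer_instance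
    let φ := (𝒰.X i).isoSpec.inv ≫ 𝒰.f i ≫ z
    letI : Algebra k Γ(𝒰.X i, ⊤) := (Spec.preimage φ).hom.toAlgebra
    haveI : Algebra.FiniteType k Γ(𝒰.X i, ⊤) := by
      have h1 : LocallyOfFiniteType (Spec.map (Spec.preimage φ)) := by
        rw [Spec.map_preimage]; infer_instance
      exact (HasRingHomProperty.Spec_iff (P := @LocallyOfFiniteType)).mp h1
    rw [topologicalKrullDim_eq_of_iso (𝒰.X i).isoSpec, topologicalKrullDim_Spec]
    exact ringKrullDim_lt_top_of_finiteType k _
  rcases isEmpty_or_nonempty 𝒰.I₀ with h | h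
  · rw [iSup_of_empty]; exact bot_lt_top
  · obtain ⟨i₀, hi₀⟩ := Finite.exists_max (fun i => topologicalKrullDim (𝒰.X i))
    exact lt_of_le_of_lt (iSup_le hi₀) (hpiece i₀)


theorem fibre_dim_lt_top {X S : Scheme.{u}} (u : X ⟶ S) [LocallyOfFiniteType u] [QuasiCompact u]
    (s : S) : topologicalKrullDim ↥(u.fiber s) < ⊤ := by
  haveI : LocallyOfFiniteType (u.fiberToSpecResidueField s) :=
    MorphismProperty.pullback_snd _ _ inferInstance
  exact topologicalKrullDim_lt_top_of_lft_field (S.residueField s)
    (u.fiberToSpecResidueField s)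

/-- the local dimension of the fibre at a point, computed in any presentation of the fibre. -/
theorem fibreDimAt_fiberι {X S : Scheme.{u}} (u : X ⟶ S) (s : S) (z : u.fiber s) :
    FlatMor.fibreDimAt u (u.fiberι s z) = FlatMor.localDim (u.fiber s) z := by
  have hs : u (u.fiberι s z) = s := by
    have : u.fiberι s z ∈ Set.range (u.fiberι s) := ⟨z, rfl⟩
    rw [Scheme.Hom.range_fiberι] at this
    exact this
  have key : ∀ (s' : S) (h : s' = s) (z' : u.fiber s'), u.fiberι s' z' = u.fiberι s z →
      FlatMor.localDim (u.fiber s') z' = FlatMor.localDim (u.fiber s) z := by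
    intro s' h z' hz
    subst h
    have : z' = z := (u.fiberι s').isEmbedding.injective hz
    rw [this]
  exact key _ hs (u.asFiber (u.fiberι s z)) (u.fiberι_asFiber _)

/-- level sets of the fibre dimension are images of level sets of the local fibre dimension. -/
theorem natCast_le_fibre_dim_iff {X S : Scheme.{u}} (u : X ⟶ S) (s : S) (n : ℕ) :
    (n : WithBot ℕ∞) ≤ topologicalKrullDim ↥(u.fiber s) ↔
      s ∈ u '' {x : X | (n : WithBot ℕ∞) ≤ FlatMor.fibreDimAt u x} := by
  constructor
  · intro h
    rw [Groth.Agent.Lib.Helper7.TopDim.topologicalKrullDim_eq_iSup_localDim] at h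
    obtain ⟨z, hz⟩ := Groth.Agent.Lib.Helper4.WithBotENat.exists_le_of_natCast_le_iSup _ n h
    refine ⟨u.fiberι s z, ?_, ?_⟩
    · show (n : WithBot ℕ∞) ≤ FlatMor.fibreDimAt u (u.fiberι s z)
      rw [fibreDimAt_fiberι]; exact hz
    · have : u.fiberι s z ∈ Set.range (u.fiberι s) := ⟨z, rfl⟩
      rw [Scheme.Hom.range_fiberι] at this
      exact this
  · rintro ⟨x, hx, rfl⟩
    exact le_trans hx (Groth.Agent.Lib.Helper7.TopDim.localDim_le_dim _)


theorem dim_eq_of_isPullback_isField {R R' : CommRingCat.{u}} (hR : IsField R) (hR' : IsField R')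
    (φ : R ⟶ R') {Z Z' : Scheme.{u}} (z : Z ⟶ Spec R) [LocallyOfFiniteType z]
    (z' : Z' ⟶ Spec R') (e : Z' ⟶ Z) (h : IsPullback e z' z (Spec.map φ)) :
    topologicalKrullDim Z' = topologicalKrullDim Z := by
  letI := hR.toField
  letI := hR'.toField
  letI : Algebra R R' := φ.hom.toAlgebra
  exact topologicalKrullDim_eq_of_isPullback_field R R' z z' e h

theorem dim_eq_of_isPullback_onePoint {Y Y' T T' : Scheme.{u}} (g : Y ⟶ T) (g' : Y' ⟶ T')
    (e : Y' ⟶ Y) (h : T' ⟶ T) [IsIntegral T] [Subsingleton T] [IsIntegral T'] [Subsingleton T']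
    [LocallyOfFiniteType g] (hpb : IsPullback e g' g h) :
    topologicalKrullDim Y' = topologicalKrullDim Y := by
  have sq : IsPullback h T'.isoSpec.hom T.isoSpec.hom (Spec.map h.appTop) :=
    IsPullback.of_vert_isIso ⟨(Scheme.isoSpec_hom_naturality h).symm⟩
  exact dim_eq_of_isPullback_isField (isField_of_isIntegral_of_subsingleton T)
    (isField_of_isIntegral_of_subsingleton T') h.appTop (g ≫ T.isoSpec.hom)
    (g' ≫ T'.isoSpec.hom) e (hpb.paste_vert sq)


theorem succ_le_iff_not_le (v : WithBot ℕ∞) (k : ℕ) :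
    ((k + 1 : ℕ) : WithBot ℕ∞) ≤ v ↔ ¬ v ≤ (k : WithBot ℕ∞) := by
  rw [not_le]
  induction v using WithBot.recBotCoe with
  | bot => simp
  | coe w =>
    have h1 : ((k + 1 : ℕ) : WithBot ℕ∞) = ((((k : ℕ) : ℕ∞) + 1 : ℕ∞) : WithBot ℕ∞) := by
      push_cast; rfl
    have h2 : ((k : ℕ) : WithBot ℕ∞) = (((k : ℕ) : ℕ∞) : WithBot ℕ∞) := rfl
    rw [h1, h2, WithBot.coe_le_coe, WithBot.coe_lt_coe]
    exact ENat.add_one_le_iff (ENat.natCast_ne_top k)

theorem isClosed_setOf_le_fibreDimAt {X S : Scheme.{u}} (u : X ⟶ S) [LocallyOfFiniteType u]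
    (n : ℕ) : IsClosed {x : X | (n : WithBot ℕ∞) ≤ FlatMor.fibreDimAt u x} := by
  rcases n with _ | k
  · convert isClosed_univ
    ext x
    simp only [Set.mem_ofPred_eq, Set.mem_univ, iff_true]
    exact Groth.Agent.Lib.Helper7.TopDim.localDim_nonneg _
  · have : {x : X | ((k + 1 : ℕ) : WithBot ℕ∞) ≤ FlatMor.fibreDimAt u x} =
        {x : X | FlatMor.fibreDimAt u x ≤ (k : WithBot ℕ∞)}ᶜ := by
      ext x
      exact succ_le_iff_not_le _ k
    rw [this]
    exact (Groth.Agent.S0402.result u k).isClosed_compl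

/-- a constructible set containing the generic point is a neighbourhood of it. -/
theorem genericPoint_mem_interior {X : Type*} [TopologicalSpace X] [IrreducibleSpace X]
    [QuasiSober X]
    {C : Set X} (hC : IsConstructible C) (h : genericPoint X ∈ C) :
    genericPoint X ∈ interior C := by
  rcases interior_nonempty_or_of_isConstructible hC with h1 | h1
  · exact ((genericPoint_spec X).mem_open_set_iff isOpen_interior).mpr (by
      rw [Set.univ_inter]; exact h1)
  · have : genericPoint X ∈ interior Cᶜ :=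
      ((genericPoint_spec X).mem_open_set_iff isOpen_interior).mpr (by
        rw [Set.univ_inter]; exact h1)
    exact absurd h (interior_subset this)

theorem isCons_dim_mem (Φ : Set (WithBot ℕ∞)) :
    ConsProp.IsCons (fun Y T g => topologicalKrullDim ↥Y ∈ Φ) := by
  refine ⟨?_, ?_⟩
  · intro Y Y' T T' g g' e h _ _ _ _ _ _ hpb
    show topologicalKrullDim ↥Y ∈ Φ ↔ topologicalKrullDim ↥Y' ∈ Φ
    rw [dim_eq_of_isPullback_onePoint g g' e h hpb]
  · intro X S u _ _ _ _
    haveI : IsLocallyNoetherian X := LocallyOfFiniteType.isLocallyNoetherian u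
    haveI : CompactSpace X := QuasiCompact.compactSpace_of_compactSpace u
    haveI : IsNoetherian X := { }
    -- the level sets
    let A : ℕ → Set X := fun n => {x : X | (n : WithBot ℕ∞) ≤ FlatMor.fibreDimAt u x}
    have hT : ∀ n, IsConstructible (u '' A n) := fun n =>
      u.isConstructible_image (Groth.Agent.Lib.Helper2.Constr.isConstructible_of_isClosed
        (isClosed_setOf_le_fibreDimAt u n))
    have hmem : ∀ (s : S) (n : ℕ), (n : WithBot ℕ∞) ≤ topologicalKrullDim ↥(u.fiber s) ↔
        s ∈ u '' A n := fun s n => natCast_le_fibre_dim_iff u s n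
    let η := genericPoint S
    -- a constructible set containing `η` on which the fibre dimension is constant
    obtain ⟨C, hC, hηC, hconst⟩ : ∃ C : Set S, IsConstructible C ∧ η ∈ C ∧
        ∀ s ∈ C, topologicalKrullDim ↥(u.fiber s) = topologicalKrullDim ↥(u.fiber η) := by
      have hfin := fibre_dim_lt_top u η
      generalize hd : topologicalKrullDim ↥(u.fiber η) = d at hfin
      induction d using WithBot.recBotCoe with
      | bot =>
        refine ⟨(u '' A 0)ᶜ, isConstructible_compl.mpr (hT 0), ?_, ?_⟩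
        · intro h0
          have := (hmem η 0).mpr h0
          rw [hd] at this
          simp at this
        · intro s hs
          have h1 : ¬ ((0 : ℕ) : WithBot ℕ∞) ≤ topologicalKrullDim ↥(u.fiber s) :=
            fun h => hs ((hmem s 0).mp h)
          rw [not_le] at h1
          have : topologicalKrullDim ↥(u.fiber s) < (0 : WithBot ℕ∞) := by simpa using h1
          exact (WithBot.lt_coe_bot.mp this)
      | coe w =>
        have hw : w ≠ ⊤ := by
          rintro rfl
          exact lt_irrefl _ hfin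
        obtain ⟨n, rfl⟩ := ENat.ne_top_iff_exists.mp hw
        refine ⟨u '' A n \ u '' A (n + 1), (hT n).sdiff (hT (n + 1)), ⟨?_, ?_⟩, ?_⟩
        · exact (hmem η n).mp (by rw [hd]; rfl)
        · intro h1
          have := (hmem η (n + 1)).mpr h1
          rw [hd, succ_le_iff_not_le] at this
          exact this le_rfl
        · rintro s ⟨h1, h2⟩
          have h3 := (hmem s n).mpr h1
          have h4 : ¬ ((n + 1 : ℕ) : WithBot ℕ∞) ≤ topologicalKrullDim ↥(u.fiber s) :=
            fun h => h2 ((hmem s (n + 1)).mp h)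
          rw [succ_le_iff_not_le, not_not] at h4
          exact le_antisymm h4 h3
    have hint := genericPoint_mem_interior hC hηC
    by_cases hΦ : topologicalKrullDim ↥(u.fiber η) ∈ Φ
    · left
      refine ⟨η, interior_mono ?_ hint⟩
      intro s hs
      show topologicalKrullDim ↥(u.fiber s) ∈ Φ
      rw [hconst s hs]; exact hΦ
    · right
      refine ⟨η, interior_mono ?_ hint⟩
      intro s hs h
      apply hΦ
      rw [← hconst s hs]; exact h

end Groth.Agent.Lib.Helper3.DimCons
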