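import Mathlib
import Groth.Agent.Lib.Helper6SmReg
import Groth.Agent.Lib.Helper5RLR

set_option autoImplicit false
universe u

namespace Groth.Agent.Lib.Helper6.OmProj

open IsLocalRing TensorProduct KaehlerDifferential

/-- A local ring, essentially of finite type and formally smooth over a field, is regular. -/
theorem isRegularLocalRing_of_formallySmooth {k B : Type u} [Field k] [CommRing B] [IsLocalRing B]
    [Algebra k B] [Algebra.EssFiniteType k B] [Algebra.FormallySmooth k B] :
    IsRegularLocalRing B := by
  let B₁ := Algebra.EssFiniteType.subalgebra k B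
  let q₁ : Ideal B₁ := (maximalIdeal B).comap (algebraMap B₁ B)
  haveI : q₁.IsPrime := Ideal.comap_isPrime _ _
  haveI hloc : IsLocalization q₁.primeCompl B := by
    have : q₁.primeCompl = Algebra.EssFiniteType.submonoid k B := by
      ext x
      simp only [Ideal.primeCompl, Algebra.EssFiniteType.submonoid, Submonoid.mem_comap,
        IsUnit.mem_submonoid_iff]
      change x ∉ q₁ ↔ _
      rw [Ideal.mem_comap, mem_maximalIdeal, mem_nonunits_iff, not_not]
    rw [this]
    infer_instance
  haveI : Algebra.FinitePresentation k B₁ :=
    (Algebra.FinitePresentation.of_finiteType (R := k) (A := B₁)).mp inferInstance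
  let e : Localization.AtPrime q₁ ≃ₐ[B₁] B := IsLocalization.algEquiv q₁.primeCompl _ _
  haveI : Algebra.IsSmoothAt k q₁ :=
    Algebra.FormallySmooth.of_equiv (e.restrictScalars k).symm
  haveI : IsRegularLocalRing (Localization.AtPrime q₁) :=
    Groth.Agent.Lib.Helper6.SmReg.isRegularLocalRing_of_isSmoothAt (R := k) q₁
  exact IsRegularLocalRing.of_ringEquiv e.toRingEquiv

/-- A local ring, essentially of finite type and formally smooth over a field, is a domain. -/
theorem isDomain_of_formallySmooth {k B : Type u} [Field k] [CommRing B] [IsLocalRing B]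
    [Algebra k B] [Algebra.EssFiniteType k B] [Algebra.FormallySmooth k B] :
    IsDomain B := by
  haveI := isRegularLocalRing_of_formallySmooth (k := k) (B := B)
  exact Groth.Agent.Lib.Helper5.isDomain_of_isRegularLocalRing B

end Groth.Agent.Lib.Helper6.OmProj
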