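import Mathlib

set_option autoImplicit false
universe u
open CategoryTheory CategoryTheory.Limits AlgebraicGeometry TopologicalSpace

namespace Groth.Agent.Lib.Helper6.LocLift

open IsLocalRing

/-- a morphism from a local spectrum with closed point going to `y` factors through `Spec O_y` -/
theorem exists_stalk_hom {Y : Scheme.{u}} (B : CommRingCat.{u}) [IsLocalRing B]
    (β : Spec B ⟶ Y) (y : Y) (hy : β (closedPoint B) = y) :
    ∃ b : Y.presheaf.stalk y ⟶ B, IsLocalHom b.hom ∧ Spec.map b ≫ Y.fromSpecStalk y = β := by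
  subst hy
  exact ⟨Scheme.stalkClosedPointTo β, inferInstance, Scheme.Spec_stalkClosedPointTo_fromSpecStalk β⟩

/-- uniqueness of the factorization -/
theorem stalk_hom_ext {Y : Scheme.{u}} (B : CommRingCat.{u}) [IsLocalRing B] (y : Y)
    (b₁ b₂ : Y.presheaf.stalk y ⟶ B) [h₁ : IsLocalHom b₁.hom] [h₂ : IsLocalHom b₂.hom]
    (h : Spec.map b₁ ≫ Y.fromSpecStalk y = Spec.map b₂ ≫ Y.fromSpecStalk y) : b₁ = b₂ := by
  have := (SpecToEquivOfLocalRing Y B).symm.injective
    (a₁ := ⟨y, b₁, h₁⟩) (a₂ := ⟨y, b₂, h₂⟩) h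
  rw [SpecToEquivOfLocalRing_eq_iff] at this
  obtain ⟨_, h2⟩ := this
  simpa using h2

end Groth.Agent.Lib.Helper6.LocLift

namespace Groth.Agent.Lib.Helper6.LocLift

open IsLocalRing

/-- (⇒) of the infinitesimal lifting criterion at a point. -/
theorem lift_of_formallySmooth {X Y : Scheme.{u}} (f : X ⟶ Y) (x : X)
    (hx : (f.stalkMap x).hom.FormallySmooth)
    (B B' : Type u) [CommRing B] [CommRing B'] [IsLocalRing B] [IsLocalRing B'] (φ : B' →+* B)
    (hφ : Function.Surjective φ) (hker : RingHom.ker φ ^ 2 = ⊥)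
    (α : Spec (CommRingCat.of B) ⟶ X) (β : Spec (CommRingCat.of B') ⟶ Y)
    (hα : α.base (IsLocalRing.closedPoint B) = x)
    (hsq : Spec.map (CommRingCat.ofHom φ) ≫ β = α ≫ f) :
    ∃ γ : Spec (CommRingCat.of B') ⟶ X, Spec.map (CommRingCat.ofHom φ) ≫ γ = α ∧ γ ≫ f = β := by
  haveI hφloc : IsLocalHom φ := IsLocalHom.of_surjective _ hφ
  haveI : IsLocalHom (CommRingCat.ofHom φ).hom := hφloc
  obtain ⟨a, ha_loc, ha⟩ := exists_stalk_hom (CommRingCat.of B) α x hα
  have hβ : β (closedPoint B') = f x := by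
    have h1 : (Spec.map (CommRingCat.ofHom φ)) (closedPoint B) = closedPoint B' :=
      Spec_closedPoint (f := CommRingCat.ofHom φ)
    have h2 := congrArg (fun g => g (closedPoint B)) hsq
    simp only [Scheme.Hom.comp_apply] at h2
    rw [h1] at h2
    rw [h2]
    exact congrArg f hα
  obtain ⟨b, hb_loc, hb⟩ := exists_stalk_hom (CommRingCat.of B') β (f x) hβ
  -- compatibility
  have hcompat : b ≫ CommRingCat.ofHom φ = f.stalkMap x ≫ a := by
    haveI : IsLocalHom (b ≫ CommRingCat.ofHom φ).hom := by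
      rw [CommRingCat.hom_comp]; infer_instance
    haveI : IsLocalHom (f.stalkMap x ≫ a).hom := by
      rw [CommRingCat.hom_comp]; infer_instance
    apply stalk_hom_ext (CommRingCat.of B) (f x)
    rw [Spec.map_comp, Category.assoc, hb, hsq, ← ha, Spec.map_comp, Category.assoc,
      Category.assoc, Scheme.SpecMap_stalkMap_fromSpecStalk]
  -- algebra structures
  algebraize [(f.stalkMap x).hom, b.hom, (b ≫ CommRingCat.ofHom φ).hom]
  haveI : Algebra.FormallySmooth (Y.presheaf.stalk (f x)) (X.presheaf.stalk x) := hx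
  let φa : B' →ₐ[Y.presheaf.stalk (f x)] B := ⟨φ, fun r => rfl⟩
  let aa : X.presheaf.stalk x →ₐ[Y.presheaf.stalk (f x)] B :=
    ⟨a.hom, fun r => by
      have := congrArg (fun g => g.hom r) hcompat
      exact this.symm⟩
  have hφnil : IsNilpotent (RingHom.ker (φa : B' →+* B)) := ⟨2, hker⟩
  let ã := Algebra.FormallySmooth.liftOfSurjective aa φa hφ hφnil
  have hã : ∀ s, φ (ã s) = a.hom s := fun s =>
    Algebra.FormallySmooth.liftOfSurjective_apply aa φa hφ hφnil s
  refine ⟨Spec.map (CommRingCat.ofHom ã.toRingHom) ≫ X.fromSpecStalk x, ?_, ?_⟩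
  · rw [← Category.assoc, ← Spec.map_comp, ← ha]
    congr 2
    ext s
    exact hã s
  · rw [Category.assoc, ← Scheme.SpecMap_stalkMap_fromSpecStalk, ← Category.assoc,
      ← Spec.map_comp, ← hb]
    congr 2
    ext r
    exact ã.commutes r

end Groth.Agent.Lib.Helper6.LocLift
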