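import Mathlib
import Groth.Agent.Lib.Helper6LocLift

set_option autoImplicit false
universe u
open CategoryTheory CategoryTheory.Limits AlgebraicGeometry TopologicalSpace

namespace Groth.Agent.Lib.Helper6.UnrLift

open IsLocalRing

variable {X Y : Scheme.{u}}

lemma mem_primeIdealOf_iff {X : Scheme.{u}} {U : X.Opens} (hU : IsAffineOpen U) (x : U)
    (g : Γ(X, U)) : g ∈ (hU.primeIdealOf x).asIdeal ↔ (x : X) ∉ X.basicOpen g := by
  rw [← hU.fromSpec_primeIdealOf x, ← Scheme.Hom.mem_preimage, hU.fromSpec_preimage_basicOpen]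
  change g ∈ _ ↔ ¬ (g ∉ (hU.primeIdealOf x).asIdeal)
  exact not_not.symm

lemma formallyUnramified_stalkMap_iff {f : X ⟶ Y} {x : X} (U : Y.Opens)
      (hU : IsAffineOpen U) (V : X.Opens) (hV : IsAffineOpen V) (hVU : V ≤ f ⁻¹ᵁ U)
      (hx : x ∈ V) :
    letI := (f.appLE U V hVU).hom.toAlgebra
    (f.stalkMap x).hom.FormallyUnramified ↔
      hV.primeIdealOf ⟨x, hx⟩ ∈ Algebra.unramifiedLocus Γ(Y, U) Γ(X, V) := by
  let := (f.appLE U V hVU).hom.toAlgebra
  let p := (hU.primeIdealOf ⟨f x, hVU hx⟩).asIdeal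
  let q := (hV.primeIdealOf ⟨x, hx⟩).asIdeal
  have : q.LiesOver p :=
    ⟨congr($(IsAffineOpen.comap_primeIdealOf_appLE U hU V hV hVU hx).1).symm⟩
  let := Localization.AtPrime.algebraOfLiesOver p q
  trans Algebra.FormallyUnramified (Localization.AtPrime p) (Localization.AtPrime q)
  · rw [← RingHom.formallyUnramified_algebraMap]
    exact RingHom.FormallyUnramified.respectsIso.arrow_mk_iso_iff
      (IsAffineOpen.arrowStalkMapIso f U hU V hV hVU hx)
  · constructor
    · intro h
      exact Algebra.FormallyUnramified.comp Γ(Y, U) (Localization.AtPrime p) _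
    · intro h
      haveI : Algebra.FormallyUnramified Γ(Y, U) (Localization.AtPrime q) := h
      exact Algebra.FormallyUnramified.of_restrictScalars Γ(Y, U) _ _

/-- Unramified at a point ⇒ unramified on an open neighbourhood. -/
theorem exists_open_formallyUnramified (f : X ⟶ Y) [LocallyOfFiniteType f] (x : X)
    (H : (f.stalkMap x).hom.FormallyUnramified) :
    ∃ W : X.Opens, x ∈ W ∧ FormallyUnramified (W.ι ≫ f) := by
  obtain ⟨_, ⟨U, hU, rfl⟩, hxU, -⟩ :=
    Y.isBasis_affineOpens.exists_subset_of_mem_open (Set.mem_univ (f x)) isOpen_univ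
  obtain ⟨_, ⟨V, hV, rfl⟩, hxV, hVU⟩ :=
    X.isBasis_affineOpens.exists_subset_of_mem_open hxU (U.2.preimage f.continuous)
  have hft := f.finiteType_appLE hU hV hVU
  algebraize [(f.appLE U V hVU).hom]
  have het : Algebra.IsUnramifiedAt Γ(Y, U) (hV.primeIdealOf ⟨x, hxV⟩).asIdeal :=
    (formallyUnramified_stalkMap_iff U hU V hV hVU hxV).mp H
  obtain ⟨r, hrx, hr⟩ := Algebra.exists_formallyUnramified_of_isUnramifiedAt (R := Γ(Y, U))
    (hV.primeIdealOf ⟨x, hxV⟩).asIdeal
  have hW : IsAffineOpen (X.basicOpen r) := hV.basicOpen r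
  have hWU : X.basicOpen r ≤ f ⁻¹ᵁ U := (X.basicOpen_le r).trans hVU
  refine ⟨X.basicOpen r, ?_, ?_⟩
  · by_contra hcon
    exact hrx ((mem_primeIdealOf_iff hV ⟨x, hxV⟩ r).mpr hcon)
  · have hE : (f.appLE U (X.basicOpen r) hWU).hom.FormallyUnramified := by
      have := hV.isLocalization_basicOpen r
      rw [← RingHom.formallyUnramified_algebraMap] at hr
      convert!
        RingHom.FormallyUnramified.respectsIso.1 _
          (IsLocalization.algEquiv (.powers r) _ Γ(X, X.basicOpen r)).toRingEquiv hr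
      ext a
      dsimp
      simp only [IsScalarTower.algebraMap_apply Γ(Y, U) Γ(X, V) (Localization _)]
      rw [AlgEquiv.commutes]
      simp only [RingHom.algebraMap_toAlgebra, ← ConcreteCategory.comp_apply,
        Scheme.Hom.appLE_map]
    have h2 : (X.basicOpen r).ι ≫ f = f.resLE U (X.basicOpen r) hWU ≫ Scheme.Opens.ι U := by
      simp
    rw [h2]
    have : IsAffine (Scheme.Opens.toScheme U) := hU
    have : IsAffine (X.basicOpen r).toScheme := hW
    have h3 : FormallyUnramified (f.resLE U (X.basicOpen r) hWU) := by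
      rw [HasRingHomProperty.iff_of_isAffine (P := @FormallyUnramified)]
      exact (RingHom.FormallyUnramified.respectsIso.arrow_mk_iso_iff
        (arrowResLEAppIso f U (X.basicOpen r) hWU)).mpr hE
    exact MorphismProperty.comp_mem _ _ _ h3 inferInstance

/-- From unramified on an open neighbourhood to the stalk. -/
theorem stalkMap_of_open (f : X ⟶ Y) (x : X) (U : X.Opens) (hxU : x ∈ U)
    [FormallyUnramified (U.ι ≫ f)] : (f.stalkMap x).hom.FormallyUnramified := by
  have h1 := FormallyUnramified.stalkMap (U.ι ≫ f) ⟨x, hxU⟩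
  rw [Scheme.Hom.stalkMap_comp] at h1
  exact (RingHom.FormallyUnramified.respectsIso.cancel_right_isIso
    (f.stalkMap (U.ι ⟨x, hxU⟩)) (U.ι.stalkMap ⟨x, hxU⟩)).mp h1

/-- A ring surjecting onto a local ring with square-zero kernel is local. -/
theorem isLocalRing_of_surjective_of_sq_zero {B' B : Type*} [CommRing B'] [CommRing B]
    [IsLocalRing B] (φ : B' →+* B) (hφ : Function.Surjective φ) (hker : RingHom.ker φ ^ 2 = ⊥) :
    IsLocalRing B' := by
  haveI : IsLocalHom φ := by
    constructor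
    intro b hb
    obtain ⟨c, hc⟩ := hφ (hb.unit⁻¹ : Bˣ)
    have h1 : b * c - 1 ∈ RingHom.ker φ := by
      rw [RingHom.mem_ker, map_sub, map_mul, hc, map_one]
      simp
    have h2 : IsNilpotent (b * c - 1) := by
      refine ⟨2, ?_⟩
      have : (b * c - 1) ^ 2 ∈ RingHom.ker φ ^ 2 := Ideal.pow_mem_pow h1 2
      rwa [hker] at this
    have h3 : IsUnit (b * c) := by
      have := h2.isUnit_add_one
      simpa using this
    exact isUnit_of_mul_isUnit_left h3
  exact RingHom.domain_isLocalRing φ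

/-- (⇒): uniqueness of lifts from a formally unramified stalk map. -/
theorem lift_unique_of_formallyUnramified (f : X ⟶ Y) (x : X)
    (hx : (f.stalkMap x).hom.FormallyUnramified)
    (B B' : Type u) [CommRing B] [CommRing B'] [IsLocalRing B] [IsLocalRing B'] (φ : B' →+* B)
    (hφ : Function.Surjective φ) (hker : RingHom.ker φ ^ 2 = ⊥)
    (α : Spec (CommRingCat.of B) ⟶ X) (β : Spec (CommRingCat.of B') ⟶ Y)
    (hα : α.base (IsLocalRing.closedPoint B) = x)
    (γ₁ γ₂ : Spec (CommRingCat.of B') ⟶ X)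
    (h₁ : Spec.map (CommRingCat.ofHom φ) ≫ γ₁ = α) (h₁' : γ₁ ≫ f = β)
    (h₂ : Spec.map (CommRingCat.ofHom φ) ≫ γ₂ = α) (h₂' : γ₂ ≫ f = β) : γ₁ = γ₂ := by
  haveI hφloc : IsLocalHom φ := IsLocalHom.of_surjective _ hφ
  haveI : IsLocalHom (CommRingCat.ofHom φ).hom := hφloc
  have hcp : (Spec.map (CommRingCat.ofHom φ)) (closedPoint B) = closedPoint B' :=
    Spec_closedPoint (f := CommRingCat.ofHom φ)
  have hγ₁ : γ₁ (closedPoint B') = x := by
    rw [← hcp, ← Scheme.Hom.comp_apply, h₁]; exact hα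
  have hγ₂ : γ₂ (closedPoint B') = x := by
    rw [← hcp, ← Scheme.Hom.comp_apply, h₂]; exact hα
  obtain ⟨c₁, hc₁_loc, hc₁⟩ := LocLift.exists_stalk_hom (CommRingCat.of B') γ₁ x hγ₁
  obtain ⟨c₂, hc₂_loc, hc₂⟩ := LocLift.exists_stalk_hom (CommRingCat.of B') γ₂ x hγ₂
  have e1 : c₁ ≫ CommRingCat.ofHom φ = c₂ ≫ CommRingCat.ofHom φ := by
    haveI : IsLocalHom (c₁ ≫ CommRingCat.ofHom φ).hom := by
      rw [CommRingCat.hom_comp]; infer_instance
    haveI : IsLocalHom (c₂ ≫ CommRingCat.ofHom φ).hom := by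
      rw [CommRingCat.hom_comp]; infer_instance
    apply LocLift.stalk_hom_ext (CommRingCat.of B) x
    rw [Spec.map_comp, Category.assoc, hc₁, h₁, Spec.map_comp, Category.assoc, hc₂, h₂]
  have e2 : f.stalkMap x ≫ c₁ = f.stalkMap x ≫ c₂ := by
    haveI : IsLocalHom (f.stalkMap x ≫ c₁).hom := by
      rw [CommRingCat.hom_comp]; infer_instance
    haveI : IsLocalHom (f.stalkMap x ≫ c₂).hom := by
      rw [CommRingCat.hom_comp]; infer_instance
    apply LocLift.stalk_hom_ext (CommRingCat.of B') (f x)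
    rw [Spec.map_comp, Category.assoc, Scheme.SpecMap_stalkMap_fromSpecStalk, ← Category.assoc,
      hc₁, h₁', Spec.map_comp, Category.assoc, Scheme.SpecMap_stalkMap_fromSpecStalk,
      ← Category.assoc, hc₂, h₂']
  algebraize [(f.stalkMap x).hom, (f.stalkMap x ≫ c₁).hom]
  haveI : Algebra.FormallyUnramified (Y.presheaf.stalk (f x)) (X.presheaf.stalk x) := hx
  let g₁ : X.presheaf.stalk x →ₐ[Y.presheaf.stalk (f x)] B' := ⟨c₁.hom, fun r => rfl⟩
  let g₂ : X.presheaf.stalk x →ₐ[Y.presheaf.stalk (f x)] B' :=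
    ⟨c₂.hom, fun r => (congrArg (fun t => t.hom r) e2).symm⟩
  have hg : g₁ = g₂ := Algebra.FormallyUnramified.ext (RingHom.ker φ) ⟨2, hker⟩ (fun s => by
    rw [Ideal.Quotient.eq, RingHom.mem_ker, map_sub, sub_eq_zero]
    exact congrArg (fun t => t.hom s) e1)
  have hc : c₁ = c₂ := by
    ext s
    exact congrArg (fun g => g s) hg
  rw [← hc₁, ← hc₂, hc]

open TensorProduct in
/-- (⇐): uniqueness of lifts for local square-zero thickenings forces the stalk map to be
formally unramified. -/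
theorem formallyUnramified_of_lift_unique (f : X ⟶ Y) (x : X)
    (H : ∀ (B B' : Type u) [CommRing B] [CommRing B'] [IsLocalRing B] [IsLocalRing B']
      (φ : B' →+* B), Function.Surjective φ → RingHom.ker φ ^ 2 = ⊥ →
      ∀ (α : Spec (CommRingCat.of B) ⟶ X) (β : Spec (CommRingCat.of B') ⟶ Y),
        α.base (IsLocalRing.closedPoint B) = x → Spec.map (CommRingCat.ofHom φ) ≫ β = α ≫ f →
        ∀ γ₁ γ₂ : Spec (CommRingCat.of B') ⟶ X,
          Spec.map (CommRingCat.ofHom φ) ≫ γ₁ = α → γ₁ ≫ f = β →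
          Spec.map (CommRingCat.ofHom φ) ≫ γ₂ = α → γ₂ ≫ f = β → γ₁ = γ₂) :
    (f.stalkMap x).hom.FormallyUnramified := by
  algebraize [(f.stalkMap x).hom]
  change Algebra.FormallyUnramified (Y.presheaf.stalk (f x)) (X.presheaf.stalk x)
  constructor
  by_contra! h
  obtain ⟨f₁, f₂, e⟩ := (KaehlerDifferential.endEquiv (Y.presheaf.stalk (f x))
    (X.presheaf.stalk x)).injective.nontrivial
  apply e
  ext1
  let L := Algebra.TensorProduct.lmul' (Y.presheaf.stalk (f x)) (S := X.presheaf.stalk x)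
  let φ : ((X.presheaf.stalk x ⊗[Y.presheaf.stalk (f x)] X.presheaf.stalk x) ⧸
      RingHom.ker L.toRingHom ^ 2) →ₐ[Y.presheaf.stalk (f x)] X.presheaf.stalk x :=
    L.kerSquareLift
  have hLsurj : Function.Surjective L := fun s => ⟨s ⊗ₜ 1, by simp [L]⟩
  have hφsurj : Function.Surjective φ.toRingHom := by
    intro s
    obtain ⟨p, rfl⟩ := hLsurj s
    exact ⟨Ideal.Quotient.mk _ p, rfl⟩
  have hker : RingHom.ker φ.toRingHom ^ 2 = ⊥ := by
    rw [AlgHom.ker_kerSquareLift, Ideal.cotangentIdeal_square]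
  haveI : IsLocalRing ((X.presheaf.stalk x ⊗[Y.presheaf.stalk (f x)] X.presheaf.stalk x) ⧸
      RingHom.ker L.toRingHom ^ 2) :=
    isLocalRing_of_surjective_of_sq_zero φ.toRingHom hφsurj hker
  haveI hφloc : IsLocalHom φ.toRingHom := IsLocalHom.of_surjective _ hφsurj
  haveI : IsLocalHom (CommRingCat.ofHom φ.toRingHom).hom := hφloc
  let α : Spec (CommRingCat.of (X.presheaf.stalk x)) ⟶ X := X.fromSpecStalk x
  let β : Spec (CommRingCat.of ((X.presheaf.stalk x ⊗[Y.presheaf.stalk (f x)]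
      X.presheaf.stalk x) ⧸ RingHom.ker L.toRingHom ^ 2)) ⟶ Y :=
    Spec.map (CommRingCat.ofHom (algebraMap (Y.presheaf.stalk (f x))
      ((X.presheaf.stalk x ⊗[Y.presheaf.stalk (f x)] X.presheaf.stalk x) ⧸
        RingHom.ker L.toRingHom ^ 2))) ≫ Y.fromSpecStalk (f x)
  have hα : α (closedPoint (X.presheaf.stalk x)) = x := Scheme.fromSpecStalk_closedPoint
  have hcomp : CommRingCat.ofHom (algebraMap (Y.presheaf.stalk (f x))
      ((X.presheaf.stalk x ⊗[Y.presheaf.stalk (f x)] X.presheaf.stalk x) ⧸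
        RingHom.ker L.toRingHom ^ 2)) ≫ CommRingCat.ofHom φ.toRingHom = f.stalkMap x := by
    ext r
    exact φ.commutes r
  have hsq : Spec.map (CommRingCat.ofHom φ.toRingHom) ≫ β = α ≫ f := by
    simp only [α, β]
    rw [← Category.assoc, ← Spec.map_comp, hcomp, Scheme.SpecMap_stalkMap_fromSpecStalk]
  -- the two lifts
  have key : ∀ g : { g // φ.comp g = AlgHom.id (Y.presheaf.stalk (f x)) (X.presheaf.stalk x) },
      Spec.map (CommRingCat.ofHom φ.toRingHom) ≫
        (Spec.map (CommRingCat.ofHom g.1.toRingHom) ≫ X.fromSpecStalk x) = α ∧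
      (Spec.map (CommRingCat.ofHom g.1.toRingHom) ≫ X.fromSpecStalk x) ≫ f = β := by
    rintro ⟨g, hg⟩
    constructor
    · rw [← Category.assoc, ← Spec.map_comp]
      have : CommRingCat.ofHom g.toRingHom ≫ CommRingCat.ofHom φ.toRingHom =
          𝟙 (X.presheaf.stalk x) := by
        ext s
        exact congrArg (fun t => t s) hg
      rw [this]
      erw [Spec.map_id]
      exact Category.id_comp _
    · rw [Category.assoc, ← Scheme.SpecMap_stalkMap_fromSpecStalk, ← Category.assoc,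
        ← Spec.map_comp]
      simp only [β]
      congr 2
      ext r
      exact g.commutes r
  have hγ := H (X.presheaf.stalk x) _ φ.toRingHom hφsurj hker α β hα hsq _ _
    (key f₁).1 (key f₁).2 (key f₂).1 (key f₂).2
  -- local homs
  have hloc : ∀ g : { g // φ.comp g = AlgHom.id (Y.presheaf.stalk (f x)) (X.presheaf.stalk x) },
      IsLocalHom (CommRingCat.ofHom g.1.toRingHom).hom := by
    rintro ⟨g, hg⟩
    constructor
    intro s hs
    have h1 : IsUnit (φ (g s)) := hs.map φ
    have h2 : φ (g s) = s := congrArg (fun t => t s) hg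
    rwa [h2] at h1
  haveI := hloc f₁
  haveI := hloc f₂
  have hc := LocLift.stalk_hom_ext (CommRingCat.of _) x (CommRingCat.ofHom f₁.1.toRingHom)
    (CommRingCat.ofHom f₂.1.toRingHom) hγ
  ext s
  exact congrArg (fun t => t.hom s) hc

end Groth.Agent.Lib.Helper6.UnrLift
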