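import Mathlib
import Groth.Agent.Lib.Helper6UnrLift

set_option autoImplicit false
universe u
open CategoryTheory CategoryTheory.Limits AlgebraicGeometry TopologicalSpace

namespace Groth.Agent.Lib.Helper6.UnrFibre

open IsLocalRing

/-- the comparison `S ⧸ 𝔪_R S ≃ κ(S)` as an algebra isomorphism over `κ(R)` -/
noncomputable def quotEquiv {R S : Type u} [CommRing R] [CommRing S] [IsLocalRing R] [IsLocalRing S]
    [Algebra R S] [IsLocalHom (algebraMap R S)]
    (H : (maximalIdeal R).map (algebraMap R S) = maximalIdeal S) :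
    letI : Algebra (ResidueField R) (S ⧸ (maximalIdeal R).map (algebraMap R S)) :=
      (Ideal.quotientMap ((maximalIdeal R).map (algebraMap R S)) (algebraMap R S)
        Ideal.le_comap_map).toAlgebra
    (S ⧸ (maximalIdeal R).map (algebraMap R S)) ≃ₐ[ResidueField R] ResidueField S :=
  letI : Algebra (ResidueField R) (S ⧸ (maximalIdeal R).map (algebraMap R S)) :=
    (Ideal.quotientMap ((maximalIdeal R).map (algebraMap R S)) (algebraMap R S)
      Ideal.le_comap_map).toAlgebra
  AlgEquiv.ofRingEquiv (f := Ideal.quotEquivOfEq H) (by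
    intro a
    obtain ⟨r, rfl⟩ := Ideal.Quotient.mk_surjective a
    rfl)

theorem formallyUnramified_iff_fibre {R S : Type u} [CommRing R] [CommRing S] [IsLocalRing R]
    [IsLocalRing S] (φ : R →+* S) [hloc : IsLocalHom φ] (hφ : φ.EssFiniteType) :
    φ.FormallyUnramified ↔
      letI 𝔪 := IsLocalRing.maximalIdeal R
      letI := (Ideal.quotientMap (𝔪.map φ) φ Ideal.le_comap_map).toAlgebra
      IsField (S ⧸ 𝔪.map φ) ∧ Module.Finite (R ⧸ 𝔪) (S ⧸ 𝔪.map φ) ∧
        Algebra.IsSeparable (R ⧸ 𝔪) (S ⧸ 𝔪.map φ) := by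
  algebraize [φ]
  haveI : IsLocalHom (algebraMap R S) := hloc
  letI alg : Algebra (ResidueField R) (S ⧸ (maximalIdeal R).map (algebraMap R S)) :=
    (Ideal.quotientMap ((maximalIdeal R).map (algebraMap R S)) (algebraMap R S)
      Ideal.le_comap_map).toAlgebra
  change Algebra.FormallyUnramified R S ↔
    IsField (S ⧸ (maximalIdeal R).map (algebraMap R S)) ∧
      Module.Finite (ResidueField R) (S ⧸ (maximalIdeal R).map (algebraMap R S)) ∧
      Algebra.IsSeparable (ResidueField R) (S ⧸ (maximalIdeal R).map (algebraMap R S))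
  constructor
  · intro h
    have H := Algebra.FormallyUnramified.map_maximalIdeal (R := R) (S := S)
    let e := quotEquiv H
    refine ⟨Algebra.FormallyUnramified.isField_quotient_map_maximalIdeal, ?_, ?_⟩
    · exact Module.Finite.equiv e.symm.toLinearEquiv
    · exact AlgEquiv.Algebra.isSeparable e.symm
  · rintro ⟨h1, h2, h3⟩
    have H : (maximalIdeal R).map (algebraMap R S) = maximalIdeal S :=
      eq_maximalIdeal ((Ideal.Quotient.maximal_ideal_iff_isField_quotient _).mpr h1)
    let e := quotEquiv H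
    haveI : Algebra.IsSeparable (ResidueField R) (ResidueField S) :=
      AlgEquiv.Algebra.isSeparable e
    exact Algebra.FormallyUnramified.of_map_maximalIdeal H

/-- formally unramified is a stalkwise property for morphisms locally of finite type -/
theorem formallyUnramified_iff_forall_stalkMap {X Y : Scheme.{u}} (f : X ⟶ Y)
    [LocallyOfFiniteType f] :
    FormallyUnramified f ↔ ∀ x, (f.stalkMap x).hom.FormallyUnramified := by
  constructor
  · intro h x
    exact FormallyUnramified.stalkMap f x
  · intro H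
    choose U hxU hU using fun x => UnrLift.exists_open_formallyUnramified f x (H x)
    refine IsZariskiLocalAtSource.of_iSup_eq_top U ?_ hU
    rw [eq_top_iff]
    intro x _
    exact Opens.mem_iSup.mpr ⟨x, hxU x⟩

theorem etale_iff_flat_and_fibre {X Y : Scheme.{u}} (f : X ⟶ Y)
    [LocallyOfFinitePresentation f] :
    Etale f ↔ Flat f ∧ ∀ x : ↥X,
      letI φ := (f.stalkMap x).hom
      letI 𝔪 := IsLocalRing.maximalIdeal ↑(Y.presheaf.stalk (f.base x))
      letI := (Ideal.quotientMap (𝔪.map φ) φ Ideal.le_comap_map).toAlgebra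
      IsField (↑(X.presheaf.stalk x) ⧸ 𝔪.map φ) ∧
        Module.Finite (↑(Y.presheaf.stalk (f.base x)) ⧸ 𝔪) (↑(X.presheaf.stalk x) ⧸ 𝔪.map φ) ∧
        Algebra.IsSeparable (↑(Y.presheaf.stalk (f.base x)) ⧸ 𝔪)
          (↑(X.presheaf.stalk x) ⧸ 𝔪.map φ) := by
  rw [Etale.iff_flat_and_formallyUnramified]
  constructor
  · rintro ⟨hfl, hun, -⟩
    refine ⟨hfl, fun x => ?_⟩
    exact (formallyUnramified_iff_fibre (f.stalkMap x).hom
      (LocallyOfFiniteType.stalkMap f x)).mp (FormallyUnramified.stalkMap f x)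
  · rintro ⟨hfl, H⟩
    refine ⟨hfl, ?_, inferInstance⟩
    rw [formallyUnramified_iff_forall_stalkMap]
    intro x
    exact (formallyUnramified_iff_fibre (f.stalkMap x).hom
      (LocallyOfFiniteType.stalkMap f x)).mpr (H x)

end Groth.Agent.Lib.Helper6.UnrFibre
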