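import Mathlib
import Groth.Agent.Lib.Helper6UnrFibre
import Groth.Agent.Lib.Helper6OmProjC
import Groth.Agent.Lib.Helper19FSField
import Groth.Agent.Lib.Helper7Cartier2

set_option autoImplicit false
universe u
open CategoryTheory CategoryTheory.Limits AlgebraicGeometry TopologicalSpace

namespace Groth.Agent.Lib.Helper6.SmQF

open IsLocalRing TensorProduct

/-- A formally smooth, essentially finite type, quasi-finite local homomorphism is formally
unramified (hence formally étale). -/
theorem formallyUnramified_of_formallySmooth_of_quasiFinite {R S : Type u} [CommRing R]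
    [CommRing S] [IsLocalRing R] [IsLocalRing S] [Algebra R S] [IsLocalHom (algebraMap R S)]
    [Algebra.FormallySmooth R S] [Algebra.EssFiniteType R S] [Algebra.QuasiFinite R S] :
    Algebra.FormallyUnramified R S := by
  have hle : (maximalIdeal R).map (algebraMap R S) ≤ maximalIdeal S := by
    rw [Ideal.map_le_iff_le_comap, IsLocalRing.maximalIdeal_comap]
  have hne : (maximalIdeal R).map (algebraMap R S) ≠ ⊤ :=
    ne_top_of_le_ne_top (maximalIdeal.isMaximal S).ne_top hle
  haveI : Nontrivial (S ⧸ (maximalIdeal R).map (algebraMap R S)) :=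
    Ideal.Quotient.nontrivial_iff.mpr hne
  haveI : IsLocalRing (S ⧸ (maximalIdeal R).map (algebraMap R S)) :=
    IsLocalRing.of_surjective' (Ideal.Quotient.mk _) Ideal.Quotient.mk_surjective
  letI alg : Algebra (ResidueField R) (S ⧸ (maximalIdeal R).map (algebraMap R S)) :=
    inferInstanceAs (Algebra (R ⧸ maximalIdeal R) (S ⧸ (maximalIdeal R).map (algebraMap R S)))
  let e : (S ⧸ (maximalIdeal R).map (algebraMap R S)) ≃ₐ[ResidueField R]
      (ResidueField R) ⊗[R] S :=
    Algebra.TensorProduct.quotIdealMapEquivQuotTensor S (maximalIdeal R)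
  haveI : Algebra.FormallySmooth (ResidueField R)
      (S ⧸ (maximalIdeal R).map (algebraMap R S)) :=
    Algebra.FormallySmooth.of_equiv e.symm
  haveI : Algebra.EssFiniteType (ResidueField R)
      (S ⧸ (maximalIdeal R).map (algebraMap R S)) :=
    Algebra.EssFiniteType.of_surjective e.symm.toAlgHom e.symm.surjective
  haveI : Module.Finite (ResidueField R) ((ResidueField R) ⊗[R] S) :=
    Module.Finite.of_quasiFinite
  haveI : Module.Finite (ResidueField R) (S ⧸ (maximalIdeal R).map (algebraMap R S)) :=
    Module.Finite.equiv e.symm.toLinearEquiv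
  haveI : IsDomain (S ⧸ (maximalIdeal R).map (algebraMap R S)) :=
    Groth.Agent.Lib.Helper6.OmProj.isDomain_of_formallySmooth (k := ResidueField R)
  haveI : IsArtinianRing (S ⧸ (maximalIdeal R).map (algebraMap R S)) :=
    IsArtinianRing.of_finite (ResidueField R) _
  have hF : IsField (S ⧸ (maximalIdeal R).map (algebraMap R S)) :=
    IsArtinianRing.isField_of_isDomain _
  have H : (maximalIdeal R).map (algebraMap R S) = maximalIdeal S :=
    eq_maximalIdeal ((Ideal.Quotient.maximal_ideal_iff_isField_quotient _).mpr hF)
  let e2 : (S ⧸ (maximalIdeal R).map (algebraMap R S)) ≃ₐ[ResidueField R] ResidueField S :=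
    AlgEquiv.ofRingEquiv (f := Ideal.quotEquivOfEq H) (by
      intro a
      obtain ⟨r, rfl⟩ := residue_surjective a
      rfl)
  haveI : Algebra.FormallySmooth (ResidueField R) (ResidueField S) :=
    Algebra.FormallySmooth.of_equiv e2
  haveI : Module.Finite (ResidueField R) (ResidueField S) :=
    Module.Finite.equiv e2.toLinearEquiv
  haveI : Algebra.IsGeometricallyReduced (ResidueField R) (ResidueField S) :=
    Groth.Agent.Lib.Helper19.PBasis.formallySmooth_field_iff.mp inferInstance
  haveI : Algebra.EssFiniteType R (ResidueField S) := .comp _ S _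
  haveI : Algebra.EssFiniteType (ResidueField R) (ResidueField S) := .of_comp R _ _
  haveI : Algebra.IsSeparable (ResidueField R) (ResidueField S) :=
    Groth.Agent.Lib.Helper7.ExalLib.isSeparable_of_isGeometricallyReduced_of_isAlgebraic
  exact Algebra.FormallyUnramified.of_map_maximalIdeal H

theorem etale_iff_smooth_and_locallyQuasiFinite {X Y : Scheme.{u}} (f : X ⟶ Y) :
    Etale f ↔ Smooth f ∧ LocallyQuasiFinite f := by
  constructor
  · intro h
    refine ⟨inferInstance, ⟨fun {U} hU {V} hV e => ?_⟩⟩
    have h1 := f.etale_appLE hU hV e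
    algebraize [(f.appLE U V e).hom]
    haveI : Algebra.FormallyUnramified Γ(Y, U) Γ(X, V) := inferInstance
    haveI : Algebra.EssFiniteType Γ(Y, U) Γ(X, V) := inferInstance
    exact (inferInstance : Algebra.QuasiFinite Γ(Y, U) Γ(X, V))
  · rintro ⟨hsm, hqf⟩
    rw [Etale.iff_flat_and_formallyUnramified]
    refine ⟨inferInstance, ?_, inferInstance⟩
    rw [UnrFibre.formallyUnramified_iff_forall_stalkMap]
    intro x
    have h1 : (f.stalkMap x).hom.FormallySmooth := by
      rw [← Scheme.Hom.mem_smoothLocus, Scheme.Hom.smoothLocus_eq_top f]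
      trivial
    have h2 := LocallyOfFiniteType.stalkMap f x
    have h3 : (f.stalkMap x).hom.QuasiFinite := f.quasiFiniteAt x
    algebraize [(f.stalkMap x).hom]
    haveI : IsLocalHom (algebraMap (Y.presheaf.stalk (f x)) (X.presheaf.stalk x)) :=
      inferInstanceAs (IsLocalHom (f.stalkMap x).hom)
    exact formallyUnramified_of_formallySmooth_of_quasiFinite

end Groth.Agent.Lib.Helper6.SmQF
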