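import Mathlib
import Groth.Prelude.Def_Flat
import Groth.Agent.Lib.Helper7TopDim
import Groth.Agent.Lib.Helper6SmQF

set_option autoImplicit false
universe u
open CategoryTheory AlgebraicGeometry TopologicalSpace

namespace Groth.Agent.Lib.Helper6.EtDim

section Top

variable {X Y : Type*} [TopologicalSpace X] [TopologicalSpace Y]

/-- a continuous map without specializations inside its fibres does not lower dimension -/
theorem topologicalKrullDim_le_of_fibres [QuasiSober X] [T0Space Y] (f : X → Y)
    (hf : Continuous f) (hfib : ∀ x x' : X, x ⤳ x' → f x = f x' → x = x') :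
    topologicalKrullDim X ≤ topologicalKrullDim Y := by
  refine Order.krullDim_le_of_strictMono (IrreducibleCloseds.map f hf) ?_
  intro C C' hlt
  refine lt_of_le_of_ne (IrreducibleCloseds.map_mono hf hlt.le) ?_
  intro h
  obtain ⟨c, hc⟩ := QuasiSober.sober C.isIrreducible C.isClosed
  obtain ⟨c', hc'⟩ := QuasiSober.sober C'.isIrreducible C'.isClosed
  have h1 : closure (f '' (C : Set X)) = closure {f c} := by
    rw [← hc.def]
    apply Set.Subset.antisymm
    · refine closure_minimal ?_ isClosed_closure
      have := image_closure_subset_closure_image (s := {c}) hf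
      rwa [Set.image_singleton] at this
    · refine closure_mono ?_
      rw [Set.singleton_subset_iff]
      exact ⟨c, subset_closure rfl, rfl⟩
  have h2 : closure (f '' (C' : Set X)) = closure {f c'} := by
    rw [← hc'.def]
    apply Set.Subset.antisymm
    · refine closure_minimal ?_ isClosed_closure
      have := image_closure_subset_closure_image (s := {c'}) hf
      rwa [Set.image_singleton] at this
    · refine closure_mono ?_
      rw [Set.singleton_subset_iff]
      exact ⟨c', subset_closure rfl, rfl⟩
  have h3 : closure {f c} = closure {f c'} := by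
    rw [← h1, ← h2]
    exact congrArg (fun D : IrreducibleCloseds Y => (D : Set Y)) h
  have h4 : f c' = f c := ((specializes_iff_closure_subset.mpr h3.le).antisymm
    (specializes_iff_closure_subset.mpr h3.ge)).eq
  have h5 : c' ⤳ c := by
    rw [specializes_iff_mem_closure, hc'.def]
    exact hlt.le hc.mem
  have h6 : c' = c := hfib c' c h5 h4
  apply hlt.ne
  apply SetLike.coe_injective
  rw [← hc.def, ← hc'.def, h6]

/-- chains of irreducible closed subsets lift along surjective generalizing maps -/
theorem exists_ltSeries_of_generalizing [QuasiSober Y] (f : X → Y) (hf : Continuous f)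
    (hsurj : Function.Surjective f) (hgen : GeneralizingMap f)
    (p : LTSeries (IrreducibleCloseds Y)) :
    ∃ (q : LTSeries (IrreducibleCloseds X)) (x : X), q.length = p.length ∧
      (q.last : Set X) = closure {x} ∧ IsGenericPoint (f x) (p.last : Set Y) := by
  induction p using RelSeries.inductionOn' with
  | singleton C =>
    obtain ⟨y, hy⟩ := QuasiSober.sober C.isIrreducible C.isClosed
    obtain ⟨x, rfl⟩ := hsurj y
    refine ⟨RelSeries.singleton _ ⟨closure {x}, isIrreducible_singleton.closure, isClosed_closure⟩,
      x, rfl, rfl, ?_⟩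
    simpa using hy
  | snoc p C hC ih =>
    obtain ⟨q, x, hlen, hlast, hgenx⟩ := ih
    obtain ⟨y, hy⟩ := QuasiSober.sober C.isIrreducible C.isClosed
    have hlt : p.last < C := hC
    have hspec : y ⤳ f x := by
      rw [specializes_iff_mem_closure, hy.def]
      exact hlt.le hgenx.mem
    obtain ⟨x', hx', hx'y⟩ := hgen hspec
    let D : IrreducibleCloseds X := ⟨closure {x'}, isIrreducible_singleton.closure, isClosed_closure⟩
    have hqD : q.last < D := by
      refine lt_of_le_of_ne ?_ ?_
      · change (q.last : Set X) ⊆ closure {x'}
        rw [hlast]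
        exact closure_minimal (Set.singleton_subset_iff.mpr (specializes_iff_mem_closure.mp hx'))
          isClosed_closure
      · intro h
        have h1 : closure {x} = closure {x'} := by
          rw [← hlast]
          exact congrArg (fun D : IrreducibleCloseds X => (D : Set X)) h
        have h2 : x ⤳ x' := by
          rw [specializes_iff_mem_closure, h1]
          exact subset_closure rfl
        have h3 : f x ⤳ y := by
          rw [← hx'y]
          exact h2.map hf
        have h4 : (C : Set Y) ⊆ p.last := by
          rw [← hy.def, ← hgenx.def]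
          exact closure_minimal (Set.singleton_subset_iff.mpr (specializes_iff_mem_closure.mp h3))
            isClosed_closure
        exact absurd (le_antisymm hlt.le h4) hlt.ne
    refine ⟨q.snoc D hqD, x', ?_, ?_, ?_⟩
    · simp [hlen]
    · rw [RelSeries.last_snoc]
      rfl
    · rw [RelSeries.last_snoc, hx'y]
      exact hy

/-- a surjective generalizing continuous map does not raise dimension -/
theorem topologicalKrullDim_le_of_generalizing [QuasiSober Y] (f : X → Y) (hf : Continuous f)
    (hsurj : Function.Surjective f) (hgen : GeneralizingMap f) :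
    topologicalKrullDim Y ≤ topologicalKrullDim X := by
  unfold topologicalKrullDim
  rw [Order.krullDim]
  refine iSup_le fun p => ?_
  obtain ⟨q, x, hlen, -, -⟩ := exists_ltSeries_of_generalizing f hf hsurj hgen p
  rw [← hlen]
  exact Order.LTSeries.length_le_krullDim q

open Groth.Agent.Lib.Helper7.TopDim in
/-- local dimension is preserved by continuous open generalizing maps without specializations
inside fibres -/
theorem localDim_eq_of_fibres [QuasiSober X] [QuasiSober Y] [T0Space Y] (f : X → Y)
    (hf : Continuous f) (hopen : IsOpenMap f) (hgen : GeneralizingMap f)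
    (hfib : ∀ x x' : X, x ⤳ x' → f x = f x' → x = x') (x : X) :
    FlatMor.localDim X x = FlatMor.localDim Y (f x) := by
  apply le_antisymm
  · rw [le_localDim_iff]
    intro V hV
    let U : Opens X := ⟨f ⁻¹' V, V.isOpen.preimage hf⟩
    refine (localDim_le x U hV).trans ?_
    haveI : QuasiSober ↥(U : Set X) := U.isOpen.isOpenEmbedding_subtypeVal.quasiSober
    let g : ↥(U : Set X) → ↥(V : Set Y) := fun u => ⟨f u.1, u.2⟩
    refine topologicalKrullDim_le_of_fibres g
      ((hf.comp continuous_subtype_val).subtype_mk _) ?_
    intro u u' huu' hg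
    apply Subtype.ext
    exact hfib u.1 u'.1 ((subtype_specializes_iff u u').mp huu') (congrArg Subtype.val hg)
  · rw [le_localDim_iff]
    intro U hU
    let V : Opens Y := ⟨f '' U, hopen U U.isOpen⟩
    refine (localDim_le (f x) V ⟨x, hU, rfl⟩).trans ?_
    haveI : QuasiSober ↥(V : Set Y) := V.isOpen.isOpenEmbedding_subtypeVal.quasiSober
    let g : ↥(U : Set X) → ↥(V : Set Y) := fun u => ⟨f u.1, u.1, u.2, rfl⟩
    refine topologicalKrullDim_le_of_generalizing g
      ((hf.comp continuous_subtype_val).subtype_mk _) ?_ ?_
    · rintro ⟨_, u, hu, rfl⟩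
      exact ⟨⟨u, hu⟩, rfl⟩
    · intro u v hvu
      have h1 : v.1 ⤳ f u.1 := (subtype_specializes_iff v (g u)).mp hvu
      obtain ⟨x', hx', hx'v⟩ := hgen h1
      have hx'U : x' ∈ (U : Set X) := hx'.mem_open U.isOpen u.2
      exact ⟨⟨x', hx'U⟩, (subtype_specializes_iff _ _).mpr hx', Subtype.ext hx'v⟩

end Top

section Scheme

/-- étale morphisms preserve local dimension -/
theorem localDim_eq_of_etale {U V : Scheme.{u}} (f : U ⟶ V) [Etale f] (u : U) :
    FlatMor.localDim U u = FlatMor.localDim V (f.base u) := by
  haveI : LocallyQuasiFinite f :=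
    ((Groth.Agent.Lib.Helper6.SmQF.etale_iff_smooth_and_locallyQuasiFinite f).mp inferInstance).2
  refine localDim_eq_of_fibres f f.continuous f.isOpenMap (Flat.generalizingMap f) ?_ u
  intro x x' hxx' hff
  have hdisc : _root_.IsDiscrete (f ⁻¹' {f x'}) := f.isDiscrete_preimage_singleton (f x')
  haveI : DiscreteTopology ↥(f ⁻¹' {f x'}) := hdisc.to_subtype
  have h1 : (⟨x, hff⟩ : ↥(f ⁻¹' {f x'})) ⤳ ⟨x', rfl⟩ := (subtype_specializes_iff _ _).mpr hxx'
  exact congrArg Subtype.val (specializes_iff_eq.mp h1)

end Scheme

end Groth.Agent.Lib.Helper6.EtDim
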