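import Mathlib
import Groth.Agent.Lib.Helper3DimCons
import Groth.Agent.Lib.Helper6EtDim

set_option autoImplicit false
set_option linter.style.haveILetI false
universe u

open AlgebraicGeometry CategoryTheory CategoryTheory.Limits TopologicalSpace Topology

namespace Groth.Agent.Lib.Helper3.LocDimBC

open Groth.Agent.Lib.Helper7.TopDim Groth.Agent.Lib.Helper3.DimCons

/-- a continuous, open, generalizing map does not lower local dimension. -/
theorem localDim_le_of_isOpenMap_generalizing {X Y : Type*} [TopologicalSpace X]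
    [TopologicalSpace Y] [QuasiSober Y] (f : X → Y)
    (hf : Continuous f) (hopen : IsOpenMap f) (hgen : GeneralizingMap f) (x : X) :
    FlatMor.localDim Y (f x) ≤ FlatMor.localDim X x := by
  rw [le_localDim_iff]
  intro U hU
  let V : Opens Y := ⟨f '' U, hopen U U.isOpen⟩
  refine (localDim_le (f x) V ⟨x, hU, rfl⟩).trans ?_
  haveI : QuasiSober ↥(V : Set Y) := V.isOpen.isOpenEmbedding_subtypeVal.quasiSober
  let g : ↥(U : Set X) → ↥(V : Set Y) := fun u => ⟨f u.1, u.1, u.2, rfl⟩
  refine Groth.Agent.Lib.Helper6.EtDim.topologicalKrullDim_le_of_generalizing g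
    ((hf.comp continuous_subtype_val).subtype_mk _) ?_ ?_
  · rintro ⟨_, u, hu, rfl⟩
    exact ⟨⟨u, hu⟩, rfl⟩
  · intro u v hvu
    have h1 : v.1 ⤳ f u.1 := (subtype_specializes_iff v (g u)).mp hvu
    obtain ⟨x', hx', hx'v⟩ := hgen h1
    have hx'U : x' ∈ (U : Set X) := hx'.mem_open U.isOpen u.2
    exact ⟨⟨x', hx'U⟩, (subtype_specializes_iff _ _).mpr hx', Subtype.ext hx'v⟩

/-- local dimension is invariant under base field extension. -/
theorem localDim_eq_of_isPullback_onePoint {Y Y' T T' : Scheme.{u}} (g : Y ⟶ T) (g' : Y' ⟶ T')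
    (e : Y' ⟶ Y) (h : T' ⟶ T) [IsIntegral T] [Subsingleton T] [IsIntegral T'] [Subsingleton T']
    [LocallyOfFiniteType g] (hpb : IsPullback e g' g h) (y' : Y') :
    FlatMor.localDim Y' y' = FlatMor.localDim Y (e y') := by
  apply le_antisymm
  · rw [le_localDim_iff]
    intro U₀ hU
    let U : Y.Opens := U₀
    refine (localDim_le y' (e ⁻¹ᵁ U) hU).trans ?_
    have sq : IsPullback (e ∣_ U) ((e ⁻¹ᵁ U).ι ≫ g') (U.ι ≫ g) h :=
      (isPullback_morphismRestrict e U).paste_vert hpb
    exact (dim_eq_of_isPullback_onePoint (U.ι ≫ g) ((e ⁻¹ᵁ U).ι ≫ g') (e ∣_ U) h sq).le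
  · haveI : UniversallyOpen e :=
      MorphismProperty.of_isPullback (P := @UniversallyOpen) hpb.flip inferInstance
    haveI : Flat e :=
      MorphismProperty.of_isPullback (P := @Flat) hpb.flip inferInstance
    exact localDim_le_of_isOpenMap_generalizing e e.continuous e.isOpenMap
      (Flat.generalizingMap e) y'

/-- **Fibre dimension is invariant under base change.** -/
theorem fibreDimAt_eq_of_isPullback {X S X' S' : Scheme.{u}} (f : X ⟶ S) [LocallyOfFiniteType f]
    (g : S' ⟶ S) (g' : X' ⟶ X) (f' : X' ⟶ S') (hsq : IsPullback g' f' f g) (x' : X') :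
    FlatMor.fibreDimAt f' x' = FlatMor.fibreDimAt f (g' x') := by
  have key := isPullback_fiberToSpecResidueField_of_isPullback hsq (f' x')
  haveI : LocallyOfFiniteType (f.fiberToSpecResidueField (g (f' x'))) :=
    MorphismProperty.pullback_snd _ _ inferInstance
  have h1 := localDim_eq_of_isPullback_onePoint (f.fiberToSpecResidueField (g (f' x')))
    (f'.fiberToSpecResidueField (f' x')) _ _ key (f'.asFiber x')
  refine h1.trans ?_
  rw [← fibreDimAt_fiberι]
  congr 1
  show (pullback.map _ _ _ _ g' (Spec.map (g.residueFieldMap (f' x'))) g hsq.w.symm (by simp) ≫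
    pullback.fst _ _) (f'.asFiber x') = g' x'
  rw [pullback.lift_fst]
  show g' (f'.fiberι _ (f'.asFiber x')) = g' x'
  rw [Scheme.Hom.fiberι_asFiber]

/-- the local fibre dimension is insensitive to monomorphisms out of the target. -/
theorem fibreDimAt_comp_mono {W T S : Scheme.{u}} (φ : W ⟶ T) (j : T ⟶ S) [Mono j]
    [LocallyOfFiniteType (φ ≫ j)] (w : W) :
    FlatMor.fibreDimAt (φ ≫ j) w = FlatMor.fibreDimAt φ w := by
  have h1 : IsPullback (𝟙 W) φ φ (𝟙 T) := IsPullback.of_horiz_isIso ⟨by simp⟩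
  have h2 : IsPullback (𝟙 T) (𝟙 T) j j := IsKernelPair.id_of_mono j
  have h3 : IsPullback (𝟙 W) (φ ≫ 𝟙 T) (φ ≫ j) j := h1.paste_vert h2
  rw [Category.comp_id] at h3
  exact (fibreDimAt_eq_of_isPullback (φ ≫ j) j (𝟙 W) φ h3 w).symm

end Groth.Agent.Lib.Helper3.LocDimBC
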