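import Mathlib
import Groth.Prelude
import Groth.Agent.Lib.Helper3LocDimBC

universe u
open CategoryTheory Limits AlgebraicGeometry Opposite TopologicalSpace Topology

namespace Groth.Agent.Lib.Helper22.FibDimLim

open Groth.Agent.Lib.Helper7.TopDim Groth.Agent.Lib.Helper3.DimCons
  Groth.Agent.Lib.Helper3.LocDimBC

section top

variable {A B : Type*} [TopologicalSpace A] [TopologicalSpace B]

/-- local dimension does not increase along an inducing map -/
theorem localDim_le_of_isInducing (g : A → B) (hg : IsInducing g) (a : A) :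
    FlatMor.localDim A a ≤ FlatMor.localDim B (g a) := by
  rw [le_localDim_iff]
  intro U hU
  let V : Opens A := ⟨g ⁻¹' U, U.isOpen.preimage hg.continuous⟩
  refine (localDim_le a V hU).trans ?_
  let g' : ↥V → ↥U := fun v => ⟨g v.1, v.2⟩
  have hg' : IsInducing g' := by
    have h1 : IsInducing (fun v : ↥V => g v.1) := hg.comp IsInducing.subtypeVal
    exact IsInducing.of_comp (h1.continuous.subtype_mk _) continuous_subtype_val h1
  exact hg'.topologicalKrullDim_le

theorem localDim_eq_of_isHomeomorph (g : A → B) (hg : IsHomeomorph g) (a : A) :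
    FlatMor.localDim A a = FlatMor.localDim B (g a) := by
  apply le_antisymm (localDim_le_of_isInducing g hg.isInducing a)
  have h := localDim_le_of_isInducing (hg.homeomorph g).symm
    (hg.homeomorph g).symm.isInducing (g a)
  have h2 : (hg.homeomorph g).symm (g a) = a := (hg.homeomorph g).symm_apply_apply a
  rw [h2] at h
  exact h

end top

section fibre

/-- the fibre dimension of a morphism to a one point scheme is the local dimension -/
theorem fibreDimAt_eq_localDim_of_subsingleton {Y T : Scheme.{u}} (g : Y ⟶ T) [Subsingleton T]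
    (y : Y) : FlatMor.fibreDimAt g y = FlatMor.localDim Y y := by
  have h1 := fibreDimAt_fiberι g (g y) (g.asFiber y)
  rw [Scheme.Hom.fiberι_asFiber] at h1
  rw [h1]
  have hemb := (g.fiberι (g y)).isEmbedding
  have hsurj : Function.Surjective (g.fiberι (g y)) := by
    intro z
    have : z ∈ Set.range (g.fiberι (g y)) := by
      rw [Scheme.Hom.range_fiberι]
      exact Subsingleton.elim _ _
    exact this
  have hhom : IsHomeomorph (g.fiberι (g y)) :=
    isHomeomorph_iff_isEmbedding_surjective.mpr ⟨hemb, hsurj⟩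
  have h2 := localDim_eq_of_isHomeomorph _ hhom (g.asFiber y)
  rw [Scheme.Hom.fiberι_asFiber] at h2
  exact h2

/-- the fibre of a composite `ι ≫ p` maps to the fibre of `p` -/
noncomputable def fiberMap {Z P S : Scheme.{u}} (ι : Z ⟶ P) (p : P ⟶ S) (s : S) :
    (ι ≫ p).fiber s ⟶ p.fiber s :=
  pullback.map (ι ≫ p) (S.fromSpecResidueField s) p (S.fromSpecResidueField s) ι (𝟙 _) (𝟙 _)
    (by simp) (by simp)

theorem fiberMap_fiberι {Z P S : Scheme.{u}} (ι : Z ⟶ P) (p : P ⟶ S) (s : S) :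
    fiberMap ι p s ≫ p.fiberι s = (ι ≫ p).fiberι s ≫ ι := pullback.lift_fst _ _ _

theorem isPullback_fiberMap {Z P S : Scheme.{u}} (ι : Z ⟶ P) (p : P ⟶ S) (s : S) :
    IsPullback ((ι ≫ p).fiberι s) (fiberMap ι p s) ι (p.fiberι s) := by
  have hbig : IsPullback ((ι ≫ p).fiberι s) ((ι ≫ p).fiberToSpecResidueField s) (ι ≫ p)
      (S.fromSpecResidueField s) := IsPullback.of_hasPullback _ _
  have hright : IsPullback (p.fiberι s) (p.fiberToSpecResidueField s) p
      (S.fromSpecResidueField s) := IsPullback.of_hasPullback _ _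
  refine IsPullback.of_bot ?_ (fiberMap_fiberι ι p s).symm hright
  have : fiberMap ι p s ≫ p.fiberToSpecResidueField s = (ι ≫ p).fiberToSpecResidueField s := by
    have h := pullback.lift_snd (f := p) (g := S.fromSpecResidueField s)
      (((ι ≫ p).fiberι s) ≫ ι) (((ι ≫ p).fiberToSpecResidueField s) ≫ 𝟙 _)
      (by rw [Category.assoc, Category.comp_id]; exact pullback.condition)
    exact h.trans (Category.comp_id _)
  rw [this]
  exact hbig

/-- the fibre dimension does not increase along an immersion into the source -/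
theorem fibreDimAt_comp_le {Z P S : Scheme.{u}} (ι : Z ⟶ P) [IsPreimmersion ι] (p : P ⟶ S)
    (z : Z) : FlatMor.fibreDimAt (ι ≫ p) z ≤ FlatMor.fibreDimAt p (ι z) := by
  set s := (ι ≫ p) z with hs
  have h1 := fibreDimAt_fiberι (ι ≫ p) s ((ι ≫ p).asFiber z)
  rw [Scheme.Hom.fiberι_asFiber] at h1
  rw [h1]
  have hpre : IsPreimmersion (fiberMap ι p s) :=
    MorphismProperty.of_isPullback (P := @IsPreimmersion) (isPullback_fiberMap ι p s) inferInstance
  have h2 := localDim_le_of_isInducing (fiberMap ι p s) (fiberMap ι p s).isEmbedding.isInducing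
    ((ι ≫ p).asFiber z)
  refine h2.trans (le_of_eq ?_)
  rw [← fibreDimAt_fiberι]
  congr 1
  have := congr($(fiberMap_fiberι ι p s) ((ι ≫ p).asFiber z))
  rw [Scheme.Hom.comp_apply, Scheme.Hom.comp_apply, Scheme.Hom.fiberι_asFiber] at this
  exact this

theorem fibreDimAt_congr {X Y : Scheme.{u}} {f g : X ⟶ Y} (h : f = g) (x : X) :
    FlatMor.fibreDimAt f x = FlatMor.fibreDimAt g x := by subst h; rfl

/-- monotonicity of the fibre dimension in a system `X_i → X_j ×_{S_j} S_i` of immersions -/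
theorem fibreDimAt_le_of_isPreimmersion_lift {Xi Xj Si Sj : Scheme.{u}} (φi : Xi ⟶ Si)
    (φj : Xj ⟶ Sj) [LocallyOfFiniteType φj] (m : Xi ⟶ Xj) (n : Si ⟶ Sj) (h : m ≫ φj = φi ≫ n)
    [IsPreimmersion (pullback.lift m φi h)] (x : Xi) :
    FlatMor.fibreDimAt φi x ≤ FlatMor.fibreDimAt φj (m x) := by
  have e1 : φi = pullback.lift m φi h ≫ pullback.snd φj n := (pullback.lift_snd _ _ _).symm
  rw [fibreDimAt_congr e1 x]
  refine (fibreDimAt_comp_le (pullback.lift m φi h) (pullback.snd φj n) x).trans (le_of_eq ?_)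
  rw [fibreDimAt_eq_of_isPullback φj n (pullback.fst φj n) (pullback.snd φj n)
    (IsPullback.of_hasPullback φj n)]
  congr 1
  have := congr($(pullback.lift_fst m φi h) x)
  rw [Scheme.Hom.comp_apply] at this
  exact this

end fibre

section limclosed

variable {I : Type u} [SmallCategory I] [IsCofiltered I] (D : I ⥤ Scheme.{u}) (c : Cone D)
  (hc : IsLimit c) [∀ {i j} (f : i ⟶ j), IsAffineHom (D.map f)]

include hc in
/-- affine case: the projection from a limit of closed immersions is a closed immersion -/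
theorem isClosedImmersion_π_app_of_isAffine [∀ i, IsAffine (D.obj i)] (j : I)
    (h : ∀ (k : I) (a : k ⟶ j), IsClosedImmersion (D.map a)) : IsClosedImmersion (c.π.app j) := by
  have haff : IsAffineHom (c.π.app j) := isAffineHom_π_app D c hc j
  have hpt : IsAffine c.pt := @isAffine_of_isAffineHom c.pt (D.obj j) (c.π.app j) haff inferInstance
  refine @IsClosedImmersion.of_surjective_of_isAffine c.pt (D.obj j) hpt inferInstance (c.π.app j)
    fun s => ?_
  obtain ⟨i, t, ht⟩ := exists_appTop_π_eq_of_isAffine_of_isLimit D c hc s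
  let k := IsCofiltered.min i j
  let a : k ⟶ i := IsCofiltered.minToLeft i j
  let b : k ⟶ j := IsCofiltered.minToRight i j
  have := h k b
  obtain ⟨t₀, ht₀⟩ := (IsClosedImmersion.isAffine_surjective_of_isAffine (f := D.map b)).2
    ((D.map a).appTop t)
  refine ⟨t₀, ?_⟩
  have h1 : (c.π.app j).appTop = (D.map b).appTop ≫ (c.π.app k).appTop := by
    rw [← Scheme.Hom.comp_appTop, c.w]
  have h2 : (c.π.app i).appTop = (D.map a).appTop ≫ (c.π.app k).appTop := by
    rw [← Scheme.Hom.comp_appTop, c.w]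
  rw [h1, CommRingCat.comp_apply, ht₀, ← CommRingCat.comp_apply, ← h2, ht]

include hc in
/-- the projection from a limit of closed immersions is a closed immersion -/
theorem isClosedImmersion_π_app (j : I)
    (h : ∀ (k : I) (a : k ⟶ j), IsClosedImmersion (D.map a)) : IsClosedImmersion (c.π.app j) := by
  refine (IsZariskiLocalAtTarget.iff_of_iSup_eq_top (P := @IsClosedImmersion)
    (U := fun U : (D.obj j).affineOpens => U.1) (iSup_affineOpens_eq_top _)).mpr fun U => ?_
  have hU := U.2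
  have haffobj : ∀ k : Over j, IsAffine ((opensDiagram D j U.1).obj k) := fun k =>
    hU.preimage (D.map k.hom)
  have hcl : ∀ (k : Over j) (a : k ⟶ Over.mk (𝟙 j)),
      IsClosedImmersion ((opensDiagram D j U.1).map a) := fun k a => by
    have h1 := h k.left a.left
    have e : D.map k.hom ⁻¹ᵁ U.1 = D.map a.left ⁻¹ᵁ (D.map (Over.mk (𝟙 j)).hom ⁻¹ᵁ U.1) := by
      rw [← Scheme.Hom.comp_preimage, ← D.map_comp, Over.w a]
    let r : (D.map k.hom ⁻¹ᵁ U.1).toScheme ⟶ (D.map (Over.mk (𝟙 j)).hom ⁻¹ᵁ U.1).toScheme :=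
      (opensDiagram D j U.1).map a
    have h2 : r =
        ((D.obj k.left).isoOfEq e).hom ≫ (D.map a.left ∣_ (D.map (Over.mk (𝟙 j)).hom ⁻¹ᵁ U.1)) := by
      rw [← cancel_mono (Scheme.Opens.ι _)]
      simp only [r, opensDiagram_map, Scheme.Hom.resLE_comp_ι, Category.assoc, morphismRestrict_ι,
        Scheme.isoOfEq_hom_ι_assoc]
    change IsClosedImmersion r
    rw [h2]
    infer_instance
  have key := isClosedImmersion_π_app_of_isAffine (opensDiagram D j U.1) (opensCone D c j U.1)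
    (isLimitOpensCone D c hc j U.1) (Over.mk (𝟙 j)) hcl
  have e : D.map (Over.mk (𝟙 j)).hom ⁻¹ᵁ U.1 = U.1 := by
    simp
  let r : (c.π.app j ⁻¹ᵁ U.1).toScheme ⟶ (D.map (Over.mk (𝟙 j)).hom ⁻¹ᵁ U.1).toScheme :=
    (opensCone D c j U.1).π.app (Over.mk (𝟙 j))
  have hr : IsClosedImmersion r := key
  have h3 : c.π.app j ∣_ U.1 = r ≫ ((D.obj j).isoOfEq e).hom := by
    rw [← cancel_mono (Scheme.Opens.ι _)]
    simp only [r, opensCone_π_app, Category.assoc, morphismRestrict_ι, Scheme.isoOfEq_hom_ι,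
      Scheme.Hom.resLE_comp_ι]
    rfl
  rw [h3]
  infer_instance

include hc in
/-- if all transition maps into `j` are surjective and the projection has closed range,
the projection is surjective -/
theorem surjective_π_app (j : I) (h : ∀ (k : I) (a : k ⟶ j), Function.Surjective (D.map a))
    (hcl : IsClosed (Set.range (c.π.app j))) : Function.Surjective (c.π.app j) := by
  by_contra hns
  rw [← Set.range_eq_univ, ← ne_eq, ← Set.nonempty_compl] at hns
  obtain ⟨p, hp⟩ := hns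
  obtain ⟨_, ⟨U, hU : IsAffineOpen U, rfl⟩, hpU, hUsub⟩ :=
    (D.obj j).isBasis_affineOpens.exists_subset_of_mem_open hp hcl.isOpen_compl
  have hempty : c.π.app j ⁻¹ᵁ U = ⊥ := by
    ext x
    simp only [Scheme.Hom.coe_preimage, Set.mem_preimage, SetLike.mem_coe,
      TopologicalSpace.Opens.coe_bot, Set.mem_empty_iff_false, iff_false]
    intro hx
    exact hUsub hx ⟨x, rfl⟩
  have h01 : (c.π.app j).app U 1 = (c.π.app j).app U 0 := by
    have : Subsingleton Γ(c.pt, c.π.app j ⁻¹ᵁ U) := by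
      rw [hempty]
      infer_instance
    exact @Subsingleton.elim _ this _ _
  obtain ⟨k, a, hk⟩ := exists_app_map_eq_map_of_isLimit D c hc hU.isCompact 1 0 h01
  obtain ⟨q, hq⟩ := h k a p
  have hqU : q ∈ D.map a ⁻¹ᵁ U := by
    show (D.map a) q ∈ U
    rw [hq]; exact hpU
  rw [map_one, map_zero] at hk
  have : D.map a ⁻¹ᵁ U = ⊥ := by
    rw [← Scheme.basicOpen_zero (D.obj k) (D.map a ⁻¹ᵁ U), ← hk]
    exact (Scheme.basicOpen_of_isUnit _ isUnit_one).symm
  rw [this] at hqU
  exact hqU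

end limclosed

section fibsys

variable {I : Type u} [SmallCategory I] (DX DS : I ⥤ Scheme.{u}) (φ : DX ⟶ DS)
  (cX : Cone DX) (cS : Cone DS) (f : cX.pt ⟶ cS.pt)
  (hf : ∀ i, f ≫ cS.π.app i = cX.π.app i ≫ φ.app i) {K : Scheme.{u}} (σ : K ⟶ cS.pt)

/-- transition maps of the system `X_i ×_{S_i} K` -/
noncomputable def Emap {i j : I} (a : i ⟶ j) :
    pullback (φ.app i) (σ ≫ cS.π.app i) ⟶ pullback (φ.app j) (σ ≫ cS.π.app j) :=
  pullback.map _ _ _ _ (DX.map a) (𝟙 K) (DS.map a) (φ.naturality a).symm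
    (by rw [Category.assoc, cS.w, Category.id_comp])

@[reassoc (attr := simp)]
theorem Emap_fst {i j : I} (a : i ⟶ j) :
    Emap DX DS φ cS σ a ≫ pullback.fst _ _ = pullback.fst _ _ ≫ DX.map a :=
  pullback.lift_fst _ _ _

@[reassoc (attr := simp)]
theorem Emap_snd {i j : I} (a : i ⟶ j) :
    Emap DX DS φ cS σ a ≫ pullback.snd _ _ = pullback.snd _ _ :=
  (pullback.lift_snd _ _ _).trans (Category.comp_id _)

/-- the system `X_i ×_{S_i} K` -/
noncomputable def E : I ⥤ Scheme.{u} where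
  obj i := pullback (φ.app i) (σ ≫ cS.π.app i)
  map {i j} a := Emap DX DS φ cS σ a
  map_id i := by
    apply pullback.hom_ext <;> simp
  map_comp a b := by
    apply pullback.hom_ext <;> simp

/-- first projection -/
noncomputable def Efst (i : I) : (E DX DS φ cS σ).obj i ⟶ DX.obj i := pullback.fst _ _

/-- second projection -/
noncomputable def Esnd (i : I) : (E DX DS φ cS σ).obj i ⟶ K := pullback.snd _ _

theorem E_cond (i : I) : Efst DX DS φ cS σ i ≫ φ.app i = Esnd DX DS φ cS σ i ≫ σ ≫ cS.π.app i :=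
  pullback.condition

theorem E_ext {T : Scheme.{u}} {i : I} (a b : T ⟶ (E DX DS φ cS σ).obj i)
    (h1 : a ≫ Efst DX DS φ cS σ i = b ≫ Efst DX DS φ cS σ i)
    (h2 : a ≫ Esnd DX DS φ cS σ i = b ≫ Esnd DX DS φ cS σ i) : a = b := pullback.hom_ext h1 h2

@[reassoc]
theorem E_map_fst {i j : I} (a : i ⟶ j) :
    (E DX DS φ cS σ).map a ≫ Efst DX DS φ cS σ j = Efst DX DS φ cS σ i ≫ DX.map a :=
  Emap_fst DX DS φ cS σ a

@[reassoc]
theorem E_map_snd {i j : I} (a : i ⟶ j) :
    (E DX DS φ cS σ).map a ≫ Esnd DX DS φ cS σ j = Esnd DX DS φ cS σ i :=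
  Emap_snd DX DS φ cS σ a

/-- lift into `E_i` -/
noncomputable def Elift {T : Scheme.{u}} (i : I) (u : T ⟶ DX.obj i) (v : T ⟶ K)
    (h : u ≫ φ.app i = v ≫ σ ≫ cS.π.app i) : T ⟶ (E DX DS φ cS σ).obj i :=
  pullback.lift u v h

@[reassoc]
theorem Elift_fst {T : Scheme.{u}} (i : I) (u : T ⟶ DX.obj i) (v : T ⟶ K)
    (h : u ≫ φ.app i = v ≫ σ ≫ cS.π.app i) :
    Elift DX DS φ cS σ i u v h ≫ Efst DX DS φ cS σ i = u := pullback.lift_fst _ _ _

@[reassoc]
theorem Elift_snd {T : Scheme.{u}} (i : I) (u : T ⟶ DX.obj i) (v : T ⟶ K)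
    (h : u ≫ φ.app i = v ≫ σ ≫ cS.π.app i) :
    Elift DX DS φ cS σ i u v h ≫ Esnd DX DS φ cS σ i = v := pullback.lift_snd _ _ _

/-- the components of the cone with vertex `X ×_S K` -/
noncomputable def cEπ (i : I) : pullback f σ ⟶ pullback (φ.app i) (σ ≫ cS.π.app i) :=
  pullback.map f σ (φ.app i) (σ ≫ cS.π.app i) (cX.π.app i) (𝟙 K) (cS.π.app i)
    (hf i) (by rw [Category.id_comp])

@[reassoc (attr := simp)]
theorem cEπ_fst (i : I) :
    cEπ DX DS φ cX cS f hf σ i ≫ pullback.fst _ _ = pullback.fst _ _ ≫ cX.π.app i :=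
  pullback.lift_fst _ _ _

@[reassoc (attr := simp)]
theorem cEπ_snd (i : I) :
    cEπ DX DS φ cX cS f hf σ i ≫ pullback.snd _ _ = pullback.snd _ _ :=
  (pullback.lift_snd _ _ _).trans (Category.comp_id _)

/-- the cone with vertex `X ×_S K` -/
noncomputable def cE : Cone (E DX DS φ cS σ) where
  pt := pullback f σ
  π :=
    { app := fun i => cEπ DX DS φ cX cS f hf σ i
      naturality := fun i j a => by
        change 𝟙 _ ≫ cEπ DX DS φ cX cS f hf σ j =
          cEπ DX DS φ cX cS f hf σ i ≫ Emap DX DS φ cS σ a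
        apply pullback.hom_ext <;> simp }

/-- first projection of the vertex -/
noncomputable def cEfst : (cE DX DS φ cX cS f hf σ).pt ⟶ cX.pt := pullback.fst f σ

/-- second projection of the vertex -/
noncomputable def cEsnd : (cE DX DS φ cX cS f hf σ).pt ⟶ K := pullback.snd f σ

theorem cE_cond : cEfst DX DS φ cX cS f hf σ ≫ f = cEsnd DX DS φ cX cS f hf σ ≫ σ :=
  pullback.condition

theorem cE_ext {T : Scheme.{u}} (a b : T ⟶ (cE DX DS φ cX cS f hf σ).pt)
    (h1 : a ≫ cEfst DX DS φ cX cS f hf σ = b ≫ cEfst DX DS φ cX cS f hf σ)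
    (h2 : a ≫ cEsnd DX DS φ cX cS f hf σ = b ≫ cEsnd DX DS φ cX cS f hf σ) : a = b :=
  pullback.hom_ext h1 h2

@[reassoc]
theorem cE_π_fst (i : I) : (cE DX DS φ cX cS f hf σ).π.app i ≫ Efst DX DS φ cS σ i =
    cEfst DX DS φ cX cS f hf σ ≫ cX.π.app i := cEπ_fst DX DS φ cX cS f hf σ i

@[reassoc]
theorem cE_π_snd (i : I) : (cE DX DS φ cX cS f hf σ).π.app i ≫ Esnd DX DS φ cS σ i =
    cEsnd DX DS φ cX cS f hf σ := cEπ_snd DX DS φ cX cS f hf σ i

/-- projection of a cone over `E` to a cone over `DX` -/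
noncomputable def coneX (s : Cone (E DX DS φ cS σ)) : Cone DX where
  pt := s.pt
  π :=
    { app := fun i => s.π.app i ≫ Efst DX DS φ cS σ i
      naturality := fun i j a => by
        have h := s.w a
        change 𝟙 _ ≫ s.π.app j ≫ Efst DX DS φ cS σ j = (s.π.app i ≫ Efst DX DS φ cS σ i) ≫ DX.map a
        rw [Category.id_comp, ← h, Category.assoc, E_map_fst, Category.assoc] }

theorem cone_snd_eq [IsCofiltered I] (s : Cone (E DX DS φ cS σ)) (i j : I) :
    s.π.app i ≫ Esnd DX DS φ cS σ i = s.π.app j ≫ Esnd DX DS φ cS σ j := by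
  have key : ∀ {i j : I} (a : i ⟶ j),
      s.π.app i ≫ Esnd DX DS φ cS σ i = s.π.app j ≫ Esnd DX DS φ cS σ j := fun {i j} a => by
    rw [← s.w a, Category.assoc, E_map_snd]
  rw [← key (IsCofiltered.minToLeft i j), key (IsCofiltered.minToRight i j)]

variable (hX : IsLimit cX) (hS : IsLimit cS)

/-- first component of the lift -/
noncomputable def lX (s : Cone (E DX DS φ cS σ)) : s.pt ⟶ cX.pt := hX.lift (coneX DX DS φ cS σ s)

@[reassoc]
theorem lX_π (s : Cone (E DX DS φ cS σ)) (i : I) :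
    lX DX DS φ cX cS σ hX s ≫ cX.π.app i = s.π.app i ≫ Efst DX DS φ cS σ i :=
  hX.fac (coneX DX DS φ cS σ s) i

include hf hS in
theorem l_cond [IsCofiltered I] (s : Cone (E DX DS φ cS σ)) (i₀ : I) :
    lX DX DS φ cX cS σ hX s ≫ f = (s.π.app i₀ ≫ Esnd DX DS φ cS σ i₀) ≫ σ := by
  refine hS.hom_ext fun i => ?_
  rw [Category.assoc, hf i, lX_π_assoc, E_cond, ← Category.assoc,
    cone_snd_eq DX DS φ cS σ s i i₀, Category.assoc, Category.assoc, Category.assoc]

/-- the lift -/
noncomputable def lE [IsCofiltered I] (s : Cone (E DX DS φ cS σ)) (i₀ : I) :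
    s.pt ⟶ (cE DX DS φ cX cS f hf σ).pt :=
  pullback.lift _ _ (l_cond DX DS φ cX cS f hf σ hX hS s i₀)

@[reassoc]
theorem lE_fst [IsCofiltered I] (s : Cone (E DX DS φ cS σ)) (i₀ : I) :
    lE DX DS φ cX cS f hf σ hX hS s i₀ ≫ cEfst DX DS φ cX cS f hf σ = lX DX DS φ cX cS σ hX s :=
  pullback.lift_fst _ _ _

@[reassoc]
theorem lE_snd [IsCofiltered I] (s : Cone (E DX DS φ cS σ)) (i₀ : I) :
    lE DX DS φ cX cS f hf σ hX hS s i₀ ≫ cEsnd DX DS φ cX cS f hf σ =
      s.π.app i₀ ≫ Esnd DX DS φ cS σ i₀ :=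
  pullback.lift_snd _ _ _

include hX hS in
theorem isLimit_cE [IsCofiltered I] : Nonempty (IsLimit (cE DX DS φ cX cS f hf σ)) := by
  obtain ⟨i₀⟩ := IsCofiltered.nonempty (C := I)
  refine ⟨{ lift := fun s => lE DX DS φ cX cS f hf σ hX hS s i₀
            fac := fun s i => ?_
            uniq := fun s m hm => ?_ }⟩
  · apply E_ext
    · rw [Category.assoc, cE_π_fst, lE_fst_assoc, lX_π]
    · rw [Category.assoc, cE_π_snd, lE_snd, cone_snd_eq DX DS φ cS σ s i₀ i]
  · apply cE_ext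
    · rw [lE_fst]
      refine hX.uniq (coneX DX DS φ cS σ s) (m ≫ cEfst DX DS φ cX cS f hf σ) fun i => ?_
      change (m ≫ cEfst DX DS φ cX cS f hf σ) ≫ cX.π.app i = s.π.app i ≫ Efst DX DS φ cS σ i
      rw [← hm i, Category.assoc, Category.assoc, cE_π_fst]
    · rw [lE_snd, ← hm i₀, Category.assoc, cE_π_snd]

/-- the map `E_j → X_j ×_{S_j} S_i` -/
noncomputable def Eq {i j : I} (a : i ⟶ j) :
    (E DX DS φ cS σ).obj j ⟶ pullback (φ.app j) (DS.map a) :=
  pullback.lift (Efst DX DS φ cS σ j) (Esnd DX DS φ cS σ j ≫ σ ≫ cS.π.app i)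
    (by rw [E_cond, Category.assoc, Category.assoc, cS.w])

@[reassoc]
theorem Eq_fst {i j : I} (a : i ⟶ j) :
    Eq DX DS φ cS σ a ≫ pullback.fst _ _ = Efst DX DS φ cS σ j := pullback.lift_fst _ _ _

@[reassoc]
theorem Eq_snd {i j : I} (a : i ⟶ j) :
    Eq DX DS φ cS σ a ≫ pullback.snd _ _ = Esnd DX DS φ cS σ j ≫ σ ≫ cS.π.app i :=
  pullback.lift_snd _ _ _

theorem isPullback_E_map {i j : I} (a : i ⟶ j) :
    IsPullback ((E DX DS φ cS σ).map a) (Efst DX DS φ cS σ i) (Eq DX DS φ cS σ a)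
      (pullback.lift (DX.map a) (φ.app i) (φ.naturality a)) := by
  refine ⟨⟨?_⟩, ⟨PullbackCone.IsLimit.mk _
    (fun s => Elift DX DS φ cS σ i s.snd (s.fst ≫ Esnd DX DS φ cS σ j) ?_)
    (fun s => ?_) (fun s => ?_) (fun s l h1 h2 => ?_)⟩⟩
  · apply pullback.hom_ext
    · rw [Category.assoc, Eq_fst, E_map_fst, Category.assoc, pullback.lift_fst]
    · rw [Category.assoc, Eq_snd, E_map_snd_assoc, Category.assoc, pullback.lift_snd, E_cond]
  · have h := s.condition
    have h2 := congr($h ≫ pullback.snd _ _)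
    rw [Category.assoc, Category.assoc, Eq_snd, pullback.lift_snd] at h2
    rw [← h2, Category.assoc]
  · apply E_ext
    · rw [Category.assoc, E_map_fst, Elift_fst_assoc]
      have h := s.condition
      have h1 := congr($h ≫ pullback.fst _ _)
      rw [Category.assoc, Category.assoc, Eq_fst, pullback.lift_fst] at h1
      exact h1.symm
    · rw [Category.assoc, E_map_snd, Elift_snd]
  · exact Elift_fst DX DS φ cS σ i _ _ _
  · apply E_ext
    · rw [Elift_fst]; exact h2
    · rw [Elift_snd, ← h1, Category.assoc, E_map_snd]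

theorem isClosedImmersion_E_map {i j : I} (a : i ⟶ j)
    [IsClosedImmersion (pullback.lift (DX.map a) (φ.app i) (φ.naturality a))] :
    IsClosedImmersion ((E DX DS φ cS σ).map a) :=
  MorphismProperty.of_isPullback (P := @IsClosedImmersion) (isPullback_E_map DX DS φ cS σ a).flip
    inferInstance

end fibsys

section main

variable {I : Type u} [SmallCategory I] [IsCofiltered I]
    (DX DS : I ⥤ Scheme.{u}) (φ : DX ⟶ DS) (cX : Cone DX) (cS : Cone DS)
    (hX : IsLimit cX) (hS : IsLimit cS)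
    [∀ i, LocallyOfFiniteType (φ.app i)] [∀ i, QuasiCompact (φ.app i)]
    (hcl : ∀ (i j : I) (a : i ⟶ j),
      IsClosedImmersion (pullback.lift (DX.map a) (φ.app i) (φ.naturality a)))
    (f : cX.pt ⟶ cS.pt) (hf : ∀ i, f ≫ cS.π.app i = cX.π.app i ≫ φ.app i)

include hX hS hcl hf in
/-- at a point of the limit, the fibre dimension is attained at a finite stage -/
theorem exists_fibreDimAt_le (x : cX.pt) (d : ℕ)
    (hd : topologicalKrullDim (f.fiber (f x)) ≤ d) :
    ∃ i, FlatMor.fibreDimAt (φ.app i) (cX.π.app i x) ≤ d := by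
  set s := f x with hs
  let σ := cS.pt.fromSpecResidueField s
  obtain ⟨hlim⟩ := isLimit_cE DX DS φ cX cS f hf σ hX hS
  have hclE : ∀ {i j : I} (a : i ⟶ j), IsClosedImmersion ((E DX DS φ cS σ).map a) := fun a => by
    have := hcl _ _ a
    exact isClosedImmersion_E_map DX DS φ cS σ a
  have haffE : ∀ {i j : I} (a : i ⟶ j), IsAffineHom ((E DX DS φ cS σ).map a) := fun a => by
    have := hclE a; infer_instance
  obtain ⟨i₀⟩ := IsCofiltered.nonempty (C := I)
  -- Noetherianity of `E_{i₀}`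
  have hlft : LocallyOfFiniteType (Esnd DX DS φ cS σ i₀) :=
    inferInstanceAs (LocallyOfFiniteType (pullback.snd (φ.app i₀) (σ ≫ cS.π.app i₀)))
  have hqc : QuasiCompact (Esnd DX DS φ cS σ i₀) :=
    inferInstanceAs (QuasiCompact (pullback.snd (φ.app i₀) (σ ≫ cS.π.app i₀)))
  have hlN : IsLocallyNoetherian ((E DX DS φ cS σ).obj i₀) :=
    LocallyOfFiniteType.isLocallyNoetherian (Esnd DX DS φ cS σ i₀)
  have hcp : CompactSpace ((E DX DS φ cS σ).obj i₀) :=
    QuasiCompact.compactSpace_of_compactSpace (Esnd DX DS φ cS σ i₀)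
  have hN : IsNoetherian ((E DX DS φ cS σ).obj i₀) := {}
  have hNS : NoetherianSpace ((E DX DS φ cS σ).obj i₀) := inferInstance
  -- a minimal image
  let 𝒯 : Set (Closeds ((E DX DS φ cS σ).obj i₀)) :=
    {T | ∃ (j : I) (a : j ⟶ i₀),
      (T : Set ((E DX DS φ cS σ).obj i₀)) = Set.range ((E DX DS φ cS σ).map a)}
  have h𝒯 : 𝒯.Nonempty := by
    have := hclE (𝟙 i₀)
    exact ⟨⟨Set.range ((E DX DS φ cS σ).map (𝟙 i₀)),
      ((E DX DS φ cS σ).map (𝟙 i₀)).isClosedEmbedding.isClosed_range⟩, i₀, 𝟙 i₀, rfl⟩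
  obtain ⟨T₁, ⟨i₁, a₁, hT₁⟩, hmin⟩ :=
    (wellFounded_lt (α := Closeds ((E DX DS φ cS σ).obj i₀))).has_min 𝒯 h𝒯
  have ha₁ := hclE a₁
  have hsurj : ∀ (k : I) (b : k ⟶ i₁), Function.Surjective ((E DX DS φ cS σ).map b) := by
    intro k b y
    have hb := hclE (b ≫ a₁)
    let T₂ : Closeds ((E DX DS φ cS σ).obj i₀) :=
      ⟨Set.range ((E DX DS φ cS σ).map (b ≫ a₁)),
        ((E DX DS φ cS σ).map (b ≫ a₁)).isClosedEmbedding.isClosed_range⟩
    have hT₂ : T₂ ∈ 𝒯 := ⟨k, b ≫ a₁, rfl⟩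
    have hle : T₂ ≤ T₁ := by
      intro z hz
      obtain ⟨z', rfl⟩ := hz
      change _ ∈ (T₁ : Set ((E DX DS φ cS σ).obj i₀))
      rw [hT₁, Functor.map_comp, Scheme.Hom.comp_apply]
      exact ⟨_, rfl⟩
    have heq : T₂ = T₁ := by
      by_contra hne
      exact hmin T₂ hT₂ (lt_of_le_of_ne hle hne)
    have hy : (E DX DS φ cS σ).map a₁ y ∈ (T₂ : Set ((E DX DS φ cS σ).obj i₀)) := by
      rw [heq, hT₁]; exact ⟨y, rfl⟩
    obtain ⟨z, hz⟩ := hy
    refine ⟨z, ?_⟩
    rw [Functor.map_comp, Scheme.Hom.comp_apply] at hz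
    exact ((E DX DS φ cS σ).map a₁).isClosedEmbedding.injective hz
  have hπcl : IsClosedImmersion ((cE DX DS φ cX cS f hf σ).π.app i₁) :=
    isClosedImmersion_π_app (E DX DS φ cS σ) (cE DX DS φ cX cS f hf σ) hlim i₁
      (fun k b => hclE b)
  have hπsurj : Function.Surjective ((cE DX DS φ cX cS f hf σ).π.app i₁) :=
    surjective_π_app (E DX DS φ cS σ) (cE DX DS φ cX cS f hf σ) hlim i₁ hsurj
      ((cE DX DS φ cX cS f hf σ).π.app i₁).isClosedEmbedding.isClosed_range
  have hhomeo : IsHomeomorph ((cE DX DS φ cX cS f hf σ).π.app i₁) :=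
    isHomeomorph_iff_isEmbedding_surjective.mpr
      ⟨((cE DX DS φ cX cS f hf σ).π.app i₁).isClosedEmbedding.isEmbedding, hπsurj⟩
  refine ⟨i₁, ?_⟩
  let w : (cE DX DS φ cX cS f hf σ).pt := f.asFiber x
  have h1 := localDim_eq_of_isHomeomorph _ hhomeo w
  have h2 : FlatMor.localDim (cE DX DS φ cX cS f hf σ).pt w ≤ d :=
    (localDim_le_dim w).trans hd
  have h3 := fibreDimAt_eq_of_isPullback (φ.app i₁) (σ ≫ cS.π.app i₁) (Efst DX DS φ cS σ i₁)
    (Esnd DX DS φ cS σ i₁) (IsPullback.of_hasPullback _ _)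
    ((cE DX DS φ cX cS f hf σ).π.app i₁ w)
  have h4 := fibreDimAt_eq_localDim_of_subsingleton (Esnd DX DS φ cS σ i₁)
    ((cE DX DS φ cX cS f hf σ).π.app i₁ w)
  have h5 : Efst DX DS φ cS σ i₁ ((cE DX DS φ cX cS f hf σ).π.app i₁ w) = cX.π.app i₁ x := by
    have := congr($(cE_π_fst DX DS φ cX cS f hf σ i₁) w)
    rw [Scheme.Hom.comp_apply, Scheme.Hom.comp_apply] at this
    rw [this]
    congr 1
    exact f.fiberι_asFiber x
  rw [← h5, ← h3, h4, ← h1]
  exact h2

set_option backward.isDefEq.respectTransparency.types false in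
include hX hS hcl hf in
/-- **Fibre dimension at a finite stage.** -/
theorem exists_stage_fibre_dim_le [∀ (i j : I) (a : i ⟶ j), IsAffineHom (DS.map a)]
    [∀ i, CompactSpace (DS.obj i)] (d : ℕ)
    (hd : ∀ s : cS.pt, topologicalKrullDim ↥(f.fiber s) ≤ d) :
    ∃ i : I, ∀ s : DS.obj i, topologicalKrullDim ↥((φ.app i).fiber s) ≤ d := by
  by_contra H
  push Not at H
  let C : ∀ i, Set (DX.obj i) := fun i =>
    {x | ((d + 1 : ℕ) : WithBot ℕ∞) ≤ FlatMor.fibreDimAt (φ.app i) x}
  have hCc : ∀ i, IsClosed (C i) := fun i => isClosed_setOf_le_fibreDimAt (φ.app i) (d + 1)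
  have hCne : ∀ i, (C i).Nonempty := fun i => by
    obtain ⟨s, hs⟩ := H i
    have h1 : ((d + 1 : ℕ) : WithBot ℕ∞) ≤ topologicalKrullDim ↥((φ.app i).fiber s) :=
      (succ_le_iff_not_le _ d).mpr (not_le.mpr hs)
    obtain ⟨x, hx, -⟩ := (natCast_le_fibre_dim_iff (φ.app i) s (d + 1)).mp h1
    exact ⟨x, hx⟩
  have hcpt : ∀ i, CompactSpace (DX.obj i) := fun i =>
    QuasiCompact.compactSpace_of_compactSpace (φ.app i)
  have hCcpt : ∀ i, IsCompact (C i) := fun i => (hCc i).isCompact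
  have hmaps : ∀ {i j : I} (a : i ⟶ j), Set.MapsTo (DX.map a) (C i) (C j) := fun {i j} a x hx => by
    have := hcl i j a
    exact le_trans hx (fibreDimAt_le_of_isPreimmersion_lift (φ.app i) (φ.app j) (DX.map a)
      (DS.map a) (φ.naturality a) x)
  have haffX : ∀ {i j : I} (a : i ⟶ j), IsAffineHom (DX.map a) := fun {i j} a => by
    have := hcl i j a
    have e : DX.map a = pullback.lift (DX.map a) (φ.app i) (φ.naturality a) ≫
        pullback.fst (φ.app j) (DS.map a) := (pullback.lift_fst _ _ _).symm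
    rw [e]
    have h1 : IsAffineHom (pullback.fst (φ.app j) (DS.map a)) :=
      MorphismProperty.pullback_fst (P := @IsAffineHom) _ _ inferInstance
    have h2 : IsAffineHom (pullback.lift (DX.map a) (φ.app i) (φ.naturality a)) := inferInstance
    exact MorphismProperty.comp_mem (W := @IsAffineHom) _ _ h2 h1
  obtain ⟨x, hx⟩ := exists_mem_of_isClosed_of_nonempty DX cX hX C hCc hCne hCcpt hmaps
  obtain ⟨i, hi⟩ := exists_fibreDimAt_le DX DS φ cX cS hX hS hcl f hf x d (hd (f x))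
  exact ((succ_le_iff_not_le _ d).mp (hx i)) hi

end main

end Groth.Agent.Lib.Helper22.FibDimLim
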