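import Mathlib

set_option autoImplicit false
universe u

open TensorProduct IsLocalRing

namespace Groth.Agent.Lib.Helper20.EtLocal

/-- local version: flat + formally unramified + essentially finitely presented local algebra
is formally étale. -/
theorem formallyEtale_of_flat_of_formallyUnramified_local
    {R S P : Type*} [CommRing R] [CommRing S] [Algebra R S] [Module.Flat R S]
    [CommRing P] [Algebra R P] [Algebra P S] [IsScalarTower R P S]
    [IsLocalRing R] [IsLocalRing S] [IsLocalHom (algebraMap R S)]
    (M : Submonoid P) [IsLocalization M S] [Algebra.FinitePresentation R P]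
    [Algebra.FormallyUnramified R S] : Algebra.FormallyEtale R S := by
  have : Algebra.EssFiniteType P S := .of_isLocalization S M
  have : Algebra.EssFiniteType R S := .comp R P S
  have : Algebra.EssFiniteType (ResidueField R) (ResidueField R ⊗[R] S) := inferInstance
  have : Algebra.FormallyUnramified (ResidueField R) (ResidueField R ⊗[R] S) := inferInstance
  have : Algebra.FormallyEtale (ResidueField R) (ResidueField R ⊗[R] S) :=
    Algebra.FormallyEtale.of_formallyUnramified_of_field _ _
  have : Algebra.FormallySmooth (ResidueField R) (ResidueField R ⊗[R] S) := inferInstance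
  have : Algebra.FormallySmooth R S :=
    Algebra.FormallySmooth.of_formallySmooth_residueField_tensor (R := R) (S := S) (P := P) M
  exact Algebra.FormallyEtale.of_formallyUnramified_and_formallySmooth

open Algebra in
set_option backward.isDefEq.respectTransparency false in
theorem isEtaleAt_of_flat_of_isUnramifiedAt
    {R S : Type*} [CommRing R] [CommRing S] [Algebra R S]
    [Algebra.FinitePresentation R S] (p : Ideal R) (q : Ideal S)
    [p.IsPrime] [q.IsPrime] [q.LiesOver p]
    [Algebra (Localization.AtPrime p) (Localization.AtPrime q)]
    [Localization.AtPrime.IsLiesOverAlgebra p q]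
    [Module.Flat (Localization.AtPrime p) (Localization.AtPrime q)]
    [Algebra.IsUnramifiedAt R q] : Algebra.IsEtaleAt R q := by
  let Rp := Localization.AtPrime p
  let Sp := Localization (algebraMapSubmonoid S p.primeCompl)
  let Sq := Localization.AtPrime q
  let f : Sp →ₐ[S] Sq := IsLocalization.liftAlgHom (M := algebraMapSubmonoid S p.primeCompl)
        (f := Algebra.ofId _ _) (by
      rintro ⟨_, x, hx, rfl⟩
      simpa using! IsLocalization.map_units (M := q.primeCompl) Sq ⟨algebraMap _ _ x,
        by simp_all [q.over_def p]⟩)
  algebraize [f.toRingHom]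
  have : IsScalarTower R Sp Sq := .to₁₃₄ _ S _ _
  have : IsScalarTower Rp Sp Sq := .of_algebraMap_eq' <| by
    apply IsLocalization.ringHom_ext p.primeCompl
    simp only [RingHom.comp_assoc, ← IsScalarTower.algebraMap_eq]
  have : IsLocalization (algebraMapSubmonoid Sp q.primeCompl) Sq :=
    .isLocalization_of_submonoid_le _ _ (algebraMapSubmonoid S p.primeCompl) _
    (by rintro _ ⟨x, hx, rfl⟩; simp_all [q.over_def p])
  have : FinitePresentation Rp Sp := by
    have : Algebra.IsPushout R Rp S Sp :=
      .symm <| Algebra.isPushout_of_isLocalization p.primeCompl _ _ _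
    exact .equiv (Algebra.IsPushout.equiv R Rp S Sp)
  have : Algebra.FormallyUnramified Rp Sq := .of_restrictScalars R _ _
  have : Algebra.FormallyEtale Rp Sq :=
    formallyEtale_of_flat_of_formallyUnramified_local (R := Rp) (S := Sq) (P := Sp)
      (algebraMapSubmonoid _ q.primeCompl)
  exact Algebra.FormallyEtale.comp R Rp Sq

set_option backward.isDefEq.respectTransparency false in
theorem flat_localization_of_isEtaleAt (A B : Type u) [CommRing A] [CommRing B]
    [Algebra A B] [Algebra.FinitePresentation A B] (q : Ideal B) [q.IsPrime]
    [Algebra.IsEtaleAt A q] :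
    Module.Flat A (Localization.AtPrime q) := by
  obtain ⟨f, hfq, hf⟩ := Algebra.exists_etale_of_isEtaleAt (R := A) q
  have hunit : IsUnit (algebraMap B (Localization.AtPrime q) f) :=
    IsLocalization.map_units (M := q.primeCompl) (Localization.AtPrime q) ⟨f, hfq⟩
  let g : Localization.Away f →+* Localization.AtPrime q := IsLocalization.Away.lift f hunit
  algebraize [g]
  have : IsScalarTower B (Localization.Away f) (Localization.AtPrime q) :=
    .of_algebraMap_eq fun x => (IsLocalization.Away.lift_eq f hunit x).symm
  have : IsScalarTower A (Localization.Away f) (Localization.AtPrime q) := .to₁₃₄ _ B _ _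
  have : IsLocalization (q.primeCompl.map (algebraMap B (Localization.Away f)))
      (Localization.AtPrime q) :=
    IsLocalization.isLocalization_of_submonoid_le _ _ (Submonoid.powers f) q.primeCompl
      (by
        rintro _ ⟨n, rfl⟩
        exact q.primeCompl.pow_mem hfq n)
  have : Module.Flat (Localization.Away f) (Localization.AtPrime q) :=
    IsLocalization.flat _ (q.primeCompl.map (algebraMap B (Localization.Away f)))
  exact Module.Flat.trans A (Localization.Away f) _


end Groth.Agent.Lib.Helper20.EtLocal
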