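import Mathlib
import Groth.Agent.Lib.Helper20EtLocalRing

set_option autoImplicit false
universe u

open CategoryTheory CategoryTheory.Limits AlgebraicGeometry IsLocalRing

namespace Groth.Agent.Lib.Helper20.EtLocal

variable {X Y : Scheme.{u}}

/-- stalk-level characterization of unramifiedness -/
theorem formallyUnramified_stalkMap_iff_local (f : X ⟶ Y) [LocallyOfFiniteType f] (x : X) :
    (f.stalkMap x).hom.FormallyUnramified ↔
      ((IsLocalRing.maximalIdeal (Y.presheaf.stalk (f.base x))).map (f.stalkMap x).hom =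
          IsLocalRing.maximalIdeal (X.presheaf.stalk x) ∧
        letI := (f.residueFieldMap x).hom.toAlgebra
        Module.Finite (Y.residueField (f.base x)) (X.residueField x) ∧
          Algebra.IsSeparable (Y.residueField (f.base x)) (X.residueField x)) := by
  algebraize [(f.stalkMap x).hom]
  have : IsLocalHom (algebraMap (Y.presheaf.stalk (f x)) (X.presheaf.stalk x)) :=
    inferInstanceAs <| IsLocalHom (f.stalkMap x).hom
  have : Algebra.EssFiniteType (Y.presheaf.stalk (f x)) (X.presheaf.stalk x) := by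
    rw [← RingHom.essFiniteType_algebraMap, RingHom.algebraMap_toAlgebra]
    exact LocallyOfFiniteType.stalkMap f x
  have halg : (f.residueFieldMap x).hom.toAlgebra =
      (inferInstance : Algebra (IsLocalRing.ResidueField <| Y.presheaf.stalk (f x))
      (IsLocalRing.ResidueField <| X.presheaf.stalk x)) := by
    refine Algebra.algebra_ext _ _ fun x ↦ ?_
    obtain ⟨x, rfl⟩ := IsLocalRing.residue_surjective x
    rfl
  have h1 : (f.stalkMap x).hom.FormallyUnramified ↔
      Algebra.FormallyUnramified (Y.presheaf.stalk (f x)) (X.presheaf.stalk x) := by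
    rw [← RingHom.formallyUnramified_algebraMap, RingHom.algebraMap_toAlgebra]
  rw [h1, Algebra.FormallyUnramified.iff_map_maximalIdeal_eq]
  change _ ↔ (_ ∧ @Module.Finite _ _ _ _ (f.residueFieldMap x).hom.toAlgebra.toModule ∧
    @Algebra.IsSeparable _ _ _ _ (f.residueFieldMap x).hom.toAlgebra)
  rw [halg]
  constructor
  · rintro ⟨hsep, hmap⟩
    refine ⟨hmap, ?_, hsep⟩
    have := Algebra.FormallyUnramified.of_isSeparable
      (IsLocalRing.ResidueField <| Y.presheaf.stalk (f x))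
      (IsLocalRing.ResidueField <| X.presheaf.stalk x)
    have : Algebra.EssFiniteType (Y.presheaf.stalk (f x))
        (IsLocalRing.ResidueField <| X.presheaf.stalk x) := .comp _ (X.presheaf.stalk x) _
    have : Algebra.EssFiniteType (IsLocalRing.ResidueField <| Y.presheaf.stalk (f x))
        (IsLocalRing.ResidueField <| X.presheaf.stalk x) := .of_comp (Y.presheaf.stalk (f x)) _ _
    exact Algebra.FormallyUnramified.finite_of_free
      (IsLocalRing.ResidueField <| Y.presheaf.stalk (f x))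
      (IsLocalRing.ResidueField <| X.presheaf.stalk x)
  · rintro ⟨hmap, -, hsep⟩
    exact ⟨hsep, hmap⟩

/-- chart version: the stalk map is formally unramified iff the chart algebra is unramified at the
corresponding prime. -/
theorem formallyUnramified_stalkMap_iff_chart {f : X ⟶ Y} {x : X} (U : Y.Opens)
      (hU : IsAffineOpen U) (V : X.Opens) (hV : IsAffineOpen V) (hVU : V ≤ f ⁻¹ᵁ U)
      (hx : x ∈ V) :
    letI := (f.appLE U V hVU).hom.toAlgebra
    (f.stalkMap x).hom.FormallyUnramified ↔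
      Algebra.IsUnramifiedAt Γ(Y, U) (hV.primeIdealOf ⟨x, hx⟩).asIdeal := by
  let := (f.appLE U V hVU).hom.toAlgebra
  let p := (hU.primeIdealOf ⟨f x, hVU hx⟩).asIdeal
  let q := (hV.primeIdealOf ⟨x, hx⟩).asIdeal
  have : q.LiesOver p :=
    ⟨congr($(IsAffineOpen.comap_primeIdealOf_appLE U hU V hV hVU hx).1).symm⟩
  let := Localization.AtPrime.algebraOfLiesOver p q
  trans Algebra.FormallyUnramified (Localization.AtPrime p) (Localization.AtPrime q)
  · rw [← RingHom.formallyUnramified_algebraMap]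
    exact RingHom.FormallyUnramified.respectsIso.arrow_mk_iso_iff
      (IsAffineOpen.arrowStalkMapIso f U hU V hV hVU hx)
  · exact ⟨fun _ ↦ Algebra.FormallyUnramified.comp _ (Localization.AtPrime p) _,
      fun _ ↦ .of_restrictScalars Γ(Y, U) _ _⟩

/-- chart version for flatness -/
theorem flat_stalkMap_iff_chart {f : X ⟶ Y} {x : X} (U : Y.Opens)
      (hU : IsAffineOpen U) (V : X.Opens) (hV : IsAffineOpen V) (hVU : V ≤ f ⁻¹ᵁ U)
      (hx : x ∈ V) :
    letI := (f.appLE U V hVU).hom.toAlgebra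
    haveI : (hV.primeIdealOf ⟨x, hx⟩).asIdeal.LiesOver (hU.primeIdealOf ⟨f x, hVU hx⟩).asIdeal :=
      ⟨congr($(IsAffineOpen.comap_primeIdealOf_appLE U hU V hV hVU hx).1).symm⟩
    letI := Localization.AtPrime.algebraOfLiesOver (hU.primeIdealOf ⟨f x, hVU hx⟩).asIdeal
      (hV.primeIdealOf ⟨x, hx⟩).asIdeal
    (f.stalkMap x).hom.Flat ↔
      Module.Flat (Localization.AtPrime (hU.primeIdealOf ⟨f x, hVU hx⟩).asIdeal)
        (Localization.AtPrime (hV.primeIdealOf ⟨x, hx⟩).asIdeal) := by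
  let := (f.appLE U V hVU).hom.toAlgebra
  let p := (hU.primeIdealOf ⟨f x, hVU hx⟩).asIdeal
  let q := (hV.primeIdealOf ⟨x, hx⟩).asIdeal
  have : q.LiesOver p :=
    ⟨congr($(IsAffineOpen.comap_primeIdealOf_appLE U hU V hV hVU hx).1).symm⟩
  let := Localization.AtPrime.algebraOfLiesOver p q
  change _ ↔ Module.Flat (Localization.AtPrime p) (Localization.AtPrime q)
  rw [← RingHom.flat_algebraMap_iff]
  exact RingHom.Flat.respectsIso.arrow_mk_iso_iff
    (IsAffineOpen.arrowStalkMapIso f U hU V hV hVU hx)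

set_option backward.defeqAttrib.useBackward true in
set_option backward.isDefEq.respectTransparency false in
/-- a property of `Γ(Y,U) → Γ(X,V)[1/r]` transfers to `appLE` on the basic open. -/
theorem appLE_basicOpen_of_away {Q : ∀ {R S : Type u} [CommRing R] [CommRing S], (R →+* S) → Prop}
    (hQ : RingHom.RespectsIso Q) (f : X ⟶ Y) {U : Y.Opens} {V : X.Opens}
    (hV : IsAffineOpen V) (hVU : V ≤ f ⁻¹ᵁ U) (r : Γ(X, V))
    (h : letI := (f.appLE U V hVU).hom.toAlgebra
      Q (algebraMap Γ(Y, U) (Localization.Away r))) :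
    Q (f.appLE U (X.basicOpen r) ((X.basicOpen_le r).trans hVU)).hom := by
  algebraize [(f.appLE U V hVU).hom]
  have := hV.isLocalization_basicOpen r
  convert! hQ.1 _ (IsLocalization.algEquiv (.powers r) _ Γ(X, X.basicOpen r)).toRingEquiv h
  ext
  dsimp
  simp only [IsScalarTower.algebraMap_apply Γ(Y, U) Γ(X, V) (Localization _),
    IsLocalization.map_eq]
  simp only [RingHom.algebraMap_toAlgebra, RingHomCompTriple.comp_apply,
    ← ConcreteCategory.comp_apply, Scheme.Hom.appLE_map]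

set_option backward.defeqAttrib.useBackward true in
set_option backward.isDefEq.respectTransparency false in
theorem mem_basicOpen_of_notMem_primeIdealOf {V : X.Opens} (hV : IsAffineOpen V) (x : X)
    (hxV : x ∈ V) (r : Γ(X, V)) (hrx : r ∉ (hV.primeIdealOf ⟨x, hxV⟩).asIdeal) :
    x ∈ X.basicOpen r := by
  rwa [← PrimeSpectrum.mem_basicOpen, IsAffineOpen.primeIdealOf,
    ← hV.fromSpec_preimage_basicOpen, Scheme.Hom.mem_preimage, ← Scheme.Hom.comp_apply,
    IsAffineOpen.isoSpec_hom, IsAffineOpen.toSpecΓ_fromSpec] at hrx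

/-- from a ring-level property on an affine chart to the scheme-level property of `V.ι ≫ f`. -/
theorem ι_comp_of_appLE {P : MorphismProperty Scheme.{u}}
    {Q : ∀ {R S : Type u} [CommRing R] [CommRing S], (R →+* S) → Prop}
    [HasRingHomProperty P Q]
    (hcomp : ∀ {X Y Z : Scheme.{u}} (f : X ⟶ Y) (g : Y ⟶ Z), P f → P g → P (f ≫ g))
    (hoi : ∀ {X Y : Scheme.{u}} (g : X ⟶ Y) [IsOpenImmersion g], P g)
    (f : X ⟶ Y) {U : Y.Opens} (hU : IsAffineOpen U) {V : X.Opens}
    (hV : IsAffineOpen V) (hVU : V ≤ f ⁻¹ᵁ U) (h : Q (f.appLE U V hVU).hom) :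
    P (V.ι ≫ f) := by
  rw [← Scheme.Hom.resLE_comp_ι f hVU]
  refine hcomp _ _ ?_ (hoi _)
  have : IsAffine _ := hU
  have : IsAffine _ := hV
  rw [HasRingHomProperty.iff_of_isAffine (P := P)]
  exact ((HasRingHomProperty.isLocal_ringHomProperty P).respectsIso.arrow_mk_iso_iff
    (arrowResLEAppIso f U V hVU)).mpr h

theorem stalkMap_ι_comp_iff {Q : ∀ {R S : Type u} [CommRing R] [CommRing S], (R →+* S) → Prop}
    (hQ : RingHom.RespectsIso Q) (f : X ⟶ Y) (U : X.Opens) (x : U.toScheme) :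
    Q ((U.ι ≫ f).stalkMap x).hom ↔ Q (f.stalkMap (U.ι x)).hom := by
  symm
  refine (hQ.cancel_right_isIso _ (U.ι.stalkMap x)).symm.trans ?_
  rw [← CommRingCat.hom_comp, ← Scheme.Hom.stalkMap_comp]
  rfl

theorem formallyUnramified_stalkMap_of_nbhd (f : X ⟶ Y) (x : X) (U : X.Opens) (hxU : x ∈ U)
    [FormallyUnramified (U.ι ≫ f)] : (f.stalkMap x).hom.FormallyUnramified :=
  (stalkMap_ι_comp_iff RingHom.FormallyUnramified.respectsIso f U ⟨x, hxU⟩).mp
    (FormallyUnramified.stalkMap (U.ι ≫ f) ⟨x, hxU⟩)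

theorem flat_stalkMap_of_nbhd (f : X ⟶ Y) (x : X) (U : X.Opens) (hxU : x ∈ U)
    [Flat (U.ι ≫ f)] : (f.stalkMap x).hom.Flat :=
  (stalkMap_ι_comp_iff RingHom.Flat.respectsIso f U ⟨x, hxU⟩).mp
    (Flat.stalkMap (U.ι ≫ f) ⟨x, hxU⟩)

theorem exists_formallyUnramified_nbhd (f : X ⟶ Y) [LocallyOfFiniteType f] (x : X)
    (H : (f.stalkMap x).hom.FormallyUnramified) :
    ∃ U : X.Opens, x ∈ U ∧ FormallyUnramified (U.ι ≫ f) := by
  obtain ⟨_, ⟨U, hU, rfl⟩, hxU, -⟩ :=
    Y.isBasis_affineOpens.exists_subset_of_mem_open (Set.mem_univ (f x)) isOpen_univ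
  obtain ⟨_, ⟨V, hV, rfl⟩, hxV, hVU⟩ :=
    X.isBasis_affineOpens.exists_subset_of_mem_open hxU (U.2.preimage f.continuous)
  have := f.finiteType_appLE hU hV hVU
  algebraize [(f.appLE U V hVU).hom]
  have : Algebra.IsUnramifiedAt _ _ := (formallyUnramified_stalkMap_iff_chart U hU V hV hVU hxV).mp H
  obtain ⟨r, hrx, hr⟩ := Algebra.exists_unramified_of_isUnramifiedAt (R := Γ(Y, U))
    (hV.primeIdealOf ⟨x, hxV⟩).asIdeal
  refine ⟨X.basicOpen r, mem_basicOpen_of_notMem_primeIdealOf hV x hxV r hrx, ?_⟩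
  apply ι_comp_of_appLE (P := @FormallyUnramified)
    (fun f g hf hg => MorphismProperty.comp_mem _ f g hf hg)
    (fun g _ => inferInstance) f hU
    (hV.basicOpen r) ((X.basicOpen_le r).trans hVU)
  apply appLE_basicOpen_of_away RingHom.FormallyUnramified.respectsIso f hV hVU r
  rw [RingHom.formallyUnramified_algebraMap]
  exact hr.1

theorem exists_etale_nbhd (f : X ⟶ Y) [LocallyOfFinitePresentation f] (x : X)
    (H1 : (f.stalkMap x).hom.FormallyUnramified) (H2 : (f.stalkMap x).hom.Flat) :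
    ∃ U : X.Opens, x ∈ U ∧ Etale (U.ι ≫ f) := by
  obtain ⟨_, ⟨U, hU, rfl⟩, hxU, -⟩ :=
    Y.isBasis_affineOpens.exists_subset_of_mem_open (Set.mem_univ (f x)) isOpen_univ
  obtain ⟨_, ⟨V, hV, rfl⟩, hxV, hVU⟩ :=
    X.isBasis_affineOpens.exists_subset_of_mem_open hxU (U.2.preimage f.continuous)
  have := f.finitePresentation_appLE hU hV hVU
  algebraize [(f.appLE U V hVU).hom]
  have : Algebra.IsUnramifiedAt _ _ := (formallyUnramified_stalkMap_iff_chart U hU V hV hVU hxV).mp H1
  have : (hV.primeIdealOf ⟨x, hxV⟩).asIdeal.LiesOver (hU.primeIdealOf ⟨f x, hVU hxV⟩).asIdeal :=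
    ⟨congr($(IsAffineOpen.comap_primeIdealOf_appLE U hU V hV hVU hxV).1).symm⟩
  let := Localization.AtPrime.algebraOfLiesOver (hU.primeIdealOf ⟨f x, hVU hxV⟩).asIdeal
    (hV.primeIdealOf ⟨x, hxV⟩).asIdeal
  have : Module.Flat (Localization.AtPrime (hU.primeIdealOf ⟨f x, hVU hxV⟩).asIdeal)
      (Localization.AtPrime (hV.primeIdealOf ⟨x, hxV⟩).asIdeal) :=
    (flat_stalkMap_iff_chart U hU V hV hVU hxV).mp H2
  have : Algebra.IsEtaleAt Γ(Y, U) (hV.primeIdealOf ⟨x, hxV⟩).asIdeal :=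
    isEtaleAt_of_flat_of_isUnramifiedAt (hU.primeIdealOf ⟨f x, hVU hxV⟩).asIdeal
      (hV.primeIdealOf ⟨x, hxV⟩).asIdeal
  obtain ⟨r, hrx, hr⟩ := Algebra.exists_etale_of_isEtaleAt (R := Γ(Y, U))
    (hV.primeIdealOf ⟨x, hxV⟩).asIdeal
  refine ⟨X.basicOpen r, mem_basicOpen_of_notMem_primeIdealOf hV x hxV r hrx, ?_⟩
  apply ι_comp_of_appLE (P := @Etale) (fun f g hf hg => by have := hf; have := hg; infer_instance)
    (fun g _ => inferInstance) f hU
    (hV.basicOpen r) ((X.basicOpen_le r).trans hVU)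
  apply appLE_basicOpen_of_away RingHom.Etale.respectsIso f hV hVU r
  rw [RingHom.etale_algebraMap]
  exact hr

end Groth.Agent.Lib.Helper20.EtLocal
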