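import Mathlib
import Groth.Agent.Lib.Helper20FlatDesc
import Groth.Agent.Lib.Helper20EtLocalSch

set_option autoImplicit false
universe u

open CategoryTheory CategoryTheory.Limits AlgebraicGeometry TensorProduct

namespace Groth.Agent.Lib.Helper20.FlatDesc

theorem stalkMap_comp_iff_left {Q : ∀ {R S : Type u} [CommRing R] [CommRing S], (R →+* S) → Prop}
    (hQ : RingHom.RespectsIso Q) {A B C : Scheme.{u}} (a : A ⟶ B) [IsOpenImmersion a] (b : B ⟶ C)
    (q : A) : Q ((a ≫ b).stalkMap q).hom ↔ Q (b.stalkMap (a q)).hom := by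
  symm
  refine (hQ.cancel_right_isIso _ (a.stalkMap q)).symm.trans ?_
  rw [← CommRingCat.hom_comp, ← Scheme.Hom.stalkMap_comp]
  rfl

theorem stalkMap_comp_iff_right {Q : ∀ {R S : Type u} [CommRing R] [CommRing S], (R →+* S) → Prop}
    (hQ : RingHom.RespectsIso Q) {A B C : Scheme.{u}} (a : A ⟶ B) (b : B ⟶ C) [IsOpenImmersion b]
    (q : A) : Q ((a ≫ b).stalkMap q).hom ↔ Q (a.stalkMap q).hom := by
  symm
  refine (hQ.cancel_left_isIso (b.stalkMap (a q)) _).symm.trans ?_
  rw [← CommRingCat.hom_comp, ← Scheme.Hom.stalkMap_comp]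
  rfl

theorem stalkMap_congr_iff {Q : ∀ {R S : Type u} [CommRing R] [CommRing S], (R →+* S) → Prop}
    {A B : Scheme.{u}} {a a' : A ⟶ B} (e : a = a') (q : A) :
    Q (a.stalkMap q).hom ↔ Q (a'.stalkMap q).hom := by
  subst e; rfl

end Groth.Agent.Lib.Helper20.FlatDesc

namespace Groth.Agent.Lib.Helper20.FlatDesc

open Groth.Agent.Lib.Helper20.EtLocal

variable {X Y Y' : Scheme.{u}}

set_option maxHeartbeats 800000 in
theorem formallyUnramified_stalkMap_of_flat_baseChange (f : X ⟶ Y) (g : Y' ⟶ Y) [Flat g]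
    (w : ↑(pullback f g))
    (H : ((pullback.snd f g).stalkMap w).hom.FormallyUnramified) :
    (f.stalkMap (pullback.fst f g w)).hom.FormallyUnramified := by
  have hxy : f (pullback.fst f g w) = g (pullback.snd f g w) := by
    rw [← Scheme.Hom.comp_apply, ← Scheme.Hom.comp_apply, pullback.condition]
  obtain ⟨_, ⟨W, hW, rfl⟩, hxW, -⟩ := Y.isBasis_affineOpens.exists_subset_of_mem_open
    (Set.mem_univ (f (pullback.fst f g w))) isOpen_univ
  obtain ⟨_, ⟨V, hV, rfl⟩, hxV, hVW⟩ := X.isBasis_affineOpens.exists_subset_of_mem_open hxW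
    (W.2.preimage f.continuous)
  have hyW : pullback.snd f g w ∈ g ⁻¹ᵁ W := by
    change g (pullback.snd f g w) ∈ W
    rw [← hxy]; exact hxW
  obtain ⟨_, ⟨W', hW', rfl⟩, hyW', hW'W⟩ := Y'.isBasis_affineOpens.exists_subset_of_mem_open hyW
    (W.2.preimage g.continuous)
  have hflat : (g.appLE W W' hW'W).hom.Flat := Flat.flat_appLE g hW hW' hW'W
  algebraize [(f.appLE W V hVW).hom, (g.appLE W W' hW'W).hom]
  let _ : Algebra Γ(Y', W') (Γ(X, V) ⊗[Γ(Y, W)] Γ(Y', W')) := Algebra.TensorProduct.rightAlgebra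
  have e₁ : Spec.map (CommRingCat.ofHom (algebraMap Γ(Y, W) Γ(X, V))) ≫ hW.fromSpec =
      hV.fromSpec ≫ f := IsAffineOpen.SpecMap_appLE_fromSpec f hW hV hVW
  have e₂ : Spec.map (CommRingCat.ofHom (algebraMap Γ(Y, W) Γ(Y', W'))) ≫ hW.fromSpec =
      hW'.fromSpec ≫ g := IsAffineOpen.SpecMap_appLE_fromSpec g hW hW' hW'W
  let j0 := pullback.map _ _ f g hV.fromSpec hW'.fromSpec hW.fromSpec e₁ e₂
  let j := (pullbackSpecIso Γ(Y, W) Γ(X, V) Γ(Y', W')).inv ≫ j0
  have hj1 : j ≫ pullback.fst f g =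
      Spec.map (CommRingCat.ofHom (algebraMap Γ(X, V) (Γ(X, V) ⊗[Γ(Y, W)] Γ(Y', W')))) ≫
        hV.fromSpec := by
    simp only [j, j0, Category.assoc, pullback.lift_fst, pullback.map]
    rw [← Category.assoc, pullbackSpecIso_inv_fst']
  have hj2 : j ≫ pullback.snd f g =
      Spec.map (CommRingCat.ofHom (algebraMap Γ(Y', W') (Γ(X, V) ⊗[Γ(Y, W)] Γ(Y', W')))) ≫
        hW'.fromSpec := by
    simp only [j, j0, Category.assoc, pullback.lift_snd, pullback.map]
    rw [← Category.assoc, pullbackSpecIso_inv_snd]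
    rfl
  have hwj : w ∈ Set.range j := by
    have : Set.range j = Set.range j0 := by
      simp only [j, Scheme.Hom.comp_base, TopCat.coe_comp]
      rw [Set.range_comp, Set.range_eq_univ.mpr, Set.image_univ]
      exact (pullbackSpecIso Γ(Y, W) Γ(X, V) Γ(Y', W')).inv.surjective
    have : IsOpenImmersion hW.fromSpec := hW.isOpenImmersion_fromSpec
    have : Mono hW.fromSpec := inferInstance
    rw [‹Set.range j = Set.range j0›, Scheme.Pullback.range_map]
    refine ⟨?_, ?_⟩
    · change pullback.fst f g w ∈ Set.range hV.fromSpec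
      rw [hV.range_fromSpec]; exact hxV
    · change pullback.snd f g w ∈ Set.range hW'.fromSpec
      rw [hW'.range_fromSpec]; exact hyW'
  obtain ⟨q, rfl⟩ := hwj
  have hqprime : q.asIdeal.IsPrime := q.isPrime
  have : IsOpenImmersion hW.fromSpec := hW.isOpenImmersion_fromSpec
  have : IsOpenImmersion hV.fromSpec := hV.isOpenImmersion_fromSpec
  have : IsOpenImmersion hW'.fromSpec := hW'.isOpenImmersion_fromSpec
  have : IsOpenImmersion j0 := inferInstance
  have : IsOpenImmersion j := inferInstance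
  have hQ := RingHom.FormallyUnramified.respectsIso
  -- step A
  have hA1 := (stalkMap_comp_iff_left hQ j (pullback.snd f g) q).mpr H
  have hA2 := (stalkMap_congr_iff (Q := RingHom.FormallyUnramified) hj2 q).mp hA1
  have hA3 := (stalkMap_comp_iff_right hQ _ hW'.fromSpec q).mp hA2
  have hA4 := (hQ.arrow_mk_iso_iff (Scheme.arrowStalkMapSpecIso _ q)).mp hA3
  have hA4' : (Localization.localRingHom (PrimeSpectrum.comap
        (algebraMap Γ(Y', W') (Γ(X, V) ⊗[Γ(Y, W)] Γ(Y', W'))) q).asIdeal q.asIdeal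
        (algebraMap Γ(Y', W') (Γ(X, V) ⊗[Γ(Y, W)] Γ(Y', W'))) rfl).FormallyUnramified := hA4
  have hA5 : Algebra.IsUnramifiedAt Γ(Y', W') q.asIdeal := by
    change Algebra.FormallyUnramified Γ(Y', W') (Localization.AtPrime q.asIdeal)
    rw [← RingHom.formallyUnramified_algebraMap]
    have h0 := RingHom.FormallyUnramified.holdsForLocalization
      (R := Γ(Y', W')) (S := Localization.AtPrime (PrimeSpectrum.comap
        (algebraMap Γ(Y', W') (Γ(X, V) ⊗[Γ(Y, W)] Γ(Y', W'))) q).asIdeal)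
        (PrimeSpectrum.comap
        (algebraMap Γ(Y', W') (Γ(X, V) ⊗[Γ(Y, W)] Γ(Y', W'))) q).asIdeal.primeCompl
    have h1 := RingHom.FormallyUnramified.comp h0 hA4'
    have h2 : algebraMap Γ(Y', W') (Localization.AtPrime q.asIdeal) =
        (Localization.localRingHom (PrimeSpectrum.comap
        (algebraMap Γ(Y', W') (Γ(X, V) ⊗[Γ(Y, W)] Γ(Y', W'))) q).asIdeal q.asIdeal
        (algebraMap Γ(Y', W') (Γ(X, V) ⊗[Γ(Y, W)] Γ(Y', W'))) rfl).comp
          (algebraMap Γ(Y', W') _) := by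
      rw [IsScalarTower.algebraMap_eq Γ(Y', W') (Γ(X, V) ⊗[Γ(Y, W)] Γ(Y', W'))
        (Localization.AtPrime q.asIdeal)]
      exact (IsLocalization.map_comp _).symm
    rw [h2]
    exact h1
  have hB := isUnramifiedAt_of_flat_baseChange Γ(Y, W) Γ(X, V) Γ(Y', W')
    (Γ(X, V) ⊗[Γ(Y, W)] Γ(Y', W')) q.asIdeal hA5
  have hp : hV.primeIdealOf ⟨pullback.fst f g (j q), hxV⟩ =
      PrimeSpectrum.comap (algebraMap Γ(X, V) (Γ(X, V) ⊗[Γ(Y, W)] Γ(Y', W'))) q := by
    apply hV.fromSpec.isOpenEmbedding.injective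
    rw [hV.fromSpec_primeIdealOf]
    have h3 : pullback.fst f g (j q) = hV.fromSpec ((Spec.map (CommRingCat.ofHom
        (algebraMap Γ(X, V) (Γ(X, V) ⊗[Γ(Y, W)] Γ(Y', W'))))) q) := by
      rw [← Scheme.Hom.comp_apply, ← Scheme.Hom.comp_apply, hj1]
    exact h3
  refine (formallyUnramified_stalkMap_iff_chart W hW V hV hVW hxV).mpr ?_
  rw [hp]
  exact hB

theorem flat_stalkMap_of_flat_baseChange (f : X ⟶ Y) (g : Y' ⟶ Y) [Flat g]
    (w : ↑(pullback f g))
    (H : ((pullback.snd f g).stalkMap w).hom.Flat) :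
    (f.stalkMap (pullback.fst f g w)).hom.Flat := by
  have h1 : ((pullback.snd f g ≫ g).stalkMap w).hom.Flat := by
    have := RingHom.Flat.comp (Flat.stalkMap g (pullback.snd f g w)) H
    rw [← CommRingCat.hom_comp, ← Scheme.Hom.stalkMap_comp] at this
    exact this
  have h2 : ((pullback.fst f g ≫ f).stalkMap w).hom.Flat :=
    (stalkMap_congr_iff (Q := RingHom.Flat) pullback.condition w).mpr h1
  have h2' : (((pullback.fst f g).stalkMap w).hom.comp
      (f.stalkMap (pullback.fst f g w)).hom).Flat := by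
    rw [← CommRingCat.hom_comp, ← Scheme.Hom.stalkMap_comp]
    exact h2
  have h3 : ((pullback.fst f g).stalkMap w).hom.Flat := Flat.stalkMap _ w
  have hloc : IsLocalHom ((pullback.fst f g).stalkMap w).hom := inferInstance
  algebraize [(f.stalkMap (pullback.fst f g w)).hom, ((pullback.fst f g).stalkMap w).hom,
    (((pullback.fst f g).stalkMap w).hom.comp (f.stalkMap (pullback.fst f g w)).hom)]
  have : IsLocalHom (algebraMap (X.presheaf.stalk (pullback.fst f g w))
    ((pullback f g).presheaf.stalk w)) := hloc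
  have : Module.FaithfullyFlat (X.presheaf.stalk (pullback.fst f g w))
    ((pullback f g).presheaf.stalk w) := Module.FaithfullyFlat.of_flat_of_isLocalHom
  exact flat_of_flat_comp_of_faithfullyFlat _ (X.presheaf.stalk (pullback.fst f g w))
    ((pullback f g).presheaf.stalk w)


/-- local-at-source gluing helper -/
theorem of_forall_exists_nbhd {P : MorphismProperty Scheme.{u}} [IsZariskiLocalAtSource P]
    {X Y : Scheme.{u}} (f : X ⟶ Y) (H : ∀ x : X, ∃ V : X.Opens, x ∈ V ∧ P (V.ι ≫ f)) : P f := by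
  choose V hxV hV using H
  refine IsZariskiLocalAtSource.of_iSup_eq_top V ?_ hV
  rw [eq_top_iff]
  intro x _
  exact TopologicalSpace.Opens.mem_iSup.mpr ⟨x, hxV x⟩

end Groth.Agent.Lib.Helper20.FlatDesc
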