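import Mathlib
import Groth.Agent.Lib.Helper20FlatDescSch

set_option autoImplicit false
universe u

open CategoryTheory CategoryTheory.Limits AlgebraicGeometry TensorProduct

namespace Groth.Agent.Lib.Helper25.FlatBC


/-- flatness at a prime is stable under base change -/
theorem flat_localization_of_isPushout (R S R' T : Type u) [CommRing R] [CommRing S]
    [CommRing R'] [CommRing T]
    [Algebra R S] [Algebra R R'] [Algebra R T] [Algebra S T] [Algebra R' T]
    [IsScalarTower R S T] [IsScalarTower R R' T] [Algebra.IsPushout R R' S T]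
    (q : Ideal T) [q.IsPrime]
    (hq : Module.Flat R (Localization.AtPrime (q.comap (algebraMap S T)))) :
    Module.Flat R' (Localization.AtPrime q) := by
  set p := q.comap (algebraMap S T) with hp
  let M := p.primeCompl
  let Sp := Localization.AtPrime p
  let TM := Localization (Algebra.algebraMapSubmonoid T M)
  have h1 : Algebra.IsPushout S T Sp TM := Algebra.isPushout_of_isLocalization M Sp T TM
  have h2 : Algebra.IsPushout R S R' T := .symm inferInstance
  have : IsScalarTower R Sp TM := by
    refine IsScalarTower.of_algebraMap_eq fun x ↦ ?_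
    rw [IsScalarTower.algebraMap_apply R S Sp, ← IsScalarTower.algebraMap_apply S Sp TM,
      IsScalarTower.algebraMap_apply R T TM, IsScalarTower.algebraMap_apply R S T,
      ← IsScalarTower.algebraMap_apply S T TM]
  have h3 : Algebra.IsPushout R Sp R' TM :=
    (Algebra.IsPushout.comp_iff R S R' T (T := Sp) (T' := TM)).mpr h1.symm
  have h4 : Module.Flat R' TM := Module.Flat.isBaseChange R R' Sp TM h3.symm.out
  have hle : Algebra.algebraMapSubmonoid T M ≤ q.primeCompl := by
    rintro _ ⟨s, hs, rfl⟩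
    exact hs
  letI : Algebra TM (Localization.AtPrime q) :=
    IsLocalization.localizationAlgebraOfSubmonoidLe TM _ _ _ hle
  have : IsScalarTower T TM (Localization.AtPrime q) :=
    IsLocalization.localization_isScalarTower_of_submonoid_le _ _ _ _ hle
  have : IsLocalization (q.primeCompl.map (algebraMap T TM)) (Localization.AtPrime q) :=
    IsLocalization.isLocalization_of_submonoid_le TM _ _ _ hle
  have : Module.Flat TM (Localization.AtPrime q) :=
    IsLocalization.flat _ (q.primeCompl.map (algebraMap T TM))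
  have : IsScalarTower R' TM (Localization.AtPrime q) := by
    refine IsScalarTower.of_algebraMap_eq fun x ↦ ?_
    rw [IsScalarTower.algebraMap_apply R' T (Localization.AtPrime q),
      IsScalarTower.algebraMap_apply R' T TM,
      ← IsScalarTower.algebraMap_apply T TM (Localization.AtPrime q)]
  exact Module.Flat.trans R' TM (Localization.AtPrime q)



open Groth.Agent.Lib.Helper20.EtLocal Groth.Agent.Lib.Helper20.FlatDesc

variable {X Y Y' : Scheme.{u}}

/-- flatness of a localized ring map in terms of the module over the unlocalized base -/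
theorem flat_localRingHom_iff {A B : Type u} [CommRing A] [CommRing B] [Algebra A B]
    (q : Ideal B) [q.IsPrime] :
    (Localization.localRingHom (q.comap (algebraMap A B)) q (algebraMap A B) rfl).Flat ↔
      Module.Flat A (Localization.AtPrime q) := by
  let p := q.comap (algebraMap A B)
  have : q.LiesOver p := ⟨rfl⟩
  let := Localization.AtPrime.algebraOfLiesOver p q
  have h1 : (Localization.localRingHom (q.comap (algebraMap A B)) q (algebraMap A B) rfl).Flat ↔
      Module.Flat (Localization.AtPrime p) (Localization.AtPrime q) := by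
    rw [← RingHom.flat_algebraMap_iff]
    rfl
  rw [h1]
  exact Module.flat_iff_of_isLocalization (Localization.AtPrime p) p.primeCompl _

/-- chart version for flatness, over the unlocalized base -/
theorem flat_stalkMap_iff_chart' {f : X ⟶ Y} {x : X} (U : Y.Opens)
      (hU : IsAffineOpen U) (V : X.Opens) (hV : IsAffineOpen V) (hVU : V ≤ f ⁻¹ᵁ U)
      (hx : x ∈ V) :
    letI := (f.appLE U V hVU).hom.toAlgebra
    (f.stalkMap x).hom.Flat ↔
      Module.Flat Γ(Y, U) (Localization.AtPrime (hV.primeIdealOf ⟨x, hx⟩).asIdeal) := by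
  let := (f.appLE U V hVU).hom.toAlgebra
  let p := (hU.primeIdealOf ⟨f x, hVU hx⟩).asIdeal
  let q := (hV.primeIdealOf ⟨x, hx⟩).asIdeal
  have : q.LiesOver p :=
    ⟨congr($(IsAffineOpen.comap_primeIdealOf_appLE U hU V hV hVU hx).1).symm⟩
  let := Localization.AtPrime.algebraOfLiesOver p q
  change _ ↔ Module.Flat Γ(Y, U) (Localization.AtPrime q)
  rw [flat_stalkMap_iff_chart U hU V hV hVU hx]
  exact Module.flat_iff_of_isLocalization (Localization.AtPrime p) p.primeCompl _

set_option maxHeartbeats 800000 in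
/-- flatness at a point is stable under base change -/
theorem flat_stalkMap_snd_of_flat (f : X ⟶ Y) (g : Y' ⟶ Y)
    (w : ↑(pullback f g))
    (H : (f.stalkMap (pullback.fst f g w)).hom.Flat) :
    ((pullback.snd f g).stalkMap w).hom.Flat := by
  have hxy : f (pullback.fst f g w) = g (pullback.snd f g w) := by
    rw [← Scheme.Hom.comp_apply, ← Scheme.Hom.comp_apply, pullback.condition]
  obtain ⟨_, ⟨W, hW, rfl⟩, hxW, -⟩ := Y.isBasis_affineOpens.exists_subset_of_mem_open
    (Set.mem_univ (f (pullback.fst f g w))) isOpen_univ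
  obtain ⟨_, ⟨V, hV, rfl⟩, hxV, hVW⟩ := X.isBasis_affineOpens.exists_subset_of_mem_open hxW
    (W.2.preimage f.continuous)
  have hyW : pullback.snd f g w ∈ g ⁻¹ᵁ W := by
    change g (pullback.snd f g w) ∈ W
    rw [← hxy]; exact hxW
  obtain ⟨_, ⟨W', hW', rfl⟩, hyW', hW'W⟩ := Y'.isBasis_affineOpens.exists_subset_of_mem_open hyW
    (W.2.preimage g.continuous)
  algebraize [(f.appLE W V hVW).hom, (g.appLE W W' hW'W).hom]
  let _ : Algebra Γ(Y', W') (Γ(X, V) ⊗[Γ(Y, W)] Γ(Y', W')) := Algebra.TensorProduct.rightAlgebra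
  have e₁ : Spec.map (CommRingCat.ofHom (algebraMap Γ(Y, W) Γ(X, V))) ≫ hW.fromSpec =
      hV.fromSpec ≫ f := IsAffineOpen.SpecMap_appLE_fromSpec f hW hV hVW
  have e₂ : Spec.map (CommRingCat.ofHom (algebraMap Γ(Y, W) Γ(Y', W'))) ≫ hW.fromSpec =
      hW'.fromSpec ≫ g := IsAffineOpen.SpecMap_appLE_fromSpec g hW hW' hW'W
  let j0 := pullback.map _ _ f g hV.fromSpec hW'.fromSpec hW.fromSpec e₁ e₂
  let j := (pullbackSpecIso Γ(Y, W) Γ(X, V) Γ(Y', W')).inv ≫ j0
  have hj1 : j ≫ pullback.fst f g =
      Spec.map (CommRingCat.ofHom (algebraMap Γ(X, V) (Γ(X, V) ⊗[Γ(Y, W)] Γ(Y', W')))) ≫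
        hV.fromSpec := by
    simp only [j, j0, Category.assoc, pullback.lift_fst, pullback.map]
    rw [← Category.assoc, pullbackSpecIso_inv_fst']
  have hj2 : j ≫ pullback.snd f g =
      Spec.map (CommRingCat.ofHom (algebraMap Γ(Y', W') (Γ(X, V) ⊗[Γ(Y, W)] Γ(Y', W')))) ≫
        hW'.fromSpec := by
    simp only [j, j0, Category.assoc, pullback.lift_snd, pullback.map]
    rw [← Category.assoc, pullbackSpecIso_inv_snd]
    rfl
  have hwj : w ∈ Set.range j := by
    have : Set.range j = Set.range j0 := by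
      simp only [j, Scheme.Hom.comp_base, TopCat.coe_comp]
      rw [Set.range_comp, Set.range_eq_univ.mpr, Set.image_univ]
      exact (pullbackSpecIso Γ(Y, W) Γ(X, V) Γ(Y', W')).inv.surjective
    have : IsOpenImmersion hW.fromSpec := hW.isOpenImmersion_fromSpec
    have : Mono hW.fromSpec := inferInstance
    rw [‹Set.range j = Set.range j0›, Scheme.Pullback.range_map]
    refine ⟨?_, ?_⟩
    · change pullback.fst f g w ∈ Set.range hV.fromSpec
      rw [hV.range_fromSpec]; exact hxV
    · change pullback.snd f g w ∈ Set.range hW'.fromSpec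
      rw [hW'.range_fromSpec]; exact hyW'
  obtain ⟨q, rfl⟩ := hwj
  have hqprime : q.asIdeal.IsPrime := q.isPrime
  have : IsOpenImmersion hW.fromSpec := hW.isOpenImmersion_fromSpec
  have : IsOpenImmersion hV.fromSpec := hV.isOpenImmersion_fromSpec
  have : IsOpenImmersion hW'.fromSpec := hW'.isOpenImmersion_fromSpec
  have : IsOpenImmersion j0 := inferInstance
  have : IsOpenImmersion j := inferInstance
  have hQ := RingHom.Flat.respectsIso
  have hp : hV.primeIdealOf ⟨pullback.fst f g (j q), hxV⟩ =
      PrimeSpectrum.comap (algebraMap Γ(X, V) (Γ(X, V) ⊗[Γ(Y, W)] Γ(Y', W'))) q := by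
    apply hV.fromSpec.isOpenEmbedding.injective
    rw [hV.fromSpec_primeIdealOf]
    have h3 : pullback.fst f g (j q) = hV.fromSpec ((Spec.map (CommRingCat.ofHom
        (algebraMap Γ(X, V) (Γ(X, V) ⊗[Γ(Y, W)] Γ(Y', W'))))) q) := by
      rw [← Scheme.Hom.comp_apply, ← Scheme.Hom.comp_apply, hj1]
    exact h3
  have hB := (flat_stalkMap_iff_chart' W hW V hV hVW hxV).mp H
  rw [hp] at hB
  have hC : Module.Flat Γ(Y', W') (Localization.AtPrime q.asIdeal) :=
    flat_localization_of_isPushout Γ(Y, W) Γ(X, V) Γ(Y', W')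
      (Γ(X, V) ⊗[Γ(Y, W)] Γ(Y', W')) q.asIdeal hB
  have hA4 := (flat_localRingHom_iff (A := Γ(Y', W')) q.asIdeal).mpr hC
  have hA3 := (hQ.arrow_mk_iso_iff (Scheme.arrowStalkMapSpecIso (CommRingCat.ofHom
    (algebraMap Γ(Y', W') (Γ(X, V) ⊗[Γ(Y, W)] Γ(Y', W')))) q)).mpr hA4
  have hA2 := (stalkMap_comp_iff_right hQ _ hW'.fromSpec q).mpr hA3
  have hA1 := (stalkMap_congr_iff (Q := RingHom.Flat) hj2 q).mpr hA2
  exact (stalkMap_comp_iff_left hQ j (pullback.snd f g) q).mp hA1

end Groth.Agent.Lib.Helper25.FlatBC
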