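import Mathlib

set_option autoImplicit false
universe u
open CategoryTheory CategoryTheory.Limits AlgebraicGeometry

namespace Groth.Agent.Lib.Helper10.FibStalk

/-- non-units in a stalk of `Spec` of a field vanish -/
theorem stalk_field_eq_zero (K : Type u) [Field K] (p : Spec (CommRingCat.of K))
    (z : (Spec (CommRingCat.of K)).presheaf.stalk p) (hz : ¬ IsUnit z) : z = 0 := by
  obtain rfl : p = IsLocalRing.closedPoint K := Subsingleton.elim _ _
  let e := stalkClosedPointIso (CommRingCat.of K)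
  have h1 : ¬ IsUnit (e.hom z) := fun h => hz (by
    have := h.map e.inv.hom
    simpa using this)
  have h2 : e.hom z = 0 := by
    by_contra h
    exact h1 (isUnit_iff_ne_zero.mpr h)
  have := congrArg e.inv h2
  simpa using this

/-- if `k : W ⟶ S` factors through `Spec` of a field then `k.stalkMap w` kills the maximal ideal -/
theorem stalkMap_eq_zero_of_fac {W S : Scheme.{u}} (K : Type u) [Field K] (k : W ⟶ S)
    (k₁ : W ⟶ Spec (CommRingCat.of K)) (k₂ : Spec (CommRingCat.of K) ⟶ S) (hk : k = k₁ ≫ k₂)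
    (w : W) (a : S.presheaf.stalk (k w)) (ha : a ∈ IsLocalRing.maximalIdeal (S.presheaf.stalk (k w))) :
    (k.stalkMap w).hom a = 0 := by
  subst hk
  rw [Scheme.Hom.stalkMap_comp]
  change (k₁.stalkMap w).hom ((k₂.stalkMap (k₁ w)).hom a) = 0
  have key : ∀ a' : S.presheaf.stalk (k₂ (k₁ w)),
      a' ∈ IsLocalRing.maximalIdeal (S.presheaf.stalk (k₂ (k₁ w))) →
      (k₂.stalkMap (k₁ w)).hom a' = 0 := by
    intro a' ha'
    refine stalk_field_eq_zero _ _ _ ?_
    intro hu
    exact ha' (isUnit_of_map_unit _ _ hu)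
  exact (congrArg _ (key a ha)).trans (map_zero _)

variable {X S : Scheme.{u}} (f : X ⟶ S) (s : S) (y : ↥(f.fiber s))

theorem fiberι_apply_eq : f ((f.fiberι s) y) = s := by
  have : (f.fiberι s) y ∈ Set.range (f.fiberι s) := ⟨y, rfl⟩
  rw [f.range_fiberι] at this
  exact this

theorem map_le_ker :
    Ideal.map (f.stalkMap ((f.fiberι s) y)).hom
      (IsLocalRing.maximalIdeal (S.presheaf.stalk (f ((f.fiberι s) y)))) ≤
    RingHom.ker ((f.fiberι s).stalkMap y).hom := by
  rw [Ideal.map_le_iff_le_comap]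
  intro a ha
  rw [Ideal.mem_comap, RingHom.mem_ker]
  have h1 := congrArg (fun φ => φ.hom a) (Scheme.Hom.stalkMap_comp (f.fiberι s) f y)
  refine h1.symm.trans ?_
  exact stalkMap_eq_zero_of_fac (S.residueField s) (f.fiberι s ≫ f) _ _ (f.fiber_fac s) y a ha

theorem ker_le_of_le (I : Ideal (X.presheaf.stalk ((f.fiberι s) y)))
    (hI : I ≤ IsLocalRing.maximalIdeal (X.presheaf.stalk ((f.fiberι s) y)))
    (hI2 : ∀ a ∈ IsLocalRing.maximalIdeal (S.presheaf.stalk (f ((f.fiberι s) y))),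
      (f.stalkMap ((f.fiberι s) y)).hom a ∈ I) :
    RingHom.ker ((f.fiberι s).stalkMap y).hom ≤ I := by
  have hI' : I ≠ ⊤ := ne_top_of_le_ne_top (IsLocalRing.maximalIdeal.isMaximal _).ne_top hI
  have : Nontrivial (X.presheaf.stalk ((f.fiberι s) y) ⧸ I) := Ideal.Quotient.nontrivial_iff.mpr hI'
  have : IsLocalRing (X.presheaf.stalk ((f.fiberι s) y) ⧸ I) :=
    IsLocalRing.of_surjective' (Ideal.Quotient.mk I) Ideal.Quotient.mk_surjective
  let R : CommRingCat.{u} := CommRingCat.of (X.presheaf.stalk ((f.fiberι s) y) ⧸ I)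
  have : IsLocalRing R := inferInstanceAs (IsLocalRing (X.presheaf.stalk ((f.fiberι s) y) ⧸ I))
  let q : X.presheaf.stalk ((f.fiberι s) y) ⟶ R := CommRingCat.ofHom (Ideal.Quotient.mk I)
  have : IsLocalHom q.hom :=
    IsLocalHom.of_surjective (Ideal.Quotient.mk I) Ideal.Quotient.mk_surjective
  have hfx : s = f ((f.fiberι s) y) := (fiberι_apply_eq f s y).symm
  let σ : S.presheaf.stalk s ⟶ S.presheaf.stalk (f ((f.fiberι s) y)) :=
    (S.presheaf.stalkCongr (.of_eq hfx)).hom
  let g0 : S.presheaf.stalk s ⟶ R := σ ≫ f.stalkMap ((f.fiberι s) y) ≫ q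
  have hg0 : ∀ a ∈ IsLocalRing.maximalIdeal (S.presheaf.stalk s), g0.hom a = 0 := by
    intro a ha
    have h1 : σ.hom a ∈ IsLocalRing.maximalIdeal (S.presheaf.stalk (f ((f.fiberι s) y))) :=
      IsLocalRing.map_maximalIdeal_le σ.hom (Ideal.mem_map_of_mem _ ha)
    exact Ideal.Quotient.eq_zero_iff_mem.mpr (hI2 _ h1)
  let g0r : IsLocalRing.ResidueField (S.presheaf.stalk s) →+*
      (X.presheaf.stalk ((f.fiberι s) y) ⧸ I) :=
    Ideal.Quotient.lift (IsLocalRing.maximalIdeal (S.presheaf.stalk s)) g0.hom hg0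
  let g0' : S.residueField s ⟶ R := CommRingCat.ofHom g0r
  have hres : S.residue s ≫ g0' = g0 := by
    ext a
    rfl
  let g₁ : Spec R ⟶ X := Spec.map q ≫ X.fromSpecStalk ((f.fiberι s) y)
  let g₂ : Spec R ⟶ Spec (S.residueField s) := Spec.map g0'
  have comm : g₁ ≫ f = g₂ ≫ S.fromSpecResidueField s := by
    have e1 : g₂ ≫ S.fromSpecResidueField s = Spec.map g0 ≫ S.fromSpecStalk s := by
      simp only [g₂, Scheme.fromSpecResidueField]
      rw [← Spec.map_comp_assoc, hres]
    have e2 : Spec.map σ ≫ S.fromSpecStalk s = S.fromSpecStalk (f ((f.fiberι s) y)) := by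
      simp only [σ, TopCat.Presheaf.stalkCongr_hom]
      exact Scheme.SpecMap_stalkSpecializes_fromSpecStalk _
    rw [e1]
    simp only [g₁, g0, Spec.map_comp, Category.assoc, e2]
    rw [Scheme.SpecMap_stalkMap_fromSpecStalk]
  let g : Spec R ⟶ f.fiber s := pullback.lift g₁ g₂ comm
  have hg : g ≫ f.fiberι s = g₁ := pullback.lift_fst _ _ _
  let c : Spec R := IsLocalRing.closedPoint R
  have hc : (f.fiberι s) (g c) = (f.fiberι s) y := by
    have h1 : (g ≫ f.fiberι s) c = g₁ c := by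
      rw [hg]
    refine h1.trans ?_
    have h2 : (Spec.map q) c = IsLocalRing.closedPoint (X.presheaf.stalk ((f.fiberι s) y)) :=
      Spec_closedPoint
    have h3 : g₁ c = X.fromSpecStalk ((f.fiberι s) y) ((Spec.map q) c) := rfl
    rw [h3, h2]
    exact Scheme.fromSpecStalk_closedPoint
  have hy : g c = y := (f.fiberι s).isEmbedding.injective hc
  intro a ha
  rw [RingHom.mem_ker] at ha
  rw [← Ideal.Quotient.eq_zero_iff_mem]
  obtain ⟨U, hxU, a', rfl⟩ := X.presheaf.exists_germ_eq a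
  have hφ : (f.fiber s).presheaf.germ (f.fiberι s ⁻¹ᵁ U) y hxU ((f.fiberι s).app U a') = 0 := by
    rw [← Scheme.Hom.germ_stalkMap_apply]
    exact ha
  have hφ' : ∀ (y' : f.fiber s) (hy' : y' = y) (hm : y' ∈ f.fiberι s ⁻¹ᵁ U),
      (f.fiber s).presheaf.germ (f.fiberι s ⁻¹ᵁ U) y' hm ((f.fiberι s).app U a') = 0 := by
    rintro _ rfl _
    exact hφ
  have hm : g c ∈ f.fiberι s ⁻¹ᵁ U := by rw [hy]; exact hxU
  have key := hφ' (g c) hy hm
  have e1 : ∀ (k : Spec R ⟶ X) (hk : k = g₁) (hU : k c ∈ U),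
      (X.presheaf.germ U (k c) hU ≫ Scheme.stalkClosedPointTo k) =
        X.presheaf.germ U ((f.fiberι s) y) hxU ≫ q := by
    rintro _ rfl hU
    exact Scheme.germ_stalkClosedPointTo_Spec_fromSpecStalk q U hU
  have e2 := e1 (g ≫ f.fiberι s) hg hm
  rw [Scheme.stalkClosedPointTo_comp] at e2
  have e3 := congrArg (fun φ => φ.hom a') e2
  have e4 : (Scheme.stalkClosedPointTo g).hom (((f.fiberι s).stalkMap (g c)).hom
      ((X.presheaf.germ U ((f.fiberι s) (g c)) hm) a')) =
      (Ideal.Quotient.mk I) (X.presheaf.germ U _ hxU a') := e3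
  have e5 : ((f.fiberι s).stalkMap (g c)).hom
      ((X.presheaf.germ U ((f.fiberι s) (g c)) hm) a') = 0 :=
    (Scheme.Hom.germ_stalkMap_apply (f.fiberι s) U (g c) hm a').trans key
  rw [← e4, e5, map_zero]

theorem ker_eq_map :
    RingHom.ker ((f.fiberι s).stalkMap y).hom =
    Ideal.map (f.stalkMap ((f.fiberι s) y)).hom
      (IsLocalRing.maximalIdeal (S.presheaf.stalk (f ((f.fiberι s) y)))) :=
  le_antisymm
    (ker_le_of_le f s y _ (IsLocalRing.map_maximalIdeal_le (f.stalkMap ((f.fiberι s) y)).hom)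
      (fun _ ha => Ideal.mem_map_of_mem _ ha))
    (map_le_ker f s y)

end Groth.Agent.Lib.Helper10.FibStalk
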