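import Mathlib.Topology.KrullDimension
import Mathlib.Topology.Sober
import Mathlib.Topology.Inseparable
import Mathlib.Topology.NoetherianSpace
import Mathlib.Order.KrullDimension

/-!
Topological dimension lemmas: comparison of Krull dimensions along maps that lift
specializations / generalizations, or that are injective on specializations inside fibres.
-/

namespace Groth.Agent.Lib.Helper7

open Order TopologicalSpace

section OrderLemma

variable {α β : Type*} [Preorder α] [Preorder β]

/-- If `f` lifts strict upward steps, every chain of `β` starting at `f a` lifts to a chain of the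
same length starting at `a`. -/
lemma exists_ltSeries_of_lifts_gt (f : α → β)
    (hlift : ∀ a b', f a < b' → ∃ a', a < a' ∧ f a' = b') :
    ∀ (n : ℕ) (p : LTSeries β), p.length = n → ∀ a, f a = p.head →
      ∃ q : LTSeries α, q.length = n ∧ q.head = a := by
  intro n
  induction n with
  | zero =>
    intro p _ a _
    exact ⟨RelSeries.singleton _ a, rfl, rfl⟩
  | succ n ih =>
    intro p hp a ha
    have hne : p.length ≠ 0 := by omega
    have h01 : p.head < (p.tail hne).head := by
      rw [RelSeries.head_tail]
      apply p.strictMono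
      rw [Fin.lt_def]
      change (0 : ℕ) < (1 : ℕ) % _
      rw [Nat.mod_eq_of_lt (by omega)]
      exact Nat.zero_lt_one
    obtain ⟨a', haa', hfa'⟩ := hlift a (p.tail hne).head (ha ▸ h01)
    obtain ⟨q', hq'len, hq'head⟩ := ih (p.tail hne) (by simp [RelSeries.tail, hp]) a' hfa'
    refine ⟨q'.cons a (by rw [hq'head]; exact haa'), ?_, ?_⟩
    · rw [RelSeries.cons_length, hq'len]
    · rw [RelSeries.head_cons]

lemma krullDim_le_of_lifts_gt (f : α → β) (hf : Function.Surjective f)
    (hlift : ∀ a b', f a < b' → ∃ a', a < a' ∧ f a' = b') :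
    krullDim β ≤ krullDim α := by
  refine iSup_le fun p => ?_
  obtain ⟨a, ha⟩ := hf p.head
  obtain ⟨q, hq, -⟩ := exists_ltSeries_of_lifts_gt f hlift p.length p rfl a ha
  rw [← hq]
  exact q.length_le_krullDim

lemma krullDim_le_of_lifts_lt (f : α → β) (hf : Function.Surjective f)
    (hlift : ∀ a b', b' < f a → ∃ a', a' < a ∧ f a' = b') :
    krullDim β ≤ krullDim α := by
  rw [← krullDim_orderDual (α := α), ← krullDim_orderDual (α := β)]
  exact krullDim_le_of_lifts_gt (α := αᵒᵈ) (β := βᵒᵈ) f hf hlift

end OrderLemma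

section Top

variable {X Y : Type*} [TopologicalSpace X] [TopologicalSpace Y]

attribute [local instance] specializationOrder

lemma topologicalKrullDim_eq_krullDim_points [QuasiSober X] [T0Space X] :
    topologicalKrullDim X = krullDim X :=
  krullDim_eq_of_orderIso irreducibleSetEquivPoints

lemma specializationOrder_le_iff [T0Space X] {x y : X} : x ≤ y ↔ y ⤳ x := Iff.rfl

lemma specializationOrder_lt_iff [T0Space X] {x y : X} : x < y ↔ y ⤳ x ∧ x ≠ y := by
  rw [lt_iff_le_and_ne]
  rfl

/-- If `g` is continuous and injective on pairs of points related by specialization inside one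
fibre, then `dim X ≤ dim Y`. -/
theorem topologicalKrullDim_le_of_fibres [QuasiSober X] [T0Space X] [QuasiSober Y] [T0Space Y]
    (g : X → Y) (hg : Continuous g) (h : ∀ x x', x ⤳ x' → g x = g x' → x = x') :
    topologicalKrullDim X ≤ topologicalKrullDim Y := by
  rw [topologicalKrullDim_eq_krullDim_points, topologicalKrullDim_eq_krullDim_points]
  apply krullDim_le_of_strictMono g
  intro a b hab
  rw [specializationOrder_lt_iff] at hab ⊢
  refine ⟨hab.1.map hg, fun heq => hab.2 ?_⟩
  exact (h b a hab.1 heq.symm).symm

/-- A surjective continuous map lifting generalizations does not lower the dimension. -/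
theorem topologicalKrullDim_le_of_generalizingMap [QuasiSober X] [T0Space X] [QuasiSober Y]
    [T0Space Y] (f : X → Y) (hs : Function.Surjective f) (hf : GeneralizingMap f) :
    topologicalKrullDim Y ≤ topologicalKrullDim X := by
  rw [topologicalKrullDim_eq_krullDim_points, topologicalKrullDim_eq_krullDim_points]
  apply krullDim_le_of_lifts_gt f hs
  intro a b' hab
  rw [specializationOrder_lt_iff] at hab
  obtain ⟨a', ha', rfl⟩ := hf hab.1
  refine ⟨a', ?_, rfl⟩
  rw [specializationOrder_lt_iff]
  exact ⟨ha', fun h => hab.2 (by rw [h])⟩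

/-- A surjective continuous map lifting specializations does not lower the dimension. -/
theorem topologicalKrullDim_le_of_specializingMap [QuasiSober X] [T0Space X] [QuasiSober Y]
    [T0Space Y] (f : X → Y) (hs : Function.Surjective f) (hf : SpecializingMap f) :
    topologicalKrullDim Y ≤ topologicalKrullDim X := by
  rw [topologicalKrullDim_eq_krullDim_points, topologicalKrullDim_eq_krullDim_points]
  apply krullDim_le_of_lifts_lt f hs
  intro a b' hab
  rw [specializationOrder_lt_iff] at hab
  obtain ⟨a', ha', rfl⟩ := hf hab.1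
  refine ⟨a', ?_, rfl⟩
  rw [specializationOrder_lt_iff]
  exact ⟨ha', fun h => hab.2 (by rw [h])⟩

/-- A sober T0 space in which every point is either minimal or maximal for specialization has
dimension at most one. -/
theorem topologicalKrullDim_le_one_of_forall [QuasiSober X] [T0Space X]
    (h : ∀ y : X, (∀ z, y ⤳ z → z ⤳ y) ∨ (∀ z, z ⤳ y → y ⤳ z)) :
    topologicalKrullDim X ≤ 1 := by
  rw [topologicalKrullDim_eq_krullDim_points, Order.krullDim_le_one_iff]
  intro y
  rcases h y with h | h
  · left
    intro z hz
    exact h z hz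
  · right
    intro z hz
    exact h z hz

lemma eq_of_specializes_of_isDiscrete {s : Set X} (hs : IsDiscrete s) {x x' : X} (hx : x ∈ s)
    (hx' : x' ∈ s) (h : x ⤳ x') : x = x' := by
  have := hs.to_subtype
  have h' : (⟨x, hx⟩ : s) ⤳ ⟨x', hx'⟩ := Topology.IsInducing.subtypeVal.specializes_iff.mp h
  exact congrArg Subtype.val h'.eq

/-- In a Noetherian quasi-sober space, if every open neighbourhood of `x` meets the fibre of `f`
over `y'`, where `y'` generalizes `f x`, then some generalization of `x` maps to `y'`. -/
lemma exists_specializes_of_noetherianSpace [NoetherianSpace X] [QuasiSober X] [T0Space Y]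
    (f : X → Y) (hf : Continuous f) (x : X) (y' : Y)
    (hV : ∀ V : Set X, IsOpen V → x ∈ V → y' ∈ f '' V) :
    ∃ x', x' ⤳ x ∧ f x' = y' := by
  have hC : IsClosed (f ⁻¹' closure {y'}) := isClosed_closure.preimage hf
  obtain ⟨S, hSf, hSc, hSi, hSU⟩ := NoetherianSpace.exists_finite_set_isClosed_irreducible hC
  let S' : Set (Set X) := {t ∈ S | x ∉ t}
  have hS'f : S'.Finite := hSf.subset (Set.sep_subset _ _)
  have hS'c : IsClosed (⋃₀ S') := by
    rw [Set.sUnion_eq_biUnion]
    exact hS'f.isClosed_biUnion fun t ht => hSc t ht.1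
  obtain ⟨u, huV, hu⟩ := hV (⋃₀ S')ᶜ hS'c.isOpen_compl (by
    rintro ⟨t, ht, hxt⟩
    exact ht.2 hxt)
  have huC : u ∈ f ⁻¹' closure {y'} := by
    rw [Set.mem_preimage, hu]
    exact subset_closure rfl
  rw [hSU] at huC
  obtain ⟨t, ht, hut⟩ := huC
  have hxt : x ∈ t := by
    by_contra hxt
    exact huV ⟨t, ⟨ht, hxt⟩, hut⟩
  obtain ⟨w, hw⟩ := QuasiSober.sober (hSi t ht) (hSc t ht)
  refine ⟨w, hw.specializes hxt, ?_⟩
  have hwC : w ∈ f ⁻¹' closure {y'} := by
    rw [hSU]
    exact ⟨t, ht, hw.mem⟩
  have h1 : y' ⤳ f w := specializes_iff_mem_closure.mpr hwC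
  have h2 : f w ⤳ y' := hu ▸ (hw.specializes hut).map hf
  exact (h2.antisymm h1).eq

/-- An open continuous map from a quasi-sober space in which every point has a Noetherian open
neighbourhood to a T0 space lifts generalizations. -/
theorem generalizingMap_of_isOpenMap_of_locally_noetherianSpace [QuasiSober X] [T0Space Y]
    (f : X → Y) (hf : Continuous f) (hopen : IsOpenMap f)
    (hN : ∀ x : X, ∃ U : Set X, IsOpen U ∧ x ∈ U ∧ NoetherianSpace U) :
    GeneralizingMap f := by
  intro x y' hy'
  obtain ⟨U, hUo, hxU, hUN⟩ := hN x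
  have : QuasiSober U := hUo.isOpenEmbedding_subtypeVal.quasiSober
  obtain ⟨x', hx', hfx'⟩ := exists_specializes_of_noetherianSpace (f ∘ Subtype.val)
    (hf.comp continuous_subtype_val) (⟨x, hxU⟩ : U) y' (by
      intro V hVo hxV
      have hVo' : IsOpen (Subtype.val '' V) := hUo.isOpenMap_subtype_val V hVo
      have h1 : f x ∈ f '' (Subtype.val '' V) := ⟨x, ⟨⟨x, hxU⟩, hxV, rfl⟩, rfl⟩
      have h2 : y' ∈ f '' (Subtype.val '' V) :=
        hy'.mem_open (hopen _ hVo') h1
      rwa [Set.image_comp])
  exact ⟨x'.1, hx'.map continuous_subtype_val, hfx'⟩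

end Top

end Groth.Agent.Lib.Helper7
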