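import Groth.Agent.Lib.Helper4FibDimK
import Groth.Agent.Lib.Helper10FibStalk
import Groth.Agent.Lib.Helper7Dim
import Groth.Agent.Lib.Helper5RLR

/-!
# Fibre dimension (part L): the dimension inequality for local rings of a morphism

* `topologicalKrullDim_eq_iSup_ringKrullDim_stalk`: `dim X = sup_x dim 𝒪_{X,x}`.
* `ringKrullDim_stalk_fiber_eq`: `dim 𝒪_{X_s,z} = dim 𝒪_{X,x} / 𝔪_s 𝒪_{X,x}`.
* `ringKrullDim_stalk_le_add_fiber`: `dim 𝒪_{X,x} ≤ dim 𝒪_{Y,y} + dim 𝒪_{X_y,x}` (Noetherian).
* `topologicalKrullDim_le_add_of_fiber_le`: fibres of dimension `≤ n` ⇒ `dim X ≤ dim Y + n`.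
-/

set_option autoImplicit false
set_option linter.style.haveILetI false
universe u

open TopologicalSpace Topology AlgebraicGeometry CategoryTheory IsLocalRing

namespace Groth.Agent.Lib.Helper4.FibDim

theorem topologicalKrullDim_eq_iSup_ringKrullDim_stalk (X : Scheme.{u}) :
    topologicalKrullDim X = ⨆ x : X, ringKrullDim (X.presheaf.stalk x) := by
  rw [Groth.Agent.Lib.Helper7.topologicalKrullDim_eq_krullDim_points,
    Order.krullDim_eq_iSup_coheight]
  congr 1
  ext x
  rw [ringKrullDim_stalk_eq_coheight]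

theorem ringKrullDim_stalk_le_topologicalKrullDim (X : Scheme.{u}) (x : X) :
    ringKrullDim (X.presheaf.stalk x) ≤ topologicalKrullDim X := by
  rw [topologicalKrullDim_eq_iSup_ringKrullDim_stalk]
  exact le_iSup (fun x : X => ringKrullDim (X.presheaf.stalk x)) x

variable {X Y : Scheme.{u}} (f : X ⟶ Y)

/-- The local ring of the fibre is the quotient of the local ring of the source by the extension of
the maximal ideal of the base. -/
theorem ringKrullDim_stalk_fiber_eq (s : Y) (z : f.fiber s) :
    ringKrullDim ((f.fiber s).presheaf.stalk z) =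
      ringKrullDim (X.presheaf.stalk (f.fiberι s z) ⧸
        (maximalIdeal (Y.presheaf.stalk (f (f.fiberι s z)))).map
          (f.stalkMap (f.fiberι s z)).hom) := by
  have hsurj : Function.Surjective ((f.fiberι s).stalkMap z).hom :=
    (f.fiberι s).stalkMap_surjective z
  have hker := Groth.Agent.Lib.Helper10.FibStalk.ker_eq_map f s z
  exact (ringKrullDim_eq_of_ringEquiv
    ((Ideal.quotEquivOfEq hker.symm).trans (RingHom.quotientKerEquivOfSurjective hsurj))).symm

theorem ringKrullDim_stalk_le_add_fiber [IsLocallyNoetherian Y] [LocallyOfFiniteType f] (s : Y)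
    (z : f.fiber s) :
    ringKrullDim (X.presheaf.stalk (f.fiberι s z)) ≤
      ringKrullDim (Y.presheaf.stalk (f (f.fiberι s z))) +
        ringKrullDim ((f.fiber s).presheaf.stalk z) := by
  haveI : IsLocallyNoetherian X := LocallyOfFiniteType.isLocallyNoetherian f
  rw [ringKrullDim_stalk_fiber_eq]
  set x := f.fiberι s z with hx
  set R := Y.presheaf.stalk (f x)
  set S := X.presheaf.stalk x
  set φ : R →+* S := (f.stalkMap x).hom with hφ
  letI : Algebra R S := φ.toAlgebra
  have hlocal : IsLocalHom φ := inferInstanceAs (IsLocalHom (f.stalkMap x).hom)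
  have hcomap : (maximalIdeal S).comap φ = maximalIdeal R :=
    ((IsLocalRing.local_hom_TFAE φ).out 0 4).mp hlocal
  haveI : (maximalIdeal S).LiesOver (maximalIdeal R) := ⟨hcomap.symm⟩
  have h1 := Ideal.height_le_height_add_of_liesOver (maximalIdeal R) (maximalIdeal S)
  set I : Ideal S := (maximalIdeal R).map (algebraMap R S) with hI
  have hIle : I ≤ maximalIdeal S := by
    rw [hI, Ideal.map_le_iff_le_comap]
    exact hcomap.ge
  have hne : I ≠ ⊤ := fun h => (maximalIdeal.isMaximal S).ne_top (top_le_iff.mp (h ▸ hIle))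
  haveI : IsLocalRing (S ⧸ I) := Groth.Agent.Lib.Helper5.isLocalRing_quotient hne
  rw [← IsLocalRing.maximalIdeal_height_eq_ringKrullDim (R := S),
    ← IsLocalRing.maximalIdeal_height_eq_ringKrullDim (R := R)]
  have h2 : ringKrullDim (S ⧸ I) = ((maximalIdeal S).map (Ideal.Quotient.mk I)).height := by
    rw [← IsLocalRing.maximalIdeal_height_eq_ringKrullDim (R := S ⧸ I),
      Groth.Agent.Lib.Helper5.maximalIdeal_quotient_eq_map]
  show ((maximalIdeal S).height : WithBot ℕ∞) ≤ (maximalIdeal R).height + ringKrullDim (S ⧸ I)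
  rw [h2]
  exact_mod_cast h1

theorem topologicalKrullDim_le_add_of_fiber_le [IsLocallyNoetherian Y] [LocallyOfFiniteType f]
    (n : ℕ) (h : ∀ y : Y, topologicalKrullDim (f.fiber y) ≤ n) :
    topologicalKrullDim X ≤ topologicalKrullDim Y + n := by
  rw [topologicalKrullDim_eq_iSup_ringKrullDim_stalk X]
  refine iSup_le fun x => ?_
  have h1 := ringKrullDim_stalk_le_add_fiber f (f x) (f.asFiber x)
  rw [f.fiberι_asFiber x] at h1
  refine h1.trans (add_le_add (ringKrullDim_stalk_le_topologicalKrullDim Y (f x)) ?_)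
  exact (ringKrullDim_stalk_le_topologicalKrullDim (f.fiber (f x)) (f.asFiber x)).trans (h (f x))

end Groth.Agent.Lib.Helper4.FibDim
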