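import Mathlib
import Groth.Agent.Lib.Helper4FibDimL

/-!
# Local rings of fibres and lifting of chains from the fibre (helper4)

* `fibStalkDim f x = dim O_{X,x}/m_{f x} O_{X,x}`; `ringKrullDim_stalk_fiber_eq_fibStalkDim`,
  `ringKrullDim_stalk_asFiber`: the local ring of the fibre has this dimension.
* `add_le_ringKrullDim_stalk_of_forall_maximal`: if every maximal generization `w'` of `w` in the fibre
  has `d ≤ dim O_{X,w'}`, then `d + dim O_{X_s,w} ≤ dim O_{X,w}`.
* `ringKrullDim_stalk_le_add_asFiber`: `dim O_{X,x} ≤ dim O_{Y,f x} + dim O_{X_{f x},x}`.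
-/

set_option autoImplicit false
set_option linter.style.haveILetI false

universe u

open AlgebraicGeometry CategoryTheory TopologicalSpace IsLocalRing

namespace Groth.Agent.Lib.Helper4.DimFormula

open Groth.Agent.Lib.Helper4.FibDim

variable {X Y : Scheme.{u}} (f : X ⟶ Y)

/-- `dim O_{X,x} / m_{f x} O_{X,x}`. -/
noncomputable def fibStalkDim (x : X) : WithBot ℕ∞ :=
  ringKrullDim (X.presheaf.stalk x ⧸
    (maximalIdeal (Y.presheaf.stalk (f x))).map (f.stalkMap x).hom)

theorem ringKrullDim_stalk_fiber_eq_fibStalkDim (s : Y) (z : f.fiber s) :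
    ringKrullDim ((f.fiber s).presheaf.stalk z) = fibStalkDim f (f.fiberι s z) :=
  ringKrullDim_stalk_fiber_eq f s z

theorem ringKrullDim_stalk_asFiber (x : X) :
    ringKrullDim ((f.fiber (f.base x)).presheaf.stalk (f.asFiber x)) = fibStalkDim f x := by
  have h := ringKrullDim_stalk_fiber_eq_fibStalkDim f (f.base x) (f.asFiber x)
  rw [f.fiberι_asFiber x] at h
  exact h

theorem fibStalkDim_le (x : X) : fibStalkDim f x ≤ ringKrullDim (X.presheaf.stalk x) :=
  ringKrullDim_quotient_le _

theorem ringKrullDim_stalk_le_add_asFiber [IsLocallyNoetherian Y] [LocallyOfFiniteType f] (x : X) :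
    ringKrullDim (X.presheaf.stalk x) ≤
      ringKrullDim (Y.presheaf.stalk (f.base x)) +
        ringKrullDim ((f.fiber (f.base x)).presheaf.stalk (f.asFiber x)) := by
  have h1 := ringKrullDim_stalk_le_add_fiber f (f.base x) (f.asFiber x)
  rw [f.fiberι_asFiber x] at h1
  exact h1

theorem fiberι_lt_of_lt (s : Y) {w w' : f.fiber s} (h : w < w') :
    f.fiberι s w < f.fiberι s w' := by
  have hi := (f.fiberι s).isEmbedding.isInducing
  refine lt_of_le_not_ge ?_ ?_
  · exact hi.specializes_iff.mpr h.le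
  · intro h'
    exact h.not_ge (hi.specializes_iff.mp h')

/-- If every maximal generization `w'` of `w` in the fibre has `d ≤ dim O_{X,w'}`, then
`d + dim O_{X_s,w} ≤ dim O_{X,w}`. -/
theorem add_le_ringKrullDim_stalk_of_forall_maximal [IsLocallyNoetherian X] (s : Y) (d : WithBot ℕ∞)
    (w : f.fiber s)
    (h : ∀ w' : f.fiber s, w' ⤳ w → (∀ w'' : f.fiber s, w'' ⤳ w' → w'' = w') →
      d ≤ ringKrullDim (X.presheaf.stalk (f.fiberι s w'))) :
    d + ringKrullDim ((f.fiber s).presheaf.stalk w) ≤
      ringKrullDim (X.presheaf.stalk (f.fiberι s w)) := by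
  have key : ∀ m : ℕ, ∀ w : f.fiber s, Order.coheight w = (m : ℕ∞) →
      (∀ w' : f.fiber s, w' ⤳ w → (∀ w'' : f.fiber s, w'' ⤳ w' → w'' = w') →
        d ≤ ringKrullDim (X.presheaf.stalk (f.fiberι s w'))) →
      d + (m : WithBot ℕ∞) ≤ ringKrullDim (X.presheaf.stalk (f.fiberι s w)) := by
    intro m
    induction m with
    | zero =>
      intro w hw h
      have hmax : IsMax w := Order.coheight_eq_zero.mp (by simpa using hw)
      have := h w specializes_rfl (fun w'' hw'' => by
        have h1 : w ≤ w'' := hw''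
        have h2 : w'' ≤ w := hmax h1
        exact (Specializes.antisymm h1 h2).eq.symm ▸ rfl)
      simpa using this
    | succ m ih =>
      intro w hw h
      obtain ⟨-, ⟨w1, hw1, hw1c⟩, -⟩ := Order.coheight_eq_coe_add_one_iff.mp (by exact_mod_cast hw)
      have h1 := ih w1 hw1c (fun w' hw' hmax => h w' (hw'.trans hw1.le) hmax)
      have h2 := Order.coheight_add_one_le (fiberι_lt_of_lt f s hw1)
      rw [ringKrullDim_stalk_eq_coheight] at h1 ⊢
      have h3 : ((Order.coheight (f.fiberι s w1) + 1 : ℕ∞) : WithBot ℕ∞) ≤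
          ((Order.coheight (f.fiberι s w) : ℕ∞) : WithBot ℕ∞) := by exact_mod_cast h2
      refine le_trans ?_ h3
      push_cast
      rw [← add_assoc]
      exact add_le_add_left h1 1
  have hfin : ringKrullDim ((f.fiber s).presheaf.stalk w) < ⊤ := by
    rw [ringKrullDim_stalk_fiber_eq_fibStalkDim]
    refine lt_of_le_of_lt (fibStalkDim_le f _) ?_
    exact ringKrullDim_lt_top
  rw [ringKrullDim_stalk_eq_coheight] at hfin
  obtain ⟨m, hm⟩ : ∃ m : ℕ, Order.coheight w = (m : ℕ∞) := by
    have : Order.coheight w ≠ ⊤ := by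
      intro h'
      rw [h'] at hfin
      exact lt_irrefl _ hfin
    exact ⟨(Order.coheight w).toNat, (ENat.natCast_toNat this).symm⟩
  have := key m w hm h
  rw [ringKrullDim_stalk_eq_coheight w, hm]
  exact this

end Groth.Agent.Lib.Helper4.DimFormula
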