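import Mathlib

/-!
# The dimension formula (altitude inequality), ring-level (helper4)

* `height_ker_add_height_le`: `ht (ker φ) + ht q ≤ ht (φ⁻¹ q)` for surjective `φ`.
* `trdeg_le_one_of_adjoin_singleton`, `trdeg_eq_zero_of_adjoin_singleton`.
* `height_le_one_of_comap_C_eq_bot`, `height_map_mk_le_one`: primes of `R[X]` in one fibre over
  `R` have relative height `≤ 1`.
-/

set_option autoImplicit false
set_option linter.style.haveILetI false

universe u

namespace Groth.Agent.Lib.Helper4.DimFormula

open Polynomial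

section Height

variable {T S : Type*} [CommRing T] [CommRing S]

/-- Heights add up along a surjection. -/
lemma height_ker_add_height_le (φ : T →+* S) (hφ : Function.Surjective φ) (q : Ideal S)
    [q.IsPrime] : (RingHom.ker φ).height + q.height ≤ (q.comap φ).height := by
  have key : ∀ n : ℕ, ∀ Q : Ideal S, Q.IsPrime → (n : ℕ∞) ≤ Q.height →
      (RingHom.ker φ).height + n ≤ (Q.comap φ).height := by
    intro n
    induction n with
    | zero =>
      intro Q hQ _
      simp only [Nat.cast_zero, add_zero]
      apply Ideal.height_mono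
      intro x hx
      rw [Ideal.mem_comap, (RingHom.mem_ker).mp hx]
      exact Q.zero_mem
    | succ n ih =>
      intro Q hQ hn
      have hnot : ¬ Q.height ≤ (n : ℕ) := by
        intro hle
        have := hn.trans hle
        exact_mod_cast (by exact_mod_cast this : n + 1 ≤ n).not_gt (Nat.lt_succ_self n)
      rw [Ideal.height_le_iff] at hnot
      push Not at hnot
      obtain ⟨Q', hQ', hlt, hge⟩ := hnot
      have h1 := ih Q' hQ' hge
      have hlt' : Q'.comap φ < Q.comap φ := by
        refine lt_of_le_of_ne (Ideal.comap_mono hlt.le) fun heq => hlt.ne ?_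
        exact Ideal.comap_injective_of_surjective _ hφ heq
      have h2 := Ideal.height_add_one_le_of_lt_of_isPrime hlt'
      calc (RingHom.ker φ).height + ((n + 1 : ℕ) : ℕ∞)
          = (RingHom.ker φ).height + n + 1 := by push_cast; rw [add_assoc]
        _ ≤ (Q'.comap φ).height + 1 := by gcongr
        _ ≤ _ := h2
  by_cases htop : q.height = ⊤
  · rw [htop, add_top, top_le_iff, ENat.eq_top_iff_forall_ge]
    intro n
    refine le_trans ?_ (key n q inferInstance (by rw [htop]; exact le_top))
    exact le_add_self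
  · obtain ⟨n, hn⟩ := ENat.ne_top_iff_exists.mp htop
    rw [← hn]
    exact key n q inferInstance (by rw [hn])

/-- A nonzero prime of a domain has height at least one. -/
lemma one_le_height_of_ne_bot [IsDomain T] (P : Ideal T) [P.IsPrime] (hP : P ≠ ⊥) :
    1 ≤ P.height := by
  haveI : (⊥ : Ideal T).IsPrime := Ideal.isPrime_bot
  have h := Ideal.height_add_one_le_of_lt_of_isPrime (bot_lt_iff_ne_bot.mpr hP)
  rw [Ideal.height_bot, zero_add] at h
  exact h

end Height

section Trdeg

variable {A B : Type*} [CommRing A] [CommRing B] [Algebra A B] [IsDomain B]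

lemma trdeg_le_one_of_adjoin_singleton (b : B) (hb : Algebra.adjoin A {b} = ⊤) :
    Algebra.trdeg A B ≤ 1 := by
  haveI : Algebra.IsAlgebraic (Algebra.adjoin A ({b} : Set B)) B := by
    haveI : Algebra.IsIntegral (Algebra.adjoin A ({b} : Set B)) B := by
      refine Algebra.isIntegral_of_surjective ?_
      intro y
      exact ⟨⟨y, by rw [hb]; trivial⟩, rfl⟩
    exact Algebra.IsIntegral.isAlgebraic
  have h := Algebra.IsAlgebraic.trdeg_le_cardinalMk A ({b} : Set B)
  simpa using h

lemma trdeg_eq_zero_of_adjoin_singleton [NoZeroDivisors A] (b : B)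
    (hb : Algebra.adjoin A {b} = ⊤) (halg : IsAlgebraic A b) : Algebra.trdeg A B = 0 := by
  haveI : Algebra.IsAlgebraic A B := by
    rw [Algebra.isAlgebraic_iff, ← hb]
    exact Algebra.isAlgebraic_adjoin_singleton_iff.mpr halg
  exact trdeg_eq_zero

end Trdeg

section Poly

attribute [local instance] Polynomial.algebra in
lemma height_le_one_of_comap_C_eq_bot {A : Type*} [CommRing A] [IsDomain A] (Q : Ideal A[X])
    [Q.IsPrime] (hQ : Q.comap (C : A →+* A[X]) = ⊥) : Q.height ≤ 1 := by
  let K := FractionRing A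
  haveI : IsLocalization ((nonZeroDivisors A).map (C : A →+* A[X])) K[X] :=
    Polynomial.isLocalization (nonZeroDivisors A) K
  have hdisj : Disjoint (((nonZeroDivisors A).map (C : A →+* A[X]) : Submonoid A[X]) : Set A[X])
      (Q : Set A[X]) := by
    rw [Set.disjoint_left]
    rintro _ ⟨a, ha, rfl⟩ hQa
    have h1 : a ∈ Q.comap (C : A →+* A[X]) := hQa
    rw [hQ] at h1
    exact nonZeroDivisors.ne_zero ha h1
  rw [← IsLocalization.height_map_of_disjoint (S := K[X]) _ Q hdisj]
  haveI := IsLocalization.isPrime_of_isPrime_disjoint _ K[X] Q inferInstance hdisj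
  have h1 := Ideal.height_le_ringKrullDim_of_isPrime (I := Q.map (algebraMap A[X] K[X]))
  rw [Polynomial.ringKrullDim_of_isNoetherianRing, ringKrullDim_eq_zero_of_field] at h1
  exact_mod_cast h1

variable {R : Type*} [CommRing R]

lemma height_map_mk_le_one (p : Ideal R) [p.IsPrime] (Q : Ideal R[X]) [Q.IsPrime]
    [Q.LiesOver p] :
    (Q.map (Ideal.Quotient.mk (p.map (algebraMap R R[X])))).height ≤ 1 := by
  let e : (R[X] ⧸ (p.map (C : R →+* R[X]))) ≃+* (R ⧸ p)[X] :=
    (Ideal.polynomialQuotientEquivQuotientPolynomial p).symm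
  have hle : p.map (C : R →+* R[X]) ≤ Q := by
    rw [Ideal.map_le_iff_le_comap]
    exact (Ideal.LiesOver.over (p := p) (P := Q)).le
  change (Q.map (Ideal.Quotient.mk (p.map (C : R →+* R[X])))).height ≤ 1
  haveI hprime : (Q.map (Ideal.Quotient.mk (p.map (C : R →+* R[X])))).IsPrime :=
    Ideal.isPrime_map_quotientMk_of_isPrime hle
  rw [← e.height_map]
  haveI : ((Q.map (Ideal.Quotient.mk (p.map (C : R →+* R[X])))).map e).IsPrime :=
    Ideal.map_isPrime_of_equiv e
  apply height_le_one_of_comap_C_eq_bot
  rw [eq_bot_iff]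
  intro a ha
  obtain ⟨r, rfl⟩ := Ideal.Quotient.mk_surjective a
  rw [Ideal.mem_comap] at ha
  have h1 : (C (Ideal.Quotient.mk p r) : (R ⧸ p)[X]) =
      e (Ideal.Quotient.mk (p.map (C : R →+* R[X])) (C r)) := by
    simp [e]
  rw [h1, Ideal.mem_map_of_equiv] at ha
  obtain ⟨y, hy, hye⟩ := ha
  have h2 := e.injective hye
  rw [h2] at hy
  rw [Ideal.mem_quotient_iff_mem hle] at hy
  have h3 : r ∈ p := by
    rw [Ideal.LiesOver.over (p := p) (P := Q)]
    exact hy
  rw [Ideal.mem_bot, Ideal.Quotient.eq_zero_iff_mem]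
  exact h3

end Poly

end Groth.Agent.Lib.Helper4.DimFormula
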