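import Mathlib
import Groth.Agent.Lib.Helper4DimFormulaA

/-!
# The dimension formula (altitude inequality), ring-level, part B (helper4)

* `adjoin_mk_eq_top`: generators pass to quotients.
* `height_comap_aeval_add_trdeg_le`: for `S = R[x]`, `q` over `p`:
  `ht (aeval x)⁻¹ q + trdeg_{R/p} (S/q) ≤ ht p + 1`.
* `height_add_trdeg_le_of_adjoin_singleton`: one-generator case of the dimension formula.
* `height_add_trdeg_le`: the dimension formula (Stacks 02IJ) `ht q + trdeg_{R/p} S/q ≤ ht p + trdeg_R S`.
-/

set_option autoImplicit false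
set_option linter.style.haveILetI false

universe u

namespace Groth.Agent.Lib.Helper4.DimFormula

open Polynomial

section Gen

variable {R S : Type*} [CommRing R] [CommRing S] [Algebra R S]

lemma adjoin_mk_eq_top (p : Ideal R) (q : Ideal S) [q.LiesOver p] (x : S)
    (hx : Algebra.adjoin R {x} = ⊤) :
    Algebra.adjoin (R ⧸ p) {Ideal.Quotient.mk q x} = ⊤ := by
  rw [eq_top_iff]
  rintro y -
  obtain ⟨s, rfl⟩ := Ideal.Quotient.mk_surjective y
  have hs : s ∈ Algebra.adjoin R {x} := by rw [hx]; trivial
  induction hs using Algebra.adjoin_induction with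
  | mem z hz =>
    rw [Set.mem_singleton_iff] at hz
    subst hz
    exact Algebra.subset_adjoin rfl
  | algebraMap r =>
    have : Ideal.Quotient.mk q (algebraMap R S r) =
        algebraMap (R ⧸ p) (S ⧸ q) (Ideal.Quotient.mk p r) := rfl
    rw [this]
    exact Subalgebra.algebraMap_mem _ _
  | add a b _ _ ha hb => rw [map_add]; exact Subalgebra.add_mem _ ha hb
  | mul a b _ _ ha hb => rw [map_mul]; exact Subalgebra.mul_mem _ ha hb

variable [IsNoetherianRing R]

/-- Key estimate for a one-generator extension. -/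
lemma height_comap_aeval_add_trdeg_le (p : Ideal R) [p.IsPrime] (q : Ideal S) [q.IsPrime]
    [q.LiesOver p] (x : S) (hx : Algebra.adjoin R {x} = ⊤) :
    (((q.comap (aeval x : R[X] →ₐ[R] S)).height : ℕ∞) : Cardinal.{u_2}) +
        Algebra.trdeg (R ⧸ p) (S ⧸ q) ≤ ((p.height : ℕ∞) : Cardinal.{u_2}) + 1 := by
  set Q : Ideal R[X] := q.comap (aeval x : R[X] →ₐ[R] S) with hQdef
  haveI : Q.IsPrime := Ideal.comap_isPrime _ q
  haveI : Q.LiesOver p := Ideal.comap_liesOver q p (aeval x : R[X] →ₐ[R] S)
  have h0 := Ideal.height_le_height_add_of_liesOver p Q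
  have hle : p.map (algebraMap R R[X]) ≤ Q := by
    rw [Ideal.map_le_iff_le_comap]
    exact (Ideal.LiesOver.over (p := p) (P := Q)).le
  have htop := adjoin_mk_eq_top p q x hx
  by_cases hQ : Q = p.map (algebraMap R R[X])
  · -- `Q = p R[X]`
    have h1 : (Q.map (Ideal.Quotient.mk (p.map (algebraMap R R[X])))).height = 0 := by
      have : Q.map (Ideal.Quotient.mk (p.map (algebraMap R R[X]))) = ⊥ := by
        conv_lhs => rw [hQ]
        exact Ideal.map_quotient_self _
      haveI hpr : (p.map (algebraMap R R[X])).IsPrime := hQ ▸ inferInstance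
      rw [this, Ideal.height_bot]
    rw [h1, add_zero] at h0
    have h2 := trdeg_le_one_of_adjoin_singleton (A := R ⧸ p) _ htop
    have h3 : ((Q.height : ℕ∞) : Cardinal.{u_2}) ≤ ((p.height : ℕ∞) : Cardinal.{u_2}) := by
      exact_mod_cast h0
    exact add_le_add h3 h2
  · -- `Q ≠ p R[X]`
    have h1 := height_map_mk_le_one p Q
    have h2 : Q.height ≤ p.height + 1 := h0.trans (by gcongr)
    obtain ⟨f, hfQ, hfp⟩ : ∃ f ∈ Q, f ∉ p.map (algebraMap R R[X]) := by
      by_contra hcon
      push Not at hcon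
      exact hQ (le_antisymm hcon hle)
    have halg : IsAlgebraic (R ⧸ p) (Ideal.Quotient.mk q x) := by
      refine ⟨f.map (Ideal.Quotient.mk p), ?_, ?_⟩
      · intro h0'
        apply hfp
        change f ∈ p.map (C : R →+* R[X])
        rw [Ideal.mem_map_C_iff]
        intro n
        have := congrArg (fun g => g.coeff n) h0'
        simp only [coeff_map, coeff_zero] at this
        exact Ideal.Quotient.eq_zero_iff_mem.mp this
      · have hfq : aeval x f ∈ q := hfQ
        have : aeval (Ideal.Quotient.mk q x) (f.map (Ideal.Quotient.mk p)) =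
            Ideal.Quotient.mk q (aeval x f) := by
          rw [aeval_def, aeval_def, eval₂_map, hom_eval₂]
          rfl
        rw [this, Ideal.Quotient.eq_zero_iff_mem]
        exact hfq
    have h3 := trdeg_eq_zero_of_adjoin_singleton (A := R ⧸ p) _ htop halg
    rw [h3, add_zero]
    exact_mod_cast h2

end Gen

section OneGen

variable {R S : Type u} [CommRing R] [IsDomain R] [IsNoetherianRing R] [CommRing S] [IsDomain S]
  [Algebra R S] [FaithfulSMul R S]

/-- One-generator case of the dimension formula. -/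
lemma height_add_trdeg_le_of_adjoin_singleton (p : Ideal R) [p.IsPrime] (q : Ideal S)
    [q.IsPrime] [q.LiesOver p] (x : S) (hx : Algebra.adjoin R {x} = ⊤) :
    (q.height : Cardinal.{u}) + Algebra.trdeg (R ⧸ p) (S ⧸ q) ≤
      (p.height : Cardinal.{u}) + Algebra.trdeg R S := by
  have hG := height_comap_aeval_add_trdeg_le p q x hx
  have hsurj : Function.Surjective (aeval x : R[X] →ₐ[R] S) := by
    rw [← AlgHom.range_eq_top, ← Algebra.adjoin_singleton_eq_range_aeval]
    exact hx
  have hH := height_ker_add_height_le (aeval x : R[X] →ₐ[R] S).toRingHom hsurj q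
  change (RingHom.ker (aeval x : R[X] →ₐ[R] S)).height + q.height ≤
    (q.comap (aeval x : R[X] →ₐ[R] S)).height at hH
  by_cases hker : RingHom.ker (aeval x : R[X] →ₐ[R] S) = ⊥
  · -- `x` transcendental
    have hinj : Function.Injective (aeval x : R[X] →ₐ[R] S) :=
      (RingHom.injective_iff_ker_eq_bot _).mpr hker
    have htr : Transcendental R x := transcendental_iff_injective.mpr hinj
    haveI : Algebra.Transcendental R S := ⟨⟨x, htr⟩⟩
    have hT : (1 : Cardinal.{u}) ≤ Algebra.trdeg R S := Cardinal.one_le_iff_pos.mpr (trdeg_pos R S)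
    have h1 : q.height ≤ (q.comap (aeval x : R[X] →ₐ[R] S)).height :=
      le_trans le_add_self hH
    have h2 : (q.height : Cardinal.{u}) ≤
        (((q.comap (aeval x : R[X] →ₐ[R] S)).height : ℕ∞) : Cardinal.{u}) := by
      exact_mod_cast h1
    calc (q.height : Cardinal.{u}) + Algebra.trdeg (R ⧸ p) (S ⧸ q)
        ≤ (((q.comap (aeval x : R[X] →ₐ[R] S)).height : ℕ∞) : Cardinal.{u}) +
            Algebra.trdeg (R ⧸ p) (S ⧸ q) := add_le_add h2 le_rfl
      _ ≤ (p.height : Cardinal.{u}) + 1 := hG
      _ ≤ (p.height : Cardinal.{u}) + Algebra.trdeg R S := add_le_add le_rfl hT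
  · -- `x` algebraic
    haveI : (RingHom.ker (aeval x : R[X] →ₐ[R] S)).IsPrime := RingHom.ker_isPrime _
    have h1 := one_le_height_of_ne_bot _ hker
    have h2 : 1 + q.height ≤ (q.comap (aeval x : R[X] →ₐ[R] S)).height :=
      le_trans (by gcongr) hH
    have h3 : (1 : Cardinal.{u}) + (q.height : Cardinal.{u}) ≤
        (((q.comap (aeval x : R[X] →ₐ[R] S)).height : ℕ∞) : Cardinal.{u}) := by
      exact_mod_cast h2
    have h4 : (q.height : Cardinal.{u}) + Algebra.trdeg (R ⧸ p) (S ⧸ q) + 1 ≤
        (p.height : Cardinal.{u}) + 1 := by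
      calc (q.height : Cardinal.{u}) + Algebra.trdeg (R ⧸ p) (S ⧸ q) + 1
          = (1 + (q.height : Cardinal.{u})) + Algebra.trdeg (R ⧸ p) (S ⧸ q) := by ring
        _ ≤ _ := add_le_add h3 le_rfl
        _ ≤ _ := hG
    have h5 := (Cardinal.add_le_add_iff_of_lt_aleph0 Cardinal.one_lt_aleph0).mp h4
    exact h5.trans (le_add_right le_rfl)

end OneGen

end Groth.Agent.Lib.Helper4.DimFormula
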