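import Mathlib
import Groth.Agent.Lib.Helper4DimFormulaB

/-!
# The dimension formula (altitude inequality), ring-level, part C (helper4)

* `isScalarTower_quotient`: `R/p → R'/p' → S/q` is a scalar tower.
* `height_add_trdeg_le`: the dimension formula (Stacks 02IJ)
  `ht q + trdeg_{R/p} S/q ≤ ht p + trdeg_R S`.
-/

set_option autoImplicit false
set_option linter.style.haveILetI false

universe u

namespace Groth.Agent.Lib.Helper4.DimFormula

open Polynomial

section Tower

variable {R R' S : Type*} [CommRing R] [CommRing R'] [CommRing S] [Algebra R R'] [Algebra R' S]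
  [Algebra R S] [IsScalarTower R R' S]

lemma isScalarTower_quotient (p : Ideal R) (p' : Ideal R') (q : Ideal S) [p'.LiesOver p]
    [q.LiesOver p'] [q.LiesOver p] : IsScalarTower (R ⧸ p) (R' ⧸ p') (S ⧸ q) := by
  refine IsScalarTower.of_algebraMap_eq ?_
  intro a
  obtain ⟨r, rfl⟩ := Ideal.Quotient.mk_surjective a
  simp only [Ideal.Quotient.algebraMap_mk_of_liesOver]
  rw [IsScalarTower.algebraMap_apply R R' S]

end Tower

section Sub

variable {R S : Type*} [CommRing R] [CommRing S] [Algebra R S]

lemma adjoin_adjoin_singleton_eq_top {n : ℕ} (v : Fin (n + 1) → S)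
    (hv : Algebra.adjoin R (Set.range v) = ⊤) :
    Algebra.adjoin (Algebra.adjoin R (Set.range fun i : Fin n => v i.castSucc))
      {v (Fin.last n)} = ⊤ := by
  have h1 := Algebra.adjoin_union_eq_adjoin_adjoin R
    (Set.range fun i : Fin n => v i.castSucc) {v (Fin.last n)}
  have h2 : (Set.range fun i : Fin n => v i.castSucc) ∪ {v (Fin.last n)} = Set.range v := by
    ext y
    constructor
    · rintro (⟨i, rfl⟩ | hy)
      · exact ⟨_, rfl⟩
      · rw [Set.mem_singleton_iff] at hy; exact ⟨_, hy.symm⟩
    · rintro ⟨i, rfl⟩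
      induction i using Fin.lastCases with
      | last => right; rfl
      | cast i => left; exact ⟨i, rfl⟩
  rw [h2, hv] at h1
  apply Subalgebra.restrictScalars_injective R
  rw [← h1, Subalgebra.restrictScalars_top]

lemma adjoin_range_subtype_eq_top {n : ℕ} (w : Fin n → S) :
    Algebra.adjoin R (Set.range fun i : Fin n =>
      (⟨w i, Algebra.subset_adjoin ⟨i, rfl⟩⟩ : Algebra.adjoin R (Set.range w))) = ⊤ := by
  apply Subalgebra.map_injective (f := (Algebra.adjoin R (Set.range w)).val) Subtype.val_injective
  rw [Algebra.map_top, Subalgebra.range_val, AlgHom.map_adjoin]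
  congr 1
  ext y
  simp [Set.mem_image, Set.mem_range]

end Sub

section Main

/-- The dimension formula, by induction on the number of generators. -/
theorem height_add_trdeg_le_aux (n : ℕ) : ∀ (R : Type u) [CommRing R] [IsDomain R]
    [IsNoetherianRing R] (S : Type u) [CommRing S] [IsDomain S] [Algebra R S] [FaithfulSMul R S]
    (v : Fin n → S) (_ : Algebra.adjoin R (Set.range v) = ⊤)
    (p : Ideal R) [p.IsPrime] (q : Ideal S) [q.IsPrime] [q.LiesOver p],
    (q.height : Cardinal.{u}) + Algebra.trdeg (R ⧸ p) (S ⧸ q) ≤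
      (p.height : Cardinal.{u}) + Algebra.trdeg R S := by
  induction n with
  | zero =>
    intro R _ _ _ S _ _ _ _ v hv p _ q _ _
    refine height_add_trdeg_le_of_adjoin_singleton p q 0 ?_
    rw [eq_top_iff, ← hv]
    exact Algebra.adjoin_mono (by simp)
  | succ n ih =>
    intro R _ _ _ S _ _ _ _ v hv p _ q _ _
    let R' : Subalgebra R S := Algebra.adjoin R (Set.range fun i : Fin n => v i.castSucc)
    have hx : Algebra.adjoin R' {v (Fin.last n)} = ⊤ := adjoin_adjoin_singleton_eq_top v hv
    haveI : Algebra.FiniteType R R' := by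
      rw [← Subalgebra.fg_iff_finiteType]
      have hfin : (Set.range fun i : Fin n => v i.castSucc).Finite := Set.finite_range _
      have := Subalgebra.fg_adjoin_finset (R := R) hfin.toFinset
      rwa [Set.Finite.coe_toFinset] at this
    haveI : IsNoetherianRing R' := Algebra.FiniteType.isNoetherianRing R R'
    haveI : FaithfulSMul R R' := by
      rw [faithfulSMul_iff_algebraMap_injective]
      intro a b hab
      apply FaithfulSMul.algebraMap_injective R S
      have := congrArg (algebraMap R' S) hab
      rwa [← IsScalarTower.algebraMap_apply, ← IsScalarTower.algebraMap_apply] at this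
    haveI : FaithfulSMul R' S := by
      rw [faithfulSMul_iff_algebraMap_injective]
      exact Subtype.val_injective
    let p' : Ideal R' := q.under R'
    haveI : p'.IsPrime := Ideal.IsPrime.under R' q
    haveI : q.LiesOver p' := Ideal.over_under q
    haveI : p'.LiesOver p := Ideal.under_liesOver_of_liesOver R' q p
    have hIH := ih R R' (fun i : Fin n =>
      (⟨v i.castSucc, Algebra.subset_adjoin ⟨i, rfl⟩⟩ : R'))
      (adjoin_range_subtype_eq_top (R := R) (fun i : Fin n => v i.castSucc)) p p'
    have hO := height_add_trdeg_le_of_adjoin_singleton p' q (v (Fin.last n)) hx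
    haveI := isScalarTower_quotient p p' q
    have hT := trdeg_add_eq R R' (A := S)
    have ht := trdeg_add_eq (R ⧸ p) (R' ⧸ p') (A := S ⧸ q)
    rw [← hT, ← ht]
    calc (q.height : Cardinal.{u}) + (Algebra.trdeg (R ⧸ p) (R' ⧸ p') +
          Algebra.trdeg (R' ⧸ p') (S ⧸ q))
        = ((q.height : Cardinal.{u}) + Algebra.trdeg (R' ⧸ p') (S ⧸ q)) +
            Algebra.trdeg (R ⧸ p) (R' ⧸ p') := by ring
      _ ≤ ((p'.height : Cardinal.{u}) + Algebra.trdeg R' S) +
            Algebra.trdeg (R ⧸ p) (R' ⧸ p') := add_le_add hO le_rfl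
      _ = ((p'.height : Cardinal.{u}) + Algebra.trdeg (R ⧸ p) (R' ⧸ p')) +
            Algebra.trdeg R' S := by ring
      _ ≤ ((p.height : Cardinal.{u}) + Algebra.trdeg R R') + Algebra.trdeg R' S :=
          add_le_add hIH le_rfl
      _ = _ := by ring

/-- **The dimension formula** (altitude inequality, Stacks 02IJ). -/
theorem height_add_trdeg_le (R : Type u) [CommRing R] [IsDomain R]
    [IsNoetherianRing R] (S : Type u) [CommRing S] [IsDomain S] [Algebra R S]
    [FaithfulSMul R S] [Algebra.FiniteType R S] (p : Ideal R) [p.IsPrime] (q : Ideal S) [q.IsPrime]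
    [q.LiesOver p] :
    (q.height : Cardinal.{u}) + Algebra.trdeg (R ⧸ p) (S ⧸ q) ≤
      (p.height : Cardinal.{u}) + Algebra.trdeg R S := by
  obtain ⟨s, hs⟩ := (Algebra.FiniteType.out : (⊤ : Subalgebra R S).FG)
  classical
  let e := s.equivFin
  refine height_add_trdeg_le_aux s.card R S (fun i => (e.symm i : S)) ?_ p q
  rw [← hs]
  congr 1
  ext y
  constructor
  · rintro ⟨i, rfl⟩
    exact (e.symm i).2
  · intro hy
    exact ⟨e ⟨y, hy⟩, by simp⟩

end Main

end Groth.Agent.Lib.Helper4.DimFormula
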