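import Mathlib
import Groth.Agent.Lib.Helper4DimFormulaC

/-!
# The dimension formula for non-domains (helper4)

* `trdeg_eq_of_ringEquiv`: `trdeg` is invariant under a commutative square of ring isomorphisms.
* `trdeg_doubleQuot`: `trdeg ((A/P₀)/(p/P₀)) ((B/P)/(q/P)) = trdeg (A/p) (B/q)`.
* `exists_minimalPrimes_height_le`: `ht q = ht (q/P)` for some minimal prime `P ≤ q`.
* `height_add_le_of_minimalPrimes`: `A` Noetherian, `B` of finite type over `A`, `q` over `p`:
  `ht q + trdeg_{A/p}(B/q) ≤ ht p + E` if `E` bounds `trdeg_{A/P∩A} (B/P)` for the minimal primes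
  `P ≤ q`.
-/

set_option autoImplicit false
set_option linter.style.haveILetI false

universe u v

namespace Groth.Agent.Lib.Helper4.DimFormula

section Congr

variable {K K' : Type*} {L L' : Type v} [CommRing K] [CommRing K'] [CommRing L] [CommRing L']
  [Algebra K L] [Algebra K' L']

theorem trdeg_le_of_ringEquiv [Nontrivial K'] (e₁ : K ≃+* K') (g : L →+* L')
    (hg : Function.Injective g)
    (h : ∀ k, g (algebraMap K L k) = algebraMap K' L' (e₁ k)) :
    Algebra.trdeg K L ≤ Algebra.trdeg K' L' := by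
  rw [Algebra.trdeg]
  refine ciSup_le' fun i => ?_
  have h1 : AlgebraicIndependent K' (g ∘ fun a : i.1 => (a : L)) := by
    refine (algebraicIndependent_ringHom_iff_of_comp_eq e₁ g hg ?_).mpr i.2
    ext k
    exact (h k).symm
  exact h1.cardinalMk_le_trdeg

theorem trdeg_eq_of_ringEquiv [Nontrivial K] [Nontrivial K'] (e₁ : K ≃+* K') (e₂ : L ≃+* L')
    (h : ∀ k, e₂ (algebraMap K L k) = algebraMap K' L' (e₁ k)) :
    Algebra.trdeg K L = Algebra.trdeg K' L' := by
  refine le_antisymm (trdeg_le_of_ringEquiv e₁ e₂.toRingHom e₂.injective h)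
    (trdeg_le_of_ringEquiv e₁.symm e₂.symm.toRingHom e₂.symm.injective ?_)
  intro k
  apply e₂.injective
  change e₂ (e₂.symm _) = _
  rw [e₂.apply_symm_apply, h, e₁.apply_symm_apply]

end Congr

section DoubleQuot

variable {A : Type*} {B : Type v} [CommRing A] [CommRing B] [Algebra A B]

lemma liesOver_map_mk (P₀ p : Ideal A) (P q : Ideal B) [P.LiesOver P₀] [q.LiesOver p]
    (hP : P ≤ q) (hP₀ : P₀ ≤ p) :
    (q.map (Ideal.Quotient.mk P)).LiesOver (p.map (Ideal.Quotient.mk P₀)) := by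
  refine ⟨?_⟩
  ext a
  obtain ⟨a, rfl⟩ := Ideal.Quotient.mk_surjective a
  rw [Ideal.under_def, Ideal.mem_comap, Ideal.Quotient.algebraMap_mk_of_liesOver,
    Ideal.mem_quotient_iff_mem hP₀,
    Ideal.mem_quotient_iff_mem hP, Ideal.LiesOver.over (p := p) (P := q)]
  rfl

theorem trdeg_doubleQuot (P₀ p : Ideal A) (P q : Ideal B) [P.LiesOver P₀] [q.LiesOver p]
    [p.IsPrime] (hP : P ≤ q) (hP₀ : P₀ ≤ p)
    [(q.map (Ideal.Quotient.mk P)).LiesOver (p.map (Ideal.Quotient.mk P₀))] :
    Algebra.trdeg ((A ⧸ P₀) ⧸ p.map (Ideal.Quotient.mk P₀))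
      ((B ⧸ P) ⧸ q.map (Ideal.Quotient.mk P)) = Algebra.trdeg (A ⧸ p) (B ⧸ q) := by
  haveI : Nontrivial (A ⧸ p) := Ideal.Quotient.nontrivial_iff.mpr (Ideal.IsPrime.ne_top inferInstance)
  haveI : Nontrivial ((A ⧸ P₀) ⧸ p.map (Ideal.Quotient.mk P₀)) :=
    (DoubleQuot.quotQuotEquivQuotOfLE hP₀).symm.injective.nontrivial
  refine trdeg_eq_of_ringEquiv (DoubleQuot.quotQuotEquivQuotOfLE hP₀)
    (DoubleQuot.quotQuotEquivQuotOfLE hP) ?_
  intro k
  obtain ⟨k, rfl⟩ := Ideal.Quotient.mk_surjective k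
  obtain ⟨a, rfl⟩ := Ideal.Quotient.mk_surjective k
  rfl

end DoubleQuot

section Min

variable {B : Type*} [CommRing B] [IsNoetherianRing B]

theorem exists_minimalPrimes_height_le (q : Ideal B) [q.IsPrime] :
    ∃ P ∈ minimalPrimes B, P ≤ q ∧ q.height ≤ (q.map (Ideal.Quotient.mk P)).height := by
  obtain ⟨l, hl, hlen⟩ := q.exists_ltSeries_length_eq_height
  obtain ⟨P, hP, hPl⟩ := Ideal.exists_minimalPrimes_le (J := l.head.asIdeal) bot_le
  have hP' : P ∈ minimalPrimes B := by simpa [minimalPrimes] using hP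
  have hmem : ∀ i, l i ∈ PrimeSpectrum.zeroLocus (P : Set B) := fun i =>
    hPl.trans (l.monotone (Fin.zero_le i))
  have hPq : P ≤ q := by
    have := hmem (Fin.last _)
    change l.last ∈ _ at this
    rw [hl] at this
    exact this
  refine ⟨P, hP', hPq, ?_⟩
  let e := (Ideal.primeSpectrumQuotientOrderIsoZeroLocus P).symm
  let l' : LTSeries (PrimeSpectrum (B ⧸ P)) :=
    { length := l.length
      toFun := fun i => e ⟨l i, hmem i⟩
      step := fun i => e.strictMono (l.step i) }
  have h1 : (l'.length : ℕ∞) ≤ Order.height l'.last := Order.length_le_height_last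
  haveI : (q.map (Ideal.Quotient.mk P)).IsPrime :=
    Ideal.isPrime_map_quotientMk_of_isPrime hPq
  have h2 : l'.last = ⟨q.map (Ideal.Quotient.mk P), inferInstance⟩ := by
    change e ⟨l.last, hmem (Fin.last _)⟩ = _
    apply PrimeSpectrum.ext
    change l.last.asIdeal.map (Ideal.Quotient.mk P) = _
    rw [hl]
  rw [h2, ← PrimeSpectrum.height_eq_orderHeight] at h1
  rw [← hlen]
  exact h1

end Min

section Main

theorem height_add_le_of_minimalPrimes (A B : Type u) [CommRing A] [CommRing B] [Algebra A B]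
    [IsNoetherianRing A] [Algebra.FiniteType A B] (p : Ideal A) [p.IsPrime] (q : Ideal B)
    [q.IsPrime] [q.LiesOver p] (n E : ℕ)
    (hn : Algebra.trdeg (A ⧸ p) (B ⧸ q) = n)
    (hE : ∀ P ∈ minimalPrimes B, P ≤ q → Algebra.trdeg (A ⧸ P.under A) (B ⧸ P) ≤ E) :
    q.height + n ≤ p.height + E := by
  haveI : IsNoetherianRing B := Algebra.FiniteType.isNoetherianRing A B
  obtain ⟨P, hPmin, hPq, hht⟩ := exists_minimalPrimes_height_le q
  haveI : P.IsPrime := hPmin.1.1
  have hP₀ : P.under A ≤ p := by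
    rw [Ideal.LiesOver.over (p := p) (P := q)]
    exact Ideal.comap_mono hPq
  haveI : (q.map (Ideal.Quotient.mk P)).IsPrime := Ideal.isPrime_map_quotientMk_of_isPrime hPq
  haveI : (p.map (Ideal.Quotient.mk (P.under A))).IsPrime :=
    Ideal.isPrime_map_quotientMk_of_isPrime hP₀
  haveI := liesOver_map_mk (P.under A) p P q hPq hP₀
  haveI : Algebra.FiniteType (A ⧸ P.under A) (B ⧸ P) :=
    Algebra.FiniteType.of_restrictScalars_finiteType A (A ⧸ P.under A) (B ⧸ P)
  have h0 := height_add_trdeg_le (A ⧸ P.under A) (B ⧸ P) (p.map (Ideal.Quotient.mk (P.under A)))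
    (q.map (Ideal.Quotient.mk P))
  rw [trdeg_doubleQuot (P.under A) p P q hPq hP₀, hn] at h0
  have h1 : (p.map (Ideal.Quotient.mk (P.under A))).height ≤ p.height := by
    have := height_ker_add_height_le (Ideal.Quotient.mk (P.under A)) Ideal.Quotient.mk_surjective
      (p.map (Ideal.Quotient.mk (P.under A)))
    rw [Ideal.comap_map_of_surjective _ Ideal.Quotient.mk_surjective, ← RingHom.ker_eq_comap_bot,
      Ideal.mk_ker, sup_eq_left.mpr hP₀] at this
    exact le_trans le_add_self this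
  have h2 : (((q.map (Ideal.Quotient.mk P)).height : ℕ∞) : Cardinal.{u}) + (n : Cardinal.{u}) ≤
      ((p.height : ℕ∞) : Cardinal.{u}) + (E : Cardinal.{u}) := by
    refine h0.trans (add_le_add ?_ (hE P hPmin hPq))
    exact_mod_cast h1
  have h3 : (q.map (Ideal.Quotient.mk P)).height + n ≤ p.height + E := by
    exact_mod_cast h2
  exact le_trans (by gcongr) h3

end Main

end Groth.Agent.Lib.Helper4.DimFormula
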