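import Mathlib
import Groth.Prelude.Def_W4stktopologysheavesDim

/-!
# Dimension functions on sober spaces (helper10)
-/

set_option autoImplicit false
open Topology TopologicalSpace Set

namespace Groth.Agent.Lib.Helper10.DimFun

universe u

variable {X : Type u} [TopologicalSpace X]

/-- The irreducible closed subset `closure {x}`. -/
def cl (x : X) : IrreducibleCloseds X :=
  ⟨closure {x}, isIrreducible_singleton.closure, isClosed_closure⟩

@[simp] theorem coe_cl (x : X) : (cl x : Set X) = closure {x} := rfl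

theorem cl_le_cl {x y : X} : cl y ≤ cl x ↔ x ⤳ y := by
  rw [specializes_iff_closure_subset]
  rfl

section Sober

variable [QuasiSober X] [T0Space X]

/-- The generic point. -/
noncomputable def gp (T : IrreducibleCloseds X) : X := T.isIrreducible.genericPoint

theorem closure_gp (T : IrreducibleCloseds X) : closure {gp T} = (T : Set X) :=
  T.isIrreducible.closure_genericPoint T.isClosed

theorem cl_gp (T : IrreducibleCloseds X) : cl (gp T) = T :=
  IrreducibleCloseds.ext (closure_gp T)

theorem gp_cl (x : X) : gp (cl x) = x := by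
  have h : closure {gp (cl x)} = closure {x} := closure_gp (cl x)
  exact ((specializes_iff_closure_subset.mpr h.ge).antisymm
    (specializes_iff_closure_subset.mpr h.le)).eq

theorem cl_injective : Function.Injective (cl : X → IrreducibleCloseds X) := by
  intro x y h
  rw [← gp_cl x, ← gp_cl y, h]

theorem cl_lt_cl {x y : X} : cl y < cl x ↔ x ⤳ y ∧ x ≠ y := by
  rw [lt_iff_le_and_ne, cl_le_cl]
  refine and_congr_right fun _ => ?_
  constructor
  · intro h hxy
    exact h (hxy ▸ rfl)
  · intro h hxy
    exact h (cl_injective hxy).symm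

variable {δ : X → ℤ} (hδ : PtTop.IsDimensionFunction δ)

include hδ in
theorem le_of_specializes {x y : X} (h : x ⤳ y) : δ y ≤ δ x := by
  by_cases hxy : x = y
  · rw [hxy]
  · exact (hδ.1 x y h hxy).le

include hδ in
theorem lt_of_lt {T T' : IrreducibleCloseds X} (h : T < T') : δ (gp T) < δ (gp T') := by
  rw [← cl_gp T, ← cl_gp T', cl_lt_cl] at h
  exact hδ.1 _ _ h.1 h.2

include hδ in
theorem eq_add_one_of_covBy {T T' : IrreducibleCloseds X} (h : T ⋖ T') :
    δ (gp T') = δ (gp T) + 1 := by
  apply hδ.2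
  have hlt := h.lt
  rw [← cl_gp T, ← cl_gp T', cl_lt_cl] at hlt
  refine ⟨hlt.1, hlt.2, fun z hxz hzy => ?_⟩
  by_contra hcon
  push Not at hcon
  have h1 : T < cl z := by
    rw [← cl_gp T, cl_lt_cl]
    exact ⟨hzy, hcon.2⟩
  have h2 : cl z < T' := by
    rw [← cl_gp T', cl_lt_cl]
    exact ⟨hxz, fun h => hcon.1 h.symm⟩
  exact h.2 h1 h2

include hδ in
theorem add_le_of_series (s : LTSeries (IrreducibleCloseds X)) (i : Fin (s.length + 1)) :
    δ (gp (s 0)) + (i : ℕ) ≤ δ (gp (s i)) := by
  induction i using Fin.induction with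
  | zero => simp
  | succ i ih =>
    have h1 : s i.castSucc < s i.succ := s.step i
    have h2 := lt_of_lt hδ h1
    have h3 : ((i.succ : Fin (s.length + 1)) : ℕ) = (i : ℕ) + 1 := by simp
    have h4 : ((i.castSucc : Fin (s.length + 1)) : ℕ) = (i : ℕ) := by simp
    rw [h4] at ih
    rw [h3]
    push_cast
    omega

include hδ in
theorem eq_add_of_series (s : LTSeries (IrreducibleCloseds X))
    (hs : ∀ i : Fin s.length, s (Fin.castSucc i) ⋖ s (Fin.succ i)) (i : Fin (s.length + 1)) :
    δ (gp (s i)) = δ (gp (s 0)) + (i : ℕ) := by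
  induction i using Fin.induction with
  | zero => simp
  | succ i ih =>
    have h2 := eq_add_one_of_covBy hδ (hs i)
    have h3 : ((i.succ : Fin (s.length + 1)) : ℕ) = (i : ℕ) + 1 := by simp
    have h4 : ((i.castSucc : Fin (s.length + 1)) : ℕ) = (i : ℕ) := by simp
    rw [h4] at ih
    rw [h3, h2, ih]
    push_cast
    ring

include hδ in
/-- Existence of a chain of the expected length. -/
theorem exists_series (d : ℕ) : ∀ x y : X, x ⤳ y → (δ x - δ y).toNat = d →
    ∃ s : LTSeries (IrreducibleCloseds X), s.head = cl y ∧ s.last = cl x ∧ s.length = d := by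
  induction d using Nat.strong_induction_on with
  | _ d ih =>
    intro x y hxy hd
    by_cases hxy' : x = y
    · subst hxy'
      refine ⟨RelSeries.singleton _ (cl x), rfl, rfl, ?_⟩
      simp at hd
      simp [← hd]
    by_cases hz : ∃ z, x ⤳ z ∧ z ⤳ y ∧ z ≠ x ∧ z ≠ y
    · obtain ⟨z, hxz, hzy, hzx, hzy'⟩ := hz
      have h1 : δ z < δ x := hδ.1 x z hxz (Ne.symm hzx)
      have h2 : δ y < δ z := hδ.1 z y hzy hzy'
      obtain ⟨s₁, hs₁h, hs₁l, hs₁n⟩ := ih (δ z - δ y).toNat (by omega) z y hzy rfl
      obtain ⟨s₂, hs₂h, hs₂l, hs₂n⟩ := ih (δ x - δ z).toNat (by omega) x z hxz rfl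
      refine ⟨RelSeries.smash s₁ s₂ (hs₁l.trans hs₂h.symm), ?_, ?_, ?_⟩
      · rw [RelSeries.head_smash, hs₁h]
      · rw [RelSeries.last_smash, hs₂l]
      · rw [RelSeries.smash_length, hs₁n, hs₂n]
        omega
    · push Not at hz
      have himm : PtTop.IsImmediateSpecialization x y := by
        refine ⟨hxy, hxy', fun z hxz hzy => ?_⟩
        by_contra hcon
        push Not at hcon
        exact hcon.2 (hz z hxz hzy hcon.1)
      have h1 := hδ.2 x y himm
      have hlt : cl y < cl x := cl_lt_cl.mpr ⟨hxy, hxy'⟩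
      refine ⟨(RelSeries.singleton _ (cl y)).snoc (cl x) hlt, ?_, ?_, ?_⟩
      · rw [RelSeries.head_snoc]; rfl
      · rw [RelSeries.last_snoc]
      · rw [RelSeries.snoc_length]
        simp only [RelSeries.singleton_length]
        omega

include hδ in
theorem codim_eq {x y : X} (hxy : x ⤳ y) :
    PtTop.codim (cl y) (closure {x}) = ((δ x - δ y).toNat : ℕ∞) := by
  apply le_antisymm
  · unfold PtTop.codim
    refine iSup₂_le fun s hs => ?_
    have h1 := add_le_of_series hδ s (Fin.last _)
    have h2 : s 0 = cl y := hs.1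
    have h3 : x ⤳ gp (s (Fin.last _)) := by
      rw [specializes_iff_mem_closure]
      apply hs.2
      have : gp (s (Fin.last _)) ∈ closure {gp (s (Fin.last _))} := subset_closure rfl
      rw [closure_gp] at this
      exact this
    have h4 := le_of_specializes hδ h3
    rw [h2, gp_cl] at h1
    simp only [Fin.val_last] at h1
    have : s.length ≤ (δ x - δ y).toNat := by omega
    exact_mod_cast this
  · obtain ⟨s, hsh, hsl, hsn⟩ := exists_series hδ _ x y hxy rfl
    unfold PtTop.codim
    refine le_iSup₂_of_le s ⟨hsh, ?_⟩ ?_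
    · rw [hsl]; rfl
    · rw [hsn]

include hδ in
theorem isCatenarySpace : PtTop.IsCatenarySpace X := by
  intro T T' hTT'
  have hsp : gp T' ⤳ gp T := by
    rw [← cl_le_cl, cl_gp, cl_gp]
    exact hTT'
  have hc := codim_eq hδ hsp
  rw [cl_gp, closure_gp] at hc
  refine ⟨by rw [hc]; exact ENat.coe_ne_top _, fun s hsh hsl hcov => ?_⟩
  rw [hc]
  have h1 := eq_add_of_series hδ s hcov (Fin.last _)
  have h2 : s 0 = T := hsh
  have h3 : s (Fin.last _) = T' := hsl
  rw [h2, h3] at h1
  simp only [Fin.val_last] at h1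
  have : s.length = (δ (gp T') - δ (gp T)).toNat := by omega
  exact_mod_cast this

variable {δ' : X → ℤ} (hδ' : PtTop.IsDimensionFunction δ')

include hδ hδ' in
theorem sub_eq_sub_of_specializes {ξ u : X} (h : ξ ⤳ u) : δ ξ - δ' ξ = δ u - δ' u := by
  have h1 := codim_eq hδ h
  have h2 := codim_eq hδ' h
  have h5 : ((δ ξ - δ u).toNat : ℕ∞) = ((δ' ξ - δ' u).toNat : ℕ∞) := h1.symm.trans h2
  have h3 := le_of_specializes hδ h
  have h4 := le_of_specializes hδ' h
  have h6 : (δ ξ - δ u).toNat = (δ' ξ - δ' u).toNat := by exact_mod_cast h5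
  omega

include hδ hδ' in
theorem isLocallyConstant_sub (hX : ∀ x : X, ∃ E ∈ nhds x, NoetherianSpace E) :
    IsLocallyConstant (fun x => δ x - δ' x) := by
  classical
  rw [IsLocallyConstant.iff_exists_open]
  intro x
  obtain ⟨E, hE, hEN⟩ := hX x
  set W : Set X := interior E with hW
  have hWo : IsOpen W := isOpen_interior
  have hxW : x ∈ W := mem_interior_iff_mem_nhds.mpr hE
  haveI : NoetherianSpace W := NoetherianSpace.of_subset (W := E) interior_subset
  have hfin : (irreducibleComponents W).Finite := NoetherianSpace.finite_irreducibleComponents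
  let bad : Set W := ⋃ Z ∈ {Z ∈ irreducibleComponents W | (⟨x, hxW⟩ : W) ∉ Z}, Z
  have hbad : IsClosed bad :=
    (hfin.subset (Set.sep_subset _ _)).isClosed_biUnion fun Z hZ =>
      isClosed_of_mem_irreducibleComponents Z hZ.1
  refine ⟨Subtype.val '' badᶜ, hWo.isOpenMap_subtype_val _ hbad.isOpen_compl,
    ⟨⟨x, hxW⟩, ?_, rfl⟩, ?_⟩
  · intro hx
    obtain ⟨Z, hZ, hxZ⟩ := Set.mem_iUnion₂.mp hx
    exact hZ.2 hxZ
  · rintro _ ⟨u, hu, rfl⟩
    have hZ : irreducibleComponent u ∈ irreducibleComponents W :=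
      irreducibleComponent_mem_irreducibleComponents u
    have huZ : u ∈ irreducibleComponent u := mem_irreducibleComponent
    have hxZ : (⟨x, hxW⟩ : W) ∈ irreducibleComponent u := by
      by_contra h
      exact hu (Set.mem_iUnion₂.mpr ⟨irreducibleComponent u, ⟨hZ, h⟩, huZ⟩)
    have hirr : IsIrreducible (closure (Subtype.val '' irreducibleComponent u : Set X)) :=
      ((isIrreducible_irreducibleComponent (x := u)).image _
        continuous_subtype_val.continuousOn).closure
    have hξ := hirr.isGenericPoint_genericPoint isClosed_closure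
    have h1 : hirr.genericPoint ⤳ u.1 := hξ.specializes (subset_closure ⟨u, huZ, rfl⟩)
    have h2 : hirr.genericPoint ⤳ x := hξ.specializes (subset_closure ⟨⟨x, hxW⟩, hxZ, rfl⟩)
    exact (sub_eq_sub_of_specializes hδ hδ' h1).symm.trans (sub_eq_sub_of_specializes hδ hδ' h2)

end Sober

end Groth.Agent.Lib.Helper10.DimFun
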