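import Mathlib
import Groth.Prelude.Def_W4stktopologysheavesDim
import Groth.Agent.Lib.Helper10DimFun

/-!
# Catenary spaces and local dimension functions (helper10)

* `exists_series_of_codim_ne_top`: finite codimension => a saturated chain of maximal length exists.
* `cN`, `cN_add`, `cN_pos`, `cN_imm`: additivity of codimension in a catenary sober space.
* `exists_open_generizations`: in a locally Noetherian sober space, near `s` every point of a closed set `V`
  has a generization in `V` (from a finite set) which also generizes `s`.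
* `exists_dimFun_of_catenary`, `catenary_of_locally_dimFun`.
-/

set_option autoImplicit false
open Topology TopologicalSpace Set

namespace Groth.Agent.Lib.Helper10.Catenary

open Groth.Agent.Lib.Helper10.DimFun

universe u

section Order

variable {α : Type*} [PartialOrder α]
theorem head_insertNth (s : LTSeries α) (i : Fin s.length) (a : α)
    (h1 : s i.castSucc < a) (h2 : a < s i.succ) :
    (s.insertNth i a h1 h2).head = s.head := by
  have := RelSeries.insertNth_toFun s i a h1 h2 0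
  show (s.insertNth i a h1 h2).toFun 0 = s.toFun 0
  refine this.trans ?_
  rw [Fin.insertNth_apply_below]
  · simp
  · simp [Fin.lt_def]

theorem last_insertNth (s : LTSeries α) (i : Fin s.length) (a : α)
    (h1 : s i.castSucc < a) (h2 : a < s i.succ) :
    (s.insertNth i a h1 h2).last = s.last := by
  have := RelSeries.insertNth_toFun s i a h1 h2 (Fin.last _)
  show (s.insertNth i a h1 h2).toFun (Fin.last _) = s.toFun (Fin.last _)
  refine this.trans ?_
  rw [Fin.insertNth_apply_above]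
  · simp only [eq_rec_constant]
    congr 1
  · simp [Fin.lt_def]

theorem covBy_of_max (s : LTSeries α)
    (hmax : ∀ s' : LTSeries α, s'.head = s.head → s'.last = s.last → s'.length ≤ s.length)
    (i : Fin s.length) : s i.castSucc ⋖ s i.succ := by
  refine ⟨s.step i, fun B h1 h2 => ?_⟩
  have := hmax (s.insertNth i B h1 h2) (head_insertNth s i B h1 h2) (last_insertNth s i B h1 h2)
  simp at this

end Order

variable {X : Type u} [TopologicalSpace X]

theorem length_le_codim {T : IrreducibleCloseds X} {T' : Set X}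
    (s : LTSeries (IrreducibleCloseds X)) (h1 : s.head = T) (h2 : (s.last : Set X) ⊆ T') :
    (s.length : ℕ∞) ≤ PtTop.codim T T' := by
  unfold PtTop.codim
  exact le_iSup₂_of_le s ⟨h1, h2⟩ le_rfl

theorem exists_series_of_codim_ne_top {T T' : IrreducibleCloseds X} (hTT' : T ≤ T')
    (h : PtTop.codim T (T' : Set X) ≠ ⊤) :
    ∃ s : LTSeries (IrreducibleCloseds X), s.head = T ∧ s.last = T' ∧
      (s.length : ℕ∞) = PtTop.codim T (T' : Set X) ∧
      ∀ i : Fin s.length, s i.castSucc ⋖ s i.succ := by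
  have h0 : PtTop.codim T (T' : Set X) =
      ⨆ s : {s : LTSeries (IrreducibleCloseds X) // s.head = T ∧ (s.last : Set X) ⊆ T'},
        (s.1.length : ℕ∞) := by
    unfold PtTop.codim
    rw [iSup_subtype']
  have : Nonempty {s : LTSeries (IrreducibleCloseds X) // s.head = T ∧ (s.last : Set X) ⊆ T'} :=
    ⟨⟨RelSeries.singleton _ T, rfl, hTT'⟩⟩
  have h1 : (⨆ s : {s : LTSeries (IrreducibleCloseds X) // s.head = T ∧ (s.last : Set X) ⊆ T'},
        (s.1.length : ℕ∞)) < ⊤ := by
    rw [← h0]; exact lt_top_iff_ne_top.mpr h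
  obtain ⟨⟨s, hsh, hsl⟩, hs⟩ := ENat.exists_eq_iSup_of_lt_top h1
  rw [← h0] at hs
  have hsl' : s.last ≤ T' := hsl
  have hlast : s.last = T' := by
    by_contra hne
    have hlt : s.last < T' := lt_of_le_of_ne hsl' hne
    have := length_le_codim (T := T) (T' := (T' : Set X)) (s.snoc T' hlt)
      (by rw [RelSeries.head_snoc]; exact hsh) (by rw [RelSeries.last_snoc])
    rw [← hs, RelSeries.snoc_length] at this
    have h3 : s.length + 1 ≤ s.length := by exact_mod_cast this
    omega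
  refine ⟨s, hsh, hlast, hs, covBy_of_max s fun s' h1' h2' => ?_⟩
  have := length_le_codim (T := T) (T' := (T' : Set X)) s' (h1'.trans hsh)
    (by rw [h2', hlast])
  rw [← hs] at this
  exact_mod_cast this

section Cat

variable [QuasiSober X] [T0Space X]

/-- Saturated chains of irreducible closed subsets. -/
abbrev SatSeries (X : Type u) [TopologicalSpace X] :=
  RelSeries {(a, b) : IrreducibleCloseds X × IrreducibleCloseds X | a ⋖ b}

/-- The underlying `LTSeries` of a saturated chain. -/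
def SatSeries.toLT (t : SatSeries X) : LTSeries (IrreducibleCloseds X) :=
  t.ofLE (fun _ h => CovBy.lt h)

/-- Natural-number valued codimension of `closure {y}` in `closure {x}`. -/
noncomputable def cN (x y : X) : ℕ := (PtTop.codim (cl y) (closure {x})).toNat

theorem coe_cN (hX : PtTop.IsCatenarySpace X) {x y : X} (h : x ⤳ y) :
    (cN x y : ℕ∞) = PtTop.codim (cl y) (closure {x}) :=
  ENat.natCast_toNat (hX (cl y) (cl x) (cl_le_cl.mpr h)).1

theorem length_eq_cN (hX : PtTop.IsCatenarySpace X) {x y : X} (h : x ⤳ y)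
    (t : SatSeries X) (hh : t.head = cl y) (hl : t.last = cl x) : t.length = cN x y := by
  have h1 := (hX (cl y) (cl x) (cl_le_cl.mpr h)).2 t.toLT hh hl (fun i => t.step i)
  have h2 : ((t.toLT).length : ℕ∞) = (cN x y : ℕ∞) := by
    rw [h1, coe_cN hX h]; rfl
  have h3 : (t.toLT).length = cN x y := by exact_mod_cast h2
  exact h3

theorem exists_sat (hX : PtTop.IsCatenarySpace X) {x y : X} (h : x ⤳ y) :
    ∃ t : SatSeries X, t.head = cl y ∧ t.last = cl x := by
  obtain ⟨s, hsh, hsl, -, hcov⟩ := exists_series_of_codim_ne_top (cl_le_cl.mpr h)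
    (hX (cl y) (cl x) (cl_le_cl.mpr h)).1
  exact ⟨⟨s.length, s.toFun, hcov⟩, hsh, hsl⟩

theorem cN_add (hX : PtTop.IsCatenarySpace X) {x y z : X} (hxy : x ⤳ y) (hyz : y ⤳ z) :
    cN x z = cN x y + cN y z := by
  obtain ⟨t₁, h1h, h1l⟩ := exists_sat hX hyz
  obtain ⟨t₂, h2h, h2l⟩ := exists_sat hX hxy
  have e1 := length_eq_cN hX hyz t₁ h1h h1l
  have e2 := length_eq_cN hX hxy t₂ h2h h2l
  have e3 := length_eq_cN hX (hxy.trans hyz) (RelSeries.smash t₁ t₂ (h1l.trans h2h.symm))
    (by rw [RelSeries.head_smash, h1h]) (by rw [RelSeries.last_smash, h2l])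
  rw [RelSeries.smash_length] at e3
  omega

theorem cl_covBy_of_imm {x y : X} (h : PtTop.IsImmediateSpecialization x y) : cl y ⋖ cl x := by
  refine ⟨cl_lt_cl.mpr ⟨h.1, h.2.1⟩, fun B h1 h2 => ?_⟩
  rw [← cl_gp B, cl_lt_cl] at h1 h2
  rcases h.2.2 (gp B) h2.1 h1.1 with h3 | h3
  · exact h2.2 h3.symm
  · exact h1.2 h3

/-- A two-term saturated chain. -/
def SatSeries.pair (a b : IrreducibleCloseds X) (h : a ⋖ b) : SatSeries X where
  length := 1
  toFun := ![a, b]
  step := fun i => by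
    fin_cases i
    exact h

theorem cN_imm (hX : PtTop.IsCatenarySpace X) {x y : X}
    (h : PtTop.IsImmediateSpecialization x y) : cN x y = 1 := by
  have hcov := cl_covBy_of_imm h
  have := length_eq_cN hX h.1 (SatSeries.pair (cl y) (cl x) hcov) rfl rfl
  rw [← this]
  rfl

theorem cN_pos (hX : PtTop.IsCatenarySpace X) {x y : X} (h : x ⤳ y) (hne : x ≠ y) :
    1 ≤ cN x y := by
  have hlt : cl y < cl x := cl_lt_cl.mpr ⟨h, hne⟩
  let s : LTSeries (IrreducibleCloseds X) :=
    { length := 1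
      toFun := ![cl y, cl x]
      step := fun i => by
        fin_cases i
        exact hlt }
  have := length_le_codim (T := cl y) (T' := closure {x}) s rfl (le_of_eq rfl)
  rw [← coe_cN hX h] at this
  have h2 : s.length ≤ cN x y := by exact_mod_cast this
  exact h2

end Cat

section Generizations

variable [QuasiSober X]

theorem exists_open_generizations (W : Set X) (hW : IsOpen W) [NoetherianSpace W]
    (V : Set X) (hV : IsClosed V) (s : X) (hs : s ∈ W) :
    ∃ U : Set X, IsOpen U ∧ s ∈ U ∧ U ⊆ W ∧ ∃ G : Set X, G.Finite ∧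
      (∀ η ∈ G, η ∈ V ∧ η ⤳ s) ∧ ∀ y ∈ U, y ∈ V → ∃ η ∈ G, η ⤳ y := by
  classical
  haveI : QuasiSober W := hW.isOpenEmbedding_subtypeVal.quasiSober
  obtain ⟨F, hFfin, hFcl, hFirr, hFU⟩ :=
    NoetherianSpace.exists_finite_set_isClosed_irreducible
      (hV.preimage (continuous_subtype_val (p := (· ∈ W))))
  let bad : Set W := ⋃ t ∈ {t ∈ F | (⟨s, hs⟩ : W) ∉ t}, t
  have hbad : IsClosed bad :=
    (hFfin.subset (Set.sep_subset _ _)).isClosed_biUnion fun t ht => hFcl t ht.1
  refine ⟨Subtype.val '' badᶜ, hW.isOpenMap_subtype_val _ hbad.isOpen_compl,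
    ⟨⟨s, hs⟩, ?_, rfl⟩, ?_, ?_⟩
  · intro hx
    obtain ⟨t, ht, hst⟩ := Set.mem_iUnion₂.mp hx
    exact ht.2 hst
  · rintro _ ⟨u, -, rfl⟩
    exact u.2
  · let g : Set W → X := fun t => if h : IsIrreducible t then (h.genericPoint).val else s
    refine ⟨g '' {t ∈ F | (⟨s, hs⟩ : W) ∈ t}, (hFfin.subset (Set.sep_subset _ _)).image _, ?_, ?_⟩
    · rintro _ ⟨t, ⟨htF, hst⟩, rfl⟩
      have hirr := hFirr t htF
      have hgen := hirr.isGenericPoint_genericPoint (hFcl t htF)
      simp only [g, dif_pos hirr]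
      constructor
      · have h1 : hirr.genericPoint ∈ t := hgen.mem
        have h2 : hirr.genericPoint ∈ Subtype.val ⁻¹' V := by
          rw [hFU]
          exact ⟨t, htF, h1⟩
        exact h2
      · exact (hgen.specializes hst).map continuous_subtype_val
    · rintro _ ⟨u, hu, rfl⟩ huV
      have h1 : u ∈ Subtype.val ⁻¹' V := huV
      rw [hFU] at h1
      obtain ⟨t, htF, hut⟩ := h1
      have hst : (⟨s, hs⟩ : W) ∈ t := by
        by_contra h
        exact hu (Set.mem_iUnion₂.mpr ⟨t, ⟨htF, h⟩, hut⟩)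
      refine ⟨g t, ⟨t, ⟨htF, hst⟩, rfl⟩, ?_⟩
      have hirr := hFirr t htF
      have hgen := hirr.isGenericPoint_genericPoint (hFcl t htF)
      simp only [g, dif_pos hirr]
      exact (hgen.specializes hut).map continuous_subtype_val

variable [T0Space X]

theorem exists_dimFun_of_catenary (hX : PtTop.IsCatenarySpace X) (s : X) (W : Set X)
    (hW : IsOpen W) [NoetherianSpace W] (hs : s ∈ W) :
    ∃ U : Opens X, s ∈ U ∧ ∃ δ : U → ℤ, PtTop.IsDimensionFunction δ := by
  classical
  obtain ⟨U₁, hU₁o, hsU₁, -, G, hGfin, hG, hGcov⟩ :=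
    exists_open_generizations W hW univ isClosed_univ s hs
  have key : ∀ p : X × X, ∃ U : Set X, IsOpen U ∧ s ∈ U ∧
      ∀ y ∈ U, y ∈ closure {p.1} ∩ closure {p.2} →
        ∃ η, η ∈ closure {p.1} ∩ closure {p.2} ∧ η ⤳ s ∧ η ⤳ y := by
    intro p
    obtain ⟨U, hUo, hsU, -, G', -, hG', hG'cov⟩ :=
      exists_open_generizations W hW (closure {p.1} ∩ closure {p.2})
        (isClosed_closure.inter isClosed_closure) s hs
    refine ⟨U, hUo, hsU, fun y hy hyV => ?_⟩
    obtain ⟨η, hη, hηy⟩ := hG'cov y hy hyV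
    exact ⟨η, (hG' η hη).1, (hG' η hη).2, hηy⟩
  choose UU hUUo hsUU hUU using key
  let U : Set X := U₁ ∩ ⋂ p ∈ G ×ˢ G, UU p
  have hUo : IsOpen U := hU₁o.inter ((hGfin.prod hGfin).isOpen_biInter fun p _ => hUUo p)
  have hsU : s ∈ U := ⟨hsU₁, Set.mem_iInter₂.mpr fun p _ => hsUU p⟩
  have hξ : ∀ y : U, ∃ ξ ∈ G, ξ ⤳ y.1 := fun y => hGcov y.1 y.2.1 (mem_univ _)
  choose ξ hξG hξy using hξ
  have indep : ∀ (y : X) (_ : y ∈ U) (ξ₁ ξ₂ : X), ξ₁ ∈ G → ξ₂ ∈ G → ξ₁ ⤳ y → ξ₂ ⤳ y →
      (cN ξ₁ s : ℤ) - cN ξ₁ y = (cN ξ₂ s : ℤ) - cN ξ₂ y := by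
    intro y hy ξ₁ ξ₂ h1 h2 h1y h2y
    have hyUU : y ∈ UU (ξ₁, ξ₂) := Set.mem_iInter₂.mp hy.2 (ξ₁, ξ₂) (Set.mk_mem_prod h1 h2)
    obtain ⟨η, hηV, hηs, hηy⟩ := hUU (ξ₁, ξ₂) y hyUU ⟨h1y.mem_closure, h2y.mem_closure⟩
    have e1 : ξ₁ ⤳ η := specializes_iff_mem_closure.mpr hηV.1
    have e2 : ξ₂ ⤳ η := specializes_iff_mem_closure.mpr hηV.2
    have a1 := cN_add hX e1 hηs
    have a2 := cN_add hX e1 hηy
    have a3 := cN_add hX e2 hηs
    have a4 := cN_add hX e2 hηy
    omega
  refine ⟨⟨U, hUo⟩, hsU, fun y => (cN (ξ y) s : ℤ) - cN (ξ y) y.1, ?_, ?_⟩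
  · intro x y hxy hne
    have hxy' : x.1 ⤳ y.1 := (subtype_specializes_iff x y).mp hxy
    have hne' : x.1 ≠ y.1 := fun h => hne (Subtype.ext h)
    have h1 := indep y.1 y.2 (ξ y) (ξ x) (hξG y) (hξG x) (hξy y) ((hξy x).trans hxy')
    have h2 := cN_add hX (hξy x) hxy'
    have h3 := cN_pos hX hxy' hne'
    show (cN (ξ y) s : ℤ) - cN (ξ y) y.1 < (cN (ξ x) s : ℤ) - cN (ξ x) x.1
    omega
  · intro x y himm
    have hxy' : x.1 ⤳ y.1 := (subtype_specializes_iff x y).mp himm.1
    have himm' : PtTop.IsImmediateSpecialization x.1 y.1 := by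
      refine ⟨hxy', fun h => himm.2.1 (Subtype.ext h), fun z hxz hzy => ?_⟩
      have hzU : z ∈ U := hzy.mem_open hUo y.2
      rcases himm.2.2 ⟨z, hzU⟩ ((subtype_specializes_iff x ⟨z, hzU⟩).mpr hxz)
        ((subtype_specializes_iff ⟨z, hzU⟩ y).mpr hzy) with h | h
      · left
        exact congrArg Subtype.val h
      · right
        exact congrArg Subtype.val h
    have h1 := indep y.1 y.2 (ξ y) (ξ x) (hξG y) (hξG x) (hξy y) ((hξy x).trans hxy')
    have h2 := cN_add hX (hξy x) hxy'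
    have h3 := cN_imm hX himm'
    show (cN (ξ x) s : ℤ) - cN (ξ x) x.1 = (cN (ξ y) s : ℤ) - cN (ξ y) y.1 + 1
    omega

end Generizations

section Transfer

variable [QuasiSober X] [T0Space X] (U : Opens X)

theorem codim_le {T : IrreducibleCloseds X} {T' : Set X} {c : ℕ∞}
    (h : ∀ s : LTSeries (IrreducibleCloseds X), s.head = T → (s.last : Set X) ⊆ T' →
      (s.length : ℕ∞) ≤ c) : PtTop.codim T T' ≤ c :=
  iSup₂_le fun s hs => h s hs.1 hs.2

theorem gp_mem_of_le {T A : IrreducibleCloseds X} (hT : gp T ∈ U) (h : T ≤ A) : gp A ∈ U := by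
  have h1 : gp A ⤳ gp T := by
    rw [← cl_le_cl, cl_gp, cl_gp]
    exact h
  exact h1.mem_open U.isOpen hT

instance quasiSober_opens : QuasiSober U := U.isOpen.isOpenEmbedding_subtypeVal.quasiSober

/-- From irreducible closed subsets of `U` to those of `X`. -/
noncomputable def ψ (B : IrreducibleCloseds U) : IrreducibleCloseds X := cl (gp B).1

open Classical in
/-- From irreducible closed subsets of `X` (meeting `U`) to those of `U`. -/
noncomputable def φ (s₀ : U) (A : IrreducibleCloseds X) : IrreducibleCloseds U :=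
  if h : gp A ∈ U then cl ⟨gp A, h⟩ else cl s₀

theorem ψ_strictMono : StrictMono (ψ U) := by
  intro B B' h
  rw [← cl_gp B, ← cl_gp B', cl_lt_cl] at h
  exact cl_lt_cl.mpr ⟨(subtype_specializes_iff _ _).mp h.1, fun e => h.2 (Subtype.ext e)⟩

theorem ψ_φ (s₀ : U) {A : IrreducibleCloseds X} (h : gp A ∈ U) : ψ U (φ U s₀ A) = A := by
  unfold ψ φ
  rw [dif_pos h, gp_cl, cl_gp]

theorem φ_le (s₀ : U) {A A' : IrreducibleCloseds X} (h : gp A ∈ U) (h' : gp A' ∈ U)
    (hle : A ≤ A') : φ U s₀ A ≤ φ U s₀ A' := by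
  unfold φ
  rw [dif_pos h, dif_pos h', cl_le_cl, subtype_specializes_iff, ← cl_le_cl, cl_gp, cl_gp]
  exact hle

theorem φ_lt (s₀ : U) {A A' : IrreducibleCloseds X} (h : gp A ∈ U) (h' : gp A' ∈ U)
    (hlt : A < A') : φ U s₀ A < φ U s₀ A' := by
  refine lt_of_le_of_ne (φ_le U s₀ h h' hlt.le) fun e => ?_
  have := congrArg (ψ U) e
  rw [ψ_φ U s₀ h, ψ_φ U s₀ h'] at this
  exact hlt.ne this

end Transfer

section Converse

variable [QuasiSober X] [T0Space X]

theorem catenary_of_locally_dimFun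
    (h : ∀ s : X, ∃ U : Opens X, s ∈ U ∧ ∃ δ : U → ℤ, PtTop.IsDimensionFunction δ) :
    PtTop.IsCatenarySpace X := by
  intro T T' hTT'
  obtain ⟨U, hsU, δ, hδ⟩ := h (gp T)
  have hcat : PtTop.IsCatenarySpace U := isCatenarySpace hδ
  set s₀ : U := ⟨gp T, hsU⟩ with hs₀
  have hT'U : gp T' ∈ U := gp_mem_of_le U hsU hTT'
  have hmem : ∀ r : LTSeries (IrreducibleCloseds X), r.head = T → ∀ i, gp (r i) ∈ U :=
    fun r hr i => gp_mem_of_le U hsU (hr ▸ r.head_le i)
  have hcodim : PtTop.codim T (T' : Set X) =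
      PtTop.codim (φ U s₀ T) ((φ U s₀ T' : IrreducibleCloseds U) : Set U) := by
    apply le_antisymm
    · refine codim_le fun r hrh hrl => ?_
      let r' : LTSeries (IrreducibleCloseds U) :=
        { length := r.length
          toFun := fun i => φ U s₀ (r i)
          step := fun i => φ_lt U s₀ (hmem r hrh _) (hmem r hrh _) (r.step i) }
      refine length_le_codim r' ?_ ?_
      · show φ U s₀ (r 0) = φ U s₀ T
        rw [show r 0 = T from hrh]
      · show φ U s₀ (r (Fin.last _)) ≤ φ U s₀ T'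
        exact φ_le U s₀ (hmem r hrh _) hT'U hrl
    · refine codim_le fun r hrh hrl => ?_
      have := length_le_codim (T := T) (T' := (T' : Set X)) (r.map (ψ U) (ψ_strictMono U))
        (by rw [LTSeries.head_map, hrh, ψ_φ U s₀ hsU])
        (by
          rw [LTSeries.last_map]
          have h1 : ψ U r.last ≤ ψ U (φ U s₀ T') := (ψ_strictMono U).monotone hrl
          rw [ψ_φ U s₀ hT'U] at h1
          exact h1)
      simpa using this
  obtain ⟨hfin, hsat⟩ := hcat (φ U s₀ T) (φ U s₀ T') (φ_le U s₀ hsU hT'U hTT')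
  refine ⟨by rw [hcodim]; exact hfin, fun r hrh hrl hcov => ?_⟩
  rw [hcodim]
  let r' : LTSeries (IrreducibleCloseds U) :=
    { length := r.length
      toFun := fun i => φ U s₀ (r i)
      step := fun i => φ_lt U s₀ (hmem r hrh _) (hmem r hrh _) (r.step i) }
  refine hsat r' ?_ ?_ fun i => ?_
  · show φ U s₀ (r 0) = φ U s₀ T
    rw [show r 0 = T from hrh]
  · show φ U s₀ (r (Fin.last _)) = φ U s₀ T'
    rw [show r (Fin.last _) = T' from hrl]
  · refine ⟨φ_lt U s₀ (hmem r hrh _) (hmem r hrh _) (r.step i), fun B h1 h2 => ?_⟩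
    have h1' := ψ_strictMono U h1
    have h2' := ψ_strictMono U h2
    change ψ U (φ U s₀ (r i.castSucc)) < ψ U B at h1'
    change ψ U B < ψ U (φ U s₀ (r i.succ)) at h2'
    rw [ψ_φ U s₀ (hmem r hrh _)] at h1' h2'
    exact (hcov i).2 h1' h2'

end Converse

end Groth.Agent.Lib.Helper10.Catenary
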