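import Mathlib
import Groth.Agent.Lib.Helper13Cat
import Groth.Agent.Lib.Helper10Catenary

/-!
# Heights in catenary Noetherian domains (helper4)

* `covBy_of_length_eq_height`, `isMin_head_of_length_eq_height`: chains of maximal length are
  saturated and start at a minimal element.
* `height_add_length_eq`: in a catenary Noetherian domain, `ht P + (length of a saturated chain
  from P to Q) = ht Q`.
* `height_comap_eq_of_isCatenary`: for a surjection `φ : D → S` of domains, `D` Noetherian
  catenary, `ht φ⁻¹ q = ht ker φ + ht q`.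
-/

set_option autoImplicit false
set_option linter.style.haveILetI false

universe u

namespace Groth.Agent.Lib.Helper4.DimFormula

open Groth.Agent.Lib.Helper10.Catenary

section Order

variable {α : Type*} [PartialOrder α]

theorem covBy_of_length_eq_height (s : LTSeries α) (h : (s.length : ℕ∞) = Order.height s.last)
    (i : Fin s.length) : s i.castSucc ⋖ s i.succ := by
  refine covBy_of_max s (fun s' _ hl => ?_) i
  have := Order.length_le_height_last (p := s')
  rw [hl, ← h] at this
  exact_mod_cast this

theorem isMin_head_of_length_eq_height (s : LTSeries α)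
    (h : (s.length : ℕ∞) = Order.height s.last) : IsMin s.head := by
  intro b hb
  by_contra hcon
  have hlt : b < s.head := lt_of_le_not_ge hb hcon
  have := Order.length_le_height_last (p := s.cons b hlt)
  rw [RelSeries.last_cons, ← h, RelSeries.cons_length] at this
  have : s.length + 1 ≤ s.length := by exact_mod_cast this
  omega

/-- Concatenate two saturated chains. -/
theorem exists_smash_saturated (s t : LTSeries α) (hst : s.last = t.head)
    (hs : ∀ i : Fin s.length, s i.castSucc ⋖ s i.succ)
    (ht : ∀ i : Fin t.length, t i.castSucc ⋖ t i.succ) :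
    ∃ u : LTSeries α, u.head = s.head ∧ u.last = t.last ∧ u.length = s.length + t.length ∧
      ∀ i : Fin u.length, u i.castSucc ⋖ u i.succ := by
  let σ : RelSeries {(a, b) : α × α | a ⋖ b} := ⟨s.length, s.toFun, hs⟩
  let τ : RelSeries {(a, b) : α × α | a ⋖ b} := ⟨t.length, t.toFun, ht⟩
  have hστ : σ.last = τ.head := hst
  let υ := RelSeries.smash σ τ hστ
  refine ⟨υ.ofLE (fun _ h => CovBy.lt h), ?_, ?_, ?_, fun i => υ.step i⟩
  · show υ.head = s.head
    rw [RelSeries.head_smash]; rfl
  · show υ.last = t.last
    rw [RelSeries.last_smash]; rfl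
  · show υ.length = s.length + t.length
    rw [RelSeries.smash_length]

end Order

section Cat

variable {D : Type u} [CommRing D] [IsDomain D] [IsNoetherianRing D]

theorem head_eq_bot_of_length_eq_height (s : LTSeries (PrimeSpectrum D))
    (h : (s.length : ℕ∞) = Order.height s.last) : s.head = ⟨⊥, Ideal.isPrime_bot⟩ := by
  have hmin := isMin_head_of_length_eq_height s h
  have hle : (⟨⊥, Ideal.isPrime_bot⟩ : PrimeSpectrum D) ≤ s.head := by
    show (⊥ : Ideal D) ≤ s.head.asIdeal
    exact bot_le
  exact le_antisymm (hmin hle) hle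

/-- In a catenary Noetherian domain, heights are additive along saturated chains. -/
theorem height_add_length_eq (hD : CAlg.IsCatenary D) (t : LTSeries (PrimeSpectrum D))
    (hsat : ∀ i : Fin t.length, t i.castSucc ⋖ t i.succ) :
    t.head.asIdeal.height + t.length = t.last.asIdeal.height := by
  obtain ⟨s₁, hs₁l, hs₁len⟩ := t.head.asIdeal.exists_ltSeries_length_eq_height
  obtain ⟨s₃, hs₃l, hs₃len⟩ := t.last.asIdeal.exists_ltSeries_length_eq_height
  have e₁ : (s₁.length : ℕ∞) = Order.height s₁.last := by
    rw [hs₁len, hs₁l]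
    exact PrimeSpectrum.height_eq_orderHeight _
  have e₃ : (s₃.length : ℕ∞) = Order.height s₃.last := by
    rw [hs₃len, hs₃l]
    exact PrimeSpectrum.height_eq_orderHeight _
  obtain ⟨u, huh, hul, hulen, husat⟩ := exists_smash_saturated s₁ t hs₁l
    (covBy_of_length_eq_height s₁ e₁) hsat
  have hlen := hD.2 u s₃
    (by rw [huh, head_eq_bot_of_length_eq_height s₁ e₁, head_eq_bot_of_length_eq_height s₃ e₃])
    (by rw [hul, hs₃l]) husat (covBy_of_length_eq_height s₃ e₃)
  rw [← hs₁len, ← hs₃len, ← hlen, hulen]
  push_cast
  rfl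

variable {S : Type u} [CommRing S] [IsDomain S]

/-- For a surjection from a catenary Noetherian domain onto a domain, heights add up. -/
theorem height_comap_eq_of_isCatenary' [IsNoetherianRing S] (hD : CAlg.IsCatenary D) (φ : D →+* S)
    (hφ : Function.Surjective φ) (q : Ideal S) [q.IsPrime] :
    (q.comap φ).height = (RingHom.ker φ).height + q.height := by
  obtain ⟨s₂, hs₂l, hs₂len⟩ := q.exists_ltSeries_length_eq_height
  have e₂ : (s₂.length : ℕ∞) = Order.height s₂.last := by
    rw [hs₂len, hs₂l]
    exact PrimeSpectrum.height_eq_orderHeight ⟨q, inferInstance⟩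
  let e := Groth.Agent.Helper13Cat.embOfIsEmbedding φ
    (PrimeSpectrum.isClosedEmbedding_comap_of_surjective _ φ hφ).isEmbedding
  have hconv := Groth.Agent.Helper13Cat.ordConnected_range_surjective φ hφ
  have h := height_add_length_eq hD (s₂.map e e.strictMono)
    (fun i => (hconv.apply_covBy_apply_iff e).mpr (covBy_of_length_eq_height s₂ e₂ i))
  rw [LTSeries.head_map, LTSeries.last_map, hs₂l, head_eq_bot_of_length_eq_height s₂ e₂] at h
  have h1 : (e ⟨⊥, Ideal.isPrime_bot⟩).asIdeal = RingHom.ker φ := by
    show Ideal.comap φ ⊥ = RingHom.ker φ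
    rw [RingHom.ker_eq_comap_bot]
  have h2 : (e ⟨q, inferInstance⟩).asIdeal = q.comap φ := rfl
  rw [h1, h2] at h
  rw [← h, ← hs₂len]
  rfl

theorem height_comap_eq_of_isCatenary (hD : CAlg.IsCatenary D) (φ : D →+* S)
    (hφ : Function.Surjective φ) (q : Ideal S) [q.IsPrime] :
    (q.comap φ).height = (RingHom.ker φ).height + q.height := by
  haveI : IsNoetherianRing S := isNoetherianRing_of_surjective D S φ hφ
  exact height_comap_eq_of_isCatenary' hD φ hφ q

end Cat

end Groth.Agent.Lib.Helper4.DimFormula
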