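import Mathlib
import Groth.Agent.Lib.Helper4DimFormulaC
import Groth.Agent.Lib.Helper4DimFormulaD
import Groth.Agent.S9126

/-!
# The dimension formula: equality for universally catenary base (helper4)

* `height_comap_aeval_add_trdeg_eq`: for `S = R[x]`, `q` over `p`:
  `ht (aeval x)⁻¹ q + trdeg_{R/p} (S/q) = ht p + 1` (`R` Noetherian).
* `height_add_trdeg_eq_of_adjoin_singleton`: one-generator case, `R[X]` catenary.
* `height_add_trdeg_eq`: `ht q + trdeg_{R/p} S/q = ht p + trdeg_R S` for `R` universally catenary.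
-/

set_option autoImplicit false
set_option linter.style.haveILetI false

universe u

namespace Groth.Agent.Lib.Helper4.DimFormula

open Polynomial

section Gen

variable {R S : Type*} [CommRing R] [CommRing S] [Algebra R S] [IsNoetherianRing R]

/-- Key equality for a one-generator extension. -/
lemma height_comap_aeval_add_trdeg_eq (p : Ideal R) [p.IsPrime] (q : Ideal S) [q.IsPrime]
    [q.LiesOver p] (x : S) (hx : Algebra.adjoin R {x} = ⊤) :
    (((q.comap (aeval x : R[X] →ₐ[R] S)).height : ℕ∞) : Cardinal.{u_2}) +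
        Algebra.trdeg (R ⧸ p) (S ⧸ q) = ((p.height : ℕ∞) : Cardinal.{u_2}) + 1 := by
  set Q : Ideal R[X] := q.comap (aeval x : R[X] →ₐ[R] S) with hQdef
  haveI : Q.IsPrime := Ideal.comap_isPrime _ q
  haveI : Q.LiesOver p := Ideal.comap_liesOver q p (aeval x : R[X] →ₐ[R] S)
  have h0 := Ideal.height_eq_height_add_of_liesOver_of_hasGoingDown p Q
  have hle : p.map (algebraMap R R[X]) ≤ Q := by
    rw [Ideal.map_le_iff_le_comap]
    exact (Ideal.LiesOver.over (p := p) (P := Q)).le
  have htop := adjoin_mk_eq_top p q x hx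
  have hmap : ∀ f : R[X], aeval (Ideal.Quotient.mk q x) (f.map (Ideal.Quotient.mk p)) =
      Ideal.Quotient.mk q (aeval x f) := by
    intro f
    rw [aeval_def, aeval_def, eval₂_map, hom_eval₂]
    rfl
  have hmem : ∀ f : R[X], f.map (Ideal.Quotient.mk p) = 0 ↔ f ∈ p.map (algebraMap R R[X]) := by
    intro f
    change _ ↔ f ∈ p.map (C : R →+* R[X])
    rw [Ideal.mem_map_C_iff]
    constructor
    · intro h0' n
      have := congrArg (fun g => g.coeff n) h0'
      simp only [coeff_map, coeff_zero] at this
      exact Ideal.Quotient.eq_zero_iff_mem.mp this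
    · intro h
      ext n
      simp only [coeff_map, coeff_zero]
      exact Ideal.Quotient.eq_zero_iff_mem.mpr (h n)
  by_cases hQ : Q = p.map (algebraMap R R[X])
  · -- `Q = p R[X]`
    have h1 : (Q.map (Ideal.Quotient.mk (p.map (algebraMap R R[X])))).height = 0 := by
      have : Q.map (Ideal.Quotient.mk (p.map (algebraMap R R[X]))) = ⊥ := by
        conv_lhs => rw [hQ]
        exact Ideal.map_quotient_self _
      haveI hpr : (p.map (algebraMap R R[X])).IsPrime := hQ ▸ inferInstance
      rw [this, Ideal.height_bot]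
    rw [h1, add_zero] at h0
    have h2 := trdeg_le_one_of_adjoin_singleton (A := R ⧸ p) _ htop
    have htr : Transcendental (R ⧸ p) (Ideal.Quotient.mk q x) := by
      rw [transcendental_iff]
      intro g hg
      obtain ⟨f, rfl⟩ := Polynomial.map_surjective (Ideal.Quotient.mk p)
        Ideal.Quotient.mk_surjective g
      rw [hmap, Ideal.Quotient.eq_zero_iff_mem] at hg
      have hfQ : f ∈ Q := hg
      rw [hQ] at hfQ
      exact (hmem f).mpr hfQ
    haveI : Algebra.Transcendental (R ⧸ p) (S ⧸ q) := ⟨⟨_, htr⟩⟩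
    have h3 : (1 : Cardinal.{u_2}) ≤ Algebra.trdeg (R ⧸ p) (S ⧸ q) :=
      Cardinal.one_le_iff_pos.mpr (trdeg_pos _ _)
    rw [h0, le_antisymm h2 h3]
  · -- `Q ≠ p R[X]`
    have h1 := height_map_mk_le_one p Q
    haveI hpr : (p.map (algebraMap R R[X])).IsPrime := Ideal.isPrime_map_C_of_isPrime (P := p)
    have h1' : 1 ≤ (Q.map (Ideal.Quotient.mk (p.map (algebraMap R R[X])))).height := by
      haveI : (Q.map (Ideal.Quotient.mk (p.map (algebraMap R R[X])))).IsPrime :=
        Ideal.isPrime_map_quotientMk_of_isPrime hle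
      refine one_le_height_of_ne_bot _ ?_
      intro hbot
      rw [Ideal.map_eq_bot_iff_le_ker, Ideal.mk_ker] at hbot
      exact hQ (le_antisymm hbot hle)
    have h2 : Q.height = p.height + 1 := by rw [h0, le_antisymm h1 h1']
    obtain ⟨f, hfQ, hfp⟩ : ∃ f ∈ Q, f ∉ p.map (algebraMap R R[X]) := by
      by_contra hcon
      push Not at hcon
      exact hQ (le_antisymm hcon hle)
    have halg : IsAlgebraic (R ⧸ p) (Ideal.Quotient.mk q x) := by
      refine ⟨f.map (Ideal.Quotient.mk p), fun h0' => hfp ((hmem f).mp h0'), ?_⟩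
      have hfq : aeval x f ∈ q := hfQ
      rw [hmap, Ideal.Quotient.eq_zero_iff_mem]
      exact hfq
    have h3 := trdeg_eq_zero_of_adjoin_singleton (A := R ⧸ p) _ htop halg
    rw [h3, add_zero, h2]
    norm_cast

end Gen

section OneGen

variable {R S : Type u} [CommRing R] [IsDomain R] [IsNoetherianRing R] [CommRing S] [IsDomain S]
  [Algebra R S] [FaithfulSMul R S]

/-- One-generator case of the dimension formula with equality. -/
lemma height_add_trdeg_eq_of_adjoin_singleton (hcat : CAlg.IsCatenary R[X])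
    (p : Ideal R) [p.IsPrime] (q : Ideal S)
    [q.IsPrime] [q.LiesOver p] (x : S) (hx : Algebra.adjoin R {x} = ⊤) :
    (q.height : Cardinal.{u}) + Algebra.trdeg (R ⧸ p) (S ⧸ q) =
      (p.height : Cardinal.{u}) + Algebra.trdeg R S := by
  have hG := height_comap_aeval_add_trdeg_eq p q x hx
  have hsurj : Function.Surjective (aeval x : R[X] →ₐ[R] S) := by
    rw [← AlgHom.range_eq_top, ← Algebra.adjoin_singleton_eq_range_aeval]
    exact hx
  have hH := height_comap_eq_of_isCatenary hcat (aeval x : R[X] →ₐ[R] S).toRingHom hsurj q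
  change (q.comap (aeval x : R[X] →ₐ[R] S)).height =
    (RingHom.ker (aeval x : R[X] →ₐ[R] S)).height + q.height at hH
  have hT1 := trdeg_le_one_of_adjoin_singleton (A := R) x hx
  by_cases hker : RingHom.ker (aeval x : R[X] →ₐ[R] S) = ⊥
  · -- `x` transcendental
    have hinj : Function.Injective (aeval x : R[X] →ₐ[R] S) :=
      (RingHom.injective_iff_ker_eq_bot _).mpr hker
    have htr : Transcendental R x := transcendental_iff_injective.mpr hinj
    haveI : Algebra.Transcendental R S := ⟨⟨x, htr⟩⟩
    have hT : (1 : Cardinal.{u}) ≤ Algebra.trdeg R S := Cardinal.one_le_iff_pos.mpr (trdeg_pos R S)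
    rw [hker, Ideal.height_bot, zero_add] at hH
    rw [le_antisymm hT1 hT, ← hG, hH]
  · -- `x` algebraic
    haveI : (RingHom.ker (aeval x : R[X] →ₐ[R] S)).IsPrime := RingHom.ker_isPrime _
    have h1 := one_le_height_of_ne_bot _ hker
    have h1' : (RingHom.ker (aeval x : R[X] →ₐ[R] S)).height ≤ 1 := by
      apply height_le_one_of_comap_C_eq_bot
      rw [eq_bot_iff]
      intro r hr
      rw [Ideal.mem_comap, RingHom.mem_ker, aeval_C] at hr
      rw [Ideal.mem_bot]
      exact FaithfulSMul.algebraMap_injective R S (hr.trans (map_zero _).symm)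
    rw [le_antisymm h1' h1] at hH
    obtain ⟨f, hfk, hf0⟩ : ∃ f ∈ RingHom.ker (aeval x : R[X] →ₐ[R] S), f ≠ 0 := by
      by_contra hcon
      push Not at hcon
      exact hker (eq_bot_iff.mpr fun f hf => (Ideal.mem_bot.mpr (hcon f hf)))
    have halg : IsAlgebraic R x := ⟨f, hf0, hfk⟩
    have hT0 := trdeg_eq_zero_of_adjoin_singleton (A := R) x hx halg
    rw [hT0, add_zero]
    have h3 : (((q.comap (aeval x : R[X] →ₐ[R] S)).height : ℕ∞) : Cardinal.{u}) =
        1 + (q.height : Cardinal.{u}) := by
      rw [hH]; norm_cast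
    rw [h3] at hG
    have h4 : (q.height : Cardinal.{u}) + Algebra.trdeg (R ⧸ p) (S ⧸ q) + 1 =
        (p.height : Cardinal.{u}) + 1 := by
      rw [← hG]; ring
    have h5 := (Cardinal.add_le_add_iff_of_lt_aleph0 Cardinal.one_lt_aleph0).mp h4.le
    have h6 := (Cardinal.add_le_add_iff_of_lt_aleph0 Cardinal.one_lt_aleph0).mp h4.ge
    exact le_antisymm h5 h6

end OneGen

section Main

/-- The dimension formula with equality, by induction on the number of generators. -/
theorem height_add_trdeg_eq_aux (n : ℕ) : ∀ (R : Type u) [CommRing R] [IsDomain R]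
    (_ : CAlg.IsUniversallyCatenary R) (S : Type u) [CommRing S] [IsDomain S] [Algebra R S]
    [FaithfulSMul R S]
    (v : Fin n → S) (_ : Algebra.adjoin R (Set.range v) = ⊤)
    (p : Ideal R) [p.IsPrime] (q : Ideal S) [q.IsPrime] [q.LiesOver p],
    (q.height : Cardinal.{u}) + Algebra.trdeg (R ⧸ p) (S ⧸ q) =
      (p.height : Cardinal.{u}) + Algebra.trdeg R S := by
  induction n with
  | zero =>
    intro R _ _ hR S _ _ _ _ v hv p _ q _ _
    haveI : IsNoetherianRing R := hR.1
    refine height_add_trdeg_eq_of_adjoin_singleton (hR.2 R[X] inferInstance) p q 0 ?_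
    rw [eq_top_iff, ← hv]
    exact Algebra.adjoin_mono (by simp)
  | succ n ih =>
    intro R _ _ hR S _ _ _ _ v hv p _ q _ _
    haveI : IsNoetherianRing R := hR.1
    let R' : Subalgebra R S := Algebra.adjoin R (Set.range fun i : Fin n => v i.castSucc)
    have hx : Algebra.adjoin R' {v (Fin.last n)} = ⊤ := adjoin_adjoin_singleton_eq_top v hv
    haveI : Algebra.FiniteType R R' := by
      rw [← Subalgebra.fg_iff_finiteType]
      have hfin : (Set.range fun i : Fin n => v i.castSucc).Finite := Set.finite_range _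
      have := Subalgebra.fg_adjoin_finset (R := R) hfin.toFinset
      rwa [Set.Finite.coe_toFinset] at this
    have hR' : CAlg.IsUniversallyCatenary R' := Groth.Agent.S9126.result R R' hR
    haveI : IsNoetherianRing R' := hR'.1
    haveI : FaithfulSMul R R' := by
      rw [faithfulSMul_iff_algebraMap_injective]
      intro a b hab
      apply FaithfulSMul.algebraMap_injective R S
      have := congrArg (algebraMap R' S) hab
      rwa [← IsScalarTower.algebraMap_apply, ← IsScalarTower.algebraMap_apply] at this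
    haveI : FaithfulSMul R' S := by
      rw [faithfulSMul_iff_algebraMap_injective]
      exact Subtype.val_injective
    let p' : Ideal R' := q.under R'
    haveI : p'.IsPrime := Ideal.IsPrime.under R' q
    haveI : q.LiesOver p' := Ideal.over_under q
    haveI : p'.LiesOver p := Ideal.under_liesOver_of_liesOver R' q p
    have hIH := ih R hR R' (fun i : Fin n =>
      (⟨v i.castSucc, Algebra.subset_adjoin ⟨i, rfl⟩⟩ : R'))
      (adjoin_range_subtype_eq_top (R := R) (fun i : Fin n => v i.castSucc)) p p'
    have hO := height_add_trdeg_eq_of_adjoin_singleton (hR'.2 R'[X] inferInstance) p' q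
      (v (Fin.last n)) hx
    haveI := isScalarTower_quotient p p' q
    have hT := trdeg_add_eq R R' (A := S)
    have ht := trdeg_add_eq (R ⧸ p) (R' ⧸ p') (A := S ⧸ q)
    rw [← hT, ← ht]
    calc (q.height : Cardinal.{u}) + (Algebra.trdeg (R ⧸ p) (R' ⧸ p') +
          Algebra.trdeg (R' ⧸ p') (S ⧸ q))
        = ((q.height : Cardinal.{u}) + Algebra.trdeg (R' ⧸ p') (S ⧸ q)) +
            Algebra.trdeg (R ⧸ p) (R' ⧸ p') := by ring
      _ = ((p'.height : Cardinal.{u}) + Algebra.trdeg R' S) +
            Algebra.trdeg (R ⧸ p) (R' ⧸ p') := by rw [hO]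
      _ = ((p'.height : Cardinal.{u}) + Algebra.trdeg (R ⧸ p) (R' ⧸ p')) +
            Algebra.trdeg R' S := by ring
      _ = ((p.height : Cardinal.{u}) + Algebra.trdeg R R') + Algebra.trdeg R' S := by rw [hIH]
      _ = _ := by ring

/-- **The dimension formula with equality** for a universally catenary base. -/
theorem height_add_trdeg_eq (R : Type u) [CommRing R] [IsDomain R]
    (hR : CAlg.IsUniversallyCatenary R) (S : Type u) [CommRing S] [IsDomain S] [Algebra R S]
    [FaithfulSMul R S] [Algebra.FiniteType R S] (p : Ideal R) [p.IsPrime] (q : Ideal S) [q.IsPrime]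
    [q.LiesOver p] :
    (q.height : Cardinal.{u}) + Algebra.trdeg (R ⧸ p) (S ⧸ q) =
      (p.height : Cardinal.{u}) + Algebra.trdeg R S := by
  obtain ⟨s, hs⟩ := (Algebra.FiniteType.out : (⊤ : Subalgebra R S).FG)
  classical
  let e := s.equivFin
  refine height_add_trdeg_eq_aux s.card R hR S (fun i => (e.symm i : S)) ?_ p q
  rw [← hs]
  congr 1
  ext y
  constructor
  · rintro ⟨i, rfl⟩
    exact (e.symm i).2
  · intro hy
    exact ⟨e ⟨y, hy⟩, by simp⟩

end Main

end Groth.Agent.Lib.Helper4.DimFormula
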