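import Mathlib
import Groth.Agent.Lib.Helper4DimFormulaD

/-!
# Local catenarity and additivity of heights (helper4)

* `CatBelow D Q`: any two saturated chains of primes of `D` with the same endpoints, ending
  below `Q`, have the same length.
* `catBelow_of_orderEmbedding`, `catBelow_of_isCatenary_localization`, `CatBelow.of_ringEquiv`.
* `height_add_length_eq_of_catBelow`, `height_comap_eq_of_catBelow`: additivity of heights in a
  Noetherian domain which is catenary below `Q`.
-/

set_option autoImplicit false
set_option linter.style.haveILetI false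

universe u

namespace Groth.Agent.Lib.Helper4.DimFormula

open Groth.Agent.Helper13Cat

/-- Saturated chains of primes ending below `Q` with the same endpoints have the same length. -/
def CatBelow (D : Type*) [CommRing D] (Q : Ideal D) : Prop :=
  ∀ s t : LTSeries (PrimeSpectrum D), s.head = t.head → s.last = t.last →
    t.last.asIdeal ≤ Q →
    (∀ i : Fin s.length, s (Fin.castSucc i) ⋖ s (Fin.succ i)) →
    (∀ i : Fin t.length, t (Fin.castSucc i) ⋖ t (Fin.succ i)) →
    s.length = t.length

theorem CatBelow.mono {D : Type*} [CommRing D] {Q Q' : Ideal D} (h : CatBelow D Q') (hQ : Q ≤ Q') :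
    CatBelow D Q :=
  fun s t h1 h2 h3 h4 h5 => h s t h1 h2 (h3.trans hQ) h4 h5

theorem catBelow_of_isCatenary {D : Type u} [CommRing D] (hD : CAlg.IsCatenary D) (Q : Ideal D) :
    CatBelow D Q :=
  fun s t h1 h2 _ h4 h5 => hD.2 s t h1 h2 h4 h5

section Emb

variable {A B : Type*} [CommRing A] [CommRing B]

theorem catBelow_of_orderEmbedding (e : PrimeSpectrum B ↪o PrimeSpectrum A)
    (hconv : (Set.range e).OrdConnected)
    (hlower : ∀ P P' : PrimeSpectrum A, P ≤ P' → P' ∈ Set.range e → P ∈ Set.range e)
    (hB : ∀ s t : LTSeries (PrimeSpectrum B), s.head = t.head → s.last = t.last →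
      (∀ i : Fin s.length, s (Fin.castSucc i) ⋖ s (Fin.succ i)) →
      (∀ i : Fin t.length, t (Fin.castSucc i) ⋖ t (Fin.succ i)) → s.length = t.length)
    (Q : PrimeSpectrum A) (hQ : Q ∈ Set.range e) : CatBelow A Q.asIdeal := by
  intro s t hst hst' htQ hs ht
  have hlast : t.last ∈ Set.range e := hlower _ _ htQ hQ
  have hmemt : ∀ i, t i ∈ Set.range e := fun i => hlower _ _ (le_last' t i) hlast
  have hmems : ∀ i, s i ∈ Set.range e := fun i =>
    hlower _ _ (le_last' s i) (hst' ▸ hlast)
  obtain ⟨s', rfl⟩ := exists_lift e s hmems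
  obtain ⟨t', rfl⟩ := exists_lift e t hmemt
  have := hB s' t' (e.injective (by simpa using hst)) (e.injective (by simpa using hst'))
    (fun i => (hconv.apply_covBy_apply_iff e).mp (hs i))
    (fun i => (hconv.apply_covBy_apply_iff e).mp (ht i))
  simpa using this

end Emb

section Loc

variable {D : Type u} [CommRing D]

theorem catBelow_of_isCatenary_localization (M : Ideal D) [M.IsPrime]
    (hM : CAlg.IsCatenary (Localization.AtPrime M)) : CatBelow D M := by
  have hmem := mem_range_localization_iff D M.primeCompl (Localization.AtPrime M)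
  refine catBelow_of_orderEmbedding
    (embOfIsEmbedding (algebraMap D (Localization.AtPrime M))
      (PrimeSpectrum.localization_comap_isEmbedding (Localization.AtPrime M) M.primeCompl))
    (ordConnected_range_localization D M.primeCompl (Localization.AtPrime M)) ?_ hM.2
    ⟨M, inferInstance⟩ ?_
  · intro P P' hPP' hP'
    rw [hmem] at hP' ⊢
    exact Set.disjoint_of_subset_right (show (P.asIdeal : Set D) ⊆ P'.asIdeal from hPP') hP'
  · rw [hmem]
    exact Set.disjoint_left.mpr fun x hx hxM => hx hxM

theorem CatBelow.of_ringEquiv {D' : Type*} [CommRing D'] (e : D ≃+* D') (Q : Ideal D)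
    (h : CatBelow D' (Q.map (e : D →+* D'))) : CatBelow D Q := by
  let E : PrimeSpectrum D ≃o PrimeSpectrum D' := PrimeSpectrum.comapEquiv e
  intro s t hst hst' htQ hs ht
  have := h (s.map E E.strictMono) (t.map E E.strictMono)
    (by rw [LTSeries.head_map, LTSeries.head_map, hst])
    (by rw [LTSeries.last_map, LTSeries.last_map, hst'])
    (by
      rw [LTSeries.last_map]
      change (t.last.asIdeal.comap (e.symm : D' →+* D)) ≤ _
      intro x hx
      have h1 : e.symm x ∈ Q := htQ hx
      have h2 := Ideal.mem_map_of_mem (e : D →+* D') h1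
      simpa using h2)
    (fun i => (apply_covBy_apply_iff E).mpr (hs i))
    (fun i => (apply_covBy_apply_iff E).mpr (ht i))
  simpa using this

end Loc

section Height

variable {D : Type u} [CommRing D] [IsDomain D] [IsNoetherianRing D]

/-- In a Noetherian domain catenary below `Q`, heights are additive along saturated chains ending
below `Q`. -/
theorem height_add_length_eq_of_catBelow (Q : Ideal D) (hD : CatBelow D Q)
    (t : LTSeries (PrimeSpectrum D)) (htQ : t.last.asIdeal ≤ Q)
    (hsat : ∀ i : Fin t.length, t i.castSucc ⋖ t i.succ) :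
    t.head.asIdeal.height + t.length = t.last.asIdeal.height := by
  obtain ⟨s₁, hs₁l, hs₁len⟩ := t.head.asIdeal.exists_ltSeries_length_eq_height
  obtain ⟨s₃, hs₃l, hs₃len⟩ := t.last.asIdeal.exists_ltSeries_length_eq_height
  have e₁ : (s₁.length : ℕ∞) = Order.height s₁.last := by
    rw [hs₁len, hs₁l]
    exact PrimeSpectrum.height_eq_orderHeight _
  have e₃ : (s₃.length : ℕ∞) = Order.height s₃.last := by
    rw [hs₃len, hs₃l]
    exact PrimeSpectrum.height_eq_orderHeight _
  obtain ⟨u, huh, hul, hulen, husat⟩ := exists_smash_saturated s₁ t hs₁l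
    (covBy_of_length_eq_height s₁ e₁) hsat
  have hlen := hD u s₃
    (by rw [huh, head_eq_bot_of_length_eq_height s₁ e₁, head_eq_bot_of_length_eq_height s₃ e₃])
    (by rw [hul, hs₃l]) (by rw [hs₃l]; exact htQ) husat (covBy_of_length_eq_height s₃ e₃)
  rw [← hs₁len, ← hs₃len, ← hlen, hulen]
  push_cast
  rfl

variable {S : Type u} [CommRing S] [IsDomain S]

theorem height_comap_eq_of_catBelow' [IsNoetherianRing S] (φ : D →+* S)
    (hφ : Function.Surjective φ) (q : Ideal S) [q.IsPrime] (hD : CatBelow D (q.comap φ)) :
    (q.comap φ).height = (RingHom.ker φ).height + q.height := by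
  obtain ⟨s₂, hs₂l, hs₂len⟩ := q.exists_ltSeries_length_eq_height
  have e₂ : (s₂.length : ℕ∞) = Order.height s₂.last := by
    rw [hs₂len, hs₂l]
    exact PrimeSpectrum.height_eq_orderHeight ⟨q, inferInstance⟩
  let e := Groth.Agent.Helper13Cat.embOfIsEmbedding φ
    (PrimeSpectrum.isClosedEmbedding_comap_of_surjective _ φ hφ).isEmbedding
  have hconv := Groth.Agent.Helper13Cat.ordConnected_range_surjective φ hφ
  have h := height_add_length_eq_of_catBelow (q.comap φ) hD (s₂.map e e.strictMono)
    (by rw [LTSeries.last_map, hs₂l]; exact le_rfl)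
    (fun i => (hconv.apply_covBy_apply_iff e).mpr (covBy_of_length_eq_height s₂ e₂ i))
  rw [LTSeries.head_map, LTSeries.last_map, hs₂l, head_eq_bot_of_length_eq_height s₂ e₂] at h
  have h1 : (e ⟨⊥, Ideal.isPrime_bot⟩).asIdeal = RingHom.ker φ := by
    show Ideal.comap φ ⊥ = RingHom.ker φ
    rw [RingHom.ker_eq_comap_bot]
  have h2 : (e ⟨q, inferInstance⟩).asIdeal = q.comap φ := rfl
  rw [h1, h2] at h
  rw [← h, ← hs₂len]
  rfl

/-- For a surjection `φ` from a Noetherian domain `D` onto a domain, heights add up below every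
prime `φ⁻¹ q` below which `D` is catenary. -/
theorem height_comap_eq_of_catBelow (φ : D →+* S)
    (hφ : Function.Surjective φ) (q : Ideal S) [q.IsPrime] (hD : CatBelow D (q.comap φ)) :
    (q.comap φ).height = (RingHom.ker φ).height + q.height := by
  haveI : IsNoetherianRing S := isNoetherianRing_of_surjective D S φ hφ
  exact height_comap_eq_of_catBelow' φ hφ q hD

end Height

end Groth.Agent.Lib.Helper4.DimFormula
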