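import Mathlib
import Groth.Agent.Lib.Helper4DimFormulaE
import Groth.Agent.Lib.Helper4DimFormulaM

/-!
# The dimension formula with equality: general local version (helper4)

* `isUniversallyCatenary_localization_of_liesOver`: if `R_p` is universally catenary, `R'` is
  essentially of finite type over `R` and `p'` lies over `p`, then `R'_{p'}` is universally
  catenary.
* `height_add_trdeg_eq_of_adjoin_singleton_of_catBelow`: one-generator case assuming `R[X]`
  catenary below the relevant prime.
* `height_add_trdeg_eq_of_pred`: general induction along the generators, for a predicate on the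
  intermediate rings.
* `height_add_trdeg_eq_of_localization`: equality if `R_p` is universally catenary.
-/

set_option autoImplicit false
set_option linter.style.haveILetI false

universe u

namespace Groth.Agent.Lib.Helper4.DimFormula

open Polynomial

section ULoc

theorem isUniversallyCatenary_localization_of_liesOver (R R' : Type u) [CommRing R] [CommRing R']
    [Algebra R R'] [Algebra.EssFiniteType R R'] (p : Ideal R) [p.IsPrime] (p' : Ideal R')
    [p'.IsPrime] [p'.LiesOver p]
    (h : CAlg.IsUniversallyCatenary (Localization.AtPrime p)) :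
    CAlg.IsUniversallyCatenary (Localization.AtPrime p') := by
  let g : Localization.AtPrime p →+* Localization.AtPrime p' :=
    Localization.localRingHom p p' (algebraMap R R') (Ideal.LiesOver.over (p := p) (P := p'))
  letI : Algebra (Localization.AtPrime p) (Localization.AtPrime p') := g.toAlgebra
  haveI : IsScalarTower R (Localization.AtPrime p) (Localization.AtPrime p') := by
    refine IsScalarTower.of_algebraMap_eq fun r => ?_
    change _ = g (algebraMap R (Localization.AtPrime p) r)
    rw [Localization.localRingHom_to_map]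
    exact IsScalarTower.algebraMap_apply R R' (Localization.AtPrime p') r
  haveI : Algebra.EssFiniteType (Localization.AtPrime p) (Localization.AtPrime p') :=
    Algebra.EssFiniteType.of_comp R (Localization.AtPrime p) (Localization.AtPrime p')
  exact Groth.Agent.S9126.result (Localization.AtPrime p) (Localization.AtPrime p') h

theorem isCatenary_of_isUniversallyCatenary (R : Type u) [CommRing R]
    (h : CAlg.IsUniversallyCatenary R) : CAlg.IsCatenary R :=
  h.2 R inferInstance

end ULoc

section OneGen

variable {R S : Type u} [CommRing R] [IsDomain R] [IsNoetherianRing R] [CommRing S] [IsDomain S]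
  [Algebra R S] [FaithfulSMul R S]

/-- One-generator case of the dimension formula with equality, assuming `R[X]` is catenary
below the prime `(aeval x)⁻¹ q`. -/
lemma height_add_trdeg_eq_of_adjoin_singleton_of_catBelow
    (p : Ideal R) [p.IsPrime] (q : Ideal S)
    [q.IsPrime] [q.LiesOver p] (x : S) (hx : Algebra.adjoin R {x} = ⊤)
    (hcat : CatBelow R[X] (q.comap (aeval x : R[X] →ₐ[R] S))) :
    (q.height : Cardinal.{u}) + Algebra.trdeg (R ⧸ p) (S ⧸ q) =
      (p.height : Cardinal.{u}) + Algebra.trdeg R S := by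
  have hG := height_comap_aeval_add_trdeg_eq p q x hx
  have hsurj : Function.Surjective (aeval x : R[X] →ₐ[R] S) := by
    rw [← AlgHom.range_eq_top, ← Algebra.adjoin_singleton_eq_range_aeval]
    exact hx
  have hH := height_comap_eq_of_catBelow (aeval x : R[X] →ₐ[R] S).toRingHom hsurj q hcat
  change (q.comap (aeval x : R[X] →ₐ[R] S)).height =
    (RingHom.ker (aeval x : R[X] →ₐ[R] S)).height + q.height at hH
  have hT1 := trdeg_le_one_of_adjoin_singleton (A := R) x hx
  by_cases hker : RingHom.ker (aeval x : R[X] →ₐ[R] S) = ⊥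
  · have hinj : Function.Injective (aeval x : R[X] →ₐ[R] S) :=
      (RingHom.injective_iff_ker_eq_bot _).mpr hker
    have htr : Transcendental R x := transcendental_iff_injective.mpr hinj
    haveI : Algebra.Transcendental R S := ⟨⟨x, htr⟩⟩
    have hT : (1 : Cardinal.{u}) ≤ Algebra.trdeg R S := Cardinal.one_le_iff_pos.mpr (trdeg_pos R S)
    rw [hker, Ideal.height_bot, zero_add] at hH
    rw [le_antisymm hT1 hT, ← hG, hH]
  · haveI : (RingHom.ker (aeval x : R[X] →ₐ[R] S)).IsPrime := RingHom.ker_isPrime _
    have h1 := one_le_height_of_ne_bot _ hker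
    have h1' : (RingHom.ker (aeval x : R[X] →ₐ[R] S)).height ≤ 1 := by
      apply height_le_one_of_comap_C_eq_bot
      rw [eq_bot_iff]
      intro r hr
      rw [Ideal.mem_comap, RingHom.mem_ker, aeval_C] at hr
      rw [Ideal.mem_bot]
      exact FaithfulSMul.algebraMap_injective R S (hr.trans (map_zero _).symm)
    rw [le_antisymm h1' h1] at hH
    obtain ⟨f, hfk, hf0⟩ : ∃ f ∈ RingHom.ker (aeval x : R[X] →ₐ[R] S), f ≠ 0 := by
      by_contra hcon
      push Not at hcon
      exact hker (eq_bot_iff.mpr fun f hf => (Ideal.mem_bot.mpr (hcon f hf)))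
    have halg : IsAlgebraic R x := ⟨f, hf0, hfk⟩
    have hT0 := trdeg_eq_zero_of_adjoin_singleton (A := R) x hx halg
    rw [hT0, add_zero]
    have h3 : (((q.comap (aeval x : R[X] →ₐ[R] S)).height : ℕ∞) : Cardinal.{u}) =
        1 + (q.height : Cardinal.{u}) := by
      rw [hH]; norm_cast
    rw [h3] at hG
    have h4 : (q.height : Cardinal.{u}) + Algebra.trdeg (R ⧸ p) (S ⧸ q) + 1 =
        (p.height : Cardinal.{u}) + 1 := by
      rw [← hG]; ring
    have h5 := (Cardinal.add_le_add_iff_of_lt_aleph0 Cardinal.one_lt_aleph0).mp h4.le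
    have h6 := (Cardinal.add_le_add_iff_of_lt_aleph0 Cardinal.one_lt_aleph0).mp h4.ge
    exact le_antisymm h5 h6

end OneGen

section Sub

variable {R S : Type*} [CommRing R] [CommRing S] [Algebra R S]

lemma adjoin_adjoin_tail_eq_top {n : ℕ} (v : Fin (n + 1) → S)
    (hv : Algebra.adjoin R (Set.range v) = ⊤) :
    Algebra.adjoin (Algebra.adjoin R {v 0}) (Set.range fun i : Fin n => v i.succ) = ⊤ := by
  have h1 := Algebra.adjoin_union_eq_adjoin_adjoin R {v 0}
    (Set.range fun i : Fin n => v i.succ)
  have h2 : {v 0} ∪ (Set.range fun i : Fin n => v i.succ) = Set.range v := by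
    ext y
    constructor
    · rintro (hy | ⟨i, rfl⟩)
      · rw [Set.mem_singleton_iff] at hy; exact ⟨_, hy.symm⟩
      · exact ⟨_, rfl⟩
    · rintro ⟨i, rfl⟩
      induction i using Fin.cases with
      | zero => left; rfl
      | succ i => right; exact ⟨i, rfl⟩
  rw [h2, hv] at h1
  apply Subalgebra.restrictScalars_injective R
  rw [← h1, Subalgebra.restrictScalars_top]

lemma adjoin_singleton_subtype_eq_top (x : S) :
    Algebra.adjoin R {(⟨x, Algebra.subset_adjoin rfl⟩ : Algebra.adjoin R ({x} : Set S))} = ⊤ := by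
  have h := Algebra.adjoin_adjoin_coe_preimage (R := R) (s := ({x} : Set S))
  convert h using 2
  ext y
  simp only [Set.mem_singleton_iff, Set.mem_preimage]
  exact Subtype.ext_iff

end Sub

section Main

variable (S : Type u) [CommRing S] [IsDomain S]

/-- General form of the dimension formula with equality: induction on generators, with a
predicate `Pr` on intermediate rings guaranteeing local catenarity of polynomial rings. -/
theorem height_add_trdeg_eq_of_pred
    (Pr : ∀ (R' : Type u) [CommRing R'] [Algebra R' S], Ideal R' → Prop)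
    (ha : ∀ (R' : Type u) [CommRing R'] [IsDomain R'] [IsNoetherianRing R'] [Algebra R' S]
      [FaithfulSMul R' S] (p' : Ideal R') [p'.IsPrime], Pr R' p' →
      ∀ (Q : Ideal R'[X]) [Q.IsPrime] [Q.LiesOver p'], CatBelow R'[X] Q)
    (hb : ∀ (R' : Type u) [CommRing R'] [IsDomain R'] [IsNoetherianRing R'] [Algebra R' S]
      [FaithfulSMul R' S] (p' : Ideal R') [p'.IsPrime], Pr R' p' →
      ∀ (x : S) (p'' : Ideal (Algebra.adjoin R' ({x} : Set S))) [p''.IsPrime] [p''.LiesOver p'],
        Pr (Algebra.adjoin R' ({x} : Set S)) p'')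
    (n : ℕ) : ∀ (R : Type u) [CommRing R] [IsDomain R] [IsNoetherianRing R] [Algebra R S]
      [FaithfulSMul R S] (v : Fin n → S) (_ : Algebra.adjoin R (Set.range v) = ⊤)
      (p : Ideal R) [p.IsPrime] (q : Ideal S) [q.IsPrime] [q.LiesOver p], Pr R p →
      (q.height : Cardinal.{u}) + Algebra.trdeg (R ⧸ p) (S ⧸ q) =
        (p.height : Cardinal.{u}) + Algebra.trdeg R S := by
  induction n with
  | zero =>
    intro R _ _ _ _ _ v hv p _ q _ _ hPr
    have hx : Algebra.adjoin R ({0} : Set S) = ⊤ := by
      rw [eq_top_iff, ← hv]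
      exact Algebra.adjoin_mono (by simp)
    haveI : (q.comap (aeval (0 : S) : R[X] →ₐ[R] S)).IsPrime := Ideal.comap_isPrime _ q
    haveI : (q.comap (aeval (0 : S) : R[X] →ₐ[R] S)).LiesOver p :=
      Ideal.comap_liesOver q p (aeval (0 : S) : R[X] →ₐ[R] S)
    exact height_add_trdeg_eq_of_adjoin_singleton_of_catBelow p q 0 hx (ha R p hPr _)
  | succ n ih =>
    intro R _ _ _ _ _ v hv p _ q _ _ hPr
    let R₁ : Subalgebra R S := Algebra.adjoin R {v 0}
    have htail : Algebra.adjoin R₁ (Set.range fun i : Fin n => v i.succ) = ⊤ :=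
      adjoin_adjoin_tail_eq_top v hv
    haveI : Algebra.FiniteType R R₁ := by
      rw [← Subalgebra.fg_iff_finiteType]
      have := Subalgebra.fg_adjoin_finset (R := R) ({v 0} : Finset S)
      rwa [Finset.coe_singleton] at this
    haveI : IsNoetherianRing R₁ := Algebra.FiniteType.isNoetherianRing R R₁
    haveI : FaithfulSMul R R₁ := by
      rw [faithfulSMul_iff_algebraMap_injective]
      intro a b hab
      apply FaithfulSMul.algebraMap_injective R S
      have := congrArg (algebraMap R₁ S) hab
      rwa [← IsScalarTower.algebraMap_apply, ← IsScalarTower.algebraMap_apply] at this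
    haveI : FaithfulSMul R₁ S := by
      rw [faithfulSMul_iff_algebraMap_injective]
      exact Subtype.val_injective
    let p₁ : Ideal R₁ := q.under R₁
    haveI : p₁.IsPrime := Ideal.IsPrime.under R₁ q
    haveI : q.LiesOver p₁ := Ideal.over_under q
    haveI : p₁.LiesOver p := Ideal.under_liesOver_of_liesOver R₁ q p
    have hPr₁ : Pr R₁ p₁ := hb R p hPr (v 0) p₁
    have hIH := ih R₁ (fun i : Fin n => v i.succ) htail p₁ q hPr₁
    let x₁ : R₁ := ⟨v 0, Algebra.subset_adjoin rfl⟩
    have hx₁ : Algebra.adjoin R {x₁} = ⊤ := adjoin_singleton_subtype_eq_top (R := R) (v 0)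
    haveI : (p₁.comap (aeval x₁ : R[X] →ₐ[R] R₁)).IsPrime := Ideal.comap_isPrime _ p₁
    haveI : (p₁.comap (aeval x₁ : R[X] →ₐ[R] R₁)).LiesOver p :=
      Ideal.comap_liesOver p₁ p (aeval x₁ : R[X] →ₐ[R] R₁)
    have hO := height_add_trdeg_eq_of_adjoin_singleton_of_catBelow p p₁ x₁ hx₁ (ha R p hPr _)
    haveI := isScalarTower_quotient p p₁ q
    have hT := trdeg_add_eq R R₁ (A := S)
    have ht := trdeg_add_eq (R ⧸ p) (R₁ ⧸ p₁) (A := S ⧸ q)
    rw [← hT, ← ht]
    calc (q.height : Cardinal.{u}) + (Algebra.trdeg (R ⧸ p) (R₁ ⧸ p₁) +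
          Algebra.trdeg (R₁ ⧸ p₁) (S ⧸ q))
        = ((q.height : Cardinal.{u}) + Algebra.trdeg (R₁ ⧸ p₁) (S ⧸ q)) +
            Algebra.trdeg (R ⧸ p) (R₁ ⧸ p₁) := by ring
      _ = ((p₁.height : Cardinal.{u}) + Algebra.trdeg R₁ S) +
            Algebra.trdeg (R ⧸ p) (R₁ ⧸ p₁) := by rw [hIH]
      _ = ((p₁.height : Cardinal.{u}) + Algebra.trdeg (R ⧸ p) (R₁ ⧸ p₁)) +
            Algebra.trdeg R₁ S := by ring
      _ = ((p.height : Cardinal.{u}) + Algebra.trdeg R R₁) + Algebra.trdeg R₁ S := by rw [hO]
      _ = _ := by ring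

/-- Finite type version of `height_add_trdeg_eq_of_pred`. -/
theorem height_add_trdeg_eq_of_pred'
    (Pr : ∀ (R' : Type u) [CommRing R'] [Algebra R' S], Ideal R' → Prop)
    (ha : ∀ (R' : Type u) [CommRing R'] [IsDomain R'] [IsNoetherianRing R'] [Algebra R' S]
      [FaithfulSMul R' S] (p' : Ideal R') [p'.IsPrime], Pr R' p' →
      ∀ (Q : Ideal R'[X]) [Q.IsPrime] [Q.LiesOver p'], CatBelow R'[X] Q)
    (hb : ∀ (R' : Type u) [CommRing R'] [IsDomain R'] [IsNoetherianRing R'] [Algebra R' S]
      [FaithfulSMul R' S] (p' : Ideal R') [p'.IsPrime], Pr R' p' →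
      ∀ (x : S) (p'' : Ideal (Algebra.adjoin R' ({x} : Set S))) [p''.IsPrime] [p''.LiesOver p'],
        Pr (Algebra.adjoin R' ({x} : Set S)) p'')
    (R : Type u) [CommRing R] [IsDomain R] [IsNoetherianRing R] [Algebra R S]
    [FaithfulSMul R S] [Algebra.FiniteType R S]
    (p : Ideal R) [p.IsPrime] (q : Ideal S) [q.IsPrime] [q.LiesOver p] (hPr : Pr R p) :
    (q.height : Cardinal.{u}) + Algebra.trdeg (R ⧸ p) (S ⧸ q) =
      (p.height : Cardinal.{u}) + Algebra.trdeg R S := by
  obtain ⟨s, hs⟩ := (Algebra.FiniteType.out : (⊤ : Subalgebra R S).FG)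
  classical
  let e := s.equivFin
  refine height_add_trdeg_eq_of_pred S Pr ha hb s.card R (fun i => (e.symm i : S)) ?_ p q hPr
  rw [← hs]
  congr 1
  ext y
  constructor
  · rintro ⟨i, rfl⟩
    exact (e.symm i).2
  · intro hy
    exact ⟨e ⟨y, hy⟩, by simp⟩

/-- **Dimension formula with equality**, local form: it suffices that `R_p` be universally
catenary. -/
theorem height_add_trdeg_eq_of_localization (R : Type u) [CommRing R] [IsDomain R]
    [IsNoetherianRing R] [Algebra R S]
    [FaithfulSMul R S] [Algebra.FiniteType R S] (p : Ideal R) [p.IsPrime] (q : Ideal S) [q.IsPrime]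
    [q.LiesOver p] (hR : CAlg.IsUniversallyCatenary (Localization.AtPrime p)) :
    (q.height : Cardinal.{u}) + Algebra.trdeg (R ⧸ p) (S ⧸ q) =
      (p.height : Cardinal.{u}) + Algebra.trdeg R S := by
  refine height_add_trdeg_eq_of_pred' S
    (fun R' _ _ p' => ∃ _ : p'.IsPrime, CAlg.IsUniversallyCatenary (Localization.AtPrime p'))
    ?_ ?_ R p q ⟨inferInstance, hR⟩
  · intro R' _ _ _ _ _ p' _ ⟨_, h⟩ Q _ _
    exact catBelow_of_isCatenary_localization Q (isCatenary_of_isUniversallyCatenary _
      (isUniversallyCatenary_localization_of_liesOver R' R'[X] p' Q h))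
  · intro R' _ _ _ _ _ p' _ ⟨_, h⟩ x p'' _ _
    haveI : Algebra.FiniteType R' (Algebra.adjoin R' ({x} : Set S)) := by
      rw [← Subalgebra.fg_iff_finiteType]
      have := Subalgebra.fg_adjoin_finset (R := R') ({x} : Finset S)
      rwa [Finset.coe_singleton] at this
    exact ⟨inferInstance, isUniversallyCatenary_localization_of_liesOver R'
      (Algebra.adjoin R' ({x} : Set S)) p' p'' h⟩

end Main

end Groth.Agent.Lib.Helper4.DimFormula
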