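import Mathlib
import Groth.Agent.Lib.Helper4DimFormulaF
import Groth.Agent.Lib.Helper4DimFormulaN

/-!
# Relative dimension formula with equality for non-domains (helper4)

* `isUniversallyCatenary_of_ringEquiv`.
* `height_map_add_eq`: `A` Noetherian, `B` of finite type over `A`, `P ≤ q` primes of `B`, `A_p`
  universally catenary (`p = q ∩ A`): `ht (q/P) + trdeg_{A/p}(B/q) = ht (p/P∩A) + trdeg_{A/P∩A}(B/P)`.
-/

set_option autoImplicit false
set_option linter.style.haveILetI false

universe u

namespace Groth.Agent.Lib.Helper4.DimFormula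

theorem isUniversallyCatenary_of_ringEquiv {R R' : Type u} [CommRing R] [CommRing R']
    (e : R ≃+* R') (h : CAlg.IsUniversallyCatenary R) : CAlg.IsUniversallyCatenary R' := by
  letI : Algebra R R' := e.toRingHom.toAlgebra
  haveI : Algebra.FiniteType R R' :=
    Algebra.FiniteType.of_surjective (Algebra.ofId R R') e.surjective
  exact Groth.Agent.S9126.result R R' h

theorem liesOver_map_mk_self {A : Type*} [CommRing A] (P₀ p : Ideal A) (h : P₀ ≤ p) :
    (p.map (Ideal.Quotient.mk P₀)).LiesOver p := by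
  refine ⟨?_⟩
  rw [Ideal.under_def]
  change p = Ideal.comap (Ideal.Quotient.mk P₀) (p.map (Ideal.Quotient.mk P₀))
  rw [Ideal.comap_map_of_surjective _ Ideal.Quotient.mk_surjective, ← RingHom.ker_eq_comap_bot,
    Ideal.mk_ker, sup_eq_left.mpr h]

theorem height_map_add_eq (A B : Type u) [CommRing A] [CommRing B] [Algebra A B]
    [IsNoetherianRing A] [Algebra.FiniteType A B] (p : Ideal A) [p.IsPrime] (q : Ideal B)
    [q.IsPrime] [q.LiesOver p] (P : Ideal B) [P.IsPrime] (hPq : P ≤ q)
    (hcat : CAlg.IsUniversallyCatenary (Localization.AtPrime p)) (n E : ℕ)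
    (hn : Algebra.trdeg (A ⧸ p) (B ⧸ q) = n)
    (hE : Algebra.trdeg (A ⧸ P.under A) (B ⧸ P) = E) :
    (q.map (Ideal.Quotient.mk P)).height + n =
      (p.map (Ideal.Quotient.mk (P.under A))).height + E := by
  have hP₀ : P.under A ≤ p := by
    rw [Ideal.LiesOver.over (p := p) (P := q)]
    exact Ideal.comap_mono hPq
  haveI : (q.map (Ideal.Quotient.mk P)).IsPrime := Ideal.isPrime_map_quotientMk_of_isPrime hPq
  haveI : (p.map (Ideal.Quotient.mk (P.under A))).IsPrime :=
    Ideal.isPrime_map_quotientMk_of_isPrime hP₀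
  haveI := liesOver_map_mk (P.under A) p P q hPq hP₀
  haveI : Algebra.FiniteType (A ⧸ P.under A) (B ⧸ P) :=
    Algebra.FiniteType.of_restrictScalars_finiteType A (A ⧸ P.under A) (B ⧸ P)
  haveI := liesOver_map_mk_self (P.under A) p hP₀
  have hcat' : CAlg.IsUniversallyCatenary
      (Localization.AtPrime (p.map (Ideal.Quotient.mk (P.under A)))) :=
    isUniversallyCatenary_localization_of_liesOver A (A ⧸ P.under A) p _ hcat
  have h0 := height_add_trdeg_eq_of_localization (B ⧸ P) (A ⧸ P.under A)
    (p.map (Ideal.Quotient.mk (P.under A))) (q.map (Ideal.Quotient.mk P)) hcat'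
  rw [trdeg_doubleQuot (P.under A) p P q hPq hP₀, hn, hE] at h0
  exact_mod_cast h0

end Groth.Agent.Lib.Helper4.DimFormula
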