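import Mathlib

/-!
# Codimension of preimages under surjective morphisms (helper10)

* `ringKrullDim_stalk_lt_of_specializes` : proper generization strictly drops `dim O_{X,x}`.
* `ringKrullDim_stalk_le_of_minimal` : a point of minimal local dimension in its fibre satisfies
  `dim O_{X,x} ≤ dim O_{Y,f x}`.
* `ringKrullDim_stalk_le_of_flat` : for flat `f`, `dim O_{Y,f x} ≤ dim O_{X,x}`.
* `main` (S4741).
-/

set_option autoImplicit false
universe u
open CategoryTheory AlgebraicGeometry TopologicalSpace IsLocalRing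

namespace Groth.Agent.Lib.Helper10.CodimFib

variable {X Y : Scheme.{u}}


/-- proper generization in a locally Noetherian scheme strictly drops the local dimension -/
lemma ringKrullDim_stalk_lt_of_specializes [IsLocallyNoetherian X] {x x' : X} (h : x' ⤳ x)
    (hne : x' ≠ x) : ringKrullDim (X.presheaf.stalk x') < ringKrullDim (X.presheaf.stalk x) := by
  rw [ringKrullDim_stalk_eq_coheight, ringKrullDim_stalk_eq_coheight]
  have hlt : x < x' := by
    refine lt_of_le_not_ge h ?_
    intro h'
    exact hne (h.antisymm h').eq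
  have hfin : Order.coheight x < ⊤ := by
    have h1 : ringKrullDim (X.presheaf.stalk x) < ⊤ := ringKrullDim_lt_top
    rw [ringKrullDim_stalk_eq_coheight, ← WithBot.coe_top, WithBot.coe_lt_coe] at h1
    exact h1
  have := Order.coheight_strictAnti hlt (by
    exact lt_of_le_of_lt (Order.coheight_anti hlt.le) hfin)
  exact_mod_cast this



/-- If `x` has minimal local dimension in its fibre, then `dim O_{X,x} ≤ dim O_{Y,f x}`. -/
lemma ringKrullDim_stalk_le_of_minimal [IsLocallyNoetherian X] [IsLocallyNoetherian Y] (f : X ⟶ Y) (x : X)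
    (hmin : ∀ x' : X, f x' = f x →
      ¬ ringKrullDim (X.presheaf.stalk x') < ringKrullDim (X.presheaf.stalk x)) :
    ringKrullDim (X.presheaf.stalk x) ≤ ringKrullDim (Y.presheaf.stalk (f x)) := by
  set R := Y.presheaf.stalk (f x)
  set S := X.presheaf.stalk x
  set φ : R →+* S := (f.stalkMap x).hom with hφ
  letI : Algebra R S := φ.toAlgebra
  have hlocal : IsLocalHom φ := inferInstanceAs (IsLocalHom (f.stalkMap x).hom)
  have hcomap : (maximalIdeal S).comap φ = maximalIdeal R :=
    ((IsLocalRing.local_hom_TFAE φ).out 0 4).mp hlocal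
  haveI : (maximalIdeal S).LiesOver (maximalIdeal R) := ⟨hcomap.symm⟩
  have h1 := Ideal.height_le_height_add_of_liesOver (maximalIdeal R) (maximalIdeal S)
  set I : Ideal S := (maximalIdeal R).map (algebraMap R S) with hI
  have hIle : I ≤ maximalIdeal S := by
    rw [hI, Ideal.map_le_iff_le_comap]
    exact hcomap.ge
  have hprime : ((maximalIdeal S).map (Ideal.Quotient.mk I)).IsPrime :=
    Ideal.map_isPrime_of_surjective Ideal.Quotient.mk_surjective (by simpa using hIle)
  have h3 : ((maximalIdeal S).map (Ideal.Quotient.mk I)).height = 0 := by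
    rw [Ideal.height_eq_zero_iff]
    refine ⟨⟨hprime, bot_le⟩, ?_⟩
    rintro Q' ⟨hQ'prime, -⟩ hle
    set Q : Ideal S := Q'.comap (Ideal.Quotient.mk I) with hQ
    have hQprime : Q.IsPrime := Ideal.comap_isPrime _ _
    have hIQ : I ≤ Q := by
      intro a ha
      rw [hQ, Ideal.mem_comap, Ideal.Quotient.eq_zero_iff_mem.mpr ha]
      exact Q'.zero_mem
    suffices hm : maximalIdeal S ≤ Q by
      calc (maximalIdeal S).map (Ideal.Quotient.mk I) ≤ Q.map (Ideal.Quotient.mk I) :=
            Ideal.map_mono hm
        _ ≤ Q' := Ideal.map_comap_le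
    by_contra hnot
    have hQne : Q ≠ maximalIdeal S := fun h => hnot h.ge
    let q : Spec S := ⟨Q, hQprime⟩
    have hx'x : X.fromSpecStalk x q ⤳ x := by
      have : X.fromSpecStalk x q ∈ Set.range (X.fromSpecStalk x) := ⟨q, rfl⟩
      rw [Scheme.range_fromSpecStalk] at this
      exact this
    have hne : X.fromSpecStalk x q ≠ x := by
      intro h
      have h' : X.fromSpecStalk x q = X.fromSpecStalk x (closedPoint S) :=
        h.trans Scheme.fromSpecStalk_closedPoint.symm
      have := (X.fromSpecStalk x).isEmbedding.injective h'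
      apply hQne
      have h2 := congrArg PrimeSpectrum.asIdeal this
      exact h2
    have hfx' : f (X.fromSpecStalk x q) = f x := by
      rw [← Scheme.Hom.comp_apply, ← Scheme.SpecMap_stalkMap_fromSpecStalk, Scheme.Hom.comp_apply]
      have : (Spec.map (f.stalkMap x)) q = closedPoint R := by
        apply PrimeSpectrum.ext
        change Q.comap φ = maximalIdeal R
        apply le_antisymm
        · exact IsLocalRing.le_maximalIdeal (Ideal.comap_ne_top _ hQprime.ne_top)
        · rw [← Ideal.map_le_iff_le_comap]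
          exact hIQ
      rw [this, Scheme.fromSpecStalk_closedPoint]
    exact hmin _ hfx' (ringKrullDim_stalk_lt_of_specializes hx'x hne)
  rw [h3, add_zero] at h1
  rw [← IsLocalRing.maximalIdeal_height_eq_ringKrullDim,
    ← IsLocalRing.maximalIdeal_height_eq_ringKrullDim]
  exact_mod_cast h1



lemma ringKrullDim_stalk_le_of_flat [IsLocallyNoetherian X] [IsLocallyNoetherian Y] (f : X ⟶ Y)
    [Flat f] (x : X) :
    ringKrullDim (Y.presheaf.stalk (f x)) ≤ ringKrullDim (X.presheaf.stalk x) := by
  set R := Y.presheaf.stalk (f x)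
  set S := X.presheaf.stalk x
  set φ : R →+* S := (f.stalkMap x).hom with hφ
  letI : Algebra R S := φ.toAlgebra
  have hlocal : IsLocalHom φ := inferInstanceAs (IsLocalHom (f.stalkMap x).hom)
  have hcomap : (maximalIdeal S).comap φ = maximalIdeal R :=
    ((IsLocalRing.local_hom_TFAE φ).out 0 4).mp hlocal
  haveI : (maximalIdeal S).LiesOver (maximalIdeal R) := ⟨hcomap.symm⟩
  haveI : Module.Flat R S := (Flat.iff_flat_stalkMap f).mp inferInstance x
  have h1 := Ideal.height_eq_height_add_of_liesOver_of_hasGoingDown (maximalIdeal R)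
    (maximalIdeal S)
  rw [← IsLocalRing.maximalIdeal_height_eq_ringKrullDim,
    ← IsLocalRing.maximalIdeal_height_eq_ringKrullDim, h1]
  exact_mod_cast le_self_add

theorem main [IsLocallyNoetherian X] [IsLocallyNoetherian Y] (f : X ⟶ Y)
    (hf : Function.Surjective f.base) (Z : Set Y) :
    (⨅ x ∈ f.base ⁻¹' Z, ringKrullDim (X.presheaf.stalk x)) ≤
        ⨅ y ∈ Z, ringKrullDim (Y.presheaf.stalk y) ∧
      (Flat f → (⨅ x ∈ f.base ⁻¹' Z, ringKrullDim (X.presheaf.stalk x)) =
        ⨅ y ∈ Z, ringKrullDim (Y.presheaf.stalk y)) := by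
  have h1 : (⨅ x ∈ f.base ⁻¹' Z, ringKrullDim (X.presheaf.stalk x)) ≤
        ⨅ y ∈ Z, ringKrullDim (Y.presheaf.stalk y) := by
    refine le_iInf₂ fun y hy => ?_
    obtain ⟨x0, hx0⟩ := hf y
    obtain ⟨x, hx, hmin⟩ := (InvImage.wf (fun x : X => ringKrullDim (X.presheaf.stalk x))
      wellFounded_lt).has_min {x | f x = y} ⟨x0, hx0⟩
    have hx' : f x = y := hx
    subst hx'
    refine (iInf₂_le x hy).trans ?_
    exact ringKrullDim_stalk_le_of_minimal f x fun x' hx' => hmin x' hx'
  refine ⟨h1, fun hflat => le_antisymm h1 ?_⟩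
  refine le_iInf₂ fun x hx => ?_
  exact (iInf₂_le (f x) hx).trans (ringKrullDim_stalk_le_of_flat f x)

end Groth.Agent.Lib.Helper10.CodimFib
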