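import Groth.Agent.Lib.Helper4VarDim11

/-!
# Bounds for the relative transcendence degree of residue fields

For `f : X ⟶ Y`, affine opens `U ≤ f ⁻¹ᵁ V` such that `Γ(X, U)` is generated by `n` elements over
`Γ(Y, V)`, and `x ∈ U`: `trdeg_{κ(f x)} κ(x) ≤ n`.
-/

set_option autoImplicit false
set_option linter.style.haveILetI false
universe u

open AlgebraicGeometry CategoryTheory TopologicalSpace Topology

namespace Groth.Agent.Lib.Helper4.VarDim

theorem evaluation_frac {X : Scheme.{u}} {U : X.Opens} (hU : IsAffineOpen U) (x : X) (hx : x ∈ U)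
    (z : X.residueField x) :
    ∃ a s : Γ(X, U), z = (X.evaluation U x hx).hom a / (X.evaluation U x hx).hom s := by
  obtain ⟨g, hg⟩ : ∃ g : X.presheaf.stalk x, (X.residue x).hom g = z :=
    IsLocalRing.residue_surjective z
  letI := TopCat.Presheaf.algebra_section_stalk X.presheaf ⟨x, hx⟩
  haveI := hU.isLocalization_stalk ⟨x, hx⟩
  obtain ⟨a, s, hmk⟩ := IsLocalization.exists_mk'_eq (hU.primeIdealOf ⟨x, hx⟩).asIdeal.primeCompl g
  refine ⟨a, s.1, ?_⟩
  have hs : (X.evaluation U x hx).hom s.1 ≠ 0 := by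
    intro h
    exact s.2 ((mem_primeIdealOf_iff hU x hx s.1).mpr h)
  have h1 : g * (X.presheaf.germ U x hx).hom s.1 = (X.presheaf.germ U x hx).hom a := by
    rw [← hmk]
    exact IsLocalization.mk'_spec _ a s
  rw [eq_div_iff hs, ← hg]
  change (X.residue x).hom g * (X.residue x).hom ((X.presheaf.germ U x hx).hom s.1) =
    (X.residue x).hom ((X.presheaf.germ U x hx).hom a)
  rw [← map_mul, h1]

theorem appLE_evaluation {X Y : Scheme.{u}} (f : X ⟶ Y) {V : Y.Opens} {U : X.Opens}
    (e : U ≤ f ⁻¹ᵁ V) (x : X) (hx : x ∈ U) (a : Γ(Y, V)) :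
    (X.evaluation U x hx).hom ((f.appLE V U e).hom a) =
      (f.residueFieldMap x).hom ((Y.evaluation V (f x) (e hx)).hom a) := by
  have h1 := Scheme.evaluation_naturality_apply f x (e hx) a
  rw [h1]
  change _ = (X.residue x).hom ((X.presheaf.germ (f ⁻¹ᵁ V) x (e hx)).hom ((f.app V).hom a))
  rw [Scheme.Hom.appLE]
  change (X.residue x).hom ((X.presheaf.germ U x hx).hom
    ((X.presheaf.map (homOfLE e).op).hom ((f.app V).hom a))) = _
  have h2 := X.presheaf.germ_res_apply (homOfLE e) x hx ((f.app V).hom a)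
  rw [h2]

/-- If `Γ(X, U)` is generated by `n` elements over `Γ(Y, V)` then the relative transcendence
degree of the residue field at every `x ∈ U` is at most `n`. -/
theorem trdeg_residueFieldMap_le {X Y : Scheme.{u}} (f : X ⟶ Y) {V : Y.Opens} {U : X.Opens}
    (hU : IsAffineOpen U) (e : U ≤ f ⁻¹ᵁ V) (n : ℕ)
    (σ : MvPolynomial (Fin n) Γ(Y, V) →+* Γ(X, U)) (hσ : Function.Surjective σ)
    (hσC : ∀ a, σ (MvPolynomial.C a) = (f.appLE V U e).hom a) (x : X) (hx : x ∈ U) :
    @Algebra.trdeg (Y.residueField (f x)) (X.residueField x) _ _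
      (f.residueFieldMap x).hom.toAlgebra ≤ (n : Cardinal.{u}) := by
  letI : Algebra (Y.residueField (f x)) (X.residueField x) := (f.residueFieldMap x).hom.toAlgebra
  let π : MvPolynomial (Fin n) (Y.residueField (f x)) →ₐ[Y.residueField (f x)] X.residueField x :=
    MvPolynomial.aeval fun i => (X.evaluation U x hx).hom (σ (MvPolynomial.X i))
  have hπ : ∀ P : MvPolynomial (Fin n) Γ(Y, V),
      (X.evaluation U x hx).hom (σ P) =
        π (MvPolynomial.map (Y.evaluation V (f x) (e hx)).hom P) := by
    intro P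
    have : ((X.evaluation U x hx).hom.comp σ) =
        (π : MvPolynomial (Fin n) (Y.residueField (f x)) →+* X.residueField x).comp
          (MvPolynomial.map (Y.evaluation V (f x) (e hx)).hom) := by
      apply MvPolynomial.ringHom_ext
      · intro a
        simp only [RingHom.comp_apply, MvPolynomial.map_C]
        rw [hσC, appLE_evaluation f e x hx a]
        change _ = π (MvPolynomial.C _)
        rw [MvPolynomial.aeval_C]
        rfl
      · intro i
        simp only [RingHom.comp_apply, MvPolynomial.map_X]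
        change _ = π (MvPolynomial.X i)
        rw [MvPolynomial.aeval_X]
    exact congrFun (congrArg DFunLike.coe this) P
  have hfrac : ∀ z : X.residueField x, ∃ p q : MvPolynomial (Fin n) (Y.residueField (f x)),
      z = π p / π q := by
    intro z
    obtain ⟨a, s, rfl⟩ := evaluation_frac hU x hx z
    obtain ⟨P, rfl⟩ := hσ a
    obtain ⟨Q, rfl⟩ := hσ s
    exact ⟨_, _, by rw [hπ P, hπ Q]⟩
  obtain ⟨m, hm, hdim⟩ := exists_trdeg_eq_dim_quotient_ker π hfrac
  rw [hm]
  have h1 : ringKrullDim (MvPolynomial (Fin n) (Y.residueField (f x)) ⧸ RingHom.ker π.toRingHom) ≤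
      ringKrullDim (MvPolynomial (Fin n) (Y.residueField (f x))) :=
    ringKrullDim_le_of_surjective _ Ideal.Quotient.mk_surjective
  rw [hdim, MvPolynomial.ringKrullDim_of_isNoetherianRing, ringKrullDim_eq_zero_of_field] at h1
  have h2 : m ≤ n := by
    simp only [zero_add, Nat.card_eq_fintype_card, Fintype.card_fin] at h1
    exact_mod_cast h1
  exact_mod_cast h2

end Groth.Agent.Lib.Helper4.VarDim
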