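import Mathlib
import Groth.Agent.Lib.Helper4VarDim12
import Groth.Agent.Lib.Helper4DimFormulaF

/-!
# The dimension formula for schemes: bridge lemmas (helper4)

* `trdeg_eq_of_isFractionRing`: `trdeg_A B = trdeg_{Frac A} Frac B`.
* `trdeg_eq_trdeg_quotient`: abstract bridge (`K = Frac (A/p)`, `L = Frac (B/q)`).
* `primeIdealOf_comap_appLE`, `trdeg_residueFieldMap_eq_trdeg_quotient`: for affine opens
  `U ≤ f⁻¹ V`: `trdeg_{κ(f x)} κ(x) = trdeg_{Γ(V)/p} Γ(U)/q`.
* `mem_irreducibleComponents_of_forall_specializes`.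
-/

set_option autoImplicit false
set_option linter.style.haveILetI false

universe u

open AlgebraicGeometry CategoryTheory TopologicalSpace

namespace Groth.Agent.Lib.Helper4.DimFormula

open Groth.Agent.Lib.Helper4.VarDim

section TF

theorem trdeg_eq_of_isFractionRing (A B K L : Type u) [CommRing A] [IsDomain A] [CommRing B]
    [IsDomain B] [Field K] [Field L] [Algebra A B] [FaithfulSMul A B] [Algebra A K]
    [IsFractionRing A K] [Algebra B L] [IsFractionRing B L] [Algebra K L] [Algebra A L]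
    [IsScalarTower A K L] [IsScalarTower A B L] :
    Algebra.trdeg A B = Algebra.trdeg K L := by
  haveI : FaithfulSMul A K := (faithfulSMul_iff_algebraMap_injective A K).mpr
    (IsFractionRing.injective A K)
  haveI : FaithfulSMul B L := (faithfulSMul_iff_algebraMap_injective B L).mpr
    (IsFractionRing.injective B L)
  have h1 := trdeg_add_eq A K (A := L)
  have h2 := trdeg_add_eq A B (A := L)
  haveI : Algebra.IsAlgebraic A K := IsLocalization.isAlgebraic K (nonZeroDivisors A)
  haveI : Algebra.IsAlgebraic B L := IsLocalization.isAlgebraic L (nonZeroDivisors B)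
  rw [trdeg_eq_zero, zero_add] at h1
  rw [trdeg_eq_zero (R := B) (A := L), add_zero] at h2
  rw [h1, h2]

end TF

section Abs

variable {A B K L : Type u} [CommRing A] [CommRing B] [Field K] [Field L] [Algebra A B]
  [Algebra K L]

/-- Abstract bridge: if `K` is (via `evA`) the fraction field of `A/p` and `L` (via `evB`) that
of `B/q`, compatibly, then `trdeg_K L = trdeg_{A/p} (B/q)`. -/
theorem trdeg_eq_trdeg_quotient (evA : A →+* K) (evB : B →+* L)
    (hcomm : ∀ a, evB (algebraMap A B a) = algebraMap K L (evA a))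
    (p : Ideal A) (q : Ideal B) [p.IsPrime] [q.IsPrime] [q.LiesOver p]
    (hp : ∀ a, a ∈ p ↔ evA a = 0) (hq : ∀ b, b ∈ q ↔ evB b = 0)
    (hfA : ∀ z : K, ∃ a s : A, z = evA a / evA s) (hfB : ∀ z : L, ∃ a s : B, z = evB a / evB s) :
    Algebra.trdeg K L = Algebra.trdeg (A ⧸ p) (B ⧸ q) := by
  letI : Algebra (A ⧸ p) K := (Ideal.Quotient.lift p evA (fun a ha => (hp a).mp ha)).toAlgebra
  letI : Algebra (B ⧸ q) L := (Ideal.Quotient.lift q evB (fun b hb => (hq b).mp hb)).toAlgebra
  haveI : FaithfulSMul (A ⧸ p) K := by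
    rw [faithfulSMul_iff_algebraMap_injective, injective_iff_map_eq_zero]
    intro a ha
    obtain ⟨a, rfl⟩ := Ideal.Quotient.mk_surjective a
    exact Ideal.Quotient.eq_zero_iff_mem.mpr ((hp a).mpr ha)
  haveI : FaithfulSMul (B ⧸ q) L := by
    rw [faithfulSMul_iff_algebraMap_injective, injective_iff_map_eq_zero]
    intro b hb
    obtain ⟨b, rfl⟩ := Ideal.Quotient.mk_surjective b
    exact Ideal.Quotient.eq_zero_iff_mem.mpr ((hq b).mpr hb)
  haveI : IsFractionRing (A ⧸ p) K := IsFractionRing.of_field _ _ fun z => by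
    obtain ⟨a, s, h⟩ := hfA z
    exact ⟨Ideal.Quotient.mk p a, Ideal.Quotient.mk p s, h⟩
  haveI : IsFractionRing (B ⧸ q) L := IsFractionRing.of_field _ _ fun z => by
    obtain ⟨a, s, h⟩ := hfB z
    exact ⟨Ideal.Quotient.mk q a, Ideal.Quotient.mk q s, h⟩
  letI : Algebra (A ⧸ p) L := ((algebraMap K L).comp (algebraMap (A ⧸ p) K)).toAlgebra
  haveI : IsScalarTower (A ⧸ p) K L := IsScalarTower.of_algebraMap_eq fun _ => rfl
  haveI : IsScalarTower (A ⧸ p) (B ⧸ q) L := by
    refine IsScalarTower.of_algebraMap_eq fun a => ?_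
    obtain ⟨a, rfl⟩ := Ideal.Quotient.mk_surjective a
    change algebraMap K L (evA a) = evB (algebraMap A B a)
    rw [hcomm]
  exact (trdeg_eq_of_isFractionRing (A ⧸ p) (B ⧸ q) K L).symm

end Abs

section Sch

variable {X Y : Scheme.{u}} (f : X ⟶ Y) {V : Y.Opens} {U : X.Opens}
  (hU : IsAffineOpen U) (hV : IsAffineOpen V) (e : U ≤ f ⁻¹ᵁ V)

theorem primeIdealOf_comap_appLE (x : X) (hx : x ∈ U) :
    (hU.primeIdealOf ⟨x, hx⟩).asIdeal.comap (f.appLE V U e).hom =
      (hV.primeIdealOf ⟨f x, e hx⟩).asIdeal := by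
  ext a
  rw [Ideal.mem_comap, mem_primeIdealOf_iff hU x hx, mem_primeIdealOf_iff hV (f x) (e hx)]
  have h := appLE_evaluation f e x hx a
  change (X.evaluation U x hx).hom ((f.appLE V U e).hom a) = 0 ↔
    (Y.evaluation V (f x) (e hx)).hom a = 0
  rw [h]
  exact map_eq_zero_iff _ (f.residueFieldMap x).hom.injective

/-- For affine opens `U ≤ f⁻¹ V` and `x ∈ U`, the relative transcendence degree of the residue
fields is that of the quotient rings by the corresponding primes. -/
theorem trdeg_residueFieldMap_eq_trdeg_quotient (x : X) (hx : x ∈ U)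
    (p : Ideal Γ(Y, V)) (q : Ideal Γ(X, U)) (hq : q = (hU.primeIdealOf ⟨x, hx⟩).asIdeal)
    (hp : p = (hV.primeIdealOf ⟨f x, e hx⟩).asIdeal) :
    letI := (f.appLE V U e).hom.toAlgebra
    ∀ [q.LiesOver p],
    @Algebra.trdeg (Y.residueField (f x)) (X.residueField x) _ _
      (f.residueFieldMap x).hom.toAlgebra = Algebra.trdeg (Γ(Y, V) ⧸ p) (Γ(X, U) ⧸ q) := by
  letI := (f.appLE V U e).hom.toAlgebra
  intro _
  letI : Algebra (Y.residueField (f x)) (X.residueField x) := (f.residueFieldMap x).hom.toAlgebra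
  haveI : q.IsPrime := hq ▸ (hU.primeIdealOf ⟨x, hx⟩).2
  haveI : p.IsPrime := hp ▸ (hV.primeIdealOf ⟨f x, e hx⟩).2
  refine trdeg_eq_trdeg_quotient (Y.evaluation V (f x) (e hx)).hom (X.evaluation U x hx).hom
    (fun a => appLE_evaluation f e x hx a) p q ?_ ?_ ?_ ?_
  · intro a
    rw [hp]
    exact mem_primeIdealOf_iff hV (f x) (e hx) a
  · intro b
    rw [hq]
    exact mem_primeIdealOf_iff hU x hx b
  · exact evaluation_frac hV (f x) (e hx)
  · exact evaluation_frac hU x hx

end Sch

section Top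

theorem mem_irreducibleComponents_of_forall_specializes {α : Type*} [TopologicalSpace α]
    [QuasiSober α] (ξ : α) (hmax : ∀ y : α, y ⤳ ξ → y = ξ) :
    closure ({ξ} : Set α) ∈ irreducibleComponents α := by
  refine ⟨isIrreducible_singleton.closure, fun Z hZ hle => ?_⟩
  obtain ⟨y, hy⟩ := QuasiSober.sober hZ.closure isClosed_closure
  have h1 : y ⤳ ξ := by
    rw [specializes_iff_mem_closure, hy.def]
    exact subset_closure (hle (subset_closure rfl))
  have h2 := hmax y h1
  rw [h2] at hy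
  rw [hy.def]
  exact subset_closure

end Top

end Groth.Agent.Lib.Helper4.DimFormula
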