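import Mathlib
import Groth.Agent.Lib.Helper4DimFormulaG

/-!
# The dimension formula for schemes (helper4)

* `ringKrullDim_stalk_add_le`: EGA IV 5.6.5 / Stacks 02JT-type inequality
  `dim O_{X,x} + trdeg κ(x)/κ(s) ≤ dim O_{S,s} + E`.
-/

set_option autoImplicit false
set_option linter.style.haveILetI false

universe u

open AlgebraicGeometry CategoryTheory TopologicalSpace

namespace Groth.Agent.Lib.Helper4.DimFormula

open Groth.Agent.Lib.Helper4.VarDim

theorem ringKrullDim_stalk_eq_height {X : Scheme.{u}} {U : X.Opens} (hU : IsAffineOpen U) (x : X)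
    (hx : x ∈ U) :
    ringKrullDim (X.presheaf.stalk x) = ((hU.primeIdealOf ⟨x, hx⟩).asIdeal.height : ℕ∞) := by
  have := hU.isLocalization_stalk ⟨x, hx⟩
  let _ := X.presheaf.algebra_section_stalk (U := U) ⟨x, hx⟩
  exact IsLocalization.AtPrime.ringKrullDim_eq_height (hU.primeIdealOf ⟨x, hx⟩).asIdeal
    (X.presheaf.stalk x)

/-- **Dimension formula for schemes.** -/
theorem ringKrullDim_stalk_add_le {X S : Scheme.{u}} [IsLocallyNoetherian S]
    (f : X ⟶ S) [LocallyOfFiniteType f] (x : X) (n E : ℕ)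
    (hn : letI := (f.residueFieldMap x).hom.toAlgebra
      Algebra.trdeg (S.residueField (f.base x)) (X.residueField x) = n)
    (hE : ∀ ξ : X, closure {ξ} ∈ irreducibleComponents ↥X → ξ ⤳ x →
      letI := (f.residueFieldMap ξ).hom.toAlgebra
      Algebra.trdeg (S.residueField (f.base ξ)) (X.residueField ξ) ≤ E) :
    ringKrullDim (X.presheaf.stalk x) + n ≤ ringKrullDim (S.presheaf.stalk (f.base x)) + E := by
  obtain ⟨V, hV, hsV, -⟩ := exists_isAffineOpen_mem_and_subset (U := ⊤) (x := f.base x) (by simp)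
  obtain ⟨U, hU, hxU, hUV⟩ := exists_isAffineOpen_mem_and_subset (U := f ⁻¹ᵁ V) (x := x) hsV
  have e : U ≤ f ⁻¹ᵁ V := hUV
  haveI : IsNoetherianRing Γ(S, V) := IsLocallyNoetherian.component_noetherian ⟨V, hV⟩
  letI : Algebra Γ(S, V) Γ(X, U) := (f.appLE V U e).hom.toAlgebra
  haveI : Algebra.FiniteType Γ(S, V) Γ(X, U) := f.finiteType_appLE hV hU e
  set q : Ideal Γ(X, U) := (hU.primeIdealOf ⟨x, hxU⟩).asIdeal with hq
  set p : Ideal Γ(S, V) := (hV.primeIdealOf ⟨f.base x, e hxU⟩).asIdeal with hp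
  haveI : q.LiesOver p := ⟨(primeIdealOf_comap_appLE f hU hV e x hxU).symm⟩
  rw [ringKrullDim_stalk_eq_height hU x hxU, ringKrullDim_stalk_eq_height hV (f.base x) (e hxU)]
  have key : q.height + n ≤ p.height + E := by
    refine height_add_le_of_minimalPrimes Γ(S, V) Γ(X, U) p q n E ?_ ?_
    · rw [← trdeg_residueFieldMap_eq_trdeg_quotient f hU hV e x hxU p q hq hp]
      exact hn
    · intro P hPmin hPq
      haveI : P.IsPrime := hPmin.1.1
      set ξ : X := hU.fromSpec ⟨P, inferInstance⟩ with hξ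
      have hξU : ξ ∈ U := fromSpec_mem hU _
      have hPξ : (hU.primeIdealOf ⟨ξ, hξU⟩).asIdeal = P := by
        rw [primeIdealOf_fromSpec hU ⟨P, inferInstance⟩ hξU]
      have hξx : ξ ⤳ x := by
        rw [← primeIdealOf_le_iff hU ξ x hξU hxU, hPξ]
        exact hPq
      have hmax : ∀ y : X, y ⤳ ξ → y = ξ := by
        intro y hy
        have hyU : y ∈ U := hy.mem_open U.2 hξU
        have h1 := (primeIdealOf_le_iff hU y ξ hyU hξU).mpr hy
        rw [hPξ] at h1
        have h2 : (hU.primeIdealOf ⟨y, hyU⟩).asIdeal = P :=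
          le_antisymm h1 (hPmin.2 ⟨(hU.primeIdealOf ⟨y, hyU⟩).2, bot_le⟩ h1)
        apply primeIdealOf_injective hU y ξ hyU hξU
        apply PrimeSpectrum.ext
        rw [h2, hPξ]
      have h3 := hE ξ (mem_irreducibleComponents_of_forall_specializes ξ hmax) hξx
      have h4 : P.under Γ(S, V) = (hV.primeIdealOf ⟨f.base ξ, e hξU⟩).asIdeal := by
        rw [← primeIdealOf_comap_appLE f hU hV e ξ hξU, hPξ]
        rfl
      rw [← trdeg_residueFieldMap_eq_trdeg_quotient f hU hV e ξ hξU (P.under Γ(S, V)) P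
        hPξ.symm h4]
      exact h3
  exact_mod_cast key

end Groth.Agent.Lib.Helper4.DimFormula
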