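import Mathlib
import Groth.Agent.Lib.Helper4DimFormulaH
import Groth.Agent.Lib.Helper4FibDimL

/-!
# Dimension bounds for morphisms locally of finite type (helper4)

* `exists_trdeg_residueFieldMap_eq_nat`: the residue field extension of a morphism locally of
  finite type has finite transcendence degree.
* `topologicalKrullDim_le_add_of_trdeg_le`: `dim X ≤ dim Y + E` if `E` bounds the transcendence
  degrees at the generic points of the irreducible components.
-/

set_option autoImplicit false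
set_option linter.style.haveILetI false

universe u

open AlgebraicGeometry CategoryTheory TopologicalSpace

namespace Groth.Agent.Lib.Helper4.DimFormula

open Groth.Agent.Lib.Helper4.VarDim Groth.Agent.Lib.Helper4.FibDim

theorem exists_trdeg_residueFieldMap_eq_nat {X Y : Scheme.{u}} (f : X ⟶ Y)
    [LocallyOfFiniteType f] (x : X) :
    ∃ n : ℕ, @Algebra.trdeg (Y.residueField (f.base x)) (X.residueField x) _ _
      (f.residueFieldMap x).hom.toAlgebra = n := by
  obtain ⟨V, hV, hsV, -⟩ := exists_isAffineOpen_mem_and_subset (U := ⊤) (x := f.base x) (by simp)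
  obtain ⟨U, hU, hxU, hUV⟩ := exists_isAffineOpen_mem_and_subset (U := f ⁻¹ᵁ V) (x := x) hsV
  have e : U ≤ f ⁻¹ᵁ V := hUV
  letI : Algebra Γ(Y, V) Γ(X, U) := (f.appLE V U e).hom.toAlgebra
  haveI : Algebra.FiniteType Γ(Y, V) Γ(X, U) := f.finiteType_appLE hV hU e
  set q : Ideal Γ(X, U) := (hU.primeIdealOf ⟨x, hxU⟩).asIdeal with hq
  set p : Ideal Γ(Y, V) := (hV.primeIdealOf ⟨f.base x, e hxU⟩).asIdeal with hp
  haveI : q.LiesOver p := ⟨(primeIdealOf_comap_appLE f hU hV e x hxU).symm⟩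
  rw [trdeg_residueFieldMap_eq_trdeg_quotient f hU hV e x hxU p q hq hp]
  haveI : Algebra.FiniteType (Γ(Y, V) ⧸ p) (Γ(X, U) ⧸ q) :=
    Algebra.FiniteType.of_restrictScalars_finiteType Γ(Y, V) (Γ(Y, V) ⧸ p) (Γ(X, U) ⧸ q)
  obtain ⟨n, hn⟩ := Cardinal.lt_aleph0.mp
    (trdeg_lt_aleph0_of_finiteType (R := Γ(Y, V) ⧸ p) (S := Γ(X, U) ⧸ q))
  exact ⟨n, hn⟩

theorem topologicalKrullDim_le_add_of_trdeg_le {X Y : Scheme.{u}} [IsLocallyNoetherian Y]
    (f : X ⟶ Y) [LocallyOfFiniteType f] (E : ℕ)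
    (hE : ∀ ξ : X, closure {ξ} ∈ irreducibleComponents ↥X →
      letI := (f.residueFieldMap ξ).hom.toAlgebra
      Algebra.trdeg (Y.residueField (f.base ξ)) (X.residueField ξ) ≤ E) :
    topologicalKrullDim ↥X ≤ topologicalKrullDim ↥Y + E := by
  rw [topologicalKrullDim_eq_iSup_ringKrullDim_stalk X]
  refine iSup_le fun x => ?_
  obtain ⟨n, hn⟩ := exists_trdeg_residueFieldMap_eq_nat f x
  have h1 := ringKrullDim_stalk_add_le f x n E hn (fun ξ hξ _ => hE ξ hξ)
  have h0 : (0 : WithBot ℕ∞) ≤ (n : WithBot ℕ∞) := by exact_mod_cast Nat.zero_le n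
  calc ringKrullDim (X.presheaf.stalk x)
      ≤ ringKrullDim (X.presheaf.stalk x) + n := le_add_of_nonneg_right h0
    _ ≤ ringKrullDim (Y.presheaf.stalk (f.base x)) + E := h1
    _ ≤ topologicalKrullDim ↥Y + E :=
        add_le_add (ringKrullDim_stalk_le_topologicalKrullDim Y (f.base x)) le_rfl

end Groth.Agent.Lib.Helper4.DimFormula
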