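import Mathlib
import Groth.Agent.Lib.Helper4DimFormulaI

/-!
# dim X = dim Y + trdeg for closed dominant morphisms of integral schemes (helper4)

* `exists_coheight_ge_of_isClosedMap`: lifting chains of specializations along a closed map.
* `exists_stalk_dim_ge`: a point `x₀` over `f ξ` with `dim O_{X,x₀} ≥ trdeg κ(ξ)/κ(f ξ)`.
* `topologicalKrullDim_eq_add_of_isClosedMap`.
-/

set_option autoImplicit false
set_option linter.style.haveILetI false

universe u

open AlgebraicGeometry CategoryTheory TopologicalSpace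

namespace Groth.Agent.Lib.Helper4.DimFormula

open Groth.Agent.Lib.Helper4.VarDim Groth.Agent.Lib.Helper4.FibDim

section Lift

variable {X Y : Scheme.{u}} (f : X ⟶ Y)

theorem lt_iff_specializes {X : Scheme.{u}} {a b : X} : a < b ↔ b ⤳ a ∧ a ≠ b := by
  constructor
  · intro h
    refine ⟨h.le, fun hab => ?_⟩
    rw [hab] at h
    exact lt_irrefl _ h
  · rintro ⟨h1, h2⟩
    refine lt_of_le_not_ge h1 fun h3 => h2 ?_
    exact (Specializes.antisymm h3 h1).eq

theorem exists_coheight_ge_of_isClosedMap (hf : IsClosedMap f.base) (k : ℕ) :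
    ∀ (s : LTSeries Y) (x : X), s.last = f.base x → s.length = k →
      ∃ x' : X, f.base x' = s.head ∧ Order.coheight x + k ≤ Order.coheight x' := by
  induction k with
  | zero =>
    intro s x hx hlen
    refine ⟨x, ?_, by simp⟩
    rw [← hx]
    have : s.length = 0 := hlen
    change s.toFun (Fin.last _) = s.toFun 0
    congr 1
    ext
    simp [this]
  | succ k ih =>
    intro s x hx hlen
    have hpos : s.length ≠ 0 := by omega
    have hrel : s.eraseLast.last < s.last := s.eraseLast_last_rel_last hpos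
    rw [hx, lt_iff_specializes] at hrel
    -- lift the specialization
    have hmem : s.eraseLast.last ∈ f.base '' closure {x} := by
      have hcl : IsClosed (f.base '' closure {x}) := hf _ isClosed_closure
      have h1 : f.base x ∈ f.base '' closure {x} := ⟨x, subset_closure rfl, rfl⟩
      exact (hrel.1.mem_closed hcl h1)
    obtain ⟨x₁, hx₁cl, hx₁⟩ := hmem
    have hxx₁ : x ⤳ x₁ := specializes_iff_mem_closure.mpr hx₁cl
    have hlt : x₁ < x := by
      rw [lt_iff_specializes]
      refine ⟨hxx₁, fun h => hrel.2 ?_⟩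
      rw [← hx₁, h]
    obtain ⟨x', hx', hco⟩ := ih s.eraseLast x₁ hx₁.symm (by simp [hlen])
    refine ⟨x', by rw [hx', RelSeries.head_eraseLast], ?_⟩
    have h2 := Order.coheight_add_one_le hlt
    calc Order.coheight x + ((k + 1 : ℕ) : ℕ∞) = (Order.coheight x + 1) + k := by
          push_cast; ring
      _ ≤ Order.coheight x₁ + k := by gcongr
      _ ≤ _ := hco

end Lift

section Generic

variable {X Y : Scheme.{u}} (f : X ⟶ Y) [LocallyOfFiniteType f]

attribute [local instance] Curv2.resAlgebra

/-- There is a point over `f ξ` whose local ring has dimension at least `trdeg κ(ξ)/κ(f ξ)`. -/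
theorem exists_stalk_dim_ge (ξ : X) (n : ℕ)
    (hn : @Algebra.trdeg (Y.residueField (f.base ξ)) (X.residueField ξ) _ _
      (f.residueFieldMap ξ).hom.toAlgebra = n) :
    ∃ x₀ : X, f.base x₀ = f.base ξ ∧ (n : WithBot ℕ∞) ≤ ringKrullDim (X.presheaf.stalk x₀) := by
  letI : (f.fiber (f.base ξ)).Over (Spec (CommRingCat.of (Y.residueField (f.base ξ)))) :=
    ⟨f.fiberToSpecResidueField (f.base ξ)⟩
  haveI : LocallyOfFiniteType
      ((f.fiber (f.base ξ)) ↘ Spec (CommRingCat.of (Y.residueField (f.base ξ)))) :=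
    locallyOfFiniteType_fiberToSpecResidueField f (f.base ξ)
  have h1 := trdeg_residueFieldMap_eq_trdegNat_fiber f (f.base ξ) (f.asFiber ξ) ξ
    (f.fiberι_asFiber ξ)
  have h1' : ((trdegNat (Y.residueField (f.base ξ)) (f.fiber (f.base ξ)) (f.asFiber ξ) : ℕ) :
      Cardinal.{u}) = (n : Cardinal.{u}) := by
    rw [← h1]; exact hn
  have h2 : trdegNat (Y.residueField (f.base ξ)) (f.fiber (f.base ξ)) (f.asFiber ξ) = n := by
    exact_mod_cast h1'
  have h3 := trdegNat_le_topologicalKrullDim (Y.residueField (f.base ξ)) (f.fiber (f.base ξ))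
    (f.asFiber ξ)
  rw [h2, topologicalKrullDim_eq_iSup_ringKrullDim_stalk] at h3
  obtain ⟨z, hz⟩ := Groth.Agent.Lib.Helper4.WithBotENat.exists_le_of_natCast_le_iSup _ n h3
  refine ⟨f.fiberι (f.base ξ) z, ?_, hz.trans ?_⟩
  · have : f.fiberι (f.base ξ) z ∈ Set.range (f.fiberι (f.base ξ)) := ⟨z, rfl⟩
    rw [f.range_fiberι] at this
    exact this
  · rw [ringKrullDim_stalk_fiber_eq]
    exact ringKrullDim_quotient_le _

end Generic

section Main

variable {X Y : Scheme.{u}} [IsIntegral X] [IsIntegral Y] [IsLocallyNoetherian Y] (f : X ⟶ Y)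
  [IsDominant f] [LocallyOfFiniteType f]

theorem base_genericPoint_eq : f.base (genericPoint ↥X) = genericPoint ↥Y := by
  have h1 : IsGenericPoint (f.base (genericPoint ↥X)) (closure (f.base '' Set.univ)) :=
    (genericPoint_spec ↥X).image f.continuous
  rw [Set.image_univ, f.denseRange.closure_range] at h1
  exact (h1.eq (genericPoint_spec ↥Y))

theorem topologicalKrullDim_le_add_of_isDominant (n : ℕ)
    (hn : letI := (f.residueFieldMap (genericPoint ↥X)).hom.toAlgebra
      Algebra.trdeg (Y.residueField (f.base (genericPoint ↥X)))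
        (X.residueField (genericPoint ↥X)) = n) :
    topologicalKrullDim ↥X ≤ topologicalKrullDim ↥Y + n := by
  refine topologicalKrullDim_le_add_of_trdeg_le f n fun ξ hξ => ?_
  have hξ' : ξ = genericPoint ↥X := by
    have h1 : closure ({ξ} : Set X) = Set.univ := by
      have := hξ.2 (IrreducibleSpace.isIrreducible_univ ↥X) (Set.subset_univ _)
      exact Set.eq_univ_of_univ_subset this
    have h2 : IsGenericPoint ξ Set.univ := h1
    exact h2.eq (genericPoint_spec ↥X)
  subst hξ'
  exact hn.le

theorem topologicalKrullDim_eq_add_of_isClosedMap (n : ℕ)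
    (hn : letI := (f.residueFieldMap (genericPoint ↥X)).hom.toAlgebra
      Algebra.trdeg (Y.residueField (f.base (genericPoint ↥X)))
        (X.residueField (genericPoint ↥X)) = n) (hf : IsClosedMap f.base) :
    topologicalKrullDim ↥X = topologicalKrullDim ↥Y + n := by
  refine le_antisymm (topologicalKrullDim_le_add_of_isDominant f n hn) ?_
  refine Groth.Agent.Lib.Helper4.WithBotENat.add_le_of_forall_nat _ _ _ fun d m hd hm => ?_
  have hmn : m ≤ n := by exact_mod_cast hm
  obtain ⟨x₀, hx₀, hdim⟩ := exists_stalk_dim_ge f (genericPoint ↥X) n hn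
  rw [base_genericPoint_eq f] at hx₀
  rw [ringKrullDim_stalk_eq_coheight] at hdim
  have hdim' : (n : ℕ∞) ≤ Order.coheight x₀ := by exact_mod_cast hdim
  rw [Groth.Agent.Lib.Helper7.topologicalKrullDim_eq_krullDim_points, Order.le_krullDim_iff] at hd
  obtain ⟨l, hl⟩ := hd
  -- extend the chain to end at the generic point
  obtain ⟨l', hl'last, hl'len⟩ : ∃ l' : LTSeries Y, l'.last = genericPoint ↥Y ∧
      d ≤ l'.length := by
    by_cases hlast : l.last = genericPoint ↥Y
    · exact ⟨l, hlast, hl.ge⟩
    · have hlt : l.last < genericPoint ↥Y := by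
        rw [lt_iff_specializes]
        exact ⟨genericPoint_specializes _, hlast⟩
      exact ⟨l.snoc _ hlt, RelSeries.last_snoc _ _ _, by simp [hl]⟩
  obtain ⟨x', -, hco⟩ := exists_coheight_ge_of_isClosedMap f hf l'.length l' x₀
    (hl'last.trans hx₀.symm) rfl
  have h1 : ((d + m : ℕ) : ℕ∞) ≤ Order.coheight x' := by
    refine le_trans ?_ hco
    have : ((d + m : ℕ) : ℕ∞) ≤ (n : ℕ∞) + (l'.length : ℕ∞) := by
      have : d + m ≤ n + l'.length := by omega
      exact_mod_cast this
    exact this.trans (by gcongr)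
  rw [Groth.Agent.Lib.Helper7.topologicalKrullDim_eq_krullDim_points]
  have h2 : ((Order.coheight x' : ℕ∞) : WithBot ℕ∞) ≤ Order.krullDim X :=
    Order.coheight_le_krullDim x'
  refine le_trans ?_ h2
  exact_mod_cast h1

end Main

end Groth.Agent.Lib.Helper4.DimFormula
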