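import Groth.Agent.Lib.Helper4VarDim10

/-!
# Tower formula for transcendence degrees along a morphism of `k`-schemes
-/

set_option autoImplicit false
set_option linter.style.haveILetI false
universe u

open AlgebraicGeometry CategoryTheory TopologicalSpace Topology

namespace Groth.Agent.Lib.Helper4.VarDim

attribute [local instance] sectionsAlgebra Curv2.resAlgebra

variable (k : Type u) [Field k] {X Y : Scheme.{u}} [X.Over (Spec (CommRingCat.of k))]
  [Y.Over (Spec (CommRingCat.of k))]

/-- `trdeg_k κ(x) = trdeg_k κ(f x) + trdeg_{κ(f x)} κ(x)`. -/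
theorem trdeg_add_trdeg_residueFieldMap (f : X ⟶ Y)
    (hf : f ≫ (Y ↘ Spec (CommRingCat.of k)) = (X ↘ Spec (CommRingCat.of k))) (x : X) :
    Algebra.trdeg k (Y.residueField (f x)) +
      @Algebra.trdeg (Y.residueField (f x)) (X.residueField x) _ _
        (f.residueFieldMap x).hom.toAlgebra = Algebra.trdeg k (X.residueField x) := by
  letI : Algebra (Y.residueField (f x)) (X.residueField x) := (f.residueFieldMap x).hom.toAlgebra
  haveI : IsScalarTower k (Y.residueField (f x)) (X.residueField x) :=
    IsScalarTower.of_algebraMap_eq fun c => (residueFieldMap_resMap k f hf x c).symm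
  haveI : FaithfulSMul k (Y.residueField (f x)) :=
    (faithfulSMul_iff_algebraMap_injective _ _).mpr (RingHom.injective _)
  haveI : FaithfulSMul (Y.residueField (f x)) (X.residueField x) :=
    (faithfulSMul_iff_algebraMap_injective _ _).mpr (RingHom.injective _)
  exact trdeg_add_eq k (Y.residueField (f x))

theorem trdegNat_eq_add_fiber [LocallyOfFiniteType (X ↘ Spec (CommRingCat.of k))]
    [LocallyOfFiniteType (Y ↘ Spec (CommRingCat.of k))] (f : X ⟶ Y) [LocallyOfFiniteType f]
    (hf : f ≫ (Y ↘ Spec (CommRingCat.of k)) = (X ↘ Spec (CommRingCat.of k))) (y : Y)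
    (z : f.fiber y) (x : X) (hx : f.fiberι y z = x) :
    letI : (f.fiber y).Over (Spec (CommRingCat.of (Y.residueField y))) :=
      ⟨f.fiberToSpecResidueField y⟩
    trdegNat k X x = trdegNat k Y (f x) + trdegNat (Y.residueField y) (f.fiber y) z := by
  letI : (f.fiber y).Over (Spec (CommRingCat.of (Y.residueField y))) :=
    ⟨f.fiberToSpecResidueField y⟩
  have h1 := trdeg_add_trdeg_residueFieldMap k f hf x
  rw [trdeg_residueFieldMap_eq_trdegNat_fiber f y z x hx, trdeg_eq_trdegNat k Y (f x),
    trdeg_eq_trdegNat k X x] at h1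
  exact_mod_cast h1.symm

end Groth.Agent.Lib.Helper4.VarDim
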