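import Groth.Agent.Lib.Helper4FibDimG
import Groth.Agent.Lib.Helper4VarDim11

/-!
# Fibre dimension (part H): fibre dimension at maximal points of fibres

* `localDim_eq_trdegNat_of_maximal`: on a scheme locally of finite type over a field, the local
  dimension at a point without proper generizations is the transcendence degree of its residue field.
* `fibreDimAt_eq_trdegNat_of_maximal`: same for the fibre of a morphism locally of finite type.
* `le_of_lt_natCast_succ`: arithmetic in `WithBot ℕ∞`.
-/

set_option autoImplicit false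
set_option linter.style.haveILetI false
universe u

open TopologicalSpace Topology AlgebraicGeometry CategoryTheory

namespace Groth.Agent.Lib.Helper4.FibDim

open Groth.Agent.Lib.Helper4.VarDim

lemma le_of_lt_natCast_succ (d : WithBot ℕ∞) (m : ℕ)
    (h : d < ((m + 1 : ℕ) : WithBot ℕ∞)) : d ≤ (m : WithBot ℕ∞) := by
  induction d using WithBot.recBotCoe with
  | bot => exact bot_le
  | coe c =>
    induction c using ENat.recTopCoe with
    | top =>
      exfalso
      have h1 : ((⊤ : ℕ∞) : WithBot ℕ∞) < (((m + 1 : ℕ) : ℕ∞) : WithBot ℕ∞) := h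
      rw [WithBot.coe_lt_coe] at h1
      exact absurd h1 (by simp)
    | coe n =>
      have : n < m + 1 := by exact_mod_cast h
      exact_mod_cast Nat.lt_succ_iff.mp this

section Field

variable (k : Type u) [Field k] (Z : Scheme.{u}) [Z.Over (Spec (CommRingCat.of k))]
  [LocallyOfFiniteType (Z ↘ Spec (CommRingCat.of k))]

attribute [local instance] sectionsAlgebra Curv2.resAlgebra

theorem localDim_eq_trdegNat_of_maximal (z : Z) (hmax : ∀ y : Z, y ⤳ z → y = z) :
    FlatMor.localDim Z z = ((trdegNat k Z z : ℕ) : WithBot ℕ∞) := by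
  apply le_antisymm
  · obtain ⟨N, hzN, hN⟩ := exists_opens_subset_closure k Z z hmax
    refine (Groth.Agent.Lib.Helper7.TopDim.localDim_le z N hzN).trans ?_
    rw [← topologicalKrullDim_closure_singleton k Z z]
    exact topologicalKrullDim_mono_set hN
  · rw [Groth.Agent.Lib.Helper7.TopDim.le_localDim_iff]
    intro U hU
    exact trdegNat_le_topologicalKrullDim_of_isLocallyClosed k Z U U.isOpen.isLocallyClosed z hU

end Field

theorem fibreDimAt_eq_trdegNat_of_maximal {X S : Scheme.{u}} (f : X ⟶ S) [LocallyOfFiniteType f]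
    (x : X) (hmax : ∀ y : X, f y = f x → y ⤳ x → y = x) :
    letI : (f.fiber (f x)).Over (Spec (CommRingCat.of (S.residueField (f x)))) :=
      ⟨f.fiberToSpecResidueField (f x)⟩
    FlatMor.fibreDimAt f x =
      ((trdegNat (S.residueField (f x)) (f.fiber (f x)) (f.asFiber x) : ℕ) : WithBot ℕ∞) := by
  letI : (f.fiber (f x)).Over (Spec (CommRingCat.of (S.residueField (f x)))) :=
    ⟨f.fiberToSpecResidueField (f x)⟩
  haveI : LocallyOfFiniteType ((f.fiber (f x)) ↘ Spec (CommRingCat.of (S.residueField (f x)))) :=
    locallyOfFiniteType_fiberToSpecResidueField f (f x)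
  unfold FlatMor.fibreDimAt
  apply localDim_eq_trdegNat_of_maximal
  intro z' hz'
  have h1 : f.fiberι (f x) z' ⤳ f.fiberι (f x) (f.asFiber x) :=
    hz'.map (f.fiberι (f x)).continuous
  rw [f.fiberι_asFiber x] at h1
  have h2 : f (f.fiberι (f x) z') = f x := (f.fiberHomeo (f x) z').2
  have h3 := hmax _ h2 h1
  apply (f.fiberι (f x)).isEmbedding.injective
  rw [h3, f.fiberι_asFiber x]

end Groth.Agent.Lib.Helper4.FibDim
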