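import Mathlib
import Groth.Agent.Lib.Helper4DimFormulaJ
import Groth.Agent.Lib.Helper4FibDimH

/-!
# Equidimensionality from the dimension formula (helper4)

For `f : X ⟶ Y` dominant, locally of finite type, `X`, `Y` irreducible, `Y` locally Noetherian:
* `topologicalKrullDim_fiber_base_genericPoint`: the dimension of the generic fibre is the
  transcendence degree of the function field extension.
* `le_fibreDimAt`: every fibre has local dimension at least that of the generic fibre.
* `fibreDimAt_eq_generic_of_dim_formula`: EGA IV 13.3.6-type statement.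
-/

set_option autoImplicit false
set_option linter.style.haveILetI false

universe u

open AlgebraicGeometry CategoryTheory TopologicalSpace

namespace Groth.Agent.Lib.Helper4.DimFormula

open Groth.Agent.Lib.Helper4.VarDim Groth.Agent.Lib.Helper4.FibDim

section Irr

variable {X Y : Scheme.{u}} [IrreducibleSpace X] (f : X ⟶ Y)

theorem eq_genericPoint_of_mem_irreducibleComponents (ξ : X)
    (hξ : closure ({ξ} : Set X) ∈ irreducibleComponents ↥X) : ξ = genericPoint ↥X := by
  have h1 : closure ({ξ} : Set X) = Set.univ := by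
    have := hξ.2 (IrreducibleSpace.isIrreducible_univ ↥X) (Set.subset_univ _)
    exact Set.eq_univ_of_univ_subset this
  have h2 : IsGenericPoint ξ Set.univ := h1
  exact h2.eq (genericPoint_spec ↥X)

theorem base_genericPoint_eq' [IrreducibleSpace Y] [IsDominant f] :
    f.base (genericPoint ↥X) = genericPoint ↥Y := by
  have h1 : IsGenericPoint (f.base (genericPoint ↥X)) (closure (f.base '' Set.univ)) :=
    (genericPoint_spec ↥X).image f.continuous
  rw [Set.image_univ, f.denseRange.closure_range] at h1
  exact (h1.eq (genericPoint_spec ↥Y))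

variable [LocallyOfFiniteType f]

attribute [local instance] Curv2.resAlgebra

/-- The transcendence degree of the function field extension, as a natural number. -/
noncomputable def genTrdeg : ℕ :=
  letI : (f.fiber (f.base (genericPoint ↥X))).Over
      (Spec (CommRingCat.of (Y.residueField (f.base (genericPoint ↥X))))) :=
    ⟨f.fiberToSpecResidueField (f.base (genericPoint ↥X))⟩
  trdegNat (Y.residueField (f.base (genericPoint ↥X))) (f.fiber (f.base (genericPoint ↥X)))
    (f.asFiber (genericPoint ↥X))

theorem trdeg_genericPoint_eq :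
    @Algebra.trdeg (Y.residueField (f.base (genericPoint ↥X))) (X.residueField (genericPoint ↥X))
      _ _ (f.residueFieldMap (genericPoint ↥X)).hom.toAlgebra = (genTrdeg f : Cardinal.{u}) :=
  trdeg_residueFieldMap_eq_trdegNat_fiber f (f.base (genericPoint ↥X))
    (f.asFiber (genericPoint ↥X)) (genericPoint ↥X) (f.fiberι_asFiber _)

theorem topologicalKrullDim_fiber_base_genericPoint :
    topologicalKrullDim ↥(f.fiber (f.base (genericPoint ↥X))) = (genTrdeg f : WithBot ℕ∞) := by
  letI : (f.fiber (f.base (genericPoint ↥X))).Over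
      (Spec (CommRingCat.of (Y.residueField (f.base (genericPoint ↥X))))) :=
    ⟨f.fiberToSpecResidueField (f.base (genericPoint ↥X))⟩
  haveI : LocallyOfFiniteType ((f.fiber (f.base (genericPoint ↥X))) ↘
      Spec (CommRingCat.of (Y.residueField (f.base (genericPoint ↥X))))) :=
    locallyOfFiniteType_fiberToSpecResidueField f _
  rw [topologicalKrullDim_eq_iSup_trdegNat (Y.residueField (f.base (genericPoint ↥X)))]
  apply le_antisymm
  · refine iSup_le fun z => ?_
    have hsp : f.asFiber (genericPoint ↥X) ⤳ z := by
      rw [← (f.fiberι (f.base (genericPoint ↥X))).isEmbedding.isInducing.specializes_iff,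
        f.fiberι_asFiber]
      exact genericPoint_specializes _
    have := trdegNat_le_of_specializes (Y.residueField (f.base (genericPoint ↥X)))
      (f.fiber (f.base (genericPoint ↥X))) _ _ hsp
    unfold genTrdeg
    exact_mod_cast this
  · exact le_iSup_of_le (f.asFiber (genericPoint ↥X)) le_rfl

theorem fibreDimAt_genericPoint :
    FlatMor.fibreDimAt f (genericPoint ↥X) = (genTrdeg f : WithBot ℕ∞) := by
  refine fibreDimAt_eq_trdegNat_of_maximal f (genericPoint ↥X) fun y _ hy => ?_
  exact (hy.antisymm (genericPoint_specializes y)).eq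

/-- Every fibre has local dimension at least that of the generic fibre. -/
theorem le_fibreDimAt (x : X) : (genTrdeg f : WithBot ℕ∞) ≤ FlatMor.fibreDimAt f x := by
  have hopen := isOpen_setOf_fibreDimAt_le' f (FlatMor.fibreDimAt f x)
  have hx : x ∈ {x' : X | FlatMor.fibreDimAt f x' ≤ FlatMor.fibreDimAt f x} := by
    rw [Set.mem_ofPred_eq]
  have hξ := (genericPoint_specializes x).mem_open hopen hx
  rw [← fibreDimAt_genericPoint f]
  exact hξ

end Irr

section Main

variable {X Y : Scheme.{u}} [IrreducibleSpace X] [IrreducibleSpace Y] [IsLocallyNoetherian Y]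
  (f : X ⟶ Y) [LocallyOfFiniteType f] [IsDominant f]

attribute [local instance] Curv2.resAlgebra

theorem exists_ringKrullDim_stalk_eq_nat (y : Y) :
    ∃ c : ℕ, ringKrullDim (Y.presheaf.stalk y) = c := by
  obtain ⟨V, hV, hyV, -⟩ := exists_isAffineOpen_mem_and_subset (U := ⊤) (x := y) (by simp)
  haveI : IsNoetherianRing Γ(Y, V) := IsLocallyNoetherian.component_noetherian ⟨V, hV⟩
  rw [ringKrullDim_stalk_eq_height hV y hyV]
  obtain ⟨n, hn⟩ := ENat.ne_top_iff_exists.mp
    (Ideal.height_ne_top_of_isPrime (I := (hV.primeIdealOf ⟨y, hyV⟩).asIdeal))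
  exact ⟨n, by rw [← hn]; rfl⟩

theorem fibreDimAt_le_of_dim_formula (x : X)
    (h : ringKrullDim (X.presheaf.stalk x) =
        ringKrullDim (Y.presheaf.stalk (f.base x)) +
          ringKrullDim ((f.fiber (f.base x)).presheaf.stalk (f.asFiber x))) :
    FlatMor.fibreDimAt f x ≤ (genTrdeg f : WithBot ℕ∞) := by
  letI : (f.fiber (f.base x)).Over (Spec (CommRingCat.of (Y.residueField (f.base x)))) :=
    ⟨f.fiberToSpecResidueField (f.base x)⟩
  haveI : LocallyOfFiniteType ((f.fiber (f.base x)) ↘
      Spec (CommRingCat.of (Y.residueField (f.base x)))) :=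
    locallyOfFiniteType_fiberToSpecResidueField f _
  obtain ⟨b, hb⟩ := exists_ringKrullDim_stalk_eq (Y.residueField (f.base x)) (f.fiber (f.base x))
    (f.asFiber x)
  obtain ⟨c, hc⟩ := exists_ringKrullDim_stalk_eq_nat (Y := Y) (f.base x)
  set a := trdegNat (Y.residueField (f.base x)) (f.fiber (f.base x)) (f.asFiber x) with ha
  have ha' := trdeg_eq_trdegNat (Y.residueField (f.base x)) (f.fiber (f.base x)) (f.asFiber x)
  have h1 : FlatMor.fibreDimAt f x = ((a + b : ℕ) : WithBot ℕ∞) :=
    localDim_eq_add (Y.residueField (f.base x)) (f.fiber (f.base x)) (f.asFiber x) a b ha' hb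
  have h2 := trdeg_residueFieldMap_eq_trdegNat_fiber f (f.base x) (f.asFiber x) x
    (f.fiberι_asFiber x)
  have h3 := ringKrullDim_stalk_add_le f x a (genTrdeg f) h2 (fun ξ hξ _ => by
    obtain rfl := eq_genericPoint_of_mem_irreducibleComponents ξ hξ
    exact (trdeg_genericPoint_eq f).le)
  rw [h, hc, hb] at h3
  rw [h1]
  have h4 : c + b + a ≤ c + genTrdeg f := by exact_mod_cast h3
  have h5 : a + b ≤ genTrdeg f := by omega
  exact_mod_cast h5

theorem fibreDimAt_eq_generic_of_dim_formula (x : X)
    (h : ringKrullDim (X.presheaf.stalk x) =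
        ringKrullDim (Y.presheaf.stalk (f.base x)) +
          ringKrullDim ((f.fiber (f.base x)).presheaf.stalk (f.asFiber x))) :
    FlatMor.fibreDimAt f x = topologicalKrullDim ↥(f.fiber (genericPoint ↥Y)) := by
  rw [← base_genericPoint_eq' f, topologicalKrullDim_fiber_base_genericPoint]
  exact le_antisymm (fibreDimAt_le_of_dim_formula f x h) (le_fibreDimAt f x)

end Main

end Groth.Agent.Lib.Helper4.DimFormula
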