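import Mathlib
import Groth.Agent.Lib.Helper4DimFormulaK

/-!
# Fibres over a one-dimensional base are equidimensional (helper4)

`topologicalKrullDim_irreducibleComponent_fiber_eq`: EGA IV 14.2.x-type statement: `Y` irreducible
locally Noetherian of dimension one, `X` irreducible, `f` dominant locally of finite type: every
irreducible component of every fibre has the dimension of the generic fibre.
-/

set_option autoImplicit false
set_option linter.style.haveILetI false

universe u

open AlgebraicGeometry CategoryTheory TopologicalSpace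

namespace Groth.Agent.Lib.Helper4.DimFormula

open Groth.Agent.Lib.Helper4.VarDim Groth.Agent.Lib.Helper4.FibDim

section

variable {X Y : Scheme.{u}} [IrreducibleSpace X] [IrreducibleSpace Y] [IsLocallyNoetherian Y]
  (f : X ⟶ Y) [LocallyOfFiniteType f] [IsDominant f]

attribute [local instance] Curv2.resAlgebra

theorem ringKrullDim_stalk_genericPoint (Y : Scheme.{u}) [IrreducibleSpace Y] :
    ringKrullDim (Y.presheaf.stalk (genericPoint ↥Y)) = 0 := by
  rw [ringKrullDim_stalk_eq_coheight]
  have : Order.coheight (genericPoint ↥Y) = 0 := by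
    rw [Order.coheight_eq_zero]
    intro b _
    exact genericPoint_specializes b
  rw [this]
  rfl

theorem one_le_ringKrullDim_stalk_of_ne (x : X) (hx : x ≠ genericPoint ↥X) :
    1 ≤ ringKrullDim (X.presheaf.stalk x) := by
  rw [ringKrullDim_stalk_eq_coheight]
  have hlt : x < genericPoint ↥X := by
    rw [lt_iff_specializes]
    exact ⟨genericPoint_specializes x, hx⟩
  have := Order.coheight_add_one_le hlt
  have h1 : (1 : ℕ∞) ≤ Order.coheight x := le_trans le_add_self this
  exact_mod_cast h1

/-- Key inequality: over a base of dimension `≤ 1`, `dim O_{Y, f x} ≤ dim O_{X,x}`. -/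
theorem ringKrullDim_stalk_base_le (hY : topologicalKrullDim Y ≤ 1) (x : X) :
    ringKrullDim (Y.presheaf.stalk (f.base x)) ≤ ringKrullDim (X.presheaf.stalk x) := by
  by_cases hx : x = genericPoint ↥X
  · rw [hx, base_genericPoint_eq' f, ringKrullDim_stalk_genericPoint Y,
      ringKrullDim_stalk_genericPoint X]
  · by_cases hy : f.base x = genericPoint ↥Y
    · rw [hy, ringKrullDim_stalk_genericPoint Y]
      exact le_trans (by exact_mod_cast zero_le_one) (one_le_ringKrullDim_stalk_of_ne x hx)
    · exact ((ringKrullDim_stalk_le_topologicalKrullDim Y (f.base x)).trans hY).trans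
        (one_le_ringKrullDim_stalk_of_ne x hx)

theorem topologicalKrullDim_irreducibleComponent_fiber_eq (hY : topologicalKrullDim Y ≤ 1) (y : Y)
    (Z : Set ↥(f.fiber y)) (hZ : Z ∈ irreducibleComponents ↥(f.fiber y)) :
    topologicalKrullDim Z = topologicalKrullDim ↥(f.fiber (genericPoint ↥Y)) := by
  letI : (f.fiber y).Over (Spec (CommRingCat.of (Y.residueField y))) :=
    ⟨f.fiberToSpecResidueField y⟩
  haveI : LocallyOfFiniteType ((f.fiber y) ↘ Spec (CommRingCat.of (Y.residueField y))) :=
    locallyOfFiniteType_fiberToSpecResidueField f _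
  haveI : IsLocallyNoetherian X := LocallyOfFiniteType.isLocallyNoetherian f
  obtain ⟨z, hz⟩ := QuasiSober.sober hZ.1 (isClosed_of_mem_irreducibleComponents _ hZ)
  have hzcl : closure ({z} : Set ↥(f.fiber y)) = Z := hz.def
  have hzmax : ∀ w : ↥(f.fiber y), w ⤳ z → w = z := fun w hw =>
    eq_of_specializes_generic z w (by rw [hzcl]; exact hZ) hw
  set a := trdegNat (Y.residueField y) (f.fiber y) z with ha
  have h1 : topologicalKrullDim Z = (a : WithBot ℕ∞) := by
    rw [← hzcl]
    exact topologicalKrullDim_closure_singleton (Y.residueField y) (f.fiber y) z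
  set x := f.fiberι y z with hx
  have hfx : f.base x = y := by
    have : x ∈ Set.range (f.fiberι y) := ⟨z, rfl⟩
    rw [f.range_fiberι] at this
    exact this
  -- lower bound
  have hlow : (genTrdeg f : WithBot ℕ∞) ≤ (a : WithBot ℕ∞) := by
    have h2 := le_fibreDimAt f x
    rw [fibreDimAt_eq_fibLD, ← localDim_fiber_eq f y z,
      localDim_eq_trdegNat_of_maximal (Y.residueField y) (f.fiber y) z hzmax] at h2
    exact h2
  -- upper bound
  have hupp : (a : WithBot ℕ∞) ≤ (genTrdeg f : WithBot ℕ∞) := by
    have h2 := trdeg_residueFieldMap_eq_trdegNat_fiber f y z x rfl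
    have h3 := ringKrullDim_stalk_add_le f x a (genTrdeg f) h2 (fun ξ hξ _ => by
      obtain rfl := eq_genericPoint_of_mem_irreducibleComponents ξ hξ
      exact (trdeg_genericPoint_eq f).le)
    have h4 := ringKrullDim_stalk_base_le f hY x
    obtain ⟨c, hc⟩ := exists_ringKrullDim_stalk_eq_nat (Y := X) x
    have h5 : ringKrullDim (X.presheaf.stalk x) + a ≤
        ringKrullDim (X.presheaf.stalk x) + genTrdeg f := h3.trans (add_le_add h4 le_rfl)
    rw [hc] at h5
    have h6 : c + a ≤ c + genTrdeg f := by exact_mod_cast h5
    have h7 : a ≤ genTrdeg f := by omega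
    exact_mod_cast h7
  rw [h1, ← base_genericPoint_eq' f, topologicalKrullDim_fiber_base_genericPoint]
  exact le_antisymm hupp hlow

end

end Groth.Agent.Lib.Helper4.DimFormula
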