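import Mathlib
import Groth.Prelude.Def_Cyc
import Groth.Agent.Lib.Helper4DimFormulaL
import Groth.Agent.Lib.Helper10CodimFib

/-!
# Fibres of flat morphisms between irreducible schemes are equidimensional (helper4)

* `topologicalKrullDim_irreducibleComponent_fiber_eq_of_le`: if `dim O_{Y,f x} ≤ dim O_{X,x}` for all
  `x`, every irreducible component of every fibre has dimension `genTrdeg f`.
* `topologicalKrullDim_fiber_eq_of_le`: the same for the whole (nonempty) fibre.
* `base_genericPoint_eq_of_flat`, `isDominant_of_flat`.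
-/

set_option autoImplicit false
set_option linter.style.haveILetI false

universe u

open AlgebraicGeometry CategoryTheory TopologicalSpace

namespace Groth.Agent.Lib.Helper4.DimFormula

open Groth.Agent.Lib.Helper4.VarDim Groth.Agent.Lib.Helper4.FibDim

section

variable {X Y : Scheme.{u}} [IrreducibleSpace X] [IrreducibleSpace Y] [IsLocallyNoetherian Y]
  (f : X ⟶ Y) [LocallyOfFiniteType f] [IsDominant f]

attribute [local instance] Curv2.resAlgebra

omit [IrreducibleSpace ↥Y] [IsDominant f] in
theorem topologicalKrullDim_irreducibleComponent_fiber_eq_of_le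
    (hle : ∀ x : X, ringKrullDim (Y.presheaf.stalk (f.base x)) ≤ ringKrullDim (X.presheaf.stalk x))
    (y : Y) (Z : Set ↥(f.fiber y)) (hZ : Z ∈ irreducibleComponents ↥(f.fiber y)) :
    topologicalKrullDim Z = (genTrdeg f : WithBot ℕ∞) := by
  letI : (f.fiber y).Over (Spec (CommRingCat.of (Y.residueField y))) :=
    ⟨f.fiberToSpecResidueField y⟩
  haveI : LocallyOfFiniteType ((f.fiber y) ↘ Spec (CommRingCat.of (Y.residueField y))) :=
    locallyOfFiniteType_fiberToSpecResidueField f _
  haveI : IsLocallyNoetherian X := LocallyOfFiniteType.isLocallyNoetherian f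
  obtain ⟨z, hz⟩ := QuasiSober.sober hZ.1 (isClosed_of_mem_irreducibleComponents _ hZ)
  have hzcl : closure ({z} : Set ↥(f.fiber y)) = Z := hz.def
  have hzmax : ∀ w : ↥(f.fiber y), w ⤳ z → w = z := fun w hw =>
    eq_of_specializes_generic z w (by rw [hzcl]; exact hZ) hw
  set a := trdegNat (Y.residueField y) (f.fiber y) z with ha
  have h1 : topologicalKrullDim Z = (a : WithBot ℕ∞) := by
    rw [← hzcl]
    exact topologicalKrullDim_closure_singleton (Y.residueField y) (f.fiber y) z
  set x := f.fiberι y z with hx
  have hfx : f.base x = y := by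
    have : x ∈ Set.range (f.fiberι y) := ⟨z, rfl⟩
    rw [f.range_fiberι] at this
    exact this
  -- lower bound
  have hlow : (genTrdeg f : WithBot ℕ∞) ≤ (a : WithBot ℕ∞) := by
    have h2 := le_fibreDimAt f x
    rw [fibreDimAt_eq_fibLD, ← localDim_fiber_eq f y z,
      localDim_eq_trdegNat_of_maximal (Y.residueField y) (f.fiber y) z hzmax] at h2
    exact h2
  -- upper bound
  have hupp : (a : WithBot ℕ∞) ≤ (genTrdeg f : WithBot ℕ∞) := by
    have h2 := trdeg_residueFieldMap_eq_trdegNat_fiber f y z x rfl
    have h3 := ringKrullDim_stalk_add_le f x a (genTrdeg f) h2 (fun ξ hξ _ => by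
      obtain rfl := eq_genericPoint_of_mem_irreducibleComponents ξ hξ
      exact (trdeg_genericPoint_eq f).le)
    have h4 := hle x
    obtain ⟨c, hc⟩ := exists_ringKrullDim_stalk_eq_nat (Y := X) x
    have h5 : ringKrullDim (X.presheaf.stalk x) + a ≤
        ringKrullDim (X.presheaf.stalk x) + genTrdeg f := h3.trans (add_le_add h4 le_rfl)
    rw [hc] at h5
    have h6 : c + a ≤ c + genTrdeg f := by exact_mod_cast h5
    have h7 : a ≤ genTrdeg f := by omega
    exact_mod_cast h7
  rw [h1]
  exact le_antisymm hupp hlow

theorem topologicalKrullDim_fiber_eq_of_le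
    (hle : ∀ x : X, ringKrullDim (Y.presheaf.stalk (f.base x)) ≤ ringKrullDim (X.presheaf.stalk x))
    (x : X) :
    topologicalKrullDim ↥(f.fiber (f.base x)) = (genTrdeg f : WithBot ℕ∞) := by
  letI : (f.fiber (f.base x)).Over (Spec (CommRingCat.of (Y.residueField (f.base x)))) :=
    ⟨f.fiberToSpecResidueField (f.base x)⟩
  haveI : LocallyOfFiniteType ((f.fiber (f.base x)) ↘
      Spec (CommRingCat.of (Y.residueField (f.base x)))) :=
    locallyOfFiniteType_fiberToSpecResidueField f _
  apply le_antisymm
  · rw [topologicalKrullDim_eq_iSup_trdegNat (Y.residueField (f.base x))]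
    refine iSup_le fun z => ?_
    have hZ := irreducibleComponent_mem_irreducibleComponents z
    obtain ⟨z₀, hz₀⟩ := QuasiSober.sober hZ.1 (isClosed_of_mem_irreducibleComponents _ hZ)
    have hz₀cl : closure ({z₀} : Set ↥(f.fiber (f.base x))) = irreducibleComponent z := hz₀.def
    have hsp : z₀ ⤳ z := by
      rw [specializes_iff_mem_closure, hz₀cl]
      exact mem_irreducibleComponent
    have h1 := topologicalKrullDim_irreducibleComponent_fiber_eq_of_le f hle (f.base x) _ hZ
    rw [← hz₀cl, topologicalKrullDim_closure_singleton (Y.residueField (f.base x))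
      (f.fiber (f.base x)) z₀] at h1
    have h2 := trdegNat_le_of_specializes (Y.residueField (f.base x)) (f.fiber (f.base x)) z₀ z hsp
    calc ((trdegNat (Y.residueField (f.base x)) (f.fiber (f.base x)) z : ℕ) : WithBot ℕ∞)
        ≤ ((trdegNat (Y.residueField (f.base x)) (f.fiber (f.base x)) z₀ : ℕ) : WithBot ℕ∞) := by
          exact_mod_cast h2
      _ = _ := h1
  · exact (le_fibreDimAt f x).trans
      (Groth.Agent.Lib.Helper7.TopDim.localDim_le_dim (f.asFiber x))

end

section Flat

variable {X Y : Scheme.{u}} [IrreducibleSpace X] [IrreducibleSpace Y] (f : X ⟶ Y) [Flat f]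

theorem base_genericPoint_eq_of_flat : f.base (genericPoint ↥X) = genericPoint ↥Y := by
  obtain ⟨x', hx', hfx'⟩ := Flat.generalizingMap f
    (genericPoint_specializes (f.base (genericPoint ↥X)))
  have : x' = genericPoint ↥X :=
    (hx'.antisymm (genericPoint_specializes x')).eq
  rw [← this]
  exact hfx'

theorem isDominant_of_flat : IsDominant f := by
  constructor
  rw [DenseRange, dense_iff_closure_eq]
  apply Set.eq_univ_of_univ_subset
  rw [← (genericPoint_spec ↥Y).def]
  apply closure_mono
  rw [Set.singleton_subset_iff]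
  exact ⟨genericPoint ↥X, base_genericPoint_eq_of_flat f⟩

end Flat

end Groth.Agent.Lib.Helper4.DimFormula
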