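import Mathlib
import Groth.Agent.Lib.Helper4DimFormulaS
import Groth.Agent.Lib.Helper4DimFormulaP

/-!
# Dimensions of fibre components versus the generic fibre (helper4)

* `ptTrdeg f x`: `trdeg κ(x)/κ(f x)` as a natural number.
* `exists_point_of_mem_irreducibleComponents`, `exists_mem_irreducibleComponents_of_maximal`:
  irreducible components of a fibre ↔ maximal points of the fibre, with `dim = ptTrdeg`.
* `exists_maximal_over_genericPoint`: EGA IV 14.3.x-type key step.
* `fibre_dims_subset_generic`, `topologicalKrullDim_fiber_le_generic`.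
-/

set_option autoImplicit false
set_option linter.style.haveILetI false

universe u

open AlgebraicGeometry CategoryTheory TopologicalSpace

namespace Groth.Agent.Lib.Helper4.DimFormula

open Groth.Agent.Lib.Helper4.VarDim Groth.Agent.Lib.Helper4.FibDim

section PtTrdeg

variable {X Y : Scheme.{u}} (f : X ⟶ Y) [LocallyOfFiniteType f]

attribute [local instance] Curv2.resAlgebra

/-- `trdeg κ(x)/κ(f x)` as a natural number. -/
noncomputable def ptTrdeg (x : X) : ℕ :=
  letI : (f.fiber (f.base x)).Over (Spec (CommRingCat.of (Y.residueField (f.base x)))) :=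
    ⟨f.fiberToSpecResidueField (f.base x)⟩
  trdegNat (Y.residueField (f.base x)) (f.fiber (f.base x)) (f.asFiber x)

theorem trdeg_eq_ptTrdeg (x : X) :
    @Algebra.trdeg (Y.residueField (f.base x)) (X.residueField x) _ _
      (f.residueFieldMap x).hom.toAlgebra = (ptTrdeg f x : Cardinal.{u}) :=
  trdeg_residueFieldMap_eq_trdegNat_fiber f (f.base x) (f.asFiber x) x (f.fiberι_asFiber _)

theorem trdegNat_eq_ptTrdeg (s : Y) (z : f.fiber s) :
    letI : (f.fiber s).Over (Spec (CommRingCat.of (Y.residueField s))) :=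
      ⟨f.fiberToSpecResidueField s⟩
    trdegNat (Y.residueField s) (f.fiber s) z = ptTrdeg f (f.fiberι s z) := by
  have h1 := trdeg_residueFieldMap_eq_trdegNat_fiber f s z _ rfl
  have h2 := trdeg_eq_ptTrdeg f (f.fiberι s z)
  have h3 := h1.symm.trans h2
  exact_mod_cast h3

theorem fibreDimAt_eq_ptTrdeg_of_maximal (x : X)
    (hmax : ∀ y : X, f.base y = f.base x → y ⤳ x → y = x) :
    FlatMor.fibreDimAt f x = (ptTrdeg f x : WithBot ℕ∞) :=
  fibreDimAt_eq_trdegNat_of_maximal f x hmax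

theorem ptTrdeg_le_of_specializes (ξ x : X) (h : ξ ⤳ x)
    (hξ : ∀ y : X, f.base y = f.base ξ → y ⤳ ξ → y = ξ)
    (hx : ∀ y : X, f.base y = f.base x → y ⤳ x → y = x) : ptTrdeg f ξ ≤ ptTrdeg f x := by
  have hopen := isOpen_setOf_fibreDimAt_le' f (FlatMor.fibreDimAt f x)
  have hx' : x ∈ {x' : X | FlatMor.fibreDimAt f x' ≤ FlatMor.fibreDimAt f x} := by
    rw [Set.mem_ofPred_eq]
  have h1 := h.mem_open hopen hx'
  rw [Set.mem_ofPred_eq, fibreDimAt_eq_ptTrdeg_of_maximal f ξ hξ,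
    fibreDimAt_eq_ptTrdeg_of_maximal f x hx] at h1
  exact_mod_cast h1

theorem exists_point_of_mem_irreducibleComponents (s : Y) (Z : Set ↥(f.fiber s))
    (hZ : Z ∈ irreducibleComponents ↥(f.fiber s)) :
    ∃ x : X, f.base x = s ∧ (∀ x' : X, f.base x' = f.base x → x' ⤳ x → x' = x) ∧
      topologicalKrullDim Z = (ptTrdeg f x : WithBot ℕ∞) := by
  letI : (f.fiber s).Over (Spec (CommRingCat.of (Y.residueField s))) :=
    ⟨f.fiberToSpecResidueField s⟩
  haveI : LocallyOfFiniteType ((f.fiber s) ↘ Spec (CommRingCat.of (Y.residueField s))) :=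
    locallyOfFiniteType_fiberToSpecResidueField f _
  obtain ⟨z, hz⟩ := QuasiSober.sober hZ.1 (isClosed_of_mem_irreducibleComponents _ hZ)
  have hzcl : closure ({z} : Set ↥(f.fiber s)) = Z := hz.def
  have hzmax : ∀ w : ↥(f.fiber s), w ⤳ z → w = z := fun w hw =>
    eq_of_specializes_generic z w (by rw [hzcl]; exact hZ) hw
  have hfx : f.base (f.fiberι s z) = s := by
    have : f.fiberι s z ∈ Set.range (f.fiberι s) := ⟨z, rfl⟩
    rw [f.range_fiberι] at this
    exact this
  refine ⟨f.fiberι s z, hfx, ?_, ?_⟩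
  · intro x' hx' hsp
    have hx's : f.base x' = s := hx'.trans hfx
    have : x' ∈ Set.range (f.fiberι s) := by rw [f.range_fiberι]; exact hx's
    obtain ⟨w, rfl⟩ := this
    have hw : w ⤳ z := (f.fiberι s).isEmbedding.isInducing.specializes_iff.mp hsp
    rw [hzmax w hw]
  · rw [← hzcl, topologicalKrullDim_closure_singleton (Y.residueField s) (f.fiber s) z,
      trdegNat_eq_ptTrdeg]

theorem exists_mem_irreducibleComponents_of_maximal (s : Y) (x : X) (hxs : f.base x = s)
    (hmax : ∀ x' : X, f.base x' = f.base x → x' ⤳ x → x' = x) :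
    ∃ Z ∈ irreducibleComponents ↥(f.fiber s),
      topologicalKrullDim Z = (ptTrdeg f x : WithBot ℕ∞) := by
  letI : (f.fiber s).Over (Spec (CommRingCat.of (Y.residueField s))) :=
    ⟨f.fiberToSpecResidueField s⟩
  haveI : LocallyOfFiniteType ((f.fiber s) ↘ Spec (CommRingCat.of (Y.residueField s))) :=
    locallyOfFiniteType_fiberToSpecResidueField f _
  have : x ∈ Set.range (f.fiberι s) := by rw [f.range_fiberι]; exact hxs
  obtain ⟨z, rfl⟩ := this
  refine ⟨closure {z}, mem_irreducibleComponents_of_forall_specializes z ?_, ?_⟩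
  · intro w hw
    have h1 : f.fiberι s w ⤳ f.fiberι s z :=
      (f.fiberι s).isEmbedding.isInducing.specializes_iff.mpr hw
    have h2 : f.base (f.fiberι s w) = f.base (f.fiberι s z) := by
      have : f.fiberι s w ∈ Set.range (f.fiberι s) := ⟨w, rfl⟩
      rw [f.range_fiberι] at this
      exact this.trans hxs.symm
    exact (f.fiberι s).isEmbedding.injective (hmax _ h2 h1)
  · rw [topologicalKrullDim_closure_singleton (Y.residueField s) (f.fiber s) z,
      trdegNat_eq_ptTrdeg]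

end PtTrdeg

section Main

variable {X Y : Scheme.{u}} [IrreducibleSpace Y] [IsLocallyNoetherian Y] (f : X ⟶ Y)
  [LocallyOfFiniteType f]

attribute [local instance] Curv2.resAlgebra

theorem exists_maximal_over_genericPoint (x : X)
    (hcat : CAlg.IsUniversallyCatenary (Y.presheaf.stalk (f.base x)))
    (hmax : ∀ x' : X, f.base x' = f.base x → x' ⤳ x → x' = x)
    (hdim : ringKrullDim (X.presheaf.stalk x) = ringKrullDim (Y.presheaf.stalk (f.base x))) :
    ∃ ξ : X, f.base ξ = genericPoint Y ∧ (∀ x' : X, x' ⤳ ξ → x' = ξ) ∧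
      ptTrdeg f ξ = ptTrdeg f x := by
  obtain ⟨V, hV, hsV, -⟩ := exists_isAffineOpen_mem_and_subset (U := ⊤) (x := f.base x) (by simp)
  obtain ⟨U, hU, hxU, hUV⟩ := exists_isAffineOpen_mem_and_subset (U := f ⁻¹ᵁ V) (x := x) hsV
  have e : U ≤ f ⁻¹ᵁ V := hUV
  haveI : IsNoetherianRing Γ(Y, V) := IsLocallyNoetherian.component_noetherian ⟨V, hV⟩
  letI : Algebra Γ(Y, V) Γ(X, U) := (f.appLE V U e).hom.toAlgebra
  haveI : Algebra.FiniteType Γ(Y, V) Γ(X, U) := f.finiteType_appLE hV hU e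
  haveI : IsNoetherianRing Γ(X, U) := Algebra.FiniteType.isNoetherianRing Γ(Y, V) Γ(X, U)
  set q : Ideal Γ(X, U) := (hU.primeIdealOf ⟨x, hxU⟩).asIdeal with hq
  set p : Ideal Γ(Y, V) := (hV.primeIdealOf ⟨f.base x, e hxU⟩).asIdeal with hp
  haveI : q.LiesOver p := ⟨(primeIdealOf_comap_appLE f hU hV e x hxU).symm⟩
  obtain ⟨P, hPmin, hPq, hht⟩ := exists_minimalPrimes_height_le q
  haveI : P.IsPrime := hPmin.1.1
  -- the point ξ
  set ξ : X := hU.fromSpec ⟨P, inferInstance⟩ with hξ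
  have hξU : ξ ∈ U := fromSpec_mem hU _
  have hPξ : hU.primeIdealOf ⟨ξ, hξU⟩ = ⟨P, inferInstance⟩ := primeIdealOf_fromSpec hU _ hξU
  have hPξ' : P = (hU.primeIdealOf ⟨ξ, hξU⟩).asIdeal := by rw [hPξ]
  have hξx : ξ ⤳ x := by
    rw [← primeIdealOf_le_iff hU ξ x hξU hxU, hPξ]
    exact hPq
  have hξmax : ∀ x' : X, x' ⤳ ξ → x' = ξ := by
    intro x' hx'
    have hx'U : x' ∈ U := hx'.mem_open U.2 hξU
    have h1 := (primeIdealOf_le_iff hU x' ξ hx'U hξU).mpr hx'
    rw [hPξ] at h1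
    have h2 : (hU.primeIdealOf ⟨x', hx'U⟩).asIdeal = P :=
      le_antisymm h1 (hPmin.2 ⟨(hU.primeIdealOf ⟨x', hx'U⟩).2, bot_le⟩ h1)
    exact primeIdealOf_injective hU x' ξ hx'U hξU (by rw [hPξ]; exact PrimeSpectrum.ext h2)
  have hP₀ : P.under Γ(Y, V) = (hV.primeIdealOf ⟨f.base ξ, e hξU⟩).asIdeal := by
    rw [← primeIdealOf_comap_appLE f hU hV e ξ hξU, ← hPξ']
    rfl
  have hP₀p : P.under Γ(Y, V) ≤ p := by
    rw [Ideal.LiesOver.over (p := p) (P := q)]
    exact Ideal.comap_mono hPq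
  have hcat' : CAlg.IsUniversallyCatenary (Localization.AtPrime p) := by
    have := hV.isLocalization_stalk ⟨f.base x, e hxU⟩
    let _ := Y.presheaf.algebra_section_stalk (U := V) ⟨f.base x, e hxU⟩
    exact isUniversallyCatenary_of_ringEquiv
      (IsLocalization.algEquiv p.primeCompl (Y.presheaf.stalk (f.base x))
        (Localization.AtPrime p)).toRingEquiv hcat
  have hnx := trdeg_eq_ptTrdeg f x
  have hnξ := trdeg_eq_ptTrdeg f ξ
  have h1 := height_map_add_eq Γ(Y, V) Γ(X, U) p q P hPq hcat' (ptTrdeg f x) (ptTrdeg f ξ)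
    (by rw [← trdeg_residueFieldMap_eq_trdeg_quotient f hU hV e x hxU p q hq hp]; exact hnx)
    (by
      rw [← trdeg_residueFieldMap_eq_trdeg_quotient f hU hV e ξ hξU (P.under Γ(Y, V)) P hPξ' hP₀]
      exact hnξ)
  have hqp : q.height = p.height := by
    have h2 := ringKrullDim_stalk_eq_height hU x hxU
    have h3 := ringKrullDim_stalk_eq_height hV (f.base x) (e hxU)
    rw [hdim, h3] at h2
    exact_mod_cast h2.symm
  haveI : (p.map (Ideal.Quotient.mk (P.under Γ(Y, V)))).IsPrime :=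
    Ideal.isPrime_map_quotientMk_of_isPrime hP₀p
  haveI : (q.map (Ideal.Quotient.mk P)).IsPrime := Ideal.isPrime_map_quotientMk_of_isPrime hPq
  have hcm : (p.map (Ideal.Quotient.mk (P.under Γ(Y, V)))).comap
      (Ideal.Quotient.mk (P.under Γ(Y, V))) = p := by
    rw [Ideal.comap_map_of_surjective _ Ideal.Quotient.mk_surjective, ← RingHom.ker_eq_comap_bot,
      Ideal.mk_ker, sup_eq_left.mpr hP₀p]
  have h4 := height_ker_add_height_le (Ideal.Quotient.mk (P.under Γ(Y, V)))
    Ideal.Quotient.mk_surjective (p.map (Ideal.Quotient.mk (P.under Γ(Y, V))))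
  rw [Ideal.mk_ker, hcm] at h4
  have h5 := ptTrdeg_le_of_specializes f ξ x hξx (fun y _ hy => hξmax y hy) hmax
  obtain ⟨a, ha⟩ : ∃ a : ℕ, (a : ℕ∞) = p.height :=
    ENat.ne_top_iff_exists.mp Ideal.height_ne_top_of_isPrime
  obtain ⟨b, hb⟩ : ∃ b : ℕ, (b : ℕ∞) = (p.map (Ideal.Quotient.mk (P.under Γ(Y, V)))).height :=
    ENat.ne_top_iff_exists.mp Ideal.height_ne_top_of_isPrime
  obtain ⟨c, hc⟩ : ∃ c : ℕ, (c : ℕ∞) = (P.under Γ(Y, V)).height :=
    ENat.ne_top_iff_exists.mp Ideal.height_ne_top_of_isPrime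
  obtain ⟨h, hh⟩ : ∃ h : ℕ, (h : ℕ∞) = (q.map (Ideal.Quotient.mk P)).height :=
    ENat.ne_top_iff_exists.mp Ideal.height_ne_top_of_isPrime
  rw [hqp, ← ha, ← hh] at hht
  rw [← hh, ← hb] at h1
  rw [← hc, ← hb, ← ha] at h4
  have hht' : a ≤ h := by exact_mod_cast hht
  have h1' : h + ptTrdeg f x = b + ptTrdeg f ξ := by exact_mod_cast h1
  have h4' : c + b ≤ a := by exact_mod_cast h4
  have hc0 : c = 0 := by omega
  have htξ : ptTrdeg f ξ = ptTrdeg f x := by omega
  have hmin₀ : P.under Γ(Y, V) ∈ minimalPrimes Γ(Y, V) :=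
    Ideal.height_eq_zero_iff.mp (by rw [← hc, hc0]; rfl)
  have hfξ : f.base ξ = genericPoint Y := by
    have hη := genericPoint_specializes (f.base ξ)
    have hηV : genericPoint Y ∈ V := hη.mem_open V.2 (e hξU)
    have h6 := (primeIdealOf_le_iff hV (genericPoint Y) (f.base ξ) hηV (e hξU)).mpr hη
    rw [← hP₀] at h6
    have h7 : (hV.primeIdealOf ⟨genericPoint Y, hηV⟩).asIdeal = P.under Γ(Y, V) :=
      le_antisymm h6 (hmin₀.2 ⟨(hV.primeIdealOf ⟨_, hηV⟩).2, bot_le⟩ h6)
    exact (primeIdealOf_injective hV _ _ hηV (e hξU) (PrimeSpectrum.ext (h7.trans hP₀))).symm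
  exact ⟨ξ, hfξ, hξmax, htξ⟩

theorem fibre_dims_subset_generic (y : Y)
    (hcat : CAlg.IsUniversallyCatenary (Y.presheaf.stalk y))
    (hb : ∀ z : X, f.base z = y → (∀ z' : X, f.base z' = y → z ∈ closure {z'} → z' = z) →
      ringKrullDim (X.presheaf.stalk z) = ringKrullDim (Y.presheaf.stalk y)) :
    (fun Z : Set ↥(f.fiber y) => topologicalKrullDim ↥Z) '' irreducibleComponents ↥(f.fiber y) ⊆
      (fun Z : Set ↥(f.fiber (genericPoint Y)) => topologicalKrullDim ↥Z) ''
        irreducibleComponents ↥(f.fiber (genericPoint Y)) := by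
  rintro _ ⟨Z, hZ, rfl⟩
  obtain ⟨x, hxy, hmax, hdimZ⟩ := exists_point_of_mem_irreducibleComponents f y Z hZ
  subst hxy
  have hdim := hb x rfl (fun z' hz' hcl => hmax z' hz' (specializes_iff_mem_closure.mpr hcl))
  obtain ⟨ξ, hfξ, hξmax, htξ⟩ := exists_maximal_over_genericPoint f x hcat hmax hdim
  obtain ⟨Z', hZ', hdimZ'⟩ := exists_mem_irreducibleComponents_of_maximal f (genericPoint Y) ξ hfξ
    (fun x' _ h => hξmax x' h)
  refine ⟨Z', hZ', ?_⟩
  simp only
  rw [hdimZ', hdimZ, htξ]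

theorem topologicalKrullDim_fiber_le_generic (y : Y)
    (hcat : CAlg.IsUniversallyCatenary (Y.presheaf.stalk y))
    (hb : ∀ z : X, f.base z = y → (∀ z' : X, f.base z' = y → z ∈ closure {z'} → z' = z) →
      ringKrullDim (X.presheaf.stalk z) = ringKrullDim (Y.presheaf.stalk y)) :
    topologicalKrullDim ↥(f.fiber y) ≤ topologicalKrullDim ↥(f.fiber (genericPoint Y)) := by
  have hsub := fibre_dims_subset_generic f y hcat hb
  letI : (f.fiber y).Over (Spec (CommRingCat.of (Y.residueField y))) :=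
    ⟨f.fiberToSpecResidueField y⟩
  haveI : LocallyOfFiniteType ((f.fiber y) ↘ Spec (CommRingCat.of (Y.residueField y))) :=
    locallyOfFiniteType_fiberToSpecResidueField f _
  rw [topologicalKrullDim_eq_iSup_trdegNat (Y.residueField y)]
  refine iSup_le fun z => ?_
  have hZ := irreducibleComponent_mem_irreducibleComponents z
  obtain ⟨z₀, hz₀⟩ := QuasiSober.sober hZ.1 (isClosed_of_mem_irreducibleComponents _ hZ)
  have hz₀cl : closure ({z₀} : Set ↥(f.fiber y)) = irreducibleComponent z := hz₀.def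
  have hsp : z₀ ⤳ z := by
    rw [specializes_iff_mem_closure, hz₀cl]
    exact mem_irreducibleComponent
  have h2 := trdegNat_le_of_specializes (Y.residueField y) (f.fiber y) z₀ z hsp
  obtain ⟨Z', hZ', hdimZ'⟩ := hsub ⟨irreducibleComponent z, hZ, rfl⟩
  simp only at hdimZ'
  rw [← hz₀cl, topologicalKrullDim_closure_singleton (Y.residueField y) (f.fiber y) z₀] at hdimZ'
  calc ((trdegNat (Y.residueField y) (f.fiber y) z : ℕ) : WithBot ℕ∞)
      ≤ ((trdegNat (Y.residueField y) (f.fiber y) z₀ : ℕ) : WithBot ℕ∞) := by exact_mod_cast h2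
    _ = topologicalKrullDim Z' := hdimZ'.symm
    _ ≤ _ := topologicalKrullDim_subspace_le _ Z'

end Main

end Groth.Agent.Lib.Helper4.DimFormula
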