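import Mathlib
import Groth.Prelude.Def_EGA43
import Groth.Agent.Lib.Helper4DimFormulaT

/-!
# Equidimensional morphisms: the dimension formula at minimal primes of the local ring (helper4)

* `algebraMapSubmonoid_primeCompl_eq`, `ringKrullDim_quotient_eq_height_map`:
  `dim (B_q / 𝔭) = ht (q / (𝔭 ∩ B))`.
* `fibreDimAt_opens_ι_comp`, `ptTrdeg_opens_ι_comp`: restriction to an open subscheme.
* `fibreDimAt_eq_of_forall_irreducibleComponents`.
* `ringKrullDim_quotient_minimalPrime_of_isEquidimAt` (EGA IV 13.3.6-type formula).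
-/

set_option autoImplicit false
set_option linter.style.haveILetI false

universe u

open AlgebraicGeometry CategoryTheory TopologicalSpace

namespace Groth.Agent.Lib.Helper4.DimFormula

open Groth.Agent.Lib.Helper4.VarDim Groth.Agent.Lib.Helper4.FibDim

section Ring

theorem algebraMapSubmonoid_primeCompl_eq {B : Type*} [CommRing B] (P q : Ideal B) [q.IsPrime]
    (hPq : P ≤ q) [hq' : (q.map (Ideal.Quotient.mk P)).IsPrime] :
    Algebra.algebraMapSubmonoid (B ⧸ P) q.primeCompl = (q.map (Ideal.Quotient.mk P)).primeCompl := by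
  have hcm : (q.map (Ideal.Quotient.mk P)).comap (Ideal.Quotient.mk P) = q := by
    rw [Ideal.comap_map_of_surjective _ Ideal.Quotient.mk_surjective, ← RingHom.ker_eq_comap_bot,
      Ideal.mk_ker, sup_eq_left.mpr hPq]
  ext c
  constructor
  · rintro ⟨b, hb, rfl⟩
    intro hmem
    have : b ∈ (q.map (Ideal.Quotient.mk P)).comap (Ideal.Quotient.mk P) := hmem
    rw [hcm] at this
    exact hb this
  · intro hc
    obtain ⟨b, rfl⟩ := Ideal.Quotient.mk_surjective c
    refine ⟨b, ?_, rfl⟩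
    intro hbq
    exact hc (Ideal.mem_map_of_mem _ hbq)

theorem ringKrullDim_quotient_eq_height_map (B : Type*) [CommRing B] (q : Ideal B) [q.IsPrime]
    (S : Type*) [CommRing S] [Algebra B S] [IsLocalization.AtPrime S q] (𝔭 : Ideal S) [𝔭.IsPrime] :
    𝔭.under B ≤ q ∧
      ringKrullDim (S ⧸ 𝔭) = ((q.map (Ideal.Quotient.mk (𝔭.under B))).height : ℕ∞) := by
  have hPq : 𝔭.under B ≤ q := by
    intro b hb
    by_contra hbq
    have hu : IsUnit (algebraMap B S b) := IsLocalization.map_units S (⟨b, hbq⟩ : q.primeCompl)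
    exact ‹𝔭.IsPrime›.ne_top (Ideal.eq_top_of_isUnit_mem _ hb hu)
  refine ⟨hPq, ?_⟩
  have hmap : (𝔭.under B).map (algebraMap B S) = 𝔭 := IsLocalization.map_under q.primeCompl S 𝔭
  haveI hq' : (q.map (Ideal.Quotient.mk (𝔭.under B))).IsPrime :=
    Ideal.isPrime_map_quotientMk_of_isPrime hPq
  have hloc : IsLocalization (Algebra.algebraMapSubmonoid (B ⧸ 𝔭.under B) q.primeCompl)
      (S ⧸ (𝔭.under B).map (algebraMap B S)) := inferInstance
  rw [algebraMapSubmonoid_primeCompl_eq (𝔭.under B) q hPq] at hloc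
  haveI : IsLocalization.AtPrime (S ⧸ (𝔭.under B).map (algebraMap B S))
      (q.map (Ideal.Quotient.mk (𝔭.under B))) := hloc
  have h1 := IsLocalization.AtPrime.ringKrullDim_eq_height
    (q.map (Ideal.Quotient.mk (𝔭.under B))) (S ⧸ (𝔭.under B).map (algebraMap B S))
  rw [← h1]
  exact ringKrullDim_eq_of_ringEquiv (Ideal.quotEquivOfEq hmap.symm)

end Ring

section Opens

variable {X Y : Scheme.{u}} (f : X ⟶ Y) (U : X.Opens)

theorem fibreDimAt_opens_ι_comp (u : U.toScheme) :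
    FlatMor.fibreDimAt (U.ι ≫ f) u = FlatMor.fibreDimAt f (U.ι u) := by
  have h1 := fibreDimAt_eq_fibLD (U.ι ≫ f) u
  have h2 := fibreDimAt_eq_fibLD f (U.ι u)
  rw [h1, h2]
  exact fibLD_comp_isOpenEmbedding f U.ι U.ι.isOpenEmbedding u

variable [LocallyOfFiniteType f]

theorem ptTrdeg_opens_ι_comp (u : U.toScheme) (hmax : ∀ x' : X, x' ⤳ U.ι u → x' = U.ι u) :
    ptTrdeg (U.ι ≫ f) u = ptTrdeg f (U.ι u) := by
  have h1 := fibreDimAt_opens_ι_comp f U u
  have h2 := fibreDimAt_eq_ptTrdeg_of_maximal (U.ι ≫ f) u (by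
    intro y _ hy
    have := hmax (U.ι y) (hy.map U.ι.continuous)
    exact U.ι.isOpenEmbedding.injective this)
  have h3 := fibreDimAt_eq_ptTrdeg_of_maximal f (U.ι u) (fun y _ hy => hmax y hy)
  rw [h2, h3] at h1
  exact_mod_cast h1

end Opens

section Equi

attribute [local instance] Curv2.resAlgebra

theorem fibreDimAt_eq_of_forall_irreducibleComponents {W Y : Scheme.{u}} (g : W ⟶ Y)
    [LocallyOfFiniteType g] (w : W) (e : ℕ)
    (h : ∀ Z ∈ irreducibleComponents ↥(g.fiber (g.base w)), topologicalKrullDim ↥Z = e) :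
    FlatMor.fibreDimAt g w = e := by
  letI : (g.fiber (g.base w)).Over (Spec (CommRingCat.of (Y.residueField (g.base w)))) :=
    ⟨g.fiberToSpecResidueField (g.base w)⟩
  haveI : LocallyOfFiniteType ((g.fiber (g.base w)) ↘
      Spec (CommRingCat.of (Y.residueField (g.base w)))) :=
    locallyOfFiniteType_fiberToSpecResidueField g _
  apply le_antisymm
  · refine (Groth.Agent.Lib.Helper7.TopDim.localDim_le_dim (g.asFiber w)).trans ?_
    rw [topologicalKrullDim_eq_iSup_trdegNat (Y.residueField (g.base w))]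
    refine iSup_le fun z => ?_
    have hZ := irreducibleComponent_mem_irreducibleComponents z
    obtain ⟨z₀, hz₀⟩ := QuasiSober.sober hZ.1 (isClosed_of_mem_irreducibleComponents _ hZ)
    have hz₀cl : closure ({z₀} : Set ↥(g.fiber (g.base w))) = irreducibleComponent z := hz₀.def
    have hsp : z₀ ⤳ z := by
      rw [specializes_iff_mem_closure, hz₀cl]
      exact mem_irreducibleComponent
    have h2 := trdegNat_le_of_specializes (Y.residueField (g.base w)) (g.fiber (g.base w)) z₀ z hsp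
    have h3 := h _ hZ
    rw [← hz₀cl, topologicalKrullDim_closure_singleton (Y.residueField (g.base w))
      (g.fiber (g.base w)) z₀] at h3
    calc ((trdegNat (Y.residueField (g.base w)) (g.fiber (g.base w)) z : ℕ) : WithBot ℕ∞)
        ≤ ((trdegNat (Y.residueField (g.base w)) (g.fiber (g.base w)) z₀ : ℕ) : WithBot ℕ∞) := by
          exact_mod_cast h2
      _ = _ := h3
  · have hZ := irreducibleComponent_mem_irreducibleComponents (g.asFiber w)
    obtain ⟨z₀, hz₀⟩ := QuasiSober.sober hZ.1 (isClosed_of_mem_irreducibleComponents _ hZ)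
    have hz₀cl : closure ({z₀} : Set ↥(g.fiber (g.base w))) =
        irreducibleComponent (g.asFiber w) := hz₀.def
    have hsp : z₀ ⤳ g.asFiber w := by
      rw [specializes_iff_mem_closure, hz₀cl]
      exact mem_irreducibleComponent
    have hz₀max : ∀ w' : ↥(g.fiber (g.base w)), w' ⤳ z₀ → w' = z₀ := fun w' hw' =>
      eq_of_specializes_generic z₀ w' (by rw [hz₀cl]; exact hZ) hw'
    have hw₀w : g.fiberι (g.base w) z₀ ⤳ w := by
      have := hsp.map (g.fiberι (g.base w)).continuous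
      rwa [g.fiberι_asFiber] at this
    have hgw₀ : g.base (g.fiberι (g.base w) z₀) = g.base w := by
      have : g.fiberι (g.base w) z₀ ∈ Set.range (g.fiberι (g.base w)) := ⟨z₀, rfl⟩
      rw [g.range_fiberι] at this
      exact this
    have hw₀max : ∀ y : W, g.base y = g.base (g.fiberι (g.base w) z₀) →
        y ⤳ g.fiberι (g.base w) z₀ → y = g.fiberι (g.base w) z₀ := by
      intro x' hx' hsp'
      have hx's : g.base x' = g.base w := hx'.trans hgw₀
      have : x' ∈ Set.range (g.fiberι (g.base w)) := by rw [g.range_fiberι]; exact hx's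
      obtain ⟨w', rfl⟩ := this
      have hw : w' ⤳ z₀ := (g.fiberι (g.base w)).isEmbedding.isInducing.specializes_iff.mp hsp'
      rw [hz₀max w' hw]
    have h3 := h _ hZ
    rw [← hz₀cl, topologicalKrullDim_closure_singleton (Y.residueField (g.base w))
      (g.fiber (g.base w)) z₀, trdegNat_eq_ptTrdeg] at h3
    have h4 := fibreDimAt_eq_ptTrdeg_of_maximal g _ hw₀max
    have hopen := isOpen_setOf_fibreDimAt_le' g (FlatMor.fibreDimAt g w)
    have h5 := hw₀w.mem_open hopen (by rw [Set.mem_ofPred_eq])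
    rw [Set.mem_ofPred_eq, h4, h3] at h5
    exact h5

end Equi

section Main

attribute [local instance] Curv2.resAlgebra

theorem stalkMap_germ_eq_germ_appLE {X Y : Scheme.{u}} (f : X ⟶ Y) {U : X.Opens} {V : Y.Opens}
    (e : U ≤ f ⁻¹ᵁ V) (x : X) (hx : x ∈ U) (a : Γ(Y, V)) :
    (f.stalkMap x).hom ((Y.presheaf.germ V (f.base x) (e hx)).hom a) =
      (X.presheaf.germ U x hx).hom ((f.appLE V U e).hom a) := by
  simp only [Scheme.Hom.appLE, CommRingCat.hom_comp, RingHom.coe_comp, Function.comp_apply]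
  erw [Scheme.Hom.germ_stalkMap_apply, X.presheaf.germ_res_apply]

theorem ringKrullDim_quotient_minimalPrime_of_isEquidimAt {X Y : Scheme.{u}}
    [IsLocallyNoetherian Y] (f : X ⟶ Y)
    [LocallyOfFiniteType f] (x : X) (h : EGA43.IsEquidimAt f x)
    (hcat : CAlg.IsUniversallyCatenary (Y.presheaf.stalk (f.base x)))
    (𝔭 : Ideal (X.presheaf.stalk x)) (h𝔭 : 𝔭 ∈ minimalPrimes (X.presheaf.stalk x)) :
    ringKrullDim (X.presheaf.stalk x ⧸ 𝔭) + (ptTrdeg f x : WithBot ℕ∞) =
      ringKrullDim (Y.presheaf.stalk (f.base x) ⧸ 𝔭.comap (f.stalkMap x).hom) +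
        FlatMor.fibreDimAt f x := by
  obtain ⟨e₀, U₀, hxU₀, -, hii⟩ := h
  have hfd : FlatMor.fibreDimAt f x = e₀ := by
    have h1 := fibreDimAt_opens_ι_comp f U₀ ⟨x, hxU₀⟩
    have h2 := fibreDimAt_eq_of_forall_irreducibleComponents (U₀.ι ≫ f) ⟨x, hxU₀⟩ e₀
      (hii ⟨x, hxU₀⟩)
    rw [h1] at h2
    exact h2
  obtain ⟨V, hV, hsV, -⟩ := exists_isAffineOpen_mem_and_subset (U := ⊤) (x := f.base x) (by simp)
  obtain ⟨U, hU, hxU, hUV⟩ := exists_isAffineOpen_mem_and_subset (U := U₀ ⊓ f ⁻¹ᵁ V) (x := x)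
    ⟨hxU₀, hsV⟩
  have e : U ≤ f ⁻¹ᵁ V := hUV.trans inf_le_right
  have hUU₀ : U ≤ U₀ := hUV.trans inf_le_left
  haveI : IsNoetherianRing Γ(Y, V) := IsLocallyNoetherian.component_noetherian ⟨V, hV⟩
  letI : Algebra Γ(Y, V) Γ(X, U) := (f.appLE V U e).hom.toAlgebra
  haveI : Algebra.FiniteType Γ(Y, V) Γ(X, U) := f.finiteType_appLE hV hU e
  haveI : IsNoetherianRing Γ(X, U) := Algebra.FiniteType.isNoetherianRing Γ(Y, V) Γ(X, U)
  set q : Ideal Γ(X, U) := (hU.primeIdealOf ⟨x, hxU⟩).asIdeal with hq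
  set p : Ideal Γ(Y, V) := (hV.primeIdealOf ⟨f.base x, e hxU⟩).asIdeal with hp
  haveI : q.LiesOver p := ⟨(primeIdealOf_comap_appLE f hU hV e x hxU).symm⟩
  haveI : 𝔭.IsPrime := h𝔭.1.1
  -- the chart prime `P`
  haveI := hU.isLocalization_stalk ⟨x, hxU⟩
  letI algX := X.presheaf.algebra_section_stalk (U := U) ⟨x, hxU⟩
  obtain ⟨hPq, hdimX⟩ := ringKrullDim_quotient_eq_height_map Γ(X, U) q (X.presheaf.stalk x) 𝔭
  set P : Ideal Γ(X, U) := 𝔭.under Γ(X, U) with hPdef
  haveI : P.IsPrime := Ideal.comap_isPrime _ _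
  have hmapP : P.map (algebraMap Γ(X, U) (X.presheaf.stalk x)) = 𝔭 :=
    IsLocalization.map_under q.primeCompl (X.presheaf.stalk x) 𝔭
  have hPmin : ∀ P' : Ideal Γ(X, U), P'.IsPrime → P' ≤ P → P' = P := by
    intro P' hP' hle
    have hdisj : Disjoint (q.primeCompl : Set Γ(X, U)) (P' : Set Γ(X, U)) := by
      rw [Set.disjoint_left]
      intro a ha ha'
      exact ha (hPq (hle ha'))
    have hprime := IsLocalization.isPrime_of_isPrime_disjoint q.primeCompl (X.presheaf.stalk x)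
      P' hP' hdisj
    have hle' : P'.map (algebraMap Γ(X, U) (X.presheaf.stalk x)) ≤ 𝔭 := by
      rw [← hmapP]
      exact Ideal.map_mono hle
    have heq : P'.map (algebraMap Γ(X, U) (X.presheaf.stalk x)) = 𝔭 :=
      le_antisymm hle' (h𝔭.2 ⟨hprime, bot_le⟩ hle')
    have := IsLocalization.under_map_of_isPrime_disjoint q.primeCompl (X.presheaf.stalk x) hP' hdisj
    rw [heq] at this
    exact this.symm
  -- the base prime
  haveI := hV.isLocalization_stalk ⟨f.base x, e hxU⟩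
  letI algY := Y.presheaf.algebra_section_stalk (U := V) ⟨f.base x, e hxU⟩
  haveI : (𝔭.comap (f.stalkMap x).hom).IsPrime := Ideal.comap_isPrime _ _
  obtain ⟨hP₀p', hdimY⟩ := ringKrullDim_quotient_eq_height_map Γ(Y, V) p
    (Y.presheaf.stalk (f.base x)) (𝔭.comap (f.stalkMap x).hom)
  have hP₀eq : (𝔭.comap (f.stalkMap x).hom).under Γ(Y, V) = P.under Γ(Y, V) := by
    ext a
    simp only [Ideal.under_def, Ideal.mem_comap]
    have := stalkMap_germ_eq_germ_appLE f e x hxU a
    constructor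
    · intro ha
      change (X.presheaf.germ U x hxU).hom ((f.appLE V U e).hom a) ∈ 𝔭
      rw [← this]
      exact ha
    · intro ha
      change (f.stalkMap x).hom ((Y.presheaf.germ V (f.base x) (e hxU)).hom a) ∈ 𝔭
      rw [this]
      exact ha
  rw [hP₀eq] at hdimY
  -- the point ξ
  set ξ : X := hU.fromSpec ⟨P, inferInstance⟩ with hξ
  have hξU : ξ ∈ U := fromSpec_mem hU _
  have hPξ : hU.primeIdealOf ⟨ξ, hξU⟩ = ⟨P, inferInstance⟩ := primeIdealOf_fromSpec hU _ hξU
  have hPξ' : P = (hU.primeIdealOf ⟨ξ, hξU⟩).asIdeal := by rw [hPξ]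
  have hξmax : ∀ x' : X, x' ⤳ ξ → x' = ξ := by
    intro x' hx'
    have hx'U : x' ∈ U := hx'.mem_open U.2 hξU
    have h1 := (primeIdealOf_le_iff hU x' ξ hx'U hξU).mpr hx'
    rw [hPξ] at h1
    have h2 : (hU.primeIdealOf ⟨x', hx'U⟩).asIdeal = P :=
      hPmin _ (hU.primeIdealOf ⟨x', hx'U⟩).2 h1
    exact primeIdealOf_injective hU x' ξ hx'U hξU (by rw [hPξ]; exact PrimeSpectrum.ext h2)
  have hP₀ : P.under Γ(Y, V) = (hV.primeIdealOf ⟨f.base ξ, e hξU⟩).asIdeal := by
    rw [← primeIdealOf_comap_appLE f hU hV e ξ hξU, ← hPξ']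
    rfl
  have hcat' : CAlg.IsUniversallyCatenary (Localization.AtPrime p) :=
    isUniversallyCatenary_of_ringEquiv
      (IsLocalization.algEquiv p.primeCompl (Y.presheaf.stalk (f.base x))
        (Localization.AtPrime p)).toRingEquiv hcat
  have hnx := trdeg_eq_ptTrdeg f x
  have hnξ := trdeg_eq_ptTrdeg f ξ
  have h1 := height_map_add_eq Γ(Y, V) Γ(X, U) p q P hPq hcat' (ptTrdeg f x) (ptTrdeg f ξ)
    (by rw [← trdeg_residueFieldMap_eq_trdeg_quotient f hU hV e x hxU p q hq hp]; exact hnx)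
    (by
      rw [← trdeg_residueFieldMap_eq_trdeg_quotient f hU hV e ξ hξU (P.under Γ(Y, V)) P hPξ' hP₀]
      exact hnξ)
  -- `ptTrdeg f ξ = e₀`
  have hptξ : ptTrdeg f ξ = e₀ := by
    have hξU₀ : ξ ∈ U₀ := hUU₀ hξU
    have h2 := ptTrdeg_opens_ι_comp f U₀ ⟨ξ, hξU₀⟩ hξmax
    obtain ⟨Z, hZ, hdimZ⟩ := exists_mem_irreducibleComponents_of_maximal (U₀.ι ≫ f)
      ((U₀.ι ≫ f).base ⟨ξ, hξU₀⟩) ⟨ξ, hξU₀⟩ rfl (by
        intro y _ hy
        have := hξmax (U₀.ι y) (hy.map U₀.ι.continuous)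
        exact U₀.ι.isOpenEmbedding.injective this)
    have h3 := hii ⟨ξ, hξU₀⟩ Z hZ
    rw [hdimZ] at h3
    have h4 : ptTrdeg (U₀.ι ≫ f) ⟨ξ, hξU₀⟩ = e₀ := by exact_mod_cast h3
    rw [← h4, h2]
    rfl
  rw [hdimX, hdimY, hfd, ← hptξ]
  exact_mod_cast h1

end Main

end Groth.Agent.Lib.Helper4.DimFormula
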