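import Mathlib
import Groth.Agent.Lib.Helper4DimFormulaF

set_option autoImplicit false
set_option linter.style.haveILetI false

universe u

namespace Groth.Agent.Lib.Helper6.OpenDim

open Groth.Agent.Lib.Helper4.DimFormula

section Height

variable {A : Type*} [CommRing A]

theorem mem_map_mk_iff (P₀ p : Ideal A) (h : P₀ ≤ p) (x : A) :
    Ideal.Quotient.mk P₀ x ∈ p.map (Ideal.Quotient.mk P₀) ↔ x ∈ p :=
  Ideal.mem_quotient_iff_mem h

theorem map_mk_lt (P₀ r p : Ideal A) (h₀ : P₀ ≤ r) (h : r < p) :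
    r.map (Ideal.Quotient.mk P₀) < p.map (Ideal.Quotient.mk P₀) := by
  refine lt_of_le_of_ne (Ideal.map_mono h.le) fun heq => h.ne ?_
  have h1 := congrArg (Ideal.comap (Ideal.Quotient.mk P₀)) heq
  rw [Ideal.comap_map_of_surjective _ Ideal.Quotient.mk_surjective,
    Ideal.comap_map_of_surjective _ Ideal.Quotient.mk_surjective, ← RingHom.ker_eq_comap_bot,
    Ideal.mk_ker, sup_eq_left.mpr h₀, sup_eq_left.mpr (h₀.trans h.le)] at h1
  exact h1

/-- If `p/P₀` has height at most one, then there is no prime strictly between `P₀` and `p`. -/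
theorem eq_or_eq_of_height_le_one (P₀ p : Ideal A) [P₀.IsPrime] [p.IsPrime] (h₀ : P₀ ≤ p)
    (hht : (p.map (Ideal.Quotient.mk P₀)).height ≤ 1) (r : Ideal A) [r.IsPrime] (h1 : P₀ ≤ r)
    (h2 : r ≤ p) : r = P₀ ∨ r = p := by
  by_contra hcon
  push Not at hcon
  obtain ⟨hr0, hrp⟩ := hcon
  haveI : (p.map (Ideal.Quotient.mk P₀)).IsPrime := Ideal.isPrime_map_quotientMk_of_isPrime h₀
  haveI : (r.map (Ideal.Quotient.mk P₀)).IsPrime := Ideal.isPrime_map_quotientMk_of_isPrime h1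
  have hlt : r.map (Ideal.Quotient.mk P₀) < p.map (Ideal.Quotient.mk P₀) :=
    map_mk_lt P₀ r p h1 (lt_of_le_of_ne h2 hrp)
  have hne : r.map (Ideal.Quotient.mk P₀) ≠ ⊥ := by
    intro hbot
    rw [Ideal.map_eq_bot_iff_le_ker, Ideal.mk_ker] at hbot
    exact hr0 (le_antisymm hbot h1)
  have h3 := one_le_height_of_ne_bot _ hne
  have h4 := Ideal.height_add_one_le_of_lt_of_isPrime hlt
  have h5 : (1 : ℕ∞) + 1 ≤ 1 := (add_le_add h3 le_rfl).trans (h4.trans hht)
  exact absurd h5 (by decide)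

/-- Heights drop when the base prime grows. -/
theorem height_map_mk_add_one_le (P₀ p₁ p : Ideal A) [P₀.IsPrime] [p₁.IsPrime] [p.IsPrime]
    (h01 : P₀ < p₁) (h1 : p₁ ≤ p) :
    (p.map (Ideal.Quotient.mk p₁)).height + 1 ≤ (p.map (Ideal.Quotient.mk P₀)).height := by
  haveI : (p.map (Ideal.Quotient.mk p₁)).IsPrime := Ideal.isPrime_map_quotientMk_of_isPrime h1
  have h := height_ker_add_height_le (Ideal.Quotient.factor h01.le)
    (Ideal.Quotient.factor_surjective h01.le) (p.map (Ideal.Quotient.mk p₁))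
  have hker : RingHom.ker (Ideal.Quotient.factor h01.le) = p₁.map (Ideal.Quotient.mk P₀) := by
    ext x
    obtain ⟨x, rfl⟩ := Ideal.Quotient.mk_surjective x
    rw [RingHom.mem_ker, Ideal.Quotient.factor_mk, Ideal.Quotient.eq_zero_iff_mem,
      mem_map_mk_iff P₀ p₁ h01.le]
  have hcomap : (p.map (Ideal.Quotient.mk p₁)).comap (Ideal.Quotient.factor h01.le) =
      p.map (Ideal.Quotient.mk P₀) := by
    ext x
    obtain ⟨x, rfl⟩ := Ideal.Quotient.mk_surjective x
    rw [Ideal.mem_comap, Ideal.Quotient.factor_mk, mem_map_mk_iff p₁ p h1,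
      mem_map_mk_iff P₀ p (h01.le.trans h1)]
  rw [hker, hcomap] at h
  haveI : (p₁.map (Ideal.Quotient.mk P₀)).IsPrime :=
    Ideal.isPrime_map_quotientMk_of_isPrime h01.le
  have hne : p₁.map (Ideal.Quotient.mk P₀) ≠ ⊥ := by
    intro hbot
    rw [Ideal.map_eq_bot_iff_le_ker, Ideal.mk_ker] at hbot
    exact h01.not_ge hbot
  have h3 := one_le_height_of_ne_bot _ hne
  calc (p.map (Ideal.Quotient.mk p₁)).height + 1
      = 1 + (p.map (Ideal.Quotient.mk p₁)).height := add_comm _ _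
    _ ≤ (p₁.map (Ideal.Quotient.mk P₀)).height + (p.map (Ideal.Quotient.mk p₁)).height := by
        gcongr
    _ ≤ _ := h

end Height

section Ineq

variable {A B : Type u} [CommRing A] [CommRing B] [Algebra A B]

/-- Relative dimension inequality: for primes `P ≤ q` of `B`,
`ht(q/P) + trdeg κ(q)/κ(q ∩ A) ≤ ht((q ∩ A)/(P ∩ A)) + trdeg κ(P)/κ(P ∩ A)`. -/
theorem height_map_add_le [IsNoetherianRing A] [Algebra.FiniteType A B] (q : Ideal B) [q.IsPrime]
    (P : Ideal B) [P.IsPrime] (hPq : P ≤ q) (n E : ℕ)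
    (hn : Algebra.trdeg (A ⧸ q.under A) (B ⧸ q) = n)
    (hE : Algebra.trdeg (A ⧸ P.under A) (B ⧸ P) = E) :
    (q.map (Ideal.Quotient.mk P)).height + n ≤
      ((q.under A).map (Ideal.Quotient.mk (P.under A))).height + E := by
  have hP₀ : P.under A ≤ q.under A := Ideal.comap_mono hPq
  haveI : (q.map (Ideal.Quotient.mk P)).IsPrime := Ideal.isPrime_map_quotientMk_of_isPrime hPq
  haveI : ((q.under A).map (Ideal.Quotient.mk (P.under A))).IsPrime :=
    Ideal.isPrime_map_quotientMk_of_isPrime hP₀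
  haveI := liesOver_map_mk (P.under A) (q.under A) P q hPq hP₀
  haveI : Algebra.FiniteType (A ⧸ P.under A) (B ⧸ P) :=
    Algebra.FiniteType.of_restrictScalars_finiteType A (A ⧸ P.under A) (B ⧸ P)
  have h0 := height_add_trdeg_le (A ⧸ P.under A) (B ⧸ P)
    ((q.under A).map (Ideal.Quotient.mk (P.under A))) (q.map (Ideal.Quotient.mk P))
  rw [trdeg_doubleQuot (P.under A) (q.under A) P q hPq hP₀, hn, hE] at h0
  exact_mod_cast h0

theorem exists_trdeg_eq_nat [Algebra.FiniteType A B] (Q : Ideal B) [Q.IsPrime] :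
    ∃ e : ℕ, Algebra.trdeg (A ⧸ Q.under A) (B ⧸ Q) = e := by
  haveI : Algebra.FiniteType (A ⧸ Q.under A) (B ⧸ Q) :=
    Algebra.FiniteType.of_restrictScalars_finiteType A (A ⧸ Q.under A) (B ⧸ Q)
  obtain ⟨n, hn⟩ := Cardinal.lt_aleph0.mp
    (trdeg_lt_aleph0_of_finiteType (R := A ⧸ Q.under A) (S := B ⧸ Q))
  exact ⟨n, hn⟩

/-- The final step: `q₁` lies over a prime `p₁` of height one over `P₀`, and no minimal prime over
`P₀ B` below `q₁` lies over `p₁`. Then some minimal prime over `P₀ B` below `q₁` lies over `P₀` and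
has at least the transcendence degree of `q₁`. -/
theorem final_step [IsNoetherianRing A] [Algebra.FiniteType A B] (P₀ : Ideal A) [P₀.IsPrime]
    (q₁ : Ideal B) [q₁.IsPrime] (hle : P₀ ≤ q₁.under A)
    (hht : ((q₁.under A).map (Ideal.Quotient.mk P₀)).height ≤ 1)
    (hdag : ∀ Q ∈ (P₀.map (algebraMap A B)).minimalPrimes, Q ≤ q₁ → Q.under A ≠ q₁.under A)
    (e₁ : ℕ) (he₁ : Algebra.trdeg (A ⧸ q₁.under A) (B ⧸ q₁) = e₁) :
    ∃ Q : Ideal B, Q.IsPrime ∧ Q ≤ q₁ ∧ Q.under A = P₀ ∧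
      Q ∈ (P₀.map (algebraMap A B)).minimalPrimes ∧
      ∃ e : ℕ, Algebra.trdeg (A ⧸ Q.under A) (B ⧸ Q) = e ∧ e₁ ≤ e := by
  have hmap : P₀.map (algebraMap A B) ≤ q₁ := Ideal.map_le_iff_le_comap.mpr hle
  obtain ⟨Q, hQmin, hQq⟩ := Ideal.exists_minimalPrimes_le hmap
  haveI : Q.IsPrime := hQmin.1.1
  have h1 : P₀ ≤ Q.under A := Ideal.map_le_iff_le_comap.mp hQmin.1.2
  have h2 : Q.under A ≤ q₁.under A := Ideal.comap_mono hQq
  have hQP : Q.under A = P₀ := by
    rcases eq_or_eq_of_height_le_one P₀ (q₁.under A) hle hht (Q.under A) h1 h2 with h | h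
    · exact h
    · exact absurd h (hdag Q hQmin hQq)
  refine ⟨Q, inferInstance, hQq, hQP, hQmin, ?_⟩
  obtain ⟨e, he⟩ := exists_trdeg_eq_nat (A := A) Q
  refine ⟨e, he, ?_⟩
  have h3 := height_map_add_le q₁ Q hQq e₁ e he₁ he
  rw [hQP] at h3
  haveI : (q₁.map (Ideal.Quotient.mk Q)).IsPrime := Ideal.isPrime_map_quotientMk_of_isPrime hQq
  have hne : q₁.map (Ideal.Quotient.mk Q) ≠ ⊥ := by
    intro hbot
    rw [Ideal.map_eq_bot_iff_le_ker, Ideal.mk_ker] at hbot
    have : Q = q₁ := le_antisymm hQq hbot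
    exact hdag Q hQmin hQq (by rw [this])
  have h4 := one_le_height_of_ne_bot _ hne
  have h5 : (1 : ℕ∞) + e₁ ≤ 1 + e :=
    (add_le_add h4 le_rfl).trans (h3.trans (add_le_add hht le_rfl))
  have h6 : 1 + e₁ ≤ 1 + e := by exact_mod_cast h5
  omega

end Ineq

section Induction

variable {A B : Type u} [CommRing A] [CommRing B] [Algebra A B]

theorem base_case (P₀ : Ideal A) (q : Ideal B) [q.IsPrime] (hP : P₀ = q.under A)
    (hmin : ∀ q' : Ideal B, q'.IsPrime → q' ≤ q → q'.under A = q.under A → q' = q)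
    (d : ℕ) (hd : Algebra.trdeg (A ⧸ q.under A) (B ⧸ q) = d) :
    ∃ Q : Ideal B, Q.IsPrime ∧ Q ≤ q ∧ Q.under A = P₀ ∧
      Q ∈ (P₀.map (algebraMap A B)).minimalPrimes ∧
      ∃ e : ℕ, Algebra.trdeg (A ⧸ Q.under A) (B ⧸ Q) = e ∧ d ≤ e := by
  subst hP
  refine ⟨q, inferInstance, le_rfl, rfl, ⟨⟨inferInstance, Ideal.map_comap_le⟩,
    fun Q' hQ' hle => ?_⟩, d, hd, le_rfl⟩
  have h1 : q.under A ≤ Q'.under A := Ideal.map_le_iff_le_comap.mp hQ'.2
  have h2 : Q'.under A ≤ q.under A := Ideal.comap_mono hle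
  exact (hmin Q' hQ'.1 hle (le_antisymm h2 h1)).ge

theorem exists_prime_over_aux [IsNoetherianRing A] [Algebra.FiniteType A B] (n : ℕ) :
    ∀ (P₀ : Ideal A) [P₀.IsPrime] (q : Ideal B) [q.IsPrime],
    ((q.under A).map (Ideal.Quotient.mk P₀)).height ≤ n → P₀ ≤ q.under A →
    (∀ q' : Ideal B, q'.IsPrime → q' ≤ q → q'.under A = q.under A → q' = q) →
    (∀ p' : Ideal A, p'.IsPrime → P₀ ≤ p' → p' ≤ q.under A →
      ∃ q' : Ideal B, q'.IsPrime ∧ q' ≤ q ∧ q'.under A = p') →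
    ∀ d : ℕ, Algebra.trdeg (A ⧸ q.under A) (B ⧸ q) = d →
    ∃ Q : Ideal B, Q.IsPrime ∧ Q ≤ q ∧ Q.under A = P₀ ∧
      Q ∈ (P₀.map (algebraMap A B)).minimalPrimes ∧
      ∃ e : ℕ, Algebra.trdeg (A ⧸ Q.under A) (B ⧸ Q) = e ∧ d ≤ e := by
  haveI : IsNoetherianRing B := Algebra.FiniteType.isNoetherianRing A B
  induction n with
  | zero =>
    intro P₀ _ q _ hht hle hmin _ d hd
    refine base_case P₀ q (le_antisymm hle ?_) hmin d hd
    -- height zero forces `p = P₀`
    haveI : ((q.under A).map (Ideal.Quotient.mk P₀)).IsPrime :=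
      Ideal.isPrime_map_quotientMk_of_isPrime hle
    by_contra hcon
    have hne : (q.under A).map (Ideal.Quotient.mk P₀) ≠ ⊥ := by
      intro hbot
      rw [Ideal.map_eq_bot_iff_le_ker, Ideal.mk_ker] at hbot
      exact hcon hbot
    have h3 := one_le_height_of_ne_bot _ hne
    have h4 : (1 : ℕ∞) ≤ ((0 : ℕ) : ℕ∞) := h3.trans hht
    exact absurd h4 (by simp)
  | succ n ih =>
    intro P₀ _ q _ hht hle hmin hlift d hd
    by_cases hP : P₀ = q.under A
    · exact base_case P₀ q hP hmin d hd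
    have hlt : P₀ < q.under A := lt_of_le_of_ne hle hP
    by_cases h1 : ((q.under A).map (Ideal.Quotient.mk P₀)).height ≤ 1
    · -- `p` has height one over `P₀`
      refine final_step P₀ q hle h1 (fun Q hQmin hQq hQu => ?_) d hd
      have hQ : Q = q := hmin Q hQmin.1.1 hQq hQu
      obtain ⟨q', hq'prime, hq'q, hq'u⟩ := hlift P₀ inferInstance le_rfl hle
      have h2 : P₀.map (algebraMap A B) ≤ q' := Ideal.map_le_iff_le_comap.mpr hq'u.ge
      have h3 : Q ≤ q' := hQmin.2 ⟨hq'prime, h2⟩ (hQ ▸ hq'q)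
      have h4 : q' = q := le_antisymm hq'q (hQ ▸ h3)
      exact hP (by rw [← hq'u, h4])
    · -- choose a height-one prime `p₁` over `P₀` avoiding the bad primes
      classical
      have hfin : ((fun Q : Ideal B => Q.under A) ''
          (P₀.map (algebraMap A B)).minimalPrimes).Finite :=
        (Ideal.finite_minimalPrimes_of_isNoetherianRing B _).image _
      set s : Finset (Ideal A) :=
        insert P₀ (hfin.toFinset.filter (fun r => ¬ q.under A ≤ r)) with hs
      have hsprime : ∀ r ∈ s, r.IsPrime := by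
        intro r hr
        rw [hs, Finset.mem_insert] at hr
        rcases hr with rfl | hr
        · infer_instance
        · rw [Finset.mem_filter, Set.Finite.mem_toFinset] at hr
          obtain ⟨⟨Q, hQ, rfl⟩, -⟩ := hr
          haveI := hQ.1.1
          exact Ideal.IsPrime.under A Q
      have hnot : ¬ ((q.under A : Set A) ⊆ ⋃ r ∈ (↑s : Set (Ideal A)), (r : Set A)) := by
        intro hsub
        obtain ⟨r, hr, hpr⟩ := (Ideal.subset_union_prime (s := s) (f := fun r : Ideal A => r) P₀ P₀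
          (fun r hr _ _ => hsprime r hr) (I := q.under A)).mp hsub
        rw [hs, Finset.mem_insert] at hr
        rcases hr with rfl | hr
        · exact hlt.not_ge hpr
        · rw [Finset.mem_filter] at hr
          exact hr.2 hpr
      obtain ⟨a, hap, hau⟩ := Set.not_subset.mp hnot
      have hau' : ∀ r ∈ s, a ∉ r := by
        intro r hr har
        apply hau
        simp only [Set.mem_iUnion]
        exact ⟨r, hr, har⟩
      have hsup : P₀ ⊔ Ideal.span {a} ≤ q.under A :=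
        sup_le hle ((Ideal.span_singleton_le_iff_mem _).mpr hap)
      obtain ⟨p₁, hp₁min, hp₁p⟩ := Ideal.exists_minimalPrimes_le hsup
      haveI : p₁.IsPrime := hp₁min.1.1
      have hht₁ : (p₁.map (Ideal.Quotient.mk P₀)).height ≤ 1 :=
        Ideal.map_height_le_one_of_mem_minimalPrimes hp₁min
      have hP₀p₁ : P₀ ≤ p₁ := le_sup_left.trans hp₁min.1.2
      have hap₁ : a ∈ p₁ := hp₁min.1.2 (Ideal.mem_sup_right (Ideal.mem_span_singleton_self a))
      have hP₀s : P₀ ∈ s := by rw [hs]; exact Finset.mem_insert_self _ _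
      have hne₁ : P₀ ≠ p₁ := fun h => hau' P₀ hP₀s (h ▸ hap₁)
      have hne₂ : p₁ ≠ q.under A := fun h => h1 (h ▸ hht₁)
      have hnotbad : p₁ ∉ (fun Q : Ideal B => Q.under A) ''
          (P₀.map (algebraMap A B)).minimalPrimes := by
        intro hmem
        have : p₁ ∈ s := by
          rw [hs, Finset.mem_insert, Finset.mem_filter, Set.Finite.mem_toFinset]
          exact Or.inr ⟨hmem, fun h => hne₂ (le_antisymm hp₁p h)⟩
        exact hau' p₁ this hap₁
      have hht' : ((q.under A).map (Ideal.Quotient.mk p₁)).height ≤ n := by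
        have h2 := height_map_mk_add_one_le P₀ p₁ (q.under A) (lt_of_le_of_ne hP₀p₁ hne₁) hp₁p
        have h3 := h2.trans hht
        have h4 : ((n + 1 : ℕ) : ℕ∞) = (n : ℕ∞) + 1 := by push_cast; rfl
        rw [h4] at h3
        exact (ENat.add_le_add_iff_right ENat.one_ne_top).mp h3
      obtain ⟨q₁, hq₁prime, hq₁q, hq₁u, -, e₁, he₁, hde₁⟩ := ih p₁ q hht' hp₁p hmin
        (fun p' hp' h1' h2' => hlift p' hp' (hP₀p₁.trans h1') h2') d hd
      haveI := hq₁prime
      obtain ⟨Q, hQprime, hQq₁, hQu, hQmin, e, he, hee⟩ := final_step P₀ q₁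
        (by rw [hq₁u]; exact hP₀p₁) (by rw [hq₁u]; exact hht₁)
        (fun Q hQmin _ hQu => hnotbad ⟨Q, hQmin, hQu.trans hq₁u⟩) e₁ he₁
      exact ⟨Q, hQprime, hQq₁.trans hq₁q, hQu, hQmin, e, he, hde₁.trans hee⟩

/-- **Key ring-level theorem** (towards EGA IV 14.2.1). `A` Noetherian, `B` of finite type, `q` a
prime of `B` minimal among the primes over `p = q ∩ A`, `P₀ ≤ p` a prime of `A` such that every
prime between `P₀` and `p` lifts to a prime below `q`. Then there is a prime `Q ≤ q` over `P₀`,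
minimal over `P₀ B`, with `trdeg κ(Q)/κ(P₀) ≥ trdeg κ(q)/κ(p)`. -/
theorem exists_prime_over [IsNoetherianRing A] [Algebra.FiniteType A B]
    (P₀ : Ideal A) [P₀.IsPrime] (q : Ideal B) [q.IsPrime] (hle : P₀ ≤ q.under A)
    (hmin : ∀ q' : Ideal B, q'.IsPrime → q' ≤ q → q'.under A = q.under A → q' = q)
    (hlift : ∀ p' : Ideal A, p'.IsPrime → P₀ ≤ p' → p' ≤ q.under A →
      ∃ q' : Ideal B, q'.IsPrime ∧ q' ≤ q ∧ q'.under A = p')
    (d : ℕ) (hd : Algebra.trdeg (A ⧸ q.under A) (B ⧸ q) = d) :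
    ∃ Q : Ideal B, Q.IsPrime ∧ Q ≤ q ∧ Q.under A = P₀ ∧
      Q ∈ (P₀.map (algebraMap A B)).minimalPrimes ∧
      ∃ e : ℕ, Algebra.trdeg (A ⧸ Q.under A) (B ⧸ Q) = e ∧ d ≤ e := by
  haveI : ((q.under A).map (Ideal.Quotient.mk P₀)).IsPrime :=
    Ideal.isPrime_map_quotientMk_of_isPrime hle
  obtain ⟨n, hn⟩ := ENat.ne_top_iff_exists.mp
    (Ideal.height_ne_top_of_isPrime (I := (q.under A).map (Ideal.Quotient.mk P₀)))
  exact exists_prime_over_aux n P₀ q hn.ge hle hmin hlift d hd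

end Induction

end Groth.Agent.Lib.Helper6.OpenDim
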