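import Mathlib
import Groth.Agent.Lib.Helper4DimFormulaU
import Groth.Agent.Lib.Helper4DimFormulaAA
import Groth.Agent.Lib.Helper6OpenDimA

/-!
# The relative dimension formula at a prime of the local ring (helper4)

For `f : X ⟶ Y` locally of finite type, `Y` locally Noetherian, `x : X`, and a prime `𝔭` of `O_{X,x}`
with corresponding point `ξ` (a generization of `x`):

* `ringKrullDim_quotient_add_ptTrdeg_le`:
  `dim O_{X,x}/𝔭 + trdeg κ(x)/κ(f x) ≤ dim O_{Y,f x}/(𝔭 ∩ O_{Y,f x}) + trdeg κ(ξ)/κ(f ξ)`;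
* `ringKrullDim_quotient_add_ptTrdeg_eq`: equality when `O_{Y,f x}` is universally catenary.
* `fibreDimAt_eq_stalk_add_ptTrdeg`: `dim_x X_y = dim O_{X_y,x} + trdeg κ(x)/κ(y)`.
-/

set_option autoImplicit false
set_option linter.style.haveILetI false

universe u

open AlgebraicGeometry CategoryTheory TopologicalSpace

namespace Groth.Agent.Lib.Helper4.DimFormula

open Groth.Agent.Lib.Helper4.VarDim Groth.Agent.Lib.Helper4.FibDim

attribute [local instance] Curv2.resAlgebra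

theorem trdeg_quotient_congr {A B : Type*} [CommRing A] [CommRing B] [Algebra A B]
    (p p' : Ideal A) (q : Ideal B) [q.LiesOver p] [q.LiesOver p'] (h : p = p') :
    Algebra.trdeg (A ⧸ p) (B ⧸ q) = Algebra.trdeg (A ⧸ p') (B ⧸ q) := by
  subst h
  rfl

theorem ringKrullDim_quotient_add_ptTrdeg_aux {X Y : Scheme.{u}}
    [IsLocallyNoetherian Y] (f : X ⟶ Y)
    [LocallyOfFiniteType f] (x : X)
    (𝔭 : Ideal (X.presheaf.stalk x)) [h𝔭 : 𝔭.IsPrime] :
    (ringKrullDim (X.presheaf.stalk x ⧸ 𝔭) + (ptTrdeg f x : WithBot ℕ∞) ≤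
      ringKrullDim (Y.presheaf.stalk (f.base x) ⧸ 𝔭.comap (f.stalkMap x).hom) +
        (ptTrdeg f (X.fromSpecStalk x ⟨𝔭, h𝔭⟩) : WithBot ℕ∞)) ∧
    (CAlg.IsUniversallyCatenary (Y.presheaf.stalk (f.base x)) →
      ringKrullDim (X.presheaf.stalk x ⧸ 𝔭) + (ptTrdeg f x : WithBot ℕ∞) =
      ringKrullDim (Y.presheaf.stalk (f.base x) ⧸ 𝔭.comap (f.stalkMap x).hom) +
        (ptTrdeg f (X.fromSpecStalk x ⟨𝔭, h𝔭⟩) : WithBot ℕ∞)) := by
  obtain ⟨V, hV, hsV, -⟩ := exists_isAffineOpen_mem_and_subset (U := ⊤) (x := f.base x) (by simp)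
  obtain ⟨U, hU, hxU, hUV⟩ := exists_isAffineOpen_mem_and_subset (U := f ⁻¹ᵁ V) (x := x) hsV
  have e : U ≤ f ⁻¹ᵁ V := hUV
  haveI : IsNoetherianRing Γ(Y, V) := IsLocallyNoetherian.component_noetherian ⟨V, hV⟩
  letI : Algebra Γ(Y, V) Γ(X, U) := (f.appLE V U e).hom.toAlgebra
  haveI : Algebra.FiniteType Γ(Y, V) Γ(X, U) := f.finiteType_appLE hV hU e
  haveI : IsNoetherianRing Γ(X, U) := Algebra.FiniteType.isNoetherianRing Γ(Y, V) Γ(X, U)
  set q : Ideal Γ(X, U) := (hU.primeIdealOf ⟨x, hxU⟩).asIdeal with hq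
  set p : Ideal Γ(Y, V) := (hV.primeIdealOf ⟨f.base x, e hxU⟩).asIdeal with hp
  haveI hqp : q.LiesOver p := ⟨(primeIdealOf_comap_appLE f hU hV e x hxU).symm⟩
  have hqu : q.under Γ(Y, V) = p := hqp.over.symm
  -- the chart prime `P`
  haveI := hU.isLocalization_stalk ⟨x, hxU⟩
  letI algX := X.presheaf.algebra_section_stalk (U := U) ⟨x, hxU⟩
  obtain ⟨hPq, hdimX⟩ := ringKrullDim_quotient_eq_height_map Γ(X, U) q (X.presheaf.stalk x) 𝔭
  set P : Ideal Γ(X, U) := 𝔭.under Γ(X, U) with hPdef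
  haveI : P.IsPrime := Ideal.comap_isPrime _ _
  -- the base prime
  haveI := hV.isLocalization_stalk ⟨f.base x, e hxU⟩
  letI algY := Y.presheaf.algebra_section_stalk (U := V) ⟨f.base x, e hxU⟩
  haveI : (𝔭.comap (f.stalkMap x).hom).IsPrime := Ideal.comap_isPrime _ _
  obtain ⟨hP₀p', hdimY⟩ := ringKrullDim_quotient_eq_height_map Γ(Y, V) p
    (Y.presheaf.stalk (f.base x)) (𝔭.comap (f.stalkMap x).hom)
  have hP₀eq : (𝔭.comap (f.stalkMap x).hom).under Γ(Y, V) = P.under Γ(Y, V) := by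
    ext a
    simp only [Ideal.under_def, Ideal.mem_comap]
    have := stalkMap_germ_eq_germ_appLE f e x hxU a
    constructor
    · intro ha
      change (X.presheaf.germ U x hxU).hom ((f.appLE V U e).hom a) ∈ 𝔭
      rw [← this]
      exact ha
    · intro ha
      change (f.stalkMap x).hom ((Y.presheaf.germ V (f.base x) (e hxU)).hom a) ∈ 𝔭
      rw [this]
      exact ha
  rw [hP₀eq] at hdimY
  -- the point ξ
  have hξeq : X.fromSpecStalk x ⟨𝔭, h𝔭⟩ = hU.fromSpec ⟨P, inferInstance⟩ := by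
    rw [← hU.fromSpecStalk_eq_fromSpecStalk hxU]
    rfl
  rw [hξeq]
  set ξ : X := hU.fromSpec ⟨P, inferInstance⟩ with hξ
  have hξU : ξ ∈ U := fromSpec_mem hU _
  have hPξ : hU.primeIdealOf ⟨ξ, hξU⟩ = ⟨P, inferInstance⟩ := primeIdealOf_fromSpec hU _ hξU
  have hPξ' : P = (hU.primeIdealOf ⟨ξ, hξU⟩).asIdeal := by rw [hPξ]
  have hP₀ : P.under Γ(Y, V) = (hV.primeIdealOf ⟨f.base ξ, e hξU⟩).asIdeal := by
    rw [← primeIdealOf_comap_appLE f hU hV e ξ hξU, ← hPξ']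
    rfl
  have hnx := trdeg_eq_ptTrdeg f x
  have hnξ := trdeg_eq_ptTrdeg f ξ
  have hn1 : Algebra.trdeg (Γ(Y, V) ⧸ p) (Γ(X, U) ⧸ q) = (ptTrdeg f x : Cardinal.{u}) := by
    rw [← trdeg_residueFieldMap_eq_trdeg_quotient f hU hV e x hxU p q hq hp]; exact hnx
  have hn2 : Algebra.trdeg (Γ(Y, V) ⧸ P.under Γ(Y, V)) (Γ(X, U) ⧸ P) =
      (ptTrdeg f ξ : Cardinal.{u}) := by
    rw [← trdeg_residueFieldMap_eq_trdeg_quotient f hU hV e ξ hξU (P.under Γ(Y, V)) P hPξ' hP₀]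
    exact hnξ
  rw [hdimX, hdimY]
  constructor
  · have h1 := Groth.Agent.Lib.Helper6.OpenDim.height_map_add_le (A := Γ(Y, V)) (B := Γ(X, U)) q P hPq
      (ptTrdeg f x) (ptTrdeg f ξ) (by rw [← hn1]; exact trdeg_quotient_congr _ _ q hqu) hn2
    rw [hqu] at h1
    exact_mod_cast h1
  · intro hcat
    have hcat' : CAlg.IsUniversallyCatenary (Localization.AtPrime p) :=
      isUniversallyCatenary_of_ringEquiv
        (IsLocalization.algEquiv p.primeCompl (Y.presheaf.stalk (f.base x))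
          (Localization.AtPrime p)).toRingEquiv hcat
    have h1 := height_map_add_eq Γ(Y, V) Γ(X, U) p q P hPq hcat' (ptTrdeg f x) (ptTrdeg f ξ) hn1 hn2
    exact_mod_cast h1

theorem ringKrullDim_quotient_add_ptTrdeg_le {X Y : Scheme.{u}}
    [IsLocallyNoetherian Y] (f : X ⟶ Y)
    [LocallyOfFiniteType f] (x : X)
    (𝔭 : Ideal (X.presheaf.stalk x)) [h𝔭 : 𝔭.IsPrime] :
    ringKrullDim (X.presheaf.stalk x ⧸ 𝔭) + (ptTrdeg f x : WithBot ℕ∞) ≤
      ringKrullDim (Y.presheaf.stalk (f.base x) ⧸ 𝔭.comap (f.stalkMap x).hom) +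
        (ptTrdeg f (X.fromSpecStalk x ⟨𝔭, h𝔭⟩) : WithBot ℕ∞) :=
  (ringKrullDim_quotient_add_ptTrdeg_aux f x 𝔭).1

theorem ringKrullDim_quotient_add_ptTrdeg_eq {X Y : Scheme.{u}}
    [IsLocallyNoetherian Y] (f : X ⟶ Y)
    [LocallyOfFiniteType f] (x : X)
    (hcat : CAlg.IsUniversallyCatenary (Y.presheaf.stalk (f.base x)))
    (𝔭 : Ideal (X.presheaf.stalk x)) [h𝔭 : 𝔭.IsPrime] :
    ringKrullDim (X.presheaf.stalk x ⧸ 𝔭) + (ptTrdeg f x : WithBot ℕ∞) =
      ringKrullDim (Y.presheaf.stalk (f.base x) ⧸ 𝔭.comap (f.stalkMap x).hom) +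
        (ptTrdeg f (X.fromSpecStalk x ⟨𝔭, h𝔭⟩) : WithBot ℕ∞) :=
  (ringKrullDim_quotient_add_ptTrdeg_aux f x 𝔭).2 hcat

/-- `dim_x X_y = dim O_{X_y,x} + trdeg κ(x)/κ(y)`. -/
theorem fibreDimAt_eq_stalk_add_ptTrdeg {X Y : Scheme.{u}} (f : X ⟶ Y) [LocallyOfFiniteType f]
    (x : X) :
    FlatMor.fibreDimAt f x =
      ringKrullDim ((f.fiber (f.base x)).presheaf.stalk (f.asFiber x)) +
        (ptTrdeg f x : WithBot ℕ∞) := by
  letI : (f.fiber (f.base x)).Over (Spec (CommRingCat.of (Y.residueField (f.base x)))) :=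
    ⟨f.fiberToSpecResidueField (f.base x)⟩
  haveI : LocallyOfFiniteType ((f.fiber (f.base x)) ↘
      Spec (CommRingCat.of (Y.residueField (f.base x)))) :=
    locallyOfFiniteType_fiberToSpecResidueField f _
  obtain ⟨b, hb⟩ := exists_ringKrullDim_stalk_eq (Y.residueField (f.base x)) (f.fiber (f.base x))
    (f.asFiber x)
  have ha' := trdeg_eq_trdegNat (Y.residueField (f.base x)) (f.fiber (f.base x)) (f.asFiber x)
  have h1 : FlatMor.fibreDimAt f x = ((ptTrdeg f x + b : ℕ) : WithBot ℕ∞) :=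
    localDim_eq_add (Y.residueField (f.base x)) (f.fiber (f.base x)) (f.asFiber x) _ b ha' hb
  rw [h1, hb]
  push_cast
  rw [add_comm]

end Groth.Agent.Lib.Helper4.DimFormula
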