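import Mathlib
import Groth.Agent.Lib.Helper4DimFormulaAD

/-!
# Primes of the local ring `O_{X,x}` and generizations of `x` (helper4)

Ring lemmas:
* `ringKrullDim_quotient_eq_coheight'`, `ringKrullDim_quotient_eq_of_forall_le`,
  `height_add_ringKrullDim_quotient_le'`, `exists_minimalPrimes_ringKrullDim_quotient_eq`.

Scheme lemmas (for a prime `𝔭` of `O_{X,x}` with point `ξ = X.fromSpecStalk x ⟨𝔭, _⟩`):
* `exists_prime_fromSpecStalk_eq`, `fromSpecStalk_specializes_iff`, `fromSpecStalk_specializes`,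
  `fromSpecStalk_comap_stalkMap`;
* `mem_minimalPrimes_iff_fromSpecStalk_maximal`;
* `height_eq_ringKrullDim_stalk_fromSpecStalk`: `ht 𝔭 = dim O_{X,ξ}`;
* `ringKrullDim_stalk_add_quotient_le`: `dim O_{X,ξ} + dim O_{X,x}/𝔭 ≤ dim O_{X,x}`;
* `ringKrullDim_quotient_eq_of_forall_specializes`.
-/

set_option autoImplicit false
set_option linter.style.haveILetI false

universe u

open AlgebraicGeometry CategoryTheory TopologicalSpace IsLocalRing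

namespace Groth.Agent.Lib.Helper4.DimFormula

open Groth.Agent.Lib.Helper4.VarDim Groth.Agent.Lib.Helper4.FibDim

section Ring

variable {R : Type*} [CommRing R]

theorem ringKrullDim_quotient_eq_coheight' (q : PrimeSpectrum R) :
    ringKrullDim (R ⧸ q.asIdeal) = ((Order.coheight q : ℕ∞) : WithBot ℕ∞) := by
  rw [ringKrullDim_quotient, Order.coheight_eq_krullDim_Ici]
  have h : PrimeSpectrum.zeroLocus (q.asIdeal : Set R) = Set.Ici q := by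
    ext p
    rw [PrimeSpectrum.mem_zeroLocus, Set.mem_Ici, SetLike.coe_subset_coe,
      PrimeSpectrum.asIdeal_le_asIdeal]
  rw [h]

theorem ringKrullDim_quotient_eq_of_forall_le (𝔭 : Ideal R) [h𝔭 : 𝔭.IsPrime]
    (h : ∀ 𝔮 : Ideal R, 𝔮.IsPrime → 𝔭 ≤ 𝔮) : ringKrullDim (R ⧸ 𝔭) = ringKrullDim R := by
  refine le_antisymm (ringKrullDim_quotient_le _) ?_
  have h1 := ringKrullDim_quotient_eq_coheight' (⟨𝔭, h𝔭⟩ : PrimeSpectrum R)
  change ringKrullDim (R ⧸ 𝔭) = _ at h1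
  rw [h1, ringKrullDim, Order.krullDim_eq_iSup_coheight]
  haveI : Nonempty (PrimeSpectrum R) := ⟨⟨𝔭, h𝔭⟩⟩
  rw [← WithBot.coe_iSup (OrderTop.bddAbove _)]
  refine WithBot.coe_le_coe.mpr (iSup_le fun q => ?_)
  exact Order.coheight_anti (show (⟨𝔭, h𝔭⟩ : PrimeSpectrum R) ≤ q from h q.asIdeal q.2)

theorem height_add_ringKrullDim_quotient_le' (𝔭 : Ideal R) [h𝔭 : 𝔭.IsPrime] :
    ((𝔭.height : ℕ∞) : WithBot ℕ∞) + ringKrullDim (R ⧸ 𝔭) ≤ ringKrullDim R := by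
  have h1 := ringKrullDim_quotient_eq_coheight' (⟨𝔭, h𝔭⟩ : PrimeSpectrum R)
  change ringKrullDim (R ⧸ 𝔭) = _ at h1
  haveI : Nonempty (PrimeSpectrum R) := ⟨⟨𝔭, h𝔭⟩⟩
  rw [h1, ringKrullDim, Order.krullDim_eq_iSup_height_add_coheight_of_nonempty,
    PrimeSpectrum.height_eq_orderHeight ⟨𝔭, h𝔭⟩, ← WithBot.coe_add, WithBot.coe_le_coe]
  exact le_iSup (fun a : PrimeSpectrum R => Order.height a + Order.coheight a) ⟨𝔭, h𝔭⟩

theorem exists_minimalPrimes_ringKrullDim_quotient_eq [IsLocalRing R] [IsNoetherianRing R] :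
    ∃ 𝔭 ∈ minimalPrimes R, ringKrullDim (R ⧸ 𝔭) = ringKrullDim R := by
  obtain ⟨P, hP, hPm, hle⟩ := exists_minimalPrimes_height_le (maximalIdeal R)
  refine ⟨P, hP, le_antisymm (ringKrullDim_quotient_le _) ?_⟩
  haveI := hP.1.1
  haveI : ((maximalIdeal R).map (Ideal.Quotient.mk P)).IsPrime :=
    Ideal.isPrime_map_quotientMk_of_isPrime hPm
  rw [← IsLocalRing.maximalIdeal_height_eq_ringKrullDim]
  refine le_trans (WithBot.coe_le_coe.mpr hle) ?_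
  exact Ideal.height_le_ringKrullDim_of_ne_top (Ideal.IsPrime.ne_top inferInstance)

end Ring

section Sch

variable {X Y : Scheme.{u}}

theorem exists_prime_fromSpecStalk_eq {ξ x : X} (h : ξ ⤳ x) :
    ∃ (𝔭 : Ideal (X.presheaf.stalk x)) (h𝔭 : 𝔭.IsPrime), X.fromSpecStalk x ⟨𝔭, h𝔭⟩ = ξ := by
  have : ξ ∈ Set.range (X.fromSpecStalk x) := by rw [Scheme.range_fromSpecStalk]; exact h
  obtain ⟨⟨𝔭, h𝔭⟩, rfl⟩ := this
  exact ⟨𝔭, h𝔭, rfl⟩

theorem fromSpecStalk_specializes (x : X) (q : Spec (X.presheaf.stalk x)) :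
    X.fromSpecStalk x q ⤳ x := by
  have : X.fromSpecStalk x q ∈ Set.range (X.fromSpecStalk x) := ⟨q, rfl⟩
  rw [Scheme.range_fromSpecStalk] at this
  exact this

theorem fromSpecStalk_specializes_iff (x : X) (𝔭 𝔮 : Ideal (X.presheaf.stalk x)) [h𝔭 : 𝔭.IsPrime]
    [h𝔮 : 𝔮.IsPrime] :
    X.fromSpecStalk x ⟨𝔭, h𝔭⟩ ⤳ X.fromSpecStalk x ⟨𝔮, h𝔮⟩ ↔ 𝔭 ≤ 𝔮 := by
  exact (X.fromSpecStalk x).isEmbedding.isInducing.specializes_iff.trans
    (PrimeSpectrum.le_iff_specializes (⟨𝔭, h𝔭⟩ : PrimeSpectrum (X.presheaf.stalk x))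
      ⟨𝔮, h𝔮⟩).symm

theorem fromSpecStalk_injective (x : X) (𝔭 𝔮 : Ideal (X.presheaf.stalk x)) [h𝔭 : 𝔭.IsPrime]
    [h𝔮 : 𝔮.IsPrime] (h : X.fromSpecStalk x ⟨𝔭, h𝔭⟩ = X.fromSpecStalk x ⟨𝔮, h𝔮⟩) : 𝔭 = 𝔮 := by
  have := (X.fromSpecStalk x).isEmbedding.injective h
  exact congrArg PrimeSpectrum.asIdeal this

theorem base_fromSpecStalk (f : X ⟶ Y) (x : X) (q : Spec (X.presheaf.stalk x)) :
    f.base (X.fromSpecStalk x q) = Y.fromSpecStalk (f.base x) (Spec.map (f.stalkMap x) q) := by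
  rw [← Scheme.Hom.comp_apply, ← Scheme.Hom.comp_apply, Scheme.SpecMap_stalkMap_fromSpecStalk]

theorem fromSpecStalk_comap_stalkMap (f : X ⟶ Y) (x : X) (𝔭 : Ideal (X.presheaf.stalk x))
    [h𝔭 : 𝔭.IsPrime] :
    Y.fromSpecStalk (f.base x) ⟨𝔭.comap (f.stalkMap x).hom, Ideal.comap_isPrime _ _⟩ =
      f.base (X.fromSpecStalk x ⟨𝔭, h𝔭⟩) :=
  (base_fromSpecStalk f x ⟨𝔭, h𝔭⟩).symm

theorem mem_minimalPrimes_iff_fromSpecStalk_maximal (x : X) (𝔭 : Ideal (X.presheaf.stalk x))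
    [h𝔭 : 𝔭.IsPrime] :
    𝔭 ∈ minimalPrimes (X.presheaf.stalk x) ↔
      ∀ x' : X, x' ⤳ X.fromSpecStalk x ⟨𝔭, h𝔭⟩ → x' = X.fromSpecStalk x ⟨𝔭, h𝔭⟩ := by
  constructor
  · intro hmin x' hx'
    obtain ⟨𝔮, h𝔮, rfl⟩ := exists_prime_fromSpecStalk_eq
      (hx'.trans (fromSpecStalk_specializes x ⟨𝔭, h𝔭⟩))
    have hle : 𝔮 ≤ 𝔭 := (fromSpecStalk_specializes_iff x 𝔮 𝔭).mp hx'
    have : 𝔮 = 𝔭 := le_antisymm hle (hmin.2 ⟨h𝔮, bot_le⟩ hle)
    subst this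
    rfl
  · intro hmax
    refine ⟨⟨h𝔭, bot_le⟩, fun 𝔮 h𝔮 hle => ?_⟩
    haveI := h𝔮.1
    have := hmax _ ((fromSpecStalk_specializes_iff x 𝔮 𝔭).mpr hle)
    exact (fromSpecStalk_injective x 𝔮 𝔭 this).ge

theorem height_eq_ringKrullDim_stalk_fromSpecStalk (x : X) (𝔭 : Ideal (X.presheaf.stalk x))
    [h𝔭 : 𝔭.IsPrime] :
    ((𝔭.height : ℕ∞) : WithBot ℕ∞) =
      ringKrullDim (X.presheaf.stalk (X.fromSpecStalk x ⟨𝔭, h𝔭⟩)) := by
  obtain ⟨U, hU, hxU, -⟩ := exists_isAffineOpen_mem_and_subset (U := ⊤) (x := x) (by simp)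
  set q : Ideal Γ(X, U) := (hU.primeIdealOf ⟨x, hxU⟩).asIdeal with hq
  haveI := hU.isLocalization_stalk ⟨x, hxU⟩
  letI algX := X.presheaf.algebra_section_stalk (U := U) ⟨x, hxU⟩
  set P : Ideal Γ(X, U) := 𝔭.under Γ(X, U) with hPdef
  haveI : P.IsPrime := Ideal.comap_isPrime _ _
  have hPq : P ≤ q := by
    intro b hb
    by_contra hbq
    have hu : IsUnit (algebraMap Γ(X, U) (X.presheaf.stalk x) b) :=
      IsLocalization.map_units (X.presheaf.stalk x) (⟨b, hbq⟩ : q.primeCompl)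
    exact h𝔭.ne_top (Ideal.eq_top_of_isUnit_mem _ hb hu)
  have hmapP : P.map (algebraMap Γ(X, U) (X.presheaf.stalk x)) = 𝔭 :=
    IsLocalization.map_under q.primeCompl (X.presheaf.stalk x) 𝔭
  have hdisj : Disjoint (q.primeCompl : Set Γ(X, U)) (P : Set Γ(X, U)) := by
    rw [Set.disjoint_left]
    intro a ha ha'
    exact ha (hPq ha')
  have hht : 𝔭.height = P.height := by
    rw [← hmapP]
    exact IsLocalization.height_map_of_disjoint q.primeCompl P hdisj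
  have hξeq : X.fromSpecStalk x ⟨𝔭, h𝔭⟩ = hU.fromSpec ⟨P, inferInstance⟩ := by
    rw [← hU.fromSpecStalk_eq_fromSpecStalk hxU]
    rfl
  rw [hξeq]
  set ξ : X := hU.fromSpec ⟨P, inferInstance⟩ with hξ
  have hξU : ξ ∈ U := fromSpec_mem hU _
  have hPξ : hU.primeIdealOf ⟨ξ, hξU⟩ = ⟨P, inferInstance⟩ := primeIdealOf_fromSpec hU _ hξU
  rw [ringKrullDim_stalk_eq_height hU ξ hξU, hPξ, hht]

theorem ringKrullDim_stalk_add_quotient_le (x : X) (𝔭 : Ideal (X.presheaf.stalk x))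
    [h𝔭 : 𝔭.IsPrime] :
    ringKrullDim (X.presheaf.stalk (X.fromSpecStalk x ⟨𝔭, h𝔭⟩)) +
      ringKrullDim (X.presheaf.stalk x ⧸ 𝔭) ≤ ringKrullDim (X.presheaf.stalk x) := by
  rw [← height_eq_ringKrullDim_stalk_fromSpecStalk]
  exact height_add_ringKrullDim_quotient_le' 𝔭

theorem ringKrullDim_quotient_eq_of_forall_specializes (x : X) (𝔭 : Ideal (X.presheaf.stalk x))
    [h𝔭 : 𝔭.IsPrime] (h : ∀ x' : X, x' ⤳ x → X.fromSpecStalk x ⟨𝔭, h𝔭⟩ ⤳ x') :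
    ringKrullDim (X.presheaf.stalk x ⧸ 𝔭) = ringKrullDim (X.presheaf.stalk x) := by
  refine ringKrullDim_quotient_eq_of_forall_le 𝔭 fun 𝔮 h𝔮 => ?_
  exact (fromSpecStalk_specializes_iff x 𝔭 𝔮).mp (h _ (fromSpecStalk_specializes x ⟨𝔮, h𝔮⟩))

end Sch

end Groth.Agent.Lib.Helper4.DimFormula
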