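import Mathlib
import Groth.Agent.Lib.Helper4DimFormulaAE
import Groth.Agent.Lib.Helper4DimFormulaK

/-!
# The dimension formula for dominant morphisms of irreducible schemes (helper4)

* `withBot_enat_add_nat_cancel`, `withBot_enat_add_nat_le_cancel`.
* `ringKrullDim_stalk_add_ptTrdeg_eq_of_irreducible`: `X`, `Y` irreducible, `f` dominant l.f.t.,
  `O_{Y,f x}` universally catenary ⟹ `dim O_{X,x} + trdeg κ(x)/κ(f x) = dim O_{Y,f x} + trdeg K(X)/K(Y)`.
* `ringKrullDim_stalk_eq_add_of_fibreDimAt_eq_generic` (EGA IV 13.3.x / S3391).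
-/

set_option autoImplicit false
set_option linter.style.haveILetI false

universe u

open AlgebraicGeometry CategoryTheory TopologicalSpace IsLocalRing

namespace Groth.Agent.Lib.Helper4.DimFormula

open Groth.Agent.Lib.Helper4.VarDim Groth.Agent.Lib.Helper4.FibDim

theorem withBot_enat_add_nat_le_cancel {a b : WithBot ℕ∞} (n : ℕ)
    (h : a + (n : WithBot ℕ∞) ≤ b + (n : WithBot ℕ∞)) : a ≤ b := by
  induction a with
  | bot => exact bot_le
  | coe a =>
    induction b with
    | bot =>
      exfalso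
      rw [WithBot.bot_add] at h
      have : ((a + (n : ℕ∞) : ℕ∞) : WithBot ℕ∞) ≤ ⊥ := by exact_mod_cast h
      exact WithBot.coe_ne_bot (le_bot_iff.mp this)
    | coe b =>
      have h' : a + (n : ℕ∞) ≤ b + (n : ℕ∞) := by exact_mod_cast h
      have : a ≤ b := (ENat.add_le_add_iff_right (by simp)).mp h'
      exact_mod_cast this

theorem withBot_enat_add_nat_cancel {a b : WithBot ℕ∞} (n : ℕ)
    (h : a + (n : WithBot ℕ∞) = b + (n : WithBot ℕ∞)) : a = b :=
  le_antisymm (withBot_enat_add_nat_le_cancel n h.le) (withBot_enat_add_nat_le_cancel n h.ge)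

variable {X Y : Scheme.{u}} [IrreducibleSpace X] [IrreducibleSpace Y] [IsLocallyNoetherian Y]
  (f : X ⟶ Y) [LocallyOfFiniteType f] [IsDominant f]

theorem ringKrullDim_stalk_add_ptTrdeg_eq_of_irreducible (x : X)
    (hcat : CAlg.IsUniversallyCatenary (Y.presheaf.stalk (f.base x))) :
    ringKrullDim (X.presheaf.stalk x) + (ptTrdeg f x : WithBot ℕ∞) =
      ringKrullDim (Y.presheaf.stalk (f.base x)) + (genTrdeg f : WithBot ℕ∞) := by
  obtain ⟨𝔭, h𝔭, hξ⟩ := exists_prime_fromSpecStalk_eq (genericPoint_specializes x)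
  have h1 := ringKrullDim_quotient_add_ptTrdeg_eq f x hcat 𝔭
  have h2 : ringKrullDim (X.presheaf.stalk x ⧸ 𝔭) = ringKrullDim (X.presheaf.stalk x) :=
    ringKrullDim_quotient_eq_of_forall_specializes x 𝔭 (fun x' _ => by
      rw [hξ]
      exact genericPoint_specializes x')
  have h3 : ringKrullDim (Y.presheaf.stalk (f.base x) ⧸ 𝔭.comap (f.stalkMap x).hom) =
      ringKrullDim (Y.presheaf.stalk (f.base x)) :=
    ringKrullDim_quotient_eq_of_forall_specializes (f.base x) (𝔭.comap (f.stalkMap x).hom)
      (fun y' _ => by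
        rw [fromSpecStalk_comap_stalkMap, hξ, base_genericPoint_eq' f]
        exact genericPoint_specializes y')
  rw [h2, h3, hξ] at h1
  exact h1

/-- EGA IV 13.3.x: if the local dimension of the fibre at `x` equals the dimension of the generic
fibre and `O_{Y,f x}` is universally catenary, then `dim O_{X,x} = dim O_{Y,f x} + dim O_{X_y,x}`. -/
theorem ringKrullDim_stalk_eq_add_of_fibreDimAt_eq_generic (x : X)
    (hcat : CAlg.IsUniversallyCatenary (Y.presheaf.stalk (f.base x)))
    (h : FlatMor.fibreDimAt f x = topologicalKrullDim ↥(f.fiber (genericPoint Y))) :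
    ringKrullDim (X.presheaf.stalk x) =
      ringKrullDim (Y.presheaf.stalk (f.base x)) +
        ringKrullDim ((f.fiber (f.base x)).presheaf.stalk (f.asFiber x)) := by
  have h1 := ringKrullDim_stalk_add_ptTrdeg_eq_of_irreducible f x hcat
  have h2 := fibreDimAt_eq_stalk_add_ptTrdeg f x
  rw [← base_genericPoint_eq' f, topologicalKrullDim_fiber_base_genericPoint] at h
  rw [← h, h2, ← add_assoc] at h1
  exact withBot_enat_add_nat_cancel _ h1

end Groth.Agent.Lib.Helper4.DimFormula
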