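import Mathlib
import Groth.Agent.Lib.Helper4DimFormulaAF
import Groth.Prelude.Def_EGA4b

/-!
# Equidimensional morphisms over an equidimensional universally catenary local ring (helper4)

* `comap_mem_minimalPrimes_of_isEquidimAt`: for `f` equidimensional at `x`, minimal primes of `O_{X,x}`
  contract to minimal primes of `O_{Y,f x}`.
* `ringKrullDim_quotient_eq_add_of_isEquidimAt`: `dim O_{X,x}/𝔭 = dim O_{Y,y} + dim O_{X_y,x}` for every
  minimal prime `𝔭` of `O_{X,x}` (if `O_{Y,y}` equidimensional and universally catenary).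
* `ringKrullDim_stalk_eq_add_of_isEquidimAt` (S3438), `isEquidim_stalk_of_isEquidimAt` (S3396).
-/

set_option autoImplicit false
set_option linter.style.haveILetI false

universe u

open AlgebraicGeometry CategoryTheory TopologicalSpace IsLocalRing

namespace Groth.Agent.Lib.Helper4.DimFormula

open Groth.Agent.Lib.Helper4.VarDim Groth.Agent.Lib.Helper4.FibDim

variable {X Y : Scheme.{u}} (f : X ⟶ Y)

theorem comap_mem_minimalPrimes_of_isEquidimAt (x : X) (h : EGA43.IsEquidimAt f x)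
    (𝔭 : Ideal (X.presheaf.stalk x)) (h𝔭 : 𝔭 ∈ minimalPrimes (X.presheaf.stalk x)) :
    𝔭.comap (f.stalkMap x).hom ∈ minimalPrimes (Y.presheaf.stalk (f.base x)) := by
  obtain ⟨e₀, U₀, hxU₀, hi, -⟩ := h
  haveI := h𝔭.1.1
  have hξmax := (mem_minimalPrimes_iff_fromSpecStalk_maximal x 𝔭).mp h𝔭
  set ξ : X := X.fromSpecStalk x ⟨𝔭, h𝔭.1.1⟩ with hξ
  have hξx : ξ ⤳ x := fromSpecStalk_specializes x _
  have hξU₀ : ξ ∈ U₀ := hξx.mem_open U₀.2 hxU₀
  set u : U₀.toScheme := ⟨ξ, hξU₀⟩ with hu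
  have humax : ∀ y : U₀.toScheme, y ⤳ u → y = u := by
    intro y hy
    have := hξmax (U₀.ι y) (hy.map U₀.ι.continuous)
    exact U₀.ι.isOpenEmbedding.injective this
  have hZ := mem_irreducibleComponents_of_forall_specializes u humax
  obtain ⟨W, hW, -, hcl⟩ := hi _ hZ
  have hcl' : closure ({f.base ξ} : Set Y) = W := by
    rw [← hcl, closure_image_closure (U₀.ι ≫ f).continuous, Set.image_singleton]
    rfl
  haveI : (𝔭.comap (f.stalkMap x).hom).IsPrime := Ideal.comap_isPrime _ _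
  rw [mem_minimalPrimes_iff_fromSpecStalk_maximal (f.base x) (𝔭.comap (f.stalkMap x).hom)]
  intro y' hy'
  rw [fromSpecStalk_comap_stalkMap] at hy' ⊢
  exact eq_of_specializes_generic _ _ (by rw [hcl']; exact hW) hy'

variable [IsLocallyNoetherian Y] [LocallyOfFiniteType f]

theorem ringKrullDim_quotient_eq_add_of_isEquidimAt (x : X)
    (hY : EGA4.IsEquidim (Y.presheaf.stalk (f.base x)))
    (hcat : CAlg.IsUniversallyCatenary (Y.presheaf.stalk (f.base x))) (h : EGA43.IsEquidimAt f x)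
    (𝔭 : Ideal (X.presheaf.stalk x)) (h𝔭 : 𝔭 ∈ minimalPrimes (X.presheaf.stalk x)) :
    ringKrullDim (X.presheaf.stalk x ⧸ 𝔭) =
      ringKrullDim (Y.presheaf.stalk (f.base x)) +
        ringKrullDim ((f.fiber (f.base x)).presheaf.stalk (f.asFiber x)) := by
  have h1 := ringKrullDim_quotient_minimalPrime_of_isEquidimAt f x h hcat 𝔭 h𝔭
  have h2 := hY _ (comap_mem_minimalPrimes_of_isEquidimAt f x h 𝔭 h𝔭)
  rw [h2, fibreDimAt_eq_stalk_add_ptTrdeg f x, ← add_assoc] at h1
  exact withBot_enat_add_nat_cancel _ h1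

theorem ringKrullDim_stalk_eq_add_of_isEquidimAt (x : X)
    (hY : EGA4.IsEquidim (Y.presheaf.stalk (f.base x)))
    (hcat : CAlg.IsUniversallyCatenary (Y.presheaf.stalk (f.base x))) (h : EGA43.IsEquidimAt f x) :
    ringKrullDim (X.presheaf.stalk x) =
      ringKrullDim (Y.presheaf.stalk (f.base x)) +
        ringKrullDim ((f.fiber (f.base x)).presheaf.stalk (f.asFiber x)) := by
  haveI : IsLocallyNoetherian X := LocallyOfFiniteType.isLocallyNoetherian f
  obtain ⟨𝔭, h𝔭, hdim⟩ := exists_minimalPrimes_ringKrullDim_quotient_eq (R := X.presheaf.stalk x)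
  rw [← hdim]
  exact ringKrullDim_quotient_eq_add_of_isEquidimAt f x hY hcat h 𝔭 h𝔭

theorem isEquidim_stalk_of_isEquidimAt (x : X) (h : EGA43.IsEquidimAt f x)
    (hcat : CAlg.IsUniversallyCatenary (Y.presheaf.stalk (f.base x)))
    (hY : EGA4.IsEquidim (Y.presheaf.stalk (f.base x))) :
    EGA4.IsEquidim (X.presheaf.stalk x) := by
  intro 𝔭 h𝔭
  rw [ringKrullDim_quotient_eq_add_of_isEquidimAt f x hY hcat h 𝔭 h𝔭,
    ringKrullDim_stalk_eq_add_of_isEquidimAt f x hY hcat h]

end Groth.Agent.Lib.Helper4.DimFormula
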