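import Mathlib
import Groth.Agent.Lib.Helper4DimFormulaT
import Groth.Agent.Lib.Helper4VarDim11
import Groth.Agent.Lib.Helper10CodimFib

/-!
# Flat morphisms of varieties: equidimensionality of `X` versus the fibres (helper4)

Hartshorne III.9.6-type statement: for `f : X ⟶ Y` flat between schemes locally of finite type over
a field with `Y` irreducible, all components of `X` have dimension `dim Y + n` iff all components
of all fibres have dimension `n`.
-/

set_option autoImplicit false
set_option linter.style.haveILetI false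

universe u

open AlgebraicGeometry CategoryTheory TopologicalSpace

namespace Groth.Agent.Lib.Helper4.DimFormula

open Groth.Agent.Lib.Helper4.VarDim Groth.Agent.Lib.Helper4.FibDim

theorem exists_ringKrullDim_stalk_eq_nat' {Y : Scheme.{u}} [IsLocallyNoetherian Y] (y : Y) :
    ∃ c : ℕ, ringKrullDim (Y.presheaf.stalk y) = c := by
  obtain ⟨V, hV, hyV, -⟩ := exists_isAffineOpen_mem_and_subset (U := ⊤) (x := y) (by simp)
  haveI : IsNoetherianRing Γ(Y, V) := IsLocallyNoetherian.component_noetherian ⟨V, hV⟩
  rw [ringKrullDim_stalk_eq_height hV y hyV]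
  obtain ⟨n, hn⟩ := ENat.ne_top_iff_exists.mp
    (Ideal.height_ne_top_of_isPrime (I := (hV.primeIdealOf ⟨y, hyV⟩).asIdeal))
  exact ⟨n, by rw [← hn]; rfl⟩

section

attribute [local instance] Curv2.resAlgebra

variable (k : Type u) [Field k] {X Y : Scheme.{u}} [X.Over (Spec (CommRingCat.of k))]
  [Y.Over (Spec (CommRingCat.of k))] [LocallyOfFiniteType (X ↘ Spec (CommRingCat.of k))]
  [LocallyOfFiniteType (Y ↘ Spec (CommRingCat.of k))] (f : X ⟶ Y)
  (hf : f ≫ (Y ↘ Spec (CommRingCat.of k)) = (X ↘ Spec (CommRingCat.of k)))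

include hf in
theorem locallyOfFiniteType_of_over : LocallyOfFiniteType f := by
  haveI : LocallyOfFiniteType (f ≫ (Y ↘ Spec (CommRingCat.of k))) := by rw [hf]; infer_instance
  exact locallyOfFiniteType_of_comp f (Y ↘ Spec (CommRingCat.of k))

include hf in
theorem trdegNat_eq_add_ptTrdeg [LocallyOfFiniteType f] (x : X) :
    trdegNat k X x = trdegNat k Y (f.base x) + ptTrdeg f x :=
  trdegNat_eq_add_fiber k f hf (f.base x) (f.asFiber x) x (f.fiberι_asFiber x)

variable [IrreducibleSpace Y]

theorem topologicalKrullDim_eq_trdegNat_genericPoint :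
    topologicalKrullDim Y = ((trdegNat k Y (genericPoint Y) : ℕ) : WithBot ℕ∞) := by
  rw [← topologicalKrullDim_closure_singleton k Y (genericPoint Y),
    (genericPoint_spec Y).def, topologicalKrullDim_univ_eq]

variable [Flat f]

theorem base_eq_genericPoint_of_maximal (ξ : X) (hξ : ∀ x' : X, x' ⤳ ξ → x' = ξ) :
    f.base ξ = genericPoint Y := by
  obtain ⟨x', hx', hfx'⟩ := Flat.generalizingMap f (genericPoint_specializes (f.base ξ))
  rw [← hξ x' hx']
  exact hfx'

include k hf in
theorem topologicalKrullDim_closure_eq_add_ptTrdeg [LocallyOfFiniteType f] (ξ : X)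
    (hξ : ∀ x' : X, x' ⤳ ξ → x' = ξ) :
    topologicalKrullDim (closure ({ξ} : Set X)) =
      topologicalKrullDim Y + ((ptTrdeg f ξ : ℕ) : WithBot ℕ∞) := by
  rw [topologicalKrullDim_closure_singleton k X ξ, topologicalKrullDim_eq_trdegNat_genericPoint k,
    trdegNat_eq_add_ptTrdeg k f hf ξ, base_eq_genericPoint_of_maximal f ξ hξ]
  push_cast
  rfl

include k hf in
theorem equidim_iff_fibres_equidim (n : ℕ) :
    (∀ Z : Set ↥X, Z ∈ irreducibleComponents ↥X →
        topologicalKrullDim ↥Z = topologicalKrullDim ↥Y + (n : WithBot ℕ∞)) ↔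
      ∀ (y : Y) (Z : Set ↥(f.fiber y)), Z ∈ irreducibleComponents ↥(f.fiber y) →
        topologicalKrullDim ↥Z = (n : WithBot ℕ∞) := by
  haveI := locallyOfFiniteType_of_over k f hf
  haveI : IsLocallyNoetherian Y :=
    LocallyOfFiniteType.isLocallyNoetherian (Y ↘ Spec (CommRingCat.of k))
  haveI : IsLocallyNoetherian X :=
    LocallyOfFiniteType.isLocallyNoetherian (X ↘ Spec (CommRingCat.of k))
  have hdimY := topologicalKrullDim_eq_trdegNat_genericPoint k (Y := Y)
  constructor
  · intro hX y T hT
    obtain ⟨x, hxy, hmax, hdimT⟩ := exists_point_of_mem_irreducibleComponents f y T hT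
    rw [hdimT]
    -- all maximal points of `X` have `ptTrdeg = n`
    have hgen : ∀ ξ : X, closure ({ξ} : Set X) ∈ irreducibleComponents ↥X → ptTrdeg f ξ = n := by
      intro ξ hξ
      have h1 := hX _ hξ
      have hξmax : ∀ x' : X, x' ⤳ ξ → x' = ξ := fun x' hx' =>
        eq_of_specializes_generic ξ x' hξ hx'
      rw [topologicalKrullDim_closure_eq_add_ptTrdeg k f hf ξ hξmax, hdimY] at h1
      have h2 : trdegNat k Y (genericPoint Y) + ptTrdeg f ξ = trdegNat k Y (genericPoint Y) + n := by
        exact_mod_cast h1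
      omega
    -- upper bound
    have hupp : ptTrdeg f x ≤ n := by
      have h3 := ringKrullDim_stalk_add_le f x (ptTrdeg f x) n (trdeg_eq_ptTrdeg f x)
        (fun ξ hξ _ => by
          rw [trdeg_eq_ptTrdeg f ξ, hgen ξ hξ])
      have h4 := Groth.Agent.Lib.Helper10.CodimFib.ringKrullDim_stalk_le_of_flat f x
      obtain ⟨c, hc⟩ := exists_ringKrullDim_stalk_eq_nat' (Y := X) x
      have h5 : ringKrullDim (X.presheaf.stalk x) + (ptTrdeg f x : WithBot ℕ∞) ≤
          ringKrullDim (X.presheaf.stalk x) + (n : WithBot ℕ∞) := h3.trans (add_le_add h4 le_rfl)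
      rw [hc] at h5
      have h6 : c + ptTrdeg f x ≤ c + n := by exact_mod_cast h5
      omega
    -- lower bound
    have hlow : n ≤ ptTrdeg f x := by
      have hZ := irreducibleComponent_mem_irreducibleComponents x
      obtain ⟨ξ, hξ⟩ := QuasiSober.sober hZ.1 (isClosed_of_mem_irreducibleComponents _ hZ)
      have hξcl : closure ({ξ} : Set X) = irreducibleComponent x := hξ.def
      have hsp : ξ ⤳ x := by
        rw [specializes_iff_mem_closure, hξcl]
        exact mem_irreducibleComponent
      have hξmem : closure ({ξ} : Set X) ∈ irreducibleComponents ↥X := by rw [hξcl]; exact hZ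
      have hξmax : ∀ x' : X, x' ⤳ ξ → x' = ξ := fun x' hx' =>
        eq_of_specializes_generic ξ x' hξmem hx'
      have := ptTrdeg_le_of_specializes f ξ x hsp (fun y _ hy => hξmax y hy) hmax
      rw [hgen ξ hξmem] at this
      exact this
    have : ptTrdeg f x = n := le_antisymm hupp hlow
    rw [this]
  · intro hfib Z hZ
    obtain ⟨ξ, hξ⟩ := QuasiSober.sober hZ.1 (isClosed_of_mem_irreducibleComponents _ hZ)
    have hξcl : closure ({ξ} : Set X) = Z := hξ.def
    have hξmem : closure ({ξ} : Set X) ∈ irreducibleComponents ↥X := by rw [hξcl]; exact hZ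
    have hξmax : ∀ x' : X, x' ⤳ ξ → x' = ξ := fun x' hx' =>
      eq_of_specializes_generic ξ x' hξmem hx'
    obtain ⟨T, hT, hdimT⟩ := exists_mem_irreducibleComponents_of_maximal f (f.base ξ) ξ rfl
      (fun y _ hy => hξmax y hy)
    have h1 := hfib _ T hT
    rw [hdimT] at h1
    have h2 : ptTrdeg f ξ = n := by exact_mod_cast h1
    rw [← hξcl, topologicalKrullDim_closure_eq_add_ptTrdeg k f hf ξ hξmax, h2]

end

end Groth.Agent.Lib.Helper4.DimFormula
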