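import Mathlib
import Groth.Agent.Lib.Helper5IntDim
import Groth.Agent.Lib.Helper14FTDimB

/-!
# Base change of finite type domains along a field extension: equidimensionality

* `eq_zero_of_smul_eq_zero`: torsion-freeness of `A' ⊗[A] B` over a domain `A'` flat over `A` when
  `B` embeds into a flat `A`-module.
* `eq_zero_of_map_mul_eq_zero`: `D ⊗[k] K` is torsion-free over `P ⊗[k] K` for domains `P ⊆ D`.
* `isIntegral_map`: `P ⊗[k] K → D ⊗[k] K` is integral when `P → D` is.
* `ringKrullDim_quotient_minimalPrimes_tensor`: for a finite type `k`-domain `D`, every minimal prime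
  `Q` of `D ⊗[k] K` has `dim (D ⊗[k] K)/Q = dim D`.
-/

open TensorProduct

universe u

namespace Groth.Agent.Lib.Helper14.BCDim

section general

variable {A B A' N' : Type*} [CommRing A] [CommRing B] [Algebra A B] [CommRing A'] [Algebra A A']
  [Module.Flat A A'] [IsDomain A'] [AddCommGroup N'] [Module A N'] [Module.Flat A N']

/-- torsion-freeness of a base change `A' ⊗[A] B` over the domain `A'`, when `B` embeds in a flat
`A`-module and `A'` is flat over `A`. -/
lemma eq_zero_of_smul_eq_zero (j : B →ₗ[A] N') (hj : Function.Injective j) (f : A') (hf : f ≠ 0)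
    (z : A' ⊗[A] B) (h : f • z = 0) : z = 0 := by
  have hJ : Function.Injective (j.baseChange A') := by
    have := Module.Flat.lTensor_preserves_injective_linearMap (M := A') j hj
    exact this
  have hreg : IsSMulRegular (A' ⊗[A] N') f := by
    have := Module.Flat.isSMulRegular_of_nonZeroDivisors (M := A' ⊗[A] N')
      (mem_nonZeroDivisors_of_ne_zero hf)
    intro x y hxy
    exact this hxy
  apply hJ
  rw [map_zero]
  apply hreg
  show f • (j.baseChange A') z = f • 0
  rw [← map_smul, h, map_zero, smul_zero]

end general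

section special

variable {k P D K : Type u} [Field k] [CommRing P] [IsDomain P] [CommRing D] [IsDomain D]
  [Algebra k P] [Algebra k D] [Algebra P D] [IsScalarTower k P D] [Field K] [Algebra k K]

/-- the fraction field of a domain `D` containing the domain `P` is flat over `P` -/
lemma flat_fractionRing (hinj : Function.Injective (algebraMap P D)) :
    Module.Flat P (FractionRing D) := by
  haveI : FaithfulSMul P (FractionRing D) := by
    rw [faithfulSMul_iff_algebraMap_injective, IsScalarTower.algebraMap_eq P D (FractionRing D)]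
    exact (IsFractionRing.injective D (FractionRing D)).comp hinj
  haveI : Module.Flat P (FractionRing P) := IsLocalization.flat (FractionRing P) (nonZeroDivisors P)
  letI : Algebra (FractionRing P) (FractionRing D) := FractionRing.liftAlgebra P _
  haveI := FractionRing.isScalarTower_liftAlgebra P (FractionRing D)
  exact Module.Flat.trans P (FractionRing P) (FractionRing D)

/-- the comparison isomorphism -/
noncomputable def psi : D ⊗[k] K ≃ₐ[P] (P ⊗[k] K) ⊗[P] D :=
  (Algebra.TensorProduct.cancelBaseChange k P P D K).symm.trans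
    (Algebra.TensorProduct.comm P D (P ⊗[k] K))

lemma psi_map (f : P ⊗[k] K) :
    psi (k := k) (P := P) (D := D) (K := K)
      (Algebra.TensorProduct.map (IsScalarTower.toAlgHom k P D) (AlgHom.id k K) f) = f ⊗ₜ[P] 1 := by
  induction f using TensorProduct.induction_on with
  | zero => simp
  | tmul p c =>
    simp only [psi, Algebra.TensorProduct.map_tmul, IsScalarTower.coe_toAlgHom', AlgHom.coe_id, id_eq,
      AlgEquiv.trans_apply, Algebra.TensorProduct.cancelBaseChange_symm_tmul,
      Algebra.TensorProduct.comm_tmul]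
    rw [Algebra.algebraMap_eq_smul_one, TensorProduct.tmul_smul, TensorProduct.smul_tmul']
    congr 1
    rw [TensorProduct.smul_tmul', smul_eq_mul, mul_one]
  | add x y hx hy => rw [map_add, map_add, hx, hy, TensorProduct.add_tmul]

/-- torsion-freeness of `D ⊗[k] K` over `P ⊗[k] K`. -/
lemma eq_zero_of_map_mul_eq_zero [IsDomain (P ⊗[k] K)] (hinj : Function.Injective (algebraMap P D))
    (f : P ⊗[k] K) (hf : f ≠ 0) (z : D ⊗[k] K)
    (h : Algebra.TensorProduct.map (IsScalarTower.toAlgHom k P D) (AlgHom.id k K) f * z = 0) :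
    z = 0 := by
  haveI := flat_fractionRing (P := P) (D := D) hinj
  let j : D →ₗ[P] FractionRing D := (IsScalarTower.toAlgHom P D (FractionRing D)).toLinearMap
  have hj : Function.Injective j := IsFractionRing.injective D (FractionRing D)
  have h1 : f • (psi (k := k) (P := P) (D := D) (K := K) z) = 0 := by
    have := congrArg (psi (k := k) (P := P) (D := D) (K := K)) h
    rw [map_mul, psi_map, map_zero] at this
    have hsm : ∀ w : (P ⊗[k] K) ⊗[P] D, f • w = f ⊗ₜ[P] (1 : D) * w := by
      intro w
      induction w using TensorProduct.induction_on with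
      | zero => simp
      | tmul a d => rw [TensorProduct.smul_tmul', Algebra.TensorProduct.tmul_mul_tmul, one_mul,
          smul_eq_mul]
      | add x y hx hy => rw [smul_add, hx, hy, mul_add]
    rw [hsm]
    exact this
  have h2 := eq_zero_of_smul_eq_zero j hj f hf _ h1
  exact (psi (k := k) (P := P) (D := D) (K := K)).injective (by rw [h2, map_zero])

end special

section special2

variable {k P D K : Type u} [Field k] [CommRing P] [CommRing D]
  [Algebra k P] [Algebra k D] [Algebra P D] [IsScalarTower k P D] [Field K] [Algebra k K]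

/-- base change of an integral map along `k → K` is integral -/
lemma isIntegral_map [Algebra.IsIntegral P D] :
    (Algebra.TensorProduct.map (IsScalarTower.toAlgHom k P D) (AlgHom.id k K)).toRingHom.IsIntegral := by
  set G := Algebra.TensorProduct.map (IsScalarTower.toAlgHom k P D) (AlgHom.id k K) with hG
  letI : Algebra (P ⊗[k] K) (D ⊗[k] K) := G.toRingHom.toAlgebra
  intro z
  show IsIntegral (P ⊗[k] K) z
  induction z using TensorProduct.induction_on with
  | zero => exact isIntegral_zero
  | tmul d c =>
    have h1 : IsIntegral (P ⊗[k] K) ((d ⊗ₜ[k] (1 : K) : D ⊗[k] K)) := by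
      have hd : IsIntegral P d := Algebra.IsIntegral.isIntegral d
      have := IsIntegral.map_of_comp_eq (T := P ⊗[k] K) (U := D ⊗[k] K)
        (Algebra.TensorProduct.includeLeft : P →ₐ[k] P ⊗[k] K).toRingHom
        (Algebra.TensorProduct.includeLeft : D →ₐ[k] D ⊗[k] K).toRingHom
        (by
          ext p
          show G (p ⊗ₜ 1) = (algebraMap P D p) ⊗ₜ 1
          rw [hG, Algebra.TensorProduct.map_tmul]
          rfl) hd
      exact this
    have h2 : IsIntegral (P ⊗[k] K) ((1 : D) ⊗ₜ[k] c : D ⊗[k] K) := by
      have : ((1 : D) ⊗ₜ[k] c : D ⊗[k] K) = algebraMap (P ⊗[k] K) (D ⊗[k] K) (1 ⊗ₜ c) := by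
        show _ = G (1 ⊗ₜ c)
        rw [hG, Algebra.TensorProduct.map_tmul, map_one]
        rfl
      rw [this]
      exact isIntegral_algebraMap
    have : (d ⊗ₜ[k] c : D ⊗[k] K) = (d ⊗ₜ 1) * (1 ⊗ₜ c) := by
      rw [Algebra.TensorProduct.tmul_mul_tmul, mul_one, one_mul]
    rw [this]
    exact h1.mul h2
  | add x y hx hy => exact hx.add hy

end special2

section eq

variable {k : Type u} [Field k] (K : Type u) [Field K] [Algebra k K]

/-- `MvPolynomial (Fin d) k ⊗[k] K` is a polynomial ring over `K`. -/
noncomputable def polyEquiv (d : ℕ) : MvPolynomial (Fin d) k ⊗[k] K ≃+* MvPolynomial (Fin d) K :=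
  (Algebra.TensorProduct.comm k (MvPolynomial (Fin d) k) K).toRingEquiv.trans
    (MvPolynomial.algebraTensorAlgEquiv k K).toRingEquiv

lemma isDomain_poly_tensor (d : ℕ) : IsDomain (MvPolynomial (Fin d) k ⊗[k] K) :=
  (polyEquiv K d).toMulEquiv.isDomain _

lemma ringKrullDim_poly_tensor (d : ℕ) :
    ringKrullDim (MvPolynomial (Fin d) k ⊗[k] K) = (d : WithBot ℕ∞) := by
  rw [ringKrullDim_eq_of_ringEquiv (polyEquiv K d), MvPolynomial.ringKrullDim_of_isNoetherianRing,
    ringKrullDim_eq_zero_of_field, Nat.card_eq_fintype_card, Fintype.card_fin]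
  simp

/-- **Equidimensionality of a base change**: for a finite type domain `D` over `k` and a field
extension `K/k`, every irreducible component of `Spec (D ⊗[k] K)` has the dimension of `D`. -/
theorem ringKrullDim_quotient_minimalPrimes_tensor (D : Type u) [CommRing D] [IsDomain D]
    [Algebra k D] [Algebra.FiniteType k D] (Q : Ideal (D ⊗[k] K)) (hQ : Q ∈ minimalPrimes (D ⊗[k] K)) :
    ringKrullDim ((D ⊗[k] K) ⧸ Q) = ringKrullDim D := by
  obtain ⟨d, g, hinj, hfin⟩ := exists_finite_inj_algHom_of_fg k D
  rw [Groth.Agent.Lib.Helper14.FTDim.ringKrullDim_of_finite_injective g hinj hfin, Fintype.card_fin]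
  set P := MvPolynomial (Fin d) k with hP
  haveI : IsDomain (P ⊗[k] K) := isDomain_poly_tensor K d
  letI algPD : Algebra P D := g.toRingHom.toAlgebra
  haveI : IsScalarTower k P D := IsScalarTower.of_algebraMap_eq fun x => (g.commutes x).symm
  haveI : Module.Finite P D := hfin
  haveI : Algebra.IsIntegral P D := Algebra.IsIntegral.of_finite P D
  set G := Algebra.TensorProduct.map (IsScalarTower.toAlgHom k P D) (AlgHom.id k K) with hG
  set ψ : P ⊗[k] K →+* (D ⊗[k] K) ⧸ Q := (Ideal.Quotient.mk Q).comp G.toRingHom with hψ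
  have hψint : ψ.IsIntegral :=
    RingHom.IsIntegral.trans _ _ (isIntegral_map (k := k) (P := P) (D := D) (K := K))
      (RingHom.isIntegral_of_surjective _ Ideal.Quotient.mk_surjective)
  have hψinj : Function.Injective ψ := by
    rw [injective_iff_map_eq_zero]
    intro f hf
    by_contra hne
    have hfQ : G f ∈ Q := by
      rw [← Ideal.Quotient.eq_zero_iff_mem]; exact hf
    have hnz : G f ∉ nonZeroDivisors (D ⊗[k] K) := fun hmem =>
      Set.disjoint_left.mp (Ideal.disjoint_nonZeroDivisors_of_mem_minimalPrimes hQ) hfQ hmem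
    rw [mem_nonZeroDivisors_iff_right] at hnz
    push Not at hnz
    obtain ⟨z, hz, hz0⟩ := hnz
    rw [mul_comm] at hz
    exact hz0 (eq_zero_of_map_mul_eq_zero (k := k) (P := P) (D := D) (K := K) hinj f hne z hz)
  letI : Algebra (P ⊗[k] K) ((D ⊗[k] K) ⧸ Q) := ψ.toAlgebra
  haveI : Algebra.IsIntegral (P ⊗[k] K) ((D ⊗[k] K) ⧸ Q) := ⟨hψint⟩
  rw [Groth.Agent.Lib.Helper5.ringKrullDim_eq_of_isIntegral_of_injective (P ⊗[k] K)
    ((D ⊗[k] K) ⧸ Q) hψinj, ringKrullDim_poly_tensor]

end eq

end Groth.Agent.Lib.Helper14.BCDim
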