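import Mathlib
import Groth.Agent.Lib.Helper7TopDim
import Groth.Agent.Lib.Helper14FTDimB

/-!
# Local dimension of `Spec S` for `S` of finite type over a field

`localDim_eq`: for a prime `p` of a finite type `k`-algebra `S`, the local dimension of `Spec S`
at `p` is `ht p + dim S/p`.
-/

open Groth.Agent.Lib.Helper7.TopDim

universe u

namespace Groth.Agent.Lib.Helper14.LocalDim

open Groth.Agent.Lib.Helper14.FTDim

variable {R : Type*} [CommRing R]

/-- The basic open `D(g)` of `Spec R` has the dimension of `R_g`. -/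
lemma topologicalKrullDim_basicOpen (g : R) :
    topologicalKrullDim ((PrimeSpectrum.basicOpen g : TopologicalSpace.Opens (PrimeSpectrum R)) :
      Set (PrimeSpectrum R)) = ringKrullDim (Localization.Away g) := by
  rw [← PrimeSpectrum.topologicalKrullDim_eq_ringKrullDim]
  have hemb := PrimeSpectrum.localization_away_isOpenEmbedding (Localization.Away g) g
  have hrange := PrimeSpectrum.localization_away_comap_range (Localization.Away g) g
  let e := hemb.isEmbedding.toHomeomorph
  symm
  rw [← hrange]
  exact IsHomeomorph.topologicalKrullDim_eq e e.isHomeomorph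

lemma height_le_dim_basicOpen (g : R) (x : Ideal R) [x.IsPrime] (hx : g ∉ x) :
    (x.height : WithBot ℕ∞) ≤ topologicalKrullDim
      ((PrimeSpectrum.basicOpen g : TopologicalSpace.Opens (PrimeSpectrum R)) :
      Set (PrimeSpectrum R)) := by
  rw [topologicalKrullDim_basicOpen]
  have hdisj : Disjoint (Submonoid.powers g : Set R) (x : Set R) := by
    rw [Set.disjoint_left]
    rintro _ ⟨n, rfl⟩ hn
    exact hx (Ideal.IsPrime.mem_of_pow_mem inferInstance n hn)
  have hprime : (x.map (algebraMap R (Localization.Away g))).IsPrime :=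
    IsLocalization.isPrime_of_isPrime_disjoint (Submonoid.powers g) _ x inferInstance hdisj
  rw [← IsLocalization.height_map_of_disjoint (S := Localization.Away g) (Submonoid.powers g) x
    hdisj]
  exact Ideal.height_le_ringKrullDim_of_isPrime

lemma dim_basicOpen_le (g : R) (N : ℕ∞)
    (h : ∀ x : Ideal R, x.IsPrime → g ∉ x → x.height ≤ N) :
    topologicalKrullDim ((PrimeSpectrum.basicOpen g : TopologicalSpace.Opens (PrimeSpectrum R)) :
      Set (PrimeSpectrum R)) ≤ (N : WithBot ℕ∞) := by
  rw [topologicalKrullDim_basicOpen, ringKrullDim_le_iff_height_le]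
  intro J hJ
  rw [← IsLocalization.height_under (Submonoid.powers g) J]
  have : (J.under R).IsPrime := Ideal.IsPrime.under R J
  have hg : g ∉ J.under R := by
    intro hg
    have hu : IsUnit (algebraMap R (Localization.Away g) g) :=
      IsLocalization.Away.algebraMap_isUnit g
    exact hJ.ne_top (Ideal.eq_top_of_isUnit_mem _ hg hu)
  exact_mod_cast h _ this hg

/-- (G5) heights add up along a quotient. -/
lemma height_add_height_le (p : Ideal R) [p.IsPrime] (Q : Ideal (R ⧸ p)) [Q.IsPrime] :
    p.height + Q.height ≤ (Q.comap (Ideal.Quotient.mk p)).height := by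
  have key : ∀ n : ℕ, ∀ Q : Ideal (R ⧸ p), Q.IsPrime → (n : ℕ∞) ≤ Q.height →
      p.height + n ≤ (Q.comap (Ideal.Quotient.mk p)).height := by
    intro n
    induction n with
    | zero =>
      intro Q hQ _
      simp only [Nat.cast_zero, add_zero]
      apply Ideal.height_mono
      intro x hx
      rw [Ideal.mem_comap, Ideal.Quotient.eq_zero_iff_mem.mpr hx]
      exact Q.zero_mem
    | succ n ih =>
      intro Q hQ hn
      have hnot : ¬ Q.height ≤ (n : ℕ) := by
        intro hle
        have := hn.trans hle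
        exact_mod_cast (by exact_mod_cast this : n + 1 ≤ n).not_gt (Nat.lt_succ_self n)
      rw [Ideal.height_le_iff] at hnot
      push Not at hnot
      obtain ⟨Q', hQ', hlt, hge⟩ := hnot
      have h1 := ih Q' hQ' hge
      have hlt' : Q'.comap (Ideal.Quotient.mk p) < Q.comap (Ideal.Quotient.mk p) := by
        refine lt_of_le_of_ne (Ideal.comap_mono hlt.le) fun heq => hlt.ne ?_
        exact Ideal.comap_injective_of_surjective _ Ideal.Quotient.mk_surjective heq
      have h2 := Ideal.height_add_one_le_of_lt_of_isPrime hlt'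
      calc p.height + ((n + 1 : ℕ) : ℕ∞) = p.height + n + 1 := by push_cast; rw [add_assoc]
        _ ≤ (Q'.comap (Ideal.Quotient.mk p)).height + 1 := by gcongr
        _ ≤ _ := h2
  by_cases htop : Q.height = ⊤
  · rw [htop, add_top, top_le_iff, ENat.eq_top_iff_forall_ge]
    intro n
    refine le_trans ?_ (key n Q inferInstance (by rw [htop]; exact le_top))
    exact le_add_self
  · obtain ⟨n, hn⟩ := ENat.ne_top_iff_exists.mp htop
    rw [← hn]
    exact key n Q inferInstance (by rw [hn])

/-- (G2'') bounding the height by the dimensions of the irreducible components through the point. -/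
lemma height_le_of_forall_minimalPrimes (x : Ideal R) [x.IsPrime] (N : ℕ∞)
    (h : ∀ q ∈ minimalPrimes R, q ≤ x → ringKrullDim (R ⧸ q) ≤ (N : WithBot ℕ∞)) :
    x.height ≤ N := by
  have hx : x.height = Order.height (⟨x, inferInstance⟩ : PrimeSpectrum R) :=
    PrimeSpectrum.height_eq_orderHeight ⟨x, inferInstance⟩
  rw [hx, Order.height_le_iff]
  intro l hl
  obtain ⟨q, hq, hql⟩ := Ideal.exists_minimalPrimes_le (J := l.head.asIdeal) bot_le
  have hqx : q ≤ x := hql.trans ((l.monotone (Fin.zero_le _)).trans hl)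
  have hmem : ∀ i, l i ∈ PrimeSpectrum.zeroLocus (q : Set R) := by
    intro i
    exact hql.trans (l.monotone (Fin.zero_le i))
  let l' : LTSeries (PrimeSpectrum.zeroLocus (R := R) (q : Set R)) :=
    { length := l.length
      toFun := fun i => ⟨l i, hmem i⟩
      step := fun i => l.step i }
  have h1 : (l'.length : WithBot ℕ∞) ≤ Order.krullDim (PrimeSpectrum.zeroLocus (R := R) q) :=
    Order.LTSeries.length_le_krullDim l'
  rw [← ringKrullDim_quotient] at h1
  have h2 := h1.trans (h q (by simpa [minimalPrimes] using hq) hqx)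
  exact_mod_cast h2

variable {k S : Type u} [Field k] [CommRing S] [Algebra k S] [Algebra.FiniteType k S]

lemma trdeg_residueField_eq (p : Ideal S) [p.IsPrime] :
    Algebra.trdeg k p.ResidueField = Algebra.trdeg k (FractionRing (S ⧸ p)) := by
  let e : FractionRing (S ⧸ p) ≃ₐ[S ⧸ p] p.ResidueField := FractionRing.algEquiv (S ⧸ p) _
  exact (e.restrictScalars k).trdeg_eq.symm

/-- numerical data attached to a prime of a finite type algebra -/
lemma exists_dims (p : Ideal S) [p.IsPrime] :
    ∃ n e : ℕ, p.height = n ∧ ringKrullDim (S ⧸ p) = e ∧ Algebra.trdeg k p.ResidueField = e ∧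
      ∀ (m : Ideal (S ⧸ p)), m.IsMaximal → m.height = e := by
  haveI : IsNoetherianRing S := Algebra.FiniteType.isNoetherianRing k S
  obtain ⟨n, hn⟩ := ENat.ne_top_iff_exists.mp (Ideal.height_ne_top_of_isPrime (I := p))
  obtain ⟨e, h1, h2, h3⟩ := exists_dim k (S ⧸ p)
  refine ⟨n, e, hn.symm, h2, ?_, fun m hm => h3 m⟩
  rw [trdeg_residueField_eq, h1]

include k in
lemma exists_isMaximal_notMem (p : Ideal S) [p.IsPrime] (g : S) (hg : g ∉ p) :
    ∃ m : Ideal S, m.IsMaximal ∧ p ≤ m ∧ g ∉ m := by
  haveI : IsJacobsonRing S := isJacobsonRing_of_finiteType (A := k)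
  have hj : p.jacobson = p := IsJacobsonRing.out' p (Ideal.IsPrime.isRadical inferInstance)
  rw [← hj] at hg
  unfold Ideal.jacobson at hg
  rw [Submodule.mem_sInf] at hg
  push Not at hg
  obtain ⟨m, ⟨hpm, hm⟩, hgm⟩ := hg
  exact ⟨m, hm, hpm, hgm⟩

include k in
lemma exists_notMem_forall_minimalPrimes (p : Ideal S) [p.IsPrime] :
    ∃ f : S, f ∉ p ∧ ∀ q ∈ minimalPrimes S, f ∉ q → q ≤ p := by
  classical
  haveI : IsNoetherianRing S := Algebra.FiniteType.isNoetherianRing k S
  have hfin : (minimalPrimes S).Finite := minimalPrimes.finite_of_isNoetherianRing S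
  let T : Finset (Ideal S) := hfin.toFinset.filter fun q => ¬ q ≤ p
  have hnot : ¬ T.inf id ≤ p := by
    intro hle
    obtain ⟨q, hq, hqp⟩ := (Ideal.IsPrime.inf_le' inferInstance).mp hle
    exact (Finset.mem_filter.mp hq).2 hqp
  obtain ⟨f, hfT, hfp⟩ := SetLike.not_le_iff_exists.mp hnot
  refine ⟨f, hfp, fun q hq hfq => ?_⟩
  by_contra hqp
  have hqT : q ∈ T := Finset.mem_filter.mpr ⟨hfin.mem_toFinset.mpr hq, hqp⟩
  have : T.inf id ≤ q := Finset.inf_le (f := id) hqT
  exact hfq (this hfT)

include k in
/-- lower bound: every basic open neighbourhood of `p` has dimension at least `ht p + dim S/p`. -/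
lemma le_dim_basicOpen (p : Ideal S) [p.IsPrime] (n e : ℕ) (hn : p.height = n)
    (he : ∀ (m : Ideal (S ⧸ p)), m.IsMaximal → m.height = e) (g : S) (hg : g ∉ p) :
    ((n + e : ℕ) : WithBot ℕ∞) ≤ topologicalKrullDim
      ((PrimeSpectrum.basicOpen g : TopologicalSpace.Opens (PrimeSpectrum S)) :
      Set (PrimeSpectrum S)) := by
  obtain ⟨m, hm, hpm, hgm⟩ := exists_isMaximal_notMem (k := k) p g hg
  have hmk : RingHom.ker (Ideal.Quotient.mk p) ≤ m := by rwa [Ideal.mk_ker]
  have hcomap : (m.map (Ideal.Quotient.mk p)).comap (Ideal.Quotient.mk p) = m := by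
    rw [Ideal.comap_map_of_surjective _ Ideal.Quotient.mk_surjective, ← RingHom.ker_eq_comap_bot]
    exact sup_of_le_left hmk
  have hQmax : (m.map (Ideal.Quotient.mk p)).IsMaximal := by
    rcases Ideal.map_eq_top_or_isMaximal_of_surjective (Ideal.Quotient.mk p)
      Ideal.Quotient.mk_surjective hm with h | h
    · exfalso
      rw [h, Ideal.comap_top] at hcomap
      exact hm.ne_top hcomap.symm
    · exact h
  have h1 := height_add_height_le p (m.map (Ideal.Quotient.mk p))
  rw [hcomap, hn, he _ hQmax] at h1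
  haveI := hm.isPrime
  refine le_trans ?_ (height_le_dim_basicOpen g m hgm)
  exact_mod_cast h1

include k in
/-- the irreducible components through `p` have dimension at most `ht p + dim S/p`. -/
lemma dim_quotient_minimalPrimes_le (p : Ideal S) [p.IsPrime] (n e : ℕ) (hn : p.height = n)
    (he : ringKrullDim (S ⧸ p) = e) (q : Ideal S) (hq : q ∈ minimalPrimes S) (hqp : q ≤ p) :
    ringKrullDim (S ⧸ q) ≤ ((n + e : ℕ) : WithBot ℕ∞) := by
  haveI : q.IsPrime := hq.1.1
  have hqk : RingHom.ker (Ideal.Quotient.mk q) ≤ p := by rwa [Ideal.mk_ker]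
  haveI hQ : (p.map (Ideal.Quotient.mk q)).IsPrime :=
    Ideal.map_isPrime_of_surjective Ideal.Quotient.mk_surjective hqk
  have hcomap : (p.map (Ideal.Quotient.mk q)).comap (Ideal.Quotient.mk q) = p := by
    rw [Ideal.comap_map_of_surjective _ Ideal.Quotient.mk_surjective, ← RingHom.ker_eq_comap_bot]
    exact sup_of_le_left hqk
  obtain ⟨m', c, hc, h1, h2, h3⟩ := exists_dim_height (k := k) (S ⧸ q) (p.map (Ideal.Quotient.mk q))
  have h4 := height_add_height_le q (p.map (Ideal.Quotient.mk q))
  rw [hcomap, hn, h2] at h4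
  have hcn : c ≤ n := by
    have : (c : ℕ∞) ≤ n := le_trans le_add_self h4
    exact_mod_cast this
  have h5 : ringKrullDim ((S ⧸ q) ⧸ p.map (Ideal.Quotient.mk q)) = ringKrullDim (S ⧸ p) :=
    ringKrullDim_eq_of_ringEquiv (DoubleQuot.quotQuotEquivQuotOfLE hqp)
  rw [h3, he] at h5
  have h6 : m' - c = e := by exact_mod_cast h5
  rw [h1]
  have : m' ≤ n + e := by omega
  exact_mod_cast this

include k in
/-- upper bound for the heights of the points of a suitable basic open. -/
lemma height_le_of_notMem (p : Ideal S) [p.IsPrime] (n e : ℕ) (hn : p.height = n)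
    (he : ringKrullDim (S ⧸ p) = e) (f : S) (hf : ∀ q ∈ minimalPrimes S, f ∉ q → q ≤ p)
    (x : Ideal S) [x.IsPrime] (hx : f ∉ x) : x.height ≤ ((n + e : ℕ) : ℕ∞) := by
  apply height_le_of_forall_minimalPrimes
  intro q hq hqx
  exact dim_quotient_minimalPrimes_le (k := k) p n e hn he q hq (hf q hq fun h => hx (hqx h))

include k in
/-- **Local dimension** of `Spec S` at a prime `p`, `S` of finite type over a field. -/
theorem localDim_eq (p : Ideal S) [p.IsPrime] (n e : ℕ) (hn : p.height = n)
    (he : ringKrullDim (S ⧸ p) = e)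
    (he' : ∀ (m : Ideal (S ⧸ p)), m.IsMaximal → m.height = e) :
    FlatMor.localDim (PrimeSpectrum S) ⟨p, inferInstance⟩ = ((n + e : ℕ) : WithBot ℕ∞) := by
  apply le_antisymm
  · obtain ⟨f, hfp, hf⟩ := exists_notMem_forall_minimalPrimes (k := k) p
    refine (localDim_le (⟨p, inferInstance⟩ : PrimeSpectrum S) (PrimeSpectrum.basicOpen f) hfp).trans ?_
    have := dim_basicOpen_le f ((n + e : ℕ) : ℕ∞) fun x hx hfx =>
      height_le_of_notMem (k := k) p n e hn he f hf x hfx
    exact_mod_cast this
  · rw [le_localDim_iff]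
    intro U hU
    obtain ⟨_, ⟨g, rfl⟩, hpg, hgU⟩ := PrimeSpectrum.isTopologicalBasis_basic_opens.exists_subset_of_mem_open
      hU U.isOpen
    refine (le_dim_basicOpen (k := k) p n e hn he' g hpg).trans ?_
    exact (Topology.IsEmbedding.inclusion hgU).isInducing.topologicalKrullDim_le

end Groth.Agent.Lib.Helper14.LocalDim
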