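import Mathlib
import Groth.Agent.Lib.Helper14LocalDim
import Groth.Agent.Lib.Helper14BCDim

/-!
# Local dimension and base field extension
-/

open TensorProduct

universe u

namespace Groth.Agent.Lib.Helper14.LocalDim

/-- maximal ideals above `p` have height at least `ht p + dim S/p`. -/
lemma add_le_height_of_isMaximal {S : Type*} [CommRing S] (p : Ideal S) [p.IsPrime] (n e : ℕ) (hn : p.height = n)
    (he : ∀ (m : Ideal (S ⧸ p)), m.IsMaximal → m.height = e) (m : Ideal S) (hm : m.IsMaximal)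
    (hpm : p ≤ m) : ((n + e : ℕ) : ℕ∞) ≤ m.height := by
  have hmk : RingHom.ker (Ideal.Quotient.mk p) ≤ m := by rwa [Ideal.mk_ker]
  have hcomap : (m.map (Ideal.Quotient.mk p)).comap (Ideal.Quotient.mk p) = m := by
    rw [Ideal.comap_map_of_surjective _ Ideal.Quotient.mk_surjective, ← RingHom.ker_eq_comap_bot]
    exact sup_of_le_left hmk
  have hQmax : (m.map (Ideal.Quotient.mk p)).IsMaximal := by
    rcases Ideal.map_eq_top_or_isMaximal_of_surjective (Ideal.Quotient.mk p)
      Ideal.Quotient.mk_surjective hm with h | h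
    · exfalso
      rw [h, Ideal.comap_top] at hcomap
      exact hm.ne_top hcomap.symm
    · exact h
  have h1 := height_add_height_le p (m.map (Ideal.Quotient.mk p))
  rw [hcomap, hn, he _ hQmax] at h1
  exact_mod_cast h1

variable {k S : Type u} [Field k] [CommRing S] [Algebra k S] [Algebra.FiniteType k S]

include k in
/-- **Characterisation of the local dimension by irreducible components**: the local dimension at
`p` is the largest dimension of an irreducible component through `p`. -/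
theorem localDim_le_iff (p : Ideal S) [p.IsPrime] (N : ℕ) :
    FlatMor.localDim (PrimeSpectrum S) ⟨p, inferInstance⟩ ≤ (N : WithBot ℕ∞) ↔
      ∀ q ∈ minimalPrimes S, q ≤ p → ringKrullDim (S ⧸ q) ≤ (N : WithBot ℕ∞) := by
  obtain ⟨n, e, hn, he, -, he'⟩ := exists_dims (k := k) p
  rw [localDim_eq (k := k) p n e hn he he']
  constructor
  · intro h q hq hqp
    exact (dim_quotient_minimalPrimes_le (k := k) p n e hn he q hq hqp).trans h
  · intro h
    obtain ⟨f, hfp, hf⟩ := exists_notMem_forall_minimalPrimes (k := k) p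
    obtain ⟨m, hm, hpm, hfm⟩ := exists_isMaximal_notMem (k := k) p f hfp
    haveI : m.IsPrime := hm.isPrime
    have h1 := add_le_height_of_isMaximal p n e hn he' m hm hpm
    have h2 : m.height ≤ (N : ℕ∞) := by
      apply height_le_of_forall_minimalPrimes
      intro q hq hqm
      exact h q hq (hf q hq fun hfq => hfm (hqm hfq))
    exact_mod_cast h1.trans h2


section basechange

variable (K : Type u) [Field K] [Algebra k K]

attribute [local instance] Algebra.TensorProduct.rightAlgebra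

instance finiteType_tensor_right : Algebra.FiniteType K (S ⊗[k] K) :=
  Algebra.FiniteType.equiv inferInstance (Algebra.TensorProduct.commRight k K S)

/-- going-down for minimal primes along a flat map -/
lemma comap_mem_minimalPrimes_of_flat {A A' : Type*} [CommRing A] [CommRing A'] [Algebra A A']
    [Module.Flat A A'] (Q : Ideal A') (hQ : Q ∈ minimalPrimes A') :
    Q.comap (algebraMap A A') ∈ minimalPrimes A := by
  haveI : Q.IsPrime := hQ.1.1
  obtain ⟨p₀, hp₀, hp₀le⟩ := Ideal.exists_minimalPrimes_le (I := ⊥) (J := Q.comap (algebraMap A A'))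
    bot_le
  haveI : p₀.IsPrime := hp₀.1.1
  haveI : Q.LiesOver (Q.comap (algebraMap A A')) := ⟨rfl⟩
  obtain ⟨Q', hQ'le, hQ'prime, hQ'lies⟩ := Ideal.exists_ideal_le_liesOver_of_le (p := p₀) Q hp₀le
  have h1 : Q ≤ Q' := hQ.2 ⟨hQ'prime, bot_le⟩ hQ'le
  have h2 : Q' = Q := le_antisymm hQ'le h1
  have h3 : p₀ = Q.comap (algebraMap A A') := by
    rw [← h2]; exact hQ'lies.over
  rw [← h3]; exact hp₀

/-- lifting minimal primes along a flat map below a given prime -/
lemma exists_minimalPrimes_comap_eq_of_flat {A A' : Type*} [CommRing A] [CommRing A'] [Algebra A A']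
    [Module.Flat A A'] (P : Ideal A') [P.IsPrime] (q₀ : Ideal A) (hq₀ : q₀ ∈ minimalPrimes A)
    (hle : q₀ ≤ P.comap (algebraMap A A')) :
    ∃ Q ∈ minimalPrimes A', Q ≤ P ∧ Q.comap (algebraMap A A') = q₀ := by
  haveI : q₀.IsPrime := hq₀.1.1
  haveI : P.LiesOver (P.comap (algebraMap A A')) := ⟨rfl⟩
  obtain ⟨Q', hQ'le, hQ'prime, hQ'lies⟩ := Ideal.exists_ideal_le_liesOver_of_le (p := q₀) P hle
  obtain ⟨Q, hQ, hQle⟩ := Ideal.exists_minimalPrimes_le (I := ⊥) (J := Q') bot_le
  haveI : Q.IsPrime := hQ.1.1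
  refine ⟨Q, hQ, hQle.trans hQ'le, ?_⟩
  have h1 : Q.comap (algebraMap A A') ≤ q₀ := by
    rw [hQ'lies.over]; exact Ideal.comap_mono hQle
  exact le_antisymm h1 (hq₀.2 ⟨inferInstance, bot_le⟩ h1)

include k in
/-- dimension of the irreducible components of the base change -/
lemma ringKrullDim_quotient_minimalPrimes_eq (Q : Ideal (S ⊗[k] K)) (hQ : Q ∈ minimalPrimes (S ⊗[k] K)) :
    ringKrullDim ((S ⊗[k] K) ⧸ Q) = ringKrullDim (S ⧸ Q.comap (algebraMap S (S ⊗[k] K))) := by
  haveI : Q.IsPrime := hQ.1.1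
  set q₀ := Q.comap (algebraMap S (S ⊗[k] K)) with hq₀
  haveI : q₀.IsPrime := Ideal.comap_isPrime _ _
  set π := Algebra.TensorProduct.map (Ideal.Quotient.mkₐ k q₀) (AlgHom.id k K) with hπ
  have hπsurj : Function.Surjective π :=
    Algebra.TensorProduct.map_surjective _ _ (Ideal.Quotient.mkₐ_surjective k q₀)
      Function.surjective_id
  have hker : RingHom.ker π ≤ Q := by
    rw [hπ, Algebra.TensorProduct.rTensor_ker _ (Ideal.Quotient.mkₐ_surjective k q₀),
      Ideal.map_le_iff_le_comap]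
    intro x hx
    have hx' : x ∈ q₀ := by
      have : Ideal.Quotient.mkₐ k q₀ x = 0 := hx
      rwa [Ideal.Quotient.mkₐ_eq_mk, Ideal.Quotient.eq_zero_iff_mem] at this
    exact hx'
  have hQmin : Q ∈ (RingHom.ker π.toRingHom).minimalPrimes :=
    ⟨⟨inferInstance, hker⟩, fun J hJ hJQ => hQ.2 ⟨hJ.1, bot_le⟩ hJQ⟩
  rw [RingHom.ker_eq_comap_bot, Ideal.comap_minimalPrimes_eq_of_surjective hπsurj] at hQmin
  obtain ⟨Q', hQ', hQ'Q⟩ := hQmin
  haveI : Q'.IsPrime := hQ'.1.1
  rw [← Groth.Agent.Lib.Helper14.BCDim.ringKrullDim_quotient_minimalPrimes_tensor K (S ⧸ q₀) Q' hQ']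
  set φ : S ⊗[k] K →+* ((S ⧸ q₀) ⊗[k] K) ⧸ Q' := (Ideal.Quotient.mk Q').comp π.toRingHom with hφ
  have hφsurj : Function.Surjective φ := Ideal.Quotient.mk_surjective.comp hπsurj
  have hφker : RingHom.ker φ = Q := by
    rw [hφ, ← RingHom.comap_ker, Ideal.mk_ker]
    exact hQ'Q
  exact ringKrullDim_eq_of_ringEquiv
    ((Ideal.quotEquivOfEq hφker.symm).trans (RingHom.quotientKerEquivOfSurjective hφsurj))

include k in
/-- **Invariance of the local dimension under extension of the base field.** -/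
theorem localDim_tensor_eq (q : Ideal S) [q.IsPrime] (qK : Ideal (S ⊗[k] K)) [qK.IsPrime]
    (hq : qK.comap (algebraMap S (S ⊗[k] K)) = q) :
    FlatMor.localDim (PrimeSpectrum (S ⊗[k] K)) ⟨qK, inferInstance⟩ =
      FlatMor.localDim (PrimeSpectrum S) ⟨q, inferInstance⟩ := by
  obtain ⟨n, e, hn, he, -, he'⟩ := exists_dims (k := k) q
  obtain ⟨n', e', hn', he1, -, he1'⟩ := exists_dims (k := K) qK
  have h1 := localDim_eq (k := k) q n e hn he he'
  have h2 := localDim_eq (k := K) qK n' e' hn' he1 he1'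
  apply le_antisymm
  · rw [h1, localDim_le_iff (k := K)]
    intro Q hQ hQle
    rw [ringKrullDim_quotient_minimalPrimes_eq (k := k) K Q hQ]
    refine (localDim_le_iff (k := k) q (n + e)).mp (le_of_eq h1) _
      (comap_mem_minimalPrimes_of_flat Q hQ) ?_
    rw [← hq]; exact Ideal.comap_mono hQle
  · rw [h2, localDim_le_iff (k := k)]
    intro q₀ hq₀ hq₀q
    obtain ⟨Q, hQ, hQle, hQq₀⟩ := exists_minimalPrimes_comap_eq_of_flat qK q₀ hq₀ (by rw [hq]; exact hq₀q)
    rw [← hQq₀, ← ringKrullDim_quotient_minimalPrimes_eq (k := k) K Q hQ]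
    exact (localDim_le_iff (k := K) qK (n' + e')).mp (le_of_eq h2) Q hQ hQle

include k in
/-- left-handed version of `localDim_tensor_eq`. -/
theorem localDim_tensor_left_eq (q : Ideal S) [q.IsPrime] (qK : Ideal (K ⊗[k] S)) [qK.IsPrime]
    (hq : qK.comap (Algebra.TensorProduct.includeRight.toRingHom : S →+* K ⊗[k] S) = q) :
    FlatMor.localDim (PrimeSpectrum (K ⊗[k] S)) ⟨qK, inferInstance⟩ =
      FlatMor.localDim (PrimeSpectrum S) ⟨q, inferInstance⟩ := by
  set c : K ⊗[k] S ≃+* S ⊗[k] K := (Algebra.TensorProduct.comm k K S).toRingEquiv with hc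
  set qK' : Ideal (S ⊗[k] K) := qK.comap c.symm with hqK'
  haveI : qK'.IsPrime := Ideal.comap_isPrime _ _
  have hq' : qK'.comap (algebraMap S (S ⊗[k] K)) = q := by
    rw [← hq, hqK']
    ext x
    simp only [Ideal.mem_comap]
    rfl
  rw [← localDim_tensor_eq (k := k) K q qK' hq']
  obtain ⟨n, e, hn, he, -, he'⟩ := exists_dims (k := K) qK
  obtain ⟨n', e', hn', he1, -, he1'⟩ := exists_dims (k := K) qK'
  rw [localDim_eq (k := K) qK n e hn he he', localDim_eq (k := K) qK' n' e' hn' he1 he1']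
  have h1 : qK'.height = qK.height := RingEquiv.height_comap c.symm qK
  have h2 : ringKrullDim ((K ⊗[k] S) ⧸ qK) = ringKrullDim ((S ⊗[k] K) ⧸ qK') :=
    ringKrullDim_eq_of_ringEquiv (Ideal.quotientEquiv qK qK' c
      (by rw [hqK']; exact (Ideal.map_comap_of_equiv c).symm))
  rw [hn, hn'] at h1
  rw [he, he1] at h2
  have hnn : n' = n := by exact_mod_cast h1
  have hee : e = e' := by exact_mod_cast h2
  rw [hnn, hee]

end basechange

end Groth.Agent.Lib.Helper14.LocalDim
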