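import Mathlib
import Groth.Agent.Lib.Helper6OpenDimA
import Groth.Agent.Lib.Helper4DimFormulaT
import Groth.Prelude.Def_EGA43

set_option autoImplicit false
set_option linter.style.haveILetI false

universe u

open AlgebraicGeometry CategoryTheory TopologicalSpace Topology

namespace Groth.Agent.Lib.Helper6.OpenDim

open Groth.Agent.Lib.Helper4.VarDim Groth.Agent.Lib.Helper4.FibDim
  Groth.Agent.Lib.Helper4.DimFormula

section Ring

variable {A B : Type*} [CommRing A] [CommRing B] [Algebra A B]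

/-- If every basic open neighbourhood `D(g)` of `q` contains a prime over `p'`, then some
generization of `q` lies over `p'`. -/
theorem exists_prime_le_under_eq (q : Ideal B) [q.IsPrime] (p' : Ideal A) [p'.IsPrime]
    (h : ∀ g : B, g ∉ q → ∃ q'' : Ideal B, q''.IsPrime ∧ g ∉ q'' ∧ q''.under A = p') :
    ∃ q' : Ideal B, q'.IsPrime ∧ q' ≤ q ∧ q'.under A = p' := by
  set M : Submonoid B := q.primeCompl ⊔ p'.primeCompl.map (algebraMap A B) with hM
  have hdisj : Disjoint (p'.map (algebraMap A B) : Set B) (M : Set B) := by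
    rw [Set.disjoint_left]
    intro b hbI hbM
    rw [SetLike.mem_coe, hM, Submonoid.mem_sup] at hbM
    obtain ⟨g, hg, t, ht, rfl⟩ := hbM
    obtain ⟨s, hs, rfl⟩ := ht
    obtain ⟨q'', hq''prime, hgq'', hq''u⟩ := h g hg
    have h1 : p'.map (algebraMap A B) ≤ q'' := Ideal.map_le_iff_le_comap.mpr hq''u.ge
    have h2 : g * algebraMap A B s ∈ q'' := h1 hbI
    rcases hq''prime.mem_or_mem h2 with h3 | h3
    · exact hgq'' h3
    · have : s ∈ q''.under A := h3
      rw [hq''u] at this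
      exact hs this
  obtain ⟨q', hq'prime, hIq', hq'M⟩ := Ideal.exists_le_prime_disjoint _ _ hdisj
  refine ⟨q', hq'prime, ?_, le_antisymm ?_ (Ideal.map_le_iff_le_comap.mp hIq')⟩
  · intro b hb
    by_contra hbq
    exact Set.disjoint_left.mp hq'M hb (by
      rw [SetLike.mem_coe, hM]
      exact Submonoid.mem_sup_left hbq)
  · intro a ha
    by_contra hap
    exact Set.disjoint_left.mp hq'M (show algebraMap A B a ∈ q' from ha) (by
      rw [SetLike.mem_coe, hM]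
      exact Submonoid.mem_sup_right ⟨a, hap, rfl⟩)

end Ring

section Sch

variable {X Y : Scheme.{u}} (f : X ⟶ Y)

/-- EGA IV 1.10.3-type statement: if `f` is open at `x`, every generization of `f x` lifts to a
generization of `x`. -/
theorem exists_specializes_of_isOpenAt (x : X) (hx : EGA43.IsOpenAt f.base x) (y' : Y)
    (hy' : y' ⤳ f.base x) : ∃ x' : X, x' ⤳ x ∧ f.base x' = y' := by
  obtain ⟨V, hV, hsV, -⟩ := exists_isAffineOpen_mem_and_subset (U := ⊤) (x := f.base x) (by simp)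
  obtain ⟨U, hU, hxU, hUV⟩ := exists_isAffineOpen_mem_and_subset (U := f ⁻¹ᵁ V) (x := x) hsV
  have e : U ≤ f ⁻¹ᵁ V := hUV
  letI : Algebra Γ(Y, V) Γ(X, U) := (f.appLE V U e).hom.toAlgebra
  have hy'V : y' ∈ V := hy'.mem_open V.2 (e hxU)
  set q : Ideal Γ(X, U) := (hU.primeIdealOf ⟨x, hxU⟩).asIdeal with hq
  set p' : Ideal Γ(Y, V) := (hV.primeIdealOf ⟨y', hy'V⟩).asIdeal with hp'
  have key : ∀ g : Γ(X, U), g ∉ q → ∃ q'' : Ideal Γ(X, U), q''.IsPrime ∧ g ∉ q'' ∧
      q''.under Γ(Y, V) = p' := by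
    intro g hg
    have hxg : x ∈ X.basicOpen g := by
      by_contra hcon
      exact hg ((mem_primeIdealOf_iff_notMem_basicOpen hU x hxU g).mpr hcon)
    have hnhds : (X.basicOpen g : Set X) ∈ nhds x := (X.basicOpen g).2.mem_nhds hxg
    have himg := hx _ hnhds
    have hy'mem : y' ∈ f.base '' (X.basicOpen g : Set X) :=
      mem_of_mem_nhds (hy' himg)
    obtain ⟨x'', hx''g, hx''y⟩ := hy'mem
    have hx''U : x'' ∈ U := X.basicOpen_le g hx''g
    refine ⟨(hU.primeIdealOf ⟨x'', hx''U⟩).asIdeal, (hU.primeIdealOf _).2, ?_, ?_⟩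
    · intro hmem
      exact (mem_primeIdealOf_iff_notMem_basicOpen hU x'' hx''U g).mp hmem hx''g
    · have h1 := primeIdealOf_comap_appLE f hU hV e x'' hx''U
      rw [Ideal.under_def]
      change Ideal.comap (f.appLE V U e).hom _ = _
      rw [h1, hp']
      congr 2
      exact Subtype.ext hx''y
  obtain ⟨q', hq'prime, hq'q, hq'u⟩ := exists_prime_le_under_eq q p' key
  set x' : X := hU.fromSpec ⟨q', hq'prime⟩ with hx'
  have hx'U : x' ∈ U := fromSpec_mem hU _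
  have hq'x' : hU.primeIdealOf ⟨x', hx'U⟩ = ⟨q', hq'prime⟩ := primeIdealOf_fromSpec hU _ hx'U
  refine ⟨x', ?_, ?_⟩
  · rw [← primeIdealOf_le_iff hU x' x hx'U hxU, hq'x']
    exact hq'q
  · apply primeIdealOf_injective hV (f.base x') y' (e hx'U) hy'V
    apply PrimeSpectrum.ext
    rw [← primeIdealOf_comap_appLE f hU hV e x' hx'U, hq'x']
    exact hq'u

end Sch

section Main

variable {X Y : Scheme.{u}} [IsLocallyNoetherian Y] (f : X ⟶ Y) [LocallyOfFiniteType f]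

attribute [local instance] Curv2.resAlgebra

/-- Let `x` be a maximal point of its fibre and `y'` a generization of `f x` such that every point
between `y'` and `f x` lifts to a generization of `x`. Then some generization `ξ` of `x` is a maximal
point of the fibre over `y'` with `trdeg κ(ξ)/κ(y') = trdeg κ(x)/κ(f x)`. -/
theorem exists_maximal_over_of_lifts (x : X)
    (hmax : ∀ x' : X, f.base x' = f.base x → x' ⤳ x → x' = x) (y' : Y) (hy' : y' ⤳ f.base x)
    (hlift : ∀ y'' : Y, y' ⤳ y'' → y'' ⤳ f.base x → ∃ x'' : X, x'' ⤳ x ∧ f.base x'' = y'') :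
    ∃ ξ : X, ξ ⤳ x ∧ f.base ξ = y' ∧ (∀ x' : X, f.base x' = f.base ξ → x' ⤳ ξ → x' = ξ) ∧
      ptTrdeg f ξ = ptTrdeg f x := by
  obtain ⟨V, hV, hsV, -⟩ := exists_isAffineOpen_mem_and_subset (U := ⊤) (x := f.base x) (by simp)
  obtain ⟨U, hU, hxU, hUV⟩ := exists_isAffineOpen_mem_and_subset (U := f ⁻¹ᵁ V) (x := x) hsV
  have e : U ≤ f ⁻¹ᵁ V := hUV
  haveI : IsNoetherianRing Γ(Y, V) := IsLocallyNoetherian.component_noetherian ⟨V, hV⟩
  letI : Algebra Γ(Y, V) Γ(X, U) := (f.appLE V U e).hom.toAlgebra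
  haveI : Algebra.FiniteType Γ(Y, V) Γ(X, U) := f.finiteType_appLE hV hU e
  have hy'V : y' ∈ V := hy'.mem_open V.2 (e hxU)
  set q : Ideal Γ(X, U) := (hU.primeIdealOf ⟨x, hxU⟩).asIdeal with hq
  set P₀ : Ideal Γ(Y, V) := (hV.primeIdealOf ⟨y', hy'V⟩).asIdeal with hP₀
  -- dictionary
  have hunder : ∀ (z : X) (hz : z ∈ U), (hU.primeIdealOf ⟨z, hz⟩).asIdeal.under Γ(Y, V) =
      (hV.primeIdealOf ⟨f.base z, e hz⟩).asIdeal := by
    intro z hz
    rw [← primeIdealOf_comap_appLE f hU hV e z hz]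
    rfl
  have hqu : q.under Γ(Y, V) = (hV.primeIdealOf ⟨f.base x, e hxU⟩).asIdeal := hunder x hxU
  have hle : P₀ ≤ q.under Γ(Y, V) := by
    rw [hqu]
    exact (primeIdealOf_le_iff hV y' (f.base x) hy'V (e hxU)).mpr hy'
  have hmin : ∀ q' : Ideal Γ(X, U), q'.IsPrime → q' ≤ q →
      q'.under Γ(Y, V) = q.under Γ(Y, V) → q' = q := by
    intro q' hq'prime hq'q hq'u
    set x' : X := hU.fromSpec ⟨q', hq'prime⟩ with hx'
    have hx'U : x' ∈ U := fromSpec_mem hU _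
    have hq'x' : hU.primeIdealOf ⟨x', hx'U⟩ = ⟨q', hq'prime⟩ := primeIdealOf_fromSpec hU _ hx'U
    have hsp : x' ⤳ x := by
      rw [← primeIdealOf_le_iff hU x' x hx'U hxU, hq'x']
      exact hq'q
    have hfx' : f.base x' = f.base x := by
      apply primeIdealOf_injective hV (f.base x') (f.base x) (e hx'U) (e hxU)
      apply PrimeSpectrum.ext
      rw [← hunder x' hx'U, ← hqu, hq'x']
      exact hq'u
    have hxx' := hmax x' hfx' hsp
    have h3 : hU.primeIdealOf ⟨x', hx'U⟩ = hU.primeIdealOf ⟨x, hxU⟩ := by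
      congr 1
      exact Subtype.ext hxx'
    rw [hq'x'] at h3
    exact congrArg PrimeSpectrum.asIdeal h3
  have hliftR : ∀ p' : Ideal Γ(Y, V), p'.IsPrime → P₀ ≤ p' → p' ≤ q.under Γ(Y, V) →
      ∃ q' : Ideal Γ(X, U), q'.IsPrime ∧ q' ≤ q ∧ q'.under Γ(Y, V) = p' := by
    intro p' hp'prime h1 h2
    set y'' : Y := hV.fromSpec ⟨p', hp'prime⟩ with hy''
    have hy''V : y'' ∈ V := fromSpec_mem hV _
    have hp'y'' : hV.primeIdealOf ⟨y'', hy''V⟩ = ⟨p', hp'prime⟩ :=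
      primeIdealOf_fromSpec hV _ hy''V
    have hsp1 : y' ⤳ y'' := by
      rw [← primeIdealOf_le_iff hV y' y'' hy'V hy''V, hp'y'']
      exact h1
    have hsp2 : y'' ⤳ f.base x := by
      rw [← primeIdealOf_le_iff hV y'' (f.base x) hy''V (e hxU), hp'y'', ← hqu]
      exact h2
    obtain ⟨x'', hx''x, hx''y⟩ := hlift y'' hsp1 hsp2
    have hx''U : x'' ∈ U := hx''x.mem_open U.2 hxU
    refine ⟨(hU.primeIdealOf ⟨x'', hx''U⟩).asIdeal, (hU.primeIdealOf _).2,
      (primeIdealOf_le_iff hU x'' x hx''U hxU).mpr hx''x, ?_⟩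
    rw [hunder x'' hx''U]
    have h3 : hV.primeIdealOf ⟨f.base x'', e hx''U⟩ = hV.primeIdealOf ⟨y'', hy''V⟩ := by
      congr 1
      exact Subtype.ext hx''y
    rw [h3, hp'y'']
  have hd : Algebra.trdeg (Γ(Y, V) ⧸ q.under Γ(Y, V)) (Γ(X, U) ⧸ q) = (ptTrdeg f x : Cardinal.{u}) := by
    rw [← trdeg_residueFieldMap_eq_trdeg_quotient f hU hV e x hxU (q.under Γ(Y, V)) q hq hqu]
    exact trdeg_eq_ptTrdeg f x
  obtain ⟨Q, hQprime, hQq, hQu, hQmin, e', he', hde'⟩ :=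
    exists_prime_over P₀ q hle hmin hliftR (ptTrdeg f x) hd
  set ξ : X := hU.fromSpec ⟨Q, hQprime⟩ with hξ
  have hξU : ξ ∈ U := fromSpec_mem hU _
  have hQξ : hU.primeIdealOf ⟨ξ, hξU⟩ = ⟨Q, hQprime⟩ := primeIdealOf_fromSpec hU _ hξU
  have hQξ' : Q = (hU.primeIdealOf ⟨ξ, hξU⟩).asIdeal := by rw [hQξ]
  have hξx : ξ ⤳ x := by
    rw [← primeIdealOf_le_iff hU ξ x hξU hxU, hQξ]
    exact hQq
  have hfξ : f.base ξ = y' := by
    apply primeIdealOf_injective hV (f.base ξ) y' (e hξU) hy'V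
    apply PrimeSpectrum.ext
    rw [← hunder ξ hξU, hQξ]
    exact hQu
  have hξmax : ∀ x' : X, f.base x' = f.base ξ → x' ⤳ ξ → x' = ξ := by
    intro x' hfx' hsp
    have hx'U : x' ∈ U := hsp.mem_open U.2 hξU
    have h1 := (primeIdealOf_le_iff hU x' ξ hx'U hξU).mpr hsp
    rw [hQξ] at h1
    have h2 : (hU.primeIdealOf ⟨x', hx'U⟩).asIdeal.under Γ(Y, V) = P₀ := by
      rw [hunder x' hx'U, hP₀]
      congr 2
      exact Subtype.ext (hfx'.trans hfξ)
    have h3 : P₀.map (algebraMap Γ(Y, V) Γ(X, U)) ≤ (hU.primeIdealOf ⟨x', hx'U⟩).asIdeal :=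
      Ideal.map_le_iff_le_comap.mpr h2.ge
    have h4 := hQmin.2 ⟨(hU.primeIdealOf ⟨x', hx'U⟩).2, h3⟩ h1
    apply primeIdealOf_injective hU x' ξ hx'U hξU
    rw [hQξ]
    exact PrimeSpectrum.ext (le_antisymm h1 h4)
  refine ⟨ξ, hξx, hfξ, hξmax, le_antisymm (ptTrdeg_le_of_specializes f ξ x hξx hξmax hmax) ?_⟩
  have hunderξ : Q.under Γ(Y, V) = (hV.primeIdealOf ⟨f.base ξ, e hξU⟩).asIdeal := by
    rw [← hunder ξ hξU, hQξ]
  have h5 : Algebra.trdeg (Γ(Y, V) ⧸ Q.under Γ(Y, V)) (Γ(X, U) ⧸ Q) =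
      (ptTrdeg f ξ : Cardinal.{u}) := by
    rw [← trdeg_residueFieldMap_eq_trdeg_quotient f hU hV e ξ hξU (Q.under Γ(Y, V)) Q hQξ' hunderξ]
    exact trdeg_eq_ptTrdeg f ξ
  rw [he'] at h5
  have h6 : e' = ptTrdeg f ξ := by exact_mod_cast h5
  omega

/-- EGA IV 14.2.1 (core): if `f` is open at a maximal point `x` of its fibre, then for every
generization `y'` of `f x` there is a generization `ξ` of `x`, maximal in the fibre over `y'`, with
`trdeg κ(ξ)/κ(y') = trdeg κ(x)/κ(f x)`. No catenarity assumption. -/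
theorem exists_maximal_over_of_isOpenAt (x : X)
    (hmax : ∀ x' : X, f.base x' = f.base x → x' ⤳ x → x' = x) (hopen : EGA43.IsOpenAt f.base x)
    (y' : Y) (hy' : y' ⤳ f.base x) :
    ∃ ξ : X, ξ ⤳ x ∧ f.base ξ = y' ∧ (∀ x' : X, f.base x' = f.base ξ → x' ⤳ ξ → x' = ξ) ∧
      ptTrdeg f ξ = ptTrdeg f x :=
  exists_maximal_over_of_lifts f x hmax y' hy'
    (fun y'' _ h => exists_specializes_of_isOpenAt f x hopen y'' h)

end Main

end Groth.Agent.Lib.Helper6.OpenDim
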