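import Mathlib
import Groth.Agent.Lib.Helper6OpenDimB

set_option autoImplicit false
set_option linter.style.haveILetI false

universe u

open AlgebraicGeometry CategoryTheory TopologicalSpace Topology

namespace Groth.Agent.Lib.Helper6.OpenDim

open Groth.Agent.Lib.Helper4.VarDim Groth.Agent.Lib.Helper4.FibDim
  Groth.Agent.Lib.Helper4.DimFormula

section Fibres

variable {X Y : Scheme.{u}} [IsLocallyNoetherian Y] (f : X ⟶ Y) [LocallyOfFiniteType f]

attribute [local instance] Curv2.resAlgebra

/-- EGA IV 14.2.2: if `f` is open at all points of the fibre over `y`, then for every generization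
`y'` of `y` the set of dimensions of irreducible components of `X_y` is contained in that of
`X_{y'}`. -/
theorem fibre_dims_subset_of_isOpenAt (y y' : Y) (hy' : y' ⤳ y)
    (h : ∀ x : X, f.base x = y → EGA43.IsOpenAt f.base x) :
    (fun Z : Set ↥(f.fiber y) => topologicalKrullDim ↥Z) '' irreducibleComponents ↥(f.fiber y) ⊆
      (fun Z : Set ↥(f.fiber y') => topologicalKrullDim ↥Z) ''
        irreducibleComponents ↥(f.fiber y') := by
  rintro _ ⟨Z, hZ, rfl⟩
  obtain ⟨x, hxy, hmax, hdimZ⟩ := exists_point_of_mem_irreducibleComponents f y Z hZ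
  subst hxy
  obtain ⟨ξ, -, hfξ, hξmax, htξ⟩ := exists_maximal_over_of_isOpenAt f x hmax (h x rfl) y' hy'
  obtain ⟨Z', hZ', hdimZ'⟩ := exists_mem_irreducibleComponents_of_maximal f y' ξ hfξ hξmax
  refine ⟨Z', hZ', ?_⟩
  simp only
  rw [hdimZ', hdimZ, htξ]

omit [IsLocallyNoetherian Y] in
theorem topologicalKrullDim_fiber_le_of_dims_subset (y y' : Y)
    (hsub : (fun Z : Set ↥(f.fiber y) => topologicalKrullDim ↥Z) ''
        irreducibleComponents ↥(f.fiber y) ⊆
      (fun Z : Set ↥(f.fiber y') => topologicalKrullDim ↥Z) ''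
        irreducibleComponents ↥(f.fiber y')) :
    topologicalKrullDim ↥(f.fiber y) ≤ topologicalKrullDim ↥(f.fiber y') := by
  letI : (f.fiber y).Over (Spec (CommRingCat.of (Y.residueField y))) :=
    ⟨f.fiberToSpecResidueField y⟩
  haveI : LocallyOfFiniteType ((f.fiber y) ↘ Spec (CommRingCat.of (Y.residueField y))) :=
    locallyOfFiniteType_fiberToSpecResidueField f _
  rw [topologicalKrullDim_eq_iSup_trdegNat (Y.residueField y)]
  refine iSup_le fun z => ?_
  have hZ := irreducibleComponent_mem_irreducibleComponents z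
  obtain ⟨z₀, hz₀⟩ := QuasiSober.sober hZ.1 (isClosed_of_mem_irreducibleComponents _ hZ)
  have hz₀cl : closure ({z₀} : Set ↥(f.fiber y)) = irreducibleComponent z := hz₀.def
  have hsp : z₀ ⤳ z := by
    rw [specializes_iff_mem_closure, hz₀cl]
    exact mem_irreducibleComponent
  have h2 := trdegNat_le_of_specializes (Y.residueField y) (f.fiber y) z₀ z hsp
  obtain ⟨Z', hZ', hdimZ'⟩ := hsub ⟨irreducibleComponent z, hZ, rfl⟩
  simp only at hdimZ'
  rw [← hz₀cl, topologicalKrullDim_closure_singleton (Y.residueField y) (f.fiber y) z₀] at hdimZ'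
  calc ((trdegNat (Y.residueField y) (f.fiber y) z : ℕ) : WithBot ℕ∞)
      ≤ ((trdegNat (Y.residueField y) (f.fiber y) z₀ : ℕ) : WithBot ℕ∞) := by exact_mod_cast h2
    _ = topologicalKrullDim Z' := hdimZ'.symm
    _ ≤ _ := topologicalKrullDim_subspace_le _ Z'

theorem topologicalKrullDim_fiber_le_of_isOpenAt (y y' : Y) (hy' : y' ⤳ y)
    (h : ∀ x : X, f.base x = y → EGA43.IsOpenAt f.base x) :
    topologicalKrullDim ↥(f.fiber y) ≤ topologicalKrullDim ↥(f.fiber y') :=
  topologicalKrullDim_fiber_le_of_dims_subset f y y' (fibre_dims_subset_of_isOpenAt f y y' hy' h)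

end Fibres

end Groth.Agent.Lib.Helper6.OpenDim
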