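import Mathlib
import Groth.Agent.Lib.Helper6OpenDimC
import Groth.Agent.Lib.Helper14LocalDimB

set_option autoImplicit false
set_option linter.style.haveILetI false

universe u

open AlgebraicGeometry CategoryTheory TopologicalSpace Topology

namespace Groth.Agent.Lib.Helper6.OpenDim

open Groth.Agent.Lib.Helper4.VarDim Groth.Agent.Lib.Helper4.FibDim
  Groth.Agent.Lib.Helper4.DimFormula

section Field

variable (k : Type u) [Field k] (F : Scheme.{u}) [F.Over (Spec (CommRingCat.of k))]
  [LocallyOfFiniteType (F ↘ Spec (CommRingCat.of k))]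

attribute [local instance] sectionsAlgebra Curv2.resAlgebra

/-- The local dimension at `z` is bounded by the transcendence degrees of the maximal points
specializing to `z`. -/
theorem localDim_le_of_forall_maximal (z : F) (N : ℕ)
    (h : ∀ ζ : F, ζ ⤳ z → (∀ w : F, w ⤳ ζ → w = ζ) → trdegNat k F ζ ≤ N) :
    FlatMor.localDim F z ≤ (N : WithBot ℕ∞) := by
  obtain ⟨U, hU, hzU, -⟩ := exists_isAffineOpen_mem_and_subset (U := ⊤) (x := z) trivial
  haveI := finiteType_sections k F hU
  set p := hU.primeIdealOf ⟨z, hzU⟩ with hp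
  have h1 : FlatMor.localDim F z = FlatMor.localDim (PrimeSpectrum Γ(F, U)) p := by
    have := localDim_eq_of_isOpenEmbedding hU.fromSpec.isOpenEmbedding p
    rw [hU.fromSpec_primeIdealOf ⟨z, hzU⟩] at this
    exact this.symm
  rw [h1]
  have h2 := (Groth.Agent.Lib.Helper14.LocalDim.localDim_le_iff (k := k) p.asIdeal N).mpr ?_
  · exact h2
  intro q hq hqp
  haveI : q.IsPrime := hq.1.1
  set ζ : F := hU.fromSpec ⟨q, inferInstance⟩ with hζ
  have hζU : ζ ∈ U := fromSpec_mem hU _
  have hqζ : hU.primeIdealOf ⟨ζ, hζU⟩ = ⟨q, inferInstance⟩ := primeIdealOf_fromSpec hU _ hζU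
  have hζz : ζ ⤳ z := by
    rw [← primeIdealOf_le_iff hU ζ z hζU hzU, hqζ]
    exact hqp
  have hζmax : ∀ w : F, w ⤳ ζ → w = ζ := by
    intro w hw
    have hwU : w ∈ U := hw.mem_open U.2 hζU
    have h3 := (primeIdealOf_le_iff hU w ζ hwU hζU).mpr hw
    rw [hqζ] at h3
    have h4 : (hU.primeIdealOf ⟨w, hwU⟩).asIdeal = q :=
      le_antisymm h3 (hq.2 ⟨(hU.primeIdealOf ⟨w, hwU⟩).2, bot_le⟩ h3)
    exact primeIdealOf_injective hU w ζ hwU hζU (by rw [hqζ]; exact PrimeSpectrum.ext h4)
  obtain ⟨n, hn, hn'⟩ := exists_trdeg_eq_dim k F hU ζ hζU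
  rw [hqζ] at hn'
  change ringKrullDim (Γ(F, U) ⧸ q) = n at hn'
  rw [hn']
  have h5 := h ζ hζz hζmax
  rw [trdegNat_eq_of_trdeg_eq k F ζ n hn] at h5
  exact_mod_cast h5

end Field

section Equidim

variable {X Y : Scheme.{u}} [IsLocallyNoetherian Y] [IrreducibleSpace X] (f : X ⟶ Y)
  [LocallyOfFiniteType f] [IsDominant f]

theorem irreducibleSpace_of_isDominant {X Y : Scheme.{u}} [IrreducibleSpace X] (f : X ⟶ Y)
    [IsDominant f] : IrreducibleSpace Y := by
  have h1 : IsIrreducible (f.base '' Set.univ) :=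
    (IrreducibleSpace.isIrreducible_univ X).image _ f.continuous.continuousOn
  have h2 := h1.closure
  rw [Set.image_univ, f.denseRange.closure_range] at h2
  exact (irreducibleSpace_def Y).mpr h2

attribute [local instance] Curv2.resAlgebra

theorem fibreDimAt_le_genTrdeg_of_isOpenAt [IrreducibleSpace Y] (x : X)
    (h : ∀ z : ↥(f.fiber (f.base x)), f.asFiber x ∈ closure {z} →
      (∀ z' : ↥(f.fiber (f.base x)), z ∈ closure {z'} → z' = z) →
      EGA43.IsOpenAt f.base ((f.fiberι (f.base x)).base z)) :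
    FlatMor.fibreDimAt f x ≤ (genTrdeg f : WithBot ℕ∞) := by
  letI : (f.fiber (f.base x)).Over (Spec (CommRingCat.of (Y.residueField (f.base x)))) :=
    ⟨f.fiberToSpecResidueField (f.base x)⟩
  haveI : LocallyOfFiniteType ((f.fiber (f.base x)) ↘
      Spec (CommRingCat.of (Y.residueField (f.base x)))) :=
    locallyOfFiniteType_fiberToSpecResidueField f _
  unfold FlatMor.fibreDimAt
  refine localDim_le_of_forall_maximal (Y.residueField (f.base x)) (f.fiber (f.base x))
    (f.asFiber x) (genTrdeg f) fun ζ hζz hζmax => ?_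
  rw [trdegNat_eq_ptTrdeg f (f.base x) ζ]
  have hopen := h ζ (specializes_iff_mem_closure.mp hζz)
    (fun z' hz' => hζmax z' (specializes_iff_mem_closure.mpr hz'))
  set x₁ : X := f.fiberι (f.base x) ζ with hx₁
  have hfx₁ : f.base x₁ = f.base x := by
    have : x₁ ∈ Set.range (f.fiberι (f.base x)) := ⟨ζ, rfl⟩
    rw [f.range_fiberι] at this
    exact this
  have hmax₁ : ∀ x' : X, f.base x' = f.base x₁ → x' ⤳ x₁ → x' = x₁ := by
    intro x' hx' hsp
    have hx's : f.base x' = f.base x := hx'.trans hfx₁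
    have : x' ∈ Set.range (f.fiberι (f.base x)) := by rw [f.range_fiberι]; exact hx's
    obtain ⟨w, rfl⟩ := this
    have hw : w ⤳ ζ := (f.fiberι (f.base x)).isEmbedding.isInducing.specializes_iff.mp hsp
    rw [hζmax w hw]
  obtain ⟨ξ, -, hfξ, hξmax, htξ⟩ := exists_maximal_over_of_isOpenAt f x₁ hmax₁ hopen
    (genericPoint ↥Y) (genericPoint_specializes _)
  have hξgen : genericPoint ↥X = ξ :=
    hξmax _ ((base_genericPoint_eq' f).trans hfξ.symm) (genericPoint_specializes ξ)
  rw [← htξ, ← hξgen]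
  exact le_rfl

end Equidim

section Equidim2

variable {X Y : Scheme.{u}} [IsLocallyNoetherian Y] [IrreducibleSpace X] (f : X ⟶ Y)
  [LocallyOfFiniteType f] [IsDominant f]

theorem univ_mem_irreducibleComponents (T : Type*) [TopologicalSpace T] [IrreducibleSpace T] :
    (Set.univ : Set T) ∈ irreducibleComponents T :=
  ⟨IrreducibleSpace.isIrreducible_univ T, fun _ _ _ => Set.subset_univ _⟩

theorem eq_univ_of_mem_irreducibleComponents (T : Type*) [TopologicalSpace T] [IrreducibleSpace T]
    (Z : Set T) (hZ : Z ∈ irreducibleComponents T) : Z = Set.univ :=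
  Set.eq_univ_of_univ_subset (hZ.2 (IrreducibleSpace.isIrreducible_univ T) (Set.subset_univ _))

/-- EGA IV 14.2.? : if `f` is open at the generic points of the irreducible components of the fibre
through `x`, then `f` is equidimensional at `x` (`X` irreducible, `f` dominant). -/
theorem isEquidimAt_of_isOpenAt (x : X)
    (h : ∀ z : ↥(f.fiber (f.base x)), f.asFiber x ∈ closure {z} →
      (∀ z' : ↥(f.fiber (f.base x)), z ∈ closure {z'} → z' = z) →
      EGA43.IsOpenAt f.base ((f.fiberι (f.base x)).base z)) :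
    EGA43.IsEquidimAt f x := by
  haveI : IrreducibleSpace Y := irreducibleSpace_of_isDominant f
  have hWo := isOpen_setOf_fibreDimAt_le' f (genTrdeg f : WithBot ℕ∞)
  set U : X.Opens := ⟨{x' : X | FlatMor.fibreDimAt f x' ≤ (genTrdeg f : WithBot ℕ∞)}, hWo⟩ with hU
  have hxU : x ∈ U := fibreDimAt_le_genTrdeg_of_isOpenAt f x h
  have hUirr : IsIrreducible (U : Set X) :=
    ⟨⟨x, hxU⟩, (IrreducibleSpace.isIrreducible_univ X).isPreirreducible.open_subset U.2
      (Set.subset_univ _)⟩
  haveI : IrreducibleSpace ↥U := Subtype.irreducibleSpace hUirr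
  refine ⟨genTrdeg f, U, hxU, ?_, ?_⟩
  · intro Z hZ
    refine ⟨Set.univ, univ_mem_irreducibleComponents _, trivial, ?_⟩
    rw [eq_univ_of_mem_irreducibleComponents _ Z hZ]
    haveI : IsDominant (U.ι ≫ f) := by
      have hd : DenseRange U.ι.base := by
        rw [DenseRange, Scheme.Opens.range_ι]
        exact U.2.dense ⟨x, hxU⟩
      have h2 : DenseRange (f.base ∘ U.ι.base) := DenseRange.comp f.denseRange hd f.continuous
      exact ⟨h2⟩
    have hrange : ((U.ι ≫ f).base '' (Set.univ : Set ↥(U : Scheme.{u}))) =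
        Set.range (U.ι ≫ f).base := Set.image_univ
    exact (congrArg closure hrange).trans (U.ι ≫ f).denseRange.closure_range
  · intro x' Z hZ
    obtain ⟨u, hus, hmax, hdim⟩ :=
      exists_point_of_mem_irreducibleComponents (U.ι ≫ f) ((U.ι ≫ f).base x') Z hZ
    rw [hdim, ← fibreDimAt_eq_ptTrdeg_of_maximal (U.ι ≫ f) u hmax]
    have h1 : FlatMor.fibreDimAt (U.ι ≫ f) u = FlatMor.fibreDimAt f (U.ι.base u) := by
      rw [fibreDimAt_eq_fibLD, fibreDimAt_eq_fibLD]
      exact fibLD_comp_isOpenEmbedding f.base U.ι.base U.ι.isOpenEmbedding u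
    rw [h1]
    exact le_antisymm u.2 (le_fibreDimAt f _)

end Equidim2

end Groth.Agent.Lib.Helper6.OpenDim
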