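import Mathlib
import Groth.Agent.Lib.Helper6OpenDimD

set_option autoImplicit false
set_option linter.style.haveILetI false

universe u

open AlgebraicGeometry CategoryTheory TopologicalSpace Topology

namespace Groth.Agent.Lib.Helper6.OpenDim

open Groth.Agent.Lib.Helper4.VarDim Groth.Agent.Lib.Helper4.FibDim
  Groth.Agent.Lib.Helper4.DimFormula

section Top

variable {α : Type*} [TopologicalSpace α]

theorem isOpenEmbedding_inclusion_of_eq_inter {S T : Set α} (h : S ⊆ T) (O : Set α)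
    (hO : IsOpen O) (hS : S = O ∩ T) : IsOpenEmbedding (Set.inclusion h) := by
  refine ⟨Topology.IsEmbedding.inclusion h, ?_⟩
  rw [Set.range_inclusion]
  have : {x : T | (x : α) ∈ S} = Subtype.val ⁻¹' O := by
    ext x
    subst hS
    simp
  rw [this]
  exact hO.preimage continuous_subtype_val

theorem isIrreducible_of_mem_of_subset_closure (x : α) (S : Set α) (hx : x ∈ S)
    (hS : S ⊆ closure {x}) : IsIrreducible S := by
  refine ⟨⟨x, hx⟩, ?_⟩
  rintro V₁ V₂ hV₁ hV₂ ⟨a, haS, haV₁⟩ ⟨b, hbS, hbV₂⟩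
  have h1 : x ∈ V₁ := (specializes_iff_mem_closure.mpr (hS haS)).mem_open hV₁ haV₁
  have h2 : x ∈ V₂ := (specializes_iff_mem_closure.mpr (hS hbS)).mem_open hV₂ hbV₂
  exact ⟨x, hx, h1, h2⟩

theorem topologicalKrullDim_congr_set {s t : Set α} (h : s = t) :
    topologicalKrullDim ↥s = topologicalKrullDim ↥t := by
  subst h; rfl

end Top

section Fib

variable {X Y : Scheme.{u}} (f : X ⟶ Y)

theorem image_fiberι_closure (x : X) :
    f.fiberι (f.base x) '' closure {f.asFiber x} = closure {x} ∩ f.base ⁻¹' {f.base x} := by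
  rw [(f.fiberι (f.base x)).isEmbedding.isInducing.closure_eq_preimage_closure_image,
    Set.image_preimage_eq_inter_range, Set.image_singleton, f.fiberι_asFiber, f.range_fiberι]

variable [LocallyOfFiniteType f]

attribute [local instance] Curv2.resAlgebra

theorem topologicalKrullDim_closure_inter_fibre (x : X) :
    topologicalKrullDim ↥(closure {x} ∩ f.base ⁻¹' {f.base x}) = (ptTrdeg f x : WithBot ℕ∞) := by
  letI : (f.fiber (f.base x)).Over (Spec (CommRingCat.of (Y.residueField (f.base x)))) :=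
    ⟨f.fiberToSpecResidueField (f.base x)⟩
  haveI : LocallyOfFiniteType ((f.fiber (f.base x)) ↘
      Spec (CommRingCat.of (Y.residueField (f.base x)))) :=
    locallyOfFiniteType_fiberToSpecResidueField f _
  rw [← topologicalKrullDim_congr_set (image_fiberι_closure f x),
    ← IsHomeomorph.topologicalKrullDim_eq _
      ((f.fiberι (f.base x)).isEmbedding.homeomorphImage (closure {f.asFiber x})).isHomeomorph,
    topologicalKrullDim_closure_singleton (Y.residueField (f.base x)) (f.fiber (f.base x))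
      (f.asFiber x)]
  rfl

theorem exists_open_inter_fibre_subset_closure (x : X)
    (hmax : ∀ x' : X, f.base x' = f.base x → x' ⤳ x → x' = x) :
    ∃ O : Set X, IsOpen O ∧ x ∈ O ∧ O ∩ f.base ⁻¹' {f.base x} ⊆ closure {x} := by
  letI : (f.fiber (f.base x)).Over (Spec (CommRingCat.of (Y.residueField (f.base x)))) :=
    ⟨f.fiberToSpecResidueField (f.base x)⟩
  haveI : LocallyOfFiniteType ((f.fiber (f.base x)) ↘
      Spec (CommRingCat.of (Y.residueField (f.base x)))) :=
    locallyOfFiniteType_fiberToSpecResidueField f _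
  have hzmax : ∀ w : ↥(f.fiber (f.base x)), w ⤳ f.asFiber x → w = f.asFiber x := by
    intro w hw
    have h1 : f.fiberι (f.base x) w ⤳ f.fiberι (f.base x) (f.asFiber x) :=
      (f.fiberι (f.base x)).isEmbedding.isInducing.specializes_iff.mpr hw
    rw [f.fiberι_asFiber] at h1
    have h2 : f.base (f.fiberι (f.base x) w) = f.base x := by
      have : f.fiberι (f.base x) w ∈ Set.range (f.fiberι (f.base x)) := ⟨w, rfl⟩
      rw [f.range_fiberι] at this
      exact this
    apply (f.fiberι (f.base x)).isEmbedding.injective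
    rw [f.fiberι_asFiber]
    exact hmax _ h2 h1
  obtain ⟨N, hzN, hN⟩ := exists_opens_subset_closure (Y.residueField (f.base x))
    (f.fiber (f.base x)) (f.asFiber x) hzmax
  obtain ⟨O, hO, hON⟩ := (f.fiberι (f.base x)).isEmbedding.isInducing.isOpen_iff.mp N.2
  refine ⟨O, hO, ?_, ?_⟩
  · have : f.asFiber x ∈ f.fiberι (f.base x) ⁻¹' O := by rw [hON]; exact hzN
    rw [Set.mem_preimage, f.fiberι_asFiber] at this
    exact this
  · rintro a ⟨haO, haf⟩
    have : a ∈ Set.range (f.fiberι (f.base x)) := by rw [f.range_fiberι]; exact haf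
    obtain ⟨w, rfl⟩ := this
    have hwN : w ∈ (N : Set ↥(f.fiber (f.base x))) := by
      change w ∈ N.carrier
      rw [← hON]; exact haO
    have hsp : f.asFiber x ⤳ w := specializes_iff_mem_closure.mpr (hN hwN)
    have h1 := (f.fiberι (f.base x)).isEmbedding.isInducing.specializes_iff.mpr hsp
    rw [f.fiberι_asFiber] at h1
    exact specializes_iff_mem_closure.mp h1

/-- Local dimension at a maximal point of a fibre, computed in any subset of the fibre containing
the closure of the point. -/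
theorem localDim_eq_ptTrdeg_of_maximal (x : X)
    (hmax : ∀ x' : X, f.base x' = f.base x → x' ⤳ x → x' = x) (W : Set X)
    (hW₁ : closure {x} ∩ f.base ⁻¹' {f.base x} ⊆ W) (hW₂ : W ⊆ f.base ⁻¹' {f.base x})
    (hx : x ∈ W) : FlatMor.localDim ↥W ⟨x, hx⟩ = (ptTrdeg f x : WithBot ℕ∞) := by
  obtain ⟨O, hO, hxO, hOsub⟩ := exists_open_inter_fibre_subset_closure f x hmax
  set S : Set X := O ∩ f.base ⁻¹' {f.base x} with hS
  have hSW : S ⊆ W := fun a ha => hW₁ ⟨hOsub ha, ha.2⟩
  have hSF : S ⊆ f.base ⁻¹' {f.base x} := Set.inter_subset_right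
  have hxS : x ∈ S := ⟨hxO, rfl⟩
  have e1 : IsOpenEmbedding (Set.inclusion hSW) :=
    isOpenEmbedding_inclusion_of_eq_inter hSW O hO (by
      ext a
      constructor
      · intro ha
        exact ⟨ha.1, hSW ha⟩
      · rintro ⟨ha1, ha2⟩
        exact ⟨ha1, hW₂ ha2⟩)
  have e2 : IsOpenEmbedding (Set.inclusion hSF) :=
    isOpenEmbedding_inclusion_of_eq_inter hSF O hO rfl
  have h1 := localDim_eq_of_isOpenEmbedding e1 ⟨x, hxS⟩
  have h2 := localDim_eq_of_isOpenEmbedding e2 ⟨x, hxS⟩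
  have h3 : FlatMor.localDim ↥W ⟨x, hx⟩ = fibLD f.base x := h1.symm.trans h2
  rw [h3, ← fibreDimAt_eq_fibLD, fibreDimAt_eq_ptTrdeg_of_maximal f x hmax]

end Fib

section Comp

variable {X Y : Scheme.{u}} [IrreducibleSpace Y] [IsLocallyNoetherian Y] (f : X ⟶ Y)
  [LocallyOfFiniteType f]

/-- EGA IV 14.2.1. -/
theorem exists_component_of_isOpenAt (y : Y) (Z : Set X)
    (hZy : Z ⊆ f.base ⁻¹' {y}) (hZ : IsIrreducible Z)
    (hZmax : ∀ Z' : Set X, IsIrreducible Z' → Z' ⊆ f.base ⁻¹' {y} → Z ⊆ Z' → Z' = Z)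
    (hopen : ∀ ζ ∈ Z, Z ⊆ closure {ζ} → EGA43.IsOpenAt f.base ζ) :
    ∃ X' ∈ irreducibleComponents (X : Type u), Z ⊆ X' ∧ Dense (f.base '' X') ∧
      (∀ ζ ∈ Z, Z ⊆ closure {ζ} → ∀ hζ : ζ ∈ X' ∩ f.base ⁻¹' {y},
        FlatMor.localDim ↥(X' ∩ f.base ⁻¹' {y}) ⟨ζ, hζ⟩ = topologicalKrullDim ↥Z) ∧
      topologicalKrullDim ↥Z = topologicalKrullDim ↥(X' ∩ f.base ⁻¹' {genericPoint Y}) := by
  obtain ⟨ζ₀, hζ₀⟩ := QuasiSober.sober hZ.closure isClosed_closure
  have hcl : closure {ζ₀} = closure Z := hζ₀.def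
  have hZsub : Z ⊆ closure {ζ₀} := hcl ▸ subset_closure
  have hfζ₀ : f.base ζ₀ = y := by
    obtain ⟨a, ha⟩ := hZ.nonempty
    have h1 : ζ₀ ⤳ a := specializes_iff_mem_closure.mpr (hZsub ha)
    have h2 : f.base ζ₀ ⤳ y := by
      have := h1.map f.continuous
      rwa [show f.base a = y from hZy ha] at this
    have h3 : y ⤳ f.base ζ₀ := by
      have h4 : ζ₀ ∈ closure Z := hcl ▸ subset_closure rfl
      have h5 : ζ₀ ∈ f.base ⁻¹' closure {y} :=
        closure_minimal (hZy.trans (Set.preimage_mono subset_closure))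
          (isClosed_closure.preimage f.continuous) h4
      exact specializes_iff_mem_closure.mpr h5
    exact (h2.antisymm h3).eq
  subst hfζ₀
  have hZeq : closure {ζ₀} ∩ f.base ⁻¹' {f.base ζ₀} = Z :=
    hZmax _ (isIrreducible_of_mem_of_subset_closure ζ₀ _ ⟨subset_closure rfl, rfl⟩
      Set.inter_subset_left) Set.inter_subset_right (fun a ha => ⟨hZsub ha, hZy ha⟩)
  have hζ₀Z : ζ₀ ∈ Z := hZeq ▸ ⟨subset_closure rfl, rfl⟩
  have hmax : ∀ x' : X, f.base x' = f.base ζ₀ → x' ⤳ ζ₀ → x' = ζ₀ := by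
    intro x' hx' hsp
    have hsub : closure ({ζ₀} : Set X) ⊆ closure {x'} :=
      closure_minimal (Set.singleton_subset_iff.mpr (specializes_iff_mem_closure.mp hsp))
        isClosed_closure
    have hZ'' : closure {x'} ∩ f.base ⁻¹' {f.base ζ₀} = Z :=
      hZmax _ (isIrreducible_of_mem_of_subset_closure x' _ ⟨subset_closure rfl, hx'⟩
        Set.inter_subset_left) Set.inter_subset_right (fun a ha => ⟨hsub (hZsub ha), hZy ha⟩)
    have hx'Z : x' ∈ Z := hZ'' ▸ ⟨subset_closure rfl, hx'⟩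
    have h2 : ζ₀ ⤳ x' := specializes_iff_mem_closure.mpr (hZsub hx'Z)
    exact (hsp.antisymm h2).eq
  obtain ⟨ξ, hξζ, hfξ, hξmax, htξ⟩ := exists_maximal_over_of_isOpenAt f ζ₀ hmax
    (hopen ζ₀ hζ₀Z hZsub) (genericPoint ↥Y) (genericPoint_specializes _)
  have hξmax' : ∀ x' : X, x' ⤳ ξ → x' = ξ := by
    intro x' hx'
    refine hξmax x' ?_ hx'
    have h1 : f.base x' ⤳ f.base ξ := hx'.map f.continuous
    rw [hfξ] at h1 ⊢
    exact (h1.antisymm (genericPoint_specializes _)).eq
  have hsubξ : closure ({ζ₀} : Set X) ⊆ closure {ξ} :=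
    closure_minimal (Set.singleton_subset_iff.mpr (specializes_iff_mem_closure.mp hξζ))
      isClosed_closure
  refine ⟨closure {ξ}, mem_irreducibleComponents_of_forall_specializes ξ hξmax',
    hZsub.trans hsubξ, ?_, ?_, ?_⟩
  · rw [dense_iff_closure_eq]
    apply Set.eq_univ_of_univ_subset
    intro a _
    have h1 : a ∈ closure ({genericPoint ↥Y} : Set Y) := by
      rw [(genericPoint_spec ↥Y).def]; trivial
    have h2 : ({genericPoint ↥Y} : Set Y) ⊆ f.base '' closure {ξ} := by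
      rw [Set.singleton_subset_iff]
      exact ⟨ξ, subset_closure rfl, hfξ⟩
    exact closure_mono h2 h1
  · intro ζ hζZ hZζ hζ
    have h1 : ζ₀ ⤳ ζ := specializes_iff_mem_closure.mpr (hZsub hζZ)
    have h2 : ζ ⤳ ζ₀ := specializes_iff_mem_closure.mpr (hZζ hζ₀Z)
    obtain rfl : ζ = ζ₀ := (h2.antisymm h1).eq
    rw [localDim_eq_ptTrdeg_of_maximal f ζ hmax _
      (Set.inter_subset_inter hsubξ le_rfl) Set.inter_subset_right hζ,
      ← topologicalKrullDim_closure_inter_fibre f ζ, topologicalKrullDim_congr_set hZeq]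
  · rw [← topologicalKrullDim_congr_set hZeq, topologicalKrullDim_closure_inter_fibre f ζ₀, ← htξ,
      ← topologicalKrullDim_closure_inter_fibre f ξ]
    exact topologicalKrullDim_congr_set (by rw [hfξ])

end Comp

end Groth.Agent.Lib.Helper6.OpenDim
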