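import Mathlib
import Groth.Agent.Lib.Helper4DimFormulaAG
import Groth.Agent.Lib.Helper4DimFormulaL
import Groth.Agent.Lib.Helper4DimFormulaW
import Groth.Agent.Lib.Helper6OpenDimE

/-!
# Generic points of fibre components: `dim O_{X,z} = dim O_{Y,y}` vs. components of `X` (helper4)

EGA IV 13.3.x, conditions (b) and (c) (statement S3393).

* `maximal_in_fibre_of_stalk_dim_zero`, `stalk_dim_zero_of_maximal_in_fibre`.
* `exists_component_of_stalk_dim_eq`: (b) ⇒ (c) at a point `z`.
* `stalk_dim_eq_of_exists_component`: (c) ⇒ (b) at a point `z` (with `O_{Y,y}` universally catenary).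
-/

set_option autoImplicit false
set_option linter.style.haveILetI false

universe u

open AlgebraicGeometry CategoryTheory TopologicalSpace IsLocalRing

namespace Groth.Agent.Lib.Helper4.DimFormula

open Groth.Agent.Lib.Helper4.VarDim Groth.Agent.Lib.Helper4.FibDim

variable {X Y : Scheme.{u}} (f : X ⟶ Y)

theorem maximal_in_fibre_of_stalk_dim_zero (z : X)
    (h : ringKrullDim ((f.fiber (f.base z)).presheaf.stalk (f.asFiber z)) = 0) :
    ∀ z' : X, f.base z' = f.base z → z' ⤳ z → z' = z := by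
  intro z' hz' hsp
  rw [ringKrullDim_stalk_eq_coheight] at h
  have h0 : Order.coheight (f.asFiber z) = 0 := by exact_mod_cast h
  have hmax : IsMax (f.asFiber z) := Order.coheight_eq_zero.mp h0
  have : z' ∈ Set.range (f.fiberι (f.base z)) := by rw [f.range_fiberι]; exact hz'
  obtain ⟨w, rfl⟩ := this
  have hw : w ⤳ f.asFiber z := by
    rw [← (f.fiberι (f.base z)).isEmbedding.isInducing.specializes_iff, f.fiberι_asFiber]
    exact hsp
  have h1 : f.asFiber z ≤ w := hw
  have h2 : w ≤ f.asFiber z := hmax h1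
  have : w = f.asFiber z := (Specializes.antisymm h2 h1).eq.symm
  rw [this, f.fiberι_asFiber]

theorem stalk_dim_zero_of_maximal_in_fibre (z : X)
    (h : ∀ z' : X, f.base z' = f.base z → z' ⤳ z → z' = z) :
    ringKrullDim ((f.fiber (f.base z)).presheaf.stalk (f.asFiber z)) = 0 := by
  rw [ringKrullDim_stalk_eq_coheight]
  have : Order.coheight (f.asFiber z) = 0 := by
    rw [Order.coheight_eq_zero]
    intro w hw
    have hw' : w ⤳ f.asFiber z := hw
    have h1 : f.fiberι (f.base z) w ⤳ z := by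
      have := hw'.map (f.fiberι (f.base z)).continuous
      rwa [f.fiberι_asFiber] at this
    have h2 : f.base (f.fiberι (f.base z) w) = f.base z := by
      have : f.fiberι (f.base z) w ∈ Set.range (f.fiberι (f.base z)) := ⟨w, rfl⟩
      rw [f.range_fiberι] at this
      exact this
    have h3 := h _ h2 h1
    have : w = f.asFiber z := by
      apply (f.fiberι (f.base z)).isEmbedding.injective
      rw [h3, f.fiberι_asFiber]
    rw [this]
  rw [this]
  rfl

variable [IrreducibleSpace Y] [IsLocallyNoetherian Y] [LocallyOfFiniteType f]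

/-- (b) ⇒ (c). -/
theorem exists_component_of_stalk_dim_eq (z : X)
    (hz0 : ringKrullDim ((f.fiber (f.base z)).presheaf.stalk (f.asFiber z)) = 0)
    (hb : ringKrullDim (X.presheaf.stalk z) = ringKrullDim (Y.presheaf.stalk (f.base z))) :
    ∃ X' ∈ irreducibleComponents (X : Type u), z ∈ X' ∧
      topologicalKrullDim ↥(X' ∩ f.base ⁻¹' {genericPoint Y}) = FlatMor.fibreDimAt f z := by
  haveI : IsLocallyNoetherian X := LocallyOfFiniteType.isLocallyNoetherian f
  have hzmax := maximal_in_fibre_of_stalk_dim_zero f z hz0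
  obtain ⟨𝔭, h𝔭min, hdim⟩ := exists_minimalPrimes_ringKrullDim_quotient_eq (R := X.presheaf.stalk z)
  haveI h𝔭 : 𝔭.IsPrime := h𝔭min.1.1
  have hξmax := (mem_minimalPrimes_iff_fromSpecStalk_maximal z 𝔭).mp h𝔭min
  have h3 := ringKrullDim_quotient_add_ptTrdeg_le f z 𝔭
  have hfξ := fromSpecStalk_comap_stalkMap f z 𝔭
  have h6 := ringKrullDim_stalk_add_quotient_le (f.base z) (𝔭.comap (f.stalkMap z).hom)
  rw [hfξ] at h6
  set ξ : X := X.fromSpecStalk z ⟨𝔭, h𝔭⟩ with hξ
  have hξz : ξ ⤳ z := fromSpecStalk_specializes z _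
  have h4 : ptTrdeg f ξ ≤ ptTrdeg f z :=
    ptTrdeg_le_of_specializes f ξ z hξz (fun y _ hy => hξmax y hy) hzmax
  obtain ⟨c, hc⟩ := exists_ringKrullDim_stalk_eq_nat' (Y := Y) (f.base z)
  set r := ringKrullDim (Y.presheaf.stalk (f.base z) ⧸ 𝔭.comap (f.stalkMap z).hom) with hr
  have hrd : r ≤ c := hc ▸ ringKrullDim_quotient_le _
  rw [hdim, hb, hc] at h3
  have h5 : (c : WithBot ℕ∞) ≤ r := by
    apply withBot_enat_add_nat_le_cancel (ptTrdeg f z)
    refine h3.trans (add_le_add_right ?_ _)
    exact_mod_cast h4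
  have hrc : r = c := le_antisymm hrd h5
  rw [hrc] at h3 h6
  have h7 : ptTrdeg f z ≤ ptTrdeg f ξ := by
    have : c + ptTrdeg f z ≤ c + ptTrdeg f ξ := by exact_mod_cast h3
    omega
  have htt : ptTrdeg f ξ = ptTrdeg f z := le_antisymm h4 h7
  -- `f ξ` is the generic point
  have hgen : f.base ξ = genericPoint Y := by
    by_contra hne
    have h8 := one_le_ringKrullDim_stalk_of_ne (f.base ξ) hne
    rw [hc] at h6
    have h9 : (1 : WithBot ℕ∞) + c ≤ c := (add_le_add_left h8 _).trans h6
    have : (1 : ℕ) + c ≤ c := by exact_mod_cast h9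
    omega
  refine ⟨closure {ξ}, mem_irreducibleComponents_of_forall_specializes ξ hξmax,
    specializes_iff_mem_closure.mp hξz, ?_⟩
  rw [← hgen, Groth.Agent.Lib.Helper6.OpenDim.topologicalKrullDim_closure_inter_fibre f ξ,
    fibreDimAt_eq_ptTrdeg_of_maximal f z hzmax, htt]

/-- (c) ⇒ (b). -/
theorem stalk_dim_eq_of_exists_component (z : X)
    (hcat : CAlg.IsUniversallyCatenary (Y.presheaf.stalk (f.base z)))
    (hz0 : ringKrullDim ((f.fiber (f.base z)).presheaf.stalk (f.asFiber z)) = 0)
    (hc : ∃ X' ∈ irreducibleComponents (X : Type u), z ∈ X' ∧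
      topologicalKrullDim ↥(X' ∩ f.base ⁻¹' {genericPoint Y}) = FlatMor.fibreDimAt f z) :
    ringKrullDim (X.presheaf.stalk z) = ringKrullDim (Y.presheaf.stalk (f.base z)) := by
  have hzmax := maximal_in_fibre_of_stalk_dim_zero f z hz0
  obtain ⟨X', hX', hzX', hdim⟩ := hc
  obtain ⟨ξ, hξ⟩ := QuasiSober.sober hX'.1 (isClosed_of_mem_irreducibleComponents _ hX')
  have hcl : closure ({ξ} : Set X) = X' := hξ.def
  have hξz : ξ ⤳ z := by
    rw [specializes_iff_mem_closure, hcl]
    exact hzX'
  have hfd := fibreDimAt_eq_ptTrdeg_of_maximal f z hzmax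
  -- nonempty
  have hne : Nonempty ↥(X' ∩ f.base ⁻¹' {genericPoint Y}) := by
    by_contra hemp
    rw [not_nonempty_iff] at hemp
    rw [topologicalKrullDim_eq_bot_of_isEmpty, hfd] at hdim
    exact WithBot.coe_ne_bot hdim.symm
  obtain ⟨⟨w, hwX', hwη⟩⟩ := hne
  have hgen : f.base ξ = genericPoint Y := by
    have h1 : ξ ⤳ w := by
      rw [specializes_iff_mem_closure, hcl]
      exact hwX'
    have h2 : f.base ξ ⤳ genericPoint Y := by
      have := h1.map f.continuous
      rw [Set.mem_preimage, Set.mem_singleton_iff] at hwη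
      rwa [hwη] at this
    exact (h2.antisymm (genericPoint_specializes _)).eq
  have htt : ptTrdeg f ξ = ptTrdeg f z := by
    have h1 := Groth.Agent.Lib.Helper6.OpenDim.topologicalKrullDim_closure_inter_fibre f ξ
    rw [hcl, hgen, hdim, hfd] at h1
    exact_mod_cast h1.symm
  obtain ⟨𝔭, h𝔭, h𝔭ξ⟩ := exists_prime_fromSpecStalk_eq hξz
  have h4 := ringKrullDim_quotient_add_ptTrdeg_eq f z hcat 𝔭
  have h5 : ringKrullDim (Y.presheaf.stalk (f.base z) ⧸ 𝔭.comap (f.stalkMap z).hom) =
      ringKrullDim (Y.presheaf.stalk (f.base z)) :=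
    ringKrullDim_quotient_eq_of_forall_specializes (f.base z) (𝔭.comap (f.stalkMap z).hom)
      (fun y' _ => by
        rw [fromSpecStalk_comap_stalkMap, h𝔭ξ, hgen]
        exact genericPoint_specializes y')
  rw [h5, h𝔭ξ, htt] at h4
  have h6 := withBot_enat_add_nat_cancel _ h4
  apply le_antisymm
  · have := ringKrullDim_stalk_le_add_asFiber f z
    rwa [hz0, add_zero] at this
  · rw [← h6]
    exact ringKrullDim_quotient_le _

end Groth.Agent.Lib.Helper4.DimFormula
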