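import Mathlib
import Groth.Agent.Lib.Helper4DimFormulaAH

/-!
# Generic points of fibre components of an irreducible closed subset (helper4)

* `ringKrullDim_le_of_forall_prime_eq_maximalIdeal`: `R → S` local hom of Noetherian local rings with
  `m_S` the only prime over `m_R S` ⟹ `dim S ≤ dim R`.
* `ringKrullDim_quotient_le_of_forall_prime_eq_maximalIdeal`: relative version for `S/𝔮` over `R/(𝔮 ∩ R)`.
* `ringKrullDim_quotient_eq_of_fromSpecStalk_eq`: transport along an equality of base points.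
* `comap_stalkMap_eq_maximalIdeal_of_base_eq`, `base_fromSpecStalk_eq_of_map_le`.
* `ringKrullDim_quotient_le_of_maximal_in_fibre_of_closure`: if `z` is maximal among the points of its fibre
  lying in `closure {ξ}`, then `dim O_{X,z}/𝔮_ξ ≤ dim O_{Y,f z}/(𝔮_ξ ∩ O_Y)`.
-/

set_option autoImplicit false
set_option linter.style.haveILetI false

universe u

open AlgebraicGeometry CategoryTheory TopologicalSpace IsLocalRing

namespace Groth.Agent.Lib.Helper4.DimFormula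

open Groth.Agent.Lib.Helper4.VarDim Groth.Agent.Lib.Helper4.FibDim

section Ring

variable {R S : Type*} [CommRing R] [CommRing S] [IsLocalRing R] [IsLocalRing S]
  [IsNoetherianRing R] [IsNoetherianRing S]

theorem ringKrullDim_le_of_forall_prime_eq_maximalIdeal (φ : R →+* S)
    (hcomap : (maximalIdeal S).comap φ = maximalIdeal R)
    (h : ∀ 𝔫 : Ideal S, 𝔫.IsPrime → (maximalIdeal R).map φ ≤ 𝔫 → 𝔫 = maximalIdeal S) :
    ringKrullDim S ≤ ringKrullDim R := by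
  letI : Algebra R S := φ.toAlgebra
  haveI : (maximalIdeal S).LiesOver (maximalIdeal R) := ⟨hcomap.symm⟩
  have h1 := Ideal.height_le_height_add_of_liesOver (maximalIdeal R) (maximalIdeal S)
  set I : Ideal S := (maximalIdeal R).map (algebraMap R S) with hI
  have hIle : I ≤ maximalIdeal S := by
    rw [hI, Ideal.map_le_iff_le_comap]
    exact hcomap.ge
  have hprime : ((maximalIdeal S).map (Ideal.Quotient.mk I)).IsPrime :=
    Ideal.map_isPrime_of_surjective Ideal.Quotient.mk_surjective (by simpa using hIle)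
  have h3 : ((maximalIdeal S).map (Ideal.Quotient.mk I)).height = 0 := by
    rw [Ideal.height_eq_zero_iff]
    refine ⟨⟨hprime, bot_le⟩, ?_⟩
    rintro Q' ⟨hQ'prime, -⟩ _
    set Q : Ideal S := Q'.comap (Ideal.Quotient.mk I) with hQ
    have hQprime : Q.IsPrime := Ideal.comap_isPrime _ _
    have hIQ : I ≤ Q := by
      intro a ha
      rw [hQ, Ideal.mem_comap, Ideal.Quotient.eq_zero_iff_mem.mpr ha]
      exact Q'.zero_mem
    have hm : Q = maximalIdeal S := h Q hQprime hIQ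
    calc (maximalIdeal S).map (Ideal.Quotient.mk I) = Q.map (Ideal.Quotient.mk I) := by rw [hm]
      _ ≤ Q' := Ideal.map_comap_le
  rw [h3, add_zero] at h1
  rw [← IsLocalRing.maximalIdeal_height_eq_ringKrullDim,
    ← IsLocalRing.maximalIdeal_height_eq_ringKrullDim]
  exact_mod_cast h1

theorem ringKrullDim_quotient_le_of_forall_prime_eq_maximalIdeal (φ : R →+* S)
    (hcomap : (maximalIdeal S).comap φ = maximalIdeal R) (𝔮 : Ideal S) [h𝔮 : 𝔮.IsPrime]
    (h : ∀ 𝔫 : Ideal S, 𝔫.IsPrime → 𝔮 ≤ 𝔫 → (maximalIdeal R).map φ ≤ 𝔫 → 𝔫 = maximalIdeal S) :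
    ringKrullDim (S ⧸ 𝔮) ≤ ringKrullDim (R ⧸ 𝔮.comap φ) := by
  haveI : (𝔮.comap φ).IsPrime := Ideal.comap_isPrime _ _
  haveI : IsLocalRing (S ⧸ 𝔮) := Groth.Agent.Lib.Helper5.isLocalRing_quotient h𝔮.ne_top
  haveI : IsLocalRing (R ⧸ 𝔮.comap φ) :=
    Groth.Agent.Lib.Helper5.isLocalRing_quotient (Ideal.IsPrime.ne_top inferInstance)
  set φ' : R ⧸ 𝔮.comap φ →+* S ⧸ 𝔮 := Ideal.quotientMap 𝔮 φ le_rfl with hφ'
  have hcomm : φ'.comp (Ideal.Quotient.mk (𝔮.comap φ)) = (Ideal.Quotient.mk 𝔮).comp φ := by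
    ext x
    simp [hφ']
  have h𝔮m : 𝔮 ≤ maximalIdeal S := le_maximalIdeal h𝔮.ne_top
  have h𝔮m' : 𝔮.comap φ ≤ maximalIdeal R := le_maximalIdeal (Ideal.IsPrime.ne_top inferInstance)
  have hcmS : ((maximalIdeal S).map (Ideal.Quotient.mk 𝔮)).comap (Ideal.Quotient.mk 𝔮) =
      maximalIdeal S := by
    rw [Ideal.comap_map_of_surjective _ Ideal.Quotient.mk_surjective,
      ← RingHom.ker_eq_comap_bot, Ideal.mk_ker, sup_eq_left.mpr h𝔮m]
  have hcmR : ((maximalIdeal R).map (Ideal.Quotient.mk (𝔮.comap φ))).comap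
      (Ideal.Quotient.mk (𝔮.comap φ)) = maximalIdeal R := by
    rw [Ideal.comap_map_of_surjective _ Ideal.Quotient.mk_surjective,
      ← RingHom.ker_eq_comap_bot, Ideal.mk_ker, sup_eq_left.mpr h𝔮m']
  refine ringKrullDim_le_of_forall_prime_eq_maximalIdeal φ' ?_ ?_
  · rw [Groth.Agent.Lib.Helper5.maximalIdeal_quotient_eq_map,
      Groth.Agent.Lib.Helper5.maximalIdeal_quotient_eq_map]
    apply Ideal.comap_injective_of_surjective (Ideal.Quotient.mk (𝔮.comap φ))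
      Ideal.Quotient.mk_surjective
    rw [Ideal.comap_comap, hcomm, ← Ideal.comap_comap, hcmS, hcomap, hcmR]
  · intro 𝔫' h𝔫' hle
    have h1 : (maximalIdeal R).map φ ≤ 𝔫'.comap (Ideal.Quotient.mk 𝔮) := by
      rw [Ideal.map_le_iff_le_comap, Ideal.comap_comap, ← hcomm, ← Ideal.comap_comap,
        ← Ideal.map_le_iff_le_comap, ← Groth.Agent.Lib.Helper5.maximalIdeal_quotient_eq_map,
        ← Ideal.map_le_iff_le_comap]
      exact hle
    have h2 : 𝔮 ≤ 𝔫'.comap (Ideal.Quotient.mk 𝔮) := by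
      intro a ha
      rw [Ideal.mem_comap, Ideal.Quotient.eq_zero_iff_mem.mpr ha]
      exact zero_mem _
    have h3 := h _ (Ideal.comap_isPrime _ _) h2 h1
    rw [Groth.Agent.Lib.Helper5.maximalIdeal_quotient_eq_map, ← h3,
      Ideal.map_comap_of_surjective _ Ideal.Quotient.mk_surjective]

end Ring

section Sch

variable {X Y : Scheme.{u}}

theorem ringKrullDim_quotient_eq_of_fromSpecStalk_eq (y₁ y₂ : Y) (h : y₁ = y₂)
    (𝔞 : Ideal (Y.presheaf.stalk y₁)) [h𝔞 : 𝔞.IsPrime] (𝔟 : Ideal (Y.presheaf.stalk y₂))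
    [h𝔟 : 𝔟.IsPrime]
    (hpt : Y.fromSpecStalk y₁ ⟨𝔞, h𝔞⟩ = Y.fromSpecStalk y₂ ⟨𝔟, h𝔟⟩) :
    ringKrullDim (Y.presheaf.stalk y₁ ⧸ 𝔞) = ringKrullDim (Y.presheaf.stalk y₂ ⧸ 𝔟) := by
  subst h
  have := fromSpecStalk_injective y₁ 𝔞 𝔟 hpt
  subst this
  rfl

theorem comap_stalkMap_eq_maximalIdeal_of_base_eq (f : X ⟶ Y) (x : X)
    (𝔭 : Ideal (X.presheaf.stalk x)) [h𝔭 : 𝔭.IsPrime]
    (h : f.base (X.fromSpecStalk x ⟨𝔭, h𝔭⟩) = f.base x) :
    𝔭.comap (f.stalkMap x).hom = maximalIdeal (Y.presheaf.stalk (f.base x)) := by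
  have h1 := fromSpecStalk_comap_stalkMap f x 𝔭
  rw [h] at h1
  have h2 : Y.fromSpecStalk (f.base x) (closedPoint (Y.presheaf.stalk (f.base x))) = f.base x :=
    Scheme.fromSpecStalk_closedPoint
  haveI : (𝔭.comap (f.stalkMap x).hom).IsPrime := Ideal.comap_isPrime _ _
  exact fromSpecStalk_injective (f.base x) (𝔭.comap (f.stalkMap x).hom)
    (maximalIdeal (Y.presheaf.stalk (f.base x))) (h1.trans h2.symm)

theorem base_fromSpecStalk_eq_of_map_le (f : X ⟶ Y) (x : X)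
    (𝔫 : Ideal (X.presheaf.stalk x)) [h𝔫 : 𝔫.IsPrime]
    (h : (maximalIdeal (Y.presheaf.stalk (f.base x))).map (f.stalkMap x).hom ≤ 𝔫) :
    f.base (X.fromSpecStalk x ⟨𝔫, h𝔫⟩) = f.base x := by
  haveI : (𝔫.comap (f.stalkMap x).hom).IsPrime := Ideal.comap_isPrime _ _
  have h1 : 𝔫.comap (f.stalkMap x).hom = maximalIdeal (Y.presheaf.stalk (f.base x)) :=
    ((maximalIdeal.isMaximal _).eq_of_le (Ideal.IsPrime.ne_top inferInstance)
      (Ideal.map_le_iff_le_comap.mp h)).symm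
  rw [← fromSpecStalk_comap_stalkMap f x 𝔫]
  have h2 : Y.fromSpecStalk (f.base x) (closedPoint (Y.presheaf.stalk (f.base x))) = f.base x :=
    Scheme.fromSpecStalk_closedPoint
  refine Eq.trans ?_ h2
  exact congrArg (fun q => Y.fromSpecStalk (f.base x) q) (PrimeSpectrum.ext h1)

theorem eq_maximalIdeal_of_fromSpecStalk_eq (x : X) (𝔫 : Ideal (X.presheaf.stalk x))
    [h𝔫 : 𝔫.IsPrime] (h : X.fromSpecStalk x ⟨𝔫, h𝔫⟩ = x) : 𝔫 = maximalIdeal (X.presheaf.stalk x) := by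
  have h2 : X.fromSpecStalk x (closedPoint (X.presheaf.stalk x)) = x :=
    Scheme.fromSpecStalk_closedPoint
  exact fromSpecStalk_injective x 𝔫 (maximalIdeal (X.presheaf.stalk x)) (h.trans h2.symm)

theorem ringKrullDim_quotient_le_of_maximal_in_fibre_of_closure [IsLocallyNoetherian Y]
    (f : X ⟶ Y) [LocallyOfFiniteType f] (z : X) (𝔮 : Ideal (X.presheaf.stalk z))
    [h𝔮 : 𝔮.IsPrime]
    (hmax : ∀ x' : X, X.fromSpecStalk z ⟨𝔮, h𝔮⟩ ⤳ x' → x' ⤳ z → f.base x' = f.base z → x' = z) :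
    ringKrullDim (X.presheaf.stalk z ⧸ 𝔮) ≤
      ringKrullDim (Y.presheaf.stalk (f.base z) ⧸ 𝔮.comap (f.stalkMap z).hom) := by
  haveI : IsLocallyNoetherian X := LocallyOfFiniteType.isLocallyNoetherian f
  have hlocal : IsLocalHom (f.stalkMap z).hom := inferInstance
  have hcomap : (maximalIdeal (X.presheaf.stalk z)).comap (f.stalkMap z).hom =
      maximalIdeal (Y.presheaf.stalk (f.base z)) :=
    ((IsLocalRing.local_hom_TFAE (f.stalkMap z).hom).out 0 4).mp hlocal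
  refine ringKrullDim_quotient_le_of_forall_prime_eq_maximalIdeal (f.stalkMap z).hom hcomap 𝔮 ?_
  intro 𝔫 h𝔫 hle hm
  have h1 := hmax (X.fromSpecStalk z ⟨𝔫, h𝔫⟩) ((fromSpecStalk_specializes_iff z 𝔮 𝔫).mpr hle)
    (fromSpecStalk_specializes z _) (base_fromSpecStalk_eq_of_map_le f z 𝔫 hm)
  exact eq_maximalIdeal_of_fromSpecStalk_eq z 𝔫 h1

end Sch

end Groth.Agent.Lib.Helper4.DimFormula
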