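import Mathlib
import Groth.Agent.Lib.Helper4DimFormulaAI
import Groth.Agent.Lib.Helper10CodimFib

/-!
# The dimension formula at `x` and generic points of fibre components through `x` (helper4)

EGA IV 13.3.x (statement S3448): for `f` of finite type, `O_{Y,y}` universally catenary,
`dim O_{X,x} = dim O_{Y,y} + dim O_{X_y,x}` iff there is a generic point `z ⤳ x` of a component of the fibre
with `dim_z X_y = dim_x X_y` and `dim O_{X,z} = dim O_{Y,y}`.
-/

set_option autoImplicit false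
set_option linter.style.haveILetI false

universe u

open AlgebraicGeometry CategoryTheory TopologicalSpace IsLocalRing

namespace Groth.Agent.Lib.Helper4.DimFormula

open Groth.Agent.Lib.Helper4.VarDim Groth.Agent.Lib.Helper4.FibDim

section Ring

theorem one_le_ringKrullDim_quotient_of_ne_maximalIdeal {S : Type*} [CommRing S] [IsLocalRing S]
    (𝔭 : Ideal S) [h𝔭 : 𝔭.IsPrime] (hne : 𝔭 ≠ maximalIdeal S) : 1 ≤ ringKrullDim (S ⧸ 𝔭) := by
  have h1 := ringKrullDim_quotient_eq_coheight' (⟨𝔭, h𝔭⟩ : PrimeSpectrum S)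
  change ringKrullDim (S ⧸ 𝔭) = _ at h1
  rw [h1]
  have hlt : (⟨𝔭, h𝔭⟩ : PrimeSpectrum S) < closedPoint S := by
    refine lt_of_le_of_ne (le_maximalIdeal h𝔭.ne_top) ?_
    intro h
    exact hne (congrArg PrimeSpectrum.asIdeal h)
  have h2 := Order.coheight_add_one_le hlt
  have h3 : (1 : ℕ∞) ≤ Order.coheight (⟨𝔭, h𝔭⟩ : PrimeSpectrum S) := le_trans le_add_self h2
  exact_mod_cast h3

theorem exists_nat_eq_of_le_of_nonneg {a : WithBot ℕ∞} {c : ℕ} (h : a ≤ c) (h0 : 0 ≤ a) :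
    ∃ n : ℕ, a = n ∧ n ≤ c := by
  induction a with
  | bot => exact absurd h0 (by simp)
  | coe a =>
    have h' : a ≤ (c : ℕ∞) := by exact_mod_cast h
    have hne : a ≠ ⊤ := ne_top_of_le_ne_top (by simp) h'
    refine ⟨a.toNat, ?_, ?_⟩
    · rw [← ENat.natCast_toNat hne]
      rfl
    · have : ((a.toNat : ℕ) : ℕ∞) ≤ c := by rw [ENat.natCast_toNat hne]; exact h'
      exact_mod_cast this

end Ring

variable {X Y : Scheme.{u}} (f : X ⟶ Y) [LocallyOfFiniteType f]

theorem fibreDimAt_le_of_specializes (ξ x : X) (h : ξ ⤳ x) :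
    FlatMor.fibreDimAt f ξ ≤ FlatMor.fibreDimAt f x := by
  have hopen := isOpen_setOf_fibreDimAt_le' f (FlatMor.fibreDimAt f x)
  have hx' : x ∈ {x' : X | FlatMor.fibreDimAt f x' ≤ FlatMor.fibreDimAt f x} := by
    rw [Set.mem_ofPred_eq]
  have h1 := h.mem_open hopen hx'
  rw [Set.mem_ofPred_eq] at h1
  exact h1

theorem ptTrdeg_le_fibreDimAt (x : X) : (ptTrdeg f x : WithBot ℕ∞) ≤ FlatMor.fibreDimAt f x := by
  rw [fibreDimAt_eq_stalk_add_ptTrdeg]
  exact le_add_of_nonneg_left ringKrullDim_nonneg_of_nontrivial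

attribute [local instance] Curv2.resAlgebra in
theorem exists_ringKrullDim_stalk_asFiber_eq_nat (x : X) :
    ∃ b : ℕ, ringKrullDim ((f.fiber (f.base x)).presheaf.stalk (f.asFiber x)) = b := by
  letI : (f.fiber (f.base x)).Over (Spec (CommRingCat.of (Y.residueField (f.base x)))) :=
    ⟨f.fiberToSpecResidueField (f.base x)⟩
  haveI : LocallyOfFiniteType ((f.fiber (f.base x)) ↘
      Spec (CommRingCat.of (Y.residueField (f.base x)))) :=
    locallyOfFiniteType_fiberToSpecResidueField f _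
  exact exists_ringKrullDim_stalk_eq (Y.residueField (f.base x)) (f.fiber (f.base x)) (f.asFiber x)

variable [IsLocallyNoetherian Y]

theorem ringKrullDim_quotient_add_ptTrdeg_eq_of_base_eq (x : X)
    (hcat : CAlg.IsUniversallyCatenary (Y.presheaf.stalk (f.base x)))
    (𝔭 : Ideal (X.presheaf.stalk x)) [h𝔭 : 𝔭.IsPrime]
    (h : f.base (X.fromSpecStalk x ⟨𝔭, h𝔭⟩) = f.base x) :
    ringKrullDim (X.presheaf.stalk x ⧸ 𝔭) + (ptTrdeg f x : WithBot ℕ∞) =
      (ptTrdeg f (X.fromSpecStalk x ⟨𝔭, h𝔭⟩) : WithBot ℕ∞) := by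
  have h1 := ringKrullDim_quotient_add_ptTrdeg_eq f x hcat 𝔭
  rw [comap_stalkMap_eq_maximalIdeal_of_base_eq f x 𝔭 h] at h1
  have h0 : ringKrullDim (Y.presheaf.stalk (f.base x) ⧸
      maximalIdeal (Y.presheaf.stalk (f.base x))) = 0 :=
    ringKrullDim_eq_zero_of_isField ((Ideal.Quotient.maximal_ideal_iff_isField_quotient _).mp
      (maximalIdeal.isMaximal _))
  rw [h0, zero_add] at h1
  exact h1

theorem dim_formula_of_exists_generic (x : X)
    (hcat : CAlg.IsUniversallyCatenary (Y.presheaf.stalk (f.base x))) (z : X)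
    (hz : f.base z = f.base x) (hzx : z ⤳ x)
    (hzmax : ∀ z' : X, f.base z' = f.base x → z' ⤳ z → z' = z)
    (hfd : FlatMor.fibreDimAt f z = FlatMor.fibreDimAt f x)
    (hdz : ringKrullDim (X.presheaf.stalk z) = ringKrullDim (Y.presheaf.stalk (f.base z))) :
    ringKrullDim (X.presheaf.stalk x) =
      ringKrullDim (Y.presheaf.stalk (f.base x)) +
        ringKrullDim ((f.fiber (f.base x)).presheaf.stalk (f.asFiber x)) := by
  refine le_antisymm (ringKrullDim_stalk_le_add_asFiber f x) ?_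
  obtain ⟨𝔭, h𝔭, h𝔭z⟩ := exists_prime_fromSpecStalk_eq hzx
  have h1 := ringKrullDim_quotient_add_ptTrdeg_eq_of_base_eq f x hcat 𝔭 (by rw [h𝔭z]; exact hz)
  have h2 := ringKrullDim_stalk_add_quotient_le x 𝔭
  rw [h𝔭z] at h1 h2
  have h3 := fibreDimAt_eq_ptTrdeg_of_maximal f z (fun y hy hyz => hzmax y (hy.trans hz) hyz)
  have h4 := fibreDimAt_eq_stalk_add_ptTrdeg f x
  have h5 : ringKrullDim (X.presheaf.stalk x ⧸ 𝔭) =
      ringKrullDim ((f.fiber (f.base x)).presheaf.stalk (f.asFiber x)) := by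
    apply withBot_enat_add_nat_cancel (ptTrdeg f x)
    rw [h1, ← h3, hfd, h4]
  rw [h5, hdz, hz] at h2
  exact h2

theorem exists_generic_of_dim_formula (x : X)
    (hcat : CAlg.IsUniversallyCatenary (Y.presheaf.stalk (f.base x)))
    (hform : ringKrullDim (X.presheaf.stalk x) =
      ringKrullDim (Y.presheaf.stalk (f.base x)) +
        ringKrullDim ((f.fiber (f.base x)).presheaf.stalk (f.asFiber x))) :
    ∃ z : X, f.base z = f.base x ∧ z ⤳ x ∧
      (∀ z' : X, f.base z' = f.base x → z' ⤳ z → z' = z) ∧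
      FlatMor.fibreDimAt f z = FlatMor.fibreDimAt f x ∧
      ringKrullDim (X.presheaf.stalk z) = ringKrullDim (Y.presheaf.stalk (f.base z)) := by
  haveI : IsLocallyNoetherian X := LocallyOfFiniteType.isLocallyNoetherian f
  obtain ⟨c, hc⟩ := exists_ringKrullDim_stalk_eq_nat' (Y := Y) (f.base x)
  obtain ⟨b, hb⟩ := exists_ringKrullDim_stalk_asFiber_eq_nat f x
  have hfdx : FlatMor.fibreDimAt f x = ((b + ptTrdeg f x : ℕ) : WithBot ℕ∞) := by
    rw [fibreDimAt_eq_stalk_add_ptTrdeg f x, hb]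
    push_cast
    rfl
  -- step 1: a component of maximal dimension
  obtain ⟨𝔭, h𝔭min, hdim⟩ := exists_minimalPrimes_ringKrullDim_quotient_eq (R := X.presheaf.stalk x)
  haveI h𝔭 : 𝔭.IsPrime := h𝔭min.1.1
  have hξmax := (mem_minimalPrimes_iff_fromSpecStalk_maximal x 𝔭).mp h𝔭min
  have h2 := ringKrullDim_quotient_add_ptTrdeg_eq f x hcat 𝔭
  set ξ : X := X.fromSpecStalk x ⟨𝔭, h𝔭⟩ with hξ
  have hξx : ξ ⤳ x := fromSpecStalk_specializes x _
  set r := ringKrullDim (Y.presheaf.stalk (f.base x) ⧸ 𝔭.comap (f.stalkMap x).hom) with hr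
  have hrc : r ≤ c := hc ▸ ringKrullDim_quotient_le _
  haveI : (𝔭.comap (f.stalkMap x).hom).IsPrime := Ideal.comap_isPrime _ _
  obtain ⟨r', hr', hr'c⟩ := exists_nat_eq_of_le_of_nonneg hrc ringKrullDim_nonneg_of_nontrivial
  rw [hdim, hform, hc, hb, hr'] at h2
  have h3 : ptTrdeg f ξ ≤ b + ptTrdeg f x := by
    have h31 := fibreDimAt_eq_ptTrdeg_of_maximal f ξ (fun y _ hy => hξmax y hy)
    have h32 := fibreDimAt_le_of_specializes f ξ x hξx
    rw [h31, hfdx] at h32
    exact_mod_cast h32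
  have h2' : c + b + ptTrdeg f x = r' + ptTrdeg f ξ := by exact_mod_cast h2
  have hr'eq : r' = c := by omega
  have htξ : ptTrdeg f ξ = b + ptTrdeg f x := by omega
  -- step 5: choose z
  set S : Set X := {x' | ξ ⤳ x' ∧ x' ⤳ x ∧ f.base x' = f.base x} with hS
  obtain ⟨z, hzS, hzmin⟩ := (InvImage.wf (fun x' : X => ringKrullDim (X.presheaf.stalk x'))
    wellFounded_lt).has_min S ⟨x, hξx, specializes_rfl, rfl⟩
  obtain ⟨hξz, hzx, hzfx⟩ := hzS
  have hzmax' : ∀ x' : X, ξ ⤳ x' → x' ⤳ z → f.base x' = f.base z → x' = z := by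
    intro x' h1 h2 h3
    by_contra hne
    exact hzmin x' ⟨h1, h2.trans hzx, h3.trans hzfx⟩
      (Groth.Agent.Lib.Helper10.CodimFib.ringKrullDim_stalk_lt_of_specializes h2 hne)
  have hcatz : CAlg.IsUniversallyCatenary (Y.presheaf.stalk (f.base z)) := by
    rw [hzfx]
    exact hcat
  have hcz : ringKrullDim (Y.presheaf.stalk (f.base z)) = c := by
    rw [hzfx]
    exact hc
  obtain ⟨𝔮, h𝔮, h𝔮ξ⟩ := exists_prime_fromSpecStalk_eq hξz
  have hA := ringKrullDim_quotient_le_of_maximal_in_fibre_of_closure f z 𝔮 (by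
    rw [h𝔮ξ]
    exact hzmax')
  have h6 := ringKrullDim_quotient_add_ptTrdeg_eq f z hcatz 𝔮
  haveI : (𝔮.comap (f.stalkMap z).hom).IsPrime := Ideal.comap_isPrime _ _
  have h7 : ringKrullDim (Y.presheaf.stalk (f.base z) ⧸ 𝔮.comap (f.stalkMap z).hom) = r :=
    ringKrullDim_quotient_eq_of_fromSpecStalk_eq (f.base z) (f.base x) hzfx
      (𝔮.comap (f.stalkMap z).hom) (𝔭.comap (f.stalkMap x).hom) (by
        rw [fromSpecStalk_comap_stalkMap, fromSpecStalk_comap_stalkMap, h𝔮ξ])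
  rw [h7, hr', hr'eq] at hA h6
  rw [h𝔮ξ] at h6
  obtain ⟨a', ha', ha'c⟩ := exists_nat_eq_of_le_of_nonneg hA ringKrullDim_nonneg_of_nontrivial
  rw [ha'] at h6
  have h8 : ptTrdeg f z ≤ b + ptTrdeg f x := by
    have h81 := ptTrdeg_le_fibreDimAt f z
    have h82 := fibreDimAt_le_of_specializes f z x hzx
    rw [hfdx] at h82
    exact_mod_cast h81.trans h82
  have h6' : a' + ptTrdeg f z = c + ptTrdeg f ξ := by exact_mod_cast h6
  have ha'eq : a' = c := by omega
  have htz : ptTrdeg f z = b + ptTrdeg f x := by omega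
  -- z is maximal in the fibre
  have hzmax : ∀ z' : X, f.base z' = f.base x → z' ⤳ z → z' = z := by
    intro z' hz' hz'z
    by_contra hne
    obtain ⟨𝔭', h𝔭', h𝔭'z⟩ := exists_prime_fromSpecStalk_eq hz'z
    have h10 := ringKrullDim_quotient_add_ptTrdeg_eq_of_base_eq f z hcatz 𝔭' (by
      rw [h𝔭'z]
      exact hz'.trans hzfx.symm)
    rw [h𝔭'z] at h10
    have h11 : 𝔭' ≠ maximalIdeal (X.presheaf.stalk z) := by
      intro h
      apply hne
      rw [← h𝔭'z]
      have h2 : X.fromSpecStalk z (closedPoint (X.presheaf.stalk z)) = z :=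
        Scheme.fromSpecStalk_closedPoint
      refine Eq.trans ?_ h2
      exact congrArg (fun q => X.fromSpecStalk z q) (PrimeSpectrum.ext h)
    have h12 := one_le_ringKrullDim_quotient_of_ne_maximalIdeal 𝔭' h11
    have h13 : ptTrdeg f z' ≤ b + ptTrdeg f x := by
      have h81 := ptTrdeg_le_fibreDimAt f z'
      have h82 := fibreDimAt_le_of_specializes f z' x (hz'z.trans hzx)
      rw [hfdx] at h82
      exact_mod_cast h81.trans h82
    have h14 : (1 : WithBot ℕ∞) + (ptTrdeg f z : WithBot ℕ∞) ≤ (ptTrdeg f z' : WithBot ℕ∞) := by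
      rw [← h10]
      exact add_le_add_left h12 _
    have h15 : 1 + ptTrdeg f z ≤ ptTrdeg f z' := by exact_mod_cast h14
    omega
  have hzmaxz : ∀ z' : X, f.base z' = f.base z → z' ⤳ z → z' = z :=
    fun z' hz' hz'z => hzmax z' (hz'.trans hzfx) hz'z
  refine ⟨z, hzfx, hzx, hzmax, ?_, ?_⟩
  · rw [fibreDimAt_eq_ptTrdeg_of_maximal f z hzmaxz, hfdx, htz]
  · apply le_antisymm
    · have := ringKrullDim_stalk_le_add_asFiber f z
      rwa [stalk_dim_zero_of_maximal_in_fibre f z hzmaxz, add_zero] at this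
    · rw [hcz, ← ha'eq, ← ha']
      exact ringKrullDim_quotient_le _

end Groth.Agent.Lib.Helper4.DimFormula
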