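import Mathlib
import Groth.Agent.Lib.Helper4DimFormulaAJ
import Groth.Agent.Lib.Helper4DimFormulaP

/-!
# Additivity of dimensions of quotients of universally catenary local rings of a scheme (helper4)

* `height_map_mk_add_of_isUniversallyCatenary`: `ht(m/P') = ht(P/P') + ht(m/P)` for primes `P' ≤ P ≤ m`
  with `A_m` universally catenary.
* `ringKrullDim_quotient_eq_add_of_isUniversallyCatenary`: for primes `𝔭' ≤ 𝔭` of `O_{S,s}` (u.c.) with
  points `σ'`, `σ`, and `𝔭''` the prime of `O_{S,σ}` with point `σ'`: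
  `dim O_{S,s}/𝔭' = dim O_{S,σ}/𝔭'' + dim O_{S,s}/𝔭`.
-/

set_option autoImplicit false
set_option linter.style.haveILetI false

universe u

open AlgebraicGeometry CategoryTheory TopologicalSpace IsLocalRing

namespace Groth.Agent.Lib.Helper4.DimFormula

open Groth.Agent.Lib.Helper4.VarDim Groth.Agent.Lib.Helper4.FibDim

section Ring

theorem comap_mk_map_mk {A : Type*} [CommRing A] (P m : Ideal A) (h : P ≤ m) :
    (m.map (Ideal.Quotient.mk P)).comap (Ideal.Quotient.mk P) = m := by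
  rw [Ideal.comap_map_of_surjective _ Ideal.Quotient.mk_surjective, ← RingHom.ker_eq_comap_bot,
    Ideal.mk_ker, sup_eq_left.mpr h]

theorem height_map_mk_add_of_isUniversallyCatenary (A : Type u) [CommRing A] [IsNoetherianRing A]
    (P' P m : Ideal A) [P'.IsPrime] [P.IsPrime] [m.IsPrime] (h1 : P' ≤ P) (h2 : P ≤ m)
    (hcat : CAlg.IsUniversallyCatenary (Localization.AtPrime m)) :
    (m.map (Ideal.Quotient.mk P')).height =
      (P.map (Ideal.Quotient.mk P')).height + (m.map (Ideal.Quotient.mk P)).height := by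
  have h3 : P' ≤ m := h1.trans h2
  haveI : (m.map (Ideal.Quotient.mk P')).IsPrime := Ideal.isPrime_map_quotientMk_of_isPrime h3
  haveI : (m.map (Ideal.Quotient.mk P)).IsPrime := Ideal.isPrime_map_quotientMk_of_isPrime h2
  haveI := liesOver_map_mk_self P' m h3
  have hcat' : CAlg.IsUniversallyCatenary (Localization.AtPrime (m.map (Ideal.Quotient.mk P'))) :=
    isUniversallyCatenary_localization_of_liesOver A (A ⧸ P') m _ hcat
  have hcb : CatBelow (A ⧸ P') (m.map (Ideal.Quotient.mk P')) :=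
    catBelow_of_isCatenary_localization _ (isCatenary_of_isUniversallyCatenary _ hcat')
  set φ : A ⧸ P' →+* A ⧸ P := Ideal.Quotient.factor h1 with hφ
  have hφs : Function.Surjective φ := Ideal.Quotient.factor_surjective h1
  have hcomp : φ.comp (Ideal.Quotient.mk P') = Ideal.Quotient.mk P := by
    ext x
    simp [hφ]
  have hcm : (m.map (Ideal.Quotient.mk P)).comap φ = m.map (Ideal.Quotient.mk P') := by
    apply Ideal.comap_injective_of_surjective (Ideal.Quotient.mk P') Ideal.Quotient.mk_surjective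
    rw [Ideal.comap_comap, hcomp, comap_mk_map_mk P m h2, comap_mk_map_mk P' m h3]
  have hker : RingHom.ker φ = P.map (Ideal.Quotient.mk P') := Ideal.Quotient.factor_ker h1
  have := height_comap_eq_of_catBelow φ hφs (m.map (Ideal.Quotient.mk P)) (by rw [hcm]; exact hcb)
  rw [hcm, hker] at this
  exact this

end Ring

section Sch

variable {S : Scheme.{u}} [IsLocallyNoetherian S]

theorem ringKrullDim_quotient_eq_add_of_isUniversallyCatenary (s : S)
    (hcat : CAlg.IsUniversallyCatenary (S.presheaf.stalk s))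
    (𝔭' 𝔭 : Ideal (S.presheaf.stalk s)) [h𝔭' : 𝔭'.IsPrime] [h𝔭 : 𝔭.IsPrime] (hle : 𝔭' ≤ 𝔭)
    (σ : S) (hσ : S.fromSpecStalk s ⟨𝔭, h𝔭⟩ = σ)
    (𝔭'' : Ideal (S.presheaf.stalk σ)) [h𝔭'' : 𝔭''.IsPrime]
    (hpt : S.fromSpecStalk σ ⟨𝔭'', h𝔭''⟩ = S.fromSpecStalk s ⟨𝔭', h𝔭'⟩) :
    ringKrullDim (S.presheaf.stalk s ⧸ 𝔭') =
      ringKrullDim (S.presheaf.stalk σ ⧸ 𝔭'') + ringKrullDim (S.presheaf.stalk s ⧸ 𝔭) := by
  obtain ⟨V, hV, hsV, -⟩ := exists_isAffineOpen_mem_and_subset (U := ⊤) (x := s) (by simp)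
  haveI : IsNoetherianRing Γ(S, V) := IsLocallyNoetherian.component_noetherian ⟨V, hV⟩
  set m : Ideal Γ(S, V) := (hV.primeIdealOf ⟨s, hsV⟩).asIdeal with hm
  haveI := hV.isLocalization_stalk ⟨s, hsV⟩
  letI algS := S.presheaf.algebra_section_stalk (U := V) ⟨s, hsV⟩
  obtain ⟨hP'm, hdim'⟩ := ringKrullDim_quotient_eq_height_map Γ(S, V) m (S.presheaf.stalk s) 𝔭'
  obtain ⟨hPm, hdim⟩ := ringKrullDim_quotient_eq_height_map Γ(S, V) m (S.presheaf.stalk s) 𝔭
  set P' : Ideal Γ(S, V) := 𝔭'.under Γ(S, V) with hP'def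
  set P : Ideal Γ(S, V) := 𝔭.under Γ(S, V) with hPdef
  haveI : P'.IsPrime := Ideal.comap_isPrime _ _
  haveI : P.IsPrime := Ideal.comap_isPrime _ _
  have hP'P : P' ≤ P := Ideal.comap_mono hle
  -- the points
  have hσeq : σ = hV.fromSpec ⟨P, inferInstance⟩ := by
    rw [← hσ, ← hV.fromSpecStalk_eq_fromSpecStalk hsV]
    rfl
  have hσ'eq : S.fromSpecStalk s ⟨𝔭', h𝔭'⟩ = hV.fromSpec ⟨P', inferInstance⟩ := by
    rw [← hV.fromSpecStalk_eq_fromSpecStalk hsV]
    rfl
  have hσV : σ ∈ V := by rw [hσeq]; exact fromSpec_mem hV _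
  have hPσ : hV.primeIdealOf ⟨σ, hσV⟩ = ⟨P, inferInstance⟩ := by
    have := primeIdealOf_fromSpec hV ⟨P, inferInstance⟩ (fromSpec_mem hV _)
    rw [← this]
    congr 1
    exact Subtype.ext hσeq
  have hPσ' : (hV.primeIdealOf ⟨σ, hσV⟩).asIdeal = P := by rw [hPσ]
  -- the local ring at σ
  haveI := hV.isLocalization_stalk ⟨σ, hσV⟩
  letI algσ := S.presheaf.algebra_section_stalk (U := V) ⟨σ, hσV⟩
  obtain ⟨hP''P, hdim''⟩ := ringKrullDim_quotient_eq_height_map Γ(S, V)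
    (hV.primeIdealOf ⟨σ, hσV⟩).asIdeal (S.presheaf.stalk σ) 𝔭''
  have hP''eq : 𝔭''.under Γ(S, V) = P' := by
    have h1 : S.fromSpecStalk σ ⟨𝔭'', h𝔭''⟩ = hV.fromSpec ⟨𝔭''.under Γ(S, V), inferInstance⟩ := by
      rw [← hV.fromSpecStalk_eq_fromSpecStalk hσV]
      rfl
    rw [h1, hσ'eq] at hpt
    have h2 := hV.fromSpec.isOpenEmbedding.injective hpt
    exact congrArg PrimeSpectrum.asIdeal h2
  rw [hP''eq, hPσ'] at hdim''
  -- catenarity
  have hcat' : CAlg.IsUniversallyCatenary (Localization.AtPrime m) :=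
    isUniversallyCatenary_of_ringEquiv
      (IsLocalization.algEquiv m.primeCompl (S.presheaf.stalk s)
        (Localization.AtPrime m)).toRingEquiv hcat
  have key := height_map_mk_add_of_isUniversallyCatenary Γ(S, V) P' P m hP'P hPm hcat'
  rw [hdim', hdim'', hdim, key]
  push_cast
  rfl

omit [IsLocallyNoetherian S] in
/-- `{t ∈ closure {σ'} | t ⤳ s}` is homeomorphic to `Spec (O_{S,s}/𝔭')` for `𝔭'` the prime of `σ'`. -/
theorem topologicalKrullDim_setOf_mem_closure_specializes (s : S)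
    (𝔭' : Ideal (S.presheaf.stalk s)) [h𝔭' : 𝔭'.IsPrime] (Z : Set S)
    (hZ : Z = closure {S.fromSpecStalk s ⟨𝔭', h𝔭'⟩}) :
    topologicalKrullDim ↥{t : S | t ∈ Z ∧ t ⤳ s} = ringKrullDim (S.presheaf.stalk s ⧸ 𝔭') := by
  set ψ : PrimeSpectrum (S.presheaf.stalk s ⧸ 𝔭') → S :=
    fun q => S.fromSpecStalk s (PrimeSpectrum.comap (Ideal.Quotient.mk 𝔭') q) with hψdef
  have hψ : Topology.IsEmbedding ψ :=
    (S.fromSpecStalk s).isEmbedding.comp (PrimeSpectrum.isClosedEmbedding_comap_of_surjective _ _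
      Ideal.Quotient.mk_surjective).isEmbedding
  have hrange : Set.range ψ = {t : S | t ∈ Z ∧ t ⤳ s} := by
    ext t
    constructor
    · rintro ⟨q, rfl⟩
      refine ⟨?_, fromSpecStalk_specializes s _⟩
      rw [hZ, ← specializes_iff_mem_closure]
      haveI : (q.asIdeal.comap (Ideal.Quotient.mk 𝔭')).IsPrime := Ideal.comap_isPrime _ _
      refine (fromSpecStalk_specializes_iff s 𝔭' (q.asIdeal.comap (Ideal.Quotient.mk 𝔭'))).mpr ?_
      intro a ha
      rw [Ideal.mem_comap, Ideal.Quotient.eq_zero_iff_mem.mpr ha]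
      exact zero_mem _
    · rintro ⟨htZ, hts⟩
      obtain ⟨𝔮, h𝔮, rfl⟩ := exists_prime_fromSpecStalk_eq hts
      rw [hZ, ← specializes_iff_mem_closure] at htZ
      have hle : 𝔭' ≤ 𝔮 := (fromSpecStalk_specializes_iff s 𝔭' 𝔮).mp htZ
      haveI : (𝔮.map (Ideal.Quotient.mk 𝔭')).IsPrime := Ideal.isPrime_map_quotientMk_of_isPrime hle
      refine ⟨⟨𝔮.map (Ideal.Quotient.mk 𝔭'), inferInstance⟩, ?_⟩
      have : PrimeSpectrum.comap (Ideal.Quotient.mk 𝔭')
          ⟨𝔮.map (Ideal.Quotient.mk 𝔭'), inferInstance⟩ = ⟨𝔮, h𝔮⟩ :=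
        PrimeSpectrum.ext (comap_mk_map_mk 𝔭' 𝔮 hle)
      exact congrArg (fun q => S.fromSpecStalk s q) this
  rw [← hrange, ← (hψ.toHomeomorph).isHomeomorph.topologicalKrullDim_eq,
    PrimeSpectrum.topologicalKrullDim_eq_ringKrullDim]

end Sch

end Groth.Agent.Lib.Helper4.DimFormula
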