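import Mathlib
import Groth.Agent.Lib.Helper4DimFormulaAK

/-!
# `dim X = dim Y + dim f⁻¹(η)` over a Jacobson universally catenary equicodimensional base (helper4)

EGA IV 10.6.1-type statement (S3449).

* `exists_nat_forall_closed_ringKrullDim_quotient_eq`: for `σ : S`, the number `dim O_{S,s}/𝔭_σ` is the same
  for all closed points `s` in the closure of `σ`.
* `ptTrdeg_eq_zero_of_isClosed`, `ptTrdeg_comp`.
* `topologicalKrullDim_eq_add_ptTrdeg_genericPoint`: `dim X = n + trdeg κ(ξ)/κ(p ξ)`.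
* `topologicalKrullDim_eq_add_fiber_genericPoint_of_jacobson`: the main statement.
-/

set_option autoImplicit false
set_option linter.style.haveILetI false

universe u

open AlgebraicGeometry CategoryTheory TopologicalSpace IsLocalRing

namespace Groth.Agent.Lib.Helper4.DimFormula

open Groth.Agent.Lib.Helper4.VarDim Groth.Agent.Lib.Helper4.FibDim

section Base

variable (S : Scheme.{u}) [IsLocallyNoetherian S]

theorem exists_nat_forall_closed_ringKrullDim_quotient_eq
    (h2 : ∀ s : S, CAlg.IsUniversallyCatenary (S.presheaf.stalk s))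
    (h3 : ∀ S' ∈ irreducibleComponents (S : Type u), ∀ s ∈ S', IsClosed ({s} : Set S) →
      topologicalKrullDim (↥S' : Type u) = topologicalKrullDim ↥{t : S | t ∈ S' ∧ t ⤳ s}) (σ : S) :
    ∃ n : ℕ, ∀ s : S, IsClosed ({s} : Set S) →
      ∀ (𝔭 : Ideal (S.presheaf.stalk s)) (h𝔭 : 𝔭.IsPrime),
        S.fromSpecStalk s ⟨𝔭, h𝔭⟩ = σ → ringKrullDim (S.presheaf.stalk s ⧸ 𝔭) = n := by
  obtain ⟨σ', hσ'max, hσ'σ⟩ := Groth.Agent.Lib.Helper4.VarDim.exists_maximal_specializes (X := S) σ
  have hS' : closure ({σ'} : Set S) ∈ irreducibleComponents (S : Type u) :=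
    mem_irreducibleComponents_of_forall_specializes σ' hσ'max
  obtain ⟨𝔭'', h𝔭'', hpt''⟩ := exists_prime_fromSpecStalk_eq hσ'σ
  have key : ∀ s : S, IsClosed ({s} : Set S) →
      ∀ (𝔭 : Ideal (S.presheaf.stalk s)) (h𝔭 : 𝔭.IsPrime), S.fromSpecStalk s ⟨𝔭, h𝔭⟩ = σ →
        ringKrullDim (S.presheaf.stalk s ⧸ 𝔭) + ringKrullDim (S.presheaf.stalk σ ⧸ 𝔭'') =
          topologicalKrullDim ↥(closure ({σ'} : Set S)) := by
    intro s hs 𝔭 h𝔭 hσ
    have hσs : σ ⤳ s := hσ ▸ fromSpecStalk_specializes s _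
    obtain ⟨𝔭', h𝔭', hpt'⟩ := exists_prime_fromSpecStalk_eq (hσ'σ.trans hσs)
    have hle : 𝔭' ≤ 𝔭 := (fromSpecStalk_specializes_iff s 𝔭' 𝔭).mp (by
      rw [hpt', hσ]
      exact hσ'σ)
    have h4 := ringKrullDim_quotient_eq_add_of_isUniversallyCatenary s (h2 s) 𝔭' 𝔭 hle σ hσ 𝔭''
      (hpt''.trans hpt'.symm)
    have h5 := topologicalKrullDim_setOf_mem_closure_specializes s 𝔭' (closure ({σ'} : Set S))
      (by rw [hpt'])
    have h6 := h3 _ hS' s (specializes_iff_mem_closure.mp (hσ'σ.trans hσs)) hs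
    rw [h6, h5, h4, add_comm]
  by_cases hex : ∃ (s : S) (𝔭 : Ideal (S.presheaf.stalk s)) (h𝔭 : 𝔭.IsPrime),
      IsClosed ({s} : Set S) ∧ S.fromSpecStalk s ⟨𝔭, h𝔭⟩ = σ
  · obtain ⟨s₀, 𝔭₀, h𝔭₀, hs₀, hσ₀⟩ := hex
    obtain ⟨c₀, hc₀⟩ := exists_ringKrullDim_stalk_eq_nat' (Y := S) s₀
    obtain ⟨n₀, hn₀, -⟩ := exists_nat_eq_of_le_of_nonneg
      (hc₀ ▸ ringKrullDim_quotient_le 𝔭₀ : ringKrullDim (S.presheaf.stalk s₀ ⧸ 𝔭₀) ≤ c₀)
      ringKrullDim_nonneg_of_nontrivial
    obtain ⟨cσ, hcσ⟩ := exists_ringKrullDim_stalk_eq_nat' (Y := S) σ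
    obtain ⟨h', hh', -⟩ := exists_nat_eq_of_le_of_nonneg
      (hcσ ▸ ringKrullDim_quotient_le 𝔭'' : ringKrullDim (S.presheaf.stalk σ ⧸ 𝔭'') ≤ cσ)
      ringKrullDim_nonneg_of_nontrivial
    refine ⟨n₀, fun s hs 𝔭 h𝔭 hσ => ?_⟩
    have h7 := key s hs 𝔭 h𝔭 hσ
    have h8 := key s₀ hs₀ 𝔭₀ h𝔭₀ hσ₀
    rw [← h8, hh', hn₀] at h7
    exact withBot_enat_add_nat_cancel h' h7
  · exact ⟨0, fun s hs 𝔭 h𝔭 hσ => absurd ⟨s, 𝔭, h𝔭, hs, hσ⟩ hex⟩

end Base

section Trdeg

attribute [local instance] Curv2.resAlgebra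

variable {X Y S : Scheme.{u}}

theorem ptTrdeg_eq_zero_of_isClosed (p : X ⟶ S) [LocallyOfFiniteType p] (x : X)
    (hx : IsClosed ({x} : Set X)) : ptTrdeg p x = 0 := by
  letI : (p.fiber (p.base x)).Over (Spec (CommRingCat.of (S.residueField (p.base x)))) :=
    ⟨p.fiberToSpecResidueField (p.base x)⟩
  haveI : LocallyOfFiniteType ((p.fiber (p.base x)) ↘
      Spec (CommRingCat.of (S.residueField (p.base x)))) :=
    locallyOfFiniteType_fiberToSpecResidueField p _
  have hz : IsClosed ({p.asFiber x} : Set ↥(p.fiber (p.base x))) := by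
    have h1 : ({p.asFiber x} : Set ↥(p.fiber (p.base x))) = (p.fiberι (p.base x)) ⁻¹' {x} := by
      ext w
      simp only [Set.mem_singleton_iff, Set.mem_preimage]
      constructor
      · rintro rfl
        exact p.fiberι_asFiber x
      · intro hw
        apply (p.fiberι (p.base x)).isEmbedding.injective
        rw [hw, p.fiberι_asFiber]
    rw [h1]
    exact hx.preimage (p.fiberι (p.base x)).continuous
  exact trdegNat_eq_of_trdeg_eq _ _ (p.asFiber x) 0 (by
    rw [trdeg_eq_zero_of_isClosed (S.residueField (p.base x)) (p.fiber (p.base x)) _ hz]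
    simp)

theorem ptTrdeg_comp (f : X ⟶ Y) (q : Y ⟶ S) [LocallyOfFiniteType f] [LocallyOfFiniteType q]
    (x : X) : ptTrdeg (f ≫ q) x = ptTrdeg q (f.base x) + ptTrdeg f x := by
  have h1 := trdeg_eq_ptTrdeg (f ≫ q) x
  have h2 := trdeg_eq_ptTrdeg q (f.base x)
  have h3 := trdeg_eq_ptTrdeg f x
  letI : Algebra (S.residueField (q.base (f.base x))) (Y.residueField (f.base x)) :=
    (q.residueFieldMap (f.base x)).hom.toAlgebra
  letI : Algebra (Y.residueField (f.base x)) (X.residueField x) := (f.residueFieldMap x).hom.toAlgebra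
  letI : Algebra (S.residueField (q.base (f.base x))) (X.residueField x) :=
    ((f ≫ q).residueFieldMap x).hom.toAlgebra
  haveI : IsScalarTower (S.residueField (q.base (f.base x))) (Y.residueField (f.base x))
      (X.residueField x) :=
    IsScalarTower.of_algebraMap_eq fun c => by
      change ((f ≫ q).residueFieldMap x).hom c = _
      rw [Scheme.residueFieldMap_comp]
      rfl
  haveI : FaithfulSMul (S.residueField (q.base (f.base x))) (Y.residueField (f.base x)) :=
    (faithfulSMul_iff_algebraMap_injective _ _).mpr (RingHom.injective _)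
  haveI : FaithfulSMul (Y.residueField (f.base x)) (X.residueField x) :=
    (faithfulSMul_iff_algebraMap_injective _ _).mpr (RingHom.injective _)
  have h4 := trdeg_add_eq (S.residueField (q.base (f.base x))) (Y.residueField (f.base x))
    (A := X.residueField x)
  have h5 : ((ptTrdeg q (f.base x) : ℕ) : Cardinal.{u}) + (ptTrdeg f x : ℕ) =
      (ptTrdeg (f ≫ q) x : ℕ) := by
    rw [← h1, ← h2, ← h3]
    exact h4
  exact_mod_cast h5.symm

end Trdeg

section Main

variable {X Y S : Scheme.{u}} [IsLocallyNoetherian S] [JacobsonSpace S]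

theorem topologicalKrullDim_eq_add_ptTrdeg_genericPoint
    (h2 : ∀ s : S, CAlg.IsUniversallyCatenary (S.presheaf.stalk s)) (p : X ⟶ S)
    [LocallyOfFiniteType p] [IrreducibleSpace X] (n : ℕ)
    (hn : ∀ s : S, IsClosed ({s} : Set S) →
      ∀ (𝔭 : Ideal (S.presheaf.stalk s)) (h𝔭 : 𝔭.IsPrime),
        S.fromSpecStalk s ⟨𝔭, h𝔭⟩ = p.base (genericPoint X) →
          ringKrullDim (S.presheaf.stalk s ⧸ 𝔭) = n) :
    topologicalKrullDim X = ((n + ptTrdeg p (genericPoint X) : ℕ) : WithBot ℕ∞) := by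
  haveI : JacobsonSpace X := LocallyOfFiniteType.jacobsonSpace p
  haveI : IsLocallyNoetherian X := LocallyOfFiniteType.isLocallyNoetherian p
  have hclosed : ∀ x : X, IsClosed ({x} : Set X) →
      ringKrullDim (X.presheaf.stalk x) = ((n + ptTrdeg p (genericPoint X) : ℕ) : WithBot ℕ∞) := by
    intro x hx
    obtain ⟨𝔭, h𝔭, hξ⟩ := exists_prime_fromSpecStalk_eq (genericPoint_specializes x)
    have h1 := ringKrullDim_quotient_add_ptTrdeg_eq p x (h2 _) 𝔭
    have h2' : ringKrullDim (X.presheaf.stalk x ⧸ 𝔭) = ringKrullDim (X.presheaf.stalk x) :=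
      ringKrullDim_quotient_eq_of_forall_specializes x 𝔭 (fun x' _ => by
        rw [hξ]
        exact genericPoint_specializes x')
    have hpx : IsClosed ({p.base x} : Set S) :=
      p.closePoints_subset_preimage_closedPoints hx
    have h3' := hn (p.base x) hpx (𝔭.comap (p.stalkMap x).hom) (Ideal.comap_isPrime _ _) (by
      rw [fromSpecStalk_comap_stalkMap, hξ])
    rw [h2', h3', hξ, ptTrdeg_eq_zero_of_isClosed p x hx] at h1
    rw [Nat.cast_zero, add_zero] at h1
    rw [h1]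
    push_cast
    rfl
  rw [topologicalKrullDim_eq_iSup_ringKrullDim_stalk X]
  apply le_antisymm
  · refine iSup_le fun x => ?_
    obtain ⟨x₀, hx₀1, hx₀2⟩ := nonempty_inter_closedPoints (X := X) (Z := closure ({x} : Set X))
      ⟨x, subset_closure rfl⟩ isClosed_closure.isLocallyClosed
    have hsp : x ⤳ x₀ := specializes_iff_mem_closure.mpr hx₀1
    rw [← hclosed x₀ hx₀2, ringKrullDim_stalk_eq_coheight, ringKrullDim_stalk_eq_coheight]
    exact WithBot.coe_le_coe.mpr (Order.coheight_anti hsp)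
  · obtain ⟨x₀, -, hx₀2⟩ := nonempty_inter_closedPoints (X := X) (Z := Set.univ)
      ⟨genericPoint X, trivial⟩ isOpen_univ.isLocallyClosed
    rw [← hclosed x₀ hx₀2]
    exact le_iSup (fun x : X => ringKrullDim (X.presheaf.stalk x)) x₀

theorem topologicalKrullDim_eq_add_fiber_genericPoint_of_jacobson
    (h2 : ∀ s : S, CAlg.IsUniversallyCatenary (S.presheaf.stalk s))
    (h3 : ∀ S' ∈ irreducibleComponents (S : Type u), ∀ s ∈ S', IsClosed ({s} : Set S) →
      topologicalKrullDim (↥S' : Type u) = topologicalKrullDim ↥{t : S | t ∈ S' ∧ t ⤳ s})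
    (p : X ⟶ S) (q : Y ⟶ S) [LocallyOfFiniteType p] [LocallyOfFiniteType q] (f : X ⟶ Y)
    (hf : f ≫ q = p) [IrreducibleSpace X] [IrreducibleSpace Y] [IsDominant f] :
    topologicalKrullDim (X : Type u) =
      topologicalKrullDim (Y : Type u) + topologicalKrullDim ↥(f.fiber (genericPoint Y)) := by
  subst hf
  haveI : LocallyOfFiniteType f := locallyOfFiniteType_of_comp f q
  haveI : IsLocallyNoetherian Y := LocallyOfFiniteType.isLocallyNoetherian q
  have hgen : f.base (genericPoint X) = genericPoint Y := base_genericPoint_eq' f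
  obtain ⟨n, hn⟩ := exists_nat_forall_closed_ringKrullDim_quotient_eq S h2 h3
    (q.base (genericPoint Y))
  have hX := topologicalKrullDim_eq_add_ptTrdeg_genericPoint h2 (f ≫ q) n (by
    intro s hs 𝔭 h𝔭 hσ
    refine hn s hs 𝔭 h𝔭 ?_
    rw [hσ, ← hgen]
    rfl)
  have hY := topologicalKrullDim_eq_add_ptTrdeg_genericPoint h2 q n hn
  have hfib : topologicalKrullDim ↥(f.fiber (genericPoint Y)) = (genTrdeg f : WithBot ℕ∞) := by
    rw [← hgen]
    exact topologicalKrullDim_fiber_base_genericPoint f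
  rw [hX, hY, hfib, ptTrdeg_comp f q (genericPoint X), hgen]
  have : genTrdeg f = ptTrdeg f (genericPoint X) := rfl
  rw [this]
  push_cast
  rw [add_assoc]

end Main

end Groth.Agent.Lib.Helper4.DimFormula
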