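import Mathlib
import Groth.Prelude.Def_W4c2submetdescSubtr

set_option autoImplicit false
universe u
open CategoryTheory CategoryTheory.Limits AlgebraicGeometry IsLocalRing

namespace Groth.Agent.Lib.Helper10.SubtrVal

/-- For a specialization `y' ⤳ y` in a scheme there is a valuation ring `A` of `κ(y')` and a
morphism `Spec A ⟶ Y` sending the closed point to `y` and restricting to the canonical
`Spec κ(y') ⟶ Y` on the generic point. -/
lemma exists_valuationRing_of_specializes {Y : Scheme.{u}} {y y' : Y} (h : y' ⤳ y) :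
    ∃ (A : ValuationSubring (Y.residueField y')) (s : Spec (CommRingCat.of ↥A) ⟶ Y),
      s (closedPoint ↥A) = y ∧
      Spec.map (CommRingCat.ofHom A.subtype) ≫ s = Y.fromSpecResidueField y' := by
  let t : Y.presheaf.stalk y ⟶ Y.residueField y' :=
    Y.presheaf.stalkSpecializes h ≫ Y.residue y'
  obtain ⟨A, hA, hA_local⟩ := exists_factor_valuationRing t.hom
  let tA : Y.presheaf.stalk y ⟶ CommRingCat.of ↥A :=
    CommRingCat.ofHom (t.hom.codRestrict _ hA)
  refine ⟨A, Spec.map tA ≫ Y.fromSpecStalk y, ?_, ?_⟩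
  · have : Spec.map tA (closedPoint ↥A) = closedPoint (Y.presheaf.stalk y) :=
      comap_closedPoint (S := A) (t.hom.codRestrict A.toSubring hA)
    change Y.fromSpecStalk y (Spec.map tA (closedPoint ↥A)) = y
    rw [this, Y.fromSpecStalk_closedPoint]
  · rw [← Spec.map_comp_assoc]
    have : tA ≫ CommRingCat.ofHom A.subtype = t := by ext a; rfl
    rw [this, Spec.map_comp, Category.assoc, Scheme.SpecMap_stalkSpecializes_fromSpecStalk]
    rfl

theorem main {X Y : Scheme.{u}} (f : X ⟶ Y) :
    Subtr.UnivSSubtrusive f ↔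
      ∀ (V : Type u) [CommRing V] [IsDomain V] [ValuationRing V] (g : Spec (CommRingCat.of V) ⟶ Y),
        Subtr.IsSSubtrusive (pullback.snd f g) := by
  constructor
  · intro H V _ _ _ g
    exact H (pullback.fst f g) g (pullback.snd f g) (IsPullback.of_hasPullback f g).flip
  · intro H X' Y' i₁ i₂ f' hpb y y' hyy
    obtain ⟨A, s, hs1, hs2⟩ := exists_valuationRing_of_specializes hyy
    have HA := H ↥A (s ≫ i₂)
    let η : Spec (CommRingCat.of ↥A) :=
      Spec.map (CommRingCat.ofHom A.subtype) (closedPoint (Y'.residueField y'))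
    have hη : η ⤳ closedPoint ↥A := specializes_closedPoint (R := ↥A) η
    obtain ⟨w, w', hww, hw, hw'⟩ := HA hη
    let l : pullback f (s ≫ i₂) ⟶ X' :=
      hpb.lift (pullback.snd f (s ≫ i₂) ≫ s) (pullback.fst f (s ≫ i₂))
        (by rw [Category.assoc, ← pullback.condition])
    have hl : l ≫ f' = pullback.snd f (s ≫ i₂) ≫ s := hpb.lift_fst _ _ _
    refine ⟨l w, l w', hww.map l.continuous, ?_, ?_⟩
    · have := congrArg (fun m : pullback f (s ≫ i₂) ⟶ Y' => m w) hl
      change f' (l w) = s (pullback.snd f (s ≫ i₂) w) at this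
      rw [this, hw, hs1]
    · have := congrArg (fun m : pullback f (s ≫ i₂) ⟶ Y' => m w') hl
      change f' (l w') = s (pullback.snd f (s ≫ i₂) w') at this
      rw [this, hw']
      have h2 := congrArg (fun m : Spec (Y'.residueField y') ⟶ Y' =>
        m (closedPoint (Y'.residueField y'))) hs2
      change s η = _ at h2
      rw [h2]
      exact Scheme.fromSpecResidueField_apply y' _

end Groth.Agent.Lib.Helper10.SubtrVal
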