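import Mathlib

/-!
A ring is the filtered colimit of its finitely generated `ℤ`-subalgebras; dually `Spec A` is the
cofiltered limit of the `Spec A₀` (helper26).
-/

set_option autoImplicit false
universe u
open CategoryTheory Limits AlgebraicGeometry

namespace Groth.Agent.Lib.Helper26.FGZ

variable (A : Type u) [CommRing A]

/-- Index category: finitely generated `ℤ`-subalgebras. -/
abbrev FGSub := {S : Subalgebra ℤ A // S.FG}

instance : Nonempty (FGSub A) := ⟨⟨⊥, Subalgebra.fg_bot⟩⟩

instance : IsDirected (FGSub A) (· ≤ ·) :=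
  ⟨fun S T => ⟨⟨S.1 ⊔ T.1, S.2.sup T.2⟩,
    (le_sup_left : S.1 ≤ S.1 ⊔ T.1), (le_sup_right : T.1 ≤ S.1 ⊔ T.1)⟩⟩

instance : IsFiltered (FGSub A) := isFiltered_of_directed_le_nonempty _

/-- The diagram of finitely generated subalgebras. -/
noncomputable def ringDiagram : FGSub A ⥤ CommRingCat.{u} where
  obj j := CommRingCat.of j.1
  map {j k} f := CommRingCat.ofHom (Subalgebra.inclusion (leOfHom f)).toRingHom
  map_id j := by
    ext x
    rfl
  map_comp f g := by
    ext x
    rfl

/-- The cocone with point `A`. -/
noncomputable def ringCocone : Cocone (ringDiagram A) where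
  pt := CommRingCat.of A
  ι :=
    { app := fun j => CommRingCat.ofHom (algebraMap j.1 A)
      naturality := by
        intro j k f
        ext x
        rfl }

/-- `A` is the colimit of its finitely generated subalgebras. -/
noncomputable def ringIsColimit : IsColimit (ringCocone A) := by
  have : ReflectsColimitsOfShape (FGSub A) (forget CommRingCat.{u}) :=
    reflectsColimitsOfShape_of_reflectsIsomorphisms
  refine isColimitOfReflects (forget CommRingCat.{u}) ?_
  refine Types.FilteredColimit.isColimitOf' _ _ ?_ ?_
  · intro a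
    change A at a
    have hfg : (Algebra.adjoin ℤ ({a} : Set A)).FG := by
      have := Subalgebra.fg_adjoin_finset (R := ℤ) ({a} : Finset A)
      rwa [Finset.coe_singleton] at this
    exact ⟨⟨Algebra.adjoin ℤ {a}, hfg⟩, ⟨a, Algebra.subset_adjoin rfl⟩, rfl⟩
  · intro i x y h
    exact ⟨i, 𝟙 i, congrArg _ (Subtype.ext h)⟩

/-- The diagram `A₀ ↦ Spec A₀`. -/
noncomputable def specDiagram : (FGSub A)ᵒᵖ ⥤ Scheme.{u} := (ringDiagram A).op ⋙ Scheme.Spec

/-- The cone with point `Spec A`. -/
noncomputable def specCone : Cone (specDiagram A) := Scheme.Spec.mapCone (ringCocone A).op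

/-- `Spec A` is the limit of the `Spec A₀`. -/
noncomputable def specIsLimit : IsLimit (specCone A) :=
  isLimitOfPreserves Scheme.Spec (ringIsColimit A).op

instance (i j : (FGSub A)ᵒᵖ) (f : i ⟶ j) : IsAffineHom ((specDiagram A).map f) := by
  show IsAffineHom (Spec.map _)
  infer_instance

instance (i : (FGSub A)ᵒᵖ) : IsAffine ((specDiagram A).obj i) := by
  show IsAffine (Spec _)
  infer_instance

lemma specCone_π_app (S : FGSub A) :
    (specCone A).π.app (Opposite.op S) = Spec.map (CommRingCat.ofHom (algebraMap S.1 A)) := rfl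

end Groth.Agent.Lib.Helper26.FGZ
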