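import Mathlib
import Groth.Prelude.Def_ProCons
import Groth.Agent.Lib.Helper2Constr
import Groth.Agent.S2396

set_option autoImplicit false
set_option linter.style.haveILetI false
universe u
open CategoryTheory CategoryTheory.Limits AlgebraicGeometry Topology

namespace Groth.Agent.Lib.Helper3.LocusFam

/-- A "family of loci": a predicate on subsets of schemes, stable under base change and with
Noetherian approximation over affine bases. -/
structure IsLocusFam (Fam : ∀ S : Scheme.{u}, Set S → Prop) : Prop where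
  bc : ∀ {S S' : Scheme.{u}} (a : S' ⟶ S) {E : Set S}, Fam S E → Fam S' (a ⁻¹' E)
  approx : ∀ (A : CommRingCat.{u}) {E : Set (Spec A)}, Fam (Spec A) E →
    ∃ (A₀ : CommRingCat.{u}) (φ : A₀ ⟶ A) (E₀ : Set (Spec A₀)), IsNoetherianRing A₀ ∧
      Fam (Spec A₀) E₀ ∧ E = (Spec.map φ) ⁻¹' E₀

/-- the closed integral subscheme `Spec (A/p) ⟶ Spec A`. -/
noncomputable abbrev quotMap (A : CommRingCat.{u}) (p : Ideal A) :
    Spec (CommRingCat.of (A ⧸ p)) ⟶ Spec A :=
  Spec.map (CommRingCat.ofHom (Ideal.Quotient.mk p))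

theorem range_quotMap (A : CommRingCat.{u}) (p : Ideal A) :
    Set.range (quotMap A p) = PrimeSpectrum.zeroLocus (p : Set A) := by
  have := _root_.range_comap_of_surjective (A ⧸ p) (Ideal.Quotient.mk p)
    Ideal.Quotient.mk_surjective
  rw [Ideal.mk_ker] at this
  exact this

theorem quotMap_genericPoint (A : CommRingCat.{u}) (s : Spec A) :
    haveI : s.asIdeal.IsPrime := s.2
    quotMap A s.asIdeal (genericPoint (Spec (CommRingCat.of (A ⧸ s.asIdeal)))) = s := by
  haveI : s.asIdeal.IsPrime := s.2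
  rw [genericPoint_eq_bot_of_affine, Spec.map_apply]
  apply PrimeSpectrum.ext
  show Ideal.comap (Ideal.Quotient.mk s.asIdeal) ⊥ = s.asIdeal
  rw [← RingHom.ker_eq_comap_bot, Ideal.mk_ker]

/-- open subsets of `Spec (A/p)` are traces of opens. -/
theorem exists_open_preimage (A : CommRingCat.{u}) (p : Ideal A)
    {V : Set (Spec (CommRingCat.of (A ⧸ p)))} (hV : IsOpen V) :
    ∃ W : Set (Spec A), IsOpen W ∧ (quotMap A p) ⁻¹' W = V := by
  have hemb : IsEmbedding (quotMap A p) := (quotMap A p).isEmbedding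
  obtain ⟨W, hW, hWV⟩ := hemb.isInducing.isOpen_iff.mp hV
  exact ⟨W, hW, hWV⟩


section Main

variable {Fam : ∀ S : Scheme.{u}, Set S → Prop}

open Groth.Agent.Lib.Helper2.Constr

/-- Noetherian affine case, ind-constructible: every point of `E₀` has a constructible
neighbourhood-in-its-closure inside `E₀`. -/
theorem exists_constructible_of_noeth (hF : IsLocusFam Fam)
    (hI : ∀ (S : Scheme.{u}) [IsIntegral S] [IsNoetherian S] (E : Set S), Fam S E →
      genericPoint S ∈ E → (interior E).Nonempty)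
    (A₀ : CommRingCat.{u}) [IsNoetherianRing A₀] {E₀ : Set (Spec A₀)} (h : Fam (Spec A₀) E₀)
    (s : Spec A₀) (hs : s ∈ E₀) : ∃ C : Set (Spec A₀), IsConstructible C ∧ s ∈ C ∧ C ⊆ E₀ := by
  haveI : s.asIdeal.IsPrime := s.2
  let Z := Spec (CommRingCat.of (A₀ ⧸ s.asIdeal))
  let ι : Z ⟶ Spec A₀ := quotMap A₀ s.asIdeal
  have hgen : ι (genericPoint Z) = s := quotMap_genericPoint A₀ s
  have h1 : Fam Z (ι ⁻¹' E₀) := hF.bc ι h
  have h2 : (interior (ι ⁻¹' E₀)).Nonempty := hI Z _ h1 (by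
    show ι (genericPoint Z) ∈ E₀
    rw [hgen]; exact hs)
  obtain ⟨W, hW, hWV⟩ := exists_open_preimage A₀ s.asIdeal (isOpen_interior (s := ι ⁻¹' E₀))
  have hgenV : genericPoint Z ∈ interior (ι ⁻¹' E₀) :=
    ((genericPoint_spec Z).mem_open_set_iff isOpen_interior).mpr (by
      rw [Set.univ_inter]; exact h2)
  refine ⟨W ∩ Set.range ι, ?_, ?_, ?_⟩
  · refine (isConstructible_of_isOpen hW).inter (isConstructible_of_isClosed ?_)
    exact ι.isClosedEmbedding.isClosed_range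
  · refine ⟨?_, ⟨genericPoint Z, hgen⟩⟩
    rw [← hgen]
    show genericPoint Z ∈ ι ⁻¹' W
    rw [hWV]; exact hgenV
  · rintro _ ⟨hyW, z, rfl⟩
    have : z ∈ ι ⁻¹' W := hyW
    rw [hWV] at this
    exact (interior_subset this : z ∈ ι ⁻¹' E₀)

/-- affine case, ind-constructible. -/
theorem exists_constructible_of_affine (hF : IsLocusFam Fam)
    (hI : ∀ (S : Scheme.{u}) [IsIntegral S] [IsNoetherian S] (E : Set S), Fam S E →
      genericPoint S ∈ E → (interior E).Nonempty)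
    (A : CommRingCat.{u}) {E : Set (Spec A)} (h : Fam (Spec A) E)
    (s : Spec A) (hs : s ∈ E) : ∃ C : Set (Spec A), IsConstructible C ∧ s ∈ C ∧ C ⊆ E := by
  obtain ⟨A₀, φ, E₀, hN, h0, rfl⟩ := hF.approx A h
  obtain ⟨C, hC, hsC, hCE⟩ := exists_constructible_of_noeth hF hI A₀ h0 (Spec.map φ s) hs
  exact ⟨Spec.map φ ⁻¹' C, (Spec.map φ).isConstructible_preimage hC, hsC,
    Set.preimage_mono hCE⟩

/-- **ind-constructibility of loci** of a locus family satisfying the generic-point condition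
over integral Noetherian bases. -/
theorem isIndConstructible (hF : IsLocusFam Fam)
    (hI : ∀ (S : Scheme.{u}) [IsIntegral S] [IsNoetherian S] (E : Set S), Fam S E →
      genericPoint S ∈ E → (interior E).Nonempty)
    {S : Scheme.{u}} {E : Set S} (h : Fam S E) : ProCons.IsIndConstructible E := by
  intro x
  obtain ⟨_, ⟨U : S.Opens, hU, rfl⟩, hxU, -⟩ := S.isBasis_affineOpens.exists_subset_of_mem_open
    (Set.mem_univ x) isOpen_univ
  refine ⟨U, U.2, hxU, {T : Set ↥U | IsLocallyConstructible T ∧ T ⊆ Subtype.val ⁻¹' E},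
    fun T hT => hT.1, ?_⟩
  ext y
  constructor
  · intro hy
    have h1 : Fam (Spec Γ(S, U)) (hU.fromSpec ⁻¹' E) := hF.bc _ h
    have key : ∀ w : (U : Scheme.{u}), hU.fromSpec (hU.isoSpec.hom w) = w.1 := fun w => by
      rw [← Scheme.Hom.comp_apply, hU.isoSpec_hom_fromSpec]; rfl
    obtain ⟨C, hC, hzC, hCE⟩ := exists_constructible_of_affine hF hI _ h1 (hU.isoSpec.hom y) (by
      show hU.fromSpec (hU.isoSpec.hom y) ∈ E
      rw [key]; exact hy)
    refine ⟨hU.isoSpec.hom ⁻¹' C, ⟨?_, ?_⟩, hzC⟩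
    · exact (hU.isoSpec.hom.isConstructible_preimage hC).isLocallyConstructible
    · intro w hw
      have := hCE hw
      show w.1 ∈ E
      rw [← key]; exact this
  · rintro ⟨T, ⟨-, hT⟩, hyT⟩
    exact hT hyT

theorem isNowhereDense_of_open_inter {X : Type*} [TopologicalSpace X] {Y E W : Set X}
    (hY : IsIrreducible Y) (hW : IsOpen W) (hne : (W ∩ Y).Nonempty) (hsub : W ∩ Y ⊆ Eᶜ) :
    IsNowhereDense (Subtype.val ⁻¹' E : Set Y) := by
  haveI : IrreducibleSpace Y := Subtype.irreducibleSpace hY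
  have hcl : IsClosed (Subtype.val ⁻¹' Wᶜ : Set Y) := hW.isClosed_compl.preimage continuous_subtype_val
  refine IsNowhereDense.mono ?_ (hcl.isNowhereDense_iff.mpr ?_)
  swap
  · rw [interior_eq_empty_iff_dense_compl]
    have hop : IsOpen (Subtype.val ⁻¹' W : Set Y) := hW.preimage continuous_subtype_val
    have : (Subtype.val ⁻¹' Wᶜ : Set Y)ᶜ = Subtype.val ⁻¹' W := by
      ext y; simp
    rw [this]
    obtain ⟨y, hyW, hyY⟩ := hne
    exact hop.dense ⟨⟨y, hyY⟩, hyW⟩
  · intro y hy hyW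
    exact hsub ⟨hyW, y.2⟩ hy

/-- Noetherian affine case, constructible. -/
theorem isConstructible_of_noeth (hF : IsLocusFam Fam)
    (hC : ∀ (S : Scheme.{u}) [IsIntegral S] [IsNoetherian S] (E : Set S), Fam S E →
      (interior E).Nonempty ∨ (interior Eᶜ).Nonempty)
    (A₀ : CommRingCat.{u}) [IsNoetherianRing A₀] {E₀ : Set (Spec A₀)} (h : Fam (Spec A₀) E₀) :
    IsConstructible E₀ := by
  rw [Groth.Agent.S2396.result]
  intro Y hYc hYi
  -- the generic point of `Y`
  have hprime : (PrimeSpectrum.vanishingIdeal Y).IsPrime :=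
    (PrimeSpectrum.isIrreducible_iff_vanishingIdeal_isPrime (s := Y)).mp hYi
  let s : Spec A₀ := ⟨PrimeSpectrum.vanishingIdeal Y, hprime⟩
  have hYeq : Y = PrimeSpectrum.zeroLocus (s.asIdeal : Set A₀) := by
    show Y = PrimeSpectrum.zeroLocus (PrimeSpectrum.vanishingIdeal Y : Set A₀)
    rw [PrimeSpectrum.zeroLocus_vanishingIdeal_eq_closure]
    exact hYc.closure_eq.symm
  let Z := Spec (CommRingCat.of (A₀ ⧸ s.asIdeal))
  let ι : Z ⟶ Spec A₀ := quotMap A₀ s.asIdeal
  have hr : Set.range ι = Y := by rw [hYeq]; exact range_quotMap A₀ s.asIdeal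
  have h1 : Fam Z (ι ⁻¹' E₀) := hF.bc ι h
  rcases hC Z _ h1 with h2 | h2
  · right
    obtain ⟨W, hW, hWV⟩ := exists_open_preimage A₀ s.asIdeal (isOpen_interior (s := ι ⁻¹' E₀))
    obtain ⟨z, hz⟩ := h2
    refine ⟨W, hW, ⟨ι z, ?_, hr ▸ ⟨z, rfl⟩⟩, ?_⟩
    · show z ∈ ι ⁻¹' W
      rw [hWV]; exact hz
    · rintro y ⟨hyW, hyY⟩
      rw [← hr] at hyY
      obtain ⟨z', rfl⟩ := hyY
      have : z' ∈ ι ⁻¹' W := hyW
      rw [hWV] at this
      exact (interior_subset this : z' ∈ ι ⁻¹' E₀)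
  · left
    obtain ⟨W, hW, hWV⟩ := exists_open_preimage A₀ s.asIdeal (isOpen_interior (s := (ι ⁻¹' E₀)ᶜ))
    obtain ⟨z, hz⟩ := h2
    refine isNowhereDense_of_open_inter hYi hW ⟨ι z, ?_, hr ▸ ⟨z, rfl⟩⟩ ?_
    · show z ∈ ι ⁻¹' W
      rw [hWV]; exact hz
    · rintro y ⟨hyW, hyY⟩
      rw [← hr] at hyY
      obtain ⟨z', rfl⟩ := hyY
      have : z' ∈ ι ⁻¹' W := hyW
      rw [hWV] at this
      exact (interior_subset this : z' ∈ (ι ⁻¹' E₀)ᶜ)

/-- **local constructibility of loci** of a locus family satisfying the dichotomy over integral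
Noetherian bases. -/
theorem isLocallyConstructible (hF : IsLocusFam Fam)
    (hC : ∀ (S : Scheme.{u}) [IsIntegral S] [IsNoetherian S] (E : Set S), Fam S E →
      (interior E).Nonempty ∨ (interior Eᶜ).Nonempty)
    {S : Scheme.{u}} {E : Set S} (h : Fam S E) : IsLocallyConstructible E := by
  intro x
  obtain ⟨_, ⟨U : S.Opens, hU, rfl⟩, hxU, -⟩ := S.isBasis_affineOpens.exists_subset_of_mem_open
    (Set.mem_univ x) isOpen_univ
  refine ⟨U, U.2.mem_nhds hxU, U.2, ?_⟩
  have h1 : Fam (Spec Γ(S, U)) (hU.fromSpec ⁻¹' E) := hF.bc _ h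
  obtain ⟨A₀, φ, E₀, hN, h0, hE⟩ := hF.approx _ h1
  have h2 : IsConstructible (hU.fromSpec ⁻¹' E) := by
    rw [hE]
    exact (Spec.map φ).isConstructible_preimage (isConstructible_of_noeth hF hC A₀ h0)
  have h3 := hU.isoSpec.hom.isConstructible_preimage h2
  have h4 : (hU.isoSpec.hom ⁻¹' (hU.fromSpec ⁻¹' E) : Set (U : Scheme.{u})) =
      (Subtype.val ⁻¹' E : Set ↥U) := by
    ext w
    show hU.fromSpec (hU.isoSpec.hom w) ∈ E ↔ w.1 ∈ E
    rw [← Scheme.Hom.comp_apply, hU.isoSpec_hom_fromSpec]; rfl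
  rw [h4] at h3
  exact h3

end Main

end Groth.Agent.Lib.Helper3.LocusFam
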