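import Mathlib.AlgebraicGeometry.Gluing
import Mathlib.CategoryTheory.GlueData

/-!
# Gluing two schemes along a common open subscheme (helper4)

`exists_glue_two g₀ g₁`: for open immersions `g₀ : V ⟶ U₀`, `g₁ : V ⟶ U₁` there is a scheme `X` with
open immersions `ι₀ : U₀ ⟶ X`, `ι₁ : U₁ ⟶ X`, jointly surjective, agreeing on `V`, with the universal
property for maps out of `X` (via `GlueData.ofGlueData'` on a two-element index type).
-/

set_option autoImplicit false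
universe u

open CategoryTheory CategoryTheory.Limits AlgebraicGeometry

namespace Groth.Agent.Lib.Helper4.GlueTwo

variable {U₀ U₁ V : Scheme.{u}} (g₀ : V ⟶ U₀) (g₁ : V ⟶ U₁)

/-- the two charts -/
def chart (U₀ U₁ : Scheme.{u}) : ULift.{u} Bool → Scheme.{u}
  | ⟨false⟩ => U₀
  | ⟨true⟩ => U₁

/-- the two inclusions of the overlap -/
def incl : (i : ULift.{u} Bool) → (V ⟶ chart U₀ U₁ i)
  | ⟨false⟩ => g₀
  | ⟨true⟩ => g₁

lemma no_three (i j k : ULift.{u} Bool) (hij : i ≠ j) (hik : i ≠ k) (hjk : j ≠ k) : False := by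
  rcases i with ⟨_ | _⟩ <;> rcases j with ⟨_ | _⟩ <;> rcases k with ⟨_ | _⟩ <;> simp_all

instance incl_isOpenImmersion [h₀ : IsOpenImmersion g₀] [h₁ : IsOpenImmersion g₁]
    (i : ULift.{u} Bool) :
    IsOpenImmersion (incl g₀ g₁ i) :=
  match i with
  | ⟨false⟩ => h₀
  | ⟨true⟩ => h₁

/-- The glue data (primed form). -/
noncomputable def glueData' [IsOpenImmersion g₀] [IsOpenImmersion g₁] : GlueData' Scheme.{u} where
  J := ULift.{u} Bool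
  U := chart U₀ U₁
  V _ _ _ := V
  f i _ _ := incl g₀ g₁ i
  f_mono _ _ _ := inferInstance
  f_hasPullback _ _ _ _ _ := inferInstance
  t _ _ _ := 𝟙 V
  t' i j k hij hik hjk := (no_three i j k hij hik hjk).elim
  t_fac i j k hij hik hjk := (no_three i j k hij hik hjk).elim
  t_inv _ _ _ := Category.id_comp _
  cocycle i j k hij hik hjk := (no_three i j k hij hik hjk).elim

end Groth.Agent.Lib.Helper4.GlueTwo

namespace Groth.Agent.Lib.Helper4.GlueTwo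

variable {U₀ U₁ V : Scheme.{u}} (g₀ : V ⟶ U₀) (g₁ : V ⟶ U₁)
  [IsOpenImmersion g₀] [IsOpenImmersion g₁]

/-- The glue data. -/
noncomputable def glueData : Scheme.GlueData.{u} where
  toGlueData := GlueData.ofGlueData' (glueData' g₀ g₁)
  f_open i j := by
    change IsOpenImmersion ((glueData' g₀ g₁).f' i j)
    dsimp only [GlueData'.f']
    split_ifs with h
    · infer_instance
    · have : IsOpenImmersion ((glueData' g₀ g₁).f i j h) := incl_isOpenImmersion g₀ g₁ i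
      infer_instance

omit [IsOpenImmersion g₀] [IsOpenImmersion g₁] in
lemma aux_cancel {C : Type*} [Category C] {A B W X Y Z : C} (e₁ : A = B) (e₂ : B = W)
    (e₃ : A = W) (F' : W ⟶ Y) (F : W ⟶ X) (ιj : Y ⟶ Z) (ιi : X ⟶ Z)
    (h : eqToHom e₁ ≫ (eqToHom e₂ ≫ F') ≫ ιj = (eqToHom e₃ ≫ F) ≫ ιi) :
    F ≫ ιi = F' ≫ ιj := by
  subst e₃; subst e₂
  simpa using h.symm

omit [IsOpenImmersion g₀] [IsOpenImmersion g₁] in
lemma aux_cancel' {C : Type*} [Category C] {A B W X Y Z : C} (e₁ : A = W) (e₂ : A = B)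
    (e₃ : B = W) (F : W ⟶ X) (F' : W ⟶ Y) (ki : X ⟶ Z) (kj : Y ⟶ Z)
    (h : F ≫ ki = F' ≫ kj) :
    (eqToHom e₁ ≫ F) ≫ ki = (eqToHom e₂ ≫ eqToHom e₃ ≫ F') ≫ kj := by
  subst e₃; subst e₂
  simpa using h

lemma glueData_V (i j : (glueData g₀ g₁).J) (h : i ≠ j) : (glueData g₀ g₁).V (i, j) = V :=
  dif_neg h

lemma glueData_f (i j : (glueData g₀ g₁).J) (h : i ≠ j) :
    (glueData g₀ g₁).f i j = eqToHom (glueData_V g₀ g₁ i j h) ≫ (glueData' g₀ g₁).f i j h := by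
  change (glueData' g₀ g₁).f' i j = _
  dsimp only [GlueData'.f']
  split_ifs with h'
  · exact absurd h' h
  · rfl

lemma glueData_t (i j : (glueData g₀ g₁).J) (h : i ≠ j) :
    (glueData g₀ g₁).t i j =
      eqToHom ((glueData_V g₀ g₁ i j h).trans (glueData_V g₀ g₁ j i h.symm).symm) := by
  change (GlueData.ofGlueData' (glueData' g₀ g₁)).t i j = _
  dsimp only [GlueData.ofGlueData']
  split_ifs with h'
  · exact absurd h' h
  · change eqToHom _ ≫ 𝟙 V ≫ eqToHom _ = _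
    rw [Category.id_comp]
    exact eqToHom_trans _ _

lemma glue_eq (i j : (glueData g₀ g₁).J) (h : i ≠ j) :
    (glueData' g₀ g₁).f i j h ≫ (glueData g₀ g₁).ι i =
      (glueData' g₀ g₁).f j i h.symm ≫ (glueData g₀ g₁).ι j := by
  have := (glueData g₀ g₁).glue_condition i j
  rw [glueData_f g₀ g₁ i j h, glueData_f g₀ g₁ j i h.symm, glueData_t g₀ g₁ i j h] at this
  exact aux_cancel _ _ _ _ _ _ _ this

/-- The family of maps out of the charts. -/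
def descFamily {Y : Scheme.{u}} (h₀ : U₀ ⟶ Y) (h₁ : U₁ ⟶ Y) :
    (i : ULift.{u} Bool) → (chart U₀ U₁ i ⟶ Y)
  | ⟨false⟩ => h₀
  | ⟨true⟩ => h₁

omit [IsOpenImmersion g₀] [IsOpenImmersion g₁] in
lemma incl_descFamily {Y : Scheme.{u}} (h₀ : U₀ ⟶ Y) (h₁ : U₁ ⟶ Y) (hh : g₀ ≫ h₀ = g₁ ≫ h₁)
    (i j : ULift.{u} Bool) :
    incl g₀ g₁ i ≫ descFamily h₀ h₁ i = incl g₀ g₁ j ≫ descFamily h₀ h₁ j := by
  rcases i with ⟨_ | _⟩ <;> rcases j with ⟨_ | _⟩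
  · rfl
  · exact hh
  · exact hh.symm
  · rfl

/-- The morphism out of the glued scheme. -/
noncomputable def desc {Y : Scheme.{u}} (h₀ : U₀ ⟶ Y) (h₁ : U₁ ⟶ Y) (hh : g₀ ≫ h₀ = g₁ ≫ h₁) :
    (glueData g₀ g₁).glued ⟶ Y :=
  Multicoequalizer.desc (glueData g₀ g₁).diagram Y (fun i => descFamily h₀ h₁ i) (by
    rintro ⟨i, j⟩
    change (glueData g₀ g₁).f i j ≫ descFamily h₀ h₁ i =
      ((glueData g₀ g₁).t i j ≫ (glueData g₀ g₁).f j i) ≫ descFamily h₀ h₁ j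
    by_cases h : i = j
    · subst h
      rw [(glueData g₀ g₁).t_id, Category.id_comp]
    · rw [glueData_f g₀ g₁ i j h, glueData_f g₀ g₁ j i (Ne.symm h), glueData_t g₀ g₁ i j h]
      exact aux_cancel' _ _ _ _ _ _ _ (incl_descFamily g₀ g₁ h₀ h₁ hh i j))

lemma ι_desc {Y : Scheme.{u}} (h₀ : U₀ ⟶ Y) (h₁ : U₁ ⟶ Y) (hh : g₀ ≫ h₀ = g₁ ≫ h₁)
    (i : (glueData g₀ g₁).J) :
    (glueData g₀ g₁).ι i ≫ desc g₀ g₁ h₀ h₁ hh = descFamily h₀ h₁ i :=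
  Multicoequalizer.π_desc _ _ _ _ _

/-- Gluing two schemes along a common open subscheme. -/
theorem exists_glue_two :
    ∃ (X : Scheme.{u}) (ι₀ : U₀ ⟶ X) (ι₁ : U₁ ⟶ X), IsOpenImmersion ι₀ ∧ IsOpenImmersion ι₁ ∧
      g₀ ≫ ι₀ = g₁ ≫ ι₁ ∧ (∀ x : X, x ∈ Set.range ι₀ ∨ x ∈ Set.range ι₁) ∧
      ∀ (Y : Scheme.{u}) (h₀ : U₀ ⟶ Y) (h₁ : U₁ ⟶ Y), g₀ ≫ h₀ = g₁ ≫ h₁ →
        ∃ h : X ⟶ Y, ι₀ ≫ h = h₀ ∧ ι₁ ≫ h = h₁ := by
  have hne : (⟨false⟩ : ULift.{u} Bool) ≠ ⟨true⟩ := fun h => Bool.noConfusion (congrArg ULift.down h)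
  refine ⟨(glueData g₀ g₁).glued, (glueData g₀ g₁).ι ⟨false⟩, (glueData g₀ g₁).ι ⟨true⟩,
    Scheme.GlueData.ι_isOpenImmersion (glueData g₀ g₁) ⟨false⟩,
    Scheme.GlueData.ι_isOpenImmersion (glueData g₀ g₁) ⟨true⟩, ?_, ?_, ?_⟩
  · exact glue_eq g₀ g₁ ⟨false⟩ ⟨true⟩ hne
  · intro x
    obtain ⟨i, y, rfl⟩ := (glueData g₀ g₁).ι_jointly_surjective x
    rcases i with ⟨_ | _⟩
    · exact Or.inl ⟨y, rfl⟩
    · exact Or.inr ⟨y, rfl⟩
  · intro Y h₀ h₁ hh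
    exact ⟨desc g₀ g₁ h₀ h₁ hh, ι_desc g₀ g₁ h₀ h₁ hh ⟨false⟩, ι_desc g₀ g₁ h₀ h₁ hh ⟨true⟩⟩

end Groth.Agent.Lib.Helper4.GlueTwo
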