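import Mathlib
import Groth.Agent.Lib.Helper4GlueTwo

/-!
Generic lemmas for descending finitely presented schemes over a limit (helper26), part 1:
* gluing two schemes along an open, with the intersection property;
* quasi-separatedness of the glued scheme;
* a pullback square can be checked on an open cover of the top-right corner.
-/

set_option autoImplicit false
universe u
open CategoryTheory Limits AlgebraicGeometry

namespace Groth.Agent.Lib.Helper26.LimFP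

open Groth.Agent.Lib.Helper4.GlueTwo

lemma aux_pt {A B W X : Scheme.{u}} (e₁ : A = B) (e₂ : B = W) (e₃ : A = W) (F : W ⟶ X) (z : A) :
    (eqToHom e₁ ≫ eqToHom e₂ ≫ F) z = F ((eqToHom e₃) z) := by
  subst e₁; subst e₂
  simp

/-- Gluing two schemes along a common open subscheme, with the intersection property. -/
theorem exists_glue_two' {U₀ U₁ V : Scheme.{u}} (g₀ : V ⟶ U₀) (g₁ : V ⟶ U₁)
    [IsOpenImmersion g₀] [IsOpenImmersion g₁] :
    ∃ (X : Scheme.{u}) (ι₀ : U₀ ⟶ X) (ι₁ : U₁ ⟶ X), IsOpenImmersion ι₀ ∧ IsOpenImmersion ι₁ ∧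
      g₀ ≫ ι₀ = g₁ ≫ ι₁ ∧ (∀ x : X, x ∈ Set.range ι₀ ∨ x ∈ Set.range ι₁) ∧
      (∀ (x : U₀) (y : U₁), ι₀ x = ι₁ y → ∃ v : V, g₀ v = x ∧ g₁ v = y) ∧
      ∀ (Y : Scheme.{u}) (h₀ : U₀ ⟶ Y) (h₁ : U₁ ⟶ Y), g₀ ≫ h₀ = g₁ ≫ h₁ →
        ∃ h : X ⟶ Y, ι₀ ≫ h = h₀ ∧ ι₁ ≫ h = h₁ := by
  have hne : (⟨false⟩ : ULift.{u} Bool) ≠ ⟨true⟩ := fun h => Bool.noConfusion (congrArg ULift.down h)
  refine ⟨(glueData g₀ g₁).glued, (glueData g₀ g₁).ι ⟨false⟩, (glueData g₀ g₁).ι ⟨true⟩,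
    Scheme.GlueData.ι_isOpenImmersion (glueData g₀ g₁) ⟨false⟩,
    Scheme.GlueData.ι_isOpenImmersion (glueData g₀ g₁) ⟨true⟩, ?_, ?_, ?_, ?_⟩
  · exact glue_eq g₀ g₁ ⟨false⟩ ⟨true⟩ hne
  · intro x
    obtain ⟨i, y, rfl⟩ := (glueData g₀ g₁).ι_jointly_surjective x
    rcases i with ⟨_ | _⟩
    · exact Or.inl ⟨y, rfl⟩
    · exact Or.inr ⟨y, rfl⟩
  · intro x y hxy
    obtain ⟨z, hz1, hz2⟩ := ((glueData g₀ g₁).ι_eq_iff ⟨false⟩ ⟨true⟩ x y).mp hxy
    rw [glueData_f g₀ g₁ ⟨false⟩ ⟨true⟩ hne] at hz1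
    rw [glueData_f g₀ g₁ ⟨true⟩ ⟨false⟩ hne.symm, glueData_t g₀ g₁ ⟨false⟩ ⟨true⟩ hne] at hz2
    exact ⟨(eqToHom (glueData_V g₀ g₁ ⟨false⟩ ⟨true⟩ hne)) z, hz1,
      (aux_pt _ _ (glueData_V g₀ g₁ ⟨false⟩ ⟨true⟩ hne) _ z).symm.trans hz2⟩
  · intro Y h₀ h₁ hh
    exact ⟨desc g₀ g₁ h₀ h₁ hh, ι_desc g₀ g₁ h₀ h₁ hh ⟨false⟩, ι_desc g₀ g₁ h₀ h₁ hh ⟨true⟩⟩

/-- The base change of `j : Y' ⟶ Y` to `Y ×_{S'} S`. -/
noncomputable def tmap {Y Y' S S' : Scheme.{u}} (j : Y' ⟶ Y) (h : Y ⟶ S') (π : S ⟶ S') :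
    pullback (j ≫ h) π ⟶ pullback h π :=
  pullback.map (j ≫ h) π h π j (𝟙 S) (𝟙 S') (by simp) (by simp)

@[reassoc]
lemma tmap_fst {Y Y' S S' : Scheme.{u}} (j : Y' ⟶ Y) (h : Y ⟶ S') (π : S ⟶ S') :
    tmap j h π ≫ pullback.fst h π = pullback.fst (j ≫ h) π ≫ j := pullback.lift_fst _ _ _

@[reassoc]
lemma tmap_snd {Y Y' S S' : Scheme.{u}} (j : Y' ⟶ Y) (h : Y ⟶ S') (π : S ⟶ S') :
    tmap j h π ≫ pullback.snd h π = pullback.snd (j ≫ h) π :=
  (pullback.lift_snd _ _ _).trans (Category.comp_id _)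

lemma isPullback_tmap {Y Y' S S' : Scheme.{u}} (j : Y' ⟶ Y) (h : Y ⟶ S') (π : S ⟶ S') :
    IsPullback (pullback.fst (j ≫ h) π) (tmap j h π) j (pullback.fst h π) := by
  have h1 : IsPullback (tmap j h π) (pullback.fst (j ≫ h) π) (pullback.fst h π) j := by
    refine IsPullback.of_right ?_ (tmap_fst j h π) (IsPullback.of_hasPullback h π).flip
    rw [tmap_snd]
    exact (IsPullback.of_hasPullback (j ≫ h) π).flip
  exact h1.flip

set_option backward.isDefEq.respectTransparency.types false in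
theorem isLocalTgt_iso : IsZariskiLocalAtTarget (MorphismProperty.isomorphisms Scheme.{u}) :=
  inferInstance

/-- A commutative square is a pullback square if it is so over an open cover of the
top right corner. -/
theorem isPullback_of_cover {X Y S S' : Scheme.{u}} {G : X ⟶ Y} {f : X ⟶ S} {h : Y ⟶ S'}
    {π : S ⟶ S'} (w : G ≫ h = f ≫ π) {κ : Type} (Xa Ya : κ → Scheme.{u})
    (ua : ∀ a, Xa a ⟶ X) (ja : ∀ a, Ya a ⟶ Y)
    [∀ a, IsOpenImmersion (ua a)] [∀ a, IsOpenImmersion (ja a)] (Ga : ∀ a, Xa a ⟶ Ya a)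
    (hcomm : ∀ a, ua a ≫ G = Ga a ≫ ja a)
    (hrange : ∀ a, G ⁻¹ᵁ (ja a).opensRange = (ua a).opensRange)
    (hcov : ∀ y : Y, ∃ a, y ∈ Set.range (ja a))
    (hpb : ∀ a, IsPullback (Ga a) (ua a ≫ f) (ja a ≫ h) π) : IsPullback G f h π := by
  suffices hiso : IsIso (pullback.lift G f w) from
    IsPullback.of_iso_pullback ⟨w⟩ (asIso (pullback.lift G f w)) (pullback.lift_fst _ _ _)
      (pullback.lift_snd _ _ _)
  let 𝒰Y : Y.OpenCover := Scheme.Cover.mkOfCovers κ Ya ja (fun y => by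
    obtain ⟨a, x, hx⟩ := hcov y
    exact ⟨a, x, hx⟩)
  let 𝒰T := Scheme.Pullback.openCoverOfLeft 𝒰Y h π
  have := isLocalTgt_iso.{u}
  refine (IsZariskiLocalAtTarget.iff_of_openCover (P := MorphismProperty.isomorphisms Scheme.{u})
    𝒰T).mpr ?_
  intro a
  change κ at a
  show IsIso (pullback.snd (pullback.lift G f w) (tmap (ja a) h π))
  have hsq : IsPullback ((hpb a).isoPullback.hom) (ua a) (tmap (ja a) h π)
      (pullback.lift G f w) := by
    refine IsPullback.of_right ?_ ?_ (isPullback_tmap (ja a) h π)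
    · rw [IsPullback.isoPullback_hom_fst, pullback.lift_fst]
      exact IsOpenImmersion.isPullback (Ga a) (ua a) (ja a) G (hcomm a) (hrange a)
    · apply pullback.hom_ext
      · rw [Category.assoc, Category.assoc, tmap_fst, IsPullback.isoPullback_hom_fst_assoc,
          pullback.lift_fst, hcomm]
      · rw [Category.assoc, Category.assoc, tmap_snd, IsPullback.isoPullback_hom_snd,
          pullback.lift_snd]
  have e := hsq.flip.isoPullback_hom_snd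
  have e' : pullback.snd (pullback.lift G f w) (tmap (ja a) h π) =
      hsq.flip.isoPullback.inv ≫ (hpb a).isoPullback.hom := by
    rw [Iso.eq_inv_comp]
    exact e
  rw [e']
  infer_instance

/-- A scheme covered by two quasi-separated opens with quasi-compact intersection is
quasi-separated. -/
theorem quasiSeparatedSpace_of_cover_two {X : Scheme.{u}} (A₀ A₁ : X.Opens)
    (hcov : ∀ x : X, x ∈ A₀ ∨ x ∈ A₁)
    (hq₀ : IsQuasiSeparated (A₀ : Set X)) (hq₁ : IsQuasiSeparated (A₁ : Set X))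
    (hV : IsCompact ((A₀ : Set X) ∩ (A₁ : Set X))) : QuasiSeparatedSpace X := by
  let ι := {W : X.Opens // IsAffineOpen W ∧ (W ≤ A₀ ∨ W ≤ A₁)}
  let b : ι → Set X := fun W => (W.1 : Set X)
  have hV' : IsOpen ((A₀ : Set X) ∩ (A₁ : Set X)) := A₀.2.inter A₁.2
  refine QuasiSeparatedSpace.of_isTopologicalBasis (b := b) ?_ ?_
  · refine TopologicalSpace.isTopologicalBasis_of_isOpen_of_nhds ?_ ?_
    · rintro _ ⟨W, rfl⟩
      exact W.1.2
    · intro a u hau hu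
      rcases hcov a with ha | ha
      · obtain ⟨_, ⟨W : X.Opens, hW, rfl⟩, haW, hWu⟩ :=
          X.isBasis_affineOpens.exists_subset_of_mem_open
            (show a ∈ u ∩ (A₀ : Set X) from ⟨hau, ha⟩) (hu.inter A₀.2)
        exact ⟨_, ⟨⟨W, hW, Or.inl fun x hx => (hWu hx).2⟩, rfl⟩, haW, fun x hx => (hWu hx).1⟩
      · obtain ⟨_, ⟨W : X.Opens, hW, rfl⟩, haW, hWu⟩ :=
          X.isBasis_affineOpens.exists_subset_of_mem_open
            (show a ∈ u ∩ (A₁ : Set X) from ⟨hau, ha⟩) (hu.inter A₁.2)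
        exact ⟨_, ⟨⟨W, hW, Or.inr fun x hx => (hWu hx).2⟩, rfl⟩, haW, fun x hx => (hWu hx).1⟩
  · rintro ⟨W, hW, hWA⟩ ⟨W', hW', hWA'⟩
    show IsCompact ((W : Set X) ∩ (W' : Set X))
    have key : ∀ (W W' : X.Opens), IsAffineOpen W → IsAffineOpen W' → W ≤ A₀ → W' ≤ A₁ →
        IsCompact ((W : Set X) ∩ (W' : Set X)) := by
      intro W W' hW hW' h0 h1
      have c0 : IsCompact ((W : Set X) ∩ ((A₀ : Set X) ∩ (A₁ : Set X))) :=
        hq₀ _ _ h0 W.2 hW.isCompact Set.inter_subset_left hV' hV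
      have c1 : IsCompact ((W' : Set X) ∩ ((A₀ : Set X) ∩ (A₁ : Set X))) :=
        hq₁ _ _ h1 W'.2 hW'.isCompact Set.inter_subset_right hV' hV
      have := hq₀ _ _ (Set.inter_subset_left.trans h0) (W.2.inter hV') c0
        (Set.inter_subset_right.trans Set.inter_subset_left) (W'.2.inter hV') c1
      convert this using 1
      ext x
      constructor
      · rintro ⟨hx, hx'⟩
        exact ⟨⟨hx, h0 hx, h1 hx'⟩, hx', h0 hx, h1 hx'⟩
      · rintro ⟨⟨hx, -⟩, hx', -⟩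
        exact ⟨hx, hx'⟩
    rcases hWA with h | h <;> rcases hWA' with h' | h'
    · exact hq₀ _ _ h W.2 hW.isCompact h' W'.2 hW'.isCompact
    · exact key W W' hW hW' h h'
    · rw [Set.inter_comm]
      exact key W' W hW' hW h' h
    · exact hq₁ _ _ h W.2 hW.isCompact h' W'.2 hW'.isCompact

end Groth.Agent.Lib.Helper26.LimFP
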