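import Mathlib

set_option autoImplicit false
set_option linter.style.haveILetI false

namespace Groth.Agent.Lib.Helper3.FlatLoc

open TensorProduct

section LocMap

variable {A : Type*} [CommRing A] (T : Submonoid A) {X Y X' Y' : Type*}
  [AddCommGroup X] [AddCommGroup Y] [AddCommGroup X'] [AddCommGroup Y']
  [Module A X] [Module A Y] [Module A X'] [Module A Y']
  (f : X →ₗ[A] X') (g : Y →ₗ[A] Y') [IsLocalizedModule T f] [IsLocalizedModule T g]

/-- A localized map is injective iff the kernel of the original map is `T`-torsion. -/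
theorem isLocalizedModule_map_injective_iff (h : X →ₗ[A] Y) :
    Function.Injective (IsLocalizedModule.map T f g h) ↔
      ∀ x, h x = 0 → ∃ s ∈ T, s • x = 0 := by
  constructor
  · intro hinj x hx
    have h0 : IsLocalizedModule.map T f g h (f x) = 0 := by
      rw [IsLocalizedModule.map_apply, hx, map_zero]
    have h1 : f x = 0 := hinj (by rw [h0, map_zero])
    obtain ⟨c, hc⟩ := (IsLocalizedModule.eq_zero_iff T f).mp h1
    exact ⟨c.1, c.2, hc⟩
  · intro H
    refine IsLocalizedModule.injective_of_map_zero T f (fun m hm => ?_)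
    rw [IsLocalizedModule.map_apply] at hm
    obtain ⟨c, hc⟩ := (IsLocalizedModule.eq_zero_iff T g).mp hm
    have hc' : h (c.1 • m) = 0 := by rw [map_smul]; exact hc
    obtain ⟨s, hs, hs'⟩ := H _ hc'
    rw [IsLocalizedModule.eq_zero_iff T f]
    exact ⟨⟨s, hs⟩ * c, by rw [mul_smul]; exact hs'⟩

end LocMap

section Tensor

variable {R : Type*} {S : Type*} [CommRing R] [CommRing S] [Algebra R S]
  {M : Type*} [AddCommGroup M] [Module R M] [Module S M] [IsScalarTower R S M]

/-- Injectivity of `M_T ⊗ N₁ → M_T ⊗ N₂` is equivalent to the kernel of `M ⊗ N₁ → M ⊗ N₂`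
being `T`-torsion. -/
theorem lTensor_localizedModule_injective_iff (T : Submonoid S) {N₁ N₂ : Type*}
    [AddCommGroup N₁] [Module R N₁] [AddCommGroup N₂] [Module R N₂] (g : N₁ →ₗ[R] N₂) :
    Function.Injective (g.lTensor (LocalizedModule T M)) ↔
      ∀ z : M ⊗[R] N₁, g.lTensor M z = 0 → ∃ s ∈ T, s • z = 0 := by
  have h1 := IsLocalizedModule.map_lTensor (R := R) S T g (LocalizedModule.mkLinearMap T M)
  have h2 := isLocalizedModule_map_injective_iff T
    (AlgebraTensorModule.rTensor R N₁ (LocalizedModule.mkLinearMap T M))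
    (AlgebraTensorModule.rTensor R N₂ (LocalizedModule.mkLinearMap T M))
    (AlgebraTensorModule.lTensor S M g)
  rw [h1] at h2
  exact h2

/-- Flatness of a localized module over the base, in terms of torsion of kernels. -/
theorem flat_localizedModule_iff (T : Submonoid S) :
    Module.Flat R (LocalizedModule T M) ↔
      ∀ I : Ideal R, I.FG → ∀ z : M ⊗[R] I, I.subtype.lTensor M z = 0 → ∃ s ∈ T, s • z = 0 := by
  rw [Module.Flat.iff_lTensor_injective]
  constructor
  · intro h I hI
    exact (lTensor_localizedModule_injective_iff T I.subtype).mp (h hI)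
  · intro h I hI
    exact (lTensor_localizedModule_injective_iff T I.subtype).mpr (h I hI)

/-- Flatness of a localized module over the base, all ideals. -/
theorem flat_localizedModule_iff' (T : Submonoid S) :
    Module.Flat R (LocalizedModule T M) ↔
      ∀ I : Ideal R, ∀ z : M ⊗[R] I, I.subtype.lTensor M z = 0 → ∃ s ∈ T, s • z = 0 := by
  rw [Module.Flat.iff_lTensor_injective']
  constructor
  · intro h I
    exact (lTensor_localizedModule_injective_iff T I.subtype).mp (h I)
  · intro h I
    exact (lTensor_localizedModule_injective_iff T I.subtype).mpr (h I)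

/-- Flatness at a smaller multiplicative set implies flatness at a larger one. -/
theorem flat_localizedModule_of_le {T T' : Submonoid S} (hTT' : T ≤ T')
    (h : Module.Flat R (LocalizedModule T M)) : Module.Flat R (LocalizedModule T' M) := by
  rw [flat_localizedModule_iff] at h ⊢
  intro I hI z hz
  obtain ⟨s, hs, hsz⟩ := h I hI z hz
  exact ⟨s, hTT' hs, hsz⟩

/-- A localization (at a multiplicative subset of `S`) of an `R`-flat module is `R`-flat. -/
theorem flat_localizedModule_of_flat (T : Submonoid S) [Module.Flat R M] :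
    Module.Flat R (LocalizedModule T M) := by
  rw [flat_localizedModule_iff]
  intro I hI z hz
  have := Module.Flat.lTensor_preserves_injective_linearMap (M := M) I.subtype
    Subtype.val_injective
  exact ⟨1, T.one_mem, by rw [one_smul]; exact this (by rw [hz, map_zero])⟩

end Tensor

section Snake

variable {R : Type*} {S : Type*} [CommRing R] [CommRing S] [Algebra R S]
  {F : Type*} [AddCommGroup F] [Module R F] [Module S F] [IsScalarTower R S F]

/-- The multiplication map `F ⊗ I → F`. -/
noncomputable def mulMap (F : Type*) [AddCommGroup F] [Module R F] (I : Ideal R) :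
    F ⊗[R] I →ₗ[R] F :=
  (TensorProduct.rid R F).toLinearMap ∘ₗ I.subtype.lTensor F

@[simp]
theorem mulMap_tmul (I : Ideal R) (f : F) (i : I) : mulMap F I (f ⊗ₜ i) = (i : R) • f := by
  simp [mulMap]

theorem mulMap_eq_zero_iff (I : Ideal R) (w : F ⊗[R] I) :
    mulMap F I w = 0 ↔ I.subtype.lTensor F w = 0 := by
  simp [mulMap]

theorem mulMap_smul (I : Ideal R) (s : S) (w : F ⊗[R] I) :
    mulMap F I (s • w) = s • mulMap F I w := by
  induction w with
  | zero => simp
  | add a b ha hb => rw [smul_add, map_add, ha, hb, map_add, smul_add]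
  | tmul f i => rw [TensorProduct.smul_tmul', mulMap_tmul, mulMap_tmul, smul_comm]

theorem mulMap_mem_smul (I : Ideal R) (N : Submodule R F) (w : N ⊗[R] I) :
    mulMap F I (N.subtype.rTensor I w) ∈ I • N := by
  induction w with
  | zero => simp
  | add a b ha hb => rw [map_add, map_add]; exact add_mem ha hb
  | tmul n i =>
    rw [LinearMap.rTensor_tmul, mulMap_tmul]
    exact Submodule.smul_mem_smul i.2 n.2

theorem mem_smul_iff_exists_tensor (I : Ideal R) (N : Submodule R F) (y : F) :
    y ∈ I • N ↔ ∃ w : N ⊗[R] I, mulMap F I (N.subtype.rTensor I w) = y := by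
  constructor
  · intro hy
    refine Submodule.smul_induction_on hy ?_ ?_
    · intro r hr n hn
      exact ⟨(⟨n, hn⟩ : N) ⊗ₜ (⟨r, hr⟩ : I), by simp⟩
    · rintro x y ⟨w₁, rfl⟩ ⟨w₂, rfl⟩
      exact ⟨w₁ + w₂, by simp⟩
  · rintro ⟨w, rfl⟩
    exact mulMap_mem_smul I N w

theorem mulMap_rTensor (I : Ideal R) {F' : Type*} [AddCommGroup F'] [Module R F']
    (π : F →ₗ[R] F') (w : F ⊗[R] I) : mulMap F' I (π.rTensor I w) = π (mulMap F I w) := by
  induction w with
  | zero => simp
  | add a b ha hb => rw [map_add, map_add, ha, hb, map_add, map_add]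
  | tmul f i => simp

theorem rTensor_mkQ_smul (K : Submodule S F) (I : Ideal R) (s : S) (w : F ⊗[R] I) :
    ((K.mkQ).restrictScalars R).rTensor I (s • w) =
      s • ((K.mkQ).restrictScalars R).rTensor I w := by
  induction w with
  | zero => simp
  | add a b ha hb => rw [smul_add, map_add, ha, hb, map_add, smul_add]
  | tmul f i =>
    rw [TensorProduct.smul_tmul', LinearMap.rTensor_tmul, LinearMap.rTensor_tmul,
      TensorProduct.smul_tmul']
    rfl

/-- Snake lemma in elementwise form: the `T`-torsion of `Tor₁(F/K, R/I)` in terms of `K ∩ IF`. -/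
theorem kernel_torsion_iff (K : Submodule S F) (I : Ideal R) (T : Submonoid S)
    (hF : Function.Injective (I.subtype.lTensor F)) :
    (∀ z : (F ⧸ K) ⊗[R] I, I.subtype.lTensor (F ⧸ K) z = 0 → ∃ s ∈ T, s • z = 0) ↔
      (∀ y ∈ K, y ∈ I • (⊤ : Submodule R F) → ∃ s ∈ T, s • y ∈ I • K.restrictScalars R) := by
  set π : F →ₗ[R] F ⧸ K := (K.mkQ).restrictScalars R with hπ
  have hπs : Function.Surjective π := K.mkQ_surjective
  have hex : Function.Exact ((K.restrictScalars R).subtype.rTensor I) (π.rTensor I) := by
    apply rTensor_exact I _ hπs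
    intro x
    rw [hπ, LinearMap.coe_restrictScalars, Submodule.mkQ_apply, Submodule.Quotient.mk_eq_zero]
    simp
  have hinj : Function.Injective (mulMap F I) := by
    intro a b hab
    apply hF
    rw [← sub_eq_zero, ← map_sub, ← mulMap_eq_zero_iff, map_sub, hab, sub_self]
  constructor
  · intro H y hyK hyI
    rw [← Submodule.restrictScalars_top R S F] at hyI
    obtain ⟨w, hw⟩ := (mem_smul_iff_exists_tensor I _ y).mp hyI
    set w₀ : F ⊗[R] I := ((⊤ : Submodule S F).restrictScalars R).subtype.rTensor I w with hw₀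
    have hz : I.subtype.lTensor (F ⧸ K) (π.rTensor I w₀) = 0 := by
      rw [← mulMap_eq_zero_iff, mulMap_rTensor, hw, hπ, LinearMap.coe_restrictScalars,
        Submodule.mkQ_apply, Submodule.Quotient.mk_eq_zero]
      exact hyK
    obtain ⟨s, hs, hsz⟩ := H _ hz
    refine ⟨s, hs, ?_⟩
    rw [← rTensor_mkQ_smul] at hsz
    obtain ⟨w', hw'⟩ := (hex _).mp hsz
    rw [mem_smul_iff_exists_tensor]
    refine ⟨w', ?_⟩
    rw [hw', mulMap_smul, hw]
  · intro H z hz
    obtain ⟨w, rfl⟩ := LinearMap.rTensor_surjective I hπs z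
    rw [← mulMap_eq_zero_iff, mulMap_rTensor, hπ, LinearMap.coe_restrictScalars,
      Submodule.mkQ_apply, Submodule.Quotient.mk_eq_zero] at hz
    have hyI : mulMap F I w ∈ I • (⊤ : Submodule R F) := by
      rw [mem_smul_iff_exists_tensor]
      refine ⟨(LinearEquiv.ofTop (⊤ : Submodule R F) rfl).symm.toLinearMap.rTensor I w, ?_⟩
      rw [← LinearMap.rTensor_comp_apply]
      have : (⊤ : Submodule R F).subtype ∘ₗ (LinearEquiv.ofTop (⊤ : Submodule R F) rfl).symm.toLinearMap
          = LinearMap.id := by
        ext x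
        simp
      rw [this, LinearMap.rTensor_id, LinearMap.id_apply]
    obtain ⟨s, hs, hsy⟩ := H _ hz hyI
    refine ⟨s, hs, ?_⟩
    rw [mem_smul_iff_exists_tensor] at hsy
    obtain ⟨w', hw'⟩ := hsy
    rw [← mulMap_smul] at hw'
    have := hinj hw'
    rw [hπ, ← rTensor_mkQ_smul, ← this]
    exact (hex _).mpr ⟨w', rfl⟩

end Snake


end Groth.Agent.Lib.Helper3.FlatLoc
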