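import Mathlib
import Groth.Agent.Lib.Helper3FlatLocA

set_option autoImplicit false
set_option linter.style.haveILetI false

namespace Groth.Agent.Lib.Helper3.FlatLoc

open TensorProduct

section BC

variable {A R : Type*} [CommRing A] [CommRing R] [Algebra A R]
  {MA MR : Type*} [AddCommGroup MA] [Module A MA] [AddCommGroup MR] [Module R MR] [Module A MR]
  [IsScalarTower A R MR]

/-- The comparison map `M_A ⊗_A N → M_R ⊗_R N`. -/
noncomputable def bcMap (φ : MA →ₗ[A] MR) (N : Type*) [AddCommGroup N] [Module R N] [Module A N]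
    [IsScalarTower A R N] : MA ⊗[A] N →ₗ[A] MR ⊗[R] N :=
  TensorProduct.lift
    { toFun := fun m =>
        { toFun := fun n => φ m ⊗ₜ[R] n
          map_add' := fun n₁ n₂ => by rw [tmul_add]
          map_smul' := fun a n => by
            rw [RingHom.id_apply, ← algebraMap_smul R a n, tmul_smul, algebraMap_smul] }
      map_add' := fun m₁ m₂ => by ext n; simp [add_tmul]
      map_smul' := fun a m => by
        ext n
        simp only [map_smul, LinearMap.coe_mk, AddHom.coe_mk, RingHom.id_apply,
          LinearMap.smul_apply]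
        rw [← algebraMap_smul R a (φ m), ← smul_tmul', algebraMap_smul] }

@[simp]
theorem bcMap_tmul (φ : MA →ₗ[A] MR) (N : Type*) [AddCommGroup N] [Module R N] [Module A N]
    [IsScalarTower A R N] (m : MA) (n : N) :
    bcMap (R := R) φ N (m ⊗ₜ[A] n) = φ m ⊗ₜ[R] n := rfl

theorem bcMap_bijective (φ : MA →ₗ[A] MR) (hφ : IsBaseChange R φ) (N : Type*) [AddCommGroup N]
    [Module R N] [Module A N] [IsScalarTower A R N] :
    Function.Bijective (bcMap (R := R) φ N) := by
  let Ξ : MA ⊗[A] N ≃ₗ[A] MR ⊗[R] N :=
    (TensorProduct.comm A MA N) ≪≫ₗ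
    ((TensorProduct.AlgebraTensorModule.cancelBaseChange A R R N MA).symm.restrictScalars A) ≪≫ₗ
    ((TensorProduct.congr (LinearEquiv.refl R N) hφ.equiv).restrictScalars A) ≪≫ₗ
    ((TensorProduct.comm R N MR).restrictScalars A)
  have : bcMap (R := R) φ N = Ξ.toLinearMap := by
    ext m n
    simp [Ξ, IsBaseChange.equiv_tmul]
  rw [this]
  exact Ξ.bijective

variable {SA SR : Type*} [CommRing SA] [CommRing SR] [Algebra A SA] [Algebra R SR]
  [Algebra SA SR] [Module SA MA] [IsScalarTower A SA MA] [Module SR MR] [IsScalarTower R SR MR]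
  [Module SA MR] [IsScalarTower SA SR MR] [IsScalarTower A SA MR]

/-- Flatness at a point is preserved by base change. -/
theorem flat_localizedModule_of_isBaseChange (φ : MA →ₗ[SA] MR)
    (hφ : IsBaseChange R (φ.restrictScalars A)) (TA : Submonoid SA) (TR : Submonoid SR)
    (hT : ∀ s ∈ TA, algebraMap SA SR s ∈ TR)
    (h : Module.Flat A (LocalizedModule TA MA)) : Module.Flat R (LocalizedModule TR MR) := by
  rw [flat_localizedModule_iff']
  intro I z' hz'
  let g : I →ₗ[A] R := I.subtype.restrictScalars A
  have hg : Function.Injective (g.lTensor (LocalizedModule TA MA)) :=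
    Module.Flat.lTensor_preserves_injective_linearMap g Subtype.val_injective
  have key := (lTensor_localizedModule_injective_iff TA g).mp hg
  obtain ⟨z, rfl⟩ := (bcMap_bijective (φ.restrictScalars A) hφ I).2 z'
  have nat : ∀ z : MA ⊗[A] I, bcMap (R := R) (φ.restrictScalars A) R (g.lTensor MA z) =
      I.subtype.lTensor MR (bcMap (R := R) (φ.restrictScalars A) I z) := by
    intro z
    induction z with
    | zero => simp
    | add a b ha hb => simp only [map_add, ha, hb]
    | tmul m i => rfl
  have hz : g.lTensor MA z = 0 := by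
    apply (bcMap_bijective (φ.restrictScalars A) hφ R).1
    rw [map_zero, nat, hz']
  obtain ⟨s, hs, hsz⟩ := key z hz
  refine ⟨algebraMap SA SR s, hT s hs, ?_⟩
  have comp : ∀ z : MA ⊗[A] I, bcMap (R := R) (φ.restrictScalars A) I (s • z) =
      algebraMap SA SR s • bcMap (R := R) (φ.restrictScalars A) I z := by
    intro z
    induction z with
    | zero => simp
    | add a b ha hb => simp only [smul_add, map_add, ha, hb]
    | tmul m i =>
      rw [smul_tmul', bcMap_tmul, bcMap_tmul, smul_tmul', LinearMap.coe_restrictScalars,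
        map_smul, algebraMap_smul]
  rw [← comp, hsz, map_zero]

end BC

/-- Base change along a pushout square of rings: a base change `X → Y` along `P_A → P_R` is also
a base change along `A → R`. -/
theorem isBaseChange_restrictScalars_of_isPushout {A R PA PR X Y : Type*} [CommRing A] [CommRing R]
    [CommRing PA] [CommRing PR] [Algebra A R] [Algebra A PA] [Algebra A PR] [Algebra R PR]
    [Algebra PA PR] [IsScalarTower A PA PR] [IsScalarTower A R PR] [Algebra.IsPushout A R PA PR]
    [AddCommGroup X] [Module PA X] [Module A X] [IsScalarTower A PA X]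
    [AddCommGroup Y] [Module PR Y] [Module PA Y] [IsScalarTower PA PR Y] [Module R Y]
    [IsScalarTower R PR Y] [Module A Y] [IsScalarTower A R Y] [IsScalarTower A PA Y]
    (f : X →ₗ[PA] Y) (hf : IsBaseChange PR f) : IsBaseChange R (f.restrictScalars A) := by
  let e : R ⊗[A] X ≃ₗ[R] Y :=
    (Algebra.IsPushout.cancelBaseChange A R PA PR X).symm ≪≫ₗ (hf.equiv.restrictScalars R)
  refine IsBaseChange.of_equiv e fun x => ?_
  simp [e, IsBaseChange.equiv_tmul]


end Groth.Agent.Lib.Helper3.FlatLoc
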