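import Mathlib

set_option autoImplicit false
set_option linter.style.haveILetI false

namespace Groth.Agent.Lib.Helper3.FlatDesc

open TensorProduct

section Model

variable {T₀ : Type*} [CommRing T₀] {ι κ : Type*} [Fintype κ] (w : κ → ι → T₀)

/-- The base-changed family of generators. -/
def wT (T : Type*) [CommRing T] [Algebra T₀ T] : κ → ι → T :=
  fun j i => algebraMap T₀ T (w j i)

/-- The presentation map `T^κ → T^ι`. -/
noncomputable def WT (T : Type*) [CommRing T] [Algebra T₀ T] : (κ → T) →ₗ[T] (ι → T) :=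
  Fintype.linearCombination T (wT w T)

/-- The submodule of relations. -/
noncomputable def KT (T : Type*) [CommRing T] [Algebra T₀ T] : Submodule T (ι → T) :=
  LinearMap.range (WT w T)

theorem WT_apply (T : Type*) [CommRing T] [Algebra T₀ T] (a : κ → T) :
    WT w T a = ∑ j, a j • wT w T j := by
  simp [WT, Fintype.linearCombination_apply]

variable (T T' : Type*) [CommRing T] [Algebra T₀ T] [CommRing T'] [Algebra T₀ T'] [Algebra T T']
  [IsScalarTower T₀ T T']

/-- The coordinatewise base change map. -/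
noncomputable def Fmap (ι : Type*) : (ι → T) →ₗ[T] (ι → T') := (Algebra.linearMap T T').compLeft ι

@[simp]
theorem Fmap_apply (x : ι → T) (i : ι) : Fmap T T' ι x i = algebraMap T T' (x i) := rfl

theorem Fmap_wT (j : κ) : Fmap T T' ι (wT w T j) = wT w T' j := by
  ext i
  simp [wT, ← IsScalarTower.algebraMap_apply]

theorem Fmap_smul' (a : T) (x : ι → T) :
    Fmap T T' ι (a • x) = algebraMap T T' a • Fmap T T' ι x := by
  ext i
  simp

theorem WT_Fmap (a : κ → T) : WT w T' (Fmap T T' κ a) = Fmap T T' ι (WT w T a) := by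
  rw [WT_apply, WT_apply, map_sum]
  refine Finset.sum_congr rfl fun j _ => ?_
  rw [Fmap_smul', Fmap_wT, Fmap_apply]

theorem Fmap_mem_KT {x : ι → T} (hx : x ∈ KT w T) : Fmap T T' ι x ∈ KT w T' := by
  obtain ⟨a, rfl⟩ := hx
  exact ⟨Fmap T T' κ a, WT_Fmap w T T' a⟩

/-- The induced map on presented modules. -/
noncomputable def Mmap : ((ι → T) ⧸ KT w T) →ₗ[T] ((ι → T') ⧸ KT w T') :=
  (KT w T).liftQ (((KT w T').mkQ.restrictScalars T) ∘ₗ Fmap T T' ι) (by
    intro x hx
    rw [LinearMap.mem_ker, LinearMap.comp_apply, LinearMap.coe_restrictScalars,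
      Submodule.mkQ_apply, Submodule.Quotient.mk_eq_zero]
    exact Fmap_mem_KT w T T' hx)

@[simp]
theorem Mmap_mk (x : ι → T) :
    Mmap w T T' (Submodule.Quotient.mk x) = Submodule.Quotient.mk (Fmap T T' ι x) := rfl

/-- The presented module commutes with base change. -/
theorem isBaseChange_Mmap [Finite ι] : IsBaseChange T' (Mmap w T T') := by
  refine IsBaseChange.of_right_exact T' ((Algebra.linearMap T T').compLeft κ)
    ((Algebra.linearMap T T').compLeft ι) (Mmap w T T')
    (f := WT w T) (g := (KT w T).mkQ) (f' := WT w T') (g' := (KT w T').mkQ) ?_ ?_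
    (IsBaseChange.finitePow κ (IsBaseChange.linearMap T T'))
    (IsBaseChange.finitePow ι (IsBaseChange.linearMap T T'))
    (LinearMap.exact_map_mkQ_range _) (Submodule.mkQ_surjective _)
    (LinearMap.exact_map_mkQ_range _) (Submodule.mkQ_surjective _)
  · ext a : 1
    exact (WT_Fmap w T T' a).symm
  · ext a : 1
    rfl

/-- Kernels of the presentation map commute with flat base change. -/
theorem mem_span_Fmap_ker_of_flat [Finite ι] [Module.Flat T T'] {c : κ → T'}
    (hc : WT w T' c = 0) :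
    c ∈ Submodule.span T' (Fmap T T' κ '' (LinearMap.ker (WT w T) : Set (κ → T))) := by
  let h₁ : LinearMap.ker (WT w T) →ₗ[T] LinearMap.ker (WT w T') :=
    LinearMap.codRestrict ((LinearMap.ker (WT w T')).restrictScalars T)
      ((Fmap T T' κ) ∘ₗ (LinearMap.ker (WT w T)).subtype) (by
        intro a
        change WT w T' (Fmap T T' κ a.1) = 0
        rw [WT_Fmap, a.2, map_zero])
  have hb : IsBaseChange T' h₁ := by
    refine IsBaseChange.of_left_exact T' h₁ ((Algebra.linearMap T T').compLeft κ)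
      ((Algebra.linearMap T T').compLeft ι)
      (f := (LinearMap.ker (WT w T)).subtype) (g := WT w T)
      (f' := (LinearMap.ker (WT w T')).subtype) (g' := WT w T') ?_ ?_
      (IsBaseChange.finitePow κ (IsBaseChange.linearMap T T'))
      (IsBaseChange.finitePow ι (IsBaseChange.linearMap T T'))
      (LinearMap.exact_subtype_ker_map _) (Submodule.injective_subtype _)
      (LinearMap.exact_subtype_ker_map _) (Submodule.injective_subtype _)
    · ext a : 1
      rfl
    · ext a : 1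
      exact (WT_Fmap w T T' a).symm
  have key : ∀ x : LinearMap.ker (WT w T'), (x : κ → T') ∈
      Submodule.span T' (Fmap T T' κ '' (LinearMap.ker (WT w T) : Set (κ → T))) := by
    intro x
    refine hb.inductionOn x (fun x => (x : κ → T') ∈ _) (Submodule.zero_mem _) ?_ ?_ ?_
    · intro m
      exact Submodule.subset_span ⟨m.1, m.2, rfl⟩
    · intro s n hn
      exact Submodule.smul_mem _ s hn
    · intro n₁ n₂ h1 h2
      exact Submodule.add_mem _ h1 h2
  exact key ⟨c, hc⟩

end Model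

section Gen

variable {T₀ T E₀ E : Type*} [CommRing T₀] [CommRing T] [CommRing E₀] [CommRing E]
  [Algebra T₀ T] [Algebra T₀ E₀] [Algebra T₀ E] [Algebra T E] [Algebra E₀ E]
  [IsScalarTower T₀ T E] [IsScalarTower T₀ E₀ E] [Module.Flat E₀ E]
  {ι κ : Type*} [Finite ι] [Fintype κ] (w : κ → ι → T₀)

theorem wT_mem_KT (T : Type*) [CommRing T] [Algebra T₀ T] [DecidableEq κ] (j : κ) :
    wT w T j ∈ KT w T := by
  refine ⟨Pi.single j 1, ?_⟩
  rw [WT_apply]
  simp [Pi.single_apply]

theorem Fmap_Fmap (A B C : Type*) [CommRing A] [CommRing B] [CommRing C] [Algebra A B]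
    [Algebra B C] [Algebra A C] [IsScalarTower A B C] (ι : Type*) (x : ι → A) :
    Fmap B C ι (Fmap A B ι x) = Fmap A C ι x := by
  ext i
  simp [← IsScalarTower.algebraMap_apply]

/-- The abstract form of the key step: `K_T ∩ J F_T` is generated, up to `Sg`-torsion and modulo
`J K_T`, by the image of `K_{T₀} ∩ J₀ F_{T₀}`. -/
theorem exists_smul_mem_span_sup (J₀ : Ideal T₀) (J : Ideal T) (Sg : Submonoid T)
    (hsurj : Function.Surjective (algebraMap T₀ E₀))
    (hker₀ : RingHom.ker (algebraMap T₀ E₀) ≤ J₀) (hker : RingHom.ker (algebraMap T E) ≤ J)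
    (hfrac : ∀ e : E, ∃ t ∈ Sg, ∃ c : T, algebraMap T E t * e = algebraMap T E c)
    (x : ι → T) (hxK : x ∈ KT w T) (hx0 : Fmap T E ι x = 0) :
    ∃ t ∈ Sg, t • x ∈ Submodule.span T (Fmap T₀ T ι '' {y | y ∈ KT w T₀ ∧ ∀ i, y i ∈ J₀}) ⊔
      J • KT w T := by
  classical
  obtain ⟨a, rfl⟩ := hxK
  have h1 : WT w E (Fmap T E κ a) = 0 := by rw [WT_Fmap, hx0]
  have h2 := mem_span_Fmap_ker_of_flat w E₀ E h1
  set Z : Set (κ → T₀) := {z | ∀ i, (WT w T₀ z) i ∈ J₀} with hZ
  have key : ∀ c ∈ Submodule.span E (Fmap E₀ E κ '' (LinearMap.ker (WT w E₀) : Set (κ → E₀))),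
      ∃ t ∈ Sg, ∃ b ∈ Submodule.span T (Fmap T₀ T κ '' Z),
        algebraMap T E t • c = Fmap T E κ b := by
    intro c hc
    induction hc using Submodule.span_induction with
    | mem c hc =>
      obtain ⟨zb, hzb, rfl⟩ := hc
      choose z hz using fun j => hsurj (zb j)
      have hzz : Fmap T₀ E₀ κ z = zb := by ext j; exact hz j
      have hzZ : z ∈ Z := by
        intro i
        apply hker₀
        rw [RingHom.mem_ker, ← Fmap_apply T₀ E₀, ← WT_Fmap, hzz]
        have hzb' : WT w E₀ zb = 0 := hzb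
        rw [hzb']; rfl
      refine ⟨1, Sg.one_mem, Fmap T₀ T κ z, Submodule.subset_span ⟨z, hzZ, rfl⟩, ?_⟩
      rw [map_one, one_smul, Fmap_Fmap, ← hzz, Fmap_Fmap]
    | zero => exact ⟨1, Sg.one_mem, 0, Submodule.zero_mem _, by simp⟩
    | add c₁ c₂ _ _ h₁ h₂ =>
      obtain ⟨t₁, ht₁, b₁, hb₁, e₁⟩ := h₁
      obtain ⟨t₂, ht₂, b₂, hb₂, e₂⟩ := h₂
      refine ⟨t₁ * t₂, Sg.mul_mem ht₁ ht₂, t₂ • b₁ + t₁ • b₂,
        Submodule.add_mem _ (Submodule.smul_mem _ _ hb₁) (Submodule.smul_mem _ _ hb₂), ?_⟩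
      rw [map_add, Fmap_smul', Fmap_smul', ← e₁, ← e₂, smul_add, map_mul, mul_smul, mul_smul,
        smul_comm (algebraMap T E t₁) (algebraMap T E t₂) c₁]
    | smul e c _ h =>
      obtain ⟨t, ht, b, hb, e₁⟩ := h
      obtain ⟨t', ht', c', hc'⟩ := hfrac e
      refine ⟨t' * t, Sg.mul_mem ht' ht, c' • b, Submodule.smul_mem _ _ hb, ?_⟩
      rw [Fmap_smul', ← e₁, ← hc', map_mul, mul_smul, mul_smul, smul_comm (algebraMap T E t) e c]
  obtain ⟨t, ht, b, hb, hbt⟩ := key _ h2
  refine ⟨t, ht, ?_⟩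
  have he' : ∀ j, (t • a - b) j ∈ J := by
    intro j
    apply hker
    rw [RingHom.mem_ker, ← Fmap_apply T E, map_sub, Fmap_smul', hbt, sub_self]
    rfl
  have hsplit : t • WT w T a = WT w T b + WT w T (t • a - b) := by
    rw [← map_add, add_sub_cancel, map_smul]
  rw [hsplit]
  refine Submodule.add_mem_sup ?_ ?_
  · have : Submodule.span T (Fmap T₀ T κ '' Z) ≤
        (Submodule.span T (Fmap T₀ T ι '' {y | y ∈ KT w T₀ ∧ ∀ i, y i ∈ J₀})).comap (WT w T) := by
      rw [Submodule.span_le]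
      rintro _ ⟨z, hz, rfl⟩
      rw [SetLike.mem_coe, Submodule.mem_comap, WT_Fmap]
      exact Submodule.subset_span ⟨WT w T₀ z, ⟨⟨z, rfl⟩, hz⟩, rfl⟩
    exact this hb
  · rw [WT_apply]
    exact Submodule.sum_mem _ fun j _ => Submodule.smul_mem_smul (he' j) (wT_mem_KT w T j)

end Gen

end Groth.Agent.Lib.Helper3.FlatDesc
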