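import Mathlib
import Groth.Agent.Lib.Helper3FlatDescA

set_option autoImplicit false
set_option linter.style.haveILetI false

namespace Groth.Agent.Lib.Helper3.FlatDesc

open TensorProduct MvPolynomial

attribute [local instance] MvPolynomial.algebraMvPolynomial

section PolyBasics

variable {σ : Type*}

theorem isScalarTower_mvPolynomial (A B C : Type*) [CommRing A] [CommRing B] [CommRing C]
    [Algebra A B] [Algebra B C] [Algebra A C] [IsScalarTower A B C] :
    IsScalarTower (MvPolynomial σ A) (MvPolynomial σ B) (MvPolynomial σ C) := by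
  refine IsScalarTower.of_algebraMap_eq' ?_
  rw [MvPolynomial.algebraMap_def, MvPolynomial.algebraMap_def, MvPolynomial.algebraMap_def,
    IsScalarTower.algebraMap_eq A B C]
  ext <;> simp

theorem flat_mvPolynomial (A B : Type*) [CommRing A] [CommRing B] [Algebra A B]
    [Module.Flat A B] : Module.Flat (MvPolynomial σ A) (MvPolynomial σ B) :=
  Module.Flat.isBaseChange A (MvPolynomial σ A) B (MvPolynomial σ B)
    (Algebra.IsPushout.out (R := A) (S := MvPolynomial σ A) (R' := B) (S' := MvPolynomial σ B))

/-- A field containing a domain is flat over it. -/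
theorem flat_of_field_of_injective (D₀ L : Type*) [CommRing D₀] [IsDomain D₀] [Field L]
    [Algebra D₀ L] (hinj : Function.Injective (algebraMap D₀ L)) : Module.Flat D₀ L := by
  letI : Algebra (FractionRing D₀) L := (IsFractionRing.lift hinj).toAlgebra
  haveI : IsScalarTower D₀ (FractionRing D₀) L :=
    IsScalarTower.of_algebraMap_eq fun x => (IsFractionRing.lift_algebraMap hinj x).symm
  exact (Module.flat_iff_of_isLocalization (FractionRing D₀) (nonZeroDivisors D₀) L).mp
    inferInstance

end PolyBasics

section GenPoly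

variable {σ : Type*} {Λ A : Type*} [CommRing Λ] [CommRing A] [Algebra Λ A]
  {ι κ : Type*} [Finite ι] [Fintype κ] (w : κ → ι → MvPolynomial σ Λ)

/-- The key step for polynomial rings. -/
theorem exists_C_smul_mem (pA : Ideal A) [pA.IsPrime] (x : ι → MvPolynomial σ A)
    (hxK : x ∈ KT w (MvPolynomial σ A)) (hx : ∀ i, x i ∈ pA.map (C (σ := σ))) :
    ∃ t : A, t ∉ pA ∧ (C t : MvPolynomial σ A) • x ∈
      Submodule.span (MvPolynomial σ A) (Fmap (MvPolynomial σ Λ) (MvPolynomial σ A) ι ''
        {y | y ∈ KT w (MvPolynomial σ Λ) ∧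
          ∀ i, y i ∈ (pA.comap (algebraMap Λ A)).map (C (σ := σ))}) ⊔
      (pA.map (C (σ := σ))) • KT w (MvPolynomial σ A) := by
  set p₀ : Ideal Λ := pA.comap (algebraMap Λ A) with hp₀
  let D₀ := Λ ⧸ p₀
  let D := A ⧸ pA
  let L := FractionRing D
  haveI : IsScalarTower Λ D₀ D := IsScalarTower.of_algebraMap_eq fun x => rfl
  haveI : IsScalarTower Λ D₀ L := IsScalarTower.of_algebraMap_eq fun x => by
    rw [IsScalarTower.algebraMap_apply Λ D L, IsScalarTower.algebraMap_apply Λ D₀ D,
      ← IsScalarTower.algebraMap_apply D₀ D L]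
  haveI : IsScalarTower Λ A L := IsScalarTower.of_algebraMap_eq fun x => by
    rw [IsScalarTower.algebraMap_apply Λ D L, IsScalarTower.algebraMap_apply Λ A D,
      ← IsScalarTower.algebraMap_apply A D L]
  have hinjD : Function.Injective (algebraMap D₀ D) := by
    rw [injective_iff_map_eq_zero]
    intro a ha
    obtain ⟨a, rfl⟩ := Ideal.Quotient.mk_surjective a
    rw [Ideal.Quotient.eq_zero_iff_mem]
    have : algebraMap D₀ D (Ideal.Quotient.mk p₀ a) = Ideal.Quotient.mk pA (algebraMap Λ A a) :=
      rfl
    rw [this, Ideal.Quotient.eq_zero_iff_mem] at ha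
    exact ha
  have hinjL : Function.Injective (algebraMap D₀ L) := by
    rw [IsScalarTower.algebraMap_eq D₀ D L]
    exact (IsFractionRing.injective D L).comp hinjD
  haveI : Module.Flat D₀ L := flat_of_field_of_injective D₀ L hinjL
  haveI : Module.Flat (MvPolynomial σ D₀) (MvPolynomial σ L) := flat_mvPolynomial D₀ L
  haveI := isScalarTower_mvPolynomial (σ := σ) Λ A L
  haveI := isScalarTower_mvPolynomial (σ := σ) Λ D₀ L
  have hkerAL : ∀ a : A, algebraMap A L a = 0 → a ∈ pA := by
    intro a ha
    rw [IsScalarTower.algebraMap_apply A D L] at ha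
    have := (IsFractionRing.injective D L) (ha.trans (map_zero _).symm)
    exact Ideal.Quotient.eq_zero_iff_mem.mp this
  obtain ⟨t, ht, htx⟩ := exists_smul_mem_span_sup (T₀ := MvPolynomial σ Λ)
    (T := MvPolynomial σ A) (E₀ := MvPolynomial σ D₀) (E := MvPolynomial σ L) w
    (p₀.map (C (σ := σ))) (pA.map (C (σ := σ))) (pA.primeCompl.map (C (σ := σ)))
    (MvPolynomial.map_surjective _ Ideal.Quotient.mk_surjective)
    (by
      rw [MvPolynomial.algebraMap_def, MvPolynomial.ker_map]
      refine Ideal.map_mono ?_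
      intro a ha
      rw [RingHom.mem_ker] at ha
      exact Ideal.Quotient.eq_zero_iff_mem.mp ha)
    (by
      intro f hf
      rw [RingHom.mem_ker, MvPolynomial.algebraMap_def] at hf
      rw [MvPolynomial.mem_map_C_iff]
      intro m
      apply hkerAL
      rw [← MvPolynomial.coeff_map, hf, MvPolynomial.coeff_zero])
    (by
      intro e
      haveI := MvPolynomial.isLocalization (σ := σ) (nonZeroDivisors D) L
      obtain ⟨⟨c', s'⟩, hcs⟩ := IsLocalization.surj ((nonZeroDivisors D).map (C (σ := σ))) e
      obtain ⟨d, hd, hds⟩ := s'.2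
      obtain ⟨t₀, rfl⟩ := Ideal.Quotient.mk_surjective d
      obtain ⟨c, rfl⟩ := MvPolynomial.map_surjective _ Ideal.Quotient.mk_surjective c'
      have ht₀ : t₀ ∉ pA := by
        intro h
        have : (Ideal.Quotient.mk pA t₀) = 0 := Ideal.Quotient.eq_zero_iff_mem.mpr h
        rw [this] at hd
        exact zero_notMem_nonZeroDivisors hd
      refine ⟨C t₀, ⟨t₀, ht₀, rfl⟩, c, ?_⟩
      have h1 : algebraMap (MvPolynomial σ A) (MvPolynomial σ L) (C t₀) =
          algebraMap (MvPolynomial σ D) (MvPolynomial σ L) (s' : MvPolynomial σ D) := by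
        rw [← hds, MvPolynomial.algebraMap_def, MvPolynomial.algebraMap_def, MvPolynomial.map_C,
          MvPolynomial.map_C, IsScalarTower.algebraMap_apply A D L]
        rfl
      have h2 : algebraMap (MvPolynomial σ A) (MvPolynomial σ L) c =
          algebraMap (MvPolynomial σ D) (MvPolynomial σ L)
            (MvPolynomial.map (Ideal.Quotient.mk pA) c) := by
        rw [MvPolynomial.algebraMap_def, MvPolynomial.algebraMap_def, MvPolynomial.map_map,
          IsScalarTower.algebraMap_eq A D L]
        rfl
      rw [h1, h2, mul_comm]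
      exact hcs)
    x hxK
    (by
      ext i : 1
      rw [Fmap_apply, MvPolynomial.algebraMap_def]
      have := hx i
      rw [MvPolynomial.mem_map_C_iff] at this
      ext m
      rw [MvPolynomial.coeff_map, Pi.zero_apply, MvPolynomial.coeff_zero]
      rw [IsScalarTower.algebraMap_apply A D L]
      have h0 : algebraMap A D (coeff m (x i)) = 0 := Ideal.Quotient.eq_zero_iff_mem.mpr (this m)
      rw [h0, map_zero])
  obtain ⟨t₀, ht₀, rfl⟩ := ht
  exact ⟨t₀, ht₀, htx⟩

end GenPoly

end Groth.Agent.Lib.Helper3.FlatDesc
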