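import Mathlib

/-!
# Helper24GB: a small Gröbner-basis toolkit on top of Mathlib's `MonomialOrder`

`HasLM m G I` says that every nonzero element of the ideal `I` has leading exponent divisible by
the leading exponent of an element of `G`.  We prove the "coprime leading monomials" extension
lemma and several consequences (division with remainder, torsion-freeness, radicality, regular
elements).
-/

namespace Groth.Agent.Lib.Helper24GB

open MvPolynomial
open scoped MonomialOrder

section general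

variable {σ : Type*} {R : Type*} [CommRing R] (m : MonomialOrder σ)

/-- Every nonzero element of `I` has leading exponent divisible by the leading exponent of some
element of `G`. -/
def HasLM (G : Set (MvPolynomial σ R)) (I : Ideal (MvPolynomial σ R)) : Prop :=
  ∀ x ∈ I, x ≠ 0 → ∃ g ∈ G, m.degree g ≤ m.degree x

/-- `r` is reduced with respect to `G`: no monomial of `r` is divisible by a leading monomial of an
element of `G`. -/
def Reduced (G : Set (MvPolynomial σ R)) (r : MvPolynomial σ R) : Prop :=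
  ∀ c ∈ r.support, ∀ g ∈ G, ¬ m.degree g ≤ c

variable {m}

lemma isUnit_of_monic {f : MvPolynomial σ R} (hf : m.Monic f) : IsUnit (m.leadingCoeff f) := by
  rw [hf.leadingCoeff_eq_one]; exact isUnit_one

lemma isUnit_neg_of_monic {f : MvPolynomial σ R} (hf : m.Monic f) :
    IsUnit (m.leadingCoeff (-f)) := by
  rw [m.leadingCoeff_neg, hf.leadingCoeff_eq_one]; exact isUnit_one.neg

lemma hasLM_bot : HasLM m (∅ : Set (MvPolynomial σ R)) ⊥ := by
  intro x hx hx0
  exact absurd (by simpa using hx) hx0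

lemma Reduced.degree {G : Set (MvPolynomial σ R)} {r : MvPolynomial σ R} (hr : Reduced m G r)
    (h0 : r ≠ 0) : ∀ g ∈ G, ¬ m.degree g ≤ m.degree r :=
  hr _ (m.degree_mem_support h0)

lemma Reduced.mono {G G' : Set (MvPolynomial σ R)} {r : MvPolynomial σ R} (hr : Reduced m G r)
    (h : G' ⊆ G) : Reduced m G' r := fun c hc g hg => hr c hc g (h hg)

lemma Reduced.smul {G : Set (MvPolynomial σ R)} {r : MvPolynomial σ R} (hr : Reduced m G r)
    (a : R) : Reduced m G (a • r) := fun c hc g hg => hr c (MvPolynomial.support_smul hc) g hg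

/-- A reduced element of an ideal with the `HasLM` property is zero. -/
lemma eq_zero_of_reduced {G : Set (MvPolynomial σ R)} {I : Ideal (MvPolynomial σ R)}
    (hG : HasLM m G I) {r : MvPolynomial σ R} (hrI : r ∈ I) (hr : Reduced m G r) : r = 0 := by
  by_contra h0
  obtain ⟨g, hg, hle⟩ := hG r hrI h0
  exact hr.degree h0 g hg hle

/-- Division with remainder by a set of monic polynomials. -/
lemma exists_reduced {G : Set (MvPolynomial σ R)} (hmon : ∀ g ∈ G, IsUnit (m.leadingCoeff g))
    (x : MvPolynomial σ R) : ∃ r, x - r ∈ Ideal.span G ∧ Reduced m G r := by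
  obtain ⟨q, r, hx, -, hr⟩ := m.div_set (B := G)
    (fun b hb => hmon b hb) x
  refine ⟨r, ?_, hr⟩
  have : x - r = Finsupp.linearCombination _ (fun (b : G) ↦ (b : MvPolynomial σ R)) q := by
    rw [hx]; ring
  rw [this, Finsupp.linearCombination_apply]
  refine Ideal.sum_mem _ (fun b _ => ?_)
  exact Ideal.mul_mem_left _ _ (Ideal.subset_span b.2)

/-- The core extension lemma. -/
lemma hasLM_sup_of_decomp {G : Set (MvPolynomial σ R)} {I₀ : Ideal (MvPolynomial σ R)}
    (hG : HasLM m G I₀) {f : MvPolynomial σ R} (hf : IsUnit (m.leadingCoeff f))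
    (hdec : ∀ x ∈ I₀ ⊔ Ideal.span {f}, ∃ y ∈ I₀, ∃ r, x = y + r * f ∧
      (r ≠ 0 → ∀ g ∈ G, ¬ m.degree g ≤ m.degree r + m.degree f)) :
    HasLM m (insert f G) (I₀ ⊔ Ideal.span {f}) := by
  intro x hx hx0
  obtain ⟨y, hy, r, rfl, hr⟩ := hdec x hx
  by_cases hr0 : r = 0
  · subst hr0
    simp only [zero_mul, add_zero] at hx0 ⊢
    obtain ⟨g, hg, hle⟩ := hG y hy hx0
    exact ⟨g, Set.mem_insert_of_mem _ hg, hle⟩
  have hreg : IsRegular (m.leadingCoeff f) := hf.isRegular
  have hdeg : m.degree (r * f) = m.degree r + m.degree f :=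
    m.degree_mul_of_isRegular_right hr0 hreg
  by_cases hy0 : y = 0
  · subst hy0
    refine ⟨f, Set.mem_insert _ _, ?_⟩
    rw [zero_add, hdeg]
    exact le_add_self
  obtain ⟨g, hg, hle⟩ := hG y hy hy0
  have hne : m.degree y ≠ m.degree (r * f) := by
    intro he
    rw [he, hdeg] at hle
    exact hr hr0 g hg hle
  have hmax := m.degree_add_of_ne hne
  rcases le_total (m.toSyn (m.degree y)) (m.toSyn (m.degree (r * f))) with h | h
  · rw [sup_eq_right.mpr h] at hmax
    have := m.toSyn.injective hmax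
    refine ⟨f, Set.mem_insert _ _, ?_⟩
    rw [this, hdeg]
    exact le_add_self
  · rw [sup_eq_left.mpr h] at hmax
    have := m.toSyn.injective hmax
    refine ⟨g, Set.mem_insert_of_mem _ hg, ?_⟩
    rw [this]; exact hle

/-- Coprimality of exponent vectors. -/
def Coprime (c d : σ →₀ ℕ) : Prop := ∀ i, c i = 0 ∨ d i = 0

lemma le_of_le_add_of_coprime {c d e : σ →₀ ℕ} (hcd : Coprime c d) (h : c ≤ e + d) : c ≤ e := by
  intro i
  have := h i
  rcases hcd i with h0 | h0
  · rw [h0]; exact Nat.zero_le _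
  · simpa [h0] using this

/-- Lemma A: adjoining a monic polynomial whose leading monomial is coprime to those of `G`. -/
lemma hasLM_sup_of_coprime {G : Set (MvPolynomial σ R)} {I₀ : Ideal (MvPolynomial σ R)}
    (hmon : ∀ g ∈ G, IsUnit (m.leadingCoeff g)) (hGI : G ⊆ I₀)
    (hG : HasLM m G I₀) {f : MvPolynomial σ R} (hf : IsUnit (m.leadingCoeff f))
    (hcop : ∀ g ∈ G, Coprime (m.degree g) (m.degree f)) :
    HasLM m (insert f G) (I₀ ⊔ Ideal.span {f}) := by
  refine hasLM_sup_of_decomp hG hf ?_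
  intro x hx
  obtain ⟨y₀, hy₀, z, hz, rfl⟩ := Submodule.mem_sup.mp hx
  obtain ⟨q, rfl⟩ := Ideal.mem_span_singleton'.mp hz
  obtain ⟨r, hqr, hr⟩ := exists_reduced hmon q
  have hspan : Ideal.span G ≤ I₀ := Ideal.span_le.mpr hGI
  refine ⟨y₀ + (q - r) * f, I₀.add_mem hy₀ (I₀.mul_mem_right _ (hspan hqr)), r, by ring, ?_⟩
  intro hr0 g hg hle
  exact hr.degree hr0 g hg (le_of_le_add_of_coprime (hcop g hg) hle)

/-- A monic polynomial with leading monomial coprime to those of a "Gröbner basis" `G` of `I₀` is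
a non-zero-divisor modulo `I₀`. -/
lemma mem_of_mul_mem_of_coprime {G : Set (MvPolynomial σ R)} {I₀ : Ideal (MvPolynomial σ R)}
    (hmon : ∀ g ∈ G, IsUnit (m.leadingCoeff g)) (hGI : G ⊆ I₀)
    (hG : HasLM m G I₀) {f : MvPolynomial σ R} (hf : IsUnit (m.leadingCoeff f))
    (hcop : ∀ g ∈ G, Coprime (m.degree g) (m.degree f)) {x : MvPolynomial σ R}
    (hx : x * f ∈ I₀) : x ∈ I₀ := by
  obtain ⟨r, hxr, hr⟩ := exists_reduced hmon x
  have hspan : Ideal.span G ≤ I₀ := Ideal.span_le.mpr hGI
  have hrf : r * f ∈ I₀ := by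
    have : r * f = x * f - (x - r) * f := by ring
    rw [this]
    exact I₀.sub_mem hx (I₀.mul_mem_right _ (hspan hxr))
  suffices r = 0 by
    have h2 := hspan hxr
    rwa [this, sub_zero] at h2
  by_contra hr0
  have hreg : IsRegular (m.leadingCoeff f) := hf.isRegular
  have hdeg : m.degree (r * f) = m.degree r + m.degree f :=
    m.degree_mul_of_isRegular_right hr0 hreg
  have hne : r * f ≠ 0 := by
    intro h0
    have := m.leadingCoeff_mul_of_isRegular_right (f := r) hreg
    rw [h0, m.leadingCoeff_zero] at this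
    exact hr0 (m.leadingCoeff_eq_zero_iff.mp ((IsUnit.mul_left_eq_zero hf).mp this.symm))
  obtain ⟨g, hg, hle⟩ := hG _ hrf hne
  rw [hdeg] at hle
  exact hr.degree hr0 g hg (le_of_le_add_of_coprime (hcop g hg) hle)

/-- Polynomials with invertible leading coefficient are non-zero-divisors. -/
lemma eq_zero_of_mul_monic {f : MvPolynomial σ R} (hf : IsUnit (m.leadingCoeff f)) {x : MvPolynomial σ R}
    (hx : x * f = 0) : x = 0 := by
  have hreg : IsRegular (m.leadingCoeff f) := hf.isRegular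
  have := m.leadingCoeff_mul_of_isRegular_right (f := x) hreg
  rw [hx, m.leadingCoeff_zero] at this
  exact m.leadingCoeff_eq_zero_iff.mp ((IsUnit.mul_left_eq_zero hf).mp this.symm)

/-- Torsion-freeness of the quotient by an ideal with a monic "Gröbner basis". -/
lemma mem_of_smul_mem {G : Set (MvPolynomial σ R)} {I : Ideal (MvPolynomial σ R)}
    (hmon : ∀ g ∈ G, IsUnit (m.leadingCoeff g)) (hGI : G ⊆ I) (hG : HasLM m G I) {a : R} (ha : IsRegular a)
    {x : MvPolynomial σ R} (hx : a • x ∈ I) : x ∈ I := by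
  obtain ⟨r, hxr, hr⟩ := exists_reduced hmon x
  have hspan : Ideal.span G ≤ I := Ideal.span_le.mpr hGI
  have har : a • r ∈ I := by
    have : a • r = a • x - a • (x - r) := by rw [smul_sub]; ring
    rw [this]
    exact I.sub_mem hx (Submodule.smul_of_tower_mem I a (hspan hxr))
  have h0 : a • r = 0 := eq_zero_of_reduced hG har (hr.smul a)
  have hr0 : r = 0 := by
    ext c
    have := congrArg (MvPolynomial.coeff c) h0
    rw [MvPolynomial.coeff_smul, MvPolynomial.coeff_zero, smul_eq_mul] at this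
    rw [MvPolynomial.coeff_zero]
    exact ha.left (by simpa using this)
  have h2 := hspan hxr
  rwa [hr0, sub_zero] at h2

lemma isTorsionFree_quotient {G : Set (MvPolynomial σ R)} {I : Ideal (MvPolynomial σ R)}
    (hmon : ∀ g ∈ G, IsUnit (m.leadingCoeff g)) (hGI : G ⊆ I) (hG : HasLM m G I) :
    Module.IsTorsionFree R (MvPolynomial σ R ⧸ I) where
  isSMulRegular a ha := by
    intro u v huv
    obtain ⟨x, rfl⟩ := Ideal.Quotient.mk_surjective u
    obtain ⟨y, rfl⟩ := Ideal.Quotient.mk_surjective v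
    have h1 : Ideal.Quotient.mk I (a • x) = Ideal.Quotient.mk I (a • y) := huv
    rw [Ideal.Quotient.eq, ← smul_sub] at h1
    rw [Ideal.Quotient.eq]
    exact mem_of_smul_mem hmon hGI hG ha h1

/-- An ideal with a monic "Gröbner basis" with squarefree leading monomials is radical. -/
lemma isRadical_of_squarefree [IsDomain R] {G : Set (MvPolynomial σ R)}
    {I : Ideal (MvPolynomial σ R)}
    (hmon : ∀ g ∈ G, IsUnit (m.leadingCoeff g)) (hGI : G ⊆ I) (hG : HasLM m G I)
    (hsq : ∀ g ∈ G, ∀ i, m.degree g i ≤ 1) : I.IsRadical := by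
  intro x hx
  obtain ⟨n, hn⟩ := hx
  obtain ⟨r, hxr, hr⟩ := exists_reduced hmon x
  have hspan : Ideal.span G ≤ I := Ideal.span_le.mpr hGI
  have hrn : r ^ n ∈ I := by
    have h1 : Ideal.Quotient.mk I x = Ideal.Quotient.mk I r := by
      rw [Ideal.Quotient.eq]; exact hspan hxr
    rw [← Ideal.Quotient.eq_zero_iff_mem, map_pow, ← h1, ← map_pow,
      Ideal.Quotient.eq_zero_iff_mem]
    exact hn
  suffices r = 0 by
    have h2 := hspan hxr
    rwa [this, sub_zero] at h2
  by_contra hr0
  have hne : r ^ n ≠ 0 := pow_ne_zero n hr0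
  obtain ⟨g, hg, hle⟩ := hG _ hrn hne
  rw [m.degree_pow] at hle
  apply hr.degree hr0 g hg
  intro i
  have h1 := hle i
  have h2 := hsq g hg i
  simp only [Finsupp.smul_apply, smul_eq_mul] at h1
  rcases Nat.eq_zero_or_pos (m.degree r i) with h0 | hpos
  · rw [h0, mul_zero] at h1
    omega
  · omega

section degree_tools

variable [Nontrivial R]

lemma monic_degree_of_eq {P rest : MvPolynomial σ R} {d : σ →₀ ℕ}
    (hP : P = monomial d 1 + rest) (h : m.degree rest ≺[m] d) :
    m.Monic P ∧ m.degree P = d := by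
  have hd : m.degree (monomial d (1 : R)) = d := by
    classical
    rw [m.degree_monomial]; simp
  have h' : m.degree rest ≺[m] m.degree (monomial d (1 : R)) := by rwa [hd]
  subst hP
  exact ⟨MonomialOrder.Monic.add_of_lt m.monic_monomial_one h', by rw [m.degree_add_of_lt h', hd]⟩

end degree_tools

lemma deg_sub_lt {f g : MvPolynomial σ R} {d : σ →₀ ℕ} (hf : m.degree f ≺[m] d)
    (hg : m.degree g ≺[m] d) : m.degree (f - g) ≺[m] d :=
  lt_of_le_of_lt m.degree_sub_le (max_lt hf hg)

lemma deg_add_lt {f g : MvPolynomial σ R} {d : σ →₀ ℕ} (hf : m.degree f ≺[m] d)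
    (hg : m.degree g ≺[m] d) : m.degree (f + g) ≺[m] d :=
  lt_of_le_of_lt m.degree_add_le (max_lt hf hg)

lemma deg_monomial_lt {c d : σ →₀ ℕ} (a : R) (h : c ≺[m] d) :
    m.degree (monomial c a) ≺[m] d :=
  lt_of_le_of_lt (m.degree_monomial_le a) h


/-! ### Regular sequences from coprime leading monomials -/

section regular

variable {f1 f2 f3 : MvPolynomial σ R}

lemma hasLM_one (h1 : IsUnit (m.leadingCoeff f1)) : HasLM m {f1} (Ideal.span {f1}) := by
  have := hasLM_sup_of_coprime (m := m) (G := (∅ : Set (MvPolynomial σ R))) (I₀ := ⊥)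
    (by simp) (by simp) hasLM_bot h1 (by simp)
  simpa using this

lemma hasLM_two (h1 : IsUnit (m.leadingCoeff f1)) (h2 : IsUnit (m.leadingCoeff f2))
    (c12 : Coprime (m.degree f1) (m.degree f2)) :
    HasLM m {f2, f1} (Ideal.span {f2, f1}) := by
  rw [Ideal.span_insert, sup_comm]
  refine hasLM_sup_of_coprime (m := m) ?_ ?_ (hasLM_one h1) h2 ?_
  · rintro g rfl; exact h1
  · rintro g rfl; exact Ideal.subset_span rfl
  · rintro g rfl; exact c12

lemma hasLM_three (h1 : IsUnit (m.leadingCoeff f1)) (h2 : IsUnit (m.leadingCoeff f2))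
    (h3 : IsUnit (m.leadingCoeff f3))
    (c12 : Coprime (m.degree f1) (m.degree f2)) (c13 : Coprime (m.degree f1) (m.degree f3))
    (c23 : Coprime (m.degree f2) (m.degree f3)) :
    HasLM m {f3, f2, f1} (Ideal.span {f3, f2, f1}) := by
  rw [Ideal.span_insert, sup_comm]
  refine hasLM_sup_of_coprime (m := m) ?_ ?_ (hasLM_two h1 h2 c12) h3 ?_
  · rintro g (rfl | rfl); exacts [h2, h1]
  · exact Ideal.subset_span
  · rintro g (rfl | rfl); exacts [c23, c13]

lemma isRegular_three [Nontrivial R] (h1 : IsUnit (m.leadingCoeff f1)) (h2 : IsUnit (m.leadingCoeff f2))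
    (h3 : IsUnit (m.leadingCoeff f3))
    (c12 : Coprime (m.degree f1) (m.degree f2)) (c13 : Coprime (m.degree f1) (m.degree f3))
    (c23 : Coprime (m.degree f2) (m.degree f3))
    (n1 : m.degree f1 ≠ 0) (n2 : m.degree f2 ≠ 0) (n3 : m.degree f3 ≠ 0) :
    RingTheory.Sequence.IsRegular (MvPolynomial σ R) [f1, f2, f3] := by
  have e0 : (Ideal.ofList ([] : List (MvPolynomial σ R)) •
      (⊤ : Submodule (MvPolynomial σ R) (MvPolynomial σ R))) = ⊥ := by
    simp
  have e1 : (Ideal.ofList [f1] • (⊤ : Submodule (MvPolynomial σ R) (MvPolynomial σ R)))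
      = Ideal.span {f1} := by
    rw [smul_eq_mul, Ideal.mul_top]
    exact Ideal.ofList_singleton f1
  have e2 : (Ideal.ofList [f1, f2] • (⊤ : Submodule (MvPolynomial σ R) (MvPolynomial σ R)))
      = Ideal.span {f2, f1} := by
    rw [smul_eq_mul, Ideal.mul_top]
    rw [Ideal.ofList_cons, Ideal.ofList_singleton, Ideal.span_insert, sup_comm]
  have e3 : (Ideal.ofList [f1, f2, f3] • (⊤ : Submodule (MvPolynomial σ R) (MvPolynomial σ R)))
      = Ideal.span {f3, f2, f1} := by
    rw [smul_eq_mul, Ideal.mul_top]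
    rw [Ideal.ofList_cons, Ideal.ofList_cons, Ideal.ofList_singleton, Ideal.span_insert,
      Ideal.span_insert, sup_comm (Ideal.span {f1}), sup_comm (Ideal.span {f2}), sup_assoc]
  refine ⟨⟨?_⟩, ?_⟩
  · intro i hi
    have hi' : i < 3 := hi
    interval_cases i
    · show IsSMulRegular (_ ⧸ (Ideal.ofList ([] : List (MvPolynomial σ R)) •
        (⊤ : Submodule (MvPolynomial σ R) (MvPolynomial σ R)))) f1
      rw [isSMulRegular_quotient_iff_mem_of_smul_mem, e0]
      intro x hx
      rw [Submodule.mem_bot, smul_eq_mul, mul_comm] at hx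
      rw [Submodule.mem_bot]
      exact eq_zero_of_mul_monic h1 hx
    · show IsSMulRegular (_ ⧸ (Ideal.ofList [f1] •
        (⊤ : Submodule (MvPolynomial σ R) (MvPolynomial σ R)))) f2
      rw [isSMulRegular_quotient_iff_mem_of_smul_mem, e1]
      intro x hx
      rw [smul_eq_mul, mul_comm] at hx
      refine mem_of_mul_mem_of_coprime (m := m) (G := {f1}) ?_ ?_ (hasLM_one h1) h2 ?_ hx
      · rintro g rfl; exact h1
      · rintro g rfl; exact Ideal.subset_span rfl
      · rintro g rfl; exact c12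
    · show IsSMulRegular (_ ⧸ (Ideal.ofList [f1, f2] •
        (⊤ : Submodule (MvPolynomial σ R) (MvPolynomial σ R)))) f3
      rw [isSMulRegular_quotient_iff_mem_of_smul_mem, e2]
      intro x hx
      rw [smul_eq_mul, mul_comm] at hx
      refine mem_of_mul_mem_of_coprime (m := m) (G := {f2, f1}) ?_ ?_ (hasLM_two h1 h2 c12) h3
        ?_ hx
      · rintro g (rfl | rfl); exacts [h2, h1]
      · exact Ideal.subset_span
      · rintro g (rfl | rfl); exacts [c23, c13]
  · rw [e3]
    intro htop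
    have h1mem : (1 : MvPolynomial σ R) ∈ Ideal.span {f3, f2, f1} := by
      have : (1 : MvPolynomial σ R) ∈ (⊤ : Submodule (MvPolynomial σ R) (MvPolynomial σ R)) :=
        Submodule.mem_top
      rw [htop] at this
      exact this
    obtain ⟨g, hg, hle⟩ := hasLM_three h1 h2 h3 c12 c13 c23 1 h1mem one_ne_zero
    rw [m.degree_one] at hle
    have hg0 : m.degree g = 0 := le_antisymm hle zero_le
    rcases hg with rfl | rfl | rfl
    exacts [n3 hg0, n2 hg0, n1 hg0]

end regular

end general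

section order
set_option linter.unusedSectionVars false
variable {σ : Type*} [LinearOrder σ] [WellFoundedGT σ]

/-- weight of an exponent vector -/
noncomputable def wt (w : σ → ℕ) : (σ →₀ ℕ) →+ ℕ :=
  (Finsupp.linearCombination ℕ w).toAddMonoidHom

/-- type synonym -/
def WSyn (_w1 _w2 : σ → ℕ) : Type _ := σ →₀ ℕ

namespace WSyn
variable (w1 w2 : σ → ℕ)

noncomputable instance : AddCommMonoid (WSyn w1 w2) := inferInstanceAs (AddCommMonoid (σ →₀ ℕ))

/-- underlying exponent vector -/
def out (c : WSyn w1 w2) : σ →₀ ℕ := c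

/-- the exponent vector as an element of the synonym -/
def of (c : σ →₀ ℕ) : WSyn w1 w2 := c

lemma of_add (a b : σ →₀ ℕ) : of w1 w2 (a + b) = of w1 w2 a + of w1 w2 b := rfl

/-- the key -/
noncomputable def key (c : WSyn w1 w2) : ℕ ×ₗ (ℕ ×ₗ Lex (σ →₀ ℕ)) :=
  toLex (wt w1 c.out, toLex (wt w2 c.out, toLex c.out))

lemma key_injective : Function.Injective (key w1 w2) := by
  intro a b h
  have := congrArg (fun x => ofLex (ofLex (ofLex x).2).2) h
  exact this

lemma key_add (a b : WSyn w1 w2) : key w1 w2 (a + b) = key w1 w2 a + key w1 w2 b := by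
  have h1 : (a + b).out = a.out + b.out := rfl
  simp only [key, h1, map_add]
  rfl

lemma key_nonneg (a : WSyn w1 w2) : 0 ≤ key w1 w2 a := by
  have : (0 : ℕ ×ₗ (ℕ ×ₗ Lex (σ →₀ ℕ))) = ⊥ := rfl
  rw [this]; exact bot_le

noncomputable instance : LinearOrder (WSyn w1 w2) :=
  LinearOrder.lift' (key w1 w2) (key_injective w1 w2)

lemma le_iff_key {a b : WSyn w1 w2} : a ≤ b ↔ key w1 w2 a ≤ key w1 w2 b := Iff.rfl
lemma lt_iff_key {a b : WSyn w1 w2} : a < b ↔ key w1 w2 a < key w1 w2 b := Iff.rfl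

instance : IsOrderedAddMonoid (WSyn w1 w2) where
  add_le_add_left a b h c := by
    rw [le_iff_key, key_add, key_add]
    exact add_le_add_left (α := ℕ ×ₗ (ℕ ×ₗ Lex (σ →₀ ℕ))) ((le_iff_key w1 w2).mp h) _

instance : WellFoundedLT (WSyn w1 w2) :=
  ⟨InvImage.wf (key w1 w2) wellFounded_lt⟩

lemma key_le_of_le {a b : σ →₀ ℕ} (h : a ≤ b) :
    key w1 w2 (of w1 w2 a) ≤ key w1 w2 (of w1 w2 b) := by
  obtain ⟨c, rfl⟩ : ∃ c, b = a + c := ⟨b - a, (add_tsub_cancel_of_le h).symm⟩
  rw [of_add, key_add]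
  exact le_add_of_nonneg_right (key_nonneg w1 w2 _)

end WSyn

/-- The monomial order comparing first the weight `w1`, then the weight `w2`, then lexicographic. -/
noncomputable def wOrder (w1 w2 : σ → ℕ) : MonomialOrder σ where
  syn := WSyn w1 w2
  toSyn := { toFun := WSyn.of w1 w2, invFun := WSyn.out w1 w2,
              left_inv := fun _ => rfl, right_inv := fun _ => rfl, map_add' := fun _ _ => rfl }
  toSyn_monotone a b h := WSyn.key_le_of_le w1 w2 h

lemma wOrder_lt_iff (w1 w2 : σ → ℕ) {c d : σ →₀ ℕ} :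
    c ≺[wOrder w1 w2] d ↔ wt w1 c < wt w1 d ∨ (wt w1 c = wt w1 d ∧
      (wt w2 c < wt w2 d ∨ (wt w2 c = wt w2 d ∧ toLex c < toLex d))) := by
  show WSyn.key w1 w2 (WSyn.of w1 w2 c) < WSyn.key w1 w2 (WSyn.of w1 w2 d) ↔ _
  simp only [WSyn.key, Prod.Lex.toLex_lt_toLex, WSyn.out, WSyn.of]

lemma wOrder_lt_of_wt1 (w1 w2 : σ → ℕ) {c d : σ →₀ ℕ} (h : wt w1 c < wt w1 d) :
    c ≺[wOrder w1 w2] d := (wOrder_lt_iff w1 w2).mpr (Or.inl h)

lemma wOrder_lt_of_wt2 (w1 w2 : σ → ℕ) {c d : σ →₀ ℕ} (h1 : wt w1 c = wt w1 d)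
    (h : wt w2 c < wt w2 d) :
    c ≺[wOrder w1 w2] d := (wOrder_lt_iff w1 w2).mpr (Or.inr ⟨h1, Or.inl h⟩)

end order

end Groth.Agent.Lib.Helper24GB
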