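import Mathlib
import Groth.Agent.Lib.Helper24GB

set_option autoImplicit false
universe u v

namespace Groth.Agent.Lib.Helper2.GenFree

open MvPolynomial MonomialOrder TrivSqZeroExt TensorProduct
open scoped MonomialOrder
open Groth.Agent.Lib.Helper24GB

section dickson
variable {σ : Type*} [Finite σ] (m : MonomialOrder σ) {R : Type*} [CommRing R]

theorem exists_finite_hasLM (I : Ideal (MvPolynomial σ R)) :
    ∃ G : Finset (MvPolynomial σ R), (∀ g ∈ G, g ∈ I ∧ g ≠ 0) ∧ HasLM m (G : Set _) I := by
  classical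
  set D : Set (σ →₀ ℕ) := {d | ∃ x ∈ I, x ≠ 0 ∧ m.degree x = d} with hD
  set Dmin : Set (σ →₀ ℕ) := {d | Minimal (· ∈ D) d} with hDmin
  have hanti : IsAntichain (· ≤ ·) Dmin := by
    intro a ha b hb hab hle
    exact hab (le_antisymm hle (hb.2 ha.1 hle))
  have hfin : Dmin.Finite := WellQuasiOrderedLE.finite_of_isAntichain hanti
  have hch : ∀ d : Dmin, ∃ x ∈ I, x ≠ 0 ∧ m.degree x = d.1 := fun d => d.2.1
  choose x hxI hx0 hxd using hch
  haveI := hfin.fintype
  refine ⟨Finset.univ.image x, ?_, ?_⟩
  · intro g hg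
    obtain ⟨d, -, rfl⟩ := Finset.mem_image.mp hg
    exact ⟨hxI d, hx0 d⟩
  · intro y hy hy0
    have hmem : m.degree y ∈ D := ⟨y, hy, hy0, rfl⟩
    obtain ⟨b, hb, hbmin⟩ := (Set.isPWO_of_wellQuasiOrderedLE D).exists_le_minimal hmem
    refine ⟨x ⟨b, hbmin⟩, ?_, ?_⟩
    · simp
    · rw [hxd]; exact hb

end dickson

section pseudo
variable {σ : Type*} (m : MonomialOrder σ) {R : Type*} [CommRing R]

theorem lt_of_coeff_eq_zero {h : MvPolynomial σ R} {d : σ →₀ ℕ} (hle : m.degree h ≼[m] d)
    (hc : h.coeff d = 0) : h = 0 ∨ m.degree h ≺[m] d := by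
  by_cases h0 : h = 0
  · exact Or.inl h0
  · right
    refine lt_of_le_of_ne hle fun heq => ?_
    have hd : m.degree h = d := m.toSyn.injective heq
    subst hd
    exact (m.leadingCoeff_ne_zero_iff.mpr h0) hc

theorem exists_pseudo_reduced (G : Set (MvPolynomial σ R)) (f : R)
    (hf : ∀ g ∈ G, m.leadingCoeff g ∣ f) (p : MvPolynomial σ R) :
    ∃ (n : ℕ) (r : MvPolynomial σ R), Reduced m G r ∧ f ^ n • p - r ∈ Ideal.span G := by
  classical
  induction' h : m.toSyn (m.degree p) using WellFoundedLT.induction with a ih generalizing p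
  subst h
  have ih' : ∀ q : MvPolynomial σ R, (q = 0 ∨ m.degree q ≺[m] m.degree p) →
      ∃ (n : ℕ) (r : MvPolynomial σ R), Reduced m G r ∧ f ^ n • q - r ∈ Ideal.span G := by
    rintro q (rfl | hq)
    · exact ⟨0, 0, fun c hc => by simp at hc, by simp⟩
    · exact ih _ hq q rfl
  by_cases hex : ∃ g ∈ G, m.degree g ≤ m.degree p
  · obtain ⟨g, hg, hle⟩ := hex
    obtain ⟨u, hu⟩ := hf g hg
    set d := m.degree p with hd
    set c := m.leadingCoeff p with hc
    set t : MvPolynomial σ R := monomial (d - m.degree g) (u * c) with ht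
    have hcoef : (f • p - t * g).coeff d = 0 := by
      rw [coeff_sub, coeff_smul, ht, coeff_monomial_mul', if_pos (tsub_le_self),
        tsub_tsub_cancel_of_le hle]
      change f • m.leadingCoeff p - u * c * m.leadingCoeff g = 0
      rw [hu, smul_eq_mul]; ring
    have hdeg : m.degree (f • p - t * g) ≼[m] d := by
      apply le_trans degree_sub_le
      rw [sup_le_iff]
      refine ⟨degree_smul_le, ?_⟩
      apply le_trans degree_mul_le
      rw [map_add]
      have : m.toSyn (m.degree t) ≤ m.toSyn (d - m.degree g) := degree_monomial_le _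
      calc m.toSyn (m.degree t) + m.toSyn (m.degree g)
          ≤ m.toSyn (d - m.degree g) + m.toSyn (m.degree g) := by gcongr
        _ = m.toSyn d := by rw [← map_add, tsub_add_cancel_of_le hle]
    obtain ⟨n, r, hr, hmem⟩ := ih' _ (lt_of_coeff_eq_zero m hdeg hcoef)
    refine ⟨n + 1, r, hr, ?_⟩
    have : f ^ (n + 1) • p - r = (f ^ n • (f • p - t * g) - r) + (f ^ n • t) * g := by
      rw [pow_succ, mul_smul, smul_sub, smul_mul_assoc]; ring
    rw [this]
    exact Ideal.add_mem _ hmem (Ideal.mul_mem_left _ _ (Ideal.subset_span hg))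
  · push Not at hex
    set d := m.degree p with hd
    set c := m.leadingCoeff p with hc
    have hcoef : (p - monomial d c).coeff d = 0 := by
      rw [coeff_sub, coeff_monomial, if_pos rfl]
      exact sub_self _
    have hdeg : m.degree (p - monomial d c) ≼[m] d := by
      apply le_trans degree_sub_le
      rw [sup_le_iff]
      exact ⟨le_rfl, degree_monomial_le _⟩
    obtain ⟨n, r, hr, hmem⟩ := ih' _ (lt_of_coeff_eq_zero m hdeg hcoef)
    refine ⟨n, r + monomial d (f ^ n * c), ?_, ?_⟩
    · intro e he g hg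
      rcases Finset.mem_union.mp (MvPolynomial.support_add he) with h1 | h1
      · exact hr e h1 g hg
      · have : e = d := by
          have := support_monomial_subset h1
          simpa using this
        subst this
        exact hex g hg
    · have : f ^ n • p - (r + monomial d (f ^ n * c)) = f ^ n • (p - monomial d c) - r := by
        rw [smul_sub, smul_monomial, smul_eq_mul]; ring
      rw [this]; exact hmem

end pseudo


section main
variable {σ : Type*} [Finite σ] {R : Type*} [CommRing R] [IsDomain R]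

/-- standard monomials with respect to `G` -/
def Std (m : MonomialOrder σ) (G : Set (MvPolynomial σ R)) : Set (σ →₀ ℕ) :=
  {b | ∀ g ∈ G, ¬ m.degree g ≤ b}

theorem exists_groebner (m : MonomialOrder σ) (I : Ideal (MvPolynomial σ R)) :
    ∃ (f : R) (G : Finset (MvPolynomial σ R)), f ≠ 0 ∧ (∀ g ∈ G, g ∈ I) ∧
      HasLM m (G : Set (MvPolynomial σ R)) I ∧
      ∀ p, ∃ (n : ℕ) (r : MvPolynomial σ R), Reduced m (G : Set (MvPolynomial σ R)) r ∧
        f ^ n • p - r ∈ Ideal.span (G : Set (MvPolynomial σ R)) := by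
  classical
  obtain ⟨G, hG, hLM⟩ := exists_finite_hasLM m I
  refine ⟨∏ g ∈ G, m.leadingCoeff g, G, ?_, fun g hg => (hG g hg).1, hLM, ?_⟩
  · rw [Finset.prod_ne_zero_iff]
    intro g hg
    exact m.leadingCoeff_ne_zero_iff.mpr (hG g hg).2
  · intro p
    exact exists_pseudo_reduced m _ _ (fun g hg => Finset.dvd_prod_of_mem _ hg) p

omit [Finite σ] [IsDomain R] in
theorem reduced_mem_span (m : MonomialOrder σ) {T : Type*} [AddCommGroup T] [Module R T]
    (φ : MvPolynomial σ R →ₗ[R] T) {G : Set (MvPolynomial σ R)} {r : MvPolynomial σ R}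
    (hr : Reduced m G r) :
    φ r ∈ Submodule.span R (Set.range fun b : Std m G => φ (monomial b.1 1)) := by
  classical
  rw [← MvPolynomial.support_sum_monomial_coeff r, map_sum]
  refine Submodule.sum_mem _ fun b hb => ?_
  have : monomial b (coeff b r) = coeff b r • monomial b (1 : R) := by
    rw [smul_monomial, smul_eq_mul, mul_one]
  rw [this, map_smul]
  exact Submodule.smul_mem _ _ (Submodule.subset_span ⟨⟨b, fun g hg => hr b hb g hg⟩, rfl⟩)

omit [Finite σ] [IsDomain R] in
theorem linearIndependent_std (m : MonomialOrder σ) {T : Type*} [AddCommGroup T] [Module R T]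
    (φ : MvPolynomial σ R →ₗ[R] T) {I : Ideal (MvPolynomial σ R)} (hI : ∀ p, φ p = 0 → p ∈ I)
    {G : Set (MvPolynomial σ R)} (hG : HasLM m G I) :
    LinearIndependent R (fun b : Std m G => φ (monomial b.1 1)) := by
  classical
  rw [linearIndependent_iff]
  intro l hl
  set r : MvPolynomial σ R :=
    Finsupp.linearCombination R (fun b : Std m G => monomial b.1 (1 : R)) l with hr
  have hφr : φ r = 0 := by
    rw [hr, Finsupp.apply_linearCombination]
    exact hl
  have hred : Reduced m G r := by
    intro e he g hg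
    rw [hr, Finsupp.linearCombination_apply, Finsupp.sum] at he
    obtain ⟨b, -, hb⟩ := Finset.mem_biUnion.mp (MvPolynomial.support_sum he)
    have hb' := MvPolynomial.support_smul hb
    have : e = b.1 := by
      have := support_monomial_subset hb'
      simpa using this
    subst this
    exact b.2 g hg
  have hr0 : r = 0 := eq_zero_of_reduced hG (hI r hφr) hred
  have hli : LinearIndependent R (fun b : Std m G => monomial b.1 (1 : R)) :=
    ((basisMonomials σ R).linearIndependent.comp _ Subtype.val_injective)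
  exact (linearIndependent_iff.mp hli) l hr0

/-- Gröbner data for a ring homomorphism out of a polynomial ring over a domain: after inverting
one nonzero `f`, the standard monomials form a basis of the image and the kernel is generated by
the finite set `G`. -/
theorem exists_data (m : MonomialOrder σ) {T : Type*} [CommRing T] [Module R T]
    (φ : MvPolynomial σ R →+* T) (hlin : ∀ (c : R) (p : MvPolynomial σ R), φ (c • p) = c • φ p) :
    ∃ (f : R) (G : Finset (MvPolynomial σ R)), f ≠ 0 ∧ (∀ g ∈ G, φ g = 0) ∧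
      LinearIndependent R (fun b : Std m (G : Set (MvPolynomial σ R)) => φ (monomial b.1 1)) ∧
      (∀ p, ∃ n : ℕ, f ^ n • φ p ∈ Submodule.span R
        (Set.range fun b : Std m (G : Set (MvPolynomial σ R)) => φ (monomial b.1 1))) ∧
      (∀ p, φ p = 0 → ∃ n : ℕ, f ^ n • p ∈ Ideal.span (G : Set (MvPolynomial σ R))) := by
  obtain ⟨f, G, hf, hGI, hLM, hdiv⟩ := exists_groebner m (RingHom.ker φ)
  let φL : MvPolynomial σ R →ₗ[R] T :=
    { toFun := φ, map_add' := map_add φ, map_smul' := fun c p => hlin c p }
  have hspanle : Ideal.span (G : Set (MvPolynomial σ R)) ≤ RingHom.ker φ :=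
    Ideal.span_le.mpr fun g hg => hGI g hg
  refine ⟨f, G, hf, fun g hg => (RingHom.mem_ker).mp (hGI g hg), ?_, ?_, ?_⟩
  · exact linearIndependent_std m φL (I := RingHom.ker φ) (fun p hp => (RingHom.mem_ker).mpr hp) hLM
  · intro p
    obtain ⟨n, r, hr, hmem⟩ := hdiv p
    refine ⟨n, ?_⟩
    have h0 : φ (f ^ n • p - r) = 0 := (RingHom.mem_ker).mp (hspanle hmem)
    rw [map_sub, sub_eq_zero, hlin] at h0
    rw [h0]
    exact reduced_mem_span m φL hr
  · intro p hp
    obtain ⟨n, r, hr, hmem⟩ := hdiv p
    refine ⟨n, ?_⟩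
    have hrI : r ∈ RingHom.ker φ := by
      have h0 : φ (f ^ n • p - r) = 0 := (RingHom.mem_ker).mp (hspanle hmem)
      rw [map_sub, hlin, hp, smul_zero, zero_sub, neg_eq_zero] at h0
      exact (RingHom.mem_ker).mpr h0
    have hr0 : r = 0 := eq_zero_of_reduced hLM hrI hr
    rwa [hr0, sub_zero] at hmem

end main

section freeAway
variable (R : Type*) [CommRing R]

/-- `M` becomes free after inverting `f`, witnessed by a linearly independent subset of `M` spanning
`M` up to powers of `f`. -/
def FreeAway (f : R) (M : Type*) [AddCommGroup M] [Module R M] : Prop :=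
  ∃ B : Set M, LinearIndependent R ((↑) : B → M) ∧
    ∀ x : M, ∃ n : ℕ, f ^ n • x ∈ Submodule.span R B

variable {R} {M : Type*} [AddCommGroup M] [Module R M]

theorem FreeAway.of_family {f : R} {ι : Type*} (v : ι → M) (hv : LinearIndependent R v)
    (hs : ∀ x : M, ∃ n : ℕ, f ^ n • x ∈ Submodule.span R (Set.range v)) : FreeAway R f M :=
  ⟨Set.range v, hv.linearIndepOn_id, hs⟩

theorem FreeAway.mul_right {f : R} (h : FreeAway R f M) (g : R) : FreeAway R (f * g) M := by
  obtain ⟨B, hB, hs⟩ := h
  refine ⟨B, hB, fun x => ?_⟩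
  obtain ⟨n, hn⟩ := hs x
  refine ⟨n, ?_⟩
  rw [mul_pow, mul_comm, mul_smul]
  exact Submodule.smul_mem _ _ hn

theorem FreeAway.mul_left {f : R} (h : FreeAway R f M) (g : R) : FreeAway R (g * f) M := by
  rw [mul_comm]; exact h.mul_right g

/-- A module which is free away from `f` becomes free over `R_f` after localization. -/
theorem FreeAway.free {f : R} (h : FreeAway R f M) (A : Type*) [CommRing A] [Algebra R A]
    [IsLocalization.Away f A] {M' : Type*} [AddCommGroup M'] [Module R M'] [Module A M']
    [IsScalarTower R A M'] (g : M →ₗ[R] M') [IsLocalizedModule (Submonoid.powers f) g] :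
    Module.Free A M' := by
  obtain ⟨B, hB, hs⟩ := h
  have hli : LinearIndependent A (g ∘ ((↑) : B → M)) :=
    hB.of_isLocalizedModule A (Submonoid.powers f) g
  have hspan : ⊤ ≤ Submodule.span A (Set.range (g ∘ ((↑) : B → M))) := by
    intro x' _
    obtain ⟨⟨x, s⟩, hxs⟩ := IsLocalizedModule.surj (Submonoid.powers f) g x'
    obtain ⟨n, hn⟩ := hs x
    have h1 : g (f ^ n • x) ∈ Submodule.span A (Set.range (g ∘ ((↑) : B → M))) := by
      have : g (f ^ n • x) ∈ (Submodule.span R (B : Set M)).map g := Submodule.mem_map_of_mem hn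
      rw [Submodule.map_span] at this
      have hle : Submodule.span R (g '' B) ≤
          (Submodule.span A (Set.range (g ∘ ((↑) : B → M)))).restrictScalars R := by
        rw [Submodule.span_le]
        rintro _ ⟨b, hb, rfl⟩
        exact Submodule.subset_span ⟨⟨b, hb⟩, rfl⟩
      exact hle this
    have hu : IsUnit (algebraMap R A (f ^ n * (s : R))) := by
      rw [map_mul]
      exact (IsLocalization.map_units A (⟨f ^ n, n, rfl⟩ : Submonoid.powers f)).mul
        (IsLocalization.map_units A s)
    have h2 : algebraMap R A (f ^ n * (s : R)) • x' = g (f ^ n • x) := by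
      rw [algebraMap_smul, mul_smul, map_smul, ← hxs]
      rfl
    rw [← h2] at h1
    have := Submodule.smul_mem _ (↑hu.unit⁻¹ : A) h1
    rwa [smul_smul, IsUnit.val_inv_mul, one_smul] at this
  exact Module.Free.of_basis (Module.Basis.mk hli hspan)

/-- Splitting lemma: if `T` is free away from `f` via a family each of whose members lies in the
image of `i` or is killed by the retraction `π`, then `Q` is free away from `f`. -/
theorem FreeAway.of_retract {f : R} {T Q : Type*} [AddCommGroup T] [Module R T] [AddCommGroup Q]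
    [Module R Q] {ι : Type*} (v : ι → T) (hv : LinearIndependent R v)
    (hs : ∀ x : T, ∃ n : ℕ, f ^ n • x ∈ Submodule.span R (Set.range v))
    (i : Q →ₗ[R] T) (π : T →ₗ[R] Q) (hπi : ∀ q, π (i q) = q)
    (hcase : ∀ b, v b ∈ Set.range i ∨ π (v b) = 0) : FreeAway R f Q := by
  classical
  have hinj : Function.Injective i := fun a b hab => by rw [← hπi a, hab, hπi]
  set BQ : Set Q := {q | i q ∈ Set.range v} with hBQ
  have hch : ∀ q : BQ, ∃ b, v b = i q.1 := fun q => q.2
  choose j hj using hch
  have hjinj : Function.Injective j := by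
    intro a b hab
    apply Subtype.ext
    apply hinj
    rw [← hj a, ← hj b, hab]
  refine ⟨BQ, ?_, ?_⟩
  · have h1 : LinearIndependent R (v ∘ j) := hv.comp j hjinj
    have h2 : (v ∘ j) = i ∘ ((↑) : BQ → Q) := funext fun q => hj q
    rw [h2] at h1
    exact LinearIndependent.of_comp i h1
  · intro x
    obtain ⟨n, hn⟩ := hs (i x)
    refine ⟨n, ?_⟩
    have h1 : π (f ^ n • i x) ∈ (Submodule.span R (Set.range v)).map π :=
      Submodule.mem_map_of_mem hn
    rw [map_smul, hπi, Submodule.map_span] at h1
    refine (Submodule.span_le.mpr ?_) h1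
    rintro _ ⟨_, ⟨b, rfl⟩, rfl⟩
    rcases hcase b with ⟨q, hq⟩ | h0
    · rw [← hq, hπi]
      exact Submodule.subset_span (show i q ∈ Set.range v from ⟨b, hq.symm⟩)
    · rw [h0]; exact Submodule.zero_mem _

end freeAway

section tsze
variable {S : Type*} [CommRing S] {M : Type*} [AddCommGroup M] [Module S M]
  [Module Sᵐᵒᵖ M] [IsCentralScalar S M]

theorem tsze_inr_mul (x : M) (z : TrivSqZeroExt S M) : inr x * z = inr (z.fst • x) := by
  apply TrivSqZeroExt.ext
  · simp
  · simp [snd_mul]

theorem tsze_snd_mul (z w : TrivSqZeroExt S M) : (z * w).snd = z.fst • w.snd + w.fst • z.snd := by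
  rw [snd_mul, op_smul_eq_smul]

end tsze

section module

variable {R : Type*} [CommRing R] [IsDomain R] {S : Type*} [CommRing S] [Algebra R S]
  {M : Type*} [AddCommGroup M] [Module S M] [Module R M] [IsScalarTower R S M]
  [Module Sᵐᵒᵖ M] [IsCentralScalar S M]

omit [IsDomain R] [Module Sᵐᵒᵖ M] [IsCentralScalar S M] in
theorem tsze_algebraMap_smul (c : R) (z : TrivSqZeroExt S M) :
    (algebraMap R S c) • z = c • z := by
  apply TrivSqZeroExt.ext
  · rw [fst_smul, fst_smul, smul_eq_mul, Algebra.smul_def]
  · rw [snd_smul, snd_smul, algebraMap_smul]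

theorem exists_module_data {n r : ℕ} (φS : MvPolynomial (Fin n) R →ₐ[R] S)
    (hφS : Function.Surjective φS) (mgen : Fin r → M)
    (hgen : Submodule.span S (Set.range mgen) = ⊤) :
    ∃ f : R, f ≠ 0 ∧ FreeAway R f S ∧ FreeAway R f M ∧
      ∃ V : Finset (Fin r → S), (∀ a ∈ V, ∑ j, a j • mgen j = 0) ∧
        ∀ a : Fin r → S, ∑ j, a j • mgen j = 0 →
          ∃ k : ℕ, f ^ k • a ∈ Submodule.span S (V : Set (Fin r → S)) := by
  classical
  -- the universal and the actual trivial square zero extensions
  let π : (Fin r → S) →ₗ[S] M := Fintype.linearCombination S mgen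
  have hπ : ∀ a, π a = ∑ j, a j • mgen j := fun a => Fintype.linearCombination_apply S mgen a
  have hπsurj : Function.Surjective π := by
    rw [← LinearMap.range_eq_top, Fintype.range_linearCombination, hgen]
  let ρ : TrivSqZeroExt S (Fin r → S) →ₐ[S] TrivSqZeroExt S M := TrivSqZeroExt.map π
  let c₀ : R →+* TrivSqZeroExt S (Fin r → S) := (inlHom S (Fin r → S)).comp (algebraMap R S)
  let gens : Fin (n + r) → TrivSqZeroExt S (Fin r → S) :=
    Fin.addCases (fun i => inl (φS (X i))) (fun j => inr (Pi.single j 1))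
  let φu : MvPolynomial (Fin (n + r)) R →+* TrivSqZeroExt S (Fin r → S) := eval₂Hom c₀ gens
  let φ' : MvPolynomial (Fin (n + r)) R →+* TrivSqZeroExt S M := (ρ : _ →+* _).comp φu
  have hφuC : ∀ c : R, φu (C c) = inl (algebraMap R S c) := fun c => by
    simp [φu, c₀]
  have hφuXl : ∀ i : Fin n, φu (X (Fin.castAdd r i)) = inl (φS (X i)) := fun i => by
    simp [φu, gens]
  have hφuXr : ∀ j : Fin r, φu (X (Fin.natAdd n j)) = inr (Pi.single j 1) := fun j => by
    simp [φu, gens]
  have hlinu : ∀ (c : R) (p : MvPolynomial (Fin (n + r)) R), φu (c • p) = c • φu p := by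
    intro c p
    rw [smul_eq_C_mul, map_mul, hφuC, inl_mul_eq_smul, tsze_algebraMap_smul]
  have hρlin : ∀ (c : R) (z : TrivSqZeroExt S (Fin r → S)), ρ (c • z) = c • ρ z := by
    intro c z
    rw [← tsze_algebraMap_smul, map_smul, tsze_algebraMap_smul]
  have hlin' : ∀ (c : R) (p : MvPolynomial (Fin (n + r)) R), φ' (c • p) = c • φ' p := by
    intro c p
    change ρ (φu (c • p)) = c • ρ (φu p)
    rw [hlinu, hρlin]
  -- `φu` restricted to the first block of variables
  have h_inl : ∀ p : MvPolynomial (Fin n) R, φu (rename (Fin.castAdd r) p) = inl (φS p) := by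
    intro p
    have : (φu.comp (rename (Fin.castAdd r) : MvPolynomial (Fin n) R →ₐ[R] _).toRingHom) =
        (inlHom S (Fin r → S)).comp φS.toRingHom := by
      apply MvPolynomial.ringHom_ext
      · intro c
        simp only [RingHom.coe_comp, Function.comp_apply, AlgHom.toRingHom_eq_coe, RingHom.coe_coe,
          rename_C, hφuC, inlHom_apply]
        rw [← MvPolynomial.algebraMap_eq, AlgHom.commutes]
      · intro i
        simp only [RingHom.coe_comp, Function.comp_apply, AlgHom.toRingHom_eq_coe, RingHom.coe_coe,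
          rename_X, hφuXl, inlHom_apply]
    exact congrArg (fun h => h p) this
  have hφusurj : Function.Surjective φu := by
    intro z
    obtain ⟨p, hp⟩ := hφS z.fst
    choose q hq using fun j => hφS (z.snd j)
    refine ⟨rename (Fin.castAdd r) p + ∑ j, rename (Fin.castAdd r) (q j) * X (Fin.natAdd n j), ?_⟩
    rw [map_add, map_sum, h_inl, hp]
    have : ∀ j, φu (rename (Fin.castAdd r) (q j) * X (Fin.natAdd n j)) =
        inr (Pi.single j (z.snd j)) := by
      intro j
      rw [map_mul, h_inl, hφuXr, hq, inl_mul_inr]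
      congr 1
      ext k
      simp [Pi.single_apply]
    simp_rw [this]
    rw [← inr_sum]
    apply TrivSqZeroExt.ext
    · simp
    · simp only [snd_add, snd_inl, snd_inr, zero_add]
      ext k
      simp [Finset.sum_apply, Pi.single_apply]
  have hρsurj : Function.Surjective ρ := by
    intro z
    obtain ⟨a, ha⟩ := hπsurj z.snd
    refine ⟨inl z.fst + inr a, ?_⟩
    apply TrivSqZeroExt.ext
    · simp [ρ]
    · simp [ρ, ha]
  have hφ'surj : Function.Surjective φ' := hρsurj.comp hφusurj
  -- Gröbner data
  obtain ⟨f, G, hf, hG0, hLI, hspan, hker⟩ := exists_data (MonomialOrder.lex) φ' hlin'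
  -- each standard monomial lands in `inl S` or `inr M`
  have hcases : ∀ b : Fin (n + r) →₀ ℕ, (∃ s : S, φ' (monomial b 1) = inl s) ∨
      (∃ x : M, φ' (monomial b 1) = inr x) := by
    intro b
    by_cases h : ∃ j : Fin r, b (Fin.natAdd n j) ≠ 0
    · right
      obtain ⟨j, hj⟩ := h
      have hle : Finsupp.single (Fin.natAdd n j) 1 ≤ b := by
        rw [Finsupp.single_le_iff]
        exact Nat.one_le_iff_ne_zero.mpr hj
      have hb : b = Finsupp.single (Fin.natAdd n j) 1 + (b - Finsupp.single (Fin.natAdd n j) 1) :=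
        (add_tsub_cancel_of_le hle).symm
      rw [hb, monomial_single_add, pow_one, map_mul]
      change ∃ x, ρ (φu (X (Fin.natAdd n j))) * _ = inr x
      rw [hφuXr]
      simp only [ρ, map_inr]
      rw [tsze_inr_mul]
      exact ⟨_, rfl⟩
    · left
      push Not at h
      have hmem : φ' (monomial b 1) ∈ (inlHom S M).range := by
        rw [monomial_eq, map_mul, map_finsuppProd]
        refine Subring.mul_mem _ ?_ (Subring.prod_mem _ fun k _ => ?_)
        · rw [C_1, map_one]; exact Subring.one_mem _
        · change φ' (X k ^ b k) ∈ _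
          refine Fin.addCases (fun i => ?_) (fun j => ?_) k
          · rw [map_pow]
            refine Subring.pow_mem _ ?_ _
            refine ⟨φS (X i), ?_⟩
            change _ = ρ (φu (X (Fin.castAdd r i)))
            rw [hφuXl]
            simp [ρ, map_inl]
          · rw [h j, pow_zero, map_one]
            exact Subring.one_mem _
      obtain ⟨s, hs⟩ := hmem
      exact ⟨s, hs.symm⟩
  have hsT : ∀ x : TrivSqZeroExt S M, ∃ k : ℕ, f ^ k • x ∈ Submodule.span R
      (Set.range fun b : Std MonomialOrder.lex (G : Set (MvPolynomial (Fin (n + r)) R)) =>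
        φ' (monomial b.1 1)) := by
    intro x
    obtain ⟨p, rfl⟩ := hφ'surj x
    exact hspan p
  -- linear maps in and out of the extension
  let iS : S →ₗ[R] TrivSqZeroExt S M :=
    { toFun := inl, map_add' := inl_add M, map_smul' := fun c s => inl_smul M c s }
  let pS : TrivSqZeroExt S M →ₗ[R] S :=
    { toFun := fst, map_add' := fst_add, map_smul' := fun c z => fst_smul c z }
  let iM : M →ₗ[R] TrivSqZeroExt S M :=
    { toFun := inr, map_add' := inr_add S, map_smul' := fun c x => inr_smul S c x }
  let pM : TrivSqZeroExt S M →ₗ[R] M :=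
    { toFun := snd, map_add' := snd_add, map_smul' := fun c z => snd_smul c z }
  have hFS : FreeAway R f S := by
    refine FreeAway.of_retract _ hLI hsT iS pS (fun s => fst_inl M s) fun b => ?_
    rcases hcases b.1 with ⟨s, hs⟩ | ⟨x, hx⟩
    · exact Or.inl ⟨s, hs.symm⟩
    · right
      change (φ' (monomial b.1 1)).fst = 0
      rw [hx, fst_inr]
  have hFM : FreeAway R f M := by
    refine FreeAway.of_retract _ hLI hsT iM pM (fun x => snd_inr S x) fun b => ?_
    rcases hcases b.1 with ⟨s, hs⟩ | ⟨x, hx⟩
    · right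
      change (φ' (monomial b.1 1)).snd = 0
      rw [hs, snd_inl]
    · exact Or.inl ⟨x, hx.symm⟩
  refine ⟨f, hf, hFS, hFM, G.image (fun g => (φu g).snd), ?_, ?_⟩
  · intro a ha
    obtain ⟨g, hg, rfl⟩ := Finset.mem_image.mp ha
    have h0 : ρ (φu g) = 0 := hG0 g hg
    have := congrArg snd h0
    rw [snd_map, snd_zero, hπ] at this
    exact this
  · intro a ha
    obtain ⟨y, hy⟩ := hφusurj (inr a)
    have hy' : φ' y = 0 := by
      change ρ (φu y) = 0
      rw [hy]
      simp only [ρ, map_inr]
      rw [hπ, ha, inr_zero]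
    obtain ⟨k, hk⟩ := hker y hy'
    refine ⟨k, ?_⟩
    -- the set of polynomials with `fst = 0` and `snd` in the span of `V`
    have key : ∀ p ∈ Ideal.span (G : Set (MvPolynomial (Fin (n + r)) R)),
        (φu p).fst = 0 ∧ (φu p).snd ∈ Submodule.span S
          ((G.image (fun g => (φu g).snd) : Finset (Fin r → S)) : Set (Fin r → S)) := by
      intro p hp
      induction hp using Submodule.span_induction with
      | mem g hg =>
        refine ⟨?_, Submodule.subset_span (Finset.mem_coe.mpr (Finset.mem_image_of_mem _ hg))⟩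
        have h0 : ρ (φu g) = 0 := hG0 g hg
        have := congrArg fst h0
        rwa [fst_map, fst_zero] at this
      | zero => simp
      | add p q _ _ hp hq =>
        refine ⟨by rw [map_add, fst_add, hp.1, hq.1, add_zero], ?_⟩
        rw [map_add, snd_add]
        exact Submodule.add_mem _ hp.2 hq.2
      | smul q p _ hp =>
        rw [smul_eq_mul, map_mul]
        refine ⟨by rw [fst_mul, hp.1, mul_zero], ?_⟩
        rw [tsze_snd_mul, hp.1, zero_smul, add_zero]
        exact Submodule.smul_mem _ _ hp.2
    have := (key _ hk).2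
    rwa [hlinu, snd_smul, hy, snd_inr] at this

end module

section wrap

/-- **Generic freeness** (witness form): for a domain `R`, a finite type `R`-algebra `S` and a finite
`S`-module `M` there is a nonzero `f` such that `S` and `M` are free away from `f`; moreover the
kernel of a presentation of `S` (resp. of `M`) is finitely generated up to powers of `f`. -/
theorem exists_freeAway (R : Type*) [CommRing R] [IsDomain R] (S : Type*) [CommRing S] [Algebra R S]
    [Algebra.FiniteType R S] (M : Type*) [AddCommGroup M] [Module S M] [Module R M]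
    [IsScalarTower R S M] [Module.Finite S M] :
    ∃ f : R, f ≠ 0 ∧ FreeAway R f S ∧ FreeAway R f M ∧
      (∃ (n : ℕ) (φ : MvPolynomial (Fin n) R →ₐ[R] S) (G : Finset (MvPolynomial (Fin n) R)),
        Function.Surjective φ ∧ (∀ g ∈ G, φ g = 0) ∧
        ∀ p, φ p = 0 → ∃ k : ℕ, f ^ k • p ∈ Ideal.span (G : Set (MvPolynomial (Fin n) R))) ∧
      (∃ (r : ℕ) (mgen : Fin r → M) (V : Finset (Fin r → S)),
        Submodule.span S (Set.range mgen) = ⊤ ∧ (∀ a ∈ V, ∑ j, a j • mgen j = 0) ∧
        ∀ a : Fin r → S, ∑ j, a j • mgen j = 0 →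
          ∃ k : ℕ, f ^ k • a ∈ Submodule.span S (V : Set (Fin r → S))) := by
  classical
  letI : Module Sᵐᵒᵖ M := Module.compHom M ((RingHom.id S).fromOpposite fun _ _ => mul_comm _ _)
  haveI : IsCentralScalar S M := ⟨fun s m => rfl⟩
  obtain ⟨n, φ, hφ⟩ := Algebra.FiniteType.iff_quotient_mvPolynomial''.mp
    (inferInstance : Algebra.FiniteType R S)
  obtain ⟨r, mgen, hgen⟩ := Module.Finite.exists_fin (R := S) (M := M)
  obtain ⟨f₂, hf₂, hS, hM, V, hV0, hV⟩ := exists_module_data φ hφ mgen hgen
  obtain ⟨f₁, G, hf₁, hG0, -, -, hker⟩ := exists_data (MonomialOrder.lex) φ.toRingHom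
    (fun c p => map_smul φ c p)
  refine ⟨f₁ * f₂, mul_ne_zero hf₁ hf₂, hS.mul_left f₁, hM.mul_left f₁,
    ⟨n, φ, G, hφ, hG0, fun p hp => ?_⟩, ⟨r, mgen, V, hgen, hV0, fun a ha => ?_⟩⟩
  · obtain ⟨k, hk⟩ := hker p hp
    refine ⟨k, ?_⟩
    rw [mul_pow, mul_comm, mul_smul]
    rw [smul_eq_C_mul (a := f₂ ^ k)]
    exact Ideal.mul_mem_left _ _ hk
  · obtain ⟨k, hk⟩ := hV a ha
    refine ⟨k, ?_⟩
    rw [mul_pow, mul_smul, ← algebraMap_smul S (f₁ ^ k)]
    exact Submodule.smul_mem _ _ hk

end wrap

section fp

theorem localizedModule_mk_eq_zero {S : Type*} [CommRing S] {M : Type*} [AddCommGroup M]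
    [Module S M] (T : Submonoid S) (x : M) (s : T) :
    LocalizedModule.mk x s = 0 ↔ ∃ u : T, u • x = 0 := by
  rw [← LocalizedModule.zero_mk (1 : T), LocalizedModule.mk_eq]
  simp only [one_smul, smul_zero]

/-- Finite presentation of `A ⊗[R] S`, `A = R_f`, from a kernel finitely generated up to powers
of `f`. -/
theorem finitePresentation_tensor {R : Type*} [CommRing R] {S : Type*} [CommRing S] [Algebra R S]
    {σ : Type*} [Finite σ] (φ : MvPolynomial σ R →ₐ[R] S) (hφ : Function.Surjective φ) (f : R)
    (G : Finset (MvPolynomial σ R)) (hG : ∀ g ∈ G, φ g = 0)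
    (hker : ∀ p, φ p = 0 → ∃ k : ℕ, f ^ k • p ∈ Ideal.span (G : Set (MvPolynomial σ R)))
    (A : Type*) [CommRing A] [Algebra R A] [IsLocalization.Away f A] :
    Algebra.FinitePresentation A (A ⊗[R] S) := by
  let g : A ⊗[R] MvPolynomial σ R →ₐ[A] A ⊗[R] S := Algebra.TensorProduct.map (AlgHom.id A A) φ
  have hgsurj : Function.Surjective g := Algebra.FiniteType.baseChangeAux_surj A hφ
  have hker_eq : RingHom.ker g = Ideal.map Algebra.TensorProduct.includeRight (RingHom.ker φ) :=
    Algebra.TensorProduct.lTensor_ker φ hφ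
  have hspanle : Ideal.span (G : Set (MvPolynomial σ R)) ≤ RingHom.ker φ :=
    Ideal.span_le.mpr fun g hg => (RingHom.mem_ker).mpr (hG g hg)
  have heq : Ideal.map (Algebra.TensorProduct.includeRight : MvPolynomial σ R →ₐ[R] A ⊗[R] MvPolynomial σ R)
      (RingHom.ker φ) = Ideal.map (Algebra.TensorProduct.includeRight : MvPolynomial σ R →ₐ[R] A ⊗[R] MvPolynomial σ R)
        (Ideal.span (G : Set (MvPolynomial σ R))) := by
    apply le_antisymm
    · rw [Ideal.map_le_iff_le_comap]
      intro p hp
      obtain ⟨k, hk⟩ := hker p ((RingHom.mem_ker).mp hp)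
      rw [Ideal.mem_comap]
      have hu : IsUnit (algebraMap R A (f ^ k)) :=
        IsLocalization.map_units A (⟨f ^ k, k, rfl⟩ : Submonoid.powers f)
      have h1 : (Algebra.TensorProduct.includeRight : MvPolynomial σ R →ₐ[R] A ⊗[R] MvPolynomial σ R)
          (f ^ k • p) ∈ Ideal.map (Algebra.TensorProduct.includeRight :
            MvPolynomial σ R →ₐ[R] A ⊗[R] MvPolynomial σ R) (Ideal.span (G : Set (MvPolynomial σ R))) :=
        Ideal.mem_map_of_mem _ hk
      have h2 : (Algebra.TensorProduct.includeRight : MvPolynomial σ R →ₐ[R] A ⊗[R] MvPolynomial σ R) p =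
          ((↑hu.unit⁻¹ : A) ⊗ₜ[R] (1 : MvPolynomial σ R)) *
            (Algebra.TensorProduct.includeRight : MvPolynomial σ R →ₐ[R] A ⊗[R] MvPolynomial σ R)
              (f ^ k • p) := by
        simp only [Algebra.TensorProduct.includeRight_apply, Algebra.TensorProduct.tmul_mul_tmul,
          mul_one, one_mul]
        rw [TensorProduct.tmul_smul, TensorProduct.smul_tmul', Algebra.smul_def]
        congr 1
        exact (IsUnit.mul_val_inv hu).symm
      rw [h2]
      exact Ideal.mul_mem_left _ _ h1
    · exact Ideal.map_mono hspanle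
  have hfg : (RingHom.ker g.toRingHom).FG := by
    change (RingHom.ker g).FG
    rw [hker_eq, heq]
    exact Ideal.FG.map ⟨G, rfl⟩ _
  exact Algebra.FinitePresentation.of_surjective hgsurj hfg

/-- Finite presentation of `M_t` over `S_t` from relations finitely generated up to powers of `t`. -/
theorem finitePresentation_localizedModule {S : Type*} [CommRing S] {M : Type*} [AddCommGroup M]
    [Module S M] (t : S) {r : ℕ} (mgen : Fin r → M)
    (hgen : Submodule.span S (Set.range mgen) = ⊤) (V : Finset (Fin r → S))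
    (hV : ∀ a ∈ V, ∑ j, a j • mgen j = 0)
    (hker : ∀ a : Fin r → S, ∑ j, a j • mgen j = 0 →
      ∃ k : ℕ, t ^ k • a ∈ Submodule.span S (V : Set (Fin r → S))) :
    Module.FinitePresentation (Localization.Away t) (LocalizedModule (Submonoid.powers t) M) := by
  classical
  let π : (Fin r → S) →ₗ[S] M := Fintype.linearCombination S mgen
  have hπ : ∀ a, π a = ∑ j, a j • mgen j := fun a => Fintype.linearCombination_apply S mgen a
  have hπsurj : Function.Surjective π := by
    rw [← LinearMap.range_eq_top, Fintype.range_linearCombination, hgen]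
  let N : Submodule S (Fin r → S) := Submodule.span S (V : Set (Fin r → S))
  have hNle : N ≤ LinearMap.ker π := Submodule.span_le.mpr fun a ha => by
    rw [SetLike.mem_coe, LinearMap.mem_ker, hπ]
    exact hV a (Finset.mem_coe.mp ha)
  let q : ((Fin r → S) ⧸ N) →ₗ[S] M := N.liftQ π hNle
  have hqsurj : Function.Surjective q := by
    intro x
    obtain ⟨a, rfl⟩ := hπsurj x
    exact ⟨N.mkQ a, by simp [q]⟩
  haveI : Module.FinitePresentation S ((Fin r → S) ⧸ N) :=
    Module.finitePresentation_of_surjective N.mkQ N.mkQ_surjective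
      (by rw [Submodule.ker_mkQ]; exact ⟨V, rfl⟩)
  let Q := LocalizedModule.map (Submonoid.powers t) q
  have hQsurj : Function.Surjective Q := LocalizedModule.map_surjective _ q hqsurj
  have hQinj : Function.Injective Q := by
    rw [← LinearMap.ker_eq_bot, LinearMap.ker_eq_bot']
    intro z hz
    induction z using LocalizedModule.induction_on with
    | h x s =>
      obtain ⟨a, rfl⟩ := N.mkQ_surjective x
      rw [LocalizedModule.map_mk] at hz
      rw [localizedModule_mk_eq_zero] at hz ⊢
      obtain ⟨c, hc⟩ := hz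
      obtain ⟨_, k₁, rfl⟩ := c
      have h1 : π (t ^ k₁ • a) = 0 := by
        rw [map_smul]
        simpa [q, Submonoid.smul_def] using hc
      obtain ⟨k₂, hk₂⟩ := hker _ ((hπ _).symm.trans h1)
      refine ⟨⟨t ^ (k₂ + k₁), k₂ + k₁, rfl⟩, ?_⟩
      rw [Submonoid.smul_def]
      change t ^ (k₂ + k₁) • N.mkQ a = 0
      rw [← map_smul, pow_add, mul_smul]
      exact (Submodule.Quotient.mk_eq_zero N).mpr hk₂
  exact Module.FinitePresentation.of_equiv (LinearEquiv.ofBijective Q ⟨hQinj, hQsurj⟩)

end fp

end Groth.Agent.Lib.Helper2.GenFree
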