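import Mathlib
import Groth.Agent.Lib.Helper5LocalFlat
import Groth.Agent.Lib.Helper2GenFree
import Groth.Agent.Lib.Helper3FlatLocA

/-!
# Local flatness at a prime: Noetherian criterion in torsion form (helper3)
-/

set_option autoImplicit false
set_option linter.style.haveILetI false

universe u

namespace Groth.Agent.Lib.Helper3.FlatLoc

open TensorProduct Groth.Agent.Lib.Helper2.GenFree

section Crit

variable {R S M : Type u} [CommRing R] [CommRing S] [Algebra R S]
  [AddCommGroup M] [Module R M] [Module S M] [IsScalarTower R S M]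

/-- Local criterion of flatness at a prime `q` of `S`, with all hypotheses stated as torsion
of kernels of maps between tensor products of `M` itself. -/
theorem flat_localizedModule_of_torsion [IsNoetherianRing R] [IsNoetherianRing S]
    [Module.Finite S M] (q : Ideal S) [q.IsPrime] (I : Ideal R)
    (hI : I.map (algebraMap R S) ≤ q)
    (H1 : ∀ z : M ⊗[R] I, I.subtype.lTensor M z = 0 → ∃ s ∈ q.primeCompl, s • z = 0)
    (H2 : ∀ (K : Ideal (R ⧸ I)) (z : M ⊗[R] (K.restrictScalars R)),
      (K.restrictScalars R).subtype.lTensor M z = 0 → ∃ s ∈ q.primeCompl, s • z = 0) :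
    Module.Flat R (LocalizedModule q.primeCompl M) := by
  apply Groth.Agent.Lib.Helper5.flat_of_lTensor_ideal_injective (A := R)
    (B := Localization.AtPrime q) (LocalizedModule q.primeCompl M) I
  · rw [IsLocalRing.jacobson_eq_maximalIdeal _ bot_ne_top, Ideal.map_le_iff_le_comap]
    intro r hr
    rw [Ideal.mem_comap, IsScalarTower.algebraMap_apply R S (Localization.AtPrime q),
      IsLocalization.AtPrime.to_map_mem_maximal_iff _ q]
    exact hI (Ideal.mem_map_of_mem _ hr)
  · exact (lTensor_localizedModule_injective_iff q.primeCompl I.subtype).mpr H1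
  · intro K
    exact (lTensor_localizedModule_injective_iff q.primeCompl
      (K.restrictScalars R).subtype).mpr (H2 K)

end Crit


section H2

variable {R : Type*} [CommRing R] (p : Ideal R) {M : Type*} [AddCommGroup M] [Module R M]

/-- Elements of `pM` die when tensored with an `R/p`-module element. -/
theorem tmul_eq_zero_of_mem_smul_top {N : Type*} [AddCommGroup N] [Module R N]
    (hN : ∀ r ∈ p, ∀ n : N, r • n = 0) {x : M} (hx : x ∈ p • (⊤ : Submodule R M)) (n : N) :
    x ⊗ₜ[R] n = 0 := by
  refine Submodule.smul_induction_on hx ?_ ?_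
  · intro r hr m _
    rw [TensorProduct.smul_tmul, hN r hr, tmul_zero]
  · intro a b ha hb
    rw [add_tmul, ha, hb, add_zero]

variable {M' : Type*} [AddCommGroup M'] [Module R M'] [Module (R ⧸ p) M']
  [IsScalarTower R (R ⧸ p) M']

/-- Generic freeness of `M/pM` (in witness form) implies that the kernels of
`M ⊗ K → M ⊗ R/p` are killed by powers of `f`. -/
theorem torsion_of_freeAway (ρ : M →ₗ[R] M') (hρ : Function.Surjective ρ)
    (hker : LinearMap.ker ρ ≤ p • ⊤) (f : R)
    (hfree : FreeAway (R ⧸ p) (Ideal.Quotient.mk p f) M')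
    (K : Ideal (R ⧸ p)) (z : M ⊗[R] (K.restrictScalars R))
    (hz : (K.restrictScalars R).subtype.lTensor M z = 0) :
    ∃ n : ℕ, f ^ n • z = 0 := by
  classical
  obtain ⟨B, hB, hspan⟩ := hfree
  choose bt hbt using fun b : B => hρ b.1
  let jt : (B →₀ R) →ₗ[R] M := Finsupp.linearCombination R bt
  have hKp : ∀ r ∈ p, ∀ κ : K.restrictScalars R, r • κ = 0 := by
    intro r hr κ
    ext
    change r • (κ : R ⧸ p) = 0
    rw [Algebra.smul_def, Ideal.Quotient.algebraMap_eq, Ideal.Quotient.eq_zero_iff_mem.mpr hr,
      zero_mul]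
  -- Step 1
  have step1 : ∀ z : M ⊗[R] (K.restrictScalars R), ∃ (n : ℕ) (l : (B →₀ R) ⊗[R] (K.restrictScalars R)),
      f ^ n • z = jt.rTensor _ l := by
    intro z
    induction z with
    | zero => exact ⟨0, 0, by simp⟩
    | add a b ha hb =>
      obtain ⟨n₁, l₁, h₁⟩ := ha
      obtain ⟨n₂, l₂, h₂⟩ := hb
      refine ⟨n₁ + n₂, f ^ n₂ • l₁ + f ^ n₁ • l₂, ?_⟩
      rw [map_add, map_smul, map_smul, ← h₁, ← h₂, smul_add, pow_add, mul_smul, mul_smul,
        smul_comm (f ^ n₁) (f ^ n₂) a]
    | tmul m κ =>
      obtain ⟨n, hn⟩ := hspan (ρ m)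
      rw [Finsupp.mem_span_iff_linearCombination] at hn
      obtain ⟨c, hc⟩ := hn
      obtain ⟨ct, rfl⟩ := Finsupp.mapRange_surjective (Ideal.Quotient.mk p) (map_zero _)
        Ideal.Quotient.mk_surjective c
      have h1 : ρ (jt ct) = ρ (f ^ n • m) := by
        rw [map_smul, ← algebraMap_smul (R ⧸ p) (f ^ n), map_pow, Ideal.Quotient.algebraMap_eq,
          ← hc]
        simp only [jt, Finsupp.linearCombination_apply, map_finsuppSum, map_smul, hbt]
        rw [Finsupp.sum_mapRange_index (by simp)]
        refine Finsupp.sum_congr fun b _ => ?_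
        rw [← Ideal.Quotient.algebraMap_eq, algebraMap_smul]
      have h2 : f ^ n • m - jt ct ∈ p • (⊤ : Submodule R M) := by
        apply hker
        rw [LinearMap.mem_ker, map_sub, h1, sub_self]
      refine ⟨n, ct ⊗ₜ κ, ?_⟩
      rw [LinearMap.rTensor_tmul, TensorProduct.smul_tmul', ← sub_eq_zero, ← sub_tmul]
      exact tmul_eq_zero_of_mem_smul_top p hKp h2 κ
  obtain ⟨n, l, hl⟩ := step1 z
  refine ⟨n, ?_⟩
  rw [hl]
  -- Step 2 : `l = 0`
  let ε : M ⊗[R] (R ⧸ p) →ₗ[R] M' :=
    TensorProduct.lift (LinearMap.mk₂ R (fun (m : M) (x : R ⧸ p) => x • ρ m)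
      (fun m₁ m₂ x => by rw [map_add, smul_add]) (fun c m x => by rw [map_smul, smul_comm])
      (fun m x₁ x₂ => by rw [add_smul]) (fun c m x => by rw [smul_assoc]))
  let incl : K.restrictScalars R →ₗ[R] R ⧸ p := (K.restrictScalars R).subtype
  let δ : (B →₀ R) ⊗[R] (K.restrictScalars R) →ₗ[R] (B →₀ R ⧸ p) :=
    (Finsupp.mapRange.linearMap incl) ∘ₗ (TensorProduct.finsuppScalarLeft R _ B).toLinearMap
  have hδ : Function.Injective δ :=
    (Finsupp.mapRange_injective _ (map_zero _) Subtype.val_injective).comp
      (LinearEquiv.injective _)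
  let LC : (B →₀ R ⧸ p) →ₗ[R] M' :=
    (Finsupp.linearCombination (R ⧸ p) (Subtype.val : B → M')).restrictScalars R
  have hLC : Function.Injective LC :=
    linearIndependent_iff_injective_finsuppLinearCombination.mp hB
  have hΓ : ∀ l, ε (incl.lTensor M (jt.rTensor _ l)) = LC (δ l) := by
    intro l
    induction l with
    | zero => simp
    | add a b ha hb => simp only [map_add, ha, hb]
    | tmul c κ =>
      induction c using Finsupp.induction_linear with
      | zero => simp
      | add a b ha hb => simp only [add_tmul, map_add, ha, hb]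
      | single b r =>
        simp only [LinearMap.rTensor_tmul, LinearMap.lTensor_tmul, ε, TensorProduct.lift.tmul,
          jt, Finsupp.linearCombination_single, map_smul, δ, LC,
          LinearMap.coe_comp, LinearEquiv.coe_coe, Function.comp_apply,
          TensorProduct.finsuppScalarLeft_apply_tmul, Finsupp.sum_single_index, zero_smul,
          Finsupp.single_zero, Finsupp.mapRange.linearMap_apply, Finsupp.mapRange_single,
          LinearMap.coe_restrictScalars, incl]
        rw [LinearMap.smul_apply, LinearMap.mk₂_apply, hbt, smul_assoc]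
  have h0 : ε (incl.lTensor M (jt.rTensor _ l)) = 0 := by
    rw [← hl, map_smul, hz, smul_zero, map_zero]
  rw [hΓ] at h0
  have : l = 0 := hδ (hLC (by rw [h0, map_zero, map_zero]))
  rw [this, map_zero]

end H2

section H2auto

variable {R S : Type*} [CommRing R] [CommRing S] [Algebra R S]
  {M : Type*} [AddCommGroup M] [Module R M] [Module S M] [IsScalarTower R S M]

/-- For the prime `p = q ∩ R` itself, hypothesis `H2` of the local criterion is automatic. -/
theorem torsion_of_comap (q : Ideal S) [q.IsPrime]
    (K : Ideal (R ⧸ q.comap (algebraMap R S))) (z : M ⊗[R] (K.restrictScalars R))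
    (hz : (K.restrictScalars R).subtype.lTensor M z = 0) :
    ∃ s ∈ q.primeCompl, s • z = 0 := by
  by_cases hK : K = ⊥
  · refine ⟨1, q.primeCompl.one_mem, ?_⟩
    rw [one_smul]
    have hz0 : ∀ z : M ⊗[R] (K.restrictScalars R), z = 0 := by
      intro z
      induction z with
      | zero => rfl
      | add a b ha hb => rw [ha, hb, add_zero]
      | tmul m κ =>
        have : κ = 0 := by
          ext
          have h1 : (κ : R ⧸ q.comap (algebraMap R S)) ∈ K := κ.2
          have h2 : (κ : R ⧸ q.comap (algebraMap R S)) ∈ (⊥ : Ideal _) := hK ▸ h1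
          simpa using h2
        rw [this, tmul_zero]
    exact hz0 z
  · obtain ⟨κ₀, hκ₀, hne⟩ := Submodule.exists_mem_ne_zero_of_ne_bot hK
    obtain ⟨r₀, rfl⟩ := Ideal.Quotient.mk_surjective κ₀
    have hr₀ : algebraMap R S r₀ ∈ q.primeCompl := by
      intro h
      apply hne
      rw [Ideal.Quotient.eq_zero_iff_mem]
      exact h
    refine ⟨algebraMap R S r₀, hr₀, ?_⟩
    rw [algebraMap_smul]
    let ψ : (R ⧸ q.comap (algebraMap R S)) →ₗ[R] K.restrictScalars R :=
      { toFun := fun x => ⟨x * Ideal.Quotient.mk _ r₀, K.mul_mem_left x hκ₀⟩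
        map_add' := fun x y => by ext; simp [add_mul]
        map_smul' := fun c x => by ext; simp [Algebra.smul_def, mul_assoc] }
    have hψ : ψ ∘ₗ (K.restrictScalars R).subtype = r₀ • LinearMap.id := by
      ext κ
      simp [ψ, Algebra.smul_def, mul_comm]
    have : r₀ • z = (ψ ∘ₗ (K.restrictScalars R).subtype).lTensor M z := by
      rw [hψ, LinearMap.lTensor_smul, LinearMap.lTensor_id, LinearMap.smul_apply,
        LinearMap.id_apply]
    rw [this, LinearMap.lTensor_comp, LinearMap.comp_apply, hz, map_zero]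

end H2auto


end Groth.Agent.Lib.Helper3.FlatLoc
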