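import Mathlib
import Groth.Agent.Lib.Helper3FlatLocB
import Groth.Agent.Lib.Helper3FlatDescB

set_option autoImplicit false
set_option linter.style.haveILetI false

universe u

namespace Groth.Agent.Lib.Helper3.FlatDesc

open TensorProduct MvPolynomial Groth.Agent.Lib.Helper3.FlatLoc

attribute [local instance] MvPolynomial.algebraMvPolynomial

section Conv

variable {T₀ : Type*} [CommRing T₀] {ι κ : Type*} [Finite ι] [Fintype κ] (w : κ → ι → T₀)
  (T : Type*) [CommRing T] [Algebra T₀ T]

theorem mem_smul_KT_iff (J : Ideal T) (x : ι → T) :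
    x ∈ J • KT w T ↔ ∃ e : κ → T, (∀ l, e l ∈ J) ∧ WT w T e = x := by
  classical
  constructor
  · intro hx
    refine Submodule.smul_induction_on hx ?_ ?_
    · rintro r hr _ ⟨a, rfl⟩
      exact ⟨r • a, fun l => J.mul_mem_right _ hr, by rw [map_smul]⟩
    · rintro _ _ ⟨e₁, h₁, rfl⟩ ⟨e₂, h₂, rfl⟩
      exact ⟨e₁ + e₂, fun l => J.add_mem (h₁ l) (h₂ l), by rw [map_add]⟩
  · rintro ⟨e, he, rfl⟩
    rw [WT_apply]
    exact Submodule.sum_mem _ fun j _ => Submodule.smul_mem_smul (he j) (wT_mem_KT w T j)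

theorem mem_smul_top_pi_iff [Fintype ι] [DecidableEq ι] (J : Ideal T) (x : ι → T) :
    x ∈ (J • ⊤ : Submodule T (ι → T)) ↔ ∀ i, x i ∈ J := by
  constructor
  · intro hx
    refine Submodule.smul_induction_on hx ?_ ?_
    · intro r hr n _ i
      exact J.mul_mem_right _ hr
    · intro a b ha hb i
      exact J.add_mem (ha i) (hb i)
  · intro hx
    have : x = ∑ i, x i • (Pi.single i 1 : ι → T) := by
      ext j
      simp [Finset.sum_apply, Pi.single_apply]
    rw [this]
    exact Submodule.sum_mem _ fun i _ => Submodule.smul_mem_smul (hx i) Submodule.mem_top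

end Conv

section Level

variable {Λ A : Type u} [CommRing Λ] [CommRing A] [Algebra Λ A]
  {σ ι κ : Type} [Finite σ] [Fintype ι] [DecidableEq ι] [Fintype κ]
  (w : κ → ι → MvPolynomial σ Λ)

theorem Fmap_mem_span_of_mem_span (T₀ T : Type*) [CommRing T₀] [CommRing T] [Algebra T₀ T]
    (ι : Type*) (G : Set (ι → T₀)) {y : ι → T₀} (hy : y ∈ Submodule.span T₀ G) :
    Fmap T₀ T ι y ∈ Submodule.span T (Fmap T₀ T ι '' G) := by
  induction hy using Submodule.span_induction with
  | mem g hg => exact Submodule.subset_span ⟨g, hg, rfl⟩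
  | zero => rw [map_zero]; exact Submodule.zero_mem _
  | add a b _ _ ha hb => rw [map_add]; exact Submodule.add_mem _ ha hb
  | smul r a _ ha => rw [Fmap_smul']; exact Submodule.smul_mem _ _ ha

/-- Flatness at a Noetherian level, from the finitely many torsion conditions. -/
theorem flat_level [IsNoetherianRing A] (qA : Ideal (MvPolynomial σ A)) [qA.IsPrime]
    (G : Finset (ι → MvPolynomial σ Λ))
    (hG : ∀ y, y ∈ KT w (MvPolynomial σ Λ) →
      (∀ i, y i ∈ ((qA.comap (algebraMap A (MvPolynomial σ A))).comap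
        (algebraMap Λ A)).map (C (σ := σ))) →
      y ∈ Submodule.span (MvPolynomial σ Λ) (G : Set (ι → MvPolynomial σ Λ)))
    (hs : ∀ y ∈ G, ∃ s ∈ qA.primeCompl, s • Fmap (MvPolynomial σ Λ) (MvPolynomial σ A) ι y ∈
      ((qA.comap (algebraMap A (MvPolynomial σ A))).map (C (σ := σ))) •
        KT w (MvPolynomial σ A)) :
    Module.Flat A (LocalizedModule qA.primeCompl
      ((ι → MvPolynomial σ A) ⧸ KT w (MvPolynomial σ A))) := by
  classical
  set pA : Ideal A := qA.comap (algebraMap A (MvPolynomial σ A)) with hpA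
  set J : Ideal (MvPolynomial σ A) := pA.map (C (σ := σ)) with hJ
  have hJq : J ≤ qA := by
    rw [hJ, ← MvPolynomial.algebraMap_eq]
    exact Ideal.map_comap_le
  -- common multiplier
  choose! s hs₁ hs₂ using hs
  set s₀ : MvPolynomial σ A := ∏ y ∈ G, s y with hs₀
  have hs₀q : s₀ ∈ qA.primeCompl := qA.primeCompl.prod_mem fun y hy => hs₁ y hy
  have hs₀G : ∀ y ∈ G, s₀ • Fmap (MvPolynomial σ Λ) (MvPolynomial σ A) ι y ∈
      J • KT w (MvPolynomial σ A) := by
    intro y hy
    rw [hs₀, ← Finset.mul_prod_erase G s hy, mul_comm, mul_smul]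
    exact Submodule.smul_mem _ _ (hs₂ y hy)
  have hF : Function.Injective (pA.subtype.lTensor (ι → MvPolynomial σ A)) :=
    Module.Flat.lTensor_preserves_injective_linearMap _ Subtype.val_injective
  refine flat_localizedModule_of_torsion qA pA ?_ ?_ ?_
  · exact Ideal.map_comap_le
  · refine (kernel_torsion_iff (KT w (MvPolynomial σ A)) pA qA.primeCompl hF).mpr ?_
    intro x hxK hxp
    have hsm := Ideal.smul_restrictScalars (S := MvPolynomial σ A) pA
      (⊤ : Submodule (MvPolynomial σ A) (ι → MvPolynomial σ A))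
    rw [Submodule.restrictScalars_top, MvPolynomial.algebraMap_eq] at hsm
    rw [← hsm, Submodule.restrictScalars_mem, mem_smul_top_pi_iff] at hxp
    obtain ⟨t, ht, htx⟩ := exists_C_smul_mem w pA x hxK hxp
    have hCt : (C t : MvPolynomial σ A) ∈ qA.primeCompl := by
      intro h
      apply ht
      rw [hpA, Ideal.mem_comap, MvPolynomial.algebraMap_eq]
      exact h
    refine ⟨s₀ * C t, qA.primeCompl.mul_mem hs₀q hCt, ?_⟩
    have hsm2 := Ideal.smul_restrictScalars (S := MvPolynomial σ A) pA
      (KT w (MvPolynomial σ A))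
    rw [MvPolynomial.algebraMap_eq] at hsm2
    rw [← hsm2, Submodule.restrictScalars_mem, mul_smul]
    -- the submodule of elements sent into `J • K` by `s₀`
    let N : Submodule (MvPolynomial σ A) (ι → MvPolynomial σ A) :=
      (J • KT w (MvPolynomial σ A)).comap (LinearMap.lsmul (MvPolynomial σ A) _ s₀)
    have hN1 : Submodule.span (MvPolynomial σ A)
        (Fmap (MvPolynomial σ Λ) (MvPolynomial σ A) ι ''
          {y | y ∈ KT w (MvPolynomial σ Λ) ∧
            ∀ i, y i ∈ (pA.comap (algebraMap Λ A)).map (C (σ := σ))}) ≤ N := by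
      rw [Submodule.span_le]
      rintro _ ⟨y, ⟨hyK, hyp⟩, rfl⟩
      have h1 := Fmap_mem_span_of_mem_span (MvPolynomial σ Λ) (MvPolynomial σ A) ι _
        (hG y hyK hyp)
      have h2 : Submodule.span (MvPolynomial σ A)
          (Fmap (MvPolynomial σ Λ) (MvPolynomial σ A) ι '' (G : Set (ι → MvPolynomial σ Λ)))
          ≤ N := by
        rw [Submodule.span_le]
        rintro _ ⟨g, hg, rfl⟩
        exact hs₀G g hg
      exact h2 h1
    have hN2 : J • KT w (MvPolynomial σ A) ≤ N := by
      intro v hv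
      exact Submodule.smul_mem _ _ hv
    exact (sup_le hN1 hN2) htx
  · intro K z hz
    exact torsion_of_comap qA K z hz

end Level

section Top

variable {Λ R : Type u} [CommRing Λ] [CommRing R] [Algebra Λ R]
  {σ ι κ : Type} [Finite σ] [Fintype ι] [DecidableEq ι] [Fintype κ]
  (w : κ → ι → MvPolynomial σ Λ)

theorem map_mem_map_C {A B : Type*} [CommRing A] [CommRing B] (f : A →+* B) (I : Ideal B)
    {g : MvPolynomial σ A} (hg : g ∈ (I.comap f).map (C (σ := σ))) :
    MvPolynomial.map f g ∈ I.map (C (σ := σ)) := by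
  rw [MvPolynomial.mem_map_C_iff] at hg ⊢
  intro m
  rw [MvPolynomial.coeff_map]
  exact hg m

/-- Consequence of flatness at the top level: the finitely many torsion conditions. -/
theorem exists_torsion_top (q : Ideal (MvPolynomial σ R)) [q.IsPrime]
    (hflat : Module.Flat R (LocalizedModule q.primeCompl
      ((ι → MvPolynomial σ R) ⧸ KT w (MvPolynomial σ R))))
    (y : ι → MvPolynomial σ Λ) (hyK : y ∈ KT w (MvPolynomial σ Λ))
    (hyp : ∀ i, y i ∈ ((q.comap (algebraMap R (MvPolynomial σ R))).comap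
      (algebraMap Λ R)).map (C (σ := σ))) :
    ∃ s ∈ q.primeCompl, ∃ e : κ → MvPolynomial σ R,
      (∀ l, e l ∈ (q.comap (algebraMap R (MvPolynomial σ R))).map (C (σ := σ))) ∧
      WT w (MvPolynomial σ R) e = s • Fmap (MvPolynomial σ Λ) (MvPolynomial σ R) ι y := by
  set p : Ideal R := q.comap (algebraMap R (MvPolynomial σ R)) with hp
  have hT := (flat_localizedModule_iff' q.primeCompl).mp hflat p
  have hF : Function.Injective (p.subtype.lTensor (ι → MvPolynomial σ R)) :=
    Module.Flat.lTensor_preserves_injective_linearMap _ Subtype.val_injective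
  have hK := (kernel_torsion_iff (KT w (MvPolynomial σ R)) p q.primeCompl hF).mp hT
  have hsm := Ideal.smul_restrictScalars (S := MvPolynomial σ R) p
    (⊤ : Submodule (MvPolynomial σ R) (ι → MvPolynomial σ R))
  rw [Submodule.restrictScalars_top, MvPolynomial.algebraMap_eq] at hsm
  have hsm2 := Ideal.smul_restrictScalars (S := MvPolynomial σ R) p (KT w (MvPolynomial σ R))
  rw [MvPolynomial.algebraMap_eq] at hsm2
  have h1 : Fmap (MvPolynomial σ Λ) (MvPolynomial σ R) ι y ∈ p • (⊤ : Submodule R _) := by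
    rw [← hsm, Submodule.restrictScalars_mem, mem_smul_top_pi_iff]
    intro i
    rw [Fmap_apply, MvPolynomial.algebraMap_def]
    exact map_mem_map_C _ p (hyp i)
  obtain ⟨s, hs, hsy⟩ := hK _ (Fmap_mem_KT w _ _ hyK) h1
  rw [← hsm2, Submodule.restrictScalars_mem, mem_smul_KT_iff] at hsy
  obtain ⟨e, he, hew⟩ := hsy
  exact ⟨s, hs, e, he, hew⟩

/-- **Local descent of flatness**: if the presented module over `R[X]` is `R`-flat at the prime
`q`, then it is already flat at the contraction of `q` over some finitely generated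
`Λ`-subalgebra of `R` (`Λ` Noetherian). -/
theorem exists_fg_subalgebra_flat [IsNoetherianRing Λ] (q : Ideal (MvPolynomial σ R))
    [q.IsPrime]
    (hflat : Module.Flat R (LocalizedModule q.primeCompl
      ((ι → MvPolynomial σ R) ⧸ KT w (MvPolynomial σ R)))) (extra : Finset R) :
    ∃ A : Subalgebra Λ R, A.FG ∧ (extra : Set R) ⊆ A ∧
      Module.Flat A (LocalizedModule
        (q.comap (algebraMap (MvPolynomial σ A) (MvPolynomial σ R))).primeCompl
        ((ι → MvPolynomial σ A) ⧸ KT w (MvPolynomial σ A))) := by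
  classical
  set p : Ideal R := q.comap (algebraMap R (MvPolynomial σ R)) with hp
  set p₀ : Ideal Λ := p.comap (algebraMap Λ R) with hp₀
  let Y₀ : Submodule (MvPolynomial σ Λ) (ι → MvPolynomial σ Λ) :=
    KT w (MvPolynomial σ Λ) ⊓ Submodule.pi Set.univ (fun _ => p₀.map (C (σ := σ)))
  obtain ⟨G, hG⟩ : Y₀.FG := IsNoetherian.noetherian Y₀
  have hGY : ∀ y ∈ G, y ∈ KT w (MvPolynomial σ Λ) ∧ ∀ i, y i ∈ p₀.map (C (σ := σ)) := by
    intro y hy
    have : y ∈ Y₀ := hG ▸ Submodule.subset_span hy
    exact ⟨this.1, fun i => this.2 i (Set.mem_univ i)⟩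
  have hex : ∀ y, ∃ (s : MvPolynomial σ R) (e : κ → MvPolynomial σ R), y ∈ G →
      s ∈ q.primeCompl ∧ (∀ l, e l ∈ p.map (C (σ := σ))) ∧
      WT w (MvPolynomial σ R) e = s • Fmap (MvPolynomial σ Λ) (MvPolynomial σ R) ι y := by
    intro y
    by_cases hy : y ∈ G
    · obtain ⟨s, hs, e, he, hew⟩ := exists_torsion_top w q hflat y (hGY y hy).1 (hGY y hy).2
      exact ⟨s, e, fun _ => ⟨hs, he, hew⟩⟩
    · exact ⟨0, 0, fun h => absurd h hy⟩
  choose s e hse using hex
  let cs : Finset R := extra ∪ G.biUnion fun y =>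
    (s y).coeffs ∪ Finset.univ.biUnion fun l => (e y l).coeffs
  let A : Subalgebra Λ R := Algebra.adjoin Λ (cs : Set R)
  have hAfg : A.FG := Subalgebra.fg_adjoin_finset cs
  have hcsA : ∀ c ∈ cs, c ∈ A := fun c hc => Algebra.subset_adjoin hc
  have hlift : ∀ f : MvPolynomial σ R, f.coeffs ⊆ cs →
      ∃ f' : MvPolynomial σ A, algebraMap (MvPolynomial σ A) (MvPolynomial σ R) f' = f := by
    intro f hf
    rw [MvPolynomial.algebraMap_def]
    apply MvPolynomial.mem_range_map_iff_coeffs_subset.mpr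
    intro c hc
    exact ⟨⟨c, hcsA c (hf hc)⟩, rfl⟩
  refine ⟨A, hAfg, fun c hc => hcsA c (Finset.mem_union_left _ hc), ?_⟩
  haveI : Algebra.FiniteType Λ A := (Subalgebra.fg_iff_finiteType A).mp hAfg
  haveI : IsNoetherianRing A := Algebra.FiniteType.isNoetherianRing Λ A
  haveI := isScalarTower_mvPolynomial (σ := σ) Λ A R
  set qA : Ideal (MvPolynomial σ A) :=
    q.comap (algebraMap (MvPolynomial σ A) (MvPolynomial σ R)) with hqA
  have hinj : Function.Injective (Fmap (MvPolynomial σ A) (MvPolynomial σ R) ι) := by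
    intro a b hab
    ext i : 1
    have := congrFun hab i
    rw [Fmap_apply, Fmap_apply, MvPolynomial.algebraMap_def] at this
    exact MvPolynomial.map_injective _ Subtype.val_injective this
  have hpA : ∀ a : A, a ∈ qA.comap (algebraMap A (MvPolynomial σ A)) ↔ (a : R) ∈ p := by
    intro a
    rw [Ideal.mem_comap, hqA, Ideal.mem_comap, hp, Ideal.mem_comap, MvPolynomial.algebraMap_eq,
      MvPolynomial.algebraMap_eq, MvPolynomial.algebraMap_def, MvPolynomial.map_C]
    rfl
  have hp₀A : (qA.comap (algebraMap A (MvPolynomial σ A))).comap (algebraMap Λ A) = p₀ := by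
    ext x
    rw [Ideal.mem_comap, hpA, hp₀, Ideal.mem_comap]
    rfl
  refine flat_level w qA G ?_ ?_
  · intro y hyK hyp
    rw [hp₀A] at hyp
    rw [hG]
    exact ⟨hyK, fun i _ => hyp i⟩
  · intro y hy
    obtain ⟨hs, he, hew⟩ := hse y hy
    obtain ⟨s', hs'⟩ := hlift (s y) (fun c hc => Finset.mem_union_right _
      (Finset.mem_biUnion.mpr ⟨y, hy, Finset.mem_union_left _ hc⟩))
    have hl : ∀ l, ∃ f' : MvPolynomial σ A,
        algebraMap (MvPolynomial σ A) (MvPolynomial σ R) f' = e y l := fun l =>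
      hlift (e y l) (fun c hc => Finset.mem_union_right _
        (Finset.mem_biUnion.mpr ⟨y, hy, Finset.mem_union_right _
          (Finset.mem_biUnion.mpr ⟨l, Finset.mem_univ l, hc⟩)⟩))
    choose e' he' using hl
    refine ⟨s', ?_, ?_⟩
    · intro h
      apply hs
      rw [← hs']
      exact h
    · rw [mem_smul_KT_iff]
      refine ⟨e', ?_, ?_⟩
      · intro l
        rw [MvPolynomial.mem_map_C_iff]
        intro m
        rw [hpA]
        have := he l
        rw [MvPolynomial.mem_map_C_iff] at this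
        have h2 := this m
        rw [← he' l, MvPolynomial.algebraMap_def, MvPolynomial.coeff_map] at h2
        exact h2
      · apply hinj
        rw [← WT_Fmap, Fmap_smul', Fmap_Fmap, hs', ← hew]
        congr 1
        ext l : 1
        exact he' l

end Top

end Groth.Agent.Lib.Helper3.FlatDesc
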