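import Mathlib
import Groth.Agent.Lib.Helper3FlatLocB
import Groth.Agent.Lib.Helper5FlatReg

set_option autoImplicit false
set_option linter.style.haveILetI false

universe u

namespace Groth.Agent.Lib.Helper3.FlatOpen

open TopologicalSpace

open TensorProduct Groth.Agent.Lib.Helper3.FlatLoc Groth.Agent.Lib.Helper2.GenFree

/-- In a Noetherian quasi-sober space, a set stable under generalization which contains, around
each of its points `x`, a nonempty open part of `closure {x}`, is open. -/
theorem isOpen_of_stableUnderGeneralization_of_forall_exists {X : Type*} [TopologicalSpace X]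
    [NoetherianSpace X] [QuasiSober X] (U : Set X) (hgen : StableUnderGeneralization U)
    (hloc : ∀ x ∈ U, ∃ W : Set X, IsOpen W ∧ x ∈ W ∧ W ∩ closure {x} ⊆ U) : IsOpen U := by
  have key : ∀ Z : Closeds X, IsClosed (Uᶜ ∩ (Z : Set X)) := by
    intro Z
    induction Z using WellFoundedLT.induction with
    | _ Z ih =>
    by_cases hZe : (Z : Set X) = ∅
    · rw [hZe, Set.inter_empty]; exact isClosed_empty
    by_cases hirr : IsPreirreducible (Z : Set X)
    · have hZirr : IsIrreducible (Z : Set X) := ⟨Set.nonempty_iff_ne_empty.mpr hZe, hirr⟩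
      have hη := hZirr.isGenericPoint_genericPoint Z.isClosed
      set η := hZirr.genericPoint with hηdef
      have hηZ : closure {η} = (Z : Set X) := hη
      by_cases hηU : η ∈ U
      · obtain ⟨W, hWo, hηW, hWU⟩ := hloc η hηU
        let Z' : Closeds X := ⟨(Z : Set X) ∩ Wᶜ, Z.isClosed.inter hWo.isClosed_compl⟩
        have hηmemZ : η ∈ (Z : Set X) := by rw [← hηZ]; exact subset_closure rfl
        have hlt : Z' < Z := by
          refine lt_of_le_of_ne (fun x hx => hx.1) ?_
          intro h
          have : η ∈ (Z' : Set X) := by rw [h]; exact hηmemZ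
          exact this.2 hηW
        have heq : Uᶜ ∩ (Z : Set X) = Uᶜ ∩ (Z' : Set X) := by
          ext x
          constructor
          · rintro ⟨hxU, hxZ⟩
            refine ⟨hxU, hxZ, fun hxW => hxU (hWU ⟨hxW, ?_⟩)⟩
            rw [hηZ]; exact hxZ
          · rintro ⟨hxU, hxZ, _⟩
            exact ⟨hxU, hxZ⟩
        rw [heq]
        exact ih Z' hlt
      · have hsub : (Z : Set X) ⊆ Uᶜ := by
          intro z hz hzU
          apply hηU
          have : η ⤳ z := by
            rw [specializes_iff_mem_closure, hηZ]; exact hz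
          exact hgen this hzU
        rw [Set.inter_eq_right.mpr hsub]
        exact Z.isClosed
    · rw [isPreirreducible_iff_isClosed_union_isClosed] at hirr
      push Not at hirr
      obtain ⟨z₁, z₂, hz₁, hz₂, hsub, hn₁, hn₂⟩ := hirr
      let Z₁ : Closeds X := ⟨(Z : Set X) ∩ z₁, Z.isClosed.inter hz₁⟩
      let Z₂ : Closeds X := ⟨(Z : Set X) ∩ z₂, Z.isClosed.inter hz₂⟩
      have hlt₁ : Z₁ < Z := by
        refine lt_of_le_of_ne (fun x hx => hx.1) ?_
        intro h
        apply hn₁
        intro x hx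
        have : x ∈ (Z₁ : Set X) := by rw [h]; exact hx
        exact this.2
      have hlt₂ : Z₂ < Z := by
        refine lt_of_le_of_ne (fun x hx => hx.1) ?_
        intro h
        apply hn₂
        intro x hx
        have : x ∈ (Z₂ : Set X) := by rw [h]; exact hx
        exact this.2
      have heq : Uᶜ ∩ (Z : Set X) = (Uᶜ ∩ (Z₁ : Set X)) ∪ (Uᶜ ∩ (Z₂ : Set X)) := by
        ext x
        constructor
        · rintro ⟨hxU, hxZ⟩
          rcases hsub hxZ with h | h
          · exact Or.inl ⟨hxU, hxZ, h⟩
          · exact Or.inr ⟨hxU, hxZ, h⟩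
        · rintro (⟨hxU, hxZ, _⟩ | ⟨hxU, hxZ, _⟩)
          · exact ⟨hxU, hxZ⟩
          · exact ⟨hxU, hxZ⟩
      rw [heq]
      exact (ih Z₁ hlt₁).union (ih Z₂ hlt₂)
  have := key ⊤
  rw [Closeds.coe_top, Set.inter_univ] at this
  exact isClosed_compl_iff.mp this

section

variable {R S M : Type u} [CommRing R] [CommRing S] [Algebra R S]
  [AddCommGroup M] [Module S M] [Module R M] [IsScalarTower R S M]

/-- Generic freeness in the form needed for hypothesis `H2`. -/
theorem exists_torsion_of_prime [Algebra.FiniteType R S] [Module.Finite S M]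
    (p : Ideal R) [p.IsPrime] :
    ∃ f : R, f ∉ p ∧ ∀ (K : Ideal (R ⧸ p)) (z : M ⊗[R] (K.restrictScalars R)),
      (K.restrictScalars R).subtype.lTensor M z = 0 → ∃ n : ℕ, f ^ n • z = 0 := by
  set P : Ideal S := p.map (algebraMap R S) with hP
  let M' := M ⧸ (P • ⊤ : Submodule S M)
  letI : Module (R ⧸ p) M' := Module.compHom M' (algebraMap (R ⧸ p) (S ⧸ P))
  haveI : IsScalarTower (R ⧸ p) (S ⧸ P) M' := ⟨fun x y z => by
    rw [Algebra.smul_def, mul_smul]; rfl⟩
  haveI : IsScalarTower R (R ⧸ p) M' := IsScalarTower.of_algebraMap_smul fun r z => by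
    change (algebraMap (R ⧸ p) (S ⧸ P) (algebraMap R (R ⧸ p) r)) • z = r • z
    rw [← IsScalarTower.algebraMap_apply R (R ⧸ p) (S ⧸ P),
      IsScalarTower.algebraMap_apply R S (S ⧸ P), algebraMap_smul, algebraMap_smul]
  haveI : Algebra.FiniteType (R ⧸ p) (S ⧸ P) :=
    Algebra.FiniteType.of_restrictScalars_finiteType R (R ⧸ p) (S ⧸ P)
  haveI : Module.Finite (S ⧸ P) M' := Module.Finite.of_restrictScalars_finite S (S ⧸ P) M'
  obtain ⟨f', hf', -, hfree, -, -⟩ := exists_freeAway (R ⧸ p) (S ⧸ P) M'
  obtain ⟨f, rfl⟩ := Ideal.Quotient.mk_surjective f'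
  refine ⟨f, fun hf => hf' (Ideal.Quotient.eq_zero_iff_mem.mpr hf), fun K z hz => ?_⟩
  refine torsion_of_freeAway p (((P • ⊤ : Submodule S M).mkQ).restrictScalars R)
    (Submodule.mkQ_surjective _) ?_ f hfree K z hz
  intro x hx
  rw [LinearMap.mem_ker, LinearMap.coe_restrictScalars, Submodule.mkQ_apply,
    Submodule.Quotient.mk_eq_zero] at hx
  have h := Ideal.smul_restrictScalars (S := S) p (⊤ : Submodule S M)
  rw [Submodule.restrictScalars_top] at h
  rw [← h, Submodule.restrictScalars_mem]
  exact hx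

end

/-- A finitely generated submodule all of whose elements are `T`-torsion is killed by a single
element of `T`. -/
theorem exists_smul_eq_zero_of_fg {S : Type*} [CommRing S] (T : Submonoid S) {X : Type*}
    [AddCommGroup X] [Module S X] (N : Submodule S X) (hN : N.FG)
    (h : ∀ z ∈ N, ∃ s ∈ T, s • z = 0) : ∃ g ∈ T, ∀ z ∈ N, g • z = 0 := by
  classical
  obtain ⟨s, rfl⟩ := hN
  have h' : ∀ x : X, ∃ c : S, x ∈ s → c ∈ T ∧ c • x = 0 := by
    intro x
    by_cases hx : x ∈ s
    · obtain ⟨c, hc, hcx⟩ := h x (Submodule.subset_span hx)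
      exact ⟨c, fun _ => ⟨hc, hcx⟩⟩
    · exact ⟨1, fun h => absurd h hx⟩
  choose c hc using h'
  refine ⟨∏ x ∈ s, c x, T.prod_mem fun x hx => (hc x hx).1, ?_⟩
  intro z hz
  induction hz using Submodule.span_induction with
  | mem x hx =>
    rw [← Finset.mul_prod_erase s c hx, mul_comm, mul_smul, (hc x hx).2, smul_zero]
  | zero => rw [smul_zero]
  | add a b _ _ ha hb => rw [smul_add, ha, hb, add_zero]
  | smul r a _ ha => rw [smul_comm, ha, smul_zero]

section

variable {R S M : Type u} [CommRing R] [CommRing S] [Algebra R S]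
  [AddCommGroup M] [Module S M] [Module R M] [IsScalarTower R S M]

/-- **Openness of the flat locus**, Noetherian case. -/
theorem isOpen_flatLocus_of_isNoetherianRing [IsNoetherianRing R] [Algebra.FiniteType R S]
    [Module.Finite S M] :
    IsOpen {q : PrimeSpectrum S | Module.Flat R (LocalizedModule q.asIdeal.primeCompl M)} := by
  haveI : IsNoetherianRing S := Algebra.FiniteType.isNoetherianRing R S
  apply isOpen_of_stableUnderGeneralization_of_forall_exists
  · intro x y hyx hx
    rw [← PrimeSpectrum.le_iff_specializes] at hyx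
    exact flat_localizedModule_of_le (T := x.asIdeal.primeCompl) (T' := y.asIdeal.primeCompl)
      (fun s (hs : s ∉ x.asIdeal) (h : s ∈ y.asIdeal) => hs (hyx h)) hx
  · intro q hq
    set p := q.asIdeal.comap (algebraMap R S) with hp
    obtain ⟨f, hfp, hf⟩ := exists_torsion_of_prime (S := S) (M := M) p
    let φ : M ⊗[R] p →ₗ[S] M ⊗[R] R := AlgebraTensorModule.lTensor S M p.subtype
    haveI : Module.Finite S (M ⊗[R] p) :=
      Groth.Agent.Lib.Helper5.finite_tensorProduct_of_finite M p
    haveI : IsNoetherian S (M ⊗[R] p) := isNoetherian_of_isNoetherianRing_of_finite S _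
    have hfg : (LinearMap.ker φ).FG := IsNoetherian.noetherian _
    have hq' := (flat_localizedModule_iff' q.asIdeal.primeCompl).mp hq p
    obtain ⟨g, hgq, hg⟩ := exists_smul_eq_zero_of_fg q.asIdeal.primeCompl (LinearMap.ker φ) hfg
      (fun z hz => hq' z hz)
    refine ⟨PrimeSpectrum.basicOpen (g * algebraMap R S f), (PrimeSpectrum.basicOpen _).isOpen,
      ?_, ?_⟩
    · change g * algebraMap R S f ∉ q.asIdeal
      intro h
      rcases q.isPrime.mem_or_mem h with h | h
      · exact hgq h
      · exact hfp h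
    · rintro q' ⟨hq'W, hq'cl⟩
      rw [PrimeSpectrum.closure_singleton, PrimeSpectrum.mem_zeroLocus] at hq'cl
      have hgq' : g ∈ q'.asIdeal.primeCompl := fun h => hq'W (Ideal.mul_mem_right _ _ h)
      have hfq' : algebraMap R S f ∈ q'.asIdeal.primeCompl :=
        fun h => hq'W (Ideal.mul_mem_left _ _ h)
      apply flat_localizedModule_of_torsion q'.asIdeal p
      · rw [Ideal.map_le_iff_le_comap]
        exact Ideal.comap_mono hq'cl
      · intro z hz
        exact ⟨g, hgq', hg z hz⟩
      · intro K z hz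
        obtain ⟨n, hn⟩ := hf K z hz
        exact ⟨(algebraMap R S f) ^ n, q'.asIdeal.primeCompl.pow_mem hfq' n, by
          rw [← map_pow, algebraMap_smul]; exact hn⟩

end

end Groth.Agent.Lib.Helper3.FlatOpen
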