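import Mathlib
import Groth.Agent.Lib.Helper3FlatOpenNoeth
import Groth.Agent.Lib.Helper3FlatDescC
import Groth.Agent.Lib.Helper3FlatBC

set_option autoImplicit false
set_option linter.style.haveILetI false

universe u

namespace Groth.Agent.Lib.Helper3.FlatOpen

open TensorProduct MvPolynomial Groth.Agent.Lib.Helper3.FlatLoc Groth.Agent.Lib.Helper3.FlatDesc

attribute [local instance] MvPolynomial.algebraMvPolynomial

section D1

variable {Λ R : Type u} [CommRing Λ] [CommRing R] [Algebra Λ R]
  {σ ι κ : Type} [Finite σ] [Fintype ι] [DecidableEq ι] [Fintype κ]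
  (w : κ → ι → MvPolynomial σ Λ)

/-- Flatness at a point of the presented module passes from a subalgebra to `R`. -/
theorem flat_of_flat_subalgebra (A : Subalgebra Λ R) (Q : Ideal (MvPolynomial σ R)) [Q.IsPrime]
    (h : Module.Flat A (LocalizedModule
      (Q.comap (algebraMap (MvPolynomial σ A) (MvPolynomial σ R))).primeCompl
      ((ι → MvPolynomial σ A) ⧸ KT w (MvPolynomial σ A)))) :
    Module.Flat R (LocalizedModule Q.primeCompl
      ((ι → MvPolynomial σ R) ⧸ KT w (MvPolynomial σ R))) := by
  haveI := isScalarTower_mvPolynomial (σ := σ) Λ A R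
  have hb : IsBaseChange R ((Mmap w (MvPolynomial σ A) (MvPolynomial σ R)).restrictScalars A) :=
    isBaseChange_restrictScalars_of_isPushout _ (isBaseChange_Mmap w _ _)
  exact flat_localizedModule_of_isBaseChange (Mmap w (MvPolynomial σ A) (MvPolynomial σ R)) hb
    _ _ (fun s hs => hs) h

/-- Openness of the flat locus for presented modules over polynomial rings. -/
theorem isOpen_flatLocus_model [IsNoetherianRing Λ] :
    IsOpen {q : PrimeSpectrum (MvPolynomial σ R) | Module.Flat R
      (LocalizedModule q.asIdeal.primeCompl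
        ((ι → MvPolynomial σ R) ⧸ KT w (MvPolynomial σ R)))} := by
  rw [isOpen_iff_forall_mem_open]
  intro q hq
  obtain ⟨A, hAfg, -, hA⟩ := exists_fg_subalgebra_flat w q.asIdeal hq ∅
  haveI : Algebra.FiniteType Λ A := (Subalgebra.fg_iff_finiteType A).mp hAfg
  haveI : IsNoetherianRing A := Algebra.FiniteType.isNoetherianRing Λ A
  have hopen := isOpen_flatLocus_of_isNoetherianRing (R := A) (S := MvPolynomial σ A)
    (M := (ι → MvPolynomial σ A) ⧸ KT w (MvPolynomial σ A))
  refine ⟨PrimeSpectrum.comap (algebraMap (MvPolynomial σ A) (MvPolynomial σ R)) ⁻¹' _, ?_,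
    hopen.preimage (PrimeSpectrum.continuous_comap _), hA⟩
  intro Q hQ
  exact flat_of_flat_subalgebra w A Q.asIdeal hQ

end D1

section D2

theorem flat_localizedModule_of_linearEquiv {R S M M' : Type*} [CommRing R] [CommRing S]
    [Algebra R S] [AddCommGroup M] [Module R M] [Module S M] [IsScalarTower R S M]
    [AddCommGroup M'] [Module R M'] [Module S M'] [IsScalarTower R S M'] (e : M ≃ₗ[S] M')
    (T : Submonoid S) (h : Module.Flat R (LocalizedModule T M)) :
    Module.Flat R (LocalizedModule T M') := by
  rw [flat_localizedModule_iff'] at h ⊢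
  intro I z' hz'
  let eR : M ≃ₗ[R] M' := e.restrictScalars R
  obtain ⟨z, rfl⟩ : ∃ z, eR.toLinearMap.rTensor I z = z' :=
    ⟨eR.symm.toLinearMap.rTensor I z', by
      rw [← LinearMap.comp_apply, ← LinearMap.rTensor_comp]
      simp⟩
  have hz : I.subtype.lTensor M z = 0 := by
    have h1 : eR.toLinearMap.rTensor R (I.subtype.lTensor M z) = 0 := by
      rw [← LinearMap.comp_apply, LinearMap.rTensor_comp_lTensor, ← LinearMap.lTensor_comp_rTensor,
        LinearMap.comp_apply, hz']
    have hinj : Function.Injective (eR.toLinearMap.rTensor R) := by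
      have : eR.toLinearMap.rTensor R = (TensorProduct.congr eR (LinearEquiv.refl R R)).toLinearMap := by
        ext; simp
      rw [this]
      exact LinearEquiv.injective _
    exact hinj (by rw [h1, map_zero])
  obtain ⟨s, hs, hsz⟩ := h I z hz
  refine ⟨s, hs, ?_⟩
  have comp : ∀ z : M ⊗[R] I, eR.toLinearMap.rTensor I (s • z) =
      s • eR.toLinearMap.rTensor I z := by
    intro z
    induction z with
    | zero => simp
    | add a b ha hb => simp only [smul_add, map_add, ha, hb]
    | tmul m i =>
      rw [smul_tmul', LinearMap.rTensor_tmul, LinearMap.rTensor_tmul, smul_tmul']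
      congr 1
      exact map_smul e s m
  rw [← comp, hsz, map_zero]

/-- Openness of the flat locus for finitely presented modules over polynomial rings. -/
theorem isOpen_flatLocus_mvPolynomial {R : Type u} [CommRing R] {n : ℕ} {M : Type u}
    [AddCommGroup M] [Module (MvPolynomial (Fin n) R) M] [Module R M]
    [IsScalarTower R (MvPolynomial (Fin n) R) M]
    [Module.FinitePresentation (MvPolynomial (Fin n) R) M] :
    IsOpen {q : PrimeSpectrum (MvPolynomial (Fin n) R) |
      Module.Flat R (LocalizedModule q.asIdeal.primeCompl M)} := by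
  classical
  obtain ⟨k, m, π, g, hπ, hex⟩ :=
    Module.FinitePresentation.exists_fin' (MvPolynomial (Fin n) R) M
  let v : Fin m → Fin k → MvPolynomial (Fin n) R := fun j => g (Pi.single j 1)
  let cs : Finset R := Finset.univ.biUnion fun j => Finset.univ.biUnion fun i => (v j i).coeffs
  let Λ : Subalgebra ℤ R := Algebra.adjoin ℤ (cs : Set R)
  haveI : Algebra.FiniteType ℤ Λ :=
    (Subalgebra.fg_iff_finiteType Λ).mp (Subalgebra.fg_adjoin_finset cs)
  haveI : IsNoetherianRing Λ := Algebra.FiniteType.isNoetherianRing ℤ Λ
  have hw : ∀ j i, ∃ f : MvPolynomial (Fin n) Λ,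
      MvPolynomial.map (algebraMap Λ R) f = v j i := by
    intro j i
    apply MvPolynomial.mem_range_map_iff_coeffs_subset.mpr
    intro c hc
    refine ⟨⟨c, Algebra.subset_adjoin ?_⟩, rfl⟩
    exact Finset.mem_biUnion.mpr ⟨j, Finset.mem_univ j,
      Finset.mem_biUnion.mpr ⟨i, Finset.mem_univ i, hc⟩⟩
  choose w hw using hw
  have hwT : wT w (MvPolynomial (Fin n) R) = v := by
    ext j i : 2
    exact hw j i
  have hg : WT w (MvPolynomial (Fin n) R) = g := by
    apply LinearMap.ext
    intro a
    rw [WT_apply, hwT, LinearMap.pi_apply_eq_sum_univ g a]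
    refine Finset.sum_congr rfl fun j _ => ?_
    have hsingle : (Pi.single j 1 : Fin m → MvPolynomial (Fin n) R) =
        fun j' => if j = j' then 1 else 0 := by
      funext j'
      simp [Pi.single_apply, eq_comm]
    change a j • g (Pi.single j 1) = _
    rw [hsingle]
  have hK : KT w (MvPolynomial (Fin n) R) = LinearMap.ker π := by
    rw [KT, hg]
    exact (LinearMap.exact_iff.mp hex).symm
  let e : ((Fin k → MvPolynomial (Fin n) R) ⧸ KT w (MvPolynomial (Fin n) R)) ≃ₗ[
      MvPolynomial (Fin n) R] M :=
    (Submodule.quotEquivOfEq _ _ hK) ≪≫ₗ (LinearMap.quotKerEquivOfSurjective π hπ)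
  have := isOpen_flatLocus_model (R := R) w
  convert this using 2
  ext q
  exact ⟨flat_localizedModule_of_linearEquiv e.symm _, flat_localizedModule_of_linearEquiv e _⟩

end D2

section D3

/-- Flatness at a prime of a quotient ring can be tested over the covering ring. -/
theorem flat_localizedModule_comap_iff {R P S M : Type*} [CommRing R] [CommRing P] [CommRing S]
    [Algebra R P] [Algebra R S] [Algebra P S] [AddCommGroup M] [Module R M]
    [Module P M] [Module S M] [IsScalarTower R S M] [IsScalarTower R P M] [IsScalarTower P S M]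
    (hsurj : Function.Surjective (algebraMap P S)) (q : Ideal S) [q.IsPrime] :
    Module.Flat R (LocalizedModule (q.comap (algebraMap P S)).primeCompl M) ↔
      Module.Flat R (LocalizedModule q.primeCompl M) := by
  rw [flat_localizedModule_iff', flat_localizedModule_iff']
  have key : ∀ (I : Ideal R) (p : P) (z : M ⊗[R] I), p • z = algebraMap P S p • z := by
    intro I p z
    induction z with
    | zero => simp
    | add a b ha hb => simp only [smul_add, ha, hb]
    | tmul m i => rw [smul_tmul', smul_tmul', algebraMap_smul]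
  constructor
  · intro h I z hz
    obtain ⟨s, hs, hsz⟩ := h I z hz
    exact ⟨algebraMap P S s, hs, by rw [← key, hsz]⟩
  · intro h I z hz
    obtain ⟨s, hs, hsz⟩ := h I z hz
    obtain ⟨p, rfl⟩ := hsurj s
    exact ⟨p, hs, by rw [key, hsz]⟩

/-- Openness of the flat locus, finitely presented case. -/
theorem isOpen_flatLocus_of_finitePresentation {R S M : Type u} [CommRing R] [CommRing S]
    [Algebra R S] [Algebra.FinitePresentation R S] [AddCommGroup M] [Module S M] [Module R M]
    [IsScalarTower R S M] [Module.FinitePresentation S M] :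
    IsOpen {q : PrimeSpectrum S | Module.Flat R (LocalizedModule q.asIdeal.primeCompl M)} := by
  obtain ⟨n, f, hf, hker⟩ := Algebra.FinitePresentation.out (R := R) (A := S)
  letI : Algebra (MvPolynomial (Fin n) R) S := f.toRingHom.toAlgebra
  haveI : IsScalarTower R (MvPolynomial (Fin n) R) S :=
    .of_algebraMap_eq' f.comp_algebraMap.symm
  letI : Module (MvPolynomial (Fin n) R) M := Module.compHom M f.toRingHom
  haveI : IsScalarTower (MvPolynomial (Fin n) R) S M :=
    ⟨fun p s m => by
      change (f p * s) • m = f p • (s • m)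
      rw [mul_smul]⟩
  haveI : IsScalarTower R (MvPolynomial (Fin n) R) M :=
    ⟨fun r p m => by
      change f (r • p) • m = r • (f p • m)
      rw [map_smul, smul_assoc]⟩
  haveI : Module.FinitePresentation (MvPolynomial (Fin n) R) S :=
    Module.finitePresentation_of_surjective (Algebra.linearMap (MvPolynomial (Fin n) R) S) hf
      hker
  haveI : Module.FinitePresentation (MvPolynomial (Fin n) R) M :=
    Module.FinitePresentation.trans (MvPolynomial (Fin n) R) M S
  have hopen := isOpen_flatLocus_mvPolynomial (R := R) (n := n) (M := M)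
  have hcont := PrimeSpectrum.continuous_comap (algebraMap (MvPolynomial (Fin n) R) S)
  convert hopen.preimage hcont using 1
  ext q
  exact (flat_localizedModule_comap_iff (R := R) (P := MvPolynomial (Fin n) R) hf q.asIdeal).symm

end D3

end Groth.Agent.Lib.Helper3.FlatOpen
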