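import Mathlib
import Groth.Agent.Lib.Helper3FlatOpenFP

set_option autoImplicit false
set_option linter.style.haveILetI false

universe u

namespace Groth.Agent.Lib.Helper3.FlatOpen

open TensorProduct MvPolynomial Groth.Agent.Lib.Helper3.FlatLoc Groth.Agent.Lib.Helper3.FlatDesc

attribute [local instance] MvPolynomial.algebraMvPolynomial

section G1

variable {Λ : Type u} [CommRing Λ]
  {σ ι κ : Type} [Finite σ] [Fintype ι] [DecidableEq ι] [Fintype κ]
  (w : κ → ι → MvPolynomial σ Λ)

/-- Flatness at a point of the presented module passes along a base change `A → R`. -/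
theorem flat_model_of_algebra {A R : Type u} [CommRing A] [CommRing R] [Algebra Λ A] [Algebra Λ R]
    [Algebra A R] [IsScalarTower Λ A R] (Q : Ideal (MvPolynomial σ R)) [Q.IsPrime]
    (h : Module.Flat A (LocalizedModule
      (Q.comap (algebraMap (MvPolynomial σ A) (MvPolynomial σ R))).primeCompl
      ((ι → MvPolynomial σ A) ⧸ KT w (MvPolynomial σ A)))) :
    Module.Flat R (LocalizedModule Q.primeCompl
      ((ι → MvPolynomial σ R) ⧸ KT w (MvPolynomial σ R))) := by
  haveI := isScalarTower_mvPolynomial (σ := σ) Λ A R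
  have hb : IsBaseChange R ((Mmap w (MvPolynomial σ A) (MvPolynomial σ R)).restrictScalars A) :=
    isBaseChange_restrictScalars_of_isPushout _ (isBaseChange_Mmap w _ _)
  exact flat_localizedModule_of_isBaseChange (Mmap w (MvPolynomial σ A) (MvPolynomial σ R)) hb
    _ _ (fun s hs => hs) h

/-- Global flatness of the presented module is flatness at all primes of the polynomial ring. -/
theorem flat_model_iff_forall_prime {R : Type u} [CommRing R] [Algebra Λ R] :
    Module.Flat R ((ι → MvPolynomial σ R) ⧸ KT w (MvPolynomial σ R)) ↔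
      ∀ Q : PrimeSpectrum (MvPolynomial σ R), Module.Flat R (LocalizedModule Q.asIdeal.primeCompl
        ((ι → MvPolynomial σ R) ⧸ KT w (MvPolynomial σ R))) := by
  constructor
  · intro h Q
    exact flat_localizedModule_of_flat _
  · intro h
    refine Module.flat_of_isLocalized_maximal (MvPolynomial σ R) _
      (fun P _ => LocalizedModule P.primeCompl ((ι → MvPolynomial σ R) ⧸ KT w (MvPolynomial σ R)))
      (fun P _ => LocalizedModule.mkLinearMap P.primeCompl _) ?_
    intro P hP
    exact h ⟨P, hP.isPrime⟩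

variable {R : Type u} [CommRing R] [Algebra Λ R]

/-- The flat locus of the model over a subalgebra, pulled back to `Spec R[X]`. -/
def VA (A : Subalgebra Λ R) : Set (PrimeSpectrum (MvPolynomial σ R)) :=
  PrimeSpectrum.comap (algebraMap (MvPolynomial σ A) (MvPolynomial σ R)) ⁻¹'
    {q | Module.Flat A (LocalizedModule q.asIdeal.primeCompl
      ((ι → MvPolynomial σ A) ⧸ KT w (MvPolynomial σ A)))}

theorem isOpen_VA [IsNoetherianRing Λ] (A : Subalgebra Λ R) (hA : A.FG) : IsOpen (VA w A) := by
  haveI : Algebra.FiniteType Λ A := (Subalgebra.fg_iff_finiteType A).mp hA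
  haveI : IsNoetherianRing A := Algebra.FiniteType.isNoetherianRing Λ A
  have hopen := isOpen_flatLocus_of_isNoetherianRing (R := A) (S := MvPolynomial σ A)
    (M := (ι → MvPolynomial σ A) ⧸ KT w (MvPolynomial σ A))
  exact hopen.preimage (PrimeSpectrum.continuous_comap _)

theorem flat_model_of_le {A A' : Subalgebra Λ R} (hle : A ≤ A')
    (Q : Ideal (MvPolynomial σ A')) [Q.IsPrime]
    (h : letI := (Subalgebra.inclusion hle).toRingHom.toAlgebra
      Module.Flat A (LocalizedModule
      (Q.comap (algebraMap (MvPolynomial σ A) (MvPolynomial σ A'))).primeCompl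
      ((ι → MvPolynomial σ A) ⧸ KT w (MvPolynomial σ A)))) :
    Module.Flat A' (LocalizedModule Q.primeCompl
      ((ι → MvPolynomial σ A') ⧸ KT w (MvPolynomial σ A'))) := by
  letI := (Subalgebra.inclusion hle).toRingHom.toAlgebra
  haveI : IsScalarTower Λ A A' :=
    IsScalarTower.of_algebraMap_eq' (Subalgebra.inclusion hle).comp_algebraMap.symm
  exact flat_model_of_algebra w Q h

theorem VA_mono {A A' : Subalgebra Λ R} (hle : A ≤ A') : VA w A ⊆ VA w A' := by
  intro Q hQ
  letI := (Subalgebra.inclusion hle).toRingHom.toAlgebra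
  haveI : IsScalarTower Λ A A' :=
    IsScalarTower.of_algebraMap_eq' (Subalgebra.inclusion hle).comp_algebraMap.symm
  haveI : IsScalarTower A A' R := IsScalarTower.of_algebraMap_eq' rfl
  haveI := isScalarTower_mvPolynomial (σ := σ) A A' R
  change Module.Flat A' (LocalizedModule
    (Q.asIdeal.comap (algebraMap (MvPolynomial σ A') (MvPolynomial σ R))).primeCompl _)
  apply flat_model_of_algebra (A := A) w
  have : (Q.asIdeal.comap (algebraMap (MvPolynomial σ A') (MvPolynomial σ R))).comap
      (algebraMap (MvPolynomial σ A) (MvPolynomial σ A')) =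
      Q.asIdeal.comap (algebraMap (MvPolynomial σ A) (MvPolynomial σ R)) := by
    rw [Ideal.comap_comap, ← IsScalarTower.algebraMap_eq]
  refine flat_localizedModule_of_le
    (T := (Q.asIdeal.comap (algebraMap (MvPolynomial σ A) (MvPolynomial σ R))).primeCompl) ?_ hQ
  intro s hs hmem
  exact hs (this ▸ hmem)

theorem fg_finset_sup {α : Type*} (t : Finset α) (f : α → Subalgebra Λ R) (h : ∀ a, (f a).FG) :
    (t.sup f).FG := by
  classical
  induction t using Finset.induction_on with
  | empty => simpa using Subalgebra.fg_bot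
  | insert a t _ ih => rw [Finset.sup_insert]; exact (h a).sup ih

/-- Steps 1–2: a finitely generated subalgebra over which the model is flat at the images of all
primes of `R[X]`. -/
theorem exists_fg_subalgebra_VA_eq_univ [IsNoetherianRing Λ]
    (hflat : Module.Flat R ((ι → MvPolynomial σ R) ⧸ KT w (MvPolynomial σ R)))
    (extra : Finset R) :
    ∃ A : Subalgebra Λ R, A.FG ∧ (extra : Set R) ⊆ A ∧ ∀ Q, Q ∈ VA w A := by
  classical
  have h1 : ∀ Q : PrimeSpectrum (MvPolynomial σ R), ∃ A : Subalgebra Λ R, A.FG ∧ Q ∈ VA w A := by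
    intro Q
    obtain ⟨A, hAfg, -, hA⟩ :=
      exists_fg_subalgebra_flat w Q.asIdeal (flat_localizedModule_of_flat _) ∅
    exact ⟨A, hAfg, hA⟩
  choose AQ hAQfg hAQ using h1
  obtain ⟨t, ht⟩ := isCompact_univ.elim_finite_subcover (fun Q => VA w (AQ Q))
    (fun Q => isOpen_VA w _ (hAQfg Q)) (fun Q _ => Set.mem_iUnion.mpr ⟨Q, hAQ Q⟩)
  refine ⟨t.sup AQ ⊔ Algebra.adjoin Λ (extra : Set R),
    (fg_finset_sup t AQ hAQfg).sup (Subalgebra.fg_adjoin_finset extra), ?_, ?_⟩
  · intro x hx
    apply (le_sup_right : Algebra.adjoin Λ (extra : Set R) ≤ _)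
    exact Algebra.subset_adjoin hx
  · intro Q
    obtain ⟨Q', hQ't, hQ'⟩ : ∃ Q' ∈ t, Q ∈ VA w (AQ Q') := by
      simpa using ht (Set.mem_univ Q)
    exact VA_mono w (le_sup_of_le_left (Finset.le_sup hQ't)) hQ'

/-- Step 3: the ideal of the non-flat locus. -/
theorem exists_ideal_nonflat [IsNoetherianRing Λ] (A : Subalgebra Λ R) (hA : A.FG) :
    ∃ J : Ideal (MvPolynomial σ A), ∀ q : PrimeSpectrum (MvPolynomial σ A), J ≤ q.asIdeal ↔
      ¬ Module.Flat A (LocalizedModule q.asIdeal.primeCompl
        ((ι → MvPolynomial σ A) ⧸ KT w (MvPolynomial σ A))) := by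
  haveI : Algebra.FiniteType Λ A := (Subalgebra.fg_iff_finiteType A).mp hA
  haveI : IsNoetherianRing A := Algebra.FiniteType.isNoetherianRing Λ A
  have hopen := isOpen_flatLocus_of_isNoetherianRing (R := A) (S := MvPolynomial σ A)
    (M := (ι → MvPolynomial σ A) ⧸ KT w (MvPolynomial σ A))
  obtain ⟨J, hJ⟩ := (PrimeSpectrum.isClosed_iff_zeroLocus_ideal _).mp hopen.isClosed_compl
  refine ⟨J, fun q => ?_⟩
  have : q ∈ {q : PrimeSpectrum (MvPolynomial σ A) | Module.Flat A
      (LocalizedModule q.asIdeal.primeCompl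
        ((ι → MvPolynomial σ A) ⧸ KT w (MvPolynomial σ A)))}ᶜ ↔
      q ∈ PrimeSpectrum.zeroLocus (J : Set (MvPolynomial σ A)) := by rw [hJ]
  rw [PrimeSpectrum.mem_zeroLocus, SetLike.coe_subset_coe] at this
  exact this.symm

/-- Step 4: if `J R[X] = R[X]` then already `J A''[X] = A''[X]` for a larger finitely generated
subalgebra `A''`. -/
theorem exists_fg_map_eq_top (A : Subalgebra Λ R) (hA : A.FG) (J : Ideal (MvPolynomial σ A))
    (htop : J.map (algebraMap (MvPolynomial σ A) (MvPolynomial σ R)) = ⊤) :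
    ∃ (A'' : Subalgebra Λ R) (hle : A ≤ A''), A''.FG ∧
      J.map (MvPolynomial.map (Subalgebra.inclusion hle).toRingHom) = ⊤ := by
  classical
  set φ := algebraMap (MvPolynomial σ A) (MvPolynomial σ R) with hφ
  obtain ⟨s', hs'sub, hs'top⟩ := (Ideal.span_eq_top_iff_finite (φ '' J)).mp htop
  have h1mem : (1 : MvPolynomial σ R) ∈ Ideal.span (s' : Set (MvPolynomial σ R)) := by
    rw [hs'top]; trivial
  obtain ⟨c, -, hc⟩ := Submodule.mem_span_finset.mp h1mem
  have hjj : ∀ a : MvPolynomial σ R, ∃ j : MvPolynomial σ A, a ∈ s' → j ∈ J ∧ φ j = a := by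
    intro a
    by_cases ha : a ∈ s'
    · obtain ⟨j, hj, hja⟩ := hs'sub ha
      exact ⟨j, fun _ => ⟨hj, hja⟩⟩
    · exact ⟨0, fun h => absurd h ha⟩
  choose jj hjj using hjj
  let cs : Finset R := s'.biUnion fun a => (c a).coeffs
  let A'' : Subalgebra Λ R := A ⊔ Algebra.adjoin Λ (cs : Set R)
  have hA''fg : A''.FG := hA.sup (Subalgebra.fg_adjoin_finset cs)
  have hle : A ≤ A'' := le_sup_left
  have hcc : ∀ a, ∃ c'' : MvPolynomial σ A'', a ∈ s' →
      MvPolynomial.map (A''.val.toRingHom) c'' = c a := by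
    intro a
    by_cases ha : a ∈ s'
    · have : c a ∈ Set.range (MvPolynomial.map (A''.val.toRingHom)) := by
        apply MvPolynomial.mem_range_map_iff_coeffs_subset.mpr
        intro r hr
        refine ⟨⟨r, ?_⟩, rfl⟩
        apply (le_sup_right : Algebra.adjoin Λ (cs : Set R) ≤ A'')
        exact Algebra.subset_adjoin (Finset.mem_biUnion.mpr ⟨a, ha, hr⟩)
      obtain ⟨c'', hc''⟩ := this
      exact ⟨c'', fun _ => hc''⟩
    · exact ⟨0, fun h => absurd h ha⟩
  choose cc hcc using hcc
  refine ⟨A'', hle, hA''fg, ?_⟩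
  set ψ := MvPolynomial.map (σ := σ) (Subalgebra.inclusion hle).toRingHom with hψ
  set φ'' := MvPolynomial.map (σ := σ) (A''.val.toRingHom) with hφ''
  have hφψ : ∀ x, φ'' (ψ x) = φ x := by
    intro x
    rw [hφ'', hψ, MvPolynomial.map_map, hφ, MvPolynomial.algebraMap_def]
    rfl
  have hφ''inj : Function.Injective φ'' :=
    MvPolynomial.map_injective _ Subtype.val_injective
  rw [Ideal.eq_top_iff_one]
  have he : (∑ a ∈ s', cc a * ψ (jj a)) = 1 := by
    apply hφ''inj
    rw [map_sum, map_one, ← hc]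
    refine Finset.sum_congr rfl fun a ha => ?_
    rw [map_mul, hφψ, (hjj a ha).2, smul_eq_mul, hcc a ha]
  rw [← he]
  refine Ideal.sum_mem _ fun a ha => ?_
  exact Ideal.mul_mem_left _ _ (Ideal.mem_map_of_mem ψ (hjj a ha).1)

/-- **Global descent of flatness**: if the presented module over `R[X]` is `R`-flat, then the
presented module is already flat over some finitely generated `Λ`-subalgebra of `R`. -/
theorem exists_fg_subalgebra_flat_global [IsNoetherianRing Λ]
    (hflat : Module.Flat R ((ι → MvPolynomial σ R) ⧸ KT w (MvPolynomial σ R)))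
    (extra : Finset R) :
    ∃ A : Subalgebra Λ R, A.FG ∧ (extra : Set R) ⊆ A ∧
      Module.Flat A ((ι → MvPolynomial σ A) ⧸ KT w (MvPolynomial σ A)) := by
  obtain ⟨A', hA'fg, hextra, hA'all⟩ := exists_fg_subalgebra_VA_eq_univ w hflat extra
  obtain ⟨J, hJ'⟩ := exists_ideal_nonflat w A' hA'fg
  have htop : J.map (algebraMap (MvPolynomial σ A') (MvPolynomial σ R)) = ⊤ := by
    by_contra hne
    obtain ⟨m, hm, hle⟩ := Ideal.exists_le_maximal _ hne
    have hmem := hA'all ⟨m, hm.isPrime⟩
    exact (hJ' ⟨m.comap (algebraMap (MvPolynomial σ A') (MvPolynomial σ R)), inferInstance⟩).mp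
      (Ideal.map_le_iff_le_comap.mp hle) hmem
  obtain ⟨A'', hle, hA''fg, htop''⟩ := exists_fg_map_eq_top A' hA'fg J htop
  refine ⟨A'', hA''fg, hextra.trans hle, ?_⟩
  rw [flat_model_iff_forall_prime]
  intro Q''
  apply flat_model_of_le w hle Q''.asIdeal
  letI := (Subalgebra.inclusion hle).toRingHom.toAlgebra
  by_contra hnf
  have hJle := (hJ' ⟨Q''.asIdeal.comap (algebraMap (MvPolynomial σ A') (MvPolynomial σ A'')),
    inferInstance⟩).mpr hnf
  have : J.map (MvPolynomial.map (Subalgebra.inclusion hle).toRingHom) ≤ Q''.asIdeal :=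
    Ideal.map_le_iff_le_comap.mpr hJle
  rw [htop''] at this
  exact Q''.isPrime.ne_top (top_le_iff.mp this)

end G1

end Groth.Agent.Lib.Helper3.FlatOpen
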