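import Mathlib
import Groth.Agent.Lib.Helper3FlatDescD

set_option autoImplicit false
set_option linter.style.haveILetI false

universe u

namespace Groth.Agent.Lib.Helper3.FlatOpen

open TensorProduct MvPolynomial Groth.Agent.Lib.Helper3.FlatLoc Groth.Agent.Lib.Helper3.FlatDesc

section Lift

variable {Λ : Type*} [CommRing Λ] {ι : Type*} [Preorder ι]
  (G : ι → Type*) [∀ i, CommRing (G i)] [∀ i, Algebra Λ (G i)]
  (g : ∀ i j, i ≤ j → G i →ₐ[Λ] G j)
  (A : Type*) [CommRing A] [Algebra Λ A] [∀ i, Algebra (G i) A] [∀ i, IsScalarTower Λ (G i) A]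

/-- A finitely presented algebra mapping to a directed colimit lifts to a stage. -/
theorem exists_algHom_stage [IsDirected ι (· ≤ ·)] [Nonempty ι]
    (hcomp : ∀ i j k (hij : i ≤ j) (hjk : j ≤ k) (x : G i),
      g j k hjk (g i j hij x) = g i k (hij.trans hjk) x)
    (hcompat : ∀ i j (h : i ≤ j) (x : G i), algebraMap (G j) A (g i j h x) = algebraMap (G i) A x)
    (hsurj : ∀ a : A, ∃ i, ∃ x : G i, algebraMap (G i) A x = a)
    (hinj : ∀ i (x : G i), algebraMap (G i) A x = 0 → ∃ j, ∃ h : i ≤ j, g i j h x = 0)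
    (B : Type*) [CommRing B] [Algebra Λ B] [Algebra.FinitePresentation Λ B] (φ : B →ₐ[Λ] A) :
    ∃ i, ∃ ψ : B →ₐ[Λ] G i, ∀ b, algebraMap (G i) A (ψ b) = φ b := by
  classical
  obtain ⟨n, f, hf, hker⟩ := Algebra.FinitePresentation.out (R := Λ) (A := B)
  -- lift the images of the variables
  have h1 : ∀ j : Fin n, ∃ i, ∃ x : G i, algebraMap (G i) A x = φ (f (X j)) := fun j => hsurj _
  choose ij xj hxj using h1
  obtain ⟨i₀, hi₀⟩ := Finset.exists_le (Finset.univ.image ij)
  have hij : ∀ j, ij j ≤ i₀ := fun j => hi₀ _ (Finset.mem_image_of_mem _ (Finset.mem_univ j))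
  let y : Fin n → G i₀ := fun j => g (ij j) i₀ (hij j) (xj j)
  let ψ₀ : MvPolynomial (Fin n) Λ →ₐ[Λ] G i₀ := aeval y
  have hψ₀ : ∀ p, algebraMap (G i₀) A (ψ₀ p) = φ (f p) := by
    intro p
    have : (IsScalarTower.toAlgHom Λ (G i₀) A).comp ψ₀ = φ.comp f := by
      apply MvPolynomial.algHom_ext
      intro j
      simp only [AlgHom.comp_apply, IsScalarTower.coe_toAlgHom', ψ₀, aeval_X, y]
      rw [hcompat, hxj]
    exact congrArg (fun h => h p) this
  -- kill the relations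
  obtain ⟨S, hS⟩ := hker
  have h2 : ∀ r : MvPolynomial (Fin n) Λ, ∃ j, ∃ h : i₀ ≤ j, r ∈ S → g i₀ j h (ψ₀ r) = 0 := by
    intro r
    by_cases hr : r ∈ S
    · have hrk : f r = 0 := by
        have : r ∈ RingHom.ker f.toRingHom := hS ▸ Ideal.subset_span hr
        exact this
      obtain ⟨j, h, hj⟩ := hinj i₀ (ψ₀ r) (by rw [hψ₀, hrk, map_zero])
      exact ⟨j, h, fun _ => hj⟩
    · exact ⟨i₀, le_rfl, fun h => absurd h hr⟩
  choose jr hjr hjr0 using h2
  obtain ⟨i₁, hi₁⟩ := Finset.exists_le (S.image jr)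
  have hjr1 : ∀ r ∈ S, jr r ≤ i₁ := fun r hr => hi₁ _ (Finset.mem_image_of_mem _ hr)
  obtain ⟨i₂, hi₂a, hi₂b⟩ := exists_ge_ge i₀ i₁
  let ψ₁ : MvPolynomial (Fin n) Λ →ₐ[Λ] G i₂ := (g i₀ i₂ hi₂a).comp ψ₀
  have hkill : RingHom.ker f.toRingHom ≤ RingHom.ker ψ₁.toRingHom := by
    rw [← hS, Ideal.span_le]
    intro r hr
    change ψ₁ r = 0
    have : g i₀ i₂ hi₂a (ψ₀ r) = g (jr r) i₂ ((hjr1 r hr).trans hi₂b) (g i₀ (jr r) (hjr r) (ψ₀ r)) :=
      (hcomp _ _ _ _ _ _).symm
    change g i₀ i₂ hi₂a (ψ₀ r) = 0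
    rw [this, hjr0 r hr, map_zero]
  refine ⟨i₂, AlgHom.liftOfSurjective f hf ψ₁ hkill, fun b => ?_⟩
  obtain ⟨p, rfl⟩ := hf b
  rw [AlgHom.liftOfSurjective_apply]
  change algebraMap (G i₂) A (g i₀ i₂ hi₂a (ψ₀ p)) = _
  rw [hcompat, hψ₀]

end Lift

attribute [local instance] MvPolynomial.algebraMvPolynomial

section Trans

/-- A finitely presented module over a polynomial ring is a presented module with coefficients in
a finitely generated subring. -/
theorem exists_model_equiv {R : Type u} [CommRing R] {n : ℕ} {M : Type u}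
    [AddCommGroup M] [Module (MvPolynomial (Fin n) R) M]
    [Module.FinitePresentation (MvPolynomial (Fin n) R) M] :
    ∃ (k m : ℕ) (Λ : Subalgebra ℤ R) (_ : Λ.FG) (w : Fin m → Fin k → MvPolynomial (Fin n) Λ),
      Nonempty (((Fin k → MvPolynomial (Fin n) R) ⧸ KT w (MvPolynomial (Fin n) R)) ≃ₗ[
        MvPolynomial (Fin n) R] M) := by
  classical
  obtain ⟨k, m, π, g, hπ, hex⟩ :=
    Module.FinitePresentation.exists_fin' (MvPolynomial (Fin n) R) M
  let v : Fin m → Fin k → MvPolynomial (Fin n) R := fun j => g (Pi.single j 1)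
  let cs : Finset R := Finset.univ.biUnion fun j => Finset.univ.biUnion fun i => (v j i).coeffs
  let Λ : Subalgebra ℤ R := Algebra.adjoin ℤ (cs : Set R)
  have hw : ∀ j i, ∃ f : MvPolynomial (Fin n) Λ,
      MvPolynomial.map (algebraMap Λ R) f = v j i := by
    intro j i
    apply MvPolynomial.mem_range_map_iff_coeffs_subset.mpr
    intro c hc
    refine ⟨⟨c, Algebra.subset_adjoin ?_⟩, rfl⟩
    exact Finset.mem_biUnion.mpr ⟨j, Finset.mem_univ j,
      Finset.mem_biUnion.mpr ⟨i, Finset.mem_univ i, hc⟩⟩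
  choose w hw using hw
  have hwT : wT w (MvPolynomial (Fin n) R) = v := by
    ext j i : 2
    exact hw j i
  have hg : WT w (MvPolynomial (Fin n) R) = g := by
    apply LinearMap.ext
    intro a
    rw [WT_apply, hwT, LinearMap.pi_apply_eq_sum_univ g a]
    refine Finset.sum_congr rfl fun j _ => ?_
    have hsingle : (Pi.single j 1 : Fin m → MvPolynomial (Fin n) R) =
        fun j' => if j = j' then 1 else 0 := by
      funext j'
      simp [Pi.single_apply, eq_comm]
    change a j • g (Pi.single j 1) = _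
    rw [hsingle]
  have hK : KT w (MvPolynomial (Fin n) R) = LinearMap.ker π := by
    rw [KT, hg]
    exact (LinearMap.exact_iff.mp hex).symm
  exact ⟨k, m, Λ, Subalgebra.fg_adjoin_finset cs, w,
    ⟨(Submodule.quotEquivOfEq _ _ hK) ≪≫ₗ (LinearMap.quotKerEquivOfSurjective π hπ)⟩⟩

/-- Base change of a presented module is the presented module over the new base. -/
theorem nonempty_tensor_equiv_model {Λ A₀ T : Type*} [CommRing Λ] [CommRing A₀] [CommRing T]
    [Algebra Λ A₀] [Algebra Λ T] [Algebra A₀ T] [IsScalarTower Λ A₀ T]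
    {σ ι κ : Type*} [Finite ι] [Fintype κ] (w : κ → ι → MvPolynomial σ Λ)
    {M₀ : Type*} [AddCommGroup M₀] [Module (MvPolynomial σ A₀) M₀] [Module A₀ M₀]
    [IsScalarTower A₀ (MvPolynomial σ A₀) M₀]
    (e : ((ι → MvPolynomial σ A₀) ⧸ KT w (MvPolynomial σ A₀)) ≃ₗ[MvPolynomial σ A₀] M₀) :
    Nonempty ((T ⊗[A₀] M₀) ≃ₗ[T] ((ι → MvPolynomial σ T) ⧸ KT w (MvPolynomial σ T))) := by
  haveI := isScalarTower_mvPolynomial (σ := σ) Λ A₀ T
  have hb : IsBaseChange T ((Mmap w (MvPolynomial σ A₀) (MvPolynomial σ T)).restrictScalars A₀) :=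
    isBaseChange_restrictScalars_of_isPushout _ (isBaseChange_Mmap w _ _)
  let e₀ : M₀ ≃ₗ[A₀] ((ι → MvPolynomial σ A₀) ⧸ KT w (MvPolynomial σ A₀)) :=
    e.symm.restrictScalars A₀
  exact ⟨(TensorProduct.AlgebraTensorModule.congr (LinearEquiv.refl T T) e₀) ≪≫ₗ hb.equiv⟩

/-- A finitely presented module over a finitely presented algebra, after base change to any
algebra over the base ring, is a presented module over a polynomial ring. -/
theorem exists_model_tensor (A₀ B₀ M₀ : Type u) [CommRing A₀] [CommRing B₀] [Algebra A₀ B₀]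
    [Algebra.FinitePresentation A₀ B₀] [AddCommGroup M₀] [Module B₀ M₀] [Module A₀ M₀]
    [IsScalarTower A₀ B₀ M₀] [Module.FinitePresentation B₀ M₀] :
    ∃ (n k m : ℕ) (Λ : Subalgebra ℤ A₀) (_ : Λ.FG) (w : Fin m → Fin k → MvPolynomial (Fin n) Λ),
      ∀ (T : Type u) [CommRing T] [Algebra A₀ T], Nonempty ((T ⊗[A₀] M₀) ≃ₗ[T]
        ((Fin k → MvPolynomial (Fin n) T) ⧸ KT w (MvPolynomial (Fin n) T))) := by
  obtain ⟨n, f, hf, hker⟩ := Algebra.FinitePresentation.out (R := A₀) (A := B₀)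
  letI : Algebra (MvPolynomial (Fin n) A₀) B₀ := f.toRingHom.toAlgebra
  haveI : IsScalarTower A₀ (MvPolynomial (Fin n) A₀) B₀ :=
    .of_algebraMap_eq' f.comp_algebraMap.symm
  letI : Module (MvPolynomial (Fin n) A₀) M₀ := Module.compHom M₀ f.toRingHom
  haveI : IsScalarTower (MvPolynomial (Fin n) A₀) B₀ M₀ :=
    ⟨fun p s m => by
      change (f p * s) • m = f p • (s • m)
      rw [mul_smul]⟩
  haveI : IsScalarTower A₀ (MvPolynomial (Fin n) A₀) M₀ :=
    ⟨fun r p m => by
      change f (r • p) • m = r • (f p • m)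
      rw [map_smul, smul_assoc]⟩
  haveI : Module.FinitePresentation (MvPolynomial (Fin n) A₀) B₀ :=
    Module.finitePresentation_of_surjective (Algebra.linearMap (MvPolynomial (Fin n) A₀) B₀) hf
      hker
  haveI : Module.FinitePresentation (MvPolynomial (Fin n) A₀) M₀ :=
    Module.FinitePresentation.trans (MvPolynomial (Fin n) A₀) M₀ B₀
  obtain ⟨k, m, Λ, hΛ, w, ⟨e⟩⟩ := exists_model_equiv (R := A₀) (n := n) (M := M₀)
  refine ⟨n, k, m, Λ, hΛ, w, fun T _ _ => ?_⟩
  exact nonempty_tensor_equiv_model w e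

end Trans

section Final

variable {Λ : Type u} [CommRing Λ]
  {σ ι κ : Type} [Finite σ] [Fintype ι] [DecidableEq ι] [Fintype κ]
  (w : κ → ι → MvPolynomial σ Λ)

/-- Flatness of the presented module passes along an algebra homomorphism. -/
theorem flat_model_of_algHom {A R : Type u} [CommRing A] [CommRing R] [Algebra Λ A] [Algebra Λ R]
    (ψ : A →ₐ[Λ] R)
    (h : Module.Flat A ((ι → MvPolynomial σ A) ⧸ KT w (MvPolynomial σ A))) :
    Module.Flat R ((ι → MvPolynomial σ R) ⧸ KT w (MvPolynomial σ R)) := by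
  letI := ψ.toRingHom.toAlgebra
  haveI : IsScalarTower Λ A R := IsScalarTower.of_algebraMap_eq' ψ.comp_algebraMap.symm
  haveI := isScalarTower_mvPolynomial (σ := σ) Λ A R
  have hb : IsBaseChange R ((Mmap w (MvPolynomial σ A) (MvPolynomial σ R)).restrictScalars A) :=
    isBaseChange_restrictScalars_of_isPushout _ (isBaseChange_Mmap w _ _)
  exact Module.Flat.isBaseChange A R _ _ hb

end Final

end Groth.Agent.Lib.Helper3.FlatOpen
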