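import Mathlib
import Groth.Agent.Lib.Helper3FlatDescE

set_option autoImplicit false
set_option linter.style.haveILetI false
universe u
open CategoryTheory Limits TensorProduct

namespace Groth.Agent.Lib.Helper26.FlatStage

open Groth.Agent.Lib.Helper3.FlatOpen Groth.Agent.Lib.Helper3.FlatDesc

attribute [local instance] MvPolynomial.algebraMvPolynomial

/-- Flatness of the pushout leg in terms of the tensor product. -/
theorem flat_iff_of_isPushout {R S T P : CommRingCat.{u}} {f : R ⟶ S} {g : R ⟶ T}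
    {inl : S ⟶ P} {inr : T ⟶ P} (h : IsPushout f g inl inr) :
    inr.hom.Flat ↔ (letI := f.hom.toAlgebra; letI := g.hom.toAlgebra; Module.Flat T (T ⊗[R] S)) := by
  algebraize [f.hom, g.hom, inl.hom, inr.hom, inl.hom.comp f.hom]
  have : IsScalarTower R T P := .of_algebraMap_eq' <| congr($(h.1.1).hom)
  have h1 : Algebra.IsPushout R S T P := CommRingCat.isPushout_iff_isPushout.mp h
  have h2 : Algebra.IsPushout R T S P := h1.symm
  have e : T ⊗[R] S ≃ₗ[T] P := h2.out.equiv
  show Module.Flat T P ↔ _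
  exact ⟨fun _ => Module.Flat.of_linearEquiv e, fun _ => Module.Flat.of_linearEquiv e.symm⟩


/-- Core: flatness of `A ⊗ B₀` over the filtered colimit `A` descends to a stage. -/
theorem exists_flat_stage_aux {A₀ B₀ : Type u} [CommRing A₀] [CommRing B₀] [Algebra A₀ B₀]
    [Algebra.FinitePresentation A₀ B₀]
    {J : Type u} [SmallCategory J] [IsFiltered J] (F : J ⥤ CommRingCat.{u}) (cF : Cocone F)
    (hcF : IsColimit cF)
    (α : (Functor.const J).obj (CommRingCat.of A₀) ⟶ F) (a : CommRingCat.of A₀ ⟶ cF.pt)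
    (ha : ∀ j, α.app j ≫ cF.ι.app j = a)
    (hflat : letI : Algebra A₀ cF.pt := a.hom.toAlgebra; Module.Flat cF.pt (cF.pt ⊗[A₀] B₀)) :
    ∃ j, letI : Algebra A₀ (F.obj j) := RingHom.toAlgebra (R := A₀) (α.app j).hom
      Module.Flat (F.obj j) (F.obj j ⊗[A₀] B₀) := by
  letI algA : Algebra A₀ cF.pt := a.hom.toAlgebra
  obtain ⟨n, k, m, Λ, hΛ, w, hT⟩ := exists_model_tensor A₀ B₀ B₀
  haveI : Algebra.FiniteType ℤ Λ := (Subalgebra.fg_iff_finiteType Λ).mp hΛ
  haveI : IsNoetherianRing Λ := Algebra.FiniteType.isNoetherianRing ℤ Λ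
  obtain ⟨eA⟩ := hT cF.pt
  have hflat' : Module.Flat cF.pt ((Fin k → MvPolynomial (Fin n) cF.pt) ⧸
      KT w (MvPolynomial (Fin n) cF.pt)) := Module.Flat.of_linearEquiv eA.symm
  obtain ⟨A'', hA''fg, -, hA''flat⟩ := exists_fg_subalgebra_flat_global w hflat' ∅
  haveI : Algebra.FiniteType Λ A'' := (Subalgebra.fg_iff_finiteType A'').mp hA''fg
  haveI : Algebra.FinitePresentation Λ A'' :=
    Algebra.FinitePresentation.of_finiteType.mp inferInstance
  let α' : (Functor.const J).obj (CommRingCat.of Λ) ⟶ F :=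
    (Functor.const J).map (CommRingCat.ofHom (algebraMap Λ A₀)) ≫ α
  have hfp : (CommRingCat.ofHom (algebraMap Λ A'')).hom.FinitePresentation := by
    rw [CommRingCat.hom_ofHom, RingHom.finitePresentation_algebraMap]
    infer_instance
  obtain ⟨j, g', hg', hg''⟩ := RingHom.EssFiniteType.exists_eq_comp_ι_app_of_isColimit
    (CommRingCat.of Λ) F α' (CommRingCat.ofHom (algebraMap Λ A'')) cF hcF hfp
    (CommRingCat.ofHom A''.val.toRingHom) (fun i => by
      ext x
      have := congr($(ha i).hom (algebraMap Λ A₀ x))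
      exact this.symm)
  refine ⟨j, ?_⟩
  letI algj : Algebra A₀ (F.obj j) := RingHom.toAlgebra (R := A₀) (α.app j).hom
  let ψ : A'' →ₐ[Λ] F.obj j :=
    { g'.hom with
      commutes' := fun r => by
        have := congr($(hg').hom r)
        exact this }
  obtain ⟨eG⟩ := hT (F.obj j)
  have := flat_model_of_algHom w ψ hA''flat
  exact Module.Flat.of_linearEquiv eG

/-- Flatness descends to a stage of a filtered colimit of rings (pushout form). -/
theorem exists_flat_stage {J : Type u} [SmallCategory J] [IsFiltered J] (F : J ⥤ CommRingCat.{u})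
    (cF : Cocone F) (hcF : IsColimit cF) {A₀ B₀ : CommRingCat.{u}} (φ₀ : A₀ ⟶ B₀)
    (hφ₀ : φ₀.hom.FinitePresentation) (α : (Functor.const J).obj A₀ ⟶ F) (a : A₀ ⟶ cF.pt)
    (ha : ∀ j, α.app j ≫ cF.ι.app j = a)
    {B : CommRingCat.{u}} (β : B₀ ⟶ B) (φ : cF.pt ⟶ B) (hpo : IsPushout φ₀ a β φ)
    (hflat : φ.hom.Flat) :
    ∃ j : J, ∀ {Bj : CommRingCat.{u}} (βj : B₀ ⟶ Bj) (φj : F.obj j ⟶ Bj),
      IsPushout φ₀ (α.app j) βj φj → φj.hom.Flat := by
  letI : Algebra A₀ B₀ := φ₀.hom.toAlgebra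
  haveI : Algebra.FinitePresentation A₀ B₀ := hφ₀
  have h1 := (flat_iff_of_isPushout hpo).mp hflat
  obtain ⟨j, hj⟩ := exists_flat_stage_aux (A₀ := A₀) (B₀ := B₀) F cF hcF α a ha h1
  exact ⟨j, fun βj φj hpoj => (flat_iff_of_isPushout hpoj).mpr hj⟩

end Groth.Agent.Lib.Helper26.FlatStage
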