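import Mathlib

/-!
Base change of a cofiltered limit of schemes: if `S = lim S_j` and `X = X_i ×_{S_i} S`, then
`X = lim_{j → i} X_i ×_{S_i} S_j`.
-/

universe u

namespace Groth.Agent.Lib.Helper22.LimBC

open CategoryTheory CategoryTheory.Limits AlgebraicGeometry

variable {I : Type u} [Category.{u} I] (D : I ⥤ Scheme.{u}) (c : Cone D)

section defs

variable (i : I) {Xi : Scheme.{u}} (xi : Xi ⟶ D.obj i)

/-- `X_i ×_{S_i} S_j`. -/
noncomputable def bcObj (j : Over i) : Scheme.{u} := pullback xi (D.map j.hom)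

/-- first projection. -/
noncomputable def bcFst (j : Over i) : bcObj D i xi j ⟶ Xi := pullback.fst xi (D.map j.hom)

/-- second projection. -/
noncomputable def bcSnd (j : Over i) : bcObj D i xi j ⟶ D.obj j.left :=
  pullback.snd xi (D.map j.hom)

lemma bc_condition (j : Over i) : bcFst D i xi j ≫ xi = bcSnd D i xi j ≫ D.map j.hom :=
  pullback.condition

lemma isPullback_bc (j : Over i) : IsPullback (bcFst D i xi j) (bcSnd D i xi j) xi (D.map j.hom) :=
  IsPullback.of_hasPullback _ _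

variable {D i xi} in
/-- lift. -/
noncomputable def bcLift {Z : Scheme.{u}} (j : Over i) (a : Z ⟶ Xi) (b : Z ⟶ D.obj j.left)
    (h : a ≫ xi = b ≫ D.map j.hom) : Z ⟶ bcObj D i xi j := pullback.lift a b h

variable {D i xi} in
@[reassoc]
lemma bcLift_fst {Z : Scheme.{u}} (j : Over i) (a : Z ⟶ Xi) (b : Z ⟶ D.obj j.left)
    (h : a ≫ xi = b ≫ D.map j.hom) : bcLift j a b h ≫ bcFst D i xi j = a :=
  pullback.lift_fst _ _ _

variable {D i xi} in
@[reassoc]
lemma bcLift_snd {Z : Scheme.{u}} (j : Over i) (a : Z ⟶ Xi) (b : Z ⟶ D.obj j.left)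
    (h : a ≫ xi = b ≫ D.map j.hom) : bcLift j a b h ≫ bcSnd D i xi j = b :=
  pullback.lift_snd _ _ _

variable {D i xi} in
lemma bc_hom_ext {Z : Scheme.{u}} {j : Over i} {f g : Z ⟶ bcObj D i xi j}
    (h1 : f ≫ bcFst D i xi j = g ≫ bcFst D i xi j)
    (h2 : f ≫ bcSnd D i xi j = g ≫ bcSnd D i xi j) : f = g :=
  pullback.hom_ext h1 h2

/-- the diagram `j ↦ X_i ×_{S_i} S_j` over `Over i`. -/
noncomputable def bcDiagram : Over i ⥤ Scheme.{u} where
  obj j := bcObj D i xi j
  map {j k} f := bcLift k (bcFst D i xi j) (bcSnd D i xi j ≫ D.map f.left)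
    (by rw [Category.assoc, ← D.map_comp, Over.w f, bc_condition])
  map_id j := by
    apply bc_hom_ext
    · rw [bcLift_fst, Category.id_comp]
    · rw [bcLift_snd, Category.id_comp, Over.id_left, D.map_id, Category.comp_id]
  map_comp {j k l} f g := by
    apply bc_hom_ext
    · rw [bcLift_fst, Category.assoc, bcLift_fst, bcLift_fst]
    · rw [bcLift_snd, Category.assoc, bcLift_snd, bcLift_snd_assoc,
        Over.comp_left, D.map_comp, Category.assoc]

/-- first projection from the diagram. -/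
noncomputable def dFst (j : Over i) : (bcDiagram D i xi).obj j ⟶ Xi := bcFst D i xi j

/-- second projection from the diagram. -/
noncomputable def dSnd (j : Over i) : (bcDiagram D i xi).obj j ⟶ D.obj j.left := bcSnd D i xi j

lemma d_condition (j : Over i) : dFst D i xi j ≫ xi = dSnd D i xi j ≫ D.map j.hom :=
  pullback.condition

lemma isPullback_d (j : Over i) : IsPullback (dFst D i xi j) (dSnd D i xi j) xi (D.map j.hom) :=
  IsPullback.of_hasPullback _ _

variable {D i xi} in
/-- lift into the diagram. -/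
noncomputable def dLift {Z : Scheme.{u}} (j : Over i) (a : Z ⟶ Xi) (b : Z ⟶ D.obj j.left)
    (h : a ≫ xi = b ≫ D.map j.hom) : Z ⟶ (bcDiagram D i xi).obj j := pullback.lift a b h

variable {D i xi} in
@[reassoc]
lemma dLift_fst {Z : Scheme.{u}} (j : Over i) (a : Z ⟶ Xi) (b : Z ⟶ D.obj j.left)
    (h : a ≫ xi = b ≫ D.map j.hom) : dLift j a b h ≫ dFst D i xi j = a :=
  pullback.lift_fst _ _ _

variable {D i xi} in
@[reassoc]
lemma dLift_snd {Z : Scheme.{u}} (j : Over i) (a : Z ⟶ Xi) (b : Z ⟶ D.obj j.left)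
    (h : a ≫ xi = b ≫ D.map j.hom) : dLift j a b h ≫ dSnd D i xi j = b :=
  pullback.lift_snd _ _ _

variable {D i xi} in
lemma d_hom_ext {Z : Scheme.{u}} {j : Over i} {f g : Z ⟶ (bcDiagram D i xi).obj j}
    (h1 : f ≫ dFst D i xi j = g ≫ dFst D i xi j)
    (h2 : f ≫ dSnd D i xi j = g ≫ dSnd D i xi j) : f = g :=
  pullback.hom_ext h1 h2

@[reassoc]
lemma map_dFst {j k : Over i} (f : j ⟶ k) :
    (bcDiagram D i xi).map f ≫ dFst D i xi k = dFst D i xi j :=
  pullback.lift_fst _ _ _

@[reassoc]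
lemma map_dSnd {j k : Over i} (f : j ⟶ k) :
    (bcDiagram D i xi).map f ≫ dSnd D i xi k = dSnd D i xi j ≫ D.map f.left :=
  pullback.lift_snd _ _ _

/-- the projection to the original diagram. -/
noncomputable def bcDiagramι : bcDiagram D i xi ⟶ Over.forget i ⋙ D where
  app j := dSnd D i xi j
  naturality j k f := map_dSnd D i xi f

end defs

variable {D c}

section cone

variable (i : I) {Xi P : Scheme.{u}} {xi : Xi ⟶ D.obj i} {qX : P ⟶ Xi}
    {pX : P ⟶ c.pt} (hP : IsPullback qX pX xi (c.π.app i))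

/-- the projection `X ⟶ X_i ×_{S_i} S_j`. -/
noncomputable def bcπ (j : Over i) : P ⟶ (bcDiagram D i xi).obj j :=
  dLift j qX (pX ≫ c.π.app j.left) (by rw [hP.w, Category.assoc, c.w])

@[reassoc]
lemma bcπ_fst (j : Over i) : bcπ i hP j ≫ dFst D i xi j = qX :=
  pullback.lift_fst _ _ _

@[reassoc]
lemma bcπ_snd (j : Over i) : bcπ i hP j ≫ dSnd D i xi j = pX ≫ c.π.app j.left :=
  pullback.lift_snd _ _ _

@[reassoc]
lemma bcπ_map {j k : Over i} (f : j ⟶ k) :
    bcπ i hP j ≫ (bcDiagram D i xi).map f = bcπ i hP k := by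
  apply d_hom_ext
  · rw [Category.assoc, map_dFst, bcπ_fst, bcπ_fst]
  · rw [Category.assoc, map_dSnd, bcπ_snd_assoc, bcπ_snd, c.w]

/-- the cone with apex a pullback `X = X_i ×_{S_i} S`. -/
noncomputable def bcCone : Cone (bcDiagram D i xi) where
  pt := P
  π :=
    { app j := bcπ i hP j
      naturality j k f := by
        show 𝟙 P ≫ bcπ i hP k = bcπ i hP j ≫ (bcDiagram D i xi).map f
        rw [Category.id_comp, bcπ_map] }

@[simp]
lemma bcCone_pt : (bcCone i hP).pt = P := rfl

@[simp]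
lemma bcCone_π_app (j : Over i) : (bcCone i hP).π.app j = bcπ i hP j := rfl

/-- the projection `X ⟶ X_j` is the base change of `S ⟶ S_j`. -/
lemma isPullback_bcπ (j : Over i) :
    IsPullback (bcπ i hP j) pX (dSnd D i xi j) (c.π.app j.left) := by
  have e1 : bcπ i hP j ≫ dFst D i xi j = qX := bcπ_fst i hP j
  have e2 : c.π.app j.left ≫ D.map j.hom = c.π.app i := c.w j.hom
  have s : IsPullback pX (bcπ i hP j ≫ dFst D i xi j)
      (c.π.app j.left ≫ D.map j.hom) xi := by
    rw [e1, e2]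
    exact hP.flip
  exact (IsPullback.of_bot s (bcπ_snd i hP j).symm (isPullback_d D i xi j).flip).flip

attribute [local instance] CategoryTheory.isConnected_of_hasTerminal

/-- `X = X_i ×_{S_i} S` is the limit of the `X_i ×_{S_i} S_j`. -/
noncomputable def isLimitBcCone [IsCofiltered I] (hc : IsLimit c) : IsLimit (bcCone i hP) :=
  isLimitOfIsPullbackOfIsConnected (bcDiagramι D i xi) (bcCone i hP) (c.whisker (Over.forget i))
    { hom := pX
      w := fun j => (bcπ_snd i hP j).symm }
    (fun j => isPullback_bcπ i hP j)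
    ((Functor.Initial.isLimitWhiskerEquiv (Over.forget i) c).symm hc)

end cone

set_option backward.isDefEq.respectTransparency.types false in
instance (i : I) {Xi : Scheme.{u}} (xi : Xi ⟶ D.obj i) [∀ {i j} (f : i ⟶ j), IsAffineHom (D.map f)]
    (j : Over i) : IsAffineHom (dFst D i xi j) :=
  MorphismProperty.pullback_fst (P := @IsAffineHom) xi (D.map j.hom) inferInstance

instance (i : I) {Xi : Scheme.{u}} (xi : Xi ⟶ D.obj i) [∀ {i j} (f : i ⟶ j), IsAffineHom (D.map f)]
    {j k : Over i} (f : j ⟶ k) : IsAffineHom ((bcDiagram D i xi).map f) := by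
  have : IsAffineHom ((bcDiagram D i xi).map f ≫ dFst D i xi k) := by
    rw [map_dFst]; infer_instance
  exact .of_comp _ (dFst D i xi k)

instance (i : I) {Xi : Scheme.{u}} (xi : Xi ⟶ D.obj i) [∀ {i j} (f : i ⟶ j), IsAffineHom (D.map f)]
    [CompactSpace Xi] (j : Over i) : CompactSpace ((bcDiagram D i xi).obj j) :=
  QuasiCompact.compactSpace_of_compactSpace (dFst D i xi j)

instance (i : I) {Xi : Scheme.{u}} (xi : Xi ⟶ D.obj i) [∀ {i j} (f : i ⟶ j), IsAffineHom (D.map f)]
    [QuasiSeparatedSpace Xi] (j : Over i) : QuasiSeparatedSpace ((bcDiagram D i xi).obj j) :=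
  quasiSeparatedSpace_of_quasiSeparated (dFst D i xi j)

end Groth.Agent.Lib.Helper22.LimBC
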