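import Mathlib
import Groth.Agent.Lib.Helper22LimBC

/-!
Base change of a morphism `f₀ : X₀ ⟶ Y₀` over a stage `S_i` of a cofiltered limit `S = lim S_j`:
the maps `f_j : X₀ ×_{S_i} S_j ⟶ Y₀ ×_{S_i} S_j` and the cartesian squares relating them to
`f₀` and to the base change `f : X ⟶ Y` to `S`.
-/

universe u

namespace Groth.Agent.Lib.Helper22.LimBC

open CategoryTheory CategoryTheory.Limits AlgebraicGeometry

variable {I : Type u} [Category.{u} I] (D : I ⥤ Scheme.{u}) {c : Cone D}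

section mor

variable (i : I) {X₀ Y₀ : Scheme.{u}} (f₀ : X₀ ⟶ Y₀) (g₀ : Y₀ ⟶ D.obj i)

/-- the base change `f_j : X₀ ×_{S_i} S_j ⟶ Y₀ ×_{S_i} S_j` of `f₀`. -/
noncomputable def bcMor (j : Over i) :
    (bcDiagram D i (f₀ ≫ g₀)).obj j ⟶ (bcDiagram D i g₀).obj j :=
  dLift j (dFst D i (f₀ ≫ g₀) j ≫ f₀) (dSnd D i (f₀ ≫ g₀) j)
    (by rw [Category.assoc, d_condition])

@[reassoc]
lemma bcMor_fst (j : Over i) :
    bcMor D i f₀ g₀ j ≫ dFst D i g₀ j = dFst D i (f₀ ≫ g₀) j ≫ f₀ :=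
  dLift_fst _ _ _ _

@[reassoc]
lemma bcMor_snd (j : Over i) :
    bcMor D i f₀ g₀ j ≫ dSnd D i g₀ j = dSnd D i (f₀ ≫ g₀) j :=
  dLift_snd _ _ _ _

/-- `X_j = X₀ ×_{Y₀} Y_j`. -/
lemma isPullback_bcMor (j : Over i) :
    IsPullback (dFst D i (f₀ ≫ g₀) j) (bcMor D i f₀ g₀ j) f₀ (dFst D i g₀ j) := by
  have s : IsPullback (dFst D i (f₀ ≫ g₀) j) (bcMor D i f₀ g₀ j ≫ dSnd D i g₀ j) (f₀ ≫ g₀)
      (D.map j.hom) := by
    rw [bcMor_snd]
    exact isPullback_d D i (f₀ ≫ g₀) j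
  exact IsPullback.of_bot s (bcMor_fst D i f₀ g₀ j).symm (isPullback_d D i g₀ j)

@[reassoc]
lemma map_bcMor {j k : Over i} (φ : j ⟶ k) :
    (bcDiagram D i (f₀ ≫ g₀)).map φ ≫ bcMor D i f₀ g₀ k =
      bcMor D i f₀ g₀ j ≫ (bcDiagram D i g₀).map φ := by
  apply d_hom_ext
  · rw [Category.assoc, bcMor_fst, map_dFst_assoc, Category.assoc, map_dFst, bcMor_fst]
  · rw [Category.assoc, bcMor_snd, map_dSnd, Category.assoc, map_dSnd, bcMor_snd_assoc]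

/-- `X_j = X_k ×_{Y_k} Y_j`. -/
lemma isPullback_map_bcMor {j k : Over i} (φ : j ⟶ k) :
    IsPullback ((bcDiagram D i (f₀ ≫ g₀)).map φ) (bcMor D i f₀ g₀ j) (bcMor D i f₀ g₀ k)
      ((bcDiagram D i g₀).map φ) := by
  have s : IsPullback (bcMor D i f₀ g₀ j) ((bcDiagram D i (f₀ ≫ g₀)).map φ ≫ dFst D i (f₀ ≫ g₀) k)
      ((bcDiagram D i g₀).map φ ≫ dFst D i g₀ k) f₀ := by
    rw [map_dFst, map_dFst]
    exact (isPullback_bcMor D i f₀ g₀ j).flip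
  exact (IsPullback.of_bot s (map_bcMor D i f₀ g₀ φ).symm (isPullback_bcMor D i f₀ g₀ k).flip).flip

/-- the base change of `f₀` as a natural transformation. -/
noncomputable def bcMorNat : bcDiagram D i (f₀ ≫ g₀) ⟶ bcDiagram D i g₀ where
  app j := bcMor D i f₀ g₀ j
  naturality _ _ φ := map_bcMor D i f₀ g₀ φ

variable {D i f₀ g₀}
variable {X Y : Scheme.{u}} {f : X ⟶ Y} {g : Y ⟶ c.pt} {qY : Y ⟶ Y₀} {qX : X ⟶ X₀}
  (hY : IsPullback qY g g₀ (c.π.app i)) (hX : IsPullback qX f f₀ qY)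

@[reassoc]
lemma bcπ_bcMor (j : Over i) :
    bcπ i (hX.paste_vert hY) j ≫ bcMor D i f₀ g₀ j = f ≫ bcπ i hY j := by
  apply d_hom_ext
  · rw [Category.assoc, bcMor_fst, bcπ_fst_assoc, Category.assoc, bcπ_fst, hX.w]
  · rw [Category.assoc, bcMor_snd, bcπ_snd, Category.assoc, Category.assoc, bcπ_snd]

/-- `X = X_j ×_{Y_j} Y`. -/
lemma isPullback_bcπ_bcMor (j : Over i) :
    IsPullback (bcπ i (hX.paste_vert hY) j) f (bcMor D i f₀ g₀ j) (bcπ i hY j) := by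
  have s : IsPullback f (bcπ i (hX.paste_vert hY) j ≫ dFst D i (f₀ ≫ g₀) j)
      (bcπ i hY j ≫ dFst D i g₀ j) f₀ := by
    rw [bcπ_fst, bcπ_fst]
    exact hX.flip
  exact (IsPullback.of_bot s (bcπ_bcMor hY hX j).symm (isPullback_bcMor D i f₀ g₀ j).flip).flip

end mor

end Groth.Agent.Lib.Helper22.LimBC
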