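import Mathlib
import Groth.Agent.S9200
import Groth.Agent.Lib.Helper22LimBC2

set_option autoImplicit false
universe u
open CategoryTheory Limits AlgebraicGeometry

namespace Groth.Agent.Lib.Helper26.LimDescend

section Ring

variable {A B A' B' : CommRingCat.{u}} {f : A ⟶ B} {g : A ⟶ A'} {inl : B ⟶ B'} {inr : A' ⟶ B'}

/-- A pushout of commutative rings is generated by the images of the two factors. -/
theorem closure_range_union_eq_top_of_isPushout (h : IsPushout f g inl inr) :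
    Subring.closure (Set.range inl.hom ∪ Set.range inr.hom) = ⊤ := by
  let inl' : B ⟶ CommRingCat.of (Subring.closure (Set.range inl.hom ∪ Set.range inr.hom)) :=
    CommRingCat.ofHom (inl.hom.codRestrict _ (fun x => Subring.subset_closure (Or.inl ⟨x, rfl⟩)))
  let inr' : A' ⟶ CommRingCat.of (Subring.closure (Set.range inl.hom ∪ Set.range inr.hom)) :=
    CommRingCat.ofHom (inr.hom.codRestrict _ (fun x => Subring.subset_closure (Or.inr ⟨x, rfl⟩)))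
  have w : f ≫ inl' = g ≫ inr' := by
    ext x
    exact congr($(h.w).hom x)
  let ι : CommRingCat.of (Subring.closure (Set.range inl.hom ∪ Set.range inr.hom)) ⟶ B' :=
    CommRingCat.ofHom (Subring.subtype _)
  have hι : h.desc inl' inr' w ≫ ι = 𝟙 _ := by
    apply h.hom_ext
    · rw [h.inl_desc_assoc, Category.comp_id]
      rfl
    · rw [h.inr_desc_assoc, Category.comp_id]
      rfl
  rw [eq_top_iff]
  intro x _
  have : ι.hom ((h.desc inl' inr' w).hom x) = x := congr($(hι).hom x)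
  rw [← this]
  exact ((h.desc inl' inr' w).hom x).2

/-- If `B` is generated over `A` by `G`, then the pushout `B'` is generated over `A'` by the image
of `G`. -/
theorem closure_eq_top_of_isPushout (h : IsPushout f g inl inr) (G : Set B)
    (hG : Subring.closure (Set.range f.hom ∪ G) = ⊤) :
    Subring.closure (Set.range inr.hom ∪ inl.hom '' G) = ⊤ := by
  rw [eq_top_iff, ← closure_range_union_eq_top_of_isPushout h, Subring.closure_le]
  rintro x (⟨b, rfl⟩ | hx)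
  · have hb : b ∈ Subring.closure (Set.range f.hom ∪ G) := hG ▸ Subring.mem_top b
    have : inl.hom b ∈ (Subring.closure (Set.range f.hom ∪ G)).map inl.hom := ⟨b, hb, rfl⟩
    rw [RingHom.map_closure] at this
    refine Subring.closure_mono ?_ this
    rintro _ ⟨y, (⟨a, rfl⟩ | hy), rfl⟩
    · left
      exact ⟨g.hom a, (congr($(h.w).hom a)).symm⟩
    · right
      exact ⟨y, hy, rfl⟩
  · exact Subring.subset_closure (Or.inl hx)

theorem surjective_of_isPushout (h : IsPushout f g inl inr) (G : Set B)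
    (hG : Subring.closure (Set.range f.hom ∪ G) = ⊤)
    (hsub : ∀ x ∈ G, inl.hom x ∈ Set.range inr.hom) : Function.Surjective inr.hom := by
  have := closure_eq_top_of_isPushout h G hG
  have h2 : Subring.closure (Set.range inr.hom ∪ inl.hom '' G) ≤ inr.hom.range := by
    rw [Subring.closure_le]
    rintro x (hx | ⟨y, hy, rfl⟩)
    · exact hx
    · exact hsub y hy
  rw [this, top_le_iff] at h2
  intro x
  have : x ∈ inr.hom.range := h2 ▸ Subring.mem_top x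
  exact this

end Ring


section AffineSystems

/-- The ring hom on global sections. -/
abbrev r {X Y : Scheme.{u}} (φ : X ⟶ Y) : Γ(Y, ⊤) →+* Γ(X, ⊤) := φ.appTop.hom

theorem r_comp {X Y Z : Scheme.{u}} (φ : X ⟶ Y) (ψ : Y ⟶ Z) : r (φ ≫ ψ) = (r φ).comp (r ψ) := by
  simp only [r, Scheme.Hom.comp_appTop, CommRingCat.hom_comp]

theorem r_comp_apply {X Y Z : Scheme.{u}} (φ : X ⟶ Y) (ψ : Y ⟶ Z) (x : Γ(Z, ⊤)) :
    r (φ ≫ ψ) x = r φ (r ψ x) := by
  rw [r_comp]; rfl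

variable {J : Type u} [SmallCategory J] [IsCofiltered J]
  (DU DV : J ⥤ Scheme.{u}) (τ : DU ⟶ DV)
  [∀ j, IsAffine (DU.obj j)] [∀ j, IsAffine (DV.obj j)]
  (hcart : ∀ {j k : J} (a : j ⟶ k), IsPullback (DU.map a) (τ.app j) (τ.app k) (DV.map a))

include hcart in
/-- Finitely many generators at a stage, with a property `Q` that holds eventually for each
element, give generators with property `Q` at a later stage. -/
theorem exists_generators (j₁ : J) [LocallyOfFiniteType (τ.app j₁)]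
    (Q : ∀ j : Over j₁, Γ(DU.obj j.left, ⊤) → Prop)
    (Qmono : ∀ {j k : Over j₁} (u : k ⟶ j) (x : Γ(DU.obj j.left, ⊤)),
      Q j x → Q k (r (DU.map u.left) x))
    (Qex : ∀ β : Γ(DU.obj j₁, ⊤), ∃ j : Over j₁, Q j (r (DU.map j.hom) β)) :
    ∃ (j : Over j₁) (G : Finset Γ(DU.obj j.left, ⊤)), (∀ x ∈ G, Q j x) ∧
      Subring.closure (Set.range (r (τ.app j.left)) ∪ (G : Set Γ(DU.obj j.left, ⊤))) = ⊤ := by
  classical
  have hft : (r (τ.app j₁)).FiniteType :=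
    (HasRingHomProperty.iff_of_isAffine (P := @LocallyOfFiniteType)).mp inferInstance
  letI : Algebra Γ(DV.obj j₁, ⊤) Γ(DU.obj j₁, ⊤) := (r (τ.app j₁)).toAlgebra
  obtain ⟨G₁, hG₁⟩ : ∃ s : Finset Γ(DU.obj j₁, ⊤),
      Algebra.adjoin Γ(DV.obj j₁, ⊤) (s : Set Γ(DU.obj j₁, ⊤)) = ⊤ := hft.out
  have hG₁' : Subring.closure (Set.range (r (τ.app j₁)) ∪ (G₁ : Set Γ(DU.obj j₁, ⊤))) = ⊤ := by
    have := congrArg Subalgebra.toSubring hG₁
    rw [Algebra.adjoin_eq_ring_closure] at this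
    exact this
  choose jβ hjβ using Qex
  obtain ⟨j, hj⟩ := IsCofiltered.inf_objs_exists (G₁.image jβ)
  refine ⟨j, G₁.image (r (DU.map j.hom)), ?_, ?_⟩
  · intro x hx
    obtain ⟨β, hβ, rfl⟩ := Finset.mem_image.mp hx
    obtain ⟨u⟩ := hj (Finset.mem_image_of_mem jβ hβ)
    have : r (DU.map j.hom) β = r (DU.map u.left) (r (DU.map (jβ β).hom) β) := by
      rw [← r_comp_apply, ← DU.map_comp, Over.w u]
    rw [this]
    exact Qmono u _ (hjβ β)
  · have hpo := isPushout_appTop_of_isPullback (hcart j.hom)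
    have := closure_eq_top_of_isPushout hpo (G₁ : Set Γ(DU.obj j₁, ⊤)) hG₁'
    rw [Finset.coe_image]
    exact this

include hcart in
/-- Closed immersions descend along cartesian systems of affine schemes. -/
theorem exists_isClosedImmersion (cU : Cone DU) (cV : Cone DV) (hcU : IsLimit cU)
    (hcV : IsLimit cV) (F : cU.pt ⟶ cV.pt)
    (hF : ∀ j, F ≫ cV.π.app j = cU.π.app j ≫ τ.app j) [IsClosedImmersion F]
    (j₁ : J) [LocallyOfFiniteType (τ.app j₁)] :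
    ∃ j : Over j₁, IsClosedImmersion (τ.app j.left) := by
  have : IsAffine cU.pt := Scheme.isAffine_of_isLimit _ hcU
  have : IsAffine cV.pt := Scheme.isAffine_of_isLimit _ hcV
  obtain ⟨-, hsurj⟩ := IsClosedImmersion.isAffine_surjective_of_isAffine F
  obtain ⟨j, G, hQ, hG⟩ := exists_generators DU DV τ hcart j₁
    (fun j x => x ∈ Set.range (r (τ.app j.left)))
    (by
      rintro j k u x ⟨y, rfl⟩
      refine ⟨r (DV.map u.left) y, ?_⟩
      rw [← r_comp_apply, ← r_comp_apply, τ.naturality])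
    (by
      intro β
      obtain ⟨α, hα⟩ := hsurj (r (cU.π.app j₁) β)
      obtain ⟨i, αi, rfl⟩ := exists_appTop_π_eq_of_isAffine_of_isLimit DV cV hcV α
      let j₂ := IsCofiltered.min j₁ i
      let a : j₂ ⟶ j₁ := IsCofiltered.minToLeft j₁ i
      let b : j₂ ⟶ i := IsCofiltered.minToRight j₁ i
      have hx : r (cU.π.app j₂) (r (DU.map a) β - r (τ.app j₂) (r (DV.map b) αi)) = 0 := by
        rw [map_sub, ← r_comp_apply, ← r_comp_apply, cU.w, ← hF, r_comp_apply, ← r_comp_apply _ (DV.map b),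
          cV.w, sub_eq_zero]
        exact hα.symm
      obtain ⟨j₃, e, he⟩ := exists_appTop_map_eq_zero_of_isAffine_of_isLimit DU cU hcU j₂ _ hx
      refine ⟨Over.mk (e ≫ a), r (DV.map e) (r (DV.map b) αi), ?_⟩
      have he' : r (DU.map e) (r (DU.map a) β) = r (DU.map e) (r (τ.app j₂) (r (DV.map b) αi)) := by
        have := he
        change r (DU.map e) _ = 0 at this
        rwa [map_sub, sub_eq_zero] at this
      show r (τ.app j₃) (r (DV.map e) (r (DV.map b) αi)) = r (DU.map (e ≫ a)) β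
      rw [DU.map_comp, r_comp_apply, he', ← r_comp_apply (τ.app j₃), ← τ.naturality,
        r_comp_apply])
  refine ⟨j, ?_⟩
  apply IsClosedImmersion.of_surjective_of_isAffine
  have h2 : Subring.closure (Set.range (r (τ.app j.left)) ∪ (G : Set Γ(DU.obj j.left, ⊤))) ≤
      (r (τ.app j.left)).range := by
    rw [Subring.closure_le]
    rintro x (hx | hx)
    · exact hx
    · exact hQ x hx
  rw [hG, top_le_iff] at h2
  intro x
  have : x ∈ (r (τ.app j.left)).range := h2 ▸ Subring.mem_top x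
  exact this

end AffineSystems


section General

open Groth.Agent.Lib.Helper22.LimBC

/-- Transfer of a base-change-stable property between two base changes of the same morphism. -/
theorem of_two_pullbacks (P : MorphismProperty Scheme.{u}) [P.IsStableUnderBaseChange]
    {X₀ Y₀ W T W' T' : Scheme.{u}} {f₀ : X₀ ⟶ Y₀} {a : W ⟶ X₀} {p : W ⟶ T} {h : T ⟶ Y₀}
    {a' : W' ⟶ X₀} {p' : W' ⟶ T'} {h' : T' ⟶ Y₀}
    (S2 : IsPullback a p f₀ h) (S1 : IsPullback a' p' f₀ h') (m : T ⟶ T') (hm : m ≫ h' = h)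
    (hp : P p') : P p := by
  have hw : a ≫ f₀ = (p ≫ m) ≫ h' := by rw [Category.assoc, hm, S2.w]
  have hsq : IsPullback (S1.lift a (p ≫ m) hw) p p' m := by
    refine IsPullback.of_right ?_ (S1.lift_snd _ _ _) S1
    rw [S1.lift_fst, hm]
    exact S2
  exact P.of_isPullback hsq hp

variable {I : Type u} [SmallCategory I] [IsCofiltered I] (D : I ⥤ Scheme.{u}) (c : Cone D)
  (hc : IsLimit c) [∀ {i j : I} (f : i ⟶ j), IsAffineHom (D.map f)]

/-- The structure maps `X_j ⟶ Y₀`. -/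
noncomputable def tY (i₀ : I) {X₀ Y₀ : Scheme.{u}} (f₀ : X₀ ⟶ Y₀) (g₀ : Y₀ ⟶ D.obj i₀) :
    bcDiagram D i₀ (f₀ ≫ g₀) ⟶ (Functor.const (Over i₀)).obj Y₀ where
  app j := dFst D i₀ (f₀ ≫ g₀) j ≫ f₀
  naturality j k a := by
    show (bcDiagram D i₀ (f₀ ≫ g₀)).map a ≫ dFst D i₀ (f₀ ≫ g₀) k ≫ f₀ =
      (dFst D i₀ (f₀ ≫ g₀) j ≫ f₀) ≫ 𝟙 _
    rw [Category.comp_id, map_dFst_assoc]

include hc in
/-- Affine morphisms descend (in `bcMor` form). -/
theorem exists_isAffineHom_bcMor (i₀ : I) {X₀ Y₀ : Scheme.{u}} (f₀ : X₀ ⟶ Y₀)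
    (g₀ : Y₀ ⟶ D.obj i₀) [CompactSpace X₀] [QuasiSeparatedSpace X₀] [CompactSpace Y₀]
    [QuasiSeparatedSpace Y₀] {X Y : Scheme.{u}} (f : X ⟶ Y) (g : Y ⟶ c.pt) (qY : Y ⟶ Y₀)
    (qX : X ⟶ X₀) (hY : IsPullback qY g g₀ (c.π.app i₀)) (hX : IsPullback qX f f₀ qY)
    [IsAffineHom f] : ∃ j : Over i₀, IsAffineHom (bcMor D i₀ f₀ g₀ j) := by
  have hπ : IsAffineHom (c.π.app i₀) := isAffineHom_π_app D c hc i₀
  have hqY : IsAffineHom qY := MorphismProperty.of_isPullback (P := @IsAffineHom) hY.flip hπ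
  have h0 : IsAffineHom ((bcCone i₀ (hX.paste_vert hY)).π.app (Over.mk (𝟙 i₀)) ≫
      (tY D i₀ f₀ g₀).app (Over.mk (𝟙 i₀))) := by
    show IsAffineHom (bcπ i₀ (hX.paste_vert hY) (Over.mk (𝟙 i₀)) ≫
      dFst D i₀ (f₀ ≫ g₀) (Over.mk (𝟙 i₀)) ≫ f₀)
    rw [bcπ_fst_assoc, hX.w]
    infer_instance
  obtain ⟨j₁, hj₁⟩ := Groth.Agent.S9200.result Y₀ (bcDiagram D i₀ (f₀ ≫ g₀)) (tY D i₀ f₀ g₀)
    (bcCone i₀ (hX.paste_vert hY)) (isLimitBcCone i₀ _ hc) (Over.mk (𝟙 i₀))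
  have h1 : IsAffineHom (dFst D i₀ (f₀ ≫ g₀) j₁ ≫ f₀) := hj₁ j₁ (𝟙 _)
  refine ⟨j₁, ?_⟩
  have : IsAffineHom (bcMor D i₀ f₀ g₀ j₁ ≫ dFst D i₀ g₀ j₁) := by
    rw [bcMor_fst]
    exact h1
  exact IsAffineHom.of_comp _ (dFst D i₀ g₀ j₁)

variable (P : MorphismProperty Scheme.{u})

/-- The affine case of descent of `P` to a stage. -/
def AffCase : Prop :=
  ∀ (i₀ : I) {X₀ Y₀ : Scheme.{u}} [IsAffine X₀] [IsAffine Y₀] (f₀ : X₀ ⟶ Y₀) (g₀ : Y₀ ⟶ D.obj i₀)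
    [LocallyOfFiniteType f₀] {X Y : Scheme.{u}} (f : X ⟶ Y) (g : Y ⟶ c.pt) (qY : Y ⟶ Y₀)
    (qX : X ⟶ X₀) (_ : IsPullback qY g g₀ (c.π.app i₀)) (_ : IsPullback qX f f₀ qY), P f →
    ∃ j : Over i₀, P (bcMor D i₀ f₀ g₀ j)

variable {D c P}

/-- Reduction to the case of an affine `Y₀`, for `f₀` affine. -/
theorem exists_forall_of_affCase [P.IsStableUnderBaseChange] [IsZariskiLocalAtTarget P]
    (H : AffCase D c P) (i₀ : I) {X₀ Y₀ : Scheme.{u}} (f₀ : X₀ ⟶ Y₀) (g₀ : Y₀ ⟶ D.obj i₀)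
    [CompactSpace Y₀] [IsAffineHom f₀] [LocallyOfFiniteType f₀]
    {X Y : Scheme.{u}} (f : X ⟶ Y) (g : Y ⟶ c.pt) (qY : Y ⟶ Y₀) (qX : X ⟶ X₀)
    (hY : IsPullback qY g g₀ (c.π.app i₀)) (hX : IsPullback qX f f₀ qY) (hf : P f) :
    ∃ j : Over i₀, ∀ (k : Over i₀) (_ : k ⟶ j), P (bcMor D i₀ f₀ g₀ k) := by
  classical
  have hloc : ∀ y : Y₀, ∃ V : Y₀.Opens, IsAffineOpen V ∧ y ∈ V := by
    intro y
    obtain ⟨_, ⟨V, hV : IsAffineOpen V, rfl⟩, hyV, -⟩ :=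
      Y₀.isBasis_affineOpens.exists_subset_of_mem_open (Set.mem_univ y) isOpen_univ
    exact ⟨V, hV, hyV⟩
  choose V hV hyV using hloc
  obtain ⟨ts, hts⟩ := isCompact_univ.elim_finite_subcover
    (fun y => ((V y : Y₀.Opens) : Set Y₀))
    (fun y => (V y).isOpen) (fun y _ => Set.mem_iUnion.mpr ⟨y, hyV y⟩)
  have key : ∀ y : Y₀, ∃ j : Over i₀,
      P (bcMor D i₀ (f₀ ∣_ V y) ((V y).ι ≫ g₀) j) := by
    intro y
    have hYV : IsPullback (qY ∣_ V y) ((qY ⁻¹ᵁ V y).ι ≫ g) ((V y).ι ≫ g₀) (c.π.app i₀) :=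
      (isPullback_morphismRestrict qY (V y)).paste_vert hY
    have e1 : f ⁻¹ᵁ qY ⁻¹ᵁ V y ≤ qX ⁻¹ᵁ f₀ ⁻¹ᵁ V y := by
      rw [← Scheme.Hom.comp_preimage, ← Scheme.Hom.comp_preimage, hX.w]
    have hXV : IsPullback (qX.resLE (f₀ ⁻¹ᵁ V y) (f ⁻¹ᵁ qY ⁻¹ᵁ V y) e1) (f ∣_ qY ⁻¹ᵁ V y)
        (f₀ ∣_ V y) (qY ∣_ V y) := by
      refine IsPullback.of_right ?_ ?_ (isPullback_morphismRestrict f₀ (V y)).flip
      · rw [Scheme.Hom.resLE_comp_ι, morphismRestrict_ι]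
        exact (isPullback_morphismRestrict f (qY ⁻¹ᵁ V y)).flip.paste_horiz hX
      · rw [← cancel_mono (V y).ι]
        simp only [Category.assoc, morphismRestrict_ι, Scheme.Hom.resLE_comp_ι_assoc]
        rw [hX.w, morphismRestrict_ι_assoc]
    have : IsAffine ((f₀ ⁻¹ᵁ V y : X₀.Opens) : Scheme.{u}) := (hV y).preimage f₀
    have : IsAffine ((V y : Y₀.Opens) : Scheme.{u}) := hV y
    exact H i₀ (f₀ ∣_ V y) ((V y).ι ≫ g₀) (f ∣_ qY ⁻¹ᵁ V y) _ _ _ hYV hXV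
      (IsZariskiLocalAtTarget.restrict hf _)
  choose jy hjy using key
  obtain ⟨j, hj⟩ := IsCofiltered.inf_objs_exists (ts.image jy)
  refine ⟨j, fun k u => ?_⟩
  have hcover : ⨆ y : ts, (dFst D i₀ g₀ k) ⁻¹ᵁ V y.1 = ⊤ := by
    rw [eq_top_iff]
    intro z _
    obtain ⟨y, hyt, hz⟩ := Set.mem_iUnion₂.mp (hts (Set.mem_univ ((dFst D i₀ g₀ k).base z)))
    exact TopologicalSpace.Opens.mem_iSup.mpr ⟨⟨y, hyt⟩, hz⟩
  apply IsZariskiLocalAtTarget.of_iSup_eq_top (P := P)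
    (fun y : ts => (dFst D i₀ g₀ k) ⁻¹ᵁ V y.1) hcover
  rintro ⟨y, hyt⟩
  obtain ⟨v⟩ := hj (Finset.mem_image_of_mem jy hyt)
  -- `P` at stage `k` for the restricted morphism
  have hPk : P (bcMor D i₀ (f₀ ∣_ V y) ((V y).ι ≫ g₀) k) :=
    P.of_isPullback (isPullback_map_bcMor D i₀ (f₀ ∣_ V y) ((V y).ι ≫ g₀) (u ≫ v)) (hjy y)
  -- the two pullback squares over `f₀`
  have S2 := (isPullback_morphismRestrict (bcMor D i₀ f₀ g₀ k)
    ((dFst D i₀ g₀ k) ⁻¹ᵁ V y)).flip.paste_horiz (isPullback_bcMor D i₀ f₀ g₀ k)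
  have S1 := (isPullback_bcMor D i₀ (f₀ ∣_ V y) ((V y).ι ≫ g₀) k).paste_horiz
    (isPullback_morphismRestrict f₀ (V y)).flip
  refine of_two_pullbacks P S2 S1
    (dLift k ((dFst D i₀ g₀ k) ∣_ V y) (((dFst D i₀ g₀ k) ⁻¹ᵁ V y).ι ≫ dSnd D i₀ g₀ k) ?_) ?_ hPk
  · rw [← Category.assoc, morphismRestrict_ι, Category.assoc, Category.assoc, d_condition]
  · rw [← Category.assoc, dLift_fst, morphismRestrict_ι]

/-- The general descent theorem for properties implying affineness, from the affine case. -/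
theorem descend_of_affCase [P.IsStableUnderBaseChange] [IsZariskiLocalAtTarget P]
    (hPaff : ∀ {X Y : Scheme.{u}} (f : X ⟶ Y), P f → IsAffineHom f)
    (H : AffCase D c P) (hc : IsLimit c) (i₀ : I) {X₀ Y₀ : Scheme.{u}} (f₀ : X₀ ⟶ Y₀)
    (g₀ : Y₀ ⟶ D.obj i₀) [CompactSpace X₀] [QuasiSeparatedSpace X₀] [CompactSpace Y₀]
    [QuasiSeparatedSpace Y₀] [LocallyOfFiniteType f₀]
    {X Y : Scheme.{u}} (f : X ⟶ Y) (g : Y ⟶ c.pt) (qY : Y ⟶ Y₀) (qX : X ⟶ X₀)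
    (hY : IsPullback qY g g₀ (c.π.app i₀)) (hX : IsPullback qX f f₀ qY) (hf : P f) :
    ∃ (i : I) (φ : i ⟶ i₀) (Xi Yi : Scheme.{u}) (fi : Xi ⟶ Yi) (gi : Yi ⟶ D.obj i)
      (pY : Yi ⟶ Y₀) (pX : Xi ⟶ X₀),
      IsPullback pY gi g₀ (D.map φ) ∧ IsPullback pX fi f₀ pY ∧ P fi := by
  have := hPaff f hf
  obtain ⟨j₁, hj₁⟩ := exists_isAffineHom_bcMor D c hc i₀ f₀ g₀ f g qY qX hY hX
  have hlft : LocallyOfFiniteType (bcMor D i₀ f₀ g₀ j₁) :=
    MorphismProperty.of_isPullback (P := @LocallyOfFiniteType) (isPullback_bcMor D i₀ f₀ g₀ j₁)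
      inferInstance
  obtain ⟨k, hk⟩ := exists_forall_of_affCase H j₁.left (bcMor D i₀ f₀ g₀ j₁)
    (dSnd D i₀ g₀ j₁) f g (bcπ i₀ hY j₁) (bcπ i₀ (hX.paste_vert hY) j₁)
    (isPullback_bcπ i₀ hY j₁) (isPullback_bcπ_bcMor hY hX j₁) hf
  refine ⟨k.left, k.hom ≫ j₁.hom, _, _,
    bcMor D j₁.left (bcMor D i₀ f₀ g₀ j₁) (dSnd D i₀ g₀ j₁) k,
    dSnd D j₁.left (dSnd D i₀ g₀ j₁) k,
    dFst D j₁.left (dSnd D i₀ g₀ j₁) k ≫ dFst D i₀ g₀ j₁,
    dFst D j₁.left (bcMor D i₀ f₀ g₀ j₁ ≫ dSnd D i₀ g₀ j₁) k ≫ dFst D i₀ (f₀ ≫ g₀) j₁,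
    ?_, ?_, hk k (𝟙 k)⟩
  · rw [D.map_comp]
    exact (isPullback_d D j₁.left _ k).paste_horiz (isPullback_d D i₀ g₀ j₁)
  · exact (isPullback_bcMor D j₁.left _ _ k).paste_horiz (isPullback_bcMor D i₀ f₀ g₀ j₁)

/-- The affine case for closed immersions. -/
theorem affCase_isClosedImmersion (hc : IsLimit c) : AffCase D c @IsClosedImmersion := by
  intro i₀ X₀ Y₀ _ _ f₀ g₀ _ X Y f g qY qX hY hX hf
  have hf' : IsClosedImmersion
      (show (bcCone i₀ (hX.paste_vert hY)).pt ⟶ (bcCone i₀ hY).pt from f) := hf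
  have h1 : ∀ j, IsAffine ((bcDiagram D i₀ (f₀ ≫ g₀)).obj j) := fun j => by
    show IsAffine (pullback (f₀ ≫ g₀) (D.map j.hom))
    infer_instance
  have h2 : ∀ j, IsAffine ((bcDiagram D i₀ g₀).obj j) := fun j => by
    show IsAffine (pullback g₀ (D.map j.hom))
    infer_instance
  have hlft : LocallyOfFiniteType ((bcMorNat D i₀ f₀ g₀).app (Over.mk (𝟙 i₀))) :=
    MorphismProperty.of_isPullback (P := @LocallyOfFiniteType)
      (isPullback_bcMor D i₀ f₀ g₀ (Over.mk (𝟙 i₀))) inferInstance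
  obtain ⟨j, hj⟩ := exists_isClosedImmersion (bcDiagram D i₀ (f₀ ≫ g₀)) (bcDiagram D i₀ g₀)
    (bcMorNat D i₀ f₀ g₀) (fun a => isPullback_map_bcMor D i₀ f₀ g₀ a)
    (bcCone i₀ (hX.paste_vert hY)) (bcCone i₀ hY) (isLimitBcCone i₀ _ hc) (isLimitBcCone i₀ _ hc)
    f (fun j => (bcπ_bcMor hY hX j).symm) (Over.mk (𝟙 i₀))
  exact ⟨j.left, hj⟩

end General

end Groth.Agent.Lib.Helper26.LimDescend
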