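import Mathlib
import Groth.Agent.Lib.Helper26LimDescend
import Groth.Agent.Lib.Helper26FlatStage

set_option autoImplicit false
universe u
open CategoryTheory Limits AlgebraicGeometry Opposite

namespace Groth.Agent.Lib.Helper26.LimDescend

open Groth.Agent.Lib.Helper22.LimBC

/-- Restricting a pullback square to opens of the two base corners. -/
theorem isPullback_resLE {X Y X₀ Y₀ : Scheme.{u}} {qX : X ⟶ X₀} {f : X ⟶ Y} {f₀ : X₀ ⟶ Y₀}
    {qY : Y ⟶ Y₀} (hX : IsPullback qX f f₀ qY) (U : X₀.Opens) (V : Y₀.Opens)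
    (h : U ≤ f₀ ⁻¹ᵁ V) (e : qX ⁻¹ᵁ U ≤ f ⁻¹ᵁ qY ⁻¹ᵁ V) :
    IsPullback (qX ∣_ U) (f.resLE (qY ⁻¹ᵁ V) (qX ⁻¹ᵁ U) e) (f₀.resLE V U h) (qY ∣_ V) := by
  refine IsPullback.of_bot ?_ ?_ (isPullback_morphismRestrict qY V)
  · rw [Scheme.Hom.resLE_comp_ι, Scheme.Hom.resLE_comp_ι]
    exact (isPullback_morphismRestrict qX U).paste_vert hX
  · rw [← cancel_mono V.ι]
    simp only [Category.assoc, morphismRestrict_ι, Scheme.Hom.resLE_comp_ι]
    rw [morphismRestrict_ι_assoc, Scheme.Hom.resLE_comp_ι_assoc, hX.w]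

section General

variable {I : Type u} [SmallCategory I] [IsCofiltered I] (D : I ⥤ Scheme.{u}) (c : Cone D)
  [∀ {i j : I} (f : i ⟶ j), IsAffineHom (D.map f)]

variable (Q P : MorphismProperty Scheme.{u})

/-- The affine case of descent of `P` to a stage, for morphisms satisfying `Q`. -/
def AffCase2 : Prop :=
  ∀ (i₀ : I) {X₀ Y₀ : Scheme.{u}} [IsAffine X₀] [IsAffine Y₀] (f₀ : X₀ ⟶ Y₀) (g₀ : Y₀ ⟶ D.obj i₀),
    Q f₀ → ∀ {X Y : Scheme.{u}} (f : X ⟶ Y) (g : Y ⟶ c.pt) (qY : Y ⟶ Y₀)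
    (qX : X ⟶ X₀) (_ : IsPullback qY g g₀ (c.π.app i₀)) (_ : IsPullback qX f f₀ qY), P f →
    ∃ j : Over i₀, P (bcMor D i₀ f₀ g₀ j)

variable {D c Q P}

/-- Reduction to the affine case for properties local at the source and at the target. -/
theorem exists_forall_of_affCase2 [IsZariskiLocalAtSource Q] [IsZariskiLocalAtTarget Q]
    [P.IsStableUnderBaseChange] [IsZariskiLocalAtSource P] [IsZariskiLocalAtTarget P]
    [P.RespectsRight @IsOpenImmersion]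
    (H : AffCase2 D c Q P) (i₀ : I) {X₀ Y₀ : Scheme.{u}} (f₀ : X₀ ⟶ Y₀) (g₀ : Y₀ ⟶ D.obj i₀)
    [CompactSpace X₀] (hQ : Q f₀)
    {X Y : Scheme.{u}} (f : X ⟶ Y) (g : Y ⟶ c.pt) (qY : Y ⟶ Y₀) (qX : X ⟶ X₀)
    (hY : IsPullback qY g g₀ (c.π.app i₀)) (hX : IsPullback qX f f₀ qY) (hf : P f) :
    ∃ j : Over i₀, ∀ (k : Over i₀) (_ : k ⟶ j), P (bcMor D i₀ f₀ g₀ k) := by
  classical
  have hloc : ∀ x : X₀, ∃ (V : Y₀.Opens) (U : X₀.Opens), IsAffineOpen V ∧ IsAffineOpen U ∧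
      x ∈ U ∧ U ≤ f₀ ⁻¹ᵁ V := by
    intro x
    obtain ⟨_, ⟨V, hV : IsAffineOpen V, rfl⟩, hyV, -⟩ :=
      Y₀.isBasis_affineOpens.exists_subset_of_mem_open (Set.mem_univ (f₀ x)) isOpen_univ
    obtain ⟨_, ⟨U, hU : IsAffineOpen U, rfl⟩, hxU, hUV⟩ :=
      X₀.isBasis_affineOpens.exists_subset_of_mem_open
        (show x ∈ ((f₀ ⁻¹ᵁ V : X₀.Opens) : Set X₀) from hyV) (f₀ ⁻¹ᵁ V).isOpen
    exact ⟨V, U, hV, hU, hxU, hUV⟩
  choose V U hV hU hxU hUV using hloc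
  obtain ⟨ts, hts⟩ := isCompact_univ.elim_finite_subcover
    (fun x => ((U x : X₀.Opens) : Set X₀))
    (fun x => (U x).isOpen) (fun x _ => Set.mem_iUnion.mpr ⟨x, hxU x⟩)
  have key : ∀ x : X₀, ∃ j : Over i₀,
      P (bcMor D i₀ (f₀.resLE (V x) (U x) (hUV x)) ((V x).ι ≫ g₀) j) := by
    intro x
    have hYV : IsPullback (qY ∣_ V x) ((qY ⁻¹ᵁ V x).ι ≫ g) ((V x).ι ≫ g₀) (c.π.app i₀) :=
      (isPullback_morphismRestrict qY (V x)).paste_vert hY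
    have e1 : qX ⁻¹ᵁ U x ≤ f ⁻¹ᵁ qY ⁻¹ᵁ V x := by
      rw [← Scheme.Hom.comp_preimage, ← hX.w, Scheme.Hom.comp_preimage]
      exact Scheme.Hom.preimage_mono qX (hUV x)
    have hXU := isPullback_resLE hX (U x) (V x) (hUV x) e1
    have : IsAffine ((U x : X₀.Opens) : Scheme.{u}) := hU x
    have : IsAffine ((V x : Y₀.Opens) : Scheme.{u}) := hV x
    exact H i₀ (f₀.resLE (V x) (U x) (hUV x)) ((V x).ι ≫ g₀)
      (IsZariskiLocalAtSource.resLE _ hQ) _ _ _ _ hYV hXU (IsZariskiLocalAtSource.resLE _ hf)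
  choose jx hjx using key
  obtain ⟨j, hj⟩ := IsCofiltered.inf_objs_exists (ts.image jx)
  refine ⟨j, fun k u => ?_⟩
  have hcover : ⨆ x : ts, (dFst D i₀ (f₀ ≫ g₀) k) ⁻¹ᵁ U x.1 = ⊤ := by
    rw [eq_top_iff]
    intro z _
    obtain ⟨x, hxt, hz⟩ :=
      Set.mem_iUnion₂.mp (hts (Set.mem_univ ((dFst D i₀ (f₀ ≫ g₀) k).base z)))
    exact TopologicalSpace.Opens.mem_iSup.mpr ⟨⟨x, hxt⟩, hz⟩
  apply IsZariskiLocalAtSource.of_iSup_eq_top (P := P)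
    (fun x : ts => (dFst D i₀ (f₀ ≫ g₀) k) ⁻¹ᵁ U x.1) hcover
  rintro ⟨x, hxt⟩
  obtain ⟨v⟩ := hj (Finset.mem_image_of_mem jx hxt)
  have hPk : P (bcMor D i₀ (f₀.resLE (V x) (U x) (hUV x)) ((V x).ι ≫ g₀) k) :=
    P.of_isPullback (isPullback_map_bcMor D i₀ _ _ (u ≫ v)) (hjx x)
  have e2 : (dFst D i₀ (f₀ ≫ g₀) k) ⁻¹ᵁ U x ≤
      (bcMor D i₀ f₀ g₀ k) ⁻¹ᵁ (dFst D i₀ g₀ k) ⁻¹ᵁ V x := by
    rw [← Scheme.Hom.comp_preimage, bcMor_fst, Scheme.Hom.comp_preimage]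
    exact Scheme.Hom.preimage_mono _ (hUV x)
  have S2 := isPullback_resLE (isPullback_bcMor D i₀ f₀ g₀ k) (U x) (V x) (hUV x) e2
  have S1 := isPullback_bcMor D i₀ (f₀.resLE (V x) (U x) (hUV x)) ((V x).ι ≫ g₀) k
  have hw : ((dFst D i₀ g₀ k) ∣_ V x) ≫ (V x).ι ≫ g₀ =
      (((dFst D i₀ g₀ k) ⁻¹ᵁ V x).ι ≫ dSnd D i₀ g₀ k) ≫ D.map k.hom := by
    rw [← Category.assoc, morphismRestrict_ι, Category.assoc, Category.assoc, d_condition]
  have hres : P ((bcMor D i₀ f₀ g₀ k).resLE _ _ e2) :=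
    of_two_pullbacks P S2 S1 (dLift k _ _ hw) (dLift_fst _ _ _ _) hPk
  show P (((dFst D i₀ (f₀ ≫ g₀) k) ⁻¹ᵁ U x).ι ≫ bcMor D i₀ f₀ g₀ k)
  rw [← Scheme.Hom.resLE_comp_ι _ e2]
  exact MorphismProperty.RespectsRight.postcomp (Q := @IsOpenImmersion) _ inferInstance _ hres

/-- The affine case for flatness. -/
theorem affCase2_flat (hc : IsLimit c) : AffCase2 D c @LocallyOfFinitePresentation @Flat := by
  intro i₀ X₀ Y₀ _ _ f₀ g₀ hQ X Y f g qY qX hY hX hf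
  have : LocallyOfFinitePresentation f₀ := hQ
  have : Flat f := hf
  have hπ : IsAffineHom (c.π.app i₀) := isAffineHom_π_app D c hc i₀
  have hqY : IsAffineHom qY := MorphismProperty.of_isPullback (P := @IsAffineHom) hY.flip hπ
  have hqX : IsAffineHom qX := MorphismProperty.of_isPullback (P := @IsAffineHom) hX.flip hqY
  have hYa : IsAffine Y := isAffine_of_isAffineHom qY
  have hXa : IsAffine X := isAffine_of_isAffineHom qX
  have h1 : ∀ j, IsAffine ((bcDiagram D i₀ (f₀ ≫ g₀)).obj j) := fun j => by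
    show IsAffine (pullback (f₀ ≫ g₀) (D.map j.hom))
    infer_instance
  have h2 : ∀ j, IsAffine ((bcDiagram D i₀ g₀).obj j) := fun j => by
    show IsAffine (pullback g₀ (D.map j.hom))
    infer_instance
  obtain ⟨hcF⟩ := nonempty_isColimit_Γ_mapCocone (bcDiagram D i₀ g₀) (bcCone i₀ hY)
    (isLimitBcCone i₀ hY hc)
  let α : (Functor.const (Over i₀)ᵒᵖ).obj (Scheme.Γ.obj (op Y₀)) ⟶
      (bcDiagram D i₀ g₀).op ⋙ Scheme.Γ :=
    { app := fun j => (dFst D i₀ g₀ j.unop).appTop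
      naturality := fun j k a => by
        show 𝟙 _ ≫ (dFst D i₀ g₀ k.unop).appTop =
          (dFst D i₀ g₀ j.unop).appTop ≫ ((bcDiagram D i₀ g₀).map a.unop).appTop
        rw [Category.id_comp, ← Scheme.Hom.comp_appTop, map_dFst] }
  obtain ⟨j, hj⟩ := Groth.Agent.Lib.Helper26.FlatStage.exists_flat_stage
    ((bcDiagram D i₀ g₀).op ⋙ Scheme.Γ) (Scheme.Γ.mapCocone (bcCone i₀ hY).op) hcF f₀.appTop
    (HasRingHomProperty.appTop (P := @LocallyOfFinitePresentation) f₀ inferInstance) α qY.appTop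
    (fun j => by
      show (dFst D i₀ g₀ j.unop).appTop ≫ (bcπ i₀ hY j.unop).appTop = qY.appTop
      rw [← Scheme.Hom.comp_appTop, bcπ_fst])
    qX.appTop f.appTop (isPushout_appTop_of_isPullback hX) f.flat_appTop
  refine ⟨j.unop, ?_⟩
  have := hj (dFst D i₀ (f₀ ≫ g₀) j.unop).appTop (bcMor D i₀ f₀ g₀ j.unop).appTop
    (isPushout_appTop_of_isPullback (isPullback_bcMor D i₀ f₀ g₀ j.unop))
  exact (HasRingHomProperty.iff_of_isAffine (P := @Flat)).mpr this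

end General

end Groth.Agent.Lib.Helper26.LimDescend
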