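import Mathlib
import Groth.Agent.Lib.Helper22LimBC2

/-!
Closedness of a locally closed subset descends to a finite stage of a cofiltered limit of schemes.
-/

universe u

namespace Groth.Agent.Lib.Helper22.LimClosed

open CategoryTheory CategoryTheory.Limits AlgebraicGeometry TopologicalSpace
open Groth.Agent.Lib.Helper22.LimBC

/-- in a scheme, a compact subset of an open is contained in a compact open inside it. -/
lemma exists_compact_open_between (X : Scheme.{u}) (K U : Set X) (hK : IsCompact K)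
    (hU : IsOpen U) (hKU : K ⊆ U) :
    ∃ V : X.Opens, IsCompact (V : Set X) ∧ K ⊆ V ∧ (V : Set X) ⊆ U := by
  refine hK.induction_on (p := fun K'' =>
    ∃ V : X.Opens, IsCompact (V : Set X) ∧ K'' ⊆ V ∧ (V : Set X) ⊆ U) ?_ ?_ ?_ ?_
  · exact ⟨⊥, isCompact_empty, le_rfl, Set.empty_subset _⟩
  · rintro s t hst ⟨V, hV, htV, hVU⟩
    exact ⟨V, hV, hst.trans htV, hVU⟩
  · rintro s t ⟨V, hV, hsV, hVU⟩ ⟨V', hV', htV', hV'U⟩
    refine ⟨V ⊔ V', ?_, ?_, ?_⟩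
    · rw [Opens.coe_sup]; exact hV.union hV'
    · rw [Opens.coe_sup]; exact Set.union_subset_union hsV htV'
    · rw [Opens.coe_sup]; exact Set.union_subset hVU hV'U
  · intro x hx
    obtain ⟨_, ⟨W, hW : IsAffineOpen W, rfl⟩, hxW, hWU⟩ :=
      X.isBasis_affineOpens.exists_subset_of_mem_open (hKU hx) hU
    exact ⟨W, mem_nhdsWithin_of_mem_nhds (W.isOpen.mem_nhds hxW), W, hW.isCompact, le_rfl, hWU⟩

/-- topological core: a locally closed set whose closure minus itself is covered by an open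
disjoint from the set is closed. -/
lemma isClosed_of_closure_diff_subset {X : Type*} [TopologicalSpace X] (E V : Set X)
    (hV : IsOpen V) (hTV : closure E \ E ⊆ V) (hVE : V ∩ E = ∅) : IsClosed E := by
  rw [← closure_subset_iff_isClosed]
  intro x hx
  by_contra hxE
  have hxV : x ∈ V := hTV ⟨hx, hxE⟩
  obtain ⟨y, hyV, hyE⟩ := mem_closure_iff.mp hx V hV hxV
  have : y ∈ V ∩ E := ⟨hyV, hyE⟩
  rw [hVE] at this
  exact this

lemma map_π_apply' {I : Type u} [SmallCategory I] (D : I ⥤ Scheme.{u}) (c : Limits.Cone D)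
    {i j : I} (a : i ⟶ j) (x : c.pt) : D.map a (c.π.app i x) = c.π.app j x := by
  rw [← c.w a]
  rfl

lemma map_comp_apply' {I : Type u} [SmallCategory I] (D : I ⥤ Scheme.{u})
    {i j k : I} (a : i ⟶ j) (b : j ⟶ k) (x : D.obj i) :
    D.map (a ≫ b) x = D.map b (D.map a x) := by
  rw [Functor.map_comp]
  rfl

set_option backward.isDefEq.respectTransparency.types false in
lemma core {I : Type u} [SmallCategory I] [IsCofiltered I]
    (D : I ⥤ Scheme.{u}) (c : Limits.Cone D) (hc : Limits.IsLimit c)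
    [∀ (i j : I) (f : i ⟶ j), IsAffineHom (D.map f)] (i₀ : I) [CompactSpace (D.obj i₀)]
    {Z₀ : Scheme.{u}} (ι₀ : Z₀ ⟶ D.obj i₀) [QuasiCompact ι₀]
    (hT₀ : IsClosed (closure (Set.range ι₀) \ Set.range ι₀))
    (j : I) (φ : j ⟶ i₀) (Vj : (D.obj j).Opens) (hVjc : IsCompact (Vj : Set (D.obj j)))
    (hTV : ∀ x : c.pt, c.π.app i₀ x ∈ closure (Set.range ι₀) \ Set.range ι₀ → c.π.app j x ∈ Vj)
    (hVE : ∀ x : c.pt, c.π.app j x ∈ Vj → c.π.app i₀ x ∉ Set.range ι₀) :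
    ∃ (k : I) (ψ : k ⟶ j), IsClosed (⇑(D.map (ψ ≫ φ)) ⁻¹' Set.range ι₀) := by
  have inst : ∀ {i j : I} (f : i ⟶ j), IsAffineHom (D.map f) := fun f => inferInstance
  have hP := IsPullback.of_hasPullback ι₀ (c.π.app i₀)
  have hcj : CompactSpace (D.obj j) := QuasiCompact.compactSpace_of_compactSpace (D.map φ)
  -- step 5
  let Cj : Set (D.obj j) := ⇑(D.map φ) ⁻¹' (closure (Set.range ι₀) \ Set.range ι₀) \ Vj
  have hCj : IsClosed Cj := (hT₀.preimage (D.map φ).continuous).sdiff Vj.isOpen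
  have H5 : c.π.app j ⁻¹ᵁ ⊤ ≤ c.π.app j ⁻¹ᵁ ⟨Cjᶜ, hCj.isOpen_compl⟩ := by
    intro x _
    show c.π.app j x ∉ Cj
    rintro ⟨h1, h2⟩
    have h1' : D.map φ (c.π.app j x) ∈ closure (Set.range ι₀) \ Set.range ι₀ := h1
    rw [map_π_apply'] at h1'
    exact h2 (hTV x h1')
  obtain ⟨k₁, f₁, h₁⟩ := exists_map_preimage_le_map_preimage D c hc (i := j) (U := ⊤)
    (V := ⟨Cjᶜ, hCj.isOpen_compl⟩) isCompact_univ H5
  -- step 6
  let jO : Over i₀ := Over.mk φ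
  have hqc : QuasiCompact (dSnd D i₀ ι₀ jO) :=
    MorphismProperty.pullback_snd (P := @QuasiCompact) ι₀ (D.map φ) inferInstance
  let Wj : ((bcDiagram D i₀ ι₀).obj jO).Opens := (dSnd D i₀ ι₀ jO) ⁻¹ᵁ Vj
  have hWc : IsCompact (Wj : Set ((bcDiagram D i₀ ι₀).obj jO)) :=
    QuasiCompact.isCompact_preimage (f := dSnd D i₀ ι₀ jO) _ Vj.2 hVjc
  have H6 : (bcCone i₀ hP).π.app jO ⁻¹ᵁ Wj ≤ (bcCone i₀ hP).π.app jO ⁻¹ᵁ ⊥ := by
    intro z hz
    exfalso
    have hz' : dSnd D i₀ ι₀ jO (bcπ i₀ hP jO z) ∈ Vj := hz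
    rw [← Scheme.Hom.comp_apply, bcπ_snd, Scheme.Hom.comp_apply] at hz'
    refine hVE _ hz' ?_
    rw [← Scheme.Hom.comp_apply, ← hP.w, Scheme.Hom.comp_apply]
    exact ⟨_, rfl⟩
  obtain ⟨k₂, f₂, h₂⟩ := exists_map_preimage_le_map_preimage (bcDiagram D i₀ ι₀) (bcCone i₀ hP)
    (isLimitBcCone i₀ hP hc) (i := jO) (U := Wj) (V := ⊥) hWc H6
  -- step 7
  obtain ⟨k, a₁, a₂, hk⟩ := IsCofiltered.cospan f₁ f₂.left
  refine ⟨k, a₁ ≫ f₁, ?_⟩
  let ψ : k ⟶ j := a₁ ≫ f₁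
  let kO : Over i₀ := Over.mk (ψ ≫ φ)
  have hw : f₂.left ≫ φ = k₂.hom := Over.w f₂
  let b : kO ⟶ k₂ := Over.homMk a₂ (by
    show a₂ ≫ k₂.hom = ψ ≫ φ
    rw [← hw, ← Category.assoc, ← hk])
  let g : kO ⟶ jO := Over.homMk ψ rfl
  have hg : g = b ≫ f₂ := by
    apply Over.OverMorphism.ext
    show ψ = a₂ ≫ f₂.left
    exact hk
  show IsClosed (⇑(D.map (ψ ≫ φ)) ⁻¹' Set.range ι₀)
  refine isClosed_of_closure_diff_subset _ (⇑(D.map ψ) ⁻¹' (Vj : Set (D.obj j)))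
    (Vj.isOpen.preimage (D.map ψ).continuous) ?_ ?_
  · rintro x ⟨hx1, hx2⟩
    have hx1' : D.map (ψ ≫ φ) x ∈ closure (Set.range ι₀) :=
      (D.map (ψ ≫ φ)).continuous.closure_preimage_subset _ hx1
    by_contra hxV
    have hxC : D.map ψ x ∈ Cj := by
      refine ⟨?_, hxV⟩
      show D.map φ (D.map ψ x) ∈ closure (Set.range ι₀) \ Set.range ι₀
      rw [← map_comp_apply']
      exact ⟨hx1', hx2⟩
    have := h₁ (show D.map a₁ x ∈ D.map f₁ ⁻¹ᵁ ⊤ from trivial)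
    have h' : D.map f₁ (D.map a₁ x) ∉ Cj := this
    rw [← map_comp_apply'] at h'
    exact h' hxC
  · rw [Set.eq_empty_iff_forall_notMem]
    rintro x ⟨hxV, hxE⟩
    have hr : Set.range (dSnd D i₀ ι₀ kO) = ⇑(D.map (ψ ≫ φ)) ⁻¹' Set.range ι₀ :=
      Scheme.Pullback.range_snd _ _
    rw [← hr] at hxE
    obtain ⟨z, rfl⟩ := hxE
    have hz : (bcDiagram D i₀ ι₀).map g z ∈ Wj := by
      show dSnd D i₀ ι₀ jO ((bcDiagram D i₀ ι₀).map g z) ∈ Vj
      rw [← Scheme.Hom.comp_apply, map_dSnd, Scheme.Hom.comp_apply]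
      exact hxV
    rw [hg, Functor.map_comp, Scheme.Hom.comp_apply] at hz
    exact h₂ hz

set_option backward.isDefEq.respectTransparency.types false in

/-- If `ι₀ : Z₀ ⟶ S_{i₀}` is quasi-compact with locally closed range `E₀` (in the form:
`closure E₀ \ E₀` is closed), `S_{i₀}` is compact, and the preimage of `E₀` in the limit `S` is
closed, then the preimage of `E₀` in some `S_k` is closed. -/
theorem exists_isClosed_preimage_range {I : Type u} [SmallCategory I] [IsCofiltered I]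
    (D : I ⥤ Scheme.{u}) (c : Limits.Cone D) (hc : Limits.IsLimit c)
    [∀ (i j : I) (f : i ⟶ j), IsAffineHom (D.map f)] (i₀ : I) [CompactSpace (D.obj i₀)]
    {Z₀ : Scheme.{u}} (ι₀ : Z₀ ⟶ D.obj i₀) [QuasiCompact ι₀]
    (hT₀ : IsClosed (closure (Set.range ι₀) \ Set.range ι₀))
    (hE : IsClosed (⇑(c.π.app i₀) ⁻¹' Set.range ι₀ : Set c.pt)) :
    ∃ (k : I) (ψ : k ⟶ i₀), IsClosed (⇑(D.map ψ) ⁻¹' Set.range ι₀) := by
  have inst : ∀ {i j : I} (f : i ⟶ j), IsAffineHom (D.map f) := fun f => inferInstance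
  have hπaff : IsAffineHom (c.π.app i₀) := isAffineHom_π_app D c hc i₀
  have hcpt : CompactSpace c.pt := QuasiCompact.compactSpace_of_compactSpace (c.π.app i₀)
  have hTc : IsCompact (⇑(c.π.app i₀) ⁻¹' (closure (Set.range ι₀) \ Set.range ι₀) : Set c.pt) :=
    IsClosed.isCompact (X := c.pt) (hT₀.preimage (c.π.app i₀).continuous)
  have hTE : (⇑(c.π.app i₀) ⁻¹' (closure (Set.range ι₀) \ Set.range ι₀) : Set c.pt) ⊆
      (⇑(c.π.app i₀) ⁻¹' Set.range ι₀ : Set c.pt)ᶜ := fun x hx hx' => hx.2 hx'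
  obtain ⟨V', hV'c, hTV', hV'E⟩ :=
    exists_compact_open_between c.pt _ _ hTc hE.isOpen_compl hTE
  obtain ⟨j', Vj', hVj'c, hVj'⟩ := exists_preimage_eq D c hc V' hV'c
  let j : I := IsCofiltered.min j' i₀
  let a : j ⟶ j' := IsCofiltered.minToLeft j' i₀
  let φ : j ⟶ i₀ := IsCofiltered.minToRight j' i₀
  let Vj : (D.obj j).Opens := D.map a ⁻¹ᵁ Vj'
  have hVjc : IsCompact (Vj : Set (D.obj j)) :=
    QuasiCompact.isCompact_preimage (f := D.map a) _ Vj'.2 hVj'c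
  have hVj : ∀ x : c.pt, c.π.app j x ∈ Vj ↔ x ∈ V' := by
    intro x
    rw [← hVj']
    show D.map a (c.π.app j x) ∈ Vj' ↔ c.π.app j' x ∈ Vj'
    rw [map_π_apply']
  obtain ⟨k, ψ, hk⟩ := core D c hc i₀ ι₀ hT₀ j φ Vj hVjc
    (fun x hx => (hVj x).mpr (hTV' hx))
    (fun x hx hx' => hV'E ((hVj x).mp hx) hx')
  exact ⟨k, ψ ≫ φ, hk⟩

end Groth.Agent.Lib.Helper22.LimClosed
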