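import Mathlib
import Groth.Agent.Lib.Helper22LimClosed

/-!
Separatedness of a base change descends to a finite stage of a cofiltered limit of schemes.
-/

universe u

namespace Groth.Agent.Lib.Helper22.LimSep

open CategoryTheory CategoryTheory.Limits AlgebraicGeometry TopologicalSpace
open Groth.Agent.Lib.Helper22.LimBC Groth.Agent.Lib.Helper22.LimClosed

section cat

variable {C : Type*} [Category C] [HasPullbacks C]
variable {X' Y' X₀ Y₀ : C} {pX : X' ⟶ X₀} {f' : X' ⟶ Y'} {f₀ : X₀ ⟶ Y₀} {pY : Y' ⟶ Y₀}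

/-- the map `X' ×_{Y'} X' ⟶ X₀ ×_{Y₀} X₀` induced by a base change square. -/
noncomputable def dmap (h : IsPullback pX f' f₀ pY) : pullback f' f' ⟶ pullback f₀ f₀ :=
  pullback.map f' f' f₀ f₀ pX pX pY h.w.symm h.w.symm

@[reassoc]
lemma dmap_fst (h : IsPullback pX f' f₀ pY) :
    dmap h ≫ pullback.fst f₀ f₀ = pullback.fst f' f' ≫ pX :=
  pullback.lift_fst _ _ _

@[reassoc]
lemma dmap_snd (h : IsPullback pX f' f₀ pY) :
    dmap h ≫ pullback.snd f₀ f₀ = pullback.snd f' f' ≫ pX :=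
  pullback.lift_snd _ _ _

lemma isPullback_dmap_fst (h : IsPullback pX f' f₀ pY) :
    IsPullback (dmap h) (pullback.fst f' f') (pullback.fst f₀ f₀) pX := by
  have s : IsPullback (dmap h ≫ pullback.snd f₀ f₀) (pullback.fst f' f') f₀ (pX ≫ f₀) := by
    rw [dmap_snd, h.w]
    exact (IsPullback.of_hasPullback f' f').flip.paste_horiz h
  exact IsPullback.of_right s (dmap_fst h) (IsPullback.of_hasPullback f₀ f₀).flip

lemma isPullback_dmap (h : IsPullback pX f' f₀ pY) :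
    IsPullback (dmap h) (pullback.fst f' f' ≫ f') (pullback.fst f₀ f₀ ≫ f₀) pY :=
  (isPullback_dmap_fst h).paste_vert h

@[reassoc]
lemma diagonal_dmap (h : IsPullback pX f' f₀ pY) :
    pullback.diagonal f' ≫ dmap h = pX ≫ pullback.diagonal f₀ := by
  apply pullback.hom_ext
  · rw [Category.assoc, dmap_fst, pullback.diagonal_fst_assoc, Category.assoc,
      pullback.diagonal_fst, Category.comp_id]
  · rw [Category.assoc, dmap_snd, pullback.diagonal_snd_assoc, Category.assoc,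
      pullback.diagonal_snd, Category.comp_id]

lemma isPullback_diagonal (h : IsPullback pX f' f₀ pY) :
    IsPullback pX (pullback.diagonal f') (pullback.diagonal f₀) (dmap h) := by
  have s : IsPullback (pullback.diagonal f' ≫ pullback.fst f' f') pX pX
      (pullback.diagonal f₀ ≫ pullback.fst f₀ f₀) := by
    rw [pullback.diagonal_fst, pullback.diagonal_fst]
    exact IsPullback.of_horiz_isIso ⟨by simp⟩
  exact (IsPullback.of_right s (diagonal_dmap h) (isPullback_dmap_fst h).flip).flip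

end cat

section flex

variable {I : Type u} [SmallCategory I] [IsCofiltered I]
    (D : I ⥤ Scheme.{u}) (c : Limits.Cone D) (hc : Limits.IsLimit c)
    [∀ (i j : I) (f : i ⟶ j), IsAffineHom (D.map f)] (i₀ : I)

lemma range_comp_inv {A B Z : Scheme.{u}} (e : A ⟶ B) [IsIso e] (ι : Z ⟶ B) :
    Set.range ⇑(ι ≫ inv e) = ⇑e ⁻¹' Set.range ⇑ι := by
  ext y
  constructor
  · rintro ⟨x, rfl⟩
    refine ⟨x, ?_⟩
    rw [← Scheme.Hom.comp_apply, Category.assoc, IsIso.inv_hom_id, Category.comp_id]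
  · rintro ⟨x, hx⟩
    refine ⟨x, ?_⟩
    rw [Scheme.Hom.comp_apply, hx, ← Scheme.Hom.comp_apply, IsIso.hom_inv_id]
    rfl

lemma preimage_closure_of_isIso {A B : Scheme.{u}} (e : A ⟶ B) [IsIso e] (s : Set B) :
    ⇑e ⁻¹' closure s = closure (⇑e ⁻¹' s) :=
  (e.homeomorph.preimage_closure s)

include hc in
set_option backward.isDefEq.respectTransparency.types false in
/-- flexible version of `exists_isClosed_preimage_range`: the stage `B₀` is a scheme over `S_{i₀}`. -/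
theorem exists_isClosed_preimage_range_bc {B₀ Z₀ B : Scheme.{u}} (b₀ : B₀ ⟶ D.obj i₀)
    [CompactSpace B₀] (ι₀ : Z₀ ⟶ B₀) [QuasiCompact ι₀]
    (hT₀ : IsClosed (closure (Set.range ι₀) \ Set.range ι₀))
    {qB : B ⟶ B₀} {pB : B ⟶ c.pt} (hP : IsPullback qB pB b₀ (c.π.app i₀))
    (hE : IsClosed (⇑qB ⁻¹' Set.range ι₀)) :
    ∃ k : Over i₀, IsClosed (⇑(dFst D i₀ b₀ k) ⁻¹' Set.range ι₀) := by
  have inst : ∀ {i j : I} (f : i ⟶ j), IsAffineHom (D.map f) := fun f => inferInstance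
  let D' := bcDiagram D i₀ b₀
  let i₀' : Over i₀ := Over.mk (𝟙 i₀)
  have hiso : IsIso (dFst D i₀ b₀ i₀') := by
    have : IsIso (D.map i₀'.hom) := by
      show IsIso (D.map (𝟙 i₀))
      rw [D.map_id]; infer_instance
    exact pullback_fst_iso_of_right_iso b₀ (D.map i₀'.hom)
  let e := dFst D i₀ b₀ i₀'
  let ι₀' : Z₀ ⟶ D'.obj i₀' := ι₀ ≫ inv e
  have hr : Set.range ⇑ι₀' = ⇑e ⁻¹' Set.range ⇑ι₀ := range_comp_inv e ι₀
  have hqc : QuasiCompact ι₀' := inferInstance
  have hT₀' : IsClosed (closure (Set.range ι₀') \ Set.range ι₀') := by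
    rw [hr, ← preimage_closure_of_isIso, ← Set.preimage_diff]
    exact hT₀.preimage e.continuous
  have hE' : IsClosed (⇑((bcCone i₀ hP).π.app i₀') ⁻¹' Set.range ι₀' : Set (bcCone i₀ hP).pt) := by
    rw [hr]
    show IsClosed (⇑(bcπ i₀ hP i₀') ⁻¹' (⇑e ⁻¹' Set.range ⇑ι₀))
    have : ⇑qB = ⇑e ∘ ⇑(bcπ i₀ hP i₀') := by
      rw [← TopCat.coe_comp, ← Scheme.Hom.comp_base, bcπ_fst i₀ hP i₀']
    rw [← Set.preimage_comp, ← this]
    exact hE
  obtain ⟨k, ψ, hk⟩ := exists_isClosed_preimage_range D' (bcCone i₀ hP) (isLimitBcCone i₀ hP hc)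
    i₀' ι₀' hT₀' hE'
  refine ⟨k, ?_⟩
  rw [hr, ← Set.preimage_comp] at hk
  have : ⇑(dFst D i₀ b₀ k) = ⇑e ∘ ⇑(D'.map ψ) := by
    rw [← TopCat.coe_comp, ← Scheme.Hom.comp_base, map_dFst]
  rw [this]
  exact hk

end flex

section sep

variable {I : Type u} [SmallCategory I] [IsCofiltered I]
    (D : I ⥤ Scheme.{u}) (c : Limits.Cone D) (hc : Limits.IsLimit c)
    [∀ (i j : I) (f : i ⟶ j), IsAffineHom (D.map f)] (i₀ : I)

lemma coe_eq_comp_of_comp_eq {A B C : Scheme.{u}} (p : A ⟶ B) (q : B ⟶ C) (r : A ⟶ C)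
    (h : p ≫ q = r) : ⇑r = ⇑q ∘ ⇑p := by
  rw [← h]; rfl

lemma range_diagonal_of_isPullback {X' Y' X₀ Y₀ : Scheme.{u}} {pX : X' ⟶ X₀} {f' : X' ⟶ Y'}
    {f₀ : X₀ ⟶ Y₀} {pY : Y' ⟶ Y₀} (h : IsPullback pX f' f₀ pY) :
    Set.range ⇑(pullback.diagonal f') = ⇑(dmap h) ⁻¹' Set.range ⇑(pullback.diagonal f₀) := by
  have := Scheme.image_preimage_eq_of_isPullback (isPullback_diagonal h) Set.univ
  rw [Set.preimage_univ, Set.image_univ, Set.image_univ] at this
  exact this

include hc in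
set_option backward.isDefEq.respectTransparency.types false in
/-- if the base change `f` of `f₀` to the limit is separated then so is the base change to some
stage, provided `X₀ ×_{Y₀} X₀` is compact and `f₀` is quasi-separated. -/
theorem exists_isSeparated_bcMor {X₀ Y₀ : Scheme.{u}} (f₀ : X₀ ⟶ Y₀) (g₀ : Y₀ ⟶ D.obj i₀)
    [CompactSpace ↥(pullback f₀ f₀)] [QuasiCompact (pullback.diagonal f₀)]
    {X Y : Scheme.{u}} {f : X ⟶ Y} {g : Y ⟶ c.pt} {qY : Y ⟶ Y₀} {qX : X ⟶ X₀}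
    (hY : IsPullback qY g g₀ (c.π.app i₀)) (hX : IsPullback qX f f₀ qY) [IsSeparated f] :
    ∃ k : Over i₀, IsSeparated (bcMor D i₀ f₀ g₀ k) := by
  let b₀ : pullback f₀ f₀ ⟶ D.obj i₀ := (pullback.fst f₀ f₀ ≫ f₀) ≫ g₀
  have hP : IsPullback (dmap hX) ((pullback.fst f f ≫ f) ≫ g) b₀ (c.π.app i₀) :=
    (isPullback_dmap hX).paste_vert hY
  have hT₀ : IsClosed (closure (Set.range (pullback.diagonal f₀)) \
      Set.range (pullback.diagonal f₀)) := by
    have := isLocallyClosed_iff_isOpen_coborder.mp (pullback.diagonal f₀).isLocallyClosed_range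
    exact isOpen_compl_iff.mp this
  have hE : IsClosed (⇑(dmap hX) ⁻¹' Set.range (pullback.diagonal f₀)) := by
    rw [← range_diagonal_of_isPullback hX]
    exact (pullback.diagonal f).isClosedEmbedding.isClosed_range
  obtain ⟨k, hk⟩ := exists_isClosed_preimage_range_bc D c hc i₀ b₀ (pullback.diagonal f₀) hT₀ hP hE
  refine ⟨k, ?_⟩
  have hk' := isPullback_bcMor D i₀ f₀ g₀ k
  have hPk : IsPullback (dmap hk')
      ((pullback.fst _ _ ≫ bcMor D i₀ f₀ g₀ k) ≫ dSnd D i₀ g₀ k) b₀ (D.map k.hom) :=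
    (isPullback_dmap hk').paste_vert (isPullback_d D i₀ g₀ k)
  have he : hPk.isoPullback.hom ≫ dFst D i₀ b₀ k = dmap hk' := hPk.isoPullback_hom_fst
  have hcl : IsClosed (⇑(dmap hk') ⁻¹' Set.range (pullback.diagonal f₀)) := by
    have := coe_eq_comp_of_comp_eq _ _ _ he
    rw [this, Set.preimage_comp]
    exact hk.preimage hPk.isoPullback.hom.continuous
  rw [← range_diagonal_of_isPullback hk'] at hcl
  exact ⟨IsClosedImmersion.of_isPreimmersion _ hcl⟩

end sep

end Groth.Agent.Lib.Helper22.LimSep
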