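import Mathlib
import Groth.Agent.S4805
import Groth.Agent.Lib.Helper26LimDescend

set_option autoImplicit false
universe u
open CategoryTheory Limits AlgebraicGeometry

namespace Groth.Agent.Lib.Helper26.LimDescend

open Groth.Agent.Lib.Helper22.LimBC


/-- Auxiliary step: once the range descends to an open `Uk` of a stage through which the stage
morphism factors, apply descent of isomorphisms. -/
theorem exists_isOpenImmersion_bcMor_aux {I : Type u} [SmallCategory I] [IsCofiltered I]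
    (D : I ⥤ Scheme.{u}) (c : Cone D) (hc : IsLimit c)
    [∀ (i j : I) (f : i ⟶ j), IsAffineHom (D.map f)]
    (i₀ : I) {Z₀ B₀ : Scheme.{u}} (ι₀ : Z₀ ⟶ B₀) (b₀ : B₀ ⟶ D.obj i₀) [CompactSpace B₀]
    [QuasiSeparatedSpace B₀]
    [LocallyOfFinitePresentation ι₀] [QuasiCompact ι₀] [QuasiSeparated ι₀]
    {Z B : Scheme.{u}} (ι : Z ⟶ B) (pB : B ⟶ c.pt) (qB : B ⟶ B₀) (qZ : Z ⟶ Z₀)
    (hB : IsPullback qB pB b₀ (c.π.app i₀)) (hZ : IsPullback qZ ι ι₀ qB) [IsOpenImmersion ι]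
    (k : Over i₀) (Uk : ((bcDiagram D i₀ b₀).obj k).Opens)
    (hUkc : IsCompact (Uk : Set ((bcDiagram D i₀ b₀).obj k)))
    (h1 : bcMor D i₀ ι₀ b₀ k ⁻¹ᵁ Uk = ⊤) (h2 : bcπ i₀ hB k ⁻¹ᵁ Uk = ι.opensRange) :
    ∃ l : Over i₀, IsOpenImmersion (bcMor D i₀ ι₀ b₀ l) := by
  have inst : ∀ {i j : I} (f : i ⟶ j), IsAffineHom (D.map f) := fun f => inferInstance
  have hcB := isLimitBcCone i₀ hB hc
  -- factor the stage morphism through `Uk`
  have hr1 : Set.range (bcMor D i₀ ι₀ b₀ k) ⊆ Set.range Uk.ι := by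
    rw [Scheme.Opens.range_ι]
    rintro _ ⟨x, rfl⟩
    have : x ∈ bcMor D i₀ ι₀ b₀ k ⁻¹ᵁ Uk := h1 ▸ trivial
    exact this
  have hfac := IsOpenImmersion.lift_fac Uk.ι (bcMor D i₀ ι₀ b₀ k) hr1
  -- the isomorphism at the limit
  have hr2 : Set.range ι = Set.range (bcπ i₀ hB k ⁻¹ᵁ Uk).ι := by
    rw [Scheme.Opens.range_ι, h2, Scheme.Hom.coe_opensRange]
  have hfac2 := IsOpenImmersion.isoOfRangeEq_hom_fac ι (bcπ i₀ hB k ⁻¹ᵁ Uk).ι hr2
  -- pullback squares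
  have hY' : IsPullback ((bcπ i₀ hB k) ∣_ Uk) (bcπ i₀ hB k ⁻¹ᵁ Uk).ι Uk.ι
      ((bcCone i₀ hB).π.app k) := isPullback_morphismRestrict (bcπ i₀ hB k) Uk
  have hX' : IsPullback (bcπ i₀ (hZ.paste_vert hB) k)
      (IsOpenImmersion.isoOfRangeEq ι (bcπ i₀ hB k ⁻¹ᵁ Uk).ι hr2).hom
      (IsOpenImmersion.lift Uk.ι (bcMor D i₀ ι₀ b₀ k) hr1) ((bcπ i₀ hB k) ∣_ Uk) := by
    refine IsPullback.of_bot ?_ ?_ hY'
    · rw [hfac, hfac2]
      exact isPullback_bcπ_bcMor hB hZ k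
    · rw [← cancel_mono Uk.ι, Category.assoc, Category.assoc, hfac, morphismRestrict_ι,
        reassoc_of% hfac2, bcπ_bcMor hB hZ k]
  -- instances for descent of isomorphisms
  have hUkcs : CompactSpace ((Uk : ((bcDiagram D i₀ b₀).obj k).Opens) : Scheme.{u}) :=
    isCompact_iff_compactSpace.mp hUkc
  have i1 : LocallyOfFinitePresentation (bcMor D i₀ ι₀ b₀ k) :=
    MorphismProperty.of_isPullback (P := @LocallyOfFinitePresentation)
      (isPullback_bcMor D i₀ ι₀ b₀ k) inferInstance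
  have i2 : QuasiCompact (bcMor D i₀ ι₀ b₀ k) :=
    MorphismProperty.of_isPullback (P := @QuasiCompact)
      (isPullback_bcMor D i₀ ι₀ b₀ k) inferInstance
  have i3 : QuasiSeparated (bcMor D i₀ ι₀ b₀ k) :=
    MorphismProperty.of_isPullback (P := @QuasiSeparated)
      (isPullback_bcMor D i₀ ι₀ b₀ k) inferInstance
  have i1' : LocallyOfFinitePresentation
      (IsOpenImmersion.lift Uk.ι (bcMor D i₀ ι₀ b₀ k) hr1 ≫ Uk.ι) := by rw [hfac]; exact i1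
  have i2' : QuasiCompact
      (IsOpenImmersion.lift Uk.ι (bcMor D i₀ ι₀ b₀ k) hr1 ≫ Uk.ι) := by rw [hfac]; exact i2
  have i3' : QuasiSeparated
      (IsOpenImmersion.lift Uk.ι (bcMor D i₀ ι₀ b₀ k) hr1 ≫ Uk.ι) := by rw [hfac]; exact i3
  obtain ⟨l, φ, Xl, Yl, fl, gl, pY, pX, hpY, hpX, hfl⟩ :=
    Groth.Agent.S4805.result (bcDiagram D i₀ b₀) (bcCone i₀ hB) hcB k
      (IsOpenImmersion.lift Uk.ι (bcMor D i₀ ι₀ b₀ k) hr1) Uk.ι
      (IsOpenImmersion.isoOfRangeEq ι (bcπ i₀ hB k ⁻¹ᵁ Uk).ι hr2).hom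
      (bcπ i₀ hB k ⁻¹ᵁ Uk).ι ((bcπ i₀ hB k) ∣_ Uk) (bcπ i₀ (hZ.paste_vert hB) k) hY' hX'
  refine ⟨l, ?_⟩
  have hgl : IsOpenImmersion gl :=
    MorphismProperty.of_isPullback (P := @IsOpenImmersion) hpY inferInstance
  have S1 := hpX.paste_vert hpY
  rw [hfac] at S1
  exact of_two_pullbacks @IsOpenImmersion (isPullback_map_bcMor D i₀ ι₀ b₀ φ) S1 (𝟙 _)
    (Category.id_comp _) inferInstance

/-- Open immersions descend: if the base change to the limit of a morphism `ι₀ : Z₀ ⟶ B₀` of finite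
presentation is an open immersion, then so is the base change to some stage. -/
theorem exists_isOpenImmersion_bcMor {I : Type u} [SmallCategory I] [IsCofiltered I]
    (D : I ⥤ Scheme.{u}) (c : Cone D) (hc : IsLimit c)
    [∀ (i j : I) (f : i ⟶ j), IsAffineHom (D.map f)]
    (i₀ : I) {Z₀ B₀ : Scheme.{u}} (ι₀ : Z₀ ⟶ B₀) (b₀ : B₀ ⟶ D.obj i₀) [CompactSpace B₀]
    [QuasiSeparatedSpace B₀]
    [LocallyOfFinitePresentation ι₀] [QuasiCompact ι₀] [QuasiSeparated ι₀]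
    {Z B : Scheme.{u}} (ι : Z ⟶ B) (pB : B ⟶ c.pt) (qB : B ⟶ B₀) (qZ : Z ⟶ Z₀)
    (hB : IsPullback qB pB b₀ (c.π.app i₀)) (hZ : IsPullback qZ ι ι₀ qB) [IsOpenImmersion ι] :
    ∃ l : Over i₀, IsOpenImmersion (bcMor D i₀ ι₀ b₀ l) := by
  have inst : ∀ {i j : I} (f : i ⟶ j), IsAffineHom (D.map f) := fun f => inferInstance
  have hZ₀c : CompactSpace Z₀ := QuasiCompact.compactSpace_of_compactSpace ι₀
  have hZ₀q : QuasiSeparatedSpace Z₀ := quasiSeparatedSpace_of_quasiSeparated ι₀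
  have hπ : IsAffineHom (c.π.app i₀) := isAffineHom_π_app D c hc i₀
  have hqB : IsAffineHom qB := MorphismProperty.of_isPullback (P := @IsAffineHom) hB.flip hπ
  have hqZ : IsAffineHom qZ := MorphismProperty.of_isPullback (P := @IsAffineHom) hZ.flip hqB
  have hZc : CompactSpace Z := QuasiCompact.compactSpace_of_compactSpace qZ
  have hcB := isLimitBcCone i₀ hB hc
  have hcZ := isLimitBcCone i₀ (hZ.paste_vert hB) hc
  -- Step 1-2: descend the open range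
  have hU : IsCompact ((ι.opensRange : B.Opens) : Set B) := by
    rw [Scheme.Hom.coe_opensRange]
    exact isCompact_range ι.continuous
  obtain ⟨j, Uj, hUjc, hUj⟩ := exists_preimage_eq (bcDiagram D i₀ b₀) (bcCone i₀ hB) hcB
    ι.opensRange hU
  -- Step 3
  have hW : (bcCone i₀ (hZ.paste_vert hB)).π.app j ⁻¹ᵁ ((bcMor D i₀ ι₀ b₀ j) ⁻¹ᵁ Uj) = ⊤ := by
    show bcπ i₀ (hZ.paste_vert hB) j ⁻¹ᵁ ((bcMor D i₀ ι₀ b₀ j) ⁻¹ᵁ Uj) = ⊤
    rw [← Scheme.Hom.comp_preimage, bcπ_bcMor hB hZ j, Scheme.Hom.comp_preimage]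
    have : bcπ i₀ hB j ⁻¹ᵁ Uj = ι.opensRange := hUj
    rw [this, Scheme.Hom.preimage_opensRange]
  obtain ⟨k, a, hk⟩ := exists_map_eq_top (bcDiagram D i₀ (ι₀ ≫ b₀))
    (bcCone i₀ (hZ.paste_vert hB)) hcZ ((bcMor D i₀ ι₀ b₀ j) ⁻¹ᵁ Uj) hW
  refine exists_isOpenImmersion_bcMor_aux D c hc i₀ ι₀ b₀ ι pB qB qZ hB hZ k
    ((bcDiagram D i₀ b₀).map a ⁻¹ᵁ Uj) ?_ ?_ ?_
  · exact QuasiCompact.isCompact_preimage (f := (bcDiagram D i₀ b₀).map a) _ Uj.2 hUjc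
  · rw [← Scheme.Hom.comp_preimage, ← map_bcMor, Scheme.Hom.comp_preimage]
    exact hk
  · rw [← Scheme.Hom.comp_preimage, bcπ_map]
    exact hUj

end Groth.Agent.Lib.Helper26.LimDescend
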