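import Mathlib
import Groth.Agent.S4805
import Groth.Agent.S9192

/-!
Isomorphisms between schemes of finite presentation over a cofiltered limit `S = lim S_i`
(affine transition maps) descend to a stage (helper26).
-/

set_option autoImplicit false
universe u
open CategoryTheory Limits AlgebraicGeometry

namespace Groth.Agent.Lib.Helper26.LimIso

open Groth.Agent.Lib.Helper26.LimDescend Groth.Agent.Lib.Helper22.LimBC

variable {I : Type u} [SmallCategory I] (D : I ⥤ Scheme.{u})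

/-- `X_k = X_j ×_{S_j} S_k`. -/
lemma isPullback_map_dSnd (i : I) {Xi : Scheme.{u}} (xi : Xi ⟶ D.obj i) {j k : Over i}
    (φ : k ⟶ j) :
    IsPullback ((bcDiagram D i xi).map φ) (dSnd D i xi k) (dSnd D i xi j) (D.map φ.left) := by
  refine IsPullback.of_right ?_ (map_dSnd D i xi φ) (isPullback_d D i xi j)
  rw [map_dFst, ← D.map_comp, Over.w φ]
  exact isPullback_d D i xi k

/-- The structure maps `X_j ⟶ S_{i₀}`. -/
noncomputable def tS (i₀ : I) {X₀ : Scheme.{u}} (a₀ : X₀ ⟶ D.obj i₀) :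
    bcDiagram D i₀ a₀ ⟶ (Functor.const (Over i₀)).obj (D.obj i₀) where
  app j := dFst D i₀ a₀ j ≫ a₀
  naturality j k a := by
    show (bcDiagram D i₀ a₀).map a ≫ dFst D i₀ a₀ k ≫ a₀ = (dFst D i₀ a₀ j ≫ a₀) ≫ 𝟙 _
    rw [Category.comp_id, map_dFst_assoc]

variable [IsCofiltered I] {c : Cone D} (hc : IsLimit c)
  [∀ {i j : I} (f : i ⟶ j), IsAffineHom (D.map f)]

include hc in
/-- Isomorphisms of finitely presented schemes over the limit descend to a stage. -/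
theorem exists_iso_stage (i₀ : I) [CompactSpace (D.obj i₀)] [QuasiSeparatedSpace (D.obj i₀)]
    {X₀ Y₀ : Scheme.{u}} (a₀ : X₀ ⟶ D.obj i₀) (b₀ : Y₀ ⟶ D.obj i₀)
    [LocallyOfFinitePresentation a₀] [QuasiCompact a₀] [QuasiSeparated a₀]
    [LocallyOfFinitePresentation b₀] [QuasiCompact b₀] [QuasiSeparated b₀]
    {X Y : Scheme.{u}} {a : X ⟶ c.pt} {b : Y ⟶ c.pt} {qX : X ⟶ X₀} {qY : Y ⟶ Y₀}
    (hX : IsPullback qX a a₀ (c.π.app i₀)) (hY : IsPullback qY b b₀ (c.π.app i₀))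
    (e : X ⟶ Y) [IsIso e] (he : e ≫ b = a) :
    ∃ (k : Over i₀) (ek : (bcDiagram D i₀ a₀).obj k ⟶ (bcDiagram D i₀ b₀).obj k),
      IsIso ek ∧ ek ≫ dSnd D i₀ b₀ k = dSnd D i₀ a₀ k ∧
      bcπ i₀ hX k ≫ ek = e ≫ bcπ i₀ hY k := by
  have inst' : ∀ (i j : I) (f : i ⟶ j), IsAffineHom (D.map f) := fun _ _ f => inferInstance
  have : CompactSpace X₀ := QuasiCompact.compactSpace_of_compactSpace a₀
  have : QuasiSeparatedSpace X₀ := quasiSeparatedSpace_of_quasiSeparated a₀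
  -- Step 1: descend the morphism `X ⟶ Y ⟶ Y₀`.
  obtain ⟨j₁, g, hg1, hg2⟩ := Scheme.exists_π_app_comp_eq_of_locallyOfFinitePresentation
    (bcDiagram D i₀ a₀) (tS D i₀ a₀) b₀ (bcCone i₀ hX) (isLimitBcCone i₀ hX hc) (e ≫ qY) (by
      ext j
      show bcπ i₀ hX j ≫ dFst D i₀ a₀ j ≫ a₀ = (e ≫ qY) ≫ b₀
      rw [bcπ_fst_assoc, hX.w, Category.assoc, hY.w, reassoc_of% he])
  replace hg1 : bcπ i₀ hX j₁ ≫ g = e ≫ qY := hg1
  replace hg2 : g ≫ b₀ = dFst D i₀ a₀ j₁ ≫ a₀ := hg2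
  -- Step 2: the morphism `θ : X_{j₁} ⟶ Y_{j₁}` over `S_{j₁}`.
  obtain ⟨θ, hθ1, hθ2⟩ : ∃ θ : (bcDiagram D i₀ a₀).obj j₁ ⟶ (bcDiagram D i₀ b₀).obj j₁,
      θ ≫ dFst D i₀ b₀ j₁ = g ∧ θ ≫ dSnd D i₀ b₀ j₁ = dSnd D i₀ a₀ j₁ :=
    ⟨dLift j₁ g (dSnd D i₀ a₀ j₁) (by rw [hg2, d_condition]), dLift_fst _ _ _ _, dLift_snd _ _ _ _⟩
  -- Step 3: apply S4805.
  have : CompactSpace (D.obj j₁.left) := QuasiCompact.compactSpace_of_compactSpace (D.map j₁.hom)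
  have h1 : LocallyOfFiniteType (dSnd D i₀ b₀ j₁) :=
    MorphismProperty.of_isPullback (isPullback_d D i₀ b₀ j₁) inferInstance
  have h2 : QuasiCompact (dSnd D i₀ b₀ j₁) :=
    MorphismProperty.of_isPullback (isPullback_d D i₀ b₀ j₁) inferInstance
  have h3 : QuasiSeparated (dSnd D i₀ b₀ j₁) :=
    MorphismProperty.of_isPullback (isPullback_d D i₀ b₀ j₁) inferInstance
  have h4 : LocallyOfFinitePresentation (θ ≫ dSnd D i₀ b₀ j₁) := by
    rw [hθ2]; exact MorphismProperty.of_isPullback (isPullback_d D i₀ a₀ j₁) inferInstance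
  have h5 : QuasiCompact (θ ≫ dSnd D i₀ b₀ j₁) := by
    rw [hθ2]; exact MorphismProperty.of_isPullback (isPullback_d D i₀ a₀ j₁) inferInstance
  have h6 : QuasiSeparated (θ ≫ dSnd D i₀ b₀ j₁) := by
    rw [hθ2]; exact MorphismProperty.of_isPullback (isPullback_d D i₀ a₀ j₁) inferInstance
  have hsq : bcπ i₀ hX j₁ ≫ θ = e ≫ bcπ i₀ hY j₁ := by
    apply d_hom_ext
    · rw [Category.assoc, hθ1, hg1, Category.assoc, bcπ_fst]
    · rw [Category.assoc, hθ2, bcπ_snd, Category.assoc, bcπ_snd, reassoc_of% he]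
  have hX' : IsPullback (bcπ i₀ hX j₁) e θ (bcπ i₀ hY j₁) := by
    refine IsPullback.of_bot ?_ hsq (isPullback_bcπ i₀ hY j₁)
    rw [he, hθ2]
    exact isPullback_bcπ i₀ hX j₁
  obtain ⟨j', φ, Xj, Yj, fj, gj, pY, pX, hpY, hpX, hfj⟩ :=
    Groth.Agent.S4805.result D c hc j₁.left θ (dSnd D i₀ b₀ j₁) e b (bcπ i₀ hY j₁)
      (bcπ i₀ hX j₁) (isPullback_bcπ i₀ hY j₁) hX'
  -- Step 4: back to the `bcDiagram` form.
  let k : Over i₀ := Over.mk (φ ≫ j₁.hom)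
  let ψ : k ⟶ j₁ := Over.homMk φ rfl
  obtain ⟨ek, hek1, hek2⟩ : ∃ ek : (bcDiagram D i₀ a₀).obj k ⟶ (bcDiagram D i₀ b₀).obj k,
      ek ≫ dFst D i₀ b₀ k = (bcDiagram D i₀ a₀).map ψ ≫ g ∧
      ek ≫ dSnd D i₀ b₀ k = dSnd D i₀ a₀ k :=
    ⟨dLift k ((bcDiagram D i₀ a₀).map ψ ≫ g) (dSnd D i₀ a₀ k) (by
      rw [Category.assoc, hg2, map_dFst_assoc, d_condition]), dLift_fst _ _ _ _, dLift_snd _ _ _ _⟩
  have hcomm : (bcDiagram D i₀ a₀).map ψ ≫ θ = ek ≫ (bcDiagram D i₀ b₀).map ψ := by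
    apply d_hom_ext
    · rw [Category.assoc, hθ1, Category.assoc, map_dFst, hek1]
    · rw [Category.assoc, hθ2, map_dSnd, Category.assoc, map_dSnd, reassoc_of% hek2]
  have S2 : IsPullback ((bcDiagram D i₀ a₀).map ψ) ek θ ((bcDiagram D i₀ b₀).map ψ) := by
    refine IsPullback.of_bot ?_ hcomm (isPullback_map_dSnd D i₀ b₀ ψ)
    rw [hek2, hθ2]
    exact isPullback_map_dSnd D i₀ a₀ ψ
  have hiso : (MorphismProperty.isomorphisms Scheme.{u}) ek :=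
    of_two_pullbacks (MorphismProperty.isomorphisms Scheme.{u}) S2 hpX
      (hpY.lift ((bcDiagram D i₀ b₀).map ψ) (dSnd D i₀ b₀ k) (map_dSnd D i₀ b₀ ψ))
      (hpY.lift_fst _ _ _) hfj
  refine ⟨k, ek, hiso, hek2, ?_⟩
  apply d_hom_ext
  · rw [Category.assoc, hek1, bcπ_map_assoc, hg1, Category.assoc, bcπ_fst]
  · rw [Category.assoc, hek2, bcπ_snd, Category.assoc, bcπ_snd, reassoc_of% he]

end Groth.Agent.Lib.Helper26.LimIso
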