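import Mathlib
import Groth.Agent.Lib.Helper26LimFP1
import Groth.Agent.Lib.Helper26LimIso

/-!
Descending finitely presented schemes over a limit (helper26), part 2: the affine case.
-/

set_option autoImplicit false
set_option linter.style.haveILetI false
universe u
open CategoryTheory Limits AlgebraicGeometry TensorProduct

namespace Groth.Agent.Lib.Helper26.LimFP

open Groth.Agent.Lib.Helper22.LimBC

/-- A finite subset of a filtered colimit of rings lies in the image of a stage. -/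
theorem exists_stage_of_finite {J : Type u} [SmallCategory J] [IsFiltered J]
    (F : J ⥤ CommRingCat.{u}) (cF : Cocone F) (hcF : IsColimit cF) (s : Set cF.pt)
    (hs : s.Finite) : ∃ j, s ⊆ Set.range (cF.ι.app j).hom := by
  have hc' := isColimitOfPreserves (forget CommRingCat) hcF
  induction s, hs using Set.Finite.induction_on with
  | empty => exact ⟨IsFiltered.nonempty.some, Set.empty_subset _⟩
  | @insert a s _ _ ih =>
    obtain ⟨j₁, hj₁⟩ := ih
    obtain ⟨j₂, x, hx⟩ := Types.jointly_surjective_of_isColimit hc' a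
    refine ⟨IsFiltered.max j₁ j₂, ?_⟩
    rintro b (rfl | hb)
    · refine ⟨F.map (IsFiltered.rightToMax j₁ j₂) x, ?_⟩
      rw [← hx]
      exact congr($(cF.w (IsFiltered.rightToMax j₁ j₂)).hom x)
    · obtain ⟨y, rfl⟩ := hj₁ hb
      exact ⟨F.map (IsFiltered.leftToMax j₁ j₂) y,
        congr($(cF.w (IsFiltered.leftToMax j₁ j₂)).hom y)⟩

/-- A finitely presented algebra over a filtered colimit of rings descends to a stage
(pushout form). -/
theorem exists_fp_model {J : Type u} [SmallCategory J] [IsFiltered J]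
    (F : J ⥤ CommRingCat.{u}) (cF : Cocone F) (hcF : IsColimit cF) {B : CommRingCat.{u}}
    (φ : cF.pt ⟶ B) (hφ : φ.hom.FinitePresentation) :
    ∃ (j : J) (M : CommRingCat.{u}) (ψ : F.obj j ⟶ M) (β : M ⟶ B),
      ψ.hom.FinitePresentation ∧ IsPushout (cF.ι.app j) ψ φ β := by
  algebraize [φ.hom]
  let P := Algebra.Presentation.ofFinitePresentation cF.pt B
  obtain ⟨j, hj⟩ := exists_stage_of_finite F cF hcF P.coeffs P.finite_coeffs
  letI : Algebra (F.obj j) cF.pt := (cF.ι.app j).hom.toAlgebra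
  letI : Algebra (F.obj j) B := (φ.hom.comp (cF.ι.app j).hom).toAlgebra
  haveI : IsScalarTower (F.obj j) cF.pt B := .of_algebraMap_eq' rfl
  haveI : P.HasCoeffs (F.obj j) := ⟨hj⟩
  let e := P.tensorModelOfHasCoeffsEquiv (F.obj j)
  refine ⟨j, CommRingCat.of (P.ModelOfHasCoeffs (F.obj j)),
    CommRingCat.ofHom (algebraMap (F.obj j) (P.ModelOfHasCoeffs (F.obj j))),
    CommRingCat.ofHom (e.toRingEquiv.toRingHom.comp
      (Algebra.TensorProduct.includeRight (R := F.obj j) (A := cF.pt)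
        (B := P.ModelOfHasCoeffs (F.obj j))).toRingHom), ?_, ?_⟩
  · rw [CommRingCat.hom_ofHom, RingHom.finitePresentation_algebraMap]
    infer_instance
  · refine (CommRingCat.isPushout_tensorProduct (F.obj j) cF.pt
      (P.ModelOfHasCoeffs (F.obj j))).of_iso (Iso.refl _) (Iso.refl _) (Iso.refl _)
      e.toRingEquiv.toCommRingCatIso ?_ ?_ ?_ ?_
    · ext y; rfl
    · ext y; rfl
    · ext y
      show e (y ⊗ₜ[F.obj j] (1 : P.ModelOfHasCoeffs (F.obj j))) = φ.hom y
      have := e.commutes y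
      rwa [Algebra.TensorProduct.algebraMap_apply] at this
    · rfl

variable {I : Type u} [SmallCategory I] (D : I ⥤ Scheme.{u}) (c : Cone D)

/-- `f : X ⟶ lim S_i` is the base change of a morphism of finite presentation to a stage. -/
def Desc {X : Scheme.{u}} (f : X ⟶ c.pt) : Prop :=
  ∃ (i : I) (Xi : Scheme.{u}) (fi : Xi ⟶ D.obj i) (g : X ⟶ Xi),
    LocallyOfFinitePresentation fi ∧ QuasiCompact fi ∧ QuasiSeparated fi ∧
      IsPullback g f fi (c.π.app i)

variable {D c}

set_option backward.isDefEq.respectTransparency.types false in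
theorem hasOfPostcomp_lfp :
    MorphismProperty.HasOfPostcompProperty (@LocallyOfFinitePresentation.{u})
      @IsOpenImmersion := inferInstance

/-- The affine case: `X` affine mapping into the preimage of an affine open of a stage. -/
theorem desc_of_isAffine [IsCofiltered I] (hc : IsLimit c)
    [∀ {i j : I} (f : i ⟶ j), IsAffineHom (D.map f)] [∀ i, QuasiSeparatedSpace (D.obj i)]
    {X : Scheme.{u}} [IsAffine X] (f : X ⟶ c.pt) [LocallyOfFinitePresentation f] (i₀ : I)
    (W₀ : (D.obj i₀).Opens) (hW₀ : IsAffineOpen W₀)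
    (hf : Set.range (f ≫ c.π.app i₀) ⊆ (W₀ : Set (D.obj i₀))) : Desc D c f := by
  have : IsAffine W₀.toScheme := hW₀
  have hP := IsPullback.of_hasPullback W₀.ι (c.π.app i₀)
  have hWj : ∀ j, IsAffine ((bcDiagram D i₀ W₀.ι).obj j) := fun j => by
    show IsAffine (pullback W₀.ι (D.map j.hom))
    infer_instance
  have hπ : IsAffineHom (c.π.app i₀) := isAffineHom_π_app D c hc i₀
  have hWa : IsAffine (pullback W₀.ι (c.π.app i₀)) :=
    isAffine_of_isAffineHom (pullback.fst W₀.ι (c.π.app i₀))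
  have hrange : Set.range (f ≫ c.π.app i₀) ⊆ Set.range W₀.ι := by
    rw [Scheme.Opens.range_ι]; exact hf
  obtain ⟨f', hf'⟩ : ∃ f' : X ⟶ pullback W₀.ι (c.π.app i₀),
      f' ≫ pullback.snd W₀.ι (c.π.app i₀) = f :=
    ⟨pullback.lift (IsOpenImmersion.lift W₀.ι (f ≫ c.π.app i₀) hrange) f
      (IsOpenImmersion.lift_fac _ _ _), pullback.lift_snd _ _ _⟩
  have hlfp : LocallyOfFinitePresentation f' := by
    have h1 : LocallyOfFinitePresentation (f' ≫ pullback.snd W₀.ι (c.π.app i₀)) := by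
      rw [hf']; infer_instance
    have := hasOfPostcomp_lfp.{u}
    exact MorphismProperty.of_postcomp (W := @LocallyOfFinitePresentation)
      (W' := @IsOpenImmersion) f' (pullback.snd _ _) inferInstance h1
  obtain ⟨hcF⟩ := nonempty_isColimit_Γ_mapCocone (bcDiagram D i₀ W₀.ι) (bcCone i₀ hP)
    (isLimitBcCone i₀ hP hc)
  obtain ⟨j, M, ψ, β, hψ, hpo⟩ := exists_fp_model ((bcDiagram D i₀ W₀.ι).op ⋙ Scheme.Γ)
    (Scheme.Γ.mapCocone (bcCone i₀ hP).op) hcF f'.appTop f'.finitePresentation_appTop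
  obtain ⟨j, rfl⟩ : ∃ j' : Over i₀, j = Opposite.op j' := ⟨j.unop, rfl⟩
  replace hpo : IsPushout (bcπ i₀ hP j).appTop ψ f'.appTop β := hpo
  have hpb := (isPullback_SpecMap_of_isPushout _ _ _ _ hpo).flip
  have hsq : IsPullback X.toSpecΓ f' (Spec.map f'.appTop) (Scheme.toSpecΓ _) :=
    IsPullback.of_horiz_isIso ⟨(Scheme.toSpecΓ_naturality f').symm⟩
  have h1 := hsq.paste_horiz hpb
  rw [← Scheme.toSpecΓ_naturality] at h1
  have hAj : IsAffine ((bcDiagram D i₀ W₀.ι).obj j) := hWj j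
  have h2 : IsPullback (X.toSpecΓ ≫ Spec.map β) f'
      (Spec.map ψ ≫ ((bcDiagram D i₀ W₀.ι).obj j).isoSpec.inv) (bcπ i₀ hP j) :=
    h1.of_iso (Iso.refl _) (Iso.refl _) (Iso.refl _)
      ((bcDiagram D i₀ W₀.ι).obj j).isoSpec.symm (by simp) (by simp) (by simp)
      (by simp)
  have h3 := h2.paste_vert (isPullback_bcπ i₀ hP j)
  rw [hf'] at h3
  have ho : IsOpenImmersion (dSnd D i₀ W₀.ι j) :=
    MorphismProperty.of_isPullback (isPullback_d D i₀ W₀.ι j) inferInstance
  have hl : LocallyOfFinitePresentation (Spec.map ψ) :=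
    (HasRingHomProperty.Spec_iff (P := @LocallyOfFinitePresentation)).mpr hψ
  have hl' : LocallyOfFinitePresentation
      ((Spec.map ψ ≫ ((bcDiagram D i₀ W₀.ι).obj j).isoSpec.inv) ≫ dSnd D i₀ W₀.ι j) := by
    have hl1 : LocallyOfFinitePresentation ((bcDiagram D i₀ W₀.ι).obj j).isoSpec.inv :=
      inferInstance
    have hl2 : LocallyOfFinitePresentation (dSnd D i₀ W₀.ι j) := inferInstance
    exact MorphismProperty.comp_mem _ _ _ (MorphismProperty.comp_mem _ _ _ hl hl1) hl2
  have hqc : QuasiCompact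
      ((Spec.map ψ ≫ ((bcDiagram D i₀ W₀.ι).obj j).isoSpec.inv) ≫ dSnd D i₀ W₀.ι j) :=
    quasiCompact_of_compactSpace _
  have hqs : QuasiSeparated
      ((Spec.map ψ ≫ ((bcDiagram D i₀ W₀.ι).obj j).isoSpec.inv) ≫ dSnd D i₀ W₀.ι j) :=
    QuasiSeparated.of_quasiSeparatedSpace _
  exact ⟨j.left, _, _, _, hl', hqc, hqs, h3⟩

end Groth.Agent.Lib.Helper26.LimFP
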