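import Mathlib
import Groth.Agent.Lib.Helper26LimFP1

/-!
Generic gluing lemmas for descending finitely presented schemes over a limit (helper26), part 3:
two-piece covers, gluing morphisms on two pieces, gluing two models.
-/

set_option autoImplicit false
universe u
open CategoryTheory Limits AlgebraicGeometry

namespace Groth.Agent.Lib.Helper26.LimFP

/-- The open cover given by two jointly surjective open immersions. -/
noncomputable def coverTwo {X U V : Scheme.{u}} (u : U ⟶ X) (v : V ⟶ X) [IsOpenImmersion u]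
    [IsOpenImmersion v] (hcov : ∀ x : X, x ∈ Set.range u ∨ x ∈ Set.range v) : X.OpenCover :=
  Scheme.Cover.mkOfCovers Bool (fun b => cond b U V)
    (fun b => match b with
      | true => u
      | false => v)
    (fun x => by
      rcases hcov x with ⟨y, hy⟩ | ⟨y, hy⟩
      · exact ⟨true, y, hy⟩
      · exact ⟨false, y, hy⟩)
    (fun b => by
      cases b
      · exact (inferInstance : IsOpenImmersion v)
      · exact (inferInstance : IsOpenImmersion u))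

/-- Morphisms out of a scheme covered by two opens are determined on the two opens. -/
theorem hom_ext_two {X Z U V : Scheme.{u}} (u : U ⟶ X) (v : V ⟶ X) [IsOpenImmersion u]
    [IsOpenImmersion v] (hcov : ∀ x : X, x ∈ Set.range u ∨ x ∈ Set.range v) {a b : X ⟶ Z}
    (h₁ : u ≫ a = u ≫ b) (h₂ : v ≫ a = v ≫ b) : a = b := by
  refine Scheme.Cover.hom_ext (coverTwo u v hcov) _ _ ?_
  rintro (_ | _)
  · exact h₂
  · exact h₁

/-- Gluing two morphisms defined on two opens covering `X`. -/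
theorem exists_glue_hom_two {X Z U V T : Scheme.{u}} (u : U ⟶ X) (v : V ⟶ X) [IsOpenImmersion u]
    [IsOpenImmersion v] (hcov : ∀ x : X, x ∈ Set.range u ∨ x ∈ Set.range v)
    (t₁ : T ⟶ U) (t₂ : T ⟶ V) (hT : IsPullback t₁ t₂ u v) (m₁ : U ⟶ Z) (m₂ : V ⟶ Z)
    (hm : t₁ ≫ m₁ = t₂ ≫ m₂) : ∃ M : X ⟶ Z, u ≫ M = m₁ ∧ v ≫ M = m₂ := by
  let m : ∀ b, (coverTwo u v hcov).X b ⟶ Z := fun b => match b with
    | true => m₁
    | false => m₂
  have key : ∀ x y, pullback.fst ((coverTwo u v hcov).f x) ((coverTwo u v hcov).f y) ≫ m x =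
      pullback.snd ((coverTwo u v hcov).f x) ((coverTwo u v hcov).f y) ≫ m y := by
    rintro (_ | _) (_ | _)
    · show pullback.fst v v ≫ m₂ = pullback.snd v v ≫ m₂
      have : pullback.fst v v = pullback.snd v v := by
        rw [← cancel_mono v]; exact pullback.condition
      rw [this]
    · show pullback.fst v u ≫ m₂ = pullback.snd v u ≫ m₁
      rw [← cancel_epi hT.flip.isoPullback.hom, IsPullback.isoPullback_hom_fst_assoc,
        IsPullback.isoPullback_hom_snd_assoc]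
      exact hm.symm
    · show pullback.fst u v ≫ m₁ = pullback.snd u v ≫ m₂
      rw [← cancel_epi hT.isoPullback.hom, IsPullback.isoPullback_hom_fst_assoc,
        IsPullback.isoPullback_hom_snd_assoc]
      exact hm
    · show pullback.fst u u ≫ m₁ = pullback.snd u u ≫ m₁
      have : pullback.fst u u = pullback.snd u u := by
        rw [← cancel_mono u]; exact pullback.condition
      rw [this]
  exact ⟨(coverTwo u v hcov).glueMorphisms m key,
    (coverTwo u v hcov).ι_glueMorphisms m key true,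
    (coverTwo u v hcov).ι_glueMorphisms m key false⟩

/-- Two-piece version of `isPullback_of_cover`. -/
theorem isPullback_of_cover_two {X Y S S' : Scheme.{u}} {G : X ⟶ Y} {f : X ⟶ S} {h : Y ⟶ S'}
    {π : S ⟶ S'} (w : G ≫ h = f ≫ π) {U V Y₁ Y₂ : Scheme.{u}} (u : U ⟶ X) (v : V ⟶ X)
    (j₁ : Y₁ ⟶ Y) (j₂ : Y₂ ⟶ Y) [IsOpenImmersion u] [IsOpenImmersion v] [IsOpenImmersion j₁]
    [IsOpenImmersion j₂] (G₁ : U ⟶ Y₁) (G₂ : V ⟶ Y₂) (hc₁ : u ≫ G = G₁ ≫ j₁)
    (hc₂ : v ≫ G = G₂ ≫ j₂) (hr₁ : G ⁻¹ᵁ j₁.opensRange = u.opensRange)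
    (hr₂ : G ⁻¹ᵁ j₂.opensRange = v.opensRange)
    (hcov : ∀ y : Y, y ∈ Set.range j₁ ∨ y ∈ Set.range j₂)
    (hp₁ : IsPullback G₁ (u ≫ f) (j₁ ≫ h) π) (hp₂ : IsPullback G₂ (v ≫ f) (j₂ ≫ h) π) :
    IsPullback G f h π := by
  have i1 : ∀ b : Bool, IsOpenImmersion
      (match b with
        | true => u
        | false => v : cond b U V ⟶ X) := by
    rintro (_ | _)
    · exact (inferInstance : IsOpenImmersion v)
    · exact (inferInstance : IsOpenImmersion u)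
  have i2 : ∀ b : Bool, IsOpenImmersion
      (match b with
        | true => j₁
        | false => j₂ : cond b Y₁ Y₂ ⟶ Y) := by
    rintro (_ | _)
    · exact (inferInstance : IsOpenImmersion j₂)
    · exact (inferInstance : IsOpenImmersion j₁)
  refine isPullback_of_cover w (κ := Bool) (fun b => cond b U V) (fun b => cond b Y₁ Y₂)
    (fun b => match b with
      | true => u
      | false => v)
    (fun b => match b with
      | true => j₁
      | false => j₂)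
    (fun b => match b with
      | true => G₁
      | false => G₂) ?_ ?_ ?_ ?_
  · rintro (_ | _)
    · exact hc₂
    · exact hc₁
  · rintro (_ | _)
    · exact hr₂
    · exact hr₁
  · intro y
    rcases hcov y with hy | hy
    · exact ⟨true, hy⟩
    · exact ⟨false, hy⟩
  · rintro (_ | _)
    · exact hp₂
    · exact hp₁

/-- Gluing two models over a stage of two opens covering `X`. -/
theorem exists_glue_model {X S Sk : Scheme.{u}} (f : X ⟶ S) (π : S ⟶ Sk)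
    {U V T : Scheme.{u}} (u : U ⟶ X) (v : V ⟶ X) [IsOpenImmersion u] [IsOpenImmersion v]
    (hcov : ∀ x : X, x ∈ Set.range u ∨ x ∈ Set.range v)
    (t₁ : T ⟶ U) (t₂ : T ⟶ V) [IsOpenImmersion t₁] [IsOpenImmersion t₂]
    (hT : IsPullback t₁ t₂ u v)
    {X₁ X₂ W : Scheme.{u}} (f₁ : X₁ ⟶ Sk) (f₂ : X₂ ⟶ Sk) (G₁ : U ⟶ X₁) (G₂ : V ⟶ X₂)
    (pb₁ : IsPullback G₁ (u ≫ f) f₁ π) (pb₂ : IsPullback G₂ (v ≫ f) f₂ π)
    (o₁ : W ⟶ X₁) (o₂ : W ⟶ X₂) [IsOpenImmersion o₁] [IsOpenImmersion o₂]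
    (ho : o₁ ≫ f₁ = o₂ ≫ f₂) (p : T ⟶ W) (hp₁ : t₁ ≫ G₁ = p ≫ o₁) (hp₂ : t₂ ≫ G₂ = p ≫ o₂)
    (hr₁ : G₁ ⁻¹ᵁ o₁.opensRange = t₁.opensRange)
    (hr₂ : G₂ ⁻¹ᵁ o₂.opensRange = t₂.opensRange) :
    ∃ (Xk : Scheme.{u}) (fk : Xk ⟶ Sk) (G : X ⟶ Xk) (ι₁ : X₁ ⟶ Xk) (ι₂ : X₂ ⟶ Xk),
      IsOpenImmersion ι₁ ∧ IsOpenImmersion ι₂ ∧
      (∀ x : Xk, x ∈ Set.range ι₁ ∨ x ∈ Set.range ι₂) ∧
      (∀ (x : X₁) (y : X₂), ι₁ x = ι₂ y → ∃ w : W, o₁ w = x ∧ o₂ w = y) ∧
      o₁ ≫ ι₁ = o₂ ≫ ι₂ ∧ ι₁ ≫ fk = f₁ ∧ ι₂ ≫ fk = f₂ ∧ IsPullback G f fk π := by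
  obtain ⟨Xk, ι₁, ι₂, h1, h2, hglue, hcovk, hint, hdesc⟩ := exists_glue_two' o₁ o₂
  obtain ⟨fk, hfk1, hfk2⟩ := hdesc Sk f₁ f₂ ho
  obtain ⟨G, hG1, hG2⟩ := exists_glue_hom_two u v hcov t₁ t₂ hT (G₁ ≫ ι₁) (G₂ ≫ ι₂) (by
    rw [reassoc_of% hp₁, reassoc_of% hp₂, hglue])
  have w : G ≫ fk = f ≫ π := by
    refine hom_ext_two u v hcov ?_ ?_
    · rw [reassoc_of% hG1, hfk1, pb₁.w, Category.assoc]
    · rw [reassoc_of% hG2, hfk2, pb₂.w, Category.assoc]
  have hG1' : ∀ y : U, G (u y) = ι₁ (G₁ y) := fun y => by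
    rw [← Scheme.Hom.comp_apply, hG1, Scheme.Hom.comp_apply]
  have hG2' : ∀ y : V, G (v y) = ι₂ (G₂ y) := fun y => by
    rw [← Scheme.Hom.comp_apply, hG2, Scheme.Hom.comp_apply]
  have htw : ∀ z : T, u (t₁ z) = v (t₂ z) := fun z => by
    rw [← Scheme.Hom.comp_apply, hT.w, Scheme.Hom.comp_apply]
  refine ⟨Xk, fk, G, ι₁, ι₂, h1, h2, hcovk, hint, hglue, hfk1, hfk2, ?_⟩
  refine isPullback_of_cover_two w u v ι₁ ι₂ G₁ G₂ hG1 hG2 ?_ ?_ hcovk ?_ ?_
  · ext x
    constructor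
    · rintro ⟨x₁, hx₁⟩
      rcases hcov x with hx | ⟨y, rfl⟩
      · exact hx
      · rw [hG2'] at hx₁
        obtain ⟨w', -, hw'⟩ := hint x₁ (G₂ y) hx₁
        have hy : y ∈ G₂ ⁻¹ᵁ o₂.opensRange := ⟨w', hw'⟩
        rw [hr₂] at hy
        obtain ⟨z, rfl⟩ := hy
        exact ⟨t₁ z, htw z⟩
    · rintro ⟨y, rfl⟩
      exact ⟨G₁ y, (hG1' y).symm⟩
  · ext x
    constructor
    · rintro ⟨x₂, hx₂⟩
      rcases hcov x with ⟨y, rfl⟩ | hx
      · rw [hG1'] at hx₂
        obtain ⟨w', hw', -⟩ := hint (G₁ y) x₂ hx₂.symm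
        have hy : y ∈ G₁ ⁻¹ᵁ o₁.opensRange := ⟨w', hw'⟩
        rw [hr₁] at hy
        obtain ⟨z, rfl⟩ := hy
        exact ⟨t₂ z, (htw z).symm⟩
      · exact hx
    · rintro ⟨y, rfl⟩
      exact ⟨G₂ y, (hG2' y).symm⟩
  · rw [hfk1]; exact pb₁
  · rw [hfk2]; exact pb₂

set_option backward.isDefEq.respectTransparency.types false in
theorem isLocalSrc_lfp : IsZariskiLocalAtSource @LocallyOfFinitePresentation.{u} :=
  inferInstance

/-- The structure morphism of a scheme glued from two finitely presented pieces along a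
quasi-compact open is of finite presentation. -/
theorem glue_fp {Xk Sk X₁ X₂ W : Scheme.{u}} (fk : Xk ⟶ Sk) (ι₁ : X₁ ⟶ Xk) (ι₂ : X₂ ⟶ Xk)
    [IsOpenImmersion ι₁] [IsOpenImmersion ι₂]
    (hcovk : ∀ x : Xk, x ∈ Set.range ι₁ ∨ x ∈ Set.range ι₂) (o₁ : W ⟶ X₁) (o₂ : W ⟶ X₂)
    (hint : ∀ (x : X₁) (y : X₂), ι₁ x = ι₂ y → ∃ w : W, o₁ w = x ∧ o₂ w = y)
    (hglue : o₁ ≫ ι₁ = o₂ ≫ ι₂) [CompactSpace W] [CompactSpace X₁] [CompactSpace X₂]
    [QuasiSeparatedSpace X₁] [QuasiSeparatedSpace X₂] [QuasiSeparatedSpace Sk]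
    (h₁ : LocallyOfFinitePresentation (ι₁ ≫ fk)) (h₂ : LocallyOfFinitePresentation (ι₂ ≫ fk)) :
    LocallyOfFinitePresentation fk ∧ QuasiCompact fk ∧ QuasiSeparated fk := by
  have hlfp : LocallyOfFinitePresentation fk := by
    have := isLocalSrc_lfp.{u}
    refine IsZariskiLocalAtSource.of_openCover (P := @LocallyOfFinitePresentation)
      (coverTwo ι₁ ι₂ hcovk) ?_
    rintro (_ | _)
    · exact h₂
    · exact h₁
  have hcomp : CompactSpace Xk := by
    refine ⟨?_⟩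
    have : (Set.univ : Set Xk) = Set.range ι₁ ∪ Set.range ι₂ := by
      ext x; simpa using hcovk x
    rw [this]
    exact (isCompact_range ι₁.continuous).union (isCompact_range ι₂.continuous)
  have hqs : QuasiSeparatedSpace Xk := by
    refine quasiSeparatedSpace_of_cover_two ι₁.opensRange ι₂.opensRange hcovk ?_ ?_ ?_
    · show IsQuasiSeparated (Set.range ι₁)
      rw [← Set.image_univ]
      exact (ι₁.isOpenEmbedding.isQuasiSeparated_iff).mp
        (isQuasiSeparated_univ_iff.mpr inferInstance)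
    · show IsQuasiSeparated (Set.range ι₂)
      rw [← Set.image_univ]
      exact (ι₂.isOpenEmbedding.isQuasiSeparated_iff).mp
        (isQuasiSeparated_univ_iff.mpr inferInstance)
    · have : (Set.range ι₁ ∩ Set.range ι₂ : Set Xk) = Set.range (o₁ ≫ ι₁) := by
        ext z
        constructor
        · rintro ⟨⟨x, rfl⟩, ⟨y, hy⟩⟩
          obtain ⟨w', rfl, -⟩ := hint x y hy.symm
          exact ⟨w', Scheme.Hom.comp_apply _ _ _⟩
        · rintro ⟨w', rfl⟩
          refine ⟨⟨o₁ w', (Scheme.Hom.comp_apply _ _ _).symm⟩, ⟨o₂ w', ?_⟩⟩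
          rw [hglue]
          exact (Scheme.Hom.comp_apply _ _ _).symm
      show IsCompact (Set.range ι₁ ∩ Set.range ι₂ : Set Xk)
      rw [this]
      exact isCompact_range (o₁ ≫ ι₁).continuous
  exact ⟨hlfp, quasiCompact_of_compactSpace _, QuasiSeparated.of_quasiSeparatedSpace _⟩

end Groth.Agent.Lib.Helper26.LimFP
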