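import Mathlib
import Groth.Agent.Lib.Helper26LimFP2
import Groth.Agent.Lib.Helper26LimFP3

/-!
Descending finitely presented schemes over a limit (helper26), part 4: models with a prescribed
quasi-compact open, moving models along the index category.
-/

set_option autoImplicit false
set_option linter.style.haveILetI false
universe u
open CategoryTheory Limits AlgebraicGeometry

namespace Groth.Agent.Lib.Helper26.LimFP

open Groth.Agent.Lib.Helper22.LimBC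

/-- In a pullback square, the range of the second projection is the preimage of the range. -/
lemma range_of_isPullback {P X Y Z : Scheme.{u}} {a : P ⟶ X} {b : P ⟶ Y} {f : X ⟶ Z}
    {g : Y ⟶ Z} (h : IsPullback a b f g) : Set.range b = g ⁻¹' Set.range f := by
  ext y
  constructor
  · rintro ⟨p, rfl⟩
    exact ⟨a p, by rw [← Scheme.Hom.comp_apply, h.w, Scheme.Hom.comp_apply]⟩
  · rintro ⟨x, hx⟩
    obtain ⟨z, -, hz⟩ := Scheme.Pullback.exists_preimage_pullback x y hx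
    refine ⟨h.isoPullback.inv z, ?_⟩
    rw [← Scheme.Hom.comp_apply, h.isoPullback_inv_snd, hz]

variable {I : Type u} [SmallCategory I] {D : I ⥤ Scheme.{u}} {c : Cone D}

/-- A model of `f` at the stage `i` together with a quasi-compact open of the model with
prescribed preimage. -/
def DescOAt {X : Scheme.{u}} (f : X ⟶ c.pt) (O : X.Opens) (i : I) : Prop :=
  ∃ (Xi : Scheme.{u}) (fi : Xi ⟶ D.obj i) (g : X ⟶ Xi) (Vi : Xi.Opens),
    LocallyOfFinitePresentation fi ∧ QuasiCompact fi ∧ QuasiSeparated fi ∧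
      IsPullback g f fi (c.π.app i) ∧ IsCompact (Vi : Set Xi) ∧ g ⁻¹ᵁ Vi = O

section

variable [∀ {i j : I} (f : i ⟶ j), IsAffineHom (D.map f)]

theorem DescOAt.move {X : Scheme.{u}} {f : X ⟶ c.pt} {O : X.Opens} {i j : I}
    (h : DescOAt f O i) (φ : j ⟶ i) : DescOAt f O j := by
  obtain ⟨Xi, fi, g, Vi, h1, h2, h3, pb, hVi, hO⟩ := h
  refine ⟨(bcDiagram D i fi).obj (Over.mk φ), dSnd D i fi (Over.mk φ), bcπ i pb (Over.mk φ),
    dFst D i fi (Over.mk φ) ⁻¹ᵁ Vi, ?_, ?_, ?_, isPullback_bcπ i pb (Over.mk φ), ?_, ?_⟩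
  · exact MorphismProperty.of_isPullback (isPullback_d D i fi (Over.mk φ)) h1
  · exact MorphismProperty.of_isPullback (isPullback_d D i fi (Over.mk φ)) h2
  · exact MorphismProperty.of_isPullback (isPullback_d D i fi (Over.mk φ)) h3
  · exact (dFst D i fi (Over.mk φ)).isCompact_preimage hVi
  · rw [← Scheme.Hom.comp_preimage, bcπ_fst, hO]

theorem exists_descOAt [IsCofiltered I] (hc : IsLimit c) [∀ i, CompactSpace (D.obj i)]
    [∀ i, QuasiSeparatedSpace (D.obj i)] {X : Scheme.{u}} {f : X ⟶ c.pt} (h : Desc D c f)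
    (O : X.Opens) (hO : IsCompact (O : Set X)) : ∃ i, DescOAt f O i := by
  obtain ⟨i, Xi, fi, g, h1, h2, h3, pb⟩ := h
  obtain ⟨j, V, hV, hjV⟩ := exists_preimage_eq (bcDiagram D i fi) (bcCone i pb)
    (isLimitBcCone i pb hc) O hO
  refine ⟨j.left, (bcDiagram D i fi).obj j, dSnd D i fi j, bcπ i pb j, V, ?_, ?_, ?_,
    isPullback_bcπ i pb j, hV, hjV⟩
  · exact MorphismProperty.of_isPullback (isPullback_d D i fi j) h1
  · exact MorphismProperty.of_isPullback (isPullback_d D i fi j) h2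
  · exact MorphismProperty.of_isPullback (isPullback_d D i fi j) h3

end

/-- `Desc` is invariant under isomorphisms of the source. -/
theorem Desc.of_iso {X X' : Scheme.{u}} {f : X ⟶ c.pt} (h : Desc D c f) (e : X' ⟶ X) [IsIso e] :
    Desc D c (e ≫ f) := by
  obtain ⟨i, Xi, fi, g, h1, h2, h3, pb⟩ := h
  refine ⟨i, Xi, fi, e ≫ g, h1, h2, h3, ?_⟩
  exact IsPullback.of_iso pb (asIso e).symm (Iso.refl _) (Iso.refl _) (Iso.refl _) (by simp)
    (by simp) (by simp) (by simp)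

/-- The empty scheme descends. -/
theorem desc_of_isEmpty [IsCofiltered I] [∀ i, QuasiSeparatedSpace (D.obj i)] {X : Scheme.{u}}
    [IsEmpty X] (f : X ⟶ c.pt) : Desc D c f := by
  obtain ⟨i⟩ := IsCofiltered.nonempty (C := I)
  have hP := IsPullback.of_hasPullback (f ≫ c.π.app i) (c.π.app i)
  have : IsEmpty ↥(pullback (f ≫ c.π.app i) (c.π.app i)) :=
    Function.isEmpty (pullback.fst (f ≫ c.π.app i) (c.π.app i))
  have hw : 𝟙 X ≫ (f ≫ c.π.app i) = f ≫ c.π.app i := Category.id_comp _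
  have hiso : IsIso (pullback.lift (𝟙 X) f hw :
      X ⟶ pullback (f ≫ c.π.app i) (c.π.app i)) := isIso_of_isEmpty _
  have pb : IsPullback (𝟙 X) f (f ≫ c.π.app i) (c.π.app i) :=
    IsPullback.of_iso_pullback ⟨hw⟩ (asIso (pullback.lift (𝟙 X) f hw))
      (pullback.lift_fst _ _ _) (pullback.lift_snd _ _ _)
  have : IsOpenImmersion (f ≫ c.π.app i) := isOpenImmersion_of_isEmpty _
  exact ⟨i, X, f ≫ c.π.app i, 𝟙 X, inferInstance, quasiCompact_of_compactSpace _,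
    inferInstance, pb⟩

lemma range_ι_comp {A B : Scheme.{u}} (a : A ⟶ B) (O : A.Opens) :
    Set.range (O.ι ≫ a) = a '' (O : Set A) := by
  rw [Scheme.Hom.comp_base, TopCat.coe_comp, Set.range_comp, Scheme.Opens.range_ι]

section

variable [IsCofiltered I] [∀ {i j : I} (f : i ⟶ j), IsAffineHom (D.map f)]
  [∀ i, CompactSpace (D.obj i)] [∀ i, QuasiSeparatedSpace (D.obj i)]

/-- Gluing two models at the same stage. -/
theorem desc_of_descOAt (hc : IsLimit c) {X : Scheme.{u}} (f : X ⟶ c.pt) {U V : Scheme.{u}}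
    (u : U ⟶ X) (v : V ⟶ X) [IsOpenImmersion u] [IsOpenImmersion v]
    (hcov : ∀ x : X, x ∈ Set.range u ∨ x ∈ Set.range v) (i : I)
    (hU : DescOAt (u ≫ f) (u ⁻¹ᵁ v.opensRange) i)
    (hV : DescOAt (v ≫ f) (v ⁻¹ᵁ u.opensRange) i) : Desc D c f := by
  obtain ⟨X₁, f₁, g₁, V₁, h11, h12, h13, pb₁, hV₁c, hV₁⟩ := hU
  obtain ⟨X₂, f₂, g₂, V₂, h21, h22, h23, pb₂, hV₂c, hV₂⟩ := hV
  have : CompactSpace X₁ := QuasiCompact.compactSpace_of_compactSpace f₁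
  have : QuasiSeparatedSpace X₁ := quasiSeparatedSpace_of_quasiSeparated f₁
  have : CompactSpace X₂ := QuasiCompact.compactSpace_of_compactSpace f₂
  have : QuasiSeparatedSpace X₂ := quasiSeparatedSpace_of_quasiSeparated f₂
  have : CompactSpace V₁.toScheme := isCompact_iff_compactSpace.mp hV₁c
  have : CompactSpace V₂.toScheme := isCompact_iff_compactSpace.mp hV₂c
  have : QuasiSeparatedSpace V₁.toScheme := quasiSeparatedSpace_of_quasiSeparated V₁.ι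
  have : QuasiSeparatedSpace V₂.toScheme := quasiSeparatedSpace_of_quasiSeparated V₂.ι
  have hX₁ := isPullback_morphismRestrict g₁ V₁
  have hX₂ := isPullback_morphismRestrict g₂ V₂
  have hrange : Set.range ((g₁ ⁻¹ᵁ V₁).ι ≫ u) = Set.range ((g₂ ⁻¹ᵁ V₂).ι ≫ v) := by
    rw [hV₁, hV₂, range_ι_comp, range_ι_comp]
    show u '' (u ⁻¹' Set.range v) = v '' (v ⁻¹' Set.range u)
    rw [Set.image_preimage_eq_inter_range, Set.image_preimage_eq_inter_range, Set.inter_comm]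
  obtain ⟨e, he⟩ : ∃ e : (g₁ ⁻¹ᵁ V₁).toScheme ≅ (g₂ ⁻¹ᵁ V₂).toScheme,
      e.hom ≫ (g₂ ⁻¹ᵁ V₂).ι ≫ v = (g₁ ⁻¹ᵁ V₁).ι ≫ u :=
    ⟨IsOpenImmersion.isoOfRangeEq _ _ hrange, IsOpenImmersion.isoOfRangeEq_hom_fac _ _ _⟩
  have ia1 : LocallyOfFinitePresentation (V₁.ι ≫ f₁) := inferInstance
  have ia2 : QuasiCompact (V₁.ι ≫ f₁) := quasiCompact_of_compactSpace _
  have ia3 : QuasiSeparated (V₁.ι ≫ f₁) := inferInstance
  have ib1 : LocallyOfFinitePresentation (V₂.ι ≫ f₂) := inferInstance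
  have ib2 : QuasiCompact (V₂.ι ≫ f₂) := quasiCompact_of_compactSpace _
  have ib3 : QuasiSeparated (V₂.ι ≫ f₂) := inferInstance
  obtain ⟨k, ek, hek, hek1, hek2⟩ := LimIso.exists_iso_stage D hc i (V₁.ι ≫ f₁) (V₂.ι ≫ f₂)
    (hX₁.paste_vert pb₁) (hX₂.paste_vert pb₂) e.hom
    (by simpa only [Category.assoc] using congr($he ≫ f))
  have ho₁ : IsOpenImmersion (bcMor D i V₁.ι f₁ k) :=
    MorphismProperty.of_isPullback (isPullback_bcMor D i V₁.ι f₁ k) inferInstance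
  have ho₂ : IsOpenImmersion (bcMor D i V₂.ι f₂ k) :=
    MorphismProperty.of_isPullback (isPullback_bcMor D i V₂.ι f₂ k) inferInstance
  have hT : IsPullback (g₁ ⁻¹ᵁ V₁).ι (e.hom ≫ (g₂ ⁻¹ᵁ V₂).ι) u v := by
    refine (IsOpenImmersion.isPullback (e.hom ≫ (g₂ ⁻¹ᵁ V₂).ι) (g₁ ⁻¹ᵁ V₁).ι v u ?_ ?_).flip
    · rw [Category.assoc, he]
    · rw [Scheme.Opens.opensRange_ι, hV₁]
  have ho : bcMor D i V₁.ι f₁ k ≫ dSnd D i f₁ k =
      (ek ≫ bcMor D i V₂.ι f₂ k) ≫ dSnd D i f₂ k := by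
    rw [bcMor_snd, Category.assoc, bcMor_snd, hek1]
  have hp₁ : (g₁ ⁻¹ᵁ V₁).ι ≫ bcπ i pb₁ k =
      bcπ i (hX₁.paste_vert pb₁) k ≫ bcMor D i V₁.ι f₁ k := (bcπ_bcMor pb₁ hX₁ k).symm
  have hp₂ : (e.hom ≫ (g₂ ⁻¹ᵁ V₂).ι) ≫ bcπ i pb₂ k =
      bcπ i (hX₁.paste_vert pb₁) k ≫ ek ≫ bcMor D i V₂.ι f₂ k := by
    rw [reassoc_of% hek2, bcπ_bcMor pb₂ hX₂ k, Category.assoc]
  have hr₁ : bcπ i pb₁ k ⁻¹ᵁ (bcMor D i V₁.ι f₁ k).opensRange = (g₁ ⁻¹ᵁ V₁).ι.opensRange := by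
    rw [Scheme.Opens.opensRange_ι]
    ext x
    show bcπ i pb₁ k x ∈ Set.range (bcMor D i V₁.ι f₁ k) ↔ g₁ x ∈ V₁
    rw [range_of_isPullback (isPullback_bcMor D i V₁.ι f₁ k), Scheme.Opens.range_ι,
      Set.mem_preimage, ← Scheme.Hom.comp_apply, bcπ_fst]
    rfl
  have hr₂ : bcπ i pb₂ k ⁻¹ᵁ (ek ≫ bcMor D i V₂.ι f₂ k).opensRange =
      (e.hom ≫ (g₂ ⁻¹ᵁ V₂).ι).opensRange := by
    ext x
    show bcπ i pb₂ k x ∈ Set.range (ek ≫ bcMor D i V₂.ι f₂ k) ↔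
      x ∈ Set.range (e.hom ≫ (g₂ ⁻¹ᵁ V₂).ι)
    have r1 : Set.range (ek ≫ bcMor D i V₂.ι f₂ k) = Set.range (bcMor D i V₂.ι f₂ k) := by
      rw [Scheme.Hom.comp_base, TopCat.coe_comp, Set.range_comp,
        Set.range_eq_univ.mpr ek.surjective, Set.image_univ]
    have r2 : Set.range (e.hom ≫ (g₂ ⁻¹ᵁ V₂).ι) = Set.range (g₂ ⁻¹ᵁ V₂).ι := by
      rw [Scheme.Hom.comp_base, TopCat.coe_comp, Set.range_comp,
        Set.range_eq_univ.mpr e.hom.surjective, Set.image_univ]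
    rw [r1, r2, range_of_isPullback (isPullback_bcMor D i V₂.ι f₂ k), Scheme.Opens.range_ι,
      Scheme.Opens.range_ι, Set.mem_preimage, ← Scheme.Hom.comp_apply, bcπ_fst]
    rfl
  obtain ⟨Xk, fk, G, ι₁, ι₂, hι₁, hι₂, hcovk, hint, hglue, hfk1, hfk2, pb⟩ :=
    exists_glue_model f (c.π.app k.left) u v hcov (g₁ ⁻¹ᵁ V₁).ι (e.hom ≫ (g₂ ⁻¹ᵁ V₂).ι) hT
      (dSnd D i f₁ k) (dSnd D i f₂ k) (bcπ i pb₁ k) (bcπ i pb₂ k) (isPullback_bcπ i pb₁ k)
      (isPullback_bcπ i pb₂ k) (bcMor D i V₁.ι f₁ k) (ek ≫ bcMor D i V₂.ι f₂ k) ho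
      (bcπ i (hX₁.paste_vert pb₁) k) hp₁ hp₂ hr₁ hr₂
  have hl₁ : LocallyOfFinitePresentation (ι₁ ≫ fk) := by
    rw [hfk1]; exact MorphismProperty.of_isPullback (isPullback_d D i f₁ k) h11
  have hl₂ : LocallyOfFinitePresentation (ι₂ ≫ fk) := by
    rw [hfk2]; exact MorphismProperty.of_isPullback (isPullback_d D i f₂ k) h21
  obtain ⟨hfp1, hfp2, hfp3⟩ := glue_fp fk ι₁ ι₂ hcovk (bcMor D i V₁.ι f₁ k)
    (ek ≫ bcMor D i V₂.ι f₂ k) hint hglue hl₁ hl₂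
  exact ⟨k.left, Xk, fk, G, hfp1, hfp2, hfp3, pb⟩

end

end Groth.Agent.Lib.Helper26.LimFP
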