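import Mathlib
import Groth.Agent.Lib.Helper26LimFP4

/-!
Descending finitely presented schemes over a limit (helper26), part 5: the induction.
-/

set_option autoImplicit false
set_option linter.style.haveILetI false
universe u
open CategoryTheory Limits AlgebraicGeometry

namespace Groth.Agent.Lib.Helper26.LimFP

open Groth.Agent.Lib.Helper22.LimBC

variable {I : Type u} [SmallCategory I] {D : I ⥤ Scheme.{u}} {c : Cone D}
variable [IsCofiltered I] [∀ {i j : I} (f : i ⟶ j), IsAffineHom (D.map f)]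
  [∀ i, CompactSpace (D.obj i)] [∀ i, QuasiSeparatedSpace (D.obj i)]

/-- Gluing two models (possibly at different stages). -/
theorem desc_of_cover_two (hc : IsLimit c) {X : Scheme.{u}} [QuasiSeparatedSpace X]
    (f : X ⟶ c.pt) {U V : Scheme.{u}} (u : U ⟶ X) (v : V ⟶ X) [IsOpenImmersion u]
    [IsOpenImmersion v] (hcov : ∀ x : X, x ∈ Set.range u ∨ x ∈ Set.range v)
    (hU : Desc D c (u ≫ f)) (hV : Desc D c (v ≫ f)) : Desc D c f := by
  have hS : CompactSpace c.pt := Scheme.compactSpace_of_isLimit D c hc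
  have hUc : CompactSpace U := by
    obtain ⟨i, Xi, fi, g, h1, h2, h3, pb⟩ := hU
    have : QuasiCompact (u ≫ f) := MorphismProperty.of_isPullback pb h2
    exact QuasiCompact.compactSpace_of_compactSpace (u ≫ f)
  have hVc : CompactSpace V := by
    obtain ⟨i, Xi, fi, g, h1, h2, h3, pb⟩ := hV
    have : QuasiCompact (v ≫ f) := MorphismProperty.of_isPullback pb h2
    exact QuasiCompact.compactSpace_of_compactSpace (v ≫ f)
  have hc1 : IsCompact (Set.range u) := isCompact_range u.continuous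
  have hc2 : IsCompact (Set.range v) := isCompact_range v.continuous
  have hinter : IsCompact (Set.range u ∩ Set.range v) :=
    QuasiSeparatedSpace.inter_isCompact _ _ u.isOpenEmbedding.isOpen_range hc1
      v.isOpenEmbedding.isOpen_range hc2
  have hO₁ : IsCompact ((u ⁻¹ᵁ v.opensRange : U.Opens) : Set U) := by
    have : ((u ⁻¹ᵁ v.opensRange : U.Opens) : Set U) = u ⁻¹' (Set.range u ∩ Set.range v) := by
      rw [Set.preimage_inter, Set.preimage_range, Set.univ_inter]; rfl
    rw [this]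
    exact u.isOpenEmbedding.isInducing.isCompact_preimage' hinter Set.inter_subset_left
  have hO₂ : IsCompact ((v ⁻¹ᵁ u.opensRange : V.Opens) : Set V) := by
    have : ((v ⁻¹ᵁ u.opensRange : V.Opens) : Set V) = v ⁻¹' (Set.range u ∩ Set.range v) := by
      rw [Set.preimage_inter, Set.preimage_range, Set.inter_univ]; rfl
    rw [this]
    exact v.isOpenEmbedding.isInducing.isCompact_preimage' hinter Set.inter_subset_right
  obtain ⟨i₁, hD₁⟩ := exists_descOAt hc hU (u ⁻¹ᵁ v.opensRange) hO₁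
  obtain ⟨i₂, hD₂⟩ := exists_descOAt hc hV (v ⁻¹ᵁ u.opensRange) hO₂
  exact desc_of_descOAt hc f u v hcov (IsCofiltered.min i₁ i₂)
    (hD₁.move (IsCofiltered.minToLeft i₁ i₂)) (hD₂.move (IsCofiltered.minToRight i₁ i₂))

/-- Affine opens mapping into the preimage of an affine open of a stage. -/
def Good {X : Scheme.{u}} (f : X ⟶ c.pt) (U : X.Opens) : Prop :=
  IsAffineOpen U ∧ ∃ (i₀ : I) (W₀ : (D.obj i₀).Opens), IsAffineOpen W₀ ∧
    ∀ x ∈ U, (f ≫ c.π.app i₀) x ∈ W₀

omit [∀ i, CompactSpace (D.obj i)] in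
theorem desc_of_good (hc : IsLimit c) {X : Scheme.{u}} (f : X ⟶ c.pt)
    [LocallyOfFinitePresentation f] (U : X.Opens) (hU : Good f U) : Desc D c (U.ι ≫ f) := by
  obtain ⟨hU, i₀, W₀, hW₀, h⟩ := hU
  have : IsAffine U.toScheme := hU
  refine desc_of_isAffine hc (U.ι ≫ f) i₀ W₀ hW₀ ?_
  rintro _ ⟨x, rfl⟩
  exact h x.1 x.2

theorem desc_sup (hc : IsLimit c) {X : Scheme.{u}} [QuasiSeparatedSpace X] (f : X ⟶ c.pt)
    [LocallyOfFinitePresentation f] (s : Finset X.Opens) (hs : ∀ U ∈ s, Good f U) :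
    ∀ Y : X.Opens, Y = s.sup id → Desc D c (Y.ι ≫ f) := by
  classical
  induction s using Finset.induction_on with
  | empty =>
    intro Y hY
    rw [Finset.sup_empty] at hY
    subst hY
    have : IsEmpty ↥(⊥ : X.Opens).toScheme := ⟨fun x => (TopologicalSpace.Opens.mem_bot.mp x.2)⟩
    exact desc_of_isEmpty _
  | insert U s hUs ih =>
    intro Y hY
    rw [Finset.sup_insert, id] at hY
    have hle₁ : U ≤ Y := hY ▸ le_sup_left
    have hle₂ : s.sup id ≤ Y := hY ▸ le_sup_right
    have : QuasiSeparatedSpace Y.toScheme := quasiSeparatedSpace_of_quasiSeparated Y.ι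
    refine desc_of_cover_two hc (Y.ι ≫ f) (X.homOfLE hle₁) (X.homOfLE hle₂) ?_ ?_ ?_
    · rintro ⟨x, hx⟩
      rw [hY] at hx
      rcases hx with hx | hx
      · exact Or.inl ⟨⟨x, hx⟩, X.homOfLE_apply' hle₁ x hx⟩
      · exact Or.inr ⟨⟨x, hx⟩, X.homOfLE_apply' hle₂ x hx⟩
    · rw [Scheme.homOfLE_ι_assoc]
      exact desc_of_good hc f U (hs U (Finset.mem_insert_self U s))
    · rw [Scheme.homOfLE_ι_assoc]
      exact ih (fun W hW => hs W (Finset.mem_insert_of_mem hW)) _ rfl

/-- A morphism of finite presentation to the limit descends to a stage. -/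
theorem desc_of_fp (hc : IsLimit c) {X : Scheme.{u}} (f : X ⟶ c.pt)
    [LocallyOfFinitePresentation f] [QuasiCompact f] [QuasiSeparated f] : Desc D c f := by
  have hS : CompactSpace c.pt := Scheme.compactSpace_of_isLimit D c hc
  have hSq : QuasiSeparatedSpace c.pt := by
    obtain ⟨i⟩ := IsCofiltered.nonempty (C := I)
    have := isAffineHom_π_app D c hc i
    exact quasiSeparatedSpace_of_quasiSeparated (c.π.app i)
  have : CompactSpace X := QuasiCompact.compactSpace_of_compactSpace f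
  have : QuasiSeparatedSpace X := quasiSeparatedSpace_of_quasiSeparated f
  have hB : TopologicalSpace.Opens.IsBasis {U : X.Opens | Good f U} := by
    rw [TopologicalSpace.Opens.isBasis_iff_nbhd]
    intro N x hx
    obtain ⟨i₀⟩ := IsCofiltered.nonempty (C := I)
    obtain ⟨_, ⟨W₀ : (D.obj i₀).Opens, hW₀, rfl⟩, hxW, -⟩ :=
      (D.obj i₀).isBasis_affineOpens.exists_subset_of_mem_open
        (Set.mem_univ ((f ≫ c.π.app i₀) x)) isOpen_univ
    obtain ⟨_, ⟨U : X.Opens, hU, rfl⟩, hxU, hUN⟩ :=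
      X.isBasis_affineOpens.exists_subset_of_mem_open
        (show x ∈ ((N ⊓ (f ≫ c.π.app i₀) ⁻¹ᵁ W₀ : X.Opens) : Set X) from ⟨hx, hxW⟩)
        (N ⊓ (f ≫ c.π.app i₀) ⁻¹ᵁ W₀ : X.Opens).2
    exact ⟨U, ⟨hU, i₀, W₀, hW₀, fun y hy => (hUN hy).2⟩, hxU, fun y hy => (hUN hy).1⟩
  obtain ⟨Us, hUs, hfin, htop⟩ := hB.exists_finite_of_isCompact (U := ⊤) isCompact_univ
  have h1 := desc_sup hc f hfin.toFinset (fun U hU => hUs (hfin.mem_toFinset.mp hU)) ⊤ (by
    rw [htop, Finset.sup_id_eq_sSup, hfin.coe_toFinset])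
  have h2 := h1.of_iso X.topIso.inv
  rwa [Scheme.toIso_inv_ι_assoc] at h2

end Groth.Agent.Lib.Helper26.LimFP
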