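import Mathlib
import Groth.Prelude.Def_W4ega4s0809p4Pair
import Groth.Agent.Lib.Helper3LocusBC
import Groth.Agent.Lib.Helper3LocusFam
import Groth.Agent.Lib.Helper26FGZ
import Groth.Agent.S0591

set_option autoImplicit false
set_option linter.style.haveILetI false
universe u
open CategoryTheory CategoryTheory.Limits AlgebraicGeometry Topology

namespace Groth.Agent.Lib.Helper3.LocusPair

open Groth.Agent.Lib.Helper3.LocusBC Groth.Agent.Lib.Helper3.LocusFam Groth.Agent.Lib.Helper26.FGZ

/-- moving a model to a finer stage. -/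
theorem isPullback_move {I : Type u} [SmallCategory I] {D : I ⥤ Scheme.{u}} (c : Cone D)
    {i j : I} (φ : j ⟶ i) {X Xi : Scheme.{u}} {u : X ⟶ c.pt} {ui : Xi ⟶ D.obj i} {q : X ⟶ Xi}
    (h : IsPullback q u ui (c.π.app i)) :
    IsPullback (pullback.lift q (u ≫ c.π.app j) (by rw [h.w, Category.assoc, c.w])) u
      (pullback.snd ui (D.map φ)) (c.π.app j) := by
  refine IsPullback.of_right ?_ (pullback.lift_snd _ _ _) (IsPullback.of_hasPullback ui (D.map φ))
  rw [pullback.lift_fst, c.w]
  exact h

instance noeth_fgSub (A : Type u) [CommRing A] (k : FGSub A) : IsNoetherianRing k.1 := by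
  haveI : Algebra.FiniteType ℤ k.1 := (Subalgebra.fg_iff_finiteType k.1).mp k.2
  exact Algebra.FiniteType.isNoetherianRing ℤ _

/-- the predicate "`E` is the locus of `P` for a pair of finitely presented families". -/
def FamPair (P : ∀ ⦃X Y T : Scheme.{u}⦄, (X ⟶ T) → (Y ⟶ T) → Prop) (S : Scheme.{u}) (E : Set S) :
    Prop :=
  ∃ (X Y : Scheme.{u}) (u : X ⟶ S) (v : Y ⟶ S), LocallyOfFinitePresentation u ∧ QuasiCompact u ∧
    QuasiSeparated u ∧ LocallyOfFinitePresentation v ∧ QuasiCompact v ∧ QuasiSeparated v ∧
    E = ConsPropPair.locusPair P u v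

theorem isLocusFam_famPair {P : ∀ ⦃X Y T : Scheme.{u}⦄, (X ⟶ T) → (Y ⟶ T) → Prop}
    (hP : ConsPropPair.IsFieldStablePair P) : IsLocusFam (FamPair P) where
  bc := by
    rintro S S' a E ⟨X, Y, u, v, h1, h2, h3, h4, h5, h6, rfl⟩
    refine ⟨pullback u a, pullback v a, pullback.snd u a, pullback.snd v a,
      inferInstance, inferInstance, inferInstance, inferInstance, inferInstance, inferInstance, ?_⟩
    exact (locusPair_eq_preimage hP (IsPullback.of_hasPullback u a)
      (IsPullback.of_hasPullback v a)).symm
  approx := by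
    rintro A E ⟨X, Y, u, v, h1, h2, h3, h4, h5, h6, rfl⟩
    obtain ⟨i, Xi, ui, qX, a1, a2, a3, hX⟩ :=
      @Groth.Agent.S0591.result _ _ _ (specDiagram A) (specCone A) (specIsLimit A) _ _ _ X u h1 h2 h3
    obtain ⟨i', Yi, vi, qY, b1, b2, b3, hY⟩ :=
      @Groth.Agent.S0591.result _ _ _ (specDiagram A) (specCone A) (specIsLimit A) _ _ _ Y v h4 h5 h6
    let k := IsCofiltered.min i i'
    let α : k ⟶ i := IsCofiltered.minToLeft i i'
    let β : k ⟶ i' := IsCofiltered.minToRight i i'
    haveI : LocallyOfFinitePresentation (pullback.snd ui ((specDiagram A).map α)) :=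
      MorphismProperty.pullback_snd _ _ a1
    haveI : QuasiSeparated (pullback.snd ui ((specDiagram A).map α)) :=
      MorphismProperty.pullback_snd _ _ a3
    haveI : LocallyOfFinitePresentation (pullback.snd vi ((specDiagram A).map β)) :=
      MorphismProperty.pullback_snd _ _ b1
    haveI : QuasiSeparated (pullback.snd vi ((specDiagram A).map β)) :=
      MorphismProperty.pullback_snd _ _ b3
    have hX' := isPullback_move (specCone A) α hX
    have hY' := isPullback_move (specCone A) β hY
    have hfam : FamPair P ((specDiagram A).obj k)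
        (ConsPropPair.locusPair P (pullback.snd ui ((specDiagram A).map α))
          (pullback.snd vi ((specDiagram A).map β))) :=
      ⟨_, _, _, _, inferInstance, inferInstance, inferInstance, inferInstance, inferInstance,
        inferInstance, rfl⟩
    have hloc : ConsPropPair.locusPair P u v = (specCone A).π.app k ⁻¹'
        ConsPropPair.locusPair P (pullback.snd ui ((specDiagram A).map α))
          (pullback.snd vi ((specDiagram A).map β)) := by
      haveI : LocallyOfFiniteType (pullback.snd ui ((specDiagram A).map α)) := inferInstance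
      haveI : LocallyOfFiniteType (pullback.snd vi ((specDiagram A).map β)) := inferInstance
      exact locusPair_eq_preimage hP hX' hY'
    exact ⟨CommRingCat.of k.unop.1, CommRingCat.ofHom (algebraMap k.unop.1 A), _,
      noeth_fgSub A k.unop, hfam, hloc⟩

end Groth.Agent.Lib.Helper3.LocusPair
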