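import Mathlib
import Groth.Prelude.Def_W4ega4s0809p4Pair
import Groth.Agent.Lib.Helper3LocusBC
import Groth.Agent.Lib.Helper3LocusFam
import Groth.Agent.Lib.Helper3LocusPair
import Groth.Agent.Lib.Helper26FGZ
import Groth.Agent.S0591

set_option autoImplicit false
set_option linter.style.haveILetI false
universe u
open CategoryTheory CategoryTheory.Limits AlgebraicGeometry Topology

namespace Groth.Agent.Lib.Helper3.LocusOne

open Groth.Agent.Lib.Helper3.LocusBC Groth.Agent.Lib.Helper3.LocusFam Groth.Agent.Lib.Helper26.FGZ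
  Groth.Agent.Lib.Helper3.LocusPair

theorem locus_eq_preimage {P : ∀ ⦃Y T : Scheme.{u}⦄, (Y ⟶ T) → Prop}
    (hP : ConsProp.IsFieldStable P) {X S X' S' : Scheme.{u}} {u : X ⟶ S}
    {u' : X' ⟶ S'} {a : S' ⟶ S} {pX : X' ⟶ X}
    [LocallyOfFiniteType u] [QuasiCompact u]
    (hX : IsPullback pX u' u a) :
    ConsProp.locus P u' = a ⁻¹' ConsProp.locus P u := by
  ext s'
  exact (hP (u.fiberToSpecResidueField (a s')) (u'.fiberToSpecResidueField s') _ _
    (isPullback_fiberToSpecResidueField_of_isPullback hX s')).symm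

/-- the predicate "`E` is the locus of `P` for a finitely presented family". -/
def FamOne (P : ∀ ⦃Y T : Scheme.{u}⦄, (Y ⟶ T) → Prop) (S : Scheme.{u}) (E : Set S) : Prop :=
  ∃ (X : Scheme.{u}) (u : X ⟶ S), LocallyOfFinitePresentation u ∧ QuasiCompact u ∧
    QuasiSeparated u ∧ E = ConsProp.locus P u

theorem isLocusFam_famOne {P : ∀ ⦃Y T : Scheme.{u}⦄, (Y ⟶ T) → Prop}
    (hP : ConsProp.IsFieldStable P) : IsLocusFam (FamOne P) where
  bc := by
    rintro S S' a E ⟨X, u, h1, h2, h3, rfl⟩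
    refine ⟨pullback u a, pullback.snd u a, inferInstance, inferInstance, inferInstance, ?_⟩
    exact (locus_eq_preimage hP (IsPullback.of_hasPullback u a)).symm
  approx := by
    rintro A E ⟨X, u, h1, h2, h3, rfl⟩
    obtain ⟨i, Xi, ui, qX, a1, a2, a3, hX⟩ :=
      @Groth.Agent.S0591.result _ _ _ (specDiagram A) (specCone A) (specIsLimit A) _ _ _ X u h1 h2 h3
    have hfam : FamOne P ((specDiagram A).obj i) (ConsProp.locus P ui) :=
      ⟨_, _, a1, a2, a3, rfl⟩
    have hloc : ConsProp.locus P u = (specCone A).π.app i ⁻¹' ConsProp.locus P ui := by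
      haveI : LocallyOfFiniteType ui := inferInstance
      exact locus_eq_preimage hP hX
    exact ⟨CommRingCat.of i.unop.1, CommRingCat.ofHom (algebraMap i.unop.1 A), _,
      noeth_fgSub A i.unop, hfam, hloc⟩

theorem isIndConstructible_locus {P : ∀ ⦃Y T : Scheme.{u}⦄, (Y ⟶ T) → Prop}
    (hP : ConsProp.IsIndCons P) {X S : Scheme.{u}} (u : X ⟶ S)
    [LocallyOfFinitePresentation u] [QuasiCompact u] [QuasiSeparated u] :
    ProCons.IsIndConstructible (ConsProp.locus P u) := by
  refine isIndConstructible (isLocusFam_famOne hP.1) ?_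
    ⟨X, u, inferInstance, inferInstance, inferInstance, rfl⟩
  rintro S _ _ E ⟨X, u, h1, h2, h3, rfl⟩ hη
  exact hP.2 u hη

theorem isLocallyConstructible_locus {P : ∀ ⦃Y T : Scheme.{u}⦄, (Y ⟶ T) → Prop}
    (hP : ConsProp.IsCons P) {X S : Scheme.{u}} (u : X ⟶ S)
    [LocallyOfFinitePresentation u] [QuasiCompact u] [QuasiSeparated u] :
    IsLocallyConstructible (ConsProp.locus P u) := by
  refine isLocallyConstructible (isLocusFam_famOne hP.1) ?_
    ⟨X, u, inferInstance, inferInstance, inferInstance, rfl⟩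
  rintro S _ _ E ⟨X, u, h1, h2, h3, rfl⟩
  exact hP.2 u

end Groth.Agent.Lib.Helper3.LocusOne
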