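import Mathlib
import Groth.Agent.Lib.Helper5IntDim

/-!
# Lower bounds for the dimension of finitely generated algebras over a field (helper5)

* `natCast_le_ringKrullDim_of_algebraicIndependent`: a finitely generated domain over a field `k`
  containing `t` algebraically independent elements has Krull dimension at least `t`
  (Noether normalisation and transcendence degree).
* `natCast_le_ringKrullDim_of_injective`: a finitely generated `k`-algebra receiving an injective
  `k`-algebra map from `k[X₁, …, X_t]` has Krull dimension at least `t`.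
-/

set_option autoImplicit false
universe u v

namespace Groth.Agent.Lib.Helper5.FGDim

open Cardinal

theorem natCast_le_ringKrullDim_of_algebraicIndependent (k : Type u) [Field k] (D : Type v)
    [CommRing D] [IsDomain D] [Algebra k D] [Algebra.FiniteType k D] (t : ℕ) (x : Fin t → D)
    (hx : AlgebraicIndependent k x) : ((t : ℕ∞) : WithBot ℕ∞) ≤ ringKrullDim D := by
  obtain ⟨s, g, hginj, hgint⟩ := exists_integral_inj_algHom_of_fg k D
  have hdim : ringKrullDim D = ((s : ℕ∞) : WithBot ℕ∞) := by
    let _ := g.toRingHom.toAlgebra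
    have : Algebra.IsIntegral (MvPolynomial (Fin s) k) D := ⟨hgint⟩
    rw [Groth.Agent.Lib.Helper5.ringKrullDim_eq_of_isIntegral_of_injective
      (MvPolynomial (Fin s) k) D hginj, MvPolynomial.ringKrullDim_of_isNoetherianRing,
      ringKrullDim_eq_zero_of_field]
    simp
  have h1 : (t : Cardinal.{v}) ≤ Algebra.trdeg k D := by
    have := hx.lift_cardinalMk_le_trdeg
    simpa using this
  have h2 : Algebra.trdeg k D ≤ (s : Cardinal.{v}) := by
    have hadj : Algebra.adjoin k (Set.range fun i => g (MvPolynomial.X i)) = g.range := by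
      rw [Algebra.adjoin_range_eq_range_aeval]
      congr 1
      exact (MvPolynomial.aeval_unique g).symm
    have halg : Algebra.IsAlgebraic (Algebra.adjoin k (Set.range fun i => g (MvPolynomial.X i)))
        D := by
      rw [hadj]
      refine ⟨fun d => ?_⟩
      obtain ⟨p, hpm, hp⟩ := hgint d
      refine IsIntegral.isAlgebraic ⟨p.map g.rangeRestrict.toRingHom, hpm.map _, ?_⟩
      rw [Polynomial.eval₂_map]
      exact hp
    refine (Algebra.IsAlgebraic.trdeg_le_cardinalMk k (Set.range fun i => g (MvPolynomial.X i))).trans ?_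
    have := Cardinal.mk_range_le_lift (f := fun i : Fin s => g (MvPolynomial.X i))
    simpa using this
  have hts : t ≤ s := by exact_mod_cast h1.trans h2
  rw [hdim]
  exact_mod_cast hts

theorem natCast_le_ringKrullDim_of_injective (k : Type u) [Field k] (A : Type v) [CommRing A]
    [Algebra k A] [Algebra.FiniteType k A] (t : ℕ) (f : MvPolynomial (Fin t) k →ₐ[k] A)
    (hf : Function.Injective f) : ((t : ℕ∞) : WithBot ℕ∞) ≤ ringKrullDim A := by
  obtain ⟨W, hWdef⟩ : ∃ W : Submonoid A, W = (nonZeroDivisors (MvPolynomial (Fin t) k)).map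
      (f : MvPolynomial (Fin t) k →* A) := ⟨_, rfl⟩
  have hW : Disjoint (((⊥ : Ideal A) : Set A)) (W : Set A) := by
    rw [Set.disjoint_left]
    intro y hy hyW
    rw [hWdef] at hyW
    obtain ⟨g, hg, rfl⟩ := hyW
    have h0 : f g = 0 := by simpa using hy
    have : g = 0 := hf (by rw [h0, map_zero])
    exact (nonZeroDivisors.ne_zero hg) this
  obtain ⟨P, hP, -, hPW⟩ := Ideal.exists_le_prime_disjoint ⊥ W hW
  have : Algebra.FiniteType k (A ⧸ P) :=
    Algebra.FiniteType.of_surjective (Ideal.Quotient.mkₐ k P) (Ideal.Quotient.mkₐ_surjective k P)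
  have hx : AlgebraicIndependent k (fun i => Ideal.Quotient.mk P (f (MvPolynomial.X i))) := by
    rw [algebraicIndependent_iff_injective_aeval]
    have hcomp : (MvPolynomial.aeval (fun i => Ideal.Quotient.mk P (f (MvPolynomial.X i))) :
        MvPolynomial (Fin t) k →ₐ[k] A ⧸ P) = (Ideal.Quotient.mkₐ k P).comp f := by
      apply MvPolynomial.algHom_ext
      intro i
      simp
    rw [hcomp]
    intro g₁ g₂ h
    by_contra hne
    have hsub : g₁ - g₂ ≠ 0 := sub_ne_zero.mpr hne
    have hmem : f (g₁ - g₂) ∈ P := by
      rw [← Ideal.Quotient.eq_zero_iff_mem, map_sub, map_sub, sub_eq_zero]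
      simpa using h
    refine Set.disjoint_left.mp hPW hmem ?_
    rw [hWdef]
    exact ⟨g₁ - g₂, mem_nonZeroDivisors_of_ne_zero hsub, rfl⟩
  exact (natCast_le_ringKrullDim_of_algebraicIndependent k (A ⧸ P) t _ hx).trans
    (ringKrullDim_quotient_le P)

end Groth.Agent.Lib.Helper5.FGDim
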