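import Mathlib
import Groth.Agent.Lib.Helper5FGDim
import Groth.Agent.Lib.Helper4TensorDim

set_option autoImplicit false
set_option linter.style.haveILetI false
universe u
open TensorProduct

namespace Groth.Agent.Lib.Helper3.ValDim

section scale

variable {R : Type u} [CommRing R] [IsDomain R] [ValuationRing R]

/-- a nonzero polynomial over the fraction field of a valuation ring can be scaled to a polynomial
over the valuation ring with a coefficient equal to `1`. -/
theorem exists_scaled {σ : Type*} (p : MvPolynomial σ (FractionRing R)) (hp : p ≠ 0) :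
    ∃ (c : FractionRing R) (p' : MvPolynomial σ R) (I₀ : σ →₀ ℕ), c ≠ 0 ∧
      MvPolynomial.map (algebraMap R (FractionRing R)) p' = c • p ∧ p'.coeff I₀ = 1 := by
  classical
  let K := FractionRing R
  let v := ValuationRing.valuation R K
  have hsupp : p.support.Nonempty := by
    rw [Finset.nonempty_iff_ne_empty, Ne, MvPolynomial.support_eq_empty]
    exact hp
  obtain ⟨I₀, hI₀, hmax⟩ := Finset.exists_max_image p.support (fun I => v (p.coeff I)) hsupp
  have hc₀ : p.coeff I₀ ≠ 0 := MvPolynomial.mem_support_iff.mp hI₀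
  have hcoef : ∀ I, ∃ r : R, algebraMap R K r = (p.coeff I₀)⁻¹ * p.coeff I := by
    intro I
    rw [← ValuationRing.mem_integer_iff]
    show v ((p.coeff I₀)⁻¹ * p.coeff I) ≤ 1
    by_cases hI : I ∈ p.support
    · rw [map_mul, map_inv₀]
      have h1 := hmax I hI
      have h2 : v (p.coeff I₀) ≠ 0 := (Valuation.ne_zero_iff v).mpr hc₀
      rw [inv_mul_le_iff₀ (zero_lt_iff.mpr h2), mul_one]
      exact h1
    · rw [MvPolynomial.notMem_support_iff.mp hI, mul_zero, map_zero]
      exact zero_le_one
  have hrange : (p.coeff I₀)⁻¹ • p ∈ Set.range (MvPolynomial.map (algebraMap R K)) := by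
    rw [MvPolynomial.mem_range_map_iff_coeffs_subset]
    intro a ha
    rw [Finset.mem_coe, MvPolynomial.mem_coeffs_iff] at ha
    obtain ⟨I, -, rfl⟩ := ha
    obtain ⟨r, hr⟩ := hcoef I
    exact ⟨r, by rw [hr, MvPolynomial.coeff_smul, smul_eq_mul]⟩
  obtain ⟨p', hp'⟩ := hrange
  refine ⟨(p.coeff I₀)⁻¹, p', I₀, inv_ne_zero hc₀, hp', ?_⟩
  have h1 : algebraMap R K (p'.coeff I₀) = 1 := by
    rw [← MvPolynomial.coeff_map, hp', MvPolynomial.coeff_smul, smul_eq_mul, inv_mul_cancel₀ hc₀]
  exact (IsFractionRing.injective R K) (by rw [h1, map_one])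

end scale

section main

variable {R S : Type u} [CommRing R] [IsDomain R] [ValuationRing R] [CommRing S] [IsDomain S]
  [Algebra R S]

/-- `S → K ⊗ S` is injective for a torsion-free `S`. -/
theorem includeRight_injective (hinj : Function.Injective (algebraMap R S)) :
    Function.Injective (fun x : S => (1 : FractionRing R) ⊗ₜ[R] x) := by
  intro x y hxy
  have h0 : TensorProduct.mk R (FractionRing R) S 1 (x - y) = 0 := by
    show (1 : FractionRing R) ⊗ₜ[R] (x - y) = 0
    rw [TensorProduct.tmul_sub]
    exact sub_eq_zero.mpr hxy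
  rw [IsLocalizedModule.eq_zero_iff (nonZeroDivisors R)] at h0
  obtain ⟨c, hc⟩ := h0
  have hc0 : algebraMap R S (c : R) ≠ 0 := by
    intro h
    have : (c : R) = 0 := hinj (by rw [h, map_zero])
    exact nonZeroDivisors.coe_ne_zero c this
  have : algebraMap R S (c : R) * (x - y) = 0 := by
    rw [← Algebra.smul_def]; exact hc
  rcases mul_eq_zero.mp this with h | h
  · exact absurd h hc0
  · exact sub_eq_zero.mp h

/-- the dimension of the special fibre is at most the dimension of the generic fibre. -/
theorem ringKrullDim_special_le (hinj : Function.Injective (algebraMap R S))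
    [Algebra.FiniteType R S] [Nontrivial (IsLocalRing.ResidueField R ⊗[R] S)] :
    ringKrullDim (IsLocalRing.ResidueField R ⊗[R] S) ≤ ringKrullDim (FractionRing R ⊗[R] S) := by
  classical
  let κ := IsLocalRing.ResidueField R
  let K := FractionRing R
  obtain ⟨s, g, hginj, hgint⟩ := exists_integral_inj_algHom_of_fg κ (κ ⊗[R] S)
  rw [Groth.Agent.Lib.Helper4.TensorDim.ringKrullDim_eq_of_integral_injective κ _ s g hginj hgint]
  have hsurj : Function.Surjective (Algebra.TensorProduct.includeRight : S →ₐ[R] κ ⊗[R] S) :=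
    Algebra.TensorProduct.includeRight_surjective S IsLocalRing.residue_surjective
  choose T hT using fun i : Fin s => hsurj (g (MvPolynomial.X i))
  let hK : MvPolynomial (Fin s) K →ₐ[K] K ⊗[R] S :=
    MvPolynomial.aeval (fun i => (1 : K) ⊗ₜ[R] T i)
  refine Groth.Agent.Lib.Helper5.FGDim.natCast_le_ringKrullDim_of_injective K (K ⊗[R] S) s hK ?_
  rw [injective_iff_map_eq_zero]
  intro p hp0
  by_contra hp
  obtain ⟨c, p', I₀, hc, hmap, hcoeff⟩ := exists_scaled p hp
  let ev : MvPolynomial (Fin s) R →ₐ[R] S := MvPolynomial.aeval T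
  -- evaluate in the generic fibre
  have h1 : (1 : K) ⊗ₜ[R] ev p' = hK (MvPolynomial.map (algebraMap R K) p') := by
    have : ((Algebra.TensorProduct.includeRight : S →ₐ[R] K ⊗[R] S).comp ev) =
        (hK.restrictScalars R).comp (MvPolynomial.mapAlgHom (Algebra.ofId R K)) := by
      apply MvPolynomial.algHom_ext
      intro i
      simp [ev, hK]
    exact DFunLike.congr_fun this p'
  have h2 : ev p' = 0 := by
    apply includeRight_injective hinj
    show (1 : K) ⊗ₜ[R] ev p' = (1 : K) ⊗ₜ[R] (0 : S)
    rw [h1, hmap, map_smul, hp0, smul_zero, TensorProduct.tmul_zero]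
  -- evaluate in the special fibre
  have h3 : (1 : κ) ⊗ₜ[R] ev p' = g (MvPolynomial.map (algebraMap R κ) p') := by
    have : ((Algebra.TensorProduct.includeRight : S →ₐ[R] κ ⊗[R] S).comp ev) =
        (g.restrictScalars R).comp (MvPolynomial.mapAlgHom (Algebra.ofId R κ)) := by
      apply MvPolynomial.algHom_ext
      intro i
      simp [ev, hT]
    exact DFunLike.congr_fun this p'
  have h4 : MvPolynomial.map (algebraMap R κ) p' = 0 := by
    apply hginj
    rw [← h3, h2, TensorProduct.tmul_zero, map_zero]
  have h5 : algebraMap R κ (p'.coeff I₀) = 0 := by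
    rw [← MvPolynomial.coeff_map, h4, MvPolynomial.coeff_zero]
  rw [hcoeff, map_one] at h5
  exact one_ne_zero h5

end main

end Groth.Agent.Lib.Helper3.ValDim
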