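import Groth.Agent.Lib.Helper4FibDimH

/-!
# Fibre dimension (part I): generic fibre dimension is minimal

* `fibreDimAt_le_of_forall_specializes`: if `ξ` specializes to every point of `X`, then
  `fibreDimAt f ξ ≤ fibreDimAt f x` for every `x` (consequence of Chevalley's semicontinuity).
* `topologicalKrullDim_fiber_eq_fibreDimAt`: if `ξ` specializes to every point of `X`, the fibre through
  `ξ` has dimension `fibreDimAt f ξ`.
-/

set_option autoImplicit false
set_option linter.style.haveILetI false
universe u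

open TopologicalSpace Topology AlgebraicGeometry CategoryTheory

namespace Groth.Agent.Lib.Helper4.FibDim

open Groth.Agent.Lib.Helper4.VarDim

variable {X S : Scheme.{u}} (f : X ⟶ S) [LocallyOfFiniteType f]

theorem fibreDimAt_le_of_forall_specializes (ξ : X) (hξ : ∀ x : X, ξ ⤳ x) (x : X) :
    FlatMor.fibreDimAt f ξ ≤ FlatMor.fibreDimAt f x := by
  have hmem : ξ ∈ {y : X | FlatMor.fibreDimAt f y ≤ FlatMor.fibreDimAt f x} :=
    (hξ x).mem_open (isOpen_setOf_fibreDimAt_le' f _) (le_refl (FlatMor.fibreDimAt f x))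
  exact hmem

theorem topologicalKrullDim_fiber_eq_fibreDimAt (ξ : X) (hξ : ∀ x : X, ξ ⤳ x) :
    topologicalKrullDim (f.fiber (f ξ)) = FlatMor.fibreDimAt f ξ := by
  apply le_antisymm
  · rw [topologicalKrullDim_fiber_le_iff]
    intro x hx
    -- the fibre through `x` is the fibre through `ξ`
    letI : (f.fiber (f ξ)).Over (Spec (CommRingCat.of (S.residueField (f ξ)))) :=
      ⟨f.fiberToSpecResidueField (f ξ)⟩
    haveI : LocallyOfFiniteType ((f.fiber (f ξ)) ↘ Spec (CommRingCat.of (S.residueField (f ξ)))) :=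
      locallyOfFiniteType_fiberToSpecResidueField f (f ξ)
    rw [fibreDimAt_eq_trdegNat_of_maximal f ξ (fun y _ hy => (hy.antisymm (hξ y)).eq)]
    -- bound the local dimension at `x` by the dimension of the fibre, then by trdeg at `ξ`
    have h1 : FlatMor.fibreDimAt f x ≤ topologicalKrullDim (f.fiber (f ξ)) :=
      (topologicalKrullDim_fiber_le_iff f (f ξ) _).mp le_rfl x hx
    refine h1.trans ?_
    refine topologicalKrullDim_le_of_forall_trdegNat_le' (S.residueField (f ξ)) (f.fiber (f ξ)) _ ?_
    intro t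
    have h2 : f.asFiber ξ ⤳ t := by
      rw [← (f.fiberι (f ξ)).isEmbedding.isInducing.specializes_iff, f.fiberι_asFiber ξ]
      exact hξ _
    exact_mod_cast trdegNat_le_of_specializes (S.residueField (f ξ)) (f.fiber (f ξ)) _ _ h2
  · exact Groth.Agent.Lib.Helper7.TopDim.localDim_le_dim (f.asFiber ξ)

end Groth.Agent.Lib.Helper4.FibDim
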