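import Mathlib
import Groth.Agent.Lib.Helper3ValDim
import Groth.Agent.Lib.Helper3DimCons
import Groth.Agent.Lib.Helper4FibDimI
import Groth.Agent.S9777

set_option autoImplicit false
set_option linter.style.haveILetI false
universe u
open TensorProduct CategoryTheory CategoryTheory.Limits AlgebraicGeometry

namespace Groth.Agent.Lib.Helper3.ValDim

open Groth.Agent.Lib.Helper3.DimCons Groth.Agent.Lib.Helper4.ProdDim

/-- the fibre of `Spec S → Spec R` over the image of a field-valued point `R → L` has the dimension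
of `L ⊗ S`. -/
theorem fibre_dim_Spec (R S L : Type u) [CommRing R] [CommRing S] [Algebra R S]
    [Algebra.FiniteType R S] [Field L] [Algebra R L] (y' : Spec (CommRingCat.of L)) :
    topologicalKrullDim ↥((Spec.map (CommRingCat.ofHom (algebraMap R S))).fiber
      (Spec.map (CommRingCat.ofHom (algebraMap R L)) y')) = ringKrullDim (L ⊗[R] S) := by
  let f := Spec.map (CommRingCat.ofHom (algebraMap R S))
  let g := Spec.map (CommRingCat.ofHom (algebraMap R L))
  let f' : Spec (CommRingCat.of (L ⊗[R] S)) ⟶ Spec (CommRingCat.of L) :=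
    Spec.map (CommRingCat.ofHom Algebra.TensorProduct.includeLeftRingHom)
  let g' : Spec (CommRingCat.of (L ⊗[R] S)) ⟶ Spec (CommRingCat.of S) :=
    Spec.map (CommRingCat.ofHom Algebra.TensorProduct.includeRight.toRingHom)
  have hpb : IsPullback g' f' f g :=
    (isPullback_SpecMap_of_isPushout _ _ _ _ (CommRingCat.isPushout_tensorProduct R L S)).flip
  haveI : LocallyOfFiniteType f := by
    rw [HasRingHomProperty.Spec_iff (P := @LocallyOfFiniteType)]
    exact RingHom.finiteType_algebraMap.mpr ‹Algebra.FiniteType R S›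
  have h1 := Groth.Agent.S9777.result f g f' g' hpb y'
  rw [← h1]
  haveI : LocallyOfFiniteType f' := MorphismProperty.of_isPullback (P := @LocallyOfFiniteType) hpb
    inferInstance
  have h2 : topologicalKrullDim ↥(f'.fiber y') =
      topologicalKrullDim ↥(Spec (CommRingCat.of (L ⊗[R] S))) :=
    dim_eq_of_isPullback_onePoint f' (f'.fiberToSpecResidueField y') (f'.fiberι y')
      ((Spec (CommRingCat.of L)).fromSpecResidueField y') (IsPullback.of_hasPullback _ _)
  rw [h2, topologicalKrullDim_Spec]

/-- for a finite type extension of domains `R ⊆ S`, the dimension of the generic fibre is at most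
the dimension of any nonempty fibre. -/
theorem ringKrullDim_generic_le {R S : Type u} [CommRing R] [IsDomain R] [CommRing S] [IsDomain S]
    [Algebra R S] (hinj : Function.Injective (algebraMap R S)) [Algebra.FiniteType R S]
    (L : Type u) [Field L] [Algebra R L] [Nontrivial (L ⊗[R] S)] :
    ringKrullDim (FractionRing R ⊗[R] S) ≤ ringKrullDim (L ⊗[R] S) := by
  let K := FractionRing R
  let f := Spec.map (CommRingCat.ofHom (algebraMap R S))
  haveI : LocallyOfFiniteType f := by
    rw [HasRingHomProperty.Spec_iff (P := @LocallyOfFiniteType)]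
    exact RingHom.finiteType_algebraMap.mpr ‹Algebra.FiniteType R S›
  let ξ : Spec (CommRingCat.of S) := ⟨⊥, Ideal.isPrime_bot⟩
  have hξ : ∀ x : Spec (CommRingCat.of S), ξ ⤳ x := by
    intro x
    exact (PrimeSpectrum.le_iff_specializes (R := S) ξ x).mp (bot_le (a := x.asIdeal))
  let yK : Spec (CommRingCat.of K) := ⟨⊥, Ideal.isPrime_bot⟩
  have hfξ : f ξ = Spec.map (CommRingCat.ofHom (algebraMap R K)) yK := by
    apply PrimeSpectrum.ext
    show Ideal.comap (algebraMap R S) ⊥ = Ideal.comap (algebraMap R K) ⊥
    rw [← RingHom.ker_eq_comap_bot, ← RingHom.ker_eq_comap_bot,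
      (RingHom.injective_iff_ker_eq_bot _).mp hinj,
      (RingHom.injective_iff_ker_eq_bot _).mp (IsFractionRing.injective R K)]
  obtain ⟨x'⟩ : Nonempty (Spec (CommRingCat.of (L ⊗[R] S))) :=
    inferInstanceAs (Nonempty (PrimeSpectrum (L ⊗[R] S)))
  let x : Spec (CommRingCat.of S) :=
    Spec.map (CommRingCat.ofHom Algebra.TensorProduct.includeRight.toRingHom) x'
  let y' : Spec (CommRingCat.of L) :=
    Spec.map (CommRingCat.ofHom Algebra.TensorProduct.includeLeftRingHom) x'
  have hfx : f x = Spec.map (CommRingCat.ofHom (algebraMap R L)) y' := by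
    show (Spec.map (CommRingCat.ofHom Algebra.TensorProduct.includeRight.toRingHom) ≫ f) x' =
      (Spec.map (CommRingCat.ofHom Algebra.TensorProduct.includeLeftRingHom) ≫
        Spec.map (CommRingCat.ofHom (algebraMap R L))) x'
    have hcomm : Spec.map (CommRingCat.ofHom Algebra.TensorProduct.includeRight.toRingHom) ≫ f =
        Spec.map (CommRingCat.ofHom (Algebra.TensorProduct.includeLeftRingHom :
          L →+* L ⊗[R] S)) ≫ Spec.map (CommRingCat.ofHom (algebraMap R L)) := by
      rw [← Spec.map_comp, ← Spec.map_comp]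
      congr 1
      ext r
      simp
    rw [hcomm]
  calc ringKrullDim (K ⊗[R] S)
      = topologicalKrullDim ↥(f.fiber (f ξ)) := by rw [hfξ, fibre_dim_Spec R S K yK]
    _ = FlatMor.fibreDimAt f ξ :=
        Groth.Agent.Lib.Helper4.FibDim.topologicalKrullDim_fiber_eq_fibreDimAt f ξ hξ
    _ ≤ FlatMor.fibreDimAt f x :=
        Groth.Agent.Lib.Helper4.FibDim.fibreDimAt_le_of_forall_specializes f ξ hξ x
    _ ≤ topologicalKrullDim ↥(f.fiber (f x)) :=
        Groth.Agent.Lib.Helper7.TopDim.localDim_le_dim _
    _ = ringKrullDim (L ⊗[R] S) := by rw [hfx, fibre_dim_Spec R S L y']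

end Groth.Agent.Lib.Helper3.ValDim
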