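import Mathlib
import Groth.Agent.Lib.Helper3ValDim

set_option autoImplicit false
set_option linter.style.haveILetI false
universe u
open TensorProduct

namespace Groth.Agent.Lib.Helper3.ValDim

section flat

variable {R S : Type u} [CommRing R] [IsDomain R] [CommRing S] [Algebra R S]

/-- `S → K ⊗ S` is injective for a flat `S`. -/
theorem includeRight_injective_of_flat [Module.Flat R S] :
    Function.Injective (fun x : S => (1 : FractionRing R) ⊗ₜ[R] x) := by
  intro x y hxy
  have h0 : TensorProduct.mk R (FractionRing R) S 1 (x - y) = 0 := by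
    show (1 : FractionRing R) ⊗ₜ[R] (x - y) = 0
    rw [TensorProduct.tmul_sub]
    exact sub_eq_zero.mpr hxy
  rw [IsLocalizedModule.eq_zero_iff (nonZeroDivisors R)] at h0
  obtain ⟨c, hc⟩ := h0
  have hreg : IsSMulRegular S (c : R) := Module.Flat.isSMulRegular_of_nonZeroDivisors c.2
  have : (c : R) • (x - y) = (c : R) • (0 : S) := by rw [smul_zero]; exact hc
  exact sub_eq_zero.mp (hreg this)

/-- for a flat algebra of finite type over a valuation ring, the dimension of the special fibre is
at most the dimension of the generic fibre. -/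
theorem ringKrullDim_special_le_of_flat [ValuationRing R] [Module.Flat R S]
    [Algebra.FiniteType R S] :
    ringKrullDim (IsLocalRing.ResidueField R ⊗[R] S) ≤ ringKrullDim (FractionRing R ⊗[R] S) := by
  classical
  rcases subsingleton_or_nontrivial (IsLocalRing.ResidueField R ⊗[R] S) with hsub | hnt
  · rw [ringKrullDim_eq_bot_of_subsingleton]; exact bot_le
  let κ := IsLocalRing.ResidueField R
  let K := FractionRing R
  obtain ⟨s, g, hginj, hgint⟩ := exists_integral_inj_algHom_of_fg κ (κ ⊗[R] S)
  rw [Groth.Agent.Lib.Helper4.TensorDim.ringKrullDim_eq_of_integral_injective κ _ s g hginj hgint]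
  have hsurj : Function.Surjective (Algebra.TensorProduct.includeRight : S →ₐ[R] κ ⊗[R] S) :=
    Algebra.TensorProduct.includeRight_surjective S IsLocalRing.residue_surjective
  choose T hT using fun i : Fin s => hsurj (g (MvPolynomial.X i))
  let hK : MvPolynomial (Fin s) K →ₐ[K] K ⊗[R] S :=
    MvPolynomial.aeval (fun i => (1 : K) ⊗ₜ[R] T i)
  refine Groth.Agent.Lib.Helper5.FGDim.natCast_le_ringKrullDim_of_injective K (K ⊗[R] S) s hK ?_
  rw [injective_iff_map_eq_zero]
  intro p hp0
  by_contra hp
  obtain ⟨c, p', I₀, hc, hmap, hcoeff⟩ := exists_scaled p hp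
  let ev : MvPolynomial (Fin s) R →ₐ[R] S := MvPolynomial.aeval T
  have h1 : (1 : K) ⊗ₜ[R] ev p' = hK (MvPolynomial.map (algebraMap R K) p') := by
    have : ((Algebra.TensorProduct.includeRight : S →ₐ[R] K ⊗[R] S).comp ev) =
        (hK.restrictScalars R).comp (MvPolynomial.mapAlgHom (Algebra.ofId R K)) := by
      apply MvPolynomial.algHom_ext
      intro i
      simp [ev, hK]
    exact DFunLike.congr_fun this p'
  have h2 : ev p' = 0 := by
    apply includeRight_injective_of_flat (R := R)
    show (1 : K) ⊗ₜ[R] ev p' = (1 : K) ⊗ₜ[R] (0 : S)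
    rw [h1, hmap, map_smul, hp0, smul_zero, TensorProduct.tmul_zero]
  have h3 : (1 : κ) ⊗ₜ[R] ev p' = g (MvPolynomial.map (algebraMap R κ) p') := by
    have : ((Algebra.TensorProduct.includeRight : S →ₐ[R] κ ⊗[R] S).comp ev) =
        (g.restrictScalars R).comp (MvPolynomial.mapAlgHom (Algebra.ofId R κ)) := by
      apply MvPolynomial.algHom_ext
      intro i
      simp [ev, hT]
    exact DFunLike.congr_fun this p'
  have h4 : MvPolynomial.map (algebraMap R κ) p' = 0 := by
    apply hginj
    rw [← h3, h2, TensorProduct.tmul_zero, map_zero]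
  have h5 : algebraMap R κ (p'.coeff I₀) = 0 := by
    rw [← MvPolynomial.coeff_map, h4, MvPolynomial.coeff_zero]
  rw [hcoeff, map_one] at h5
  exact one_ne_zero h5

end flat

end Groth.Agent.Lib.Helper3.ValDim
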