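import Mathlib
import Groth.Agent.Lib.Helper3ValDim2
import Groth.Agent.Lib.Helper3ValDim3
import Groth.Agent.Lib.Helper3LocusOne
import Groth.Agent.Lib.Helper10SubtrVal

set_option autoImplicit false
set_option linter.style.haveILetI false
universe u
open TensorProduct CategoryTheory CategoryTheory.Limits AlgebraicGeometry Topology

namespace Groth.Agent.Lib.Helper3.FlatFibDim

open Groth.Agent.Lib.Helper3.DimCons Groth.Agent.Lib.Helper3.ValDim Groth.Agent.Lib.Helper4.FibDim

/-- a locally constructible subset of a scheme which is stable under generalization is open. -/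
theorem isOpen_of_isLocallyConstructible_of_stableUnderGeneralization {S : Scheme.{u}} {E : Set S}
    (hE : IsLocallyConstructible E) (hs : StableUnderGeneralization E) : IsOpen E := by
  rw [isOpen_iff_forall_mem_open]
  intro x hx
  obtain ⟨_, ⟨U, hU, rfl⟩, hxU, -⟩ := S.isBasis_affineOpens.exists_subset_of_mem_open
    (Set.mem_univ x) isOpen_univ
  replace hU : IsAffineOpen U := hU
  have hemb := hU.fromSpec.isOpenEmbedding
  have h1 : IsConstructible (hU.fromSpec ⁻¹' E) :=
    (hE.preimage_of_isOpenEmbedding hemb).isConstructible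
  have h2 : StableUnderGeneralization (hU.fromSpec ⁻¹' E) := hs.preimage hU.fromSpec.continuous
  have h3 : IsOpen (hU.fromSpec ⁻¹' E) :=
    PrimeSpectrum.isOpen_of_stableUnderGeneralization_of_isConstructible h2 h1
  refine ⟨hU.fromSpec '' (hU.fromSpec ⁻¹' E), Set.image_preimage_subset _ _,
    hemb.isOpenMap _ h3, ?_⟩
  have : x ∈ Set.range hU.fromSpec := by rw [hU.range_fromSpec]; exact hxU
  obtain ⟨z, rfl⟩ := this
  exact ⟨z, hx, rfl⟩

/-- the local fibre dimension is insensitive to open immersions into the source. -/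
theorem fibreDimAt_comp_of_isOpenImmersion {U X S : Scheme.{u}} (j : U ⟶ X) [IsOpenImmersion j]
    (g : X ⟶ S) (u : U) : FlatMor.fibreDimAt (j ≫ g) u = FlatMor.fibreDimAt g (j u) := by
  rw [fibreDimAt_eq_fibLD, fibreDimAt_eq_fibLD]
  exact fibLD_comp_isOpenEmbedding g j j.isOpenEmbedding u

/-- flat of finite type over a valuation ring: the special fibre has dimension at most that of
the generic fibre. -/
theorem le_dim_generic_of_le_dim_special (V : Type u) [CommRing V] [IsDomain V] [ValuationRing V]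
    {Y : Scheme.{u}} (g : Y ⟶ Spec (CommRingCat.of V)) [Flat g] [LocallyOfFiniteType g]
    [QuasiCompact g] (m : ℕ)
    (h : (m : WithBot ℕ∞) ≤ topologicalKrullDim ↥(g.fiber (IsLocalRing.closedPoint V))) :
    (m : WithBot ℕ∞) ≤ topologicalKrullDim
      ↥(g.fiber (⟨⊥, Ideal.isPrime_bot⟩ : Spec (CommRingCat.of V))) := by
  obtain ⟨y, hy, hys⟩ := (natCast_le_fibre_dim_iff g _ m).mp h
  obtain ⟨_, ⟨U, hU, rfl⟩, hyU, -⟩ := Y.isBasis_affineOpens.exists_subset_of_mem_open
    (Set.mem_univ y) isOpen_univ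
  replace hU : IsAffineOpen U := hU
  let j := hU.fromSpec
  let z := hU.primeIdealOf ⟨y, hyU⟩
  have hjz : j z = y := hU.fromSpec_primeIdealOf ⟨y, hyU⟩
  let φ : CommRingCat.of V ⟶ Γ(Y, U) := Spec.preimage (j ≫ g)
  have hφ : Spec.map φ = j ≫ g := Spec.map_preimage _
  letI : Algebra V Γ(Y, U) := φ.hom.toAlgebra
  have hφ' : Spec.map (CommRingCat.ofHom (algebraMap V Γ(Y, U))) = j ≫ g := hφ
  haveI : Flat (Spec.map φ) := by rw [hφ]; infer_instance
  haveI : LocallyOfFiniteType (Spec.map φ) := by rw [hφ]; infer_instance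
  have hflat : φ.hom.Flat := (HasRingHomProperty.Spec_iff (P := @Flat) (φ := φ)).mp inferInstance
  haveI : Module.Flat V Γ(Y, U) := hflat
  have hft : φ.hom.FiniteType :=
    (HasRingHomProperty.Spec_iff (P := @LocallyOfFiniteType) (φ := φ)).mp inferInstance
  haveI : Algebra.FiniteType V Γ(Y, U) := hft
  let hh := Spec.map (CommRingCat.ofHom (algebraMap V Γ(Y, U)))
  -- the special fibre of the affine piece
  let κ := IsLocalRing.ResidueField V
  let K := FractionRing V
  let yκ : Spec (CommRingCat.of κ) := ⟨⊥, Ideal.isPrime_bot⟩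
  let yK : Spec (CommRingCat.of K) := ⟨⊥, Ideal.isPrime_bot⟩
  have hκ : Spec.map (CommRingCat.ofHom (algebraMap V κ)) yκ = IsLocalRing.closedPoint V :=
    IsLocalRing.PrimeSpectrum.comap_residue V yκ
  have hK : Spec.map (CommRingCat.ofHom (algebraMap V K)) yK =
      (⟨⊥, Ideal.isPrime_bot⟩ : Spec (CommRingCat.of V)) := by
    apply PrimeSpectrum.ext
    show Ideal.comap (algebraMap V K) ⊥ = ⊥
    rw [← RingHom.ker_eq_comap_bot,
      (RingHom.injective_iff_ker_eq_bot _).mp (IsFractionRing.injective V K)]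
  have h1 : (m : WithBot ℕ∞) ≤ FlatMor.fibreDimAt hh z := by
    show (m : WithBot ℕ∞) ≤ FlatMor.fibreDimAt (Spec.map (CommRingCat.ofHom (algebraMap V Γ(Y, U)))) z
    rw [hφ', fibreDimAt_comp_of_isOpenImmersion, hjz]
    exact hy
  have hhz : hh z = IsLocalRing.closedPoint V := by
    show (Spec.map (CommRingCat.ofHom (algebraMap V Γ(Y, U)))) z = _
    rw [hφ']
    show g (j z) = _
    rw [hjz, hys]
  have h2 : (m : WithBot ℕ∞) ≤ ringKrullDim (κ ⊗[V] Γ(Y, U)) := by
    rw [← fibre_dim_Spec V Γ(Y, U) κ yκ, hκ, ← hhz]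
    exact h1.trans (Groth.Agent.Lib.Helper7.TopDim.localDim_le_dim _)
  have h3 : (m : WithBot ℕ∞) ≤ ringKrullDim (K ⊗[V] Γ(Y, U)) :=
    h2.trans ringKrullDim_special_le_of_flat
  rw [← fibre_dim_Spec V Γ(Y, U) K yK, hK] at h3
  obtain ⟨z', hz', hz's⟩ := (natCast_le_fibre_dim_iff hh _ m).mp h3
  refine (natCast_le_fibre_dim_iff g _ m).mpr ⟨j z', ?_, ?_⟩
  · show (m : WithBot ℕ∞) ≤ FlatMor.fibreDimAt g (j z')
    rw [← fibreDimAt_comp_of_isOpenImmersion, ← hφ']
    exact hz'
  · rw [← hz's]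
    show g (j z') = (Spec.map (CommRingCat.ofHom (algebraMap V Γ(Y, U)))) z'
    rw [hφ']
    rfl

/-- for a flat morphism of finite type, the fibre dimension does not drop under generalization
of the base point. -/
theorem le_dim_fibre_of_specializes {X S : Scheme.{u}} (f : X ⟶ S) [Flat f] [LocallyOfFiniteType f]
    [QuasiCompact f] {s s' : S} (h : s' ⤳ s) (m : ℕ)
    (hm : (m : WithBot ℕ∞) ≤ topologicalKrullDim ↥(f.fiber s)) :
    (m : WithBot ℕ∞) ≤ topologicalKrullDim ↥(f.fiber s') := by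
  obtain ⟨A, t, ht1, ht2⟩ := Groth.Agent.Lib.Helper10.SubtrVal.exists_valuationRing_of_specializes h
  let fA := pullback.snd f t
  have hpb := IsPullback.of_hasPullback f t
  have hdim : ∀ y' : Spec (CommRingCat.of ↥A), topologicalKrullDim ↥(fA.fiber y') =
      topologicalKrullDim ↥(f.fiber (t y')) :=
    fun y' => Groth.Agent.S9777.result f t fA (pullback.fst f t) hpb y'
  have hgen : t (⟨⊥, Ideal.isPrime_bot⟩ : Spec (CommRingCat.of ↥A)) = s' := by
    let pt : Spec (CommRingCat.of (S.residueField s')) := ⟨⊥, Ideal.isPrime_bot⟩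
    have h1 : Spec.map (CommRingCat.ofHom A.subtype) pt =
        (⟨⊥, Ideal.isPrime_bot⟩ : Spec (CommRingCat.of ↥A)) := by
      apply PrimeSpectrum.ext
      show Ideal.comap A.subtype ⊥ = ⊥
      rw [← RingHom.ker_eq_comap_bot]
      exact (RingHom.injective_iff_ker_eq_bot _).mp Subtype.val_injective
    rw [← h1]
    show (Spec.map (CommRingCat.ofHom A.subtype) ≫ t) pt = s'
    rw [ht2]
    exact Scheme.fromSpecResidueField_apply _ _
  have h1 : (m : WithBot ℕ∞) ≤ topologicalKrullDim ↥(fA.fiber (IsLocalRing.closedPoint ↥A)) := by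
    rw [hdim, ht1]; exact hm
  have h2 := le_dim_generic_of_le_dim_special ↥A fA m h1
  rw [hdim, hgen] at h2
  exact h2

/-- for a flat morphism of finite presentation, `{s | m ≤ dim X_s}` is open. -/
theorem isOpen_setOf_le_fibre_dim {X S : Scheme.{u}} (f : X ⟶ S) [Flat f]
    [LocallyOfFinitePresentation f] [QuasiCompact f] [QuasiSeparated f] (m : ℕ) :
    IsOpen {s : S | (m : WithBot ℕ∞) ≤ topologicalKrullDim ↥(f.fiber s)} := by
  apply isOpen_of_isLocallyConstructible_of_stableUnderGeneralization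
  · exact Groth.Agent.Lib.Helper3.LocusOne.isLocallyConstructible_locus
      (isCons_dim_mem {v | (m : WithBot ℕ∞) ≤ v}) f
  · intro s s' hs' hs
    exact le_dim_fibre_of_specializes f hs' m hs

end Groth.Agent.Lib.Helper3.FlatFibDim
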