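import Mathlib
import Groth.Agent.Lib.Helper3LocDimBC
import Groth.Agent.Lib.Helper3FlatFibDim

set_option autoImplicit false
set_option linter.style.haveILetI false
universe u
open TensorProduct CategoryTheory CategoryTheory.Limits AlgebraicGeometry Topology

namespace Groth.Agent.Lib.Helper3.FlatFibDim2

open Groth.Agent.Lib.Helper3.DimCons Groth.Agent.Lib.Helper3.ValDim Groth.Agent.Lib.Helper4.FibDim
  Groth.Agent.Lib.Helper3.LocDimBC Groth.Agent.Lib.Helper3.FlatFibDim


theorem le_of_forall_natCast_le (a b : WithBot ℕ∞)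
    (h : ∀ n : ℕ, (n : WithBot ℕ∞) ≤ a → (n : WithBot ℕ∞) ≤ b) : a ≤ b := by
  induction a using WithBot.recBotCoe with
  | bot => exact bot_le
  | coe m =>
    induction m using ENat.recTopCoe with
    | top =>
      have : b = ⊤ := Groth.Agent.Lib.Helper4.WithBotENat.eq_top_of_forall_natCast_le b
        (fun n => h n (by exact_mod_cast (le_top : (n : ℕ∞) ≤ ⊤)))
      rw [this]; exact le_top
    | coe k => exact h k le_rfl

theorem eq_of_forall_natCast_le_iff (a b : WithBot ℕ∞)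
    (h : ∀ n : ℕ, (n : WithBot ℕ∞) ≤ a ↔ (n : WithBot ℕ∞) ≤ b) : a = b :=
  le_antisymm (le_of_forall_natCast_le a b fun n => (h n).mp)
    (le_of_forall_natCast_le b a fun n => (h n).mpr)

/-- fibre dimension commutes with base change (no quasi-compactness needed). -/
theorem dim_fiber_eq_of_isPullback {X Y X' Y' : Scheme.{u}} (f : X ⟶ Y) [LocallyOfFiniteType f]
    (g : Y' ⟶ Y) (f' : X' ⟶ Y') (g' : X' ⟶ X) (hc : IsPullback g' f' f g) (y' : Y') :
    topologicalKrullDim ↑(f'.fiber y') = topologicalKrullDim ↑(f.fiber (g y')) := by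
  apply eq_of_forall_natCast_le_iff
  intro n
  rw [Groth.Agent.Lib.Helper3.DimCons.natCast_le_fibre_dim_iff,
    Groth.Agent.Lib.Helper3.DimCons.natCast_le_fibre_dim_iff]
  constructor
  · rintro ⟨x', hx', rfl⟩
    refine ⟨g' x', ?_, ?_⟩
    · show (n : WithBot ℕ∞) ≤ FlatMor.fibreDimAt f (g' x')
      rw [← fibreDimAt_eq_of_isPullback f g g' f' hc]
      exact hx'
    · rw [← Scheme.Hom.comp_apply, hc.w, Scheme.Hom.comp_apply]
  · rintro ⟨x, hx, hxy⟩
    obtain ⟨x', h1, h2⟩ := Scheme.exists_preimage_of_isPullback hc x y' hxy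
    refine ⟨x', ?_, h2⟩
    show (n : WithBot ℕ∞) ≤ FlatMor.fibreDimAt f' x'
    rw [fibreDimAt_eq_of_isPullback f g g' f' hc, h1]
    exact hx

/-- the local fibre dimension of a morphism locally of finite type is finite. -/
theorem fibreDimAt_lt_top {X S : Scheme.{u}} (f : X ⟶ S) [LocallyOfFiniteType f] (x : X) :
    FlatMor.fibreDimAt f x < ⊤ := by
  obtain ⟨T, hT, hxT⟩ : ∃ T : S.Opens, IsAffineOpen T ∧ f x ∈ T := by
    obtain ⟨_, ⟨T, hT, rfl⟩, hxT, -⟩ :=
      S.isBasis_affineOpens.exists_subset_of_mem_open (Set.mem_univ (f x)) isOpen_univ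
    exact ⟨T, hT, hxT⟩
  obtain ⟨_, ⟨W, hW, rfl⟩, hxW, hWV⟩ :=
    X.isBasis_affineOpens.exists_subset_of_mem_open (show x ∈ ((f ⁻¹ᵁ T : X.Opens) : Set X) from hxT)
      (f ⁻¹ᵁ T).isOpen
  have e : W ≤ f ⁻¹ᵁ T := fun z hz => hWV hz
  have hcomm := IsAffineOpen.SpecMap_appLE_fromSpec f hT hW e
  haveI : LocallyOfFiniteType (Spec.map (f.appLE T W e) ≫ hT.fromSpec) := by
    rw [hcomm]; infer_instance
  haveI : LocallyOfFiniteType (Spec.map (f.appLE T W e)) :=
    locallyOfFiniteType_of_comp _ hT.fromSpec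
  have hxW' : x ∈ Set.range hW.fromSpec := by rw [hW.range_fromSpec]; exact hxW
  obtain ⟨z, rfl⟩ := hxW'
  rw [← fibreDimAt_comp_of_isOpenImmersion, ← hcomm, fibreDimAt_comp_mono _ hT.fromSpec]
  exact lt_of_le_of_lt (Groth.Agent.Lib.Helper7.TopDim.localDim_le_dim _)
    (Groth.Agent.Lib.Helper3.DimCons.fibre_dim_lt_top _ _)


/-- flat of finite type over a valuation ring: the special fibre has dimension at most that of
the generic fibre. -/
theorem le_dim_generic_of_le_dim_special' (V : Type u) [CommRing V] [IsDomain V] [ValuationRing V]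
    {Y : Scheme.{u}} (g : Y ⟶ Spec (CommRingCat.of V)) [Flat g] [LocallyOfFiniteType g]
    (m : ℕ)
    (h : (m : WithBot ℕ∞) ≤ topologicalKrullDim ↥(g.fiber (IsLocalRing.closedPoint V))) :
    (m : WithBot ℕ∞) ≤ topologicalKrullDim
      ↥(g.fiber (⟨⊥, Ideal.isPrime_bot⟩ : Spec (CommRingCat.of V))) := by
  obtain ⟨y, hy, hys⟩ := (natCast_le_fibre_dim_iff g _ m).mp h
  obtain ⟨_, ⟨U, hU, rfl⟩, hyU, -⟩ := Y.isBasis_affineOpens.exists_subset_of_mem_open
    (Set.mem_univ y) isOpen_univ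
  replace hU : IsAffineOpen U := hU
  let j := hU.fromSpec
  let z := hU.primeIdealOf ⟨y, hyU⟩
  have hjz : j z = y := hU.fromSpec_primeIdealOf ⟨y, hyU⟩
  let φ : CommRingCat.of V ⟶ Γ(Y, U) := Spec.preimage (j ≫ g)
  have hφ : Spec.map φ = j ≫ g := Spec.map_preimage _
  letI : Algebra V Γ(Y, U) := φ.hom.toAlgebra
  have hφ' : Spec.map (CommRingCat.ofHom (algebraMap V Γ(Y, U))) = j ≫ g := hφ
  haveI : Flat (Spec.map φ) := by rw [hφ]; infer_instance
  haveI : LocallyOfFiniteType (Spec.map φ) := by rw [hφ]; infer_instance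
  have hflat : φ.hom.Flat := (HasRingHomProperty.Spec_iff (P := @Flat) (φ := φ)).mp inferInstance
  haveI : Module.Flat V Γ(Y, U) := hflat
  have hft : φ.hom.FiniteType :=
    (HasRingHomProperty.Spec_iff (P := @LocallyOfFiniteType) (φ := φ)).mp inferInstance
  haveI : Algebra.FiniteType V Γ(Y, U) := hft
  let hh := Spec.map (CommRingCat.ofHom (algebraMap V Γ(Y, U)))
  -- the special fibre of the affine piece
  let κ := IsLocalRing.ResidueField V
  let K := FractionRing V
  let yκ : Spec (CommRingCat.of κ) := ⟨⊥, Ideal.isPrime_bot⟩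
  let yK : Spec (CommRingCat.of K) := ⟨⊥, Ideal.isPrime_bot⟩
  have hκ : Spec.map (CommRingCat.ofHom (algebraMap V κ)) yκ = IsLocalRing.closedPoint V :=
    IsLocalRing.PrimeSpectrum.comap_residue V yκ
  have hK : Spec.map (CommRingCat.ofHom (algebraMap V K)) yK =
      (⟨⊥, Ideal.isPrime_bot⟩ : Spec (CommRingCat.of V)) := by
    apply PrimeSpectrum.ext
    show Ideal.comap (algebraMap V K) ⊥ = ⊥
    rw [← RingHom.ker_eq_comap_bot,
      (RingHom.injective_iff_ker_eq_bot _).mp (IsFractionRing.injective V K)]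
  have h1 : (m : WithBot ℕ∞) ≤ FlatMor.fibreDimAt hh z := by
    show (m : WithBot ℕ∞) ≤ FlatMor.fibreDimAt (Spec.map (CommRingCat.ofHom (algebraMap V Γ(Y, U)))) z
    rw [hφ', fibreDimAt_comp_of_isOpenImmersion, hjz]
    exact hy
  have hhz : hh z = IsLocalRing.closedPoint V := by
    show (Spec.map (CommRingCat.ofHom (algebraMap V Γ(Y, U)))) z = _
    rw [hφ']
    show g (j z) = _
    rw [hjz, hys]
  have h2 : (m : WithBot ℕ∞) ≤ ringKrullDim (κ ⊗[V] Γ(Y, U)) := by
    rw [← fibre_dim_Spec V Γ(Y, U) κ yκ, hκ, ← hhz]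
    exact h1.trans (Groth.Agent.Lib.Helper7.TopDim.localDim_le_dim _)
  have h3 : (m : WithBot ℕ∞) ≤ ringKrullDim (K ⊗[V] Γ(Y, U)) :=
    h2.trans ringKrullDim_special_le_of_flat
  rw [← fibre_dim_Spec V Γ(Y, U) K yK, hK] at h3
  obtain ⟨z', hz', hz's⟩ := (natCast_le_fibre_dim_iff hh _ m).mp h3
  refine (natCast_le_fibre_dim_iff g _ m).mpr ⟨j z', ?_, ?_⟩
  · show (m : WithBot ℕ∞) ≤ FlatMor.fibreDimAt g (j z')
    rw [← fibreDimAt_comp_of_isOpenImmersion, ← hφ']
    exact hz'
  · rw [← hz's]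
    show g (j z') = (Spec.map (CommRingCat.ofHom (algebraMap V Γ(Y, U)))) z'
    rw [hφ']
    rfl

/-- for a flat morphism of finite type, the fibre dimension does not drop under generalization
of the base point. -/
theorem le_dim_fibre_of_specializes' {X S : Scheme.{u}} (f : X ⟶ S) [Flat f] [LocallyOfFiniteType f]
    {s s' : S} (h : s' ⤳ s) (m : ℕ)
    (hm : (m : WithBot ℕ∞) ≤ topologicalKrullDim ↥(f.fiber s)) :
    (m : WithBot ℕ∞) ≤ topologicalKrullDim ↥(f.fiber s') := by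
  obtain ⟨A, t, ht1, ht2⟩ := Groth.Agent.Lib.Helper10.SubtrVal.exists_valuationRing_of_specializes h
  let fA := pullback.snd f t
  have hpb := IsPullback.of_hasPullback f t
  have hdim : ∀ y' : Spec (CommRingCat.of ↥A), topologicalKrullDim ↥(fA.fiber y') =
      topologicalKrullDim ↥(f.fiber (t y')) :=
    fun y' => dim_fiber_eq_of_isPullback f t fA (pullback.fst f t) hpb y'
  have hgen : t (⟨⊥, Ideal.isPrime_bot⟩ : Spec (CommRingCat.of ↥A)) = s' := by
    let pt : Spec (CommRingCat.of (S.residueField s')) := ⟨⊥, Ideal.isPrime_bot⟩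
    have h1 : Spec.map (CommRingCat.ofHom A.subtype) pt =
        (⟨⊥, Ideal.isPrime_bot⟩ : Spec (CommRingCat.of ↥A)) := by
      apply PrimeSpectrum.ext
      show Ideal.comap A.subtype ⊥ = ⊥
      rw [← RingHom.ker_eq_comap_bot]
      exact (RingHom.injective_iff_ker_eq_bot _).mp Subtype.val_injective
    rw [← h1]
    show (Spec.map (CommRingCat.ofHom A.subtype) ≫ t) pt = s'
    rw [ht2]
    exact Scheme.fromSpecResidueField_apply _ _
  have h1 : (m : WithBot ℕ∞) ≤ topologicalKrullDim ↥(fA.fiber (IsLocalRing.closedPoint ↥A)) := by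
    rw [hdim, ht1]; exact hm
  have h2 := le_dim_generic_of_le_dim_special' ↥A fA m h1
  rw [hdim, hgen] at h2
  exact h2


end Groth.Agent.Lib.Helper3.FlatFibDim2
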