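import Mathlib.AlgebraicGeometry.Morphisms.ClosedImmersion
import Mathlib.AlgebraicGeometry.Morphisms.Separated
import Mathlib.AlgebraicGeometry.Pullbacks
import Mathlib.CategoryTheory.Monoidal.Cartesian.Grp
import Mathlib.CategoryTheory.Monoidal.Cartesian.Over

/-!
Helper library (helper8): group objects in `Over S` for schemes.
* `shearIso`, `diag_eq`: the diagonal of a group object is the unit section whiskered, up to isomorphism.
* `isSeparated_of_isClosedImmersion_one`: a group scheme whose unit section is a closed immersion is separated.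
* `isClosedImmersion_of_comp_eq_id_of_discrete`: sections over a discrete base are closed immersions.
-/

universe u
open CategoryTheory CategoryTheory.Limits MonoidalCategory CartesianMonoidalCategory MonObj GrpObj AlgebraicGeometry

namespace Groth.Agent.Lib.Helper8


section general
variable {C : Type*} [Category C] [CartesianMonoidalCategory C]

/-- The shear isomorphism `(g, h) ↦ (g, g h)`. -/
def shearIso (G : C) [GrpObj G] : G ⊗ G ≅ G ⊗ G where
  hom := lift (fst G G) (fst G G * snd G G)
  inv := lift (fst G G) ((fst G G)⁻¹ * snd G G)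
  hom_inv_id := by
    apply CartesianMonoidalCategory.hom_ext <;> simp [MonObj.comp_mul, GrpObj.comp_inv]
  inv_hom_id := by
    apply CartesianMonoidalCategory.hom_ext <;> simp [MonObj.comp_mul]

lemma diag_eq (G : C) [GrpObj G] :
    lift (𝟙 G) (𝟙 G) = (ρ_ G).inv ≫ (G ◁ η[G]) ≫ (shearIso G).hom := by
  apply CartesianMonoidalCategory.hom_ext
  · simp [shearIso]
  · simp [shearIso, MonObj.comp_mul, MonObj.one_eq_one]

end general

variable {S : Scheme.{u}}

lemma diag_left (G : Over S) : (lift (𝟙 G) (𝟙 G)).left = pullback.diagonal G.hom := rfl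

instance whiskerLeft_closedImm (G X Y : Over S) (f : X ⟶ Y) [IsClosedImmersion f.left] :
    IsClosedImmersion (G ◁ f).left := by
  rw [Over.whiskerLeft_left]
  exact MorphismProperty.pullbackMap (P := @IsClosedImmersion.{u}) (i₁ := 𝟙 G.left) (i₂ := f.left)
    (inferInstanceAs (IsClosedImmersion (𝟙 G.left))) ‹_› (by simp) (by simp)

theorem isSeparated_of_isClosedImmersion_one (G : Over S) [GrpObj G]
    [IsClosedImmersion η[G].left] : IsSeparated G.hom := by
  constructor
  rw [← diag_left, diag_eq]
  simp only [Over.comp_left]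
  change IsClosedImmersion _
  have h1 : IsIso (ρ_ G).inv.left := inferInstanceAs (IsIso ((Over.forget S).map (ρ_ G).inv))
  have h2 : IsIso (shearIso G).hom.left :=
    inferInstanceAs (IsIso ((Over.forget S).map (shearIso G).hom))
  have h3 : IsClosedImmersion (G ◁ η[G]).left := inferInstance
  infer_instance

/-- A section of a morphism to a scheme with discrete underlying space is a closed immersion. -/
theorem isClosedImmersion_of_comp_eq_id_of_discrete {X S : Scheme.{u}} [DiscreteTopology S]
    (f : X ⟶ S) (g : S ⟶ X) (hg : g ≫ f = 𝟙 S) : IsClosedImmersion g := by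
  let V : S → S.Opens := fun s => ⟨{s}, isOpen_discrete _⟩
  let U : S → X.Opens := fun s => f ⁻¹ᵁ V s
  have hU : iSup U = ⊤ := by
    rw [eq_top_iff]
    intro x _
    exact TopologicalSpace.Opens.mem_iSup.mpr ⟨f.base x, rfl⟩
  rw [IsZariskiLocalAtTarget.iff_of_iSup_eq_top (P := @IsClosedImmersion) U hU]
  intro s
  have hpre : ∀ p : S, p ∈ g ⁻¹ᵁ U s ↔ p = s := by
    intro p
    change f.base (g.base p) ∈ ({s} : Set S) ↔ _
    rw [← Scheme.Hom.comp_apply, hg]
    simp
  have hsub : Subsingleton ↥(g ⁻¹ᵁ U s : Scheme.{u}) := by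
    constructor
    rintro ⟨a, ha⟩ ⟨b, hb⟩
    apply Subtype.ext
    exact ((hpre a).mp ha).trans ((hpre b).mp hb).symm
  have hrange : Set.range ((U s).ι ≫ f).base ⊆ Set.range (g ⁻¹ᵁ U s).ι.base := by
    rintro _ ⟨x, rfl⟩
    rw [Scheme.Opens.range_ι]
    apply (hpre _).mpr
    exact x.2
  let r : (U s : Scheme.{u}) ⟶ (g ⁻¹ᵁ U s : Scheme.{u}) :=
    IsOpenImmersion.lift (g ⁻¹ᵁ U s).ι ((U s).ι ≫ f) hrange
  refine isClosedImmersion_of_comp_eq_id r (g ∣_ U s) ?_
  rw [← cancel_mono (g ⁻¹ᵁ U s).ι, Category.assoc, IsOpenImmersion.lift_fac, morphismRestrict_ι_assoc,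
    hg, Category.id_comp, Category.comp_id]


/-- A group scheme over a base with discrete underlying space is separated. -/
theorem isSeparated_of_discrete {S : Scheme.{u}} [DiscreteTopology S] (G : Over S) [GrpObj G] :
    IsSeparated G.hom := by
  have : IsClosedImmersion η[G].left :=
    isClosedImmersion_of_comp_eq_id_of_discrete (S := S) G.hom η[G].left (Over.w η[G])
  exact isSeparated_of_isClosedImmersion_one G

end Groth.Agent.Lib.Helper8
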