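import Mathlib
import Groth.Agent.Lib.Helper3LocDimBC
import Groth.Agent.Lib.Helper3FlatFibDim
import Groth.Agent.Lib.Helper8Grp
import Groth.Agent.Lib.Helper3FlatFibDim2
import Groth.Agent.S0402
import Groth.Agent.S9355

set_option autoImplicit false
set_option linter.style.haveILetI false
universe u

open CategoryTheory CategoryTheory.Limits MonoidalCategory CartesianMonoidalCategory MonObj GrpObj
  AlgebraicGeometry TopologicalSpace Topology

namespace Groth.Agent.Lib.Helper3.GrpFibDim

open Groth.Agent.Lib.Helper3.LocDimBC Groth.Agent.Lib.Helper3.FlatFibDim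
  Groth.Agent.Lib.Helper3.FlatFibDim2 Groth.Agent.Lib.Helper3.DimCons
  Groth.Agent.Lib.Helper4.FibDim Groth.Agent.Lib.Helper7.TopDim

section general
variable {C : Type*} [Category C] [CartesianMonoidalCategory C]

/-- The second shear isomorphism `(g, h) ↦ (g h, h)`. -/
def shearIso' (G : C) [GrpObj G] : G ⊗ G ≅ G ⊗ G where
  hom := lift (fst G G * snd G G) (snd G G)
  inv := lift (fst G G * (snd G G)⁻¹) (snd G G)
  hom_inv_id := by
    apply CartesianMonoidalCategory.hom_ext <;> simp [MonObj.comp_mul, GrpObj.comp_inv]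
  inv_hom_id := by
    apply CartesianMonoidalCategory.hom_ext <;> simp [MonObj.comp_mul]

lemma fst_mul_snd (G : C) [GrpObj G] : fst G G * snd G G = μ[G] := by
  rw [CategoryTheory.Hom.mul_def]
  simp

end general

variable {S : Scheme.{u}} (G : Over S) [GrpObj G] [LocallyOfFiniteType G.hom]

/-- the local fibre dimension of a group scheme is the same at the two projections of any point
of `G ×_S G`. -/
theorem fibreDimAt_fst_eq_snd (z : ↥(G ⊗ G).left) :
    FlatMor.fibreDimAt G.hom ((fst G G).left z) = FlatMor.fibreDimAt G.hom ((snd G G).left z) := by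
  have hA : ∀ w : ↥(G ⊗ G).left, FlatMor.fibreDimAt (fst G G).left w =
      FlatMor.fibreDimAt G.hom ((snd G G).left w) := fun w =>
    fibreDimAt_eq_of_isPullback G.hom G.hom (snd G G).left (fst G G).left
      (IsPullback.of_hasPullback G.hom G.hom).flip w
  have hB : ∀ w : ↥(G ⊗ G).left, FlatMor.fibreDimAt (snd G G).left w =
      FlatMor.fibreDimAt G.hom ((fst G G).left w) := fun w =>
    fibreDimAt_eq_of_isPullback G.hom G.hom (fst G G).left (snd G G).left
      (IsPullback.of_hasPullback G.hom G.hom) w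
  -- first shear
  have h1 : (Groth.Agent.Lib.Helper8.shearIso G).hom ≫ fst G G = fst G G := by
    simp [Groth.Agent.Lib.Helper8.shearIso]
  have h2 : (Groth.Agent.Lib.Helper8.shearIso G).hom ≫ snd G G = μ[G] := by
    simp [Groth.Agent.Lib.Helper8.shearIso, fst_mul_snd]
  have h3 : (shearIso' G).hom ≫ fst G G = μ[G] := by
    simp [shearIso', fst_mul_snd]
  have h4 : (shearIso' G).hom ≫ snd G G = snd G G := by
    simp [shearIso']
  haveI : IsIso (Groth.Agent.Lib.Helper8.shearIso G).hom.left := inferInstance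
  haveI : IsIso (shearIso' G).hom.left := inferInstance
  have e1 : FlatMor.fibreDimAt μ[G].left z = FlatMor.fibreDimAt G.hom ((fst G G).left z) := by
    rw [← h2, Over.comp_left, fibreDimAt_comp_of_isOpenImmersion, hB, ← Scheme.Hom.comp_apply,
      ← Over.comp_left, h1]
  have e2 : FlatMor.fibreDimAt μ[G].left z = FlatMor.fibreDimAt G.hom ((snd G G).left z) := by
    rw [← h3, Over.comp_left, fibreDimAt_comp_of_isOpenImmersion, hA, ← Scheme.Hom.comp_apply,
      ← Over.comp_left, h4]
  rw [← e1, e2]

/-- **the local fibre dimension of a group scheme is constant along each fibre.** -/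
theorem fibreDimAt_eq_of_base_eq (x₁ x₂ : G.left) (h : G.hom x₁ = G.hom x₂) :
    FlatMor.fibreDimAt G.hom x₁ = FlatMor.fibreDimAt G.hom x₂ := by
  obtain ⟨z, hz1, hz2⟩ := Scheme.Pullback.exists_preimage_pullback x₁ x₂ h
  have := fibreDimAt_fst_eq_snd G z
  rw [← hz1, ← hz2]
  exact this

/-- the unit section of a group scheme. -/
noncomputable def unitSec : S ⟶ G.left := η[G].left

@[reassoc (attr := simp)]
lemma unitSec_hom : unitSec G ≫ G.hom = 𝟙 S := by
  have := Over.w η[G]
  simpa [unitSec] using this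

lemma hom_unitSec (s : S) : G.hom (unitSec G s) = s := by
  rw [← Scheme.Hom.comp_apply, unitSec_hom]
  rfl

/-- the dimension of the fibre of a group scheme at `s` is the local fibre dimension at the unit
section. -/
theorem dim_fibre_eq (s : S) :
    topologicalKrullDim ↥(G.hom.base ⁻¹' {s}) = FlatMor.fibreDimAt G.hom (unitSec G s) := by
  rw [← (G.hom.fiberHomeo s).isHomeomorph.topologicalKrullDim_eq,
    topologicalKrullDim_eq_iSup_localDim]
  apply le_antisymm
  · apply iSup_le
    intro z
    rw [← Groth.Agent.Lib.Helper3.DimCons.fibreDimAt_fiberι]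
    refine (fibreDimAt_eq_of_base_eq G _ _ ?_).le
    rw [hom_unitSec]
    exact (G.hom.fiberHomeo s z).2
  · have hmem : unitSec G s ∈ G.hom.base ⁻¹' {s} := hom_unitSec G s
    refine le_trans ?_ (le_iSup _ ((G.hom.fiberHomeo s).symm ⟨unitSec G s, hmem⟩))
    rw [← Groth.Agent.Lib.Helper3.DimCons.fibreDimAt_fiberι, Scheme.Hom.fiberι_fiberHomeo_symm]


section general_fibreDim

variable {X T : Scheme.{u}} (f : X ⟶ T) [LocallyOfFiniteType f]

theorem exists_nat_fibreDimAt_eq (x : X) : ∃ n : ℕ, FlatMor.fibreDimAt f x = n := by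
  have h0 : (0 : WithBot ℕ∞) ≤ FlatMor.fibreDimAt f x := localDim_nonneg _
  have hlt := fibreDimAt_lt_top f x
  generalize FlatMor.fibreDimAt f x = a at h0 hlt
  induction a using WithBot.recBotCoe with
  | bot => exact absurd h0 (by simp)
  | coe m =>
    induction m using ENat.recTopCoe with
    | top => exact absurd hlt (by simp)
    | coe k => exact ⟨k, rfl⟩

theorem upperSemicontinuous_fibreDimAt : UpperSemicontinuous (FlatMor.fibreDimAt f) := by
  intro x d hd
  obtain ⟨n, hn⟩ := exists_nat_fibreDimAt_eq f x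
  filter_upwards [(Groth.Agent.S0402.result f n).mem_nhds hn.le] with y hy
  exact lt_of_le_of_lt hy (hn ▸ hd)

theorem isConstructible_setOf_natCast_le_fibreDimAt [LocallyOfFinitePresentation f] (n : ℕ) :
    IsConstructible {x : X | (n : WithBot ℕ∞) ≤ FlatMor.fibreDimAt f x} := by
  rcases n with _ | k
  · convert IsConstructible.univ
    ext x
    simp only [Set.mem_ofPred_eq, Set.mem_univ, iff_true]
    exact localDim_nonneg _
  · have : {x : X | ((k + 1 : ℕ) : WithBot ℕ∞) ≤ FlatMor.fibreDimAt f x} =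
        {x : X | FlatMor.fibreDimAt f x ≤ k}ᶜ := by
      ext x
      simp only [Set.mem_ofPred_eq, Set.mem_compl_iff]
      exact succ_le_iff_not_le _ k
    rw [this]
    exact ((Groth.Agent.S9355.result f k).isConstructible (Groth.Agent.S0402.result f k)).compl

theorem isConstructible_setOf_fibreDimAt_le [LocallyOfFinitePresentation f] (n : ℕ) :
    IsConstructible {x : X | FlatMor.fibreDimAt f x ≤ n} :=
  (Groth.Agent.S9355.result f n).isConstructible (Groth.Agent.S0402.result f n)

theorem isConstructible_setOf_fibreDimAt_eq [LocallyOfFinitePresentation f] (d : WithBot ℕ∞) :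
    IsConstructible {x : X | FlatMor.fibreDimAt f x = d} := by
  by_cases h : ∃ n : ℕ, d = n
  · obtain ⟨n, rfl⟩ := h
    have : {x : X | FlatMor.fibreDimAt f x = (n : WithBot ℕ∞)} =
        {x : X | (n : WithBot ℕ∞) ≤ FlatMor.fibreDimAt f x} ∩
          {x : X | FlatMor.fibreDimAt f x ≤ n} := by
      ext x
      simp only [Set.mem_ofPred_eq, Set.mem_inter_iff]
      exact ⟨fun h => ⟨h.ge, h.le⟩, fun h => le_antisymm h.2 h.1⟩
    rw [this]
    exact (isConstructible_setOf_natCast_le_fibreDimAt f n).inter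
      (isConstructible_setOf_fibreDimAt_le f n)
  · convert IsConstructible.empty
    ext x
    simp only [Set.mem_ofPred_eq, Set.mem_empty_iff_false, iff_false]
    intro hx
    obtain ⟨n, hn⟩ := exists_nat_fibreDimAt_eq f x
    exact h ⟨n, hx ▸ hn⟩

end general_fibreDim

/-- (i) of SGA3 VI_B 4.1: `s ↦ dim G_s` is upper semicontinuous. -/
theorem upperSemicontinuous_dim_fibre :
    UpperSemicontinuous (fun s : S => topologicalKrullDim ↥(G.hom.base ⁻¹' {s})) := by
  have : (fun s : S => topologicalKrullDim ↥(G.hom.base ⁻¹' {s})) =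
      FlatMor.fibreDimAt G.hom ∘ (unitSec G) := funext (dim_fibre_eq G)
  rw [this]
  exact (upperSemicontinuous_fibreDimAt G.hom).comp (unitSec G).continuous

theorem isOpen_setOf_dim_fibre_le (n : ℕ) :
    IsOpen {s : S | topologicalKrullDim ↥(G.hom.base ⁻¹' {s}) ≤ n} := by
  have : {s : S | topologicalKrullDim ↥(G.hom.base ⁻¹' {s}) ≤ n} =
      (unitSec G) ⁻¹' {x | FlatMor.fibreDimAt G.hom x ≤ n} := by
    ext s
    simp only [Set.mem_ofPred_eq, Set.mem_preimage, dim_fibre_eq]
  rw [this]
  exact (Groth.Agent.S0402.result G.hom n).preimage (unitSec G).continuous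

theorem isConstructible_setOf_dim_fibre_eq [LocallyOfFinitePresentation G.hom] (d : WithBot ℕ∞) :
    IsConstructible {s : S | topologicalKrullDim ↥(G.hom.base ⁻¹' {s}) = d} := by
  have : {s : S | topologicalKrullDim ↥(G.hom.base ⁻¹' {s}) = d} =
      (unitSec G) ⁻¹' {x | FlatMor.fibreDimAt G.hom x = d} := by
    ext s
    simp only [Set.mem_ofPred_eq, Set.mem_preimage, dim_fibre_eq]
  rw [this]
  exact (unitSec G).isConstructible_preimage (isConstructible_setOf_fibreDimAt_eq G.hom d)

theorem isConstructible_setOf_natCast_le_dim_fibre [LocallyOfFinitePresentation G.hom] (n : ℕ) :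
    IsConstructible {s : S | (n : WithBot ℕ∞) ≤ topologicalKrullDim ↥(G.hom.base ⁻¹' {s})} := by
  have : {s : S | (n : WithBot ℕ∞) ≤ topologicalKrullDim ↥(G.hom.base ⁻¹' {s})} =
      (unitSec G) ⁻¹' {x | (n : WithBot ℕ∞) ≤ FlatMor.fibreDimAt G.hom x} := by
    ext s
    simp only [Set.mem_ofPred_eq, Set.mem_preimage, dim_fibre_eq]
  rw [this]
  exact (unitSec G).isConstructible_preimage (isConstructible_setOf_natCast_le_fibreDimAt G.hom n)

/-- for a flat group scheme locally of finite presentation, `{s | n ≤ dim G_s}` is open. -/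
theorem isOpen_setOf_natCast_le_dim_fibre [Flat G.hom] [LocallyOfFinitePresentation G.hom] (n : ℕ) :
    IsOpen {s : S | (n : WithBot ℕ∞) ≤ topologicalKrullDim ↥(G.hom.base ⁻¹' {s})} := by
  apply isOpen_of_isLocallyConstructible_of_stableUnderGeneralization
  · exact (isConstructible_setOf_natCast_le_dim_fibre G n).isLocallyConstructible
  · intro s s' hs' hs
    simp only [Set.mem_ofPred_eq] at hs ⊢
    rw [← (G.hom.fiberHomeo s).isHomeomorph.topologicalKrullDim_eq] at hs
    rw [← (G.hom.fiberHomeo s').isHomeomorph.topologicalKrullDim_eq]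
    exact le_dim_fibre_of_specializes' G.hom hs' n hs

/-- SGA3 VI_B 4.3: for a flat group scheme locally of finite presentation, `s ↦ dim G_s` is
locally constant. -/
theorem isLocallyConstant_dim_fibre [Flat G.hom] [LocallyOfFinitePresentation G.hom] :
    IsLocallyConstant (fun s : S => topologicalKrullDim ↥(G.hom.base ⁻¹' {s})) := by
  rw [IsLocallyConstant.iff_isOpen_fiber_apply]
  intro s
  obtain ⟨n, hn⟩ := exists_nat_fibreDimAt_eq G.hom (unitSec G s)
  rw [← dim_fibre_eq] at hn
  have : (fun s : S => topologicalKrullDim ↥(G.hom.base ⁻¹' {s})) ⁻¹'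
      {topologicalKrullDim ↥(G.hom.base ⁻¹' {s})} =
      {t : S | (n : WithBot ℕ∞) ≤ topologicalKrullDim ↥(G.hom.base ⁻¹' {t})} ∩
        {t : S | topologicalKrullDim ↥(G.hom.base ⁻¹' {t}) ≤ n} := by
    ext t
    simp only [Set.mem_preimage, Set.mem_singleton_iff, Set.mem_inter_iff, Set.mem_ofPred_eq, hn]
    exact ⟨fun h => ⟨h.ge, h.le⟩, fun h => le_antisymm h.2 h.1⟩
  rw [this]
  exact (isOpen_setOf_natCast_le_dim_fibre G n).inter (isOpen_setOf_dim_fibre_le G n)

end Groth.Agent.Lib.Helper3.GrpFibDim
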