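import Mathlib
import Groth.Agent.Lib.Helper3LocDimBC
import Groth.Agent.Lib.Helper4DimFormulaAL
import Groth.Agent.Lib.Helper4DimFormulaAD
import Groth.Agent.Lib.Helper28FlatNormal
import Groth.Agent.Lib.Helper25FlatBC
import Groth.Agent.S5341

set_option autoImplicit false
set_option linter.style.haveILetI false
universe u
open CategoryTheory CategoryTheory.Limits AlgebraicGeometry Topology IsLocalRing

namespace Groth.Agent.Lib.Helper3.CompDim

open Groth.Agent.Lib.Helper4.DimFormula Groth.Agent.Lib.Helper4.FibDim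
  Groth.Agent.Lib.Helper3.LocDimBC

/-- the local ring of the spectrum of a field is a field. -/
theorem maximalIdeal_stalk_eq_bot {K : CommRingCat.{u}} (hK : IsField K) (t : Spec K) :
    maximalIdeal ((Spec K).presheaf.stalk t) = ⊥ := by
  letI := hK.toField
  haveI : t.asIdeal.IsPrime := t.isPrime
  letI : Algebra ↑K ↑((Spec K).presheaf.stalk t) := StructureSheaf.stalkAlgebra (↑K) t
  haveI : IsLocalization.AtPrime (↑((Spec K).presheaf.stalk t)) t.asIdeal :=
    StructureSheaf.IsLocalization.to_stalk K t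
  have h1 := IsLocalization.AtPrime.map_eq_maximalIdeal t.asIdeal ((Spec K).presheaf.stalk t)
  have h2 : t.asIdeal = ⊥ := Ideal.eq_bot_of_prime _
  rw [← h1, h2, Ideal.map_bot]

theorem fibStalkDim_eq_of_isField {K : CommRingCat.{u}} (hK : IsField K) {P : Scheme.{u}}
    (c : P ⟶ Spec K) (p : P) : fibStalkDim c p = ringKrullDim (P.presheaf.stalk p) := by
  unfold fibStalkDim
  rw [maximalIdeal_stalk_eq_bot hK, Ideal.map_bot]
  exact ringKrullDim_eq_of_ringEquiv (RingEquiv.quotientBot _)

theorem subsingleton_Spec_of_isField {K : CommRingCat.{u}} (hK : IsField K) :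
    Subsingleton (Spec K) := by
  letI := hK.toField
  refine ⟨fun t t' => PrimeSpectrum.ext ?_⟩
  haveI : t.asIdeal.IsPrime := t.isPrime
  haveI : t'.asIdeal.IsPrime := t'.isPrime
  rw [Ideal.eq_bot_of_prime t.asIdeal, Ideal.eq_bot_of_prime t'.asIdeal]

/-- `dim_p P = dim O_{P,p} + trdeg κ(p)/K` for `P` locally of finite type over a field `K`. -/
theorem localDim_eq_stalk_add_ptTrdeg {K : CommRingCat.{u}} (hK : IsField K) {P : Scheme.{u}}
    (c : P ⟶ Spec K) [LocallyOfFiniteType c] (p : P) :
    FlatMor.localDim P p = ringKrullDim (P.presheaf.stalk p) + (ptTrdeg c p : WithBot ℕ∞) := by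
  haveI := subsingleton_Spec_of_isField hK
  rw [← Groth.Agent.S5341.fibreDimAt_eq_localDim_of_subsingleton c, fibreDimAt_eq_stalk_add_ptTrdeg,
    ringKrullDim_stalk_asFiber, fibStalkDim_eq_of_isField hK]

/-- the dimension formula at a point where the stalk map is flat. -/
theorem stalk_dim_formula_of_flat {X Y : Scheme.{u}} [IsLocallyNoetherian X] [IsLocallyNoetherian Y]
    (f : X ⟶ Y) (x : X) (hflat : (f.stalkMap x).hom.Flat) :
    ringKrullDim (X.presheaf.stalk x) = ringKrullDim (Y.presheaf.stalk (f x)) +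
      ringKrullDim ((f.fiber (f x)).presheaf.stalk (f.asFiber x)) := by
  rw [ringKrullDim_stalk_asFiber]
  unfold fibStalkDim
  letI : Algebra (Y.presheaf.stalk (f x)) (X.presheaf.stalk x) := (f.stalkMap x).hom.toAlgebra
  haveI : IsLocalHom (algebraMap (Y.presheaf.stalk (f x)) (X.presheaf.stalk x)) :=
    inferInstanceAs (IsLocalHom (f.stalkMap x).hom)
  haveI : Module.Flat (Y.presheaf.stalk (f x)) (X.presheaf.stalk x) := hflat
  rw [add_comm]
  exact Groth.Agent.Lib.Helper28.ringKrullDim_eq_add_of_flat _ rfl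

/-- **field case**: for `P → Q → Spec K` locally of finite type, `dim_p P ≤ dim_p P_q + dim_q Q`,
with equality when `f` is flat at `p`. -/
theorem localDim_le_add_of_field {K : CommRingCat.{u}} (hK : IsField K) {P Q : Scheme.{u}}
    (f : P ⟶ Q) (b : Q ⟶ Spec K) [LocallyOfFiniteType f] [LocallyOfFiniteType b] (p : P) :
    FlatMor.localDim P p ≤ FlatMor.fibreDimAt f p + FlatMor.localDim Q (f p) ∧
    ((f.stalkMap p).hom.Flat →
      FlatMor.localDim P p = FlatMor.fibreDimAt f p + FlatMor.localDim Q (f p)) := by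
  letI := hK.toField
  haveI : IsNoetherianRing K := inferInstance
  haveI : IsLocallyNoetherian Q := LocallyOfFiniteType.isLocallyNoetherian b
  haveI : IsLocallyNoetherian P := LocallyOfFiniteType.isLocallyNoetherian f
  have h1 := localDim_eq_stalk_add_ptTrdeg hK (f ≫ b) p
  have h2 := localDim_eq_stalk_add_ptTrdeg hK b (f p)
  have h3 := fibreDimAt_eq_stalk_add_ptTrdeg f p
  have h4 := ptTrdeg_comp f b p
  rw [h1, h2, h3, h4]
  set A := ringKrullDim (P.presheaf.stalk p)
  set B := ringKrullDim (Q.presheaf.stalk (f p))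
  set C := ringKrullDim ((f.fiber (f p)).presheaf.stalk (f.asFiber p))
  have key : (C + (ptTrdeg f p : WithBot ℕ∞)) + (B + (ptTrdeg b (f p) : WithBot ℕ∞)) =
      (B + C) + ((ptTrdeg b (f p) + ptTrdeg f p : ℕ) : WithBot ℕ∞) := by
    push_cast
    abel
  rw [key]
  refine ⟨?_, fun hflat => ?_⟩
  · exact add_le_add_left (ringKrullDim_stalk_le_add_asFiber f p) _
  · have : A = B + C := stalk_dim_formula_of_flat f p hflat
    rw [this]

/-- **EGA IV 14.2-type**: `dim_x X_s ≤ dim_x X_y + dim_y Y_s`, with equality when `O_{X,x}` is flat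
over `O_{Y,y}`. -/
theorem fibreDimAt_comp {X Y S : Scheme.{u}} (f : X ⟶ Y) (g : Y ⟶ S) [LocallyOfFiniteType f]
    [LocallyOfFiniteType g] (x : X) :
    FlatMor.fibreDimAt (f ≫ g) x ≤ FlatMor.fibreDimAt f x + FlatMor.fibreDimAt g (f x) ∧
      ((f.stalkMap x).hom.Flat →
        FlatMor.fibreDimAt (f ≫ g) x = FlatMor.fibreDimAt f x + FlatMor.fibreDimAt g (f x)) := by
  have hK : IsField (S.residueField (g (f x))) := Field.toIsField _
  let t := S.fromSpecResidueField (g (f x))
  let ιY := g.fiberι (g (f x))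
  let b := g.fiberToSpecResidueField (g (f x))
  have sq2 : IsPullback ιY b g t := IsPullback.of_hasPullback g t
  let fst := pullback.fst f ιY
  let fP := pullback.snd f ιY
  have sq1 : IsPullback fst fP f ιY := IsPullback.of_hasPullback f ιY
  have sq : IsPullback fst (fP ≫ b) (f ≫ g) t := (sq1.flip.paste_horiz sq2.flip).flip
  obtain ⟨p, hp1, hp2⟩ := Scheme.Pullback.exists_preimage_pullback (f := f) (g := ιY) x
    (g.asFiber (f x)) (by rw [g.fiberι_asFiber])
  haveI : LocallyOfFiniteType fP := MorphismProperty.pullback_snd _ _ inferInstance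
  haveI : LocallyOfFiniteType b := MorphismProperty.pullback_snd _ _ inferInstance
  haveI := subsingleton_Spec_of_isField hK
  have e1 : FlatMor.fibreDimAt (f ≫ g) x = FlatMor.localDim ↥(pullback f ιY : Scheme.{u}) p := by
    rw [← Groth.Agent.S5341.fibreDimAt_eq_localDim_of_subsingleton (fP ≫ b),
      fibreDimAt_eq_of_isPullback (f ≫ g) t fst (fP ≫ b) sq p, hp1]
  have e2 : FlatMor.fibreDimAt g (f x) = FlatMor.localDim ↥(g.fiber (g (f x))) (fP p) := by
    rw [hp2]
    rfl
  have e3 : FlatMor.fibreDimAt f x = FlatMor.fibreDimAt fP p := by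
    rw [fibreDimAt_eq_of_isPullback f ιY fst fP sq1 p, hp1]
  have hfc := localDim_le_add_of_field hK fP b p
  rw [e1, e2, e3]
  refine ⟨hfc.1, fun hflat => hfc.2 ?_⟩
  apply Groth.Agent.Lib.Helper25.FlatBC.flat_stalkMap_snd_of_flat f ιY p
  have : ∀ x' : X, x' = x → (f.stalkMap x').hom.Flat := by
    intro x' h
    subst h
    exact hflat
  exact this _ hp1

end Groth.Agent.Lib.Helper3.CompDim
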