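import Groth.Agent.Lib.Helper4VarDim2
import Groth.Agent.Lib.Helper14LocalDim

/-!
# Local dimension on schemes locally of finite type over a field

* `localDim_eq_of_isOpenEmbedding`: local dimension is invariant under open embeddings.
* `localDim_eq_add`: `localDim X x = trdeg κ(x) + dim 𝒪_{X,x}`.
-/

set_option autoImplicit false
set_option linter.style.haveILetI false
universe u

open AlgebraicGeometry CategoryTheory TopologicalSpace Topology

namespace Groth.Agent.Lib.Helper4.VarDim

theorem localDim_eq_of_isOpenEmbedding {α β : Type*} [TopologicalSpace α] [TopologicalSpace β]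
    {f : α → β} (hf : IsOpenEmbedding f) (x : α) :
    FlatMor.localDim α x = FlatMor.localDim β (f x) := by
  apply le_antisymm
  · rw [Groth.Agent.Lib.Helper7.TopDim.le_localDim_iff]
    intro W' hW'
    let W : Opens α := ⟨f ⁻¹' (W' : Set β), W'.isOpen.preimage hf.continuous⟩
    have hxW : x ∈ W := hW'
    refine (Groth.Agent.Lib.Helper7.TopDim.localDim_le x W hxW).trans ?_
    let g : ↥W → ↥W' := fun w => ⟨f w.1, w.2⟩
    have hg : IsInducing g := by
      apply IsInducing.of_comp (g := (Subtype.val : ↥W' → β))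
      · exact Continuous.subtype_mk (hf.continuous.comp continuous_subtype_val) _
      · exact continuous_subtype_val
      · exact hf.isInducing.comp IsInducing.subtypeVal
    exact hg.topologicalKrullDim_le
  · rw [Groth.Agent.Lib.Helper7.TopDim.le_localDim_iff]
    intro W hW
    let g : ↥W → β := fun w => f w.1
    have hg : IsOpenEmbedding g := hf.comp W.isOpen.isOpenEmbedding_subtypeVal
    let W' : Opens β := ⟨Set.range g, hg.isOpen_range⟩
    have hxW' : f x ∈ W' := ⟨⟨x, hW⟩, rfl⟩
    refine (Groth.Agent.Lib.Helper7.TopDim.localDim_le (f x) W' hxW').trans ?_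
    exact (IsHomeomorph.topologicalKrullDim_eq _
      hg.isEmbedding.toHomeomorph.isHomeomorph).ge

variable (k : Type u) [Field k] (X : Scheme.{u}) [X.Over (Spec (CommRingCat.of k))]

attribute [local instance] sectionsAlgebra Curv2.resAlgebra

theorem localDim_eq_add [LocallyOfFiniteType (X ↘ Spec (CommRingCat.of k))] (x : X) (a b : ℕ)
    (ha : Algebra.trdeg k (X.residueField x) = a) (hb : ringKrullDim (X.presheaf.stalk x) = b) :
    FlatMor.localDim X x = (a + b : ℕ) := by
  obtain ⟨U, hU, hxU, -⟩ := exists_isAffineOpen_mem_and_subset (U := ⊤) (x := x) trivial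
  haveI := finiteType_sections k X hU
  set p := hU.primeIdealOf ⟨x, hxU⟩ with hp
  have h1 : FlatMor.localDim X x = FlatMor.localDim (PrimeSpectrum Γ(X, U)) p := by
    have := localDim_eq_of_isOpenEmbedding hU.fromSpec.isOpenEmbedding p
    rw [hU.fromSpec_primeIdealOf ⟨x, hxU⟩] at this
    exact this.symm
  obtain ⟨n, e, hn, he, -, he'⟩ := Groth.Agent.Lib.Helper14.LocalDim.exists_dims (k := k) p.asIdeal
  have h2 := Groth.Agent.Lib.Helper14.LocalDim.localDim_eq (k := k) p.asIdeal n e hn he he'
  obtain ⟨a', ha', ha''⟩ := exists_trdeg_eq_dim k X hU x hxU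
  have e1 : a' = a := by
    have : (a' : Cardinal.{u}) = a := ha'.symm.trans ha
    exact_mod_cast this
  have e2 : a' = e := by
    have : (a' : WithBot ℕ∞) = e := ha''.symm.trans he
    exact_mod_cast this
  letI := TopCat.Presheaf.algebra_section_stalk X.presheaf ⟨x, hxU⟩
  haveI := hU.isLocalization_stalk ⟨x, hxU⟩
  have h3 : ringKrullDim (X.presheaf.stalk x) = p.asIdeal.height :=
    IsLocalization.AtPrime.ringKrullDim_eq_height p.asIdeal (X.presheaf.stalk x)
  have e3 : b = n := by
    rw [hb, hn] at h3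
    exact_mod_cast h3
  rw [h1, h2]
  congr 1
  omega

theorem exists_ringKrullDim_stalk_eq [LocallyOfFiniteType (X ↘ Spec (CommRingCat.of k))] (x : X) :
    ∃ b : ℕ, ringKrullDim (X.presheaf.stalk x) = b := by
  obtain ⟨U, hU, hxU, -⟩ := exists_isAffineOpen_mem_and_subset (U := ⊤) (x := x) trivial
  haveI := finiteType_sections k X hU
  haveI : IsNoetherianRing Γ(X, U) := Algebra.FiniteType.isNoetherianRing k Γ(X, U)
  letI := TopCat.Presheaf.algebra_section_stalk X.presheaf ⟨x, hxU⟩
  haveI := hU.isLocalization_stalk ⟨x, hxU⟩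
  have h3 : ringKrullDim (X.presheaf.stalk x) = (hU.primeIdealOf ⟨x, hxU⟩).asIdeal.height :=
    IsLocalization.AtPrime.ringKrullDim_eq_height _ (X.presheaf.stalk x)
  obtain ⟨n, hn⟩ := ENat.ne_top_iff_exists.mp
    (Ideal.height_ne_top_of_isPrime (I := (hU.primeIdealOf ⟨x, hxU⟩).asIdeal))
  exact ⟨n, by rw [h3, ← hn]; rfl⟩

theorem localDim_eq_of_trdeg_eq_zero [LocallyOfFiniteType (X ↘ Spec (CommRingCat.of k))] (x : X)
    (h0 : Algebra.trdeg k (X.residueField x) = 0) :
    FlatMor.localDim X x = ringKrullDim (X.presheaf.stalk x) := by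
  obtain ⟨b, hb⟩ := exists_ringKrullDim_stalk_eq k X x
  rw [localDim_eq_add k X x 0 b (by rw [h0, Nat.cast_zero]) hb, hb, zero_add]

end Groth.Agent.Lib.Helper4.VarDim
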