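import Groth.Agent.Lib.Helper4FibDimD
import Groth.Agent.Lib.Helper4VarDim5

/-!
# Fibre dimension (part E): topological fibre local dimension and Chevalley semicontinuity

* `fibLD φ x`: local dimension at `x` of the set-theoretic fibre `φ ⁻¹' {φ x}`.
* `fibLD_comp_isOpenEmbedding`, `fibLD_comp_injective`: locality on source, insensitivity to injective
  maps on the target.
* `fibreDimAt_eq_fibLD`: `FlatMor.fibreDimAt f x = fibLD f x`.
* `fibLD_comap_eq`: for `Spec S → Spec R`, `fibLD` is the local dimension of `Spec (κ(p) ⊗ S)`.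
* `isOpen_setOf_fibLD_comap_le`: ring-level Chevalley upper semicontinuity.
* `isOpen_setOf_fibreDimAt_le`: scheme-level Chevalley upper semicontinuity.
-/

set_option autoImplicit false
set_option linter.style.haveILetI false
universe u

open TensorProduct PrimeSpectrum TopologicalSpace Topology AlgebraicGeometry CategoryTheory

namespace Groth.Agent.Lib.Helper4.FibDim

open Groth.Agent.Lib.Helper4.VarDim (localDim_eq_of_isOpenEmbedding)

section top

variable {X Y Z U : Type*} [TopologicalSpace X] [TopologicalSpace U]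

/-- Local dimension at `x` of the set-theoretic fibre of `φ` through `x`. -/
noncomputable def fibLD (φ : X → Y) (x : X) : WithBot ℕ∞ :=
  FlatMor.localDim (φ ⁻¹' {φ x}) ⟨x, rfl⟩

lemma localDim_congr_set {s t : Set X} (h : s = t) (x : X) (hx : x ∈ s) :
    FlatMor.localDim s ⟨x, hx⟩ = FlatMor.localDim t ⟨x, h ▸ hx⟩ := by
  subst h; rfl

lemma localDim_eq_of_homeomorph {A B : Type*} [TopologicalSpace A] [TopologicalSpace B]
    (e : A ≃ₜ B) (a : A) : FlatMor.localDim A a = FlatMor.localDim B (e a) :=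
  localDim_eq_of_isOpenEmbedding e.isOpenEmbedding a

theorem fibLD_comp_injective (φ : X → Y) (i : Y → Z) (hi : Function.Injective i) (x : X) :
    fibLD (i ∘ φ) x = fibLD φ x := by
  unfold fibLD
  have h : (i ∘ φ) ⁻¹' {(i ∘ φ) x} = φ ⁻¹' {φ x} := by
    ext z
    simp only [Set.mem_preimage, Function.comp_apply, Set.mem_singleton_iff]
    exact ⟨fun h => hi h, fun h => by rw [h]⟩
  exact localDim_congr_set h x rfl

theorem fibLD_comp_isOpenEmbedding (φ : X → Y) (j : U → X) (hj : IsOpenEmbedding j) (u : U) :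
    fibLD (φ ∘ j) u = fibLD φ (j u) := by
  unfold fibLD
  have h : (φ ∘ j) ⁻¹' {(φ ∘ j) u} = j ⁻¹' (φ ⁻¹' {φ (j u)}) := rfl
  rw [localDim_congr_set h u rfl]
  exact localDim_eq_of_isOpenEmbedding
    ((φ ⁻¹' {φ (j u)}).restrictPreimage_isOpenEmbedding hj) ⟨u, rfl⟩

end top

section scheme

theorem fibreDimAt_eq_fibLD {X S : Scheme.{u}} (f : X ⟶ S) (x : X) :
    FlatMor.fibreDimAt f x = fibLD f x := by
  unfold FlatMor.fibreDimAt fibLD Scheme.Hom.asFiber
  rw [localDim_eq_of_homeomorph (f.fiberHomeo (f x)), Homeomorph.apply_symm_apply]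

end scheme

section ring

variable (R S : Type u) [CommRing R] [CommRing S] [Algebra R S]

theorem fibLD_comap_eq (q : PrimeSpectrum S) :
    fibLD (PrimeSpectrum.comap (algebraMap R S)) q =
      FlatMor.localDim (PrimeSpectrum ((PrimeSpectrum.comap (algebraMap R S) q).asIdeal.Fiber S))
        (PrimeSpectrum.preimageHomeomorphFiber R S (PrimeSpectrum.comap (algebraMap R S) q)
          ⟨q, rfl⟩) := by
  unfold fibLD
  exact localDim_eq_of_homeomorph
    (PrimeSpectrum.preimageHomeomorphFiber R S (PrimeSpectrum.comap (algebraMap R S) q)) ⟨q, rfl⟩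

theorem isOpen_setOf_fibLD_comap_le [Algebra.FiniteType R S] (n : ℕ) :
    IsOpen {q : PrimeSpectrum S |
      fibLD (PrimeSpectrum.comap (algebraMap R S)) q ≤ (n : WithBot ℕ∞)} := by
  rw [isOpen_iff_forall_mem_open]
  intro q hq
  simp only [Set.mem_ofPred_eq] at hq
  rw [fibLD_comap_eq] at hq
  set p := PrimeSpectrum.comap (algebraMap R S) q with hp
  set Q := PrimeSpectrum.preimageHomeomorphFiber R S p ⟨q, rfl⟩ with hQ
  obtain ⟨g, hg, φ, -, hφ⟩ := exists_quasiFinite_away p.asIdeal Q n hq
  have hQq : PrimeSpectrum.comap Algebra.TensorProduct.includeRight.toRingHom Q = q :=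
    comap_includeRight_preimageHomeomorphFiber p.asIdeal ⟨q, rfl⟩
  refine ⟨PrimeSpectrum.basicOpen g, ?_, (PrimeSpectrum.basicOpen g).isOpen, ?_⟩
  · intro q' hq'
    simp only [Set.mem_ofPred_eq]
    rw [fibLD_comap_eq]
    apply localDim_fiber_le_of_quasiFinite_away n g φ hφ
    have h1 := comap_includeRight_preimageHomeomorphFiber
      (PrimeSpectrum.comap (algebraMap R S) q').asIdeal ⟨q', rfl⟩
    intro h2
    apply hq'
    have h3 : g ∈ (PrimeSpectrum.comap Algebra.TensorProduct.includeRight.toRingHom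
      ((PrimeSpectrum.preimageHomeomorphFiber R S
        ⟨(PrimeSpectrum.comap (algebraMap R S) q').asIdeal, inferInstance⟩) ⟨q', rfl⟩)).asIdeal := h2
    rw [h1] at h3
    exact h3
  · show g ∉ q.asIdeal
    rw [← hQq]
    exact hg

end ring

end Groth.Agent.Lib.Helper4.FibDim
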