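import Groth.Agent.S9169
import Groth.Agent.Lib.Helper4FibDimF

set_option autoImplicit false
set_option linter.style.haveILetI false
universe u

open TensorProduct PrimeSpectrum TopologicalSpace Topology AlgebraicGeometry CategoryTheory
open Groth.Agent.Lib.Helper4.FibDim

namespace Groth.Agent.Lib.Helper7.Synt

/-- Locally on `Spec A`, the local fibre dimension of a syntomic `R`-algebra is constant. -/
theorem exists_fibLD_eq_of_isSyntomic (R A : Type u) [CommRing R] [CommRing A] [Algebra R A]
    (hA : Synt.IsSyntomic R A) (q : PrimeSpectrum A) :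
    ∃ g : A, g ∉ q.asIdeal ∧ ∃ N : ℕ, ∀ q₁ : PrimeSpectrum A, g ∉ q₁.asIdeal →
      fibLD (PrimeSpectrum.comap (algebraMap R A)) q₁ = (N : WithBot ℕ∞) := by
  set p := PrimeSpectrum.comap (algebraMap R A) q with hp
  haveI : p.asIdeal.IsPrime := p.2
  haveI : q.asIdeal.IsPrime := q.2
  haveI : q.asIdeal.LiesOver p.asIdeal := ⟨rfl⟩
  let Q := PrimeSpectrum.preimageHomeomorphFiber R A p ⟨q, rfl⟩
  have hQ : PrimeSpectrum.comap Algebra.TensorProduct.includeRight.toRingHom Q = q :=
    comap_includeRight_preimageHomeomorphFiber p.asIdeal ⟨q, rfl⟩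
  have hQ' : Q.asIdeal.comap (Algebra.TensorProduct.includeRight.toRingHom) = q.asIdeal :=
    congrArg PrimeSpectrum.asIdeal hQ
  have key := (Groth.Agent.S9169.result R A p.asIdeal q.asIdeal Q.asIdeal hQ').1
  have h1 : ∃ g : A, g ∉ q.asIdeal ∧ Synt.IsSyntomic R (Localization.Away g) := by
    refine ⟨1, fun h => q.2.ne_top ((Ideal.eq_top_iff_one _).mpr h), ?_⟩
    haveI : IsLocalization.Away (1 : A) A := IsLocalization.away_of_isUnit_of_bijective A isUnit_one
      Function.bijective_id
    exact isSyntomic_of_algEquiv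
      ((IsLocalization.algEquiv (Submonoid.powers (1 : A)) A
        (Localization.Away (1 : A))).restrictScalars R) hA
  obtain ⟨g, hg, n, c, F, hGCI, ⟨e⟩⟩ := key.mp h1
  refine ⟨g, hg, n - c, fun q₁ hq₁ => ?_⟩
  let ψ : A →+* Synt.RelGCIRing R n c F :=
    e.toRingEquiv.toRingHom.comp (algebraMap _ (Localization.Away g))
  have hψ : ψ.comp (algebraMap R A) = algebraMap R (Synt.RelGCIRing R n c F) := by
    ext r
    show e (algebraMap _ (Localization.Away g) (algebraMap R _ r)) = _
    rw [← IsScalarTower.algebraMap_apply, e.commutes]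
  have h1 : Topology.IsOpenEmbedding (PrimeSpectrum.comap e.toRingEquiv.toRingHom) :=
    (PrimeSpectrum.homeomorphOfRingEquiv e.toRingEquiv.symm).isOpenEmbedding
  have h2 := PrimeSpectrum.localization_away_isOpenEmbedding (Localization.Away g) g
  have hemb : Topology.IsOpenEmbedding (PrimeSpectrum.comap ψ) := h2.comp h1
  have hcomp : (PrimeSpectrum.comap (algebraMap R (Synt.RelGCIRing R n c F))) =
      PrimeSpectrum.comap (algebraMap R A) ∘ PrimeSpectrum.comap ψ := by
    rw [← hψ]
    rfl
  -- `q₁` is in the range of `comap ψ`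
  have hrange : q₁ ∈ Set.range (PrimeSpectrum.comap ψ) := by
    have : Set.range (PrimeSpectrum.comap ψ) = PrimeSpectrum.basicOpen g := by
      show Set.range (PrimeSpectrum.comap (algebraMap A (Localization.Away g)) ∘
        PrimeSpectrum.comap e.toRingEquiv.toRingHom) = _
      have hsurj : Set.range (PrimeSpectrum.comap e.toRingEquiv.toRingHom) = Set.univ :=
        (PrimeSpectrum.homeomorphOfRingEquiv e.toRingEquiv.symm).surjective.range_eq
      rw [Set.range_comp, hsurj,
        Set.image_univ, PrimeSpectrum.localization_away_comap_range (Localization.Away g) g]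
    rw [this]
    exact hq₁
  obtain ⟨q', rfl⟩ := hrange
  rw [← fibLD_comp_isOpenEmbedding _ _ hemb, ← hcomp]
  exact fibLD_comap_relGCIRing R n c F hGCI q'

end Groth.Agent.Lib.Helper7.Synt
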