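import Groth.Prelude
import Mathlib

set_option autoImplicit false
universe u v

namespace Groth.Agent.Lib.Helper11KoszulReg

open RingTheory.Sequence Pointwise

variable {A : Type u} [CommRing A]

/-- the submodule of trivial relations -/
def triv {n : ℕ} (f : Fin n → A) (M : Type v) [AddCommGroup M] [Module A M] :
    Submodule A (Fin n → M) :=
  Submodule.span A {v : Fin n → M | ∃ (i j : Fin n) (x : M),
    v = f j • (Pi.single i x : Fin n → M) - f i • (Pi.single j x : Fin n → M)}

lemma koszulH1Zero_iff {n : ℕ} (f : Fin n → A) (M : Type v) [AddCommGroup M] [Module A M] :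
    CInt.KoszulH1Zero f M ↔ ∀ m : Fin n → M, ∑ i, f i • m i = 0 → m ∈ triv f M := Iff.rfl

lemma triv_gen_mem {n : ℕ} (f : Fin n → A) (M : Type v) [AddCommGroup M] [Module A M]
    (i j : Fin n) (x : M) :
    f j • (Pi.single i x : Fin n → M) - f i • (Pi.single j x : Fin n → M) ∈ triv f M :=
  Submodule.subset_span ⟨i, j, x, rfl⟩

/-- every element of `triv` is a relation -/
lemma triv_rel {n : ℕ} (f : Fin n → A) (M : Type v) [AddCommGroup M] [Module A M]
    (t : Fin n → M) (ht : t ∈ triv f M) : ∑ i, f i • t i = 0 := by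
  induction ht using Submodule.span_induction with
  | mem v hv =>
    obtain ⟨i, j, x, rfl⟩ := hv
    simp only [Pi.sub_apply, Pi.smul_apply, smul_sub, Finset.sum_sub_distrib]
    have h1 : ∑ k, f k • f j • (Pi.single i x : Fin n → M) k = f i • f j • x := by
      rw [Finset.sum_eq_single i]
      · simp
      · intro b _ hb
        simp [Pi.single_apply, hb]
      · intro h; exact absurd (Finset.mem_univ i) h
    have h2 : ∑ k, f k • f i • (Pi.single j x : Fin n → M) k = f j • f i • x := by
      rw [Finset.sum_eq_single j]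
      · simp
      · intro b _ hb
        simp [Pi.single_apply, hb]
      · intro h; exact absurd (Finset.mem_univ j) h
    rw [h1, h2, smul_comm, sub_self]
  | zero => simp
  | add a b _ _ ha hb =>
    simp only [Pi.add_apply, smul_add, Finset.sum_add_distrib, ha, hb, add_zero]
  | smul c a _ ha =>
    simp only [Pi.smul_apply]
    have : ∀ i, f i • c • a i = c • (f i • a i) := fun i => smul_comm _ _ _
    simp only [this, ← Finset.smul_sum, ha, smul_zero]

/-- lifting trivial relations from `M/f₀M` -/
lemma triv_lift {n : ℕ} (f : Fin (n + 1) → A) (M : Type v) [AddCommGroup M] [Module A M]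
    (P : Submodule A M) (vbar : Fin n → M ⧸ P) (hv : vbar ∈ triv (fun i => f i.succ) (M ⧸ P)) :
    ∃ t ∈ triv f M, ∀ i : Fin n, P.mkQ (t i.succ) = vbar i := by
  induction hv using Submodule.span_induction with
  | mem v hv =>
    obtain ⟨i, j, xbar, rfl⟩ := hv
    obtain ⟨x, rfl⟩ := P.mkQ_surjective xbar
    refine ⟨_, triv_gen_mem f M i.succ j.succ x, ?_⟩
    intro k
    simp only [Pi.sub_apply, Pi.smul_apply, map_sub, map_smul, Pi.single_apply, Fin.succ_inj]
    split_ifs <;> simp
  | zero => exact ⟨0, Submodule.zero_mem _, fun i => by simp⟩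
  | add a b _ _ ha hb =>
    obtain ⟨ta, hta, ha'⟩ := ha
    obtain ⟨tb, htb, hb'⟩ := hb
    exact ⟨ta + tb, Submodule.add_mem _ hta htb, fun i => by
      rw [Pi.add_apply, map_add, ha' i, hb' i, Pi.add_apply]⟩
  | smul c a _ ha =>
    obtain ⟨ta, hta, ha'⟩ := ha
    exact ⟨c • ta, Submodule.smul_mem _ c hta, fun i => by
      rw [Pi.smul_apply, map_smul, ha' i, Pi.smul_apply]⟩

theorem koszulH1Zero_of_isWeaklyRegular : ∀ (n : ℕ) (f : Fin n → A) (M : Type v) [AddCommGroup M]
    [Module A M], IsWeaklyRegular M (List.ofFn f) → CInt.KoszulH1Zero f M := by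
  intro n
  induction n with
  | zero =>
    intro f M _ _ _ m _
    have : m = 0 := Subsingleton.elim _ _
    rw [this]
    exact Submodule.zero_mem _
  | succ n ih =>
    intro f M _ _ hreg
    rw [List.ofFn_succ, isWeaklyRegular_cons_iff] at hreg
    obtain ⟨h0, hrest⟩ := hreg
    have hIH := ih (fun i => f i.succ) (QuotSMulTop (f 0) M) hrest
    rw [koszulH1Zero_iff] at hIH ⊢
    intro m hm
    set P : Submodule A M := f 0 • (⊤ : Submodule A M) with hP
    -- reduce mod f 0
    have hmbar : ∑ i : Fin n, f i.succ • (P.mkQ (m i.succ)) = 0 := by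
      rw [Fin.sum_univ_succ] at hm
      have h1 : ∑ i : Fin n, f i.succ • m i.succ = - (f 0 • m 0) := by
        rw [eq_neg_iff_add_eq_zero, add_comm]; exact hm
      simp only [← map_smul, ← map_sum, h1, map_neg, neg_eq_zero]
      rw [Submodule.mkQ_apply, Submodule.Quotient.mk_eq_zero, hP]
      exact Submodule.smul_mem_pointwise_smul _ _ _ Submodule.mem_top
    have hmem := hIH (fun i => P.mkQ (m i.succ)) hmbar
    obtain ⟨t, ht, htm⟩ := triv_lift f M P _ hmem
    -- w = m - t vanishes mod f 0 in positive coordinates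
    have hw : ∀ i : Fin n, ∃ y : M, (m - t) i.succ = f 0 • y := by
      intro i
      have h2 : P.mkQ ((m - t) i.succ) = 0 := by
        rw [Pi.sub_apply, map_sub, htm i, sub_self]
      rw [Submodule.mkQ_apply, Submodule.Quotient.mk_eq_zero, hP] at h2
      obtain ⟨y, -, hy⟩ := (Submodule.mem_smul_pointwise_iff_exists _ _ _).mp h2
      exact ⟨y, hy.symm⟩
    choose y hy using hw
    set t' : Fin (n + 1) → M := ∑ i : Fin n,
      (f 0 • (Pi.single i.succ (y i) : Fin (n + 1) → M) - f i.succ • (Pi.single 0 (y i) : Fin (n + 1) → M))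
      with ht'
    have ht'mem : t' ∈ triv f M :=
      Submodule.sum_mem _ fun i _ => triv_gen_mem f M i.succ 0 (y i)
    have ht'succ : ∀ k : Fin n, t' k.succ = f 0 • y k := by
      intro k
      rw [ht', Finset.sum_apply, Finset.sum_eq_single k]
      · simp [Pi.single_apply, Fin.succ_ne_zero]
      · intro b _ hb
        have : k.succ ≠ b.succ := fun h => hb (Fin.succ_inj.mp h).symm
        simp [Pi.single_apply, this, Fin.succ_ne_zero]
      · intro h; exact absurd (Finset.mem_univ k) h
    -- w' = m - t - t'
    have hrel : ∑ i, f i • (m - t - t') i = 0 := by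
      have h1 := triv_rel f M t ht
      have h2 := triv_rel f M t' ht'mem
      simp only [Pi.sub_apply, smul_sub, Finset.sum_sub_distrib, hm, h1, h2, sub_zero]
    have hzero_succ : ∀ k : Fin n, (m - t - t') k.succ = 0 := by
      intro k
      rw [Pi.sub_apply, hy k, ht'succ k, sub_self]
    have hzero0 : (m - t - t') 0 = 0 := by
      rw [Fin.sum_univ_succ] at hrel
      simp only [hzero_succ, smul_zero, Finset.sum_const_zero, add_zero] at hrel
      apply h0
      show f 0 • (m - t - t') 0 = f 0 • 0
      rw [hrel, smul_zero]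
    have hz : m - t - t' = 0 := by
      funext i
      refine Fin.cases ?_ (fun k => ?_) i
      · exact hzero0
      · exact hzero_succ k
    have : m = t + t' := by
      rw [sub_sub, sub_eq_zero] at hz
      exact hz
    rw [this]
    exact Submodule.add_mem _ ht ht'mem

/-- trivial relations map to trivial relations -/
lemma triv_map {n : ℕ} (f : Fin n → A) {M : Type v} [AddCommGroup M] [Module A M]
    {M'' : Type v} [AddCommGroup M''] [Module A M''] (p : M →ₗ[A] M'')
    (t : Fin n → M) (ht : t ∈ triv f M) : (fun i => p (t i)) ∈ triv f M'' := by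
  induction ht using Submodule.span_induction with
  | mem v hv =>
    obtain ⟨i, j, x, rfl⟩ := hv
    have : (fun k => p ((f j • (Pi.single i x : Fin n → M) - f i • (Pi.single j x : Fin n → M)) k)) =
        f j • (Pi.single i (p x) : Fin n → M'') - f i • (Pi.single j (p x) : Fin n → M'') := by
      funext k
      simp only [Pi.sub_apply, Pi.smul_apply, map_sub, map_smul, Pi.single_apply]
      split_ifs <;> simp
    rw [this]
    exact triv_gen_mem f M'' i j (p x)
  | zero =>
    have : (fun i => p ((0 : Fin n → M) i)) = 0 := by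
      funext i; simp
    rw [this]; exact Submodule.zero_mem _
  | add a b _ _ ha hb =>
    have : (fun i => p ((a + b) i)) = (fun i => p (a i)) + (fun i => p (b i)) := by
      funext i; simp
    rw [this]; exact Submodule.add_mem _ ha hb
  | smul c a _ ha =>
    have : (fun i => p ((c • a) i)) = c • (fun i => p (a i)) := by
      funext i; simp
    rw [this]; exact Submodule.smul_mem _ c ha

/-- elements of `(f) • ⊤` are combinations -/
lemma exists_sum_of_mem_smul_top {n : ℕ} (f : Fin n → A) {M : Type v} [AddCommGroup M] [Module A M]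
    (x : M) (hx : x ∈ Ideal.span (Set.range f) • (⊤ : Submodule A M)) :
    ∃ c : Fin n → M, x = ∑ i, f i • c i := by
  refine Submodule.smul_induction_on hx ?_ ?_
  · intro r hr m _
    obtain ⟨a, rfl⟩ := (Ideal.mem_span_range_iff_exists_fun (R := A)).mp hr
    refine ⟨fun i => a i • m, ?_⟩
    rw [Finset.sum_smul]
    refine Finset.sum_congr rfl fun i _ => ?_
    rw [mul_smul, smul_comm]
  · intro a b ha hb
    obtain ⟨ca, rfl⟩ := ha
    obtain ⟨cb, rfl⟩ := hb
    exact ⟨ca + cb, by simp [smul_add, Finset.sum_add_distrib]⟩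

end Groth.Agent.Lib.Helper11KoszulReg
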