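import Groth.Agent.Lib.Helper28PolyCM

/-!
# Unmixedness in Cohen–Macaulay rings, heights in polynomial rings (helper28)

* `height_add_ringKrullDim_quotient_le`: `ht I + dim R/I ≤ dim R`;
* `isWeaklyRegular_of_length_le_height`: in a CM local ring, `ys ⊆ m` with `ht (ys) ≥ length ys` is a
  regular sequence with CM quotient of dimension `dim R - length ys`;
* `height_eq_length_of_mem_associatedPrimes_quot_ofList`: the unmixedness theorem in a CM ring;
* `natCast_le_height_of_forall_X_mem`: an ideal of `k[x_0..x_{m-1}]` containing all variables has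
  height `≥ m`;
* `isCohenMacaulayRing_of_field`.
-/
set_option autoImplicit false
universe u v w u' v'

namespace Groth.Agent.Lib.Helper28
open RingTheory.Sequence CategoryTheory Abelian TensorProduct
open scoped Pointwise

section HeightQuot

/-- `ht I + dim R/I ≤ dim R`. -/
theorem height_add_ringKrullDim_quotient_le {R : Type u} [CommRing R] (I : Ideal R) (hI : I ≠ ⊤) :
    ((I.height : ℕ∞) : WithBot ℕ∞) + ringKrullDim (R ⧸ I) ≤ ringKrullDim R := by
  rw [ringKrullDim_quotient]
  obtain ⟨m, hm, hIm⟩ := Ideal.exists_le_maximal I hI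
  have hne : Nonempty (PrimeSpectrum.zeroLocus (R := R) I) :=
    ⟨⟨⟨m, hm.isPrime⟩, (PrimeSpectrum.mem_zeroLocus _ _).mpr hIm⟩⟩
  have hne' : Nonempty (PrimeSpectrum R) := ⟨⟨m, hm.isPrime⟩⟩
  rw [Order.krullDim_eq_iSup_length, ← WithBot.coe_add, ENat.add_iSup, ringKrullDim,
    Order.krullDim_eq_iSup_height_add_coheight_of_nonempty, WithBot.coe_le_coe]
  refine iSup_le fun l => ?_
  let l' : LTSeries (PrimeSpectrum R) := l.map Subtype.val (fun a b hab => hab)
  have h1 : I.height ≤ Order.height l'.head := by
    rw [← PrimeSpectrum.height_eq_orderHeight]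
    have : I ≤ l'.head.asIdeal := by
      have := l.head.2
      rw [PrimeSpectrum.mem_zeroLocus] at this
      exact this
    have hp : l'.head.asIdeal.IsPrime := l'.head.2
    exact Ideal.height_mono this
  have h2 : (l.length : ℕ∞) ≤ Order.coheight l'.head := by
    have := Order.length_le_coheight_head (p := l')
    simpa [l'] using this
  exact le_trans (add_le_add h1 h2) (le_iSup (fun a => Order.height a + Order.coheight a) l'.head)

end HeightQuot

section LocalCI

variable {R : Type u} [CommRing R] [hR : LocCoh.IsCohenMacaulayLocalRing R]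

/-- In a Cohen–Macaulay local ring, elements `ys` of the maximal ideal generating an ideal of height
`≥ length ys` form a regular sequence, and the quotient is Cohen–Macaulay. -/
theorem isWeaklyRegular_of_length_le_height (ys : List R)
    (hmem : ∀ y ∈ ys, y ∈ IsLocalRing.maximalIdeal R)
    (hht : (ys.length : ℕ∞) ≤ (Ideal.ofList ys).height) :
    IsWeaklyRegular R ys ∧
      LocCoh.IsCohenMacaulayModule R (R ⧸ (Ideal.ofList ys • ⊤ : Submodule R R)) ∧
      Module.supportDim R (R ⧸ (Ideal.ofList ys • ⊤ : Submodule R R)) + ys.length =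
        ringKrullDim R := by
  have hCM : LocCoh.IsCohenMacaulayModule R R := hR.supportDim_eq_depth
  have hne : Ideal.ofList ys ≠ ⊤ := by
    intro h
    have hle : Ideal.ofList ys ≤ IsLocalRing.maximalIdeal R := ofList_le_of_forall_mem hmem
    rw [h] at hle
    exact (IsLocalRing.maximalIdeal.isMaximal R).ne_top (top_le_iff.mp hle)
  have h1 := supportDim_le_supportDim_quot_ofList_add_length_local ys R hmem
  rw [Module.supportDim_self_eq_ringKrullDim] at h1
  have e : (R ⧸ (Ideal.ofList ys • ⊤ : Submodule R R)) ≃ₗ[R] (R ⧸ Ideal.ofList ys) :=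
    Submodule.quotEquivOfEq _ _ (by rw [smul_eq_mul, Ideal.mul_top])
  have h2 := height_add_ringKrullDim_quotient_le (Ideal.ofList ys) hne
  rw [← Module.supportDim_quotient_eq_ringKrullDim, ← Module.supportDim_eq_of_equiv e] at h2
  have hdim : Module.supportDim R (R ⧸ (Ideal.ofList ys • ⊤ : Submodule R R)) + ys.length =
      ringKrullDim R := by
    refine le_antisymm ?_ h1
    refine le_trans ?_ h2
    rw [add_comm]
    have : ((ys.length : ℕ) : WithBot ℕ∞) ≤ (((Ideal.ofList ys).height : ℕ∞) : WithBot ℕ∞) := by
      exact_mod_cast WithBot.coe_le_coe.mpr hht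
    exact add_le_add_left this _
  have hdim' : Module.supportDim R (R ⧸ (Ideal.ofList ys • ⊤ : Submodule R R)) + ys.length =
      Module.supportDim R R := by
    rw [Module.supportDim_self_eq_ringKrullDim]; exact hdim
  have hreg := isWeaklyRegular_of_supportDim_add_length_eq ys R hCM hmem hdim'
  exact ⟨hreg, isCohenMacaulayModule_quot_ofList hCM ys hmem hreg, hdim⟩

end LocalCI

section Unmixed

variable {A : Type u} [CommRing A] [hA : LocCoh.IsCohenMacaulayRing A]

/-- Unmixedness theorem: in a Cohen–Macaulay ring, if `xs` generates an ideal of height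
`≥ length xs`, every associated prime of `A/(xs)` has height `length xs`. -/
theorem height_eq_length_of_mem_associatedPrimes_quot_ofList (xs : List A)
    (h : (xs.length : ℕ∞) ≤ (Ideal.ofList xs).height) {P : Ideal A}
    (hP : P ∈ associatedPrimes A (A ⧸ (Ideal.ofList xs • ⊤ : Submodule A A))) :
    P.height = xs.length := by
  have hPp : P.IsPrime := hP.isPrime
  have hxP : ∀ x ∈ xs, x ∈ P := by
    intro x hx
    apply IsAssociatedPrime.annihilator_le hP
    rw [Submodule.mem_annihilator]
    intro z _
    obtain ⟨a, rfl⟩ := Submodule.Quotient.mk_surjective _ z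
    rw [← Submodule.Quotient.mk_smul, Submodule.Quotient.mk_eq_zero]
    exact Submodule.smul_mem_smul (Ideal.subset_span hx) Submodule.mem_top
  have hR := hA.isCohenMacaulayLocalRing_localization P
  set ys := xs.map (algebraMap A (Localization.AtPrime P)) with hys
  have hmem : ∀ y ∈ ys, y ∈ IsLocalRing.maximalIdeal (Localization.AtPrime P) := by
    intro y hy
    obtain ⟨a, ha, rfl⟩ := List.mem_map.mp hy
    rw [← Localization.AtPrime.map_eq_maximalIdeal]
    exact Ideal.mem_map_of_mem _ (hxP a ha)
  have hht : (ys.length : ℕ∞) ≤ (Ideal.ofList ys).height := by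
    rw [hys, List.length_map, ← Ideal.map_ofList,
      ← IsLocalization.height_under P.primeCompl]
    exact le_trans h (Ideal.height_mono Ideal.le_comap_map)
  obtain ⟨hreg, hCM, hdim⟩ := isWeaklyRegular_of_length_le_height ys hmem hht
  -- the depth of the quotient is zero
  have h0 := (depth_localization_eq_zero_iff
    (M := A ⧸ (Ideal.ofList xs • ⊤ : Submodule A A)) P).mpr hP
  have e1 : (LocalizedModule P.primeCompl A ⧸ (Ideal.ofList ys •
      (⊤ : Submodule (Localization.AtPrime P) (LocalizedModule P.primeCompl A))))
      ≃ₗ[Localization.AtPrime P]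
      (Localization.AtPrime P ⧸ (Ideal.ofList ys • ⊤ :
        Submodule (Localization.AtPrime P) (Localization.AtPrime P))) :=
    Submodule.Quotient.equiv _ _ (localizedModuleSelfEquiv P) (by
      rw [Submodule.map_smul'', Submodule.map_top, LinearEquiv.range])
  have e2 := localizedQuotOfListEquiv P A xs
  have hd0 : LocCoh.depth (Localization.AtPrime P)
      (Localization.AtPrime P ⧸ (Ideal.ofList ys • ⊤ :
        Submodule (Localization.AtPrime P) (Localization.AtPrime P))) = 0 := by
    unfold LocCoh.depth at h0 ⊢
    rw [← idealDepth_congr e1, idealDepth_congr e2]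
    exact h0
  unfold LocCoh.IsCohenMacaulayModule at hCM
  rw [hCM, hd0, IsLocalization.AtPrime.ringKrullDim_eq_height P (Localization.AtPrime P),
    hys, List.length_map] at hdim
  have : ((xs.length : ℕ∞) : WithBot ℕ∞) = ((P.height : ℕ∞) : WithBot ℕ∞) := by
    simpa using hdim
  exact (WithBot.coe_injective this).symm

end Unmixed

section VarsHeight

variable {k : Type u} [CommRing k] [IsDomain k] (m : ℕ)

/-- The endomorphism of `k[x_0, …, x_{m-1}]` killing the first `i` variables. -/
noncomputable def killFirst (i : ℕ) : MvPolynomial (Fin m) k →ₐ[k] MvPolynomial (Fin m) k :=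
  MvPolynomial.aeval (fun j : Fin m => if (j : ℕ) < i then 0 else MvPolynomial.X j)

omit [IsDomain k] in
theorem killFirst_X (i : ℕ) (j : Fin m) :
    killFirst (k := k) m i (MvPolynomial.X j) = if (j : ℕ) < i then 0 else MvPolynomial.X j := by
  unfold killFirst
  rw [MvPolynomial.aeval_X]

theorem ker_killFirst_le_succ (i : ℕ) :
    RingHom.ker (killFirst (k := k) m i) ≤ RingHom.ker (killFirst (k := k) m (i + 1)) := by
  have hcomp : killFirst (k := k) m (i + 1) =
      (MvPolynomial.aeval (fun j : Fin m => if (j : ℕ) = i then 0 else MvPolynomial.X j)).comp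
        (killFirst (k := k) m i) := by
    apply MvPolynomial.algHom_ext
    intro j
    rw [AlgHom.comp_apply, killFirst_X, killFirst_X]
    by_cases h1 : (j : ℕ) < i
    · rw [if_pos h1, if_pos (by omega), map_zero]
    · rw [if_neg h1, MvPolynomial.aeval_X]
      by_cases h2 : (j : ℕ) = i
      · rw [if_pos h2, if_pos (by omega)]
      · rw [if_neg h2, if_neg (by omega)]
  intro x hx
  rw [RingHom.mem_ker] at hx ⊢
  rw [hcomp, AlgHom.comp_apply, hx, map_zero]

theorem natCast_le_height_ker_killFirst (i : ℕ) (hi : i ≤ m) :
    (i : ℕ∞) ≤ (RingHom.ker (killFirst (k := k) m i)).height := by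
  induction i with
  | zero => simp
  | succ i ih =>
    have hp1 : (RingHom.ker (killFirst (k := k) m i)).IsPrime := RingHom.ker_isPrime _
    have hp2 : (RingHom.ker (killFirst (k := k) m (i + 1))).IsPrime := RingHom.ker_isPrime _
    have hlt : RingHom.ker (killFirst (k := k) m i) < RingHom.ker (killFirst (k := k) m (i + 1)) := by
      refine lt_of_le_of_ne (ker_killFirst_le_succ m i) ?_
      intro heq
      have hmem : (MvPolynomial.X ⟨i, by omega⟩ : MvPolynomial (Fin m) k) ∈
          RingHom.ker (killFirst (k := k) m (i + 1)) := by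
        rw [RingHom.mem_ker, killFirst_X, if_pos (by simp)]
      rw [← heq, RingHom.mem_ker, killFirst_X, if_neg (by simp)] at hmem
      exact MvPolynomial.X_ne_zero _ hmem
    have := Ideal.height_add_one_le_of_lt_of_isPrime hlt
    have h1 := ih (by omega)
    calc ((i + 1 : ℕ) : ℕ∞) = (i : ℕ∞) + 1 := by push_cast; rfl
      _ ≤ (RingHom.ker (killFirst (k := k) m i)).height + 1 := add_le_add_left h1 1
      _ ≤ _ := this

theorem sub_killFirst_mem (P : Ideal (MvPolynomial (Fin m) k))
    (hP : ∀ i, (MvPolynomial.X i : MvPolynomial (Fin m) k) ∈ P) (x : MvPolynomial (Fin m) k) :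
    x - killFirst (k := k) m m x ∈ P := by
  induction x using MvPolynomial.induction_on with
  | C a =>
    have : killFirst (k := k) m m (MvPolynomial.C a) = MvPolynomial.C a := by
      rw [← MvPolynomial.algebraMap_eq, AlgHom.commutes]
    rw [this, sub_self]
    exact zero_mem _
  | add p q hp hq =>
    rw [map_add]
    have : p + q - (killFirst (k := k) m m p + killFirst (k := k) m m q) =
        (p - killFirst (k := k) m m p) + (q - killFirst (k := k) m m q) := by ring
    rw [this]
    exact add_mem hp hq
  | mul_X p j hp =>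
    rw [map_mul, killFirst_X, if_pos j.2, mul_zero, sub_zero]
    exact Ideal.mul_mem_left _ _ (hP j)

/-- An ideal of `k[x_0, …, x_{m-1}]` containing all the variables has height at least `m`. -/
theorem natCast_le_height_of_forall_X_mem (P : Ideal (MvPolynomial (Fin m) k))
    (hP : ∀ i, (MvPolynomial.X i : MvPolynomial (Fin m) k) ∈ P) : (m : ℕ∞) ≤ P.height := by
  refine le_trans (natCast_le_height_ker_killFirst (k := k) m m le_rfl) (Ideal.height_mono ?_)
  intro x hx
  rw [RingHom.mem_ker] at hx
  have := sub_killFirst_mem m P hP x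
  rwa [hx, sub_zero] at this

end VarsHeight

section FieldCM

/-- A field is a Cohen–Macaulay ring. -/
theorem isCohenMacaulayRing_of_field (K : Type u) [Field K] : LocCoh.IsCohenMacaulayRing K := by
  refine { isCohenMacaulayLocalRing_localization := ?_ }
  intro p hp
  refine { supportDim_eq_depth := ?_ }
  rw [Module.supportDim_self_eq_ringKrullDim]
  apply depth_self_eq_ringKrullDim_of_isDomain_of_le_one
  rw [IsLocalization.AtPrime.ringKrullDim_eq_height p (Localization.AtPrime p)]
  have h := Ideal.height_le_ringKrullDim_of_isPrime (I := p)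
  rw [ringKrullDim_eq_zero_of_field] at h
  exact le_trans h zero_le_one

end FieldCM

end Groth.Agent.Lib.Helper28
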