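import Mathlib
import Groth.Agent.S2167
import Groth.Agent.Lib.Helper11KoszulReg
import Groth.Agent.Lib.Helper19RegPres
import Groth.Agent.Lib.Helper5RLR2

/-!
# Helper7CIPres: independence of presentation for complete intersection local rings

For a local ring `A` and two surjections `f₁ : R₁ → A`, `f₂ : R₂ → A` from regular local rings:
`ker f₁` is generated by a regular sequence iff `ker f₂` is (`regular_ker_iff`).

The proof avoids the Cohen structure theorem: one reduces to minimal presentations (`exists_minimal`,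
dividing by elements of `ker f \ m²`), and compares two minimal presentations through the module of
Koszul-trivial relations (`exists_generators_of_minimal`).
-/

set_option autoImplicit false
set_option linter.style.haveILetI false
universe u

namespace Groth.Agent.Lib.Helper7.CIPres
open IsLocalRing RingTheory.Sequence Groth.Agent.Lib.Helper28 Groth.Agent.Lib.Helper11KoszulReg

/-- `I` is generated by `n` elements with `n + dim R/I ≤ dim R`. -/
def Good (R : Type u) [CommRing R] (I : Ideal R) : Prop :=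
  ∃ (n : ℕ) (v : Fin n → R), Ideal.span (Set.range v) = I ∧
    (n : WithBot ℕ∞) + ringKrullDim (R ⧸ I) ≤ ringKrullDim R

theorem ofList_eq_span_range_get {R : Type u} [CommRing R] (rs : List R) :
    Ideal.ofList rs = Ideal.span (Set.range rs.get) := by
  rw [Ideal.ofList]
  congr 1
  ext a
  simp [List.mem_iff_get]

section Transfer
variable {R₁ R₂ A : Type u} [CommRing R₁] [CommRing R₂] [CommRing A]

/-- transfer of trivial relations along two surjections onto the same ring -/
theorem exists_triv_lift {e : ℕ} (f₁ : R₁ →+* A) (f₂ : R₂ →+* A) (hf₂ : Function.Surjective f₂)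
    (x : Fin e → R₁) (y : Fin e → R₂) (hxy : ∀ i, f₂ (y i) = f₁ (x i))
    (m : Fin e → R₁) (hm : m ∈ triv x R₁) :
    ∃ τ ∈ triv y R₂, ∀ i, f₂ (τ i) = f₁ (m i) := by
  induction hm using Submodule.span_induction with
  | mem v hv =>
    obtain ⟨i, j, a, rfl⟩ := hv
    obtain ⟨a', ha'⟩ := hf₂ (f₁ a)
    refine ⟨y j • (Pi.single i a' : Fin e → R₂) - y i • (Pi.single j a' : Fin e → R₂),
      triv_gen_mem y R₂ i j a', ?_⟩
    intro k
    simp only [Pi.sub_apply, Pi.smul_apply, smul_eq_mul, map_sub, map_mul, hxy, Pi.single_apply]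
    congr 1
    · congr 1
      split_ifs
      · exact ha'
      · simp
    · congr 1
      split_ifs
      · exact ha'
      · simp
  | zero => exact ⟨0, zero_mem _, fun i => by simp⟩
  | add a b _ _ ha hb =>
    obtain ⟨τa, hτa, ha'⟩ := ha
    obtain ⟨τb, hτb, hb'⟩ := hb
    exact ⟨τa + τb, add_mem hτa hτb, fun i => by simp [ha', hb']⟩
  | smul r a _ ha =>
    obtain ⟨r', hr'⟩ := hf₂ (f₁ r)
    obtain ⟨τ, hτ, h⟩ := ha
    exact ⟨r' • τ, Submodule.smul_mem _ _ hτ, fun i => by simp [h, hr']⟩

theorem mem_maximalIdeal_of_map_mem [IsLocalRing R₂] [IsLocalRing A] (f : R₂ →+* A) {z : R₂}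
    (h : f z ∈ maximalIdeal A) : z ∈ maximalIdeal R₂ := by
  rw [mem_maximalIdeal, mem_nonunits_iff] at h ⊢
  exact fun hu => h (hu.map f)

theorem map_mem_maximalIdeal_of_surjective [IsLocalRing R₂] [IsLocalRing A] (f : R₂ →+* A)
    (hf : Function.Surjective f) {z : R₂} (h : z ∈ maximalIdeal R₂) : f z ∈ maximalIdeal A := by
  haveI : IsLocalHom f := IsLocalHom.of_surjective f hf
  rw [mem_maximalIdeal, mem_nonunits_iff] at h ⊢
  exact fun hu => h (isUnit_of_map_unit f z hu)

theorem exists_generators_of_minimal [IsRegularLocalRing R₁] [IsLocalRing R₂] [IsNoetherianRing R₂]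
    [IsLocalRing A] (f₁ : R₁ →+* A) (hf₁ : Function.Surjective f₁) (f₂ : R₂ →+* A)
    (hf₂ : Function.Surjective f₂) (hmin : RingHom.ker f₂ ≤ maximalIdeal R₂ ^ 2) :
    ringKrullDim R₂ ≤ ringKrullDim R₁ ∧
    ∀ (n : ℕ) (t : Fin n → R₁), Ideal.span (Set.range t) = RingHom.ker f₁ →
      ∃ u : Fin n → R₂, Ideal.span (Set.range u) = RingHom.ker f₂ := by
  obtain ⟨rs, hlen, hrs, hreg⟩ := Groth.Agent.Lib.Helper5.exists_isRegular_ofList_eq_maximalIdeal R₁
  have hx_span : Ideal.span (Set.range rs.get) = maximalIdeal R₁ := by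
    rw [← ofList_eq_span_range_get, hrs]
  have hx_reg : IsWeaklyRegular R₁ (List.ofFn rs.get) := by
    rw [List.ofFn_get]; exact hreg.1
  have hkos := koszulH1Zero_of_isWeaklyRegular rs.length rs.get R₁ hx_reg
  rw [koszulH1Zero_iff] at hkos
  choose y hy using fun i => hf₂ (f₁ (rs.get i))
  have hx_mem : ∀ i, rs.get i ∈ maximalIdeal R₁ := fun i => by
    rw [← hx_span]; exact Ideal.subset_span ⟨i, rfl⟩
  have hy_mem : ∀ i, y i ∈ maximalIdeal R₂ := fun i =>
    mem_maximalIdeal_of_map_mem f₂ (by
      rw [hy i]; exact map_mem_maximalIdeal_of_surjective f₁ hf₁ (hx_mem i))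
  -- `y` generates the maximal ideal of `R₂`
  have hy_span : Ideal.span (Set.range y) = maximalIdeal R₂ := by
    apply le_antisymm (Ideal.span_le.mpr (by rintro _ ⟨i, rfl⟩; exact hy_mem i))
    apply Submodule.le_of_le_smul_of_le_jacobson_bot (I := maximalIdeal R₂)
      (IsNoetherian.noetherian _)
      (by rw [IsLocalRing.jacobson_eq_maximalIdeal ⊥ bot_ne_top])
    intro z hz
    obtain ⟨a, ha⟩ := hf₁ (f₂ z)
    have ha_mem : a ∈ maximalIdeal R₁ :=
      mem_maximalIdeal_of_map_mem f₁ (by
        rw [ha]; exact map_mem_maximalIdeal_of_surjective f₂ hf₂ hz)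
    rw [← hx_span] at ha_mem
    obtain ⟨c, hc⟩ := (Ideal.mem_span_range_iff_exists_fun).mp ha_mem
    choose c' hc' using fun i => hf₂ (f₁ (c i))
    have hker : z - ∑ i, c' i * y i ∈ RingHom.ker f₂ := by
      rw [RingHom.mem_ker, map_sub, map_sum, ← ha, ← hc, map_sum]
      simp only [map_mul, hc', hy, sub_self]
    have h2 := hmin hker
    rw [show z = (∑ i, c' i * y i) + (z - ∑ i, c' i * y i) by ring]
    apply Submodule.add_mem_sup
    · exact Ideal.sum_mem _ (fun i _ => Ideal.mul_mem_left _ _ (Ideal.subset_span ⟨i, rfl⟩))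
    · rw [smul_eq_mul, ← pow_two]; exact h2
  refine ⟨?_, ?_⟩
  · -- dimension bound
    have h1 := ringKrullDim_le_spanFinrank_maximalIdeal (R := R₂)
    have h2 : (maximalIdeal R₂).spanFinrank ≤ rs.length := by
      rw [← hy_span]
      refine le_trans (Submodule.spanFinrank_span_le_ncard_of_finite (Set.finite_range y)) ?_
      have : (Set.range y).ncard ≤ (Finset.univ : Finset (Fin rs.length)).card := by
        rw [← Set.image_univ, ← Finset.coe_univ]
        exact (Set.ncard_image_le (Finset.finite_toSet _)).trans (by rw [Set.ncard_coe_finset])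
      simpa using this
    rw [hlen]
    refine h1.trans ?_
    exact_mod_cast h2
  · intro n t ht
    -- coefficients of the generators `t j`
    have ht_mem : ∀ j, t j ∈ Ideal.span (Set.range rs.get) := fun j => by
      rw [hx_span]
      have : t j ∈ RingHom.ker f₁ := by rw [← ht]; exact Ideal.subset_span ⟨j, rfl⟩
      exact mem_maximalIdeal_of_map_mem f₁ (by rw [this]; exact zero_mem _)
    choose r hr using fun j => (Ideal.mem_span_range_iff_exists_fun).mp (ht_mem j)
    choose s hs using fun j i => hf₂ (f₁ (r j i))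
    let u : Fin n → R₂ := fun j => ∑ i, s j i * y i
    have hu_ker : ∀ j, u j ∈ RingHom.ker f₂ := by
      intro j
      have h1 : f₁ (t j) = 0 := by
        have : t j ∈ RingHom.ker f₁ := by rw [← ht]; exact Ideal.subset_span ⟨j, rfl⟩
        exact this
      rw [RingHom.mem_ker]
      simp only [u, map_sum, map_mul, hs, hy]
      rw [← h1, ← hr j, map_sum]
      simp only [map_mul]
    refine ⟨u, le_antisymm (Ideal.span_le.mpr (by rintro _ ⟨j, rfl⟩; exact hu_ker j)) ?_⟩
    apply Submodule.le_of_le_smul_of_le_jacobson_bot (I := maximalIdeal R₂)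
      (IsNoetherian.noetherian _)
      (by rw [IsLocalRing.jacobson_eq_maximalIdeal ⊥ bot_ne_top])
    intro v hv
    have hv_mem : v ∈ Ideal.span (Set.range y) := by
      rw [hy_span]
      exact mem_maximalIdeal_of_map_mem f₂ (by rw [hv]; exact zero_mem _)
    obtain ⟨vc, hvc⟩ := (Ideal.mem_span_range_iff_exists_fun).mp hv_mem
    choose w hw using fun i => hf₁ (f₂ (vc i))
    have hw_ker : ∑ i, w i * rs.get i ∈ RingHom.ker f₁ := by
      rw [RingHom.mem_ker, map_sum]
      simp only [map_mul, hw, ← hy]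
      have h0 : f₂ v = 0 := hv
      rw [← hvc, map_sum] at h0
      simpa only [map_mul] using h0
    rw [← ht] at hw_ker
    obtain ⟨c, hc⟩ := (Ideal.mem_span_range_iff_exists_fun).mp hw_ker
    -- the relation
    have hrel : ∑ i, rs.get i • (w i - ∑ j, c j * r j i) = 0 := by
      simp only [smul_eq_mul, mul_sub, Finset.sum_sub_distrib]
      rw [sub_eq_zero]
      calc ∑ i, rs.get i * w i = ∑ i, w i * rs.get i := by
            apply Finset.sum_congr rfl; intro i _; ring
        _ = ∑ j, c j * t j := hc.symm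
        _ = ∑ j, c j * ∑ i, r j i * rs.get i := by
            apply Finset.sum_congr rfl; intro j _; rw [hr j]
        _ = ∑ i, rs.get i * ∑ j, c j * r j i := by
            simp only [Finset.mul_sum]
            rw [Finset.sum_comm]
            apply Finset.sum_congr rfl; intro i _
            apply Finset.sum_congr rfl; intro j _; ring
    have htriv := hkos (fun i => w i - ∑ j, c j * r j i) hrel
    obtain ⟨τ, hτ, hτm⟩ := exists_triv_lift f₁ f₂ hf₂ rs.get y hy _ htriv
    choose d hd using fun j => hf₂ (f₁ (c j))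
    have hτrel := triv_rel y R₂ τ hτ
    -- decomposition of `v`
    have hdecomp : v = ∑ j, d j * u j + ∑ i, y i * (vc i - ∑ j, d j * s j i - τ i) := by
      have h1 : ∑ i, y i * τ i = 0 := by simpa [smul_eq_mul] using hτrel
      have h2 : ∑ j, d j * u j = ∑ i, y i * ∑ j, d j * s j i := by
        simp only [u, Finset.mul_sum]
        rw [Finset.sum_comm]
        apply Finset.sum_congr rfl; intro i _
        apply Finset.sum_congr rfl; intro j _; ring
      have h3 : ∑ i, y i * (vc i - ∑ j, d j * s j i - τ i) =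
          ∑ i, vc i * y i - ∑ i, y i * ∑ j, d j * s j i - ∑ i, y i * τ i := by
        simp only [mul_sub, Finset.sum_sub_distrib]
        congr 2
        apply Finset.sum_congr rfl; intro i _; ring
      rw [h2, h3, h1, hvc]
      ring
    rw [hdecomp]
    apply Submodule.add_mem_sup
    · exact Ideal.sum_mem _ (fun j _ => Ideal.mul_mem_left _ _ (Ideal.subset_span ⟨j, rfl⟩))
    · apply Ideal.sum_mem
      intro i _
      rw [smul_eq_mul]
      apply Ideal.mul_mem_mul (hy_mem i)
      rw [RingHom.mem_ker, map_sub, map_sub, map_sum, hτm i, map_sub, map_sum]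
      simp only [map_mul, hd, hs, hw]
      ring

end Transfer

/-- in a regular local ring, an ideal is generated by a regular sequence iff it is generated by
`n` elements with `n + dim R/I ≤ dim R`. -/
theorem regular_iff_good {R : Type u} [CommRing R] [IsRegularLocalRing R] (I : Ideal R)
    (hI : I ≠ ⊤) :
    (∃ rs : List R, Ideal.ofList rs = I ∧ IsRegular R rs) ↔ Good R I := by
  have hCMR : LocCoh.IsCohenMacaulayLocalRing R :=
    Groth.Agent.Lib.Helper5.isCohenMacaulayLocalRing_of_isRegularLocalRing R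
  have hCM : LocCoh.IsCohenMacaulayModule R R := hCMR.supportDim_eq_depth
  constructor
  · rintro ⟨rs, rfl, hreg⟩
    refine ⟨rs.length, rs.get, (ofList_eq_span_range_get rs).symm, ?_⟩
    have h1 := Module.supportDim_add_length_eq_supportDim_of_isRegular rs hreg
    rw [Groth.Agent.S2167.supportDim_quot_ofList, Module.supportDim_self_eq_ringKrullDim] at h1
    rw [← h1, add_comm]
  · rintro ⟨n, v, rfl, h⟩
    refine ⟨List.ofFn v, Groth.Agent.Lib.Helper5.ofList_ofFn_eq_span_range v, ?_⟩
    have hI' : Ideal.ofList (List.ofFn v) = Ideal.span (Set.range v) :=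
      Groth.Agent.Lib.Helper5.ofList_ofFn_eq_span_range v
    have hmem : ∀ r ∈ List.ofFn v, r ∈ maximalIdeal R := by
      intro r hr
      obtain ⟨i, rfl⟩ := (List.mem_ofFn' v r).mp hr
      exact IsLocalRing.le_maximalIdeal hI (Ideal.subset_span ⟨i, rfl⟩)
    have h1 := supportDim_le_supportDim_quot_ofList_add_length_local (List.ofFn v) R hmem
    rw [Groth.Agent.S2167.supportDim_quot_ofList, Module.supportDim_self_eq_ringKrullDim, hI',
      List.length_ofFn] at h1
    have hdim : Module.supportDim R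
        (R ⧸ (Ideal.ofList (List.ofFn v) • ⊤ : Submodule R R)) +
          (List.ofFn v).length = Module.supportDim R R := by
      rw [Groth.Agent.S2167.supportDim_quot_ofList, Module.supportDim_self_eq_ringKrullDim, hI',
        List.length_ofFn]
      refine le_antisymm ?_ h1
      rw [add_comm]
      exact h
    have hreg := isWeaklyRegular_of_supportDim_add_length_eq (List.ofFn v) R hCM hmem hdim
    exact isRegular_of_isWeaklyRegular_of_mem hreg hmem (by
      rw [smul_eq_mul, Ideal.mul_top]
      exact (IsLocalRing.maximalIdeal.isMaximal R).ne_top)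

section Quot

variable {R : Type u} [CommRing R] [IsRegularLocalRing R]

theorem dim_quot_singleton {x : R} [IsLocalRing (R ⧸ Ideal.span {x})]
    (hx : x ∈ maximalIdeal R) (hx2 : x ∉ maximalIdeal R ^ 2) :
    IsRegularLocalRing (R ⧸ Ideal.span {x}) ∧
      ringKrullDim (R ⧸ Ideal.span {x}) + 1 = ringKrullDim R := by
  obtain ⟨hreg, hle⟩ := Groth.Agent.Lib.Helper19.isRegularLocalRing_quot_singleton hx hx2
  refine ⟨hreg, le_antisymm ?_ ?_⟩
  · rw [← IsRegularLocalRing.spanFinrank_maximalIdeal (R := R),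
      ← IsRegularLocalRing.spanFinrank_maximalIdeal (R := R ⧸ Ideal.span {x})]
    exact_mod_cast hle
  · have := ringKrullDim_le_ringKrullDim_quotient_add_encard ({x} : Set R) (by
      rw [IsLocalRing.ringJacobson_eq_maximalIdeal]
      exact Set.singleton_subset_iff.2 hx)
    simpa using this

theorem good_quot_iff (I : Ideal R) (hI : I ≠ ⊤) {x : R} (hxI : x ∈ I)
    (hx2 : x ∉ maximalIdeal R ^ 2) [IsLocalRing (R ⧸ Ideal.span {x})] :
    Good R I ↔ Good (R ⧸ Ideal.span {x}) (I.map (Ideal.Quotient.mk (Ideal.span {x}))) := by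
  have hIm : I ≤ maximalIdeal R := IsLocalRing.le_maximalIdeal hI
  obtain ⟨hreg, hdim⟩ := dim_quot_singleton (hIm hxI) hx2
  have hle : Ideal.span {x} ≤ I := (Ideal.span_singleton_le_iff_mem I).mpr hxI
  have hdimq : ringKrullDim ((R ⧸ Ideal.span {x}) ⧸ I.map (Ideal.Quotient.mk (Ideal.span {x}))) =
      ringKrullDim (R ⧸ I) :=
    ringKrullDim_eq_of_ringEquiv (DoubleQuot.quotQuotEquivQuotOfLE hle)
  obtain ⟨d, hd⟩ := Groth.Agent.Lib.Helper19.exists_nat_ringKrullDim R
  obtain ⟨d', hd'⟩ := Groth.Agent.Lib.Helper19.exists_nat_ringKrullDim (R ⧸ Ideal.span {x})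
  haveI : IsLocalRing (R ⧸ I) := Groth.Agent.Lib.Helper5.isLocalRing_quotient hI
  obtain ⟨a, ha⟩ := Groth.Agent.Lib.Helper19.exists_nat_ringKrullDim (R ⧸ I)
  have hdd : d' + 1 = d := by
    rw [hd, hd'] at hdim
    exact_mod_cast hdim
  have hcomap : (I.map (Ideal.Quotient.mk (Ideal.span {x}))).comap
      (Ideal.Quotient.mk (Ideal.span {x})) = I := by
    rw [Ideal.comap_map_of_surjective _ Ideal.Quotient.mk_surjective,
      ← RingHom.ker_eq_comap_bot, Ideal.mk_ker]
    exact sup_eq_left.mpr hle
  constructor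
  · rintro ⟨n, v, hv, hnum⟩
    -- `x` is a combination of the `v i` with some unit coefficient
    have hxv : x ∈ Ideal.span (Set.range v) := by rw [hv]; exact hxI
    obtain ⟨c, hc⟩ := (Ideal.mem_span_range_iff_exists_fun).mp hxv
    have hex : ∃ j, IsUnit (c j) := by
      by_contra hno
      push Not at hno
      apply hx2
      rw [← hc, pow_two]
      refine Ideal.sum_mem _ (fun i _ => Ideal.mul_mem_mul ?_ ?_)
      · exact (mem_maximalIdeal _).mpr (hno i)
      · exact hIm (hv ▸ Ideal.subset_span ⟨i, rfl⟩)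
    obtain ⟨j₀, hj₀⟩ := hex
    obtain ⟨k, rfl⟩ : ∃ k, n = k + 1 := by
      cases n with
      | zero => exact j₀.elim0
      | succ k => exact ⟨k, rfl⟩
    refine ⟨k, fun i => Ideal.Quotient.mk (Ideal.span {x}) (v (j₀.succAbove i)), ?_, ?_⟩
    · apply le_antisymm
      · rw [Ideal.span_le]
        rintro _ ⟨i, rfl⟩
        exact Ideal.mem_map_of_mem _ (hv ▸ Ideal.subset_span ⟨_, rfl⟩)
      · rw [← hv, Ideal.map_span, Ideal.span_le]
        rintro _ ⟨_, ⟨j, rfl⟩, rfl⟩
        by_cases hj : j = j₀
        · subst hj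
          -- `c j * v j = x - ∑_{i ≠ j} c i * v i`
          obtain ⟨cinv, hcinv⟩ := hj₀.exists_left_inv
          have h1 : Ideal.Quotient.mk (Ideal.span {x}) (v j) =
              - ∑ i, Ideal.Quotient.mk (Ideal.span {x}) (cinv * c (j.succAbove i)) *
                Ideal.Quotient.mk (Ideal.span {x}) (v (j.succAbove i)) := by
            have h2 : ∑ i, c i * v i = c j * v j + ∑ i, c (j.succAbove i) * v (j.succAbove i) :=
              Fin.sum_univ_succAbove _ j
            have h3 : Ideal.Quotient.mk (Ideal.span {x}) x = 0 :=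
              Ideal.Quotient.eq_zero_iff_mem.mpr (Ideal.subset_span rfl)
            have h4 : v j = cinv * x - ∑ i, (cinv * c (j.succAbove i)) * v (j.succAbove i) := by
              have : cinv * x = cinv * (c j * v j) +
                  ∑ i, (cinv * c (j.succAbove i)) * v (j.succAbove i) := by
                rw [← hc, h2, mul_add, Finset.mul_sum]
                congr 1
                apply Finset.sum_congr rfl; intro i _; ring
              rw [this, ← mul_assoc, hcinv, one_mul]
              ring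
            rw [h4, map_sub, map_mul, h3, mul_zero, zero_sub, map_sum]
            simp only [map_mul]
          rw [h1]
          refine neg_mem (Ideal.sum_mem _ (fun i _ => Ideal.mul_mem_left _ _ ?_))
          exact Ideal.subset_span ⟨i, rfl⟩
        · obtain ⟨i, rfl⟩ := Fin.exists_succAbove_eq hj
          exact Ideal.subset_span ⟨i, rfl⟩
    · rw [hdimq, hd', ha]
      rw [hd, ha] at hnum
      have h1 : (k + 1) + a ≤ d := by exact_mod_cast hnum
      have h2 : k + a ≤ d' := by omega
      exact_mod_cast h2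
  · rintro ⟨n, v', hv', hnum⟩
    choose v hv using fun i => Ideal.Quotient.mk_surjective (v' i)
    refine ⟨n + 1, Fin.cons x v, ?_, ?_⟩
    · apply le_antisymm
      · rw [Ideal.span_le]
        rintro _ ⟨i, rfl⟩
        refine Fin.cases ?_ (fun i => ?_) i
        · simpa using hxI
        · simp only [Fin.cons_succ]
          rw [← hcomap, SetLike.mem_coe, Ideal.mem_comap, hv i, ← hv']
          exact Ideal.subset_span ⟨i, rfl⟩
      · intro z hz
        have h1 : Ideal.Quotient.mk (Ideal.span {x}) z ∈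
            Ideal.span (Set.range v') := by
          rw [hv']; exact Ideal.mem_map_of_mem _ hz
        obtain ⟨c', hc'⟩ := (Ideal.mem_span_range_iff_exists_fun).mp h1
        choose c hc using fun i => Ideal.Quotient.mk_surjective (c' i)
        have h2 : z - ∑ i, c i * v i ∈ Ideal.span {x} := by
          rw [← Ideal.Quotient.eq_zero_iff_mem, map_sub, map_sum, ← hc']
          simp only [map_mul, hc, hv, sub_self]
        obtain ⟨b, hb⟩ := Ideal.mem_span_singleton'.mp h2
        have h3 : z = b * x + ∑ i, c i * v i := by rw [hb]; ring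
        rw [h3]
        refine add_mem (Ideal.mul_mem_left _ _ (Ideal.subset_span ⟨0, by simp⟩))
          (Ideal.sum_mem _ (fun i _ => Ideal.mul_mem_left _ _
            (Ideal.subset_span ⟨i.succ, by simp⟩)))
    · rw [hdimq, hd', ha] at hnum
      rw [hd, ha]
      have h1 : n + a ≤ d' := by exact_mod_cast hnum
      have h2 : (n + 1) + a ≤ d := by omega
      exact_mod_cast h2

end Quot


section Independence

variable {A : Type u} [CommRing A] [IsLocalRing A]

/-- every regular presentation can be reduced to a minimal one, preserving `Good` -/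
theorem exists_minimal : ∀ (d : ℕ) (R : Type u) [CommRing R] [IsRegularLocalRing R] (f : R →+* A),
    Function.Surjective f → ringKrullDim R = d →
    ∃ (R' : Type u) (_ : CommRing R') (_ : IsRegularLocalRing R') (f' : R' →+* A),
      Function.Surjective f' ∧ RingHom.ker f' ≤ maximalIdeal R' ^ 2 ∧
        (Good R (RingHom.ker f) ↔ Good R' (RingHom.ker f')) := by
  intro d
  induction d with
  | zero =>
    intro R _ _ f hf hd
    by_cases h : RingHom.ker f ≤ maximalIdeal R ^ 2
    · exact ⟨R, inferInstance, inferInstance, f, hf, h, Iff.rfl⟩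
    · exfalso
      obtain ⟨x, hxk, hx2⟩ := SetLike.not_le_iff_exists.mp h
      have hne : RingHom.ker f ≠ ⊤ := RingHom.ker_ne_top f
      have hxm : x ∈ maximalIdeal R := IsLocalRing.le_maximalIdeal hne hxk
      haveI : IsLocalRing (R ⧸ Ideal.span {x}) :=
        Groth.Agent.Lib.Helper5.isLocalRing_quotient (fun h' => hne (top_le_iff.mp
          (h' ▸ (Ideal.span_singleton_le_iff_mem _).mpr hxk)))
      obtain ⟨hreg, hdim⟩ := dim_quot_singleton hxm hx2
      obtain ⟨d', hd'⟩ := Groth.Agent.Lib.Helper19.exists_nat_ringKrullDim (R ⧸ Ideal.span {x})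
      rw [hd, hd'] at hdim
      have : d' + 1 = 0 := by exact_mod_cast hdim
      omega
  | succ k ih =>
    intro R _ _ f hf hd
    by_cases h : RingHom.ker f ≤ maximalIdeal R ^ 2
    · exact ⟨R, inferInstance, inferInstance, f, hf, h, Iff.rfl⟩
    · obtain ⟨x, hxk, hx2⟩ := SetLike.not_le_iff_exists.mp h
      have hne : RingHom.ker f ≠ ⊤ := RingHom.ker_ne_top f
      have hxm : x ∈ maximalIdeal R := IsLocalRing.le_maximalIdeal hne hxk
      have hle : Ideal.span {x} ≤ RingHom.ker f := (Ideal.span_singleton_le_iff_mem _).mpr hxk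
      haveI : IsLocalRing (R ⧸ Ideal.span {x}) :=
        Groth.Agent.Lib.Helper5.isLocalRing_quotient (fun h' => hne (top_le_iff.mp (h' ▸ hle)))
      obtain ⟨hreg, hdim⟩ := dim_quot_singleton hxm hx2
      obtain ⟨d', hd'⟩ := Groth.Agent.Lib.Helper19.exists_nat_ringKrullDim (R ⧸ Ideal.span {x})
      have hdk : ringKrullDim (R ⧸ Ideal.span {x}) = k := by
        rw [hd, hd'] at hdim
        have : d' + 1 = k + 1 := by exact_mod_cast hdim
        rw [hd']
        have : d' = k := by omega
        exact_mod_cast this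
      have hsurj : Function.Surjective (Ideal.Quotient.lift (Ideal.span {x}) f hle) :=
        Ideal.Quotient.lift_surjective_of_surjective _ _ hf
      obtain ⟨R', i1, i2, f', hf', hmin, hiff⟩ :=
        ih (R ⧸ Ideal.span {x}) (Ideal.Quotient.lift (Ideal.span {x}) f hle) hsurj hdk
      refine ⟨R', i1, i2, f', hf', hmin, ?_⟩
      rw [good_quot_iff (RingHom.ker f) hne hxk hx2, ← hiff, Ideal.ker_quotient_lift f hle]

omit [IsLocalRing A] in
theorem dim_quot_ker {R : Type u} [CommRing R] (f : R →+* A) (hf : Function.Surjective f) :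
    ringKrullDim (R ⧸ RingHom.ker f) = ringKrullDim A :=
  ringKrullDim_eq_of_ringEquiv (RingHom.quotientKerEquivOfSurjective hf)

/-- two minimal regular presentations -/
theorem good_iff_of_minimal {R₁ R₂ : Type u} [CommRing R₁] [CommRing R₂] [IsRegularLocalRing R₁]
    [IsRegularLocalRing R₂] (f₁ : R₁ →+* A) (hf₁ : Function.Surjective f₁) (f₂ : R₂ →+* A)
    (hf₂ : Function.Surjective f₂) (h₁ : RingHom.ker f₁ ≤ maximalIdeal R₁ ^ 2)
    (h₂ : RingHom.ker f₂ ≤ maximalIdeal R₂ ^ 2) :
    Good R₁ (RingHom.ker f₁) ↔ Good R₂ (RingHom.ker f₂) := by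
  obtain ⟨hd12, hg12⟩ := exists_generators_of_minimal f₁ hf₁ f₂ hf₂ h₂
  obtain ⟨hd21, hg21⟩ := exists_generators_of_minimal f₂ hf₂ f₁ hf₁ h₁
  have hd : ringKrullDim R₁ = ringKrullDim R₂ := le_antisymm hd21 hd12
  constructor
  · rintro ⟨n, v, hv, hnum⟩
    obtain ⟨u, hu⟩ := hg12 n v hv
    refine ⟨n, u, hu, ?_⟩
    rw [dim_quot_ker f₂ hf₂, ← dim_quot_ker f₁ hf₁, ← hd]
    exact hnum
  · rintro ⟨n, v, hv, hnum⟩
    obtain ⟨u, hu⟩ := hg21 n v hv
    refine ⟨n, u, hu, ?_⟩
    rw [dim_quot_ker f₁ hf₁, ← dim_quot_ker f₂ hf₂, hd]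
    exact hnum

/-- independence of the regular presentation -/
theorem good_iff {R₁ R₂ : Type u} [CommRing R₁] [CommRing R₂] [IsRegularLocalRing R₁]
    [IsRegularLocalRing R₂] (f₁ : R₁ →+* A) (hf₁ : Function.Surjective f₁) (f₂ : R₂ →+* A)
    (hf₂ : Function.Surjective f₂) :
    Good R₁ (RingHom.ker f₁) ↔ Good R₂ (RingHom.ker f₂) := by
  obtain ⟨d₁, hd₁⟩ := Groth.Agent.Lib.Helper19.exists_nat_ringKrullDim R₁
  obtain ⟨d₂, hd₂⟩ := Groth.Agent.Lib.Helper19.exists_nat_ringKrullDim R₂
  obtain ⟨R₁', i1, i2, f₁', hf₁', hmin₁, hiff₁⟩ := exists_minimal d₁ R₁ f₁ hf₁ hd₁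
  obtain ⟨R₂', j1, j2, f₂', hf₂', hmin₂, hiff₂⟩ := exists_minimal d₂ R₂ f₂ hf₂ hd₂
  rw [hiff₁, hiff₂]
  exact good_iff_of_minimal f₁' hf₁' f₂' hf₂' hmin₁ hmin₂

/-- **Independence of presentation**: if the kernel of one surjection from a regular local ring
onto `A` is generated by a regular sequence, so is the kernel of any other. -/
theorem regular_ker_iff {R₁ R₂ : Type u} [CommRing R₁] [CommRing R₂] [IsRegularLocalRing R₁]
    [IsRegularLocalRing R₂] (f₁ : R₁ →+* A) (hf₁ : Function.Surjective f₁) (f₂ : R₂ →+* A)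
    (hf₂ : Function.Surjective f₂) :
    (∃ rs : List R₁, Ideal.ofList rs = RingHom.ker f₁ ∧ IsRegular R₁ rs) ↔
      (∃ rs : List R₂, Ideal.ofList rs = RingHom.ker f₂ ∧ IsRegular R₂ rs) := by
  rw [regular_iff_good _ (RingHom.ker_ne_top f₁), regular_iff_good _ (RingHom.ker_ne_top f₂)]
  exact good_iff f₁ hf₁ f₂ hf₂

end Independence

end Groth.Agent.Lib.Helper7.CIPres
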