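import Mathlib
import Groth.Agent.Lib.Helper7CIPres
import Groth.Agent.Lib.Helper28ComplQuot
import Groth.Agent.Lib.Helper19ComplDim
import Groth.Agent.Lib.Helper19Jacobson
import Groth.Agent.Lib.Helper5RLR
import Groth.Prelude.Def_Pi1

set_option autoImplicit false
set_option linter.style.haveILetI false
universe u

namespace Groth.Agent.Lib.Helper7.CIPres
open IsLocalRing RingTheory.Sequence

/-- the completions along two equal ideals are isomorphic -/
noncomputable def adicCompletionCongr {S : Type u} [CommRing S] {J₁ J₂ : Ideal S} (h : J₁ = J₂) :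
    AdicCompletion J₁ S ≃+* AdicCompletion J₂ S := by
  subst h
  exact RingEquiv.refl _

section Completion

variable {R : Type u} [CommRing R] [IsNoetherianRing R] [IsLocalRing R]

local notation "Rh" => AdicCompletion (maximalIdeal R) R

theorem exists_sub_mem_maximalIdeal (a : Rh) : ∃ r : R, a - algebraMap R Rh r ∈ maximalIdeal Rh := by
  obtain ⟨r, hr⟩ := Submodule.Quotient.mk_surjective _ (a.1 1)
  refine ⟨r, ?_⟩
  rw [AdicCompletion.mem_maximalIdeal_iff_eval_one_eq_zero]
  change a.1 1 - (algebraMap R Rh r).1 1 = 0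
  rw [sub_eq_zero, ← hr]
  rfl

/-- generators of `I R^` can be approximated by generators of `I` -/
theorem exists_generators_of_completion (I : Ideal R) {n : ℕ} (û : Fin n → Rh)
    (hû : Ideal.span (Set.range û) = I.map (algebraMap R Rh)) :
    ∃ u : Fin n → R, Ideal.span (Set.range u) = I := by
  haveI : Module.FaithfullyFlat R Rh :=
    Groth.Agent.Lib.Helper19.faithfullyFlat_adicCompletion_of_le_jacobson R (maximalIdeal R)
      (IsLocalRing.maximalIdeal_le_jacobson ⊥)
  haveI : IsNoetherianRing Rh := Groth.Agent.Lib.Helper19.isNoetherianRing_adicCompletion _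
  obtain ⟨m, v, hv⟩ := Submodule.fg_iff_exists_fin_generating_family.mp (IsNoetherian.noetherian I)
  have hmap : I.map (algebraMap R Rh) = Ideal.span (Set.range fun i => algebraMap R Rh (v i)) := by
    change Ideal.span (Set.range v) = I at hv
    rw [← hv, Ideal.map_span, ← Set.range_comp]
    rfl
  have hûmem : ∀ j, û j ∈ Ideal.span (Set.range fun i => algebraMap R Rh (v i)) := fun j => by
    rw [← hmap, ← hû]; exact Ideal.subset_span ⟨j, rfl⟩
  choose a ha using fun j => (Ideal.mem_span_range_iff_exists_fun).mp (hûmem j)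
  choose a' ha' using fun j i => exists_sub_mem_maximalIdeal (a j i)
  let u : Fin n → R := fun j => ∑ i, a' j i * v i
  have hvI : ∀ i, v i ∈ I := fun i => by
    change Ideal.span (Set.range v) = I at hv
    rw [← hv]; exact Ideal.subset_span ⟨i, rfl⟩
  have huI : ∀ j, u j ∈ I := fun j => Ideal.sum_mem _ (fun i _ => Ideal.mul_mem_left _ _ (hvI i))
  refine ⟨u, ?_⟩
  have key : (Ideal.span (Set.range u)).map (algebraMap R Rh) = I.map (algebraMap R Rh) := by
    apply le_antisymm
    · exact Ideal.map_mono (Ideal.span_le.mpr (by rintro _ ⟨j, rfl⟩; exact huI j))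
    · apply Submodule.le_of_le_smul_of_le_jacobson_bot (I := maximalIdeal Rh)
        (IsNoetherian.noetherian _)
        (by rw [IsLocalRing.jacobson_eq_maximalIdeal ⊥ bot_ne_top])
      rw [← hû]
      rw [Ideal.span_le]
      rintro _ ⟨j, rfl⟩
      have h1 : û j = algebraMap R Rh (u j) +
          ∑ i, (a j i - algebraMap R Rh (a' j i)) * algebraMap R Rh (v i) := by
        simp only [u, map_sum, map_mul, sub_mul, Finset.sum_sub_distrib]
        rw [ha j]
        ring
      rw [h1]
      apply Submodule.add_mem_sup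
      · exact Ideal.mem_map_of_mem _ (Ideal.subset_span ⟨j, rfl⟩)
      · refine Ideal.sum_mem _ (fun i _ => ?_)
        rw [smul_eq_mul]
        apply Ideal.mul_mem_mul (ha' j i)
        rw [hû]
        exact Ideal.mem_map_of_mem _ (hvI i)
  have := congrArg (Ideal.comap (algebraMap R Rh)) key
  rwa [Ideal.comap_map_eq_self_of_faithfullyFlat, Ideal.comap_map_eq_self_of_faithfullyFlat] at this

end Completion


section Main

variable {R : Type u} [CommRing R] [IsRegularLocalRing R]

local notation "Rh" => AdicCompletion (maximalIdeal R) R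

/-- if `R/I` is a complete intersection, then `I` is generated by a regular sequence -/
theorem regular_of_isCompleteIntersection_quotient (I : Ideal R) (hI : I ≠ ⊤)
    [IsLocalRing (R ⧸ I)] (hA : Pi1.IsCompleteIntersection (R ⧸ I)) :
    ∃ rs : List R, Ideal.ofList rs = I ∧ IsRegular R rs := by
  obtain ⟨B, i1, i2, rs, hmem, hreg, ⟨e⟩⟩ := hA
  haveI : IsRegularLocalRing Rh :=
    (Groth.Agent.Lib.Helper19.isRegularLocalRing_adicCompletion_iff R).mp inferInstance
  obtain ⟨e₁, -⟩ := Groth.Agent.Lib.Helper28.exists_ringEquiv_adicCompletion_quotient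
    (maximalIdeal R) I
  have hmax : maximalIdeal (R ⧸ I) = (maximalIdeal R).map (Ideal.Quotient.mk I) :=
    Groth.Agent.Lib.Helper5.maximalIdeal_quotient_eq_map I
  -- the target ring
  have hne : Ideal.span {r | r ∈ rs} ≠ (⊤ : Ideal B) := by
    intro h
    have hle : Ideal.span {r | r ∈ rs} ≤ maximalIdeal B := Ideal.span_le.mpr fun r hr => hmem r hr
    exact (IsLocalRing.maximalIdeal.isMaximal B).ne_top (top_le_iff.mp (h ▸ hle))
  haveI : IsLocalRing (B ⧸ Ideal.span {r | r ∈ rs}) :=
    Groth.Agent.Lib.Helper5.isLocalRing_quotient hne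
  let eT : (Rh ⧸ I.map (algebraMap R Rh)) ≃+* (B ⧸ Ideal.span {r | r ∈ rs}) :=
    (e₁.trans (adicCompletionCongr hmax).symm).trans e
  let g₁ : B →+* (B ⧸ Ideal.span {r | r ∈ rs}) := Ideal.Quotient.mk _
  let g₂ : Rh →+* (B ⧸ Ideal.span {r | r ∈ rs}) :=
    eT.toRingHom.comp (Ideal.Quotient.mk (I.map (algebraMap R Rh)))
  have hg₁ : Function.Surjective g₁ := Ideal.Quotient.mk_surjective
  have hg₂ : Function.Surjective g₂ := eT.surjective.comp Ideal.Quotient.mk_surjective
  have hk₁ : RingHom.ker g₁ = Ideal.ofList rs := Ideal.mk_ker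
  have hk₂ : RingHom.ker g₂ = I.map (algebraMap R Rh) := by
    ext b
    rw [RingHom.mem_ker]
    change eT (Ideal.Quotient.mk _ b) = 0 ↔ _
    rw [EmbeddingLike.map_eq_zero_iff, Ideal.Quotient.eq_zero_iff_mem]
  have h2 := (regular_ker_iff g₁ hg₁ g₂ hg₂).mp ⟨rs, hk₁.symm, hreg⟩
  rw [regular_iff_good _ (RingHom.ker_ne_top g₂), hk₂] at h2
  obtain ⟨n, û, hû, hnum⟩ := h2
  obtain ⟨u, hu⟩ := exists_generators_of_completion I û hû
  rw [regular_iff_good I hI]
  refine ⟨n, u, hu, ?_⟩
  have hd1 : ringKrullDim Rh = ringKrullDim R :=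
    Groth.Agent.Lib.Helper19.ringKrullDim_adicCompletion_maximalIdeal _
  have hd2 : ringKrullDim (Rh ⧸ I.map (algebraMap R Rh)) = ringKrullDim (R ⧸ I) := by
    rw [ringKrullDim_eq_of_ringEquiv (e₁.trans (adicCompletionCongr hmax).symm)]
    exact Groth.Agent.Lib.Helper19.ringKrullDim_adicCompletion_maximalIdeal _
  rw [← hd1, ← hd2]
  exact hnum

end Main

end Groth.Agent.Lib.Helper7.CIPres
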