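import Groth.Agent.Lib.Helper28Normal

/-!
# Localizations at two primes `p ≤ s` (helper28)

* `idealDepth_map_localization_le_depth_localization`: `depth_{pR_s} (M_s) ≤ depth (M_p)`;
* `supportDim_quotient_smul_top_le_ringKrullDim_quotient`: `dim M/IM ≤ dim R/I`;
* `ringKrullDim_localization_quotient_eq_height`: `dim R_s/pR_s = ht (s/p)`.
-/

set_option autoImplicit false
universe u v w u' v'

namespace Groth.Agent.Lib.Helper28
open RingTheory.Sequence CategoryTheory Abelian TensorProduct
open scoped Pointwise

section LocLoc

variable {R : Type u} [CommRing R] (p s : Ideal R) [p.IsPrime] [s.IsPrime] 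
  (M : Type v) [AddCommGroup M] [Module R M]

/-- For primes `p ≤ s`: `depth_{pR_s} (M_s) ≤ depth (M_p)`. -/
theorem idealDepth_map_localization_le_depth_localization (hps : p ≤ s) :
    LocCoh.idealDepth (p.map (algebraMap R (Localization.AtPrime s)))
        (LocalizedModule s.primeCompl M) ≤
      LocCoh.depth (Localization.AtPrime p) (LocalizedModule p.primeCompl M) := by
  have hle : s.primeCompl ≤ p.primeCompl := fun x hx hxp => hx (hps hxp)
  let alg : Algebra (Localization.AtPrime s) (Localization.AtPrime p) :=
    IsLocalization.localizationAlgebraOfSubmonoidLe _ _ s.primeCompl p.primeCompl hle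
  have tower : IsScalarTower R (Localization.AtPrime s) (Localization.AtPrime p) :=
    IsLocalization.localization_isScalarTower_of_submonoid_le _ _ _ _ hle
  have loc : IsLocalization (Algebra.algebraMapSubmonoid (Localization.AtPrime s) p.primeCompl)
      (Localization.AtPrime p) :=
    IsLocalization.isLocalization_of_submonoid_le _ _ s.primeCompl p.primeCompl hle
  let mod : Module (Localization.AtPrime s) (LocalizedModule p.primeCompl M) :=
    Module.compHom _ (algebraMap (Localization.AtPrime s) (Localization.AtPrime p))
  have t1 : IsScalarTower (Localization.AtPrime s) (Localization.AtPrime p)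
      (LocalizedModule p.primeCompl M) :=
    ⟨fun a b x => by
      change (a • b) • x = algebraMap _ (Localization.AtPrime p) a • (b • x)
      rw [Algebra.smul_def, mul_smul]⟩
  have t2 : IsScalarTower R (Localization.AtPrime s) (LocalizedModule p.primeCompl M) :=
    IsScalarTower.of_algebraMap_smul fun r x => by
      change algebraMap (Localization.AtPrime s) (Localization.AtPrime p) (algebraMap R _ r) • x
        = r • x
      rw [← IsScalarTower.algebraMap_apply, algebraMap_smul]
  let f₀ : LocalizedModule s.primeCompl M →ₗ[R] LocalizedModule p.primeCompl M :=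
    IsLocalizedModule.liftOfLE s.primeCompl p.primeCompl hle
      (LocalizedModule.mkLinearMap _ M) (LocalizedModule.mkLinearMap _ M)
  let f : LocalizedModule s.primeCompl M →ₗ[Localization.AtPrime s]
      LocalizedModule p.primeCompl M :=
    LinearMap.extendScalarsOfIsLocalization s.primeCompl (Localization.AtPrime s) f₀
  have h1 : IsLocalizedModule p.primeCompl (f.restrictScalars R) := by
    have : f.restrictScalars R = f₀ := by ext; rfl
    rw [this]; infer_instance
  have h2 := IsLocalizedModule.of_restrictScalars p.primeCompl f
  have key := idealDepth_le_of_isLocalizedModule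
    (Algebra.algebraMapSubmonoid (Localization.AtPrime s) p.primeCompl) (Localization.AtPrime p) f
    (p.map (algebraMap R (Localization.AtPrime s)))
  refine key.trans (le_of_eq ?_)
  unfold LocCoh.depth
  congr 1
  rw [Ideal.map_map, ← IsScalarTower.algebraMap_eq, Localization.AtPrime.map_eq_maximalIdeal]

end LocLoc


section DimQuot

variable {R : Type u} [CommRing R] {M : Type v} [AddCommGroup M] [Module R M]

theorem supportDim_quotient_smul_top_le_ringKrullDim_quotient [Module.Finite R M] (I : Ideal R) :
    Module.supportDim R (M ⧸ (I • ⊤ : Submodule R M)) ≤ ringKrullDim (R ⧸ I) := by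
  rw [ringKrullDim_quotient]
  refine Order.krullDim_le_of_strictMono (fun a ↦ ⟨a.1, ?_⟩) (fun {_ _} lt ↦ lt)
  obtain ⟨a, ha⟩ := a
  rw [Module.support_quotient] at ha
  exact ha.2

end DimQuot

section LocQuotDim

variable {R : Type u} [CommRing R] (p s : Ideal R) [p.IsPrime] [s.IsPrime]

omit [p.IsPrime] in
theorem algebraMapSubmonoid_quotient_primeCompl (hps : p ≤ s)
    [(s.map (Ideal.Quotient.mk p)).IsPrime] :
    Algebra.algebraMapSubmonoid (R ⧸ p) s.primeCompl = (s.map (Ideal.Quotient.mk p)).primeCompl := by
  ext x
  obtain ⟨x, rfl⟩ := Ideal.Quotient.mk_surjective x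
  rw [Ideal.mem_primeCompl_iff, Ideal.mem_quotient_iff_mem hps]
  constructor
  · rintro ⟨y, hy, hyx⟩ hxs
    apply hy
    have h1 : Ideal.Quotient.mk p y = Ideal.Quotient.mk p x := hyx
    rw [Ideal.Quotient.eq] at h1
    have : y = (y - x) + x := by ring
    rw [SetLike.mem_coe, this]
    exact s.add_mem (hps h1) hxs
  · intro hx
    exact ⟨x, hx, rfl⟩

omit [p.IsPrime] in
theorem ringKrullDim_localization_quotient_eq_height (hps : p ≤ s) :
    ringKrullDim (Localization.AtPrime s ⧸ p.map (algebraMap R (Localization.AtPrime s))) =
      ((s.map (Ideal.Quotient.mk p)).height : WithBot ℕ∞) := by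
  have hprime : (s.map (Ideal.Quotient.mk p)).IsPrime :=
    Ideal.map_isPrime_of_surjective Ideal.Quotient.mk_surjective (by rwa [Ideal.mk_ker])
  have inst : IsLocalization (Algebra.algebraMapSubmonoid (R ⧸ p) s.primeCompl)
      (Localization.AtPrime s ⧸ p.map (algebraMap R (Localization.AtPrime s))) := inferInstance
  rw [algebraMapSubmonoid_quotient_primeCompl p s hps] at inst
  have inst' : IsLocalization.AtPrime
      (Localization.AtPrime s ⧸ p.map (algebraMap R (Localization.AtPrime s)))
      (s.map (Ideal.Quotient.mk p)) := inst
  exact IsLocalization.AtPrime.ringKrullDim_eq_height (s.map (Ideal.Quotient.mk p)) _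

end LocQuotDim

end Groth.Agent.Lib.Helper28
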