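import Mathlib
import Groth.Agent.Lib.Helper5LocalFlat
import Groth.Agent.Lib.Helper1Tor

/-! # Regular sequences on fibres and flatness (helper7)

Matsumura 22.5 / EGA 0_IV 15.1.16, Tor-free:

* `flat_coker`, `injective_of_fibre`: for `A → C` Noetherian (`A` local, `𝔪_A C ⊆ rad C`), `u : M → N`
  a `C`-linear map of finite `C`-modules with `N` flat over `A`, injective modulo `𝔪_A`: then `u` is
  injective with `A`-flat cokernel.
* `isWeaklyRegular_and_flat_of_fibre`: a sequence weakly regular on `M/𝔪M` (`M` finite over `C`,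
  flat over `A`) is weakly regular on `M` and all successive quotients are `A`-flat.
* `isWeaklyRegular_quotient_of_flat`: conversely a weakly regular sequence with `A`-flat successive
  quotients stays weakly regular on `M/𝔞M` (no finiteness hypotheses).
* `quotSMulTopQuotEquiv`: `(M/rM)/I(M/rM) ≃ (M/IM)/r(M/IM)`.
-/

set_option autoImplicit false
set_option linter.style.haveILetI false
set_option linter.unusedSectionVars false
universe u

namespace Groth.Agent.Lib.Helper7.FibReg
open IsLocalRing TensorProduct RingTheory.Sequence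
open scoped Pointwise

section Mu

variable {A : Type u} [CommRing A] (𝔪 : Ideal A) (X : Type u) [AddCommGroup X] [Module A X]

/-- the multiplication map `X ⊗ 𝔪 → X` -/
noncomputable def mu : X ⊗[A] 𝔪 →ₗ[A] X :=
  (TensorProduct.rid A X).toLinearMap ∘ₗ (𝔪.subtype.lTensor X)

@[simp]
theorem mu_tmul (x : X) (a : 𝔪) : mu 𝔪 X (x ⊗ₜ a) = (a : A) • x := by
  simp [mu]

theorem mu_mem (s : X ⊗[A] 𝔪) : mu 𝔪 X s ∈ (𝔪 • ⊤ : Submodule A X) := by
  induction s using TensorProduct.induction_on with
  | zero => simp
  | tmul x a =>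
    rw [mu_tmul]
    exact Submodule.smul_mem_smul a.2 Submodule.mem_top
  | add s t hs ht =>
    rw [map_add]
    exact Submodule.add_mem _ hs ht

theorem exists_mu_eq {y : X} (hy : y ∈ (𝔪 • ⊤ : Submodule A X)) : ∃ r : X ⊗[A] 𝔪, mu 𝔪 X r = y := by
  refine Submodule.smul_induction_on hy ?_ ?_
  · intro a ha x _
    exact ⟨x ⊗ₜ ⟨a, ha⟩, by simp⟩
  · rintro x y ⟨r, rfl⟩ ⟨s, rfl⟩
    exact ⟨r + s, map_add _ _ _⟩

theorem mu_injective [Module.Flat A X] : Function.Injective (mu 𝔪 X) := by
  unfold mu
  rw [LinearMap.coe_comp]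
  exact (TensorProduct.rid A X).injective.comp
    (Module.Flat.lTensor_preserves_injective_linearMap _ (Submodule.subtype_injective 𝔪))

variable {X} {Y : Type u} [AddCommGroup Y] [Module A Y]

theorem mu_rTensor (f : X →ₗ[A] Y) (s : X ⊗[A] 𝔪) :
    mu 𝔪 Y (f.rTensor 𝔪 s) = f (mu 𝔪 X s) := by
  induction s using TensorProduct.induction_on with
  | zero => simp
  | tmul x a => simp
  | add s t hs ht => simp only [map_add, hs, ht]

theorem injective_lTensor_of_mu_injective (h : Function.Injective (mu 𝔪 X)) :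
    Function.Injective (𝔪.subtype.lTensor X) := by
  unfold mu at h
  rw [LinearMap.coe_comp] at h
  exact Function.Injective.of_comp h

end Mu

section M225

variable {A C : Type u} [CommRing A] [CommRing C] [Algebra A C] [IsLocalRing A]
  [IsNoetherianRing A] [IsNoetherianRing C]
  (hmC : (maximalIdeal A).map (algebraMap A C) ≤ (⊥ : Ideal C).jacobson)
  {M N : Type u} [AddCommGroup M] [Module C M] [Module A M] [IsScalarTower A C M]
  [AddCommGroup N] [Module C N] [Module A N] [IsScalarTower A C N] [Module.Finite C N]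
  [Module.Flat A N] (u : M →ₗ[C] N)
  (H : ∀ y : M, u y ∈ (maximalIdeal A • ⊤ : Submodule A N) →
    y ∈ (maximalIdeal A • ⊤ : Submodule A M))

include hmC H in
/-- Matsumura 22.5, first half: the cokernel is flat. -/
theorem flat_coker : Module.Flat A (N ⧸ LinearMap.range u) := by
  haveI : Module.Finite C (N ⧸ LinearMap.range u) := inferInstance
  haveI : IsScalarTower A C (N ⧸ LinearMap.range u) := inferInstance
  refine Groth.Agent.Lib.Helper5.flat_of_lTensor_maximalIdeal_injective (A := A) (B := C)
    (N ⧸ LinearMap.range u) hmC ?_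
  apply injective_lTensor_of_mu_injective
  let uA : M →ₗ[A] N := u.restrictScalars A
  let πA : N →ₗ[A] (N ⧸ LinearMap.range u) := (LinearMap.range u).mkQ.restrictScalars A
  have hπA : ∀ n, πA n = Submodule.Quotient.mk n := fun n => rfl
  have hπ : Function.Surjective πA := by
    intro x
    obtain ⟨n, rfl⟩ := Submodule.Quotient.mk_surjective _ x
    exact ⟨n, rfl⟩
  have hπu : πA ∘ₗ uA = 0 := by
    apply LinearMap.ext
    intro y
    rw [LinearMap.comp_apply, hπA, LinearMap.zero_apply, Submodule.Quotient.mk_eq_zero]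
    exact ⟨y, rfl⟩
  rw [injective_iff_map_eq_zero]
  intro t ht
  obtain ⟨s, rfl⟩ := LinearMap.rTensor_surjective (maximalIdeal A) hπ t
  rw [mu_rTensor, hπA, Submodule.Quotient.mk_eq_zero] at ht
  obtain ⟨y, hy⟩ := ht
  have hy𝔪 : y ∈ (maximalIdeal A • ⊤ : Submodule A M) := by
    apply H
    rw [hy]
    exact mu_mem (maximalIdeal A) N s
  obtain ⟨r, hr⟩ := exists_mu_eq (maximalIdeal A) M hy𝔪
  have h1 : mu (maximalIdeal A) N (uA.rTensor (maximalIdeal A) r) = mu (maximalIdeal A) N s := by
    rw [mu_rTensor, hr]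
    exact hy
  have h2 : uA.rTensor (maximalIdeal A) r = s := mu_injective (maximalIdeal A) N h1
  rw [← h2, ← LinearMap.comp_apply, ← LinearMap.rTensor_comp, hπu, LinearMap.rTensor_zero,
    LinearMap.zero_apply]

include hmC H in
/-- Matsumura 22.5, second half: the map is injective. -/
theorem injective_of_fibre [Module.Finite C M] : Function.Injective u := by
  have hE : Module.Flat A (N ⧸ LinearMap.range u) := flat_coker hmC u H
  let uA : M →ₗ[A] N := u.restrictScalars A
  let πA : N →ₗ[A] (N ⧸ LinearMap.range u) := (LinearMap.range u).mkQ.restrictScalars A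
  have hπA : ∀ n, πA n = Submodule.Quotient.mk n := fun n => rfl
  have hπ : Function.Surjective πA := by
    intro x
    obtain ⟨n, rfl⟩ := Submodule.Quotient.mk_surjective _ x
    exact ⟨n, rfl⟩
  -- the range is flat
  have hex1 : Function.Exact (LinearMap.range uA).subtype πA := by
    intro n
    rw [hπA, Submodule.Quotient.mk_eq_zero]
    constructor
    · rintro ⟨y, rfl⟩
      exact ⟨⟨uA y, ⟨y, rfl⟩⟩, rfl⟩
    · rintro ⟨⟨_, ⟨y, rfl⟩⟩, rfl⟩
      exact ⟨y, rfl⟩
  haveI : Module.Flat A (LinearMap.range uA) :=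
    Groth.Agent.Lib.Helper1.Tor.flat_ker (LinearMap.range uA).subtype πA
      (Submodule.subtype_injective _) hπ hex1
  -- the kernel
  have hex2 : Function.Exact (LinearMap.ker uA).subtype uA.rangeRestrict := by
    intro y
    constructor
    · intro hy
      exact ⟨⟨y, by
        rw [LinearMap.mem_ker]
        exact congrArg Subtype.val hy⟩, rfl⟩
    · rintro ⟨⟨y, hy⟩, rfl⟩
      exact Subtype.ext (LinearMap.mem_ker.mp hy)
  have hinj : Function.Injective ((LinearMap.ker uA).subtype.lTensor (A ⧸ maximalIdeal A)) :=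
    LinearMap.lTensor_injective_of_exact_of_flat uA.rangeRestrict uA.surjective_rangeRestrict
      (LinearMap.ker uA).subtype (Submodule.subtype_injective _) hex2 (A ⧸ maximalIdeal A)
  have hK : ∀ κ : LinearMap.ker uA,
      κ ∈ (maximalIdeal A • ⊤ : Submodule A (LinearMap.ker uA)) := by
    intro κ
    have hκM : (κ : M) ∈ (maximalIdeal A • ⊤ : Submodule A M) := by
      apply H
      have : u (κ : M) = 0 := LinearMap.mem_ker.mp κ.2
      rw [this]
      exact Submodule.zero_mem _
    have h1 : ((LinearMap.ker uA).subtype.lTensor (A ⧸ maximalIdeal A))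
        ((1 : A ⧸ maximalIdeal A) ⊗ₜ[A] κ) = 0 := by
      rw [LinearMap.lTensor_tmul]
      apply (TensorProduct.quotTensorEquivQuotSMul M (maximalIdeal A)).injective
      rw [TensorProduct.quotTensorEquivQuotSMul_mk_one_tmul, map_zero,
        Submodule.Quotient.mk_eq_zero]
      exact hκM
    have h2 : ((1 : A ⧸ maximalIdeal A) ⊗ₜ[A] κ) = 0 := hinj (by rw [h1, map_zero])
    have h3 := congrArg (TensorProduct.quotTensorEquivQuotSMul (LinearMap.ker uA) (maximalIdeal A)) h2
    rw [TensorProduct.quotTensorEquivQuotSMul_mk_one_tmul, map_zero,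
      Submodule.Quotient.mk_eq_zero] at h3
    exact h3
  -- Nakayama
  haveI : IsNoetherian C M := isNoetherian_of_isNoetherianRing_of_finite C M
  have hfg : (LinearMap.ker u).FG := IsNoetherian.noetherian _
  have hle : LinearMap.ker u ≤ (maximalIdeal A).map (algebraMap A C) • LinearMap.ker u := by
    intro κ hκ
    have hκ' : κ ∈ LinearMap.ker uA := hκ
    have := hK ⟨κ, hκ'⟩
    have key : ∀ z : LinearMap.ker uA, z ∈ (maximalIdeal A • ⊤ : Submodule A (LinearMap.ker uA)) →
        (z : M) ∈ (maximalIdeal A).map (algebraMap A C) • LinearMap.ker u := by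
      intro z hz
      refine Submodule.smul_induction_on hz ?_ ?_
      · intro a ha k _
        have : ((a • k : LinearMap.ker uA) : M) = algebraMap A C a • (k : M) := by
          rw [Submodule.coe_smul, algebraMap_smul]
        rw [this]
        exact Submodule.smul_mem_smul (Ideal.mem_map_of_mem _ ha) k.2
      · intro x y hx hy
        rw [Submodule.coe_add]
        exact Submodule.add_mem _ hx hy
    exact key ⟨κ, hκ'⟩ this
  have hbot := Submodule.eq_bot_of_le_smul_of_le_jacobson_bot _ _ hfg hle hmC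
  exact LinearMap.ker_eq_bot.mp hbot

end M225

section
variable {C : Type u} [CommRing C] {M : Type u} [AddCommGroup M] [Module C M]

/-- quotients commute -/
noncomputable def quotQuotComm (S T : Submodule C M) :
    ((M ⧸ S) ⧸ T.map S.mkQ) ≃ₗ[C] ((M ⧸ T) ⧸ S.map T.mkQ) :=
  (Submodule.quotientQuotientEquivQuotientSup S T) ≪≫ₗ
    (Submodule.quotEquivOfEq _ _ (sup_comm S T)) ≪≫ₗ
    (Submodule.quotientQuotientEquivQuotientSup T S).symm

theorem map_mkQ_smul_top (S : Submodule C M) (I : Ideal C) :
    (I • (⊤ : Submodule C M)).map S.mkQ = I • (⊤ : Submodule C (M ⧸ S)) := by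
  rw [Submodule.map_smul'', Submodule.map_top, Submodule.range_mkQ]

theorem map_mkQ_pointwise_smul_top (T : Submodule C M) (r : C) :
    (r • (⊤ : Submodule C M)).map T.mkQ = r • (⊤ : Submodule C (M ⧸ T)) := by
  rw [Submodule.map_pointwise_smul, Submodule.map_top, Submodule.range_mkQ]

/-- `(M/rM)/I(M/rM) ≃ (M/IM)/r(M/IM)` -/
noncomputable def quotSMulTopQuotEquiv (r : C) (I : Ideal C) :
    (QuotSMulTop r M ⧸ I • (⊤ : Submodule C (QuotSMulTop r M))) ≃ₗ[C]
      QuotSMulTop r (M ⧸ I • (⊤ : Submodule C M)) :=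
  (Submodule.quotEquivOfEq _ _ (map_mkQ_smul_top (r • (⊤ : Submodule C M)) I).symm) ≪≫ₗ
    quotQuotComm (r • (⊤ : Submodule C M)) (I • (⊤ : Submodule C M)) ≪≫ₗ
    (Submodule.quotEquivOfEq _ _ (map_mkQ_pointwise_smul_top (I • (⊤ : Submodule C M)) r))

end

section Aux

variable {A C : Type u} [CommRing A] [CommRing C] [Algebra A C]

theorem mem_smul_top_iff (𝔞 : Ideal A) {M : Type u} [AddCommGroup M] [Module C M] [Module A M]
    [IsScalarTower A C M] (z : M) :
    z ∈ (𝔞 • ⊤ : Submodule A M) ↔ z ∈ (𝔞.map (algebraMap A C) • (⊤ : Submodule C M)) := by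
  have h := Ideal.smul_restrictScalars (R := A) (S := C) 𝔞 (⊤ : Submodule C M)
  rw [Submodule.restrictScalars_top] at h
  rw [← h, Submodule.restrictScalars_mem]

theorem range_lsmul {M : Type u} [AddCommGroup M] [Module C M] (r : C) :
    LinearMap.range (LinearMap.lsmul C M r) = r • (⊤ : Submodule C M) := by
  ext z
  rw [Submodule.mem_smul_pointwise_iff_exists]
  constructor
  · rintro ⟨y, rfl⟩
    exact ⟨y, Submodule.mem_top, rfl⟩
  · rintro ⟨y, -, rfl⟩
    exact ⟨y, rfl⟩

end Aux

section SeqT

variable {A C : Type u} [CommRing A] [CommRing C] [Algebra A C] [IsLocalRing A]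
  [IsNoetherianRing A] [IsNoetherianRing C]
  (hmC : (maximalIdeal A).map (algebraMap A C) ≤ (⊥ : Ideal C).jacobson)

include hmC in
/-- **Regular sequences on the fibre lift** (EGA 0_IV 15.1.16, Matsumura 22.5 Cor.): for `M` finite
over `C` and flat over `A`, a sequence weakly regular on `M/𝔪M` is weakly regular on `M` with all
successive quotients flat over `A`. -/
theorem isWeaklyRegular_and_flat_of_fibre (rs : List C) :
    ∀ (M : Type u) [AddCommGroup M] [Module C M] [Module A M] [IsScalarTower A C M]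
      [Module.Finite C M] [Module.Flat A M],
      IsWeaklyRegular (M ⧸ ((maximalIdeal A).map (algebraMap A C)) • (⊤ : Submodule C M)) rs →
      IsWeaklyRegular M rs ∧
        ∀ j ≤ rs.length, Module.Flat A (M ⧸ (Ideal.ofList (rs.take j) • (⊤ : Submodule C M))) := by
  induction rs with
  | nil =>
    intro M _ _ _ _ _ _ _
    refine ⟨IsWeaklyRegular.nil C M, fun j _ => ?_⟩
    rw [List.take_nil]
    exact (Module.Flat.equiv_iff ((Submodule.quotEquivOfEqBot _
      (by rw [Ideal.ofList_nil, Submodule.bot_smul])).restrictScalars A)).mpr inferInstance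
  | cons r rs' ih =>
    intro M _ _ _ _ _ _ h
    obtain ⟨hr, hrs'⟩ := (isWeaklyRegular_cons_iff _ r rs').mp h
    have H : ∀ y : M, (LinearMap.lsmul C M r) y ∈ (maximalIdeal A • ⊤ : Submodule A M) →
        y ∈ (maximalIdeal A • ⊤ : Submodule A M) := by
      intro y hy
      rw [mem_smul_top_iff (C := C)] at hy ⊢
      rw [← Submodule.Quotient.mk_eq_zero] at hy ⊢
      apply hr
      show r • (Submodule.Quotient.mk y : M ⧸ _) = r • 0
      rw [smul_zero]
      exact hy
    have hinj := injective_of_fibre hmC (LinearMap.lsmul C M r) H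
    have hflat := flat_coker hmC (LinearMap.lsmul C M r) H
    have hregM : IsSMulRegular M r := hinj
    haveI hflat' : Module.Flat A (QuotSMulTop r M) :=
      (Module.Flat.equiv_iff ((Submodule.quotEquivOfEq _ _ (range_lsmul r)).restrictScalars A)).mp
        hflat
    have hrs'' : IsWeaklyRegular (QuotSMulTop r M ⧸
        ((maximalIdeal A).map (algebraMap A C)) • (⊤ : Submodule C (QuotSMulTop r M))) rs' :=
      (LinearEquiv.isWeaklyRegular_congr (quotSMulTopQuotEquiv r _) rs').mpr hrs'
    obtain ⟨hreg', hfl'⟩ := ih (QuotSMulTop r M) hrs''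
    refine ⟨(isWeaklyRegular_cons_iff M r rs').mpr ⟨hregM, hreg'⟩, fun j hj => ?_⟩
    cases j with
    | zero =>
      rw [List.take_zero]
      exact (Module.Flat.equiv_iff ((Submodule.quotEquivOfEqBot _
        (by rw [Ideal.ofList_nil, Submodule.bot_smul])).restrictScalars A)).mpr inferInstance
    | succ j' =>
      rw [List.take_succ_cons]
      have hj' : j' ≤ rs'.length := by
        rw [List.length_cons] at hj
        omega
      exact (Module.Flat.equiv_iff ((Submodule.quotOfListConsSMulTopEquivQuotSMulTopInner M r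
        (rs'.take j')).restrictScalars A)).mpr (hfl' j' hj')

end SeqT

section SeqT'

variable {A C : Type u} [CommRing A] [CommRing C] [Algebra A C]

/-- a regular element with flat quotient stays regular modulo any ideal of the base -/
theorem isSMulRegular_quotient_of_flat (𝔞 : Ideal A) {M : Type u} [AddCommGroup M] [Module C M]
    [Module A M] [IsScalarTower A C M] (r : C) (hr : IsSMulRegular M r)
    [Module.Flat A (QuotSMulTop r M)] :
    IsSMulRegular (M ⧸ (𝔞.map (algebraMap A C)) • (⊤ : Submodule C M)) r := by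
  let uA : M →ₗ[A] M := (LinearMap.lsmul C M r).restrictScalars A
  let πA : M →ₗ[A] QuotSMulTop r M := (r • (⊤ : Submodule C M)).mkQ.restrictScalars A
  have hπA : ∀ n, πA n = Submodule.Quotient.mk n := fun n => rfl
  have hπ : Function.Surjective πA := by
    intro x
    obtain ⟨n, rfl⟩ := Submodule.Quotient.mk_surjective _ x
    exact ⟨n, rfl⟩
  have hex : Function.Exact uA πA := by
    intro y
    rw [hπA, Submodule.Quotient.mk_eq_zero, ← range_lsmul]
    rfl
  have hinj : Function.Injective (uA.lTensor (A ⧸ 𝔞)) :=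
    LinearMap.lTensor_injective_of_exact_of_flat πA hπ uA hr hex (A ⧸ 𝔞)
  have key : ∀ y : M, r • y ∈ (𝔞 • ⊤ : Submodule A M) → y ∈ (𝔞 • ⊤ : Submodule A M) := by
    intro y hy
    have h1 : (uA.lTensor (A ⧸ 𝔞)) ((1 : A ⧸ 𝔞) ⊗ₜ[A] y) = 0 := by
      rw [LinearMap.lTensor_tmul]
      apply (TensorProduct.quotTensorEquivQuotSMul M 𝔞).injective
      rw [TensorProduct.quotTensorEquivQuotSMul_mk_one_tmul, map_zero,
        Submodule.Quotient.mk_eq_zero]
      exact hy
    have h2 : ((1 : A ⧸ 𝔞) ⊗ₜ[A] y) = 0 := hinj (by rw [h1, map_zero])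
    have h3 := congrArg (TensorProduct.quotTensorEquivQuotSMul M 𝔞) h2
    rw [TensorProduct.quotTensorEquivQuotSMul_mk_one_tmul, map_zero,
      Submodule.Quotient.mk_eq_zero] at h3
    exact h3
  intro a b hab
  obtain ⟨a, rfl⟩ := Submodule.Quotient.mk_surjective _ a
  obtain ⟨b, rfl⟩ := Submodule.Quotient.mk_surjective _ b
  have hab' : r • (Submodule.Quotient.mk a : M ⧸ _) = r • Submodule.Quotient.mk b := hab
  rw [← Submodule.Quotient.mk_smul, ← Submodule.Quotient.mk_smul, Submodule.Quotient.eq,
    ← smul_sub, ← mem_smul_top_iff (C := C)] at hab'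
  rw [Submodule.Quotient.eq, ← mem_smul_top_iff (C := C)]
  exact key _ hab'

/-- **Transversally regular sequences stay regular on the fibres.** -/
theorem isWeaklyRegular_quotient_of_flat (𝔞 : Ideal A) (rs : List C) :
    ∀ (M : Type u) [AddCommGroup M] [Module C M] [Module A M] [IsScalarTower A C M],
      IsWeaklyRegular M rs →
      (∀ j ≤ rs.length, Module.Flat A (M ⧸ (Ideal.ofList (rs.take j) • (⊤ : Submodule C M)))) →
      IsWeaklyRegular (M ⧸ (𝔞.map (algebraMap A C)) • (⊤ : Submodule C M)) rs := by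
  induction rs with
  | nil =>
    intro M _ _ _ _ _ _
    exact IsWeaklyRegular.nil C _
  | cons r rs' ih =>
    intro M _ _ _ _ h hfl
    obtain ⟨hr, hrs'⟩ := (isWeaklyRegular_cons_iff M r rs').mp h
    have hfl' : ∀ j ≤ rs'.length, Module.Flat A
        (QuotSMulTop r M ⧸ (Ideal.ofList (rs'.take j) • (⊤ : Submodule C (QuotSMulTop r M)))) := by
      intro j hj
      have := hfl (j + 1) (by rw [List.length_cons]; omega)
      rw [List.take_succ_cons] at this
      exact (Module.Flat.equiv_iff ((Submodule.quotOfListConsSMulTopEquivQuotSMulTopInner M r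
        (rs'.take j)).restrictScalars A)).mp this
    haveI : Module.Flat A (QuotSMulTop r M) := by
      have h0 := hfl' 0 (Nat.zero_le _)
      rw [List.take_zero] at h0
      exact (Module.Flat.equiv_iff ((Submodule.quotEquivOfEqBot _
        (by rw [Ideal.ofList_nil, Submodule.bot_smul])).restrictScalars A)).mp h0
    have h1 := isSMulRegular_quotient_of_flat 𝔞 r hr
    have h2 := ih (QuotSMulTop r M) hrs' hfl'
    refine (isWeaklyRegular_cons_iff _ r rs').mpr ⟨h1, ?_⟩
    exact (LinearEquiv.isWeaklyRegular_congr (quotSMulTopQuotEquiv r _) rs').mp h2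

end SeqT'

end Groth.Agent.Lib.Helper7.FibReg
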