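import Mathlib
import Groth.Agent.Lib.Helper28FGDim
import Groth.Agent.Lib.Helper7FibReg

/-! # Relative global complete intersections: the local core (helper7)

* `isWeaklyRegular_of_faithfullyFlat`: faithfully flat descent of weakly regular sequences;
* `isRegular_localization_of_dim`: over a field, `dim k[x]/(G_1..G_c) = n - c` makes `G` a regular
  sequence at every prime containing it;
* `psi`, `psi_surjective`, `ker_psi`, `isWeaklyRegular_fibre_iff`: the fibre local ring
  `R[x]_{q'} / p R[x]_{q'}` is `κ(p)[x]_Q`;
* `isWeaklyRegular_and_flat_of_fibre_atPrime`: Noetherian fibre criterion at a prime.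
-/

set_option autoImplicit false
set_option linter.style.haveILetI false
set_option linter.unusedSectionVars false
universe u
open RingTheory.Sequence Module TensorProduct IsLocalRing Groth.Agent.Lib.Helper28
open scoped Pointwise

namespace Groth.Agent.Lib.Helper7.Synt

section Descent

variable {R S M N : Type*} [CommRing R] [CommRing S] [Algebra R S]
  [AddCommGroup M] [Module R M] [AddCommGroup N] [Module R N] [Module S N] [IsScalarTower R S N]
  [FaithfullyFlat R S]

theorem isSMulRegular_of_faithfullyFlat_of_isBaseChange {f : M →ₗ[R] N} (hf : IsBaseChange S f)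
    {x : R} (reg : IsSMulRegular N (algebraMap R S x)) : IsSMulRegular M x := by
  have h1 : (LinearMap.lsmul R M x).lTensor S = LinearMap.lsmul R (S ⊗[R] M) x := by
    apply TensorProduct.ext'
    intro s m
    simp [tmul_smul]
  have h2 : Function.Injective ((LinearMap.lsmul R M x).lTensor S) := by
    rw [h1]
    intro a b hab
    apply hf.equiv.injective
    apply reg
    have key : ∀ z : S ⊗[R] M, algebraMap R S x • hf.equiv z = hf.equiv (x • z) := by
      intro z
      rw [← algebraMap_smul S x z, map_smul]
    show algebraMap R S x • hf.equiv a = algebraMap R S x • hf.equiv b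
    rw [key, key]
    exact congrArg _ hab
  exact (Module.FaithfullyFlat.lTensor_injective_iff_injective R S _).mp h2

theorem isWeaklyRegular_of_faithfullyFlat_of_isBaseChange {f : M →ₗ[R] N} (hf : IsBaseChange S f)
    {rs : List R} (reg : IsWeaklyRegular N (rs.map (algebraMap R S))) : IsWeaklyRegular M rs := by
  induction rs generalizing M N with
  | nil => simp
  | cons x _ ih =>
    simp only [List.map_cons, isWeaklyRegular_cons_iff] at reg ⊢
    have e := (QuotSMulTop.algebraMapTensorEquivTensorQuotSMulTop x M S).symm ≪≫ₗ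
      QuotSMulTop.congr ((algebraMap R S) x) hf.equiv
    have hg : IsBaseChange S <|
        e.toLinearMap.restrictScalars R ∘ₗ TensorProduct.mk R S (QuotSMulTop x M) 1 :=
      IsBaseChange.of_equiv e (fun _ ↦ by simp)
    exact ⟨isSMulRegular_of_faithfullyFlat_of_isBaseChange hf reg.1, ih hg reg.2⟩

theorem isWeaklyRegular_of_faithfullyFlat {rs : List R}
    (reg : IsWeaklyRegular S (rs.map (algebraMap R S))) : IsWeaklyRegular R rs :=
  isWeaklyRegular_of_faithfullyFlat_of_isBaseChange (IsBaseChange.linearMap R S) reg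

end Descent


section Field
variable (k : Type u) [Field k] (n c : ℕ) (G : Fin c → MvPolynomial (Fin n) k)

theorem ofList_ofFn {A : Type u} [CommRing A] {c : ℕ} (G : Fin c → A) :
    Ideal.ofList (List.ofFn G) = Ideal.span (Set.range G) := by
  unfold Ideal.ofList
  congr 1
  ext x
  simp [List.mem_ofFn]

/-- if `k[x]/(G_1..G_c)` has dimension `n - c`, then `G` is a regular sequence at every prime
containing it -/
theorem isRegular_localization_of_dim (hcn : c ≤ n)
    (hdim : ringKrullDim (MvPolynomial (Fin n) k ⧸ Ideal.span (Set.range G)) = ((n - c : ℕ) : WithBot ℕ∞))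
    (Q : Ideal (MvPolynomial (Fin n) k)) [Q.IsPrime] (hQ : Ideal.span (Set.range G) ≤ Q) :
    IsRegular (Localization.AtPrime Q)
      ((List.ofFn G).map (algebraMap (MvPolynomial (Fin n) k) (Localization.AtPrime Q))) := by
  have hk : LocCoh.IsCohenMacaulayRing k := isCohenMacaulayRing_of_field k
  have hS : LocCoh.IsCohenMacaulayRing (MvPolynomial (Fin n) k) :=
    isCohenMacaulayRing_mvPolynomial_fin n
  have hKtop : Ideal.span (Set.range G) ≠ ⊤ := fun h => by
    rw [h] at hQ
    exact (inferInstance : Q.IsPrime).ne_top (top_le_iff.mp hQ)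
  have h1 := height_add_ringKrullDim_quotient_eq_of_forall_isMaximal_height_eq' n
    (height_eq_of_isMaximal_mvPolynomial_fin k n) _ hKtop
  rw [hdim] at h1
  have h2 : (Ideal.span (Set.range G)).height + ((n - c : ℕ) : ℕ∞) = (n : ℕ∞) := by
    have : (((Ideal.span (Set.range G)).height + ((n - c : ℕ) : ℕ∞) : ℕ∞) : WithBot ℕ∞) =
        ((n : ℕ∞) : WithBot ℕ∞) := by
      rw [WithBot.coe_add]; exact h1
    exact WithBot.coe_injective this
  have h3 : ((List.ofFn G).length : ℕ∞) ≤ (Ideal.ofList (List.ofFn G)).height := by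
    rw [List.length_ofFn, ofList_ofFn]
    have h4 : ((c : ℕ∞) + ((n - c : ℕ) : ℕ∞)) = (n : ℕ∞) := by
      have : c + (n - c) = n := by omega
      exact_mod_cast this
    rw [← h4] at h2
    exact le_of_eq ((ENat.add_left_injective_of_ne_top (ENat.natCast_ne_top (n - c))) h2).symm
  exact isRegular_map_localization_of_length_le_height _ h3 Q (by rw [ofList_ofFn]; exact hQ)

end Field


section Bridge

variable {R : Type u} [CommRing R] (p : Ideal R) [p.IsPrime] {σ : Type*}

/-- the map `R[x] → κ(p)[x]` -/
noncomputable abbrev phi : MvPolynomial σ R →+* MvPolynomial σ p.ResidueField :=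
  MvPolynomial.map (algebraMap R p.ResidueField)

theorem ker_phi : RingHom.ker (phi p (σ := σ)) = p.map MvPolynomial.C := by
  rw [phi, MvPolynomial.ker_map, Ideal.ker_algebraMap_residueField]

theorem exists_residue_mul_eq (a : p.ResidueField) :
    ∃ r ∉ p, ∃ b : R, algebraMap R p.ResidueField r * a = algebraMap R p.ResidueField b := by
  obtain ⟨x, rfl⟩ := IsLocalRing.residue_surjective a
  obtain ⟨⟨b, r⟩, rfl⟩ := IsLocalization.mk'_surjective p.primeCompl x
  refine ⟨r.1, r.2, b, ?_⟩
  rw [IsScalarTower.algebraMap_apply R (Localization.AtPrime p) p.ResidueField,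
    IsScalarTower.algebraMap_apply R (Localization.AtPrime p) p.ResidueField,
    IsLocalRing.ResidueField.algebraMap_eq, ← map_mul]
  congr 1
  exact IsLocalization.mk'_spec' _ b r

theorem isUnit_C_residue {r : R} (hr : r ∉ p) :
    IsUnit (MvPolynomial.C (σ := σ) (algebraMap R p.ResidueField r)) := by
  apply IsUnit.map
  rw [isUnit_iff_ne_zero, Ne, Ideal.algebraMap_residueField_eq_zero]
  exact hr

theorem exists_C_mul_eq_phi (y : MvPolynomial σ p.ResidueField) :
    ∃ r ∉ p, ∃ s : MvPolynomial σ R,
      MvPolynomial.C (algebraMap R p.ResidueField r) * y = phi p s := by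
  induction y using MvPolynomial.induction_on with
  | C a =>
    obtain ⟨r, hr, b, hb⟩ := exists_residue_mul_eq p a
    refine ⟨r, hr, MvPolynomial.C b, ?_⟩
    rw [phi, MvPolynomial.map_C, ← hb, map_mul]
  | add y₁ y₂ h₁ h₂ =>
    obtain ⟨r₁, hr₁, s₁, e₁⟩ := h₁
    obtain ⟨r₂, hr₂, s₂, e₂⟩ := h₂
    refine ⟨r₁ * r₂, (inferInstance : p.IsPrime).mul_notMem hr₁ hr₂,
      MvPolynomial.C r₂ * s₁ + MvPolynomial.C r₁ * s₂, ?_⟩
    have h : phi p (MvPolynomial.C r₂ * s₁ + MvPolynomial.C r₁ * s₂) =
        MvPolynomial.C (algebraMap R p.ResidueField r₂) * phi p s₁ +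
          MvPolynomial.C (algebraMap R p.ResidueField r₁) * phi p s₂ := by
      simp [phi]
    rw [h, ← e₁, ← e₂, map_mul (algebraMap R p.ResidueField), map_mul MvPolynomial.C]
    ring
  | mul_X y i h =>
    obtain ⟨r, hr, s, e⟩ := h
    refine ⟨r, hr, s * MvPolynomial.X i, ?_⟩
    have h : phi p (s * MvPolynomial.X i) = phi p s * MvPolynomial.X i := by
      simp [phi]
    rw [h, ← e]
    ring

variable (Q : Ideal (MvPolynomial σ p.ResidueField)) [Q.IsPrime]

theorem comap_C_comap_phi : (Q.comap (phi p)).comap MvPolynomial.C = p := by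
  ext r
  rw [Ideal.mem_comap, Ideal.mem_comap, phi, MvPolynomial.map_C]
  constructor
  · intro h
    by_contra hr
    exact (inferInstance : Q.IsPrime).ne_top (Ideal.eq_top_of_isUnit_mem _ h (isUnit_C_residue p hr))
  · intro h
    rw [Ideal.algebraMap_residueField_eq_zero.mpr h, map_zero]
    exact Q.zero_mem

theorem C_notMem_comap_phi {r : R} (hr : r ∉ p) : MvPolynomial.C r ∉ Q.comap (phi p) := by
  intro h
  apply hr
  rw [← comap_C_comap_phi p Q]
  exact h

/-- every element outside `Q` divides the image of an element outside `q'`. -/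
theorem exists_notMem_comap_phi {t : MvPolynomial σ p.ResidueField} (ht : t ∉ Q) :
    ∃ r ∉ p, ∃ s : MvPolynomial σ R, s ∉ Q.comap (phi p) ∧
      MvPolynomial.C (algebraMap R p.ResidueField r) * t = phi p s := by
  obtain ⟨r, hr, s, e⟩ := exists_C_mul_eq_phi p t
  refine ⟨r, hr, s, ?_, e⟩
  rw [Ideal.mem_comap, ← e]
  intro h
  rcases (inferInstance : Q.IsPrime).mem_or_mem h with h | h
  · exact (inferInstance : Q.IsPrime).ne_top (Ideal.eq_top_of_isUnit_mem _ h (isUnit_C_residue p hr))
  · exact ht h

/-- the comparison map `R[x]_{q'} → κ(p)[x]_Q` -/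
noncomputable def psi : Localization.AtPrime (Q.comap (phi p)) →+* Localization.AtPrime Q :=
  Localization.localRingHom (Q.comap (phi p)) Q (phi p) rfl

theorem psi_algebraMap (x : MvPolynomial σ R) :
    psi p Q (algebraMap _ _ x) = algebraMap _ (Localization.AtPrime Q) (phi p x) :=
  Localization.localRingHom_to_map _ _ _ rfl x

theorem psi_surjective : Function.Surjective (psi p Q) := by
  intro d
  obtain ⟨⟨y, t⟩, rfl⟩ := IsLocalization.mk'_surjective Q.primeCompl d
  obtain ⟨r₁, hr₁, s₁, e₁⟩ := exists_C_mul_eq_phi p y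
  obtain ⟨r₂, hr₂, s₂, hs₂, e₂⟩ := exists_notMem_comap_phi p Q t.2
  have hmem : MvPolynomial.C r₁ * s₂ ∈ (Q.comap (phi p)).primeCompl :=
    (Q.comap (phi p)).primeCompl.mul_mem (C_notMem_comap_phi p Q hr₁) hs₂
  refine ⟨IsLocalization.mk' _ (MvPolynomial.C r₂ * s₁) ⟨MvPolynomial.C r₁ * s₂, hmem⟩, ?_⟩
  rw [psi, Localization.localRingHom_mk']
  apply IsLocalization.mk'_eq_of_eq
  have h1 : phi p (MvPolynomial.C r₁ * s₂) =
      MvPolynomial.C (algebraMap R p.ResidueField r₁) * phi p s₂ := by simp [phi]
  have h2 : phi p (MvPolynomial.C r₂ * s₁) =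
      MvPolynomial.C (algebraMap R p.ResidueField r₂) * phi p s₁ := by simp [phi]
  show phi p (MvPolynomial.C r₁ * s₂) * y =
    (t : MvPolynomial σ p.ResidueField) * phi p (MvPolynomial.C r₂ * s₁)
  rw [h1, h2, ← e₁, ← e₂]
  ring

theorem ker_psi : RingHom.ker (psi p Q) =
    p.map (algebraMap R (Localization.AtPrime (Q.comap (phi p)))) := by
  apply le_antisymm
  · intro x hx
    obtain ⟨⟨a, s⟩, rfl⟩ := IsLocalization.mk'_surjective (Q.comap (phi p)).primeCompl x
    rw [RingHom.mem_ker, psi, Localization.localRingHom_mk', IsLocalization.mk'_eq_zero_iff] at hx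
    obtain ⟨t, ht⟩ := hx
    obtain ⟨r, hr, t₀, ht₀, e⟩ := exists_notMem_comap_phi p Q t.2
    have h1 : t₀ * a ∈ RingHom.ker (phi p (σ := σ)) := by
      rw [RingHom.mem_ker, map_mul, ← e, mul_assoc, ht, mul_zero]
    rw [ker_phi] at h1
    have h2 : p.map (algebraMap R (Localization.AtPrime (Q.comap (phi p)))) =
        (p.map (MvPolynomial.C (σ := σ))).map (algebraMap _ _) := by
      rw [Ideal.map_map]
      rfl
    rw [h2, IsLocalization.mk'_mem_map_algebraMap_iff (Q.comap (phi p)).primeCompl]
    exact ⟨t₀, ht₀, h1⟩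
  · rw [Ideal.map_le_iff_le_comap]
    intro a ha
    rw [Ideal.mem_comap, RingHom.mem_ker,
      IsScalarTower.algebraMap_apply R (MvPolynomial σ R), psi_algebraMap]
    rw [MvPolynomial.algebraMap_eq, phi, MvPolynomial.map_C,
      Ideal.algebraMap_residueField_eq_zero.mpr ha, map_zero, map_zero]

/-- `psi` as a linear map, `κ(p)[x]_Q` being a module over `R[x]_{q'}` via `psi` -/
noncomputable def psiLin :
    letI : Module (Localization.AtPrime (Q.comap (phi p))) (Localization.AtPrime Q) :=
      Module.compHom _ (psi p Q)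
    Localization.AtPrime (Q.comap (phi p)) →ₗ[Localization.AtPrime (Q.comap (phi p))]
      Localization.AtPrime Q :=
  letI : Module (Localization.AtPrime (Q.comap (phi p))) (Localization.AtPrime Q) :=
    Module.compHom _ (psi p Q)
  { toFun := psi p Q
    map_add' := map_add _
    map_smul' := fun r x => by
      show psi p Q (r * x) = psi p Q r * psi p Q x
      exact map_mul _ _ _ }

theorem ker_psiLin :
    letI : Module (Localization.AtPrime (Q.comap (phi p))) (Localization.AtPrime Q) :=
      Module.compHom _ (psi p Q)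
    LinearMap.ker (psiLin p Q) =
      (p.map (algebraMap R (Localization.AtPrime (Q.comap (phi p)))) •
        (⊤ : Submodule (Localization.AtPrime (Q.comap (phi p)))
          (Localization.AtPrime (Q.comap (phi p))))) := by
  letI : Module (Localization.AtPrime (Q.comap (phi p))) (Localization.AtPrime Q) :=
    Module.compHom _ (psi p Q)
  rw [smul_eq_mul, Ideal.mul_top, ← ker_psi]
  ext x
  rfl

/-- the additive identification of the fibre `R[x]_{q'} / p R[x]_{q'}` with `κ(p)[x]_Q` -/
noncomputable def fibreEquiv :
    (Localization.AtPrime (Q.comap (phi p)) ⧸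
      (p.map (algebraMap R (Localization.AtPrime (Q.comap (phi p)))) •
        (⊤ : Submodule (Localization.AtPrime (Q.comap (phi p)))
          (Localization.AtPrime (Q.comap (phi p)))))) ≃+ Localization.AtPrime Q :=
  letI : Module (Localization.AtPrime (Q.comap (phi p))) (Localization.AtPrime Q) :=
    Module.compHom _ (psi p Q)
  ((Submodule.quotEquivOfEq _ _ (ker_psiLin p Q).symm).trans
    ((psiLin p Q).quotKerEquivOfSurjective (psi_surjective p Q))).toAddEquiv

theorem fibreEquiv_mk (l : Localization.AtPrime (Q.comap (phi p))) :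
    fibreEquiv p Q (Submodule.Quotient.mk l) = psi p Q l := rfl

/-- **Bridge**: weak regularity in `κ(p)[x]_Q` is weak regularity on the fibre of `R[x]_{q'}`. -/
theorem isWeaklyRegular_fibre_iff (rs : List (MvPolynomial σ R)) :
    IsWeaklyRegular (Localization.AtPrime (Q.comap (phi p)) ⧸
      (p.map (algebraMap R (Localization.AtPrime (Q.comap (phi p)))) •
        (⊤ : Submodule (Localization.AtPrime (Q.comap (phi p)))
          (Localization.AtPrime (Q.comap (phi p))))))
      (rs.map (algebraMap _ (Localization.AtPrime (Q.comap (phi p))))) ↔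
    IsWeaklyRegular (Localization.AtPrime Q)
      ((rs.map (phi p)).map (algebraMap _ (Localization.AtPrime Q))) := by
  refine AddEquiv.isWeaklyRegular_congr (e := fibreEquiv p Q) ?_
  rw [List.map_map, List.forall₂_map_left_iff, List.forall₂_map_right_iff]
  refine List.forall₂_same.mpr fun f _ x => ?_
  obtain ⟨l, rfl⟩ := Submodule.Quotient.mk_surjective _ x
  rw [← Submodule.Quotient.mk_smul]
  show fibreEquiv p Q (Submodule.Quotient.mk _) = _ • fibreEquiv p Q (Submodule.Quotient.mk l)
  rw [fibreEquiv_mk, fibreEquiv_mk, smul_eq_mul, map_mul, psi_algebraMap, Function.comp_apply,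
    smul_eq_mul]

end Bridge


section NoethCore

variable {R B : Type u} [CommRing R] [CommRing B] [Algebra R B] [IsNoetherianRing R]
  [IsNoetherianRing B] [Module.Flat R B] (q : Ideal B) [q.IsPrime]

/-- **Noetherian core**: a sequence weakly regular on the fibre local ring `B_q / p B_q` is
weakly regular on `B_q` with all successive quotients flat over `R`. -/
theorem isWeaklyRegular_and_flat_of_fibre_atPrime (rs : List (Localization.AtPrime q))
    (h : IsWeaklyRegular (Localization.AtPrime q ⧸
      ((q.comap (algebraMap R B)).map (algebraMap R (Localization.AtPrime q)) •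
        (⊤ : Submodule (Localization.AtPrime q) (Localization.AtPrime q)))) rs) :
    IsWeaklyRegular (Localization.AtPrime q) rs ∧
      ∀ j ≤ rs.length, Module.Flat R (Localization.AtPrime q ⧸
        (Ideal.ofList (rs.take j) • (⊤ : Submodule (Localization.AtPrime q)
          (Localization.AtPrime q)))) := by
  set p := q.comap (algebraMap R B) with hp
  let A := Localization.AtPrime p
  let L := Localization.AtPrime q
  let f : A →+* L := Localization.localRingHom p q (algebraMap R B) rfl
  letI : Algebra A L := f.toAlgebra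
  haveI : IsScalarTower R A L := IsScalarTower.of_algebraMap_eq fun r => by
    show algebraMap R L r = f (algebraMap R A r)
    rw [Localization.localRingHom_to_map, ← IsScalarTower.algebraMap_apply]
  haveI : IsLocalHom (algebraMap A L) := Localization.isLocalHom_localRingHom p q _ rfl
  have hmC : (maximalIdeal A).map (algebraMap A L) ≤ (⊥ : Ideal L).jacobson := by
    rw [IsLocalRing.jacobson_eq_maximalIdeal ⊥ bot_ne_top]
    exact IsLocalRing.map_maximalIdeal_le (algebraMap A L)
  haveI : IsNoetherianRing L := IsLocalization.isNoetherianRing q.primeCompl L inferInstance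
  haveI : IsNoetherianRing A := IsLocalization.isNoetherianRing p.primeCompl A inferInstance
  haveI : Module.Flat B L := IsLocalization.flat L q.primeCompl
  haveI : Module.Flat R L := Module.Flat.trans R B L
  haveI : Module.Flat A L := (Module.flat_iff_of_isLocalization A p.primeCompl L).mpr inferInstance
  have hmap : (maximalIdeal A).map (algebraMap A L) = p.map (algebraMap R L) := by
    rw [← Localization.AtPrime.map_eq_maximalIdeal, Ideal.map_map, ← IsScalarTower.algebraMap_eq]
  rw [← hmap] at h
  obtain ⟨h1, h2⟩ := FibReg.isWeaklyRegular_and_flat_of_fibre hmC rs L h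
  refine ⟨h1, fun j hj => ?_⟩
  haveI := h2 j hj
  exact Module.Flat.trans R A _

end NoethCore


end Groth.Agent.Lib.Helper7.Synt
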