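import Mathlib
import Groth.Agent.Lib.Helper7Synt1

/-! # Base change of transversally regular sequences at a prime (helper7) -/

set_option autoImplicit false
set_option linter.style.haveILetI false
set_option linter.unusedSectionVars false
universe u
open RingTheory.Sequence Module TensorProduct IsLocalRing
open scoped Pointwise

namespace Groth.Agent.Lib.Helper7.Synt

section BC1

variable {A : Type u} [CommRing A] (X : Type u) [AddCommGroup X] [Module A X]
  {N N' : Type u} [CommRing N] [CommRing N'] [Algebra A N] [Algebra A N']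

/-- a regular element with flat quotient stays regular after any base change (tensor form) -/
theorem lTensor_mulLeft_injective (π : N →ₐ[A] N') (hπ : Function.Surjective π) (x : N)
    (hx : IsSMulRegular N x) (hker : RingHom.ker π.toRingHom = Ideal.span {x}) [Module.Flat A N'] :
    Function.Injective ((LinearMap.mulLeft A x).lTensor X) := by
  have hex : Function.Exact (LinearMap.mulLeft A x) π.toLinearMap := by
    intro y
    have : π.toLinearMap y = 0 ↔ y ∈ RingHom.ker π.toRingHom := Iff.rfl
    rw [this, hker, Ideal.mem_span_singleton']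
    constructor
    · rintro ⟨z, rfl⟩
      exact ⟨z, mul_comm _ _⟩
    · rintro ⟨z, rfl⟩
      exact ⟨z, mul_comm _ _⟩
  exact LinearMap.lTensor_injective_of_exact_of_flat π.toLinearMap hπ (LinearMap.mulLeft A x) hx hex X

end BC1

section BC2

variable {R₀ R N : Type u} [CommRing R₀] [CommRing R] [CommRing N] [Algebra R₀ R] [Algebra R₀ N]

/-- stage lemma at the tensor level -/
theorem isSMulRegular_tensor_quotient (I : Ideal N) (x : N)
    (hx : IsSMulRegular (N ⧸ I) (Ideal.Quotient.mk I x))
    [Module.Flat R₀ (N ⧸ (I ⊔ Ideal.span {x}))] :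
    IsSMulRegular ((R ⊗[R₀] N) ⧸ I.map (Algebra.TensorProduct.includeRight (R := R₀) (A := R)))
      (Ideal.Quotient.mk (I.map (Algebra.TensorProduct.includeRight (R := R₀) (A := R)))
        ((1 : R) ⊗ₜ[R₀] x)) := by
  have hle : I ≤ I ⊔ Ideal.span {x} := le_sup_left
  let π : (N ⧸ I) →ₐ[R₀] (N ⧸ (I ⊔ Ideal.span {x})) := Ideal.Quotient.factorₐ R₀ hle
  have hπ : Function.Surjective π := Ideal.Quotient.factor_surjective hle
  have hker : RingHom.ker π.toRingHom = Ideal.span {Ideal.Quotient.mk I x} := by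
    have h1 : RingHom.ker π.toRingHom = (I ⊔ Ideal.span {x}).map (Ideal.Quotient.mk I) :=
      Ideal.Quotient.factor_ker hle
    rw [h1, Ideal.map_sup, Ideal.map_quotient_self, bot_sup_eq, Ideal.map_span, Set.image_singleton]
  have hinj := lTensor_mulLeft_injective (A := R₀) R π hπ _ hx hker
  let τ := Algebra.TensorProduct.tensorQuotientEquiv (R := R₀) R N R I
  have hmul : ∀ z : R ⊗[R₀] (N ⧸ I),
      (LinearMap.mulLeft R₀ (Ideal.Quotient.mk I x)).lTensor R z =
        ((1 : R) ⊗ₜ[R₀] (Ideal.Quotient.mk I x)) * z := by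
    intro z
    induction z with
    | zero => simp
    | add a b ha hb => rw [map_add, ha, hb, mul_add]
    | tmul r n =>
      rw [LinearMap.lTensor_tmul, Algebra.TensorProduct.tmul_mul_tmul, one_mul]
      rfl
  have hτ : τ ((1 : R) ⊗ₜ[R₀] (Ideal.Quotient.mk I x)) = Ideal.Quotient.mk _ ((1 : R) ⊗ₜ[R₀] x) :=
    rfl
  intro a b hab
  have hab' : Ideal.Quotient.mk _ ((1 : R) ⊗ₜ[R₀] x) * a = Ideal.Quotient.mk _ ((1 : R) ⊗ₜ[R₀] x) * b :=
    hab
  apply τ.symm.injective
  apply hinj
  rw [hmul, hmul]
  apply τ.injective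
  rw [map_mul, map_mul, hτ, AlgEquiv.apply_symm_apply, AlgEquiv.apply_symm_apply]
  exact hab'

end BC2

section BC3
variable {E L : Type u} [CommRing E] [CommRing L] [Algebra E L] (W : Submonoid E)
  [IsLocalization W L]

include W in
theorem isSMulRegular_localization_quotient (I : Ideal E) (y : E)
    (hy : IsSMulRegular (E ⧸ I) (Ideal.Quotient.mk I y)) :
    IsSMulRegular (L ⧸ I.map (algebraMap E L))
      (Ideal.Quotient.mk (I.map (algebraMap E L)) (algebraMap E L y)) := by
  haveI : IsLocalization (Algebra.algebraMapSubmonoid (E ⧸ I) W) (L ⧸ I.map (algebraMap E L)) :=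
    inferInstance
  haveI : Module.Flat (E ⧸ I) (L ⧸ I.map (algebraMap E L)) :=
    IsLocalization.flat _ (Algebra.algebraMapSubmonoid (E ⧸ I) W)
  exact IsSMulRegular.of_flat (R := E ⧸ I) (S := L ⧸ I.map (algebraMap E L)) hy

include W in
theorem flat_localization_quotient {R : Type u} [CommRing R] [Algebra R E] [Algebra R L]
    [IsScalarTower R E L] (I : Ideal E) [Module.Flat R (E ⧸ I)] :
    Module.Flat R (L ⧸ I.map (algebraMap E L)) := by
  haveI : IsLocalization (Algebra.algebraMapSubmonoid (E ⧸ I) W) (L ⧸ I.map (algebraMap E L)) :=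
    inferInstance
  haveI : Module.Flat (E ⧸ I) (L ⧸ I.map (algebraMap E L)) :=
    IsLocalization.flat _ (Algebra.algebraMapSubmonoid (E ⧸ I) W)
  haveI : IsScalarTower R (E ⧸ I) (L ⧸ I.map (algebraMap E L)) :=
    IsScalarTower.of_algebraMap_eq fun r => by
      rw [IsScalarTower.algebraMap_apply R L (L ⧸ I.map (algebraMap E L)),
        IsScalarTower.algebraMap_apply R E L, IsScalarTower.algebraMap_apply R E (E ⧸ I)]
      rfl
  exact Module.Flat.trans R (E ⧸ I) _

end BC3

section Forms

variable {A C : Type u} [CommRing A] [CommRing C] [Algebra A C]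

/-- ideal quotient versus `I • ⊤` quotient -/
noncomputable def quotSMulTopEquivQuot' (I : Ideal C) :
    (C ⧸ (I • (⊤ : Submodule C C))) ≃ₗ[C] (C ⧸ I) :=
  Submodule.quotEquivOfEq _ _ (by rw [smul_eq_mul, Ideal.mul_top])

theorem flat_quot_iff' (I : Ideal C) :
    Module.Flat A (C ⧸ (I • (⊤ : Submodule C C))) ↔ Module.Flat A (C ⧸ I) :=
  Module.Flat.equiv_iff ((quotSMulTopEquivQuot' I).restrictScalars A)

theorem isSMulRegular_quot_iff (I : Ideal C) (y : C) :
    IsSMulRegular (C ⧸ (I • (⊤ : Submodule C C))) y ↔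
      IsSMulRegular (C ⧸ I) (Ideal.Quotient.mk I y) := by
  rw [(quotSMulTopEquivQuot' I).isSMulRegular_congr y]
  have : (fun z : C ⧸ I => y • z) = (fun z : C ⧸ I => Ideal.Quotient.mk I y • z) := by
    funext z
    obtain ⟨z, rfl⟩ := Ideal.Quotient.mk_surjective z
    rfl
  unfold IsSMulRegular
  rw [this]

end Forms

section BCloc

variable {R₀ R B₀ : Type u} [CommRing R₀] [CommRing R] [CommRing B₀] [Algebra R₀ R]
  [Algebra R₀ B₀] (q : Ideal (R ⊗[R₀] B₀)) [q.IsPrime] (q₀ : Ideal B₀) [q₀.IsPrime]
  (hq₀ : q.comap (Algebra.TensorProduct.includeRight (R := R₀) (A := R)).toRingHom = q₀)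
  (L : Type u) [CommRing L] [Algebra (R ⊗[R₀] B₀) L] [IsLocalization.AtPrime L q] [Algebra R L]
  [IsScalarTower R (R ⊗[R₀] B₀) L]

include hq₀ in
/-- **Base change of a transversally regular sequence at a prime.** -/
theorem baseChange_atPrime (rs₀ : List B₀)
    (h₁ : IsWeaklyRegular (Localization.AtPrime q₀)
      (rs₀.map (algebraMap B₀ (Localization.AtPrime q₀))))
    (h₂ : ∀ j ≤ rs₀.length, Module.Flat R₀ (Localization.AtPrime q₀ ⧸
      (Ideal.ofList ((rs₀.map (algebraMap B₀ (Localization.AtPrime q₀))).take j) •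
        (⊤ : Submodule (Localization.AtPrime q₀) (Localization.AtPrime q₀))))) :
    IsWeaklyRegular L (rs₀.map (fun b => algebraMap (R ⊗[R₀] B₀) L (1 ⊗ₜ b))) ∧
      ∀ j ≤ rs₀.length, Module.Flat R (L ⧸
        (Ideal.ofList ((rs₀.map (fun b => algebraMap (R ⊗[R₀] B₀) L (1 ⊗ₜ b))).take j) •
          (⊤ : Submodule L L))) := by
  let L₀ := Localization.AtPrime q₀
  let B := R ⊗[R₀] B₀
  let E := R ⊗[R₀] L₀
  let θ : B →ₐ[R] E :=
    Algebra.TensorProduct.map (AlgHom.id R R) (IsScalarTower.toAlgHom R₀ B₀ L₀)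
  letI : Algebra B E := θ.toRingHom.toAlgebra
  haveI : IsScalarTower R B E := IsScalarTower.of_algebraMap_eq fun r => (θ.commutes r).symm
  have hE : IsLocalization
      (q₀.primeCompl.map (Algebra.TensorProduct.includeRight (R := R₀) (A := R))) E :=
    IsLocalization.tensorProduct_tensorProduct_right R₀ R q₀.primeCompl L₀
      (by
        ext x
        exact Algebra.TensorProduct.map_tmul _ _ _ _)
  have hle : q₀.primeCompl.map (Algebra.TensorProduct.includeRight (R := R₀) (A := R)) ≤
      q.primeCompl := by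
    rintro _ ⟨b, hb, rfl⟩
    intro hmem
    apply hb
    rw [← hq₀]
    exact hmem
  let g : E →+* L := IsLocalization.lift
    (M := q₀.primeCompl.map (Algebra.TensorProduct.includeRight (R := R₀) (A := R)))
    (g := algebraMap B L) (fun w => IsLocalization.map_units L ⟨w.1, hle w.2⟩)
  letI : Algebra E L := g.toAlgebra
  haveI : IsScalarTower B E L := IsScalarTower.of_algebraMap_eq fun b =>
    (IsLocalization.lift_eq _ b).symm
  haveI : IsScalarTower R E L := IsScalarTower.of_algebraMap_eq fun r => by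
    calc algebraMap R L r = algebraMap B L (algebraMap R B r) :=
          IsScalarTower.algebraMap_apply R B L r
      _ = g (algebraMap B E (algebraMap R B r)) := (IsLocalization.lift_eq _ _).symm
      _ = g (algebraMap R E r) := by rw [← IsScalarTower.algebraMap_apply R B E]
  haveI hL : IsLocalization (q.primeCompl.map (algebraMap B E)) L :=
    IsLocalization.isLocalization_of_submonoid_le E L _ q.primeCompl hle
  -- the three lists
  let incR : L₀ →+* E := (Algebra.TensorProduct.includeRight (R := R₀) (A := R)).toRingHom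
  set y₀ : List L₀ := rs₀.map (algebraMap B₀ L₀) with hy₀
  have hyL : rs₀.map (fun b => algebraMap B L (1 ⊗ₜ b)) = (y₀.map incR).map (algebraMap E L) := by
    rw [hy₀, List.map_map, List.map_map]
    apply List.map_congr_left
    intro b _
    simp only [Function.comp_apply]
    have : incR (algebraMap B₀ L₀ b) = algebraMap B E ((1 : R) ⊗ₜ[R₀] b) := by
      show (1 : R) ⊗ₜ[R₀] (algebraMap B₀ L₀ b) = θ ((1 : R) ⊗ₜ[R₀] b)
      exact (Algebra.TensorProduct.map_tmul (AlgHom.id R R) (IsScalarTower.toAlgHom R₀ B₀ L₀)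
        (1 : R) b).symm
    rw [this, ← IsScalarTower.algebraMap_apply B E L]
  rw [hyL]
  have hideal : ∀ j, Ideal.ofList (((y₀.map incR).map (algebraMap E L)).take j) =
      ((Ideal.ofList (y₀.take j)).map incR).map (algebraMap E L) := by
    intro j
    rw [Ideal.map_ofList, Ideal.map_ofList, List.map_take, List.map_take]
  have hlen : y₀.length = rs₀.length := by rw [hy₀, List.length_map]
  have hflat₀ : ∀ j ≤ rs₀.length, Module.Flat R₀ (L₀ ⧸ Ideal.ofList (y₀.take j)) := fun j hj =>
    (flat_quot_iff' _).mp (h₂ j hj)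
  have hflatE : ∀ j ≤ rs₀.length, Module.Flat R (E ⧸ (Ideal.ofList (y₀.take j)).map incR) := by
    intro j hj
    haveI := hflat₀ j hj
    exact Module.Flat.of_linearEquiv
      (Algebra.TensorProduct.tensorQuotientEquiv (R := R₀) R L₀ R
        (Ideal.ofList (y₀.take j))).symm.toLinearEquiv
  refine ⟨?_, fun j hj => ?_⟩
  · rw [isWeaklyRegular_iff]
    intro i hi
    have hi₀ : i < y₀.length := by simpa using hi
    have hreg₀ := (isWeaklyRegular_iff L₀ y₀).mp h₁ i hi₀
    rw [isSMulRegular_quot_iff] at hreg₀ ⊢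
    haveI : Module.Flat R₀ (L₀ ⧸ (Ideal.ofList (y₀.take i) ⊔ Ideal.span {y₀[i]})) := by
      have := hflat₀ (i + 1) (by omega)
      rwa [List.take_succ_eq_append_getElem hi₀, Ideal.ofList_append, Ideal.ofList_singleton]
        at this
    have hE1 := isSMulRegular_tensor_quotient (R₀ := R₀) (R := R) (Ideal.ofList (y₀.take i))
      y₀[i] hreg₀
    have hL1 := isSMulRegular_localization_quotient (L := L) (q.primeCompl.map (algebraMap B E))
      _ _ hE1
    rw [hideal]
    have helt : ((y₀.map incR).map (algebraMap E L))[i] =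
        algebraMap E L ((1 : R) ⊗ₜ[R₀] y₀[i]) := by
      rw [List.getElem_map, List.getElem_map]
      rfl
    rw [helt]
    exact hL1
  · rw [flat_quot_iff', hideal]
    haveI := hflatE j hj
    exact flat_localization_quotient (q.primeCompl.map (algebraMap B E)) _

end BCloc

end Groth.Agent.Lib.Helper7.Synt
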