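import Mathlib
import Groth.Agent.Lib.Helper7Synt2

/-! # Fibre criterion for polynomial rings over an arbitrary base (helper7)

`isWeaklyRegular_and_flat_of_fibre_mvPolynomial`: EGA IV 11.3.8 for polynomial rings, by reduction to
a finitely generated `ℤ`-subalgebra of the base.
-/

set_option autoImplicit false
set_option linter.style.haveILetI false
set_option linter.unusedSectionVars false
universe u
open RingTheory.Sequence Module TensorProduct IsLocalRing
open scoped Pointwise

namespace Groth.Agent.Lib.Helper7.Synt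

section BCPoly

variable {R₀ R : Type u} [CommRing R₀] [CommRing R] [Algebra R₀ R] {σ : Type}
  (q' : Ideal (MvPolynomial σ R)) [q'.IsPrime] (q₀ : Ideal (MvPolynomial σ R₀)) [q₀.IsPrime]
  (hq₀ : q'.comap (MvPolynomial.map (algebraMap R₀ R)) = q₀)

include hq₀ in
/-- base change of a transversally regular sequence at a prime, for polynomial rings -/
theorem baseChange_mvPolynomial (rs₀ : List (MvPolynomial σ R₀))
    (h₁ : IsWeaklyRegular (Localization.AtPrime q₀)
      (rs₀.map (algebraMap (MvPolynomial σ R₀) (Localization.AtPrime q₀))))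
    (h₂ : ∀ j ≤ rs₀.length, Module.Flat R₀ (Localization.AtPrime q₀ ⧸
      (Ideal.ofList ((rs₀.map (algebraMap (MvPolynomial σ R₀) (Localization.AtPrime q₀))).take j) •
        (⊤ : Submodule (Localization.AtPrime q₀) (Localization.AtPrime q₀))))) :
    IsWeaklyRegular (Localization.AtPrime q')
        ((rs₀.map (MvPolynomial.map (algebraMap R₀ R))).map
          (algebraMap (MvPolynomial σ R) (Localization.AtPrime q'))) ∧
      ∀ j ≤ rs₀.length, Module.Flat R (Localization.AtPrime q' ⧸
        (Ideal.ofList (((rs₀.map (MvPolynomial.map (algebraMap R₀ R))).map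
          (algebraMap (MvPolynomial σ R) (Localization.AtPrime q'))).take j) •
          (⊤ : Submodule (Localization.AtPrime q') (Localization.AtPrime q')))) := by
  let P₀ := MvPolynomial σ R₀
  let P := MvPolynomial σ R
  let L := Localization.AtPrime q'
  let e : R ⊗[R₀] P₀ ≃ₐ[R] P := MvPolynomial.algebraTensorAlgEquiv R₀ R
  have he : ∀ b : P₀, e ((1 : R) ⊗ₜ[R₀] b) = MvPolynomial.map (algebraMap R₀ R) b := by
    intro b
    rw [MvPolynomial.algebraTensorAlgEquiv_tmul, one_smul]
  let q : Ideal (R ⊗[R₀] P₀) := q'.comap e.toRingEquiv.toRingHom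
  haveI : q.IsPrime := Ideal.comap_isPrime _ _
  letI : Algebra (R ⊗[R₀] P₀) L := ((algebraMap P L).comp e.toRingEquiv.toRingHom).toAlgebra
  have halg : ∀ x : R ⊗[R₀] P₀, algebraMap (R ⊗[R₀] P₀) L x = algebraMap P L (e x) := fun x => rfl
  haveI : IsLocalization.AtPrime L q := by
    refine IsLocalization.of_ringEquiv_left (M₁ := q'.primeCompl) e.toRingEquiv ?_ halg
    ext x
    constructor
    · rintro ⟨y, hy, rfl⟩
      exact hy
    · intro hx
      refine ⟨e.symm x, ?_, e.apply_symm_apply x⟩
      show e.symm x ∉ q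
      intro h
      apply hx
      have : e (e.symm x) ∈ q' := h
      rwa [e.apply_symm_apply] at this
  haveI : IsScalarTower R (R ⊗[R₀] P₀) L := by
    have h : ∀ r : R, algebraMap R L r =
        algebraMap (R ⊗[R₀] P₀) L (algebraMap R (R ⊗[R₀] P₀) r) := fun r => by
      rw [halg, e.commutes, ← IsScalarTower.algebraMap_apply]
    exact IsScalarTower.of_algebraMap_eq h
  have hq : q.comap (Algebra.TensorProduct.includeRight (R := R₀) (A := R)).toRingHom = q₀ := by
    rw [← hq₀]
    ext b
    show e ((1 : R) ⊗ₜ[R₀] b) ∈ q' ↔ _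
    rw [he]
    rfl
  obtain ⟨h3, h4⟩ := baseChange_atPrime q q₀ hq L rs₀ h₁ h₂
  have hlist : rs₀.map (fun b => algebraMap (R ⊗[R₀] P₀) L (1 ⊗ₜ b)) =
      (rs₀.map (MvPolynomial.map (algebraMap R₀ R))).map (algebraMap P L) := by
    rw [List.map_map]
    apply List.map_congr_left
    intro b _
    rw [Function.comp_apply, halg, he]
  rw [hlist] at h3 h4
  exact ⟨h3, h4⟩

end BCPoly

section Descent2

variable {R₀ R : Type u} [CommRing R₀] [CommRing R] [Algebra R₀ R] {σ : Type}
  (p : Ideal R) [p.IsPrime]

/-- the residue field extension -/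
noncomputable abbrev kappa : (p.comap (algebraMap R₀ R)).ResidueField →+* p.ResidueField :=
  Ideal.ResidueField.map (p.comap (algebraMap R₀ R)) p (algebraMap R₀ R) rfl

/-- `κ(p₀)[x] → κ(p)[x]` -/
noncomputable abbrev mu : MvPolynomial σ (p.comap (algebraMap R₀ R)).ResidueField →+*
    MvPolynomial σ p.ResidueField := MvPolynomial.map (kappa (R₀ := R₀) p)

theorem mu_comp_phi : (mu (R₀ := R₀) (σ := σ) p).comp (phi (p.comap (algebraMap R₀ R))) =
    (phi p).comp (MvPolynomial.map (algebraMap R₀ R)) := by
  apply MvPolynomial.ringHom_ext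
  · intro x
    simp only [RingHom.comp_apply, phi, mu, MvPolynomial.map_C]
    exact congrArg MvPolynomial.C
      (Ideal.ResidueField.map_algebraMap (p.comap (algebraMap R₀ R)) p (algebraMap R₀ R) rfl x)
  · intro i
    simp only [RingHom.comp_apply, phi, mu, MvPolynomial.map_X]

attribute [local instance] MvPolynomial.algebraMvPolynomial in
theorem flat_mu : (mu (R₀ := R₀) (σ := σ) p).Flat := by
  letI : Algebra (p.comap (algebraMap R₀ R)).ResidueField p.ResidueField :=
    (kappa (R₀ := R₀) p).toAlgebra
  have h : Module.Flat (MvPolynomial σ (p.comap (algebraMap R₀ R)).ResidueField)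
      (MvPolynomial σ p.ResidueField) :=
    Module.Flat.isBaseChange (p.comap (algebraMap R₀ R)).ResidueField
      (MvPolynomial σ (p.comap (algebraMap R₀ R)).ResidueField) p.ResidueField
      (MvPolynomial σ p.ResidueField)
      (Algebra.IsPushout.out (R := (p.comap (algebraMap R₀ R)).ResidueField)
        (S := MvPolynomial σ (p.comap (algebraMap R₀ R)).ResidueField)
        (R' := p.ResidueField) (S' := MvPolynomial σ p.ResidueField))
  exact h

variable (Q : Ideal (MvPolynomial σ p.ResidueField)) [Q.IsPrime]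

/-- descent of fibre regularity to a subring -/
theorem isWeaklyRegular_descent (rs₀ : List (MvPolynomial σ R₀))
    (h : IsWeaklyRegular (Localization.AtPrime Q)
      (((rs₀.map (MvPolynomial.map (algebraMap R₀ R))).map (phi p)).map
        (algebraMap _ (Localization.AtPrime Q)))) :
    IsWeaklyRegular (Localization.AtPrime (Q.comap (mu (R₀ := R₀) p)))
      ((rs₀.map (phi (p.comap (algebraMap R₀ R)))).map
        (algebraMap _ (Localization.AtPrime (Q.comap (mu (R₀ := R₀) p))))) := by
  let Q₀ := Q.comap (mu (R₀ := R₀) p)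
  let δ := Localization.localRingHom Q₀ Q (mu (R₀ := R₀) p) rfl
  have hδflat : δ.Flat := RingHom.Flat.localRingHom (flat_mu (R₀ := R₀) p) Q Q₀ rfl
  letI : Algebra (Localization.AtPrime Q₀) (Localization.AtPrime Q) := δ.toAlgebra
  haveI : Module.Flat (Localization.AtPrime Q₀) (Localization.AtPrime Q) := hδflat
  haveI : IsLocalHom (algebraMap (Localization.AtPrime Q₀) (Localization.AtPrime Q)) :=
    Localization.isLocalHom_localRingHom Q₀ Q _ rfl
  haveI : Module.FaithfullyFlat (Localization.AtPrime Q₀) (Localization.AtPrime Q) :=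
    Module.FaithfullyFlat.of_flat_of_isLocalHom
  apply isWeaklyRegular_of_faithfullyFlat (S := Localization.AtPrime Q)
  have hl : ((rs₀.map (phi (p.comap (algebraMap R₀ R)))).map
        (algebraMap _ (Localization.AtPrime Q₀))).map
        (algebraMap (Localization.AtPrime Q₀) (Localization.AtPrime Q)) =
      ((rs₀.map (MvPolynomial.map (algebraMap R₀ R))).map (phi p)).map
        (algebraMap _ (Localization.AtPrime Q)) := by
    rw [List.map_map, List.map_map, List.map_map, List.map_map]
    apply List.map_congr_left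
    intro b _
    simp only [Function.comp_apply]
    show δ (algebraMap _ (Localization.AtPrime Q₀) (phi (p.comap (algebraMap R₀ R)) b)) = _
    rw [Localization.localRingHom_to_map]
    congr 1
    exact RingHom.congr_fun (mu_comp_phi (R₀ := R₀) p) b
  rw [hl]
  exact h

end Descent2

section Main

variable {R : Type u} [CommRing R] {σ : Type} [Finite σ]

theorem exists_list_map_eq {A B : Type*} (f : A → B) (l : List B) (h : ∀ b ∈ l, b ∈ Set.range f) :
    ∃ l₀ : List A, l₀.map f = l := by
  induction l with
  | nil => exact ⟨[], rfl⟩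
  | cons b l ih =>
    obtain ⟨a, rfl⟩ := h b (List.mem_cons_self ..)
    obtain ⟨l₀, rfl⟩ := ih fun b hb => h b (List.mem_cons_of_mem _ hb)
    exact ⟨a :: l₀, rfl⟩

/-- auxiliary form with a Noetherian ring of coefficients -/
theorem isWeaklyRegular_and_flat_of_fibre_aux {R₀ : Type u} [CommRing R₀] [Algebra R₀ R]
    [IsNoetherianRing R₀] (p : Ideal R) [p.IsPrime]
    (Q : Ideal (MvPolynomial σ p.ResidueField)) [Q.IsPrime] (rs₀ : List (MvPolynomial σ R₀))
    (h : IsWeaklyRegular (Localization.AtPrime Q)
      (((rs₀.map (MvPolynomial.map (algebraMap R₀ R))).map (phi p)).map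
        (algebraMap _ (Localization.AtPrime Q)))) :
    IsWeaklyRegular (Localization.AtPrime (Q.comap (phi p)))
        ((rs₀.map (MvPolynomial.map (algebraMap R₀ R))).map
          (algebraMap _ (Localization.AtPrime (Q.comap (phi p))))) ∧
      ∀ j ≤ rs₀.length, Module.Flat R (Localization.AtPrime (Q.comap (phi p)) ⧸
        (Ideal.ofList (((rs₀.map (MvPolynomial.map (algebraMap R₀ R))).map
          (algebraMap _ (Localization.AtPrime (Q.comap (phi p))))).take j) •
          (⊤ : Submodule (Localization.AtPrime (Q.comap (phi p)))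
            (Localization.AtPrime (Q.comap (phi p)))))) := by
  have h1 := isWeaklyRegular_descent (R₀ := R₀) p Q rs₀ h
  have h2 := (isWeaklyRegular_fibre_iff (p.comap (algebraMap R₀ R))
    (Q.comap (mu (R₀ := R₀) p)) rs₀).mpr h1
  have hcomap : (Ideal.comap (phi (p.comap (algebraMap R₀ R))) (Q.comap (mu (R₀ := R₀) p))).comap
      (algebraMap R₀ (MvPolynomial σ R₀)) = p.comap (algebraMap R₀ R) :=
    comap_C_comap_phi (p.comap (algebraMap R₀ R)) (Q.comap (mu (R₀ := R₀) p))
  have h3 := isWeaklyRegular_and_flat_of_fibre_atPrime (R := R₀) (B := MvPolynomial σ R₀)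
    (Ideal.comap (phi (p.comap (algebraMap R₀ R))) (Q.comap (mu (R₀ := R₀) p))) _
    (by rw [hcomap]; exact h2)
  have hq₀ : (Q.comap (phi p)).comap (MvPolynomial.map (algebraMap R₀ R)) =
      Ideal.comap (phi (p.comap (algebraMap R₀ R))) (Q.comap (mu (R₀ := R₀) p)) := by
    rw [Ideal.comap_comap, Ideal.comap_comap, mu_comp_phi]
  exact baseChange_mvPolynomial (Q.comap (phi p)) _ hq₀ rs₀ h3.1
    (fun j hj => h3.2 j (by rw [List.length_map]; exact hj))

/-- **Fibre criterion for polynomial rings over an arbitrary base**: a sequence of polynomials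
whose image in `κ(p)[x]_Q` is weakly regular is weakly regular in `R[x]_{q'}` (`q'` the
contraction of `Q`), with all successive quotients flat over `R`. -/
theorem isWeaklyRegular_and_flat_of_fibre_mvPolynomial (p : Ideal R) [p.IsPrime]
    (Q : Ideal (MvPolynomial σ p.ResidueField)) [Q.IsPrime] (rs : List (MvPolynomial σ R))
    (h : IsWeaklyRegular (Localization.AtPrime Q)
      ((rs.map (phi p)).map (algebraMap _ (Localization.AtPrime Q)))) :
    IsWeaklyRegular (Localization.AtPrime (Q.comap (phi p)))
        (rs.map (algebraMap _ (Localization.AtPrime (Q.comap (phi p))))) ∧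
      ∀ j ≤ rs.length, Module.Flat R (Localization.AtPrime (Q.comap (phi p)) ⧸
        (Ideal.ofList ((rs.map (algebraMap _ (Localization.AtPrime (Q.comap (phi p))))).take j) •
          (⊤ : Submodule (Localization.AtPrime (Q.comap (phi p)))
            (Localization.AtPrime (Q.comap (phi p)))))) := by
  classical
  let S : Set R := ⋃ f ∈ rs, (f.coeffs : Set R)
  have hfin : S.Finite := by
    have : S = ⋃ f ∈ rs.toFinset, (f.coeffs : Set R) := by
      simp [S]
    rw [this]
    exact Set.Finite.biUnion (Finset.finite_toSet _) fun f _ => Finset.finite_toSet _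
  let R₀ : Subalgebra ℤ R := Algebra.adjoin ℤ S
  haveI hFT : Algebra.FiniteType ℤ R₀ := by
    rw [← Subalgebra.fg_iff_finiteType]
    have := Subalgebra.fg_adjoin_finset (R := ℤ) hfin.toFinset
    rwa [Set.Finite.coe_toFinset] at this
  haveI : IsNoetherianRing R₀ := Algebra.FiniteType.isNoetherianRing ℤ R₀
  have hlift : ∀ f ∈ rs, f ∈ Set.range (MvPolynomial.map (σ := σ) (algebraMap R₀ R)) := by
    intro f hf
    rw [MvPolynomial.mem_range_map_iff_coeffs_subset]
    intro c hc
    refine ⟨⟨c, Algebra.subset_adjoin ?_⟩, rfl⟩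
    exact Set.mem_biUnion hf hc
  obtain ⟨rs₀, hrs₀⟩ := exists_list_map_eq _ rs hlift
  rw [← hrs₀] at h ⊢
  have h4 := isWeaklyRegular_and_flat_of_fibre_aux (R₀ := R₀) p Q rs₀ h
  refine ⟨h4.1, fun j hj => h4.2 j (by rw [List.length_map] at hj; exact hj)⟩

end Main

end Groth.Agent.Lib.Helper7.Synt
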