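import Mathlib
import Groth.Agent.Lib.Helper7Synt3
import Groth.Agent.Lib.Helper28FibreTrans
import Groth.Prelude.Def_RegImm
import Groth.Agent.S5802

/-! # Relative global complete intersections are transversally regular (helper7)

* `fiberEquiv`: the fibre of `R[x]/I` over `p` is `κ(p)[x]/Iκ(p)[x]`;
* `isWeaklyRegular_and_flat_of_isRelGCI`: Stacks 00SW (regularity and flatness at primes);
* `linearIndependent_toCotangent`, `span_toCotangent`: the conormal module is free on the
  classes of a sequence which is regular at every maximal ideal containing it.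
-/

set_option autoImplicit false
set_option linter.style.haveILetI false
set_option linter.unusedSectionVars false
universe u
open RingTheory.Sequence Module TensorProduct IsLocalRing
open scoped Pointwise

namespace Groth.Agent.Lib.Helper7.Synt

section Fibre

variable {R : Type u} [CommRing R] (p : Ideal R) [p.IsPrime] {σ : Type}

/-- `κ(p) ⊗ R[x] ≃ κ(p)[x]` -/
noncomputable abbrev eK : p.ResidueField ⊗[R] MvPolynomial σ R ≃ₐ[p.ResidueField]
    MvPolynomial σ p.ResidueField := MvPolynomial.algebraTensorAlgEquiv R p.ResidueField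

theorem eK_one_tmul (x : MvPolynomial σ R) : eK p ((1 : p.ResidueField) ⊗ₜ[R] x) = phi p x := by
  rw [MvPolynomial.algebraTensorAlgEquiv_tmul, one_smul]

theorem map_includeRight_map_eK (I : Ideal (MvPolynomial σ R)) :
    (I.map (Algebra.TensorProduct.includeRight (R := R) (A := p.ResidueField))).map
      ((eK p : p.ResidueField ⊗[R] MvPolynomial σ R ≃ₐ[p.ResidueField] _) :
        p.ResidueField ⊗[R] MvPolynomial σ R →+* MvPolynomial σ p.ResidueField) =
      I.map (phi p) := by
  apply le_antisymm
  · rw [Ideal.map_le_iff_le_comap, Ideal.map_le_iff_le_comap]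
    intro x hx
    rw [Ideal.mem_comap, Ideal.mem_comap]
    show eK p ((1 : p.ResidueField) ⊗ₜ[R] x) ∈ _
    rw [eK_one_tmul]
    exact Ideal.mem_map_of_mem _ hx
  · rw [Ideal.map_le_iff_le_comap]
    intro x hx
    rw [Ideal.mem_comap, ← eK_one_tmul]
    exact Ideal.mem_map_of_mem _ (Ideal.mem_map_of_mem _ hx)

/-- the fibre of `R[x]/I` over `p` is `κ(p)[x]/I κ(p)[x]` -/
noncomputable def fiberEquiv (I : Ideal (MvPolynomial σ R)) :
    p.Fiber (MvPolynomial σ R ⧸ I) ≃ₐ[p.ResidueField]
      (MvPolynomial σ p.ResidueField ⧸ I.map (phi p)) :=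
  (Algebra.TensorProduct.tensorQuotientEquiv (R := R) p.ResidueField (MvPolynomial σ R)
    p.ResidueField I).trans
    (Ideal.quotientEquivAlg _ _ (eK p) (map_includeRight_map_eK p I).symm)

/-- every prime of `R[x]` is the contraction of a prime of `κ(p)[x]`, `p` its contraction to `R`. -/
theorem exists_prime_comap_phi_eq (q' : Ideal (MvPolynomial σ R)) [q'.IsPrime] :
    ∃ (Q : Ideal (MvPolynomial σ (q'.comap (algebraMap R (MvPolynomial σ R))).ResidueField))
      (_ : Q.IsPrime), Q.comap (phi (q'.comap (algebraMap R (MvPolynomial σ R)))) = q' := by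
  obtain ⟨QT, hQT, hq⟩ := Groth.Agent.Lib.Helper28.exists_prime_fiber_comap_eq (A := R) q'
  refine ⟨QT.comap (eK (q'.comap (algebraMap R (MvPolynomial σ R)))).symm.toRingEquiv.toRingHom,
    Ideal.comap_isPrime _ _, ?_⟩
  conv_rhs => rw [hq]
  ext x
  rw [Ideal.mem_comap, Ideal.mem_comap, Ideal.mem_comap, ← eK_one_tmul]
  show (eK (q'.comap (algebraMap R (MvPolynomial σ R)))).symm
    (eK (q'.comap (algebraMap R (MvPolynomial σ R))) ((1 : _) ⊗ₜ[R] x)) ∈ QT ↔ _
  rw [AlgEquiv.symm_apply_apply]
  rfl

end Fibre

section RelGCI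

variable {R : Type u} [CommRing R] {n c : ℕ} (F : Fin c → MvPolynomial (Fin n) R)

/-- transport along an equality of primes -/
theorem transport_prime {P : Type u} [CommRing P] {q q' : Ideal P} [hq : q.IsPrime]
    [hq' : q'.IsPrime] (h : q = q') (motive : ∀ (q : Ideal P) [q.IsPrime], Prop) :
    motive q → motive q' := by
  subst h
  exact id

/-- **Relative global complete intersections are transversally regular at every prime.** -/
theorem isWeaklyRegular_and_flat_of_isRelGCI (h : Synt.IsRelGCI R n c F)
    (q' : Ideal (MvPolynomial (Fin n) R)) [q'.IsPrime] (hq' : Ideal.span (Set.range F) ≤ q') :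
    IsWeaklyRegular (Localization.AtPrime q')
        ((List.ofFn F).map (algebraMap (MvPolynomial (Fin n) R) (Localization.AtPrime q'))) ∧
      ∀ j ≤ c, Module.Flat R (Localization.AtPrime q' ⧸
        (Ideal.ofList (((List.ofFn F).map
          (algebraMap (MvPolynomial (Fin n) R) (Localization.AtPrime q'))).take j) •
          (⊤ : Submodule (Localization.AtPrime q') (Localization.AtPrime q')))) := by
  set p := q'.comap (algebraMap R (MvPolynomial (Fin n) R)) with hp
  obtain ⟨Q, hQp, hQ⟩ := exists_prime_comap_phi_eq q'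
  let G : Fin c → MvPolynomial (Fin n) p.ResidueField := fun i => phi p (F i)
  have hGQ : Ideal.span (Set.range G) ≤ Q := by
    rw [Ideal.span_le]
    rintro _ ⟨i, rfl⟩
    have : F i ∈ q' := hq' (Ideal.subset_span ⟨i, rfl⟩)
    rw [← hQ] at this
    exact this
  have hmap : (Ideal.span (Set.range F)).map (phi p) = Ideal.span (Set.range G) := by
    rw [Ideal.map_span, ← Set.range_comp]
    rfl
  let τ := fiberEquiv p (Ideal.span (Set.range F))
  have hne : (Ideal.span (Set.range F)).map (phi p) ≠ ⊤ := by
    rw [hmap]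
    intro htop
    rw [htop] at hGQ
    exact hQp.ne_top (top_le_iff.mp hGQ)
  haveI hnt : Nontrivial (MvPolynomial (Fin n) p.ResidueField ⧸
      (Ideal.span (Set.range F)).map (phi p)) := Ideal.Quotient.nontrivial_iff.mpr hne
  have hntF : Nontrivial (p.Fiber (Synt.RelGCIRing R n c F)) := τ.toEquiv.nontrivial
  obtain ⟨hcn, hdim⟩ := h ⟨p, inferInstance⟩ hntF
  have hdim' : ringKrullDim (MvPolynomial (Fin n) p.ResidueField ⧸ Ideal.span (Set.range G)) =
      ((n - c : ℕ) : WithBot ℕ∞) := by
    have e1 := ringKrullDim_eq_of_ringEquiv (R := p.Fiber (Synt.RelGCIRing R n c F))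
      (S := MvPolynomial (Fin n) p.ResidueField ⧸ (Ideal.span (Set.range F)).map (phi p))
      τ.toRingEquiv
    rw [← hmap, ← e1]
    exact hdim
  have hreg := isRegular_localization_of_dim p.ResidueField n c G hcn hdim' Q hGQ
  have hw : IsWeaklyRegular (Localization.AtPrime Q)
      (((List.ofFn F).map (phi p)).map (algebraMap _ (Localization.AtPrime Q))) := by
    rw [List.map_ofFn]
    exact hreg.toIsWeaklyRegular
  have main := isWeaklyRegular_and_flat_of_fibre_mvPolynomial p Q (List.ofFn F) hw
  rw [List.length_ofFn] at main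
  exact transport_prime hQ (fun q _ => IsWeaklyRegular (Localization.AtPrime q)
        ((List.ofFn F).map (algebraMap (MvPolynomial (Fin n) R) (Localization.AtPrime q))) ∧
      ∀ j ≤ c, Module.Flat R (Localization.AtPrime q ⧸
        (Ideal.ofList (((List.ofFn F).map
          (algebraMap (MvPolynomial (Fin n) R) (Localization.AtPrime q))).take j) •
          (⊤ : Submodule (Localization.AtPrime q) (Localization.AtPrime q))))) main

end RelGCI

section Conormal

variable {A : Type u} [CommRing A] {c : ℕ} (f : Fin c → A)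

/-- quasi-regularity in degree one -/
theorem mem_of_sum_mem_sq_of_isQuasiRegular (hq : CAlgX.IsQuasiRegular f) (a : Fin c → A)
    (h : ∑ i, a i * f i ∈ Ideal.span (Set.range f) ^ 2) (i : Fin c) :
    a i ∈ Ideal.span (Set.range f) := by
  classical
  let Pol : MvPolynomial (Fin c) A := ∑ j, MvPolynomial.C (a j) * MvPolynomial.X j
  have hhom : Pol.IsHomogeneous 1 := by
    apply MvPolynomial.IsHomogeneous.sum
    intro j _
    have := (MvPolynomial.isHomogeneous_C (Fin c) (a j)).mul (MvPolynomial.isHomogeneous_X A j)
    simpa using this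
  have heval : MvPolynomial.eval f Pol = ∑ j, a j * f j := by
    simp [Pol]
  have hcoeff : Pol.coeff (Finsupp.single i 1) = a i := by
    simp only [Pol, MvPolynomial.coeff_sum, MvPolynomial.coeff_C_mul, MvPolynomial.coeff_X']
    rw [Finset.sum_eq_single i]
    · simp
    · intro j _ hj
      rw [if_neg, mul_zero]
      intro h'
      apply hj
      exact (Finsupp.single_left_injective one_ne_zero h')
    · intro h'
      exact absurd (Finset.mem_univ i) h'
  have := hq 1 Pol hhom (by rw [heval]; exact h) (Finsupp.single i 1)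
  rwa [hcoeff] at this

/-- if `f` is a regular sequence at every maximal ideal containing it, relations modulo `I²` have
coefficients in `I`. -/
theorem mem_of_sum_mem_sq (hreg : ∀ (m : Ideal A) [m.IsMaximal], Ideal.span (Set.range f) ≤ m →
      IsWeaklyRegular (Localization.AtPrime m)
        ((List.ofFn f).map (algebraMap A (Localization.AtPrime m))))
    (a : Fin c → A) (h : ∑ i, a i * f i ∈ Ideal.span (Set.range f) ^ 2) (i : Fin c) :
    a i ∈ Ideal.span (Set.range f) := by
  apply Ideal.mem_of_localization_maximal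
  intro m hm
  by_cases hle : Ideal.span (Set.range f) ≤ m
  · have hw := hreg m hle
    rw [List.map_ofFn] at hw
    have hq := Groth.Agent.S5802.result (Localization.AtPrime m) c
      (algebraMap A (Localization.AtPrime m) ∘ f) hw
    have hspan : Ideal.span (Set.range (algebraMap A (Localization.AtPrime m) ∘ f)) =
        (Ideal.span (Set.range f)).map (algebraMap A (Localization.AtPrime m)) := by
      rw [Ideal.map_span, ← Set.range_comp]
    have := mem_of_sum_mem_sq_of_isQuasiRegular _ hq
      (fun j => algebraMap A (Localization.AtPrime m) (a j)) (by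
        rw [hspan, ← Ideal.map_pow]
        have h2 := Ideal.mem_map_of_mem (algebraMap A (Localization.AtPrime m)) h
        simpa [map_sum, map_mul] using h2) i
    rwa [hspan] at this
  · have : (Ideal.span (Set.range f)).map (algebraMap A (Localization.AtPrime m)) = ⊤ := by
      rw [SetLike.not_le_iff_exists] at hle
      obtain ⟨x, hx, hxm⟩ := hle
      exact Ideal.eq_top_of_isUnit_mem _ (Ideal.mem_map_of_mem _ hx)
        (IsLocalization.map_units (M := m.primeCompl) (Localization.AtPrime m) ⟨x, hxm⟩)
    rw [this]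
    exact Submodule.mem_top

theorem toCotangent_sum_smul (a : Fin c → A) (hmem : ∑ j, a j * f j ∈ Ideal.span (Set.range f)) :
    (Ideal.span (Set.range f)).toCotangent ⟨∑ j, a j * f j, hmem⟩ =
      ∑ j, (Ideal.Quotient.mk (Ideal.span (Set.range f)) (a j)) •
        (Ideal.span (Set.range f)).toCotangent
          ⟨f j, Ideal.subset_span (Set.mem_range_self j)⟩ := by
  have h1 : (⟨∑ j, a j * f j, hmem⟩ : Ideal.span (Set.range f)) =
      ∑ j, a j • (⟨f j, Ideal.subset_span (Set.mem_range_self j)⟩ : Ideal.span (Set.range f)) := by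
    apply Subtype.ext
    simp
  rw [h1, map_sum]
  apply Finset.sum_congr rfl
  intro j _
  rw [map_smul]
  rfl

theorem linearIndependent_toCotangent
    (hreg : ∀ (m : Ideal A) [m.IsMaximal], Ideal.span (Set.range f) ≤ m →
      IsWeaklyRegular (Localization.AtPrime m)
        ((List.ofFn f).map (algebraMap A (Localization.AtPrime m)))) :
    LinearIndependent (A ⧸ Ideal.span (Set.range f))
      (fun i : Fin c => (Ideal.span (Set.range f)).toCotangent
        ⟨f i, Ideal.subset_span (Set.mem_range_self i)⟩) := by
  rw [Fintype.linearIndependent_iff]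
  intro g hg i
  choose a ha using fun j => Ideal.Quotient.mk_surjective (g j)
  have hmem : ∑ j, a j * f j ∈ Ideal.span (Set.range f) :=
    Ideal.sum_mem (Ideal.span (Set.range f)) fun j _ =>
      Ideal.mul_mem_left _ _ (Ideal.subset_span (Set.mem_range_self j))
  have key : ∑ j, a j * f j ∈ Ideal.span (Set.range f) ^ 2 := by
    rw [← Ideal.toCotangent_eq_zero (I := Ideal.span (Set.range f))
      (⟨∑ j, a j * f j, hmem⟩ : Ideal.span (Set.range f)), toCotangent_sum_smul f a hmem]
    simp_rw [ha]
    exact hg
  have := mem_of_sum_mem_sq f hreg a key i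
  rw [← ha i]
  exact Ideal.Quotient.eq_zero_iff_mem.mpr this

theorem span_toCotangent :
    Submodule.span (A ⧸ Ideal.span (Set.range f)) (Set.range
      (fun i : Fin c => (Ideal.span (Set.range f)).toCotangent
        ⟨f i, Ideal.subset_span (Set.mem_range_self i)⟩)) = ⊤ := by
  rw [eq_top_iff]
  intro y _
  obtain ⟨x, rfl⟩ := Ideal.toCotangent_surjective _ y
  obtain ⟨b, hb⟩ := (Ideal.mem_span_range_iff_exists_fun (R := A)).mp x.2
  have hmem : ∑ j, b j * f j ∈ Ideal.span (Set.range f) := by rw [hb]; exact x.2
  have hx : x = ⟨∑ j, b j * f j, hmem⟩ := Subtype.ext hb.symm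
  rw [hx, toCotangent_sum_smul f b hmem]
  exact Submodule.sum_mem _ fun j _ => Submodule.smul_mem _ _ (Submodule.subset_span ⟨j, rfl⟩)

end Conormal


end Groth.Agent.Lib.Helper7.Synt
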