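import Mathlib
import Groth.Agent.Lib.Helper7Synt4
import Groth.Agent.Lib.Helper28LocLoc
import Groth.Agent.S9146

/-! # Relative global complete intersections are syntomic (helper7)

* `isLocalization_atPrime_quotient`: `A_{q'}/IA_{q'}` is the localization of `A/I` at `q`;
* `flat_relGCIRing`, `isGlobalCI_fiber`, `isSyntomic_relGCIRing` (Stacks 00SW).
-/

set_option autoImplicit false
set_option linter.style.haveILetI false
set_option linter.unusedSectionVars false
universe u
open RingTheory.Sequence Module TensorProduct IsLocalRing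
open scoped Pointwise

namespace Groth.Agent.Lib.Helper7.Synt

section LocQuot

variable {A : Type u} [CommRing A] (I : Ideal A) (q : Ideal (A ⧸ I)) [q.IsPrime]

/-- `A_{q'} / I A_{q'}` is the localization of `A/I` at `q`, `q'` the preimage of `q`. -/
theorem isLocalization_atPrime_quotient :
    IsLocalization.AtPrime
      (Localization.AtPrime (q.comap (Ideal.Quotient.mk I)) ⧸
        I.map (algebraMap A (Localization.AtPrime (q.comap (Ideal.Quotient.mk I))))) q := by
  have hIp : I ≤ q.comap (Ideal.Quotient.mk I) := by
    intro x hx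
    rw [Ideal.mem_comap, Ideal.Quotient.eq_zero_iff_mem.mpr hx]
    exact q.zero_mem
  have hmap : (q.comap (Ideal.Quotient.mk I)).map (Ideal.Quotient.mk I) = q :=
    Ideal.map_comap_of_surjective _ Ideal.Quotient.mk_surjective q
  have hprime : ((q.comap (Ideal.Quotient.mk I)).map (Ideal.Quotient.mk I)).IsPrime := by
    rw [hmap]; infer_instance
  have inst : IsLocalization (Algebra.algebraMapSubmonoid (A ⧸ I)
      (q.comap (Ideal.Quotient.mk I)).primeCompl)
      (Localization.AtPrime (q.comap (Ideal.Quotient.mk I)) ⧸
        I.map (algebraMap A (Localization.AtPrime (q.comap (Ideal.Quotient.mk I))))) :=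
    inferInstance
  rw [Groth.Agent.Lib.Helper28.algebraMapSubmonoid_quotient_primeCompl I
    (q.comap (Ideal.Quotient.mk I)) hIp] at inst
  have h : ∀ (q' : Ideal (A ⧸ I)) [q'.IsPrime], q' = q →
      IsLocalization q'.primeCompl
        (Localization.AtPrime (q.comap (Ideal.Quotient.mk I)) ⧸
          I.map (algebraMap A (Localization.AtPrime (q.comap (Ideal.Quotient.mk I))))) →
      IsLocalization.AtPrime
        (Localization.AtPrime (q.comap (Ideal.Quotient.mk I)) ⧸
          I.map (algebraMap A (Localization.AtPrime (q.comap (Ideal.Quotient.mk I))))) q := by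
    intro q' _ hq' h'
    subst hq'
    exact h'
  exact h _ hmap inst

end LocQuot

section Tower

theorem isScalarTower_quotient_map {R E L : Type u} [CommRing R] [CommRing E] [CommRing L]
    [Algebra R E] [Algebra R L] [Algebra E L] [IsScalarTower R E L] (I : Ideal E) :
    IsScalarTower R (E ⧸ I) (L ⧸ I.map (algebraMap E L)) :=
  IsScalarTower.of_algebraMap_eq fun r => by
    rw [IsScalarTower.algebraMap_apply R L (L ⧸ I.map (algebraMap E L)),
      IsScalarTower.algebraMap_apply R E L, IsScalarTower.algebraMap_apply R E (E ⧸ I)]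
    rfl

end Tower

section Synt

variable {R : Type u} [CommRing R] {n c : ℕ} (F : Fin c → MvPolynomial (Fin n) R)

/-- a relative global complete intersection is flat -/
theorem flat_relGCIRing (h : Synt.IsRelGCI R n c F) : Module.Flat R (Synt.RelGCIRing R n c F) := by
  let I := Ideal.span (Set.range F)
  haveI tower : ∀ (m : Ideal (MvPolynomial (Fin n) R ⧸ I)) [m.IsMaximal],
      IsScalarTower R (MvPolynomial (Fin n) R ⧸ I)
        (Localization.AtPrime (m.comap (Ideal.Quotient.mk I)) ⧸
          I.map (algebraMap (MvPolynomial (Fin n) R)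
            (Localization.AtPrime (m.comap (Ideal.Quotient.mk I))))) := fun m _ =>
    isScalarTower_quotient_map I
  haveI loc : ∀ (m : Ideal (MvPolynomial (Fin n) R ⧸ I)) [m.IsMaximal],
      IsLocalizedModule.AtPrime m (Algebra.linearMap (MvPolynomial (Fin n) R ⧸ I)
        (Localization.AtPrime (m.comap (Ideal.Quotient.mk I)) ⧸
          I.map (algebraMap (MvPolynomial (Fin n) R)
            (Localization.AtPrime (m.comap (Ideal.Quotient.mk I)))))) := fun m hm => by
    haveI : m.IsPrime := hm.isPrime
    exact (isLocalizedModule_iff_isLocalization' m.primeCompl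
      (Localization.AtPrime (m.comap (Ideal.Quotient.mk I)) ⧸
        I.map (algebraMap (MvPolynomial (Fin n) R)
          (Localization.AtPrime (m.comap (Ideal.Quotient.mk I)))))).mpr
      (isLocalization_atPrime_quotient I m)
  refine @Module.flat_of_isLocalized_maximal R (MvPolynomial (Fin n) R ⧸ I) _ _ _
    (MvPolynomial (Fin n) R ⧸ I) _ _ _ _
    (fun (m : Ideal (MvPolynomial (Fin n) R ⧸ I)) [m.IsMaximal] =>
      Localization.AtPrime (m.comap (Ideal.Quotient.mk I)) ⧸
        I.map (algebraMap (MvPolynomial (Fin n) R)
          (Localization.AtPrime (m.comap (Ideal.Quotient.mk I)))))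
    (fun m _ => inferInstance) (fun m _ => inferInstance) (fun m _ => inferInstance)
    (fun m _ => tower m)
    (fun m _ => Algebra.linearMap _ _) (fun m _ => loc m) ?_
  intro m hm
  haveI : m.IsPrime := hm.isPrime
  have hle : I ≤ m.comap (Ideal.Quotient.mk I) := by
    intro x hx
    rw [Ideal.mem_comap, Ideal.Quotient.eq_zero_iff_mem.mpr hx]
    exact m.zero_mem
  have h1 := (isWeaklyRegular_and_flat_of_isRelGCI F h (m.comap (Ideal.Quotient.mk I)) hle).2 c
    le_rfl
  rw [flat_quot_iff', List.take_of_length_le (by simp), ← Ideal.map_ofList, ofList_ofFn] at h1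
  exact h1

/-- the fibres of a relative global complete intersection are global complete intersections -/
theorem isGlobalCI_fiber (h : Synt.IsRelGCI R n c F) (p : Ideal R) [p.IsPrime] :
    Synt.IsGlobalCI p.ResidueField (p.Fiber (Synt.RelGCIRing R n c F)) := by
  by_cases hnt : Nontrivial (p.Fiber (Synt.RelGCIRing R n c F))
  · obtain ⟨hcn, hdim⟩ := h ⟨p, inferInstance⟩ hnt
    right
    let τ := fiberEquiv p (Ideal.span (Set.range F))
    refine ⟨n, c, hcn, τ.symm.toAlgHom.comp (Ideal.Quotient.mkₐ p.ResidueField _),
      fun i => phi p (F i), ?_, ?_, hdim⟩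
    · exact τ.symm.surjective.comp Ideal.Quotient.mk_surjective
    · have hmap : (Ideal.span (Set.range F)).map (phi p) =
          Ideal.span (Set.range fun i => phi p (F i)) := by
        rw [Ideal.map_span, ← Set.range_comp]
        rfl
      rw [← hmap]
      ext x
      rw [RingHom.mem_ker]
      show τ.symm (Ideal.Quotient.mk _ x) = 0 ↔ _
      rw [EmbeddingLike.map_eq_zero_iff, Ideal.Quotient.eq_zero_iff_mem]
  · left
    exact not_nontrivial_iff_subsingleton.mp hnt

/-- **A relative global complete intersection is syntomic** (Stacks 00SW). -/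
theorem isSyntomic_relGCIRing (h : Synt.IsRelGCI R n c F) :
    Synt.IsSyntomic R (Synt.RelGCIRing R n c F) := by
  refine ⟨flat_relGCIRing F h, ?_, fun p => ⟨inferInstance, fun q => ⟨1, ?_, ?_⟩⟩⟩
  · exact Algebra.FinitePresentation.quotient (Submodule.fg_span (Set.finite_range F))
  · intro h1
    exact q.isPrime.ne_top ((Ideal.eq_top_iff_one _).mpr h1)
  · let e : p.asIdeal.Fiber (Synt.RelGCIRing R n c F) ≃ₐ[p.asIdeal.Fiber (Synt.RelGCIRing R n c F)]
        Localization.Away (1 : p.asIdeal.Fiber (Synt.RelGCIRing R n c F)) :=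
      IsLocalization.atUnits _ (Submonoid.powers 1) (by
        rintro _ ⟨k, rfl⟩
        show IsUnit ((1 : p.asIdeal.Fiber (Synt.RelGCIRing R n c F)) ^ k)
        exact isUnit_one.pow k)
    exact Groth.Agent.S9146.isGlobalCI_of_algEquiv (e.restrictScalars p.asIdeal.ResidueField)
      (isGlobalCI_fiber F h p.asIdeal)

end Synt

end Groth.Agent.Lib.Helper7.Synt
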