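import Mathlib
import Groth.Agent.Lib.Helper7Synt5
import Groth.Agent.Lib.Helper14LocalDimB
import Groth.Agent.Lib.Helper4FibDimE

/-! # Fibre dimension of relative global complete intersections (helper7)

* `height_le_of_mem_minimalPrimes_span_range`: Krull's height theorem for a `Fin c`-family;
* `le_ringKrullDim_quotient_minimalPrimes`: components of `k[x]/(G_1..G_c)` have dimension `≥ n - c`;
* `localDim_quotient_span_eq`: if `dim k[x]/(G_1..G_c) = n - c` then the local dimension is `n - c`
  at every point.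
* `fibLD_comap_relGCIRing`: local fibre dimensions of `Spec R[x]/(F) → Spec R`.
-/

set_option autoImplicit false
set_option linter.style.haveILetI false
set_option linter.unusedSectionVars false
universe u
open RingTheory.Sequence Module TensorProduct IsLocalRing Groth.Agent.Lib.Helper28
open scoped Pointwise

namespace Groth.Agent.Lib.Helper7.Synt

theorem natCast_withBot_le {a b : ℕ} : ((a : ℕ) : WithBot ℕ∞) ≤ ((b : ℕ) : WithBot ℕ∞) ↔ a ≤ b := by
  show ((a : ℕ∞) : WithBot ℕ∞) ≤ ((b : ℕ∞) : WithBot ℕ∞) ↔ _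
  rw [WithBot.coe_le_coe, Nat.cast_le]

theorem height_le_of_mem_minimalPrimes_span_range {A : Type*} [CommRing A] [IsNoetherianRing A]
    {c : ℕ} (G : Fin c → A) (q : Ideal A) (hq : q ∈ (Ideal.span (Set.range G)).minimalPrimes) :
    q.height ≤ (c : ℕ∞) := by
  classical
  have h1 : Ideal.span ((Finset.univ.image G : Finset A) : Set A) = Ideal.span (Set.range G) := by
    rw [Finset.coe_image, Finset.coe_univ, Set.image_univ]
  have h2 := Ideal.height_le_card_of_mem_minimalPrimes_span_finset (p := q)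
    (s := Finset.univ.image G) (by rw [h1]; exact hq)
  refine h2.trans ?_
  have : (Finset.univ.image G).card ≤ c := by
    simpa using (Finset.card_image_le (s := (Finset.univ : Finset (Fin c))) (f := G))
  exact_mod_cast this

section Field
variable (k : Type u) [Field k] (n c : ℕ) (G : Fin c → MvPolynomial (Fin n) k)

/-- every irreducible component of `Spec k[x]/(G_1..G_c)` has dimension at least `n - c`. -/
theorem le_ringKrullDim_quotient_minimalPrimes (J : Ideal (MvPolynomial (Fin n) k))
    (hJ : J = Ideal.span (Set.range G))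
    (q : Ideal (MvPolynomial (Fin n) k ⧸ J))
    (hq : q ∈ minimalPrimes (MvPolynomial (Fin n) k ⧸ J)) :
    ((n - c : ℕ) : WithBot ℕ∞) ≤ ringKrullDim ((MvPolynomial (Fin n) k ⧸ J) ⧸ q) := by
  have hk : LocCoh.IsCohenMacaulayRing k := isCohenMacaulayRing_of_field k
  have hS : LocCoh.IsCohenMacaulayRing (MvPolynomial (Fin n) k) :=
    isCohenMacaulayRing_mvPolynomial_fin n
  set q' := q.comap (Ideal.Quotient.mk J) with hq'
  haveI : q.IsPrime := hq.1.1
  haveI : q'.IsPrime := Ideal.comap_isPrime _ _
  have hq'min : q' ∈ J.minimalPrimes := by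
    rw [Ideal.minimalPrimes_eq_comap]
    exact ⟨q, hq, rfl⟩
  have hJq' : J ≤ q' := hq'min.1.2
  have hht : q'.height ≤ (c : ℕ∞) :=
    height_le_of_mem_minimalPrimes_span_range G q' (by rw [← hJ]; exact hq'min)
  have h1 := height_add_ringKrullDim_quotient_eq_of_forall_isMaximal_height_eq' n
    (height_eq_of_isMaximal_mvPolynomial_fin k n) q' (Ideal.IsPrime.ne_top inferInstance)
  have hmap : q'.map (Ideal.Quotient.mk J) = q :=
    Ideal.map_comap_of_surjective _ Ideal.Quotient.mk_surjective q
  have e : ((MvPolynomial (Fin n) k ⧸ J) ⧸ q) ≃+* (MvPolynomial (Fin n) k ⧸ q') := by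
    rw [← hmap]
    exact DoubleQuot.quotQuotEquivQuotOfLE hJq'
  rw [ringKrullDim_eq_of_ringEquiv e]
  obtain ⟨a, ha⟩ := ENat.ne_top_iff_exists.mp (Ideal.height_ne_top_of_isPrime (I := q'))
  rw [← ha] at hht h1
  have hac : a ≤ c := by exact_mod_cast hht
  generalize ringKrullDim (MvPolynomial (Fin n) k ⧸ q') = d at h1 ⊢
  induction d using WithBot.recBotCoe with
  | bot => simp at h1
  | coe d =>
    induction d using ENat.recTopCoe with
    | top => exact le_top
    | coe d =>
      have h2 : a + d = n := by exact_mod_cast h1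
      have : n - c ≤ d := by omega
      have h3 : ((n - c : ℕ) : ℕ∞) ≤ (d : ℕ∞) := by exact_mod_cast this
      exact WithBot.coe_le_coe.mpr h3

/-- if `dim k[x]/(G_1..G_c) = n - c` then `Spec k[x]/(G)` has local dimension `n - c` everywhere. -/
theorem localDim_quotient_span_eq (J : Ideal (MvPolynomial (Fin n) k))
    (hJ : J = Ideal.span (Set.range G))
    (hdim : ringKrullDim (MvPolynomial (Fin n) k ⧸ J) = ((n - c : ℕ) : WithBot ℕ∞))
    (z : PrimeSpectrum (MvPolynomial (Fin n) k ⧸ J)) :
    FlatMor.localDim (PrimeSpectrum (MvPolynomial (Fin n) k ⧸ J)) z = ((n - c : ℕ) : WithBot ℕ∞) := by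
  haveI : z.asIdeal.IsPrime := z.2
  obtain ⟨a, e, ha, he, -, he'⟩ :=
    Groth.Agent.Lib.Helper14.LocalDim.exists_dims (k := k) z.asIdeal
  have h1 := Groth.Agent.Lib.Helper14.LocalDim.localDim_eq (k := k) z.asIdeal a e ha he he'
  have hz : (⟨z.asIdeal, inferInstance⟩ : PrimeSpectrum (MvPolynomial (Fin n) k ⧸ J)) = z := rfl
  rw [hz] at h1
  rw [h1]
  have hle : a + e ≤ n - c := by
    have h2 := height_add_ringKrullDim_quotient_le z.asIdeal (Ideal.IsPrime.ne_top inferInstance)
    rw [ha, he, hdim] at h2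
    have h2' : ((a + e : ℕ) : WithBot ℕ∞) ≤ ((n - c : ℕ) : WithBot ℕ∞) := by
      refine le_trans (le_of_eq ?_) h2
      push_cast
      rfl
    exact natCast_withBot_le.mp h2'
  have hge : n - c ≤ a + e := by
    obtain ⟨q, hq, hqz⟩ := Ideal.exists_minimalPrimes_le (bot_le : (⊥ : Ideal _) ≤ z.asIdeal)
    have h3 := (Groth.Agent.Lib.Helper14.LocalDim.localDim_le_iff (k := k) z.asIdeal (a + e)).mp
      (le_of_eq (by rw [hz]; exact h1)) q hq hqz
    have h4 := le_ringKrullDim_quotient_minimalPrimes k n c G J hJ q hq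
    have h5 := h4.trans h3
    exact natCast_withBot_le.mp h5
  have : a + e = n - c := le_antisymm hle hge
  rw [this]

end Field


section Rel
open Groth.Agent.Lib.Helper4.FibDim

variable (R : Type u) [CommRing R] (n c : ℕ) (F : Fin c → MvPolynomial (Fin n) R)

/-- the local fibre dimension of a relative global complete intersection is `n - c` everywhere. -/
theorem fibLD_comap_relGCIRing (hF : Synt.IsRelGCI R n c F)
    (x : PrimeSpectrum (Synt.RelGCIRing R n c F)) :
    fibLD (PrimeSpectrum.comap (algebraMap R (Synt.RelGCIRing R n c F))) x =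
      ((n - c : ℕ) : WithBot ℕ∞) := by
  rw [fibLD_comap_eq]
  set p := PrimeSpectrum.comap (algebraMap R (Synt.RelGCIRing R n c F)) x with hp
  set Q := PrimeSpectrum.preimageHomeomorphFiber R (Synt.RelGCIRing R n c F) p ⟨x, rfl⟩ with hQ
  haveI : p.asIdeal.IsPrime := p.2
  haveI hnt : Nontrivial (p.asIdeal.Fiber (Synt.RelGCIRing R n c F)) := by
    haveI : Nonempty (PrimeSpectrum (p.asIdeal.Fiber (Synt.RelGCIRing R n c F))) := ⟨Q⟩
    exact (PrimeSpectrum.nonempty_iff_nontrivial).mp inferInstance
  obtain ⟨hcn, hdim⟩ := hF p hnt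
  let G : Fin c → MvPolynomial (Fin n) p.asIdeal.ResidueField := fun i => phi p.asIdeal (F i)
  have hmap : (Ideal.span (Set.range F)).map (phi p.asIdeal) = Ideal.span (Set.range G) := by
    rw [Ideal.map_span, ← Set.range_comp]
    rfl
  let τ := fiberEquiv p.asIdeal (Ideal.span (Set.range F))
  have hdim' : ringKrullDim (MvPolynomial (Fin n) p.asIdeal.ResidueField ⧸
      (Ideal.span (Set.range F)).map (phi p.asIdeal)) = ((n - c : ℕ) : WithBot ℕ∞) := by
    rw [← ringKrullDim_eq_of_ringEquiv (R := p.asIdeal.Fiber (Synt.RelGCIRing R n c F))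
      (S := MvPolynomial (Fin n) p.asIdeal.ResidueField ⧸
        (Ideal.span (Set.range F)).map (phi p.asIdeal)) τ.toRingEquiv]
    exact hdim
  refine (localDim_eq_of_homeomorph (PrimeSpectrum.homeomorphOfRingEquiv τ.toRingEquiv) _).trans ?_
  exact localDim_quotient_span_eq p.asIdeal.ResidueField n c G _ hmap hdim' _

end Rel

end Groth.Agent.Lib.Helper7.Synt
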