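import Mathlib
import Groth.Agent.Lib.Helper7Synt6
import Groth.Agent.Lib.Helper7CIPres2
import Groth.Agent.S9408

/-! # Complete intersections over a field: independence of the presentation (helper7)

* `isCIOver_iff_regular_ker`: for a surjection `π : R → S` of local `k`-algebras, `R` regular and
  essentially of finite type, `S` is a complete intersection over `k` iff `ker π` is generated by a
  regular sequence;
* `isCIOver_of_algEquiv`;
* `isRegularLocalRing_localization_mvPolynomial`;
* `locMap`, `locMap_surjective`, `ker_locMap`: the surjection `k[x]_{q'} → (S₀)_q` induced by a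
  surjection `k[x] → S₀`;
* `isCIOver_localization_iff`: `(S₀)_q` is CI over `k` iff `(ker φ) k[x]_{q'}` is generated by a
  regular sequence.
-/

set_option autoImplicit false
set_option linter.style.haveILetI false
set_option linter.unusedSectionVars false
universe u
open RingTheory.Sequence Module TensorProduct IsLocalRing Groth.Agent.Lib.Helper28
open Groth.Agent.Lib.Helper7.CIPres
open scoped Pointwise

namespace Groth.Agent.Lib.Helper7.Synt

section CIOver

variable (k : Type u) [Field k]

theorem isCIOver_of_algEquiv {S S' : Type u} [CommRing S] [CommRing S'] [IsLocalRing S]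
    [IsLocalRing S'] [Algebra k S] [Algebra k S'] (e : S ≃ₐ[k] S') (h : Synt.IsCIOver k S) :
    Synt.IsCIOver k S' := by
  obtain ⟨R, i1, i2, i3, hess, rs, hmem, hreg, ⟨ε⟩⟩ := h
  exact ⟨R, i1, i2, i3, hess, rs, hmem, hreg, ⟨e.symm.trans ε⟩⟩

theorem mem_maximalIdeal_of_ofList_ne_top {R : Type u} [CommRing R] [IsLocalRing R] (rs : List R)
    (h : Ideal.ofList rs ≠ ⊤) : ∀ r ∈ rs, r ∈ maximalIdeal R := by
  intro r hr
  exact IsLocalRing.le_maximalIdeal h (Ideal.subset_span hr)

/-- **Independence of the regular presentation** for complete intersections over a field. -/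
theorem isCIOver_iff_regular_ker {S : Type u} [CommRing S] [IsLocalRing S] [Algebra k S]
    (R : Type u) [CommRing R] [IsRegularLocalRing R] [Algebra k R] (hess : Algebra.EssFiniteType k R)
    (π : R →ₐ[k] S) (hπ : Function.Surjective π) :
    Synt.IsCIOver k S ↔
      ∃ rs : List R, Ideal.ofList rs = RingHom.ker π.toRingHom ∧ IsRegular R rs := by
  constructor
  · rintro ⟨R₀, i1, i2, i3, -, rs₀, -, hreg₀, ⟨ε⟩⟩
    let f₁ : R₀ →+* S := ε.symm.toRingEquiv.toRingHom.comp (Ideal.Quotient.mk (Ideal.ofList rs₀))
    have hf₁ : Function.Surjective f₁ := ε.symm.surjective.comp Ideal.Quotient.mk_surjective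
    have hk₁ : RingHom.ker f₁ = Ideal.ofList rs₀ := by
      ext b
      rw [RingHom.mem_ker]
      change ε.symm (Ideal.Quotient.mk _ b) = 0 ↔ _
      rw [EmbeddingLike.map_eq_zero_iff, Ideal.Quotient.eq_zero_iff_mem]
    exact (regular_ker_iff f₁ hf₁ π.toRingHom hπ).mp ⟨rs₀, hk₁.symm, hreg₀⟩
  · rintro ⟨rs, hker, hreg⟩
    have hne : Ideal.ofList rs ≠ ⊤ := by
      rw [hker]
      exact RingHom.ker_ne_top _
    refine ⟨R, inferInstance, inferInstance, inferInstance, hess, rs,
      mem_maximalIdeal_of_ofList_ne_top rs hne, hreg, ⟨?_⟩⟩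
    have e1 : (R ⧸ RingHom.ker π.toRingHom) ≃ₐ[k] S :=
      Ideal.quotientKerAlgEquivOfSurjective hπ
    exact e1.symm.trans (Ideal.quotientEquivAlgOfEq k hker.symm)

end CIOver


section LocMap

variable (k : Type u) [Field k]

theorem isRegularLocalRing_localization_mvPolynomial (n : ℕ) (Q : Ideal (MvPolynomial (Fin n) k))
    [Q.IsPrime] : IsRegularLocalRing (Localization.AtPrime Q) := by
  haveI : Algebra.Smooth k (MvPolynomial (Fin n) k) := ⟨inferInstance, inferInstance⟩
  haveI : IsRegularRing (MvPolynomial (Fin n) k) :=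
    Groth.Agent.S9408.isRegularRing_of_smooth k _
  exact (isRegularRing_iff (R := MvPolynomial (Fin n) k)).mp inferInstance Q

variable {k} {P S₀ : Type u} [CommRing P] [CommRing S₀] [Algebra k P] [Algebra k S₀]
  (φ : P →ₐ[k] S₀) (q : Ideal S₀) [q.IsPrime]

theorem le_comap_primeCompl : (q.comap φ.toRingHom).primeCompl ≤ q.primeCompl.comap φ.toRingHom :=
  fun _ hx => hx

/-- the map `P_{q'} → (S₀)_q` induced by `φ : P → S₀`, `q' = φ⁻¹ q`. -/
noncomputable def locMap :
    Localization.AtPrime (q.comap φ.toRingHom) →ₐ[k] Localization.AtPrime q :=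
  { IsLocalization.map (Localization.AtPrime q) φ.toRingHom (le_comap_primeCompl φ q) with
    commutes' := fun r => by
      show IsLocalization.map (Localization.AtPrime q) φ.toRingHom (le_comap_primeCompl φ q)
        (algebraMap k (Localization.AtPrime (q.comap φ.toRingHom)) r) = _
      rw [IsScalarTower.algebraMap_apply k P (Localization.AtPrime (q.comap φ.toRingHom)),
        IsLocalization.map_eq, IsScalarTower.algebraMap_apply k S₀ (Localization.AtPrime q)]
      congr 1
      exact φ.commutes r }

theorem locMap_toRingHom : (locMap φ q).toRingHom =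
    IsLocalization.map (Localization.AtPrime q) φ.toRingHom (le_comap_primeCompl φ q) := rfl

theorem map_primeCompl_eq (hφ : Function.Surjective φ) :
    Submonoid.map φ.toRingHom (q.comap φ.toRingHom).primeCompl = q.primeCompl := by
  ext y
  constructor
  · rintro ⟨x, hx, rfl⟩
    exact hx
  · intro hy
    obtain ⟨x, rfl⟩ := hφ y
    exact ⟨x, hy, rfl⟩

theorem locMap_surjective (hφ : Function.Surjective φ) : Function.Surjective (locMap φ q) := by
  intro y
  obtain ⟨a, s, rfl⟩ := IsLocalization.exists_mk'_eq q.primeCompl y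
  obtain ⟨a', rfl⟩ := hφ a
  obtain ⟨s', hs'⟩ := hφ s.1
  have hs'q : s' ∈ (q.comap φ.toRingHom).primeCompl := by
    intro hmem
    apply s.2
    rw [← hs']
    exact hmem
  refine ⟨IsLocalization.mk' _ a' ⟨s', hs'q⟩, ?_⟩
  show IsLocalization.map (Localization.AtPrime q) φ.toRingHom (le_comap_primeCompl φ q) _ = _
  rw [IsLocalization.map_mk']
  congr 1
  exact Subtype.ext hs'

theorem ker_locMap (hφ : Function.Surjective φ) :
    RingHom.ker (locMap φ q).toRingHom =
      (RingHom.ker φ.toRingHom).map (algebraMap P (Localization.AtPrime (q.comap φ.toRingHom))) := by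
  rw [locMap_toRingHom]
  exact IsLocalization.ker_map (Localization.AtPrime q) φ.toRingHom (map_primeCompl_eq φ q hφ)

end LocMap

section Main

variable (k : Type u) [Field k] {n : ℕ} {S₀ : Type u} [CommRing S₀] [Algebra k S₀]
  (φ : MvPolynomial (Fin n) k →ₐ[k] S₀) (hφ : Function.Surjective φ) (q : Ideal S₀) [q.IsPrime]

include hφ in
/-- `(S₀)_q` is a complete intersection over `k` iff the kernel of `k[x]_{q'} → (S₀)_q` is generated
by a regular sequence. -/
theorem isCIOver_localization_iff :
    Synt.IsCIOver k (Localization.AtPrime q) ↔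
      ∃ rs : List (Localization.AtPrime (q.comap φ.toRingHom)),
        Ideal.ofList rs = (RingHom.ker φ.toRingHom).map
          (algebraMap _ (Localization.AtPrime (q.comap φ.toRingHom))) ∧
        IsRegular (Localization.AtPrime (q.comap φ.toRingHom)) rs := by
  haveI := isRegularLocalRing_localization_mvPolynomial k n (q.comap φ.toRingHom)
  rw [isCIOver_iff_regular_ker k (Localization.AtPrime (q.comap φ.toRingHom)) inferInstance
    (locMap φ q) (locMap_surjective φ q hφ), ker_locMap φ q hφ]

end Main

end Groth.Agent.Lib.Helper7.Synt
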