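import Mathlib
import Groth.Agent.Lib.Helper7Synt7

/-! # Complete intersections over a field: from global to local (helper7)

* `isCIOver_localization_of_isGlobalCI`: local rings of a global complete intersection are complete
  intersections;
* `isCIOver_localization_of_away`: if `(S₀)_g` is a global complete intersection, `g ∉ q`, then
  `(S₀)_q` is a complete intersection.
-/

set_option autoImplicit false
set_option linter.style.haveILetI false
set_option linter.unusedSectionVars false
universe u
open RingTheory.Sequence Module TensorProduct IsLocalRing Groth.Agent.Lib.Helper28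
open Groth.Agent.Lib.Helper7.CIPres
open scoped Pointwise

namespace Groth.Agent.Lib.Helper7.Synt

variable (k : Type u) [Field k]

theorem isCIOver_localization_of_isGlobalCI (T : Type u) [CommRing T] [Algebra k T]
    (h : Synt.IsGlobalCI k T) (Q : Ideal T) [Q.IsPrime] :
    Synt.IsCIOver k (Localization.AtPrime Q) := by
  rcases h with h | ⟨n, c, hcn, φ, r, hsurj, hker, hdim⟩
  · exfalso
    exact (Ideal.IsPrime.ne_top (inferInstance : Q.IsPrime)) (Subsingleton.elim _ _)
  · rw [isCIOver_localization_iff k φ hsurj Q]
    have hdim' : ringKrullDim (MvPolynomial (Fin n) k ⧸ Ideal.span (Set.range r)) =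
        ((n - c : ℕ) : WithBot ℕ∞) := by
      rw [← hker, ringKrullDim_eq_of_ringEquiv (RingHom.quotientKerEquivOfSurjective
        (f := φ.toRingHom) hsurj)]
      exact hdim
    have hle : Ideal.span (Set.range r) ≤ Q.comap φ.toRingHom := by
      rw [← hker]
      intro x hx
      rw [Ideal.mem_comap, RingHom.mem_ker.mp hx]
      exact Q.zero_mem
    refine ⟨(List.ofFn r).map (algebraMap _ _), ?_,
      isRegular_localization_of_dim k n c r hcn hdim' (Q.comap φ.toRingHom) hle⟩
    rw [← Ideal.map_ofList, ofList_ofFn, hker]

theorem isCIOver_localization_of_away {S₀ : Type u} [CommRing S₀] [Algebra k S₀]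
    (q : Ideal S₀) [q.IsPrime] (g : S₀) (hg : g ∉ q)
    (h : Synt.IsGlobalCI k (Localization.Away g)) :
    Synt.IsCIOver k (Localization.AtPrime q) := by
  have hdisj : Disjoint (Submonoid.powers g : Set S₀) (q : Set S₀) := by
    rw [Set.disjoint_left]
    rintro _ ⟨n, rfl⟩ hn
    exact hg (Ideal.IsPrime.mem_of_pow_mem inferInstance n hn)
  set Q := q.map (algebraMap S₀ (Localization.Away g)) with hQ
  haveI hQprime : Q.IsPrime :=
    IsLocalization.isPrime_of_isPrime_disjoint (Submonoid.powers g) _ q inferInstance hdisj
  have hcomap : Q.comap (algebraMap S₀ (Localization.Away g)) = q :=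
    IsLocalization.under_map_of_isPrime_disjoint (Submonoid.powers g) _ inferInstance hdisj
  have h1 := isCIOver_localization_of_isGlobalCI k _ h Q
  let e := IsLocalization.localizationLocalizationAtPrimeIsoLocalization (Submonoid.powers g) Q
  have h2 : Synt.IsCIOver k (Localization.AtPrime (Q.comap (algebraMap S₀ (Localization.Away g)))) :=
    isCIOver_of_algEquiv k (e.restrictScalars k).symm h1
  exact transport_prime hcomap (fun q₁ _ => Synt.IsCIOver k (Localization.AtPrime q₁)) h2

end Groth.Agent.Lib.Helper7.Synt
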