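import Mathlib
import Groth.Agent.Lib.Helper7Synt8

/-! # Global complete intersections: basic opens (helper7)

* `ringKrullDim_away_le`: `dim S_g ≤ N` if all components of `Spec S` meeting `D(g)` have
  dimension `≤ N`;
* `isGlobalCI_of_presentation`: a presentation with `n` variables and `c` relations of a ring of
  dimension `≤ n - c` exhibits a global complete intersection;
* `isGlobalCI_away_of_presentation`: a basic open of `Spec k[x]/(f_1..f_c)` all of whose
  components have dimension `≤ n - c` is a global complete intersection.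
-/

set_option autoImplicit false
set_option linter.style.haveILetI false
set_option linter.unusedSectionVars false
universe u
open RingTheory.Sequence Module TensorProduct IsLocalRing Groth.Agent.Lib.Helper28
open Groth.Agent.Lib.Helper7.CIPres
open scoped Pointwise

namespace Groth.Agent.Lib.Helper7.Synt

theorem ringKrullDim_away_le {S : Type*} [CommRing S] (g : S) (N : ℕ)
    (h : ∀ 𝔮 ∈ minimalPrimes S, g ∉ 𝔮 → ringKrullDim (S ⧸ 𝔮) ≤ (N : WithBot ℕ∞)) :
    ringKrullDim (Localization.Away g) ≤ (N : WithBot ℕ∞) := by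
  rw [← Groth.Agent.Lib.Helper14.LocalDim.topologicalKrullDim_basicOpen]
  apply Groth.Agent.Lib.Helper14.LocalDim.dim_basicOpen_le g (N : ℕ∞)
  intro x hx hgx
  haveI := hx
  apply Groth.Agent.Lib.Helper14.LocalDim.height_le_of_forall_minimalPrimes x (N : ℕ∞)
  intro 𝔮 h𝔮 h𝔮x
  exact h 𝔮 h𝔮 fun hg => hgx (h𝔮x hg)

variable (k : Type u) [Field k]

theorem isGlobalCI_of_presentation {T : Type u} [CommRing T] [Algebra k T] [Nontrivial T]
    {n c : ℕ} (Pres : Algebra.Presentation k T (Fin n) (Fin c)) (hcn : c ≤ n)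
    (hdim : ringKrullDim T ≤ ((n - c : ℕ) : WithBot ℕ∞)) : Synt.IsGlobalCI k T := by
  classical
  right
  let φ : MvPolynomial (Fin n) k →ₐ[k] T := MvPolynomial.aeval Pres.val
  have hφalg : (algebraMap Pres.Ring T) = φ.toRingHom := by
    rw [Pres.algebraMap_eq]; rfl
  have hφ : Function.Surjective φ := by
    have := Pres.algebraMap_surjective
    rw [hφalg] at this
    exact this
  have hker : RingHom.ker φ.toRingHom = Ideal.span (Set.range Pres.relation) := by
    rw [Pres.span_range_relation_eq_ker, ← hφalg]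
    rfl
  let e : (MvPolynomial (Fin n) k ⧸ RingHom.ker φ.toRingHom) ≃+* T :=
    RingHom.quotientKerEquivOfSurjective (f := φ.toRingHom) hφ
  refine ⟨n, c, hcn, φ, Pres.relation, hφ, hker, le_antisymm hdim ?_⟩
  haveI : Nontrivial (MvPolynomial (Fin n) k ⧸ RingHom.ker φ.toRingHom) := e.toEquiv.nontrivial
  obtain ⟨𝔮, h𝔮⟩ : (minimalPrimes (MvPolynomial (Fin n) k ⧸ RingHom.ker φ.toRingHom)).Nonempty := by
    obtain ⟨m, hm⟩ := Ideal.exists_maximal (MvPolynomial (Fin n) k ⧸ RingHom.ker φ.toRingHom)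
    obtain ⟨𝔮, h𝔮, -⟩ := Ideal.exists_minimalPrimes_le (bot_le : (⊥ : Ideal _) ≤ m)
    exact ⟨𝔮, h𝔮⟩
  have h1 := le_ringKrullDim_quotient_minimalPrimes k n c Pres.relation _ hker 𝔮 h𝔮
  rw [← ringKrullDim_eq_of_ringEquiv e]
  exact h1.trans (ringKrullDim_quotient_le 𝔮)

theorem isGlobalCI_away_of_presentation {S T : Type u} [CommRing S] [CommRing T] [Algebra k S]
    [Algebra k T] [Algebra S T] [IsScalarTower k S T] [Nontrivial T]
    {n c : ℕ} (Pres : Algebra.Presentation k S (Fin n) (Fin c)) (hcn : c ≤ n) (g : S)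
    [IsLocalization.Away g T]
    (hdim : ∀ 𝔮 ∈ minimalPrimes S, g ∉ 𝔮 → ringKrullDim (S ⧸ 𝔮) ≤ ((n - c : ℕ) : WithBot ℕ∞)) :
    Synt.IsGlobalCI k T := by
  have e₁ : Fin (n + 1) ≃ Unit ⊕ Fin n :=
    (Fintype.equivFinOfCardEq (by simp [Nat.add_comm])).symm
  have e₂ : Fin (c + 1) ≃ Unit ⊕ Fin c :=
    (Fintype.equivFinOfCardEq (by simp [Nat.add_comm])).symm
  let Pres' : Algebra.Presentation k T (Fin (n + 1)) (Fin (c + 1)) :=
    ((Algebra.Presentation.localizationAway T g).comp Pres).reindex e₁ e₂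
  apply isGlobalCI_of_presentation k Pres' (by omega)
  rw [Nat.add_sub_add_right]
  have e : Localization.Away g ≃ₐ[S] T := IsLocalization.algEquiv (Submonoid.powers g) _ _
  rw [← ringKrullDim_eq_of_ringEquiv e.toRingEquiv]
  exact ringKrullDim_away_le g (n - c) hdim

end Groth.Agent.Lib.Helper7.Synt
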