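import Mathlib
import Groth.Agent.Lib.Helper7Synt9

/-! # Global / local complete intersections localize (helper7)

* `presOfGCI`: the presentation given by the data of a global complete intersection;
* `isGlobalCI_away`: basic opens of a global complete intersection are global complete
  intersections;
* `isLCIOver_away`: the same for local complete intersections;
* `isLCIOver_of_isGlobalCI`.
-/

set_option autoImplicit false
set_option linter.style.haveILetI false
set_option linter.unusedSectionVars false
universe u
open RingTheory.Sequence Module TensorProduct IsLocalRing Groth.Agent.Lib.Helper28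
open Groth.Agent.Lib.Helper7.CIPres
open scoped Pointwise

namespace Groth.Agent.Lib.Helper7.Synt

variable (k : Type u) [Field k]

/-- the presentation given by the data of a global complete intersection -/
noncomputable def presOfGCI {S : Type u} [CommRing S] [Algebra k S] {n c : ℕ}
    (φ : MvPolynomial (Fin n) k →ₐ[k] S) (r : Fin c → MvPolynomial (Fin n) k)
    (hsurj : Function.Surjective φ) (hker : RingHom.ker φ.toRingHom = Ideal.span (Set.range r)) :
    Algebra.Presentation k S (Fin n) (Fin c) where
  toGenerators := Algebra.Generators.ofAlgHom φ hsurj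
  relation := r
  span_range_relation_eq_ker := by
    rw [Algebra.Generators.ker_ofAlgHom, hker]

theorem isGlobalCI_away {S : Type u} [CommRing S] [Algebra k S] (h : Synt.IsGlobalCI k S) (g : S)
    (T : Type u) [CommRing T] [Algebra k T] [Algebra S T] [IsScalarTower k S T]
    [IsLocalization.Away g T] : Synt.IsGlobalCI k T := by
  rcases subsingleton_or_nontrivial T with hT | hT
  · exact Or.inl hT
  rcases h with h | ⟨n, c, hcn, φ, r, hsurj, hker, hdim⟩
  · exfalso
    have : (1 : T) = 0 := by
      rw [← map_one (algebraMap S T), Subsingleton.elim (1 : S) 0, map_zero]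
    exact one_ne_zero this
  · apply isGlobalCI_away_of_presentation k (presOfGCI k φ r hsurj hker) hcn g
    intro 𝔮 _ _
    rw [← hdim]
    exact ringKrullDim_quotient_le 𝔮

theorem isLCIOver_of_isGlobalCI {S : Type u} [CommRing S] [Algebra k S] [Algebra.FiniteType k S]
    (h : Synt.IsGlobalCI k S) : Synt.IsLCIOver k S := by
  refine ⟨inferInstance, fun p => ⟨1, ?_, ?_⟩⟩
  · intro h1
    exact p.isPrime.ne_top ((Ideal.eq_top_iff_one _).mpr h1)
  · exact isGlobalCI_away k h 1 _

theorem isLCIOver_away {S : Type u} [CommRing S] [Algebra k S] (h : Synt.IsLCIOver k S) (g : S) :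
    Synt.IsLCIOver k (Localization.Away g) := by
  obtain ⟨hft, hloc⟩ := h
  refine ⟨inferInstance, fun 𝔓 => ?_⟩
  obtain ⟨h, hh, hGCI⟩ := hloc ⟨𝔓.asIdeal.comap (algebraMap S (Localization.Away g)), inferInstance⟩
  refine ⟨algebraMap S (Localization.Away g) h, hh, ?_⟩
  -- `(S_h)_g` is a global complete intersection
  have h1 : Synt.IsGlobalCI k (Localization.Away (algebraMap S (Localization.Away h) g)) :=
    isGlobalCI_away k hGCI (algebraMap S (Localization.Away h) g) _
  haveI i1 : IsLocalization.Away (h * g) (Localization.Away (algebraMap S (Localization.Away h) g)) :=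
    inferInstance
  haveI i2 : IsLocalization.Away (h * g) (Localization.Away (algebraMap S (Localization.Away g) h)) :=
    inferInstance
  let e : Localization.Away (algebraMap S (Localization.Away h) g) ≃ₐ[S]
      Localization.Away (algebraMap S (Localization.Away g) h) :=
    IsLocalization.algEquiv (Submonoid.powers (h * g)) _ _
  exact Groth.Agent.S9146.isGlobalCI_of_algEquiv (e.restrictScalars k) h1

end Groth.Agent.Lib.Helper7.Synt
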