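import Mathlib
import Groth.Agent.Lib.Helper7Synt10

/-! # From a regular sequence at a point to a global complete intersection neighbourhood (helper7)

General lemmas:
* `exists_lift_generators`: clearing denominators of generators of an extended ideal;
* `exists_mul_mem_of_map_eq`: `J ≤ I`, `I` f.g., `J S⁻¹R = I S⁻¹R` ⟹ `s I ⊆ J` for some `s ∈ S`;
* `exists_mem_bad_minimalPrimes`: prime avoidance for the minimal primes not contained in `q'`.
-/

set_option autoImplicit false
set_option linter.style.haveILetI false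
set_option linter.unusedSectionVars false
universe u
open RingTheory.Sequence Module TensorProduct IsLocalRing Groth.Agent.Lib.Helper28
open Groth.Agent.Lib.Helper7.CIPres
open scoped Pointwise

namespace Groth.Agent.Lib.Helper7.Synt

section General

variable {R : Type*} [CommRing R] (M : Submonoid R) (S : Type*) [CommRing S] [Algebra R S]
  [IsLocalization M S]

include M in
theorem exists_lift_generators (I : Ideal R) {c : ℕ} (v : Fin c → S)
    (hv : Ideal.span (Set.range v) = I.map (algebraMap R S)) :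
    ∃ f : Fin c → R, (∀ i, f i ∈ I) ∧
      Ideal.span (Set.range fun i => algebraMap R S (f i)) = I.map (algebraMap R S) := by
  have hmem : ∀ i, v i ∈ I.map (algebraMap R S) := fun i => by
    rw [← hv]
    exact Ideal.subset_span ⟨i, rfl⟩
  have hex : ∀ i, ∃ x : I × M, v i * algebraMap R S x.2 = algebraMap R S x.1 := fun i =>
    (IsLocalization.mem_map_algebraMap_iff M S).mp (hmem i)
  choose x hx using hex
  refine ⟨fun i => ((x i).1 : R), fun i => (x i).1.2, ?_⟩
  rw [← hv]
  apply le_antisymm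
  · rw [Ideal.span_le]
    rintro _ ⟨i, rfl⟩
    show algebraMap R S (x i).1 ∈ _
    rw [← hx i]
    exact Ideal.mul_mem_right _ _ (Ideal.subset_span ⟨i, rfl⟩)
  · rw [Ideal.span_le]
    rintro _ ⟨i, rfl⟩
    have hu : IsUnit (algebraMap R S (x i).2) := IsLocalization.map_units S (x i).2
    obtain ⟨w, hw⟩ := hu.exists_right_inv
    have : v i = algebraMap R S (x i).1 * w := by
      rw [← hx i, mul_assoc, hw, mul_one]
    rw [this]
    exact Ideal.mul_mem_right _ _ (Ideal.subset_span ⟨i, rfl⟩)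

theorem exists_mul_mem_of_map_eq (I J : Ideal R) (hI : I.FG)
    (h : I.map (algebraMap R S) ≤ J.map (algebraMap R S)) :
    ∃ s ∈ M, ∀ x ∈ I, s * x ∈ J := by
  classical
  obtain ⟨B, rfl⟩ := hI
  have hex : ∀ b ∈ B, ∃ s : R, s ∈ M ∧ s * b ∈ J := by
    intro b hb
    have h1 : algebraMap R S b ∈ J.map (algebraMap R S) :=
      h (Ideal.mem_map_of_mem _ (Ideal.subset_span hb))
    obtain ⟨⟨j, s⟩, hjs⟩ := (IsLocalization.mem_map_algebraMap_iff M S).mp h1
    rw [← map_mul] at hjs
    obtain ⟨t, ht⟩ := (IsLocalization.eq_iff_exists M S).mp hjs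
    refine ⟨t * s, M.mul_mem t.2 s.2, ?_⟩
    have : (t : R) * s * b = t * j := by
      rw [← ht]; ring
    rw [this]
    exact Ideal.mul_mem_left _ _ j.2
  choose! s hsM hsJ using hex
  refine ⟨∏ b ∈ B, s b, Submonoid.prod_mem M fun b hb => hsM b hb, ?_⟩
  intro x hx
  induction hx using Submodule.span_induction with
  | mem b hb =>
    obtain ⟨w, hw⟩ := Finset.dvd_prod_of_mem s hb
    rw [hw, mul_comm (s b) w, mul_assoc]
    exact Ideal.mul_mem_left _ _ (hsJ b hb)
  | zero => rw [mul_zero]; exact J.zero_mem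
  | add x y _ _ hx hy => rw [mul_add]; exact J.add_mem hx hy
  | smul a x _ hx =>
    rw [smul_eq_mul, mul_left_comm]
    exact Ideal.mul_mem_left _ _ hx

end General

theorem exists_mem_bad_minimalPrimes {A : Type*} [CommRing A] [IsNoetherianRing A] (J : Ideal A)
    (q' : Ideal A) [q'.IsPrime] :
    ∃ g ∉ q', ∀ p ∈ J.minimalPrimes, ¬ p ≤ q' → g ∈ p := by
  classical
  have hfin : (J.minimalPrimes).Finite := Ideal.finite_minimalPrimes_of_isNoetherianRing A J
  let s : Finset (Ideal A) := hfin.toFinset.filter fun p => ¬ p ≤ q'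
  have hnot : ¬ s.inf id ≤ q' := by
    intro hle
    obtain ⟨p, hp, hpq⟩ := (Ideal.IsPrime.inf_le' (inferInstance : q'.IsPrime)).mp hle
    rw [Finset.mem_filter] at hp
    exact hp.2 hpq
  obtain ⟨g, hg, hgq⟩ := SetLike.not_le_iff_exists.mp hnot
  refine ⟨g, hgq, fun p hp hpq => ?_⟩
  have hps : p ∈ s := by
    rw [Finset.mem_filter]
    exact ⟨hfin.mem_toFinset.mpr hp, hpq⟩
  exact (Finset.inf_le hps : s.inf id ≤ id p) hg


theorem isLocalization_away_of_surjective {B S₀ T : Type*} [CommRing B] [CommRing S₀] [CommRing T]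
    [Algebra S₀ T] [Algebra B T] (ψ : B →+* S₀) (hψ : Function.Surjective ψ)
    (hcomp : algebraMap B T = (algebraMap S₀ T).comp ψ) (b₁ b : B) (hdvd : b₁ ∣ b)
    (hker : ∀ x, ψ x = 0 → b₁ * x = 0) [IsLocalization.Away (ψ b) T] : IsLocalization.Away b T := by
  have hcomp' : ∀ x, algebraMap B T x = algebraMap S₀ T (ψ x) := fun x => by rw [hcomp]; rfl
  refine IsLocalization.Away.mk b ?_ ?_ ?_
  · rw [hcomp']
    exact IsLocalization.Away.algebraMap_isUnit (ψ b)
  · intro z
    obtain ⟨m, a₀, h⟩ := IsLocalization.Away.surj (ψ b) z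
    obtain ⟨a, rfl⟩ := hψ a₀
    exact ⟨m, a, by rw [hcomp', hcomp', h]⟩
  · intro a a' h
    rw [hcomp', hcomp'] at h
    obtain ⟨m, hm⟩ := IsLocalization.Away.exists_of_eq (ψ b) h
    have h0 : ψ (b ^ m * (a - a')) = 0 := by
      rw [map_mul, map_sub, map_pow, mul_sub, hm, sub_self]
    have h1 := hker _ h0
    obtain ⟨w, rfl⟩ := hdvd
    refine ⟨m + 1, ?_⟩
    rw [← sub_eq_zero, ← mul_sub, pow_succ]
    calc (b₁ * w) ^ m * (b₁ * w) * (a - a') = w * (b₁ * ((b₁ * w) ^ m * (a - a'))) := by ring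
      _ = 0 := by rw [h1, mul_zero]

section Field

variable (k : Type u) [Field k] (n : ℕ)

/-- `ht p₀ + dim (k[x]/J)/𝔮 = n`, `p₀` the preimage of the prime `𝔮`. -/
theorem height_comap_add_ringKrullDim_quotient (J : Ideal (MvPolynomial (Fin n) k))
    (𝔮 : Ideal (MvPolynomial (Fin n) k ⧸ J)) [𝔮.IsPrime] :
    (((𝔮.comap (Ideal.Quotient.mk J)).height : ℕ∞) : WithBot ℕ∞) +
      ringKrullDim ((MvPolynomial (Fin n) k ⧸ J) ⧸ 𝔮) = n := by
  have hk : LocCoh.IsCohenMacaulayRing k := isCohenMacaulayRing_of_field k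
  have hS : LocCoh.IsCohenMacaulayRing (MvPolynomial (Fin n) k) :=
    isCohenMacaulayRing_mvPolynomial_fin n
  set q' := 𝔮.comap (Ideal.Quotient.mk J) with hq'
  haveI : q'.IsPrime := Ideal.comap_isPrime _ _
  have hJq' : J ≤ q' := by
    intro x hx
    rw [hq', Ideal.mem_comap, Ideal.Quotient.eq_zero_iff_mem.mpr hx]
    exact 𝔮.zero_mem
  have h1 := height_add_ringKrullDim_quotient_eq_of_forall_isMaximal_height_eq' n
    (height_eq_of_isMaximal_mvPolynomial_fin k n) q' (Ideal.IsPrime.ne_top inferInstance)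
  have hmap : q'.map (Ideal.Quotient.mk J) = 𝔮 :=
    Ideal.map_comap_of_surjective _ Ideal.Quotient.mk_surjective 𝔮
  have e : ((MvPolynomial (Fin n) k ⧸ J) ⧸ 𝔮) ≃+* (MvPolynomial (Fin n) k ⧸ q') := by
    rw [← hmap]
    exact DoubleQuot.quotQuotEquivQuotOfLE hJq'
  rw [ringKrullDim_eq_of_ringEquiv e]
  exact h1

end Field

end Groth.Agent.Lib.Helper7.Synt
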