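import Mathlib
import Groth.Agent.Lib.Helper7Synt11

/-! # From generators at a point to a global complete intersection neighbourhood (helper7)

* `exists_isGlobalCI_away`: `S₀ = k[x]/I`, `q` prime of `S₀`; if `I k[x]_{q'}` is generated by `c`
  elements and has height `≥ c`, then `(S₀)_g` is a global complete intersection for some `g ∉ q`.
-/

set_option autoImplicit false
set_option linter.style.haveILetI false
set_option linter.unusedSectionVars false
universe u
open RingTheory.Sequence Module TensorProduct IsLocalRing Groth.Agent.Lib.Helper28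
open Groth.Agent.Lib.Helper7.CIPres
open scoped Pointwise

namespace Groth.Agent.Lib.Helper7.Synt

variable (k : Type u) [Field k] {n : ℕ} {S₀ : Type u} [CommRing S₀] [Algebra k S₀]
  (φ : MvPolynomial (Fin n) k →ₐ[k] S₀) (hφ : Function.Surjective φ) (q : Ideal S₀) [q.IsPrime]

local notation "q'" => Ideal.comap (AlgHom.toRingHom φ) q
local notation "L" => Localization.AtPrime (Ideal.comap (AlgHom.toRingHom φ) q)

include hφ in
theorem exists_isGlobalCI_away (c : ℕ) (v : Fin c → Localization.AtPrime (q.comap φ.toRingHom))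
    (hv : Ideal.span (Set.range v) = (RingHom.ker φ.toRingHom).map
      (algebraMap _ (Localization.AtPrime (q.comap φ.toRingHom))))
    (hc : (c : ℕ∞) ≤ ((RingHom.ker φ.toRingHom).map
      (algebraMap _ (Localization.AtPrime (q.comap φ.toRingHom)))).height) :
    ∃ g : S₀, g ∉ q ∧ Synt.IsGlobalCI k (Localization.Away g) := by
  classical
  set P := MvPolynomial (Fin n) k with hP
  set I := RingHom.ker φ.toRingHom with hI
  haveI : (q').IsPrime := Ideal.comap_isPrime _ _
  obtain ⟨f, hfI, hf⟩ := exists_lift_generators (q').primeCompl L I v hv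
  set J := Ideal.span (Set.range f) with hJ
  have hJI : J ≤ I := Ideal.span_le.mpr (by rintro _ ⟨i, rfl⟩; exact hfI i)
  have hJmap : J.map (algebraMap P L) = I.map (algebraMap P L) := by
    rw [← hf, hJ, Ideal.map_span, ← Set.range_comp]
    rfl
  obtain ⟨g₁, hg₁, hg₁J⟩ := exists_mul_mem_of_map_eq (q').primeCompl L I J
    (IsNoetherian.noetherian I) (le_of_eq hJmap.symm)
  obtain ⟨g₂, hg₂, hbad⟩ := exists_mem_bad_minimalPrimes J q'
  have hg' : g₁ * g₂ ∉ q' := (inferInstance : (q').IsPrime).mul_notMem hg₁ hg₂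
  refine ⟨φ (g₁ * g₂), hg', ?_⟩
  set g := φ (g₁ * g₂) with hg
  have hJker : ∀ a ∈ J, φ a = 0 := fun a ha => RingHom.mem_ker.mp (hJI ha)
  let ψ : P ⧸ J →ₐ[k] S₀ := Ideal.Quotient.liftₐ J φ hJker
  have hψmk : ∀ a, ψ (Ideal.Quotient.mk J a) = φ a := fun a => rfl
  have hψ : Function.Surjective ψ := by
    intro y
    obtain ⟨a, rfl⟩ := hφ y
    exact ⟨Ideal.Quotient.mk J a, rfl⟩
  letI algT : Algebra (P ⧸ J) (Localization.Away g) :=
    ((algebraMap S₀ (Localization.Away g)).comp ψ.toRingHom).toAlgebra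
  haveI tower : IsScalarTower k (P ⧸ J) (Localization.Away g) := by
    have h : ∀ r : k, algebraMap k (Localization.Away g) r =
        algebraMap (P ⧸ J) (Localization.Away g) (algebraMap k (P ⧸ J) r) := by
      intro r
      show _ = algebraMap S₀ (Localization.Away g) (ψ (algebraMap k (P ⧸ J) r))
      rw [ψ.commutes, ← IsScalarTower.algebraMap_apply]
    exact IsScalarTower.of_algebraMap_eq h
  haveI away : IsLocalization.Away (Ideal.Quotient.mk J (g₁ * g₂)) (Localization.Away g) := by
    haveI : IsLocalization.Away (ψ.toRingHom (Ideal.Quotient.mk J (g₁ * g₂)))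
        (Localization.Away g) := by
      show IsLocalization.Away g (Localization.Away g)
      infer_instance
    refine isLocalization_away_of_surjective ψ.toRingHom hψ rfl (Ideal.Quotient.mk J g₁)
      (Ideal.Quotient.mk J (g₁ * g₂)) ⟨Ideal.Quotient.mk J g₂, by rw [map_mul]⟩ ?_
    intro x hx
    obtain ⟨a, rfl⟩ := Ideal.Quotient.mk_surjective x
    have haI : a ∈ I := RingHom.mem_ker.mpr hx
    rw [← map_mul, Ideal.Quotient.eq_zero_iff_mem]
    exact hg₁J a haI
  haveI ntT : Nontrivial (Localization.Away g) := by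
    rw [← not_subsingleton_iff_nontrivial,
      IsLocalization.subsingleton_iff (M := Submonoid.powers g)]
    rintro ⟨m, hm⟩
    have : g ^ m ∈ q := by
      rw [show g ^ m = 0 from hm]; exact Ideal.zero_mem _
    exact hg' (Ideal.IsPrime.mem_of_pow_mem (I := q) inferInstance m this)
  -- the height estimate for the good minimal primes
  have hgood : ∀ 𝔮 ∈ minimalPrimes (P ⧸ J), Ideal.Quotient.mk J (g₁ * g₂) ∉ 𝔮 →
      (c : ℕ∞) ≤ (𝔮.comap (Ideal.Quotient.mk J)).height := by
    intro 𝔮 h𝔮 hg𝔮
    haveI : 𝔮.IsPrime := h𝔮.1.1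
    set p₀ := 𝔮.comap (Ideal.Quotient.mk J) with hp₀
    haveI : p₀.IsPrime := Ideal.comap_isPrime _ _
    have hp₀min : p₀ ∈ J.minimalPrimes := by
      rw [Ideal.minimalPrimes_eq_comap]
      exact ⟨𝔮, h𝔮, rfl⟩
    have hp₀q' : p₀ ≤ q' := by
      by_contra hnot
      have h2 : g₂ ∈ p₀ := hbad p₀ hp₀min hnot
      exact hg𝔮 (Ideal.mul_mem_left p₀ g₁ h2)
    have hdisj : Disjoint ((q').primeCompl : Set P) (p₀ : Set P) := by
      rw [Set.disjoint_left]
      intro x hx hxp
      exact hx (hp₀q' hxp)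
    rw [← IsLocalization.height_map_of_disjoint (S := L) (q').primeCompl p₀ hdisj]
    refine hc.trans (Ideal.height_mono ?_)
    rw [← hJmap]
    exact Ideal.map_mono hp₀min.1.2
  -- `c ≤ n`
  have hcn : c ≤ n := by
    obtain ⟨m, hm⟩ := Ideal.exists_maximal (Localization.Away g)
    haveI := hm.isPrime
    haveI : (m.comap (algebraMap (P ⧸ J) (Localization.Away g))).IsPrime := Ideal.comap_isPrime _ _
    obtain ⟨𝔮, h𝔮, h𝔮m⟩ := Ideal.exists_minimalPrimes_le
      (bot_le : (⊥ : Ideal _) ≤ m.comap (algebraMap (P ⧸ J) (Localization.Away g)))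
    haveI : 𝔮.IsPrime := h𝔮.1.1
    have hg𝔮 : Ideal.Quotient.mk J (g₁ * g₂) ∉ 𝔮 := by
      intro hmem
      have h1 : algebraMap (P ⧸ J) (Localization.Away g) (Ideal.Quotient.mk J (g₁ * g₂)) ∈ m :=
        h𝔮m hmem
      exact hm.ne_top (Ideal.eq_top_of_isUnit_mem _ h1
        (IsLocalization.Away.algebraMap_isUnit (Ideal.Quotient.mk J (g₁ * g₂))))
    have h1 := hgood 𝔮 h𝔮 hg𝔮
    have h2 := height_comap_add_ringKrullDim_quotient k n J 𝔮
    obtain ⟨a, ha⟩ := ENat.ne_top_iff_exists.mp
      (Ideal.height_ne_top_of_isPrime (I := 𝔮.comap (Ideal.Quotient.mk J)))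
    rw [← ha] at h1 h2
    have hac : c ≤ a := by exact_mod_cast h1
    generalize ringKrullDim ((P ⧸ J) ⧸ 𝔮) = d at h2
    induction d using WithBot.recBotCoe with
    | bot => simp at h2
    | coe d =>
      induction d using ENat.recTopCoe with
      | top =>
        exfalso
        have : (((a : ℕ∞) + ⊤ : ℕ∞) : WithBot ℕ∞) = ((n : ℕ∞) : WithBot ℕ∞) := by
          rw [WithBot.coe_add]; exact h2
        have := WithBot.coe_injective this
        simp at this
      | coe d =>
        have h3 : a + d = n := by exact_mod_cast h2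
        omega
  apply isGlobalCI_away_of_presentation k (Algebra.Presentation.naive (v := f)) hcn
    (Ideal.Quotient.mk J (g₁ * g₂))
  intro 𝔮 h𝔮 hg𝔮
  haveI : 𝔮.IsPrime := h𝔮.1.1
  have h1 := hgood 𝔮 h𝔮 hg𝔮
  have h2 := height_comap_add_ringKrullDim_quotient k n J 𝔮
  obtain ⟨a, ha⟩ := ENat.ne_top_iff_exists.mp
    (Ideal.height_ne_top_of_isPrime (I := 𝔮.comap (Ideal.Quotient.mk J)))
  rw [← ha] at h1 h2
  have hac : c ≤ a := by exact_mod_cast h1
  generalize ringKrullDim ((P ⧸ J) ⧸ 𝔮) = d at h2 ⊢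
  induction d using WithBot.recBotCoe with
  | bot => exact bot_le
  | coe d =>
    induction d using ENat.recTopCoe with
    | top =>
      exfalso
      have : (((a : ℕ∞) + ⊤ : ℕ∞) : WithBot ℕ∞) = ((n : ℕ∞) : WithBot ℕ∞) := by
        rw [WithBot.coe_add]; exact h2
      have := WithBot.coe_injective this
      simp at this
    | coe d =>
      have h3 : a + d = n := by exact_mod_cast h2
      have h4 : d ≤ n - c := by omega
      exact natCast_withBot_le.mpr h4

end Groth.Agent.Lib.Helper7.Synt
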