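import Mathlib
import Groth.Agent.Lib.Helper7Synt12

/-! # Complete intersections over a field: local ⟺ global on a neighbourhood (helper7)

* `good_iff_height`: in a regular local ring, `Good L 𝔞` iff `𝔞` is generated by `c ≤ ht 𝔞` elements;
* `isCIOver_localization_iff_exists_away'` (with a chosen presentation) and
  `isCIOver_localization_iff_exists_away`: for `S` of finite type over `k` and `q` prime,
  `S_q` is CI over `k` iff `S_g` is a global complete intersection for some `g ∉ q`.
-/

set_option autoImplicit false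
set_option linter.style.haveILetI false
set_option linter.unusedSectionVars false
universe u
open RingTheory.Sequence Module TensorProduct IsLocalRing Groth.Agent.Lib.Helper28
open Groth.Agent.Lib.Helper7.CIPres
open scoped Pointwise

namespace Groth.Agent.Lib.Helper7.Synt

section Good

variable {L : Type u} [CommRing L] [IsRegularLocalRing L]

theorem good_iff_height (𝔞 : Ideal L) (h𝔞 : 𝔞 ≠ ⊤) :
    Good L 𝔞 ↔ ∃ (c : ℕ) (v : Fin c → L), Ideal.span (Set.range v) = 𝔞 ∧ (c : ℕ∞) ≤ 𝔞.height := by
  have hCMR : LocCoh.IsCohenMacaulayLocalRing L :=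
    Groth.Agent.Lib.Helper5.isCohenMacaulayLocalRing_of_isRegularLocalRing L
  have h1 := height_add_ringKrullDim_quotient_eq_of_isCohenMacaulayLocalRing 𝔞 h𝔞
  haveI : Nontrivial (L ⧸ 𝔞) := Ideal.Quotient.nontrivial_iff.mpr h𝔞
  obtain ⟨a, ha⟩ := ENat.ne_top_iff_exists.mp (Ideal.height_ne_top h𝔞)
  obtain ⟨d, hd⟩ := Groth.Agent.Lib.Helper19.exists_nat_ringKrullDim (L ⧸ 𝔞)
  constructor
  · rintro ⟨c, v, hv, hle⟩
    refine ⟨c, v, hv, ?_⟩
    rw [← h1, ← ha, hd] at hle
    rw [← ha]
    have : c + d ≤ a + d := by exact_mod_cast hle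
    have : c ≤ a := by omega
    exact_mod_cast this
  · rintro ⟨c, v, hv, hle⟩
    refine ⟨c, v, hv, ?_⟩
    rw [← h1, ← ha, hd]
    rw [← ha] at hle
    have : c ≤ a := by exact_mod_cast hle
    have : c + d ≤ a + d := by omega
    exact_mod_cast this

end Good

variable (k : Type u) [Field k]

section Pres

variable {n : ℕ} {S₀ : Type u} [CommRing S₀] [Algebra k S₀]
  (φ : MvPolynomial (Fin n) k →ₐ[k] S₀) (hφ : Function.Surjective φ) (q : Ideal S₀) [q.IsPrime]

include hφ in
theorem map_ker_ne_top : (RingHom.ker φ.toRingHom).map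
    (algebraMap _ (Localization.AtPrime (q.comap φ.toRingHom))) ≠ ⊤ := by
  rw [← ker_locMap φ q hφ]
  exact RingHom.ker_ne_top _

include hφ in
theorem isCIOver_localization_iff_exists_away' :
    Synt.IsCIOver k (Localization.AtPrime q) ↔
      ∃ g : S₀, g ∉ q ∧ Synt.IsGlobalCI k (Localization.Away g) := by
  constructor
  · intro h
    haveI := isRegularLocalRing_localization_mvPolynomial k n (q.comap φ.toRingHom)
    rw [isCIOver_localization_iff k φ hφ q, regular_iff_good _ (map_ker_ne_top k φ hφ q),
      good_iff_height _ (map_ker_ne_top k φ hφ q)] at h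
    obtain ⟨c, v, hv, hc⟩ := h
    exact exists_isGlobalCI_away k φ hφ q c v hv hc
  · rintro ⟨g, hg, h⟩
    exact isCIOver_localization_of_away k q g hg h

end Pres

theorem isCIOver_localization_iff_exists_away {S : Type u} [CommRing S] [Algebra k S]
    [Algebra.FiniteType k S] (q : Ideal S) [q.IsPrime] :
    Synt.IsCIOver k (Localization.AtPrime q) ↔
      ∃ g : S, g ∉ q ∧ Synt.IsGlobalCI k (Localization.Away g) := by
  obtain ⟨n, φ, hφ⟩ := Algebra.FiniteType.iff_quotient_mvPolynomial''.mp
    (inferInstance : Algebra.FiniteType k S)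
  exact isCIOver_localization_iff_exists_away' k φ hφ q

end Groth.Agent.Lib.Helper7.Synt
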