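import Mathlib
import Groth.Agent.Lib.Helper7Synt13

/-! # Complete intersections over a field: localization of a localization (helper7) -/

set_option autoImplicit false
set_option linter.style.haveILetI false
set_option linter.unusedSectionVars false
universe u
open RingTheory.Sequence Module TensorProduct IsLocalRing Groth.Agent.Lib.Helper28
open Groth.Agent.Lib.Helper7.CIPres
open scoped Pointwise

namespace Groth.Agent.Lib.Helper7.Synt

variable (k : Type u) [Field k] {S : Type u} [CommRing S] [Algebra k S]

theorem disjoint_powers_of_notMem (q : Ideal S) [q.IsPrime] (g : S) (hg : g ∉ q) :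
    Disjoint (Submonoid.powers g : Set S) (q : Set S) := by
  rw [Set.disjoint_left]
  rintro _ ⟨n, rfl⟩ hn
  exact hg (Ideal.IsPrime.mem_of_pow_mem inferInstance n hn)

theorem isPrime_map_away (q : Ideal S) [q.IsPrime] (g : S) (hg : g ∉ q) :
    (q.map (algebraMap S (Localization.Away g))).IsPrime :=
  IsLocalization.isPrime_of_isPrime_disjoint (Submonoid.powers g) _ q inferInstance
    (disjoint_powers_of_notMem q g hg)

theorem comap_map_away (q : Ideal S) [q.IsPrime] (g : S) (hg : g ∉ q) :
    (q.map (algebraMap S (Localization.Away g))).comap (algebraMap S (Localization.Away g)) = q :=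
  IsLocalization.under_map_of_isPrime_disjoint (Submonoid.powers g) _ inferInstance
    (disjoint_powers_of_notMem q g hg)

/-- `(S_g)_{qS_g} ≅ S_q` as `k`-algebras. -/
theorem nonempty_algEquiv_localization_away (q : Ideal S) [q.IsPrime] (g : S) (hg : g ∉ q)
    (Q : Ideal (Localization.Away g)) [Q.IsPrime]
    (hQ : Q.comap (algebraMap S (Localization.Away g)) = q) :
    Nonempty (Localization.AtPrime q ≃ₐ[k] Localization.AtPrime Q) := by
  let e := IsLocalization.localizationLocalizationAtPrimeIsoLocalization (Submonoid.powers g) Q
  have h2 : Nonempty (Localization.AtPrime (Q.comap (algebraMap S (Localization.Away g))) ≃ₐ[k]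
      Localization.AtPrime Q) := ⟨e.restrictScalars k⟩
  exact transport_prime hQ
    (fun q₁ _ => Nonempty (Localization.AtPrime q₁ ≃ₐ[k] Localization.AtPrime Q)) h2

theorem isCIOver_localization_away_iff (q : Ideal S) [q.IsPrime] (g : S) (hg : g ∉ q)
    (Q : Ideal (Localization.Away g)) [Q.IsPrime]
    (hQ : Q.comap (algebraMap S (Localization.Away g)) = q) :
    Synt.IsCIOver k (Localization.AtPrime Q) ↔ Synt.IsCIOver k (Localization.AtPrime q) := by
  obtain ⟨e⟩ := nonempty_algEquiv_localization_away k q g hg Q hQ
  exact ⟨isCIOver_of_algEquiv k e.symm, isCIOver_of_algEquiv k e⟩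

/-- if `S_g` is a local complete intersection for some `g ∉ q`, then `S_q` is a complete
intersection. -/
theorem isCIOver_localization_of_isLCIOver_away (q : Ideal S) [q.IsPrime] (g : S) (hg : g ∉ q)
    (h : Synt.IsLCIOver k (Localization.Away g)) : Synt.IsCIOver k (Localization.AtPrime q) := by
  haveI := isPrime_map_away q g hg
  obtain ⟨h', hh', hGCI⟩ := h.2 ⟨q.map (algebraMap S (Localization.Away g)), inferInstance⟩
  have h1 := isCIOver_localization_of_away k (q.map (algebraMap S (Localization.Away g))) h' hh' hGCI
  exact (isCIOver_localization_away_iff k q g hg _ (comap_map_away q g hg)).mp h1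

theorem isCIOver_localization_of_isLCIOver (h : Synt.IsLCIOver k S) (q : Ideal S) [q.IsPrime] :
    Synt.IsCIOver k (Localization.AtPrime q) := by
  obtain ⟨g, hg, hGCI⟩ := h.2 ⟨q, inferInstance⟩
  exact isCIOver_localization_of_away k q g hg hGCI

end Groth.Agent.Lib.Helper7.Synt
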