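import Mathlib
import Groth.Agent.Lib.Helper7Synt14

/-! # Complete intersections over a field: essentially finite type local algebras (helper7)

* `exists_finiteType_localization`: a local essentially finite type `k`-algebra is the localization
  of a finite type `k`-algebra at a prime;
* `exists_regular_presentation`: ... and a quotient of a regular local ring essentially of finite
  type;
* `isCIOver_iff_exists_isGlobalCI`, `isCIOver_iff_exists_isLCIOver`, `isCIOver_iff_exists_dim`.
-/

set_option autoImplicit false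
set_option linter.style.haveILetI false
set_option linter.unusedSectionVars false
universe u
open RingTheory.Sequence Module TensorProduct IsLocalRing Groth.Agent.Lib.Helper28
open Groth.Agent.Lib.Helper7.CIPres
open scoped Pointwise

namespace Groth.Agent.Lib.Helper7.Synt

variable (k : Type u) [Field k] (S : Type u) [CommRing S] [IsLocalRing S] [Algebra k S]

theorem exists_finiteType_localization [Algebra.EssFiniteType k S] :
    ∃ (S₀ : Type u) (_ : CommRing S₀) (_ : Algebra k S₀) (a : Ideal S₀) (_ : a.IsPrime),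
      Algebra.FiniteType k S₀ ∧ Nonempty (S ≃ₐ[k] Localization.AtPrime a) := by
  let S₀ := Algebra.EssFiniteType.subalgebra k S
  let a : Ideal S₀ := (maximalIdeal S).comap (algebraMap S₀ S)
  haveI : a.IsPrime := Ideal.comap_isPrime _ _
  have hM : Algebra.EssFiniteType.submonoid k S = a.primeCompl := by
    ext x
    show IsUnit (algebraMap S₀ S x) ↔ ¬ (algebraMap S₀ S x ∈ maximalIdeal S)
    rw [mem_maximalIdeal, mem_nonunits_iff, not_not]
  haveI : IsLocalization a.primeCompl S := by
    rw [← hM]; infer_instance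
  let e : S ≃ₐ[S₀] Localization.AtPrime a := IsLocalization.algEquiv a.primeCompl S _
  exact ⟨S₀, inferInstance, inferInstance, a, inferInstance, inferInstance, ⟨e.restrictScalars k⟩⟩

theorem exists_regular_presentation [Algebra.EssFiniteType k S] :
    ∃ (R : Type u) (_ : CommRing R) (_ : IsRegularLocalRing R) (_ : Algebra k R),
      Algebra.EssFiniteType k R ∧ ∃ π : R →ₐ[k] S, Function.Surjective π := by
  obtain ⟨S₀, _, _, a, _, hft, ⟨e⟩⟩ := exists_finiteType_localization k S
  obtain ⟨n, φ, hφ⟩ := Algebra.FiniteType.iff_quotient_mvPolynomial''.mp hft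
  haveI := isRegularLocalRing_localization_mvPolynomial k n (a.comap φ.toRingHom)
  exact ⟨Localization.AtPrime (a.comap φ.toRingHom), inferInstance, inferInstance, inferInstance,
    inferInstance, e.symm.toAlgHom.comp (locMap φ a),
    e.symm.surjective.comp (locMap_surjective φ a hφ)⟩

variable {S}

theorem isCIOver_iff_forall [Algebra.EssFiniteType k S] :
    Synt.IsCIOver k S ↔
      ∀ (R : Type u) [CommRing R] [IsRegularLocalRing R] [Algebra k R], Algebra.EssFiniteType k R →
        ∀ π : R →ₐ[k] S, Function.Surjective π →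
          ∃ rs : List R, IsRegular R rs ∧ RingHom.ker π.toRingHom = Ideal.ofList rs := by
  constructor
  · intro h R _ _ _ hess π hπ
    obtain ⟨rs, h1, h2⟩ := (isCIOver_iff_regular_ker k R hess π hπ).mp h
    exact ⟨rs, h2, h1.symm⟩
  · intro h
    obtain ⟨R, _, _, _, hess, π, hπ⟩ := exists_regular_presentation k S
    obtain ⟨rs, h2, h1⟩ := h R hess π hπ
    exact (isCIOver_iff_regular_ker k R hess π hπ).mpr ⟨rs, h1.symm, h2⟩

theorem isCIOver_iff_exists_dim :
    Synt.IsCIOver k S ↔
      ∃ (R : Type u) (_ : CommRing R) (_ : IsRegularLocalRing R) (_ : Algebra k R),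
        Algebra.EssFiniteType k R ∧ ∃ π : R →ₐ[k] S, Function.Surjective π ∧
          ∃ rs : List R, RingHom.ker π.toRingHom = Ideal.ofList rs ∧
            ringKrullDim R = ringKrullDim S + (rs.length : WithBot ℕ∞) := by
  constructor
  · rintro ⟨R₀, i1, i2, i3, hess, rs₀, -, hreg₀, ⟨ε⟩⟩
    let π : R₀ →ₐ[k] S := ε.symm.toAlgHom.comp (Ideal.Quotient.mkₐ k (Ideal.ofList rs₀))
    have hπ : Function.Surjective π := ε.symm.surjective.comp (Ideal.Quotient.mkₐ_surjective k _)
    have hk : RingHom.ker π.toRingHom = Ideal.ofList rs₀ := by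
      ext b
      rw [RingHom.mem_ker]
      change ε.symm (Ideal.Quotient.mk _ b) = 0 ↔ _
      rw [EmbeddingLike.map_eq_zero_iff, Ideal.Quotient.eq_zero_iff_mem]
    refine ⟨R₀, i1, i2, i3, hess, π, hπ, rs₀, hk, ?_⟩
    rw [← ringKrullDim_add_length_eq_ringKrullDim_of_isRegular rs₀ hreg₀,
      ringKrullDim_eq_of_ringEquiv ε.toRingEquiv]
  · rintro ⟨R, i1, i2, i3, hess, π, hπ, rs, hk, hdim⟩
    rw [isCIOver_iff_regular_ker k R hess π hπ, regular_iff_good _ (RingHom.ker_ne_top _)]
    refine ⟨rs.length, rs.get, ?_, ?_⟩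
    · rw [hk, ofList_eq_span_range_get]
    · rw [dim_quot_ker π.toRingHom hπ, hdim, add_comm]

theorem isCIOver_iff_exists_isGlobalCI [Algebra.EssFiniteType k S] :
    Synt.IsCIOver k S ↔
      ∃ (A : Type u) (_ : CommRing A) (_ : Algebra k A) (a : Ideal A) (_ : a.IsPrime),
        Algebra.FiniteType k A ∧ Synt.IsGlobalCI k A ∧ Nonempty (S ≃ₐ[k] Localization.AtPrime a) := by
  constructor
  · intro h
    obtain ⟨S₀, _, _, a, _, hft, ⟨e⟩⟩ := exists_finiteType_localization k S
    have h1 : Synt.IsCIOver k (Localization.AtPrime a) := isCIOver_of_algEquiv k e h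
    obtain ⟨g, hg, hGCI⟩ := (isCIOver_localization_iff_exists_away k a).mp h1
    haveI := isPrime_map_away a g hg
    obtain ⟨e'⟩ := nonempty_algEquiv_localization_away k a g hg
      (a.map (algebraMap S₀ (Localization.Away g))) (comap_map_away a g hg)
    exact ⟨Localization.Away g, inferInstance, inferInstance, _, inferInstance, inferInstance, hGCI,
      ⟨e.trans e'⟩⟩
  · rintro ⟨A, _, _, a, _, -, hGCI, ⟨e⟩⟩
    exact isCIOver_of_algEquiv k e.symm (isCIOver_localization_of_isGlobalCI k A hGCI a)

theorem isCIOver_iff_exists_isLCIOver [Algebra.EssFiniteType k S] :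
    Synt.IsCIOver k S ↔
      ∃ (A : Type u) (_ : CommRing A) (_ : Algebra k A) (a : Ideal A) (_ : a.IsPrime),
        Synt.IsLCIOver k A ∧ Nonempty (S ≃ₐ[k] Localization.AtPrime a) := by
  constructor
  · intro h
    obtain ⟨A, _, _, a, _, hft, hGCI, he⟩ := (isCIOver_iff_exists_isGlobalCI k).mp h
    exact ⟨A, inferInstance, inferInstance, a, inferInstance, isLCIOver_of_isGlobalCI k hGCI, he⟩
  · rintro ⟨A, _, _, a, _, hLCI, ⟨e⟩⟩
    exact isCIOver_of_algEquiv k e.symm (isCIOver_localization_of_isLCIOver k hLCI a)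

end Groth.Agent.Lib.Helper7.Synt
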