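import Mathlib
import Groth.Agent.Lib.Helper7Synt15

/-! # The standard presentation of a basic open of `R[x]/(F)` (helper7)

* `snocRel F h`: the relations `F_1, …, F_c, h x_{n+1} - 1`;
* `exists_away_equiv`: every `g ∈ S = R[x]/(F)` has a lift `h` with
  `S_g ≅ R[x, x_{n+1}]/(F, h x_{n+1} - 1)`.
-/

set_option autoImplicit false
set_option linter.style.haveILetI false
set_option linter.unusedSectionVars false
universe u
open MvPolynomial

namespace Groth.Agent.Lib.Helper7.Synt

variable {R : Type u} [CommRing R] {n c : ℕ} (F : Fin c → MvPolynomial (Fin n) R)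

/-- the relations `F_1, …, F_c, h x_{n+1} - 1` -/
noncomputable def snocRel (h : MvPolynomial (Fin n) R) : Fin (c + 1) → MvPolynomial (Fin (n + 1)) R :=
  Fin.snoc (fun i => rename Fin.castSucc (F i)) (rename Fin.castSucc h * X (Fin.last n) - 1)

/-- `Fin (n+1) ≃ Unit ⊕ Fin n`, `last ↦ inl ()`, `castSucc i ↦ inr i` -/
def finSuccEquivSum (n : ℕ) : Fin (n + 1) ≃ Unit ⊕ Fin n where
  toFun := Fin.lastCases (Sum.inl ()) Sum.inr
  invFun := Sum.elim (fun _ => Fin.last n) Fin.castSucc
  left_inv := by
    intro i
    induction i using Fin.lastCases with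
    | last => simp
    | cast i => simp
  right_inv := by
    rintro (_ | i) <;> simp

@[simp] theorem finSuccEquivSum_symm_inl (n : ℕ) : (finSuccEquivSum n).symm (Sum.inl ()) = Fin.last n :=
  rfl

@[simp] theorem finSuccEquivSum_symm_inr (n : ℕ) (i : Fin n) :
    (finSuccEquivSum n).symm (Sum.inr i) = Fin.castSucc i := rfl

@[simp] theorem finSuccEquivSum_last (n : ℕ) : finSuccEquivSum n (Fin.last n) = Sum.inl () := by
  simp [finSuccEquivSum]

@[simp] theorem finSuccEquivSum_castSucc (n : ℕ) (i : Fin n) :
    finSuccEquivSum n (Fin.castSucc i) = Sum.inr i := by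
  simp [finSuccEquivSum]

theorem subsingleton_relGCIRing_snoc (h : MvPolynomial (Fin n) R)
    (hS : Subsingleton (Synt.RelGCIRing R n c F)) :
    Subsingleton (Synt.RelGCIRing R (n + 1) (c + 1) (snocRel F h)) := by
  rw [Ideal.Quotient.subsingleton_iff] at hS ⊢
  rw [Ideal.eq_top_iff_one] at hS ⊢
  have h1 : (rename Fin.castSucc : MvPolynomial (Fin n) R →ₐ[R] _) 1 ∈
      (Ideal.span (Set.range F)).map
        (rename Fin.castSucc : MvPolynomial (Fin n) R →ₐ[R] MvPolynomial (Fin (n + 1)) R) :=
    Ideal.mem_map_of_mem _ hS
  rw [map_one] at h1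
  refine (Ideal.map_le_iff_le_comap.mpr ?_) h1
  rw [Ideal.span_le]
  rintro _ ⟨i, rfl⟩
  rw [SetLike.mem_coe, Ideal.mem_comap]
  apply Ideal.subset_span
  exact ⟨Fin.castSucc i, by simp [snocRel]⟩

theorem exists_away_equiv (g : Synt.RelGCIRing R n c F) :
    ∃ h : MvPolynomial (Fin n) R, Ideal.Quotient.mk (Ideal.span (Set.range F)) h = g ∧
      Nonempty (Localization.Away g ≃ₐ[R] Synt.RelGCIRing R (n + 1) (c + 1) (snocRel F h)) := by
  classical
  rcases subsingleton_or_nontrivial (Synt.RelGCIRing R n c F) with hS | hS
  · refine ⟨0, Subsingleton.elim _ _, ?_⟩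
    haveI := subsingleton_relGCIRing_snoc F 0 hS
    haveI : Subsingleton (Localization.Away g) :=
      (IsLocalization.subsingleton_iff (M := Submonoid.powers g)).mpr
        ⟨0, by simpa using (Subsingleton.elim (1 : Synt.RelGCIRing R n c F) 0)⟩
    exact ⟨{ toFun := fun _ => 0
             invFun := fun _ => 0
             left_inv := fun _ => Subsingleton.elim _ _
             right_inv := fun _ => Subsingleton.elim _ _
             map_mul' := fun _ _ => Subsingleton.elim _ _
             map_add' := fun _ _ => Subsingleton.elim _ _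
             commutes' := fun _ => Subsingleton.elim _ _ }⟩
  · -- a section with `s 0 = 0` and `s (-1) = -1`
    let s₀ : Synt.RelGCIRing R n c F → MvPolynomial (Fin n) R :=
      Function.surjInv Ideal.Quotient.mk_surjective
    let s : Synt.RelGCIRing R n c F → MvPolynomial (Fin n) R := fun x =>
      if x = 0 then 0 else if x = -1 then -1 else s₀ x
    have hs : ∀ x, Ideal.Quotient.mk (Ideal.span (Set.range F)) (s x) = x := by
      intro x
      simp only [s]
      split_ifs with h0 h1
      · rw [h0, map_zero]
      · rw [h1, map_neg, map_one]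
      · exact Function.surjInv_eq _ x
    have hs0 : s 0 = 0 := by simp [s]
    have hs1 : s (-1) = -1 := by
      have : (-1 : Synt.RelGCIRing R n c F) ≠ 0 := neg_ne_zero.mpr one_ne_zero
      simp [s, this]
    let P₀ : Algebra.Presentation R (Synt.RelGCIRing R n c F) (Fin n) (Fin c) :=
      Algebra.Presentation.naive (v := F) s hs
    refine ⟨s g, hs g, ?_⟩
    let PP := ((Algebra.Presentation.localizationAway (Localization.Away g) g).comp P₀).reindex
      (finSuccEquivSum n) (finSuccEquivSum c)
    have hrel : PP.relation = snocRel F (s g) := by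
      funext j
      induction j using Fin.lastCases with
      | last =>
        show rename (finSuccEquivSum n).symm
          (((Algebra.Presentation.localizationAway (Localization.Away g) g).comp P₀).relation
            (finSuccEquivSum c (Fin.last c))) = _
        rw [finSuccEquivSum_last,
          Algebra.Presentation.relation_comp_localizationAway_inl g P₀ hs1 hs0 ()]
        have hσ : P₀.σ g = s g := rfl
        rw [hσ]
        simp [snocRel, rename_rename, Function.comp_def]
      | cast i =>
        show rename (finSuccEquivSum n).symm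
          (((Algebra.Presentation.localizationAway (Localization.Away g) g).comp P₀).relation
            (finSuccEquivSum c (Fin.castSucc i))) = _
        rw [finSuccEquivSum_castSucc, Algebra.Presentation.comp_relation_inr]
        simp [snocRel, P₀, rename_rename, Function.comp_def]
    have hker : PP.ker = Ideal.span (Set.range (snocRel F (s g))) := by
      rw [← PP.span_range_relation_eq_ker, hrel]
    exact ⟨(PP.quotientEquiv.restrictScalars R).symm.trans (Ideal.quotientEquivAlgOfEq R hker)⟩

end Groth.Agent.Lib.Helper7.Synt
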