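import Mathlib
import Groth.Agent.Lib.Helper7Synt16

/-! # Relative global complete intersections via local fibre dimensions (helper7)

* `localDim_fiber_eq_fibLD`: the local dimension of `Spec (κ(p) ⊗ S)` is the local fibre dimension;
* `isRelGCI_of_fibLD_le`: `R[x]/(F)` is a relative global complete intersection if all local fibre
  dimensions are `≤ n - c` (and `c ≤ n` as soon as the spectrum is nonempty);
* `isRelGCI_snocRel_of_fibLD_le`: the same for the standard presentation of `S_g`.
-/

set_option autoImplicit false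
set_option linter.style.haveILetI false
set_option linter.unusedSectionVars false
universe u
open MvPolynomial Groth.Agent.Lib.Helper4.FibDim

namespace Groth.Agent.Lib.Helper7.Synt

section General

variable (R S : Type u) [CommRing R] [CommRing S] [Algebra R S]

/-- every point of the fibre ring comes from a point of `Spec S`, with the same local dimension -/
theorem exists_localDim_fiber_eq_fibLD (p : PrimeSpectrum R)
    (𝔔 : PrimeSpectrum (p.asIdeal.Fiber S)) :
    ∃ q : PrimeSpectrum S, PrimeSpectrum.comap (algebraMap R S) q = p ∧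
      FlatMor.localDim (PrimeSpectrum (p.asIdeal.Fiber S)) 𝔔 =
        fibLD (PrimeSpectrum.comap (algebraMap R S)) q := by
  obtain ⟨⟨q, hq⟩, rfl⟩ := (PrimeSpectrum.preimageHomeomorphFiber R S p).surjective 𝔔
  have hq' : PrimeSpectrum.comap (algebraMap R S) q = p := hq
  subst hq'
  exact ⟨q, rfl, (fibLD_comap_eq R S q).symm⟩

theorem ringKrullDim_fiber_le (p : PrimeSpectrum R) (N : ℕ)
    (H : ∀ q : PrimeSpectrum S, PrimeSpectrum.comap (algebraMap R S) q = p →
      fibLD (PrimeSpectrum.comap (algebraMap R S)) q ≤ (N : WithBot ℕ∞)) :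
    ringKrullDim (p.asIdeal.Fiber S) ≤ (N : WithBot ℕ∞) := by
  rw [← PrimeSpectrum.topologicalKrullDim_eq_ringKrullDim,
    Groth.Agent.Lib.Helper7.TopDim.topologicalKrullDim_eq_iSup_localDim]
  refine iSup_le fun 𝔔 => ?_
  obtain ⟨q, hq, h⟩ := exists_localDim_fiber_eq_fibLD R S p 𝔔
  rw [h]
  exact H q hq

end General

section Rel

variable {R : Type u} [CommRing R] {n c : ℕ} (F : Fin c → MvPolynomial (Fin n) R)

theorem isRelGCI_of_fibLD_le
    (H : ∀ q : PrimeSpectrum (Synt.RelGCIRing R n c F), c ≤ n ∧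
      fibLD (PrimeSpectrum.comap (algebraMap R (Synt.RelGCIRing R n c F))) q ≤
        ((n - c : ℕ) : WithBot ℕ∞)) :
    Synt.IsRelGCI R n c F := by
  intro p hnt
  haveI : p.asIdeal.IsPrime := p.2
  obtain ⟨𝔔⟩ : Nonempty (PrimeSpectrum (p.asIdeal.Fiber (Synt.RelGCIRing R n c F))) :=
    PrimeSpectrum.nonempty_iff_nontrivial.mpr hnt
  obtain ⟨q₀, -, -⟩ := exists_localDim_fiber_eq_fibLD R (Synt.RelGCIRing R n c F) p 𝔔
  have hcn := (H q₀).1
  refine ⟨hcn, le_antisymm ?_ ?_⟩
  · exact ringKrullDim_fiber_le R _ p (n - c) fun q _ => (H q).2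
  · let G : Fin c → MvPolynomial (Fin n) p.asIdeal.ResidueField := fun i => phi p.asIdeal (F i)
    have hmap : (Ideal.span (Set.range F)).map (phi p.asIdeal) = Ideal.span (Set.range G) := by
      rw [Ideal.map_span, ← Set.range_comp]
      rfl
    let τ := fiberEquiv p.asIdeal (Ideal.span (Set.range F))
    haveI : Nontrivial (MvPolynomial (Fin n) p.asIdeal.ResidueField ⧸
        (Ideal.span (Set.range F)).map (phi p.asIdeal)) := τ.symm.toEquiv.nontrivial
    obtain ⟨𝔮, h𝔮⟩ : (minimalPrimes (MvPolynomial (Fin n) p.asIdeal.ResidueField ⧸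
        (Ideal.span (Set.range F)).map (phi p.asIdeal))).Nonempty := by
      obtain ⟨m, hm⟩ := Ideal.exists_maximal (MvPolynomial (Fin n) p.asIdeal.ResidueField ⧸
        (Ideal.span (Set.range F)).map (phi p.asIdeal))
      obtain ⟨𝔮, h𝔮, -⟩ := Ideal.exists_minimalPrimes_le (bot_le : (⊥ : Ideal _) ≤ m)
      exact ⟨𝔮, h𝔮⟩
    have h1 := le_ringKrullDim_quotient_minimalPrimes p.asIdeal.ResidueField n c G _ hmap 𝔮 h𝔮
    rw [ringKrullDim_eq_of_ringEquiv τ.toRingEquiv]
    exact h1.trans (ringKrullDim_quotient_le 𝔮)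

/-- the local fibre dimensions of `R[x, y]/(F, hy - 1)` are those of `R[x]/(F)` on `D(g)`. -/
theorem isRelGCI_snocRel_of_fibLD_le (g : Synt.RelGCIRing R n c F) (h : MvPolynomial (Fin n) R)
    (e : Localization.Away g ≃ₐ[R] Synt.RelGCIRing R (n + 1) (c + 1) (snocRel F h))
    (H : ∀ q : PrimeSpectrum (Synt.RelGCIRing R n c F), g ∉ q.asIdeal → c ≤ n ∧
      fibLD (PrimeSpectrum.comap (algebraMap R (Synt.RelGCIRing R n c F))) q ≤
        ((n - c : ℕ) : WithBot ℕ∞)) :
    Synt.IsRelGCI R (n + 1) (c + 1) (snocRel F h) := by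
  apply isRelGCI_of_fibLD_le
  intro q'
  -- the open embedding `Spec S' → Spec S`
  let ψ : Synt.RelGCIRing R n c F →+* Synt.RelGCIRing R (n + 1) (c + 1) (snocRel F h) :=
    e.toRingEquiv.toRingHom.comp (algebraMap _ (Localization.Away g))
  have hψ : ψ.comp (algebraMap R (Synt.RelGCIRing R n c F)) =
      algebraMap R (Synt.RelGCIRing R (n + 1) (c + 1) (snocRel F h)) := by
    ext r
    show e (algebraMap _ (Localization.Away g) (algebraMap R _ r)) = _
    rw [← IsScalarTower.algebraMap_apply, e.commutes]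
  have hemb : Topology.IsOpenEmbedding (PrimeSpectrum.comap ψ) := by
    have h1 : Topology.IsOpenEmbedding (PrimeSpectrum.comap e.toRingEquiv.toRingHom) :=
      (PrimeSpectrum.homeomorphOfRingEquiv e.toRingEquiv.symm).isOpenEmbedding
    have h2 := PrimeSpectrum.localization_away_isOpenEmbedding (Localization.Away g) g
    exact h2.comp h1
  have hcomp : (PrimeSpectrum.comap (algebraMap R (Synt.RelGCIRing R (n + 1) (c + 1) (snocRel F h)))) =
      PrimeSpectrum.comap (algebraMap R (Synt.RelGCIRing R n c F)) ∘ PrimeSpectrum.comap ψ := by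
    rw [← hψ]
    rfl
  have hg : g ∉ (PrimeSpectrum.comap ψ q').asIdeal := by
    intro hmem
    have hu : IsUnit (ψ g) := (IsLocalization.Away.algebraMap_isUnit g).map e.toRingEquiv.toRingHom
    exact q'.2.ne_top (Ideal.eq_top_of_isUnit_mem _ hmem hu)
  obtain ⟨hcn, hle⟩ := H (PrimeSpectrum.comap ψ q') hg
  refine ⟨by omega, ?_⟩
  rw [hcomp, fibLD_comp_isOpenEmbedding _ _ hemb, Nat.add_sub_add_right]
  exact hle

end Rel

end Groth.Agent.Lib.Helper7.Synt
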