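import Mathlib
import Groth.Agent.Lib.Helper7Synt17

/-! # Shrinking `R[x]/(F)` to a relative global complete intersection around a fibre (helper7)

* `exists_mem_isUnit_one_tmul`: an ideal `J` of `S` contained in no prime over `p` contains an element
  becoming a unit in the fibre ring `κ(p) ⊗ S`;
* `exists_ideal_fibLD`: the Chevalley open set `{fibLD ≤ N}` as the complement of `V(J)`;
* `exists_relGCI_away_of_fiber`: Stacks 00SV (2).
-/

set_option autoImplicit false
set_option linter.style.haveILetI false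
set_option linter.unusedSectionVars false
universe u
open MvPolynomial TensorProduct Groth.Agent.Lib.Helper4.FibDim

namespace Groth.Agent.Lib.Helper7.Synt

section General

variable {R S : Type u} [CommRing R] [CommRing S] [Algebra R S]

theorem exists_mem_isUnit_one_tmul (p : Ideal R) [p.IsPrime] (J : Ideal S)
    (hJ : ∀ q : Ideal S, q.IsPrime → q.comap (algebraMap R S) = p → ¬ J ≤ q) :
    ∃ g ∈ J, IsUnit ((1 : p.ResidueField) ⊗ₜ[R] g : p.Fiber S) := by
  let ι : S →+* p.Fiber S := (Algebra.TensorProduct.includeRight : S →ₐ[R] p.Fiber S).toRingHom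
  have hι : ∀ s, ι s = (1 : p.ResidueField) ⊗ₜ[R] s := fun s => rfl
  have h1 : J.map ι = ⊤ := by
    by_contra hne
    obtain ⟨𝔔, h𝔔, hle⟩ := Ideal.exists_le_maximal _ hne
    haveI := h𝔔.isPrime
    have hover : 𝔔.LiesOver p := inferInstance
    refine hJ (𝔔.comap ι) (Ideal.comap_isPrime _ _) ?_ (Ideal.map_le_iff_le_comap.mp hle)
    rw [Ideal.comap_comap]
    have : ι.comp (algebraMap R S) = algebraMap R (p.Fiber S) := by
      ext r
      exact (Algebra.TensorProduct.includeRight : S →ₐ[R] p.Fiber S).commutes r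
    rw [this]
    exact (hover.over).symm
  have h2 : ∀ x ∈ J.map ι, ∃ r ∉ p, ∃ j ∈ J, r • x = (1 : p.ResidueField) ⊗ₜ[R] j := by
    intro x hx
    induction hx using Submodule.span_induction with
    | mem x hx =>
      obtain ⟨j, hj, rfl⟩ := hx
      exact ⟨1, fun h => (inferInstance : p.IsPrime).ne_top ((Ideal.eq_top_iff_one p).mpr h), j, hj,
        by rw [one_smul]; rfl⟩
    | zero =>
      exact ⟨1, fun h => (inferInstance : p.IsPrime).ne_top ((Ideal.eq_top_iff_one p).mpr h), 0,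
        J.zero_mem, by rw [smul_zero, tmul_zero]⟩
    | add x y _ _ hx hy =>
      obtain ⟨r₁, hr₁, j₁, hj₁, e₁⟩ := hx
      obtain ⟨r₂, hr₂, j₂, hj₂, e₂⟩ := hy
      refine ⟨r₁ * r₂, (inferInstance : p.IsPrime).mul_notMem hr₁ hr₂, r₂ • j₁ + r₁ • j₂,
        J.add_mem (J.smul_of_tower_mem r₂ hj₁) (J.smul_of_tower_mem r₁ hj₂), ?_⟩
      rw [smul_add, tmul_add, mul_comm r₁ r₂, mul_smul, e₁, mul_comm r₂ r₁, mul_smul, e₂,
        tmul_smul, tmul_smul]
    | smul a x _ hx =>
      obtain ⟨r, hr, j, hj, e⟩ := hx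
      obtain ⟨r', hr', s, e'⟩ := Ideal.Fiber.exists_smul_eq_one_tmul p a
      refine ⟨r' * r, (inferInstance : p.IsPrime).mul_notMem hr' hr, s * j, J.mul_mem_left s hj, ?_⟩
      rw [smul_eq_mul, mul_smul, ← mul_smul_comm, e, ← smul_mul_assoc, e',
        Algebra.TensorProduct.tmul_mul_tmul, mul_one]
  obtain ⟨r, hr, g, hg, e⟩ := h2 1 (by rw [h1]; trivial)
  refine ⟨g, hg, ?_⟩
  rw [← e, Algebra.smul_def, mul_one,
    IsScalarTower.algebraMap_apply R p.ResidueField (p.Fiber S)]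
  apply IsUnit.map
  rw [isUnit_iff_ne_zero, Ne, Ideal.algebraMap_residueField_eq_zero]
  exact hr

variable (R S)

/-- the Chevalley open set `{q | fibLD q ≤ N}` is the complement of some `V(J)`. -/
theorem exists_ideal_fibLD [Algebra.FiniteType R S] (N : ℕ) :
    ∃ J : Ideal S, ∀ q : PrimeSpectrum S,
      fibLD (PrimeSpectrum.comap (algebraMap R S)) q ≤ (N : WithBot ℕ∞) ↔ ¬ J ≤ q.asIdeal := by
  have hopen := isOpen_setOf_fibLD_comap_le R S N
  obtain ⟨J, hJ⟩ := (PrimeSpectrum.isClosed_iff_zeroLocus_ideal _).mp hopen.isClosed_compl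
  refine ⟨J, fun q => ?_⟩
  have : q ∈ {q : PrimeSpectrum S | fibLD (PrimeSpectrum.comap (algebraMap R S)) q ≤
      (N : WithBot ℕ∞)}ᶜ ↔ q ∈ PrimeSpectrum.zeroLocus (J : Set S) := by rw [hJ]
  rw [Set.mem_compl_iff, PrimeSpectrum.mem_zeroLocus, SetLike.coe_subset_coe] at this
  exact (not_iff_comm.mp this).symm

end General

section Rel

variable {R : Type u} [CommRing R] {n c : ℕ} (F : Fin c → MvPolynomial (Fin n) R)

/-- **Stacks 00SV (2)**. -/
theorem exists_relGCI_away_of_fiber (p : Ideal R) [p.IsPrime]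
    (hp : c ≤ n ∧ ringKrullDim (p.Fiber (Synt.RelGCIRing R n c F)) = ((n - c : ℕ) : WithBot ℕ∞)) :
    ∃ h : MvPolynomial (Fin n) R,
      IsUnit ((1 : p.ResidueField) ⊗ₜ[R] (Ideal.Quotient.mk (Ideal.span (Set.range F)) h) :
        p.Fiber (Synt.RelGCIRing R n c F)) ∧
      Synt.IsRelGCI R (n + 1) (c + 1) (snocRel F h) ∧
      Nonempty (Localization.Away (Ideal.Quotient.mk (Ideal.span (Set.range F)) h) ≃ₐ[R]
        Synt.RelGCIRing R (n + 1) (c + 1) (snocRel F h)) := by
  obtain ⟨J, hJ⟩ := exists_ideal_fibLD R (Synt.RelGCIRing R n c F) (n - c)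
  have h1 : ∀ q : Ideal (Synt.RelGCIRing R n c F), q.IsPrime →
      q.comap (algebraMap R (Synt.RelGCIRing R n c F)) = p → ¬ J ≤ q := by
    intro q hq hqp
    rw [← hJ ⟨q, hq⟩, fibLD_comap_eq]
    have hpt : PrimeSpectrum.comap (algebraMap R (Synt.RelGCIRing R n c F)) ⟨q, hq⟩ =
        ⟨p, inferInstance⟩ := PrimeSpectrum.ext hqp
    refine (Groth.Agent.Lib.Helper7.TopDim.localDim_le_dim _).trans ?_
    rw [PrimeSpectrum.topologicalKrullDim_eq_ringKrullDim, hpt]
    exact le_of_eq hp.2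
  obtain ⟨g, hgJ, hgu⟩ := exists_mem_isUnit_one_tmul p J h1
  obtain ⟨h, rfl, ⟨e⟩⟩ := exists_away_equiv F g
  refine ⟨h, hgu, ?_, ⟨e⟩⟩
  apply isRelGCI_snocRel_of_fibLD_le F _ h e
  intro q hgq
  refine ⟨hp.1, (hJ q).mpr fun hle => hgq (hle hgJ)⟩

end Rel

end Groth.Agent.Lib.Helper7.Synt
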