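import Groth.Agent.Lib.Helper7Synt26
import Groth.Agent.Lib.Helper4TensorDim
import Groth.Agent.S9146

/-! # Base change of (global / local) complete intersections along a field extension (helper7)

* `tensorQuotEquiv`: `K ⊗[R] (R[x]/I) ≃ₐ[K] K[x]/I K[x]`;
* `isGlobalCI_baseChange`, `isLCIOver_baseChange`: `Synt.IsGlobalCI`, `Synt.IsLCIOver` are stable
  under extension of the base field;
* `isLCIOver_of_semilinear`, `isLCIOver_of_semilinear'`: transport of `IsLCIOver` along a ring
  isomorphism which is semilinear over an isomorphism of fields.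
-/

set_option autoImplicit false
set_option linter.style.haveILetI false
universe u

open TensorProduct

namespace Groth.Agent.Lib.Helper7.Synt

section Quot

variable {R : Type u} [CommRing R] (K : Type u) [CommRing K] [Algebra R K] {σ : Type}

theorem map_includeRight_map_algebraTensorAlgEquiv (I : Ideal (MvPolynomial σ R)) :
    (I.map (Algebra.TensorProduct.includeRight (R := R) (A := K))).map
      ((MvPolynomial.algebraTensorAlgEquiv R K : K ⊗[R] MvPolynomial σ R ≃ₐ[K] _) :
        K ⊗[R] MvPolynomial σ R →+* MvPolynomial σ K) =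
      I.map (MvPolynomial.map (algebraMap R K)) := by
  have key : ∀ x : MvPolynomial σ R, MvPolynomial.algebraTensorAlgEquiv R K
      ((1 : K) ⊗ₜ[R] x) = MvPolynomial.map (algebraMap R K) x := by
    intro x
    rw [MvPolynomial.algebraTensorAlgEquiv_tmul, one_smul]
  apply le_antisymm
  · rw [Ideal.map_le_iff_le_comap, Ideal.map_le_iff_le_comap]
    intro x hx
    rw [Ideal.mem_comap, Ideal.mem_comap]
    show MvPolynomial.algebraTensorAlgEquiv R K ((1 : K) ⊗ₜ[R] x) ∈ _
    rw [key]
    exact Ideal.mem_map_of_mem _ hx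
  · rw [Ideal.map_le_iff_le_comap]
    intro x hx
    rw [Ideal.mem_comap, ← key]
    exact Ideal.mem_map_of_mem _ (Ideal.mem_map_of_mem _ hx)

/-- `K ⊗[R] (R[x]/I) ≃ K[x]/I K[x]` -/
noncomputable def tensorQuotEquiv (I : Ideal (MvPolynomial σ R)) :
    K ⊗[R] (MvPolynomial σ R ⧸ I) ≃ₐ[K]
      (MvPolynomial σ K ⧸ I.map (MvPolynomial.map (algebraMap R K))) :=
  (Algebra.TensorProduct.tensorQuotientEquiv (R := R) K (MvPolynomial σ R) K I).trans
    (Ideal.quotientEquivAlg _ _ (MvPolynomial.algebraTensorAlgEquiv R K)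
      (map_includeRight_map_algebraTensorAlgEquiv K I).symm)

end Quot

section Field

variable (k K : Type u) [Field k] [Field K] [Algebra k K]

theorem ringKrullDim_tensor_field (B : Type u) [CommRing B] [Algebra k B]
    [Algebra.FiniteType k B] : ringKrullDim (K ⊗[k] B) = ringKrullDim B := by
  rw [ringKrullDim_eq_of_ringEquiv (Algebra.TensorProduct.comm k K B).toRingEquiv,
    Groth.Agent.Lib.Helper4.TensorDim.ringKrullDim_tensor_eq_add k B K,
    ringKrullDim_eq_zero_of_field, add_zero]

theorem isGlobalCI_baseChange (B : Type u) [CommRing B] [Algebra k B]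
    (h : Synt.IsGlobalCI k B) : Synt.IsGlobalCI K (K ⊗[k] B) := by
  rcases h with h | ⟨n, c, hcn, φ, r, hsurj, hker, hdim⟩
  · left
    refine subsingleton_of_zero_eq_one ?_
    have : (1 : K ⊗[k] B) = (1 : K) ⊗ₜ[k] (1 : B) := rfl
    rw [this, Subsingleton.elim (1 : B) 0, TensorProduct.tmul_zero]
  · right
    haveI : Algebra.FiniteType k B := Algebra.FiniteType.of_surjective φ hsurj
    set I := RingHom.ker φ.toRingHom with hI
    let e₁ : (MvPolynomial (Fin n) k ⧸ I) ≃ₐ[k] B :=
      Ideal.quotientKerAlgEquivOfSurjective hsurj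
    let e₂ : K ⊗[k] (MvPolynomial (Fin n) k ⧸ I) ≃ₐ[K] K ⊗[k] B :=
      Algebra.TensorProduct.congr AlgEquiv.refl e₁
    let e₃ := tensorQuotEquiv K I
    let e : (MvPolynomial (Fin n) K ⧸ I.map (MvPolynomial.map (algebraMap k K))) ≃ₐ[K]
      K ⊗[k] B := e₃.symm.trans e₂
    refine ⟨n, c, hcn, e.toAlgHom.comp (Ideal.Quotient.mkₐ K _),
      fun i => MvPolynomial.map (algebraMap k K) (r i),
      e.surjective.comp Ideal.Quotient.mk_surjective, ?_, ?_⟩
    · have h1 : RingHom.ker (e.toAlgHom.comp (Ideal.Quotient.mkₐ K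
          (I.map (MvPolynomial.map (algebraMap k K))))).toRingHom =
          I.map (MvPolynomial.map (algebraMap k K)) := by
        ext x
        rw [RingHom.mem_ker]
        show e (Ideal.Quotient.mk _ x) = 0 ↔ _
        rw [EmbeddingLike.map_eq_zero_iff, Ideal.Quotient.eq_zero_iff_mem]
      rw [h1, hker, Ideal.map_span, ← Set.range_comp]
      rfl
    · rw [ringKrullDim_tensor_field k K B, hdim]

theorem isLCIOver_baseChange (B : Type u) [CommRing B] [Algebra k B]
    (h : Synt.IsLCIOver k B) : Synt.IsLCIOver K (K ⊗[k] B) := by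
  obtain ⟨hft, hloc⟩ := h
  haveI := hft
  refine ⟨inferInstance, fun P' => ?_⟩
  let P : PrimeSpectrum B :=
    PrimeSpectrum.comap (Algebra.TensorProduct.includeRight (R := k) (A := K) (B := B)).toRingHom P'
  obtain ⟨g, hg, hGCI⟩ := hloc P
  refine ⟨(1 : K) ⊗ₜ[k] g, hg, ?_⟩
  have h1 := isGlobalCI_baseChange k K (Localization.Away g) hGCI
  let ψ : K ⊗[k] B →ₐ[K] K ⊗[k] Localization.Away g :=
    Algebra.TensorProduct.map (AlgHom.id _ _) (IsScalarTower.toAlgHom k B (Localization.Away g))
  letI : Algebra (K ⊗[k] B) (K ⊗[k] Localization.Away g) := ψ.toRingHom.toAlgebra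
  haveI htower : IsScalarTower K (K ⊗[k] B) (K ⊗[k] Localization.Away g) := by
    refine ⟨fun a b c => ?_⟩
    change ψ (a • b) * c = a • (ψ b * c)
    rw [map_smul, smul_mul_assoc]
  haveI hloc' : IsLocalization.Away ((1 : K) ⊗ₜ[k] g : K ⊗[k] B)
      (K ⊗[k] Localization.Away g) := by
    have hpow : Submonoid.powers ((1 : K) ⊗ₜ[k] g : K ⊗[k] B) =
        (Submonoid.powers g).map (Algebra.TensorProduct.includeRight (R := k)
          (A := K) (B := B)) := by
      rw [Submonoid.map_powers]
      rfl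
    rw [IsLocalization.Away, hpow]
    refine IsLocalization.tensorProduct_tensorProduct_right k K
      (Submonoid.powers g) (Localization.Away g) ?_
    ext x
    simp [RingHom.algebraMap_toAlgebra, ψ]
  let ε : Localization.Away ((1 : K) ⊗ₜ[k] g : K ⊗[k] B) ≃ₐ[K ⊗[k] B]
      K ⊗[k] Localization.Away g :=
    IsLocalization.algEquiv (Submonoid.powers ((1 : K) ⊗ₜ[k] g : K ⊗[k] B)) _ _
  exact Groth.Agent.S9146.isGlobalCI_of_algEquiv (ε.restrictScalars K).symm h1

end Field

end Groth.Agent.Lib.Helper7.Synt
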