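import Mathlib
import Groth.Agent.Lib.Helper7Synt27
import Groth.Agent.Lib.Helper4FibDimE
import Groth.Agent.Lib.Helper3LocDimBC

/-! # Base change of local fibre dimension (helper7)

* `fibLD_comap_eq_of_isPushout`: for a pushout square of rings `S₁ = R₁ ⊗[R₀] S₀` with `S₀` of finite
  type, the local fibre dimension at `q ∈ Spec S₁` equals that at its image in `Spec S₀`;
* `relMap`, `relTensorEquiv`: `R₁[x]/(F₁) = R₁ ⊗[R₀] R₀[x]/(F₀)` when `F₁` is the image of `F₀`;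
* `fibLD_relMap`: the resulting invariance of local fibre dimensions of presentations.
-/

set_option autoImplicit false
set_option linter.style.haveILetI false
universe u
open TensorProduct AlgebraicGeometry CategoryTheory
open Groth.Agent.Lib.Helper4.FibDim

namespace Groth.Agent.Lib.Helper7.Synt

section FBC

theorem fibLD_comap_eq_of_isPushout (R₀ R₁ S₀ S₁ : Type u) [CommRing R₀] [CommRing R₁]
    [CommRing S₀] [CommRing S₁] [Algebra R₀ R₁] [Algebra R₀ S₀] [Algebra R₁ S₁] [Algebra S₀ S₁]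
    [Algebra R₀ S₁] [IsScalarTower R₀ R₁ S₁] [IsScalarTower R₀ S₀ S₁]
    [Algebra.IsPushout R₀ R₁ S₀ S₁] [Algebra.FiniteType R₀ S₀] (q : PrimeSpectrum S₁) :
    fibLD (PrimeSpectrum.comap (algebraMap R₁ S₁)) q =
      fibLD (PrimeSpectrum.comap (algebraMap R₀ S₀)) (PrimeSpectrum.comap (algebraMap S₀ S₁) q) := by
  have hpo := CommRingCat.isPushout_of_isPushout R₀ R₁ S₀ S₁
  have hpb := (isPullback_SpecMap_of_isPushout _ _ _ _ hpo).flip
  haveI : LocallyOfFiniteType (Spec.map (CommRingCat.ofHom (algebraMap R₀ S₀))) := by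
    rw [HasRingHomProperty.Spec_iff (P := @LocallyOfFiniteType)]
    show (algebraMap R₀ S₀).FiniteType
    rw [RingHom.finiteType_algebraMap]
    infer_instance
  let q' : ↥(Spec (CommRingCat.of S₁)) := q
  have h := Groth.Agent.Lib.Helper3.LocDimBC.fibreDimAt_eq_of_isPullback _ _ _ _ hpb q'
  have h1 := fibreDimAt_eq_fibLD (Spec.map (CommRingCat.ofHom (algebraMap R₁ S₁))) q'
  have h2 := fibreDimAt_eq_fibLD (Spec.map (CommRingCat.ofHom (algebraMap R₀ S₀)))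
    ((Spec.map (CommRingCat.ofHom (algebraMap S₀ S₁))) q')
  exact h1.symm.trans (h.trans h2)

end FBC

section Pres

theorem tensorQuotEquiv_one_tmul_mk {R : Type u} [CommRing R] (K : Type u) [CommRing K]
    [Algebra R K] {σ : Type} (I : Ideal (MvPolynomial σ R)) (P : MvPolynomial σ R) :
    tensorQuotEquiv K I ((1 : K) ⊗ₜ[R] Ideal.Quotient.mk I P) =
      Ideal.Quotient.mk _ (MvPolynomial.map (algebraMap R K) P) := by
  unfold tensorQuotEquiv
  rw [AlgEquiv.trans_apply]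
  have h1 : (Algebra.TensorProduct.tensorQuotientEquiv (R := R) K (MvPolynomial σ R) K I)
      ((1 : K) ⊗ₜ[R] Ideal.Quotient.mk I P) = Ideal.Quotient.mk _ ((1 : K) ⊗ₜ[R] P) := rfl
  rw [h1, Ideal.quotientEquivAlg_mk, MvPolynomial.algebraTensorAlgEquiv_tmul, one_smul]

variable {R₀ R₁ : Type u} [CommRing R₀] [CommRing R₁] [Algebra R₀ R₁] {n c : ℕ}
  (F₀ : Fin c → MvPolynomial (Fin n) R₀) (F₁ : Fin c → MvPolynomial (Fin n) R₁)
  (hF : ∀ i, MvPolynomial.map (algebraMap R₀ R₁) (F₀ i) = F₁ i)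

include hF in
theorem map_span_range_eq :
    (Ideal.span (Set.range F₀)).map (MvPolynomial.map (algebraMap R₀ R₁)) =
      Ideal.span (Set.range F₁) := by
  rw [Ideal.map_span, ← Set.range_comp]
  congr 2
  exact funext hF

/-- the map `R₀[x]/(F₀) → R₁[x]/(F₁)` -/
noncomputable def relMap : Synt.RelGCIRing R₀ n c F₀ →+* Synt.RelGCIRing R₁ n c F₁ :=
  Ideal.quotientMap _ (MvPolynomial.map (algebraMap R₀ R₁)) (by
    rw [← Ideal.map_le_iff_le_comap, map_span_range_eq F₀ F₁ hF])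

@[simp] theorem relMap_mk (P : MvPolynomial (Fin n) R₀) :
    relMap F₀ F₁ hF (Ideal.Quotient.mk _ P) =
      Ideal.Quotient.mk _ (MvPolynomial.map (algebraMap R₀ R₁) P) := rfl

theorem relMap_algebraMap (r : R₀) :
    relMap F₀ F₁ hF (algebraMap R₀ _ r) = algebraMap R₁ _ (algebraMap R₀ R₁ r) := by
  show relMap F₀ F₁ hF (Ideal.Quotient.mk _ (MvPolynomial.C r)) = Ideal.Quotient.mk _ (MvPolynomial.C _)
  rw [relMap_mk, MvPolynomial.map_C]

/-- `R₁[x]/(F₁) = R₁ ⊗ R₀[x]/(F₀)` -/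
noncomputable def relTensorEquiv :
    R₁ ⊗[R₀] Synt.RelGCIRing R₀ n c F₀ ≃ₐ[R₁] Synt.RelGCIRing R₁ n c F₁ :=
  (tensorQuotEquiv R₁ (Ideal.span (Set.range F₀))).trans
    (Ideal.quotientEquivAlgOfEq R₁ (map_span_range_eq F₀ F₁ hF))

theorem relTensorEquiv_one_tmul (x : Synt.RelGCIRing R₀ n c F₀) :
    relTensorEquiv F₀ F₁ hF ((1 : R₁) ⊗ₜ[R₀] x) = relMap F₀ F₁ hF x := by
  obtain ⟨P, rfl⟩ := Ideal.Quotient.mk_surjective x
  unfold relTensorEquiv
  rw [AlgEquiv.trans_apply, tensorQuotEquiv_one_tmul_mk, Ideal.quotientEquivAlgOfEq_mk, relMap_mk]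

theorem fibLD_relMap (q : PrimeSpectrum (Synt.RelGCIRing R₁ n c F₁)) :
    fibLD (PrimeSpectrum.comap (algebraMap R₁ (Synt.RelGCIRing R₁ n c F₁))) q =
      fibLD (PrimeSpectrum.comap (algebraMap R₀ (Synt.RelGCIRing R₀ n c F₀)))
        (PrimeSpectrum.comap (relMap F₀ F₁ hF) q) := by
  letI : Algebra (Synt.RelGCIRing R₀ n c F₀) (Synt.RelGCIRing R₁ n c F₁) :=
    (relMap F₀ F₁ hF).toAlgebra
  haveI : IsScalarTower R₀ (Synt.RelGCIRing R₀ n c F₀) (Synt.RelGCIRing R₁ n c F₁) :=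
    IsScalarTower.of_algebraMap_eq fun r => by
      show algebraMap R₀ (Synt.RelGCIRing R₁ n c F₁) r =
        relMap F₀ F₁ hF (algebraMap R₀ (Synt.RelGCIRing R₀ n c F₀) r)
      rw [relMap_algebraMap]
      exact IsScalarTower.algebraMap_apply R₀ R₁ _ r
  haveI : Algebra.IsPushout R₀ R₁ (Synt.RelGCIRing R₀ n c F₀) (Synt.RelGCIRing R₁ n c F₁) :=
    ⟨IsBaseChange.of_equiv (relTensorEquiv F₀ F₁ hF).toLinearEquiv
      (fun x => relTensorEquiv_one_tmul F₀ F₁ hF x)⟩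
  haveI : Algebra.FiniteType R₀ (Synt.RelGCIRing R₀ n c F₀) :=
    Algebra.FiniteType.of_surjective (Ideal.Quotient.mkₐ R₀ _) (Ideal.Quotient.mkₐ_surjective R₀ _)
  exact fibLD_comap_eq_of_isPushout R₀ R₁ (Synt.RelGCIRing R₀ n c F₀)
    (Synt.RelGCIRing R₁ n c F₁) q

end Pres

end Groth.Agent.Lib.Helper7.Synt
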