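import Mathlib
import Groth.Agent.Lib.Helper7Synt40
import Groth.Agent.Lib.Helper7Synt18

/-! # Descent of relative global complete intersections to finite type `ℤ`-subalgebras (helper7)

* `exists_badIdeal`: the locus where a presentation `R₀[x]/(F₀)` fails `c ≤ n ∧ fibLD ≤ n - c` is `V(J₀)`;
* `isRelGCI_of_map_eq_top`, `map_eq_top_of_isRelGCI`: for a base change `R₀ → R₁`, `R₁[x]/(F₁)` is a
  relative global complete intersection iff `J₀` generates the unit ideal in it;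
* `exists_fg_subalgebra_lift`: enlarge a f.g. `ℤ`-subalgebra to contain the coefficients of finitely
  many polynomials;
* `exists_subalgebra_isRelGCI`: Stacks 00SV-type descent.
-/

set_option autoImplicit false
set_option linter.style.haveILetI false
universe u
open TensorProduct
open Groth.Agent.Lib.Helper4.FibDim

namespace Groth.Agent.Lib.Helper7.Synt

section Bad

variable {R₀ : Type u} [CommRing R₀] {n c : ℕ} (F₀ : Fin c → MvPolynomial (Fin n) R₀)

/-- the closed "bad locus" of a presentation -/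
theorem exists_badIdeal :
    ∃ J₀ : Ideal (Synt.RelGCIRing R₀ n c F₀), ∀ q₀ : PrimeSpectrum (Synt.RelGCIRing R₀ n c F₀),
      (c ≤ n ∧ fibLD (PrimeSpectrum.comap (algebraMap R₀ (Synt.RelGCIRing R₀ n c F₀))) q₀ ≤
        ((n - c : ℕ) : WithBot ℕ∞)) ↔ ¬ J₀ ≤ q₀.asIdeal := by
  haveI : Algebra.FiniteType R₀ (Synt.RelGCIRing R₀ n c F₀) :=
    Algebra.FiniteType.of_surjective (Ideal.Quotient.mkₐ R₀ _) (Ideal.Quotient.mkₐ_surjective R₀ _)
  by_cases hcn : c ≤ n
  · obtain ⟨J, hJ⟩ := exists_ideal_fibLD R₀ (Synt.RelGCIRing R₀ n c F₀) (n - c)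
    exact ⟨J, fun q₀ => by rw [← hJ q₀]; exact and_iff_right hcn⟩
  · refine ⟨⊥, fun q₀ => ?_⟩
    constructor
    · intro h
      exact absurd h.1 hcn
    · intro h
      exact absurd bot_le h

variable {R₁ : Type u} [CommRing R₁] [Algebra R₀ R₁] (F₁ : Fin c → MvPolynomial (Fin n) R₁)
  (hF : ∀ i, MvPolynomial.map (algebraMap R₀ R₁) (F₀ i) = F₁ i)
  (J₀ : Ideal (Synt.RelGCIRing R₀ n c F₀))
  (hJ₀ : ∀ q₀ : PrimeSpectrum (Synt.RelGCIRing R₀ n c F₀),
      (c ≤ n ∧ fibLD (PrimeSpectrum.comap (algebraMap R₀ (Synt.RelGCIRing R₀ n c F₀))) q₀ ≤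
        ((n - c : ℕ) : WithBot ℕ∞)) ↔ ¬ J₀ ≤ q₀.asIdeal)

include hJ₀ in
theorem isRelGCI_of_map_eq_top (h : J₀.map (relMap F₀ F₁ hF) = ⊤) : Synt.IsRelGCI R₁ n c F₁ := by
  apply isRelGCI_of_fibLD_le
  intro q
  rw [fibLD_relMap F₀ F₁ hF q]
  apply (hJ₀ _).mpr
  intro hle
  have : J₀.map (relMap F₀ F₁ hF) ≤ q.asIdeal := Ideal.map_le_iff_le_comap.mpr hle
  rw [h] at this
  exact q.2.ne_top (top_le_iff.mp this)

include hJ₀ in
theorem map_eq_top_of_isRelGCI (h : Synt.IsRelGCI R₁ n c F₁) : J₀.map (relMap F₀ F₁ hF) = ⊤ := by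
  by_contra hne
  obtain ⟨m, hm, hle⟩ := Ideal.exists_le_maximal _ hne
  let q : PrimeSpectrum (Synt.RelGCIRing R₁ n c F₁) := ⟨m, hm.isPrime⟩
  have hbad : ¬ (c ≤ n ∧ fibLD (PrimeSpectrum.comap (algebraMap R₀ (Synt.RelGCIRing R₀ n c F₀)))
      (PrimeSpectrum.comap (relMap F₀ F₁ hF) q) ≤ ((n - c : ℕ) : WithBot ℕ∞)) := fun h' =>
    (hJ₀ (PrimeSpectrum.comap (relMap F₀ F₁ hF) q)).mp h' (Ideal.map_le_iff_le_comap.mp hle)
  apply hbad
  rw [← fibLD_relMap F₀ F₁ hF q, fibLD_comap_relGCIRing R₁ n c F₁ h q]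
  refine ⟨?_, le_refl _⟩
  set p := PrimeSpectrum.comap (algebraMap R₁ (Synt.RelGCIRing R₁ n c F₁)) q with hp
  let Q := PrimeSpectrum.preimageHomeomorphFiber R₁ (Synt.RelGCIRing R₁ n c F₁) p ⟨q, rfl⟩
  haveI : p.asIdeal.IsPrime := p.2
  haveI hnt : Nontrivial (p.asIdeal.Fiber (Synt.RelGCIRing R₁ n c F₁)) := by
    haveI : Nonempty (PrimeSpectrum (p.asIdeal.Fiber (Synt.RelGCIRing R₁ n c F₁))) := ⟨Q⟩
    exact (PrimeSpectrum.nonempty_iff_nontrivial).mp inferInstance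
  exact (h p hnt).1

end Bad


section Descent

theorem exists_fg_subalgebra_lift {R : Type u} [CommRing R] {σ : Type*} (A₀ : Subalgebra ℤ R)
    (hA₀ : A₀.FG) {ι : Type*} [Finite ι] (P : ι → MvPolynomial σ R) :
    ∃ A₁ : Subalgebra ℤ R, A₀ ≤ A₁ ∧ A₁.FG ∧
      ∀ k, ∃ P' : MvPolynomial σ A₁, MvPolynomial.map (algebraMap A₁ R) P' = P k := by
  classical
  have hfin : (⋃ k, ((P k).coeffs : Set R)).Finite :=
    Set.finite_iUnion fun k => Finset.finite_toSet _
  refine ⟨A₀ ⊔ Algebra.adjoin ℤ (⋃ k, ((P k).coeffs : Set R)), le_sup_left, hA₀.sup ?_, fun k => ?_⟩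
  · have := Subalgebra.fg_adjoin_finset (R := ℤ) hfin.toFinset
    rwa [Set.Finite.coe_toFinset] at this
  · have hmem : P k ∈ Set.range (MvPolynomial.map
        (algebraMap (↥(A₀ ⊔ Algebra.adjoin ℤ (⋃ k, ((P k).coeffs : Set R)))) R)) := by
      rw [MvPolynomial.mem_range_map_iff_coeffs_subset]
      intro x hx
      have hx' : x ∈ A₀ ⊔ Algebra.adjoin ℤ (⋃ k, ((P k).coeffs : Set R)) :=
        (le_sup_right : _ ≤ A₀ ⊔ _) (Algebra.subset_adjoin (Set.mem_iUnion.mpr ⟨k, hx⟩))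
      exact ⟨⟨x, hx'⟩, rfl⟩
    exact hmem

set_option synthInstance.maxHeartbeats 200000 in
set_option maxHeartbeats 1000000 in
/-- **Stacks 00SV-type descent**: a relative global complete intersection descends to a finite type
`ℤ`-subalgebra. -/
theorem exists_subalgebra_isRelGCI (R : Type u) [CommRing R] (n c : ℕ)
    (F : Fin c → MvPolynomial (Fin n) R) (h : Synt.IsRelGCI R n c F) :
    ∃ (R₀ : Subalgebra ℤ R) (F₀ : Fin c → MvPolynomial (Fin n) R₀), Algebra.FiniteType ℤ R₀ ∧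
      (∀ i, MvPolynomial.map (algebraMap R₀ R) (F₀ i) = F i) ∧ Synt.IsRelGCI R₀ n c F₀ := by
  classical
  -- stage 0: coefficients of `F`
  obtain ⟨A₀, -, hA₀fg, hlift₀⟩ := exists_fg_subalgebra_lift (⊥ : Subalgebra ℤ R)
    Subalgebra.fg_bot F
  choose F₀ hF₀ using hlift₀
  haveI hA₀ft : Algebra.FiniteType ℤ A₀ := (Subalgebra.fg_iff_finiteType A₀).mp hA₀fg
  obtain ⟨J₀, hJ₀⟩ := exists_badIdeal F₀
  have htop := map_eq_top_of_isRelGCI F₀ F hF₀ J₀ hJ₀ h
  -- `J₀` is finitely generated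
  haveI : Algebra.FiniteType A₀ (Synt.RelGCIRing A₀ n c F₀) :=
    Algebra.FiniteType.of_surjective (Ideal.Quotient.mkₐ A₀ _) (Ideal.Quotient.mkₐ_surjective A₀ _)
  haveI : Algebra.FiniteType ℤ (Synt.RelGCIRing A₀ n c F₀) :=
    Algebra.FiniteType.trans (S := A₀) inferInstance inferInstance
  haveI : IsNoetherianRing (Synt.RelGCIRing A₀ n c F₀) :=
    Algebra.FiniteType.isNoetherianRing ℤ _
  have hJfg : J₀.FG := (isNoetherianRing_iff_ideal_fg _).mp inferInstance J₀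
  obtain ⟨m, j, hj⟩ := Submodule.fg_iff_exists_fin_generating_family.mp hJfg
  have hjmem : ∀ k, j k ∈ J₀ := fun k => hj ▸ Submodule.subset_span ⟨k, rfl⟩
  have hmap : J₀.map (relMap F₀ F hF₀) = Ideal.span (Set.range ((relMap F₀ F hF₀) ∘ j)) := by
    have : J₀ = Ideal.span (Set.range j) := hj.symm
    rw [this, Ideal.map_span, ← Set.range_comp]
  have h1 : (1 : Synt.RelGCIRing R n c F) ∈ Ideal.span (Set.range ((relMap F₀ F hF₀) ∘ j)) := by
    rw [← hmap, htop]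
    trivial
  obtain ⟨s, hs⟩ := (Ideal.mem_span_range_iff_exists_fun).mp h1
  choose st hst using fun k => Ideal.Quotient.mk_surjective (s k)
  choose jt hjt using fun k => Ideal.Quotient.mk_surjective (j k)
  have hmem : ∑ k, st k * MvPolynomial.map (algebraMap A₀ R) (jt k) - 1 ∈
      Ideal.span (Set.range F) := by
    rw [← Ideal.Quotient.eq_zero_iff_mem, map_sub, map_sum, map_one, sub_eq_zero, ← hs]
    apply Finset.sum_congr rfl
    intro k _
    rw [map_mul, hst, Function.comp_apply, ← hjt k, relMap_mk]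
  obtain ⟨b, hb⟩ := (Ideal.mem_span_range_iff_exists_fun).mp hmem
  -- stage 1
  obtain ⟨A₁, hle, hA₁fg, hlift₁⟩ := exists_fg_subalgebra_lift A₀ hA₀fg (Sum.elim st b)
  choose Q hQ using hlift₁
  letI : Algebra A₀ A₁ := (Subalgebra.inclusion hle).toAlgebra
  haveI : IsScalarTower A₀ A₁ R := IsScalarTower.of_algebraMap_eq fun x => rfl
  obtain ⟨F₁, hF₁def⟩ : ∃ F₁ : Fin c → MvPolynomial (Fin n) A₁,
      ∀ i, MvPolynomial.map (algebraMap A₀ A₁) (F₀ i) = F₁ i := ⟨_, fun _ => rfl⟩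
  have hF₁ : ∀ i, MvPolynomial.map (algebraMap A₁ R) (F₁ i) = F i := fun i => by
    rw [← hF₁def, MvPolynomial.map_map, ← IsScalarTower.algebraMap_eq]
    exact hF₀ i
  have key : ∑ k, Q (Sum.inl k) * MvPolynomial.map (algebraMap A₀ A₁) (jt k) - 1 =
      ∑ i, Q (Sum.inr i) * F₁ i := by
    apply MvPolynomial.map_injective (algebraMap A₁ R) Subtype.val_injective
    simp only [map_sub, map_sum, map_mul, map_one, hQ, Sum.elim_inl, Sum.elim_inr,
      MvPolynomial.map_map, hF₁]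
    rw [← IsScalarTower.algebraMap_eq]
    exact hb.symm
  have htop₁ : J₀.map (relMap F₀ F₁ hF₁def) = ⊤ := by
    rw [Ideal.eq_top_iff_one]
    have h1' : (1 : Synt.RelGCIRing A₁ n c F₁) = ∑ k, Ideal.Quotient.mk _ (Q (Sum.inl k)) *
        relMap F₀ F₁ hF₁def (j k) := by
      have := congrArg (Ideal.Quotient.mk (Ideal.span (Set.range F₁))) key
      rw [map_sub, map_sum, map_sum, map_one, sub_eq_iff_eq_add] at this
      have hz : ∑ i, Ideal.Quotient.mk (Ideal.span (Set.range F₁)) (Q (Sum.inr i) * F₁ i) = 0 := by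
        apply Finset.sum_eq_zero
        intro i _
        rw [Ideal.Quotient.eq_zero_iff_mem]
        exact Ideal.mul_mem_left _ _ (Ideal.subset_span ⟨i, rfl⟩)
      rw [hz, zero_add] at this
      rw [← this]
      apply Finset.sum_congr rfl
      intro k _
      rw [map_mul, ← hjt k, relMap_mk]
    rw [h1']
    exact Ideal.sum_mem _ fun k _ => Ideal.mul_mem_left _ _ (Ideal.mem_map_of_mem _ (hjmem k))
  exact ⟨A₁, F₁, (Subalgebra.fg_iff_finiteType A₁).mp hA₁fg, hF₁,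
    isRelGCI_of_map_eq_top F₀ F₁ _ J₀ hJ₀ htop₁⟩

end Descent

end Groth.Agent.Lib.Helper7.Synt
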