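import Groth.Agent.Lib.Helper7Synt31

/-! # Standard syntomic morphisms and affine opens (helper7)

* `exists_relGCI_away_of_isSyntomic`: a syntomic algebra is, locally on basic opens, a relative
  global complete intersection;
* `isoSpec_hom_SpecMap_appLE`: naturality of `IsAffineOpen.isoSpec` for `resLE`/`appLE`;
* `isStandardSyntomic_resLE_of_algEquiv`, `syntomicHom_appLE_of_isStandardSyntomic_resLE`.
-/

set_option autoImplicit false
set_option linter.style.haveILetI false
universe u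
open TensorProduct AlgebraicGeometry CategoryTheory

namespace Groth.Agent.Lib.Helper7.Synt

open Groth.Agent.Lib.Helper4.FibDim in
/-- a syntomic algebra is locally (on basic opens) a relative global complete intersection. -/
theorem exists_relGCI_away_of_isSyntomic (R A : Type u) [CommRing R] [CommRing A] [Algebra R A]
    (hA : Synt.IsSyntomic R A) (q : PrimeSpectrum A) :
    ∃ g : A, g ∉ q.asIdeal ∧ ∃ (n c : ℕ) (F : Fin c → MvPolynomial (Fin n) R),
      Synt.IsRelGCI R n c F ∧ Nonempty (Localization.Away g ≃ₐ[R] Synt.RelGCIRing R n c F) := by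
  set p := PrimeSpectrum.comap (algebraMap R A) q with hp
  haveI : p.asIdeal.IsPrime := p.2
  haveI : q.asIdeal.IsPrime := q.2
  haveI : q.asIdeal.LiesOver p.asIdeal := ⟨rfl⟩
  let Q := PrimeSpectrum.preimageHomeomorphFiber R A p ⟨q, rfl⟩
  have hQ : PrimeSpectrum.comap Algebra.TensorProduct.includeRight.toRingHom Q = q :=
    comap_includeRight_preimageHomeomorphFiber p.asIdeal ⟨q, rfl⟩
  have hQ' : Q.asIdeal.comap (Algebra.TensorProduct.includeRight.toRingHom) = q.asIdeal :=
    congrArg PrimeSpectrum.asIdeal hQ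
  have key := (Groth.Agent.S9169.result R A p.asIdeal q.asIdeal Q.asIdeal hQ').1
  have h1 : ∃ g : A, g ∉ q.asIdeal ∧ Synt.IsSyntomic R (Localization.Away g) := by
    refine ⟨1, fun h => q.2.ne_top ((Ideal.eq_top_iff_one _).mpr h), ?_⟩
    haveI : IsLocalization.Away (1 : A) A := IsLocalization.away_of_isUnit_of_bijective A isUnit_one
      Function.bijective_id
    exact isSyntomic_of_algEquiv
      ((IsLocalization.algEquiv (Submonoid.powers (1 : A)) A
        (Localization.Away (1 : A))).restrictScalars R) hA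
  exact key.mp h1

section Scheme

variable {X S : Scheme.{u}} (f : X ⟶ S)

theorem isoSpec_hom_SpecMap_appLE {U : X.Opens} {V : S.Opens} (hU : IsAffineOpen U)
    (hV : IsAffineOpen V) (e : U ≤ f ⁻¹ᵁ V) :
    hU.isoSpec.hom ≫ Spec.map (f.appLE V U e) = f.resLE V U e ≫ hV.isoSpec.hom := by
  have h1 : Spec.map (f.appLE V U e) ≫ hV.isoSpec.inv = hU.isoSpec.inv ≫ f.resLE V U e := by
    rw [← cancel_mono V.ι, Category.assoc, Category.assoc, Scheme.Hom.resLE_comp_ι,
      IsAffineOpen.isoSpec_inv_ι, ← Category.assoc, IsAffineOpen.isoSpec_inv_ι]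
    exact hV.SpecMap_appLE_fromSpec f hU e
  rw [← cancel_mono hV.isoSpec.inv, Category.assoc, Category.assoc, Iso.hom_inv_id,
    Category.comp_id, h1, Iso.hom_inv_id_assoc]

theorem isStandardSyntomic_resLE_of_algEquiv {U : X.Opens} {V : S.Opens} (hU : IsAffineOpen U)
    (hV : IsAffineOpen V) (e : U ≤ f ⁻¹ᵁ V) (n c : ℕ)
    (F : Fin c → MvPolynomial (Fin n) Γ(S, V)) (hF : Synt.IsRelGCI Γ(S, V) n c F)
    (ε : Γ(X, U) ≃+* Synt.RelGCIRing Γ(S, V) n c F)
    (hε : ∀ r, ε ((f.appLE V U e).hom r) = algebraMap Γ(S, V) (Synt.RelGCIRing Γ(S, V) n c F) r) :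
    Synt.IsStandardSyntomic (f.resLE V U e) := by
  refine ⟨Γ(S, V), inferInstance, n, c, F, hF, ?_⟩
  let ψ : CommRingCat.of (Synt.RelGCIRing Γ(S, V) n c F) ≅ Γ(X, U) := ε.symm.toCommRingCatIso
  refine ⟨hU.isoSpec ≪≫ (Scheme.Spec.mapIso ψ.op), hV.isoSpec, ?_⟩
  have h2 : CommRingCat.ofHom (algebraMap Γ(S, V) (Synt.RelGCIRing Γ(S, V) n c F)) ≫ ψ.hom =
      f.appLE V U e := by
    ext r
    show ε.symm (algebraMap Γ(S, V) (Synt.RelGCIRing Γ(S, V) n c F) r) = _
    rw [← hε, RingEquiv.symm_apply_apply]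
  rw [← isoSpec_hom_SpecMap_appLE f hU hV e, ← h2, Spec.map_comp]
  rfl

theorem syntomicHom_appLE_of_isStandardSyntomic_resLE {U : X.Opens} {V : S.Opens}
    (hU : IsAffineOpen U) (hV : IsAffineOpen V) (e : U ≤ f ⁻¹ᵁ V)
    (h : Synt.IsStandardSyntomic (f.resLE V U e)) : SyntomicHom (f.appLE V U e).hom := by
  obtain ⟨R, _, n, c, F, hF, e₁, e₂, hcomm⟩ := h
  have h1 : SyntomicHom (algebraMap R (Synt.RelGCIRing R n c F)) :=
    syntomicHom_algebraMap.mpr (isSyntomic_relGCIRing F hF)
  have h2 : syntomicMor (Spec.map (CommRingCat.ofHom (algebraMap R (Synt.RelGCIRing R n c F)))) :=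
    (HasRingHomProperty.Spec_iff (P := syntomicMor)).mpr h1
  have h3 : syntomicMor (f.resLE V U e) := by
    refine (MorphismProperty.arrow_mk_iso_iff syntomicMor
      (Arrow.isoMk e₁ e₂ ?_)).mpr h2
    exact hcomm
  haveI : IsAffine U.toScheme := hU
  haveI : IsAffine V.toScheme := hV
  have h4 := HasRingHomProperty.appTop syntomicMor _ h3
  exact (syntomicHom_respectsIso.arrow_mk_iso_iff (arrowResLEAppIso f V U e)).mp h4

end Scheme

end Groth.Agent.Lib.Helper7.Synt
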