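import Groth.Agent.Lib.Helper4FibDimB

/-!
# Fibre dimension, ring level (part C): quasi-finiteness from finiteness of a fibre

* `quasiFiniteAt_of_fiber_finite`: for `R → P → B` with `B` of finite type over `P`, if
  `κ(p) ⊗[R] P → κ(p) ⊗[R] B` is finite then `B` is quasi-finite over `P` at every prime over `p`.
-/

set_option autoImplicit false
set_option linter.style.haveILetI false
universe u

open TensorProduct PrimeSpectrum TopologicalSpace

namespace Groth.Agent.Lib.Helper4.FibDim

variable {R P B : Type*} [CommRing R] [CommRing P] [CommRing B] [Algebra R P] [Algebra P B]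
  [Algebra R B] [IsScalarTower R P B] (p : Ideal R) [p.IsPrime]

lemma preimageHomeomorphFiber_symm_coe (Q : PrimeSpectrum (p.Fiber B)) :
    (((PrimeSpectrum.preimageHomeomorphFiber R B ⟨p, inferInstance⟩).symm Q :
      PrimeSpectrum.comap (algebraMap R B) ⁻¹' {⟨p, inferInstance⟩}) : PrimeSpectrum B) =
      PrimeSpectrum.comap Algebra.TensorProduct.includeRight.toRingHom Q := rfl

lemma comap_includeRight_preimageHomeomorphFiber
    (t : PrimeSpectrum.comap (algebraMap R B) ⁻¹' {(⟨p, inferInstance⟩ : PrimeSpectrum R)}) :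
    PrimeSpectrum.comap Algebra.TensorProduct.includeRight.toRingHom
      (PrimeSpectrum.preimageHomeomorphFiber R B ⟨p, inferInstance⟩ t) = t.1 := by
  rw [← preimageHomeomorphFiber_symm_coe, Homeomorph.symm_apply_apply]

theorem quasiFiniteAt_of_fiber_finite [Algebra.FiniteType P B]
    (hfin : (Algebra.TensorProduct.map (AlgHom.id p.ResidueField p.ResidueField)
      (IsScalarTower.toAlgHom R P B)).toRingHom.Finite)
    (q : Ideal B) [q.IsPrime] (hq : q.under R = p) :
    Algebra.QuasiFiniteAt P q := by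
  set ψ := Algebra.TensorProduct.map (AlgHom.id p.ResidueField p.ResidueField)
      (IsScalarTower.toAlgHom R P B) with hψ
  letI : Algebra (p.Fiber P) (p.Fiber B) := ψ.toRingHom.toAlgebra
  haveI : Module.Finite (p.Fiber P) (p.Fiber B) := hfin
  have hψ_incl : ∀ x : P, ψ ((1 : p.ResidueField) ⊗ₜ[R] x) = (1 : p.ResidueField) ⊗ₜ[R] algebraMap P B x := by
    intro x
    simp [hψ]
  let pp : PrimeSpectrum R := ⟨p, inferInstance⟩
  let qq : PrimeSpectrum B := ⟨q, inferInstance⟩
  let eB := PrimeSpectrum.preimageHomeomorphFiber R B pp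
  let eP := PrimeSpectrum.preimageHomeomorphFiber R P pp
  set 𝔭 := PrimeSpectrum.comap (algebraMap P B) qq with h𝔭
  have hqq : PrimeSpectrum.comap (algebraMap R B) qq = pp := PrimeSpectrum.ext hq
  have h𝔭p : PrimeSpectrum.comap (algebraMap R P) 𝔭 = pp := by
    rw [h𝔭, ← PrimeSpectrum.comap_comp_apply, ← IsScalarTower.algebraMap_eq]; exact hqq
  -- (a) points of the `P`-fibre lie over `p`
  have ha : ∀ t : PrimeSpectrum.comap (algebraMap P B) ⁻¹' {𝔭},
      t.1 ∈ PrimeSpectrum.comap (algebraMap R B) ⁻¹' {pp} := by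
    intro t
    have h1 : PrimeSpectrum.comap (algebraMap P B) t.1 = 𝔭 := t.2
    show PrimeSpectrum.comap (algebraMap R B) t.1 = pp
    rw [IsScalarTower.algebraMap_eq R P B, PrimeSpectrum.comap_comp_apply, h1]; exact h𝔭p
  have h3 : (algebraMap (p.Fiber P) (p.Fiber B)).comp
      (Algebra.TensorProduct.includeRight (R := R) (A := p.ResidueField) (B := P)).toRingHom =
      (Algebra.TensorProduct.includeRight (R := R) (A := p.ResidueField) (B := B)).toRingHom.comp
        (algebraMap P B) := by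
    ext x
    exact hψ_incl x
  -- (b) compatibility
  have hb : ∀ t : PrimeSpectrum.comap (algebraMap P B) ⁻¹' {𝔭},
      PrimeSpectrum.comap (algebraMap (p.Fiber P) (p.Fiber B)) (eB ⟨t.1, ha t⟩) = eP ⟨𝔭, h𝔭p⟩ := by
    intro t
    apply eP.symm.injective
    rw [Homeomorph.symm_apply_apply]
    apply Subtype.ext
    rw [preimageHomeomorphFiber_symm_coe]
    have h1 : PrimeSpectrum.comap (algebraMap P B) t.1 = 𝔭 := t.2
    have h2 := comap_includeRight_preimageHomeomorphFiber p ⟨t.1, ha t⟩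
    show PrimeSpectrum.comap Algebra.TensorProduct.includeRight.toRingHom
      (PrimeSpectrum.comap (algebraMap (p.Fiber P) (p.Fiber B)) (eB ⟨t.1, ha t⟩)) = 𝔭
    rw [← PrimeSpectrum.comap_comp_apply, h3, PrimeSpectrum.comap_comp_apply]
    exact (congrArg (PrimeSpectrum.comap (algebraMap P B)) h2).trans h1
  let j : (PrimeSpectrum.comap (algebraMap P B) ⁻¹' {𝔭}) →
      (PrimeSpectrum.comap (algebraMap (p.Fiber P) (p.Fiber B)) ⁻¹' {eP ⟨𝔭, h𝔭p⟩}) :=
    fun t => ⟨eB ⟨t.1, ha t⟩, hb t⟩
  have hjc : Continuous j := by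
    apply Continuous.subtype_mk
    exact eB.continuous.comp (Continuous.subtype_mk continuous_subtype_val _)
  have hji : Function.Injective j := by
    intro t₁ t₂ h
    have h1 : eB ⟨t₁.1, ha t₁⟩ = eB ⟨t₂.1, ha t₂⟩ := congrArg Subtype.val h
    have h2 := eB.injective h1
    exact Subtype.ext (Subtype.mk.inj h2)
  haveI : DiscreteTopology
      (PrimeSpectrum.comap (algebraMap (p.Fiber P) (p.Fiber B)) ⁻¹' {eP ⟨𝔭, h𝔭p⟩}) :=
    (Algebra.QuasiFinite.isDiscrete_comap_preimage_singleton (eP ⟨𝔭, h𝔭p⟩)).to_subtype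
  have hopen : IsOpen ({⟨qq, rfl⟩} : Set (PrimeSpectrum.comap (algebraMap P B) ⁻¹' {𝔭})) := by
    have h1 : ({⟨qq, rfl⟩} : Set (PrimeSpectrum.comap (algebraMap P B) ⁻¹' {𝔭})) =
        j ⁻¹' {j ⟨qq, rfl⟩} := by
      ext t
      simp only [Set.mem_singleton_iff, Set.mem_preimage]
      exact ⟨fun h => by rw [h], fun h => hji h⟩
    rw [h1]
    exact (isOpen_discrete _).preimage hjc
  exact Algebra.QuasiFiniteAt.of_isOpen_singleton_fiber qq hopen

end Groth.Agent.Lib.Helper4.FibDim
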