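import Mathlib
import Groth.Agent.Lib.Helper7Synt18

/-! # Shrinking `R[x]/(F)` to a relative global complete intersection around `V(I)` (helper7)

* `nonempty_fiber_ringEquiv_quotient`: the fibres of `R[x]/(F)` over `V(I)` are the fibres of
  `(R/I)[x]/(F mod I)`;
* `exists_relGCI_away_of_quotient`: Stacks 00SV (1).
-/

set_option autoImplicit false
set_option linter.style.haveILetI false
set_option linter.unusedSectionVars false
universe u
open MvPolynomial TensorProduct Groth.Agent.Lib.Helper4.FibDim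

namespace Groth.Agent.Lib.Helper7.Synt

variable {R : Type u} [CommRing R] {n c : ℕ} (F : Fin c → MvPolynomial (Fin n) R) (I : Ideal R)

theorem nonempty_fiber_ringEquiv_quotient (pb : Ideal (R ⧸ I)) [pb.IsPrime] (p' : Ideal R) [p'.IsPrime]
    (hf : p' = pb.comap (Ideal.Quotient.mk I)) :
    Nonempty (p'.Fiber (Synt.RelGCIRing R n c F) ≃+*
      pb.Fiber (Synt.RelGCIRing (R ⧸ I) n c (fun i => MvPolynomial.map (Ideal.Quotient.mk I) (F i)))) := by
  have hbij := (RingHom.surjectiveOnStalks_of_surjective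
    (Ideal.Quotient.mk_surjective (I := I))).residueFieldMap_bijective p' pb hf
  let ε : p'.ResidueField ≃+* pb.ResidueField := RingEquiv.ofBijective _ hbij
  have hε : ∀ r : R, ε (algebraMap R p'.ResidueField r) =
      algebraMap (R ⧸ I) pb.ResidueField (Ideal.Quotient.mk I r) := fun r =>
    Ideal.ResidueField.map_algebraMap p' pb (Ideal.Quotient.mk I) hf r
  let E : MvPolynomial (Fin n) p'.ResidueField ≃+* MvPolynomial (Fin n) pb.ResidueField :=
    MvPolynomial.mapEquiv (Fin n) ε
  have hE : ∀ x : MvPolynomial (Fin n) R,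
      E (phi p' x) = phi pb (MvPolynomial.map (Ideal.Quotient.mk I) x) := by
    intro x
    show MvPolynomial.map (ε : p'.ResidueField →+* pb.ResidueField)
      (MvPolynomial.map (algebraMap R p'.ResidueField) x) =
      MvPolynomial.map (algebraMap (R ⧸ I) pb.ResidueField) (MvPolynomial.map (Ideal.Quotient.mk I) x)
    rw [MvPolynomial.map_map, MvPolynomial.map_map]
    have hcomp : (ε : p'.ResidueField →+* pb.ResidueField).comp (algebraMap R p'.ResidueField) =
        (algebraMap (R ⧸ I) pb.ResidueField).comp (Ideal.Quotient.mk I) := RingHom.ext hε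
    rw [hcomp]
  have hideal : (Ideal.span (Set.range fun i => MvPolynomial.map (Ideal.Quotient.mk I) (F i))).map
      (phi pb) = ((Ideal.span (Set.range F)).map (phi p')).map (E : _ →+* _) := by
    rw [Ideal.map_span, Ideal.map_span, Ideal.map_span, ← Set.range_comp, ← Set.range_comp,
      ← Set.range_comp]
    congr 2
    funext i
    exact (hE (F i)).symm
  exact ⟨((fiberEquiv p' (Ideal.span (Set.range F))).toRingEquiv.trans
    (Ideal.quotientEquiv _ _ E hideal)).trans
    (fiberEquiv pb (Ideal.span (Set.range fun i =>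
      MvPolynomial.map (Ideal.Quotient.mk I) (F i)))).toRingEquiv.symm⟩

/-- **Stacks 00SV (1)**. -/
theorem exists_relGCI_away_of_quotient
    (hI : Synt.IsRelGCI (R ⧸ I) n c (fun i => MvPolynomial.map (Ideal.Quotient.mk I) (F i))) :
    ∃ h : MvPolynomial (Fin n) R,
      Ideal.Quotient.mk (I.map (algebraMap R (Synt.RelGCIRing R n c F)))
        (Ideal.Quotient.mk (Ideal.span (Set.range F)) h) = 1 ∧
      Synt.IsRelGCI R (n + 1) (c + 1) (snocRel F h) ∧
      Nonempty (Localization.Away (Ideal.Quotient.mk (Ideal.span (Set.range F)) h) ≃ₐ[R]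
        Synt.RelGCIRing R (n + 1) (c + 1) (snocRel F h)) := by
  obtain ⟨J, hJ⟩ := exists_ideal_fibLD R (Synt.RelGCIRing R n c F) (n - c)
  set IS := I.map (algebraMap R (Synt.RelGCIRing R n c F)) with hIS
  -- points over `V(I)`
  have key : ∀ q : PrimeSpectrum (Synt.RelGCIRing R n c F), IS ≤ q.asIdeal →
      c ≤ n ∧ ¬ J ≤ q.asIdeal := by
    intro q hq
    set p := PrimeSpectrum.comap (algebraMap R (Synt.RelGCIRing R n c F)) q with hp
    haveI : p.asIdeal.IsPrime := p.2
    have hIp : I ≤ p.asIdeal := by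
      intro x hx
      exact hq (Ideal.mem_map_of_mem _ hx)
    have hcomap : (p.asIdeal.map (Ideal.Quotient.mk I)).comap (Ideal.Quotient.mk I) = p.asIdeal := by
      rw [Ideal.comap_map_of_surjective _ Ideal.Quotient.mk_surjective, ← RingHom.ker_eq_comap_bot,
        Ideal.mk_ker]
      exact sup_eq_left.mpr hIp
    haveI hpb : (p.asIdeal.map (Ideal.Quotient.mk I)).IsPrime := by
      apply Ideal.map_isPrime_of_surjective Ideal.Quotient.mk_surjective
      rw [Ideal.mk_ker]
      exact hIp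
    obtain ⟨τ⟩ := nonempty_fiber_ringEquiv_quotient F I (p.asIdeal.map (Ideal.Quotient.mk I))
      p.asIdeal hcomap.symm
    have hnt : Nontrivial (p.asIdeal.Fiber (Synt.RelGCIRing R n c F)) := by
      haveI : Nonempty (PrimeSpectrum (p.asIdeal.Fiber (Synt.RelGCIRing R n c F))) :=
        ⟨PrimeSpectrum.preimageHomeomorphFiber R _ p ⟨q, rfl⟩⟩
      exact PrimeSpectrum.nonempty_iff_nontrivial.mp inferInstance
    obtain ⟨hcn, hdim⟩ := hI ⟨p.asIdeal.map (Ideal.Quotient.mk I), hpb⟩ (τ.symm.toEquiv.nontrivial)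
    refine ⟨hcn, ?_⟩
    rw [← hJ q, fibLD_comap_eq]
    refine (Groth.Agent.Lib.Helper7.TopDim.localDim_le_dim _).trans ?_
    rw [PrimeSpectrum.topologicalKrullDim_eq_ringKrullDim,
      ringKrullDim_eq_of_ringEquiv (R := p.asIdeal.Fiber (Synt.RelGCIRing R n c F))
        (S := (p.asIdeal.map (Ideal.Quotient.mk I)).Fiber (Synt.RelGCIRing (R ⧸ I) n c
          (fun i => MvPolynomial.map (Ideal.Quotient.mk I) (F i)))) τ]
    exact le_of_eq hdim
  -- choice of `g`
  obtain ⟨g, hgJ, hg1, hcn⟩ : ∃ g ∈ J, Ideal.Quotient.mk IS g = 1 ∧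
      ((∃ q : PrimeSpectrum (Synt.RelGCIRing R n c F), g ∉ q.asIdeal) → c ≤ n) := by
    by_cases htop : IS = ⊤
    · refine ⟨0, J.zero_mem, ?_, fun ⟨q, hq⟩ => (hq q.asIdeal.zero_mem).elim⟩
      haveI : Subsingleton (Synt.RelGCIRing R n c F ⧸ IS) :=
        Ideal.Quotient.subsingleton_iff.mpr htop
      exact Subsingleton.elim _ _
    · obtain ⟨m, hm, hle⟩ := Ideal.exists_le_maximal _ htop
      have hcn := (key ⟨m, hm.isPrime⟩ hle).1
      have hsup : J ⊔ IS = ⊤ := by
        by_contra hne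
        obtain ⟨m', hm', hle'⟩ := Ideal.exists_le_maximal _ hne
        exact (key ⟨m', hm'.isPrime⟩ (le_sup_right.trans hle')).2 (le_sup_left.trans hle')
      obtain ⟨j, hj, i, hi, hji⟩ := Submodule.mem_sup.mp
        ((Ideal.eq_top_iff_one _).mp hsup)
      refine ⟨j, hj, ?_, fun _ => hcn⟩
      have h1 : Ideal.Quotient.mk IS j = Ideal.Quotient.mk IS (j + i) := by
        rw [map_add, Ideal.Quotient.eq_zero_iff_mem.mpr hi, add_zero]
      rw [h1, hji, map_one]
  obtain ⟨h, rfl, ⟨e⟩⟩ := exists_away_equiv F g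
  refine ⟨h, hg1, ?_, ⟨e⟩⟩
  apply isRelGCI_snocRel_of_fibLD_le F _ h e
  intro q hgq
  exact ⟨hcn ⟨q, hgq⟩, (hJ q).mpr fun hle => hgq (hle hgJ)⟩

end Groth.Agent.Lib.Helper7.Synt
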