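import Mathlib
import Groth.Agent.Lib.Helper7Synt19

/-! # Transport of LCI / syntomic along isomorphisms (helper7)

* `isLCIOver_iff_forall_isCIOver`;
* `isLCIOver_of_algEquiv`, `isSyntomic_of_algEquiv`;
* `nonempty_algEquiv_localization_away'`: `(S_g)_Q ≅ S_q` over an arbitrary base ring.
-/

set_option autoImplicit false
set_option linter.style.haveILetI false
set_option linter.unusedSectionVars false
universe u
open MvPolynomial TensorProduct

namespace Groth.Agent.Lib.Helper7.Synt

section Field

variable (k : Type u) [Field k]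

theorem isLCIOver_iff_forall_isCIOver {S : Type u} [CommRing S] [Algebra k S] :
    Synt.IsLCIOver k S ↔ Algebra.FiniteType k S ∧
      ∀ p : PrimeSpectrum S, Synt.IsCIOver k (Localization.AtPrime p.asIdeal) := by
  constructor
  · intro h
    exact ⟨h.1, fun p => isCIOver_localization_of_isLCIOver k h p.asIdeal⟩
  · rintro ⟨hft, h⟩
    haveI := hft
    exact ⟨hft, fun p => (isCIOver_localization_iff_exists_away k p.asIdeal).mp (h p)⟩

theorem isLCIOver_of_algEquiv {B B' : Type u} [CommRing B] [CommRing B'] [Algebra k B]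
    [Algebra k B'] (e : B ≃ₐ[k] B') (h : Synt.IsLCIOver k B) : Synt.IsLCIOver k B' := by
  rw [isLCIOver_iff_forall_isCIOver] at h ⊢
  obtain ⟨hft, h⟩ := h
  haveI := hft
  refine ⟨Algebra.FiniteType.equiv hft e, fun p' => ?_⟩
  haveI : (p'.asIdeal.comap (e : B →+* B')).IsPrime := Ideal.comap_isPrime _ _
  let ε : Localization.AtPrime (p'.asIdeal.comap (e : B →+* B')) ≃ₐ[k]
      Localization.AtPrime p'.asIdeal :=
    Localization.localAlgEquiv (p'.asIdeal.comap (e : B →+* B')) p'.asIdeal e rfl
  exact isCIOver_of_algEquiv k ε (h ⟨p'.asIdeal.comap (e : B →+* B'), inferInstance⟩)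

end Field

section Synt

variable {R : Type u} [CommRing R]

theorem isSyntomic_of_algEquiv {S S' : Type u} [CommRing S] [CommRing S'] [Algebra R S]
    [Algebra R S'] (e : S ≃ₐ[R] S') (h : Synt.IsSyntomic R S) : Synt.IsSyntomic R S' := by
  obtain ⟨hflat, hfp, hfib⟩ := h
  refine ⟨Module.Flat.of_linearEquiv e.toLinearEquiv.symm, Algebra.FinitePresentation.equiv e,
    fun p => ?_⟩
  exact isLCIOver_of_algEquiv p.asIdeal.ResidueField
    (Algebra.TensorProduct.congr AlgEquiv.refl e) (hfib p)

end Synt

section LocLoc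

variable (R : Type u) [CommRing R] {S : Type u} [CommRing S] [Algebra R S]

/-- `(S_g)_{Q} ≅ S_q` as `R`-algebras. -/
theorem nonempty_algEquiv_localization_away' (q : Ideal S) [q.IsPrime] (g : S)
    (Q : Ideal (Localization.Away g)) [Q.IsPrime]
    (hQ : Q.comap (algebraMap S (Localization.Away g)) = q) :
    Nonempty (Localization.AtPrime q ≃ₐ[R] Localization.AtPrime Q) := by
  let e := IsLocalization.localizationLocalizationAtPrimeIsoLocalization (Submonoid.powers g) Q
  have h2 : Nonempty (Localization.AtPrime (Q.comap (algebraMap S (Localization.Away g))) ≃ₐ[R]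
      Localization.AtPrime Q) := ⟨e.restrictScalars R⟩
  exact transport_prime hQ
    (fun q₁ _ => Nonempty (Localization.AtPrime q₁ ≃ₐ[R] Localization.AtPrime Q)) h2

end LocLoc

end Groth.Agent.Lib.Helper7.Synt
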