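import Mathlib
import Groth.Agent.Lib.Helper7Synt20

/-! # A flatness + Nakayama lemma (helper7)

* `eq_bot_of_flat_quotient`: `N` a f.g. ideal of an `R`-algebra `B₁` with `B₁/N` flat over `R`,
  `N ⊆ pB₁ ⊆ rad(B₁)` ⟹ `N = 0`.
* `le_of_flat_quotient`: `𝔍 ≤ ℑ` ideals of `B` with `B/ℑ` flat, `ℑ ⊆ 𝔍 + pB`, `pB ⊆ rad B`, `ℑ` f.g.
  ⟹ `ℑ = 𝔍`.
-/

set_option autoImplicit false
set_option linter.style.haveILetI false
set_option linter.unusedSectionVars false
universe u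
open TensorProduct

namespace Groth.Agent.Lib.Helper7.Synt

theorem one_tmul_eq_zero_of_mem_map {R B₁ : Type*} [CommRing R] [CommRing B₁] [Algebra R B₁]
    (p : Ideal R) (x : B₁) (hx : x ∈ p.map (algebraMap R B₁)) :
    ((1 : R ⧸ p) ⊗ₜ[R] x : (R ⧸ p) ⊗[R] B₁) = 0 := by
  induction hx using Submodule.span_induction with
  | mem x hx =>
    obtain ⟨r, hr, rfl⟩ := hx
    rw [Algebra.algebraMap_eq_smul_one, ← smul_tmul, ← Algebra.algebraMap_eq_smul_one,
      Ideal.Quotient.algebraMap_eq, Ideal.Quotient.eq_zero_iff_mem.mpr hr, zero_tmul]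
  | zero => rw [tmul_zero]
  | add x y _ _ hx hy => rw [tmul_add, hx, hy, add_zero]
  | smul a x _ hx =>
    have : ((1 : R ⧸ p) ⊗ₜ[R] (a • x) : (R ⧸ p) ⊗[R] B₁) =
        ((1 : R ⧸ p) ⊗ₜ[R] a) * ((1 : R ⧸ p) ⊗ₜ[R] x) := by
      rw [Algebra.TensorProduct.tmul_mul_tmul, mul_one, smul_eq_mul]
    rw [this, hx, mul_zero]

theorem eq_bot_of_flat_quotient {R B₁ : Type*} [CommRing R] [CommRing B₁] [Algebra R B₁]
    (p : Ideal R) (N : Ideal B₁) (hN : N.FG) [Module.Flat R (B₁ ⧸ N)]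
    (hNp : N ≤ p.map (algebraMap R B₁)) (hjac : p.map (algebraMap R B₁) ≤ Ideal.jacobson ⊥) :
    N = ⊥ := by
  let f : B₁ →ₗ[R] B₁ ⧸ N := (Ideal.Quotient.mkₐ R N).toLinearMap
  have hf : Function.Surjective f := Ideal.Quotient.mk_surjective
  let g : N →ₗ[R] B₁ := N.subtype.restrictScalars R
  have hg : Function.Injective g := Subtype.val_injective
  have H : Function.Exact g f := by
    intro y
    constructor
    · intro hy
      exact ⟨⟨y, Ideal.Quotient.eq_zero_iff_mem.mp hy⟩, rfl⟩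
    · rintro ⟨n, rfl⟩
      exact Ideal.Quotient.eq_zero_iff_mem.mpr n.2
  have hinj := LinearMap.lTensor_injective_of_exact_of_flat f hf g hg H (R ⧸ p)
  -- every element of `N` lies in `p • N`
  have key : ∀ n : N, n ∈ (p • ⊤ : Submodule R N) := by
    intro n
    have h0 : g.lTensor (R ⧸ p) ((1 : R ⧸ p) ⊗ₜ[R] n) = 0 := by
      rw [LinearMap.lTensor_tmul]
      exact one_tmul_eq_zero_of_mem_map p _ (hNp n.2)
    have h1 : ((1 : R ⧸ p) ⊗ₜ[R] n : (R ⧸ p) ⊗[R] N) = 0 := hinj (by rw [h0, map_zero])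
    have h2 := congrArg (TensorProduct.quotTensorEquivQuotSMul N p) h1
    rw [TensorProduct.quotTensorEquivQuotSMul_mk_one_tmul, map_zero,
      Submodule.Quotient.mk_eq_zero] at h2
    exact h2
  have hle : N ≤ p.map (algebraMap R B₁) • N := by
    intro x hx
    have h3 := key ⟨x, hx⟩
    have h4 : ∀ y : N, y ∈ (p • ⊤ : Submodule R N) → (y : B₁) ∈ p.map (algebraMap R B₁) • N := by
      intro y hy
      refine Submodule.smul_induction_on hy ?_ ?_
      · intro r hr m _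
        show ((r • m : N) : B₁) ∈ _
        have hrm : ((r • m : N) : B₁) = algebraMap R B₁ r • (m : B₁) := by
          rw [Submodule.coe_smul_of_tower, algebraMap_smul]
        rw [hrm]
        exact Submodule.smul_mem_smul (Ideal.mem_map_of_mem (algebraMap R B₁) hr) m.2
      · intro y z hy hz
        rw [Submodule.coe_add]
        exact Submodule.add_mem _ hy hz
    exact h4 _ h3
  exact Submodule.eq_bot_of_le_smul_of_le_jacobson_bot _ N hN hle hjac

theorem le_of_flat_quotient {R B : Type u} [CommRing R] [CommRing B] [Algebra R B]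
    (p : Ideal R) (𝔍 ℑ : Ideal B) (hℑ : ℑ.FG) [Module.Flat R (B ⧸ ℑ)] (hle : 𝔍 ≤ ℑ)
    (hsup : ℑ ≤ 𝔍 ⊔ p.map (algebraMap R B)) (hjac : p.map (algebraMap R B) ≤ Ideal.jacobson ⊥) :
    ℑ ≤ 𝔍 := by
  set N : Ideal (B ⧸ 𝔍) := ℑ.map (Ideal.Quotient.mk 𝔍) with hN
  have hNfg : N.FG := Ideal.FG.map hℑ _
  let e : ((B ⧸ 𝔍) ⧸ N) ≃ₐ[R] B ⧸ ℑ := DoubleQuot.quotQuotEquivQuotOfLEₐ R hle
  haveI : Module.Flat R ((B ⧸ 𝔍) ⧸ N) := Module.Flat.of_linearEquiv e.toLinearEquiv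
  have hmapp : p.map (algebraMap R (B ⧸ 𝔍)) = (p.map (algebraMap R B)).map (Ideal.Quotient.mk 𝔍) := by
    rw [Ideal.map_map]
    rfl
  have hNp : N ≤ p.map (algebraMap R (B ⧸ 𝔍)) := by
    rw [hmapp, hN]
    refine (Ideal.map_mono hsup).trans ?_
    rw [Ideal.map_sup, Ideal.map_quotient_self, bot_sup_eq]
  have hjac' : p.map (algebraMap R (B ⧸ 𝔍)) ≤ Ideal.jacobson ⊥ := by
    rw [hmapp]
    rw [Ideal.map_le_iff_le_comap]
    intro x hx
    rw [Ideal.mem_comap, Ideal.mem_jacobson_bot]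
    intro y
    obtain ⟨y, rfl⟩ := Ideal.Quotient.mk_surjective y
    have h1 := (Ideal.mem_jacobson_bot.mp (hjac hx)) y
    have h2 := h1.map (Ideal.Quotient.mk 𝔍)
    rwa [map_add, map_mul, map_one] at h2
  have hbot := eq_bot_of_flat_quotient p N hNfg hNp hjac'
  intro x hx
  have h1 : Ideal.Quotient.mk 𝔍 x ∈ N := Ideal.mem_map_of_mem _ hx
  rw [hbot, Ideal.mem_bot, Ideal.Quotient.eq_zero_iff_mem] at h1
  exact h1

end Groth.Agent.Lib.Helper7.Synt
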