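import Mathlib
import Groth.Agent.Lib.Helper7Synt21
import Groth.Agent.Lib.Helper4FibDimC

/-! # Auxiliary lemmas for the local structure of syntomic maps (helper7)

* `span_range_unit_mul`;
* `exists_C_mul_eq_phi_of_mem_map`: elements of `I κ(p)[x]` are, up to a unit constant, images of
  elements of `I`;
* `fiberEquiv_one_tmul_mk`;
* `localDim_fiber_eq_fibLD_comap`: local dimension of the fibre ring at `𝔔` = local fibre dimension at
  the contraction of `𝔔`;
* `localDim_quotient_le_of_height`: `J̄ ⊆ Q̄ ⊂ k[x]` with `c ≤ ht (J̄ k[x]_{Q̄})` ⟹ `c ≤ n` and the local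
  dimension of `Spec k[x]/J̄` at `Q̄` is `≤ n - c`.
-/

set_option autoImplicit false
set_option linter.style.haveILetI false
set_option linter.unusedSectionVars false
universe u
open MvPolynomial TensorProduct Groth.Agent.Lib.Helper4.FibDim Groth.Agent.Lib.Helper28

namespace Groth.Agent.Lib.Helper7.Synt

theorem span_range_unit_mul {A ι : Type*} [CommRing A] (u w : ι → A) (hu : ∀ i, IsUnit (u i)) :
    Ideal.span (Set.range fun i => u i * w i) = Ideal.span (Set.range w) := by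
  apply le_antisymm
  · rw [Ideal.span_le]
    rintro _ ⟨i, rfl⟩
    exact Ideal.mul_mem_left _ _ (Ideal.subset_span ⟨i, rfl⟩)
  · rw [Ideal.span_le]
    rintro _ ⟨i, rfl⟩
    obtain ⟨z, hz⟩ := (hu i).exists_left_inv
    have : w i = z * (u i * w i) := by rw [← mul_assoc, hz, one_mul]
    rw [SetLike.mem_coe, this]
    exact Ideal.mul_mem_left _ _ (Ideal.subset_span ⟨i, rfl⟩)

section Phi

variable {R : Type u} [CommRing R] (p : Ideal R) [p.IsPrime] {σ : Type}

theorem exists_C_mul_eq_phi_of_mem_map (I : Ideal (MvPolynomial σ R))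
    (y : MvPolynomial σ p.ResidueField) (hy : y ∈ I.map (phi p)) :
    ∃ r ∉ p, ∃ b ∈ I, C (algebraMap R p.ResidueField r) * y = phi p b := by
  have h1 : (1 : R) ∉ p := fun h => (inferInstance : p.IsPrime).ne_top ((Ideal.eq_top_iff_one p).mpr h)
  induction hy using Submodule.span_induction with
  | mem y hy =>
    obtain ⟨b, hb, rfl⟩ := hy
    exact ⟨1, h1, b, hb, by rw [map_one, map_one, one_mul]⟩
  | zero => exact ⟨1, h1, 0, I.zero_mem, by rw [mul_zero, map_zero]⟩
  | add y z _ _ hy hz =>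
    obtain ⟨r₁, hr₁, b₁, hb₁, e₁⟩ := hy
    obtain ⟨r₂, hr₂, b₂, hb₂, e₂⟩ := hz
    refine ⟨r₁ * r₂, (inferInstance : p.IsPrime).mul_notMem hr₁ hr₂, C r₂ * b₁ + C r₁ * b₂,
      I.add_mem (I.mul_mem_left _ hb₁) (I.mul_mem_left _ hb₂), ?_⟩
    have h : phi p (C r₂ * b₁ + C r₁ * b₂) =
        C (algebraMap R p.ResidueField r₂) * phi p b₁ +
          C (algebraMap R p.ResidueField r₁) * phi p b₂ := by
      simp [phi]
    rw [h, ← e₁, ← e₂, map_mul (algebraMap R p.ResidueField), map_mul C]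
    ring
  | smul a y _ hy =>
    obtain ⟨r, hr, b, hb, e⟩ := hy
    obtain ⟨r', hr', s, e'⟩ := exists_C_mul_eq_phi p a
    refine ⟨r' * r, (inferInstance : p.IsPrime).mul_notMem hr' hr, s * b, I.mul_mem_left _ hb, ?_⟩
    rw [map_mul (phi p), ← e, ← e', map_mul (algebraMap R p.ResidueField), map_mul C, smul_eq_mul]
    ring

theorem fiberEquiv_one_tmul_mk (I : Ideal (MvPolynomial σ R)) (a : MvPolynomial σ R) :
    fiberEquiv p I ((1 : p.ResidueField) ⊗ₜ[R] (Ideal.Quotient.mk I a)) =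
      Ideal.Quotient.mk _ (phi p a) := by
  unfold fiberEquiv
  rw [AlgEquiv.trans_apply]
  have h1 : Algebra.TensorProduct.tensorQuotientEquiv (R := R) p.ResidueField (MvPolynomial σ R)
      p.ResidueField I ((1 : p.ResidueField) ⊗ₜ[R] (Ideal.Quotient.mk I a)) =
      Ideal.Quotient.mk _ ((1 : p.ResidueField) ⊗ₜ[R] a) := by
    simp
  rw [h1]
  show Ideal.Quotient.mk _ (eK p ((1 : p.ResidueField) ⊗ₜ[R] a)) = _
  rw [eK_one_tmul]

end Phi

section Fib

variable (R S : Type u) [CommRing R] [CommRing S] [Algebra R S]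

theorem localDim_fiber_eq_fibLD_comap (p : PrimeSpectrum R)
    (𝔔 : PrimeSpectrum (p.asIdeal.Fiber S)) :
    FlatMor.localDim (PrimeSpectrum (p.asIdeal.Fiber S)) 𝔔 =
      fibLD (PrimeSpectrum.comap (algebraMap R S))
        (PrimeSpectrum.comap Algebra.TensorProduct.includeRight.toRingHom 𝔔) := by
  obtain ⟨⟨q, hq⟩, rfl⟩ := (PrimeSpectrum.preimageHomeomorphFiber R S p).surjective 𝔔
  have hq' : PrimeSpectrum.comap (algebraMap R S) q = p := hq
  subst hq'
  haveI : (PrimeSpectrum.comap (algebraMap R S) q).asIdeal.IsPrime :=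
    (PrimeSpectrum.comap (algebraMap R S) q).2
  rw [comap_includeRight_preimageHomeomorphFiber
    (PrimeSpectrum.comap (algebraMap R S) q).asIdeal ⟨q, rfl⟩]
  exact (fibLD_comap_eq R S q).symm

end Fib

section Field

variable (k : Type u) [Field k] (n : ℕ)

theorem localDim_quotient_le_of_height (J : Ideal (MvPolynomial (Fin n) k))
    (Q : Ideal (MvPolynomial (Fin n) k)) [Q.IsPrime] (hJQ : J ≤ Q) (c : ℕ)
    (hc : (c : ℕ∞) ≤ (J.map (algebraMap _ (Localization.AtPrime Q))).height)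
    (z : PrimeSpectrum (MvPolynomial (Fin n) k ⧸ J))
    (hz : z.asIdeal.comap (Ideal.Quotient.mk J) = Q) :
    c ≤ n ∧ FlatMor.localDim (PrimeSpectrum (MvPolynomial (Fin n) k ⧸ J)) z ≤
      ((n - c : ℕ) : WithBot ℕ∞) := by
  haveI : z.asIdeal.IsPrime := z.2
  have hgood : ∀ 𝔮 ∈ minimalPrimes (MvPolynomial (Fin n) k ⧸ J), 𝔮 ≤ z.asIdeal →
      c ≤ n ∧ ringKrullDim ((MvPolynomial (Fin n) k ⧸ J) ⧸ 𝔮) ≤ ((n - c : ℕ) : WithBot ℕ∞) := by
    intro 𝔮 h𝔮 h𝔮z
    haveI : 𝔮.IsPrime := h𝔮.1.1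
    set p₀ := 𝔮.comap (Ideal.Quotient.mk J) with hp₀
    haveI : p₀.IsPrime := Ideal.comap_isPrime _ _
    have hJp₀ : J ≤ p₀ := by
      intro x hx
      rw [hp₀, Ideal.mem_comap, Ideal.Quotient.eq_zero_iff_mem.mpr hx]
      exact 𝔮.zero_mem
    have hp₀Q : p₀ ≤ Q := by
      rw [← hz]
      exact Ideal.comap_mono h𝔮z
    have hdisj : Disjoint (Q.primeCompl : Set (MvPolynomial (Fin n) k)) (p₀ : Set _) := by
      rw [Set.disjoint_left]
      intro x hx hxp
      exact hx (hp₀Q hxp)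
    have h1 : (c : ℕ∞) ≤ p₀.height := by
      rw [← IsLocalization.height_map_of_disjoint (S := Localization.AtPrime Q) Q.primeCompl p₀ hdisj]
      exact hc.trans (Ideal.height_mono (Ideal.map_mono hJp₀))
    have h2 := height_comap_add_ringKrullDim_quotient k n J 𝔮
    obtain ⟨a, ha⟩ := ENat.ne_top_iff_exists.mp (Ideal.height_ne_top_of_isPrime (I := p₀))
    rw [← ha] at h1 h2
    have hac : c ≤ a := by exact_mod_cast h1
    generalize ringKrullDim ((MvPolynomial (Fin n) k ⧸ J) ⧸ 𝔮) = d at h2 ⊢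
    induction d using WithBot.recBotCoe with
    | bot => simp at h2
    | coe d =>
      induction d using ENat.recTopCoe with
      | top =>
        exfalso
        have : (((a : ℕ∞) + ⊤ : ℕ∞) : WithBot ℕ∞) = ((n : ℕ∞) : WithBot ℕ∞) := by
          rw [WithBot.coe_add]; exact h2
        have := WithBot.coe_injective this
        simp at this
      | coe d =>
        have h3 : a + d = n := by exact_mod_cast h2
        have h4 : d ≤ n - c := by omega
        exact ⟨by omega, natCast_withBot_le.mpr h4⟩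
  obtain ⟨𝔮₀, h𝔮₀, h𝔮₀z⟩ := Ideal.exists_minimalPrimes_le (bot_le : (⊥ : Ideal _) ≤ z.asIdeal)
  refine ⟨(hgood 𝔮₀ h𝔮₀ h𝔮₀z).1, ?_⟩
  have hz' : (⟨z.asIdeal, inferInstance⟩ : PrimeSpectrum (MvPolynomial (Fin n) k ⧸ J)) = z := rfl
  rw [← hz', Groth.Agent.Lib.Helper14.LocalDim.localDim_le_iff (k := k) z.asIdeal (n - c)]
  exact fun 𝔮 h𝔮 h𝔮z => (hgood 𝔮 h𝔮 h𝔮z).2

end Field

end Groth.Agent.Lib.Helper7.Synt
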