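import Mathlib
import Groth.Agent.Lib.Helper7Synt23

/-! # Fibre local rings under localization / isomorphism / presentation (helper7) -/

set_option autoImplicit false
set_option linter.style.haveILetI false
set_option linter.unusedSectionVars false
universe u
open MvPolynomial TensorProduct

namespace Groth.Agent.Lib.Helper7.Synt

variable {R : Type u} [CommRing R] (p : Ideal R) [p.IsPrime]

section F1

variable {S : Type u} [CommRing S] [Algebra R S]

/-- the fibre local ring does not change under localization away from `g`. -/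
theorem exists_prime_fiber_away (Q : Ideal (p.Fiber S)) [Q.IsPrime] (g : S)
    (hg : ((1 : p.ResidueField) ⊗ₜ[R] g : p.Fiber S) ∉ Q) :
    ∃ (QA : Ideal (p.Fiber (Localization.Away g))) (_ : QA.IsPrime),
      Nonempty (Localization.AtPrime QA ≃ₐ[p.ResidueField] Localization.AtPrime Q) ∧
      (QA.comap (Algebra.TensorProduct.includeRight (R := R) (A := p.ResidueField)
        (B := Localization.Away g)).toRingHom).comap (algebraMap S (Localization.Away g)) =
        Q.comap (Algebra.TensorProduct.includeRight (R := R) (A := p.ResidueField)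
          (B := S)).toRingHom := by
  set gT : p.Fiber S := (1 : p.ResidueField) ⊗ₜ[R] g with hgT
  let e₁ : p.Fiber (Localization.Away g) ≃ₐ[p.ResidueField] Localization.Away gT :=
    IsLocalization.Away.tensorProductEquivTMulRight R p.ResidueField g (Localization.Away g)
  haveI hQ₁ : (Q.map (algebraMap (p.Fiber S) (Localization.Away gT))).IsPrime :=
    isPrime_map_away Q gT hg
  have hcomap := comap_map_away Q gT hg
  set Q₁ := Q.map (algebraMap (p.Fiber S) (Localization.Away gT)) with hQ₁def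
  haveI : (Q₁.comap (e₁ : p.Fiber (Localization.Away g) →+* Localization.Away gT)).IsPrime :=
    Ideal.comap_isPrime _ _
  refine ⟨Q₁.comap (e₁ : p.Fiber (Localization.Away g) →+* Localization.Away gT), inferInstance,
    ?_, ?_⟩
  · obtain ⟨ε⟩ := nonempty_algEquiv_localization_away p.ResidueField Q gT hg Q₁ hcomap
    let ε₁ : Localization.AtPrime
        (Q₁.comap (e₁ : p.Fiber (Localization.Away g) →+* Localization.Away gT)) ≃ₐ[p.ResidueField]
        Localization.AtPrime Q₁ := Localization.localAlgEquiv _ Q₁ e₁ rfl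
    exact ⟨ε₁.trans ε.symm⟩
  · ext s
    rw [Ideal.mem_comap, Ideal.mem_comap, Ideal.mem_comap, Ideal.mem_comap]
    show e₁ ((1 : p.ResidueField) ⊗ₜ[R] algebraMap S (Localization.Away g) s) ∈ Q₁ ↔
      ((1 : p.ResidueField) ⊗ₜ[R] s : p.Fiber S) ∈ Q
    rw [IsLocalization.Away.tensorProductEquivTMulRight_tmul, ← Ideal.mem_comap, hcomap]

end F1

section F2

variable {A A' : Type u} [CommRing A] [CommRing A'] [Algebra R A] [Algebra R A']

theorem exists_prime_fiber_algEquiv (ρ : A' ≃ₐ[R] A) (QA : Ideal (p.Fiber A)) [QA.IsPrime] :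
    ∃ (Q' : Ideal (p.Fiber A')) (_ : Q'.IsPrime),
      Nonempty (Localization.AtPrime Q' ≃ₐ[p.ResidueField] Localization.AtPrime QA) ∧
      Q'.comap (Algebra.TensorProduct.includeRight (R := R) (A := p.ResidueField)
        (B := A')).toRingHom =
        (QA.comap (Algebra.TensorProduct.includeRight (R := R) (A := p.ResidueField)
          (B := A)).toRingHom).comap (ρ : A' →+* A) := by
  let ρT : p.Fiber A' ≃ₐ[p.ResidueField] p.Fiber A := Algebra.TensorProduct.congr AlgEquiv.refl ρ
  haveI : (QA.comap (ρT : p.Fiber A' →+* p.Fiber A)).IsPrime := Ideal.comap_isPrime _ _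
  refine ⟨QA.comap (ρT : p.Fiber A' →+* p.Fiber A), inferInstance,
    ⟨Localization.localAlgEquiv _ QA ρT rfl⟩, ?_⟩
  ext a
  rw [Ideal.mem_comap, Ideal.mem_comap, Ideal.mem_comap, Ideal.mem_comap]
  show ρT ((1 : p.ResidueField) ⊗ₜ[R] a) ∈ QA ↔ ((1 : p.ResidueField) ⊗ₜ[R] ρ a : p.Fiber A) ∈ QA
  rw [Algebra.TensorProduct.congr_apply, Algebra.TensorProduct.map_tmul]
  rfl

end F2

section F3

variable {n : ℕ} (I : Ideal (MvPolynomial (Fin n) R))

theorem exists_prime_fiber_quotient (Q' : Ideal (p.Fiber (MvPolynomial (Fin n) R ⧸ I))) [Q'.IsPrime] :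
    ∃ (𝔔 : Ideal (MvPolynomial (Fin n) p.ResidueField ⧸ I.map (phi p))) (_ : 𝔔.IsPrime),
      Nonempty (Localization.AtPrime 𝔔 ≃ₐ[p.ResidueField]
        Localization.AtPrime (R := p.Fiber (MvPolynomial (Fin n) R ⧸ I)) Q') ∧
      (𝔔.comap (Ideal.Quotient.mkₐ p.ResidueField (I.map (phi p))).toRingHom).comap (phi p) =
        (Q'.comap (Algebra.TensorProduct.includeRight (R := R) (A := p.ResidueField)
          (B := MvPolynomial (Fin n) R ⧸ I)).toRingHom).comap (Ideal.Quotient.mk I) := by
  let τ := fiberEquiv p I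
  haveI : (Ideal.comap τ.symm Q').IsPrime := Ideal.comap_isPrime _ _
  let ε : Localization.AtPrime (Ideal.comap τ.symm Q') ≃ₐ[p.ResidueField]
      Localization.AtPrime (R := p.Fiber (MvPolynomial (Fin n) R ⧸ I)) Q' :=
    Localization.localAlgEquiv (R := p.ResidueField)
      (S := MvPolynomial (Fin n) p.ResidueField ⧸ I.map (phi p))
      (P := p.Fiber (MvPolynomial (Fin n) R ⧸ I)) (Ideal.comap τ.symm Q') Q' τ.symm rfl
  refine ⟨Ideal.comap τ.symm Q', inferInstance, ⟨ε⟩, ?_⟩
  ext a
  rw [Ideal.mem_comap, Ideal.mem_comap, Ideal.mem_comap, Ideal.mem_comap, Ideal.mem_comap]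
  show τ.symm (Ideal.Quotient.mk _ (phi p a)) ∈ Q' ↔
    ((1 : p.ResidueField) ⊗ₜ[R] Ideal.Quotient.mk I a : p.Fiber (MvPolynomial (Fin n) R ⧸ I)) ∈ Q'
  rw [← fiberEquiv_one_tmul_mk, AlgEquiv.symm_apply_apply]

end F3

end Groth.Agent.Lib.Helper7.Synt
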