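import Mathlib
import Groth.Agent.Lib.Helper7Synt24

/-! # Local structure of syntomic maps: finitely presented algebras (helper7)

`exists_relGCI_away_of_flat_of_isCIOver`: `A` finitely presented over `R`, `QA` a prime of the fibre
ring `κ(p) ⊗ A` with contraction `q`; if `A_q` is flat over `R` and `(κ(p) ⊗ A)_{QA}` is a complete
intersection over `κ(p)`, then `A_g` is a relative global complete intersection for some `g ∉ q`.
-/

set_option autoImplicit false
set_option linter.style.haveILetI false
set_option linter.unusedSectionVars false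
universe u
open MvPolynomial TensorProduct Groth.Agent.Lib.Helper7.CIPres

namespace Groth.Agent.Lib.Helper7.Synt

variable {R : Type u} [CommRing R] (p : Ideal R) [p.IsPrime]

theorem exists_relGCI_away_of_flat_of_isCIOver {A : Type u} [CommRing A] [Algebra R A]
    [Algebra.FinitePresentation R A] (QA : Ideal (p.Fiber A)) [QA.IsPrime]
    (hflat : Module.Flat R (Localization.AtPrime
      (QA.comap (Algebra.TensorProduct.includeRight (R := R) (A := p.ResidueField)
        (B := A)).toRingHom)))
    (hCI : Synt.IsCIOver p.ResidueField (Localization.AtPrime QA)) :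
    ∃ g₁ : A, g₁ ∉ QA.comap (Algebra.TensorProduct.includeRight (R := R) (A := p.ResidueField)
        (B := A)).toRingHom ∧
      ∃ (n c : ℕ) (F : Fin c → MvPolynomial (Fin n) R), Synt.IsRelGCI R n c F ∧
        Nonempty (Localization.Away g₁ ≃ₐ[R] Synt.RelGCIRing R n c F) := by
  set qA := QA.comap (Algebra.TensorProduct.includeRight (R := R) (A := p.ResidueField)
    (B := A)).toRingHom with hqA
  obtain ⟨n, φ, hφ, hfg⟩ := Algebra.FinitePresentation.out (R := R) (A := A)
  set I := RingHom.ker φ.toRingHom with hI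
  let ρ : (MvPolynomial (Fin n) R ⧸ I) ≃ₐ[R] A := Ideal.quotientKerAlgEquivOfSurjective hφ
  have hρmk : ∀ x, ρ (Ideal.Quotient.mk I x) = φ x := fun x => rfl
  obtain ⟨Q', hQ'prime, ⟨ε₁⟩, hQ'comap⟩ := exists_prime_fiber_algEquiv p ρ QA
  obtain ⟨𝔔, h𝔔prime, ⟨ε₂⟩, h𝔔comap⟩ := exists_prime_fiber_quotient p I Q'
  -- the prime of `κ(p)[x]`
  set Qb := 𝔔.comap (Ideal.Quotient.mkₐ p.ResidueField (I.map (phi p))).toRingHom with hQb
  haveI : Qb.IsPrime := Ideal.comap_isPrime _ _
  have hsurj : Function.Surjective (Ideal.Quotient.mkₐ p.ResidueField (I.map (phi p))) :=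
    Ideal.Quotient.mkₐ_surjective _ _
  have hker : RingHom.ker (Ideal.Quotient.mkₐ p.ResidueField (I.map (phi p))).toRingHom =
      I.map (phi p) := Ideal.mk_ker
  -- the complete intersection hypothesis
  have hCI𝔔 : Synt.IsCIOver p.ResidueField (Localization.AtPrime 𝔔) :=
    isCIOver_of_algEquiv _ (ε₂.trans ε₁).symm hCI
  haveI := isRegularLocalRing_localization_mvPolynomial p.ResidueField n Qb
  have hne := map_ker_ne_top p.ResidueField
    (Ideal.Quotient.mkₐ p.ResidueField (I.map (phi p))) hsurj 𝔔
  rw [isCIOver_localization_iff p.ResidueField _ hsurj 𝔔, regular_iff_good _ hne,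
    good_iff_height _ hne, hker] at hCI𝔔
  obtain ⟨c, v, hv, hc⟩ := hCI𝔔
  -- the prime of `R[x]`
  have hq' : Qb.comap (phi p) = qA.comap φ.toRingHom := by
    rw [hQb, h𝔔comap, hQ'comap, Ideal.comap_comap]
    rfl
  have hIQ : I ≤ Qb.comap (phi p) := by
    rw [hq']
    intro x hx
    rw [Ideal.mem_comap, RingHom.mem_ker.mp hx]
    exact qA.zero_mem
  -- flatness
  haveI hqIprime : (qA.comap (ρ : (MvPolynomial (Fin n) R ⧸ I) →+* A)).IsPrime :=
    Ideal.comap_isPrime _ _
  set qI := qA.comap (ρ : (MvPolynomial (Fin n) R ⧸ I) →+* A) with hqI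
  have hflat1 : Module.Flat R (Localization.AtPrime qI) := by
    let ε : Localization.AtPrime qI ≃ₐ[R] Localization.AtPrime qA :=
      Localization.localAlgEquiv qI qA ρ rfl
    exact Module.Flat.of_linearEquiv ε.toLinearEquiv
  have hflat2 : Module.Flat R (Localization.AtPrime (qI.comap (Ideal.Quotient.mk I)) ⧸
      I.map (algebraMap (MvPolynomial (Fin n) R)
        (Localization.AtPrime (qI.comap (Ideal.Quotient.mk I))))) := by
    haveI := isLocalization_atPrime_quotient I qI
    haveI : IsScalarTower R (MvPolynomial (Fin n) R ⧸ I)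
        (Localization.AtPrime (qI.comap (Ideal.Quotient.mk I)) ⧸
          I.map (algebraMap (MvPolynomial (Fin n) R)
            (Localization.AtPrime (qI.comap (Ideal.Quotient.mk I))))) :=
      isScalarTower_quotient_map I
    let ε : (Localization.AtPrime (qI.comap (Ideal.Quotient.mk I)) ⧸
        I.map (algebraMap (MvPolynomial (Fin n) R)
          (Localization.AtPrime (qI.comap (Ideal.Quotient.mk I))))) ≃ₐ[MvPolynomial (Fin n) R ⧸ I]
        Localization.AtPrime qI := IsLocalization.algEquiv qI.primeCompl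
          (Localization.AtPrime (qI.comap (Ideal.Quotient.mk I)) ⧸
            I.map (algebraMap (MvPolynomial (Fin n) R)
              (Localization.AtPrime (qI.comap (Ideal.Quotient.mk I))))) (Localization.AtPrime qI)
    exact Module.Flat.of_linearEquiv (ε.restrictScalars R).toLinearEquiv
  have hqIq' : qI.comap (Ideal.Quotient.mk I) = Qb.comap (phi p) := by
    rw [hq', hqI, Ideal.comap_comap]
    rfl
  have hflat3 : Module.Flat R (Localization.AtPrime (Qb.comap (phi p)) ⧸
      I.map (algebraMap (MvPolynomial (Fin n) R) (Localization.AtPrime (Qb.comap (phi p))))) :=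
    transport_prime hqIq' (fun q₁ _ => Module.Flat R (Localization.AtPrime q₁ ⧸
      I.map (algebraMap (MvPolynomial (Fin n) R) (Localization.AtPrime q₁)))) hflat2
  -- the core
  obtain ⟨f, g₀, h, hg₀, hGCI, ⟨e⟩⟩ :=
    exists_relGCI_away_of_flat_of_fibre p Qb I hfg hIQ hflat3 c v hv hc
  refine ⟨φ g₀, ?_, n + 1, c + 1, snocRel f h, hGCI, ?_⟩
  · intro hmem
    apply hg₀
    rw [hq']
    exact hmem
  · have H : Submonoid.map ρ (Submonoid.powers (Ideal.Quotient.mk I g₀)) =
        Submonoid.powers (φ g₀) := by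
      rw [Submonoid.map_powers]
      rfl
    let ε : Localization.Away (Ideal.Quotient.mk I g₀) ≃ₐ[R] Localization.Away (φ g₀) :=
      IsLocalization.algEquivOfAlgEquiv _ _ ρ H
    exact ⟨ε.symm.trans e⟩

end Groth.Agent.Lib.Helper7.Synt
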