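import Mathlib
import Groth.Agent.Lib.Helper7Synt23

/-! # Local structure of syntomic maps: the core, with explicit data (helper7)

`exists_relGCI_data_of_flat_of_fibre`: the variant of `exists_relGCI_away_of_flat_of_fibre` which
exports the data: `f_i ∈ I`, `h ∉ q'` with `h I ⊆ (f)`, and `R[x, t]/(f, h t - 1)` is a relative
global complete intersection.
-/

set_option autoImplicit false
set_option linter.style.haveILetI false
set_option linter.unusedSectionVars false
universe u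
open MvPolynomial TensorProduct Groth.Agent.Lib.Helper4.FibDim Groth.Agent.Lib.Helper28

namespace Groth.Agent.Lib.Helper7.Synt

variable {R : Type u} [CommRing R] {n : ℕ} (p : Ideal R) [p.IsPrime]
  (Q : Ideal (MvPolynomial (Fin n) p.ResidueField)) [Q.IsPrime]
  (I : Ideal (MvPolynomial (Fin n) R))

local notation "q'" => Ideal.comap (phi p) Q
local notation "B" => Localization.AtPrime (Ideal.comap (phi p) Q)
local notation "L" => Localization.AtPrime Q

theorem exists_relGCI_data_of_flat_of_fibre (hIfg : I.FG) (hIQ : I ≤ q')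
    (hflat : Module.Flat R (B ⧸ I.map (algebraMap _ B)))
    (c : ℕ) (v : Fin c → L)
    (hv : Ideal.span (Set.range v) = (I.map (phi p)).map (algebraMap _ L))
    (hc : (c : ℕ∞) ≤ ((I.map (phi p)).map (algebraMap _ L)).height) :
    ∃ (f : Fin c → MvPolynomial (Fin n) R) (h : MvPolynomial (Fin n) R), h ∉ q' ∧
      (∀ i, f i ∈ I) ∧ (∀ a ∈ I, h * a ∈ Ideal.span (Set.range f)) ∧
      Synt.IsRelGCI R (n + 1) (c + 1) (snocRel f h) := by
  classical
  obtain ⟨f, hfI, hf⟩ := exists_lift_generators_phi p Q I v hv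
  set J := Ideal.span (Set.range f) with hJ
  have hJI : J ≤ I := Ideal.span_le.mpr (by rintro _ ⟨i, rfl⟩; exact hfI i)
  have hJQ : J ≤ q' := hJI.trans hIQ
  -- the fibre ideals agree at `Q`
  have hJL : (J.map (phi p)).map (algebraMap _ L) = (I.map (phi p)).map (algebraMap _ L) := by
    rw [← hf, hJ, Ideal.map_span, Ideal.map_span, ← Set.range_comp, ← Set.range_comp]
    rfl
  -- step 1: `I B = J B`
  have hpsiI : ∀ K : Ideal (MvPolynomial (Fin n) R),
      (K.map (algebraMap _ B)).map (psi p Q) = (K.map (phi p)).map (algebraMap _ L) := by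
    intro K
    rw [Ideal.map_map, Ideal.map_map]
    congr 1
    exact RingHom.ext fun x => psi_algebraMap p Q x
  have hsup : I.map (algebraMap _ B) ≤ J.map (algebraMap _ B) ⊔ p.map (algebraMap R B) := by
    calc I.map (algebraMap _ B)
        ≤ ((I.map (algebraMap _ B)).map (psi p Q)).comap (psi p Q) := Ideal.le_comap_map
      _ = ((J.map (algebraMap _ B)).map (psi p Q)).comap (psi p Q) := by rw [hpsiI, hpsiI, hJL]
      _ = J.map (algebraMap _ B) ⊔ (⊥ : Ideal L).comap (psi p Q) :=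
          Ideal.comap_map_of_surjective (psi p Q) (psi_surjective p Q) _
      _ = J.map (algebraMap _ B) ⊔ p.map (algebraMap R B) := by
          rw [← RingHom.ker_eq_comap_bot, ker_psi]
  have hjac : p.map (algebraMap R B) ≤ Ideal.jacobson ⊥ := by
    rw [IsLocalRing.jacobson_eq_maximalIdeal ⊥ bot_ne_top, Ideal.map_le_iff_le_comap]
    intro r hr
    rw [Ideal.mem_comap, IsScalarTower.algebraMap_apply R (MvPolynomial (Fin n) R) B,
      IsLocalization.AtPrime.to_map_mem_maximal_iff B q']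
    rw [← comap_C_comap_phi p Q] at hr
    exact hr
  have hIB : I.map (algebraMap _ B) ≤ J.map (algebraMap _ B) :=
    le_of_flat_quotient p _ _ (Ideal.FG.map hIfg _) (Ideal.map_mono hJI) hsup hjac
  obtain ⟨g₁, hg₁, hg₁J⟩ := exists_mul_mem_of_map_eq (q').primeCompl B I J hIfg hIB
  -- step 2: the local fibre dimension of `R[x]/J` at `q'`
  obtain ⟨𝔘, h𝔘⟩ := exists_ideal_fibLD R (Synt.RelGCIRing R n c f) (n - c)
  let τ := fiberEquiv p J
  have hJbarQ : J.map (phi p) ≤ Q := Ideal.map_le_iff_le_comap.mpr hJQ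
  -- the point of the fibre
  have hzprime : (Q.map (Ideal.Quotient.mk (J.map (phi p)))).IsPrime := by
    apply Ideal.map_isPrime_of_surjective Ideal.Quotient.mk_surjective
    rw [Ideal.mk_ker]
    exact hJbarQ
  have hzcomap : (Q.map (Ideal.Quotient.mk (J.map (phi p)))).comap
      (Ideal.Quotient.mk (J.map (phi p))) = Q := by
    rw [Ideal.comap_map_of_surjective _ Ideal.Quotient.mk_surjective, ← RingHom.ker_eq_comap_bot,
      Ideal.mk_ker]
    exact sup_eq_left.mpr hJbarQ
  let z : PrimeSpectrum (MvPolynomial (Fin n) p.ResidueField ⧸ J.map (phi p)) :=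
    ⟨Q.map (Ideal.Quotient.mk (J.map (phi p))), hzprime⟩
  obtain ⟨hcn, hzdim⟩ := localDim_quotient_le_of_height p.ResidueField n (J.map (phi p)) Q hJbarQ c
    (by rw [hJL]; exact hc) z hzcomap
  let 𝔔 : PrimeSpectrum (p.Fiber (Synt.RelGCIRing R n c f)) :=
    PrimeSpectrum.comap τ.toRingEquiv.toRingHom z
  have h𝔔dim : FlatMor.localDim (PrimeSpectrum (p.Fiber (Synt.RelGCIRing R n c f))) 𝔔 ≤
      ((n - c : ℕ) : WithBot ℕ∞) := by
    have := localDim_eq_of_homeomorph (PrimeSpectrum.homeomorphOfRingEquiv τ.toRingEquiv) 𝔔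
    rw [this]
    have hz' : PrimeSpectrum.homeomorphOfRingEquiv τ.toRingEquiv 𝔔 = z := by
      apply PrimeSpectrum.ext
      ext x
      show τ.symm x ∈ Ideal.comap τ.toRingEquiv.toRingHom z.asIdeal ↔ _
      rw [Ideal.mem_comap]
      show τ (τ.symm x) ∈ _ ↔ _
      rw [AlgEquiv.apply_symm_apply]
    rw [hz']
    exact hzdim
  set q'' : PrimeSpectrum (Synt.RelGCIRing R n c f) :=
    PrimeSpectrum.comap Algebra.TensorProduct.includeRight.toRingHom 𝔔 with hq''
  have hq''mem : ∀ a : MvPolynomial (Fin n) R,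
      Ideal.Quotient.mk J a ∈ q''.asIdeal ↔ a ∈ q' := by
    intro a
    show τ ((1 : p.ResidueField) ⊗ₜ[R] Ideal.Quotient.mk J a) ∈ z.asIdeal ↔ _
    rw [fiberEquiv_one_tmul_mk, ← Ideal.mem_comap, hzcomap]
    rfl
  have hq''fib : fibLD (PrimeSpectrum.comap (algebraMap R (Synt.RelGCIRing R n c f))) q'' ≤
      ((n - c : ℕ) : WithBot ℕ∞) := by
    rw [hq'', ← localDim_fiber_eq_fibLD_comap R _ ⟨p, inferInstance⟩ 𝔔]
    exact h𝔔dim
  have h𝔘q : ¬ 𝔘 ≤ q''.asIdeal := (h𝔘 q'').mp hq''fib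
  obtain ⟨u, hu𝔘, huq⟩ := SetLike.not_le_iff_exists.mp h𝔘q
  obtain ⟨g₂, rfl⟩ := Ideal.Quotient.mk_surjective u
  have hg₂ : g₂ ∉ q' := fun h => huq ((hq''mem g₂).mpr h)
  have hg₀ : g₁ * g₂ ∉ q' := (inferInstance : (q').IsPrime).mul_notMem hg₁ hg₂
  -- step 3: the relative global complete intersection
  obtain ⟨h, hh, ⟨e⟩⟩ := exists_away_equiv f (Ideal.Quotient.mk J (g₁ * g₂))
  have hdiff : h - g₁ * g₂ ∈ J := by
    rw [← Ideal.Quotient.eq_zero_iff_mem, map_sub, hh, sub_self]
  refine ⟨f, h, ?_, hfI, ?_, ?_⟩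
  · intro hmem
    apply hg₀
    have : g₁ * g₂ = h - (h - g₁ * g₂) := by ring
    rw [this]
    exact Ideal.sub_mem _ hmem (hJQ hdiff)
  · intro a ha
    have : h * a = g₂ * (g₁ * a) + (h - g₁ * g₂) * a := by ring
    rw [this]
    exact Ideal.add_mem _ (Ideal.mul_mem_left _ _ (hg₁J a ha)) (Ideal.mul_mem_right _ _ hdiff)
  · apply isRelGCI_snocRel_of_fibLD_le f _ h e
    intro q₁ hq₁
    refine ⟨hcn, (h𝔘 q₁).mpr fun hle => hq₁ ?_⟩
    rw [map_mul]
    exact Ideal.mul_mem_left _ _ (hle hu𝔘)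

end Groth.Agent.Lib.Helper7.Synt
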