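import Mathlib
import Groth.Agent.Lib.Helper7Synt45
import Groth.Agent.Lib.Helper7Synt32

/-! # Charts of a syntomic presentation (helper7)

`exists_chart_of_isSyntomic`. -/

set_option autoImplicit false
set_option linter.style.haveILetI false
universe u
open MvPolynomial TensorProduct

namespace Groth.Agent.Lib.Helper7.Synt

/-- charts of a syntomic presentation `A₀[y]/(H)`: around every prime there are `f_i ∈ (H)` and
`h` with `h (H) ⊆ (f)` such that `A₀[y, t]/(f, h t - 1)` is a relative global complete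
intersection. -/
theorem exists_chart_of_isSyntomic {A₀ : Type u} [CommRing A₀] {n s : ℕ}
    (H : Fin s → MvPolynomial (Fin n) A₀)
    (hsyn : Synt.IsSyntomic A₀ (Synt.RelGCIRing A₀ n s H))
    (q : PrimeSpectrum (Synt.RelGCIRing A₀ n s H)) :
    ∃ (c : ℕ) (f : Fin c → MvPolynomial (Fin n) A₀) (h : MvPolynomial (Fin n) A₀),
      Ideal.Quotient.mk (Ideal.span (Set.range H)) h ∉ q.asIdeal ∧
      (∀ i, f i ∈ Ideal.span (Set.range H)) ∧
      (∀ l, h * H l ∈ Ideal.span (Set.range f)) ∧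
      Synt.IsRelGCI A₀ (n + 1) (c + 1) (snocRel f h) := by
  set p := PrimeSpectrum.comap (algebraMap A₀ (Synt.RelGCIRing A₀ n s H)) q with hp
  haveI : p.asIdeal.IsPrime := p.2
  haveI : q.asIdeal.IsPrime := q.2
  obtain ⟨Q, hQ⟩ : ∃ Q : PrimeSpectrum (p.asIdeal.Fiber (Synt.RelGCIRing A₀ n s H)),
      PrimeSpectrum.comap Algebra.TensorProduct.includeRight.toRingHom Q = q :=
    ⟨PrimeSpectrum.preimageHomeomorphFiber A₀ (Synt.RelGCIRing A₀ n s H) p ⟨q, rfl⟩,
      Groth.Agent.Lib.Helper4.FibDim.comap_includeRight_preimageHomeomorphFiber p.asIdeal ⟨q, rfl⟩⟩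
  obtain ⟨Q, hQprime⟩ := Q
  haveI := hQprime
  have hQ' : Q.comap (Algebra.TensorProduct.includeRight.toRingHom) = q.asIdeal :=
    congrArg PrimeSpectrum.asIdeal hQ
  have hflat0 : ∀ (qq : Ideal (Synt.RelGCIRing A₀ n s H)) [qq.IsPrime],
      Module.Flat A₀ (Localization.AtPrime qq) := by
    intro qq _
    haveI := hsyn.1
    haveI : Module.Flat (Synt.RelGCIRing A₀ n s H) (Localization.AtPrime qq) :=
      IsLocalization.flat _ qq.primeCompl
    exact Module.Flat.trans A₀ (Synt.RelGCIRing A₀ n s H) _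
  haveI hprime : (Q.comap (Algebra.TensorProduct.includeRight (R := A₀)
      (A := p.asIdeal.ResidueField) (B := Synt.RelGCIRing A₀ n s H)).toRingHom).IsPrime :=
    Ideal.comap_isPrime _ _
  have hflat : Module.Flat A₀ (Localization.AtPrime (Q.comap
      (Algebra.TensorProduct.includeRight (R := A₀) (A := p.asIdeal.ResidueField)
        (B := Synt.RelGCIRing A₀ n s H)).toRingHom)) := hflat0 _
  have hCI := isCIOver_localization_of_isLCIOver _ (hsyn.2.2 p) Q
  have hker : RingHom.ker (Ideal.Quotient.mkₐ A₀ (Ideal.span (Set.range H))).toRingHom =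
      Ideal.span (Set.range H) := Ideal.Quotient.mkₐ_ker A₀ _
  obtain ⟨c, f, h, hh, hfI, hmul, hGCI⟩ := exists_relGCI_data_of_flat_of_isCIOver p.asIdeal
    (Ideal.Quotient.mkₐ A₀ (Ideal.span (Set.range H))) (Ideal.Quotient.mkₐ_surjective A₀ _)
    (by rw [hker]; exact Submodule.fg_span (Set.finite_range H)) Q hflat hCI
  rw [hker] at hfI hmul
  refine ⟨c, f, h, ?_, hfI, fun l => hmul _ (Ideal.subset_span ⟨l, rfl⟩), hGCI⟩
  rw [← hQ']
  exact hh

end Groth.Agent.Lib.Helper7.Synt
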