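import Mathlib
import Groth.Agent.Lib.Helper7Synt46
import Groth.Agent.Lib.Helper7Synt41
import Groth.Agent.S9146

/-! # Chart certificates for syntomic presentations (helper7)

* `isRelGCI_map`: relative global complete intersections are stable under base change;
* `map_snocRel`: `snocRel` commutes with change of coefficients;
* `IsChart`, `ChartCert`: explicit certificates that `G[y]/(H)` is syntomic over `G`;
* `IsChart.nonempty_algEquiv`: the localization at a chart is a relative global complete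
  intersection;
* `isSyntomic_of_chartCert`, `chartCert_of_isSyntomic`.
-/

set_option autoImplicit false
set_option linter.style.haveILetI false
universe u
open MvPolynomial TensorProduct
open Groth.Agent.Lib.Helper4.FibDim

namespace Groth.Agent.Lib.Helper7.Synt

section BaseChange

variable {R₀ R₁ : Type u} [CommRing R₀] [CommRing R₁] [Algebra R₀ R₁] {n c : ℕ}
  (F₀ : Fin c → MvPolynomial (Fin n) R₀) (F₁ : Fin c → MvPolynomial (Fin n) R₁)
  (hF : ∀ i, MvPolynomial.map (algebraMap R₀ R₁) (F₀ i) = F₁ i)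

theorem badIdeal_eq_top_of_isRelGCI (J₀ : Ideal (Synt.RelGCIRing R₀ n c F₀))
    (hJ₀ : ∀ q₀ : PrimeSpectrum (Synt.RelGCIRing R₀ n c F₀),
      (c ≤ n ∧ fibLD (PrimeSpectrum.comap (algebraMap R₀ (Synt.RelGCIRing R₀ n c F₀))) q₀ ≤
        ((n - c : ℕ) : WithBot ℕ∞)) ↔ ¬ J₀ ≤ q₀.asIdeal)
    (h : Synt.IsRelGCI R₀ n c F₀) : J₀ = ⊤ := by
  by_contra hne
  obtain ⟨m, hm, hle⟩ := Ideal.exists_le_maximal _ hne
  let q : PrimeSpectrum (Synt.RelGCIRing R₀ n c F₀) := ⟨m, hm.isPrime⟩
  have hbad : ¬ (c ≤ n ∧ fibLD (PrimeSpectrum.comap (algebraMap R₀ (Synt.RelGCIRing R₀ n c F₀)))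
      q ≤ ((n - c : ℕ) : WithBot ℕ∞)) := fun h' => (hJ₀ q).mp h' hle
  apply hbad
  rw [fibLD_comap_relGCIRing R₀ n c F₀ h q]
  refine ⟨?_, le_refl _⟩
  set p := PrimeSpectrum.comap (algebraMap R₀ (Synt.RelGCIRing R₀ n c F₀)) q with hp
  let Q := PrimeSpectrum.preimageHomeomorphFiber R₀ (Synt.RelGCIRing R₀ n c F₀) p ⟨q, rfl⟩
  haveI : p.asIdeal.IsPrime := p.2
  haveI hnt : Nontrivial (p.asIdeal.Fiber (Synt.RelGCIRing R₀ n c F₀)) := by
    haveI : Nonempty (PrimeSpectrum (p.asIdeal.Fiber (Synt.RelGCIRing R₀ n c F₀))) := ⟨Q⟩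
    exact (PrimeSpectrum.nonempty_iff_nontrivial).mp inferInstance
  exact (h p hnt).1

include hF in
/-- relative global complete intersections are stable under arbitrary base change -/
theorem isRelGCI_map (h : Synt.IsRelGCI R₀ n c F₀) : Synt.IsRelGCI R₁ n c F₁ := by
  obtain ⟨J₀, hJ₀⟩ := exists_badIdeal F₀
  have htop := badIdeal_eq_top_of_isRelGCI F₀ J₀ hJ₀ h
  exact isRelGCI_of_map_eq_top F₀ F₁ hF J₀ hJ₀ (by rw [htop, Ideal.map_top])

end BaseChange

section Snoc

variable {G G' : Type*} [CommRing G] [CommRing G'] (φ : G →+* G') {n c : ℕ}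

theorem map_snocRel (f : Fin c → MvPolynomial (Fin n) G) (h : MvPolynomial (Fin n) G)
    (i : Fin (c + 1)) :
    MvPolynomial.map φ (snocRel f h i) =
      snocRel (fun j => MvPolynomial.map φ (f j)) (MvPolynomial.map φ h) i := by
  induction i using Fin.lastCases with
  | last => simp [snocRel, MvPolynomial.map_rename]
  | cast i => simp [snocRel, MvPolynomial.map_rename]

theorem span_range_snocRel (f : Fin c → MvPolynomial (Fin n) G) (h : MvPolynomial (Fin n) G) :
    Ideal.span (Set.range (snocRel f h)) =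
      Ideal.span {rename Fin.castSucc h * X (Fin.last n) - 1} ⊔
        (Ideal.span (Set.range f)).map (rename Fin.castSucc :
          MvPolynomial (Fin n) G →ₐ[G] MvPolynomial (Fin (n + 1)) G) := by
  unfold snocRel
  rw [Fin.range_snoc, Ideal.span_insert, Ideal.map_span, ← Set.range_comp]
  rfl

end Snoc

section Chart

variable {G : Type u} [CommRing G] {n s : ℕ} (H : Fin s → MvPolynomial (Fin n) G)

/-- chart data for the presentation `G[y]/(H)`: `f_i ∈ (H)`, `h (H) ⊆ (f)` and
`G[y, t]/(f, h t - 1)` is a relative global complete intersection. -/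
def IsChart (c : ℕ) (f : Fin c → MvPolynomial (Fin n) G) (h : MvPolynomial (Fin n) G) : Prop :=
  (∀ i, f i ∈ Ideal.span (Set.range H)) ∧ (∀ l, h * H l ∈ Ideal.span (Set.range f)) ∧
    Synt.IsRelGCI G (n + 1) (c + 1) (snocRel f h)

theorem span_snocRel_eq {c : ℕ} {f : Fin c → MvPolynomial (Fin n) G} {h : MvPolynomial (Fin n) G}
    (hc1 : ∀ i, f i ∈ Ideal.span (Set.range H))
    (hc2 : ∀ l, h * H l ∈ Ideal.span (Set.range f)) (h' : MvPolynomial (Fin n) G)
    (hh' : h' - h ∈ Ideal.span (Set.range H)) :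
    Ideal.span (Set.range (snocRel H h')) = Ideal.span (Set.range (snocRel f h)) := by
  rw [span_range_snocRel, span_range_snocRel]
  set ρ : MvPolynomial (Fin n) G →ₐ[G] MvPolynomial (Fin (n + 1)) G := rename Fin.castSucc with hρ
  set t : MvPolynomial (Fin (n + 1)) G := X (Fin.last n) with ht
  set IH := (Ideal.span (Set.range H)).map ρ with hIH
  set If := (Ideal.span (Set.range f)).map ρ with hIf
  have hfH : If ≤ IH := Ideal.map_mono (Ideal.span_le.mpr (by rintro _ ⟨i, rfl⟩; exact hc1 i))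
  have hdiff : (ρ h' * t - 1) - (ρ h * t - 1) ∈ IH := by
    have : (ρ h' * t - 1) - (ρ h * t - 1) = ρ (h' - h) * t := by
      rw [map_sub]; ring
    rw [this]
    exact Ideal.mul_mem_right _ _ (Ideal.mem_map_of_mem _ hh')
  have hIH : IH ≤ Ideal.span {ρ h * t - 1} ⊔ If := by
    rw [hIH, Ideal.map_span, Ideal.span_le]
    rintro _ ⟨_, ⟨l, rfl⟩, rfl⟩
    have : ρ (H l) = t * ρ (h * H l) - (ρ h * t - 1) * ρ (H l) := by
      rw [map_mul]; ring
    show ρ (H l) ∈ _
    rw [this]
    refine Ideal.sub_mem _ (Ideal.mul_mem_left _ _ (Ideal.mem_sup_right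
      (Ideal.mem_map_of_mem _ (hc2 l)))) (Ideal.mul_mem_right _ _ (Ideal.mem_sup_left
        (Ideal.subset_span rfl)))
  apply le_antisymm
  · refine sup_le ?_ hIH
    rw [Ideal.span_le, Set.singleton_subset_iff]
    have : ρ h' * t - 1 = (ρ h * t - 1) + ((ρ h' * t - 1) - (ρ h * t - 1)) := by ring
    show ρ h' * t - 1 ∈ _
    rw [this]
    exact Ideal.add_mem _ (Ideal.mem_sup_left (Ideal.subset_span rfl)) (hIH hdiff)
  · refine sup_le ?_ (hfH.trans le_sup_right)
    rw [Ideal.span_le, Set.singleton_subset_iff]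
    have : ρ h * t - 1 = (ρ h' * t - 1) - ((ρ h' * t - 1) - (ρ h * t - 1)) := by ring
    show ρ h * t - 1 ∈ _
    rw [this]
    exact Ideal.sub_mem _ (Ideal.mem_sup_left (Ideal.subset_span rfl)) (Ideal.mem_sup_right hdiff)

/-- the localization of `G[y]/(H)` at a chart is a relative global complete intersection -/
theorem IsChart.nonempty_algEquiv {c : ℕ} {f : Fin c → MvPolynomial (Fin n) G}
    {h : MvPolynomial (Fin n) G} (hc : IsChart H c f h) :
    Nonempty (Localization.Away (Ideal.Quotient.mk (Ideal.span (Set.range H)) h) ≃ₐ[G]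
      Synt.RelGCIRing G (n + 1) (c + 1) (snocRel f h)) := by
  obtain ⟨h', hh', ⟨ε⟩⟩ := exists_away_equiv H (Ideal.Quotient.mk (Ideal.span (Set.range H)) h)
  have hdiff : h' - h ∈ Ideal.span (Set.range H) := by
    rw [← Ideal.Quotient.eq_zero_iff_mem, map_sub, hh', sub_self]
  exact ⟨ε.trans (Ideal.quotientEquivAlgOfEq G (span_snocRel_eq H hc.1 hc.2.1 h' hdiff))⟩

theorem IsChart.isSyntomic_away {c : ℕ} {f : Fin c → MvPolynomial (Fin n) G}
    {h : MvPolynomial (Fin n) G} (hc : IsChart H c f h) :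
    Synt.IsSyntomic G (Localization.Away (Ideal.Quotient.mk (Ideal.span (Set.range H)) h)) := by
  obtain ⟨ε⟩ := hc.nonempty_algEquiv
  exact isSyntomic_of_algEquiv ε.symm (isSyntomic_relGCIRing _ hc.2.2)

end Chart

section Cert

variable {G : Type u} [CommRing G] {n s : ℕ} (H : Fin s → MvPolynomial (Fin n) G)

/-- a chart certificate: finitely many charts whose `h`'s generate the unit ideal modulo `(H)` -/
def ChartCert : Prop :=
  ∃ (m : ℕ) (c : Fin m → ℕ) (f : ∀ k, Fin (c k) → MvPolynomial (Fin n) G)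
    (h a : Fin m → MvPolynomial (Fin n) G),
    (∀ k, IsChart H (c k) (f k) (h k)) ∧ ∑ k, a k * h k - 1 ∈ Ideal.span (Set.range H)

theorem isSyntomic_of_chartCert (hc : ChartCert H) :
    Synt.IsSyntomic G (Synt.RelGCIRing G n s H) := by
  classical
  obtain ⟨m, c, f, h, a, hch, hcov⟩ := hc
  set mk := Ideal.Quotient.mk (Ideal.span (Set.range H)) with hmk
  refine Groth.Agent.S9146.result G (Synt.RelGCIRing G n s H)
    (Finset.univ.image fun k => mk (h k)) ?_ ?_
  · rw [Ideal.eq_top_iff_one]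
    have h1 : (1 : Synt.RelGCIRing G n s H) = ∑ k, mk (a k) * mk (h k) := by
      have := (Ideal.Quotient.eq_zero_iff_mem (I := Ideal.span (Set.range H))).mpr hcov
      rw [map_sub, map_one, sub_eq_zero, map_sum] at this
      rw [← this]
      simp [hmk, map_mul]
    rw [h1]
    refine Ideal.sum_mem _ fun k _ => Ideal.mul_mem_left _ _ (Ideal.subset_span ?_)
    simp
  · intro g hg
    rw [Finset.mem_image] at hg
    obtain ⟨k, -, rfl⟩ := hg
    exact (hch k).isSyntomic_away

theorem chartCert_of_isSyntomic (hsyn : Synt.IsSyntomic G (Synt.RelGCIRing G n s H)) :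
    ChartCert H := by
  set mk := Ideal.Quotient.mk (Ideal.span (Set.range H)) with hmk
  have hmks : Function.Surjective mk := Ideal.Quotient.mk_surjective
  let T : Set (Synt.RelGCIRing G n s H) :=
    {g | ∃ (c : ℕ) (f : Fin c → MvPolynomial (Fin n) G) (h : MvPolynomial (Fin n) G),
      g = mk h ∧ IsChart H c f h}
  have hT : Ideal.span T = ⊤ := by
    by_contra hne
    obtain ⟨M, hM, hle⟩ := Ideal.exists_le_maximal _ hne
    obtain ⟨c, f, h, hq, h1, h2, h3⟩ := exists_chart_of_isSyntomic H hsyn ⟨M, hM.isPrime⟩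
    exact hq (hle (Ideal.subset_span ⟨c, f, h, rfl, h1, h2, h3⟩))
  obtain ⟨s', hs'T, hs'⟩ := (Ideal.span_eq_top_iff_finite T).mp hT
  have h1 : (1 : Synt.RelGCIRing G n s H) ∈ Ideal.span (s' : Set (Synt.RelGCIRing G n s H)) := by
    rw [hs']; trivial
  obtain ⟨φ, -, hφ⟩ := Submodule.mem_span_finset.mp h1
  let e := s'.equivFin
  have hmem : ∀ k : Fin s'.card, ((e.symm k : s') : Synt.RelGCIRing G n s H) ∈ T :=
    fun k => hs'T (e.symm k).2
  choose c f h hgh hch using hmem
  choose a ha using fun k : Fin s'.card => hmks (φ (e.symm k : s'))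
  refine ⟨s'.card, c, f, h, a, hch, ?_⟩
  rw [← Ideal.Quotient.eq_zero_iff_mem, map_sub, map_one, sub_eq_zero, map_sum, ← hφ,
    ← Finset.sum_coe_sort s', ← Equiv.sum_comp e.symm]
  refine Finset.sum_congr rfl fun k _ => ?_
  rw [map_mul, smul_eq_mul]
  change mk (a k) * mk (h k) = _
  rw [ha k, ← hgh k]

end Cert

end Groth.Agent.Lib.Helper7.Synt
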