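import Mathlib

/-! # The symmetric algebra trick for syntomic algebras, explicit form (helper7)

For `I = (H_1, …, H_s) ⊆ P₀` with `I/I²` projective, a splitting of `(P₀/I)^s → I/I²` gives a matrix
`E` over `P₀`, idempotent modulo `I`, with `E H ≡ H` modulo `I²`.  Then
`C = (P₀/I)[z]/((1 - Ē) z)` (the symmetric algebra of `I/I²`) is smooth over `P₀/I` with a
retraction, and it is `P₀[z]/J` where `J = I P₀[z] + ((1 - E) z)` is generated, up to an element of
`1 + J`, by the `s` elements `g_i = H_i + ((1 - E)² z)_i`.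
-/

set_option autoImplicit false
set_option linter.style.haveILetI false
set_option linter.unusedSectionVars false
universe u
open MvPolynomial

namespace Groth.Agent.Lib.Helper7.Synt

section SymTrick

variable {P₀ : Type u} [CommRing P₀] {s : ℕ} (I : Ideal P₀) (H : Fin s → I)

theorem toCotangent_eq_sum (c : Fin s → P₀) (x : I)
    (hx : ∑ j, c j * (H j : P₀) = x.1) :
    I.toCotangent x = ∑ j, Ideal.Quotient.mk I (c j) • I.toCotangent (H j) := by
  have : x = ∑ j, c j • H j := by
    apply Subtype.ext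
    rw [← hx]
    simp
  rw [this, map_sum]
  refine Finset.sum_congr rfl fun j _ => ?_
  rw [map_smul]
  rfl

theorem exists_split_matrix (hspan : Ideal.span (Set.range fun i => (H i : P₀)) = I)
    [Module.Projective (P₀ ⧸ I) I.Cotangent] :
    ∃ (σ : I.Cotangent →ₗ[P₀ ⧸ I] (Fin s → P₀ ⧸ I)) (E : Matrix (Fin s) (Fin s) P₀),
      (∀ i j, Ideal.Quotient.mk I (E i j) = σ (I.toCotangent (H i)) j) ∧
      (∀ x, ∑ j, σ x j • I.toCotangent (H j) = x) := by
  let π : (Fin s → P₀ ⧸ I) →ₗ[P₀ ⧸ I] I.Cotangent :=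
    Fintype.linearCombination (P₀ ⧸ I) (fun j => I.toCotangent (H j))
  have hπ : Function.Surjective π := by
    intro y
    obtain ⟨x, rfl⟩ := I.toCotangent_surjective y
    have hx : x.1 ∈ Ideal.span (Set.range fun i => (H i : P₀)) := by rw [hspan]; exact x.2
    obtain ⟨c, hc⟩ := (Ideal.mem_span_range_iff_exists_fun).mp hx
    refine ⟨fun j => Ideal.Quotient.mk I (c j), ?_⟩
    rw [toCotangent_eq_sum I H c x hc]
    simp [π, Fintype.linearCombination_apply]
  obtain ⟨σ, hσ⟩ := Module.projective_lifting_property π LinearMap.id hπ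
  choose E hE using fun i j => Ideal.Quotient.mk_surjective (σ (I.toCotangent (H i)) j)
  refine ⟨σ, Matrix.of E, fun i j => hE i j, fun x => ?_⟩
  have := LinearMap.congr_fun hσ x
  simpa [π, Fintype.linearCombination_apply] using this

/-- consequence (a): `E H ≡ H` modulo `I²`. -/
theorem split_matrix_a
    (σ : I.Cotangent →ₗ[P₀ ⧸ I] (Fin s → P₀ ⧸ I)) (E : Matrix (Fin s) (Fin s) P₀)
    (h1 : ∀ i j, Ideal.Quotient.mk I (E i j) = σ (I.toCotangent (H i)) j)
    (h2 : ∀ x, ∑ j, σ x j • I.toCotangent (H j) = x) (i : Fin s) :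
    ∑ j, E i j * (H j : P₀) - H i ∈ I ^ 2 := by
  have hmem : ∑ j, E i j * (H j : P₀) ∈ I :=
    Ideal.sum_mem _ fun j _ => Ideal.mul_mem_left _ _ (H j).2
  have key : I.toCotangent (⟨∑ j, E i j * (H j : P₀), hmem⟩ - H i) = 0 := by
    rw [map_sub, toCotangent_eq_sum I H (fun j => E i j) ⟨_, hmem⟩ rfl, sub_eq_zero]
    simp only [h1]
    exact h2 _
  exact (Ideal.toCotangent_eq_zero _ _).mp key

/-- consequence (b): `E² ≡ E` modulo `I`. -/
theorem split_matrix_b
    (σ : I.Cotangent →ₗ[P₀ ⧸ I] (Fin s → P₀ ⧸ I)) (E : Matrix (Fin s) (Fin s) P₀)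
    (h1 : ∀ i j, Ideal.Quotient.mk I (E i j) = σ (I.toCotangent (H i)) j)
    (h2 : ∀ x, ∑ j, σ x j • I.toCotangent (H j) = x) (i l : Fin s) :
    ∑ j, E i j * E j l - E i l ∈ I := by
  rw [← Ideal.Quotient.eq_zero_iff_mem, map_sub, map_sum, sub_eq_zero]
  simp only [map_mul, h1]
  have := congrArg (fun v => σ v l) (h2 (I.toCotangent (H i)))
  simp only [map_sum, map_smul, Finset.sum_apply, Pi.smul_apply, smul_eq_mul] at this
  exact this

end SymTrick


section SymRing

variable {A : Type u} [CommRing A] {s : ℕ} (e : Matrix (Fin s) (Fin s) A)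

/-- the linear forms `((1 - E) z)_i`. -/
noncomputable def symLin (i : Fin s) : MvPolynomial (Fin s) A :=
  X i - ∑ j, C (e i j) * X j

/-- `A[z]/((1 - e) z)`, the symmetric algebra of the image of the idempotent `e`. -/
abbrev SymRing : Type u := MvPolynomial (Fin s) A ⧸ Ideal.span (Set.range (symLin e))

variable {e}

/-- the section `z ↦ e z`. -/
noncomputable def symSection (he : ∀ i l, ∑ j, e i j * e j l = e i l) :
    SymRing e →ₐ[A] MvPolynomial (Fin s) A :=
  Ideal.Quotient.liftₐ _ (aeval fun i => ∑ j, C (e i j) * X j) (by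
    intro a ha
    have hle : Ideal.span (Set.range (symLin e)) ≤
        RingHom.ker (aeval (R := A) fun i => ∑ j, C (e i j) * (X j : MvPolynomial (Fin s) A)).toRingHom := by
      rw [Ideal.span_le]
      rintro _ ⟨i, rfl⟩
      show aeval _ (symLin e i) = 0
      unfold symLin
      simp only [map_sub, aeval_X, map_sum, map_mul, aeval_C, algebraMap_eq]
      rw [sub_eq_zero]
      simp only [Finset.mul_sum]
      rw [Finset.sum_comm]
      refine Finset.sum_congr rfl fun l _ => ?_
      rw [← he i l, map_sum, Finset.sum_mul]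
      refine Finset.sum_congr rfl fun j _ => ?_
      rw [map_mul]
      ring
    exact hle ha)

theorem mk_symLin_eq (i : Fin s) :
    (Ideal.Quotient.mk (Ideal.span (Set.range (symLin e))) (X i) : SymRing e) =
      Ideal.Quotient.mk _ (∑ j, C (e i j) * X j) := by
  rw [Ideal.Quotient.eq]
  exact Ideal.subset_span ⟨i, rfl⟩

theorem formallySmooth_symRing (he : ∀ i l, ∑ j, e i j * e j l = e i l) :
    Algebra.FormallySmooth A (SymRing e) := by
  let f : MvPolynomial (Fin s) A →ₐ[A] SymRing e := Ideal.Quotient.mkₐ A _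
  refine Algebra.FormallySmooth.of_split f
    ((Ideal.Quotient.mkₐ A (RingHom.ker f.toRingHom ^ 2)).comp (symSection he)) ?_
  apply Ideal.Quotient.algHom_ext
  apply MvPolynomial.algHom_ext
  intro i
  show f.kerSquareLift (Ideal.Quotient.mk _ (symSection he (Ideal.Quotient.mk _ (X i)))) = _
  have h1 : symSection he (Ideal.Quotient.mk _ (X i)) = ∑ j, C (e i j) * X j := by
    show aeval _ (X i) = _
    rw [aeval_X]
  rw [h1]
  show f (∑ j, C (e i j) * X j) = _
  exact (mk_symLin_eq i).symm

instance finitePresentation_symRing : Algebra.FinitePresentation A (SymRing e) :=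
  Algebra.FinitePresentation.quotient (Submodule.fg_span (Set.finite_range _))

theorem smooth_symRing (he : ∀ i l, ∑ j, e i j * e j l = e i l) : Algebra.Smooth A (SymRing e) :=
  { formallySmooth := formallySmooth_symRing he
    finitePresentation := inferInstance }

/-- the retraction `z ↦ 0`. -/
noncomputable def symRetraction : SymRing e →ₐ[A] A :=
  Ideal.Quotient.liftₐ _ (aeval fun _ => 0) (by
    intro a ha
    have hle : Ideal.span (Set.range (symLin e)) ≤
        RingHom.ker (aeval (R := A) (fun _ : Fin s => (0 : A))).toRingHom := by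
      rw [Ideal.span_le]
      rintro _ ⟨i, rfl⟩
      show aeval _ (symLin e i) = 0
      unfold symLin
      simp
    exact hle ha)

end SymRing


section SymTrickB

variable {P₀ : Type u} [CommRing P₀] {s : ℕ} (I : Ideal P₀) (H : Fin s → P₀)
  (E : Matrix (Fin s) (Fin s) P₀)

/-- the ideal `J = I P₀[z] + ((1 - E) z)`. -/
noncomputable def symIdeal : Ideal (MvPolynomial (Fin s) P₀) :=
  I.map C ⊔ Ideal.span (Set.range (symLin E))

/-- the generators `g_i = H_i + ((1 - E)² z)_i` of `J` modulo `J²`. -/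
noncomputable def symGen (i : Fin s) : MvPolynomial (Fin s) P₀ :=
  C (H i) + symLin E i - ∑ j, C (E i j) * symLin E j

variable {I H E}

theorem C_mem_symIdeal {a : P₀} (ha : a ∈ I) : C a ∈ symIdeal I E :=
  Ideal.mem_sup_left (Ideal.mem_map_of_mem _ ha)

theorem symLin_mem_symIdeal (i : Fin s) : symLin E i ∈ symIdeal I E :=
  Ideal.mem_sup_right (Ideal.subset_span ⟨i, rfl⟩)

theorem symGen_mem_symIdeal (hH : ∀ i, H i ∈ I) (i : Fin s) : symGen H E i ∈ symIdeal I E := by
  unfold symGen
  refine Ideal.sub_mem _ (Ideal.add_mem _ (C_mem_symIdeal (hH i)) (symLin_mem_symIdeal i)) ?_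
  exact Ideal.sum_mem _ fun j _ => Ideal.mul_mem_left _ _ (symLin_mem_symIdeal j)

/-- `E ℓ = -D z` where `D = E² - E`. -/
theorem sum_C_mul_symLin (i : Fin s) :
    ∑ j, C (E i j) * symLin E j =
      -∑ l, C (∑ j, E i j * E j l - E i l) * (X l : MvPolynomial (Fin s) P₀) := by
  unfold symLin
  simp only [mul_sub, Finset.sum_sub_distrib, Finset.mul_sum, map_sub, map_sum, map_mul, sub_mul,
    Finset.sum_mul, neg_sub]
  congr 1
  rw [Finset.sum_comm]
  refine Finset.sum_congr rfl fun l _ => Finset.sum_congr rfl fun j _ => ?_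
  ring

theorem C_mem_mul_of_mem_sq {a : P₀} (ha : a ∈ I ^ 2) : C a ∈ symIdeal I E * symIdeal I E := by
  have h1 : (C a : MvPolynomial (Fin s) P₀) ∈ (I ^ 2).map C := Ideal.mem_map_of_mem _ ha
  rw [pow_two, Ideal.map_mul] at h1
  exact Ideal.mul_mono le_sup_left le_sup_left h1

theorem symIdeal_le (hIH : I = Ideal.span (Set.range H))
    (ha : ∀ i, ∑ j, E i j * H j - H i ∈ I ^ 2)
    (hb : ∀ i l, ∑ j, E i j * E j l - E i l ∈ I) :
    symIdeal I E ≤ Ideal.span (Set.range (symGen H E)) ⊔ symIdeal I E * symIdeal I E := by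
  set K := Ideal.span (Set.range (symGen H E)) ⊔ symIdeal I E * symIdeal I E with hK
  have hg : ∀ i, symGen H E i ∈ K := fun i => Ideal.mem_sup_left (Ideal.subset_span ⟨i, rfl⟩)
  -- (i)
  have h1 : ∀ k, (C (H k) : MvPolynomial (Fin s) P₀) ∈ K := by
    intro k
    have key : (C (H k) : MvPolynomial (Fin s) P₀) = ∑ i, C (E k i) * symGen H E i
        - C (∑ j, E k j * H j - H k)
        + ∑ j, C (∑ i, E k i * E i j - E k j) * symLin E j := by
      unfold symGen
      simp only [mul_sub, mul_add, Finset.sum_sub_distrib, Finset.sum_add_distrib, Finset.mul_sum,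
        map_sub, map_sum, map_mul, sub_mul, Finset.sum_mul]
      rw [Finset.sum_comm (f := fun x y => C (E k x) * (C (E x y) * symLin E y))]
      have : ∀ x, ∑ y, C (E k y) * (C (E y x) * symLin E x) =
          ∑ y, C (E k y) * C (E y x) * symLin E x :=
        fun x => Finset.sum_congr rfl fun y _ => by ring
      simp only [this]
      ring
    rw [key]
    refine Ideal.add_mem _ (Ideal.sub_mem _ ?_ ?_) ?_
    · exact Ideal.sum_mem _ fun i _ => Ideal.mul_mem_left _ _ (hg i)
    · exact Ideal.mem_sup_right (C_mem_mul_of_mem_sq (ha k))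
    · exact Ideal.sum_mem _ fun j _ => Ideal.mem_sup_right
        (Ideal.mul_mem_mul (C_mem_symIdeal (hb k j)) (symLin_mem_symIdeal j))
  have h2 : I.map (C : P₀ →+* MvPolynomial (Fin s) P₀) ≤ K := by
    rw [hIH, Ideal.map_span, Ideal.span_le]
    rintro _ ⟨_, ⟨k, rfl⟩, rfl⟩
    exact h1 k
  -- (ii)
  have h3 : ∀ i, symLin E i ∈ K := by
    intro i
    have key : symLin E i = symGen H E i - C (H i) + ∑ j, C (E i j) * symLin E j := by
      unfold symGen
      ring
    rw [key, sum_C_mul_symLin]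
    refine Ideal.add_mem _ (Ideal.sub_mem _ (hg i) (h1 i)) (Ideal.neg_mem_iff _ |>.mpr ?_)
    exact Ideal.sum_mem _ fun l _ => Ideal.mul_mem_right _ _
      (h2 (Ideal.mem_map_of_mem _ (hb i l)))
  refine sup_le h2 ?_
  rw [Ideal.span_le]
  rintro _ ⟨i, rfl⟩
  exact h3 i

theorem exists_symUnit (hIH : I = Ideal.span (Set.range H))
    (ha : ∀ i, ∑ j, E i j * H j - H i ∈ I ^ 2)
    (hb : ∀ i l, ∑ j, E i j * E j l - E i l ∈ I) :
    ∃ r : MvPolynomial (Fin s) P₀, r - 1 ∈ symIdeal I E ∧
      ∀ a ∈ symIdeal I E, r * a ∈ Ideal.span (Set.range (symGen H E)) := by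
  have hfg : (symIdeal I E).FG := by
    refine Submodule.FG.sup ?_ (Submodule.fg_span (Set.finite_range _))
    rw [hIH, Ideal.map_span]
    exact Submodule.fg_span ((Set.finite_range _).image _)
  obtain ⟨r, hr1, hr2⟩ := Submodule.exists_sub_one_mem_and_smul_le_of_fg_of_le_sup
    (I := symIdeal I E) (N := Ideal.span (Set.range (symGen H E))) (N' := symIdeal I E)
    (P := symIdeal I E) hfg le_rfl (by
      rw [Ideal.smul_eq_mul]
      exact symIdeal_le hIH ha hb)
  refine ⟨r, hr1, fun a ha' => hr2 ?_⟩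
  exact Submodule.smul_mem_pointwise_smul a r _ ha'

end SymTrickB


section Pres

variable {R P₀ : Type u} [CommRing R] [CommRing P₀] [Algebra R P₀] {s : ℕ} (I : Ideal P₀)
  (E : Matrix (Fin s) (Fin s) P₀)

/-- the presentation `P₀[z] → (P₀/I)[z]/((1 - Ē) z)`. -/
noncomputable def symPres :
    MvPolynomial (Fin s) P₀ →ₐ[R] SymRing (E.map (Ideal.Quotient.mk I)) :=
  (Ideal.Quotient.mkₐ R _).comp (MvPolynomial.mapAlgHom (Ideal.Quotient.mkₐ R I))

theorem symPres_apply (p : MvPolynomial (Fin s) P₀) :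
    symPres (R := R) I E p = Ideal.Quotient.mk _ (MvPolynomial.map (Ideal.Quotient.mk I) p) := rfl

theorem symPres_surjective : Function.Surjective (symPres (R := R) I E) := by
  intro x
  obtain ⟨q, rfl⟩ := Ideal.Quotient.mk_surjective x
  obtain ⟨p, rfl⟩ := MvPolynomial.map_surjective (σ := Fin s) _ Ideal.Quotient.mk_surjective q
  exact ⟨p, rfl⟩

theorem map_symLin (i : Fin s) :
    MvPolynomial.map (Ideal.Quotient.mk I) (symLin E i) = symLin (E.map (Ideal.Quotient.mk I)) i := by
  unfold symLin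
  simp

theorem ker_symPres : RingHom.ker (symPres (R := R) I E).toRingHom = symIdeal I E := by
  have h1 : RingHom.ker (symPres (R := R) I E).toRingHom =
      (Ideal.span (Set.range (symLin (E.map (Ideal.Quotient.mk I))))).comap
        (MvPolynomial.map (Ideal.Quotient.mk I)) := by
    ext p
    rw [RingHom.mem_ker, Ideal.mem_comap]
    show symPres (R := R) I E p = 0 ↔ _
    rw [symPres_apply, Ideal.Quotient.eq_zero_iff_mem]
  have h2 : Ideal.span (Set.range (symLin (E.map (Ideal.Quotient.mk I)))) =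
      (Ideal.span (Set.range (symLin E))).map (MvPolynomial.map (Ideal.Quotient.mk I)) := by
    rw [Ideal.map_span, ← Set.range_comp]
    congr 2
    funext i
    exact (map_symLin I E i).symm
  rw [h1, h2, Ideal.comap_map_of_surjective (MvPolynomial.map (Ideal.Quotient.mk I))
    (MvPolynomial.map_surjective _ Ideal.Quotient.mk_surjective), ← RingHom.ker_eq_comap_bot,
    MvPolynomial.ker_map, Ideal.mk_ker, symIdeal, sup_comm]

end Pres


end Groth.Agent.Lib.Helper7.Synt
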