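import Mathlib
import Groth.Agent.Lib.Helper7Synt47
import Groth.Agent.Lib.Helper7Synt26
import Groth.Agent.Lib.Helper7Synt53
import Groth.Agent.Lib.Helper3CompDim
import Groth.Agent.Lib.Helper4FibDimE

/-! # Tools for the smooth retract of a syntomic algebra (helper7)

* `nonempty_algEquiv_snocRel_of_presentation`: `S ≅ R[y, t]/(G, h t - 1)` if `Φ : R[y] → S` is onto,
  `G ⊆ ker Φ`, `Φ h = 1`, `h ker Φ ⊆ (G)`;
* `exists_isRelGCI_snocRel_of_presentation`: it is a relative global complete intersection if the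
  local fibre dimensions of `S` are `≤ N - c`;
* `fibLD_comap_comp_le`: `dim_x X_s ≤ dim_x X_y + dim_y Y_s` for rings;
* `fibLD_le_of_generated`: fibre dimension `≤ c` where the algebra is generated by `c` elements;
* `IsChart.fibLD_eq`: fibre dimension on a chart;
* `exists_generators_symRing`: the symmetric algebra of `I/I²` is generated by `c` elements where
  `I` is.
-/

set_option autoImplicit false
set_option linter.style.haveILetI false
set_option linter.unusedSectionVars false
universe u
open MvPolynomial Groth.Agent.Lib.Helper4.FibDim TensorProduct AlgebraicGeometry CategoryTheory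

namespace Groth.Agent.Lib.Helper7.Synt

section PL

variable {R : Type u} [CommRing R] {S : Type u} [CommRing S] [Algebra R S] {N c : ℕ}

/-- presentation lemma: if `Φ : R[y] → S` is surjective, `G_i ∈ ker Φ`, `Φ h = 1` and
`h ker Φ ⊆ (G)`, then `S ≅ R[y, t]/(G, h t - 1)`. -/
theorem nonempty_algEquiv_snocRel_of_presentation
    (Φ : MvPolynomial (Fin N) R →ₐ[R] S) (hΦ : Function.Surjective Φ)
    (G : Fin c → MvPolynomial (Fin N) R) (hG : ∀ i, Φ (G i) = 0)
    (h : MvPolynomial (Fin N) R) (h1 : Φ h = 1)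
    (h2 : ∀ a, Φ a = 0 → h * a ∈ Ideal.span (Set.range G)) :
    Nonempty (S ≃ₐ[R] Synt.RelGCIRing R (N + 1) (c + 1) (snocRel G h)) := by
  set K := Ideal.span (Set.range (snocRel G h)) with hK
  let ρ : MvPolynomial (Fin N) R →ₐ[R] MvPolynomial (Fin (N + 1)) R := rename Fin.castSucc
  have hKeq := span_range_snocRel G h
  -- `ρ h` is a unit modulo `K`
  have hunit : Ideal.Quotient.mk K (ρ h) * Ideal.Quotient.mk K (X (Fin.last N)) = 1 := by
    rw [← map_mul, ← map_one (Ideal.Quotient.mk K), Ideal.Quotient.eq, hK, hKeq]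
    exact Ideal.mem_sup_left (Ideal.subset_span rfl)
  have hGK : ∀ b ∈ Ideal.span (Set.range G), Ideal.Quotient.mk K (ρ b) = 0 := by
    intro b hb
    rw [Ideal.Quotient.eq_zero_iff_mem, hK, hKeq]
    exact Ideal.mem_sup_right (Ideal.mem_map_of_mem _ hb)
  have hker : ∀ a, Φ a = 0 → Ideal.Quotient.mk K (ρ a) = 0 := by
    intro a ha
    have h3 := hGK _ (h2 a ha)
    rw [map_mul, map_mul] at h3
    calc Ideal.Quotient.mk K (ρ a)
        = (Ideal.Quotient.mk K (ρ h) * Ideal.Quotient.mk K (X (Fin.last N))) *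
            Ideal.Quotient.mk K (ρ a) := by rw [hunit, one_mul]
      _ = Ideal.Quotient.mk K (X (Fin.last N)) *
            (Ideal.Quotient.mk K (ρ h) * Ideal.Quotient.mk K (ρ a)) := by ring
      _ = 0 := by rw [h3, mul_zero]
  -- `t = 1` modulo `K`
  have hh1 : Ideal.Quotient.mk K (ρ h) = 1 := by
    have : Φ (h - 1) = 0 := by rw [map_sub, h1, map_one, sub_self]
    have h3 := hker _ this
    rw [map_sub, map_sub, map_one, map_one, sub_eq_zero] at h3
    exact h3
  have ht1 : Ideal.Quotient.mk K (X (Fin.last N)) = 1 := by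
    rw [hh1, one_mul] at hunit
    exact hunit
  -- forward map
  let α₀ : MvPolynomial (Fin (N + 1)) R →ₐ[R] S :=
    aeval (Fin.snoc (fun i => Φ (X i)) (1 : S) : Fin (N + 1) → S)
  have hα₀ρ : ∀ p, α₀ (ρ p) = Φ p := by
    intro p
    show aeval _ (rename Fin.castSucc p) = _
    rw [aeval_rename]
    have : (Fin.snoc (fun i => Φ (X i)) (1 : S) : Fin (N + 1) → S) ∘ Fin.castSucc =
        fun i => Φ (X i) := by
      funext i
      simp
    rw [this]
    have h4 : (aeval fun i => Φ (X i)) = Φ := by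
      apply MvPolynomial.algHom_ext
      intro i
      rw [aeval_X]
    rw [h4]
  have hα₀t : α₀ (X (Fin.last N)) = 1 := by
    show aeval _ (X (Fin.last N)) = _
    rw [aeval_X]
    simp
  have hα₀K : ∀ a ∈ K, α₀ a = 0 := by
    intro a ha
    have hle : K ≤ RingHom.ker α₀.toRingHom := by
      rw [hK, Ideal.span_le]
      rintro _ ⟨i, rfl⟩
      show α₀ _ = 0
      induction i using Fin.lastCases with
      | last =>
        simp only [snocRel, Fin.snoc_last]
        rw [map_sub, map_mul, map_one, hα₀t, mul_one]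
        show α₀ (ρ h) - 1 = 0
        rw [hα₀ρ, h1, sub_self]
      | cast i =>
        simp only [snocRel, Fin.snoc_castSucc]
        show α₀ (ρ (G i)) = 0
        rw [hα₀ρ, hG]
    exact hle ha
  let α : Synt.RelGCIRing R (N + 1) (c + 1) (snocRel G h) →ₐ[R] S :=
    Ideal.Quotient.liftₐ K α₀ hα₀K
  -- backward map
  let e₀ : (MvPolynomial (Fin N) R ⧸ RingHom.ker Φ.toRingHom) ≃ₐ[R] S :=
    Ideal.quotientKerAlgEquivOfSurjective hΦ
  let β₀ : (MvPolynomial (Fin N) R ⧸ RingHom.ker Φ.toRingHom) →ₐ[R]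
      Synt.RelGCIRing R (N + 1) (c + 1) (snocRel G h) :=
    Ideal.Quotient.liftₐ _ ((Ideal.Quotient.mkₐ R K).comp ρ) (fun a ha => hker a ha)
  let β : S →ₐ[R] Synt.RelGCIRing R (N + 1) (c + 1) (snocRel G h) :=
    β₀.comp e₀.symm.toAlgHom
  have hβΦ : ∀ p, β (Φ p) = Ideal.Quotient.mk K (ρ p) := by
    intro p
    have : e₀.symm (Φ p) = Ideal.Quotient.mk _ p := by
      rw [AlgEquiv.symm_apply_eq]
      rfl
    show β₀ (e₀.symm (Φ p)) = _
    rw [this]
    rfl
  refine ⟨AlgEquiv.ofAlgHom β α ?_ ?_⟩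
  · -- β ∘ α = id
    apply Ideal.Quotient.algHom_ext
    apply MvPolynomial.algHom_ext
    intro i
    show β (α₀ (X i)) = Ideal.Quotient.mk K (X i)
    induction i using Fin.lastCases with
    | last => rw [hα₀t, map_one, ht1]
    | cast i =>
      have : (X (Fin.castSucc i) : MvPolynomial (Fin (N + 1)) R) = ρ (X i) := by
        show _ = rename Fin.castSucc (X i)
        rw [rename_X]
      rw [this, hα₀ρ, hβΦ]
  · -- α ∘ β = id
    apply AlgHom.ext
    intro x
    obtain ⟨p, rfl⟩ := hΦ x
    show α (β (Φ p)) = Φ p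
    rw [hβΦ]
    show α₀ (ρ p) = Φ p
    exact hα₀ρ p

end PL


section PL2

variable {R : Type u} [CommRing R] {S : Type u} [CommRing S] [Algebra R S] {N c : ℕ}

/-- if moreover all local fibre dimensions of `S` over `R` are `≤ N - c`, the presentation
`R[y, t]/(G, h' t - 1)` (for a suitable `h' ≡ h`) is a relative global complete intersection. -/
theorem exists_isRelGCI_snocRel_of_presentation
    (Φ : MvPolynomial (Fin N) R →ₐ[R] S) (hΦ : Function.Surjective Φ)
    (G : Fin c → MvPolynomial (Fin N) R) (hG : ∀ i, Φ (G i) = 0)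
    (h : MvPolynomial (Fin N) R) (h1 : Φ h = 1)
    (h2 : ∀ a, Φ a = 0 → h * a ∈ Ideal.span (Set.range G)) (hcN : c ≤ N)
    (hfib : ∀ Q : PrimeSpectrum S, fibLD (PrimeSpectrum.comap (algebraMap R S)) Q ≤
      ((N - c : ℕ) : WithBot ℕ∞)) :
    ∃ h' : MvPolynomial (Fin N) R, Φ h' = 1 ∧
      (∀ a, Φ a = 0 → h' * a ∈ Ideal.span (Set.range G)) ∧
      Synt.IsRelGCI R (N + 1) (c + 1) (snocRel G h') := by
  set K := Ideal.span (Set.range G) with hK
  obtain ⟨h', hh', ⟨e⟩⟩ := exists_away_equiv G (Ideal.Quotient.mk K h)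
  have hdiff : h' - h ∈ K := by
    rw [← Ideal.Quotient.eq_zero_iff_mem, map_sub, hh', sub_self]
  have hKker : ∀ b ∈ K, Φ b = 0 := by
    intro b hb
    have hle : K ≤ RingHom.ker Φ.toRingHom := by
      rw [hK, Ideal.span_le]
      rintro _ ⟨i, rfl⟩
      exact hG i
    exact hle hb
  have h1' : Φ h' = 1 := by
    have := hKker _ hdiff
    rw [map_sub, h1, sub_eq_zero] at this
    exact this
  have h2' : ∀ a, Φ a = 0 → h' * a ∈ K := by
    intro a ha
    have : h' * a = h * a + (h' - h) * a := by ring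
    rw [this]
    exact K.add_mem (h2 a ha) (K.mul_mem_right _ hdiff)
  refine ⟨h', h1', h2', ?_⟩
  apply isRelGCI_snocRel_of_fibLD_le G (Ideal.Quotient.mk K h) h' e
  intro q hq
  refine ⟨hcN, ?_⟩
  -- the closed immersion `Spec S → Spec R[y]/(G)`, open onto `D(h)`
  let ψ : Synt.RelGCIRing R N c G →ₐ[R] S := Ideal.Quotient.liftₐ K Φ hKker
  have hψsurj : Function.Surjective ψ := by
    intro x
    obtain ⟨p, rfl⟩ := hΦ x
    exact ⟨Ideal.Quotient.mk K p, rfl⟩
  have hψmk : ∀ p, ψ (Ideal.Quotient.mk K p) = Φ p := fun p => rfl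
  have hrange : Set.range (PrimeSpectrum.comap ψ.toRingHom) =
      (PrimeSpectrum.basicOpen (Ideal.Quotient.mk K h) : Set (PrimeSpectrum _)) := by
    rw [range_comap_of_surjective _ _ hψsurj]
    ext q₁
    simp only [PrimeSpectrum.mem_zeroLocus, SetLike.mem_coe, PrimeSpectrum.mem_basicOpen]
    constructor
    · intro hle hmem
      have : (Ideal.Quotient.mk K h - 1) ∈ q₁.asIdeal := by
        apply hle
        show ψ (Ideal.Quotient.mk K h - 1) = 0
        rw [map_sub, hψmk, h1, map_one, sub_self]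
      have h3 : (1 : Synt.RelGCIRing R N c G) ∈ q₁.asIdeal := by
        have := q₁.asIdeal.sub_mem hmem this
        simpa using this
      exact q₁.2.ne_top ((Ideal.eq_top_iff_one _).mpr h3)
    · intro hnot x hx
      obtain ⟨a, rfl⟩ := Ideal.Quotient.mk_surjective x
      have ha : Φ a = 0 := hx
      have h3 : Ideal.Quotient.mk K h * Ideal.Quotient.mk K a = 0 := by
        rw [← map_mul, Ideal.Quotient.eq_zero_iff_mem]
        exact h2 a ha
      have h4 : Ideal.Quotient.mk K h * Ideal.Quotient.mk K a ∈ q₁.asIdeal := by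
        rw [h3]; exact q₁.asIdeal.zero_mem
      exact (q₁.2.mem_or_mem h4).resolve_left hnot
  have hemb : Topology.IsOpenEmbedding (PrimeSpectrum.comap ψ.toRingHom) :=
    ⟨(PrimeSpectrum.isClosedEmbedding_comap_of_surjective _ _ hψsurj).isEmbedding, by
      rw [hrange]; exact (PrimeSpectrum.basicOpen _).isOpen⟩
  have hq' : q ∈ Set.range (PrimeSpectrum.comap ψ.toRingHom) := by
    rw [hrange]; exact hq
  obtain ⟨Q, rfl⟩ := hq'
  have hcomp : PrimeSpectrum.comap (algebraMap R S) =
      PrimeSpectrum.comap (algebraMap R (Synt.RelGCIRing R N c G)) ∘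
        PrimeSpectrum.comap ψ.toRingHom := by
    have : algebraMap R S = ψ.toRingHom.comp (algebraMap R (Synt.RelGCIRing R N c G)) := by
      ext r
      exact (ψ.commutes r).symm
    rw [this]
    rfl
  rw [← fibLD_comp_isOpenEmbedding _ _ hemb, ← hcomp]
  exact hfib Q

end PL2


section Comp

variable (R S T : Type u) [CommRing R] [CommRing S] [CommRing T] [Algebra R S] [Algebra S T]
  [Algebra R T] [IsScalarTower R S T] [Algebra.FiniteType R S] [Algebra.FiniteType S T]

/-- ring-level form of `dim_x X_s ≤ dim_x X_y + dim_y Y_s`. -/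
theorem fibLD_comap_comp_le (Q : PrimeSpectrum T) :
    fibLD (PrimeSpectrum.comap (algebraMap R T)) Q ≤
      fibLD (PrimeSpectrum.comap (algebraMap S T)) Q +
        fibLD (PrimeSpectrum.comap (algebraMap R S)) (PrimeSpectrum.comap (algebraMap S T) Q) := by
  let f : Spec (CommRingCat.of T) ⟶ Spec (CommRingCat.of S) :=
    Spec.map (CommRingCat.ofHom (algebraMap S T))
  let g : Spec (CommRingCat.of S) ⟶ Spec (CommRingCat.of R) :=
    Spec.map (CommRingCat.ofHom (algebraMap R S))
  haveI : LocallyOfFiniteType f := by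
    rw [HasRingHomProperty.Spec_iff (P := @LocallyOfFiniteType)]
    exact RingHom.finiteType_algebraMap.mpr inferInstance
  haveI : LocallyOfFiniteType g := by
    rw [HasRingHomProperty.Spec_iff (P := @LocallyOfFiniteType)]
    exact RingHom.finiteType_algebraMap.mpr inferInstance
  let x : Spec (CommRingCat.of T) := Q
  have key := (Groth.Agent.Lib.Helper3.CompDim.fibreDimAt_comp f g x).1
  have hfg : f ≫ g = Spec.map (CommRingCat.ofHom (algebraMap R T)) := by
    rw [← Spec.map_comp, ← CommRingCat.ofHom_comp, ← IsScalarTower.algebraMap_eq]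
  rw [hfg, fibreDimAt_eq_fibLD, fibreDimAt_eq_fibLD, fibreDimAt_eq_fibLD] at key
  exact key

end Comp


section Gen

variable {A T : Type u} [CommRing A] [CommRing T] [Algebra A T]

/-- if `T_a` is generated over `A_a` by `c` elements then the fibres of `Spec T → Spec A` have local
dimension `≤ c` on `D(a)`. -/
theorem fibLD_le_of_generated (Q : PrimeSpectrum T) (c : ℕ) (a : A)
    (ha : algebraMap A T a ∉ Q.asIdeal) (w : Fin c → T)
    (hw : ∀ t : T, ∃ k : ℕ, algebraMap A T a ^ k * t ∈ Algebra.adjoin A (Set.range w)) :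
    fibLD (PrimeSpectrum.comap (algebraMap A T)) Q ≤ (c : WithBot ℕ∞) := by
  rw [fibLD_comap_eq]
  set g : T := algebraMap A T a with hg
  let W := MvPolynomial (Fin c) A
  let φ : W →ₐ[A] Localization.Away g :=
    (IsScalarTower.toAlgHom A T (Localization.Away g)).comp (aeval w)
  have hφ : φ.toRingHom.QuasiFinite := by
    letI : Algebra W (Localization.Away g) := φ.toRingHom.toAlgebra
    show Algebra.QuasiFinite W (Localization.Away g)
    haveI : Algebra.QuasiFinite W W := inferInstance
    refine Algebra.QuasiFinite.of_forall_exists_mul_mem_range (R := W) (S := W)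
      (Algebra.ofId W (Localization.Away g)) ?_
    intro x
    obtain ⟨t, y, rfl⟩ := IsLocalization.exists_mk'_eq (Submonoid.powers g) x
    obtain ⟨k, hk⟩ := y.2
    obtain ⟨k', hk'⟩ := hw t
    have hrange : Algebra.adjoin A (Set.range w) = (aeval w : W →ₐ[A] T).range :=
      Algebra.adjoin_range_eq_range_aeval A w
    rw [hrange] at hk'
    obtain ⟨P, hP⟩ := hk'
    have hP' : aeval w P = g ^ k' * t := hP
    have h2 : φ ((C a : W) ^ (k + k')) = (algebraMap T (Localization.Away g) g) ^ (k + k') := by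
      rw [map_pow]
      congr 1
      show algebraMap T (Localization.Away g) (aeval w (C a)) = _
      rw [aeval_C]
    refine ⟨(C a : W) ^ (k + k'), ?_, P, ?_⟩
    · show IsUnit (φ ((C a : W) ^ (k + k')))
      rw [h2]
      exact (IsLocalization.Away.algebraMap_isUnit g).pow _
    · show φ P = _ * φ ((C a : W) ^ (k + k'))
      have h1 : φ P = algebraMap T (Localization.Away g) (g ^ k' * t) := by
        show algebraMap T (Localization.Away g) (aeval w P) = _
        rw [hP']
      rw [h1, h2, map_mul, map_pow, pow_add]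
      have h3 : IsLocalization.mk' (Localization.Away g) t y *
          (algebraMap T (Localization.Away g) g) ^ k = algebraMap T (Localization.Away g) t := by
        rw [← map_pow]
        have : g ^ k = (y : T) := hk
        rw [this]
        exact IsLocalization.mk'_spec _ _ _
      calc (algebraMap T (Localization.Away g) g) ^ k' * algebraMap T (Localization.Away g) t
          = (algebraMap T (Localization.Away g) g) ^ k' *
            (IsLocalization.mk' (Localization.Away g) t y *
              (algebraMap T (Localization.Away g) g) ^ k) := by rw [h3]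
        _ = _ := by ring
  apply localDim_fiber_le_of_quasiFinite_away c g φ hφ
  have h1 := comap_includeRight_preimageHomeomorphFiber
    (PrimeSpectrum.comap (algebraMap A T) Q).asIdeal ⟨Q, rfl⟩
  intro h2
  apply ha
  have h3 : g ∈ (PrimeSpectrum.comap Algebra.TensorProduct.includeRight.toRingHom
      ((PrimeSpectrum.preimageHomeomorphFiber A T
        ⟨(PrimeSpectrum.comap (algebraMap A T) Q).asIdeal, inferInstance⟩) ⟨Q, rfl⟩)).asIdeal := h2
  rw [h1] at h3
  exact h3

end Gen


section ChartDim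

variable {R : Type u} [CommRing R] {n s : ℕ} (H : Fin s → MvPolynomial (Fin n) R)

/-- on the domain `D(h)` of a chart `(c, f, h)` the local fibre dimension is `n - c`. -/
theorem IsChart.fibLD_eq {c : ℕ} {f : Fin c → MvPolynomial (Fin n) R}
    {h : MvPolynomial (Fin n) R} (hc : IsChart H c f h)
    (q₁ : PrimeSpectrum (Synt.RelGCIRing R n s H))
    (hq₁ : Ideal.Quotient.mk (Ideal.span (Set.range H)) h ∉ q₁.asIdeal) :
    c ≤ n ∧ fibLD (PrimeSpectrum.comap (algebraMap R (Synt.RelGCIRing R n s H))) q₁ =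
      ((n - c : ℕ) : WithBot ℕ∞) := by
  obtain ⟨e⟩ := hc.nonempty_algEquiv
  set g := Ideal.Quotient.mk (Ideal.span (Set.range H)) h with hg
  let ψ : Synt.RelGCIRing R n s H →+* Synt.RelGCIRing R (n + 1) (c + 1) (snocRel f h) :=
    e.toRingEquiv.toRingHom.comp (algebraMap _ (Localization.Away g))
  have hψ : ψ.comp (algebraMap R (Synt.RelGCIRing R n s H)) =
      algebraMap R (Synt.RelGCIRing R (n + 1) (c + 1) (snocRel f h)) := by
    ext r
    show e (algebraMap _ (Localization.Away g) (algebraMap R _ r)) = _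
    rw [← IsScalarTower.algebraMap_apply, e.commutes]
  have h1 : Topology.IsOpenEmbedding (PrimeSpectrum.comap e.toRingEquiv.toRingHom) :=
    (PrimeSpectrum.homeomorphOfRingEquiv e.toRingEquiv.symm).isOpenEmbedding
  have h2 := PrimeSpectrum.localization_away_isOpenEmbedding (Localization.Away g) g
  have hemb : Topology.IsOpenEmbedding (PrimeSpectrum.comap ψ) := h2.comp h1
  have hcomp : (PrimeSpectrum.comap (algebraMap R (Synt.RelGCIRing R (n + 1) (c + 1) (snocRel f h)))) =
      PrimeSpectrum.comap (algebraMap R (Synt.RelGCIRing R n s H)) ∘ PrimeSpectrum.comap ψ := by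
    rw [← hψ]
    rfl
  have hrange : q₁ ∈ Set.range (PrimeSpectrum.comap ψ) := by
    have : Set.range (PrimeSpectrum.comap ψ) = PrimeSpectrum.basicOpen g := by
      show Set.range (PrimeSpectrum.comap (algebraMap _ (Localization.Away g)) ∘
        PrimeSpectrum.comap e.toRingEquiv.toRingHom) = _
      have hsurj : Set.range (PrimeSpectrum.comap e.toRingEquiv.toRingHom) = Set.univ :=
        (PrimeSpectrum.homeomorphOfRingEquiv e.toRingEquiv.symm).surjective.range_eq
      rw [Set.range_comp, hsurj,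
        Set.image_univ, PrimeSpectrum.localization_away_comap_range (Localization.Away g) g]
    rw [this]
    exact hq₁
  obtain ⟨q', rfl⟩ := hrange
  have hfib := fibLD_comap_relGCIRing R (n + 1) (c + 1) (snocRel f h) hc.2.2 q'
  -- the fibre through `q'` is nonempty, hence `c + 1 ≤ n + 1`
  have hcn : c ≤ n := by
    set p := PrimeSpectrum.comap (algebraMap R (Synt.RelGCIRing R (n + 1) (c + 1) (snocRel f h))) q'
      with hp
    haveI : p.asIdeal.IsPrime := p.2
    have hnt : Nontrivial (p.asIdeal.Fiber (Synt.RelGCIRing R (n + 1) (c + 1) (snocRel f h))) := by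
      haveI : Nonempty (PrimeSpectrum
          (p.asIdeal.Fiber (Synt.RelGCIRing R (n + 1) (c + 1) (snocRel f h)))) :=
        ⟨PrimeSpectrum.preimageHomeomorphFiber R _ p ⟨q', rfl⟩⟩
      exact (PrimeSpectrum.nonempty_iff_nontrivial).mp inferInstance
    have := (hc.2.2 p hnt).1
    omega
  refine ⟨hcn, ?_⟩
  rw [← fibLD_comp_isOpenEmbedding _ _ hemb, ← hcomp, hfib, Nat.add_sub_add_right]

end ChartDim


section GenSym

variable {P₀ : Type u} [CommRing P₀] {s : ℕ} (I : Ideal P₀) (H : Fin s → I)
  (σ : I.Cotangent →ₗ[P₀ ⧸ I] (Fin s → P₀ ⧸ I)) (E : Matrix (Fin s) (Fin s) P₀)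

include σ in
/-- where `I` is generated by `c` elements (after inverting `h₀`), the symmetric algebra
`(P₀/I)[z]/((1 - Ē) z)` is generated by `c` elements (after inverting `h₀`). -/
theorem exists_generators_symRing
    (h1 : ∀ i j, Ideal.Quotient.mk I (E i j) = σ (I.toCotangent (H i)) j)
    (h₀ : P₀) {c : ℕ} (f' : Fin c → I)
    (hmul : ∀ i, h₀ * (H i : P₀) ∈ Ideal.span (Set.range fun k => (f' k : P₀))) :
    ∃ w : Fin c → SymRing (E.map (Ideal.Quotient.mk I)),
      ∀ t : SymRing (E.map (Ideal.Quotient.mk I)), ∃ k : ℕ,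
        algebraMap (P₀ ⧸ I) (SymRing (E.map (Ideal.Quotient.mk I))) (Ideal.Quotient.mk I h₀) ^ k * t ∈
          Algebra.adjoin (P₀ ⧸ I) (Set.range w) := by
  set e := E.map (Ideal.Quotient.mk I) with he
  set L := Ideal.span (Set.range (symLin e)) with hL
  choose μ hμ using fun i => (Ideal.mem_span_range_iff_exists_fun).mp (hmul i)
  let v : Fin c → (Fin s → P₀ ⧸ I) := fun k => σ (I.toCotangent (f' k))
  let w : Fin c → SymRing e := fun k =>
    ∑ j, algebraMap (P₀ ⧸ I) (SymRing e) (v k j) * Ideal.Quotient.mk L (X j)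
  set g : SymRing e := algebraMap (P₀ ⧸ I) (SymRing e) (Ideal.Quotient.mk I h₀) with hg
  -- the key relation
  have hrel : ∀ i j, Ideal.Quotient.mk I h₀ * e i j = ∑ k, Ideal.Quotient.mk I (μ i k) * v k j := by
    intro i j
    have h2 : e i j = σ (I.toCotangent (H i)) j := h1 i j
    rw [h2]
    have hmem : h₀ * (H i : P₀) ∈ I := I.mul_mem_left _ (H i).2
    have h3 : I.toCotangent ⟨h₀ * (H i : P₀), hmem⟩ =
        ∑ k, Ideal.Quotient.mk I (μ i k) • I.toCotangent (f' k) :=
      toCotangent_eq_sum I f' (μ i) ⟨_, hmem⟩ (hμ i)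
    have h4 : I.toCotangent ⟨h₀ * (H i : P₀), hmem⟩ =
        Ideal.Quotient.mk I h₀ • I.toCotangent (H i) := by
      have : (⟨h₀ * (H i : P₀), hmem⟩ : I) = h₀ • H i := rfl
      rw [this, map_smul]
      rfl
    have h5 := congrArg (fun x => σ x j) (h4.symm.trans h3)
    simp only [map_smul, map_sum, Pi.smul_apply, Finset.sum_apply, smul_eq_mul] at h5
    exact h5
  have hgX : ∀ i, g * Ideal.Quotient.mk L (X i) ∈ Algebra.adjoin (P₀ ⧸ I) (Set.range w) := by
    intro i
    have h2 : g * Ideal.Quotient.mk L (X i) =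
        ∑ k, algebraMap (P₀ ⧸ I) (SymRing e) (Ideal.Quotient.mk I (μ i k)) * w k := by
      rw [mk_symLin_eq (e := e) i, map_sum, Finset.mul_sum]
      have h3 : ∀ j, g * Ideal.Quotient.mk L (C (e i j) * X j) =
          ∑ k, algebraMap (P₀ ⧸ I) (SymRing e) (Ideal.Quotient.mk I (μ i k)) *
            (algebraMap (P₀ ⧸ I) (SymRing e) (v k j) * Ideal.Quotient.mk L (X j)) := by
        intro j
        have h4 : Ideal.Quotient.mk L (C (e i j) * X j) =
            algebraMap (P₀ ⧸ I) (SymRing e) (e i j) * Ideal.Quotient.mk L (X j) := by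
          rw [map_mul]
          rfl
        rw [h4, ← mul_assoc, hg, ← map_mul, hrel i j, map_sum, Finset.sum_mul]
        refine Finset.sum_congr rfl fun k _ => ?_
        rw [map_mul, mul_assoc]
      rw [Finset.sum_congr rfl (fun j _ => h3 j), Finset.sum_comm]
      refine Finset.sum_congr rfl fun k _ => ?_
      show _ = _ * ∑ j, algebraMap (P₀ ⧸ I) (SymRing e) (v k j) * Ideal.Quotient.mk L (X j)
      rw [Finset.mul_sum]
    rw [h2]
    refine Subalgebra.sum_mem _ fun k _ => Subalgebra.mul_mem _ (Subalgebra.algebraMap_mem _ _) ?_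
    exact Algebra.subset_adjoin ⟨k, rfl⟩
  have hgmem : g ∈ Algebra.adjoin (P₀ ⧸ I) (Set.range w) := Subalgebra.algebraMap_mem _ _
  refine ⟨w, fun t => ?_⟩
  obtain ⟨p, rfl⟩ := Ideal.Quotient.mk_surjective t
  induction p using MvPolynomial.induction_on with
  | C a =>
    refine ⟨0, ?_⟩
    rw [pow_zero, one_mul]
    exact Subalgebra.algebraMap_mem _ a
  | add p q hp hq =>
    obtain ⟨kp, hkp⟩ := hp
    obtain ⟨kq, hkq⟩ := hq
    refine ⟨kp + kq, ?_⟩
    have : g ^ (kp + kq) * Ideal.Quotient.mk L (p + q) =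
        g ^ kq * (g ^ kp * Ideal.Quotient.mk L p) + g ^ kp * (g ^ kq * Ideal.Quotient.mk L q) := by
      rw [map_add]; ring
    rw [this]
    exact Subalgebra.add_mem _ (Subalgebra.mul_mem _ (Subalgebra.pow_mem _ hgmem _) hkp)
      (Subalgebra.mul_mem _ (Subalgebra.pow_mem _ hgmem _) hkq)
  | mul_X p i hp =>
    obtain ⟨kp, hkp⟩ := hp
    refine ⟨kp + 1, ?_⟩
    have : g ^ (kp + 1) * Ideal.Quotient.mk L (p * X i) =
        (g ^ kp * Ideal.Quotient.mk L p) * (g * Ideal.Quotient.mk L (X i)) := by
      rw [map_mul]; ring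
    rw [this]
    exact Subalgebra.mul_mem _ hkp (hgX i)

end GenSym


end Groth.Agent.Lib.Helper7.Synt
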