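import Mathlib
import Groth.Agent.Lib.Helper7Synt54
import Groth.Agent.Lib.Helper7Synt6
import Groth.Agent.Lib.Helper22FibDimLim

/-! # Local fibre dimension lemmas for the lifting of syntomic algebras (helper7)

* `fibLD_comap_comp_eq_of_flat`: additivity of local fibre dimensions along a flat map;
* `fibLD_comap_mvPolynomial`, `fibLD_comap_mvPolynomial_base`: polynomial rings;
* `fibLD_comap_of_surjective`: `S/IS` versus `S`;
* `fibLD_eq_of_chart`: on a relative global complete intersection chart;
* `fibLD_comap_quotient_base`: an `R/I`-algebra viewed over `R`.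
-/

set_option autoImplicit false
set_option linter.style.haveILetI false
set_option linter.unusedSectionVars false
universe u
open MvPolynomial Groth.Agent.Lib.Helper4.FibDim TensorProduct AlgebraicGeometry CategoryTheory

namespace Groth.Agent.Lib.Helper7.Synt


section CompFlat

variable (R S T : Type u) [CommRing R] [CommRing S] [CommRing T] [Algebra R S] [Algebra S T]
  [Algebra R T] [IsScalarTower R S T] [Algebra.FiniteType R S] [Algebra.FiniteType S T]

/-- ring-level form of `dim_x X_s = dim_x X_y + dim_y Y_s` for flat `X → Y`. -/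
theorem fibLD_comap_comp_eq_of_flat [Module.Flat S T] (Q : PrimeSpectrum T) :
    fibLD (PrimeSpectrum.comap (algebraMap R T)) Q =
      fibLD (PrimeSpectrum.comap (algebraMap S T)) Q +
        fibLD (PrimeSpectrum.comap (algebraMap R S)) (PrimeSpectrum.comap (algebraMap S T) Q) := by
  let f : Spec (CommRingCat.of T) ⟶ Spec (CommRingCat.of S) :=
    Spec.map (CommRingCat.ofHom (algebraMap S T))
  let g : Spec (CommRingCat.of S) ⟶ Spec (CommRingCat.of R) :=
    Spec.map (CommRingCat.ofHom (algebraMap R S))
  haveI : LocallyOfFiniteType f := by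
    rw [HasRingHomProperty.Spec_iff (P := @LocallyOfFiniteType)]
    exact RingHom.finiteType_algebraMap.mpr inferInstance
  haveI : LocallyOfFiniteType g := by
    rw [HasRingHomProperty.Spec_iff (P := @LocallyOfFiniteType)]
    exact RingHom.finiteType_algebraMap.mpr inferInstance
  haveI : Flat f := by
    rw [HasRingHomProperty.Spec_iff (P := @Flat)]
    exact RingHom.flat_algebraMap_iff.mpr inferInstance
  let x : Spec (CommRingCat.of T) := Q
  have key := (Groth.Agent.Lib.Helper3.CompDim.fibreDimAt_comp f g x).2 (Flat.stalkMap f x)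
  have hfg : f ≫ g = Spec.map (CommRingCat.ofHom (algebraMap R T)) := by
    rw [← Spec.map_comp, ← CommRingCat.ofHom_comp, ← IsScalarTower.algebraMap_eq]
  rw [hfg, fibreDimAt_eq_fibLD, fibreDimAt_eq_fibLD, fibreDimAt_eq_fibLD] at key
  exact key

end CompFlat



section Poly

variable (A : Type u) [CommRing A] (s : ℕ)

/-- the polynomial ring, as the quotient by no relations -/
noncomputable def polyEquivRel :
    MvPolynomial (Fin s) A ≃ₐ[A] Synt.RelGCIRing A s 0 (fun i : Fin 0 => i.elim0) :=
  AlgEquiv.ofBijective (Ideal.Quotient.mkₐ A _) (by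
    have hbot : Ideal.span (Set.range (fun i : Fin 0 => (i.elim0 : MvPolynomial (Fin s) A))) = ⊥ := by
      rw [Ideal.span_eq_bot]
      rintro _ ⟨i, -⟩
      exact i.elim0
    refine ⟨?_, Ideal.Quotient.mkₐ_surjective A _⟩
    rw [injective_iff_map_eq_zero]
    intro a ha
    rw [Ideal.Quotient.mkₐ_eq_mk, Ideal.Quotient.eq_zero_iff_mem, hbot] at ha
    exact ha)

theorem isRelGCI_poly : Synt.IsRelGCI A s 0 (fun i : Fin 0 => i.elim0) := by
  intro p hnt
  haveI : p.asIdeal.IsPrime := p.2
  refine ⟨Nat.zero_le _, ?_⟩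
  have e : p.asIdeal.Fiber (Synt.RelGCIRing A s 0 (fun i : Fin 0 => i.elim0)) ≃+*
      p.asIdeal.Fiber (MvPolynomial (Fin s) A) :=
    (Algebra.TensorProduct.congr (AlgEquiv.refl (R := A) (A₁ := p.asIdeal.ResidueField))
      (polyEquivRel A s).symm).toRingEquiv
  rw [ringKrullDim_eq_of_ringEquiv e, Groth.Agent.Lib.Helper4.FibDim.ringKrullDim_fiber_mvPolynomial]
  simp

/-- the fibres of `Spec A[t_1..t_s] → Spec A` have local dimension `s` everywhere -/
theorem fibLD_comap_mvPolynomial (Q : PrimeSpectrum (MvPolynomial (Fin s) A)) :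
    fibLD (PrimeSpectrum.comap (algebraMap A (MvPolynomial (Fin s) A))) Q = (s : WithBot ℕ∞) := by
  have h := fibLD_comap_relGCIRing A s 0 _ (isRelGCI_poly A s)
    (PrimeSpectrum.comap (polyEquivRel A s).symm.toRingEquiv.toRingHom Q)
  have hemb : Topology.IsOpenEmbedding
      (PrimeSpectrum.comap (polyEquivRel A s).symm.toRingEquiv.toRingHom) :=
    (PrimeSpectrum.homeomorphOfRingEquiv (polyEquivRel A s).toRingEquiv).isOpenEmbedding
  have hcomp : PrimeSpectrum.comap (algebraMap A (MvPolynomial (Fin s) A)) =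
      PrimeSpectrum.comap (algebraMap A (Synt.RelGCIRing A s 0 (fun i : Fin 0 => i.elim0))) ∘
        PrimeSpectrum.comap (polyEquivRel A s).symm.toRingEquiv.toRingHom := by
    have : algebraMap A (MvPolynomial (Fin s) A) =
        ((polyEquivRel A s).symm.toRingEquiv.toRingHom).comp
          (algebraMap A (Synt.RelGCIRing A s 0 (fun i : Fin 0 => i.elim0))) := by
      refine RingHom.ext fun r => ?_
      exact ((polyEquivRel A s).symm.commutes r).symm
    rw [this]
    rfl
  rw [hcomp, fibLD_comp_isOpenEmbedding _ _ hemb, h]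
  simp

end Poly



section Top

variable {X' X Y : Type*} [TopologicalSpace X'] [TopologicalSpace X]

/-- an embedding whose range contains the fibre through a point does not change the local fibre
dimension there. -/
theorem fibLD_comp_isEmbedding (φ : X → Y) (j : X' → X) (hj : Topology.IsEmbedding j) (x' : X')
    (h : φ ⁻¹' {φ (j x')} ⊆ Set.range j) : fibLD (φ ∘ j) x' = fibLD φ (j x') := by
  unfold fibLD
  have h1 : (φ ∘ j) ⁻¹' {(φ ∘ j) x'} = j ⁻¹' (φ ⁻¹' {φ (j x')}) := rfl
  rw [localDim_congr_set h1 x' rfl]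
  have hemb := (φ ⁻¹' {φ (j x')}).restrictPreimage_isEmbedding hj
  have hsurj : Function.Surjective ((φ ⁻¹' {φ (j x')}).restrictPreimage j) := by
    rintro ⟨x, hx⟩
    obtain ⟨y, rfl⟩ := h hx
    exact ⟨⟨y, hx⟩, rfl⟩
  have hhomeo : IsHomeomorph ((φ ⁻¹' {φ (j x')}).restrictPreimage j) :=
    (isHomeomorph_iff_isEmbedding_surjective).mpr ⟨hemb, hsurj⟩
  exact Groth.Agent.Lib.Helper22.FibDimLim.localDim_eq_of_isHomeomorph _ hhomeo ⟨x', rfl⟩

end Top

section Quot

variable {R S S' : Type u} [CommRing R] [CommRing S] [CommRing S'] [Algebra R S] [Algebra R S']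

/-- the local fibre dimensions of `S/IS` over `R` are those of `S`. -/
theorem fibLD_comap_of_surjective (Θ : S →ₐ[R] S') (hΘ : Function.Surjective Θ) (I : Ideal R)
    (hker : RingHom.ker Θ.toRingHom = I.map (algebraMap R S)) (q' : PrimeSpectrum S') :
    fibLD (PrimeSpectrum.comap (algebraMap R S')) q' =
      fibLD (PrimeSpectrum.comap (algebraMap R S)) (PrimeSpectrum.comap Θ.toRingHom q') := by
  have hcomp : PrimeSpectrum.comap (algebraMap R S') =
      PrimeSpectrum.comap (algebraMap R S) ∘ PrimeSpectrum.comap Θ.toRingHom := by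
    have : algebraMap R S' = Θ.toRingHom.comp (algebraMap R S) :=
      RingHom.ext fun r => (Θ.commutes r).symm
    rw [this]
    rfl
  rw [hcomp]
  apply fibLD_comp_isEmbedding _ _
    (PrimeSpectrum.isClosedEmbedding_comap_of_surjective _ _ hΘ).isEmbedding
  rw [_root_.range_comap_of_surjective _ _ hΘ, hker]
  intro 𝔮 h𝔮
  rw [Set.mem_preimage, Set.mem_singleton_iff] at h𝔮
  rw [PrimeSpectrum.mem_zeroLocus, SetLike.coe_subset_coe, Ideal.map_le_iff_le_comap]
  intro r hr
  have h1 : r ∈ (PrimeSpectrum.comap (algebraMap R S) 𝔮).asIdeal := by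
    rw [h𝔮]
    show algebraMap R S (r) ∈ (PrimeSpectrum.comap Θ.toRingHom q').asIdeal
    show Θ.toRingHom (algebraMap R S r) ∈ q'.asIdeal
    have : Θ.toRingHom (algebraMap R S r) = 0 := by
      rw [← RingHom.mem_ker, hker]
      exact Ideal.mem_map_of_mem _ hr
    rw [this]
    exact q'.asIdeal.zero_mem
  exact h1

end Quot

section Chart

variable (R : Type u) [CommRing R] {S : Type u} [CommRing S] [Algebra R S]

/-- the local fibre dimension on a relative global complete intersection chart -/
theorem fibLD_eq_of_chart (q : PrimeSpectrum S) (g : S) (hg : g ∉ q.asIdeal) {N c : ℕ}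
    (G : Fin c → MvPolynomial (Fin N) R) (hG : Synt.IsRelGCI R N c G)
    (e : Localization.Away g ≃ₐ[R] Synt.RelGCIRing R N c G) :
    fibLD (PrimeSpectrum.comap (algebraMap R S)) q = ((N - c : ℕ) : WithBot ℕ∞) := by
  let ι : S →+* Synt.RelGCIRing R N c G :=
    e.toRingEquiv.toRingHom.comp (algebraMap S (Localization.Away g))
  have hι : ι.comp (algebraMap R S) = algebraMap R (Synt.RelGCIRing R N c G) := by
    ext r
    show e (algebraMap _ (Localization.Away g) (algebraMap R _ r)) = _
    rw [← IsScalarTower.algebraMap_apply, e.commutes]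
  have hemb : Topology.IsOpenEmbedding (PrimeSpectrum.comap ι) := by
    have h1 : Topology.IsOpenEmbedding (PrimeSpectrum.comap e.toRingEquiv.toRingHom) :=
      (PrimeSpectrum.homeomorphOfRingEquiv e.toRingEquiv.symm).isOpenEmbedding
    have h2 := PrimeSpectrum.localization_away_isOpenEmbedding (Localization.Away g) g
    exact h2.comp h1
  have hrange : Set.range (PrimeSpectrum.comap ι) = (PrimeSpectrum.basicOpen g : Set _) := by
    have : PrimeSpectrum.comap ι = PrimeSpectrum.comap (algebraMap S (Localization.Away g)) ∘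
        PrimeSpectrum.comap e.toRingEquiv.toRingHom := rfl
    have hs : Set.range (PrimeSpectrum.comap e.toRingEquiv.toRingHom) = Set.univ :=
      Set.range_eq_univ.mpr (PrimeSpectrum.homeomorphOfRingEquiv e.toRingEquiv.symm).surjective
    rw [this, Set.range_comp, hs, Set.image_univ,
      PrimeSpectrum.localization_away_comap_range (Localization.Away g) g]
  obtain ⟨Q, rfl⟩ : q ∈ Set.range (PrimeSpectrum.comap ι) := by
    rw [hrange]; exact hg
  have hcomp : PrimeSpectrum.comap (algebraMap R (Synt.RelGCIRing R N c G)) =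
      PrimeSpectrum.comap (algebraMap R S) ∘ PrimeSpectrum.comap ι := by
    rw [← hι]
    rfl
  rw [← fibLD_comp_isOpenEmbedding _ _ hemb, ← hcomp]
  exact fibLD_comap_relGCIRing R N c G hG Q

end Chart


section Base

variable (R : Type u) [CommRing R] (I : Ideal R) (S : Type u) [CommRing S] [Algebra R S]
  [Algebra (R ⧸ I) S] [IsScalarTower R (R ⧸ I) S]

/-- an `R/I`-algebra has the same local fibre dimensions over `R` and over `R/I`. -/
theorem fibLD_comap_quotient_base (q : PrimeSpectrum S) :
    fibLD (PrimeSpectrum.comap (algebraMap R S)) q =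
      fibLD (PrimeSpectrum.comap (algebraMap (R ⧸ I) S)) q := by
  have hcomp : PrimeSpectrum.comap (algebraMap R S) =
      PrimeSpectrum.comap (Ideal.Quotient.mk I) ∘ PrimeSpectrum.comap (algebraMap (R ⧸ I) S) := by
    have : algebraMap R S = (algebraMap (R ⧸ I) S).comp (Ideal.Quotient.mk I) :=
      IsScalarTower.algebraMap_eq R (R ⧸ I) S
    rw [this]
    rfl
  rw [hcomp]
  exact fibLD_comp_injective _ _
    (PrimeSpectrum.comap_injective_of_surjective _ Ideal.Quotient.mk_surjective) q

end Base

section PolyBase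

variable (R A : Type u) [CommRing R] [CommRing A] [Algebra R A] [Algebra.FiniteType R A] (s : ℕ)

/-- `dim_Q (A[t_1..t_s] ⊗ κ) = s + dim_{Q ∩ A} (A ⊗ κ)`. -/
theorem fibLD_comap_mvPolynomial_base (Q : PrimeSpectrum (MvPolynomial (Fin s) A)) :
    fibLD (PrimeSpectrum.comap (algebraMap R (MvPolynomial (Fin s) A))) Q =
      (s : WithBot ℕ∞) + fibLD (PrimeSpectrum.comap (algebraMap R A))
        (PrimeSpectrum.comap (C : A →+* MvPolynomial (Fin s) A) Q) := by
  have h := fibLD_comap_comp_eq_of_flat R A (MvPolynomial (Fin s) A) Q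
  rw [fibLD_comap_mvPolynomial] at h
  exact h

end PolyBase

section RelLe

variable (R : Type u) [CommRing R] (n c : ℕ) (F : Fin c → MvPolynomial (Fin n) R)

theorem le_of_isRelGCI_of_prime (hF : Synt.IsRelGCI R n c F)
    (x : PrimeSpectrum (Synt.RelGCIRing R n c F)) : c ≤ n := by
  set p := PrimeSpectrum.comap (algebraMap R (Synt.RelGCIRing R n c F)) x with hp
  haveI : p.asIdeal.IsPrime := p.2
  have hnt : Nontrivial (p.asIdeal.Fiber (Synt.RelGCIRing R n c F)) := by
    haveI : Nonempty (PrimeSpectrum (p.asIdeal.Fiber (Synt.RelGCIRing R n c F))) :=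
      ⟨PrimeSpectrum.preimageHomeomorphFiber R (Synt.RelGCIRing R n c F) p ⟨x, rfl⟩⟩
    exact (PrimeSpectrum.nonempty_iff_nontrivial).mp inferInstance
  exact (hF p hnt).1

end RelLe

end Groth.Agent.Lib.Helper7.Synt
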