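import Groth.Agent.Lib.Helper7Synt29

/-! # `Synt.IsSyntomic` as a local property of ring homomorphisms (helper7)

* `SyntomicHom f`: the ring map `f` is syntomic (`Synt.IsSyntomic` for `f.toAlgebra`);
* `syntomicHom_propertyIsLocal : RingHom.PropertyIsLocal SyntomicHom`;
* `syntomicMor := affineLocally SyntomicHom` with its `HasRingHomProperty` instance;
* `isSyntomicMor_iff_syntomicMor`: `Synt.IsSyntomicMor f ↔ syntomicMor f`.
-/

set_option autoImplicit false
set_option linter.style.haveILetI false
universe u
open TensorProduct AlgebraicGeometry CategoryTheory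

namespace Groth.Agent.Lib.Helper7.Synt

/-- the ring map `f` is syntomic. -/
def SyntomicHom {R S : Type u} [CommRing R] [CommRing S] (f : R →+* S) : Prop :=
  letI := f.toAlgebra
  Synt.IsSyntomic R S

theorem syntomicHom_algebraMap {R S : Type u} [CommRing R] [CommRing S] [Algebra R S] :
    SyntomicHom (algebraMap R S) ↔ Synt.IsSyntomic R S := by
  rw [SyntomicHom, toAlgebra_algebraMap]

theorem syntomicHom_awayTarget :
    RingHom.StableUnderCompositionWithLocalizationAwayTarget @SyntomicHom := by
  intro R S T _ _ _ _ s _ f hf
  letI := f.toAlgebra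
  letI := ((algebraMap S T).comp f).toAlgebra
  haveI : IsScalarTower R S T := .of_algebraMap_eq' rfl
  exact isSyntomic_away_target s hf

theorem syntomicHom_awaySource :
    RingHom.StableUnderCompositionWithLocalizationAwaySource @SyntomicHom := by
  intro R S T _ _ _ _ r _ f hf
  letI := f.toAlgebra
  letI := (f.comp (algebraMap R S)).toAlgebra
  haveI : IsScalarTower R S T := .of_algebraMap_eq' rfl
  haveI : Algebra.FinitePresentation R S := IsLocalization.Away.finitePresentation r
  exact isSyntomic_of_isLocalization_source (Submonoid.powers r) hf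

theorem syntomicHom_localizationAwayPreserves :
    RingHom.LocalizationAwayPreserves @SyntomicHom := by
  intro R S _ _ f r R' S' _ _ _ _ _ _ hf
  letI := f.toAlgebra
  letI : Algebra R' S' := (IsLocalization.Away.map R' S' f r).toAlgebra
  letI : Algebra R S' := ((algebraMap S S').comp f).toAlgebra
  haveI : IsScalarTower R S S' := .of_algebraMap_eq' rfl
  haveI : IsScalarTower R R' S' := by
    refine .of_algebraMap_eq' ?_
    show (algebraMap S S').comp f = (IsLocalization.Away.map R' S' f r).comp (algebraMap R R')
    exact (IsLocalization.map_comp _).symm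
  haveI : IsLocalization.Away (algebraMap R S r) S' := ‹IsLocalization.Away (f r) S'›
  have h1 : Synt.IsSyntomic R S' := isSyntomic_away_target (algebraMap R S r) hf
  haveI : Algebra.FinitePresentation R R' := IsLocalization.Away.finitePresentation r
  exact isSyntomic_localization_base (Submonoid.powers r) h1

theorem syntomicHom_ofLocalizationSpanTarget :
    RingHom.OfLocalizationSpanTarget @SyntomicHom := by
  rw [RingHom.ofLocalizationSpanTarget_iff_finite]
  intro R S _ _ f s hs H
  letI := f.toAlgebra
  refine Groth.Agent.S9146.result R S s hs fun g hg => ?_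
  have := H ⟨g, hg⟩
  change SyntomicHom ((algebraMap S (Localization.Away g)).comp (algebraMap R S)) at this
  rwa [← IsScalarTower.algebraMap_eq, syntomicHom_algebraMap] at this

theorem syntomicHom_propertyIsLocal : RingHom.PropertyIsLocal @SyntomicHom where
  localizationAwayPreserves := syntomicHom_localizationAwayPreserves
  ofLocalizationSpanTarget := syntomicHom_ofLocalizationSpanTarget
  ofLocalizationSpan :=
    syntomicHom_ofLocalizationSpanTarget.ofLocalizationSpan syntomicHom_awaySource
  StableUnderCompositionWithLocalizationAwayTarget := syntomicHom_awayTarget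

theorem syntomicHom_respectsIso : RingHom.RespectsIso @SyntomicHom :=
  syntomicHom_propertyIsLocal.respectsIso

/-- the morphism property of schemes associated with `SyntomicHom`. -/
def syntomicMor : MorphismProperty Scheme.{u} := affineLocally @SyntomicHom

instance : HasRingHomProperty syntomicMor.{u} @SyntomicHom where
  isLocal_ringHomProperty := syntomicHom_propertyIsLocal
  eq_affineLocally' := rfl

theorem isSyntomicMor_iff_syntomicMor {X S : Scheme.{u}} (f : X ⟶ S) :
    Synt.IsSyntomicMor f ↔ syntomicMor f := by
  rw [HasRingHomProperty.iff_exists_appLE (P := syntomicMor) syntomicHom_awaySource]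
  refine forall_congr' fun x => ?_
  constructor
  · rintro ⟨U, V, e, hx, h⟩
    exact ⟨V, U, hx, e, h⟩
  · rintro ⟨V, U, hx, e, h⟩
    exact ⟨U, V, e, hx, h⟩

theorem isSyntomicMor_iff_forall {X S : Scheme.{u}} (f : X ⟶ S) :
    Synt.IsSyntomicMor f ↔
      ∀ (U : X.affineOpens) (V : S.affineOpens) (e : U.1 ≤ f ⁻¹ᵁ V.1),
        SyntomicHom (f.appLE V.1 U.1 e).hom := by
  rw [isSyntomicMor_iff_syntomicMor, HasRingHomProperty.iff_appLE (P := syntomicMor)]
  exact ⟨fun h U V e => h V U e, fun h V U e => h U V e⟩

end Groth.Agent.Lib.Helper7.Synt
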