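import Groth.Agent.Lib.Helper7Synt36

/-! # Syntomic algebras over Noetherian rings: presentations by regular sequences II (helper7)

`exists_regular_presentation_of_isSyntomic`: over a Noetherian ring `A`, a syntomic algebra is
locally (on basic opens) `A[T_1..T_n]/(P_1..P_d)` with `P` a regular sequence.
-/

set_option autoImplicit false
set_option linter.style.haveILetI false
universe u
open RingTheory.Sequence
open scoped Pointwise

namespace Groth.Agent.Lib.Helper7.Synt

section Main

variable {A : Type u} [CommRing A] {n c : ℕ} (F : Fin c → MvPolynomial (Fin n) A)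

theorem isWeaklyRegular_snoc_of_away (h : MvPolynomial (Fin n) A)
    (hreg : IsWeaklyRegular (Localization.Away h)
      ((List.ofFn F).map (algebraMap (MvPolynomial (Fin n) A) (Localization.Away h)))) :
    IsWeaklyRegular (MvPolynomial (Fin (n + 1)) A)
      ((MvPolynomial.rename Fin.castSucc h * MvPolynomial.X (Fin.last n) - 1) ::
        (List.ofFn F).map (MvPolynomial.rename Fin.castSucc)) := by
  refine (AddEquiv.isWeaklyRegular_congr (e := (thetaLast A n).toAddEquiv)
    (bs := (Polynomial.C h * Polynomial.X - 1 : Polynomial (MvPolynomial (Fin n) A)) ::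
      (List.ofFn F).map Polynomial.C) ?_).mpr (isWeaklyRegular_polynomial_cons h _ hreg)
  refine List.Forall₂.cons ?_ ?_
  · intro x
    show thetaLast A n (_ • x) = _ • thetaLast A n x
    rw [smul_eq_mul, smul_eq_mul, map_mul, map_sub, map_mul, thetaLast_rename, thetaLast_X_last,
      map_one]
  · rw [List.forall₂_map_left_iff, List.forall₂_map_right_iff, List.forall₂_same]
    intro f _ x
    show thetaLast A n (_ • x) = _ • thetaLast A n x
    rw [smul_eq_mul, smul_eq_mul, map_mul, thetaLast_rename]

theorem ofList_cons_eq_span_snocRel (h h' : MvPolynomial (Fin n) A)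
    (hh : Ideal.Quotient.mk (Ideal.span (Set.range F)) h' =
      Ideal.Quotient.mk (Ideal.span (Set.range F)) h) :
    Ideal.ofList ((MvPolynomial.rename Fin.castSucc h * MvPolynomial.X (Fin.last n) - 1) ::
        (List.ofFn F).map (MvPolynomial.rename Fin.castSucc)) =
      Ideal.span (Set.range (snocRel F h')) := by
  set ρ : MvPolynomial (Fin n) A →ₐ[A] MvPolynomial (Fin (n + 1)) A :=
    MvPolynomial.rename Fin.castSucc with hρ
  set N : Ideal (MvPolynomial (Fin (n + 1)) A) := Ideal.span (Set.range fun i => ρ (F i)) with hN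
  have h1 : Ideal.ofList ((List.ofFn F).map ρ) = N := by
    rw [List.map_ofFn, ofList_ofFn]
    rfl
  have h2 : Ideal.span (Set.range (snocRel F h')) =
      Ideal.span {ρ h' * MvPolynomial.X (Fin.last n) - 1} ⊔ N := by
    unfold snocRel
    rw [Fin.range_snoc, Ideal.span_insert]
  have hdiff : ρ h * MvPolynomial.X (Fin.last n) - 1 - (ρ h' * MvPolynomial.X (Fin.last n) - 1) ∈ N := by
    have h3 : h - h' ∈ Ideal.span (Set.range F) := by
      rw [← Ideal.Quotient.eq_zero_iff_mem, map_sub, hh, sub_self]
    have h4 : ρ (h - h') ∈ N := by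
      have : (Ideal.span (Set.range F)).map ρ = N := by
        rw [Ideal.map_span, ← Set.range_comp]
        rfl
      rw [← this]
      exact Ideal.mem_map_of_mem _ h3
    have h5 : ρ h * MvPolynomial.X (Fin.last n) - 1 - (ρ h' * MvPolynomial.X (Fin.last n) - 1) =
        ρ (h - h') * MvPolynomial.X (Fin.last n) := by
      rw [map_sub]; ring
    rw [h5]
    exact Ideal.mul_mem_right _ _ h4
  rw [Ideal.ofList_cons, h1, h2]
  apply le_antisymm
  · refine sup_le ?_ le_sup_right
    rw [Ideal.span_singleton_le_iff_mem]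
    have : ρ h * MvPolynomial.X (Fin.last n) - 1 =
        (ρ h' * MvPolynomial.X (Fin.last n) - 1) +
          (ρ h * MvPolynomial.X (Fin.last n) - 1 - (ρ h' * MvPolynomial.X (Fin.last n) - 1)) := by
      ring
    rw [this]
    exact Ideal.add_mem _ (Ideal.mem_sup_left (Ideal.mem_span_singleton_self _))
      (Ideal.mem_sup_right hdiff)
  · refine sup_le ?_ le_sup_right
    rw [Ideal.span_singleton_le_iff_mem]
    have : ρ h' * MvPolynomial.X (Fin.last n) - 1 =
        (ρ h * MvPolynomial.X (Fin.last n) - 1) -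
          (ρ h * MvPolynomial.X (Fin.last n) - 1 - (ρ h' * MvPolynomial.X (Fin.last n) - 1)) := by
      ring
    rw [this]
    exact Ideal.sub_mem _ (Ideal.mem_sup_left (Ideal.mem_span_singleton_self _))
      (Ideal.mem_sup_right hdiff)

theorem exists_regular_presentation_relGCI [IsNoetherianRing A] (hF : Synt.IsRelGCI A n c F)
    (q₁ : Ideal (Synt.RelGCIRing A n c F)) [q₁.IsPrime] :
    ∃ g : Synt.RelGCIRing A n c F, g ∉ q₁ ∧ ∃ l : List (MvPolynomial (Fin (n + 1)) A),
      IsWeaklyRegular (MvPolynomial (Fin (n + 1)) A) l ∧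
      Nonempty (Localization.Away g ≃ₐ[A] MvPolynomial (Fin (n + 1)) A ⧸ Ideal.ofList l) := by
  set q' := q₁.comap (Ideal.Quotient.mk (Ideal.span (Set.range F))) with hq'
  haveI : q'.IsPrime := Ideal.comap_isPrime _ _
  have hle : Ideal.span (Set.range F) ≤ q' := by
    intro x hx
    rw [hq', Ideal.mem_comap, Ideal.Quotient.eq_zero_iff_mem.mpr hx]
    exact q₁.zero_mem
  have hreg := (isWeaklyRegular_and_flat_of_isRelGCI F hF q' hle).1
  obtain ⟨h₀, hh₀, H⟩ := exists_isWeaklyRegular_away q' (List.ofFn F) hreg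
  have hreg' := H 1
  set h := h₀ * 1 with hh
  have hhq : Ideal.Quotient.mk (Ideal.span (Set.range F)) h ∉ q₁ := by
    intro hmem
    apply hh₀
    have : h ∈ q' := hmem
    rwa [hh, mul_one] at this
  obtain ⟨h', hh', ⟨ε⟩⟩ := exists_away_equiv F (Ideal.Quotient.mk (Ideal.span (Set.range F)) h)
  refine ⟨_, hhq, _, isWeaklyRegular_snoc_of_away F h hreg', ?_⟩
  exact ⟨ε.trans (Ideal.quotientEquivAlgOfEq A (ofList_cons_eq_span_snocRel F h h' hh').symm)⟩

end Main

section Transfer

theorem exists_away_algEquiv_of_algEquiv_away {A B S : Type u} [CommRing A] [CommRing B]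
    [CommRing S] [Algebra A B] [Algebra A S] (q : Ideal B) [q.IsPrime] (g₁ : B) (hg₁ : g₁ ∉ q)
    (e : Localization.Away g₁ ≃ₐ[A] S) (s : S)
    (hs : e.symm s ∉ q.map (algebraMap B (Localization.Away g₁))) :
    ∃ g : B, g ∉ q ∧ Nonempty (Localization.Away g ≃ₐ[A] Localization.Away s) := by
  set b := e.symm s with hb
  set z := (IsLocalization.Away.sec g₁ b).1 with hz
  have hassoc : Associated (algebraMap B (Localization.Away g₁) z) b :=
    IsLocalization.Away.associated_sec_fst g₁ b
  haveI : IsScalarTower A B (Localization.Away b) := by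
    refine IsScalarTower.of_algebraMap_eq' (R := A) (S := B) (A := Localization.Away b) ?_
    rw [IsScalarTower.algebraMap_eq B (Localization.Away g₁) (Localization.Away b),
      RingHom.comp_assoc, ← IsScalarTower.algebraMap_eq A B (Localization.Away g₁),
      ← IsScalarTower.algebraMap_eq A (Localization.Away g₁) (Localization.Away b)]
  haveI : IsLocalization.Away (g₁ * z) (Localization.Away b) :=
    IsLocalization.Away.mul_of_associated g₁ z b hassoc
  let ε₁ : Localization.Away (g₁ * z) ≃ₐ[B] Localization.Away b :=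
    IsLocalization.algEquiv (Submonoid.powers (g₁ * z)) _ _
  have H : Submonoid.map e (Submonoid.powers b) = Submonoid.powers s := by
    rw [Submonoid.map_powers]
    congr 1
    exact e.apply_symm_apply s
  let ε₂ : Localization.Away b ≃ₐ[A] Localization.Away s :=
    IsLocalization.algEquivOfAlgEquiv _ _ e H
  refine ⟨g₁ * z, ?_, ⟨(ε₁.restrictScalars A).trans ε₂⟩⟩
  intro hmem
  rcases (inferInstance : q.IsPrime).mem_or_mem hmem with h1 | h1
  · exact hg₁ h1
  · apply hs
    obtain ⟨u, hu⟩ := hassoc
    rw [← hu]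
    exact Ideal.mul_mem_right _ _ (Ideal.mem_map_of_mem _ h1)

/-- Over a Noetherian ring, a syntomic algebra is locally of the form `A[T]/(P_1, …, P_d)` with
`P` a regular sequence. -/
theorem exists_regular_presentation_of_isSyntomic (A : Type u) [CommRing A] [IsNoetherianRing A]
    (B : Type u) [CommRing B] [Algebra A B] (h : Synt.IsSyntomic A B) (q : PrimeSpectrum B) :
    ∃ g : B, g ∉ q.asIdeal ∧
      ∃ (n d : ℕ) (P : Fin d → MvPolynomial (Fin n) A),
        RingTheory.Sequence.IsRegular (MvPolynomial (Fin n) A) (List.ofFn P) ∧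
        Nonempty (Localization.Away g ≃ₐ[A]
          (MvPolynomial (Fin n) A ⧸ Ideal.ofList (List.ofFn P))) := by
  haveI : q.asIdeal.IsPrime := q.2
  obtain ⟨g₁, hg₁, n, c, F, hF, ⟨e⟩⟩ := exists_relGCI_away_of_isSyntomic A B h q
  haveI hq₀ : (q.asIdeal.map (algebraMap B (Localization.Away g₁))).IsPrime :=
    isPrime_map_away q.asIdeal g₁ hg₁
  set q₁ : Ideal (Synt.RelGCIRing A n c F) :=
    (q.asIdeal.map (algebraMap B (Localization.Away g₁))).comap e.symm.toRingEquiv.toRingHom
    with hq₁
  haveI : q₁.IsPrime := Ideal.comap_isPrime _ _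
  obtain ⟨s, hs, l, hl, ⟨ε⟩⟩ := exists_regular_presentation_relGCI F hF q₁
  have hs' : e.symm s ∉ q.asIdeal.map (algebraMap B (Localization.Away g₁)) := hs
  obtain ⟨g, hg, ⟨ε'⟩⟩ := exists_away_algEquiv_of_algEquiv_away q.asIdeal g₁ hg₁ e s hs'
  have hofFn : List.ofFn (fun i : Fin l.length => l[i]) = l := List.ofFn_getElem
  refine ⟨g, hg, n + 1, l.length, fun i => l[i], ?_, ?_⟩
  · rw [hofFn]
    refine ⟨hl, ?_⟩
    -- the quotient is nontrivial
    intro htop
    have h1 : (Ideal.ofList l • (⊤ : Submodule (MvPolynomial (Fin (n + 1)) A)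
        (MvPolynomial (Fin (n + 1)) A))) = Ideal.ofList l := by
      rw [smul_eq_mul, Ideal.mul_top]
    rw [h1] at htop
    haveI : Subsingleton (MvPolynomial (Fin (n + 1)) A ⧸ Ideal.ofList l) :=
      Ideal.Quotient.subsingleton_iff.mpr htop.symm
    have hsub : Subsingleton (Localization.Away g) := (ε'.trans ε).toEquiv.subsingleton
    have h2 : (0 : B) ∈ Submonoid.powers g :=
      (IsLocalization.subsingleton_iff (M := Submonoid.powers g)
        (S := Localization.Away g)).mp hsub
    obtain ⟨k, hk⟩ := h2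
    have hk' : g ^ k = 0 := hk
    exact hg (q.2.mem_of_pow_mem k (hk'.symm ▸ q.asIdeal.zero_mem))
  · rw [hofFn]
    exact ⟨ε'.trans ε⟩

end Transfer

end Groth.Agent.Lib.Helper7.Synt
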