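import Mathlib
import Groth.Agent.Lib.Helper7Lift1
import Groth.Agent.Lib.Helper7Synt37
import Groth.Agent.Lib.Helper7Synt30

/-! # Syntomic near a point from a presentation and a fibre dimension bound (helper7)

* `exists_syntomic_away_of_fibLD_le`;
* `isSyntomic_away_of_forall_exists`;
* `exists_presentation_quotient_away`.
-/

set_option autoImplicit false
set_option linter.style.haveILetI false
set_option linter.unusedSectionVars false
universe u
open MvPolynomial Groth.Agent.Lib.Helper4.FibDim TensorProduct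

namespace Groth.Agent.Lib.Helper7.Synt


section L5

variable (R : Type u) [CommRing R] {B : Type u} [CommRing B] [Algebra R B]

/-- if a basic open neighbourhood of `q` is presented as `R[x_1..x_n]/(F_1..F_c)` and the local
fibre dimension at `q` is at most `n - c`, then `B` is syntomic over `R` near `q`. -/
theorem exists_syntomic_away_of_fibLD_le (q : PrimeSpectrum B) (g₁ : B) (hg₁ : g₁ ∉ q.asIdeal)
    {n c : ℕ} (F : Fin c → MvPolynomial (Fin n) R) (hcn : c ≤ n)
    (e : Localization.Away g₁ ≃ₐ[R] Synt.RelGCIRing R n c F)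
    (hq : fibLD (PrimeSpectrum.comap (algebraMap R B)) q ≤ ((n - c : ℕ) : WithBot ℕ∞)) :
    ∃ g : B, g ∉ q.asIdeal ∧ Synt.IsSyntomic R (Localization.Away g) := by
  haveI : q.asIdeal.IsPrime := q.2
  let ι : B →+* Synt.RelGCIRing R n c F :=
    e.toRingEquiv.toRingHom.comp (algebraMap B (Localization.Away g₁))
  have hι : ι.comp (algebraMap R B) = algebraMap R (Synt.RelGCIRing R n c F) := by
    ext r
    show e (algebraMap _ (Localization.Away g₁) (algebraMap R _ r)) = _
    rw [← IsScalarTower.algebraMap_apply, e.commutes]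
  have hemb : Topology.IsOpenEmbedding (PrimeSpectrum.comap ι) := by
    have h1 : Topology.IsOpenEmbedding (PrimeSpectrum.comap e.toRingEquiv.toRingHom) :=
      (PrimeSpectrum.homeomorphOfRingEquiv e.toRingEquiv.symm).isOpenEmbedding
    have h2 := PrimeSpectrum.localization_away_isOpenEmbedding (Localization.Away g₁) g₁
    exact h2.comp h1
  haveI hq₀ : (q.asIdeal.map (algebraMap B (Localization.Away g₁))).IsPrime :=
    isPrime_map_away q.asIdeal g₁ hg₁
  let 𝔔 : PrimeSpectrum (Synt.RelGCIRing R n c F) :=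
    ⟨(q.asIdeal.map (algebraMap B (Localization.Away g₁))).comap e.symm.toRingEquiv.toRingHom,
      Ideal.comap_isPrime _ _⟩
  have h𝔔 : PrimeSpectrum.comap ι 𝔔 = q := by
    apply PrimeSpectrum.ext
    ext x
    show e.symm (e (algebraMap B (Localization.Away g₁) x)) ∈
      q.asIdeal.map (algebraMap B (Localization.Away g₁)) ↔ x ∈ q.asIdeal
    rw [e.symm_apply_apply, ← Ideal.mem_comap, comap_map_away q.asIdeal g₁ hg₁]
  have hcomp : PrimeSpectrum.comap (algebraMap R (Synt.RelGCIRing R n c F)) =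
      PrimeSpectrum.comap (algebraMap R B) ∘ PrimeSpectrum.comap ι := by
    rw [← hι]
    rfl
  have hfib : fibLD (PrimeSpectrum.comap (algebraMap R (Synt.RelGCIRing R n c F))) 𝔔 ≤
      ((n - c : ℕ) : WithBot ℕ∞) := by
    rw [hcomp, fibLD_comp_isOpenEmbedding _ _ hemb, h𝔔]
    exact hq
  obtain ⟨J, hJ⟩ := exists_ideal_fibLD R (Synt.RelGCIRing R n c F) (n - c)
  have hJ𝔔 : ¬ J ≤ 𝔔.asIdeal := (hJ 𝔔).mp hfib
  obtain ⟨u, huJ, hu𝔔⟩ := SetLike.not_le_iff_exists.mp hJ𝔔
  obtain ⟨h, hh, ⟨ε⟩⟩ := exists_away_equiv F u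
  have hGCI : Synt.IsRelGCI R (n + 1) (c + 1) (snocRel F h) := by
    apply isRelGCI_snocRel_of_fibLD_le F u h ε
    intro q' hq'
    exact ⟨hcn, (hJ q').mpr fun hle => hq' (hle huJ)⟩
  have hsynT : Synt.IsSyntomic R (Localization.Away u) :=
    isSyntomic_of_algEquiv ε.symm (isSyntomic_relGCIRing _ hGCI)
  have hs : e.symm u ∉ q.asIdeal.map (algebraMap B (Localization.Away g₁)) := hu𝔔
  obtain ⟨g, hg, ⟨ε'⟩⟩ := exists_away_algEquiv_of_algEquiv_away q.asIdeal g₁ hg₁ e u hs
  exact ⟨g, hg, isSyntomic_of_algEquiv ε'.symm hsynT⟩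

end L5

section Gather

variable (R : Type u) [CommRing R] {B : Type u} [CommRing B] [Algebra R B]

/-- if `B` is syntomic over `R` near every prime not containing `a`, then `B_a` is syntomic. -/
theorem isSyntomic_away_of_forall_exists (a : B)
    (H : ∀ q : PrimeSpectrum B, a ∉ q.asIdeal →
      ∃ g : B, g ∉ q.asIdeal ∧ Synt.IsSyntomic R (Localization.Away g)) :
    Synt.IsSyntomic R (Localization.Away a) := by
  rw [← syntomicHom_algebraMap]
  refine syntomicHom_ofLocalizationSpanTarget (algebraMap R (Localization.Away a))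
    ((algebraMap B (Localization.Away a)) '' {g | Synt.IsSyntomic R (Localization.Away g)}) ?_ ?_
  · by_contra hne
    obtain ⟨M, hM, hle⟩ := Ideal.exists_le_maximal _ hne
    haveI := hM.isPrime
    let q : PrimeSpectrum B := ⟨M.comap (algebraMap B (Localization.Away a)), Ideal.comap_isPrime _ _⟩
    have haq : a ∉ q.asIdeal := by
      intro hmem
      have hu : IsUnit (algebraMap B (Localization.Away a) a) :=
        IsLocalization.Away.algebraMap_isUnit a
      exact hM.ne_top (Ideal.eq_top_of_isUnit_mem _ hmem hu)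
    obtain ⟨g, hg, hsyn⟩ := H q haq
    exact hg (hle (Ideal.subset_span ⟨g, hsyn, rfl⟩))
  · rintro ⟨_, g, hg, rfl⟩
    have hg' : Synt.IsSyntomic R (Localization.Away g) := hg
    show SyntomicHom ((algebraMap (Localization.Away a)
      (Localization.Away (algebraMap B (Localization.Away a) g))).comp
        (algebraMap R (Localization.Away a)))
    rw [← IsScalarTower.algebraMap_eq, syntomicHom_algebraMap]
    have h1 : Synt.IsSyntomic R (Localization.Away (algebraMap B (Localization.Away g) a)) :=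
      isSyntomic_away_target (algebraMap B (Localization.Away g) a) hg'
    let ε : Localization.Away (algebraMap B (Localization.Away g) a) ≃ₐ[B]
        Localization.Away (algebraMap B (Localization.Away a) g) :=
      IsLocalization.algEquiv (Submonoid.powers (a * g)) _ _
    exact isSyntomic_of_algEquiv (ε.restrictScalars R) h1

end Gather



theorem range_fin_append {α : Type*} {m n : ℕ} (a : Fin m → α) (b : Fin n → α) :
    Set.range (Fin.append a b) = Set.range a ∪ Set.range b := by
  ext x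
  constructor
  · rintro ⟨i, rfl⟩
    refine Fin.addCases (fun j => ?_) (fun j => ?_) i
    · rw [Fin.append_left]; exact Or.inl ⟨j, rfl⟩
    · rw [Fin.append_right]; exact Or.inr ⟨j, rfl⟩
  · rintro (⟨j, rfl⟩ | ⟨j, rfl⟩)
    · exact ⟨Fin.castAdd n j, Fin.append_left _ _ _⟩
    · exact ⟨Fin.natAdd m j, Fin.append_right _ _ _⟩

section Pres

variable (R : Type u) [CommRing R] {D : Type u} [CommRing D] [Algebra R D]

/-- a presentation of `(D/(f))_{g'}` from a presentation of `D_{g'}`. -/
theorem exists_presentation_quotient_away (g' : D) {N c : ℕ} (G : Fin c → MvPolynomial (Fin N) R)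
    (e₁ : Localization.Away g' ≃ₐ[R] Synt.RelGCIRing R N c G) {s : ℕ} (f : Fin s → D) :
    ∃ F' : Fin (c + s) → MvPolynomial (Fin N) R,
      Nonempty (Localization.Away (Ideal.Quotient.mk (Ideal.span (Set.range f)) g') ≃ₐ[R]
        Synt.RelGCIRing R N (c + s) F') := by
  set L := Localization.Away g' with hL
  set 𝔣 := Ideal.span (Set.range f) with h𝔣
  have hsurj : ∀ i, ∃ p : MvPolynomial (Fin N) R,
      Ideal.Quotient.mk (Ideal.span (Set.range G)) p = e₁ (algebraMap D L (f i)) :=
    fun i => Ideal.Quotient.mk_surjective _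
  choose f' hf' using hsurj
  refine ⟨Fin.append G f', ?_⟩
  -- step 1
  haveI hloc : IsLocalization.Away (Ideal.Quotient.mk 𝔣 g') (L ⧸ 𝔣.map (algebraMap D L)) := by
    have : IsLocalization (Algebra.algebraMapSubmonoid (D ⧸ 𝔣) (Submonoid.powers g'))
      (L ⧸ 𝔣.map (algebraMap D L)) := inferInstance
    simpa using this
  let ε₁ : Localization.Away (Ideal.Quotient.mk 𝔣 g') ≃ₐ[D ⧸ 𝔣] (L ⧸ 𝔣.map (algebraMap D L)) :=
    IsLocalization.algEquiv (Submonoid.powers (Ideal.Quotient.mk 𝔣 g')) _ _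
  haveI : IsScalarTower R (D ⧸ 𝔣) (L ⧸ 𝔣.map (algebraMap D L)) := isScalarTower_quotient_map 𝔣
  -- step 2
  let J₂ : Ideal (Synt.RelGCIRing R N c G) :=
    Ideal.span (Set.range fun i => Ideal.Quotient.mk (Ideal.span (Set.range G)) (f' i))
  have hJ₂ : J₂ = (𝔣.map (algebraMap D L)).map (e₁ : L →+* Synt.RelGCIRing R N c G) := by
    rw [h𝔣, Ideal.map_span, Ideal.map_span, ← Set.range_comp, ← Set.range_comp]
    show Ideal.span (Set.range _) = _
    congr 2
    funext i
    exact hf' i
  let ε₂ : (L ⧸ 𝔣.map (algebraMap D L)) ≃ₐ[R] (Synt.RelGCIRing R N c G ⧸ J₂) :=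
    Ideal.quotientEquivAlg _ J₂ e₁ hJ₂
  -- step 3
  have hJ₃ : J₂ = (Ideal.span (Set.range f')).map
      (Ideal.Quotient.mkₐ R (Ideal.span (Set.range G))) := by
    rw [Ideal.map_span, ← Set.range_comp]
    rfl
  let ε₃ : (Synt.RelGCIRing R N c G ⧸ J₂) ≃ₐ[R]
      (MvPolynomial (Fin N) R ⧸ (Ideal.span (Set.range G) ⊔ Ideal.span (Set.range f'))) :=
    (Ideal.quotientEquivAlgOfEq R hJ₃).trans
      (DoubleQuot.quotQuotEquivQuotSupₐ R (Ideal.span (Set.range G)) (Ideal.span (Set.range f')))
  -- step 4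
  have h4 : Ideal.span (Set.range G) ⊔ Ideal.span (Set.range f') =
      Ideal.span (Set.range (Fin.append G f')) := by
    rw [range_fin_append, Ideal.span_union]
  let ε₄ := Ideal.quotientEquivAlgOfEq R h4
  exact ⟨(((ε₁.restrictScalars R).trans ε₂).trans ε₃).trans ε₄⟩

end Pres


theorem numeric_aux (N c s : ℕ) (hcN : c ≤ N) (d : WithBot ℕ∞)
    (h : ((N - c : ℕ) : WithBot ℕ∞) = (s : WithBot ℕ∞) + d) :
    c + s ≤ N ∧ d ≤ ((N - (c + s) : ℕ) : WithBot ℕ∞) := by
  induction d using WithBot.recBotCoe with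
  | bot =>
    exfalso
    rw [WithBot.add_bot] at h
    exact WithBot.natCast_ne_bot _ h
  | coe d' =>
    induction d' using ENat.recTopCoe with
    | top =>
      exfalso
      have h1 : ((s : WithBot ℕ∞) + ((⊤ : ℕ∞) : WithBot ℕ∞)) = ((⊤ : ℕ∞) : WithBot ℕ∞) := by
        rw [show (s : WithBot ℕ∞) = ((s : ℕ∞) : WithBot ℕ∞) from rfl, ← WithBot.coe_add]
        simp
      rw [h1, show ((N - c : ℕ) : WithBot ℕ∞) = (((N - c : ℕ) : ℕ∞) : WithBot ℕ∞) from rfl,
        WithBot.coe_inj] at h
      exact ENat.natCast_ne_top _ h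
    | coe k =>
      have h1 : (((N - c : ℕ) : ℕ∞) : WithBot ℕ∞) = (((s + k : ℕ) : ℕ∞) : WithBot ℕ∞) := by
        rw [Nat.cast_add, WithBot.coe_add]
        exact h
      have h2 : N - c = s + k := by
        rw [WithBot.coe_inj] at h1
        exact_mod_cast h1
      refine ⟨by omega, ?_⟩
      have h3 : k ≤ N - (c + s) := by omega
      show ((k : ℕ∞) : WithBot ℕ∞) ≤ (((N - (c + s) : ℕ) : ℕ∞) : WithBot ℕ∞)
      rw [WithBot.coe_le_coe]
      exact_mod_cast h3

end Groth.Agent.Lib.Helper7.Synt
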