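import Mathlib
import Groth.Agent.Lib.Helper7Lift2
import Groth.Agent.Lib.Helper7Synt32
import Groth.Agent.Lib.Helper7Synt35

/-! # Cutting a syntomic algebra down to a syntomic lift (helper7)

`exists_syntomic_cut`: if `D` is syntomic over `R`, `D/ID ≃ A₁[t_1..t_s]` with `A₁` syntomic over
`R/I` and `f_i ↦ t_i`, then a localization of `D/(f)` is a syntomic `R`-algebra lifting `A₁`.
-/

set_option autoImplicit false
set_option linter.style.haveILetI false
set_option linter.unusedSectionVars false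
universe u
open MvPolynomial Groth.Agent.Lib.Helper4.FibDim TensorProduct

namespace Groth.Agent.Lib.Helper7.Synt


section Cut

variable (R : Type u) [CommRing R] (I : Ideal R) (D A₁ : Type u) [CommRing D] [CommRing A₁]
  [Algebra R D] [Algebra (R ⧸ I) A₁] [Algebra R A₁] [IsScalarTower R (R ⧸ I) A₁]

variable {s : ℕ} (f : Fin s → D)

theorem le_of_chart {S : Type u} [CommRing S] [Algebra R S] (q : PrimeSpectrum S) (g : S)
    (hg : g ∉ q.asIdeal) {N c : ℕ}
    (G : Fin c → MvPolynomial (Fin N) R) (hG : Synt.IsRelGCI R N c G)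
    (e : Localization.Away g ≃ₐ[R] Synt.RelGCIRing R N c G) : c ≤ N := by
  haveI : q.asIdeal.IsPrime := q.2
  haveI hq₀ : (q.asIdeal.map (algebraMap S (Localization.Away g))).IsPrime :=
    isPrime_map_away q.asIdeal g hg
  exact le_of_isRelGCI_of_prime R N c G hG
    ⟨(q.asIdeal.map (algebraMap S (Localization.Away g))).comap e.symm.toRingEquiv.toRingHom,
      Ideal.comap_isPrime _ _⟩

local notation "𝔣" => Ideal.span (Set.range f)

/-- the pointwise step: `D/(f)` is syntomic over `R` near the primes containing `I`. -/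
theorem exists_syntomic_away_cut (hD : Synt.IsSyntomic R D) (hA₁ : Synt.IsSyntomic (R ⧸ I) A₁)
    (Ψ : D →ₐ[R] MvPolynomial (Fin s) A₁) (hΨ : Function.Surjective Ψ)
    (hker : RingHom.ker Ψ.toRingHom = I.map (algebraMap R D))
    (Θ : (D ⧸ Ideal.span (Set.range f)) →ₐ[R] A₁)
    (hΘmk : ∀ d, Θ (Ideal.Quotient.mk _ d) = aeval (fun _ : Fin s => (0 : A₁)) (Ψ d))
    (hΘsurj : Function.Surjective Θ)
    (hΘker : RingHom.ker Θ.toRingHom = I.map (algebraMap R (D ⧸ Ideal.span (Set.range f))))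
    (q₀ : PrimeSpectrum A₁) :
    ∃ g : D ⧸ Ideal.span (Set.range f), g ∉ (PrimeSpectrum.comap Θ.toRingHom q₀).asIdeal ∧
      Synt.IsSyntomic R (Localization.Away g) := by
  haveI : Algebra.FinitePresentation (R ⧸ I) A₁ := hA₁.2.1
  let ev0r : MvPolynomial (Fin s) A₁ →+* A₁ :=
    (aeval (fun _ : Fin s => (0 : A₁)) : MvPolynomial (Fin s) A₁ →ₐ[A₁] A₁).toRingHom
  set 𝔮 : PrimeSpectrum (D ⧸ Ideal.span (Set.range f)) := PrimeSpectrum.comap Θ.toRingHom q₀ with h𝔮
  set Q : PrimeSpectrum (MvPolynomial (Fin s) A₁) := PrimeSpectrum.comap ev0r q₀ with hQ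
  set 𝔮D : PrimeSpectrum D := PrimeSpectrum.comap (Ideal.Quotient.mk 𝔣) 𝔮 with h𝔮D
  have h𝔮D' : 𝔮D = PrimeSpectrum.comap Ψ.toRingHom Q := by
    apply PrimeSpectrum.ext
    ext d
    show Θ (Ideal.Quotient.mk 𝔣 d) ∈ q₀.asIdeal ↔ ev0r (Ψ d) ∈ q₀.asIdeal
    rw [hΘmk]
    rfl
  obtain ⟨g', hg', N, c, G, hG, ⟨e₁⟩⟩ := exists_relGCI_away_of_isSyntomic R D hD 𝔮D
  have hdimD := fibLD_eq_of_chart R 𝔮D g' hg' G hG e₁
  have hcN : c ≤ N := le_of_chart R 𝔮D g' hg' G hG e₁
  have h1 : fibLD (PrimeSpectrum.comap (algebraMap R (MvPolynomial (Fin s) A₁))) Q =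
      fibLD (PrimeSpectrum.comap (algebraMap R D)) 𝔮D := by
    rw [h𝔮D']
    exact fibLD_comap_of_surjective Ψ hΨ I hker Q
  have h2 := fibLD_comap_quotient_base R I (MvPolynomial (Fin s) A₁) Q
  have h3 := fibLD_comap_mvPolynomial_base (R ⧸ I) A₁ s Q
  have h4 : PrimeSpectrum.comap (C : A₁ →+* MvPolynomial (Fin s) A₁) Q = q₀ := by
    apply PrimeSpectrum.ext
    ext a
    show ev0r (C a) ∈ q₀.asIdeal ↔ a ∈ q₀.asIdeal
    have : ev0r (C a) = a := by
      show aeval (fun _ : Fin s => (0 : A₁)) (C a) = a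
      rw [aeval_C]
      rfl
    rw [this]
  have h5 := fibLD_comap_quotient_base R I A₁ q₀
  have h6 : fibLD (PrimeSpectrum.comap (algebraMap R A₁)) q₀ =
      fibLD (PrimeSpectrum.comap (algebraMap R (D ⧸ 𝔣))) 𝔮 :=
    fibLD_comap_of_surjective Θ hΘsurj I hΘker q₀
  have hsum : ((N - c : ℕ) : WithBot ℕ∞) =
      (s : WithBot ℕ∞) + fibLD (PrimeSpectrum.comap (algebraMap R (D ⧸ 𝔣))) 𝔮 := by
    rw [← hdimD, ← h1, h2, h3, h4, ← h5, h6]
  obtain ⟨hle, hd⟩ := numeric_aux N c s hcN _ hsum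
  obtain ⟨F', ⟨ε⟩⟩ := exists_presentation_quotient_away R g' G e₁ f
  have hg'' : Ideal.Quotient.mk 𝔣 g' ∉ 𝔮.asIdeal := hg'
  exact exists_syntomic_away_of_fibLD_le R 𝔮 _ hg'' F' hle ε hd

theorem mem_span_X_of_aeval_zero (p : MvPolynomial (Fin s) A₁)
    (hp : aeval (fun _ : Fin s => (0 : A₁)) p = 0) :
    p ∈ Ideal.span (Set.range (X : Fin s → MvPolynomial (Fin s) A₁)) := by
  have h0 : constantCoeff p = 0 := by
    rw [aeval_zero'] at hp
    exact hp
  have h1 : p ∈ MvPolynomial.idealOfVars (Fin s) A₁ ^ 1 := by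
    rw [MvPolynomial.mem_pow_idealOfVars_iff']
    intro x hx
    have hx0 : x = 0 := by
      have : x.degree = 0 := by omega
      exact (Finsupp.degree_eq_zero_iff x).mp this
    rw [hx0]
    exact h0
  rw [pow_one] at h1
  exact h1

/-- **cutting down**: if `D` is syntomic over `R`, `D/ID ≃ A₁[t_1..t_s]` with `A₁` syntomic over
`R/I` and `f_i ↦ t_i`, then a localization of `D/(f)` is a syntomic lift of `A₁`. -/
theorem exists_syntomic_cut (hD : Synt.IsSyntomic R D) (hA₁ : Synt.IsSyntomic (R ⧸ I) A₁)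
    (Ψ : D →ₐ[R] MvPolynomial (Fin s) A₁) (hΨ : Function.Surjective Ψ)
    (hker : RingHom.ker Ψ.toRingHom = I.map (algebraMap R D)) (hf : ∀ i, Ψ (f i) = X i) :
    ∃ (A : Type u) (_ : CommRing A) (_ : Algebra R A), Synt.IsSyntomic R A ∧
      Nonempty ((A ⧸ I.map (algebraMap R A)) ≃ₐ[R ⧸ I] A₁) := by
  classical
  let ev0 : MvPolynomial (Fin s) A₁ →ₐ[R] A₁ :=
    (aeval (fun _ : Fin s => (0 : A₁)) : MvPolynomial (Fin s) A₁ →ₐ[A₁] A₁).restrictScalars R
  have hev0 : ∀ p, ev0 p = aeval (fun _ : Fin s => (0 : A₁)) p := fun p => rfl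
  let Θ₀ : D →ₐ[R] A₁ := ev0.comp Ψ
  have hΘ₀f : ∀ a ∈ Ideal.span (Set.range f), Θ₀ a = 0 := by
    intro a ha
    have hle : Ideal.span (Set.range f) ≤ RingHom.ker Θ₀.toRingHom := by
      rw [Ideal.span_le]
      rintro _ ⟨i, rfl⟩
      show ev0 (Ψ (f i)) = 0
      rw [hf, hev0, aeval_X]
    exact hle ha
  let Θ : (D ⧸ Ideal.span (Set.range f)) →ₐ[R] A₁ := Ideal.Quotient.liftₐ _ Θ₀ hΘ₀f
  have hΘmk : ∀ d, Θ (Ideal.Quotient.mk _ d) = aeval (fun _ : Fin s => (0 : A₁)) (Ψ d) :=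
    fun d => rfl
  have hΘsurj : Function.Surjective Θ := by
    intro a
    obtain ⟨d, hd⟩ := hΨ (C a)
    refine ⟨Ideal.Quotient.mk _ d, ?_⟩
    rw [hΘmk, hd, aeval_C]
    rfl
  have hΘker : RingHom.ker Θ.toRingHom =
      I.map (algebraMap R (D ⧸ Ideal.span (Set.range f))) := by
    apply le_antisymm
    · intro x hx
      obtain ⟨d, rfl⟩ := Ideal.Quotient.mk_surjective x
      have h0 : aeval (fun _ : Fin s => (0 : A₁)) (Ψ d) = 0 := hx
      have h1 := mem_span_X_of_aeval_zero A₁ (Ψ d) h0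
      obtain ⟨p, hp⟩ := Ideal.mem_span_range_iff_exists_fun.mp h1
      choose d' hd' using fun i => hΨ (p i)
      have h2 : d - ∑ i, d' i * f i ∈ RingHom.ker Ψ.toRingHom := by
        rw [RingHom.mem_ker]
        show Ψ (d - ∑ i, d' i * f i) = 0
        rw [map_sub, map_sum, ← hp, sub_eq_zero]
        refine Finset.sum_congr rfl fun i _ => ?_
        rw [map_mul, hd', hf]
      rw [hker] at h2
      have h3 : Ideal.Quotient.mk (Ideal.span (Set.range f)) d =
          Ideal.Quotient.mk _ (d - ∑ i, d' i * f i) := by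
        have hsm : ∑ i, d' i * f i ∈ Ideal.span (Set.range f) :=
          Ideal.sum_mem _ fun i _ => Ideal.mul_mem_left _ _ (Ideal.subset_span (Set.mem_range_self i))
        rw [map_sub, (Ideal.Quotient.eq_zero_iff_mem).mpr hsm, sub_zero]
      rw [h3]
      have h4 : (I.map (algebraMap R D)).map (Ideal.Quotient.mk (Ideal.span (Set.range f))) =
          I.map (algebraMap R (D ⧸ Ideal.span (Set.range f))) := by
        rw [Ideal.map_map]
        rfl
      rw [← h4]
      exact Ideal.mem_map_of_mem _ h2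
    · rw [Ideal.map_le_iff_le_comap]
      intro r hr
      rw [Ideal.mem_comap, RingHom.mem_ker]
      show Θ (algebraMap R _ r) = 0
      rw [Θ.commutes, IsScalarTower.algebraMap_apply R (R ⧸ I) A₁, Ideal.Quotient.algebraMap_eq,
        Ideal.Quotient.eq_zero_iff_mem.mpr hr, map_zero]
  have hpt := exists_syntomic_away_cut R I D A₁ f hD hA₁ Ψ hΨ hker Θ hΘmk hΘsurj hΘker
  -- gather
  let 𝔞 : Ideal (D ⧸ Ideal.span (Set.range f)) :=
    Ideal.span {g | Synt.IsSyntomic R (Localization.Away g)}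
  have hsup : I.map (algebraMap R (D ⧸ Ideal.span (Set.range f))) ⊔ 𝔞 = ⊤ := by
    by_contra hne
    obtain ⟨M, hM, hle⟩ := Ideal.exists_le_maximal _ hne
    have hker_le : RingHom.ker Θ.toRingHom ≤ M := hΘker ▸ le_sup_left.trans hle
    have hmem : (⟨M, hM.isPrime⟩ : PrimeSpectrum (D ⧸ Ideal.span (Set.range f))) ∈
        Set.range (PrimeSpectrum.comap Θ.toRingHom) := by
      rw [_root_.range_comap_of_surjective _ _ hΘsurj]
      exact hker_le
    obtain ⟨q₀, hq₀⟩ := hmem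
    obtain ⟨g, hg, hsyn⟩ := hpt q₀
    rw [hq₀] at hg
    exact hg (hle (le_sup_right (a := I.map (algebraMap R (D ⧸ Ideal.span (Set.range f))))
      (Ideal.subset_span hsyn)))
  obtain ⟨i, hi, a, ha, hia⟩ := Submodule.mem_sup.mp ((Ideal.eq_top_iff_one _).mp hsup)
  have hsynA : Synt.IsSyntomic R (Localization.Away a) := by
    refine isSyntomic_away_of_forall_exists R a fun q haq => ?_
    by_contra hcon
    push Not at hcon
    apply haq
    have hle : 𝔞 ≤ q.asIdeal := by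
      rw [Ideal.span_le]
      intro g hg
      by_contra hgq
      exact hcon g hgq hg
    exact hle ha
  refine ⟨Localization.Away a, inferInstance, inferInstance, hsynA, ?_⟩
  -- the isomorphism
  have ha1 : Ideal.Quotient.mk (I.map (algebraMap R (D ⧸ Ideal.span (Set.range f)))) a = 1 := by
    have : Ideal.Quotient.mk (I.map (algebraMap R (D ⧸ Ideal.span (Set.range f)))) (i + a) =
        Ideal.Quotient.mk _ a := by
      rw [map_add, Ideal.Quotient.eq_zero_iff_mem.mpr hi, zero_add]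
    rw [← this, hia, map_one]
  let t4a := Algebra.TensorProduct.quotIdealMapEquivQuotTensor (Localization.Away a) I
  obtain ⟨t2⟩ := nonempty_tensor_away_equiv R I (D ⧸ Ideal.span (Set.range f)) a ha1
  let t4 := Algebra.TensorProduct.quotIdealMapEquivQuotTensor (D ⧸ Ideal.span (Set.range f)) I
  let t5 : ((D ⧸ Ideal.span (Set.range f)) ⧸
      I.map (algebraMap R (D ⧸ Ideal.span (Set.range f)))) ≃ₐ[R] A₁ :=
    (Ideal.quotientEquivAlgOfEq R hΘker.symm).trans (Ideal.quotientKerAlgEquivOfSurjective hΘsurj)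
  let t5' : ((D ⧸ Ideal.span (Set.range f)) ⧸
      I.map (algebraMap R (D ⧸ Ideal.span (Set.range f)))) ≃ₐ[R ⧸ I] A₁ :=
    AlgEquiv.extendScalarsOfSurjective Ideal.Quotient.mk_surjective t5
  exact ⟨((t4a.trans t2.symm).trans t4.symm).trans t5'⟩

end Cut


end Groth.Agent.Lib.Helper7.Synt
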