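import Groth.Agent.Lib.Helper20EtSection

/-!
# Étale lifting of idempotent matrices and finite projective modules (helper20)
-/

set_option autoImplicit false
universe u

open TensorProduct Polynomial

namespace Groth.Agent.Lib.Helper20.EtProj

/-- Étale lifting of idempotent matrices modulo an ideal. -/
theorem exists_etale_lift_idempotent_matrix {A : Type u} [CommRing A] (I : Ideal A) {n : ℕ}
    (p : Matrix (Fin n) (Fin n) (A ⧸ I)) (hp : IsIdempotentElem p) :
    ∃ (A' : Type u) (_ : CommRing A') (_ : Algebra A A'), Algebra.Etale A A' ∧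
      Function.Bijective (algebraMap (A ⧸ I) (A' ⧸ I.map (algebraMap A A'))) ∧
      ∃ e' : Matrix (Fin n) (Fin n) A', IsIdempotentElem e' ∧
        e'.map (Ideal.Quotient.mk (I.map (algebraMap A A'))) =
          p.map (algebraMap (A ⧸ I) (A' ⧸ I.map (algebraMap A A'))) := by
  classical
  rcases subsingleton_or_nontrivial A with hA | hA
  · have hsub' : Subsingleton (A ⧸ I.map (algebraMap A A)) := inferInstance
    have hsub : Subsingleton (A ⧸ I) := inferInstance
    exact ⟨A, inferInstance, inferInstance, inferInstance, ⟨fun x y _ => Subsingleton.elim x y,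
      fun z => ⟨0, Subsingleton.elim _ _⟩⟩, 0, IsIdempotentElem.zero, Subsingleton.elim _ _⟩
  -- (i) lift
  let M : Matrix (Fin n) (Fin n) A := fun i j => (Ideal.Quotient.mk_surjective (p i j)).choose
  have hM : M.map (Ideal.Quotient.mk I) = p := by
    ext i j
    exact (Ideal.Quotient.mk_surjective (p i j)).choose_spec
  -- (ii)
  set z : Matrix (Fin n) (Fin n) A := M * (M - 1) with hz
  have hzmap : z.map (Ideal.Quotient.mk I) = 0 := by
    have : z.map (Ideal.Quotient.mk I) = (Ideal.Quotient.mk I).mapMatrix z := rfl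
    rw [this, hz, map_mul, map_sub, map_one]
    have : (Ideal.Quotient.mk I).mapMatrix M = p := hM
    rw [this, mul_sub, mul_one, hp.eq, sub_self]
  -- (iii)
  set χ := z.charpoly with hχ
  have hχmap : χ.map (Ideal.Quotient.mk I) = X ^ n := by
    rw [hχ, ← Matrix.charpoly_map, hzmap, Matrix.charpoly_zero, Fintype.card_fin]
  have hχz : aeval z χ = 0 := Matrix.aeval_self_charpoly z
  -- (iv)
  set f : A[X] := (χ * X).comp (X * (X - C 1)) with hf
  have hfmonic : f.Monic := by
    refine ((Matrix.charpoly_monic z).mul monic_X).comp (monic_X.mul (monic_X_sub_C 1)) ?_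
    rw [monic_X.natDegree_mul (monic_X_sub_C 1)]
    simp
  have hfM : aeval M f = 0 := by
    rw [hf, aeval_comp]
    simp only [map_sub, aeval_X, map_mul, aeval_C, map_one]
    rw [← hz, hχz, zero_mul]
  have hfmap : f.map (Ideal.Quotient.mk I) = X ^ (n + 1) * (X - 1) ^ (n + 1) := by
    rw [hf, Polynomial.map_comp, Polynomial.map_mul, hχmap, Polynomial.map_X, Polynomial.map_mul,
      Polynomial.map_sub, Polynomial.map_X, Polynomial.map_C, map_one]
    simp only [mul_comp, pow_comp, X_comp, C_1]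
    rw [mul_pow]
    ring
  -- (v)
  have hcop : IsCoprime (X ^ (n + 1) : (A ⧸ I)[X]) ((X - 1) ^ (n + 1)) := by
    apply IsCoprime.pow
    exact ⟨1, -1, by ring⟩
  have hm : ((X : (A ⧸ I)[X]) - 1).Monic := by simpa using monic_X_sub_C (1 : A ⧸ I)
  obtain ⟨A', _, _, hét, hbij, g', h', hg', hh', hfgh, ⟨u, v, huv⟩, hg'map, hh'map⟩ :=
    EtSection.exists_etale_lift_factorization I f hfmonic (X ^ (n + 1)) ((X - 1) ^ (n + 1))
      (monic_X_pow _) (hm.pow _) hcop hfmap
  refine ⟨A', _, _, hét, hbij, ?_⟩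
  set J' : Ideal A' := I.map (algebraMap A A') with hJ'
  -- (vi)
  set M' : Matrix (Fin n) (Fin n) A' := M.map (algebraMap A A') with hM'
  have hM'f : aeval M' (f.map (algebraMap A A')) = 0 := by
    rw [Polynomial.aeval_map_algebraMap]
    have : M' = (Algebra.ofId A A').mapMatrix M := rfl
    rw [this, Polynomial.aeval_algHom_apply, hfM, map_zero]
  have hgh : aeval M' g' * aeval M' h' = 0 := by rw [← map_mul, ← hfgh, hM'f]
  have h1 : aeval M' (u * g') + aeval M' (v * h') = 1 := by rw [← map_add, huv, map_one]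
  have hidem : IsIdempotentElem (aeval M' (u * g')) := by
    have h2 : aeval M' (u * g') * aeval M' (v * h') = 0 := by
      rw [← map_mul]
      have : u * g' * (v * h') = u * v * (g' * h') := by ring
      rw [this, map_mul, map_mul (aeval M') g', hgh, mul_zero]
    have h3 : aeval M' (u * g') = 1 - aeval M' (v * h') := eq_sub_of_add_eq h1
    show aeval M' (u * g') * aeval M' (u * g') = aeval M' (u * g')
    nth_rewrite 2 [h3]
    rw [mul_sub, mul_one, h2, sub_zero]
  refine ⟨aeval M' (u * g'), hidem, ?_⟩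
  -- (vii)
  set N : Matrix (Fin n) (Fin n) (A' ⧸ J') := p.map (algebraMap (A ⧸ I) (A' ⧸ J')) with hN
  have hM'N : M'.map (Ideal.Quotient.mk J') = N := by
    rw [hN, ← hM, hM']
    ext i j
    simp only [Matrix.map_apply]
    rfl
  have hN2 : N * N = N := by
    have : N = (algebraMap (A ⧸ I) (A' ⧸ J')).mapMatrix p := rfl
    rw [this, ← map_mul, hp.eq]
  have hred : ∀ r : A'[X], (aeval M' r).map (Ideal.Quotient.mk J') =
      aeval N (r.map (Ideal.Quotient.mk J')) := by
    intro r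
    have h2 : (aeval M' r).map (Ideal.Quotient.mk J') =
        (Ideal.Quotient.mkₐ A' J').mapMatrix (aeval M' r) := rfl
    rw [h2, ← Polynomial.aeval_algHom_apply]
    have h3 : (Ideal.Quotient.mkₐ A' J').mapMatrix M' = N := hM'N
    rw [h3]
    exact (Polynomial.aeval_map_algebraMap (A' ⧸ J') N r).symm
  have hg'N : aeval N (g'.map (Ideal.Quotient.mk J')) = N := by
    rw [hg'map, Polynomial.map_pow, Polynomial.map_X, map_pow, aeval_X]
    exact IsIdempotentElem.pow_succ_eq n hN2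
  have hh'N : aeval N (h'.map (Ideal.Quotient.mk J')) * N = 0 := by
    rw [hh'map, Polynomial.map_pow, Polynomial.map_sub, Polynomial.map_X, Polynomial.map_one,
      map_pow, map_sub, aeval_X, map_one, pow_succ, mul_assoc]
    have : (N - 1) * N = 0 := by rw [sub_mul, hN2, one_mul, sub_self]
    rw [this, mul_zero]
  set x := (aeval M' (u * g')).map (Ideal.Quotient.mk J') with hx
  have hx1 : x = x * N := by
    rw [hx, hred, Polynomial.map_mul, map_mul, hg'N, mul_assoc, hN2]
  have hx2 : (1 - x) * N = 0 := by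
    have h1' : x + (aeval M' (v * h')).map (Ideal.Quotient.mk J') = 1 := by
      have := congrArg (Ideal.Quotient.mk J').mapMatrix h1
      rwa [map_add, map_one] at this
    have : 1 - x = aeval N ((v * h').map (Ideal.Quotient.mk J')) := by
      rw [← hred, ← h1', add_sub_cancel_left]
    rw [this, Polynomial.map_mul, map_mul, mul_assoc, hh'N, mul_zero]
  rw [sub_mul, one_mul, sub_eq_zero] at hx2
  rw [hx1, ← hx2]

section Retract

/-- Two retracts of the same module with the same associated idempotent are isomorphic. -/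
noncomputable def equivOfRetracts {S F Q₁ Q₂ : Type*} [CommRing S] [AddCommGroup F] [Module S F]
    [AddCommGroup Q₁] [Module S Q₁] [AddCommGroup Q₂] [Module S Q₂]
    (ι₁ : Q₁ →ₗ[S] F) (π₁ : F →ₗ[S] Q₁) (h₁ : π₁ ∘ₗ ι₁ = LinearMap.id)
    (ι₂ : Q₂ →ₗ[S] F) (π₂ : F →ₗ[S] Q₂) (h₂ : π₂ ∘ₗ ι₂ = LinearMap.id)
    (h : ι₁ ∘ₗ π₁ = ι₂ ∘ₗ π₂) : Q₁ ≃ₗ[S] Q₂ :=
  LinearEquiv.ofLinear (π₂ ∘ₗ ι₁) (π₁ ∘ₗ ι₂)
    (by
      calc (π₂ ∘ₗ ι₁) ∘ₗ (π₁ ∘ₗ ι₂) = π₂ ∘ₗ (ι₁ ∘ₗ π₁) ∘ₗ ι₂ := by
            simp only [LinearMap.comp_assoc]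
        _ = (π₂ ∘ₗ ι₂) ∘ₗ (π₂ ∘ₗ ι₂) := by rw [h]; simp only [LinearMap.comp_assoc]
        _ = LinearMap.id := by rw [h₂]; rfl)
    (by
      calc (π₁ ∘ₗ ι₂) ∘ₗ (π₂ ∘ₗ ι₁) = π₁ ∘ₗ (ι₂ ∘ₗ π₂) ∘ₗ ι₁ := by
            simp only [LinearMap.comp_assoc]
        _ = (π₁ ∘ₗ ι₁) ∘ₗ (π₁ ∘ₗ ι₁) := by rw [← h]; simp only [LinearMap.comp_assoc]
        _ = LinearMap.id := by rw [h₁]; rfl)

/-- Base change of a retract of a finite free module. -/
theorem exists_baseChange_retract {R S : Type*} [CommRing R] [CommRing S] [Algebra R S] {n : ℕ}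
    {P : Type*} [AddCommGroup P] [Module R P]
    (ι : P →ₗ[R] (Fin n → R)) (π : (Fin n → R) →ₗ[R] P) (h : π ∘ₗ ι = LinearMap.id) :
    ∃ (ι' : S ⊗[R] P →ₗ[S] (Fin n → S)) (π' : (Fin n → S) →ₗ[S] S ⊗[R] P),
      π' ∘ₗ ι' = LinearMap.id ∧
      ∀ i j, ι' (π' (Pi.single j 1)) i = algebraMap R S (ι (π (Pi.single j 1)) i) := by
  classical
  let red : (Fin n → R) →ₗ[R] (Fin n → S) := (Algebra.linearMap R S).compLeft (Fin n)
  let ι' : S ⊗[R] P →ₗ[S] (Fin n → S) := LinearMap.liftBaseChange S (red ∘ₗ ι)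
  let π' : (Fin n → S) →ₗ[S] S ⊗[R] P :=
    (Pi.basisFun S (Fin n)).constr S (fun j => (1 : S) ⊗ₜ[R] π (Pi.single j 1))
  have hπ' : ∀ j, π' (Pi.single j 1) = (1 : S) ⊗ₜ[R] π (Pi.single j 1) := by
    intro j
    have := (Pi.basisFun S (Fin n)).constr_basis S
      (fun j => (1 : S) ⊗ₜ[R] π (Pi.single j 1)) j
    rwa [Pi.basisFun_apply] at this
  have hι' : ∀ x : P, ι' ((1 : S) ⊗ₜ[R] x) = red (ι x) := by
    intro x
    simp [ι']
  refine ⟨ι', π', ?_, ?_⟩
  · apply TensorProduct.AlgebraTensorModule.ext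
    intro s x
    have hs : s ⊗ₜ[R] x = s • ((1 : S) ⊗ₜ[R] x) := by
      rw [TensorProduct.smul_tmul', smul_eq_mul, mul_one]
    simp only [LinearMap.comp_apply, LinearMap.id_apply]
    rw [hs, map_smul, map_smul, hι']
    congr 1
    have hsum : red (ι x) = ∑ j, (algebraMap R S (ι x j)) • (Pi.single j (1 : S) : Fin n → S) := by
      ext i
      simp [red, Finset.sum_apply, Pi.single_apply, Algebra.algebraMap_eq_smul_one]
    rw [hsum, map_sum]
    simp_rw [map_smul, hπ']
    have h2 : ∀ j, (algebraMap R S (ι x j)) • ((1 : S) ⊗ₜ[R] π (Pi.single j 1)) =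
        (1 : S) ⊗ₜ[R] ((ι x j) • π (Pi.single j 1)) := by
      intro j
      rw [TensorProduct.tmul_smul, algebraMap_smul]
    simp_rw [h2]
    rw [← TensorProduct.tmul_sum]
    congr 1
    simp_rw [← map_smul]
    rw [← map_sum]
    have h3 : ∑ j, (ι x j) • (Pi.single j (1 : R) : Fin n → R) = ι x := by
      ext i
      simp [Finset.sum_apply, Pi.single_apply]
    rw [h3]
    exact LinearMap.congr_fun h x
  · intro i j
    rw [hπ', hι']
    rfl

end Retract

/-- Étale lifting of finite projective modules modulo an ideal (Stacks 15.9). -/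
theorem exists_etale_lift_finite_projective {A : Type u} [CommRing A] (I : Ideal A) (P : Type u)
    [AddCommGroup P] [Module (A ⧸ I) P] [Module.Finite (A ⧸ I) P] [Module.Projective (A ⧸ I) P] :
    ∃ (A' : Type u) (_ : CommRing A') (_ : Algebra A A'), Algebra.Etale A A' ∧
      Function.Bijective (algebraMap (A ⧸ I) (A' ⧸ I.map (algebraMap A A'))) ∧
      ∃ (P' : Type u) (_ : AddCommGroup P') (_ : Module A' P'), Module.Finite A' P' ∧
        Module.Projective A' P' ∧
        Nonempty (((A' ⧸ I.map (algebraMap A A')) ⊗[A'] P') ≃ₗ[A' ⧸ I.map (algebraMap A A')]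
          ((A' ⧸ I.map (algebraMap A A')) ⊗[A ⧸ I] P)) := by
  classical
  obtain ⟨n, r, s, -, -, hrs⟩ := Module.Finite.exists_comp_eq_id_of_projective (A ⧸ I) P
  let p : Matrix (Fin n) (Fin n) (A ⧸ I) := LinearMap.toMatrix' (s ∘ₗ r)
  have hp : IsIdempotentElem p := by
    show p * p = p
    rw [← LinearMap.toMatrix'_comp]
    congr 1
    calc (s ∘ₗ r) ∘ₗ (s ∘ₗ r) = s ∘ₗ (r ∘ₗ s) ∘ₗ r := by simp only [LinearMap.comp_assoc]
      _ = s ∘ₗ r := by rw [hrs]; rfl
  obtain ⟨A', _, _, hét, hbij, e', he', he'map⟩ := exists_etale_lift_idempotent_matrix I p hp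
  refine ⟨A', _, _, hét, hbij, ?_⟩
  let E : (Fin n → A') →ₗ[A'] (Fin n → A') := Matrix.toLin' e'
  have hEE : ∀ y, E (E y) = E y := by
    intro y
    simp only [E, Matrix.toLin'_apply, Matrix.mulVec_mulVec, he'.eq]
  let ι : LinearMap.range E →ₗ[A'] (Fin n → A') := (LinearMap.range E).subtype
  let π : (Fin n → A') →ₗ[A'] LinearMap.range E := E.rangeRestrict
  have hπι : π ∘ₗ ι = LinearMap.id := by
    ext ⟨x, y, rfl⟩ : 1
    apply Subtype.ext
    exact hEE y
  refine ⟨LinearMap.range E, inferInstance, inferInstance,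
    Module.Finite.of_surjective π E.surjective_rangeRestrict,
    Module.Projective.of_split ι π hπι, ?_⟩
  obtain ⟨ι₁, π₁, h₁, h₁'⟩ :=
    exists_baseChange_retract (S := A' ⧸ I.map (algebraMap A A')) ι π hπι
  obtain ⟨ι₂, π₂, h₂, h₂'⟩ :=
    exists_baseChange_retract (S := A' ⧸ I.map (algebraMap A A')) s r hrs
  refine ⟨equivOfRetracts ι₁ π₁ h₁ ι₂ π₂ h₂ ?_⟩
  apply (Pi.basisFun (A' ⧸ I.map (algebraMap A A')) (Fin n)).ext
  intro j
  ext i
  simp only [Pi.basisFun_apply, LinearMap.comp_apply]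
  rw [h₁', h₂']
  have h3 := congr_fun (congr_fun he'map i) j
  simp only [Matrix.map_apply] at h3
  have h4 : ι (π (Pi.single j 1)) i = e' i j := by
    simp [ι, π, E, Matrix.toLin'_apply, Matrix.mulVec_single_one]
  have h5 : s (r (Pi.single j 1)) i = p i j := by
    simp [p, LinearMap.toMatrix'_apply]
  rw [h4, h5]
  exact h3

end Groth.Agent.Lib.Helper20.EtProj
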