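import Mathlib
import Groth.Agent.Lib.Helper7Synt53

/-! # The algebra `D = C[z']/(ε z')` with `D/ID ≃ A₁[t]` (helper7)

For an idempotent matrix `e` over `A₁`, `T₀ = SymRing e = A₁[z]/((1 - e) z)`, a surjection
`ϑ : C → T₀`, an idempotent lift `ε` of `e` and lifts `w_i` of `z_i`, the ring
`D = SymRing (1 - ε) = C[z']/(ε z')` satisfies `D/(ker ϑ) D ≃ A₁[t_1..t_s]` via `buildΨ`, and
`buildF i = z'_i + w_i ↦ t_i`.
-/

set_option autoImplicit false
set_option linter.style.haveILetI false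
set_option linter.unusedSectionVars false
universe u
open MvPolynomial TensorProduct

namespace Groth.Agent.Lib.Helper7.Synt

section Build

variable {A₁ : Type u} [CommRing A₁] {s : ℕ} {e : Matrix (Fin s) (Fin s) A₁}

/-- the linear forms `(e t)_i`. -/
noncomputable def linF (e : Matrix (Fin s) (Fin s) A₁) (i : Fin s) : MvPolynomial (Fin s) A₁ :=
  ∑ j, C (e i j) * X j

theorem sum_C_mul_linF (he : ∀ i l, ∑ j, e i j * e j l = e i l) (i : Fin s) :
    ∑ j, C (e i j) * linF e j = linF e i := by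
  unfold linF
  simp only [Finset.mul_sum]
  rw [Finset.sum_comm]
  refine Finset.sum_congr rfl fun l _ => ?_
  rw [← he i l, map_sum, Finset.sum_mul]
  refine Finset.sum_congr rfl fun j _ => ?_
  rw [map_mul]
  ring

theorem symLin_one_sub (ε : Matrix (Fin s) (Fin s) A₁) (i : Fin s) :
    symLin (1 - ε) i = linF ε i := by
  classical
  unfold symLin linF
  have : ∑ j, C ((1 - ε) i j) * (X j : MvPolynomial (Fin s) A₁) =
      X i - ∑ j, C (ε i j) * X j := by
    simp only [Matrix.sub_apply, C_sub, sub_mul, Finset.sum_sub_distrib]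
    congr 1
    simp [Matrix.one_apply]
  rw [this, sub_sub_cancel]

theorem one_sub_idem (ε : Matrix (Fin s) (Fin s) A₁) (hε : ∀ i l, ∑ j, ε i j * ε j l = ε i l) :
    ∀ i l, ∑ j, (1 - ε) i j * (1 - ε) j l = (1 - ε) i l := by
  have h1 : ε * ε = ε := by
    ext i l
    rw [Matrix.mul_apply]
    exact hε i l
  have h2 : (1 - ε) * (1 - ε) = 1 - ε := IsIdempotentElem.one_sub h1
  intro i l
  have := congrFun (congrFun h2 i) l
  rw [Matrix.mul_apply] at this
  exact this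

/-- in `C[z]/(ε z)` the forms `(ε z)_i` vanish. -/
theorem mk_linF_eq_zero {Cc : Type u} [CommRing Cc] (ε : Matrix (Fin s) (Fin s) Cc) (i : Fin s) :
    (Ideal.Quotient.mk (Ideal.span (Set.range (symLin (1 - ε)))) (linF ε i) : SymRing (1 - ε)) = 0 := by
  rw [Ideal.Quotient.eq_zero_iff_mem, ← symLin_one_sub]
  exact Ideal.subset_span ⟨i, rfl⟩

theorem symSection_mk_X (he : ∀ i l, ∑ j, e i j * e j l = e i l) (i : Fin s) :
    symSection he (Ideal.Quotient.mk _ (X i)) = linF e i := by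
  show aeval _ (X i) = _
  rw [aeval_X]
  rfl

theorem symSection_algebraMap (he : ∀ i l, ∑ j, e i j * e j l = e i l) (a : A₁) :
    symSection he (algebraMap A₁ (SymRing e) a) = C a :=
  (symSection he).commutes a

variable (he : ∀ i l, ∑ j, e i j * e j l = e i l)
  {Cc : Type u} [CommRing Cc] (ϑ : Cc →+* SymRing e)
  (ε : Matrix (Fin s) (Fin s) Cc)

/-- `Ψ₀` on the polynomial ring. -/
noncomputable def buildΨ₀ : MvPolynomial (Fin s) Cc →+* MvPolynomial (Fin s) A₁ :=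
  eval₂Hom ((symSection he).toRingHom.comp ϑ) (fun i => X i - linF e i)

theorem buildΨ₀_C (c : Cc) : buildΨ₀ he ϑ (C c) = symSection he (ϑ c) := by
  unfold buildΨ₀
  rw [eval₂Hom_C]
  rfl

theorem buildΨ₀_X (i : Fin s) : buildΨ₀ he ϑ (X i : MvPolynomial (Fin s) Cc) = X i - linF e i := by
  unfold buildΨ₀
  rw [eval₂Hom_X']

theorem buildΨ₀_linF (hεe : ∀ i j, ϑ (ε i j) = algebraMap A₁ (SymRing e) (e i j)) (i : Fin s) :
    buildΨ₀ he ϑ (linF ε i) = 0 := by
  have hσε : ∀ i j, symSection he (ϑ (ε i j)) = C (e i j) := fun i j => by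
    rw [hεe, symSection_algebraMap]
  unfold linF
  rw [map_sum]
  simp only [map_mul, buildΨ₀_C, buildΨ₀_X, hσε, mul_sub]
  rw [Finset.sum_sub_distrib, sub_eq_zero]
  exact (sum_C_mul_linF he i).symm

/-- `Ψ : C[z']/(ε z') → A₁[t]`. -/
noncomputable def buildΨ (hεe : ∀ i j, ϑ (ε i j) = algebraMap A₁ (SymRing e) (e i j)) :
    SymRing (1 - ε) →+* MvPolynomial (Fin s) A₁ :=
  Ideal.Quotient.lift _ (buildΨ₀ he ϑ) (by
    intro a ha
    have hle : Ideal.span (Set.range (symLin (1 - ε))) ≤ RingHom.ker (buildΨ₀ he ϑ) := by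
      rw [Ideal.span_le]
      rintro _ ⟨i, rfl⟩
      rw [SetLike.mem_coe, RingHom.mem_ker, symLin_one_sub]
      exact buildΨ₀_linF he ϑ ε hεe i
    exact hle ha)

variable (hεe : ∀ i j, ϑ (ε i j) = algebraMap A₁ (SymRing e) (e i j))

theorem buildΨ_mk (p : MvPolynomial (Fin s) Cc) :
    buildΨ he ϑ ε hεe (Ideal.Quotient.mk _ p) = buildΨ₀ he ϑ p := rfl

theorem algebraMap_symRing_eq (c : Cc) :
    algebraMap Cc (SymRing (1 - ε)) c = Ideal.Quotient.mk _ (C c) := rfl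

theorem buildΨ_algebraMap (c : Cc) :
    buildΨ he ϑ ε hεe (algebraMap Cc (SymRing (1 - ε)) c) = symSection he (ϑ c) := by
  rw [algebraMap_symRing_eq, buildΨ_mk, buildΨ₀_C]

variable (w : Fin s → Cc)

/-- the elements `f_i = z'_i + w_i`. -/
noncomputable def buildF (i : Fin s) : SymRing (1 - ε) :=
  Ideal.Quotient.mk _ (X i) + algebraMap Cc (SymRing (1 - ε)) (w i)

theorem buildΨ_F (hw : ∀ i, ϑ (w i) = Ideal.Quotient.mk _ (X i)) (i : Fin s) :
    buildΨ he ϑ ε hεe (buildF ε w i) = X i := by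
  unfold buildF
  rw [map_add, buildΨ_mk, buildΨ₀_X, buildΨ_algebraMap, hw, symSection_mk_X]
  ring

/-- the ideal `K = (ker ϑ) D`. -/
noncomputable def buildK : Ideal (SymRing (1 - ε)) :=
  (RingHom.ker ϑ).map (algebraMap Cc (SymRing (1 - ε)))

theorem buildK_le (d : SymRing (1 - ε)) (hd : d ∈ buildK ϑ ε) : buildΨ he ϑ ε hεe d = 0 := by
  have hle : buildK ϑ ε ≤ RingHom.ker (buildΨ he ϑ ε hεe) := by
    unfold buildK
    rw [Ideal.map_le_iff_le_comap]
    intro c hc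
    rw [Ideal.mem_comap, RingHom.mem_ker, buildΨ_algebraMap, (RingHom.mem_ker).mp hc, map_zero]
  exact hle hd

/-- `Ψ̄ : D/K → A₁[t]`. -/
noncomputable def buildΨb : SymRing (1 - ε) ⧸ buildK ϑ ε →+* MvPolynomial (Fin s) A₁ :=
  Ideal.Quotient.lift (buildK ϑ ε) (buildΨ he ϑ ε hεe) (buildK_le he ϑ ε hεe)

theorem buildΨb_mk (d : SymRing (1 - ε)) :
    buildΨb he ϑ ε hεe (Ideal.Quotient.mk _ d) = buildΨ he ϑ ε hεe d := rfl

variable (hϑ : Function.Surjective ϑ)

/-- `β : T₀ ≃ C/ker ϑ → D/K`. -/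
noncomputable def buildβ : SymRing e →+* SymRing (1 - ε) ⧸ buildK ϑ ε :=
  (Ideal.quotientMap (buildK ϑ ε) (algebraMap Cc (SymRing (1 - ε)))
    (show RingHom.ker ϑ ≤ (buildK ϑ ε).comap (algebraMap Cc (SymRing (1 - ε))) from
      Ideal.le_comap_map)).comp
    (RingHom.quotientKerEquivOfSurjective hϑ).symm.toRingHom

theorem buildβ_apply (c : Cc) :
    buildβ ϑ ε hϑ (ϑ c) = Ideal.Quotient.mk _ (algebraMap Cc (SymRing (1 - ε)) c) := by
  unfold buildβ
  rw [RingHom.comp_apply]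
  show Ideal.quotientMap _ _ _ ((RingHom.quotientKerEquivOfSurjective hϑ).symm (ϑ c)) = _
  rw [RingHom.quotientKerEquivOfSurjective_symm_apply hϑ c]
  rfl

/-- `Φ : A₁[t] → D/K`. -/
noncomputable def buildΦ : MvPolynomial (Fin s) A₁ →+* SymRing (1 - ε) ⧸ buildK ϑ ε :=
  eval₂Hom ((buildβ ϑ ε hϑ).comp (algebraMap A₁ (SymRing e)))
    (fun i => Ideal.Quotient.mk _ (buildF ε w i))

theorem buildΦ_C (a : A₁) :
    buildΦ ϑ ε w hϑ (C a) = buildβ ϑ ε hϑ (algebraMap A₁ (SymRing e) a) := by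
  unfold buildΦ
  rw [eval₂Hom_C]
  rfl

theorem buildΦ_X (i : Fin s) :
    buildΦ ϑ ε w hϑ (X i) = Ideal.Quotient.mk _ (buildF ε w i) := by
  unfold buildΦ
  rw [eval₂Hom_X']

include hεe in
theorem buildΦ_C_e (i j : Fin s) :
    buildΦ ϑ ε w hϑ (C (e i j)) =
      Ideal.Quotient.mk _ (algebraMap Cc (SymRing (1 - ε)) (ε i j)) := by
  rw [buildΦ_C, ← hεe, buildβ_apply]

variable (hw : ∀ i, ϑ (w i) = Ideal.Quotient.mk _ (X i))

include hεe hw in
theorem build_Fc (i : Fin s) :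
    ∑ j, Ideal.Quotient.mk (buildK ϑ ε) (algebraMap Cc (SymRing (1 - ε)) (ε i j)) *
        Ideal.Quotient.mk (buildK ϑ ε) (buildF ε w j) =
      Ideal.Quotient.mk (buildK ϑ ε) (algebraMap Cc (SymRing (1 - ε)) (w i)) := by
  have h1 : ∑ j, algebraMap Cc (SymRing (1 - ε)) (ε i j) * buildF ε w j =
      algebraMap Cc (SymRing (1 - ε)) (∑ j, ε i j * w j) := by
    have : ∑ j, algebraMap Cc (SymRing (1 - ε)) (ε i j) * buildF ε w j =
        Ideal.Quotient.mk _ (linF ε i) + algebraMap Cc (SymRing (1 - ε)) (∑ j, ε i j * w j) := by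
      unfold linF buildF
      rw [map_sum, map_sum, ← Finset.sum_add_distrib]
      refine Finset.sum_congr rfl fun j _ => ?_
      rw [mul_add, map_mul, map_mul, algebraMap_symRing_eq ε (ε i j)]
    rw [this, mk_linF_eq_zero, zero_add]
  have h2 : (∑ j, ε i j * w j) - w i ∈ RingHom.ker ϑ := by
    rw [RingHom.mem_ker, map_sub, map_sum, sub_eq_zero, hw]
    simp only [map_mul, hεe, hw]
    rw [mk_symLin_eq i, map_sum]
    refine Finset.sum_congr rfl fun j _ => ?_
    rw [map_mul]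
    rfl
  rw [← Finset.sum_congr rfl fun j _ => (map_mul (Ideal.Quotient.mk (buildK ϑ ε)) _ _), ← map_sum, h1,
    Ideal.Quotient.eq, ← map_sub]
  exact Ideal.mem_map_of_mem _ h2

include hεe hw in
theorem buildΦ_linF (i : Fin s) :
    buildΦ ϑ ε w hϑ (linF e i) =
      Ideal.Quotient.mk _ (algebraMap Cc (SymRing (1 - ε)) (w i)) := by
  unfold linF
  rw [map_sum]
  simp only [map_mul, buildΦ_C_e ϑ ε hεe w hϑ, buildΦ_X]
  exact build_Fc ϑ ε hεe w hw i

include hεe hw in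
theorem buildΦ_symSection (τ : SymRing e) :
    buildΦ ϑ ε w hϑ (symSection he τ) = buildβ ϑ ε hϑ τ := by
  have : (buildΦ ϑ ε w hϑ).comp (symSection he).toRingHom = buildβ ϑ ε hϑ := by
    apply Ideal.Quotient.ringHom_ext
    apply MvPolynomial.ringHom_ext
    · intro a
      show buildΦ ϑ ε w hϑ (symSection he (algebraMap A₁ (SymRing e) a)) =
        buildβ ϑ ε hϑ (algebraMap A₁ (SymRing e) a)
      rw [symSection_algebraMap, buildΦ_C]
    · intro i
      show buildΦ ϑ ε w hϑ (symSection he (Ideal.Quotient.mk _ (X i))) =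
        buildβ ϑ ε hϑ (Ideal.Quotient.mk _ (X i))
      rw [symSection_mk_X, buildΦ_linF ϑ ε hεe w hϑ hw, ← hw, buildβ_apply]
  exact RingHom.congr_fun this τ

include hw in
theorem build_Fe (x : SymRing (1 - ε) ⧸ buildK ϑ ε) :
    buildΦ ϑ ε w hϑ (buildΨb he ϑ ε hεe x) = x := by
  have : (buildΦ ϑ ε w hϑ).comp (buildΨb he ϑ ε hεe) = RingHom.id _ := by
    apply Ideal.Quotient.ringHom_ext
    apply Ideal.Quotient.ringHom_ext
    apply MvPolynomial.ringHom_ext
    · intro c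
      show buildΦ ϑ ε w hϑ (buildΨ₀ he ϑ (C c)) =
        Ideal.Quotient.mk _ (Ideal.Quotient.mk _ (C c))
      rw [buildΨ₀_C, buildΦ_symSection he ϑ ε hεe w hϑ hw, buildβ_apply]
      rfl
    · intro i
      show buildΦ ϑ ε w hϑ (buildΨ₀ he ϑ (X i)) =
        Ideal.Quotient.mk _ (Ideal.Quotient.mk _ (X i))
      rw [buildΨ₀_X, map_sub, buildΦ_X, buildΦ_linF ϑ ε hεe w hϑ hw, ← map_sub]
      congr 1
      unfold buildF
      ring
  exact RingHom.congr_fun this x

include hw in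
theorem build_Ff (p : MvPolynomial (Fin s) A₁) :
    buildΨb he ϑ ε hεe (buildΦ ϑ ε w hϑ p) = p := by
  have : (buildΨb he ϑ ε hεe).comp (buildΦ ϑ ε w hϑ) = RingHom.id _ := by
    apply MvPolynomial.ringHom_ext
    · intro a
      obtain ⟨c, hc⟩ := hϑ (algebraMap A₁ (SymRing e) a)
      show buildΨb he ϑ ε hεe (buildΦ ϑ ε w hϑ (C a)) = C a
      rw [buildΦ_C, ← hc, buildβ_apply, buildΨb_mk, buildΨ_algebraMap, hc, symSection_algebraMap]
    · intro i
      show buildΨb he ϑ ε hεe (buildΦ ϑ ε w hϑ (X i)) = X i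
      rw [buildΦ_X, buildΨb_mk]
      exact buildΨ_F he ϑ ε hεe w hw i
  exact RingHom.congr_fun this p

include hw hϑ in
theorem buildΨ_surjective : Function.Surjective (buildΨ he ϑ ε hεe) := by
  intro p
  obtain ⟨d, hd⟩ := Ideal.Quotient.mk_surjective (buildΦ ϑ ε w hϑ p)
  refine ⟨d, ?_⟩
  have := build_Ff he ϑ ε hεe w hϑ hw p
  rw [← hd, buildΨb_mk] at this
  exact this

include hw hϑ in
theorem ker_buildΨ : RingHom.ker (buildΨ he ϑ ε hεe) =
    (RingHom.ker ϑ).map (algebraMap Cc (SymRing (1 - ε))) := by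
  apply le_antisymm
  · intro d hd
    have h1 : buildΨb he ϑ ε hεe (Ideal.Quotient.mk _ d) = 0 := hd
    have h2 := build_Fe he ϑ ε hεe w hϑ hw (Ideal.Quotient.mk _ d)
    rw [h1, map_zero] at h2
    exact Ideal.Quotient.eq_zero_iff_mem.mp h2.symm
  · intro d hd
    exact buildK_le he ϑ ε hεe d hd

end Build

end Groth.Agent.Lib.Helper7.Synt
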