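import Groth.Agent.Lib.Helper5KzLocal

/-!
# Composition of local complete intersection ring maps and morphisms (helper5)

* `kr_map_of_flat`: flat base change of Koszul-regular ideals.
* `kr_comap_of_surjective'`: preimage of a Koszul-regular ideal along a surjection with Koszul-regular kernel.
* `isLCI_comp`: composition of lci ring maps.
* `IsLCIHom`, `isLCIHom_comp`, `isLCIHom_of_span`: ring-hom forms.
* `lci_comp_sch`: composition of (affine-locally) lci morphisms of schemes.
-/

set_option autoImplicit false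
set_option linter.style.haveILetI false
universe u

namespace Groth.Agent.Lib.Helper5.LciComp

open Groth.Agent.Lib.Helper5.KzComp Groth.Agent.Lib.Helper5.KzPerm
open Groth.Agent.Lib.Helper5.KindFlat Groth.Agent.Lib.Helper5.KzIdeal
open Groth.Agent.Lib.Helper5.KzExch Groth.Agent.Lib.Helper5.KzPres
open Groth.Agent.Lib.Helper5.KzLocal

section KR

theorem kr_map_of_flat {A A' : Type u} [CommRing A] [CommRing A'] (φ : A →+* A') (hφ : φ.Flat)
    (I : Ideal A) (hI : KR I) : KR (I.map φ) := by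
  intro q' hq' hIq'
  haveI := hq'
  have hIp : I ≤ q'.comap φ := Ideal.map_le_iff_le_comap.mp hIq'
  obtain ⟨g, hg, R', _, _, hloc, l, hl, hIl⟩ := hI (q'.comap φ) inferInstance hIp
  haveI := hloc
  have hg' : φ g ∉ q' := fun h => hg (Ideal.mem_comap.mpr h)
  let ψ : R' →+* Localization.Away (φ g) :=
    IsLocalization.Away.map R' (Localization.Away (φ g)) φ g
  have hψ : ψ.Flat :=
    RingHom.Flat.propertyIsLocal.localizationAwayPreserves φ g R' (Localization.Away (φ g)) hφ
  refine ⟨φ g, hg', Localization.Away (φ g), inferInstance, inferInstance, inferInstance,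
    l.map ψ, isKoszulRegularSeq_map_of_flat ψ hψ l hl, ?_⟩
  have hcomm : (algebraMap A' (Localization.Away (φ g))).comp φ = ψ.comp (algebraMap A R') := by
    ext x
    exact (away_map_algebraMap φ g R' (Localization.Away (φ g)) x).symm
  rw [Ideal.map_map, hcomm, ← Ideal.map_map, hIl, Ideal.map_ofList]

theorem kr_comap_of_surjective' {T S : Type u} [CommRing T] [CommRing S] (ρ : T →+* S)
    (hρ : Function.Surjective ρ) (hK : KR (RingHom.ker ρ)) (I : Ideal S) (hI : KR I) :
    KR (I.comap ρ) := by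
  intro q hq hIq
  haveI := hq
  have hkq : RingHom.ker ρ ≤ q := by
    intro x hx
    apply hIq
    rw [Ideal.mem_comap, RingHom.mem_ker.mp hx]
    exact I.zero_mem
  obtain ⟨g1, hg1, T1, _, _, hloc, u, hu, hker1⟩ := hK q hq hkq
  haveI := hloc
  let ρ1 : T1 →+* Localization.Away (ρ g1) :=
    IsLocalization.Away.map T1 (Localization.Away (ρ g1)) ρ g1
  have hρ1 : Function.Surjective ρ1 := away_map_surjective ρ hρ g1 T1 _
  have hkρ1 : RingHom.ker ρ1 = Ideal.ofList u := by
    rw [away_map_ker, hker1]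
  have hfl : (algebraMap S (Localization.Away (ρ g1))).Flat := by
    rw [RingHom.flat_algebraMap_iff]
    exact IsLocalization.flat _ (Submonoid.powers (ρ g1))
  have hI1 : KR (I.map (algebraMap S (Localization.Away (ρ g1)))) := kr_map_of_flat _ hfl I hI
  have h2 := kr_comap_of_surjective ρ1 hρ1 u hu hkρ1 _ hI1
  rw [← map_comap_away ρ g1 T1 (Localization.Away (ρ g1)) I] at h2
  exact kr_at_of_away (I.comap ρ) q hIq g1 hg1 T1 h2

end KR

section LCI

open MvPolynomial

theorem isLCI_comp (A B C : Type u) [CommRing A] [CommRing B] [CommRing C] [Algebra A B]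
    [Algebra B C] [Algebra A C] [IsScalarTower A B C] (h1 : LCI.IsLCI A B)
    (h2 : LCI.IsLCI B C) : LCI.IsLCI A C := by
  obtain ⟨hft1, n, α, hα, hKα⟩ := h1
  obtain ⟨hft2, m, β, hβ, hKβ⟩ := h2
  rw [kr_iff] at hKα hKβ
  have hft : Algebra.FiniteType A C := Algebra.FiniteType.trans hft1 hft2
  let αm : MvPolynomial (Fin m) (MvPolynomial (Fin n) A) →+* MvPolynomial (Fin m) B :=
    MvPolynomial.map α.toRingHom
  have hαm : Function.Surjective αm := MvPolynomial.map_surjective _ hα
  have hkαm : RingHom.ker αm = (RingHom.ker α.toRingHom).map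
      (MvPolynomial.C : MvPolynomial (Fin n) A →+* MvPolynomial (Fin m) (MvPolynomial (Fin n) A)) :=
    MvPolynomial.ker_map _
  have hCflat : (MvPolynomial.C : MvPolynomial (Fin n) A →+*
      MvPolynomial (Fin m) (MvPolynomial (Fin n) A)).Flat := by
    have hC : (MvPolynomial.C : MvPolynomial (Fin n) A →+*
        MvPolynomial (Fin m) (MvPolynomial (Fin n) A)) = algebraMap _ _ := rfl
    rw [hC, RingHom.flat_algebraMap_iff]
    infer_instance
  have hK1 : KR (RingHom.ker αm) := by
    rw [hkαm]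
    exact kr_map_of_flat _ hCflat _ hKα
  have hK2 : KR ((RingHom.ker β.toRingHom).comap αm) :=
    kr_comap_of_surjective' αm hαm hK1 _ hKβ
  let e : MvPolynomial (Fin (m + n)) A ≃ₐ[A] MvPolynomial (Fin m) (MvPolynomial (Fin n) A) :=
    (MvPolynomial.renameEquiv A finSumFinEquiv.symm).trans
      (MvPolynomial.sumAlgEquiv A (Fin m) (Fin n))
  have hK3 := kr_comap_ringEquiv e.toRingEquiv _ hK2
  let γr : MvPolynomial (Fin (m + n)) A →+* C :=
    (β.toRingHom.comp αm).comp (e.toRingEquiv : _ →+* _)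
  have hγalg : ∀ a : A, γr (algebraMap A _ a) = algebraMap A C a := by
    intro a
    show β (αm (e (algebraMap A _ a))) = _
    rw [e.commutes, MvPolynomial.algebraMap_apply, MvPolynomial.map_C]
    have h1 : α.toRingHom (algebraMap A (MvPolynomial (Fin n) A) a) = algebraMap A B a :=
      α.commutes a
    rw [h1]
    have h2 : (MvPolynomial.C (algebraMap A B a) : MvPolynomial (Fin m) B) =
        algebraMap B (MvPolynomial (Fin m) B) (algebraMap A B a) := rfl
    rw [h2, β.commutes, ← IsScalarTower.algebraMap_apply]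
  let γ : MvPolynomial (Fin (m + n)) A →ₐ[A] C := { γr with commutes' := hγalg }
  refine ⟨hft, m + n, γ, ?_, ?_⟩
  · exact (hβ.comp hαm).comp e.surjective
  · rw [kr_iff]
    have hker : RingHom.ker γ.toRingHom =
        ((RingHom.ker β.toRingHom).comap αm).comap (e.toRingEquiv : _ →+* _) := by
      rw [RingHom.comap_ker, RingHom.comap_ker]
    rw [hker]
    exact hK3

/-- the lci property as a property of ring homs -/
def IsLCIHom {A B : Type u} [CommRing A] [CommRing B] (φ : A →+* B) : Prop :=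
  @LCI.IsLCI A _ B _ φ.toAlgebra

theorem isLCIHom_comp {A B C : Type u} [CommRing A] [CommRing B] [CommRing C] (φ : A →+* B)
    (ψ : B →+* C) (h1 : IsLCIHom φ) (h2 : IsLCIHom ψ) : IsLCIHom (ψ.comp φ) := by
  letI := φ.toAlgebra
  letI := ψ.toAlgebra
  letI := (ψ.comp φ).toAlgebra
  haveI : IsScalarTower A B C := IsScalarTower.of_algebraMap_eq (fun _ => rfl)
  exact isLCI_comp A B C h1 h2

theorem isLCIHom_comp_ringEquiv {A B B' : Type u} [CommRing A] [CommRing B] [CommRing B']
    (φ : A →+* B) (e : B ≃+* B') (h : IsLCIHom φ) : IsLCIHom ((e : B →+* B').comp φ) := by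
  letI := φ.toAlgebra
  letI := ((e : B →+* B').comp φ).toAlgebra
  obtain ⟨hft, n, α, hα, hK⟩ := h
  let e' : B ≃ₐ[A] B' := { e with commutes' := fun _ => rfl }
  refine ⟨Algebra.FiniteType.equiv hft e', n, (e' : B →ₐ[A] B').comp α, e.surjective.comp hα, ?_⟩
  have hker : RingHom.ker ((e' : B →ₐ[A] B').comp α).toRingHom = RingHom.ker α.toRingHom := by
    ext x
    rw [RingHom.mem_ker, RingHom.mem_ker]
    show e (α x) = 0 ↔ α x = 0
    exact map_eq_zero_iff e e.injective
  rw [hker]
  exact hK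

theorem isLCIHom_of_span {R S : Type u} [CommRing R] [CommRing S] (φ : R →+* S) (T : Set S)
    (hT : Ideal.span T = ⊤)
    (h : ∀ s ∈ T, ∃ (S' : Type u) (_ : CommRing S') (_ : Algebra S S')
      (_ : IsLocalization.Away s S'), IsLCIHom ((algebraMap S S').comp φ)) : IsLCIHom φ := by
  classical
  letI := φ.toAlgebra
  obtain ⟨T', hT'sub, hT'⟩ := (Ideal.span_eq_top_iff_finite T).mp hT
  let gg : Fin T'.card → S := fun i => ((T'.equivFin.symm i : T') : S)
  have hrange : Set.range gg = (T' : Set S) := by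
    ext x
    constructor
    · rintro ⟨i, rfl⟩
      exact (T'.equivFin.symm i).2
    · intro hx
      exact ⟨T'.equivFin ⟨x, hx⟩, by simp [gg]⟩
  show LCI.IsLCI R S
  apply isLCI_of_span R S T'.card gg (by rw [hrange]; exact hT')
  intro j
  have hmem : gg j ∈ T := hT'sub (T'.equivFin.symm j).2
  obtain ⟨S', _, _, hloc, hS'⟩ := h (gg j) hmem
  haveI := hloc
  let e : S' ≃ₐ[S] Localization.Away (gg j) :=
    IsLocalization.algEquiv (Submonoid.powers (gg j)) S' (Localization.Away (gg j))
  have h3 := isLCIHom_comp_ringEquiv _ e.toRingEquiv hS'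
  have heq : ((e.toRingEquiv : S' →+* Localization.Away (gg j)).comp
      ((algebraMap S S').comp φ)) = algebraMap R (Localization.Away (gg j)) := by
    ext x
    show e (algebraMap S S' (φ x)) = _
    rw [e.commutes, IsScalarTower.algebraMap_apply R S (Localization.Away (gg j))]
    rfl
  rw [heq] at h3
  have hinst : (algebraMap R (Localization.Away (gg j))).toAlgebra =
      (inferInstance : Algebra R (Localization.Away (gg j))) :=
    Algebra.algebra_ext _ _ (fun r => rfl)
  unfold IsLCIHom at h3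
  rw [hinst] at h3
  exact h3

end LCI

section Sch

open AlgebraicGeometry CategoryTheory

theorem lci_comp_sch {X Y Z : Scheme.{u}} (f : X ⟶ Y) (g : Y ⟶ Z)
    (hf : ∀ (U : X.Opens) (V : Y.Opens) (_ : IsAffineOpen U) (_ : IsAffineOpen V)
      (hUV : U ≤ f ⁻¹ᵁ V), IsLCIHom (f.appLE V U hUV).hom)
    (hg : ∀ (U : Y.Opens) (V : Z.Opens) (_ : IsAffineOpen U) (_ : IsAffineOpen V)
      (hUV : U ≤ g ⁻¹ᵁ V), IsLCIHom (g.appLE V U hUV).hom)
    (U : X.Opens) (V : Z.Opens) (hU : IsAffineOpen U) (hV : IsAffineOpen V)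
    (hUV : U ≤ (f ≫ g) ⁻¹ᵁ V) : IsLCIHom ((f ≫ g).appLE V U hUV).hom := by
  apply isLCIHom_of_span _ {s : Γ(X, U) | ∃ W : Y.Opens, IsAffineOpen W ∧ ∃ (hWV : W ≤ g ⁻¹ᵁ V)
    (hsW : X.basicOpen s ≤ f ⁻¹ᵁ W), True}
  · rw [← hU.self_le_iSup_basicOpen_iff]
    intro x hx
    have hfx : f x ∈ g ⁻¹ᵁ V := hUV hx
    obtain ⟨W, hW, hxW, hWV⟩ := TopologicalSpace.Opens.isBasis_iff_nbhd.mp Y.isBasis_affineOpens hfx
    obtain ⟨s, hs, hxs⟩ := hU.exists_basicOpen_le (V := U ⊓ f ⁻¹ᵁ W) ⟨x, ⟨hx, hxW⟩⟩ hx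
    exact TopologicalSpace.Opens.mem_iSup.mpr
      ⟨⟨s, W, hW, hWV, hs.trans inf_le_right, trivial⟩, hxs⟩
  · rintro s ⟨W, hW, hWV, hsW, -⟩
    refine ⟨Γ(X, X.basicOpen s), inferInstance, inferInstance, hU.isLocalization_basicOpen s, ?_⟩
    have h1 := hf (X.basicOpen s) W (hU.basicOpen s) hW hsW
    have h2 := hg W V hW hV hWV
    have h3 := isLCIHom_comp _ _ h2 h1
    have heq : (f.appLE W (X.basicOpen s) hsW).hom.comp (g.appLE V W hWV).hom =
        (algebraMap Γ(X, U) Γ(X, X.basicOpen s)).comp ((f ≫ g).appLE V U hUV).hom := by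
      rw [← CommRingCat.hom_comp, Scheme.Hom.appLE_comp_appLE]
      have : algebraMap Γ(X, U) Γ(X, X.basicOpen s) =
          (X.presheaf.map (homOfLE (X.basicOpen_le s)).op).hom := rfl
      rw [this, ← CommRingCat.hom_comp, Scheme.Hom.appLE_map]
    rw [heq] at h3
    exact h3

end Sch

end Groth.Agent.Lib.Helper5.LciComp
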