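import Groth.Agent.Lib.Helper5LciLocal

/-!
# fpqc descent of lci morphisms, given faithfully flat descent of Koszul-regular ideals (helper5)

* `KRDescent`: the hypothesis "Koszul-regular ideals descend along faithfully flat ring maps" (S9251).
* `isLCI_of_faithfullyFlat_tensor`, `codescendsAlong`: lci ring maps descend along faithfully flat base change.
* `descendsAlong`: `LciMor` descends along flat surjective quasi-compact morphisms.
-/

set_option autoImplicit false
set_option linter.style.haveILetI false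
universe u

namespace Groth.Agent.Lib.Helper5.LciDesc

open Groth.Agent.Lib.Helper5.KzIdeal Groth.Agent.Lib.Helper5.KzPres
open Groth.Agent.Lib.Helper5.KzLocal Groth.Agent.Lib.Helper5.LciComp
open Groth.Agent.Lib.Helper5.LciLocal

/-- Koszul-regular ideals descend along faithfully flat ring maps -/
def KRDescent : Prop :=
  ∀ (A B : Type u) [CommRing A] [CommRing B] [Algebra A B] [Module.FaithfullyFlat A B]
    (I : Ideal A), LCI.IsKoszulRegularIdeal (I.map (algebraMap A B)) → LCI.IsKoszulRegularIdeal I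

section Ring

open TensorProduct

theorem isLCIHom_algebraMap_iff {R S : Type u} [CommRing R] [CommRing S] [Algebra R S] :
    IsLCIHom (algebraMap R S) ↔ LCI.IsLCI R S := by
  unfold IsLCIHom
  have hinst : (algebraMap R S).toAlgebra = (inferInstance : Algebra R S) :=
    Algebra.algebra_ext _ _ (fun _ => rfl)
  rw [hinst]

attribute [local instance] Algebra.TensorProduct.rightAlgebra in
theorem isLCI_of_faithfullyFlat_tensor (hdesc : KRDescent.{u}) (R S T : Type u) [CommRing R]
    [CommRing S] [CommRing T] [Algebra R S] [Algebra R T] [Module.FaithfullyFlat R S]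
    (h : LCI.IsLCI S (S ⊗[R] T)) : LCI.IsLCI R T := by
  obtain ⟨hft', m, β, hβ, hKβ⟩ := h
  haveI := hft'
  have hft : Algebra.FiniteType R T := .of_finiteType_tensorProduct_of_faithfullyFlat S
  obtain ⟨n, f, hf⟩ := Algebra.FiniteType.iff_quotient_mvPolynomial''.mp hft
  refine ⟨hft, n, f, hf, ?_⟩
  haveI : Module.FaithfullyFlat (MvPolynomial (Fin n) R) (S ⊗[R] MvPolynomial (Fin n) R) :=
    .of_linearEquiv _ _ (Algebra.TensorProduct.commRight _ _ _).symm.toLinearEquiv
  let fT := Algebra.TensorProduct.map (AlgHom.id S S) f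
  have hfT : Function.Surjective fT := Algebra.FiniteType.baseChangeAux_surj S hf
  have hker : (RingHom.ker f.toRingHom).map
      (algebraMap (MvPolynomial (Fin n) R) (S ⊗[R] MvPolynomial (Fin n) R)) = RingHom.ker fT :=
    (Algebra.TensorProduct.lTensor_ker f hf).symm
  apply hdesc (MvPolynomial (Fin n) R) (S ⊗[R] MvPolynomial (Fin n) R)
  rw [hker, kr_iff]
  let e : S ⊗[R] MvPolynomial (Fin n) R ≃ₐ[S] MvPolynomial (Fin n) S :=
    MvPolynomial.algebraTensorAlgEquiv R S
  let β' : MvPolynomial (Fin n) S →ₐ[S] S ⊗[R] T := fT.comp (e.symm : _ →ₐ[S] _)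
  have hβ' : Function.Surjective β' := hfT.comp e.symm.surjective
  have hK' : LCI.IsKoszulRegularIdeal (RingHom.ker β'.toRingHom) :=
    Groth.Agent.Lib.Helper5.KzPres.main S (S ⊗[R] T) m n β hβ β' hβ' hKβ
  rw [kr_iff] at hK'
  have h3 := kr_comap_ringEquiv e.toRingEquiv _ hK'
  have h4 : (RingHom.ker β'.toRingHom).comap (e.toRingEquiv : _ →+* _) = RingHom.ker fT := by
    ext x
    rw [Ideal.mem_comap, RingHom.mem_ker, RingHom.mem_ker]
    show fT (e.symm (e x)) = 0 ↔ fT x = 0
    rw [e.symm_apply_apply]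
  rw [h4] at h3
  exact h3

theorem codescendsAlong (hdesc : KRDescent.{u}) :
    RingHom.CodescendsAlong (@IsLCIHom.{u}) RingHom.FaithfullyFlat := by
  refine RingHom.CodescendsAlong.mk _ propertyIsLocal.respectsIso ?_
  intro R S T _ _ _ _ _ hS hT
  rw [RingHom.faithfullyFlat_algebraMap_iff] at hS
  haveI := hS
  rw [isLCIHom_algebraMap_iff] at hT ⊢
  exact isLCI_of_faithfullyFlat_tensor hdesc R S T hT

end Ring

section Sch

open AlgebraicGeometry CategoryTheory CategoryTheory.Limits MorphismProperty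

/-- surjective and flat -/
abbrev SF : MorphismProperty Scheme.{u} := @Surjective ⊓ @Flat

/-- surjective, flat and quasi-compact -/
abbrev SFQ : MorphismProperty Scheme.{u} := @Surjective ⊓ @Flat ⊓ @QuasiCompact

theorem descendsAlong (hdesc : KRDescent.{u}) :
    LciMor.{u}.DescendsAlong SFQ.{u} := by
  apply IsZariskiLocalAtTarget.descendsAlong
  intro R X Y f g hf h
  wlog hX : ∃ T, X = Spec T generalizing X
  · have _ : CompactSpace X := by simpa [← quasiCompact_iff_compactSpace f] using hf.2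
    obtain ⟨W, p, hsurj, hP', hW⟩ := X.exists_hom_isAffine_of_isZariskiLocalAtSource @IsLocalIso
    have H₁ : (@IsLocalIso ⊓ @Surjective : MorphismProperty Scheme.{u}) ≤ SF.{u} := by
      intro X' Y' f' hf'
      have hle := IsLocalIso.le_of_isZariskiLocalAtSource (@Flat : MorphismProperty Scheme.{u})
      exact ⟨hf'.2, hle _ _ f' hf'.1⟩
    refine this (f := (W.isoSpec.inv ≫ p) ≫ f) ?_ ?_ ⟨_, rfl⟩
    · rw [Category.assoc, SFQ.{u}.cancel_left_of_respectsIso]
      exact ⟨SF.{u}.comp_mem _ _ (H₁ _ ⟨hP', hsurj⟩) hf.1, inferInstance⟩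
    · rw [← pullbackRightPullbackFstIso_inv_fst f g _, LciMor.cancel_left_of_respectsIso]
      haveI : IsLocalIso p := hP'
      haveI : IsLocalIso (W.isoSpec.inv ≫ p) :=
        MorphismProperty.comp_mem (@IsLocalIso : MorphismProperty Scheme.{u}) _ _
          (⟨fun x => ⟨⊤, trivial, inferInstance⟩⟩ : IsLocalIso W.isoSpec.inv) hP'
      exact pullback_fst_of_isLocalIso LciMor _ _ h
  obtain ⟨T, rfl⟩ := hX
  obtain ⟨φ, rfl⟩ := Spec.map_surjective f
  wlog hY : ∃ S, Y = Spec S generalizing Y
  · rw [IsZariskiLocalAtSource.iff_of_openCover (P := LciMor) Y.affineCover]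
    intro i
    have heq : pullback.fst (Spec.map φ) (Y.affineCover.f i ≫ g) =
        pullback.map _ _ _ _ (𝟙 _) (Y.affineCover.f i) (𝟙 _) (by simp) (by simp) ≫
          pullback.fst (Spec.map φ) g := (pullback.lift_fst _ _ _).symm
    exact this _ (heq ▸ AlgebraicGeometry.IsZariskiLocalAtSource.comp h _) ⟨_, rfl⟩
  obtain ⟨S, rfl⟩ := hY
  apply of_pullback_fst_Spec_of_codescendsAlong (P := LciMor)
    (P' := SFQ.{u}) (Q' := RingHom.FaithfullyFlat) (Q := @IsLCIHom.{u})
    (codescendsAlong hdesc) ?_ ?_ hf h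
  · intro R S f ⟨⟨hf₁, hf₂⟩, _⟩
    rw [RingHom.FaithfullyFlat.iff_flat_and_comap_surjective]
    refine ⟨?_, (Spec.map f).surjective⟩
    rwa [HasRingHomProperty.Spec_iff (P := @Flat)] at hf₂
  · simp [HasRingHomProperty.Spec_iff (P := LciMor)]

end Sch

end Groth.Agent.Lib.Helper5.LciDesc
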