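import Groth.Agent.Lib.Helper5LciComp

/-!
# The lci property of ring maps is local; fpqc descent (helper5)

* `kr_ofList`: a globally Koszul-regular sequence generates a Koszul-regular ideal.
* `isLCI_localizationAway`, `isLCIHom_algebraMap_away`: localization maps `R → R_r` are lci.
* `isLCIHom_of_comp_away`: if `R → R_r → T` is lci then so is `R_r → T`.
* `propertyIsLocal`: `IsLCIHom` is a local property of ring homs; `LciMor` the associated morphism property of schemes.
* `pullback_fst_of_isLocalIso`: base change of a target-local property along a local isomorphism.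
* `codescendsAlong_of`, `descendsAlong_of`: faithfully flat descent of lci ring maps / fpqc descent of lci morphisms, given
  faithfully flat descent of Koszul-regular ideals.
-/

set_option autoImplicit false
set_option linter.style.haveILetI false
universe u

namespace Groth.Agent.Lib.Helper5.LciLocal

open Groth.Agent.Lib.Helper5.KzComp Groth.Agent.Lib.Helper5.KzPerm
open Groth.Agent.Lib.Helper5.KindFlat Groth.Agent.Lib.Helper5.KzIdeal
open Groth.Agent.Lib.Helper5.KzExch Groth.Agent.Lib.Helper5.KzPres
open Groth.Agent.Lib.Helper5.KzLocal Groth.Agent.Lib.Helper5.LciComp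

section Seq

theorem kr_ofList {A : Type u} [CommRing A] (l : List A) (hl : LCI.IsKoszulRegularSeq A l) :
    KR (Ideal.ofList l) := by
  intro p hp _
  haveI : IsLocalization.Away (1 : A) A :=
    IsLocalization.away_of_isUnit_of_bijective A isUnit_one Function.bijective_id
  refine ⟨1, fun h => hp.ne_top ((Ideal.eq_top_iff_one _).mpr h), A, inferInstance, inferInstance,
    inferInstance, l, hl, ?_⟩
  rw [Algebra.algebraMap_self, Ideal.map_id]

end Seq

section Away

open Polynomial

theorem isLCI_localizationAway {R : Type u} [CommRing R] (r : R) :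
    LCI.IsLCI R (Localization.Away r) := by
  have hfp : Algebra.FinitePresentation R (Localization.Away r) :=
    IsLocalization.Away.finitePresentation r
  have hft : Algebra.FiniteType R (Localization.Away r) := inferInstance
  let e0 : Localization.Away r ≃ₐ[R] AdjoinRoot (C r * X - 1 : R[X]) :=
    Localization.awayEquivAdjoin r
  let e1 : MvPolynomial (Fin 1) R ≃ₐ[R] R[X] := MvPolynomial.uniqueAlgEquiv R (Fin 1)
  let α : MvPolynomial (Fin 1) R →ₐ[R] Localization.Away r :=
    (e0.symm : _ →ₐ[R] _).comp ((AdjoinRoot.mkₐ (C r * X - 1 : R[X])).comp (e1 : _ →ₐ[R] _))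
  have hα : Function.Surjective α :=
    e0.symm.surjective.comp (AdjoinRoot.mk_surjective.comp e1.surjective)
  refine ⟨hft, 1, α, hα, ?_⟩
  rw [kr_iff]
  have hker : RingHom.ker α.toRingHom =
      (Ideal.ofList [(C r * X - 1 : R[X])]).comap (e1.toRingEquiv : _ →+* _) := by
    ext x
    rw [RingHom.mem_ker, Ideal.mem_comap]
    show e0.symm (AdjoinRoot.mk _ (e1 x)) = 0 ↔ _
    rw [map_eq_zero_iff _ e0.symm.injective, AdjoinRoot.mk_eq_zero, Ideal.ofList_singleton,
      Ideal.mem_span_singleton]
    rfl
  rw [hker]
  exact kr_comap_ringEquiv e1.toRingEquiv _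
    (kr_ofList _ (isKoszulRegularSeq_singleton _ (isSMulRegular_CX_sub_one r)))

theorem isLCIHom_algebraMap_away {R S : Type u} [CommRing R] [CommRing S] [Algebra R S] (r : R)
    [IsLocalization.Away r S] : IsLCIHom (algebraMap R S) := by
  have h0 : IsLCIHom (algebraMap R (Localization.Away r)) := by
    unfold IsLCIHom
    have hinst : (algebraMap R (Localization.Away r)).toAlgebra =
        (inferInstance : Algebra R (Localization.Away r)) :=
      Algebra.algebra_ext _ _ (fun _ => rfl)
    rw [hinst]
    exact isLCI_localizationAway r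
  let e : Localization.Away r ≃ₐ[R] S := IsLocalization.algEquiv (Submonoid.powers r) _ _
  have h1 := isLCIHom_comp_ringEquiv _ e.toRingEquiv h0
  have h2 : ((e.toRingEquiv : Localization.Away r →+* S).comp
      (algebraMap R (Localization.Away r))) = algebraMap R S := by
    ext x
    exact e.commutes x
  rwa [h2] at h1

attribute [local instance] MvPolynomial.algebraMvPolynomial in
theorem isLCIHom_of_comp_away {R R' T : Type u} [CommRing R] [CommRing R'] [CommRing T]
    [Algebra R R'] (r : R) [IsLocalization.Away r R'] (ψ : R' →+* T)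
    (h : IsLCIHom (ψ.comp (algebraMap R R'))) : IsLCIHom ψ := by
  letI algRT : Algebra R T := (ψ.comp (algebraMap R R')).toAlgebra
  letI algR'T : Algebra R' T := ψ.toAlgebra
  haveI : IsScalarTower R R' T := IsScalarTower.of_algebraMap_eq (fun _ => rfl)
  obtain ⟨hft, n, α, hα, hK⟩ := h
  rw [kr_iff] at hK
  haveI := hft
  have hft' : Algebra.FiniteType R' T := Algebra.FiniteType.of_restrictScalars_finiteType R R' T
  haveI hlocP : IsLocalization.Away (MvPolynomial.C r : MvPolynomial (Fin n) R)
      (MvPolynomial (Fin n) R') := by
    have := MvPolynomial.isLocalization (σ := Fin n) (Submonoid.powers r) R'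
    rwa [Submonoid.map_powers] at this
  have hαC : ∀ a : R, α (MvPolynomial.C a) = ψ (algebraMap R R' a) := fun a => α.commutes a
  have hunit : IsUnit (α.toRingHom (MvPolynomial.C r)) := by
    show IsUnit (α (MvPolynomial.C r))
    rw [hαC]
    exact (IsLocalization.Away.algebraMap_isUnit r).map ψ
  haveI hlocT : IsLocalization.Away (α.toRingHom (MvPolynomial.C r)) T :=
    IsLocalization.away_of_isUnit_of_bijective T hunit Function.bijective_id
  let α'r : MvPolynomial (Fin n) R' →+* T :=
    IsLocalization.Away.map (MvPolynomial (Fin n) R') T α.toRingHom (MvPolynomial.C r)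
  have hα'surj : Function.Surjective α'r := away_map_surjective α.toRingHom hα _ _ _
  have hα'ker : RingHom.ker α'r = (RingHom.ker α.toRingHom).map
      (algebraMap (MvPolynomial (Fin n) R) (MvPolynomial (Fin n) R')) :=
    away_map_ker α.toRingHom _ _ _
  have hα'C : ∀ x : R', α'r (MvPolynomial.C x) = ψ x := by
    have h1 : (α'r.comp (MvPolynomial.C)) = ψ := by
      apply IsLocalization.ringHom_ext (Submonoid.powers r)
      ext a
      show α'r (MvPolynomial.C (algebraMap R R' a)) = ψ (algebraMap R R' a)
      have h2 : (MvPolynomial.C (algebraMap R R' a) : MvPolynomial (Fin n) R') =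
          algebraMap (MvPolynomial (Fin n) R) (MvPolynomial (Fin n) R') (MvPolynomial.C a) := by
        rw [MvPolynomial.algebraMap_def, MvPolynomial.map_C]
      rw [h2, away_map_algebraMap α.toRingHom]
      exact hαC a
    intro x
    exact RingHom.congr_fun h1 x
  let α' : MvPolynomial (Fin n) R' →ₐ[R'] T := { α'r with commutes' := hα'C }
  refine ⟨hft', n, α', hα'surj, ?_⟩
  rw [kr_iff]
  show KR (RingHom.ker α'r)
  rw [hα'ker]
  have hfl : (algebraMap (MvPolynomial (Fin n) R) (MvPolynomial (Fin n) R')).Flat := by
    rw [RingHom.flat_algebraMap_iff]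
    exact IsLocalization.flat _ (Submonoid.powers (MvPolynomial.C r : MvPolynomial (Fin n) R))
  exact kr_map_of_flat _ hfl _ hK

end Away

section Local

theorem stableUnderComposition : RingHom.StableUnderComposition (@IsLCIHom) :=
  fun _ _ _ _ _ _ f g hf hg => isLCIHom_comp f g hf hg

theorem holdsForLocalizationAway : RingHom.HoldsForLocalizationAway (@IsLCIHom) :=
  fun _ _ _ _ _ r _ => isLCIHom_algebraMap_away r

theorem localizationAwayPreserves : RingHom.LocalizationAwayPreserves (@IsLCIHom) := by
  intro R S _ _ f r R' S' _ _ _ _ _ _ hf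
  apply isLCIHom_of_comp_away r
  have h1 : (IsLocalization.Away.map R' S' f r).comp (algebraMap R R') =
      (algebraMap S S').comp f := IsLocalization.map_comp _
  rw [h1]
  exact isLCIHom_comp _ _ hf (isLCIHom_algebraMap_away (f r))

theorem ofLocalizationSpanTarget : RingHom.OfLocalizationSpanTarget (@IsLCIHom) := by
  intro R S _ _ f s hs h
  apply isLCIHom_of_span f s hs
  intro x hx
  exact ⟨Localization.Away x, inferInstance, inferInstance, inferInstance, h ⟨x, hx⟩⟩

theorem propertyIsLocal : RingHom.PropertyIsLocal (@IsLCIHom) where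
  localizationAwayPreserves := localizationAwayPreserves
  ofLocalizationSpanTarget := ofLocalizationSpanTarget
  ofLocalizationSpan := ofLocalizationSpanTarget.ofLocalizationSpan
    (stableUnderComposition.stableUnderCompositionWithLocalizationAway
      holdsForLocalizationAway).left
  StableUnderCompositionWithLocalizationAwayTarget :=
    (stableUnderComposition.stableUnderCompositionWithLocalizationAway
      holdsForLocalizationAway).right

end Local

section Sch

open AlgebraicGeometry CategoryTheory CategoryTheory.Limits MorphismProperty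

/-- affine-locally lci morphisms of schemes -/
def LciMor : MorphismProperty Scheme.{u} := affineLocally (@IsLCIHom)

instance : HasRingHomProperty LciMor (@IsLCIHom) where
  isLocal_ringHomProperty := propertyIsLocal
  eq_affineLocally' := rfl

theorem lciMor_iff {X Y : Scheme.{u}} (f : X ⟶ Y) :
    LciMor f ↔ ∀ (U : X.Opens) (V : Y.Opens) (_ : IsAffineOpen U) (_ : IsAffineOpen V)
      (hUV : U ≤ f ⁻¹ᵁ V), IsLCIHom (f.appLE V U hUV).hom := by
  rw [HasRingHomProperty.iff_appLE (P := LciMor)]
  constructor
  · intro h U V hU hV hUV
    exact h ⟨V, hV⟩ ⟨U, hU⟩ hUV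
  · intro h V U e
    exact h U.1 V.1 U.2 V.2 e

/-- base change of a target-local property along a local isomorphism -/
theorem pullback_fst_of_isLocalIso (P : MorphismProperty Scheme.{u}) [IsZariskiLocalAtTarget P]
    {T X Z : Scheme.{u}} (p : T ⟶ X) [IsLocalIso p] (φ : Z ⟶ X) (hφ : P φ) :
    P (pullback.fst p φ) := by
  choose U hxU hU using fun t : T => IsLocalIso.exists_isOpenImmersion (f := p) t
  apply IsZariskiLocalAtTarget.of_iSup_eq_top U
  · rw [eq_top_iff]
    intro t _
    exact TopologicalSpace.Opens.mem_iSup.mpr ⟨t, hxU t⟩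
  · intro t
    haveI := hU t
    have hA : IsPullback (pullback.fst p φ) (pullback.snd p φ) p φ := IsPullback.of_hasPullback p φ
    have hB := isPullback_morphismRestrict (pullback.fst p φ) (U t)
    exact IsZariskiLocalAtTarget.of_isPullback (hB.paste_vert hA).flip hφ

end Sch

end Groth.Agent.Lib.Helper5.LciLocal
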