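import Groth.Agent.Lib.Helper13KzLiftA
import Groth.Prelude.Def_LCI2

set_option autoImplicit false

namespace Groth.Agent.Helper13KzLift
open CategoryTheory CochainComplex MonoidalCategory CohIII Pointwise
open Groth.Agent.Lib.Helper21 Groth.Agent.Helper13Kz

universe u
variable {S T : Type u} [CommRing S] [CommRing T] (φ : S →+* T)


lemma restrict_map_smul {M N : ModuleCat.{u} T} (g : M ⟶ N) (s : S) :
    (ModuleCat.restrictScalars φ).map (φ s • g) = s • (ModuleCat.restrictScalars φ).map g := by
  ext x
  rfl

lemma restrictHC_map_smul (K : CochainComplex (ModuleCat.{u} T) ℤ) (s : S) :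
    ((ModuleCat.restrictScalars φ).mapHomologicalComplex (ComplexShape.up ℤ)).map (φ s • 𝟙 K) =
      s • 𝟙 (((ModuleCat.restrictScalars φ).mapHomologicalComplex (ComplexShape.up ℤ)).obj K) := by
  ext i x
  rfl

noncomputable def restrictIso (M : ModuleCat.{u} T) : ∀ l : List S,
    ((ModuleCat.restrictScalars φ).mapHomologicalComplex (ComplexShape.up ℤ)).obj
      (koszulCx M (l.map φ)) ≅ koszulCx ((ModuleCat.restrictScalars φ).obj M) l
  | [] => (HomologicalComplex.singleMapHomologicalComplex (ModuleCat.restrictScalars φ)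
      (ComplexShape.up ℤ) 0).app M
  | f :: l =>
      (mappingCone.mapHomologicalComplexIso (φ f • 𝟙 (koszulCx M (l.map φ)))
        (ModuleCat.restrictScalars φ)) ≪≫
      (eqToIso (by rw [restrictHC_map_smul])) ≪≫ coneIso (restrictIso M l) f

end Groth.Agent.Helper13KzLift

namespace Groth.Agent.Helper13KzLift
open CategoryTheory CochainComplex MonoidalCategory CohIII Pointwise
open Groth.Agent.Lib.Helper21 Groth.Agent.Helper13Kz

universe u
variable {S T : Type u} [CommRing S] [CommRing T] (φ : S →+* T)

theorem isZero_homology_restrict (M : ModuleCat.{u} T) (l : List S) (i : ℤ)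
    (h : Limits.IsZero ((koszulCx M (l.map φ)).homology i)) :
    Limits.IsZero ((koszulCx ((ModuleCat.restrictScalars φ).obj M) l).homology i) := by
  rw [← HomologicalComplex.exactAt_iff_isZero_homology] at h
  have h1 : (((ModuleCat.restrictScalars φ).mapHomologicalComplex (ComplexShape.up ℤ)).obj
      (koszulCx M (l.map φ))).ExactAt i := by
    have := ShortComplex.Exact.map h (ModuleCat.restrictScalars φ)
    exact this
  rw [HomologicalComplex.exactAt_iff_isZero_homology] at h1
  exact Limits.IsZero.of_iso h1
    ((HomologicalComplex.homologyFunctor _ _ i).mapIso (restrictIso φ M l)).symm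

end Groth.Agent.Helper13KzLift

namespace Groth.Agent.Helper13KzLift
open CategoryTheory CochainComplex MonoidalCategory CohIII Pointwise
open Groth.Agent.Lib.Helper21 Groth.Agent.Helper13Kz
open scoped TensorProduct

universe u

theorem koszul_eq (A : Type u) [CommRing A] : ∀ l : List A,
    Koszul.koszul A l = CohIII.koszulCx (ModuleCat.of A A) l
  | [] => rfl
  | f :: l => by
    show CochainComplex.mappingCone (f • 𝟙 (Koszul.koszul A l)) =
      CochainComplex.mappingCone (f • 𝟙 (CohIII.koszulCx (ModuleCat.of A A) l))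
    rw [koszul_eq A l]

theorem isZero_congr {A : Type u} [CommRing A] {K L : CochainComplex (ModuleCat.{u} A) ℤ}
    (h : K = L) (i : ℤ) : Limits.IsZero (K.homology i) ↔ Limits.IsZero (L.homology i) := by
  subst h; rfl

theorem isKoszulRegularSeq_iff (A : Type u) [CommRing A] (l : List A) :
    LCI.IsKoszulRegularSeq A l ↔ ∀ i : ℤ, i ≠ 0 → Subsingleton (KH l A i) := by
  unfold LCI.IsKoszulRegularSeq
  constructor
  · intro h i hi
    exact ModuleCat.subsingleton_of_isZero ((isZero_congr (koszul_eq A l) i).mp (h i hi))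
  · intro h i hi
    have := h i hi
    exact (isZero_congr (koszul_eq A l) i).mpr (ModuleCat.isZero_of_subsingleton _)

variable {A' R' : Type u} [CommRing A'] [CommRing R'] [Algebra A' R'] (I : Ideal A')

/-- the restricted module `R'/IR'` is `R' ⊗ A'/I` -/
noncomputable def baseEquiv :
    ((ModuleCat.restrictScalars (Ideal.Quotient.mk (I.map (algebraMap A' R')))).obj
      (ModuleCat.of (R' ⧸ I.map (algebraMap A' R')) (R' ⧸ I.map (algebraMap A' R')))) ≃ₗ[R']
      R' ⊗[A'] (A' ⧸ I) where
  toFun x := (Algebra.TensorProduct.quotIdealMapEquivTensorQuot R' I) x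
  invFun y := (Algebra.TensorProduct.quotIdealMapEquivTensorQuot R' I).symm y
  left_inv x := (Algebra.TensorProduct.quotIdealMapEquivTensorQuot R' I).symm_apply_apply x
  right_inv y := (Algebra.TensorProduct.quotIdealMapEquivTensorQuot R' I).apply_symm_apply y
  map_add' x y := map_add (Algebra.TensorProduct.quotIdealMapEquivTensorQuot R' I) x y
  map_smul' r x := by
    have := (Algebra.TensorProduct.quotIdealMapEquivTensorQuot R' I).toLinearEquiv.map_smul r x
    exact this

theorem base_acyclic (l' : List R')
    (h : LCI.IsKoszulRegularSeq (R' ⧸ I.map (algebraMap A' R'))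
      (l'.map (Ideal.Quotient.mk (I.map (algebraMap A' R'))))) (i : ℤ) (hi : i ≠ 0) :
    Subsingleton (KH l' (R' ⊗[A'] (A' ⧸ I)) i) := by
  rw [isKoszulRegularSeq_iff] at h
  have := h i hi
  have h1 := isZero_homology_restrict (Ideal.Quotient.mk (I.map (algebraMap A' R')))
    (ModuleCat.of (R' ⧸ I.map (algebraMap A' R')) (R' ⧸ I.map (algebraMap A' R'))) l' i
    (ModuleCat.isZero_of_subsingleton _)
  have h2 : Subsingleton (KH l'
    ((ModuleCat.restrictScalars (Ideal.Quotient.mk (I.map (algebraMap A' R')))).obj
      (ModuleCat.of (R' ⧸ I.map (algebraMap A' R')) (R' ⧸ I.map (algebraMap A' R')))) i) :=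
    ModuleCat.subsingleton_of_isZero h1
  exact subsingleton_KH_of_equiv l' (baseEquiv I) i h2

end Groth.Agent.Helper13KzLift
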