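import Groth.Agent.Lib.Helper13KzLiftH
import Groth.Agent.Lib.Helper13KzLiftB

set_option autoImplicit false

namespace Groth.Agent.Helper13KzDesc
open CategoryTheory CochainComplex MonoidalCategory CohIII
open Groth.Agent.Lib.Helper21 Groth.Agent.Helper13Kz Groth.Agent.Helper13KzLift
open scoped TensorProduct

universe u

section tens
variable {B : Type u} [CommRing B]

/-- Koszul homology commutes with tensoring with a flat module. -/
theorem nonempty_homology_tensor_iso (F : ModuleCat.{u} B) [Module.Flat B F] (M : ModuleCat.{u} B)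
    (l : List B) (i : ℤ) :
    Nonempty ((koszulCx (M ⊗ F) l).homology i ≅ (koszulCx M l).homology i ⊗ F) := by
  have hP : (tensorRight F).PreservesHomology :=
    Functor.preservesHomology_of_map_exact _
      (fun S hS => Module.Flat.rTensor_shortComplex_exact F S hS)
  have e1 := (HomologicalComplex.homologyFunctor _ _ i).mapIso (tensIso F M l)
  have e2 : (((koszulCx M l).sc i).map (tensorRight F)).homology ≅
      (tensorRight F).obj ((koszulCx M l).sc i).homology := ShortComplex.mapHomologyIso _ _
  exact ⟨e1.symm ≪≫ e2⟩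

theorem subsingleton_KH_tensor_iff (M N : Type u) [AddCommGroup M] [Module B M]
    [AddCommGroup N] [Module B N] [Module.Flat B N] (l : List B) (i : ℤ) :
    Subsingleton (KH l (M ⊗[B] N) i) ↔ Subsingleton ((KH l M i) ⊗[B] N) := by
  obtain ⟨e⟩ := nonempty_homology_tensor_iso (ModuleCat.of B N) (ModuleCat.of B M) l i
  exact e.toLinearEquiv.toEquiv.subsingleton_congr

end tens

end Groth.Agent.Helper13KzDesc

namespace Groth.Agent.Helper13KzDesc
open CategoryTheory CochainComplex MonoidalCategory CohIII
open Groth.Agent.Lib.Helper21 Groth.Agent.Helper13Kz Groth.Agent.Helper13KzLift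
open scoped TensorProduct

universe u

section unit
variable {A : Type u} [CommRing A]

/-- a list generating the unit ideal is Koszul-regular (all its Koszul homology vanishes) -/
theorem isKoszulRegularSeq_of_ofList_eq_top (l : List A) (h : Ideal.ofList l = ⊤) :
    LCI.IsKoszulRegularSeq A l := by
  rw [isKoszulRegularSeq_iff]
  intro i _
  refine ⟨fun a b => ?_⟩
  have h1 : (1 : A) ∈ Ideal.span {x | x ∈ l} := by
    have : (1 : A) ∈ Ideal.ofList l := by rw [h]; exact Submodule.mem_top
    exact this
  have ha := smul_KH_eq_zero_of_mem A l 1 h1 i a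
  have hb := smul_KH_eq_zero_of_mem A l 1 h1 i b
  rw [one_smul] at ha hb
  rw [ha, hb]

end unit

section loc
variable {S : Type u} [CommRing S]

/-- the Koszul homology of `l.map φ` on `S'` is that of `l` on `S'` viewed as an `S`-module -/
theorem subsingleton_KH_tensor_of_isKoszulRegularSeq (S' : Type u) [CommRing S'] [Algebra S S']
    (l : List S) (h : LCI.IsKoszulRegularSeq S' (l.map (algebraMap S S'))) (i : ℤ) (hi : i ≠ 0) :
    Subsingleton (KH l (S ⊗[S] S') i) := by
  rw [isKoszulRegularSeq_iff] at h
  have h0 := h i hi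
  have h1 := isZero_homology_restrict (algebraMap S S') (ModuleCat.of S' S') l i
    (ModuleCat.isZero_of_subsingleton _)
  let e' : ((ModuleCat.restrictScalars (algebraMap S S')).obj (ModuleCat.of S' S')) ≃ₗ[S] S' :=
    { toFun := fun t => t
      invFun := fun t => t
      left_inv := fun _ => rfl
      right_inv := fun _ => rfl
      map_add' := fun _ _ => rfl
      map_smul' := fun s t => (Algebra.smul_def s (show S' from t)).symm }
  have h2 : Subsingleton (KH l ((ModuleCat.restrictScalars (algebraMap S S')).obj
      (ModuleCat.of S' S')) i) := ModuleCat.subsingleton_of_isZero h1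
  exact subsingleton_KH_of_equiv l (e'.trans (TensorProduct.lid S S').symm) i h2

/-- **Flat-local descent of Koszul-regularity.**  If every maximal ideal of `S` survives in a flat
`S`-algebra over which the image of `l` is Koszul-regular, then `l` is Koszul-regular. -/
theorem isKoszulRegularSeq_of_flat_local (l : List S)
    (h : ∀ 𝔪 : Ideal S, 𝔪.IsMaximal → ∃ (S' : Type u) (_ : CommRing S') (_ : Algebra S S'),
      Module.Flat S S' ∧ 𝔪.map (algebraMap S S') ≠ ⊤ ∧
        LCI.IsKoszulRegularSeq S' (l.map (algebraMap S S'))) :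
    LCI.IsKoszulRegularSeq S l := by
  rw [isKoszulRegularSeq_iff]
  intro i hi
  refine subsingleton_of_forall_eq 0 fun h0 => ?_
  by_contra hne
  have hann : Ideal.torsionOf S (KH l S i) h0 ≠ ⊤ := by
    intro htop
    have : (1 : S) ∈ Ideal.torsionOf S (KH l S i) h0 := by rw [htop]; exact Submodule.mem_top
    rw [Ideal.mem_torsionOf_iff, one_smul] at this
    exact hne this
  obtain ⟨𝔪, h𝔪, hle⟩ := Ideal.exists_le_maximal _ hann
  obtain ⟨S', _, _, hflat, htop, hreg⟩ := h 𝔪 h𝔪
  have h1 := subsingleton_KH_tensor_of_isKoszulRegularSeq S' l hreg i hi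
  rw [subsingleton_KH_tensor_iff] at h1
  -- the injection `S ⧸ ann h0 → H`
  let f : (S ⧸ Ideal.torsionOf S (KH l S i) h0) →ₗ[S] KH l S i :=
    Submodule.liftQ _ (LinearMap.toSpanSingleton S (KH l S i) h0) (le_of_eq rfl)
  have hf : Function.Injective f := by
    rw [← LinearMap.ker_eq_bot]
    exact Submodule.ker_liftQ_eq_bot _ _ _ (le_of_eq rfl)
  have hf' := Module.Flat.rTensor_preserves_injective_linearMap (M := S') f hf
  have h2 : Subsingleton ((S ⧸ Ideal.torsionOf S (KH l S i) h0) ⊗[S] S') :=
    hf'.subsingleton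
  have e := TensorProduct.quotTensorEquivQuotSMul S' (Ideal.torsionOf S (KH l S i) h0)
  have h3 : Subsingleton (S' ⧸ (Ideal.torsionOf S (KH l S i) h0) • (⊤ : Submodule S S')) :=
    e.symm.toEquiv.subsingleton_congr.mpr h2
  rw [Submodule.Quotient.subsingleton_iff] at h3
  apply htop
  rw [eq_top_iff]
  have h4 : (1 : S') ∈ (Ideal.torsionOf S (KH l S i) h0) • (⊤ : Submodule S S') := by
    rw [h3]; exact Submodule.mem_top
  have h5 : (Ideal.torsionOf S (KH l S i) h0) • (⊤ : Submodule S S') ≤
      ((𝔪.map (algebraMap S S')).restrictScalars S) := by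
    rw [Submodule.smul_le]
    intro a ha n _
    rw [Submodule.restrictScalars_mem, Algebra.smul_def]
    exact Ideal.mul_mem_right _ _ (Ideal.mem_map_of_mem _ (hle ha))
  intro x _
  have := h5 h4
  rw [Submodule.restrictScalars_mem] at this
  have hx : x = x * 1 := (mul_one x).symm
  rw [hx]
  exact Ideal.mul_mem_left _ _ this

end loc

end Groth.Agent.Helper13KzDesc
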