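import Mathlib.Algebra.Homology.HomotopyCategory.ShortExact
import Mathlib.Algebra.Homology.HomotopyCategory.HomologicalFunctor
import Mathlib.Algebra.Homology.HomotopyCategory.Pretriangulated

/-!
# The long exact homology sequence of a mapping cone, in usable form (helper21)
-/

namespace Groth.Agent.Lib.Helper21

open CategoryTheory CategoryTheory.Limits CochainComplex HomComplex HomotopyCategory

universe v u

variable {C : Type u} [Category.{v} C] [Abelian C]

variable {F G : CochainComplex C ℤ} (φ : F ⟶ G)

lemma cone_homologyMap_comp (n : ℤ) :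
    HomologicalComplex.homologyMap φ n ≫
      HomologicalComplex.homologyMap (mappingCone.inr φ) n = 0 := by
  rw [← HomologicalComplex.homologyMap_comp]
  have h : Homotopy (φ ≫ mappingCone.inr φ) 0 := by
    refine (Cochain.equivHomotopy _ _).symm ⟨mappingCone.inl φ, ?_⟩
    simp [mappingCone.δ_inl]
  rw [h.homologyMap_eq n]
  simp

/-- exactness of `H^n(F) → H^n(G) → H^n(cone φ)` -/
theorem cone_homology_exact₂ (n : ℤ) :
    (ShortComplex.mk _ _ (cone_homologyMap_comp φ n)).Exact := by
  have h := (HomotopyCategory.homologyFunctor C (ComplexShape.up ℤ) 0).homologySequence_exact₂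
    (mappingCone.triangleh φ) (mappingCone_triangleh_distinguished φ) n
  refine (ShortComplex.exact_iff_of_iso ?_).mp h
  refine ShortComplex.isoMk
    ((homologyFunctorFactors C (ComplexShape.up ℤ) n).app F)
    ((homologyFunctorFactors C (ComplexShape.up ℤ) n).app G)
    ((homologyFunctorFactors C (ComplexShape.up ℤ) n).app (mappingCone φ)) ?_ ?_
  · exact ((homologyFunctorFactors C (ComplexShape.up ℤ) n).hom.naturality φ).symm
  · exact ((homologyFunctorFactors C (ComplexShape.up ℤ) n).hom.naturality
      (mappingCone.inr φ)).symm

/-- `H^n(G) → H^n(cone φ)` is epi when `H^{n+1}(F) = 0`. -/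
theorem cone_homology_epi (n : ℤ) (hF : IsZero (F.homology (n + 1))) :
    Epi (HomologicalComplex.homologyMap (mappingCone.inr φ) n) := by
  have h := ((HomotopyCategory.homologyFunctor C (ComplexShape.up ℤ) 0
    ).homologySequence_epi_shift_map_mor₂_iff
    (mappingCone.triangleh φ) (mappingCone_triangleh_distinguished φ) n (n + 1) rfl).mpr (by
      apply IsZero.eq_of_tgt
      exact IsZero.of_iso hF ((homologyFunctorFactors C (ComplexShape.up ℤ) (n + 1)).app F))
  have nat := (homologyFunctorFactors C (ComplexShape.up ℤ) n).hom.naturality (mappingCone.inr φ)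
  have h2 : Epi ((homologyFunctorFactors C (ComplexShape.up ℤ) n).hom.app G ≫
      HomologicalComplex.homologyMap (mappingCone.inr φ) n) := by
    have : Epi (((HomotopyCategory.quotient C (ComplexShape.up ℤ)) ⋙
        HomotopyCategory.homologyFunctor C (ComplexShape.up ℤ) n).map (mappingCone.inr φ) ≫
        (homologyFunctorFactors C (ComplexShape.up ℤ) n).hom.app (mappingCone φ)) := by
      have : Epi (((HomotopyCategory.quotient C (ComplexShape.up ℤ)) ⋙
        HomotopyCategory.homologyFunctor C (ComplexShape.up ℤ) n).map (mappingCone.inr φ)) := h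
      infer_instance
    rw [nat] at this
    exact this
  exact epi_of_epi ((homologyFunctorFactors C (ComplexShape.up ℤ) n).hom.app G) _

end Groth.Agent.Lib.Helper21
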