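import Groth.Prelude.Def_ega3
import Mathlib.Algebra.Homology.HomotopyCategory.ShortExact
import Mathlib.Algebra.Homology.HomotopyCategory.Pretriangulated
import Mathlib.Algebra.Homology.ShortComplex.ModuleCat
import Mathlib.Algebra.Homology.HomologicalComplexAbelian
import Mathlib.Algebra.Homology.Linear
import Mathlib.RingTheory.Regular.RegularSequence

/-!
# Functoriality and exactness of the iterated-cone Koszul complex `CohIII.koszulCx` (helper21)
-/

namespace Groth.Agent.Lib.Helper21

open CategoryTheory CategoryTheory.Limits CochainComplex HomComplex Pointwise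

universe u

variable {A : Type u} [CommRing A]

section Cone

variable {K L : CochainComplex (ModuleCat.{u} A) ℤ} (φ : K ⟶ L)

/-- first component -/
noncomputable def cfst (n : ℤ) : (mappingCone φ).X n →ₗ[A] K.X (n + 1) :=
  ((mappingCone.fst φ).1.v n (n + 1) rfl).hom

/-- second component -/
noncomputable def csnd (n : ℤ) : (mappingCone φ).X n →ₗ[A] L.X n :=
  ((mappingCone.snd φ).v n n (add_zero n)).hom

/-- first inclusion -/
noncomputable def cinl (n : ℤ) : K.X (n + 1) →ₗ[A] (mappingCone φ).X n :=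
  ((mappingCone.inl φ).v (n + 1) n (by omega)).hom

/-- second inclusion -/
noncomputable def cinr (n : ℤ) : L.X n →ₗ[A] (mappingCone φ).X n :=
  ((mappingCone.inr φ).f n).hom

lemma cfst_cinl (n : ℤ) (u : K.X (n + 1)) : cfst φ n (cinl φ n u) = u := by
  have := mappingCone.inl_v_fst_v φ (n + 1) n (by omega)
  exact congr($(this).hom u)

lemma cfst_cinr (n : ℤ) (v : L.X n) : cfst φ n (cinr φ n v) = 0 := by
  have := mappingCone.inr_f_fst_v φ n (n + 1) rfl
  exact congr($(this).hom v)

lemma csnd_cinl (n : ℤ) (u : K.X (n + 1)) : csnd φ n (cinl φ n u) = 0 := by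
  have := mappingCone.inl_v_snd_v φ (n + 1) n (by omega)
  exact congr($(this).hom u)

lemma csnd_cinr (n : ℤ) (v : L.X n) : csnd φ n (cinr φ n v) = v := by
  have := mappingCone.inr_f_snd_v φ n
  exact congr($(this).hom v)

lemma cone_decomp (n : ℤ) (x : (mappingCone φ).X n) :
    x = cinl φ n (cfst φ n x) + cinr φ n (csnd φ n x) := by
  have := mappingCone.id_X φ n (n + 1) rfl
  exact congr($(this).hom x).symm

lemma cone_ext (n : ℤ) {x y : (mappingCone φ).X n} (h1 : cfst φ n x = cfst φ n y)
    (h2 : csnd φ n x = csnd φ n y) : x = y := by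
  rw [cone_decomp φ n x, cone_decomp φ n y, h1, h2]

end Cone

section ConeMap

variable {K₁ L₁ K₂ L₂ K₃ L₃ : CochainComplex (ModuleCat.{u} A) ℤ} (φ₁ : K₁ ⟶ L₁) (φ₂ : K₂ ⟶ L₂)
  (φ₃ : K₃ ⟶ L₃)
  (a : K₁ ⟶ K₂) (b : L₁ ⟶ L₂) (comm : φ₁ ≫ b = a ≫ φ₂)
  (a' : K₂ ⟶ K₃) (b' : L₂ ⟶ L₃) (comm' : φ₂ ≫ b' = a' ≫ φ₃)

lemma cfst_map (n : ℤ) (x : (mappingCone φ₁).X n) :
    cfst φ₂ n (((mappingCone.map φ₁ φ₂ a b comm).f n).hom x) = (a.f (n + 1)).hom (cfst φ₁ n x) := by
  have : (mappingCone.map φ₁ φ₂ a b comm).f n ≫ (mappingCone.fst φ₂).1.v n (n + 1) rfl =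
      (mappingCone.fst φ₁).1.v n (n + 1) rfl ≫ a.f (n + 1) := by
    simp [mappingCone.map, mappingCone.ext_from_iff _ (n + 1) n rfl]
  exact congr($(this).hom x)

lemma csnd_map (n : ℤ) (x : (mappingCone φ₁).X n) :
    csnd φ₂ n (((mappingCone.map φ₁ φ₂ a b comm).f n).hom x) = (b.f n).hom (csnd φ₁ n x) := by
  have : (mappingCone.map φ₁ φ₂ a b comm).f n ≫ (mappingCone.snd φ₂).v n n (add_zero n) =
      (mappingCone.snd φ₁).v n n (add_zero n) ≫ b.f n := by
    simp [mappingCone.map, mappingCone.ext_from_iff _ (n + 1) n rfl]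
  exact congr($(this).hom x)

include comm in
lemma map_injective (n : ℤ) (ha : Function.Injective (a.f (n + 1)).hom)
    (hb : Function.Injective (b.f n).hom) :
    Function.Injective ((mappingCone.map φ₁ φ₂ a b comm).f n).hom := by
  intro x y hxy
  apply cone_ext φ₁ n
  · apply ha
    rw [← cfst_map φ₁ φ₂ a b comm, ← cfst_map φ₁ φ₂ a b comm, hxy]
  · apply hb
    rw [← csnd_map φ₁ φ₂ a b comm, ← csnd_map φ₁ φ₂ a b comm, hxy]

include comm in
lemma map_surjective (n : ℤ) (ha : Function.Surjective (a.f (n + 1)).hom)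
    (hb : Function.Surjective (b.f n).hom) :
    Function.Surjective ((mappingCone.map φ₁ φ₂ a b comm).f n).hom := by
  intro y
  obtain ⟨u, hu⟩ := ha (cfst φ₂ n y)
  obtain ⟨v, hv⟩ := hb (csnd φ₂ n y)
  refine ⟨cinl φ₁ n u + cinr φ₁ n v, ?_⟩
  apply cone_ext φ₂ n
  · rw [cfst_map, map_add, cfst_cinl, cfst_cinr, add_zero, hu]
  · rw [csnd_map, map_add, csnd_cinl, csnd_cinr, zero_add, hv]

include comm comm' in
lemma map_exact (n : ℤ) (ha : Function.Exact (a.f (n + 1)).hom (a'.f (n + 1)).hom)
    (hb : Function.Exact (b.f n).hom (b'.f n).hom) :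
    Function.Exact ((mappingCone.map φ₁ φ₂ a b comm).f n).hom
      ((mappingCone.map φ₂ φ₃ a' b' comm').f n).hom := by
  intro y
  constructor
  · intro hy
    have h1 : (a'.f (n + 1)).hom (cfst φ₂ n y) = 0 := by
      rw [← cfst_map φ₂ φ₃ a' b' comm', hy, map_zero]
    have h2 : (b'.f n).hom (csnd φ₂ n y) = 0 := by
      rw [← csnd_map φ₂ φ₃ a' b' comm', hy, map_zero]
    obtain ⟨u, hu⟩ := (ha _).mp h1
    obtain ⟨v, hv⟩ := (hb _).mp h2
    refine ⟨cinl φ₁ n u + cinr φ₁ n v, ?_⟩
    apply cone_ext φ₂ n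
    · rw [cfst_map, map_add, cfst_cinl, cfst_cinr, add_zero, hu]
    · rw [csnd_map, map_add, csnd_cinl, csnd_cinr, zero_add, hv]
  · rintro ⟨x, rfl⟩
    apply cone_ext φ₃ n
    · rw [cfst_map, cfst_map, map_zero]
      exact (ha _).mpr ⟨_, rfl⟩
    · rw [csnd_map, csnd_map, map_zero]
      exact (hb _).mpr ⟨_, rfl⟩

end ConeMap

section KoszulMap

open CohIII

/-- functoriality of the Koszul complex in the module -/
noncomputable def koszulMap {M N : ModuleCat.{u} A} (g : M ⟶ N) :
    ∀ fs : List A, koszulCx M fs ⟶ koszulCx N fs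
  | [] => (HomologicalComplex.single (ModuleCat.{u} A) (ComplexShape.up ℤ) 0).map g
  | f :: fs => mappingCone.map (f • 𝟙 (koszulCx M fs)) (f • 𝟙 (koszulCx N fs))
      (koszulMap g fs) (koszulMap g fs) (by
        simp only [Linear.smul_comp, Linear.comp_smul, Category.id_comp, Category.comp_id])

lemma single_map_smul_id (M : ModuleCat.{u} A) (c : A) :
    (HomologicalComplex.single (ModuleCat.{u} A) (ComplexShape.up ℤ) 0).map (c • 𝟙 M) =
      c • 𝟙 ((HomologicalComplex.single (ModuleCat.{u} A) (ComplexShape.up ℤ) 0).obj M) := by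
  refine HomologicalComplex.hom_ext _ _ (fun n => ?_)
  by_cases hn : n = 0
  · subst hn
    simp [HomologicalComplex.single_map_f_self, HomologicalComplex.smul_f_apply]
  · apply (HomologicalComplex.isZero_single_obj_X (ComplexShape.up ℤ) 0 M n hn).eq_of_src

lemma map_eq_smul_id {K L : CochainComplex (ModuleCat.{u} A) ℤ} (φ : K ⟶ L) (c : A)
    (a : K ⟶ K) (b : L ⟶ L) (ha : a = c • 𝟙 K) (hb : b = c • 𝟙 L) (comm : φ ≫ b = a ≫ φ) :
    mappingCone.map φ φ a b comm = c • 𝟙 (mappingCone φ) := by
  subst ha hb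
  refine HomologicalComplex.hom_ext _ _ (fun n => ?_)
  simp [mappingCone.map, mappingCone.ext_from_iff _ (n + 1) n rfl,
    HomologicalComplex.smul_f_apply]

lemma koszulMap_smul_id (M : ModuleCat.{u} A) (c : A) :
    ∀ fs : List A, koszulMap (c • 𝟙 M) fs = c • 𝟙 (koszulCx M fs)
  | [] => single_map_smul_id M c
  | _ :: fs => map_eq_smul_id _ c _ _ (koszulMap_smul_id M c fs) (koszulMap_smul_id M c fs) _

lemma iso_bij {X Y : ModuleCat.{u} A} (e : X ≅ Y) : Function.Bijective e.hom.hom :=
  ConcreteCategory.bijective_of_isIso e.hom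

lemma iso_inv_bij {X Y : ModuleCat.{u} A} (e : X ≅ Y) : Function.Bijective e.inv.hom :=
  ConcreteCategory.bijective_of_isIso e.inv

lemma conj_coe {X X' Y Y' : ModuleCat.{u} A} (e : X' ≅ X) (e' : Y' ≅ Y) (g : X ⟶ Y) :
    ((e.hom ≫ g ≫ e'.inv).hom : X' → Y') = e'.inv.hom ∘ g.hom ∘ e.hom.hom := rfl

lemma single_f_injective {M N : ModuleCat.{u} A} (g : M ⟶ N) (hg : Function.Injective g.hom)
    (n : ℤ) : Function.Injective
      (((HomologicalComplex.single (ModuleCat.{u} A) (ComplexShape.up ℤ) 0).map g).f n).hom := by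
  by_cases hn : n = 0
  · subst hn
    rw [HomologicalComplex.single_map_f_self, conj_coe]
    exact (iso_inv_bij _).1.comp (hg.comp (iso_bij _).1)
  · intro x y _
    have := (HomologicalComplex.isZero_single_obj_X (ComplexShape.up ℤ) 0 M n hn)
    have := ModuleCat.subsingleton_of_isZero this
    exact Subsingleton.elim _ _

lemma single_f_surjective {M N : ModuleCat.{u} A} (g : M ⟶ N) (hg : Function.Surjective g.hom)
    (n : ℤ) : Function.Surjective
      (((HomologicalComplex.single (ModuleCat.{u} A) (ComplexShape.up ℤ) 0).map g).f n).hom := by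
  by_cases hn : n = 0
  · subst hn
    rw [HomologicalComplex.single_map_f_self, conj_coe]
    exact (iso_inv_bij _).2.comp (hg.comp (iso_bij _).2)
  · intro y
    have := (HomologicalComplex.isZero_single_obj_X (ComplexShape.up ℤ) 0 N n hn)
    have := ModuleCat.subsingleton_of_isZero this
    exact ⟨0, Subsingleton.elim _ _⟩

lemma single_f_exact {M N P : ModuleCat.{u} A} (g : M ⟶ N) (h : N ⟶ P)
    (hgh : Function.Exact g.hom h.hom)
    (n : ℤ) : Function.Exact
      (((HomologicalComplex.single (ModuleCat.{u} A) (ComplexShape.up ℤ) 0).map g).f n).hom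
      (((HomologicalComplex.single (ModuleCat.{u} A) (ComplexShape.up ℤ) 0).map h).f n).hom := by
  by_cases hn : n = 0
  · subst hn
    rw [HomologicalComplex.single_map_f_self, HomologicalComplex.single_map_f_self, conj_coe,
      conj_coe]
    intro y
    simp only [Function.comp_apply, Set.mem_range]
    have inj := (iso_inv_bij (HomologicalComplex.singleObjXSelf (ComplexShape.up ℤ) 0 P)).1
    have surj := (iso_bij (HomologicalComplex.singleObjXSelf (ComplexShape.up ℤ) 0 M)).2
    rw [← map_zero (HomologicalComplex.singleObjXSelf (ComplexShape.up ℤ) 0 P).inv.hom,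
      inj.eq_iff, hgh]
    constructor
    · rintro ⟨x, hx⟩
      obtain ⟨x', rfl⟩ := surj x
      refine ⟨x', ?_⟩
      rw [hx]
      exact congr($((HomologicalComplex.singleObjXSelf (ComplexShape.up ℤ) 0 N).hom_inv_id).hom y)
    · rintro ⟨x, rfl⟩
      refine ⟨(HomologicalComplex.singleObjXSelf (ComplexShape.up ℤ) 0 M).hom.hom x, ?_⟩
      exact congr($((HomologicalComplex.singleObjXSelf (ComplexShape.up ℤ) 0 N).inv_hom_id).hom
        _).symm
  · intro y
    have := (HomologicalComplex.isZero_single_obj_X (ComplexShape.up ℤ) 0 N n hn)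
    have := ModuleCat.subsingleton_of_isZero this
    have := (HomologicalComplex.isZero_single_obj_X (ComplexShape.up ℤ) 0 P n hn)
    have := ModuleCat.subsingleton_of_isZero this
    constructor
    · intro _
      exact ⟨0, Subsingleton.elim _ _⟩
    · intro _
      exact Subsingleton.elim _ _

lemma koszulMap_f_injective {M N : ModuleCat.{u} A} (g : M ⟶ N) (hg : Function.Injective g.hom) :
    ∀ (fs : List A) (n : ℤ), Function.Injective ((koszulMap g fs).f n).hom
  | [], n => single_f_injective g hg n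
  | _ :: fs, n => map_injective _ _ _ _ _ n (koszulMap_f_injective g hg fs (n + 1))
      (koszulMap_f_injective g hg fs n)

lemma koszulMap_f_surjective {M N : ModuleCat.{u} A} (g : M ⟶ N)
    (hg : Function.Surjective g.hom) :
    ∀ (fs : List A) (n : ℤ), Function.Surjective ((koszulMap g fs).f n).hom
  | [], n => single_f_surjective g hg n
  | _ :: fs, n => map_surjective _ _ _ _ _ n (koszulMap_f_surjective g hg fs (n + 1))
      (koszulMap_f_surjective g hg fs n)

lemma koszulMap_f_exact {M N P : ModuleCat.{u} A} (g : M ⟶ N) (h : N ⟶ P)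
    (hgh : Function.Exact g.hom h.hom) :
    ∀ (fs : List A) (n : ℤ), Function.Exact ((koszulMap g fs).f n).hom ((koszulMap h fs).f n).hom
  | [], n => single_f_exact g h hgh n
  | _ :: fs, n => map_exact _ _ _ _ _ _ _ _ _ n (koszulMap_f_exact g h hgh fs (n + 1))
      (koszulMap_f_exact g h hgh fs n)

lemma koszulMap_comp_eq_zero {M N P : ModuleCat.{u} A} (g : M ⟶ N) (h : N ⟶ P)
    (hgh : Function.Exact g.hom h.hom) (fs : List A) :
    koszulMap g fs ≫ koszulMap h fs = 0 := by
  refine HomologicalComplex.hom_ext _ _ (fun n => ?_)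
  ext x
  exact (koszulMap_f_exact g h hgh fs n).apply_apply_eq_zero x

theorem koszul_shortExact {M N P : ModuleCat.{u} A} (g : M ⟶ N) (h : N ⟶ P)
    (hg : Function.Injective g.hom) (hh : Function.Surjective h.hom)
    (hgh : Function.Exact g.hom h.hom) (fs : List A) :
    (ShortComplex.mk (koszulMap g fs) (koszulMap h fs)
      (koszulMap_comp_eq_zero g h hgh fs)).ShortExact := by
  apply HomologicalComplex.shortExact_of_degreewise_shortExact
  intro n
  exact ModuleCat.shortComplex_shortExact _ (koszulMap_f_exact g h hgh fs n)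
    (koszulMap_f_injective g hg fs n) (koszulMap_f_surjective h hh fs n)

/-- the quotient `M/fM` in `ModuleCat` -/
noncomputable abbrev quotObj (M : ModuleCat.{u} A) (f : A) : ModuleCat.{u} A :=
  ModuleCat.of A (QuotSMulTop f M)

/-- the quotient map `M → M/fM` -/
noncomputable abbrev quotMap (M : ModuleCat.{u} A) (f : A) : M ⟶ quotObj M f :=
  ModuleCat.ofHom (Submodule.mkQ (f • (⊤ : Submodule A M)))

lemma smul_quot_exact (M : ModuleCat.{u} A) (f : A) :
    Function.Exact (f • 𝟙 M : M ⟶ M).hom (quotMap M f).hom := by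
  intro y
  simp only [ModuleCat.hom_ofHom, Submodule.mkQ_apply, Submodule.Quotient.mk_eq_zero,
    Set.mem_range]
  rw [Submodule.mem_smul_pointwise_iff_exists]
  constructor
  · rintro ⟨x, -, rfl⟩
    exact ⟨x, rfl⟩
  · rintro ⟨x, rfl⟩
    exact ⟨x, trivial, rfl⟩

/-- the short complex `K(fs;M) --f--> K(fs;M) --> K(fs;M/fM)` -/
noncomputable def koszulConsSC (M : ModuleCat.{u} A) (f : A) (fs : List A) :
    ShortComplex (CochainComplex (ModuleCat.{u} A) ℤ) :=
  ShortComplex.mk (f • 𝟙 (koszulCx M fs)) (koszulMap (quotMap M f) fs)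
      (by
        rw [← koszulMap_smul_id]
        exact koszulMap_comp_eq_zero _ _ (smul_quot_exact M f) fs)

theorem koszul_cons_shortExact (M : ModuleCat.{u} A) (f : A) (hf : IsSMulRegular M f)
    (fs : List A) : (koszulConsSC M f fs).ShortExact := by
  have h := koszul_shortExact (f • 𝟙 M) (quotMap M f) hf (Submodule.mkQ_surjective _)
    (smul_quot_exact M f) fs
  refine ShortComplex.shortExact_of_iso ?_ h
  exact ShortComplex.isoMk (Iso.refl _) (Iso.refl _) (Iso.refl _)
    (by simp [koszulConsSC, koszulMap_smul_id]) (by simp [koszulConsSC])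

/-- Key step: for `f` regular on `M`, `K(f :: fs; M)` is quasi-isomorphic to `K(fs; M/fM)`. -/
theorem isZero_homology_cons_iff (M : ModuleCat.{u} A) (f : A) (hf : IsSMulRegular M f)
    (fs : List A) (n : ℤ) :
    IsZero ((koszulCx M (f :: fs)).homology n) ↔
      IsZero ((koszulCx (quotObj M f) fs).homology n) := by
  have hS := koszul_cons_shortExact M f hf fs
  have hq := mappingCone.quasiIso_descShortComplex hS
  have : IsIso (HomologicalComplex.homologyMap
      (mappingCone.descShortComplex (koszulConsSC M f fs)) n) := inferInstance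
  exact (asIso (HomologicalComplex.homologyMap
      (mappingCone.descShortComplex (koszulConsSC M f fs)) n)).isZero_iff

end KoszulMap

end Groth.Agent.Lib.Helper21
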