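import Groth.Agent.Lib.Helper13SyntC
import Groth.Agent.S9169
import Groth.Agent.S9254
import Groth.Agent.Lib.Helper5LciDesc
import Groth.Agent.Lib.Helper5LciLocal

/-!
# Syntomic ⇒ lci (helper13)
-/

set_option autoImplicit false
set_option linter.style.haveILetI false
set_option linter.unusedSectionVars false
universe u
open MvPolynomial TensorProduct Groth.Agent.Lib.Helper7.Synt
open Groth.Agent.Lib.Helper5.LciComp Groth.Agent.Lib.Helper5.LciLocal
open Groth.Agent.Lib.Helper5.KzIdeal

namespace Groth.Agent.Helper13Synt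

/-- a relative global complete intersection is lci -/
theorem isLCI_relGCIRing {R : Type u} [CommRing R] (n c : ℕ) (F : Fin c → MvPolynomial (Fin n) R)
    (h : Synt.IsRelGCI R n c F) : LCI.IsLCI R (Synt.RelGCIRing R n c F) := by
  have hsurj : Function.Surjective (Ideal.Quotient.mkₐ R (Ideal.span (Set.range F))) :=
    Ideal.Quotient.mkₐ_surjective _ _
  refine ⟨Algebra.FiniteType.of_surjective _ hsurj, n,
    Ideal.Quotient.mkₐ R (Ideal.span (Set.range F)), hsurj, ?_⟩
  have hker : RingHom.ker (Ideal.Quotient.mkₐ R (Ideal.span (Set.range F))).toRingHom =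
      Ideal.ofList (List.ofFn F) := by
    rw [Groth.Agent.Lib.Helper7.Synt.ofList_ofFn]
    exact Ideal.mk_ker
  rw [hker, kr_iff]
  exact kr_ofList _ (Groth.Agent.S9254.result R n c F h)

theorem isLCI_of_algEquiv {R A A' : Type u} [CommRing R] [CommRing A] [CommRing A'] [Algebra R A]
    [Algebra R A'] (e : A ≃ₐ[R] A') (h : LCI.IsLCI R A) : LCI.IsLCI R A' := by
  obtain ⟨hft, n, α, hα, hK⟩ := h
  refine ⟨Algebra.FiniteType.equiv hft e, n, (e : A →ₐ[R] A').comp α, e.surjective.comp hα, ?_⟩
  have hker : RingHom.ker ((e : A →ₐ[R] A').comp α).toRingHom = RingHom.ker α.toRingHom := by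
    ext x
    rw [RingHom.mem_ker, RingHom.mem_ker]
    show e (α x) = 0 ↔ α x = 0
    exact map_eq_zero_iff e e.injective
  rw [hker]
  exact hK

/-- **syntomic ⇒ lci** -/
theorem isLCI_of_isSyntomic (R S : Type u) [CommRing R] [CommRing S] [Algebra R S]
    (h : Synt.IsSyntomic R S) : LCI.IsLCI R S := by
  rw [← Groth.Agent.Lib.Helper5.LciDesc.isLCIHom_algebraMap_iff]
  have hT : Ideal.span {g : S | LCI.IsLCI R (Localization.Away g)} = ⊤ := by
    by_contra hne
    obtain ⟨m, hm, hle⟩ := Ideal.exists_le_maximal _ hne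
    haveI := hm.isPrime
    -- the prime of the fibre over `m`
    let pp : PrimeSpectrum R := ⟨m.under R, inferInstance⟩
    let qq : (PrimeSpectrum.comap (algebraMap R S)) ⁻¹' {pp} := ⟨⟨m, inferInstance⟩, rfl⟩
    let Q := PrimeSpectrum.preimageEquivFiber R S pp qq
    have hQ : Q.asIdeal.comap (Algebra.TensorProduct.includeRight.toRingHom) = m := by
      have := (PrimeSpectrum.preimageEquivFiber R S pp).symm_apply_apply qq
      exact congrArg (fun z => z.1.asIdeal) this
    have h1 : ∃ g : S, g ∉ m ∧ Synt.IsSyntomic R (Localization.Away g) := by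
      refine ⟨1, fun h1 => hm.ne_top ((Ideal.eq_top_iff_one _).mpr h1), ?_⟩
      let e : S ≃ₐ[S] Localization.Away (1 : S) :=
        IsLocalization.atUnits _ (Submonoid.powers 1) (by
          rintro _ ⟨k, rfl⟩
          show IsUnit ((1 : S) ^ k)
          exact isUnit_one.pow k)
      exact isSyntomic_of_algEquiv (e.restrictScalars R) h
    obtain ⟨g, hg, n, c, F, hF, ⟨e⟩⟩ :=
      (Groth.Agent.S9169.result R S (m.under R) m Q.asIdeal hQ).1.mp h1
    exact hg (hle (Ideal.subset_span (isLCI_of_algEquiv e.symm (isLCI_relGCIRing n c F hF))))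
  refine isLCIHom_of_span (algebraMap R S) _ hT ?_
  intro s hs
  refine ⟨Localization.Away s, inferInstance, inferInstance, inferInstance, ?_⟩
  have : (algebraMap S (Localization.Away s)).comp (algebraMap R S) =
      algebraMap R (Localization.Away s) := (IsScalarTower.algebraMap_eq R S _).symm
  rw [this, Groth.Agent.Lib.Helper5.LciDesc.isLCIHom_algebraMap_iff]
  exact hs

end Groth.Agent.Helper13Synt
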