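import Mathlib
import Groth.Agent.Lib.Helper7Synt20
import Groth.Agent.Lib.Helper6SmSynt
import Groth.Agent.S9287
import Groth.Agent.Lib.Helper5LciComp

/-! # Splitting a monic polynomial in a finite free syntomic extension (helper7) -/

set_option autoImplicit false
set_option linter.style.haveILetI false
universe u
open Polynomial

namespace Groth.Agent.Lib.Helper7.Synt

/-- syntomic ring maps compose (via helper13's `syntomic ⟺ flat + lci` and helper5's `isLCI_comp`) -/
theorem isSyntomic_trans (A B C : Type u) [CommRing A] [CommRing B] [CommRing C] [Algebra A B]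
    [Algebra B C] [Algebra A C] [IsScalarTower A B C] (h1 : Synt.IsSyntomic A B)
    (h2 : Synt.IsSyntomic B C) : Synt.IsSyntomic A C := by
  obtain ⟨hf1, hl1⟩ := (Groth.Agent.S9287.result A B).mp h1
  obtain ⟨hf2, hl2⟩ := (Groth.Agent.S9287.result B C).mp h2
  exact (Groth.Agent.S9287.result A C).mpr
    ⟨Module.Flat.trans A B C, Groth.Agent.Lib.Helper5.LciComp.isLCI_comp A B C hl1 hl2⟩

theorem ringKrullDim_tensor_eq_zero_of_finite (A k S : Type*) [CommRing A] [Field k] [CommRing S]
    [Algebra A S] [Algebra A k] [Module.Finite A S] [Nontrivial (TensorProduct A k S)] :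
    ringKrullDim (TensorProduct A k S) = 0 := by
  haveI : Module.Finite k (TensorProduct A k S) := Module.Finite.base_change A k S
  haveI : IsArtinianRing (TensorProduct A k S) := IsArtinianRing.of_finite k (TensorProduct A k S)
  exact ringKrullDimZero_iff_ringKrullDim_eq_zero.mp inferInstance

/-- `A[X]/(P)` is syntomic over `A` for `P` monic. -/
theorem isSyntomic_adjoinRoot (A : Type u) [CommRing A] (P : A[X]) (hP : P.Monic) :
    Synt.IsSyntomic A (AdjoinRoot P) := by
  let ε : MvPolynomial (Fin 1) A ≃ₐ[A] A[X] := MvPolynomial.uniqueAlgEquiv A (Fin 1)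
  let F : Fin 1 → MvPolynomial (Fin 1) A := fun _ => ε.symm P
  have hmap : Ideal.span {P} = (Ideal.span (Set.range F)).map (ε : MvPolynomial (Fin 1) A →+* A[X]) := by
    rw [Ideal.map_span, ← Set.range_comp]
    congr 1
    ext x
    simp [F, eq_comm]
  let e : Synt.RelGCIRing A 1 1 F ≃ₐ[A] AdjoinRoot P :=
    Ideal.quotientEquivAlg _ _ ε hmap
  haveI : Module.Finite A (AdjoinRoot P) := (AdjoinRoot.powerBasis' hP).finite
  haveI : Module.Finite A (Synt.RelGCIRing A 1 1 F) := Module.Finite.equiv e.symm.toLinearEquiv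
  have hGCI : Synt.IsRelGCI A 1 1 F := by
    intro p hnt
    refine ⟨le_refl _, ?_⟩
    rw [Nat.sub_self, Nat.cast_zero]
    exact ringKrullDim_tensor_eq_zero_of_finite A p.asIdeal.ResidueField
      (Synt.RelGCIRing A 1 1 F)
  exact isSyntomic_of_algEquiv e (isSyntomic_relGCIRing F hGCI)

theorem exists_splitting (d : ℕ) : ∀ (A : Type u) [CommRing A] (P : A[X]), P.Monic →
    P.natDegree ≤ d →
    ∃ (A' : Type u) (_ : CommRing A') (_ : Algebra A A'),
      Synt.IsSyntomic A A' ∧ Module.Finite A A' ∧ Module.Free A A' ∧ Module.FaithfullyFlat A A' ∧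
        ∃ s : Multiset A', P.map (algebraMap A A') = (s.map fun b => X - C b).prod := by
  induction d with
  | zero =>
    intro A _ P hP hd
    have hP1 : P = 1 := (Polynomial.Monic.natDegree_eq_zero hP).mp (Nat.le_zero.mp hd)
    haveI : Algebra.Smooth A A := ⟨inferInstance, inferInstance⟩
    refine ⟨A, inferInstance, inferInstance,
      Groth.Agent.Lib.Helper6.SmSynt.isSyntomic_of_smooth A A, inferInstance, inferInstance,
      inferInstance, 0, ?_⟩
    simp [hP1]
  | succ d ih =>
    intro A _ P hP hd
    by_cases hle : P.natDegree ≤ d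
    · exact ih A P hP hle
    have hdeg : P.natDegree = d + 1 := by omega
    let α : AdjoinRoot P := AdjoinRoot.root P
    let P₁ : (AdjoinRoot P)[X] := P.map (algebraMap A (AdjoinRoot P))
    have hroot : P₁.IsRoot α := AdjoinRoot.isRoot_root P
    have hfac : (X - C α) * (P₁ /ₘ (X - C α)) = P₁ :=
      Polynomial.mul_divByMonic_eq_iff_isRoot.mpr hroot
    have hP₁ : P₁.Monic := hP.map _
    have hQ : (P₁ /ₘ (X - C α)).Monic := by
      have : ((X - C α) * (P₁ /ₘ (X - C α))).Monic := hfac.symm ▸ hP₁
      exact (monic_X_sub_C α).of_mul_monic_left this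
    have hQd : (P₁ /ₘ (X - C α)).natDegree ≤ d := by
      rcases subsingleton_or_nontrivial (AdjoinRoot P) with h | h
      · rw [natDegree_of_subsingleton]
        exact Nat.zero_le _
      · rw [Polynomial.natDegree_divByMonic _ (monic_X_sub_C α), natDegree_X_sub_C]
        have : P₁.natDegree ≤ P.natDegree :=
          natDegree_map_le (f := algebraMap A (AdjoinRoot P)) (p := P)
        omega
    obtain ⟨A', _, _, hsyn, hfin, hfree, hff, s, hs⟩ := ih (AdjoinRoot P) _ hQ hQd
    letI : Algebra A A' := ((algebraMap (AdjoinRoot P) A').comp (algebraMap A (AdjoinRoot P))).toAlgebra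
    haveI : IsScalarTower A (AdjoinRoot P) A' := IsScalarTower.of_algebraMap_eq fun _ => rfl
    let pb := AdjoinRoot.powerBasis' hP
    haveI : Module.Finite A (AdjoinRoot P) := pb.finite
    haveI : Module.Free A (AdjoinRoot P) := Module.Free.of_basis pb.basis
    haveI : Nonempty (Fin pb.dim) := by
      have : pb.dim = d + 1 := by rw [AdjoinRoot.powerBasis'_dim, hdeg]
      rw [this]
      exact ⟨0⟩
    haveI : Module.FaithfullyFlat A (AdjoinRoot P) :=
      Module.FaithfullyFlat.of_linearEquiv A (Fin pb.dim →₀ A) pb.basis.repr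
    refine ⟨A', inferInstance, inferInstance,
      isSyntomic_trans A (AdjoinRoot P) A' (isSyntomic_adjoinRoot A P hP) hsyn,
      Module.Finite.trans (AdjoinRoot P) A',
      Module.Free.of_basis ((Module.Free.chooseBasis A (AdjoinRoot P)).smulTower
        (Module.Free.chooseBasis (AdjoinRoot P) A')),
      Module.FaithfullyFlat.trans A (AdjoinRoot P) A',
      algebraMap (AdjoinRoot P) A' α ::ₘ s, ?_⟩
    rw [Multiset.map_cons, Multiset.prod_cons, ← hs]
    have h1 : P.map (algebraMap A A') = P₁.map (algebraMap (AdjoinRoot P) A') := by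
      rw [Polynomial.map_map]
      rfl
    have h2 : P₁.map (algebraMap (AdjoinRoot P) A') =
        ((X - C α) * (P₁ /ₘ (X - C α))).map (algebraMap (AdjoinRoot P) A') :=
      congrArg _ hfac.symm
    rw [h1, h2, Polynomial.map_mul, Polynomial.map_sub, Polynomial.map_X, Polynomial.map_C]

end Groth.Agent.Lib.Helper7.Synt
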