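import Mathlib
import Groth.Agent.Lib.Helper7Lift4
import Groth.Agent.Lib.Helper7Synt35
import Groth.Agent.Lib.Helper7Synt43
import Groth.Agent.Lib.Helper20EtProj
import Groth.Agent.Lib.Helper6SmSynt

/-! # Lifting relative global complete intersections and idempotent matrices (helper7)

* `exists_lift_relGCI`: a relative global complete intersection over `R/I` lifts to `R`;
* `exists_etale_lift_idem`: the étale lifting step for an idempotent matrix (uses helper20).
-/

set_option autoImplicit false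
set_option linter.style.haveILetI false
set_option linter.unusedSectionVars false
universe u
open MvPolynomial TensorProduct

namespace Groth.Agent.Lib.Helper7.Synt

section LiftRel

variable (R : Type u) [CommRing R] (I : Ideal R)

/-- a relative global complete intersection over `R/I` lifts to one over `R`. -/
theorem exists_lift_relGCI {n c : ℕ} (Fb : Fin c → MvPolynomial (Fin n) (R ⧸ I))
    (hGCI : Synt.IsRelGCI (R ⧸ I) n c Fb) :
    ∃ (n' c' : ℕ) (F : Fin c' → MvPolynomial (Fin n') R), Synt.IsRelGCI R n' c' F ∧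
      Nonempty ((Synt.RelGCIRing R n' c' F ⧸ I.map (algebraMap R (Synt.RelGCIRing R n' c' F)))
        ≃ₐ[R ⧸ I] Synt.RelGCIRing (R ⧸ I) n c Fb) := by
  have hsurj := MvPolynomial.map_surjective (σ := Fin n) (Ideal.Quotient.mk I)
    Ideal.Quotient.mk_surjective
  choose F hF using fun i => hsurj (Fb i)
  have hFb : (fun i => MvPolynomial.map (Ideal.Quotient.mk I) (F i)) = Fb := funext hF
  have hGCI' : Synt.IsRelGCI (R ⧸ I) n c
      (fun i => MvPolynomial.map (Ideal.Quotient.mk I) (F i)) := by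
    rw [hFb]; exact hGCI
  obtain ⟨hh, hh1, hRel, ⟨ε₁⟩⟩ := exists_relGCI_away_of_quotient (F := F) (I := I) hGCI'
  refine ⟨n + 1, c + 1, snocRel F hh, hRel, ?_⟩
  have heq : (Ideal.span (Set.range F)).map (MvPolynomial.map (algebraMap R (R ⧸ I))) =
      Ideal.span (Set.range Fb) := by
    rw [Ideal.map_span, ← Set.range_comp, ← hFb]
    rfl
  let t1 : (R ⧸ I) ⊗[R] Synt.RelGCIRing R n c F ≃ₐ[R ⧸ I] Synt.RelGCIRing (R ⧸ I) n c Fb :=
    (tensorQuotEquiv (R ⧸ I) (Ideal.span (Set.range F))).trans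
      (Ideal.quotientEquivAlgOfEq (R ⧸ I) heq)
  obtain ⟨t2⟩ := nonempty_tensor_away_equiv R I (Synt.RelGCIRing R n c F)
    (Ideal.Quotient.mk (Ideal.span (Set.range F)) hh) hh1
  let t3 : (R ⧸ I) ⊗[R] Localization.Away (Ideal.Quotient.mk (Ideal.span (Set.range F)) hh)
      ≃ₐ[R ⧸ I] (R ⧸ I) ⊗[R] Synt.RelGCIRing R (n + 1) (c + 1) (snocRel F hh) :=
    Algebra.TensorProduct.congr AlgEquiv.refl ε₁
  let t4 := Algebra.TensorProduct.quotIdealMapEquivQuotTensor
    (Synt.RelGCIRing R (n + 1) (c + 1) (snocRel F hh)) I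
  exact ⟨((t4.trans t3.symm).trans t2.symm).trans t1⟩

end LiftRel

section EtLift

variable (R : Type u) [CommRing R] (I : Ideal R)

/-- the étale lifting step: after an étale extension inducing an isomorphism modulo `I`, an
idempotent matrix over `C'/IC'` lifts. -/
theorem exists_etale_lift_idem (C' : Type u) [CommRing C'] [Algebra R C']
    (hC' : Synt.IsSyntomic R C') {T₀ : Type u} [CommRing T₀] (ϑ' : C' →+* T₀)
    (hϑ' : Function.Surjective ϑ') (hker' : RingHom.ker ϑ' = I.map (algebraMap R C'))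
    {s : ℕ} (eT : Matrix (Fin s) (Fin s) T₀) (heT : ∀ i l, ∑ j, eT i j * eT j l = eT i l) :
    ∃ (C'' : Type u) (_ : CommRing C'') (_ : Algebra R C''), Synt.IsSyntomic R C'' ∧
      ∃ ϑ : C'' →+* T₀, Function.Surjective ϑ ∧ RingHom.ker ϑ = I.map (algebraMap R C'') ∧
        (∀ r, ϑ (algebraMap R C'' r) = ϑ' (algebraMap R C' r)) ∧
        ∃ ε : Matrix (Fin s) (Fin s) C'', (∀ i l, ∑ j, ε i j * ε j l = ε i l) ∧
          ∀ i j, ϑ (ε i j) = eT i j := by
  classical
  let ϑb := RingHom.quotientKerEquivOfSurjective hϑ'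
  let p : Matrix (Fin s) (Fin s) (C' ⧸ RingHom.ker ϑ') := eT.map ϑb.symm
  have hp : IsIdempotentElem p := by
    have h1 : eT * eT = eT := by
      ext i l
      rw [Matrix.mul_apply]
      exact heT i l
    show p * p = p
    have : p = (ϑb.symm.toRingHom).mapMatrix eT := rfl
    rw [this, ← map_mul, h1]
  obtain ⟨C'', _, _, hét, hbij, ε, hε, hεmap⟩ :=
    Groth.Agent.Lib.Helper20.EtProj.exists_etale_lift_idempotent_matrix (RingHom.ker ϑ') p hp
  letI algR : Algebra R C'' := ((algebraMap C' C'').comp (algebraMap R C')).toAlgebra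
  haveI tower : IsScalarTower R C' C'' := IsScalarTower.of_algebraMap_eq (fun r => rfl)
  haveI := hét
  have hsyn : Synt.IsSyntomic R C'' :=
    isSyntomic_trans R C' C'' hC' (Groth.Agent.Lib.Helper6.SmSynt.isSyntomic_of_smooth C' C'')
  refine ⟨C'', inferInstance, algR, hsyn, ?_⟩
  let κ := RingEquiv.ofBijective
    (algebraMap (C' ⧸ RingHom.ker ϑ') (C'' ⧸ (RingHom.ker ϑ').map (algebraMap C' C''))) hbij
  let ϑ : C'' →+* T₀ :=
    ϑb.toRingHom.comp (κ.symm.toRingHom.comp (Ideal.Quotient.mk _))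
  have hϑdef : ∀ x, ϑ x = ϑb (κ.symm (Ideal.Quotient.mk _ x)) := fun x => rfl
  have hκmk : ∀ x : C', κ (Ideal.Quotient.mk _ x) = Ideal.Quotient.mk _ (algebraMap C' C'' x) :=
    fun x => rfl
  have hϑalg : ∀ x : C', ϑ (algebraMap C' C'' x) = ϑ' x := by
    intro x
    rw [hϑdef, ← hκmk, κ.symm_apply_apply]
    rfl
  refine ⟨ϑ, ?_, ?_, ?_, ε, ?_, ?_⟩
  · exact ϑb.surjective.comp (κ.symm.surjective.comp Ideal.Quotient.mk_surjective)
  · have h1 : RingHom.ker ϑ = (RingHom.ker ϑ').map (algebraMap C' C'') := by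
      ext x
      rw [RingHom.mem_ker, hϑdef, map_eq_zero_iff _ ϑb.injective,
        map_eq_zero_iff _ κ.symm.injective, Ideal.Quotient.eq_zero_iff_mem]
    rw [h1, hker', Ideal.map_map]
    rfl
  · intro r
    exact hϑalg (algebraMap R C' r)
  · have h1 : ε * ε = ε := hε
    intro i l
    have := congrFun (congrFun h1 i) l
    rw [Matrix.mul_apply] at this
    exact this
  · intro i j
    have h1 : Ideal.Quotient.mk ((RingHom.ker ϑ').map (algebraMap C' C'')) (ε i j) =
        κ (p i j) := by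
      have := congrFun (congrFun hεmap i) j
      simp only [Matrix.map_apply] at this
      exact this
    rw [hϑdef, h1, κ.symm_apply_apply]
    show ϑb (ϑb.symm (eT i j)) = eT i j
    exact ϑb.apply_symm_apply _

end EtLift

end Groth.Agent.Lib.Helper7.Synt
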