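import Mathlib
import Groth.Agent.Lib.Helper7Lift3
import Groth.Agent.Lib.Helper7Lift5

/-! # Lifting syntomic algebras along `R → R/I`: the assembly (helper7)

`exists_syntomic_lift_of_symRing`: Stacks 07M8 given a lift `C'` of the symmetric algebra
`Sym(P̄) = SymRing e` of the conormal module.
-/

set_option autoImplicit false
set_option linter.style.haveILetI false
set_option linter.unusedSectionVars false
universe u
open MvPolynomial TensorProduct

namespace Groth.Agent.Lib.Helper7.Synt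

section Final

variable (R : Type u) [CommRing R] (I : Ideal R) (A₁ : Type u) [CommRing A₁]
  [Algebra (R ⧸ I) A₁] [Algebra R A₁] [IsScalarTower R (R ⧸ I) A₁]

/-- the lifting of a syntomic algebra, given a lift of the symmetric algebra trick. -/
theorem exists_syntomic_lift_of_symRing (hA₁ : Synt.IsSyntomic (R ⧸ I) A₁) {s : ℕ}
    (e : Matrix (Fin s) (Fin s) A₁) (he : ∀ i l, ∑ j, e i j * e j l = e i l)
    (C' : Type u) [CommRing C'] [Algebra R C'] (hC' : Synt.IsSyntomic R C')
    (ϑ' : C' →+* SymRing e) (hϑ' : Function.Surjective ϑ')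
    (hker' : RingHom.ker ϑ' = I.map (algebraMap R C'))
    (hcomp : ∀ r, ϑ' (algebraMap R C' r) = algebraMap A₁ (SymRing e) (algebraMap R A₁ r)) :
    ∃ (A : Type u) (_ : CommRing A) (_ : Algebra R A), Synt.IsSyntomic R A ∧
      Nonempty ((A ⧸ I.map (algebraMap R A)) ≃ₐ[R ⧸ I] A₁) := by
  classical
  have heT : ∀ i l, ∑ j, (e.map (algebraMap A₁ (SymRing e))) i j *
      (e.map (algebraMap A₁ (SymRing e))) j l = (e.map (algebraMap A₁ (SymRing e))) i l := by
    intro i l
    simp only [Matrix.map_apply]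
    rw [← he i l, map_sum]
    refine Finset.sum_congr rfl fun j _ => ?_
    rw [map_mul]
  obtain ⟨C'', _, _, hC'', ϑ, hϑ, hker, hcomp', ε, hε, hεe⟩ :=
    exists_etale_lift_idem R I C' hC' ϑ' hϑ' hker' (e.map (algebraMap A₁ (SymRing e))) heT
  have hεe' : ∀ i j, ϑ (ε i j) = algebraMap A₁ (SymRing e) (e i j) := hεe
  choose w hw using fun i : Fin s => hϑ (Ideal.Quotient.mk _ (X i))
  haveI : Algebra.Smooth C'' (SymRing (1 - ε)) := smooth_symRing (one_sub_idem ε hε)
  have hD : Synt.IsSyntomic R (SymRing (1 - ε)) :=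
    isSyntomic_trans R C'' (SymRing (1 - ε)) hC''
      (Groth.Agent.Lib.Helper6.SmSynt.isSyntomic_of_smooth C'' (SymRing (1 - ε)))
  let Ψ : SymRing (1 - ε) →ₐ[R] MvPolynomial (Fin s) A₁ :=
    { buildΨ he ϑ ε hεe' with
      commutes' := by
        intro r
        show buildΨ he ϑ ε hεe' (algebraMap R (SymRing (1 - ε)) r) = _
        rw [IsScalarTower.algebraMap_apply R C'' (SymRing (1 - ε)), buildΨ_algebraMap, hcomp',
          hcomp, symSection_algebraMap]
        rfl }
  have hΨ : ∀ d, Ψ d = buildΨ he ϑ ε hεe' d := fun d => rfl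
  have hΨsurj : Function.Surjective Ψ := buildΨ_surjective he ϑ ε hεe' w hϑ hw
  have hΨker : RingHom.ker Ψ.toRingHom = I.map (algebraMap R (SymRing (1 - ε))) := by
    have h1 : RingHom.ker Ψ.toRingHom = RingHom.ker (buildΨ he ϑ ε hεe') := rfl
    rw [h1, ker_buildΨ he ϑ ε hεe' w hϑ hw, hker, Ideal.map_map,
      ← IsScalarTower.algebraMap_eq]
  have hf : ∀ i, Ψ (buildF ε w i) = X i := fun i => buildΨ_F he ϑ ε hεe' w hw i
  exact exists_syntomic_cut R I (SymRing (1 - ε)) A₁ (buildF ε w) hD hA₁ Ψ hΨsurj hΨker hf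

end Final

end Groth.Agent.Lib.Helper7.Synt
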