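import Mathlib
import Groth.Agent.Lib.Helper7Synt54
import Groth.Agent.Lib.Helper7Synt46

/-! # The smooth retract of a syntomic algebra is a relative global complete intersection (helper7)

`exists_symRing_relGCI`: for a syntomic presentation `A = R[x]/(H)` with `I/I²` projective
(`I = (H)`), the symmetric algebra `Sym_A(I/I²) = A[z]/((1 - Ē) z)` (`SymRing`) is `R`-isomorphic to a
relative global complete intersection `R[y]/(F)`.  (Stacks 07CJ.)
-/

set_option autoImplicit false
set_option linter.style.haveILetI false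
set_option linter.unusedSectionVars false
universe u
open MvPolynomial Groth.Agent.Lib.Helper4.FibDim TensorProduct

namespace Groth.Agent.Lib.Helper7.Synt

section Core

variable {R : Type u} [CommRing R] {n s : ℕ} (H : Fin s → MvPolynomial (Fin n) R)

local notation "II" => Ideal.span (Set.range H)
local notation "TT" E => SymRing (Matrix.map E (Ideal.Quotient.mk (Ideal.span (Set.range H))))

/-- the local fibre dimensions of the symmetric algebra of `I/I²` over `R` are `≤ n`. -/
theorem fibLD_symRing_le (hsyn : Synt.IsSyntomic R (Synt.RelGCIRing R n s H))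
    (σ : (II).Cotangent →ₗ[MvPolynomial (Fin n) R ⧸ II] (Fin s → MvPolynomial (Fin n) R ⧸ II))
    (E : Matrix (Fin s) (Fin s) (MvPolynomial (Fin n) R))
    (h1 : ∀ i j, Ideal.Quotient.mk (II) (E i j) =
      σ ((II).toCotangent ⟨H i, Ideal.subset_span ⟨i, rfl⟩⟩) j)
    (Q : PrimeSpectrum (TT E)) :
    fibLD (PrimeSpectrum.comap (algebraMap R (TT E))) Q ≤ (n : WithBot ℕ∞) := by
  let q : PrimeSpectrum (Synt.RelGCIRing R n s H) :=
    PrimeSpectrum.comap (algebraMap (Synt.RelGCIRing R n s H) (TT E)) Q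
  obtain ⟨c, f, h₀, hh₀, hfI, hmul, hGCI⟩ := exists_chart_of_isSyntomic H hsyn q
  have hc : IsChart H c f h₀ := ⟨hfI, hmul, hGCI⟩
  obtain ⟨hcn, hA⟩ := hc.fibLD_eq H q hh₀
  obtain ⟨w, hw⟩ := exists_generators_symRing (II) (fun i => ⟨H i, Ideal.subset_span ⟨i, rfl⟩⟩) σ E h1
    h₀ (fun k => ⟨f k, hfI k⟩) hmul
  have hD1 := fibLD_le_of_generated (A := Synt.RelGCIRing R n s H) (T := TT E) Q c
    (Ideal.Quotient.mk (II) h₀) hh₀ w hw
  have hD3 := fibLD_comap_comp_le R (Synt.RelGCIRing R n s H) (TT E) Q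
  refine hD3.trans ?_
  have : fibLD (PrimeSpectrum.comap (algebraMap R (Synt.RelGCIRing R n s H)))
      (PrimeSpectrum.comap (algebraMap (Synt.RelGCIRing R n s H) (TT E)) Q) =
      ((n - c : ℕ) : WithBot ℕ∞) := hA
  rw [this]
  calc fibLD (PrimeSpectrum.comap (algebraMap (Synt.RelGCIRing R n s H) (TT E))) Q +
        ((n - c : ℕ) : WithBot ℕ∞)
      ≤ (c : WithBot ℕ∞) + ((n - c : ℕ) : WithBot ℕ∞) := add_le_add hD1 le_rfl
    _ = (n : WithBot ℕ∞) := by
        have : c + (n - c) = n := by omega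
        exact_mod_cast congrArg (fun k : ℕ => (k : WithBot ℕ∞)) this

/-- **the symmetric algebra trick**: for a syntomic presentation `R[x]/(H)` with `I/I²` projective,
the symmetric algebra of `I/I²` is a relative global complete intersection over `R`. -/
theorem exists_symRing_relGCI (hsyn : Synt.IsSyntomic R (Synt.RelGCIRing R n s H))
    [Module.Projective (MvPolynomial (Fin n) R ⧸ II) (II).Cotangent] :
    ∃ (E : Matrix (Fin s) (Fin s) (MvPolynomial (Fin n) R)),
      (∀ i l, ∑ j, (E.map (Ideal.Quotient.mk (II))) i j * (E.map (Ideal.Quotient.mk (II))) j l =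
        (E.map (Ideal.Quotient.mk (II))) i l) ∧
      ∃ (N c : ℕ) (F : Fin c → MvPolynomial (Fin N) R), Synt.IsRelGCI R N c F ∧
        Nonempty ((TT E) ≃ₐ[R] Synt.RelGCIRing R N c F) := by
  obtain ⟨σ, E, h1, h2⟩ := exists_split_matrix (II) (fun i => ⟨H i, Ideal.subset_span ⟨i, rfl⟩⟩) rfl
  have ha := split_matrix_a (II) (fun i => ⟨H i, Ideal.subset_span ⟨i, rfl⟩⟩) σ E h1 h2
  have hb := split_matrix_b (II) (fun i => ⟨H i, Ideal.subset_span ⟨i, rfl⟩⟩) σ E h1 h2
  refine ⟨E, fun i l => ?_, ?_⟩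
  · have := hb i l
    rw [← Ideal.Quotient.eq_zero_iff_mem, map_sub, map_sum, sub_eq_zero] at this
    simpa [Matrix.map_apply] using this
  -- the presentation
  let Φ := symPres (R := R) (II) E
  have hΦ : Function.Surjective Φ := symPres_surjective (II) E
  have hker : ∀ a, Φ a = 0 ↔ a ∈ symIdeal (II) E := by
    intro a
    rw [← ker_symPres (R := R) (II) E]
    rfl
  obtain ⟨r, hr1, hr2⟩ := exists_symUnit (I := II) (H := H) (E := E) rfl ha hb
  let ε : MvPolynomial (Fin (s + n)) R ≃ₐ[R] MvPolynomial (Fin s) (MvPolynomial (Fin n) R) :=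
    (renameEquiv R finSumFinEquiv.symm).trans (sumAlgEquiv R (Fin s) (Fin n))
  let Φ' : MvPolynomial (Fin (s + n)) R →ₐ[R] (TT E) := Φ.comp ε.toAlgHom
  have hΦ' : Function.Surjective Φ' := hΦ.comp ε.surjective
  let G : Fin s → MvPolynomial (Fin (s + n)) R := fun i => ε.symm (symGen H E i)
  have hG : ∀ i, Φ' (G i) = 0 := by
    intro i
    show Φ (ε (ε.symm (symGen H E i))) = 0
    rw [ε.apply_symm_apply, hker]
    exact symGen_mem_symIdeal (I := II) (H := H) (E := E) (fun i => Ideal.subset_span (Set.mem_range_self i)) i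
  have hr : Φ' (ε.symm r) = 1 := by
    show Φ (ε (ε.symm r)) = 1
    rw [ε.apply_symm_apply]
    have := (hker (r - 1)).mpr hr1
    rw [map_sub, map_one, sub_eq_zero] at this
    exact this
  have hr' : ∀ a, Φ' a = 0 → ε.symm r * a ∈ Ideal.span (Set.range G) := by
    intro a ha'
    have h3 : ε a ∈ symIdeal (II) E := (hker _).mp ha'
    obtain ⟨c, hc⟩ := (Ideal.mem_span_range_iff_exists_fun).mp (hr2 _ h3)
    have h4 : ε.symm r * a = ∑ i, ε.symm (c i) * G i := by
      have := congrArg ε.symm hc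
      rw [map_sum, map_mul, ε.symm_apply_apply] at this
      rw [← this]
      refine Finset.sum_congr rfl fun i _ => ?_
      rw [map_mul]
    rw [h4]
    exact Ideal.sum_mem _ fun i _ => Ideal.mul_mem_left _ _ (Ideal.subset_span ⟨i, rfl⟩)
  have hfib : ∀ Q : PrimeSpectrum (TT E),
      fibLD (PrimeSpectrum.comap (algebraMap R (TT E))) Q ≤ ((s + n - s : ℕ) : WithBot ℕ∞) := by
    intro Q
    rw [Nat.add_sub_cancel_left]
    exact fibLD_symRing_le H hsyn σ E h1 Q
  obtain ⟨h', hh'1, hh'2, hGCI⟩ := exists_isRelGCI_snocRel_of_presentation Φ' hΦ' G hG (ε.symm r) hr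
    hr' (Nat.le_add_right s n) hfib
  exact ⟨s + n + 1, s + 1, snocRel G h', hGCI,
    nonempty_algEquiv_snocRel_of_presentation Φ' hΦ' G hG h' hh'1 hh'2⟩

end Core

end Groth.Agent.Lib.Helper7.Synt
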