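import Mathlib
import Groth.Agent.S6827
import Groth.Prelude.Def_Smoothing

/-! # The lifting lemma for Popescu smoothing (Stacks 07CN) (helper7)

`exists_lift_fin`: `R → Λ` flat, `I² = 0`, `Λ/IΛ` ind-smooth over `R/I`, `B` smooth over `R`,
`φ : B → Λ`, finitely many `g_i ∈ IB` with `φ(g_i) = 0`.  Then `φ` factors modulo `I` through a
smooth `B'` killing the `g_i`.
-/

set_option autoImplicit false
set_option linter.style.haveILetI false
set_option linter.unusedSectionVars false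
universe u
open MvPolynomial TensorProduct

namespace Groth.Agent.Lib.Helper7.Smoothing


section Core

variable {R : Type u} [CommRing R] (I : Ideal R) {Λ : Type u} [CommRing Λ] [Algebra R Λ]

theorem smul_eq_zero_of_mem_map (hI : I ^ 2 = ⊥) {D : Type u} [CommRing D] [Algebra R D]
    {ε : R} (hε : ε ∈ I) {x : D} (hx : x ∈ I.map (algebraMap R D)) : ε • x = 0 := by
  have h1 : algebraMap R D ε * x ∈ I.map (algebraMap R D) * I.map (algebraMap R D) :=
    Ideal.mul_mem_mul (Ideal.mem_map_of_mem _ hε) hx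
  rw [← pow_two, ← Ideal.map_pow, hI, Ideal.map_bot] at h1
  rw [Algebra.smul_def]
  exact h1

theorem isNilpotent_map (hI : I ^ 2 = ⊥) (D : Type u) [CommRing D] [Algebra R D] :
    IsNilpotent (I.map (algebraMap R D)) :=
  ⟨2, by rw [← Ideal.map_pow, hI, Ideal.map_bot]; rfl⟩

/-- the core lifting step (Stacks 07CN, second half). -/
theorem exists_lift_core (hI : I ^ 2 = ⊥)
    (hind : Smoothing.IndSmooth (R ⧸ I) (Λ ⧸ I.map (algebraMap R Λ)))
    {B : Type u} [CommRing B] [Algebra R B] [Algebra.Smooth R B] (φ : B →ₐ[R] Λ)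
    {ι : Type u} [Fintype ι] (b : ι → B) (hb : ∀ i, φ (b i) = 0) :
    ∃ (D : Type u) (_ : CommRing D) (_ : Algebra R D), Algebra.Smooth R D ∧
      ∃ (α : B →ₐ[R] D) (β : D →ₐ[R] Λ), (∀ i, α (b i) ∈ I.map (algebraMap R D)) ∧
        ∀ x : B, β (α x) - φ x ∈ I.map (algebraMap R Λ) := by
  classical
  -- the finitely presented `R/I`-algebra
  let IB := I.map (algebraMap R B)
  let 𝔟 : Ideal (B ⧸ IB) := Ideal.span (Set.range fun i => Ideal.Quotient.mk IB (b i))
  have hle : IB ≤ (I.map (algebraMap R Λ)).comap φ := by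
    rw [← Ideal.map_le_iff_le_comap]
    show Ideal.map (φ : B →+* Λ) (Ideal.map (algebraMap R B) I) ≤ _
    rw [Ideal.map_map]
    have : (φ : B →+* Λ).comp (algebraMap R B) = algebraMap R Λ := φ.comp_algebraMap
    rw [this]
  let ψ₀ : (B ⧸ IB) →ₐ[R] (Λ ⧸ I.map (algebraMap R Λ)) := Ideal.quotientMapₐ _ φ hle
  let ψ₁ : (B ⧸ IB) →ₐ[R ⧸ I] (Λ ⧸ I.map (algebraMap R Λ)) :=
    AlgHom.extendScalarsOfSurjective Ideal.Quotient.mk_surjective ψ₀
  have hψ₁ : ∀ x, ψ₁ (Ideal.Quotient.mk IB x) = Ideal.Quotient.mk _ (φ x) := fun x => rfl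
  have hψ₁𝔟 : ∀ a ∈ 𝔟, ψ₁ a = 0 := by
    intro a ha
    have hle' : 𝔟 ≤ RingHom.ker ψ₁.toRingHom := by
      rw [Ideal.span_le]
      rintro _ ⟨i, rfl⟩
      show ψ₁ (Ideal.Quotient.mk IB (b i)) = 0
      rw [hψ₁, hb, map_zero]
    exact hle' ha
  let ψb : ((B ⧸ IB) ⧸ 𝔟) →ₐ[R ⧸ I] (Λ ⧸ I.map (algebraMap R Λ)) :=
    Ideal.Quotient.liftₐ 𝔟 ψ₁ hψ₁𝔟
  have hψb : ∀ x, ψb (Ideal.Quotient.mk 𝔟 (Ideal.Quotient.mk IB x)) = Ideal.Quotient.mk _ (φ x) :=
    fun x => rfl
  haveI hfp1 : Algebra.FinitePresentation (R ⧸ I) (B ⧸ IB) :=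
    Algebra.FinitePresentation.equiv
      (Algebra.TensorProduct.quotIdealMapEquivQuotTensor B I).symm
  have hfp : Algebra.FinitePresentation (R ⧸ I) ((B ⧸ IB) ⧸ 𝔟) :=
    Algebra.FinitePresentation.quotient (Submodule.fg_span (Set.finite_range _))
  obtain ⟨Db, _, _, hsm, gb, hb', hcomp⟩ := hind ((B ⧸ IB) ⧸ 𝔟) hfp ψb
  haveI := hsm
  obtain ⟨D, _, _, hDsm, ⟨e⟩⟩ := Groth.Agent.S6827.result (R := R) I (A₀ := Db)
  haveI := hDsm
  refine ⟨D, inferInstance, inferInstance, hDsm, ?_⟩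
  letI algDb : Algebra R Db := ((algebraMap (R ⧸ I) Db).comp (Ideal.Quotient.mk I)).toAlgebra
  haveI : IsScalarTower R (R ⧸ I) Db := IsScalarTower.of_algebraMap_eq (fun _ => rfl)
  let πD : D →ₐ[R] Db :=
    (e.restrictScalars R).toAlgHom.comp (Ideal.Quotient.mkₐ R (I.map (algebraMap R D)))
  have hπD : ∀ d, πD d = e (Ideal.Quotient.mk _ d) := fun d => rfl
  have hπDsurj : Function.Surjective πD :=
    e.surjective.comp Ideal.Quotient.mk_surjective
  have hπDker : RingHom.ker (πD : D →+* Db) = I.map (algebraMap R D) := by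
    ext d
    rw [RingHom.mem_ker]
    show πD d = 0 ↔ _
    rw [hπD, map_eq_zero_iff _ e.injective, Ideal.Quotient.eq_zero_iff_mem]
  have hπDnil : IsNilpotent (RingHom.ker (πD : D →+* Db)) := by
    rw [hπDker]
    exact isNilpotent_map I hI D
  let mkA : B →ₐ[R] ((B ⧸ IB) ⧸ 𝔟) := (Ideal.Quotient.mkₐ R 𝔟).comp (Ideal.Quotient.mkₐ R IB)
  let fα : B →ₐ[R] Db := (gb.restrictScalars R).comp mkA
  let α : B →ₐ[R] D := Algebra.FormallySmooth.liftOfSurjective fα πD hπDsurj hπDnil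
  have hα : ∀ x, πD (α x) = fα x :=
    Algebra.FormallySmooth.liftOfSurjective_apply fα πD hπDsurj hπDnil
  let mkΛ : Λ →ₐ[R] (Λ ⧸ I.map (algebraMap R Λ)) := Ideal.Quotient.mkₐ R _
  have hmkΛsurj : Function.Surjective mkΛ := Ideal.Quotient.mk_surjective
  have hmkΛnil : IsNilpotent (RingHom.ker (mkΛ : Λ →+* (Λ ⧸ I.map (algebraMap R Λ)))) := by
    have : RingHom.ker (mkΛ : Λ →+* (Λ ⧸ I.map (algebraMap R Λ))) = I.map (algebraMap R Λ) :=
      Ideal.mk_ker
    rw [this]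
    exact isNilpotent_map I hI Λ
  let fβ : D →ₐ[R] (Λ ⧸ I.map (algebraMap R Λ)) := (hb'.restrictScalars R).comp πD
  let β : D →ₐ[R] Λ := Algebra.FormallySmooth.liftOfSurjective fβ mkΛ hmkΛsurj hmkΛnil
  have hβ : ∀ d, mkΛ (β d) = fβ d :=
    Algebra.FormallySmooth.liftOfSurjective_apply fβ mkΛ hmkΛsurj hmkΛnil
  refine ⟨α, β, fun i => ?_, fun x => ?_⟩
  · rw [← hπDker, RingHom.mem_ker]
    show πD (α (b i)) = 0
    rw [hα]
    show gb (Ideal.Quotient.mk 𝔟 (Ideal.Quotient.mk IB (b i))) = 0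
    have : Ideal.Quotient.mk 𝔟 (Ideal.Quotient.mk IB (b i)) = 0 :=
      Ideal.Quotient.eq_zero_iff_mem.mpr (Ideal.subset_span ⟨i, rfl⟩)
    rw [this, map_zero]
  · rw [← Ideal.Quotient.eq]
    show mkΛ (β (α x)) = Ideal.Quotient.mk _ (φ x)
    rw [hβ]
    show hb' (πD (α x)) = _
    rw [hα]
    show hb' (gb (Ideal.Quotient.mk 𝔟 (Ideal.Quotient.mk IB x))) = _
    have := AlgHom.congr_fun hcomp (Ideal.Quotient.mk 𝔟 (Ideal.Quotient.mk IB x))
    rw [AlgHom.comp_apply] at this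
    rw [this, hψb]

end Core



section Eq

variable {R : Type u} [CommRing R] (I : Ideal R) {Λ : Type u} [CommRing Λ] [Algebra R Λ]

/-- the equational-criterion step (Stacks 07CN, first half). -/
theorem exists_poly_step [Module.Flat R Λ]
    {B : Type u} [CommRing B] [Algebra R B] [Algebra.Smooth R B] (φ : B →ₐ[R] Λ)
    (h : B) (hh : h ∈ I.map (algebraMap R B)) (hφh : φ h = 0) :
    ∃ (C' : Type u) (_ : CommRing C') (_ : Algebra R C'), Algebra.Smooth R C' ∧
      ∃ (γ : B →ₐ[R] C') (φC : C' →ₐ[R] Λ), φC.comp γ = φ ∧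
        ∃ (ι : Type u) (_ : Fintype ι) (ε : ι → R) (b' : ι → C'), (∀ i, ε i ∈ I) ∧
          (∀ i, φC (b' i) = 0) ∧ γ h = ∑ i, ε i • b' i := by
  classical
  have hh' : h ∈ Submodule.span B ((algebraMap R B) '' (I : Set R)) := hh
  obtain ⟨t, htI, c, hc⟩ := (Submodule.mem_span_image_iff_exists_fun B).mp hh'
  -- the relation in `Λ`
  have hrel : ∑ a : t, (a : R) • φ (c a) = 0 := by
    rw [← hφh, ← hc, map_sum]
    refine Finset.sum_congr rfl fun a _ => ?_
    rw [smul_eq_mul, map_mul, AlgHom.commutes, Algebra.smul_def, mul_comm]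
  obtain ⟨k, a, y, hxy, hfa⟩ := Module.Flat.isTrivialRelation_of_sum_smul_eq_zero
    (f := fun a : t => (a : R)) (x := fun a : t => φ (c a)) hrel
  have hxy' : ∀ i : t, φ (c i) = ∑ j, a i j • y j := hxy
  have hfa' : ∀ j, ∑ i : t, (i : R) * a i j = 0 := hfa
  let γ : B →ₐ[R] MvPolynomial (Fin k) B := IsScalarTower.toAlgHom R B (MvPolynomial (Fin k) B)
  have hγ : ∀ x, γ x = C x := fun x => rfl
  let φC : MvPolynomial (Fin k) B →ₐ[R] Λ :=
    { MvPolynomial.eval₂Hom (φ : B →+* Λ) y with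
      commutes' := by
        intro r
        show MvPolynomial.eval₂Hom (φ : B →+* Λ) y (algebraMap R (MvPolynomial (Fin k) B) r) = _
        rw [IsScalarTower.algebraMap_apply R B (MvPolynomial (Fin k) B), MvPolynomial.algebraMap_eq,
          eval₂Hom_C]
        exact φ.commutes r }
  have hφC_C : ∀ x, φC (C x) = φ x := fun x => eval₂Hom_C _ _ x
  have hφC_X : ∀ j, φC (X j) = y j := fun j => eval₂Hom_X' _ _ j
  haveI : Algebra.Smooth B (MvPolynomial (Fin k) B) := {}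
  haveI : Algebra.Smooth R (MvPolynomial (Fin k) B) :=
    Algebra.Smooth.comp R B (MvPolynomial (Fin k) B)
  refine ⟨MvPolynomial (Fin k) B, inferInstance, inferInstance, inferInstance, γ, φC, ?_, ?_⟩
  · ext x
    show φC (C x) = φ x
    exact hφC_C x
  let b' : t → MvPolynomial (Fin k) B := fun i => C (c i) - ∑ j, a i j • X j
  refine ⟨t, inferInstance, fun i => (i : R), b', fun i => htI i.2, fun i => ?_, ?_⟩
  · show φC (C (c i) - ∑ j, a i j • X j) = 0
    rw [map_sub, hφC_C, map_sum, hxy' i, sub_eq_zero]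
    refine Finset.sum_congr rfl fun j _ => ?_
    rw [map_smul, hφC_X]
  · have h1 : γ h = ∑ i : t, (i : R) • C (c i) := by
      rw [hγ, ← hc, map_sum]
      refine Finset.sum_congr rfl fun i _ => ?_
      rw [smul_eq_mul, map_mul, Algebra.smul_def, mul_comm,
        IsScalarTower.algebraMap_apply R B (MvPolynomial (Fin k) B), MvPolynomial.algebraMap_eq]
    have h2 : ∑ i : t, (i : R) • ∑ j, a i j • (X j : MvPolynomial (Fin k) B) = 0 := by
      simp only [Finset.smul_sum, smul_smul]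
      rw [Finset.sum_comm]
      refine Finset.sum_eq_zero fun j _ => ?_
      rw [← Finset.sum_smul, hfa' j, zero_smul]
    rw [h1]
    show _ = ∑ i : t, (i : R) • (C (c i) - ∑ j, a i j • X j)
    simp only [smul_sub, Finset.sum_sub_distrib]
    rw [h2, sub_zero]

end Eq


section Main

variable {R : Type u} [CommRing R] (I : Ideal R) {Λ : Type u} [CommRing Λ] [Algebra R Λ]

/-- two maps that agree modulo `I` agree on `IB` when `I² = 0`. -/
theorem eq_of_sub_mem_of_mem_map (hI : I ^ 2 = ⊥) {B : Type u} [CommRing B] [Algebra R B]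
    (φ ψ : B →ₐ[R] Λ) (h : ∀ x, ψ x - φ x ∈ I.map (algebraMap R Λ)) {x : B}
    (hx : x ∈ I.map (algebraMap R B)) : ψ x = φ x := by
  have hx' : x ∈ Submodule.span B ((algebraMap R B) '' (I : Set R)) := hx
  obtain ⟨t, htI, c, hc⟩ := (Submodule.mem_span_image_iff_exists_fun B).mp hx'
  rw [← hc, map_sum, map_sum]
  refine Finset.sum_congr rfl fun a _ => ?_
  rw [smul_eq_mul, map_mul, map_mul, AlgHom.commutes, AlgHom.commutes, ← sub_eq_zero, ← sub_mul,
    mul_comm, ← Algebra.smul_def]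
  exact smul_eq_zero_of_mem_map I hI (htI a.2) (h (c a))

theorem exists_lift_once (hI : I ^ 2 = ⊥) [Module.Flat R Λ]
    (hind : Smoothing.IndSmooth (R ⧸ I) (Λ ⧸ I.map (algebraMap R Λ)))
    {B : Type u} [CommRing B] [Algebra R B] [Algebra.Smooth R B] (φ : B →ₐ[R] Λ)
    (h : B) (hh : h ∈ I.map (algebraMap R B)) (hφh : φ h = 0) :
    ∃ (B' : Type u) (_ : CommRing B') (_ : Algebra R B'), Algebra.Smooth R B' ∧
      ∃ (α : B →ₐ[R] B') (β : B' →ₐ[R] Λ), α h = 0 ∧
        ∀ b : B, β (α b) - φ b ∈ I.map (algebraMap R Λ) := by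
  obtain ⟨C', _, _, hC', γ, φC, hcomp, ι, _, ε, b', hε, hb', hγh⟩ :=
    exists_poly_step I φ h hh hφh
  haveI := hC'
  obtain ⟨D, _, _, hD, α, β, hα, hβ⟩ := exists_lift_core I hI hind φC b' hb'
  refine ⟨D, inferInstance, inferInstance, hD, α.comp γ, β, ?_, fun b => ?_⟩
  · show α (γ h) = 0
    rw [hγh, map_sum]
    refine Finset.sum_eq_zero fun i _ => ?_
    rw [map_smul]
    exact smul_eq_zero_of_mem_map I hI (hε i) (hα i)
  · show β (α (γ b)) - φ b ∈ _
    have : φ b = φC (γ b) := by rw [← hcomp]; rfl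
    rw [this]
    exact hβ (γ b)

theorem exists_lift_fin (hI : I ^ 2 = ⊥) [Module.Flat R Λ]
    (hind : Smoothing.IndSmooth (R ⧸ I) (Λ ⧸ I.map (algebraMap R Λ))) (n : ℕ) :
    ∀ (B : Type u) [CommRing B] [Algebra R B] [Algebra.Smooth R B] (φ : B →ₐ[R] Λ)
      (g : Fin n → B), (∀ i, g i ∈ I.map (algebraMap R B)) → (∀ i, φ (g i) = 0) →
      ∃ (B' : Type u) (_ : CommRing B') (_ : Algebra R B'), Algebra.Smooth R B' ∧
        ∃ (α : B →ₐ[R] B') (β : B' →ₐ[R] Λ), (∀ i, α (g i) = 0) ∧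
          ∀ b : B, β (α b) - φ b ∈ I.map (algebraMap R Λ) := by
  induction n with
  | zero =>
    intro B _ _ _ φ g _ _
    exact ⟨B, inferInstance, inferInstance, inferInstance, AlgHom.id R B, φ, fun i => i.elim0,
      fun b => by simp⟩
  | succ n ih =>
    intro B _ _ _ φ g hg hφg
    obtain ⟨B₁, _, _, hB₁, α₁, β₁, hα₁, hβ₁⟩ :=
      exists_lift_once I hI hind φ (g (Fin.last n)) (hg _) (hφg _)
    haveI := hB₁
    have hg' : ∀ i : Fin n, α₁ (g i.castSucc) ∈ I.map (algebraMap R B₁) := by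
      intro i
      have h1 : (I.map (algebraMap R B)).map (α₁ : B →+* B₁) = I.map (algebraMap R B₁) := by
        rw [Ideal.map_map]
        have : (α₁ : B →+* B₁).comp (algebraMap R B) = algebraMap R B₁ := α₁.comp_algebraMap
        rw [this]
      rw [← h1]
      exact Ideal.mem_map_of_mem _ (hg _)
    have hφg' : ∀ i : Fin n, β₁ (α₁ (g i.castSucc)) = 0 := by
      intro i
      have := eq_of_sub_mem_of_mem_map I hI φ (β₁.comp α₁) hβ₁ (hg i.castSucc)
      rw [← hφg i.castSucc, ← this]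
      rfl
    obtain ⟨B₂, _, _, hB₂, α₂, β₂, hα₂, hβ₂⟩ := ih B₁ β₁ (fun i => α₁ (g i.castSucc)) hg' hφg'
    refine ⟨B₂, inferInstance, inferInstance, hB₂, α₂.comp α₁, β₂, fun i => ?_, fun b => ?_⟩
    · refine Fin.lastCases ?_ (fun j => ?_) i
      · show α₂ (α₁ (g (Fin.last n))) = 0
        rw [hα₁, map_zero]
      · exact hα₂ j
    · show β₂ (α₂ (α₁ b)) - φ b ∈ _
      have : β₂ (α₂ (α₁ b)) - φ b = (β₂ (α₂ (α₁ b)) - β₁ (α₁ b)) + (β₁ (α₁ b) - φ b) := by ring
      rw [this]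
      exact Ideal.add_mem _ (hβ₂ (α₁ b)) (hβ₁ b)

end Main

end Groth.Agent.Lib.Helper7.Smoothing
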