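import Mathlib
import Groth.Agent.Lib.Helper7Smoothing1

/-! # Lift once (Stacks 07CM) (helper7)

`exists_lift_once'`: `I² = 0`, `Λ/IΛ` ind-smooth over `R/I`; every `A → Λ` with `A` finitely presented
factors through `B/J` with `B` smooth over `R` and `J ⊆ IB` finitely generated.
-/

set_option autoImplicit false
set_option linter.style.haveILetI false
set_option linter.unusedSectionVars false
universe u
open MvPolynomial TensorProduct

namespace Groth.Agent.Lib.Helper7.Smoothing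

section Once

variable {R : Type u} [CommRing R] (I : Ideal R) {Λ : Type u} [CommRing Λ] [Algebra R Λ]

/-- a smooth lift `B₀` of a smooth `R/I`-algebra through which `A/IA → Λ/IΛ` factors, together
with a lift `β₀ : B₀ → Λ`. -/
theorem exists_smooth_lift_factor (hI : I ^ 2 = ⊥)
    (hind : Smoothing.IndSmooth (R ⧸ I) (Λ ⧸ I.map (algebraMap R Λ)))
    {A : Type u} [CommRing A] [Algebra R A] [Algebra.FinitePresentation R A] (φ : A →ₐ[R] Λ) :
    ∃ (B₀ : Type u) (_ : CommRing B₀) (_ : Algebra R B₀), Algebra.Smooth R B₀ ∧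
      ∃ (ρ : A →ₐ[R] B₀ ⧸ I.map (algebraMap R B₀)) (β₀ : B₀ →ₐ[R] Λ),
        ∀ (a : A) (b : B₀), Ideal.Quotient.mk _ b = ρ a →
          β₀ b - φ a ∈ I.map (algebraMap R Λ) := by
  classical
  let IA := I.map (algebraMap R A)
  have hle : IA ≤ (I.map (algebraMap R Λ)).comap φ := by
    rw [← Ideal.map_le_iff_le_comap]
    show Ideal.map (φ : A →+* Λ) (Ideal.map (algebraMap R A) I) ≤ _
    rw [Ideal.map_map]
    have : (φ : A →+* Λ).comp (algebraMap R A) = algebraMap R Λ := φ.comp_algebraMap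
    rw [this]
  let ψ₀ : (A ⧸ IA) →ₐ[R] (Λ ⧸ I.map (algebraMap R Λ)) := Ideal.quotientMapₐ _ φ hle
  let ψ₁ : (A ⧸ IA) →ₐ[R ⧸ I] (Λ ⧸ I.map (algebraMap R Λ)) :=
    AlgHom.extendScalarsOfSurjective Ideal.Quotient.mk_surjective ψ₀
  have hψ₁ : ∀ x, ψ₁ (Ideal.Quotient.mk IA x) = Ideal.Quotient.mk _ (φ x) := fun x => rfl
  have hfp : Algebra.FinitePresentation (R ⧸ I) (A ⧸ IA) :=
    Algebra.FinitePresentation.equiv
      (Algebra.TensorProduct.quotIdealMapEquivQuotTensor A I).symm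
  obtain ⟨Db, _, _, hsm, gb, hb', hcomp⟩ := hind (A ⧸ IA) hfp ψ₁
  haveI := hsm
  obtain ⟨D, _, _, hDsm, ⟨e⟩⟩ := Groth.Agent.S6827.result (R := R) I (A₀ := Db)
  haveI := hDsm
  refine ⟨D, inferInstance, inferInstance, hDsm, ?_⟩
  letI algDb : Algebra R Db := ((algebraMap (R ⧸ I) Db).comp (Ideal.Quotient.mk I)).toAlgebra
  haveI : IsScalarTower R (R ⧸ I) Db := IsScalarTower.of_algebraMap_eq (fun _ => rfl)
  let πD : D →ₐ[R] Db :=
    (e.restrictScalars R).toAlgHom.comp (Ideal.Quotient.mkₐ R (I.map (algebraMap R D)))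
  have hπD : ∀ d, πD d = e (Ideal.Quotient.mk _ d) := fun d => rfl
  let mkΛ : Λ →ₐ[R] (Λ ⧸ I.map (algebraMap R Λ)) := Ideal.Quotient.mkₐ R _
  have hmkΛsurj : Function.Surjective mkΛ := Ideal.Quotient.mk_surjective
  have hmkΛnil : IsNilpotent (RingHom.ker (mkΛ : Λ →+* (Λ ⧸ I.map (algebraMap R Λ)))) := by
    have : RingHom.ker (mkΛ : Λ →+* (Λ ⧸ I.map (algebraMap R Λ))) = I.map (algebraMap R Λ) :=
      Ideal.mk_ker
    rw [this]
    exact isNilpotent_map I hI Λ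
  let fβ : D →ₐ[R] (Λ ⧸ I.map (algebraMap R Λ)) := (hb'.restrictScalars R).comp πD
  let β : D →ₐ[R] Λ := Algebra.FormallySmooth.liftOfSurjective fβ mkΛ hmkΛsurj hmkΛnil
  have hβ : ∀ d, mkΛ (β d) = fβ d :=
    Algebra.FormallySmooth.liftOfSurjective_apply fβ mkΛ hmkΛsurj hmkΛnil
  let ρ : A →ₐ[R] D ⧸ I.map (algebraMap R D) :=
    ((e.symm.restrictScalars R).toAlgHom.comp (gb.restrictScalars R)).comp
      (Ideal.Quotient.mkₐ R IA)
  have hρ : ∀ a, ρ a = e.symm (gb (Ideal.Quotient.mk IA a)) := fun a => rfl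
  refine ⟨ρ, β, fun a b hab => ?_⟩
  rw [← Ideal.Quotient.eq]
  show mkΛ (β b) = Ideal.Quotient.mk _ (φ a)
  rw [hβ]
  show hb' (e (Ideal.Quotient.mk _ b)) = _
  rw [hab, hρ, e.apply_symm_apply]
  have := AlgHom.congr_fun hcomp (Ideal.Quotient.mk IA a)
  rw [AlgHom.comp_apply] at this
  rw [this, hψ₁]

/-- **lift once** (Stacks 07CM). -/
theorem exists_lift_once' (hI : I ^ 2 = ⊥)
    (hind : Smoothing.IndSmooth (R ⧸ I) (Λ ⧸ I.map (algebraMap R Λ)))
    {A : Type u} [CommRing A] [Algebra R A] [Algebra.FinitePresentation R A] (φ : A →ₐ[R] Λ) :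
    ∃ (B : Type u) (_ : CommRing B) (_ : Algebra R B), Algebra.Smooth R B ∧
      ∃ J : Ideal B, J ≤ I.map (algebraMap R B) ∧ J.FG ∧
        ∃ (g : A →ₐ[R] B ⧸ J) (k : (B ⧸ J) →ₐ[R] Λ), k.comp g = φ := by
  classical
  obtain ⟨B₀, _, _, hB₀, ρ, β₀, hρβ⟩ := exists_smooth_lift_factor I hI hind φ
  haveI := hB₀
  obtain ⟨m, f, hf, hker⟩ := Algebra.FinitePresentation.out (R := R) (A := A)
  choose b hb using fun k : Fin m => Ideal.Quotient.mk_surjective (ρ (f (X k)))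
  have hmem : ∀ k, β₀ (b k) - φ (f (X k)) ∈
      Submodule.span Λ ((algebraMap R Λ) '' (I : Set R)) := fun k => hρβ _ _ (hb k)
  choose t htI c hc using fun k => (Submodule.mem_span_image_iff_exists_fun Λ).mp (hmem k)
  let Δ := Σ k : Fin m, ↥(t k)
  let b' : Fin m → MvPolynomial Δ B₀ := fun k => C (b k) - ∑ a : ↥(t k), (a : R) • X (⟨k, a⟩ : Δ)
  let β' : MvPolynomial Δ B₀ →ₐ[R] Λ :=
    { MvPolynomial.eval₂Hom (β₀ : B₀ →+* Λ) (fun d : Δ => c d.1 d.2) with
      commutes' := by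
        intro r
        show MvPolynomial.eval₂Hom (β₀ : B₀ →+* Λ) _ (algebraMap R (MvPolynomial Δ B₀) r) = _
        rw [IsScalarTower.algebraMap_apply R B₀ (MvPolynomial Δ B₀), MvPolynomial.algebraMap_eq,
          eval₂Hom_C]
        exact β₀.commutes r }
  have hβ'C : ∀ x, β' (C x) = β₀ x := fun x => eval₂Hom_C _ _ x
  have hβ'X : ∀ d : Δ, β' (X d) = c d.1 d.2 := fun d => eval₂Hom_X' _ _ d
  have hβ'b' : ∀ k, β' (b' k) = φ (f (X k)) := by
    intro k
    show β' (C (b k) - ∑ a : ↥(t k), (a : R) • X (⟨k, a⟩ : Δ)) = _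
    rw [map_sub, hβ'C, map_sum]
    have : ∑ a : ↥(t k), β' ((a : R) • X (⟨k, a⟩ : Δ)) = β₀ (b k) - φ (f (X k)) := by
      rw [← hc k]
      refine Finset.sum_congr rfl fun a _ => ?_
      rw [map_smul, hβ'X, Algebra.smul_def, smul_eq_mul, mul_comm]
    rw [this, sub_sub_cancel]
  haveI : Algebra.Smooth B₀ (MvPolynomial Δ B₀) := {}
  haveI : Algebra.Smooth R (MvPolynomial Δ B₀) := Algebra.Smooth.comp R B₀ (MvPolynomial Δ B₀)
  let θ : MvPolynomial (Fin m) R →ₐ[R] MvPolynomial Δ B₀ := aeval b'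
  have hθ : β'.comp θ = φ.comp f := by
    apply MvPolynomial.algHom_ext
    intro k
    show β' (aeval b' (X k)) = φ (f (X k))
    rw [aeval_X, hβ'b']
  let J : Ideal (MvPolynomial Δ B₀) := (RingHom.ker f.toRingHom).map (θ : _ →+* MvPolynomial Δ B₀)
  -- `J ⊆ IB`
  let IB := I.map (algebraMap R (MvPolynomial Δ B₀))
  have hCle : I.map (algebraMap R B₀) ≤ IB.comap (C : B₀ →+* MvPolynomial Δ B₀) := by
    rw [← Ideal.map_le_iff_le_comap, Ideal.map_map]
    exact le_of_eq rfl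
  let incl : (B₀ ⧸ I.map (algebraMap R B₀)) →ₐ[R] (MvPolynomial Δ B₀ ⧸ IB) :=
    Ideal.quotientMapₐ IB (IsScalarTower.toAlgHom R B₀ (MvPolynomial Δ B₀)) hCle
  have hincl : ∀ x, incl (Ideal.Quotient.mk _ x) = Ideal.Quotient.mk IB (C x) := fun x => rfl
  have hmkb' : ∀ k, Ideal.Quotient.mk IB (b' k) = Ideal.Quotient.mk IB (C (b k)) := by
    intro k
    rw [Ideal.Quotient.eq]
    show C (b k) - ∑ a : ↥(t k), (a : R) • X (⟨k, a⟩ : Δ) - C (b k) ∈ IB
    rw [sub_sub_cancel_left]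
    refine IB.neg_mem (Ideal.sum_mem _ fun a _ => ?_)
    rw [Algebra.smul_def]
    exact Ideal.mul_mem_right _ _ (Ideal.mem_map_of_mem _ (htI k a.2))
  have hJle : J ≤ IB := by
    rw [Ideal.map_le_iff_le_comap]
    intro p hp
    rw [Ideal.mem_comap, ← Ideal.Quotient.eq_zero_iff_mem]
    have h1 : (Ideal.Quotient.mkₐ R IB).comp θ = (incl.comp ρ).comp f := by
      apply MvPolynomial.algHom_ext
      intro k
      show Ideal.Quotient.mk IB (aeval b' (X k)) = incl (ρ (f (X k)))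
      rw [aeval_X, hmkb', ← hb k, hincl]
    have h2 := AlgHom.congr_fun h1 p
    have hp' : f p = 0 := hp
    show Ideal.Quotient.mk IB (θ p) = 0
    have h3 : Ideal.Quotient.mk IB (θ p) = incl (ρ (f p)) := h2
    rw [h3, hp', map_zero, map_zero]
  have hJfg : J.FG := hker.map _
  have hβ'J : ∀ x ∈ J, β' x = 0 := by
    intro x hx
    have hle : J ≤ RingHom.ker (β' : MvPolynomial Δ B₀ →+* Λ) := by
      rw [Ideal.map_le_iff_le_comap]
      intro p hp
      rw [Ideal.mem_comap, RingHom.mem_ker]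
      have h2 := AlgHom.congr_fun hθ p
      have hp' : f p = 0 := hp
      show β' (θ p) = 0
      have h3 : β' (θ p) = φ (f p) := h2
      rw [h3, hp', map_zero]
    exact hle hx
  let k : (MvPolynomial Δ B₀ ⧸ J) →ₐ[R] Λ := Ideal.Quotient.liftₐ J β' hβ'J
  let g : A →ₐ[R] (MvPolynomial Δ B₀ ⧸ J) :=
    (Ideal.quotientMapₐ J θ Ideal.le_comap_map).comp
      (Ideal.quotientKerAlgEquivOfSurjective hf).symm.toAlgHom
  refine ⟨MvPolynomial Δ B₀, inferInstance, inferInstance, inferInstance, J, hJle, hJfg, g, k, ?_⟩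
  ext a
  obtain ⟨p, hp⟩ := Ideal.Quotient.mk_surjective ((Ideal.quotientKerAlgEquivOfSurjective hf).symm a)
  have ha : a = f p := by
    have := congrArg (Ideal.quotientKerAlgEquivOfSurjective hf) hp
    rw [AlgEquiv.apply_symm_apply] at this
    rw [← this]
    rfl
  show k (Ideal.quotientMapₐ J θ Ideal.le_comap_map
    ((Ideal.quotientKerAlgEquivOfSurjective hf).symm a)) = φ a
  rw [← hp]
  show β' (θ p) = φ a
  rw [ha]
  exact AlgHom.congr_fun hθ p

end Once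

end Groth.Agent.Lib.Helper7.Smoothing
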