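import Mathlib
import Groth.Agent.Lib.Helper7Smoothing2

/-! # Correcting a factorization modulo a square-zero ideal (helper7)

`exists_fix`: `B`, `B'` smooth over `R`, `I² = 0`, `α : B → B'`, `β : B' → Λ` with `β ∘ α ≡ φ` modulo
`I`.  Then over `B'' = B'[δ]` there are `α' ≡ α` and `β'` extending `β` with `β' ∘ α' = φ`.
-/

set_option autoImplicit false
set_option linter.style.haveILetI false
set_option linter.unusedSectionVars false
universe u
open MvPolynomial TensorProduct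

namespace Groth.Agent.Lib.Helper7.Smoothing

section Fix

variable {R : Type u} [CommRing R] (I : Ideal R) {Λ : Type u} [CommRing Λ] [Algebra R Λ]

/-- correcting a factorization that commutes modulo `I` (`I² = 0`) to one that commutes. -/
theorem exists_fix (hI : I ^ 2 = ⊥)
    {B : Type u} [CommRing B] [Algebra R B] [Algebra.Smooth R B]
    {B' : Type u} [CommRing B'] [Algebra R B'] [Algebra.Smooth R B']
    (α : B →ₐ[R] B') (β : B' →ₐ[R] Λ) (φ : B →ₐ[R] Λ)
    (h : ∀ b, β (α b) - φ b ∈ I.map (algebraMap R Λ)) :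
    ∃ (B'' : Type u) (_ : CommRing B'') (_ : Algebra R B''), Algebra.Smooth R B'' ∧
      ∃ (α' : B →ₐ[R] B'') (β' : B'' →ₐ[R] Λ) (ι : B' →ₐ[R] B''), β'.comp α' = φ ∧
        ∀ b, α' b - ι (α b) ∈ I.map (algebraMap R B'') := by
  classical
  obtain ⟨m, f, hf, -⟩ := Algebra.FinitePresentation.out (R := R) (A := B)
  have hmem : ∀ k : Fin m, β (α (f (X k))) - φ (f (X k)) ∈
      Submodule.span Λ ((algebraMap R Λ) '' (I : Set R)) := fun k => h _
  choose t htI c hc using fun k => (Submodule.mem_span_image_iff_exists_fun Λ).mp (hmem k)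
  let Δ := Σ k : Fin m, ↥(t k)
  let y' : Fin m → MvPolynomial Δ B' := fun k =>
    C (α (f (X k))) - ∑ a : ↥(t k), (a : R) • X (⟨k, a⟩ : Δ)
  let β' : MvPolynomial Δ B' →ₐ[R] Λ :=
    { MvPolynomial.eval₂Hom (β : B' →+* Λ) (fun d : Δ => c d.1 d.2) with
      commutes' := by
        intro r
        show MvPolynomial.eval₂Hom (β : B' →+* Λ) _ (algebraMap R (MvPolynomial Δ B') r) = _
        rw [IsScalarTower.algebraMap_apply R B' (MvPolynomial Δ B'), MvPolynomial.algebraMap_eq,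
          eval₂Hom_C]
        exact β.commutes r }
  have hβ'C : ∀ x, β' (C x) = β x := fun x => eval₂Hom_C _ _ x
  have hβ'X : ∀ d : Δ, β' (X d) = c d.1 d.2 := fun d => eval₂Hom_X' _ _ d
  have hβ'y' : ∀ k, β' (y' k) = φ (f (X k)) := by
    intro k
    show β' (C (α (f (X k))) - ∑ a : ↥(t k), (a : R) • X (⟨k, a⟩ : Δ)) = _
    rw [map_sub, hβ'C, map_sum]
    have : ∑ a : ↥(t k), β' ((a : R) • X (⟨k, a⟩ : Δ)) = β (α (f (X k))) - φ (f (X k)) := by
      rw [← hc k]
      refine Finset.sum_congr rfl fun a _ => ?_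
      rw [map_smul, hβ'X, Algebra.smul_def, smul_eq_mul, mul_comm]
    rw [this, sub_sub_cancel]
  haveI : Algebra.Smooth B' (MvPolynomial Δ B') := {}
  haveI : Algebra.Smooth R (MvPolynomial Δ B') := Algebra.Smooth.comp R B' (MvPolynomial Δ B')
  let ι : B' →ₐ[R] MvPolynomial Δ B' := IsScalarTower.toAlgHom R B' (MvPolynomial Δ B')
  have hι : ∀ x, ι x = C x := fun x => rfl
  let IB := I.map (algebraMap R (MvPolynomial Δ B'))
  have hmky' : ∀ k, Ideal.Quotient.mk IB (y' k) = Ideal.Quotient.mk IB (C (α (f (X k)))) := by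
    intro k
    rw [Ideal.Quotient.eq]
    show C (α (f (X k))) - ∑ a : ↥(t k), (a : R) • X (⟨k, a⟩ : Δ) - C (α (f (X k))) ∈ IB
    rw [sub_sub_cancel_left]
    refine IB.neg_mem (Ideal.sum_mem _ fun a _ => ?_)
    rw [Algebra.smul_def]
    exact Ideal.mul_mem_right _ _ (Ideal.mem_map_of_mem _ (htI k a.2))
  -- the square-zero ideal
  let K : Ideal (MvPolynomial Δ B') := IB ⊓ RingHom.ker (β' : MvPolynomial Δ B' →+* Λ)
  have hKnil : IsNilpotent K := by
    refine ⟨2, ?_⟩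
    have h1 : K ^ 2 ≤ IB ^ 2 := Ideal.pow_right_mono inf_le_left 2
    have h2 : IB ^ 2 = ⊥ := by
      show (I.map (algebraMap R (MvPolynomial Δ B'))) ^ 2 = ⊥
      rw [← Ideal.map_pow, hI, Ideal.map_bot]
    rw [h2] at h1
    exact le_bot_iff.mp h1
  let T := (MvPolynomial Δ B' ⧸ IB) × Λ
  let ιT₀ : MvPolynomial Δ B' →ₐ[R] T := AlgHom.prod (Ideal.Quotient.mkₐ R IB) β'
  have hιT₀K : ∀ x ∈ K, ιT₀ x = 0 := by
    intro x hx
    have h1 : Ideal.Quotient.mk IB x = 0 := Ideal.Quotient.eq_zero_iff_mem.mpr hx.1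
    have h2 : β' x = 0 := hx.2
    show ((Ideal.Quotient.mk IB x, β' x) : T) = 0
    rw [h1, h2]
    rfl
  let ιT : (MvPolynomial Δ B' ⧸ K) →ₐ[R] T := Ideal.Quotient.liftₐ K ιT₀ hιT₀K
  have hιTmk : ∀ x, ιT (Ideal.Quotient.mk K x) = (Ideal.Quotient.mk IB x, β' x) := fun x => rfl
  have hιTinj : Function.Injective ιT := by
    rw [injective_iff_map_eq_zero]
    intro z hz
    obtain ⟨x, rfl⟩ := Ideal.Quotient.mk_surjective z
    rw [hιTmk] at hz
    have h1 : Ideal.Quotient.mk IB x = 0 := congrArg Prod.fst hz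
    have h2 : β' x = 0 := congrArg Prod.snd hz
    rw [Ideal.Quotient.eq_zero_iff_mem]
    exact ⟨Ideal.Quotient.eq_zero_iff_mem.mp h1, h2⟩
  let ν : B →ₐ[R] T := AlgHom.prod ((Ideal.Quotient.mkₐ R IB).comp (ι.comp α)) φ
  have hν : ∀ b, ν b = (Ideal.Quotient.mk IB (C (α b)), φ b) := fun b => rfl
  have hνf : ν.comp f = ιT.comp ((Ideal.Quotient.mkₐ R K).comp (aeval y')) := by
    apply MvPolynomial.algHom_ext
    intro k
    show ν (f (X k)) = ιT (Ideal.Quotient.mk K (aeval y' (X k)))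
    rw [aeval_X, hιTmk, hν, hmky', hβ'y']
  have hrange : ∀ b, ν b ∈ ιT.range := by
    intro b
    obtain ⟨p, rfl⟩ := hf b
    exact ⟨(Ideal.Quotient.mkₐ R K) (aeval y' p), (AlgHom.congr_fun hνf p).symm⟩
  let eT := AlgEquiv.ofInjective ιT hιTinj
  let ν' : B →ₐ[R] (MvPolynomial Δ B' ⧸ K) := eT.symm.toAlgHom.comp (ν.codRestrict ιT.range hrange)
  have hν' : ∀ b, ιT (ν' b) = ν b := by
    intro b
    have h1 : eT (ν' b) = ν.codRestrict ιT.range hrange b := eT.apply_symm_apply _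
    have h2 : ((eT (ν' b) : ιT.range) : T) = ιT (ν' b) := rfl
    rw [← h2, h1]
    rfl
  let α' : B →ₐ[R] MvPolynomial Δ B' := Algebra.FormallySmooth.lift K hKnil ν'
  have hα' : ∀ b, Ideal.Quotient.mk K (α' b) = ν' b := Algebra.FormallySmooth.mk_lift K hKnil ν'
  have hkey : ∀ b, (Ideal.Quotient.mk IB (α' b), β' (α' b)) =
      ((Ideal.Quotient.mk IB (C (α b)), φ b) : T) := by
    intro b
    rw [← hιTmk, hα', hν', hν]
  refine ⟨MvPolynomial Δ B', inferInstance, inferInstance, inferInstance, α', β', ι, ?_, ?_⟩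
  · ext b
    exact congrArg Prod.snd (hkey b)
  · intro b
    rw [← Ideal.Quotient.eq, hι]
    exact congrArg Prod.fst (hkey b)

end Fix

end Groth.Agent.Lib.Helper7.Smoothing
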