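import Mathlib
import Groth.Agent.Lib.Helper7Smoothing3
import Groth.Agent.S6821

/-! # Ind-smoothness lifts along nilpotent flat deformations (Stacks 07CP) (helper7)

* `indSmooth_of_sq_zero`, `indSmooth_of_ringEquiv`, `indSmooth_of_pow_eq_bot`.
-/

set_option autoImplicit false
set_option linter.style.haveILetI false
set_option linter.unusedSectionVars false
universe u
open MvPolynomial TensorProduct

namespace Groth.Agent.Lib.Helper7.Smoothing

section Sqz

variable {R : Type u} [CommRing R] (I : Ideal R) {Λ : Type u} [CommRing Λ] [Algebra R Λ]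

/-- the square-zero case of Stacks 07CP. -/
theorem indSmooth_of_sq_zero (hI : I ^ 2 = ⊥) [Module.Flat R Λ]
    (hind : Smoothing.IndSmooth (R ⧸ I) (Λ ⧸ I.map (algebraMap R Λ))) :
    Smoothing.IndSmooth R Λ := by
  intro A _ _ hfp φ
  haveI := hfp
  obtain ⟨B, _, _, hB, J, hJ, hJfg, g, k, hgk⟩ := exists_lift_once' I hI hind φ
  haveI := hB
  let φB : B →ₐ[R] Λ := k.comp (Ideal.Quotient.mkₐ R J)
  have hφBJ : ∀ x ∈ J, φB x = 0 := by
    intro x hx
    show k (Ideal.Quotient.mk J x) = 0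
    rw [Ideal.Quotient.eq_zero_iff_mem.mpr hx, map_zero]
  obtain ⟨B', _, _, hB', α, β, hαJ, hβα⟩ := Groth.Agent.S6821.result I hI hind φB J hJ hJfg hφBJ
  haveI := hB'
  obtain ⟨B'', _, _, hB'', α', β', ι, hβ'α', hα'ι⟩ := exists_fix I hI α β φB hβα
  have hα'J : ∀ x ∈ J, α' x = 0 := by
    intro x hx
    have h1 := eq_of_sub_mem_of_mem_map (Λ := B'') I hI (ι.comp α) α' hα'ι (hJ hx)
    rw [h1]
    show ι (α x) = 0
    rw [hαJ x hx, map_zero]
  let αb : (B ⧸ J) →ₐ[R] B'' := Ideal.Quotient.liftₐ J α' hα'J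
  refine ⟨B'', inferInstance, inferInstance, hB'', αb.comp g, β', ?_⟩
  ext a
  obtain ⟨b, hb⟩ := Ideal.Quotient.mk_surjective (g a)
  show β' (αb (g a)) = φ a
  rw [← hb]
  show β' (α' b) = φ a
  have h1 : β' (α' b) = φB b := AlgHom.congr_fun hβ'α' b
  rw [h1]
  show k (Ideal.Quotient.mk J b) = φ a
  rw [hb]
  exact AlgHom.congr_fun hgk a

end Sqz

section Transport

/-- ind-smoothness is invariant under compatible isomorphisms of the base and the algebra. -/
theorem indSmooth_of_ringEquiv {R₁ R₂ : Type u} [CommRing R₁] [CommRing R₂] (σ : R₁ ≃+* R₂)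
    {Λ₁ Λ₂ : Type u} [CommRing Λ₁] [CommRing Λ₂] [Algebra R₁ Λ₁] [Algebra R₂ Λ₂] (τ : Λ₁ ≃+* Λ₂)
    (hτ : ∀ r, τ (algebraMap R₁ Λ₁ r) = algebraMap R₂ Λ₂ (σ r))
    (h : Smoothing.IndSmooth R₁ Λ₁) : Smoothing.IndSmooth R₂ Λ₂ := by
  intro A _ _ hfp f
  haveI := hfp
  letI a12 : Algebra R₁ R₂ := σ.toRingHom.toAlgebra
  have hsurj : Function.Surjective (algebraMap R₁ R₂) := σ.surjective
  haveI fp12 : Algebra.FinitePresentation R₁ R₂ := by
    refine Algebra.FinitePresentation.of_surjective (f := Algebra.ofId R₁ R₂) hsurj ?_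
    have : RingHom.ker (Algebra.ofId R₁ R₂).toRingHom = ⊥ :=
      (RingHom.injective_iff_ker_eq_bot _).mp σ.injective
    rw [this]
    exact Submodule.fg_bot
  letI a1 : Algebra R₁ A := ((algebraMap R₂ A).comp (algebraMap R₁ R₂)).toAlgebra
  haveI : IsScalarTower R₁ R₂ A := IsScalarTower.of_algebraMap_eq (fun _ => rfl)
  haveI : Algebra.FinitePresentation R₁ A := Algebra.FinitePresentation.trans R₁ R₂ A
  let f₁ : A →ₐ[R₁] Λ₁ :=
    { toRingHom := τ.symm.toRingHom.comp f.toRingHom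
      commutes' := by
        intro r
        show τ.symm (f (algebraMap R₂ A (σ r))) = _
        rw [f.commutes, ← hτ, τ.symm_apply_apply] }
  have hf₁ : ∀ a, f₁ a = τ.symm (f a) := fun a => rfl
  obtain ⟨B, _, _, hB, g, hh, hcomp⟩ := h A inferInstance f₁
  haveI := hB
  letI b2 : Algebra R₂ B := ((algebraMap R₁ B).comp σ.symm.toRingHom).toAlgebra
  haveI : IsScalarTower R₁ R₂ B := IsScalarTower.of_algebraMap_eq (fun r => by
    show algebraMap R₁ B r = algebraMap R₁ B (σ.symm (σ r))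
    rw [σ.symm_apply_apply])
  -- smoothness over `R₂`
  let σa : R₁ ≃ₐ[R₁] R₂ := AlgEquiv.ofRingEquiv (f := σ) (fun _ => rfl)
  let e1 : B ≃ₐ[R₁] R₂ ⊗[R₁] B :=
    (Algebra.TensorProduct.lid R₁ B).symm.trans
      (Algebra.TensorProduct.congr σa (AlgEquiv.refl (R := R₁) (A₁ := B)))
  let e2 : B ≃ₐ[R₂] R₂ ⊗[R₁] B := AlgEquiv.extendScalarsOfSurjective hsurj e1
  haveI : Algebra.Smooth R₂ B := Algebra.Smooth.of_equiv e2.symm
  let g₂ : A →ₐ[R₂] B := AlgHom.extendScalarsOfSurjective hsurj g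
  let h₂ : B →ₐ[R₂] Λ₂ :=
    { toRingHom := τ.toRingHom.comp hh.toRingHom
      commutes' := by
        intro r
        show τ (hh (algebraMap R₁ B (σ.symm r))) = _
        rw [hh.commutes, hτ, σ.apply_symm_apply] }
  refine ⟨B, inferInstance, b2, inferInstance, g₂, h₂, ?_⟩
  ext a
  show τ (hh (g a)) = f a
  have h1 : hh (g a) = f₁ a := AlgHom.congr_fun hcomp a
  rw [h1, hf₁, τ.apply_symm_apply]

end Transport

section Ind

/-- **Stacks 07CP**: ind-smoothness lifts along nilpotent flat deformations. -/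
theorem indSmooth_of_pow_eq_bot (N : ℕ) : ∀ (R : Type u) [CommRing R] (Λ : Type u) [CommRing Λ]
    [Algebra R Λ] [Module.Flat R Λ] (I : Ideal R), I ^ N = ⊥ →
    Smoothing.IndSmooth (R ⧸ I) (Λ ⧸ I.map (algebraMap R Λ)) → Smoothing.IndSmooth R Λ := by
  induction N with
  | zero =>
    intro R _ Λ _ _ _ I hI hind
    have h2 : I ^ 2 = ⊥ := by
      rw [pow_zero, Ideal.one_eq_top] at hI
      exact le_bot_iff.mp (hI ▸ le_top)
    exact indSmooth_of_sq_zero I h2 hind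
  | succ N ih =>
    intro R _ Λ _ _ _ I hI hind
    by_cases hN : N = 0
    · subst hN
      have h2 : I ^ 2 = ⊥ := by
        rw [zero_add, pow_one] at hI
        rw [hI]
        exact Ideal.bot_pow (by norm_num)
      exact indSmooth_of_sq_zero I h2 hind
    · set 𝔞 : Ideal R := I ^ N with h𝔞
      have h𝔞2 : 𝔞 ^ 2 = ⊥ := by
        rw [h𝔞, ← pow_mul]
        exact le_bot_iff.mp (hI ▸ Ideal.pow_le_pow_right (by omega))
      have h𝔞I : 𝔞 ≤ I := Ideal.pow_le_self hN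
      refine indSmooth_of_sq_zero 𝔞 h𝔞2 ?_
      -- apply the induction hypothesis to `R/𝔞`
      haveI : Module.Flat (R ⧸ 𝔞) (Λ ⧸ 𝔞.map (algebraMap R Λ)) :=
        Module.Flat.of_linearEquiv
          (Algebra.TensorProduct.quotIdealMapEquivQuotTensor Λ 𝔞).toLinearEquiv
      let Ib : Ideal (R ⧸ 𝔞) := I.map (Ideal.Quotient.mk 𝔞)
      have hIb : Ib ^ N = ⊥ := by
        show (I.map (Ideal.Quotient.mk 𝔞)) ^ N = ⊥
        rw [← Ideal.map_pow, ← h𝔞, Ideal.map_quotient_self]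
      refine ih (R ⧸ 𝔞) (Λ ⧸ 𝔞.map (algebraMap R Λ)) Ib hIb ?_
      -- transport
      have hle : 𝔞.map (algebraMap R Λ) ≤ I.map (algebraMap R Λ) := Ideal.map_mono h𝔞I
      have heq : Ib.map (algebraMap (R ⧸ 𝔞) (Λ ⧸ 𝔞.map (algebraMap R Λ))) =
          (I.map (algebraMap R Λ)).map (Ideal.Quotient.mk (𝔞.map (algebraMap R Λ))) := by
        show (I.map (Ideal.Quotient.mk 𝔞)).map _ = _
        rw [Ideal.map_map, Ideal.map_map]
        rfl
      let σ : (R ⧸ I) ≃+* ((R ⧸ 𝔞) ⧸ Ib) := (DoubleQuot.quotQuotEquivQuotOfLE h𝔞I).symm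
      let τ : (Λ ⧸ I.map (algebraMap R Λ)) ≃+*
          ((Λ ⧸ 𝔞.map (algebraMap R Λ)) ⧸
            Ib.map (algebraMap (R ⧸ 𝔞) (Λ ⧸ 𝔞.map (algebraMap R Λ)))) :=
        (DoubleQuot.quotQuotEquivQuotOfLE hle).symm.trans (Ideal.quotEquivOfEq heq.symm)
      refine indSmooth_of_ringEquiv σ τ ?_ hind
      intro r
      obtain ⟨r₀, rfl⟩ := Ideal.Quotient.mk_surjective r
      rfl

end Ind

end Groth.Agent.Lib.Helper7.Smoothing
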