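import Mathlib
import Groth.Prelude.Def_Smoothing
import Groth.Agent.Lib.Helper19FSField

/-!
# Helper7Smoothing45 (helper7): a geometrically reduced field extension is ind-smooth (`indSmooth_field`).
-/

set_option autoImplicit false
set_option linter.style.haveILetI false
universe u
open Function TensorProduct MvPolynomial

namespace Groth.Agent.Lib.Helper7.Smoothing

/-- A geometrically reduced (= separable) field extension is ind-smooth. -/
theorem indSmooth_field {k K : Type u} [Field k] [Field K] [Algebra k K]
    [Algebra.IsGeometricallyReduced k K] : Smoothing.IndSmooth k K := by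
  intro A _ _ hfp f
  obtain ⟨A₁, hA₁⟩ : ∃ A₁ : Subalgebra k K, A₁ = f.range := ⟨_, rfl⟩
  haveI : Algebra.FiniteType k A₁ := by
    rw [hA₁]
    exact Algebra.FiniteType.of_surjective f.rangeRestrict f.rangeRestrict_surjective
  haveI : Algebra.FinitePresentation k A₁ := Algebra.FinitePresentation.of_finiteType.mp inferInstance
  -- the fraction field
  have hbot : (⊥ : Ideal A₁).primeCompl = nonZeroDivisors A₁ := Ideal.primeCompl_bot
  haveI : IsFractionRing A₁ (Localization.AtPrime (⊥ : Ideal A₁)) := by
    change IsLocalization (nonZeroDivisors A₁) _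
    rw [← hbot]
    infer_instance
  letI : Field (Localization.AtPrime (⊥ : Ideal A₁)) := IsFractionRing.toField A₁
  let ιL : Localization.AtPrime (⊥ : Ideal A₁) →ₐ[k] K :=
    IsLocalization.liftAlgHom (M := (⊥ : Ideal A₁).primeCompl) (f := A₁.val) (by
      intro y
      have hy : (y : A₁) ≠ 0 := fun h0 => y.2 (by rw [h0]; exact Ideal.zero_mem _)
      have : ((y : A₁) : K) ≠ 0 := fun h0 => hy (Subtype.ext h0)
      exact this.isUnit)
  have hιL : Function.Injective ιL := (ιL : Localization.AtPrime (⊥ : Ideal A₁) →+* K).injective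
  haveI : Algebra.IsGeometricallyReduced k (Localization.AtPrime (⊥ : Ideal A₁)) :=
    Algebra.IsGeometricallyReduced.of_injective ιL hιL
  haveI : Algebra.IsSmoothAt k (⊥ : Ideal A₁) :=
    Groth.Agent.Lib.Helper19.PBasis.formallySmooth_of_isGeometricallyReduced
  obtain ⟨g, hg, hsm⟩ := Algebra.IsSmoothAt.exists_notMem_smooth k (⊥ : Ideal A₁)
  have hgK : IsUnit ((g : A₁) : K) := by
    have hg0 : g ≠ 0 := fun h0 => hg (by rw [h0]; exact Ideal.zero_mem _)
    have : ((g : A₁) : K) ≠ 0 := fun h0 => hg0 (Subtype.ext h0)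
    exact this.isUnit
  let h : Localization.Away g →ₐ[k] K :=
    IsLocalization.liftAlgHom (M := Submonoid.powers g) (f := A₁.val) (by
      rintro ⟨_, n, rfl⟩
      simp only [map_pow]
      exact hgK.pow n)
  let f₁ : A →ₐ[k] A₁ := f.codRestrict A₁ (fun a => by rw [hA₁]; exact f.mem_range.mpr ⟨a, rfl⟩)
  refine ⟨Localization.Away g, inferInstance, inferInstance, hsm,
    (IsScalarTower.toAlgHom k A₁ (Localization.Away g)).comp f₁, h, ?_⟩
  ext a
  simp only [AlgHom.comp_apply, IsScalarTower.coe_toAlgHom', h]
  rw [IsLocalization.liftAlgHom_apply, IsLocalization.lift_eq]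
  rfl

end Groth.Agent.Lib.Helper7.Smoothing
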