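import Mathlib
import Groth.Prelude.Def_Smoothing

/-!
# Helper7Smoothing52 (helper7): `singularIdeal_le_of_formallySmooth`, `resolvable_descend` (descend a resolution over a smooth `k`-algebra `R` to `k`).
-/

set_option autoImplicit false
set_option linter.style.haveILetI false
universe u
open Function TensorProduct MvPolynomial

namespace Groth.Agent.Lib.Helper7.Smoothing

/-- the singular ideal over `R` is contained in the singular ideal over `k` when `R` is formally
smooth over `k`. -/
theorem singularIdeal_le_of_formallySmooth {k R D : Type u} [CommRing k] [CommRing R]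
    [Algebra k R] [Algebra.FormallySmooth k R] [CommRing D] [Algebra R D] [Algebra k D]
    [IsScalarTower k R D] : Smoothing.singularIdeal R D ≤ Smoothing.singularIdeal k D := by
  unfold Smoothing.singularIdeal
  apply PrimeSpectrum.vanishingIdeal_anti_mono
  intro x hx hxR
  apply hx
  change Algebra.FormallySmooth k (Localization.AtPrime x.asIdeal)
  haveI : Algebra.FormallySmooth R (Localization.AtPrime x.asIdeal) := hxR
  exact Algebra.FormallySmooth.comp k R _

/-- Descend a resolution over `R` (formally smooth, finitely presented over `k`) to `k`. -/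
theorem resolvable_descend {k R A C Λ : Type u} [CommRing k] [CommRing R] [Algebra k R]
    [Algebra.FormallySmooth k R] [Algebra.FinitePresentation k R]
    [CommRing A] [Algebra k A] [CommRing C] [Algebra R C] [Algebra k C] [IsScalarTower k R C]
    [CommRing Λ] [Algebra k Λ] [Algebra R Λ] [IsScalarTower k R Λ]
    (φ : A →ₐ[k] Λ) (g : A →ₐ[k] C) (h' : C →ₐ[R] Λ) (hcomp : ∀ a, h' (g a) = φ a)
    (hsing : ∀ a ∈ Smoothing.singularIdeal k A, g a ∈ Smoothing.singularIdeal R C)
    (𝔮 : Ideal Λ) (hres : Smoothing.Resolvable R h' 𝔮) : Smoothing.Resolvable k φ 𝔮 := by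
  obtain ⟨D, _, _, hDfp, gD, hD, hgh, hle, hnot⟩ := hres
  letI : Algebra k D := ((algebraMap R D).comp (algebraMap k R)).toAlgebra
  haveI : IsScalarTower k R D := IsScalarTower.of_algebraMap_eq (fun _ => rfl)
  haveI := hDfp
  haveI : Algebra.FinitePresentation k D := Algebra.FinitePresentation.trans k R D
  have hHle : Smoothing.singularIdeal R D ≤ Smoothing.singularIdeal k D :=
    singularIdeal_le_of_formallySmooth
  have hsr : Smoothing.singRad R hD ≤ Smoothing.singRad k (hD.restrictScalars k) :=
    Ideal.radical_mono (Ideal.map_mono hHle)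
  refine ⟨D, inferInstance, inferInstance, inferInstance, (gD.restrictScalars k).comp g,
    hD.restrictScalars k, ?_, ?_, ?_⟩
  · ext a
    change hD (gD (g a)) = φ a
    rw [← hcomp, ← hgh]
    rfl
  · unfold Smoothing.singRad
    rw [Ideal.radical_le_radical_iff, Ideal.map_le_iff_le_comap]
    intro a ha
    rw [Ideal.mem_comap]
    rw [← hcomp]
    have h1 : h' (g a) ∈ Smoothing.singRad R h' :=
      Ideal.le_radical (Ideal.mem_map_of_mem _ (hsing a ha))
    exact hsr (hle h1)
  · exact fun hle' => hnot (hsr.trans hle')

end Groth.Agent.Lib.Helper7.Smoothing
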