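import Groth.Agent.Lib.Helper7Smoothing9

set_option autoImplicit false
set_option linter.style.haveILetI false
universe u
open MvPolynomial

namespace Groth.Agent.Lib.Helper7.Smoothing

section PartC
variable {R : Type u} [CommRing R] {n m c : ℕ} (π : R) (f : Fin m → MvPolynomial (Fin n) R)
  (rows : Fin c → Fin m)


theorem DD_isSmoothAt_of_local_data (hR : ∀ r : R, π ^ 2 * r = 0 → π * r = 0)
    (hπ2 : C (π ^ 2) ∈ Ideal.span (Set.range f)) (cols : Fin c → Fin n)
    (a₂ : MvPolynomial (Fin n) R) (h : Fin m → Fin c → MvPolynomial (Fin n) R)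
    (g : Fin m → MvPolynomial (Fin n) R)
    (hhg : ∀ ℓ, (a₂ * Smoothing.jacobianMinor f rows cols) * f ℓ =
      ∑ j, h ℓ j * f (rows j) + C (π ^ 2) * g ℓ)
    (hsp : ∀ j₀, h (rows j₀) = Pi.single j₀ (a₂ * Smoothing.jacobianMinor f rows cols) ∧
      g (rows j₀) = 0)
    (Q : Ideal (DD π f)) [Q.IsPrime]
    (hQ : DDι π f (a₂ * Smoothing.jacobianMinor f rows cols) ∉ Q) :
    Algebra.IsSmoothAt R Q := by
  classical
  obtain ⟨β, hβι, hβz⟩ := exists_chartβ π f rows hR hπ2 cols a₂ h g hhg
  haveI : Algebra.Smooth R (Localization.Away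
      (chartξ π f rows (a₂ * Smoothing.jacobianMinor f rows cols))) :=
    chart_smooth π f rows cols a₂
  have hαs : chartα π f rows (chartξ π f rows (a₂ * Smoothing.jacobianMinor f rows cols)) =
      DDι π f (a₂ * Smoothing.jacobianMinor f rows cols) := chartα_ξ π f rows _
  generalize hs : chartξ π f rows (a₂ * Smoothing.jacobianMinor f rows cols) = s at *
  have hu : IsUnit (algebraMap (ChartB π f rows) (Localization.Away s) s) :=
    IsLocalization.Away.algebraMap_isUnit s
  have hwsp : ∀ j, chartw π f rows h g (rows j) = s * charty π f rows j := by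
    intro j
    rw [chartw, (hsp j).1, (hsp j).2, map_zero, mul_zero, add_zero, Finset.sum_eq_single j]
    · rw [Pi.single_eq_same, hs]
    · intro b _ hb
      rw [Pi.single_eq_of_ne hb, map_zero, zero_mul]
    · intro hj; exact absurd (Finset.mem_univ _) hj
  have hβα : ∀ b, β (chartα π f rows b) =
      algebraMap (ChartB π f rows) (Localization.Away s) b := by
    intro b
    obtain ⟨p, rfl⟩ := chartMk_surjective π f rows b
    have : (β.comp ((chartα π f rows).comp (chartMk π f rows))) =
        (IsScalarTower.toAlgHom R (ChartB π f rows) (Localization.Away s)).comp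
          (chartMk π f rows) := by
      apply MvPolynomial.algHom_ext
      intro k
      refine Fin.addCases (fun i => ?_) (fun j => ?_) k
      · simp only [AlgHom.comp_apply, chartα_mk, aeval_X, IsScalarTower.coe_toAlgHom']
        have : chartαval π f rows (Fin.castAdd c i) = DDι π f (X i) := by simp [chartαval]
        rw [this, hβι]
        congr 1
        change chartMk π f rows (rename (Fin.castAdd c) (X i)) = _
        rw [rename_X]
      · simp only [AlgHom.comp_apply, chartα_mk, aeval_X, IsScalarTower.coe_toAlgHom']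
        have : chartαval π f rows (Fin.natAdd n j) = DDz π f (rows j) := by simp [chartαval]
        rw [this]
        have e := hβz (rows j)
        rw [hwsp, map_mul, mul_comm] at e
        exact hu.mul_left_cancel e
    exact DFunLike.congr_fun this p
  refine isSmoothAt_of_chart (B := ChartB π f rows) (B' := Localization.Away s) s
    (chartα π f rows : ChartB π f rows →+* DD π f) β hβα ?_ Q ?_
  · refine DD_gen π f _ s (fun p => ⟨0, chartξ π f rows p, ?_⟩)
      (fun ℓ => ⟨1, chartw π f rows h g ℓ, ?_⟩)
    · rw [pow_zero, one_mul]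
      exact (chartα_ξ π f rows p).symm
    · rw [pow_one]
      change chartα π f rows s * DDz π f ℓ = chartα π f rows (chartw π f rows h g ℓ)
      rw [hαs, DD_rel π f rows ℓ _ (h ℓ) (g ℓ) (hhg ℓ), chartw, map_add, map_sum, map_mul,
        AlgHom.commutes, chartα_ξ]
      congr 1
      refine Finset.sum_congr rfl fun j _ => ?_
      rw [map_mul, chartα_ξ, chartα_y]
  · change chartα π f rows s ∉ Q
    rw [hαs]
    exact hQ

end PartC

end Groth.Agent.Lib.Helper7.Smoothing
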