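import Groth.Agent.Lib.Helper7Smoothing23
import Groth.Agent.S6829

set_option autoImplicit false
set_option linter.style.haveILetI false
universe u
open MvPolynomial TensorProduct

namespace Groth.Agent.Lib.Helper7.Smoothing

theorem desing_over_D {R Λ A D : Type u} [CommRing R] [CommRing Λ] [Algebra R Λ] (π : R)
    (hΛ : ∀ x : Λ, π ^ 2 • x = 0 → π • x = 0) [CommRing A] [Algebra R A]
    [Algebra.FinitePresentation R A] [CommRing D] [Algebra R D] [Algebra D Λ]
    [IsScalarTower R D Λ] (φ : A →ₐ[R] Λ)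
    (hπ : Smoothing.IsStrictlyStandard R A (algebraMap R A π))
    (ψ : A →ₐ[R] D ⧸ Ideal.span {algebraMap R D (π ^ 4)})
    (hψ : ∀ (a : A) (d : D), Ideal.Quotient.mk (Ideal.span {algebraMap R D (π ^ 4)}) d = ψ a →
      algebraMap D Λ d - φ a ∈ Ideal.span {algebraMap R Λ (π ^ 4)}) :
    ∃ (B : Type u) (_ : CommRing B) (_ : Algebra D B), Algebra.FinitePresentation D B ∧
      ∃ (α' : D ⊗[R] A →ₐ[D] B) (β' : B →ₐ[D] Λ),
        β'.comp α' = Algebra.TensorProduct.lift (Algebra.ofId D Λ) φ (fun _ _ => Commute.all _ _) ∧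
        ∀ r : D, (∀ x : D, algebraMap R D π ^ 2 * x = 0 → algebraMap R D π * (r * x) = 0) →
          algebraMap D B r ∈ Smoothing.singularIdeal D B := by
  classical
  set πD := algebraMap R D π with hπD
  have hsmul : ∀ (k : ℕ) (y : Λ), πD ^ k • y = π ^ k • y := fun k y => by
    rw [Algebra.smul_def, Algebra.smul_def, hπD, ← map_pow, ← IsScalarTower.algebraMap_apply]
  have hΛD : ∀ x : Λ, πD ^ 2 • x = 0 → πD • x = 0 := by
    intro x hx
    have := hΛ x (by rw [← hsmul]; exact hx)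
    have h1 := hsmul 1 x
    rw [pow_one, pow_one] at h1
    rw [h1]; exact this
  have hstd : Smoothing.IsStrictlyStandard D (D ⊗[R] A) (algebraMap D (D ⊗[R] A) πD) := by
    have h1 := (Groth.Agent.S6829.result (R := R) (A := A) (R' := D) (algebraMap R A π)).2 hπ
    have e : (1 : D) ⊗ₜ[R] (algebraMap R A π) = algebraMap D (D ⊗[R] A) πD := by
      calc (1 : D) ⊗ₜ[R] (algebraMap R A π) = (1 : D) ⊗ₜ[R] (π • (1 : A)) := by
            rw [Algebra.algebraMap_eq_smul_one]
        _ = (π • (1 : D)) ⊗ₜ[R] (1 : A) := by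
            rw [TensorProduct.tmul_smul, TensorProduct.smul_tmul']
        _ = πD ⊗ₜ[R] (1 : A) := by rw [hπD, Algebra.algebraMap_eq_smul_one]
        _ = algebraMap D (D ⊗[R] A) πD := by
            rw [Algebra.TensorProduct.algebraMap_apply]
            rfl
    rw [← e]
    exact h1
  obtain ⟨P, hspan, hkt⟩ := hstd
  have hJ : Ideal.span {algebraMap R D (π ^ 4)} = Ideal.span {πD ^ 4} := by
    rw [map_pow]
  let ψ' : A →ₐ[R] D ⧸ Ideal.span {πD ^ 4} :=
    (Ideal.quotientEquivAlgOfEq R hJ).toAlgHom.comp ψ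
  let ρ' : D ⊗[R] A →ₐ[D] D ⧸ Ideal.span {πD ^ 4} :=
    Algebra.TensorProduct.lift (Algebra.ofId D _) ψ' (fun _ _ => Commute.all _ _)
  let φ' : D ⊗[R] A →ₐ[D] Λ :=
    Algebra.TensorProduct.lift (Algebra.ofId D Λ) φ (fun _ _ => Commute.all _ _)
  have hJΛ : Ideal.span {algebraMap D Λ (πD ^ 4)} = Ideal.span {algebraMap R Λ (π ^ 4)} := by
    rw [hπD, ← map_pow, ← IsScalarTower.algebraMap_apply]
  have hP : ∀ x : D ⊗[R] A, ∃ d : D, Ideal.Quotient.mk (Ideal.span {πD ^ 4}) d = ρ' x ∧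
      algebraMap D Λ d - φ' x ∈ Ideal.span {algebraMap D Λ (πD ^ 4)} := by
    intro x
    induction x using TensorProduct.induction_on with
    | zero => exact ⟨0, by simp, by simp⟩
    | tmul d₀ a =>
      obtain ⟨da, hda⟩ := Ideal.Quotient.mk_surjective (ψ a)
      refine ⟨d₀ * da, ?_, ?_⟩
      · simp only [ρ', Algebra.TensorProduct.lift_tmul, ψ', AlgHom.comp_apply, ← hda, map_mul]
        rfl
      · have h2 := hψ a da hda
        rw [← hJΛ] at h2
        simp only [φ', Algebra.TensorProduct.lift_tmul, map_mul]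
        have : algebraMap D Λ d₀ * algebraMap D Λ da - (Algebra.ofId D Λ) d₀ * φ a =
            algebraMap D Λ d₀ * (algebraMap D Λ da - φ a) := by
          rw [mul_sub]; rfl
        rw [this]
        exact Ideal.mul_mem_left _ _ h2
    | add x y hx hy =>
      obtain ⟨d1, h1, h1'⟩ := hx
      obtain ⟨d2, h2, h2'⟩ := hy
      refine ⟨d1 + d2, by rw [map_add, map_add, h1, h2], ?_⟩
      rw [map_add, map_add, add_sub_add_comm]
      exact Ideal.add_mem _ h1' h2'
  have hρ' : ∀ (x : D ⊗[R] A) (d : D), Ideal.Quotient.mk (Ideal.span {πD ^ 4}) d = ρ' x →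
      algebraMap D Λ d - φ' x ∈ Ideal.span {algebraMap D Λ (πD ^ 4)} := by
    intro x d hd
    obtain ⟨d', hd', hd''⟩ := hP x
    have h1 : d - d' ∈ Ideal.span {πD ^ 4} := by
      rw [← Ideal.Quotient.eq, hd, hd']
    obtain ⟨e, he⟩ := Ideal.mem_span_singleton'.mp h1
    have : algebraMap D Λ d - φ' x = algebraMap D Λ e * algebraMap D Λ (πD ^ 4) +
        (algebraMap D Λ d' - φ' x) := by
      rw [← map_mul, he, map_sub]; ring
    rw [this]
    exact Ideal.add_mem _ (Ideal.mul_mem_left _ _ (Ideal.subset_span rfl)) hd''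
  exact desing_core (R := D) πD hΛD φ' P.hcm P.rel P.hom P.surj P.ker_eq hspan
    (fun j hj => hkt (MvPolynomial.C πD)
      (by rw [← MvPolynomial.algebraMap_eq, AlgHom.commutes]) j hj) ρ' hρ'

end Groth.Agent.Lib.Helper7.Smoothing
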