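import Groth.Agent.Lib.Helper7Smoothing33
import Groth.Agent.S2024
import Groth.Agent.S2028

set_option autoImplicit false
set_option linter.style.haveILetI false
universe u
open MvPolynomial

namespace Groth.Agent.Lib.Helper7.Smoothing

theorem smul_eq_zero_of_pow_smul {R M : Type*} [CommRing R] [AddCommGroup M] [Module R M] (π : R)
    (h : ∀ x : M, π ^ 2 • x = 0 → π • x = 0) (n : ℕ) (x : M) (hx : π ^ (n + 1) • x = 0) :
    π • x = 0 := by
  induction n generalizing x with
  | zero => simpa using hx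
  | succ n ih =>
    have h1 : π ^ 2 • (π ^ n • x) = 0 := by
      rw [smul_smul, ← pow_add, add_comm 2 n]
      exact hx
    have h2 := h _ h1
    rw [smul_smul, ← pow_succ'] at h2
    exact ih x h2

theorem pow_four_ann {R M : Type*} [CommRing R] [AddCommGroup M] [Module R M] (π : R)
    (h : ∀ x : M, π ^ 2 • x = 0 → π • x = 0) (x : M) (hx : (π ^ 4) ^ 2 • x = 0) :
    π ^ 4 • x = 0 := by
  have h1 : π • x = 0 := smul_eq_zero_of_pow_smul π h 7 x (by rw [← pow_mul] at hx; exact hx)
  rw [pow_succ, mul_smul, h1, smul_zero]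

/-- Key claim K1: lifts of elements of the singular ideal of `C` lie in the singular ideal of `D`. -/
theorem mem_singularIdeal_of_lifting {R D C : Type u} [CommRing R] [CommRing D] [Algebra R D]
    [CommRing C] (ϖ : R) (P : Ideal C → Prop)
    (ψ : C →+* D ⧸ Ideal.span {algebraMap R D ϖ})
    (sm1 : ∀ (Q : Ideal D) [Q.IsPrime], algebraMap R D ϖ ∉ Q → Algebra.IsSmoothAt R Q)
    (sm2 : ∀ (Q : Ideal (D ⧸ Ideal.span {algebraMap R D ϖ})) [Q.IsPrime],
      P (Q.comap ψ) →
        Algebra.IsSmoothAt R (Q.comap (Ideal.Quotient.mk (Ideal.span {algebraMap R D ϖ}))))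
    (c : C) (hc : ∀ q : Ideal C, q.IsPrime → c ∉ q → P q) (d : D)
    (hd : Ideal.Quotient.mk (Ideal.span {algebraMap R D ϖ}) d = ψ c) :
    d ∈ Smoothing.singularIdeal R D := by
  refine mem_singularIdeal_of_forall d (fun Q hQ hdQ => ?_)
  by_cases hϖ : algebraMap R D ϖ ∈ Q
  · have hker : RingHom.ker (Ideal.Quotient.mk (Ideal.span {algebraMap R D ϖ})) ≤ Q := by
      rw [Ideal.mk_ker, Ideal.span_le, Set.singleton_subset_iff]
      exact hϖ
    haveI hQ' : (Q.map (Ideal.Quotient.mk (Ideal.span {algebraMap R D ϖ}))).IsPrime :=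
      Ideal.map_isPrime_of_surjective Ideal.Quotient.mk_surjective hker
    have hcomap : (Q.map (Ideal.Quotient.mk (Ideal.span {algebraMap R D ϖ}))).comap
        (Ideal.Quotient.mk (Ideal.span {algebraMap R D ϖ})) = Q := by
      rw [Ideal.comap_map_of_surjective _ Ideal.Quotient.mk_surjective]
      exact sup_eq_left.mpr (by rwa [← RingHom.ker_eq_comap_bot])
    have hcq : c ∉ (Q.map (Ideal.Quotient.mk (Ideal.span {algebraMap R D ϖ}))).comap ψ := by
      intro hmem
      apply hdQ
      rw [← hcomap, Ideal.mem_comap, hd]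
      exact hmem
    have key := sm2 (Q.map (Ideal.Quotient.mk (Ideal.span {algebraMap R D ϖ})))
      (hc _ (Ideal.comap_isPrime _ _) hcq)
    convert key using 2
    exact hcomap.symm
  · exact sm1 Q hϖ

end Groth.Agent.Lib.Helper7.Smoothing
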