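import Groth.Agent.Lib.Helper8KoszTop
import Groth.Agent.S2423

/-!
# Koszul cohomology of the powers of the variables of a polynomial ring (helper8)
-/

namespace Groth.Agent.Lib.Helper8KoszLim

open CategoryTheory CategoryTheory.Limits CochainComplex HomComplex HomotopyCategory CohIII
open Groth.Agent.Lib.Helper21 MvPolynomial

universe u

section Poly

variable {A : Type u} [CommRing A] (k : ℕ)

/-- the list of the variables -/
noncomputable abbrev Xs : List (MvPolynomial (Fin k) A) :=
  List.ofFn (fun j : Fin k => (X j : MvPolynomial (Fin k) A))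

lemma Xs_length : (Xs (A := A) k).length = k := List.length_ofFn

lemma mem_take_iff (n i : ℕ) (q : MvPolynomial (Fin k) A) :
    q ∈ Ideal.ofList (((Xs (A := A) k).map (· ^ n)).take i) ↔
      ∀ a ∈ q.support, ∃ j : Fin k, j.val < i ∧ n ≤ a j := by
  have hset : {x | x ∈ ((Xs (A := A) k).map (· ^ n)).take i} =
      (fun s => monomial s (1 : A)) '' {s | ∃ j : Fin k, j.val < i ∧ s = Finsupp.single j n} := by
    ext x
    simp only [Set.mem_ofPred_eq, Set.mem_image]
    rw [List.mem_take_iff_getElem]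
    constructor
    · rintro ⟨j, hj, rfl⟩
      have hjk : j < k := by
        have := hj
        simp only [List.length_map, List.length_ofFn] at this
        omega
      refine ⟨Finsupp.single ⟨j, hjk⟩ n, ⟨⟨j, hjk⟩, by simp at hj ⊢; omega, rfl⟩, ?_⟩
      simp only [List.getElem_map, List.getElem_ofFn]
      rw [X_pow_eq_monomial]
    · rintro ⟨s, ⟨j, hji, rfl⟩, rfl⟩
      refine ⟨j.val, by simp only [List.length_map, List.length_ofFn]; omega, ?_⟩
      simp only [List.getElem_map, List.getElem_ofFn]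
      rw [X_pow_eq_monomial]
  unfold Ideal.ofList
  rw [hset, mem_ideal_span_monomial_image]
  constructor
  · intro h a ha
    obtain ⟨s, ⟨j, hji, rfl⟩, hs⟩ := h a ha
    refine ⟨j, hji, ?_⟩
    have := hs j
    simpa using this
  · intro h a ha
    obtain ⟨j, hji, hj⟩ := h a ha
    refine ⟨Finsupp.single j n, ⟨j, hji, rfl⟩, ?_⟩
    intro l
    by_cases hl : l = j
    · subst hl
      simpa using hj
    · rw [Finsupp.single_apply, if_neg (Ne.symm hl)]
      exact Nat.zero_le _

lemma mem_all_iff (n : ℕ) (q : MvPolynomial (Fin k) A) :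
    q ∈ Ideal.ofList ((Xs (A := A) k).map (· ^ n)) ↔
      ∀ a ∈ q.support, ∃ j : Fin k, n ≤ a j := by
  have h := mem_take_iff (A := A) k n k q
  have hlen : ((Xs (A := A) k).map (· ^ n)).length = k := by
    rw [List.length_map, Xs_length]
  have htake : ((Xs (A := A) k).map (· ^ n)).take k = (Xs (A := A) k).map (· ^ n) :=
    List.take_of_length_le (by rw [hlen])
  rw [htake] at h
  rw [h]
  constructor
  · intro h' a ha
    obtain ⟨j, -, hj⟩ := h' a ha
    exact ⟨j, hj⟩
  · intro h' a ha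
    obtain ⟨j, hj⟩ := h' a ha
    exact ⟨j, j.isLt, hj⟩

lemma wreg (n : ℕ) :
    RingTheory.Sequence.IsWeaklyRegular (MvPolynomial (Fin k) A) ((Xs (A := A) k).map (· ^ n)) := by
  refine ⟨fun i hi => ?_⟩
  rw [isSMulRegular_quotient_iff_mem_of_smul_mem]
  have hik : i < k := by
    simpa only [List.length_map, List.length_ofFn] using hi
  have hgi : ((Xs (A := A) k).map (· ^ n))[i] = monomial (Finsupp.single (⟨i, hik⟩ : Fin k) n) 1 := by
    simp only [List.getElem_map, List.getElem_ofFn]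
    rw [X_pow_eq_monomial]
  intro p hp
  rw [smul_eq_mul, Ideal.mul_top] at hp ⊢
  rw [mem_take_iff] at hp ⊢
  intro a ha
  have ha' : Finsupp.single (⟨i, hik⟩ : Fin k) n + a ∈
      (((Xs (A := A) k).map (· ^ n))[i] • p).support := by
    rw [hgi, smul_eq_mul, mem_support_iff, coeff_monomial_mul, one_mul]
    exact mem_support_iff.mp ha
  obtain ⟨j, hji, hj⟩ := hp _ ha'
  refine ⟨j, hji, ?_⟩
  have hne : (⟨i, hik⟩ : Fin k) ≠ j := by
    intro h
    rw [← h] at hji
    exact lt_irrefl _ hji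
  rw [Finsupp.add_apply, Finsupp.single_apply, if_neg hne, zero_add] at hj
  exact hj

/-- the polynomial ring as a module over itself, as an object -/
noncomputable abbrev MS : ModuleCat.{u} (MvPolynomial (Fin k) A) :=
  ModuleCat.of (MvPolynomial (Fin k) A) (MvPolynomial (Fin k) A)

lemma πt_eq_zero_iff (m : ℕ) (q : MvPolynomial (Fin k) A) :
    πt (MS (A := A) k) (Xs k) m q = 0 ↔ ∀ a ∈ q.support, ∃ j : Fin k, m ≤ a j := by
  rw [← LinearMap.mem_ker, πt_ker]
  show q ∈ Ideal.ofList _ • (⊤ : Ideal (MvPolynomial (Fin k) A)) ↔ _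
  rw [smul_eq_mul, Ideal.mul_top, mem_all_iff]

/-- exponent reversal -/
noncomputable def rev (m : ℕ) (c : Fin k →₀ ℕ) : Fin k →₀ ℕ :=
  Finsupp.equivFunOnFinite.symm (fun i => m - 1 - c i)

lemma rev_apply (m : ℕ) (c : Fin k →₀ ℕ) (i : Fin k) : rev k m c i = m - 1 - c i := rfl

/-- a strict bound for the exponents -/
noncomputable def bound (c : Fin k →₀ ℕ) : ℕ := Finset.univ.sup (fun i => c i) + 1

lemma lt_bound (c : Fin k →₀ ℕ) (i : Fin k) : c i < bound k c :=
  Nat.lt_succ_of_le (Finset.le_sup (f := fun i => c i) (Finset.mem_univ i))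

lemma prod_X_eq (s : Finset (Fin k)) :
    ∏ i ∈ s, (X i : MvPolynomial (Fin k) A) = monomial (∑ i ∈ s, Finsupp.single i 1) 1 := by
  classical
  induction s using Finset.induction_on with
  | empty => simp
  | insert a s ha ih =>
    rw [Finset.prod_insert ha, Finset.sum_insert ha, ih, X, monomial_mul, one_mul]

lemma ones_apply (j : Fin k) : (∑ i : Fin k, Finsupp.single i 1 : Fin k →₀ ℕ) j = 1 := by
  classical
  rw [Finsupp.finsetSum_apply]
  simp [Finsupp.single_apply]

lemma prod_pow_mul (d b : ℕ) (c : Fin k →₀ ℕ) (hc : ∀ i, c i < b) :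
    (Xs (A := A) k).prod ^ d * monomial (rev k b c) 1 = monomial (rev k (b + d) c) 1 := by
  rw [List.prod_ofFn, prod_X_eq, monomial_pow, monomial_mul, one_pow, one_mul]
  have he : (d • ∑ i : Fin k, Finsupp.single i 1 : Fin k →₀ ℕ) + rev k b c = rev k (b + d) c := by
    ext i
    rw [Finsupp.add_apply, Finsupp.smul_apply, ones_apply, rev_apply, rev_apply]
    have := hc i
    simp only [smul_eq_mul, mul_one]
    omega
  rw [he]

/-- the canonical map to the colimit -/
noncomputable abbrev ofK {B : Type u} [CommRing B] (M : ModuleCat.{u} B) (fs : List B) (j : ℤ)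
    (n : ℕ) : (Kp M fs n).homology j →ₗ[B] TL M fs j :=
  Module.DirectLimit.of B ℕ (fun n => (Kp M fs n).homology j) (fun n m h => Tr M fs j n m h) n

lemma ofK_Tr {B : Type u} [CommRing B] (M : ModuleCat.{u} B) (fs : List B) (j : ℤ) (n m : ℕ)
    (h : n ≤ m) (x : (Kp M fs n).homology j) :
    ofK M fs j m (Tr M fs j n m h x) = ofK M fs j n x :=
  Module.DirectLimit.of_f

lemma exists_ofK {B : Type u} [CommRing B] (M : ModuleCat.{u} B) (fs : List B) (j : ℤ)
    (z : TL M fs j) : ∃ n x, ofK M fs j n x = z :=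
  Module.DirectLimit.exists_of z

lemma ofK_eq_zero {B : Type u} [CommRing B] (M : ModuleCat.{u} B) (fs : List B) (j : ℤ) (n : ℕ)
    (x : (Kp M fs n).homology j) (hx : ofK M fs j n x = 0) :
    ∃ (m : ℕ) (h : n ≤ m), Tr M fs j n m h x = 0 :=
  Module.DirectLimit.of.zero_exact hx

/-- the basis vectors -/
noncomputable def vv (c : Fin k →₀ ℕ) : TL (MS (A := A) k) (Xs k) 0 :=
  ofK (MS (A := A) k) (Xs k) 0 (bound k c)
    (πt (MS (A := A) k) (Xs k) (bound k c) (monomial (rev k (bound k c) c) 1))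

lemma vv_eq (c : Fin k →₀ ℕ) (m : ℕ) (hm : bound k c ≤ m) :
    vv (A := A) k c = ofK (MS (A := A) k) (Xs k) 0 m
      (πt (MS (A := A) k) (Xs k) m (monomial (rev k m c) 1)) := by
  unfold vv
  rw [← ofK_Tr _ _ _ _ _ hm, πt_Tr]
  show ofK (MS (A := A) k) (Xs k) 0 m (πt (MS (A := A) k) (Xs k) m
    ((Xs (A := A) k).prod ^ (m - bound k c) * monomial (rev k (bound k c) c) 1)) = _
  rw [prod_pow_mul k _ _ c (lt_bound k c), Nat.add_sub_cancel' hm]

lemma rev_rev (m : ℕ) (a : Fin k →₀ ℕ) (ha : ∀ j, a j < m) : rev k m (rev k m a) = a := by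
  ext j
  rw [rev_apply, rev_apply]
  have := ha j
  omega

lemma bound_rev_le (m : ℕ) (hm : 1 ≤ m) (a : Fin k →₀ ℕ) : bound k (rev k m a) ≤ m := by
  unfold bound
  have : Finset.univ.sup (fun i => rev k m a i) ≤ m - 1 := by
    apply Finset.sup_le
    intro i _
    rw [rev_apply]
    omega
  omega

lemma rev_injOn (m : ℕ) (c c' : Fin k →₀ ℕ) (hc : ∀ j, c j < m) (hc' : ∀ j, c' j < m)
    (h : rev k m c = rev k m c') : c = c' := by
  ext j
  have := DFunLike.congr_fun h j
  rw [rev_apply, rev_apply] at this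
  have h1 := hc j
  have h2 := hc' j
  omega

lemma prod_pow_mul' (d b : ℕ) (c : Fin k →₀ ℕ) (hc : ∀ i, c i < b) (t : A) :
    (Xs (A := A) k).prod ^ d * monomial (rev k b c) t = monomial (rev k (b + d) c) t := by
  have h1 : ∀ s : Fin k →₀ ℕ, (monomial s t : MvPolynomial (Fin k) A) = C t * monomial s 1 := by
    intro s
    rw [C_mul_monomial, mul_one]
  rw [h1, h1, mul_left_comm, prod_pow_mul k d b c hc]

/-- the polynomial with reversed exponents attached to a finitely supported family -/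
noncomputable def qm (m : ℕ) (l : (Fin k →₀ ℕ) →₀ A) : MvPolynomial (Fin k) A :=
  ∑ c ∈ l.support, monomial (rev k m c) (l c)

lemma prod_pow_mul_qm (d m : ℕ) (l : (Fin k →₀ ℕ) →₀ A) (hl : ∀ c ∈ l.support, bound k c ≤ m) :
    (Xs (A := A) k).prod ^ d * qm k m l = qm k (m + d) l := by
  unfold qm
  rw [Finset.mul_sum]
  refine Finset.sum_congr rfl (fun c hc => ?_)
  exact prod_pow_mul' k d m c (fun i => lt_of_lt_of_le (lt_bound k c i) (hl c hc)) _

lemma coeff_qm (m : ℕ) (l : (Fin k →₀ ℕ) →₀ A) (hl : ∀ c ∈ l.support, bound k c ≤ m)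
    (c0 : Fin k →₀ ℕ) (hc0 : c0 ∈ l.support) : coeff (rev k m c0) (qm k m l) = l c0 := by
  classical
  unfold qm
  rw [coeff_sum]
  rw [Finset.sum_eq_single c0]
  · rw [coeff_monomial, if_pos rfl]
  · intro c hc hne
    rw [coeff_monomial, if_neg]
    intro h
    exact hne (rev_injOn k m c c0 (fun i => lt_of_lt_of_le (lt_bound k c i) (hl c hc))
      (fun i => lt_of_lt_of_le (lt_bound k c0 i) (hl c0 hc0)) h)
  · intro h
    exact absurd hc0 h

/-- the restriction of scalars of the colimit in degree zero -/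
abbrev R0 : Type u := RestrictScalars A (MvPolynomial (Fin k) A) (TL (MS (A := A) k) (Xs k) 0)

/-- the candidate basis in the restriction of scalars -/
noncomputable def vR (c : Fin k →₀ ℕ) : R0 (A := A) k :=
  (RestrictScalars.addEquiv A (MvPolynomial (Fin k) A) (TL (MS (A := A) k) (Xs k) 0)).symm (vv k c)

/-- the comparison map from the free module -/
noncomputable def Θ : ((Fin k →₀ ℕ) →₀ A) →ₗ[A] R0 (A := A) k :=
  Finsupp.linearCombination A (vR (A := A) k)

lemma Θ_single (c : Fin k →₀ ℕ) (t : A) (m : ℕ) (hm : bound k c ≤ m) :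
    RestrictScalars.addEquiv A (MvPolynomial (Fin k) A) _ (Θ (A := A) k (Finsupp.single c t)) =
      ofK (MS (A := A) k) (Xs k) 0 m (πt (MS (A := A) k) (Xs k) m (monomial (rev k m c) t)) := by
  unfold Θ
  rw [Finsupp.linearCombination_single, RestrictScalars.addEquiv_map_smul]
  unfold vR
  rw [AddEquiv.apply_symm_apply, vv_eq k c m hm, algebraMap_eq, ← map_smul, ← map_smul,
    smul_eq_mul, C_mul_monomial, mul_one]

lemma Θ_apply (l : (Fin k →₀ ℕ) →₀ A) (m : ℕ) (hl : ∀ c ∈ l.support, bound k c ≤ m) :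
    RestrictScalars.addEquiv A (MvPolynomial (Fin k) A) _ (Θ (A := A) k l) =
      ofK (MS (A := A) k) (Xs k) 0 m (πt (MS (A := A) k) (Xs k) m (qm k m l)) := by
  classical
  conv_lhs => rw [← Finsupp.sum_single l]
  unfold Finsupp.sum qm
  rw [map_sum, map_sum, map_sum, map_sum]
  refine Finset.sum_congr rfl (fun c hc => ?_)
  exact Θ_single k c (l c) m (hl c hc)

theorem Θ_injective : Function.Injective (Θ (A := A) k) := by
  classical
  rw [injective_iff_map_eq_zero]
  intro l hl
  by_contra hne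
  obtain ⟨c0, hc0⟩ : l.support.Nonempty := Finsupp.support_nonempty_iff.mpr hne
  let m := l.support.sup (bound k) + 1
  have hm : ∀ c ∈ l.support, bound k c ≤ m := fun c hc =>
    le_trans (Finset.le_sup (f := bound k) hc) (Nat.le_succ _)
  have h1 := Θ_apply k l m hm
  rw [hl, map_zero] at h1
  obtain ⟨m', hmm', h2⟩ := ofK_eq_zero _ _ _ _ _ h1.symm
  rw [πt_Tr] at h2
  have h3 : (Xs (A := A) k).prod ^ (m' - m) • qm k m l = qm k m' l := by
    rw [smul_eq_mul, prod_pow_mul_qm k _ m l hm, Nat.add_sub_cancel' hmm']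
  have h2' : πt (MS (A := A) k) (Xs k) m' (qm k m' l) = 0 := by
    rw [← h3]
    exact h2
  rw [πt_eq_zero_iff] at h2'
  have hm' : ∀ c ∈ l.support, bound k c ≤ m' := fun c hc => le_trans (hm c hc) hmm'
  have hcoef := coeff_qm k m' l hm' c0 hc0
  have hsupp : rev k m' c0 ∈ (qm k m' l).support := by
    rw [mem_support_iff, hcoef]
    exact Finsupp.mem_support_iff.mp hc0
  obtain ⟨j, hj⟩ := h2' _ hsupp
  rw [rev_apply] at hj
  have : 1 ≤ m' := le_trans (Nat.le_add_left 1 _) hmm'
  omega

theorem Θ_surjective (hk : 0 < k) : Function.Surjective (Θ (A := A) k) := by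
  classical
  intro z
  obtain ⟨m, x, hx⟩ := exists_ofK _ _ _
    (RestrictScalars.addEquiv A (MvPolynomial (Fin k) A) (TL (MS (A := A) k) (Xs k) 0) z)
  obtain ⟨p, rfl⟩ := πt_surjective (MS (A := A) k) (Xs k) m x
  suffices h : z ∈ LinearMap.range (Θ (A := A) k) from h
  have hz : z = (RestrictScalars.addEquiv A (MvPolynomial (Fin k) A)
      (TL (MS (A := A) k) (Xs k) 0)).symm
      (∑ a ∈ p.support, ofK (MS (A := A) k) (Xs k) 0 m
        (πt (MS (A := A) k) (Xs k) m (monomial a (coeff a p)))) := by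
    rw [AddEquiv.eq_symm_apply, ← hx, ← map_sum, ← map_sum, support_sum_monomial_coeff]
  rw [hz, map_sum]
  refine Submodule.sum_mem _ (fun a ha => ?_)
  by_cases hsmall : ∀ j, a j < m
  · have hm1 : 1 ≤ m := by
      have := hsmall ⟨0, hk⟩
      omega
    refine ⟨Finsupp.single (rev k m a) (coeff a p), ?_⟩
    rw [AddEquiv.eq_symm_apply, Θ_single k _ _ m (bound_rev_le k m hm1 a), rev_rev k m a hsmall]
  · simp only [not_forall, not_lt] at hsmall
    obtain ⟨j, hj⟩ := hsmall
    have h0 : πt (MS (A := A) k) (Xs k) m (monomial a (coeff a p)) = 0 := by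
      rw [πt_eq_zero_iff]
      intro a' ha'
      have := support_monomial_subset ha'
      rw [Finset.mem_singleton] at this
      subst this
      exact ⟨j, hj⟩
    rw [h0, map_zero, map_zero]
    exact Submodule.zero_mem _

theorem free_top (hk : 0 < k) (j : ℤ) (hj : j = 0) :
    Module.Free A (RestrictScalars A (MvPolynomial (Fin k) A) (TL (MS (A := A) k) (Xs k) j)) := by
  subst hj
  exact Module.Free.of_equiv
    (LinearEquiv.ofBijective (Θ (A := A) k) ⟨Θ_injective k, Θ_surjective k hk⟩)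

theorem vanish (i : ℕ) (hi : i ≠ k) (j : ℤ) (hj : j = (i : ℤ) - ((Xs (A := A) k).length : ℤ)) :
    Subsingleton (TL (MS (A := A) k) (Xs k) j) := by
  subst hj
  have hz : ∀ n : ℕ, Subsingleton ((Kp (MS (A := A) k) (Xs k) n).homology
      ((i : ℤ) - ((Xs (A := A) k).length : ℤ))) := by
    intro n
    have h := Groth.Agent.S2423.result ((Xs (A := A) k).map (· ^ n)) (MvPolynomial (Fin k) A)
      (wreg k n) i (by rw [List.length_map, Xs_length]; exact hi)
    have h' : IsZero ((koszulCx (MS (A := A) k) ((Xs (A := A) k).map (· ^ n))).homology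
        ((i : ℤ) - ((((Xs (A := A) k).map (· ^ n)).length : ℕ) : ℤ))) := h
    rw [List.length_map] at h'
    exact ModuleCat.subsingleton_of_isZero h'
  have key : ∀ z : TL (MS (A := A) k) (Xs k) ((i : ℤ) - ((Xs (A := A) k).length : ℤ)), z = 0 := by
    intro z
    obtain ⟨n, x, rfl⟩ := exists_ofK _ _ _ z
    have _ := hz n
    rw [Subsingleton.elim x 0, map_zero]
  exact ⟨fun a b => (key a).trans (key b).symm⟩

end Poly

end Groth.Agent.Lib.Helper8KoszLim
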