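import Mathlib
import Groth.Prelude.Def_Smoothing
import Groth.Agent.S5777
import Groth.Agent.Lib.Helper8KoszPoly

/-!
# Helper7Smoothing48 (helper7): flatness over a polynomial ring from a regular system of parameters

* `sub_C_constantCoeff_mem_span_X`, `ker_constantCoeff_eq_span_X`, `span_X_isMaximal`.
* `isWeaklyRegular_X` (from helper8's `wreg`).
* `flat_mvPolynomial_of_regular`: a Noetherian local `k[x]`-algebra in which the `xᵢ` form a regular
  sequence generating the maximal ideal is flat over `k[x]` (via S5777).
-/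

set_option autoImplicit false
set_option linter.style.haveILetI false
universe u
open Function TensorProduct MvPolynomial RingTheory.Sequence IsLocalRing

namespace Groth.Agent.Lib.Helper7.Smoothing

theorem sub_C_constantCoeff_mem_span_X {k : Type*} [CommRing k] {σ : Type*}
    (p : MvPolynomial σ k) :
    p - C (constantCoeff p) ∈ Ideal.span (Set.range (X : σ → MvPolynomial σ k)) := by
  induction p using MvPolynomial.induction_on with
  | C a =>
    rw [constantCoeff_C, sub_self]
    exact Ideal.zero_mem _
  | add p q hp hq =>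
    have : p + q - C (constantCoeff (p + q)) =
        (p - C (constantCoeff p)) + (q - C (constantCoeff q)) := by
      rw [map_add, map_add]
      ring
    rw [this]
    exact Ideal.add_mem _ hp hq
  | mul_X p j hp =>
    have : p * X j - C (constantCoeff (p * X j)) = p * X j := by
      rw [map_mul, constantCoeff_X, mul_zero, map_zero, sub_zero]
    rw [this]
    exact Ideal.mul_mem_left _ _ (Ideal.subset_span ⟨j, rfl⟩)

theorem ker_constantCoeff_eq_span_X {k : Type*} [CommRing k] {σ : Type*} :
    RingHom.ker (constantCoeff : MvPolynomial σ k →+* k) =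
      Ideal.span (Set.range (X : σ → MvPolynomial σ k)) := by
  refine le_antisymm ?_ ?_
  · intro p hp
    have := sub_C_constantCoeff_mem_span_X p
    rwa [RingHom.mem_ker.mp hp, map_zero, sub_zero] at this
  · rw [Ideal.span_le]
    rintro _ ⟨j, rfl⟩
    exact RingHom.mem_ker.mpr (constantCoeff_X _ j)

theorem span_X_isMaximal {k : Type*} [Field k] {σ : Type*} :
    (Ideal.span (Set.range (X : σ → MvPolynomial σ k))).IsMaximal := by
  rw [← ker_constantCoeff_eq_span_X]
  exact RingHom.ker_isMaximal_of_surjective _ (fun a => ⟨C a, constantCoeff_C _ a⟩)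

/-- the variables of a polynomial ring form a weakly regular sequence (helper8). -/
theorem isWeaklyRegular_X {A : Type u} [CommRing A] (d : ℕ) :
    IsWeaklyRegular (MvPolynomial (Fin d) A)
      (List.ofFn (fun j : Fin d => (X j : MvPolynomial (Fin d) A))) := by
  have hw := Groth.Agent.Lib.Helper8KoszLim.wreg (A := A) d 1
  have e : (Groth.Agent.Lib.Helper8KoszLim.Xs (A := A) d).map (· ^ 1) =
      List.ofFn (fun j : Fin d => (X j : MvPolynomial (Fin d) A)) := by
    simp only [Groth.Agent.Lib.Helper8KoszLim.Xs, List.map_ofFn, pow_one]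
    rfl
  rw [e] at hw
  exact hw

/-- A Noetherian local `k[x₁..x_d]`-algebra in which the `xᵢ` form a regular sequence generating the
maximal ideal is flat over `k[x₁..x_d]`. -/
theorem flat_mvPolynomial_of_regular {k : Type u} [Field k] {d : ℕ} {L : Type u} [CommRing L]
    [IsLocalRing L] [IsNoetherianRing L] [Algebra (MvPolynomial (Fin d) k) L]
    (hreg : IsWeaklyRegular L
      (List.ofFn fun i : Fin d => algebraMap (MvPolynomial (Fin d) k) L (X i)))
    (hspan : Ideal.span (Set.range fun i : Fin d => algebraMap (MvPolynomial (Fin d) k) L (X i)) =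
      maximalIdeal L) :
    Module.Flat (MvPolynomial (Fin d) k) L := by
  obtain ⟨𝔪, h𝔪⟩ : ∃ 𝔪 : Ideal (MvPolynomial (Fin d) k),
      𝔪 = Ideal.span (Set.range (X : Fin d → MvPolynomial (Fin d) k)) := ⟨_, rfl⟩
  haveI hmax : 𝔪.IsMaximal := h𝔪 ▸ span_X_isMaximal
  -- the contraction of the maximal ideal
  have hcomap : (maximalIdeal L).comap (algebraMap (MvPolynomial (Fin d) k) L) = 𝔪 := by
    symm
    refine hmax.eq_of_le (Ideal.comap_ne_top _ (Ideal.IsPrime.ne_top inferInstance)) ?_
    rw [h𝔪, Ideal.span_le]
    rintro _ ⟨i, rfl⟩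
    change algebraMap (MvPolynomial (Fin d) k) L (X i) ∈ maximalIdeal L
    rw [← hspan]
    exact Ideal.subset_span ⟨i, rfl⟩
  have hunit : ∀ y : 𝔪.primeCompl, IsUnit (algebraMap (MvPolynomial (Fin d) k) L y) := by
    intro y
    by_contra hy
    have : algebraMap (MvPolynomial (Fin d) k) L y ∈ maximalIdeal L := hy
    have h2 : (y : MvPolynomial (Fin d) k) ∈
        (maximalIdeal L).comap (algebraMap (MvPolynomial (Fin d) k) L) := this
    rw [hcomap] at h2
    exact y.2 h2
  letI : Algebra (Localization.AtPrime 𝔪) L :=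
    (IsLocalization.lift (M := 𝔪.primeCompl) (g := algebraMap (MvPolynomial (Fin d) k) L)
      hunit).toAlgebra
  haveI : IsScalarTower (MvPolynomial (Fin d) k) (Localization.AtPrime 𝔪) L :=
    IsScalarTower.of_algebraMap_eq (fun x => (IsLocalization.lift_eq hunit x).symm)
  haveI hloc : IsLocalHom (algebraMap (Localization.AtPrime 𝔪) L) := by
    refine ((IsLocalRing.local_hom_TFAE (algebraMap (Localization.AtPrime 𝔪) L)).out 0 2).mpr ?_
    rw [← Localization.AtPrime.map_eq_maximalIdeal, Ideal.map_map,
      ← IsScalarTower.algebraMap_eq, Ideal.map_le_iff_le_comap, hcomap]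
  -- the regular sequence in the localization
  have hA : IsWeaklyRegular (Localization.AtPrime 𝔪)
      ((List.ofFn (fun j : Fin d => (X j : MvPolynomial (Fin d) k))).map
        (algebraMap (MvPolynomial (Fin d) k) (Localization.AtPrime 𝔪))) := by
    rw [isWeaklyRegular_map_algebraMap_iff]
    have h1 := (isWeaklyRegular_X (A := k) d).isWeaklyRegular_lTensor
      (M₂ := Localization.AtPrime 𝔪)
    exact ((TensorProduct.rid (MvPolynomial (Fin d) k) (Localization.AtPrime 𝔪)).isWeaklyRegular_congr
      _).mp h1
  have hL : IsWeaklyRegular L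
      ((List.ofFn (fun j : Fin d => (X j : MvPolynomial (Fin d) k))).map
        (algebraMap (MvPolynomial (Fin d) k) (Localization.AtPrime 𝔪))) := by
    rw [isWeaklyRegular_map_algebraMap_iff, ← isWeaklyRegular_map_algebraMap_iff L L, List.map_ofFn]
    exact hreg
  have hfs : ∀ f ∈ (List.ofFn (fun j : Fin d => (X j : MvPolynomial (Fin d) k))).map
        (algebraMap (MvPolynomial (Fin d) k) (Localization.AtPrime 𝔪)),
      f ∈ IsLocalRing.maximalIdeal (Localization.AtPrime 𝔪) := by
    intro f hf
    rw [List.map_ofFn, List.mem_ofFn] at hf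
    obtain ⟨j, rfl⟩ := hf
    rw [← Localization.AtPrime.map_eq_maximalIdeal]
    refine Ideal.mem_map_of_mem _ ?_
    rw [h𝔪]
    exact Ideal.subset_span ⟨j, rfl⟩
  have key := (Groth.Agent.S5777.result (Localization.AtPrime 𝔪) L L _ hfs hA).mpr ⟨?_, hL⟩
  · exact Module.Flat.trans (MvPolynomial (Fin d) k) (Localization.AtPrime 𝔪) L
  · -- flatness over the residue field
    have hJ : Ideal.ofList ((List.ofFn (fun j : Fin d => (X j : MvPolynomial (Fin d) k))).map
        (algebraMap (MvPolynomial (Fin d) k) (Localization.AtPrime 𝔪))) =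
        IsLocalRing.maximalIdeal (Localization.AtPrime 𝔪) := by
      rw [← Ideal.map_ofList, ← Localization.AtPrime.map_eq_maximalIdeal]
      congr 1
      rw [Ideal.ofList, h𝔪]
      congr 1
      ext a
      exact List.mem_ofFn' _ a
    haveI : (Ideal.ofList ((List.ofFn (fun j : Fin d => (X j : MvPolynomial (Fin d) k))).map
        (algebraMap (MvPolynomial (Fin d) k) (Localization.AtPrime 𝔪)))).IsMaximal := by
      rw [hJ]
      infer_instance
    letI := Ideal.Quotient.field (Ideal.ofList ((List.ofFn (fun j : Fin d =>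
      (X j : MvPolynomial (Fin d) k))).map
        (algebraMap (MvPolynomial (Fin d) k) (Localization.AtPrime 𝔪))))
    infer_instance

end Groth.Agent.Lib.Helper7.Smoothing
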