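import Mathlib

/-!
# Regular sequences: exact sequences and powers (helper5)

* `isWeaklyRegular_of_exact`: weak regularity passes to the middle term of a short exact sequence.
* `isWeaklyRegular_mul_cons`, `isWeaklyRegular_pow_cons`, `isWeaklyRegular_ofFn_pow`: powers of a
  weakly regular sequence are weakly regular.
-/

set_option autoImplicit false
universe u v w

namespace Groth.Agent.Lib.Helper5

open RingTheory.Sequence Function Submodule

section
variable {A : Type u} [CommRing A]

/-- Weak regularity of a sequence passes to the middle term of a short exact sequence. -/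
theorem isWeaklyRegular_of_exact (rs : List A) :
    ∀ {M' : Type v} {M : Type v} {M'' : Type v} [AddCommGroup M'] [Module A M'] [AddCommGroup M]
      [Module A M] [AddCommGroup M''] [Module A M''] (f : M' →ₗ[A] M) (g : M →ₗ[A] M''),
      Injective f → Exact f g → Surjective g →
      IsWeaklyRegular M' rs → IsWeaklyRegular M'' rs → IsWeaklyRegular M rs := by
  induction rs with
  | nil => intros; exact IsWeaklyRegular.nil A _
  | cons r rs ih =>
    intro M' M M'' _ _ _ _ _ _ f g hf hfg hg h1 h2
    rw [isWeaklyRegular_cons_iff] at h1 h2 ⊢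
    refine ⟨isSMulRegular_of_range_eq_ker hf hfg.linearMap_ker_eq.symm h1.1 h2.1, ?_⟩
    refine ih (QuotSMulTop.map r f) (QuotSMulTop.map r g) ?_ (QuotSMulTop.map_exact r hfg hg)
      (QuotSMulTop.map_surjective r hg) h1.2 h2.2
    have h0 : Exact (0 : M' →ₗ[A] M') f := (LinearMap.exact_zero_iff_injective M' f).mpr hf
    have := QuotSMulTop.map_first_exact_on_four_term_exact_of_isSMulRegular_last h0 hfg h2.1
    rw [map_zero] at this
    exact (LinearMap.exact_zero_iff_injective (QuotSMulTop r M') _).mp this


variable {M : Type v} [AddCommGroup M] [Module A M]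

open Pointwise in
/-- If `x :: rs` and `y :: rs` are weakly regular on `M`, so is `x * y :: rs`. -/
theorem isWeaklyRegular_mul_cons {x y : A} {rs : List A} (hx : IsWeaklyRegular M (x :: rs))
    (hy : IsWeaklyRegular M (y :: rs)) : IsWeaklyRegular M (x * y :: rs) := by
  rw [isWeaklyRegular_cons_iff] at hx hy ⊢
  refine ⟨hx.1.mul hy.1, ?_⟩
  have h1 : (y • (⊤ : Submodule A M)) ≤
      ((x * y) • (⊤ : Submodule A M)).comap (LinearMap.lsmul A M x) := by
    intro m hm
    rw [Submodule.mem_smul_pointwise_iff_exists] at hm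
    obtain ⟨m', -, rfl⟩ := hm
    rw [Submodule.mem_comap, Submodule.mem_smul_pointwise_iff_exists]
    exact ⟨m', trivial, by rw [mul_smul]; rfl⟩
  have h2 : ((x * y) • (⊤ : Submodule A M)) ≤
      (x • (⊤ : Submodule A M)).comap (LinearMap.id : M →ₗ[A] M) := by
    intro m hm
    rw [Submodule.mem_smul_pointwise_iff_exists] at hm
    obtain ⟨m', -, rfl⟩ := hm
    rw [Submodule.mem_comap, Submodule.mem_smul_pointwise_iff_exists]
    exact ⟨y • m', trivial, by simp [mul_smul]⟩
  let f : QuotSMulTop y M →ₗ[A] QuotSMulTop (x * y) M :=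
    Submodule.mapQ _ _ (LinearMap.lsmul A M x) h1
  let g : QuotSMulTop (x * y) M →ₗ[A] QuotSMulTop x M :=
    Submodule.mapQ _ _ LinearMap.id h2
  refine isWeaklyRegular_of_exact rs f g ?_ ?_ ?_ hy.2 hx.2
  · rw [injective_iff_map_eq_zero]
    intro z hz
    obtain ⟨m, rfl⟩ := Submodule.Quotient.mk_surjective _ z
    change Submodule.Quotient.mk (x • m) = 0 at hz
    rw [Submodule.Quotient.mk_eq_zero, Submodule.mem_smul_pointwise_iff_exists] at hz
    obtain ⟨m', -, hm'⟩ := hz
    rw [mul_smul] at hm'
    have : y • m' = m := hx.1 hm'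
    rw [Submodule.Quotient.mk_eq_zero, Submodule.mem_smul_pointwise_iff_exists]
    exact ⟨m', trivial, this⟩
  · intro z
    constructor
    · intro hz
      obtain ⟨m, rfl⟩ := Submodule.Quotient.mk_surjective _ z
      change Submodule.Quotient.mk m = 0 at hz
      rw [Submodule.Quotient.mk_eq_zero, Submodule.mem_smul_pointwise_iff_exists] at hz
      obtain ⟨m', -, rfl⟩ := hz
      exact ⟨Submodule.Quotient.mk m', rfl⟩
    · rintro ⟨w, rfl⟩
      obtain ⟨m, rfl⟩ := Submodule.Quotient.mk_surjective _ w
      change Submodule.Quotient.mk (x • m) = 0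
      rw [Submodule.Quotient.mk_eq_zero, Submodule.mem_smul_pointwise_iff_exists]
      exact ⟨m, trivial, rfl⟩
  · intro z
    obtain ⟨m, rfl⟩ := Submodule.Quotient.mk_surjective _ z
    exact ⟨Submodule.Quotient.mk m, rfl⟩

/-- If `x :: rs` is weakly regular on `M`, so is `x ^ (k + 1) :: rs`. -/
theorem isWeaklyRegular_pow_cons {x : A} {rs : List A} (hx : IsWeaklyRegular M (x :: rs))
    (k : ℕ) : IsWeaklyRegular M (x ^ (k + 1) :: rs) := by
  induction k with
  | zero => simpa using hx
  | succ k ih =>
    rw [pow_succ]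
    exact isWeaklyRegular_mul_cons ih hx

end

section
variable {A : Type u} [CommRing A]

/-- Powers of a weakly regular sequence form a weakly regular sequence. -/
theorem isWeaklyRegular_ofFn_pow (n : ℕ) :
    ∀ {M : Type v} [AddCommGroup M] [Module A M] (f : Fin n → A) (v : Fin n → ℕ),
      (∀ i, 1 ≤ v i) → IsWeaklyRegular M (List.ofFn f) →
      IsWeaklyRegular M (List.ofFn fun i => f i ^ v i) := by
  induction n with
  | zero => intro M _ _ f v _ _; simp
  | succ n ih =>
    intro M _ _ f v hv hf
    rw [List.ofFn_succ] at hf ⊢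
    obtain ⟨k, hk⟩ : ∃ k, v 0 = k + 1 := ⟨v 0 - 1, by have := hv 0; omega⟩
    have h1 : IsWeaklyRegular M (f 0 ^ v 0 :: List.ofFn fun i : Fin n => f i.succ) := by
      rw [hk]
      exact isWeaklyRegular_pow_cons hf k
    rw [isWeaklyRegular_cons_iff] at h1 ⊢
    exact ⟨h1.1, ih (fun i => f i.succ) (fun i => v i.succ) (fun i => hv i.succ) h1.2⟩

end


end Groth.Agent.Lib.Helper5
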