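import Mathlib
import Groth.Prelude.Def_Smoothing
import Groth.Agent.S2109
import Groth.Agent.Lib.Helper7Smoothing48
import Groth.Agent.Lib.Helper7Smoothing34

/-!
# Helper7Smoothing53 (helper7): `key_reg_gen`, `ann_cond_of_regular`, `ann_cond_of_ann` (annihilator conditions of S6822).
-/

set_option autoImplicit false
set_option linter.style.haveILetI false
universe u
open Function TensorProduct MvPolynomial RingTheory.Sequence

namespace Groth.Agent.Lib.Helper7.Smoothing

open Groth.Agent.S2109 Groth.Agent.Lib.Helper5 in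
/-- In a ring with a weakly regular sequence `y`, `y_i^c` is a nonzerodivisor modulo the `e`-th powers
of the earlier `y_j`. -/
theorem key_reg_gen {L : Type u} [CommRing L] {d : ℕ} (y : Fin d → L)
    (hreg : IsWeaklyRegular L (List.ofFn y)) (e c : ℕ) (he : 0 < e) (hc : 0 < c) (i : Fin d)
    (z : L) (hz : y i ^ c * z ∈ JJ e y i) : z ∈ JJ e y i := by
  classical
  obtain ⟨v, hv⟩ : ∃ v : Fin d → ℕ, v = fun j : Fin d => if (j : ℕ) < (i : ℕ) then e else c :=
    ⟨_, rfl⟩
  have hv1 : ∀ j, 1 ≤ v j := by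
    intro j; rw [hv]; dsimp only; split_ifs <;> omega
  have hpow := isWeaklyRegular_ofFn_pow d y v hv1 hreg
  have hi : (i : ℕ) < (List.ofFn fun j => y j ^ v j).length := by
    rw [List.length_ofFn]; exact i.2
  have h1 := hpow.regular_mod_prev i hi
  have hile : (i : ℕ) ≤ d := i.2.le
  have hofList : ∀ (n : ℕ) (w : Fin n → L), Ideal.ofList (List.ofFn w) = Ideal.span (Set.range w) := by
    intro n w
    rw [Ideal.ofList]
    congr 1
    ext a
    exact List.mem_ofFn' w a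
  have hJ : Ideal.ofList ((List.ofFn fun j => y j ^ v j).take i) = JJ e y i := by
    rw [← Fin.ofFn_take_eq_take_ofFn hile, hofList]
    unfold JJ
    congr 1
    ext a
    constructor
    · rintro ⟨j, rfl⟩
      refine ⟨⟨Fin.castLE hile j, by simp⟩, ?_⟩
      have hlt : ((Fin.castLE hile j : Fin d) : ℕ) < (i : ℕ) := by simp
      simp only [hv, Fin.take_apply, if_pos hlt]
    · rintro ⟨⟨j, hj⟩, rfl⟩
      refine ⟨⟨j, hj⟩, ?_⟩
      have : Fin.castLE hile ⟨(j : ℕ), hj⟩ = j := by ext; simp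
      simp only [Fin.take_apply, this, hv, if_pos hj]
  have hget : (List.ofFn fun j => y j ^ v j)[(i : ℕ)]'hi = y i ^ c := by
    simp [hv]
  rw [hget, hJ, isSMulRegular_iff_right_eq_zero_of_smul] at h1
  have h2 := h1 (Submodule.Quotient.mk z)
  rw [← Submodule.Quotient.mk_smul, Submodule.Quotient.mk_eq_zero, smul_eq_mul, Ideal.mul_top,
    smul_eq_mul, Submodule.Quotient.mk_eq_zero] at h2
  exact h2 hz

open Groth.Agent.S2109 in
/-- annihilator condition of S6822 for a weakly regular sequence (flexible form). -/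
theorem ann_cond_of_regular {L : Type u} [CommRing L] {d : ℕ} (y : Fin d → L)
    (hreg : IsWeaklyRegular L (List.ofFn y)) (c : ℕ) (hc : 0 < c) (i : Fin d)
    (J' : Ideal L) (hJ' : J' = JJ (8 * c) y i) (ϖ : L) (hϖ : ϖ = y i ^ c)
    (x : L ⧸ J') (hx : Ideal.Quotient.mk J' ϖ ^ 2 * x = 0) : Ideal.Quotient.mk J' ϖ * x = 0 := by
  subst hJ' hϖ
  obtain ⟨z, rfl⟩ := Ideal.Quotient.mk_surjective x
  rw [← map_pow, ← map_mul, Ideal.Quotient.eq_zero_iff_mem, ← pow_mul] at hx
  have hz : z ∈ JJ (8 * c) y i :=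
    key_reg_gen y hreg (8 * c) (c * 2) (by omega) (by omega) i z hx
  rw [← map_mul, Ideal.Quotient.eq_zero_iff_mem]
  exact Ideal.mul_mem_left _ _ hz

open Groth.Agent.S2109 in
/-- annihilator condition of S6822 from the one for `π_i` (flexible form). -/
theorem ann_cond_of_ann {Λ : Type u} [CommRing Λ] {d : ℕ} (π : Fin d → Λ) (c : ℕ) (hc : 0 < c)
    (i : Fin d) (hann : ∀ x : Λ, π i ^ 2 * x ∈ JJ (8 * c) π i → π i * x ∈ JJ (8 * c) π i)
    (J' : Ideal Λ) (hJ' : J' = JJ (8 * c) π i) (ϖ : Λ) (hϖ : ϖ = π i ^ c)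
    (x : Λ ⧸ J') (hx : Ideal.Quotient.mk J' ϖ ^ 2 * x = 0) : Ideal.Quotient.mk J' ϖ * x = 0 := by
  subst hJ' hϖ
  obtain ⟨z, rfl⟩ := Ideal.Quotient.mk_surjective x
  rw [← map_pow, ← map_mul, Ideal.Quotient.eq_zero_iff_mem, ← pow_mul] at hx
  rw [← map_mul, Ideal.Quotient.eq_zero_iff_mem]
  -- work in the quotient module
  have h : ∀ m : Λ ⧸ JJ (8 * c) π i, π i ^ 2 • m = 0 → π i • m = 0 := by
    intro m hm
    obtain ⟨w, rfl⟩ := Ideal.Quotient.mk_surjective m
    rw [← Ideal.Quotient.mk_eq_mk, ← Submodule.Quotient.mk_smul, Submodule.Quotient.mk_eq_zero,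
      smul_eq_mul] at hm ⊢
    exact hann w hm
  have h1 : π i ^ (c * 2 - 1 + 1) • (Ideal.Quotient.mk (JJ (8 * c) π i) z) = 0 := by
    rw [← Ideal.Quotient.mk_eq_mk, ← Submodule.Quotient.mk_smul, Submodule.Quotient.mk_eq_zero,
      smul_eq_mul]
    have : c * 2 - 1 + 1 = c * 2 := by omega
    rw [this]
    exact hx
  have h2 := smul_eq_zero_of_pow_smul (π i) h (c * 2 - 1) _ h1
  rw [← Ideal.Quotient.mk_eq_mk, ← Submodule.Quotient.mk_smul, Submodule.Quotient.mk_eq_zero,
    smul_eq_mul] at h2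
  have h3 : π i ^ c * z = π i ^ (c - 1) * (π i * z) := by
    rw [← mul_assoc, ← pow_succ]
    congr 2
    omega
  rw [h3]
  exact Ideal.mul_mem_left _ _ h2

end Groth.Agent.Lib.Helper7.Smoothing
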