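import Groth.Agent.Lib.Helper7Smoothing38

set_option autoImplicit false
set_option linter.style.haveILetI false
universe u
open MvPolynomial TensorProduct

namespace Groth.Agent.Lib.Helper7.Smoothing

theorem finitePresentation_quotient_map {R A : Type u} [CommRing R] [IsNoetherianRing R]
    [CommRing A] [Algebra R A] [Algebra.FinitePresentation R A] (I : Ideal R) :
    Algebra.FinitePresentation (R ⧸ I) (A ⧸ I.map (algebraMap R A)) := by
  haveI : Algebra.FiniteType R (A ⧸ I.map (algebraMap R A)) :=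
    Algebra.FiniteType.of_surjective (Ideal.Quotient.mkₐ R _) (Ideal.Quotient.mkₐ_surjective R _)
  haveI : Algebra.FiniteType (R ⧸ I) (A ⧸ I.map (algebraMap R A)) :=
    Algebra.FiniteType.of_restrictScalars_finiteType R (R ⧸ I) _
  exact Algebra.FinitePresentation.of_finiteType.mp inferInstance

theorem map_mk_isPrime {Λ : Type*} [CommRing Λ] (𝔮 J : Ideal Λ) [𝔮.IsPrime] (hJ : J ≤ 𝔮) :
    (𝔮.map (Ideal.Quotient.mk J)).IsPrime :=
  Ideal.map_isPrime_of_surjective Ideal.Quotient.mk_surjective (by rwa [Ideal.mk_ker])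

theorem comap_factor_map_mk {Λ : Type*} [CommRing Λ] (𝔮 J J' : Ideal Λ) (hJJ' : J ≤ J')
    (hJ' : J' ≤ 𝔮) :
    (𝔮.map (Ideal.Quotient.mk J')).comap (Ideal.Quotient.factor hJJ') =
      𝔮.map (Ideal.Quotient.mk J) := by
  ext x
  obtain ⟨y, rfl⟩ := Ideal.Quotient.mk_surjective x
  rw [Ideal.mem_comap, Ideal.Quotient.factor_mk, Ideal.mem_quotient_iff_mem hJ',
    Ideal.mem_quotient_iff_mem (hJJ'.trans hJ')]


theorem resAt_step {R A Λ : Type u} [CommRing R] [IsNoetherianRing R] [CommRing A] [Algebra R A]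
    [Algebra.FinitePresentation R A] [CommRing Λ] [Algebra R Λ] (φ : A →ₐ[R] Λ) (𝔮 : Ideal Λ)
    [𝔮.IsPrime] (I : Ideal R) (π : R) (hRI : ∀ y : R, π ^ 2 * y ∈ I → π * y ∈ I)
    (hΛI : ∀ y : Λ, algebraMap R Λ π ^ 2 * y ∈ I.map (algebraMap R Λ) →
      algebraMap R Λ π * y ∈ I.map (algebraMap R Λ))
    (hstd : Smoothing.IsStrictlyStandard R A (algebraMap R A π))
    (hI𝔮 : (I ⊔ Ideal.span {π ^ 8}).map (algebraMap R Λ) ≤ 𝔮)
    (h : ResAt φ 𝔮 (I ⊔ Ideal.span {π ^ 8})) : ResAt φ 𝔮 I := by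
  have hle : I ≤ I ⊔ Ideal.span {π ^ 8} := le_sup_left
  have hleA : I.map (algebraMap R A) ≤ (I ⊔ Ideal.span {π ^ 8}).map (algebraMap R A) :=
    Ideal.map_mono hle
  have hleΛ : I.map (algebraMap R Λ) ≤ (I ⊔ Ideal.span {π ^ 8}).map (algebraMap R Λ) :=
    Ideal.map_mono hle
  haveI : Algebra.FinitePresentation (R ⧸ I) (A ⧸ I.map (algebraMap R A)) :=
    finitePresentation_quotient_map I
  haveI : (𝔮.map (Ideal.Quotient.mk (I.map (algebraMap R Λ)))).IsPrime :=
    map_mk_isPrime 𝔮 _ (hleΛ.trans hI𝔮)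
  haveI : (𝔮.map (Ideal.Quotient.mk ((I ⊔ Ideal.span {π ^ 8}).map (algebraMap R Λ)))).IsPrime :=
    map_mk_isPrime 𝔮 _ hI𝔮
  unfold ResAt at h ⊢
  refine resolvable_step (quotPhi φ I) _ (Ideal.Quotient.mk I π) ?_ ?_
    (isStrictlyStandard_quotient I π hstd) (quotPhi φ (I ⊔ Ideal.span {π ^ 8}))
    (Ideal.Quotient.factor hle) (Ideal.Quotient.factor_surjective hle) ?_
    (Ideal.Quotient.factor hleA) (Ideal.Quotient.factor_surjective hleA) ?_
    (Ideal.Quotient.factor hleΛ) (Ideal.Quotient.factor_surjective hleΛ) ?_ ?_ ?_ ?_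
    _ (comap_factor_map_mk 𝔮 _ _ hleΛ hI𝔮) h
  · intro x hx
    obtain ⟨y, rfl⟩ := Ideal.Quotient.mk_surjective x
    rw [← map_pow, ← map_mul, Ideal.Quotient.eq_zero_iff_mem] at hx
    rw [← map_mul, Ideal.Quotient.eq_zero_iff_mem]
    exact hRI y hx
  · intro x hx
    obtain ⟨y, rfl⟩ := Ideal.Quotient.mk_surjective x
    rw [← map_pow, Ideal.Quotient.mk_smul_mk_quotient_map_quotient,
      Ideal.Quotient.eq_zero_iff_mem, map_pow] at hx
    rw [Ideal.Quotient.mk_smul_mk_quotient_map_quotient, Ideal.Quotient.eq_zero_iff_mem]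
    exact hΛI y hx
  · rw [Ideal.Quotient.factor_ker, Ideal.map_sup, Ideal.map_quotient_self, bot_sup_eq,
      Ideal.map_span, Set.image_singleton, map_pow]
  · rw [Ideal.Quotient.factor_ker, Ideal.Quotient.factor_ker, Ideal.map_map, Ideal.map_map]
    exact le_of_eq rfl
  · rw [Ideal.Quotient.factor_ker, Ideal.map_sup, Ideal.map_sup, Ideal.map_quotient_self,
      bot_sup_eq, Ideal.map_span, Ideal.map_span, Set.image_singleton, Set.image_singleton,
      ← map_pow]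
    rfl
  · intro x
    obtain ⟨r, rfl⟩ := Ideal.Quotient.mk_surjective x
    rfl
  · intro x
    obtain ⟨r, rfl⟩ := Ideal.Quotient.mk_surjective x
    rfl
  · intro x
    obtain ⟨a, rfl⟩ := Ideal.Quotient.mk_surjective x
    rfl

end Groth.Agent.Lib.Helper7.Smoothing
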