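import Mathlib
import Groth.Prelude.Def_Smoothing
import Groth.Agent.Lib.Helper7Smoothing39
import Groth.Agent.Lib.Helper7Smoothing48

/-!
# Helper7Smoothing54 (helper7): Artinian quotients

* `isLocalization_atPrime_quotient`: `Λ_𝔮/JΛ_𝔮` is the localization of `Λ/J` at `𝔮/J`.
* `ringKrullDim_eq_zero_of_gens_nilpotent`.
* `span_pow_le_span_X`, `exists_span_X_pow_le`, `isUnit_mk_of_notMem_span_X`,
  `isLocalization_atPrime_self`: `k[x]/K` is its own localization when `K` is `(x)`-primary.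
-/

set_option autoImplicit false
set_option linter.style.haveILetI false
universe u
open Function TensorProduct MvPolynomial IsLocalRing

namespace Groth.Agent.Lib.Helper7.Smoothing

/-- localization at `𝔮` modulo `J ⊆ 𝔮` is the localization of `Λ/J` at `𝔮/J`. -/
theorem isLocalization_atPrime_quotient {Λ : Type u} [CommRing Λ] (𝔮 J : Ideal Λ) [𝔮.IsPrime]
    (hJ : J ≤ 𝔮) [(𝔮.map (Ideal.Quotient.mk J)).IsPrime] :
    IsLocalization.AtPrime
      (Localization.AtPrime 𝔮 ⧸ J.map (algebraMap Λ (Localization.AtPrime 𝔮)))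
      (𝔮.map (Ideal.Quotient.mk J)) := by
  have h1 : IsLocalization (Algebra.algebraMapSubmonoid (Λ ⧸ J) 𝔮.primeCompl)
      (Localization.AtPrime 𝔮 ⧸ J.map (algebraMap Λ (Localization.AtPrime 𝔮))) := inferInstance
  have h2 : Algebra.algebraMapSubmonoid (Λ ⧸ J) 𝔮.primeCompl =
      (𝔮.map (Ideal.Quotient.mk J)).primeCompl := by
    ext y
    obtain ⟨x, rfl⟩ := Ideal.Quotient.mk_surjective y
    have hmem : ∀ x : Λ, Ideal.Quotient.mk J x ∈ 𝔮.map (Ideal.Quotient.mk J) ↔ x ∈ 𝔮 := by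
      intro x
      rw [← Ideal.mem_comap, Ideal.comap_map_of_surjective _ Ideal.Quotient.mk_surjective,
        ← RingHom.ker_eq_comap_bot, Ideal.mk_ker, sup_eq_left.mpr hJ]
    constructor
    · rintro ⟨s, hs, hsx⟩
      change Ideal.Quotient.mk J s = Ideal.Quotient.mk J x at hsx
      intro hx
      have hx' : Ideal.Quotient.mk J s ∈ 𝔮.map (Ideal.Quotient.mk J) := by rw [hsx]; exact hx
      exact hs ((hmem s).mp hx')
    · intro hx
      exact ⟨x, fun hx' => hx ((hmem x).mpr hx'), rfl⟩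
  rw [IsLocalization.AtPrime, ← h2]
  exact h1

/-- a local ring whose maximal ideal is generated by nilpotents is zero-dimensional. -/
theorem ringKrullDim_eq_zero_of_gens_nilpotent {S : Type*} [CommRing S] [IsLocalRing S]
    {ι : Type*} (y : ι → S) (hy : maximalIdeal S ≤ Ideal.span (Set.range y))
    (hnil : ∀ i, IsNilpotent (y i)) : ringKrullDim S = 0 := by
  have h3 : ∀ x : S, IsNilpotent x ↔ ¬ IsUnit x := by
    intro x
    constructor
    · intro hx hu
      exact hu.not_isNilpotent hx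
    · intro hx
      have hxm : x ∈ maximalIdeal S := hx
      have hle : Ideal.span (Set.range y) ≤ nilradical S := by
        rw [Ideal.span_le]
        rintro _ ⟨i, rfl⟩
        exact hnil i
      exact hle (hy hxm)
  have h1 := ((Ring.krullDimLE_zero_and_isLocalRing_tfae S).out 2 0).mp h3
  exact ringKrullDimZero_iff_ringKrullDim_eq_zero.mp h1.1

section PolyArtin
variable {k : Type u} [Field k] {d : ℕ}

/-- the ideal `(x_i^{8c})`. -/
theorem span_pow_le_span_X (c : ℕ) (hc : 0 < c) :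
    Ideal.span (Set.range fun i : Fin d => ((X i : MvPolynomial (Fin d) k) ^ c) ^ 8) ≤
      Ideal.span (Set.range (X : Fin d → MvPolynomial (Fin d) k)) := by
  rw [Ideal.span_le]
  rintro _ ⟨i, rfl⟩
  have : ((X i : MvPolynomial (Fin d) k) ^ c) ^ 8 = X i ^ (c * 8 - 1) * X i := by
    rw [← pow_mul, ← pow_succ]
    congr 1
    omega
  change ((X i : MvPolynomial (Fin d) k) ^ c) ^ 8 ∈ _
  rw [this]
  exact Ideal.mul_mem_left _ _ (Ideal.subset_span ⟨i, rfl⟩)

theorem exists_span_X_pow_le (c : ℕ) :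
    ∃ N : ℕ, Ideal.span (Set.range (X : Fin d → MvPolynomial (Fin d) k)) ^ N ≤
      Ideal.span (Set.range fun i : Fin d => ((X i : MvPolynomial (Fin d) k) ^ c) ^ 8) := by
  refine Ideal.exists_pow_le_of_le_radical_of_fg ?_ (Submodule.fg_span (Set.finite_range _))
  rw [Ideal.span_le]
  rintro _ ⟨i, rfl⟩
  refine ⟨c * 8, ?_⟩
  rw [pow_mul]
  exact Ideal.subset_span ⟨i, rfl⟩

/-- modulo an ideal containing a power of `(x)`, every polynomial outside `(x)` is a unit. -/
theorem isUnit_mk_of_notMem_span_X (K : Ideal (MvPolynomial (Fin d) k)) (N : ℕ)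
    (hN : Ideal.span (Set.range (X : Fin d → MvPolynomial (Fin d) k)) ^ N ≤ K)
    (p : MvPolynomial (Fin d) k)
    (hp : p ∉ Ideal.span (Set.range (X : Fin d → MvPolynomial (Fin d) k))) :
    IsUnit (Ideal.Quotient.mk K p) := by
  have hu : constantCoeff p ≠ 0 := by
    intro h0
    apply hp
    have := sub_C_constantCoeff_mem_span_X p
    rwa [h0, map_zero, sub_zero] at this
  have h1 : Ideal.Quotient.mk K p =
      Ideal.Quotient.mk K (C (constantCoeff p)) + Ideal.Quotient.mk K (p - C (constantCoeff p)) := by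
    rw [← map_add]
    congr 1
    ring
  rw [h1]
  refine IsNilpotent.isUnit_add_left_of_commute ⟨N, ?_⟩
    (((isUnit_iff_ne_zero.mpr hu).map C).map (Ideal.Quotient.mk K)) (Commute.all _ _)
  rw [← map_pow, Ideal.Quotient.eq_zero_iff_mem]
  exact hN (Ideal.pow_mem_pow (sub_C_constantCoeff_mem_span_X p) N)

theorem isLocalization_atPrime_self (K : Ideal (MvPolynomial (Fin d) k)) (N : ℕ)
    (hN : Ideal.span (Set.range (X : Fin d → MvPolynomial (Fin d) k)) ^ N ≤ K)
    (𝔭 : Ideal (MvPolynomial (Fin d) k ⧸ K)) [𝔭.IsPrime]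
    (h𝔭 : ∀ i : Fin d, Ideal.Quotient.mk K (X i) ∈ 𝔭) :
    IsLocalization.AtPrime (MvPolynomial (Fin d) k ⧸ K) 𝔭 := by
  refine IsLocalization.of_le_isUnit ?_
  intro y hy
  obtain ⟨p, rfl⟩ := Ideal.Quotient.mk_surjective y
  refine isUnit_mk_of_notMem_span_X K N hN p (fun hp => hy ?_)
  have hle : (Ideal.span (Set.range (X : Fin d → MvPolynomial (Fin d) k))).map
      (Ideal.Quotient.mk K) ≤ 𝔭 := by
    rw [Ideal.map_span, Ideal.span_le]
    rintro _ ⟨_, ⟨i, rfl⟩, rfl⟩
    exact h𝔭 i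
  exact hle (Ideal.mem_map_of_mem _ hp)

end PolyArtin

end Groth.Agent.Lib.Helper7.Smoothing
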