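import Mathlib
import Groth.Prelude.Def_Smoothing
import Groth.Agent.S2022
import Groth.Agent.Lib.Helper7Smoothing4

/-!
# Helper7Smoothing47 (helper7): `indSmooth_quotient_of_flat` (ind-smoothness modulo an 𝔪-primary ideal from the residue level, via S2022).
-/

set_option autoImplicit false
set_option linter.style.haveILetI false
universe u
open Function TensorProduct MvPolynomial

namespace Groth.Agent.Lib.Helper7.Smoothing

/-- ind-smoothness of a flat algebra modulo an ideal `K` squeezed between a power of `𝔪` and `𝔪`,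
from ind-smoothness modulo `𝔪`. -/
theorem indSmooth_quotient_of_flat {R L : Type u} [CommRing R] [CommRing L] [Algebra R L]
    [Module.Flat R L] (𝔪 K : Ideal R) (hK : K ≤ 𝔪) (N : ℕ) (hN : 𝔪 ^ N ≤ K)
    (h : Smoothing.IndSmooth (R ⧸ 𝔪) (L ⧸ 𝔪.map (algebraMap R L))) :
    Smoothing.IndSmooth (R ⧸ K) (L ⧸ K.map (algebraMap R L)) := by
  haveI : Module.Flat (R ⧸ K) (L ⧸ K.map (algebraMap R L)) :=
    Module.Flat.of_linearEquiv
      (Algebra.TensorProduct.quotIdealMapEquivQuotTensor L K).toLinearEquiv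
  have hI : IsNilpotent (𝔪.map (Ideal.Quotient.mk K)) := by
    refine ⟨N, ?_⟩
    rw [← Ideal.map_pow, Ideal.zero_eq_bot, eq_bot_iff]
    refine (Ideal.map_mono hN).trans ?_
    rw [Ideal.map_quotient_self]
  refine Groth.Agent.S2022.result (𝔪.map (Ideal.Quotient.mk K)) hI ?_
  have hIL : (𝔪.map (Ideal.Quotient.mk K)).map
      (algebraMap (R ⧸ K) (L ⧸ K.map (algebraMap R L))) =
      (𝔪.map (algebraMap R L)).map (Ideal.Quotient.mk (K.map (algebraMap R L))) := by
    rw [Ideal.map_map, Ideal.map_map]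
    congr 1
  exact indSmooth_of_ringEquiv (DoubleQuot.quotQuotEquivQuotOfLE hK).symm
    ((DoubleQuot.quotQuotEquivQuotOfLE (Ideal.map_mono hK)).symm.trans
      (Ideal.quotEquivOfEq hIL.symm))
    (by
      intro r
      obtain ⟨x, rfl⟩ := Ideal.Quotient.mk_surjective r
      rfl) h

end Groth.Agent.Lib.Helper7.Smoothing
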