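import Mathlib
import Groth.Prelude.Def_Smoothing
import Groth.Agent.Lib.Helper7Smoothing45
import Groth.Agent.Lib.Helper7Smoothing47
import Groth.Agent.Lib.Helper7Smoothing48

/-!
# Helper7Smoothing55 (helper7): `indSmooth_residue`, `indSmooth_artin_quotient` (ind-smoothness of `Λ_𝔮/K` over `k[x]/K`).
-/
set_option autoImplicit false
set_option linter.style.haveILetI false
universe u
open Function TensorProduct MvPolynomial IsLocalRing RingTheory.Sequence

namespace Groth.Agent.Lib.Helper7.Smoothing

/-- the residue level: `k[x]/(x) → L/(x)L` is `k → κ`. -/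
theorem indSmooth_residue {k L : Type u} [Field k] {d : ℕ} [CommRing L] [IsLocalRing L]
    [Algebra (MvPolynomial (Fin d) k) L] [Algebra k L] [IsScalarTower k (MvPolynomial (Fin d) k) L]
    (hspan : Ideal.span (Set.range fun i : Fin d => algebraMap (MvPolynomial (Fin d) k) L (X i)) =
      maximalIdeal L)
    [Algebra.IsGeometricallyReduced k (ResidueField L)] :
    Smoothing.IndSmooth
      (MvPolynomial (Fin d) k ⧸ Ideal.span (Set.range (X : Fin d → MvPolynomial (Fin d) k)))
      (L ⧸ (Ideal.span (Set.range (X : Fin d → MvPolynomial (Fin d) k))).map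
        (algebraMap (MvPolynomial (Fin d) k) L)) := by
  haveI hmax : (Ideal.span (Set.range (X : Fin d → MvPolynomial (Fin d) k))).IsMaximal :=
    span_X_isMaximal
  have hbij : Function.Bijective (algebraMap k
      (MvPolynomial (Fin d) k ⧸ Ideal.span (Set.range (X : Fin d → MvPolynomial (Fin d) k)))) := by
    constructor
    · haveI : Nontrivial (MvPolynomial (Fin d) k ⧸
          Ideal.span (Set.range (X : Fin d → MvPolynomial (Fin d) k))) :=
        Ideal.Quotient.nontrivial_iff.mpr hmax.ne_top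
      exact (algebraMap k _).injective
    · intro y
      obtain ⟨p, rfl⟩ := Ideal.Quotient.mk_surjective y
      refine ⟨constantCoeff p, ?_⟩
      rw [IsScalarTower.algebraMap_apply k (MvPolynomial (Fin d) k)]
      change Ideal.Quotient.mk _ (C (constantCoeff p)) = Ideal.Quotient.mk _ p
      rw [eq_comm, Ideal.Quotient.eq]
      exact sub_C_constantCoeff_mem_span_X p
  have hmL : maximalIdeal L = (Ideal.span (Set.range (X : Fin d → MvPolynomial (Fin d) k))).map
      (algebraMap (MvPolynomial (Fin d) k) L) := by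
    rw [Ideal.map_span, ← hspan]
    congr 1
    ext y
    constructor
    · rintro ⟨i, rfl⟩
      exact ⟨_, ⟨i, rfl⟩, rfl⟩
    · rintro ⟨_, ⟨i, rfl⟩, rfl⟩
      exact ⟨i, rfl⟩
  have hfield : Smoothing.IndSmooth k (ResidueField L) := indSmooth_field
  refine indSmooth_of_ringEquiv (Λ₁ := ResidueField L) (RingEquiv.ofBijective _ hbij)
    (Ideal.quotEquivOfEq hmL : ResidueField L ≃+* _) ?_ hfield
  intro c₀
  change Ideal.Quotient.mk _ (algebraMap k L c₀) =
    Ideal.Quotient.mk _ (algebraMap (MvPolynomial (Fin d) k) L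
      (algebraMap k (MvPolynomial (Fin d) k) c₀))
  rw [← IsScalarTower.algebraMap_apply k (MvPolynomial (Fin d) k) L]

/-- ind-smoothness of the Artinian quotient `Λ_𝔮/(K)` over `k[x]/K`. -/
theorem indSmooth_artin_quotient {k Λ : Type u} [Field k] {d : ℕ} [CommRing Λ]
    [IsNoetherianRing Λ] [Algebra (MvPolynomial (Fin d) k) Λ] [Algebra k Λ]
    [IsScalarTower k (MvPolynomial (Fin d) k) Λ] (𝔮 : Ideal Λ) [𝔮.IsPrime]
    (hreg : IsWeaklyRegular (Localization.AtPrime 𝔮) (List.ofFn fun i : Fin d =>
      algebraMap Λ (Localization.AtPrime 𝔮) (algebraMap (MvPolynomial (Fin d) k) Λ (X i))))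
    (hspan : Ideal.span (Set.range fun i : Fin d =>
      algebraMap Λ (Localization.AtPrime 𝔮) (algebraMap (MvPolynomial (Fin d) k) Λ (X i))) =
      maximalIdeal (Localization.AtPrime 𝔮))
    [Algebra.IsGeometricallyReduced k 𝔮.ResidueField]
    (K : Ideal (MvPolynomial (Fin d) k))
    (hK : K ≤ Ideal.span (Set.range (X : Fin d → MvPolynomial (Fin d) k))) (N : ℕ)
    (hN : Ideal.span (Set.range (X : Fin d → MvPolynomial (Fin d) k)) ^ N ≤ K)
    (Λq : Type u) [CommRing Λq] [Algebra (MvPolynomial (Fin d) k ⧸ K) Λq]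
    (τ : (Localization.AtPrime 𝔮 ⧸
      K.map (algebraMap (MvPolynomial (Fin d) k) (Localization.AtPrime 𝔮))) ≃+* Λq)
    (hτ : ∀ p : MvPolynomial (Fin d) k, τ (Ideal.Quotient.mk _
      (algebraMap (MvPolynomial (Fin d) k) (Localization.AtPrime 𝔮) p)) =
      algebraMap (MvPolynomial (Fin d) k ⧸ K) Λq (Ideal.Quotient.mk K p)) :
    Smoothing.IndSmooth (MvPolynomial (Fin d) k ⧸ K) Λq := by
  haveI : IsScalarTower k (MvPolynomial (Fin d) k) (Localization.AtPrime 𝔮) :=
    IsScalarTower.of_algebraMap_eq (fun c₀ => by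
      rw [IsScalarTower.algebraMap_apply k Λ (Localization.AtPrime 𝔮),
        IsScalarTower.algebraMap_apply k (MvPolynomial (Fin d) k) Λ,
        ← IsScalarTower.algebraMap_apply (MvPolynomial (Fin d) k) Λ (Localization.AtPrime 𝔮)])
  have hX : ∀ i : Fin d, algebraMap (MvPolynomial (Fin d) k) (Localization.AtPrime 𝔮) (X i) =
      algebraMap Λ (Localization.AtPrime 𝔮) (algebraMap (MvPolynomial (Fin d) k) Λ (X i)) :=
    fun i => IsScalarTower.algebraMap_apply _ _ _ _
  have hreg' : IsWeaklyRegular (Localization.AtPrime 𝔮) (List.ofFn fun i : Fin d =>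
      algebraMap (MvPolynomial (Fin d) k) (Localization.AtPrime 𝔮) (X i)) := by
    simp only [hX]; exact hreg
  have hspan' : Ideal.span (Set.range fun i : Fin d =>
      algebraMap (MvPolynomial (Fin d) k) (Localization.AtPrime 𝔮) (X i)) =
      maximalIdeal (Localization.AtPrime 𝔮) := by
    simp only [hX]; exact hspan
  haveI : Module.Flat (MvPolynomial (Fin d) k) (Localization.AtPrime 𝔮) :=
    flat_mvPolynomial_of_regular hreg' hspan'
  have h1 := indSmooth_residue (k := k) (L := Localization.AtPrime 𝔮) hspan'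
  have h2 := indSmooth_quotient_of_flat (L := Localization.AtPrime 𝔮)
    (Ideal.span (Set.range (X : Fin d → MvPolynomial (Fin d) k))) K hK N hN h1
  refine indSmooth_of_ringEquiv (RingEquiv.refl _) τ ?_ h2
  intro r
  obtain ⟨p, rfl⟩ := Ideal.Quotient.mk_surjective r
  exact hτ p

end Groth.Agent.Lib.Helper7.Smoothing
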