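import Mathlib
import Groth.Prelude.Def_Smoothing
import Groth.Agent.Lib.Helper7Smoothing46
import Groth.Agent.Lib.Helper7Smoothing54
import Groth.Agent.Lib.Helper7Smoothing55

/-!
# Helper7Smoothing56 (helper7): `resolvable_reduced` — Stacks 07F1, the reduced problem modulo `(x_i^{8c})` is resolvable.
-/

set_option autoImplicit false
set_option linter.style.haveILetI false
universe u
open Function TensorProduct MvPolynomial IsLocalRing RingTheory.Sequence

namespace Groth.Agent.Lib.Helper7.Smoothing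

/-- **Stacks 07F1, the reduced problem.** -/
theorem resolvable_reduced {k C Λ : Type u} [Field k] {d : ℕ} (c : ℕ) (hc : 0 < c)
    [CommRing C] [Algebra (MvPolynomial (Fin d) k) C]
    [Algebra.FinitePresentation (MvPolynomial (Fin d) k) C]
    [CommRing Λ] [IsNoetherianRing Λ] [Algebra (MvPolynomial (Fin d) k) Λ] [Algebra k Λ]
    [IsScalarTower k (MvPolynomial (Fin d) k) Λ]
    (h' : C →ₐ[MvPolynomial (Fin d) k] Λ) (𝔮 : Ideal Λ) [𝔮.IsPrime]
    (hπ𝔮 : ∀ i, algebraMap (MvPolynomial (Fin d) k) Λ (X i) ∈ 𝔮)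
    (hreg : IsWeaklyRegular (Localization.AtPrime 𝔮) (List.ofFn fun i : Fin d =>
      algebraMap Λ (Localization.AtPrime 𝔮) (algebraMap (MvPolynomial (Fin d) k) Λ (X i))))
    (hspan : Ideal.span (Set.range fun i : Fin d =>
      algebraMap Λ (Localization.AtPrime 𝔮) (algebraMap (MvPolynomial (Fin d) k) Λ (X i))) =
      maximalIdeal (Localization.AtPrime 𝔮))
    [Algebra.IsGeometricallyReduced k 𝔮.ResidueField]
    (K : Ideal (MvPolynomial (Fin d) k))
    (hK : K = Ideal.span (Set.range fun i : Fin d => ((X i : MvPolynomial (Fin d) k) ^ c) ^ 8)) :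
    Smoothing.Resolvable (MvPolynomial (Fin d) k ⧸ K) (quotPhi h' K)
      (𝔮.map (Ideal.Quotient.mk (K.map (algebraMap (MvPolynomial (Fin d) k) Λ)))) := by
  classical
  have hJ𝔮 : K.map (algebraMap (MvPolynomial (Fin d) k) Λ) ≤ 𝔮 := by
    rw [Ideal.map_le_iff_le_comap, hK, Ideal.span_le]
    rintro _ ⟨i, rfl⟩
    change algebraMap (MvPolynomial (Fin d) k) Λ ((X i ^ c) ^ 8) ∈ 𝔮
    rw [map_pow, map_pow]
    exact Ideal.pow_mem_of_mem _ (Ideal.pow_mem_of_mem _ (hπ𝔮 i) c hc) 8 (by norm_num)
  haveI hprime : (𝔮.map (Ideal.Quotient.mk (K.map (algebraMap (MvPolynomial (Fin d) k) Λ)))).IsPrime :=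
    map_mk_isPrime 𝔮 _ hJ𝔮
  haveI : Algebra.FinitePresentation (MvPolynomial (Fin d) k ⧸ K)
      (C ⧸ K.map (algebraMap (MvPolynomial (Fin d) k) C)) := finitePresentation_quotient_map K
  by_cases hsr : Smoothing.singRad (MvPolynomial (Fin d) k ⧸ K) (quotPhi h' K) ≤
      𝔮.map (Ideal.Quotient.mk (K.map (algebraMap (MvPolynomial (Fin d) k) Λ)))
  · -- the zero-dimensional local problem
    letI algΛq : Algebra (MvPolynomial (Fin d) k ⧸ K)
        (Localization.AtPrime 𝔮 ⧸ (K.map (algebraMap (MvPolynomial (Fin d) k) Λ)).map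
          (algebraMap Λ (Localization.AtPrime 𝔮))) :=
      ((algebraMap (Λ ⧸ K.map (algebraMap (MvPolynomial (Fin d) k) Λ))
          (Localization.AtPrime 𝔮 ⧸ (K.map (algebraMap (MvPolynomial (Fin d) k) Λ)).map
            (algebraMap Λ (Localization.AtPrime 𝔮)))).comp
        (algebraMap (MvPolynomial (Fin d) k ⧸ K)
          (Λ ⧸ K.map (algebraMap (MvPolynomial (Fin d) k) Λ)))).toAlgebra
    haveI tower : IsScalarTower (MvPolynomial (Fin d) k ⧸ K)
        (Λ ⧸ K.map (algebraMap (MvPolynomial (Fin d) k) Λ))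
        (Localization.AtPrime 𝔮 ⧸ (K.map (algebraMap (MvPolynomial (Fin d) k) Λ)).map
          (algebraMap Λ (Localization.AtPrime 𝔮))) :=
      IsScalarTower.of_algebraMap_eq (fun _ => rfl)
    haveI hlocΛ := isLocalization_atPrime_quotient 𝔮 _ hJ𝔮
    obtain ⟨N, hN⟩ := exists_span_X_pow_le (k := k) (d := d) c
    rw [← hK] at hN
    have hKle : K ≤ Ideal.span (Set.range (X : Fin d → MvPolynomial (Fin d) k)) := by
      rw [hK]; exact span_pow_le_span_X c hc
    haveI hlocR : IsLocalization.AtPrime (MvPolynomial (Fin d) k ⧸ K)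
        ((𝔮.map (Ideal.Quotient.mk (K.map (algebraMap (MvPolynomial (Fin d) k) Λ)))).comap
          (algebraMap (MvPolynomial (Fin d) k ⧸ K)
            (Λ ⧸ K.map (algebraMap (MvPolynomial (Fin d) k) Λ)))) :=
      isLocalization_atPrime_self K N hN _ (fun i => by
        rw [Ideal.mem_comap]
        exact Ideal.mem_map_of_mem _ (hπ𝔮 i))
    haveI : IsLocalRing (Localization.AtPrime 𝔮 ⧸
        (K.map (algebraMap (MvPolynomial (Fin d) k) Λ)).map
          (algebraMap Λ (Localization.AtPrime 𝔮))) :=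
      IsLocalization.AtPrime.isLocalRing _
        (𝔮.map (Ideal.Quotient.mk (K.map (algebraMap (MvPolynomial (Fin d) k) Λ))))
    have hcomp : (algebraMap (Λ ⧸ K.map (algebraMap (MvPolynomial (Fin d) k) Λ))
          (Localization.AtPrime 𝔮 ⧸ (K.map (algebraMap (MvPolynomial (Fin d) k) Λ)).map
            (algebraMap Λ (Localization.AtPrime 𝔮)))).comp
        (Ideal.Quotient.mk (K.map (algebraMap (MvPolynomial (Fin d) k) Λ))) =
        (Ideal.Quotient.mk ((K.map (algebraMap (MvPolynomial (Fin d) k) Λ)).map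
            (algebraMap Λ (Localization.AtPrime 𝔮)))).comp
          (algebraMap Λ (Localization.AtPrime 𝔮)) := RingHom.ext fun _ => rfl
    have hdim : ringKrullDim (Localization.AtPrime 𝔮 ⧸
        (K.map (algebraMap (MvPolynomial (Fin d) k) Λ)).map
          (algebraMap Λ (Localization.AtPrime 𝔮))) = 0 := by
      refine ringKrullDim_eq_zero_of_gens_nilpotent
        (fun i : Fin d => Ideal.Quotient.mk ((K.map (algebraMap (MvPolynomial (Fin d) k) Λ)).map
            (algebraMap Λ (Localization.AtPrime 𝔮)))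
          (algebraMap Λ (Localization.AtPrime 𝔮)
            (algebraMap (MvPolynomial (Fin d) k) Λ (X i)))) ?_ ?_
      · have h2 : (𝔮.map (Ideal.Quotient.mk (K.map (algebraMap (MvPolynomial (Fin d) k) Λ)))).map
            (algebraMap (Λ ⧸ K.map (algebraMap (MvPolynomial (Fin d) k) Λ))
              (Localization.AtPrime 𝔮 ⧸ (K.map (algebraMap (MvPolynomial (Fin d) k) Λ)).map
                (algebraMap Λ (Localization.AtPrime 𝔮)))) =
            (𝔮.map (algebraMap Λ (Localization.AtPrime 𝔮))).map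
              (Ideal.Quotient.mk ((K.map (algebraMap (MvPolynomial (Fin d) k) Λ)).map
                (algebraMap Λ (Localization.AtPrime 𝔮)))) := by
          rw [Ideal.map_map (I := 𝔮), Ideal.map_map (I := 𝔮), hcomp]
        rw [← IsLocalization.AtPrime.map_eq_maximalIdeal
          (𝔮.map (Ideal.Quotient.mk (K.map (algebraMap (MvPolynomial (Fin d) k) Λ)))), h2,
          Localization.AtPrime.map_eq_maximalIdeal, ← hspan, Ideal.map_span]
        refine Ideal.span_mono ?_
        rintro _ ⟨_, ⟨i, rfl⟩, rfl⟩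
        exact ⟨i, rfl⟩
      · intro i
        refine ⟨c * 8, ?_⟩
        rw [← map_pow, ← map_pow, ← map_pow, Ideal.Quotient.eq_zero_iff_mem]
        refine Ideal.mem_map_of_mem _ (Ideal.mem_map_of_mem _ ?_)
        rw [hK, pow_mul]
        exact Ideal.subset_span ⟨i, rfl⟩
    -- ind-smoothness
    have hIeq : K.map (algebraMap (MvPolynomial (Fin d) k) (Localization.AtPrime 𝔮)) =
        (K.map (algebraMap (MvPolynomial (Fin d) k) Λ)).map
          (algebraMap Λ (Localization.AtPrime 𝔮)) := by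
      rw [Ideal.map_map (I := K), ← IsScalarTower.algebraMap_eq]
    have hind : Smoothing.IndSmooth (MvPolynomial (Fin d) k ⧸ K)
        (Localization.AtPrime 𝔮 ⧸ (K.map (algebraMap (MvPolynomial (Fin d) k) Λ)).map
          (algebraMap Λ (Localization.AtPrime 𝔮))) := by
      refine indSmooth_artin_quotient 𝔮 hreg hspan K hKle N hN _ (Ideal.quotEquivOfEq hIeq) ?_
      intro p
      rw [Ideal.quotEquivOfEq_mk,
        IsScalarTower.algebraMap_apply (MvPolynomial (Fin d) k) Λ (Localization.AtPrime 𝔮)]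
      rfl
    -- minimality
    have hmin' : 𝔮.map (Ideal.Quotient.mk (K.map (algebraMap (MvPolynomial (Fin d) k) Λ))) ∈
        (Smoothing.singRad (MvPolynomial (Fin d) k ⧸ K) (quotPhi h' K)).minimalPrimes := by
      have hht := IsLocalization.AtPrime.ringKrullDim_eq_height
        (𝔮.map (Ideal.Quotient.mk (K.map (algebraMap (MvPolynomial (Fin d) k) Λ))))
        (Localization.AtPrime 𝔮 ⧸ (K.map (algebraMap (MvPolynomial (Fin d) k) Λ)).map
          (algebraMap Λ (Localization.AtPrime 𝔮)))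
      rw [hdim] at hht
      have hht0 : (𝔮.map (Ideal.Quotient.mk
          (K.map (algebraMap (MvPolynomial (Fin d) k) Λ)))).height = 0 := by
        exact_mod_cast hht.symm
      have hq := Ideal.height_eq_zero_iff.mp hht0
      refine ⟨⟨hprime, hsr⟩, fun P hP hPle => ?_⟩
      exact hq.2 ⟨hP.1, bot_le⟩ hPle
    haveI : @IsScalarTower (MvPolynomial (Fin d) k ⧸ K) (MvPolynomial (Fin d) k ⧸ K)
        (Localization.AtPrime 𝔮 ⧸ (K.map (algebraMap (MvPolynomial (Fin d) k) Λ)).map
          (algebraMap Λ (Localization.AtPrime 𝔮)))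
        (Algebra.id (MvPolynomial (Fin d) k ⧸ K)).toSMul algΛq.toSMul algΛq.toSMul :=
      IsScalarTower.of_algebraMap_eq (fun _ => rfl)
    exact resolvable_of_indSmooth_local (Rₚ := MvPolynomial (Fin d) k ⧸ K)
      (Λq := Localization.AtPrime 𝔮 ⧸ (K.map (algebraMap (MvPolynomial (Fin d) k) Λ)).map
          (algebraMap Λ (Localization.AtPrime 𝔮)))
      (quotPhi h' K) _ hmin' hdim hind
  · exact ⟨C ⧸ K.map (algebraMap (MvPolynomial (Fin d) k) C), inferInstance, inferInstance,
      inferInstance, AlgHom.id _ _, quotPhi h' K, AlgHom.comp_id _, le_rfl, hsr⟩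

end Groth.Agent.Lib.Helper7.Smoothing
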