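import Groth.Agent.Lib.Helper7Smoothing40

set_option autoImplicit false
set_option linter.style.haveILetI false
universe u
open MvPolynomial TensorProduct

namespace Groth.Agent.Lib.Helper7.Smoothing

section Chain
variable {R : Type u} [CommRing R] {r : ℕ} (π : Fin r → R)

/-- the ideal generated by the eighth powers of the first `i` elements -/
def K8 (i : ℕ) : Ideal R :=
  Ideal.span (Set.range fun j : {j : Fin r // (j : ℕ) < i} => π j ^ 8)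

lemma K8_succ (i : ℕ) (hi : i < r) :
    K8 π (i + 1) = K8 π i ⊔ Ideal.span {π ⟨i, hi⟩ ^ 8} := by
  unfold K8
  rw [← Ideal.span_union]
  congr 1
  ext x
  constructor
  · rintro ⟨⟨j, hj⟩, rfl⟩
    rcases Nat.lt_succ_iff_lt_or_eq.mp hj with hlt | heq
    · exact Or.inl ⟨⟨j, hlt⟩, rfl⟩
    · right
      have : j = ⟨i, hi⟩ := Fin.ext heq
      rw [Set.mem_singleton_iff]
      change π j ^ 8 = _
      rw [this]
  · rintro (⟨⟨j, hj⟩, rfl⟩ | hx)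
    · exact ⟨⟨j, Nat.lt_succ_of_lt hj⟩, rfl⟩
    · rw [Set.mem_singleton_iff] at hx
      exact ⟨⟨⟨i, hi⟩, Nat.lt_succ_self i⟩, hx.symm⟩

lemma K8_top : K8 π r = Ideal.span (Set.range fun i => π i ^ 8) := by
  unfold K8
  congr 1
  ext x
  constructor
  · rintro ⟨⟨j, hj⟩, rfl⟩
    exact ⟨j, rfl⟩
  · rintro ⟨j, rfl⟩
    exact ⟨⟨j, j.2⟩, rfl⟩

lemma K8_one (hr : 0 < r) : K8 π 1 = Ideal.span {π ⟨0, hr⟩ ^ 8} := by
  unfold K8
  congr 1
  ext x
  constructor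
  · rintro ⟨⟨j, hj⟩, rfl⟩
    have : j = ⟨0, hr⟩ := Fin.ext (by simpa using hj)
    rw [Set.mem_singleton_iff]
    change π j ^ 8 = _
    rw [this]
  · intro hx
    rw [Set.mem_singleton_iff] at hx
    exact ⟨⟨⟨0, hr⟩, by simp⟩, hx.symm⟩

lemma K8_zero : K8 π 0 = ⊥ := by
  unfold K8
  rw [Ideal.span_eq_bot]
  rintro x ⟨⟨j, hj⟩, rfl⟩
  exact absurd hj (Nat.not_lt_zero _)

variable {Λ : Type u} [CommRing Λ] [Algebra R Λ]

lemma K8_map_eq (i : ℕ) : (K8 π i).map (algebraMap R Λ) =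
    Ideal.span (Set.range fun j : {j : Fin r // (j : ℕ) < i} => algebraMap R Λ (π j) ^ 8) := by
  unfold K8
  rw [Ideal.map_span, ← Set.range_comp]
  congr 2
  ext j
  simp

lemma K8_map_le (𝔮 : Ideal Λ) (hπ𝔮 : ∀ i, algebraMap R Λ (π i) ∈ 𝔮) (i : ℕ) :
    (K8 π i).map (algebraMap R Λ) ≤ 𝔮 := by
  rw [K8_map_eq, Ideal.span_le]
  rintro x ⟨j, rfl⟩
  exact Ideal.pow_mem_of_mem _ (hπ𝔮 j) 8 (by norm_num)

end Chain


theorem resolvable_of_resAt_K8 {R A Λ : Type u} [CommRing R] [IsNoetherianRing R] [CommRing A]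
    [Algebra R A] [Algebra.FinitePresentation R A] [CommRing Λ] [Algebra R Λ] (φ : A →ₐ[R] Λ)
    (𝔮 : Ideal Λ) [𝔮.IsPrime] {r : ℕ} (hr : 0 < r) (π : Fin r → R)
    (hπ𝔮 : ∀ i, algebraMap R Λ (π i) ∈ 𝔮)
    (hRI : ∀ i : Fin r, ∀ y : R, π i ^ 2 * y ∈ K8 π i → π i * y ∈ K8 π i)
    (hΛI : ∀ i : Fin r, ∀ y : Λ,
      algebraMap R Λ (π i) ^ 2 * y ∈ (K8 π i).map (algebraMap R Λ) →
        algebraMap R Λ (π i) * y ∈ (K8 π i).map (algebraMap R Λ))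
    (hstd : ∀ i, Smoothing.IsStrictlyStandard R A (algebraMap R A (π i)))
    (h : ResAt φ 𝔮 (K8 π r)) : Smoothing.Resolvable R φ 𝔮 := by
  have key : ∀ k i, i + k = r → 1 ≤ i → ResAt φ 𝔮 (K8 π i) := by
    intro k
    induction k with
    | zero =>
      intro i hi _
      have : i = r := by omega
      rw [this]
      exact h
    | succ k ih =>
      intro i hik hi1
      have hi : i < r := by omega
      have h1 := ih (i + 1) (by omega) (by omega)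
      rw [K8_succ π i hi] at h1
      refine resAt_step φ 𝔮 (K8 π i) (π ⟨i, hi⟩) (hRI ⟨i, hi⟩) (hΛI ⟨i, hi⟩) (hstd _) ?_ h1
      rw [← K8_succ]
      exact K8_map_le π 𝔮 hπ𝔮 (i + 1)
  have h1 := key (r - 1) 1 (by omega) le_rfl
  rw [K8_one π hr] at h1
  refine resolvable_of_resAt_singleton φ 𝔮 (π ⟨0, hr⟩) ?_ ?_ (hstd _) (hπ𝔮 _) h1
  · intro y hy
    have h2 := hRI ⟨0, hr⟩ y
    change π ⟨0, hr⟩ ^ 2 * y ∈ K8 π 0 → π ⟨0, hr⟩ * y ∈ K8 π 0 at h2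
    rw [K8_zero] at h2
    exact (Ideal.mem_bot).mp (h2 ((Ideal.mem_bot).mpr hy))
  · intro y hy
    have h2 := hΛI ⟨0, hr⟩ y
    change algebraMap R Λ (π ⟨0, hr⟩) ^ 2 * y ∈ (K8 π 0).map (algebraMap R Λ) →
      algebraMap R Λ (π ⟨0, hr⟩) * y ∈ (K8 π 0).map (algebraMap R Λ) at h2
    rw [K8_zero, Ideal.map_bot] at h2
    rw [Algebra.smul_def]
    refine (Ideal.mem_bot).mp (h2 ((Ideal.mem_bot).mpr ?_))
    rw [← map_pow, ← Algebra.smul_def]
    exact hy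

end Groth.Agent.Lib.Helper7.Smoothing
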