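import Mathlib
import Groth.Prelude.Def_Smoothing
import Groth.Agent.S6822
import Groth.Agent.Lib.Helper7Smoothing53
import Groth.Agent.Lib.Helper7Smoothing56
import Groth.Agent.Lib.Helper5RLR
set_option autoImplicit false
set_option linter.style.haveILetI false
universe u
open Function TensorProduct MvPolynomial IsLocalRing RingTheory.Sequence

namespace Groth.Agent.Lib.Helper7.Smoothing

open Groth.Agent.S2109 in
/-- **Stacks 07F1, core**: application of S6822 to `k[x] → C → Λ`. -/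
theorem resolvable_core {k C Λ : Type u} [Field k] {d : ℕ} (hd : 0 < d) (c : ℕ) (hc : 0 < c)
    [CommRing C] [Algebra (MvPolynomial (Fin d) k) C]
    [Algebra.FinitePresentation (MvPolynomial (Fin d) k) C]
    [CommRing Λ] [IsNoetherianRing Λ] [Algebra (MvPolynomial (Fin d) k) Λ] [Algebra k Λ]
    [IsScalarTower k (MvPolynomial (Fin d) k) Λ]
    (h' : C →ₐ[MvPolynomial (Fin d) k] Λ) (𝔮 : Ideal Λ) [𝔮.IsPrime]
    [IsRegularLocalRing (Localization.AtPrime 𝔮)]
    (hdim : ringKrullDim (Localization.AtPrime 𝔮) = d)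
    (π : Fin d → Λ) (hπ : ∀ i, algebraMap (MvPolynomial (Fin d) k) Λ (X i) = π i)
    (hπ𝔮 : ∀ i, π i ∈ 𝔮)
    (hspan : Ideal.span (Set.range fun i => algebraMap Λ (Localization.AtPrime 𝔮) (π i)) =
      𝔮.map (algebraMap Λ (Localization.AtPrime 𝔮)))
    (hann : ∀ i : Fin d, ∀ x : Λ, π i ^ 2 * x ∈ JJ (8 * c) π i → π i * x ∈ JJ (8 * c) π i)
    (hstd : ∀ i, Smoothing.IsStrictlyStandard (MvPolynomial (Fin d) k) C
      (algebraMap (MvPolynomial (Fin d) k) C (X i ^ c)))
    [Algebra.IsGeometricallyReduced k 𝔮.ResidueField] :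
    Smoothing.Resolvable (MvPolynomial (Fin d) k) h' 𝔮 := by
  have hfun : (fun i : Fin d => algebraMap Λ (Localization.AtPrime 𝔮)
      (algebraMap (MvPolynomial (Fin d) k) Λ (X i))) =
      fun i => algebraMap Λ (Localization.AtPrime 𝔮) (π i) := funext fun i => by rw [hπ]
  have hspan' : Ideal.span (Set.range fun i : Fin d =>
      algebraMap Λ (Localization.AtPrime 𝔮) (algebraMap (MvPolynomial (Fin d) k) Λ (X i))) =
      maximalIdeal (Localization.AtPrime 𝔮) := by
    rw [hfun, hspan, Localization.AtPrime.map_eq_maximalIdeal]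
  have hreg : IsWeaklyRegular (Localization.AtPrime 𝔮) (List.ofFn fun i : Fin d =>
      algebraMap Λ (Localization.AtPrime 𝔮) (algebraMap (MvPolynomial (Fin d) k) Λ (X i))) :=
    (Groth.Agent.Lib.Helper5.isRegular_ofFn_of_span_eq_maximalIdeal hdim _
      hspan').toIsWeaklyRegular
  have hπ𝔮' : ∀ i, algebraMap (MvPolynomial (Fin d) k) Λ (X i) ∈ 𝔮 := fun i => by
    rw [hπ]; exact hπ𝔮 i
  refine Groth.Agent.S6822.result h' 𝔮 hd (fun i => (X i : MvPolynomial (Fin d) k) ^ c) ?_ ?_ ?_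
    hstd (Ideal.span (Set.range fun i : Fin d => ((X i : MvPolynomial (Fin d) k) ^ c) ^ 8)) rfl
    (quotPhi h' _) (quotPhi_mk h' _)
    (resolvable_reduced c hc h' 𝔮 hπ𝔮' hreg hspan' _ rfl)
  · intro i
    rw [map_pow]
    exact Ideal.pow_mem_of_mem _ (hπ𝔮' i) c hc
  · intro i x hx
    refine ann_cond_of_regular (fun j : Fin d => (X j : MvPolynomial (Fin d) k))
      (isWeaklyRegular_X d) c hc i _ ?_ _ rfl x hx
    unfold JJ
    congr 2
    funext j
    rw [← pow_mul, mul_comm]
  · intro i x hx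
    refine ann_cond_of_ann π c hc i (hann i) _ ?_ _ ?_ x hx
    · unfold JJ
      congr 2
      funext j
      rw [map_pow, hπ, ← pow_mul, mul_comm]
    · rw [map_pow, hπ]

end Groth.Agent.Lib.Helper7.Smoothing
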