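import Mathlib
import Groth.Prelude.Def_Smoothing
import Groth.Agent.Lib.Helper7Smoothing4
import Groth.Agent.Lib.Helper7Smoothing45
import Groth.Agent.Lib.Helper7Smoothing46
import Groth.Agent.Lib.Helper7Smoothing51
import Groth.Agent.Lib.Helper7Smoothing52
import Groth.Agent.Lib.Helper7Smoothing57
set_option autoImplicit false
set_option linter.style.haveILetI false
universe u
open Function TensorProduct MvPolynomial IsLocalRing

namespace Groth.Agent.Lib.Helper7.Smoothing

/-- **Stacks 07F1, case `dim Λ_𝔮 = 0`**. -/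
theorem resolvable_dim_zero {k A Λ : Type u} [Field k] [CommRing A]
    [Algebra k A] [Algebra.FinitePresentation k A] [CommRing Λ] [Algebra k Λ] [IsNoetherianRing Λ]
    (φ : A →ₐ[k] Λ) (𝔮 : Ideal Λ) [𝔮.IsPrime] (hmin : 𝔮 ∈ (Smoothing.singRad k φ).minimalPrimes)
    (hbot : 𝔮.map (algebraMap Λ (Localization.AtPrime 𝔮)) = ⊥)
    [Algebra.IsGeometricallyReduced k 𝔮.ResidueField] : Smoothing.Resolvable k φ 𝔮 := by
  have hmax : maximalIdeal (Localization.AtPrime 𝔮) = ⊥ := by
    rw [← Localization.AtPrime.map_eq_maximalIdeal, hbot]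
  haveI : Algebra.IsGeometricallyReduced k (ResidueField (Localization.AtPrime 𝔮)) :=
    ‹Algebra.IsGeometricallyReduced k 𝔮.ResidueField›
  have hind0 : Smoothing.IndSmooth k (ResidueField (Localization.AtPrime 𝔮)) :=
    indSmooth_field (k := k) (K := ResidueField (Localization.AtPrime 𝔮))
  have hind : Smoothing.IndSmooth k (Localization.AtPrime 𝔮) := by
    refine indSmooth_of_ringEquiv (R₁ := k) (R₂ := k) (RingEquiv.refl k)
      (Λ₁ := ResidueField (Localization.AtPrime 𝔮)) (Λ₂ := Localization.AtPrime 𝔮)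
      ((Ideal.quotEquivOfEq hmax).trans (RingEquiv.quotientBot (Localization.AtPrime 𝔮))) ?_ hind0
    intro r
    rfl
  haveI : IsLocalization.AtPrime k (𝔮.comap (algebraMap k Λ)) := by
    refine IsLocalization.of_le_isUnit ?_
    intro y hy
    refine IsUnit.mk0 y ?_
    rintro rfl
    exact hy (Ideal.zero_mem _)
  haveI : @IsScalarTower k k (Localization.AtPrime 𝔮) (Algebra.id k).toSMul _ _ :=
    IsScalarTower.of_algebraMap_eq (fun _ => rfl)
  have hdim : ringKrullDim (Localization.AtPrime 𝔮) = 0 := by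
    refine ringKrullDim_eq_zero_of_isField ?_
    rw [IsLocalRing.isField_iff_maximalIdeal_eq]
    exact hmax
  exact resolvable_of_indSmooth_local (R := k) (Rₚ := k) (Λq := Localization.AtPrime 𝔮) φ 𝔮 hmin
    hdim hind

open Groth.Agent.S2109 in
/-- **Stacks 07F1, case `dim Λ_𝔮 = d > 0`**, given the output of `exists_BC` and `S2109.main`. -/
theorem resolvable_dim_pos {k A C Λ : Type u} [Field k] [CommRing A]
    [Algebra k A] [CommRing Λ] [Algebra k Λ] [IsNoetherianRing Λ]
    {d : ℕ} (hd : 0 < d) (c : ℕ) (hc : 0 < c)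
    [CommRing C] [Algebra (MvPolynomial (Fin d) k) C] [Algebra k C]
    [IsScalarTower k (MvPolynomial (Fin d) k) C]
    [Algebra.FinitePresentation (MvPolynomial (Fin d) k) C]
    (φ : A →ₐ[k] Λ) (𝔮 : Ideal Λ) [𝔮.IsPrime]
    [IsRegularLocalRing (Localization.AtPrime 𝔮)]
    [Algebra.IsGeometricallyReduced k 𝔮.ResidueField]
    (hdim : ringKrullDim (Localization.AtPrime 𝔮) = d)
    (g : A →ₐ[k] C)
    (hstd : ∀ i, Smoothing.IsStrictlyStandard (MvPolynomial (Fin d) k) C
      (algebraMap (MvPolynomial (Fin d) k) C (X i ^ c)))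
    (hsing : ∀ a ∈ Smoothing.singularIdeal k A,
      g a ∈ Smoothing.singularIdeal (MvPolynomial (Fin d) k) C)
    (π : Fin d → Λ) (hπ𝔮 : ∀ i, π i ∈ 𝔮)
    (hspan : Ideal.span (Set.range fun i => algebraMap Λ (Localization.AtPrime 𝔮) (π i)) =
      𝔮.map (algebraMap Λ (Localization.AtPrime 𝔮)))
    (hann : ∀ i : Fin d, ∀ x : Λ, π i ^ 2 * x ∈ JJ (8 * c) π i → π i * x ∈ JJ (8 * c) π i)
    (h : C →ₐ[k] Λ) (hhg : h.comp g = φ)
    (hhX : ∀ i, h (algebraMap (MvPolynomial (Fin d) k) C (X i)) = π i) :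
    Smoothing.Resolvable k φ 𝔮 := by
  letI : Algebra (MvPolynomial (Fin d) k) Λ :=
    ((aeval π : MvPolynomial (Fin d) k →ₐ[k] Λ) : MvPolynomial (Fin d) k →+* Λ).toAlgebra
  haveI : IsScalarTower k (MvPolynomial (Fin d) k) Λ :=
    IsScalarTower.of_algebraMap_eq (fun r => ((aeval π : MvPolynomial (Fin d) k →ₐ[k] Λ).commutes r).symm)
  have hπ : ∀ i, algebraMap (MvPolynomial (Fin d) k) Λ (X i) = π i := fun i => aeval_X π i
  have hcomm : h.comp (IsScalarTower.toAlgHom k (MvPolynomial (Fin d) k) C) = aeval π := by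
    refine MvPolynomial.algHom_ext fun i => ?_
    rw [AlgHom.comp_apply, IsScalarTower.toAlgHom_apply, hhX, aeval_X]
  let h' : C →ₐ[MvPolynomial (Fin d) k] Λ :=
    { (h : C →+* Λ) with
      commutes' := fun p => by
        have := DFunLike.congr_fun hcomm p
        rw [AlgHom.comp_apply, IsScalarTower.toAlgHom_apply] at this
        exact this }
  have hcomp : ∀ a, h' (g a) = φ a := fun a => DFunLike.congr_fun hhg a
  exact resolvable_descend φ g h' hcomp hsing 𝔮
    (resolvable_core hd c hc h' 𝔮 hdim π hπ hπ𝔮 hspan hann hstd)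

end Groth.Agent.Lib.Helper7.Smoothing
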