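import Mathlib
import Groth.Agent.S5777
import Groth.Agent.Lib.Helper5RLR
import Groth.Agent.Lib.Helper7Smoothing66

/-!
# Helper7Smoothing67 (helper7): `flat_of_regular_generators` — a local homomorphism of regular local rings
sending `d` generators of the maximal ideal to a regular system of parameters (`d = dim` of the target) is
flat, and the generators form a regular sequence (via S5777 and helper5's RLR library).
-/
set_option autoImplicit false
set_option linter.style.haveILetI false
universe u
open IsLocalRing RingTheory.Sequence

namespace Groth.Agent.Lib.Helper7.Smoothing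

/-- flatness of a local homomorphism of regular local rings sending a system of generators of the
maximal ideal to a regular system of parameters. -/
theorem flat_of_regular_generators {W L : Type u} [CommRing W]
    [IsRegularLocalRing W] [CommRing L]
    [IsRegularLocalRing L] [Algebra W L] [IsLocalHom (algebraMap W L)]
    {d : ℕ} (hdim : ringKrullDim L = d) (z : Fin d → W)
    (hz : Ideal.span (Set.range z) = maximalIdeal W)
    (hzL : Ideal.span (Set.range fun i => algebraMap W L (z i)) = maximalIdeal L) :
    Module.Flat W L ∧ IsWeaklyRegular W (List.ofFn z) ∧ ringKrullDim W = d := by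
  classical
  have hzm : ∀ i, z i ∈ maximalIdeal W := fun i => hz ▸ Ideal.subset_span ⟨i, rfl⟩
  have hzLm : ∀ i, algebraMap W L (z i) ∈ maximalIdeal L :=
    fun i => hzL ▸ Ideal.subset_span ⟨i, rfl⟩
  -- independence in `L`
  have hliL := Groth.Agent.Lib.Helper5.linearIndependent_toCotangent_of_span_eq hdim
    (fun i => (⟨algebraMap W L (z i), hzLm i⟩ : maximalIdeal L)) hzL
  have hindL := (linearIndependent_toCotangent_iff (fun i => algebraMap W L (z i)) hzLm).mp hliL
  -- independence in `W`
  have hmap : (maximalIdeal W).map (algebraMap W L) ≤ maximalIdeal L :=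
    IsLocalRing.map_maximalIdeal_le (algebraMap W L)
  have hindW : ∀ c : Fin d → W, ∑ i, c i * z i ∈ maximalIdeal W ^ 2 →
      ∀ i, c i ∈ maximalIdeal W := by
    intro c hc i
    have h1 : ∑ i, algebraMap W L (c i) * algebraMap W L (z i) ∈ maximalIdeal L ^ 2 := by
      have h2 : algebraMap W L (∑ i, c i * z i) ∈ (maximalIdeal W ^ 2).map (algebraMap W L) :=
        Ideal.mem_map_of_mem _ hc
      rw [Ideal.map_pow] at h2
      have h3 := Ideal.pow_right_mono hmap 2 h2
      rw [map_sum] at h3
      simpa only [map_mul] using h3
    have h4 := hindL (fun i => algebraMap W L (c i)) h1 i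
    by_contra hci
    have hu : IsUnit (c i) := by
      by_contra hnu
      exact hci hnu
    exact h4 (hu.map (algebraMap W L))
  have hliW := (linearIndependent_toCotangent_iff z hzm).mpr hindW
  -- dimension of `W`
  have hdimW : ringKrullDim W = d := by
    have h1 : d ≤ Module.finrank (ResidueField W) (CotangentSpace W) := by
      have := hliW.fintype_card_le_finrank
      rwa [Fintype.card_fin] at this
    have h2 : (maximalIdeal W).spanFinrank ≤ d := by
      rw [← hz]
      refine (Submodule.spanFinrank_span_le_ncard_of_finite (Set.finite_range z)).trans ?_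
      rw [← Set.image_univ]
      refine (Set.ncard_image_le Set.finite_univ).trans ?_
      rw [Set.ncard_univ, Nat.card_fin]
    rw [← spanFinrank_maximalIdeal_eq_finrank_cotangentSpace] at h1
    have h3 : (maximalIdeal W).spanFinrank = d := le_antisymm h2 h1
    have hreg : ((maximalIdeal W).spanFinrank : WithBot ℕ∞) = ringKrullDim W :=
      IsRegularLocalRing.spanFinrank_maximalIdeal
    rw [← hreg, h3]
  have hregW := Groth.Agent.Lib.Helper5.isRegular_ofFn_of_span_eq_maximalIdeal hdimW z hz
  have hregL := Groth.Agent.Lib.Helper5.isRegular_ofFn_of_span_eq_maximalIdeal hdim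
    (fun i => algebraMap W L (z i)) hzL
  refine ⟨?_, hregW.toIsWeaklyRegular, hdimW⟩
  have hfs : ∀ f ∈ List.ofFn z, f ∈ maximalIdeal W := by
    intro f hf
    rw [List.mem_ofFn] at hf
    obtain ⟨j, rfl⟩ := hf
    exact hzm j
  have hL : IsWeaklyRegular L (List.ofFn z) := by
    rw [← isWeaklyRegular_map_algebraMap_iff L L, List.map_ofFn]
    exact hregL.toIsWeaklyRegular
  refine (Groth.Agent.S5777.result W L L _ hfs hregW.toIsWeaklyRegular).mpr ⟨?_, hL⟩
  have hJ : Ideal.ofList (List.ofFn z) = maximalIdeal W := by
    rw [Ideal.ofList, ← hz]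
    congr 1
    ext a
    exact List.mem_ofFn' _ a
  haveI : (Ideal.ofList (List.ofFn z)).IsMaximal := by
    rw [hJ]
    infer_instance
  letI := Ideal.Quotient.field (Ideal.ofList (List.ofFn z))
  infer_instance

end Groth.Agent.Lib.Helper7.Smoothing
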