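import Mathlib
import Groth.Agent.Lib.Helper7Smoothing48
import Groth.Agent.Lib.Helper7Smoothing66
import Groth.Agent.Lib.Helper7Smoothing67

/-!
# Helper7Smoothing69 (helper7): regular parameters and flatness (towards Stacks 07F3 / S6824)

`exists_regular_parameters`: given a regular ring `R₁ → Λ`, a prime `𝔮` of `Λ` with `Λ_𝔮` regular, elements
`x` of `R₁` generating `𝔭' R₁_{𝔭'}` (𝔭' = 𝔮 ∩ R₁) and independent in `𝔪/𝔪²` of `Λ_𝔮`, and generators `gq` of
`𝔮`, one can adjoin polynomial variables mapping to some of the `gq` such that `R = R₁[Y] → Λ` is flat at `𝔮`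
and the images of `x, Y` form a regular system of parameters of both `R_𝔭` and `Λ_𝔮`.
-/
set_option autoImplicit false
set_option linter.style.haveILetI false
universe u
open Function MvPolynomial IsLocalRing RingTheory.Sequence

namespace Groth.Agent.Lib.Helper7.Smoothing

theorem exists_regular_parameters {R₁ Λ : Type u} [CommRing R₁] [IsRegularRing R₁] [CommRing Λ]
    [IsNoetherianRing Λ] [Algebra R₁ Λ] (q : Ideal Λ) [q.IsPrime]
    [IsRegularLocalRing (Localization.AtPrime q)]
    {r : ℕ} (x : Fin r → R₁) (hxq : ∀ i, algebraMap R₁ Λ (x i) ∈ q)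
    (hxgen : ∀ g : R₁, algebraMap R₁ Λ g ∈ q →
      ∃ s : R₁, algebraMap R₁ Λ s ∉ q ∧ s * g ∈ Ideal.span (Set.range x))
    (hxind : ∀ c : Fin r → Localization.AtPrime q,
      ∑ i, c i * algebraMap Λ (Localization.AtPrime q) (algebraMap R₁ Λ (x i)) ∈
        maximalIdeal (Localization.AtPrime q) ^ 2 →
      ∀ i, c i ∈ maximalIdeal (Localization.AtPrime q))
    {N : ℕ} (gq : Fin N → Λ) (hgq : Ideal.span (Set.range gq) = q) :
    ∃ (m' : ℕ) (f : Fin m' → Fin N) (p : Ideal (MvPolynomial (Fin m') R₁)) (_ : p.IsPrime)
      (hp : p = q.comap ((aeval (gq ∘ f) : MvPolynomial (Fin m') R₁ →ₐ[R₁] Λ) :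
            MvPolynomial (Fin m') R₁ →+* Λ)),
      ringKrullDim (Localization.AtPrime q) = ((r + m' : ℕ) : WithBot ℕ∞) ∧
      (∀ i, (aeval (gq ∘ f) : MvPolynomial (Fin m') R₁ →ₐ[R₁] Λ)
        (Fin.append (fun i => C (x i)) X i) ∈ q) ∧
      IsWeaklyRegular (Localization.AtPrime p)
        (List.ofFn fun i : Fin (r + m') => algebraMap (MvPolynomial (Fin m') R₁)
          (Localization.AtPrime p) (Fin.append (fun i => C (x i)) X i)) ∧
      Ideal.span (Set.range fun i : Fin (r + m') => algebraMap (MvPolynomial (Fin m') R₁)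
          (Localization.AtPrime p) (Fin.append (fun i => C (x i)) X i)) =
        maximalIdeal (Localization.AtPrime p) ∧
      (Localization.localRingHom p q
        ((aeval (gq ∘ f) : MvPolynomial (Fin m') R₁ →ₐ[R₁] Λ) :
            MvPolynomial (Fin m') R₁ →+* Λ) hp).Flat ∧
      Ideal.span (Set.range fun i : Fin (r + m') => algebraMap Λ (Localization.AtPrime q)
        ((aeval (gq ∘ f) : MvPolynomial (Fin m') R₁ →ₐ[R₁] Λ)
          (Fin.append (fun i => C (x i)) X i))) = maximalIdeal (Localization.AtPrime q) := by
  classical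
  have hgqq : ∀ l, gq l ∈ q := fun l => hgq ▸ Ideal.subset_span ⟨l, rfl⟩
  have hmaxL : q.map (algebraMap Λ (Localization.AtPrime q)) =
      maximalIdeal (Localization.AtPrime q) := Localization.AtPrime.map_eq_maximalIdeal
  have hxt : ∀ i, algebraMap Λ (Localization.AtPrime q) (algebraMap R₁ Λ (x i)) ∈
      maximalIdeal (Localization.AtPrime q) := fun i => by
    rw [← hmaxL]; exact Ideal.mem_map_of_mem _ (hxq i)
  have hg : Ideal.span (Set.range fun l => algebraMap Λ (Localization.AtPrime q) (gq l)) =
      maximalIdeal (Localization.AtPrime q) := by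
    have h1 : Ideal.span (Set.range fun l => algebraMap Λ (Localization.AtPrime q) (gq l)) =
        (Ideal.span (Set.range gq)).map (algebraMap Λ (Localization.AtPrime q)) := by
      rw [Ideal.map_span, ← Set.range_comp]
      rfl
    rw [h1, hgq, hmaxL]
  obtain ⟨m', f, hfin, hspan⟩ := exists_complement_generators
    (fun i => algebraMap Λ (Localization.AtPrime q) (algebraMap R₁ Λ (x i))) hxt hxind
    (fun l => algebraMap Λ (Localization.AtPrime q) (gq l)) hg
  have hdim : ringKrullDim (Localization.AtPrime q) = ((r + m' : ℕ) : WithBot ℕ∞) := by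
    rw [hfin]
    exact ((IsRegularLocalRing.iff_finrank_cotangentSpace (Localization.AtPrime q)).mp
      inferInstance).symm
  -- notation
  obtain ⟨ev, hev⟩ : ∃ ev : MvPolynomial (Fin m') R₁ →ₐ[R₁] Λ, ev = aeval (gq ∘ f) := ⟨_, rfl⟩
  obtain ⟨z, hz⟩ : ∃ z : Fin (r + m') → MvPolynomial (Fin m') R₁,
      z = Fin.append (fun i => C (x i)) X := ⟨_, rfl⟩
  have hzl : ∀ i : Fin r, z (Fin.castAdd m' i) = C (x i) := fun i => by
    rw [hz, Fin.append_left]
  have hzr : ∀ i : Fin m', z (Fin.natAdd r i) = X i := fun i => by
    rw [hz, Fin.append_right]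
  have hevC : ∀ a : R₁, ev (C a) = algebraMap R₁ Λ a := fun a => by
    rw [hev, aeval_C]
  have hevX : ∀ i : Fin m', ev (X i) = gq (f i) := fun i => by
    rw [hev, aeval_X]; rfl
  have hevz : ∀ i, ev (z i) ∈ q := by
    intro i
    induction i using Fin.addCases with
    | left i => rw [hzl, hevC]; exact hxq i
    | right i => rw [hzr, hevX]; exact hgqq _
  obtain ⟨p, hp⟩ : ∃ p : Ideal (MvPolynomial (Fin m') R₁),
      p = q.comap (ev : MvPolynomial (Fin m') R₁ →+* Λ) := ⟨_, rfl⟩
  haveI hpprime : p.IsPrime := hp ▸ inferInstance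
  have hmemp : ∀ y, y ∈ p ↔ ev y ∈ q := fun y => by rw [hp]; rfl
  -- the images in `L` generate the maximal ideal
  have hzL : Ideal.span (Set.range fun i : Fin (r + m') =>
      algebraMap Λ (Localization.AtPrime q) (ev (z i))) = maximalIdeal (Localization.AtPrime q) := by
    rw [← hspan]
    congr 1
    ext y
    constructor
    · rintro ⟨i, rfl⟩
      induction i using Fin.addCases with
      | left i => exact Or.inl ⟨i, by simp only [hzl, hevC]⟩
      | right i => exact Or.inr ⟨i, by simp only [hzr, hevX, Function.comp_apply]⟩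
    · rintro (⟨i, rfl⟩ | ⟨i, rfl⟩)
      · exact ⟨Fin.castAdd m' i, by simp only [hzl, hevC]⟩
      · exact ⟨Fin.natAdd r i, by simp only [hzr, hevX, Function.comp_apply]⟩
  -- the images in `R_p` generate the maximal ideal
  have hzW : Ideal.span (Set.range fun i : Fin (r + m') =>
      algebraMap (MvPolynomial (Fin m') R₁) (Localization.AtPrime p) (z i)) =
      maximalIdeal (Localization.AtPrime p) := by
    apply le_antisymm
    · rw [Ideal.span_le]
      rintro _ ⟨i, rfl⟩
      rw [SetLike.mem_coe, ← Localization.AtPrime.map_eq_maximalIdeal]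
      exact Ideal.mem_map_of_mem _ ((hmemp _).mpr (hevz i))
    · rw [← Localization.AtPrime.map_eq_maximalIdeal, Ideal.map_le_iff_le_comap]
      intro y hy
      rw [Ideal.mem_comap]
      have hXmem : ∀ w ∈ Ideal.span (Set.range (X : Fin m' → MvPolynomial (Fin m') R₁)),
          algebraMap (MvPolynomial (Fin m') R₁) (Localization.AtPrime p) w ∈
          Ideal.span (Set.range fun i : Fin (r + m') =>
            algebraMap (MvPolynomial (Fin m') R₁) (Localization.AtPrime p) (z i)) := by
        intro w hw
        have h1 : Ideal.span (Set.range (X : Fin m' → MvPolynomial (Fin m') R₁)) ≤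
            (Ideal.span (Set.range fun i : Fin (r + m') =>
              algebraMap (MvPolynomial (Fin m') R₁) (Localization.AtPrime p) (z i))).comap
              (algebraMap (MvPolynomial (Fin m') R₁) (Localization.AtPrime p)) := by
          rw [Ideal.span_le]
          rintro _ ⟨i, rfl⟩
          rw [SetLike.mem_coe, Ideal.mem_comap, ← hzr]
          exact Ideal.subset_span ⟨_, rfl⟩
        exact h1 hw
      have hXp : Ideal.span (Set.range (X : Fin m' → MvPolynomial (Fin m') R₁)) ≤ p := by
        rw [Ideal.span_le]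
        rintro _ ⟨i, rfl⟩
        rw [SetLike.mem_coe, hmemp, hevX]
        exact hgqq _
      have hdec := sub_C_constantCoeff_mem_span_X y
      have hC : C (constantCoeff y) ∈ p := by
        have : C (constantCoeff y) = y - (y - C (constantCoeff y)) := by ring
        rw [this]
        exact p.sub_mem hy (hXp hdec)
      rw [hmemp, hevC] at hC
      obtain ⟨s, hs, hsg⟩ := hxgen _ hC
      have hsu : IsUnit (algebraMap (MvPolynomial (Fin m') R₁) (Localization.AtPrime p) (C s)) := by
        refine IsLocalization.map_units (Localization.AtPrime p) (⟨C s, ?_⟩ : p.primeCompl)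
        change C s ∉ p
        rw [hmemp, hevC]
        exact hs
      have h2 : algebraMap (MvPolynomial (Fin m') R₁) (Localization.AtPrime p)
          (C (s * constantCoeff y)) ∈ Ideal.span (Set.range fun i : Fin (r + m') =>
            algebraMap (MvPolynomial (Fin m') R₁) (Localization.AtPrime p) (z i)) := by
        have h3 : Ideal.span (Set.range x) ≤
            (Ideal.span (Set.range fun i : Fin (r + m') =>
              algebraMap (MvPolynomial (Fin m') R₁) (Localization.AtPrime p) (z i))).comap
              ((algebraMap (MvPolynomial (Fin m') R₁) (Localization.AtPrime p)).comp C) := by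
          rw [Ideal.span_le]
          rintro _ ⟨i, rfl⟩
          rw [SetLike.mem_coe, Ideal.mem_comap, RingHom.comp_apply, ← hzl]
          exact Ideal.subset_span ⟨_, rfl⟩
        exact h3 hsg
      rw [map_mul, map_mul] at h2
      have h4 := (Ideal.unit_mul_mem_iff_mem _ hsu).mp h2
      have : y = C (constantCoeff y) + (y - C (constantCoeff y)) := by ring
      rw [this, map_add]
      exact Ideal.add_mem _ h4 (hXmem _ hdec)
  -- regular local rings
  letI algWL : Algebra (Localization.AtPrime p) (Localization.AtPrime q) :=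
    (Localization.localRingHom p q (ev : MvPolynomial (Fin m') R₁ →+* Λ) hp).toAlgebra
  haveI : IsLocalHom (algebraMap (Localization.AtPrime p) (Localization.AtPrime q)) :=
    Localization.isLocalHom_localRingHom p q _ hp
  have hzL' : Ideal.span (Set.range fun i : Fin (r + m') =>
      algebraMap (Localization.AtPrime p) (Localization.AtPrime q)
        (algebraMap (MvPolynomial (Fin m') R₁) (Localization.AtPrime p) (z i))) =
      maximalIdeal (Localization.AtPrime q) := by
    rw [← hzL]
    congr 2
    funext i
    exact Localization.localRingHom_to_map p q _ hp (z i)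
  obtain ⟨hflat, hwr, -⟩ := flat_of_regular_generators hdim
    (fun i => algebraMap (MvPolynomial (Fin m') R₁) (Localization.AtPrime p) (z i)) hzW hzL'
  subst hev hz
  exact ⟨m', f, p, hpprime, hp, hdim, hevz, hwr, hzW, hflat, hzL⟩

end Groth.Agent.Lib.Helper7.Smoothing
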