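import Mathlib
import Groth.Agent.Lib.Helper19ComplFlat

/-!
# Helper7Smoothing70 (helper7): étaleness of the Artinian subalgebra over `W/𝔪ⁿ` (towards Stacks 07F3)
-/
set_option autoImplicit false
set_option linter.style.haveILetI false
universe u
open Function IsLocalRing

namespace Groth.Agent.Lib.Helper7.Smoothing

/-- separability of a residue field extension from a spanning family of differentials coming from
the base. -/
theorem isSeparable_residueField_of_span {k W A₁ : Type u} [Field k] [CommRing W] [IsLocalRing W]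
    [Algebra k W] [CommRing A₁] [IsLocalRing A₁] [Algebra k A₁] [Algebra W A₁] [IsScalarTower k W A₁]
    [IsLocalHom (algebraMap W A₁)] [Algebra.EssFiniteType k A₁]
    {ι : Type*} (ys : ι → W)
    (hsep : Submodule.span (ResidueField A₁) (Set.range fun i =>
      KaehlerDifferential.D k (ResidueField A₁) (residue A₁ (algebraMap W A₁ (ys i)))) = ⊤) :
    Algebra.IsSeparable (ResidueField W) (ResidueField A₁) := by
  have hsub : Subsingleton (Ω[ResidueField A₁⁄ResidueField W]) := by
    refine subsingleton_of_forall_eq 0 fun y => ?_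
    obtain ⟨x, rfl⟩ := KaehlerDifferential.map_surjective k (ResidueField W) (ResidueField A₁) y
    have hx : x ∈ Submodule.span (ResidueField A₁) (Set.range fun i =>
        KaehlerDifferential.D k (ResidueField A₁) (residue A₁ (algebraMap W A₁ (ys i)))) := by
      rw [hsep]; trivial
    induction hx using Submodule.span_induction with
    | mem w hw =>
      obtain ⟨i, rfl⟩ := hw
      rw [KaehlerDifferential.map_D, Algebra.algebraMap_self_apply, ← ResidueField.algebraMap_residue,
        Derivation.map_algebraMap]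
    | zero => rw [map_zero]
    | add a b _ _ ha hb => rw [map_add, ha, hb, add_zero]
    | smul c a _ ha => rw [map_smul, ha, smul_zero]
  haveI : Algebra.FormallyUnramified (ResidueField W) (ResidueField A₁) := ⟨hsub⟩
  haveI : Algebra.EssFiniteType k (ResidueField A₁) := .comp _ A₁ _
  haveI : Algebra.EssFiniteType (ResidueField W) (ResidueField A₁) := .of_comp k _ _
  exact Algebra.FormallyUnramified.isSeparable _ _

theorem exists_etale_quotient_map {k W L : Type u} [Field k] [CommRing W] [IsLocalRing W]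
    [IsNoetherianRing W] [Algebra k W] [CommRing L] [IsLocalRing L] [Algebra k L] [Algebra W L]
    [IsScalarTower k W L] [IsLocalHom (algebraMap W L)] [Module.Flat W L]
    (hWL : (maximalIdeal W).map (algebraMap W L) = maximalIdeal L) (n : ℕ) (hn : 0 < n)
    (I : Ideal L) (hI : I = maximalIdeal L ^ n) [IsLocalRing (L ⧸ I)]
    (A₁ : Subalgebra k (L ⧸ I)) [IsLocalRing A₁] [IsArtinianRing A₁] [Algebra.EssFiniteType k A₁]
    (hflat : Module.Flat A₁ (L ⧸ I))
    (hmax : (maximalIdeal A₁).map (algebraMap A₁ (L ⧸ I)) = maximalIdeal (L ⧸ I))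
    (hW : ∀ w : W, Ideal.Quotient.mk I (algebraMap W L w) ∈ A₁)
    {ι : Type*} (ys : ι → W)
    (hsep : Submodule.span (ResidueField A₁) (Set.range fun i =>
      KaehlerDifferential.D k (ResidueField A₁) (residue A₁ ⟨_, hW (ys i)⟩)) = ⊤) :
    ∃ wA : (W ⧸ maximalIdeal W ^ n) →+* A₁, wA.Etale ∧
      ∀ w : W, ((wA (Ideal.Quotient.mk _ w) : A₁) : L ⧸ I) =
        Ideal.Quotient.mk I (algebraMap W L w) := by
  classical
  have hI' : I = (maximalIdeal W ^ n).map (algebraMap W L) := by rw [hI, Ideal.map_pow, hWL]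
  subst hI'
  haveI := hflat
  -- the map `W → A₁`
  obtain ⟨w₀, hw₀⟩ : ∃ w₀ : W →+* A₁,
      ∀ w, ((w₀ w : A₁) : L ⧸ (maximalIdeal W ^ n).map (algebraMap W L)) =
      Ideal.Quotient.mk ((maximalIdeal W ^ n).map (algebraMap W L)) (algebraMap W L w) :=
    ⟨RingHom.codRestrict ((Ideal.Quotient.mk ((maximalIdeal W ^ n).map (algebraMap W L))).comp
      (algebraMap W L)) A₁ hW, fun _ => rfl⟩
  have hker : ∀ w ∈ maximalIdeal W ^ n, w₀ w = 0 := by
    intro w hw
    apply Subtype.ext
    rw [hw₀, ZeroMemClass.coe_zero, Ideal.Quotient.eq_zero_iff_mem]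
    exact Ideal.mem_map_of_mem _ hw
  obtain ⟨wA, hwA⟩ : ∃ wA : (W ⧸ maximalIdeal W ^ n) →+* A₁,
      ∀ w, wA (Ideal.Quotient.mk (maximalIdeal W ^ n) w) = w₀ w :=
    ⟨Ideal.Quotient.lift (maximalIdeal W ^ n) w₀ hker, fun _ => rfl⟩
  refine ⟨wA, ?_, fun w => by rw [hwA, hw₀]⟩
  letI algWA : Algebra (W ⧸ maximalIdeal W ^ n) A₁ := wA.toAlgebra
  have halg : ∀ x, algebraMap (W ⧸ maximalIdeal W ^ n) A₁ x = wA x := fun _ => rfl
  haveI tower : IsScalarTower (W ⧸ maximalIdeal W ^ n) A₁
      (L ⧸ (maximalIdeal W ^ n).map (algebraMap W L)) := by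
    refine IsScalarTower.of_algebraMap_eq fun x => ?_
    obtain ⟨w, rfl⟩ := Ideal.Quotient.mk_surjective x
    rw [halg, hwA]
    exact (hw₀ w).symm
  haveI : Module.Flat (W ⧸ maximalIdeal W ^ n) (L ⧸ (maximalIdeal W ^ n).map (algebraMap W L)) :=
    Module.Flat.of_linearEquiv
      (Algebra.TensorProduct.quotIdealMapEquivQuotTensor L (maximalIdeal W ^ n)).toLinearEquiv
  haveI hlocA : IsLocalHom (algebraMap A₁ (L ⧸ (maximalIdeal W ^ n).map (algebraMap W L))) :=
    ((IsLocalRing.local_hom_TFAE (algebraMap A₁ _)).out 0 2).mpr hmax.le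
  haveI : Module.FaithfullyFlat A₁ (L ⧸ (maximalIdeal W ^ n).map (algebraMap W L)) :=
    Module.FaithfullyFlat.of_flat_of_isLocalHom
  haveI : Module.Flat (W ⧸ maximalIdeal W ^ n) A₁ :=
    Groth.Agent.Lib.Helper19.flat_of_flat_of_faithfullyFlat _ A₁
      (L ⧸ (maximalIdeal W ^ n).map (algebraMap W L))
  -- local structure on the quotient
  haveI : Nontrivial (W ⧸ maximalIdeal W ^ n) := by
    rw [Ideal.Quotient.nontrivial_iff]
    intro h
    have h1 : maximalIdeal W ^ n ≤ maximalIdeal W := Ideal.pow_le_self hn.ne'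
    exact (maximalIdeal.isMaximal W).ne_top (top_le_iff.mp (h ▸ h1))
  haveI : IsLocalRing (W ⧸ maximalIdeal W ^ n) :=
    IsLocalRing.of_surjective' _ Ideal.Quotient.mk_surjective
  haveI : IsLocalHom (Ideal.Quotient.mk (maximalIdeal W ^ n)) :=
    IsLocalHom.of_surjective _ Ideal.Quotient.mk_surjective
  haveI : IsLocalHom (Ideal.Quotient.mk ((maximalIdeal W ^ n).map (algebraMap W L))) :=
    IsLocalHom.of_surjective _ Ideal.Quotient.mk_surjective
  haveI hlocW : IsLocalHom (algebraMap (W ⧸ maximalIdeal W ^ n) A₁) := by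
    constructor
    intro x hx
    obtain ⟨w, rfl⟩ := Ideal.Quotient.mk_surjective x
    rw [halg, hwA] at hx
    have h1 : IsUnit (Ideal.Quotient.mk ((maximalIdeal W ^ n).map (algebraMap W L))
        (algebraMap W L w)) := by
      rw [← hw₀]
      exact hx.map (algebraMap A₁ _)
    have h2 : IsUnit (algebraMap W L w) := isUnit_of_map_unit _ _ h1
    have h3 : IsUnit w := isUnit_of_map_unit _ _ h2
    exact h3.map _
  -- the maximal ideal
  have hmaxW : (maximalIdeal (W ⧸ maximalIdeal W ^ n)).map
      (algebraMap (W ⧸ maximalIdeal W ^ n) A₁) = maximalIdeal A₁ := by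
    apply Ideal.map_injective_of_faithfullyFlat (B := L ⧸ (maximalIdeal W ^ n).map (algebraMap W L))
    rw [hmax, Ideal.map_map, ← IsScalarTower.algebraMap_eq]
    apply le_antisymm
    · exact ((IsLocalRing.local_hom_TFAE (algebraMap (W ⧸ maximalIdeal W ^ n)
        (L ⧸ (maximalIdeal W ^ n).map (algebraMap W L)))).out 0 2).mp (by
          rw [IsScalarTower.algebraMap_eq (W ⧸ maximalIdeal W ^ n) A₁]
          exact RingHom.isLocalHom_comp _ _)
    · intro y hy
      obtain ⟨l, rfl⟩ := Ideal.Quotient.mk_surjective y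
      have hl : l ∈ maximalIdeal L := by
        by_contra hl
        have hu : IsUnit l := by
          by_contra hnu
          exact hl hnu
        exact hy (hu.map _)
      rw [← hWL] at hl
      have h1 : (maximalIdeal W).map (algebraMap W L) ≤
          ((maximalIdeal (W ⧸ maximalIdeal W ^ n)).map (algebraMap (W ⧸ maximalIdeal W ^ n)
            (L ⧸ (maximalIdeal W ^ n).map (algebraMap W L)))).comap
            (Ideal.Quotient.mk ((maximalIdeal W ^ n).map (algebraMap W L))) := by
        rw [Ideal.map_le_iff_le_comap]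
        intro w hw
        rw [Ideal.mem_comap, Ideal.mem_comap]
        have h2 : Ideal.Quotient.mk (maximalIdeal W ^ n) w ∈
            maximalIdeal (W ⧸ maximalIdeal W ^ n) := by
          intro hu
          exact hw (isUnit_of_map_unit (Ideal.Quotient.mk (maximalIdeal W ^ n)) w hu)
        exact Ideal.mem_map_of_mem _ h2
      exact h1 hl
  -- separability
  haveI : IsScalarTower k (W ⧸ maximalIdeal W ^ n) A₁ := by
    refine IsScalarTower.of_algebraMap_eq fun c => ?_
    rw [halg, IsScalarTower.algebraMap_apply k W (W ⧸ maximalIdeal W ^ n)]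
    change _ = wA (Ideal.Quotient.mk _ (algebraMap k W c))
    rw [hwA]
    apply Subtype.ext
    rw [hw₀, ← IsScalarTower.algebraMap_apply k W L]
    rfl
  haveI : Algebra.IsSeparable (ResidueField (W ⧸ maximalIdeal W ^ n)) (ResidueField A₁) := by
    refine isSeparable_residueField_of_span (k := k)
      (fun i => Ideal.Quotient.mk (maximalIdeal W ^ n) (ys i)) ?_
    rw [← hsep]
    congr 2
    funext i
    congr 2
    apply Subtype.ext
    change ((wA (Ideal.Quotient.mk (maximalIdeal W ^ n) (ys i)) : A₁) :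
      L ⧸ (maximalIdeal W ^ n).map (algebraMap W L)) = _
    rw [hwA, hw₀]
  haveI : Algebra.EssFiniteType (W ⧸ maximalIdeal W ^ n) A₁ := .of_comp k _ _
  haveI : Algebra.FormallyUnramified (W ⧸ maximalIdeal W ^ n) A₁ :=
    Algebra.FormallyUnramified.of_map_maximalIdeal hmaxW
  -- finiteness
  haveI : Module.Finite (W ⧸ maximalIdeal W ^ n) (ResidueField A₁) :=
    Module.Finite.trans (ResidueField (W ⧸ maximalIdeal W ^ n)) _
  haveI : Module.Finite (W ⧸ maximalIdeal W ^ n) A₁ := by
    refine Module.finite_of_surjective_of_ker_le_nilradical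
      (IsScalarTower.toAlgHom (W ⧸ maximalIdeal W ^ n) A₁ (ResidueField A₁))
      residue_surjective ?_ (IsNoetherian.noetherian _)
    intro x hx
    have hx' : x ∈ maximalIdeal A₁ := by
      have : x ∈ RingHom.ker (residue A₁) := hx
      rwa [ker_residue] at this
    rw [← IsLocalRing.jacobson_eq_maximalIdeal (R := A₁) ⊥ bot_ne_top] at hx'
    obtain ⟨m, hm⟩ := IsArtinianRing.isNilpotent_jacobson_bot (R := A₁)
    rw [mem_nilradical]
    refine ⟨m, ?_⟩
    have := Ideal.pow_mem_pow hx' m
    rwa [hm, Ideal.zero_eq_bot, Ideal.mem_bot] at this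
  haveI : Algebra.FinitePresentation (W ⧸ maximalIdeal W ^ n) A₁ :=
    Algebra.FinitePresentation.of_finiteType.mp inferInstance
  haveI : Algebra.Etale (W ⧸ maximalIdeal W ^ n) A₁ := Algebra.Etale.of_formallyUnramified_of_flat
  exact RingHom.etale_algebraMap.mpr inferInstance

end Groth.Agent.Lib.Helper7.Smoothing
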