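import Mathlib

/-!
# Differential bases, formal smoothness over polynomial rings (helper7)
Tools for Stacks 07FE (S6854).
-/
set_option autoImplicit false
set_option linter.style.haveILetI false
universe u v w
open Function TensorProduct MvPolynomial KaehlerDifferential

namespace Groth.Agent.Lib.Helper7.Smoothing

/-- A linear map sending a basis to a linearly independent family is injective. -/
theorem injective_of_linearIndependent_comp_basis {R M N ι : Type*} [CommRing R] [AddCommGroup M]
    [Module R M] [AddCommGroup N] [Module R N] (b : Module.Basis ι R M) (f : M →ₗ[R] N)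
    (h : LinearIndependent R (f ∘ b)) : Function.Injective f := by
  rw [← LinearMap.ker_eq_bot, LinearMap.ker_eq_bot']
  intro x hx
  have h1 : Finsupp.linearCombination R (f ∘ b) (b.repr x) = 0 := by
    rw [← Finsupp.apply_linearCombination, b.linearCombination_repr, hx]
  have h2 := (linearIndependent_iff.mp h) _ h1
  have h3 : b.repr x = b.repr 0 := by rw [h2, map_zero]
  exact b.repr.injective h3

/-- A linear map whose range contains a spanning family is surjective. -/
theorem surjective_of_span_le_range {R M N : Type*} [CommRing R] [AddCommGroup M]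
    [Module R M] [AddCommGroup N] [Module R N] (f : M →ₗ[R] N) (s : Set N)
    (hs : Submodule.span R s = ⊤) (h : s ⊆ LinearMap.range f) : Function.Surjective f := by
  rw [← LinearMap.range_eq_top, eq_top_iff, ← hs]
  exact Submodule.span_le.mpr h

/-- A field extension has a "differential basis": a family `y` whose differentials form a basis of
`Ω[k⁄F]`. -/
theorem exists_differential_basis (F : Type v) (k : Type u) [CommRing F] [Field k] [Algebra F k] :
    ∃ (ι : Type u) (y : ι → k), LinearIndependent k (fun i => D F k (y i)) ∧
      Submodule.span k (Set.range fun i => D F k (y i)) = ⊤ := by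
  obtain ⟨κ, a, -, hspan, hli⟩ := exists_linearIndependent' k (fun x : k => D F k x)
  refine ⟨κ, a, hli, ?_⟩
  have := KaehlerDifferential.span_range_derivation F k
  rw [← this, ← hspan]
  rfl

section poly

variable {F : Type v} {S : Type u} {ι : Type w} [CommRing F] [CommRing S] [Algebra F S]
  [Algebra (MvPolynomial ι F) S] [IsScalarTower F (MvPolynomial ι F) S]

/-- `mapBaseChange` for a polynomial algebra sends the standard basis to the differentials of
the images of the variables. -/
theorem mapBaseChange_baseChange_mvPolynomialBasis (i : ι) :
    KaehlerDifferential.mapBaseChange F (MvPolynomial ι F) S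
      (((KaehlerDifferential.mvPolynomialBasis F ι).baseChange S) i) =
      D F S (algebraMap (MvPolynomial ι F) S (X i)) := by
  rw [Module.Basis.baseChange_apply, KaehlerDifferential.mvPolynomialBasis_apply,
    KaehlerDifferential.mapBaseChange_tmul, one_smul, KaehlerDifferential.map_D]

theorem mapBaseChange_injective_of_linearIndependent
    (hz : LinearIndependent S (fun i => D F S (algebraMap (MvPolynomial ι F) S (X i)))) :
    Function.Injective (KaehlerDifferential.mapBaseChange F (MvPolynomial ι F) S) := by
  refine injective_of_linearIndependent_comp_basis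
    ((KaehlerDifferential.mvPolynomialBasis F ι).baseChange S) _ ?_
  convert hz using 1
  funext i
  exact mapBaseChange_baseChange_mvPolynomialBasis i

theorem mapBaseChange_surjective_of_span
    (hz : Submodule.span S (Set.range fun i => D F S (algebraMap (MvPolynomial ι F) S (X i))) = ⊤) :
    Function.Surjective (KaehlerDifferential.mapBaseChange F (MvPolynomial ι F) S) := by
  refine surjective_of_span_le_range _ _ hz ?_
  rintro _ ⟨i, rfl⟩
  exact ⟨_, mapBaseChange_baseChange_mvPolynomialBasis i⟩

/-- If the differentials of the images of the variables are linearly independent and `S` is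
formally smooth over `F`, then `H¹(L_{S/F[X]}) = 0`. -/
theorem subsingleton_h1Cotangent_of_linearIndependent [Algebra.FormallySmooth F S]
    (hz : LinearIndependent S (fun i => D F S (algebraMap (MvPolynomial ι F) S (X i)))) :
    Subsingleton (Algebra.H1Cotangent (MvPolynomial ι F) S) := by
  have hinj := mapBaseChange_injective_of_linearIndependent hz
  have h1 := Algebra.H1Cotangent.exact_map_δ F (MvPolynomial ι F) S
  have h2 := Algebra.H1Cotangent.exact_δ_mapBaseChange F (MvPolynomial ι F) S
  have hz0 : ∀ y : Algebra.H1Cotangent (MvPolynomial ι F) S, y = 0 := by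
    intro y
    have hδ : Algebra.H1Cotangent.δ F (MvPolynomial ι F) S y = 0 := by
      apply hinj
      rw [map_zero]
      exact (h2 _).2 ⟨y, rfl⟩
    obtain ⟨w, rfl⟩ := (h1 y).1 hδ
    rw [Subsingleton.elim w 0, map_zero]
  exact ⟨fun a b => by rw [hz0 a, hz0 b]⟩

/-- Formal smoothness over a polynomial ring, for a field. -/
theorem formallySmooth_mvPolynomial_of_linearIndependent {K : Type u} [Field K] [Algebra F K]
    [Algebra (MvPolynomial ι F) K] [IsScalarTower F (MvPolynomial ι F) K]
    [Algebra.FormallySmooth F K]
    (hz : LinearIndependent K (fun i => D F K (algebraMap (MvPolynomial ι F) K (X i)))) :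
    Algebra.FormallySmooth (MvPolynomial ι F) K :=
  ⟨inferInstance, subsingleton_h1Cotangent_of_linearIndependent hz⟩

/-- Formal étaleness over a polynomial ring when the differentials of the variables form a
basis. -/
theorem formallyEtale_mvPolynomial_of_basis [Algebra.FormallySmooth F S]
    (hz : LinearIndependent S (fun i => D F S (algebraMap (MvPolynomial ι F) S (X i))))
    (hs : Submodule.span S (Set.range fun i => D F S (algebraMap (MvPolynomial ι F) S (X i))) = ⊤) :
    Algebra.FormallyEtale (MvPolynomial ι F) S := by
  refine ⟨?_, subsingleton_h1Cotangent_of_linearIndependent hz⟩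
  have hex := KaehlerDifferential.exact_mapBaseChange_map F (MvPolynomial ι F) S
  have hsurj := KaehlerDifferential.map_surjective F (MvPolynomial ι F) S
  have hsurj' := mapBaseChange_surjective_of_span hs
  refine ⟨fun a b => ?_⟩
  have hz0 : ∀ y : Ω[S⁄MvPolynomial ι F], y = 0 := by
    intro y
    obtain ⟨w, rfl⟩ := hsurj y
    obtain ⟨v, rfl⟩ := hsurj' w
    exact (hex _).2 ⟨v, rfl⟩
  rw [hz0 a, hz0 b]

end poly


/-- A finite-dimensional subspace is contained in the span of finitely many basis vectors. -/
theorem exists_finset_le_span_image {K V ι : Type*} [Field K] [AddCommGroup V] [Module K V]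
    (b : Module.Basis ι K V) (W : Submodule K V) [hW : Module.Finite K W] :
    ∃ s : Finset ι, W ≤ Submodule.span K (b '' (s : Set ι)) := by
  classical
  obtain ⟨t, ht⟩ := (Submodule.fg_top W).mp (Module.finite_def.mp hW)
  refine ⟨t.biUnion fun w => (b.repr w).support, ?_⟩
  rw [← ht, Submodule.span_le]
  intro w hw
  rw [SetLike.mem_coe, b.mem_span_image]
  intro i hi
  simp only [Finset.coe_biUnion, Set.mem_iUnion]
  exact ⟨w, hw, hi⟩

/-- If `H¹(L_{K/k})` is finite-dimensional then all but finitely many members of a differential
basis of `k` stay linearly independent in `Ω[K⁄F]`. -/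
theorem exists_finset_linearIndependent_compl {F : Type v} {k K : Type u} [CommRing F] [Field k]
    [Field K] [Algebra F k] [Algebra F K] [Algebra k K] [IsScalarTower F k K]
    [hH : Module.Finite K (Algebra.H1Cotangent k K)] {ι : Type w} (y : ι → k)
    (hli : LinearIndependent k (fun i => D F k (y i)))
    (hspan : Submodule.span k (Set.range fun i => D F k (y i)) = ⊤) :
    ∃ s : Finset ι, LinearIndependent K
      (fun i : {i // i ∉ s} => D F K (algebraMap k K (y i))) := by
  classical
  let b : Module.Basis ι K (K ⊗[k] Ω[k⁄F]) := (Module.Basis.mk hli hspan.ge).baseChange K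
  have hb : ∀ i, KaehlerDifferential.mapBaseChange F k K (b i) = D F K (algebraMap k K (y i)) := by
    intro i
    simp only [b, Module.Basis.baseChange_apply, Module.Basis.mk_apply,
      KaehlerDifferential.mapBaseChange_tmul, one_smul, KaehlerDifferential.map_D]
  have h2 := Algebra.H1Cotangent.exact_δ_mapBaseChange F k K
  have hker : LinearMap.ker (KaehlerDifferential.mapBaseChange F k K) =
      LinearMap.range (Algebra.H1Cotangent.δ F k K) := LinearMap.exact_iff.mp h2
  haveI : Module.Finite K (LinearMap.ker (KaehlerDifferential.mapBaseChange F k K)) := by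
    rw [hker]
    infer_instance
  obtain ⟨s, hs⟩ := exists_finset_le_span_image b
    (LinearMap.ker (KaehlerDifferential.mapBaseChange F k K))
  refine ⟨s, ?_⟩
  have hli' : LinearIndependent K (fun i : {i // i ∉ s} => b i) :=
    b.linearIndependent.comp _ Subtype.val_injective
  have hdisj : Disjoint (Submodule.span K (Set.range fun i : {i // i ∉ s} => b i))
      (LinearMap.ker (KaehlerDifferential.mapBaseChange F k K)) := by
    have hr : (Set.range fun i : {i // i ∉ s} => b i) = b '' ((s : Set ι)ᶜ) := by
      ext v
      constructor
      · rintro ⟨i, rfl⟩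
        exact ⟨i, i.2, rfl⟩
      · rintro ⟨i, hi, rfl⟩
        exact ⟨⟨i, hi⟩, rfl⟩
    rw [hr]
    exact (b.linearIndependent.disjoint_span_image disjoint_compl_left).mono_right hs
  have := hli'.map hdisj
  have heq : (fun i : {i // i ∉ s} => D F K (algebraMap k K (y i))) =
      (KaehlerDifferential.mapBaseChange F k K) ∘ fun i : {i // i ∉ s} => b i := by
    funext i
    exact (hb i).symm
  rw [heq]
  exact this

end Groth.Agent.Lib.Helper7.Smoothing
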