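import Mathlib
import Groth.Agent.Lib.Helper7Smoothing59

/-!
# Sections of Artinian local rings, subalgebras spanned over a subfield (helper7)
Tools for Stacks 07FE (S6854): ring sections extending a partial `k`-structure, containment via
formal étaleness, essential finiteness of Artinian local algebras, flatness from bases.
-/
set_option autoImplicit false
set_option linter.style.haveILetI false
universe u v w
open Function TensorProduct MvPolynomial KaehlerDifferential

namespace Groth.Agent.Lib.Helper7.Smoothing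

/-- A ring section of `π : Λ → K` agreeing with the `k`-structure on a family whose differentials
are linearly independent in `Ω[K⁄F]`. -/
theorem exists_section_extending {F : Type v} {k K Λ : Type u} {ι : Type w} [CommRing F] [Field k]
    [Field K] [CommRing Λ] [Algebra F k] [Algebra F K] [Algebra k K] [IsScalarTower F k K]
    [Algebra k Λ] [Algebra F Λ] [IsScalarTower F k Λ]
    (π : Λ →+* K) (hπ : Function.Surjective π) (hnil : IsNilpotent (RingHom.ker π))
    (hπk : ∀ c : k, π (algebraMap k Λ c) = algebraMap k K c)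
    [Algebra.FormallySmooth F K]
    (z : ι → k) (hz : LinearIndependent K (fun i => D F K (algebraMap k K (z i)))) :
    ∃ σ : K →+* Λ, (∀ x, π (σ x) = x) ∧
      (∀ i, σ (algebraMap k K (z i)) = algebraMap k Λ (z i)) := by
  letI algK : Algebra (MvPolynomial ι F) K :=
    (aeval (fun i => algebraMap k K (z i)) : MvPolynomial ι F →ₐ[F] K).toRingHom.toAlgebra
  letI algΛ : Algebra (MvPolynomial ι F) Λ :=
    (aeval (fun i => algebraMap k Λ (z i)) : MvPolynomial ι F →ₐ[F] Λ).toRingHom.toAlgebra
  haveI : IsScalarTower F (MvPolynomial ι F) K := IsScalarTower.of_algebraMap_eq (fun c =>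
    ((aeval (fun i => algebraMap k K (z i)) : MvPolynomial ι F →ₐ[F] K).commutes c).symm)
  haveI : IsScalarTower F (MvPolynomial ι F) Λ := IsScalarTower.of_algebraMap_eq (fun c =>
    ((aeval (fun i => algebraMap k Λ (z i)) : MvPolynomial ι F →ₐ[F] Λ).commutes c).symm)
  have hXK : ∀ i, algebraMap (MvPolynomial ι F) K (X i) = algebraMap k K (z i) :=
    fun i => aeval_X _ i
  have hXΛ : ∀ i, algebraMap (MvPolynomial ι F) Λ (X i) = algebraMap k Λ (z i) :=
    fun i => aeval_X _ i
  haveI : Algebra.FormallySmooth (MvPolynomial ι F) K := by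
    refine formallySmooth_mvPolynomial_of_linearIndependent ?_
    simp only [hXK]
    exact hz
  have hπF : ∀ c : F, π (algebraMap F Λ c) = algebraMap F K c := by
    intro c
    rw [IsScalarTower.algebraMap_apply F k Λ, hπk, ← IsScalarTower.algebraMap_apply]
  have hcomm : ∀ q : MvPolynomial ι F, π (algebraMap (MvPolynomial ι F) Λ q) =
      algebraMap (MvPolynomial ι F) K q := by
    intro q
    induction q using MvPolynomial.induction_on with
    | C c =>
      rw [← MvPolynomial.algebraMap_eq, ← IsScalarTower.algebraMap_apply F (MvPolynomial ι F) Λ,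
        ← IsScalarTower.algebraMap_apply F (MvPolynomial ι F) K]
      exact hπF c
    | add p q hp hq => rw [map_add, map_add, map_add, hp, hq]
    | mul_X p i hp => rw [map_mul, map_mul, map_mul, hp, hXΛ, hXK, hπk]
  let π' : Λ →ₐ[MvPolynomial ι F] K := { π with commutes' := hcomm }
  let σ := Algebra.FormallySmooth.liftOfSurjective (AlgHom.id (MvPolynomial ι F) K) π' hπ hnil
  have hσ : ∀ x, π (σ x) = x := fun x =>
    Algebra.FormallySmooth.liftOfSurjective_apply (AlgHom.id (MvPolynomial ι F) K) π' hπ hnil x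
  refine ⟨σ.toRingHom, hσ, fun i => ?_⟩
  change σ (algebraMap k K (z i)) = _
  rw [← hXK, σ.commutes, hXΛ]

/-- If `k` is formally étale over `P`, a `P`-algebra map `i : k → Λ` lands in any `P`-subalgebra
`A` whose image under a nilpotent quotient `π` contains that of `k`. -/
theorem range_le_of_formallyEtale {P k Λ K : Type*} [CommRing P] [CommRing k] [Algebra P k]
    [Algebra.FormallyEtale P k] [CommRing Λ] [Algebra P Λ] (i : k →ₐ[P] Λ) (A : Subalgebra P Λ)
    [CommRing K] [Algebra P K] (π : Λ →ₐ[P] K) (hnil : IsNilpotent (RingHom.ker (π : Λ →+* K)))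
    (hA : ∀ c : k, ∃ a ∈ A, π a = π (i c)) (c : k) : i c ∈ A := by
  -- the image of `A` in `K`
  let g₀ : A →ₐ[P] K := π.comp A.val
  let K' : Subalgebra P K := g₀.range
  let g : A →ₐ[P] K' := g₀.rangeRestrict
  have hg : Function.Surjective g := g₀.rangeRestrict_surjective
  have hgnil : IsNilpotent (RingHom.ker (g : A →+* K')) := by
    obtain ⟨n, hn⟩ := hnil
    refine ⟨n, ?_⟩
    rw [Ideal.zero_eq_bot, eq_bot_iff]
    intro x hx
    have h1 : (RingHom.ker (g : A →+* K')).map (A.val : A →+* Λ) ≤ RingHom.ker (π : Λ →+* K) := by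
      rw [Ideal.map_le_iff_le_comap]
      intro a ha
      rw [Ideal.mem_comap, RingHom.mem_ker]
      have : g a = 0 := ha
      have h2 := congrArg Subtype.val this
      exact h2
    have h2 : (A.val : A →+* Λ) x ∈ (RingHom.ker (π : Λ →+* K)) ^ n := by
      have := Ideal.mem_map_of_mem (A.val : A →+* Λ) hx
      rw [Ideal.map_pow] at this
      exact Ideal.pow_right_mono h1 n this
    rw [hn, Ideal.zero_eq_bot, Ideal.mem_bot] at h2
    rw [Ideal.mem_bot]
    exact Subtype.ext h2
  let f : k →ₐ[P] K' :=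
    (π.comp i).codRestrict K' (fun c => by
      obtain ⟨a, ha, hac⟩ := hA c
      exact ⟨⟨a, ha⟩, hac⟩)
  haveI : Algebra.FormallySmooth P k := inferInstance
  let j : k →ₐ[P] A := Algebra.FormallySmooth.liftOfSurjective f g hg hgnil
  have hj : ∀ c, g (j c) = f c := Algebra.FormallySmooth.liftOfSurjective_apply f g hg hgnil
  have heq : A.val.comp j = i := by
    refine Algebra.FormallyUnramified.ext' (π : Λ →+* K) hnil _ _ (fun c => ?_)
    have := congrArg Subtype.val (hj c)
    exact this
  rw [← heq]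
  exact (j c).2

/-- A ring with a surjection onto a field with nilpotent kernel is local, with maximal ideal the
kernel. -/
theorem isLocalRing_of_surjective_of_nilpotent {A F : Type*} [CommRing A] [Field F] (ρ : A →+* F)
    (hρ : Function.Surjective ρ) (hnil : ∀ a, ρ a = 0 → IsNilpotent a) :
    IsLocalRing A := by
  haveI : Nontrivial A := ρ.domain_nontrivial
  refine IsLocalRing.of_isUnit_or_isUnit_one_sub_self fun a => ?_
  by_cases ha : ρ a = 0
  · exact Or.inr (hnil a ha).isUnit_one_sub
  · left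
    obtain ⟨a', ha'⟩ := hρ (ρ a)⁻¹
    have h1 : ρ (1 - a * a') = 0 := by
      rw [map_sub, map_one, map_mul, ha', mul_inv_cancel₀ ha, sub_self]
    have h2 : IsUnit (a * a') := by
      have := (hnil _ h1).isUnit_one_sub
      rwa [sub_sub_cancel] at this
    exact isUnit_of_mul_isUnit_left h2

theorem maximalIdeal_eq_ker_of_surjective {A F : Type*} [CommRing A] [IsLocalRing A] [Field F]
    (ρ : A →+* F) (hρ : Function.Surjective ρ) :
    IsLocalRing.maximalIdeal A = RingHom.ker ρ := by
  haveI : (RingHom.ker ρ).IsMaximal := RingHom.ker_isMaximal_of_surjective ρ hρ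
  exact (IsLocalRing.eq_maximalIdeal inferInstance).symm


/-- A `k`-algebra with a surjection onto a finitely generated field extension of `k` whose kernel
is a finitely generated nilpotent ideal is essentially of finite type over `k`. -/
theorem essFiniteType_of_nilpotent {k A F' : Type*} [Field k] [CommRing A] [Algebra k A]
    [Field F'] [Algebra k F'] (ρ : A →ₐ[k] F') (hρ : Function.Surjective ρ) (g : Finset A)
    (hg : RingHom.ker (ρ : A →+* F') = Ideal.span (g : Set A))
    (hnil : IsNilpotent (RingHom.ker (ρ : A →+* F')))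
    [hF : Algebra.EssFiniteType k F'] :
    Algebra.EssFiniteType k A := by
  classical
  obtain ⟨s, hs⟩ := (Algebra.essFiniteType_iff (R := k) (S := F')).mp hF
  let t : Finset A := s.image (Function.surjInv hρ)
  let σ₀ : Finset A := t ∪ g
  rw [Algebra.essFiniteType_iff]
  refine ⟨σ₀, ?_⟩
  set B : Subalgebra k A := Algebra.adjoin k (σ₀ : Set A) with hB
  -- units
  have hunit : ∀ u : A, ρ u ≠ 0 → IsUnit u := by
    intro u hu
    obtain ⟨u', hu'⟩ := hρ (ρ u)⁻¹
    have h1 : (1 - u * u') ∈ RingHom.ker (ρ : A →+* F') := by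
      rw [RingHom.mem_ker]
      change ρ (1 - u * u') = 0
      rw [map_sub, map_one, map_mul, hu', mul_inv_cancel₀ hu, sub_self]
    obtain ⟨n, hn⟩ := hnil
    have h2 : IsNilpotent (1 - u * u') := by
      refine ⟨n, ?_⟩
      have := Ideal.pow_mem_pow h1 n
      rw [hn, Ideal.zero_eq_bot, Ideal.mem_bot] at this
      exact this
    have h3 : IsUnit (u * u') := by
      have := h2.isUnit_one_sub
      rwa [sub_sub_cancel] at this
    exact isUnit_of_mul_isUnit_left h3
  -- the set of fractions
  let Q : Set A := {a | ∃ u ∈ B, IsUnit u ∧ a * u ∈ B}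
  have hBQ : ∀ a ∈ B, a ∈ Q := fun a ha => ⟨1, B.one_mem, isUnit_one, by rwa [mul_one]⟩
  have hQadd : ∀ a a', a ∈ Q → a' ∈ Q → a + a' ∈ Q := by
    rintro a a' ⟨u, hu, hu1, hau⟩ ⟨u', hu', hu1', hau'⟩
    refine ⟨u * u', B.mul_mem hu hu', hu1.mul hu1', ?_⟩
    have : (a + a') * (u * u') = (a * u) * u' + (a' * u') * u := by ring
    rw [this]
    exact B.add_mem (B.mul_mem hau hu') (B.mul_mem hau' hu)
  have hQmul : ∀ a a', a ∈ Q → a' ∈ Q → a * a' ∈ Q := by
    rintro a a' ⟨u, hu, hu1, hau⟩ ⟨u', hu', hu1', hau'⟩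
    refine ⟨u * u', B.mul_mem hu hu', hu1.mul hu1', ?_⟩
    have : (a * a') * (u * u') = (a * u) * (a' * u') := by ring
    rw [this]
    exact B.mul_mem hau hau'
  have hQsum : ∀ (T : Finset A) (f : A → A), (∀ x ∈ T, f x ∈ Q) → (∑ x ∈ T, f x) ∈ Q := by
    intro T f hf
    induction T using Finset.induction_on with
    | empty => simpa using hBQ 0 B.zero_mem
    | insert x T hx ih =>
      rw [Finset.sum_insert hx]
      exact hQadd _ _ (hf x (Finset.mem_insert_self x T))
        (ih fun y hy => hf y (Finset.mem_insert_of_mem hy))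
  -- the image of `B` contains the subalgebra generated by `s`
  have himg : Algebra.adjoin k (s : Set F') ≤ B.map ρ := by
    rw [hB, AlgHom.map_adjoin]
    refine Algebra.adjoin_mono ?_
    intro x hx
    refine ⟨Function.surjInv hρ x, ?_, Function.surjInv_eq hρ x⟩
    rw [Finset.mem_coe]
    exact Finset.mem_union_left _ (Finset.mem_image_of_mem _ hx)
  -- step 1
  have hstep1 : ∀ a : A, ∃ q ∈ Q, a - q ∈ RingHom.ker (ρ : A →+* F') := by
    intro a
    obtain ⟨d, hd, hdu, hr⟩ := hs (ρ a)
    obtain ⟨v, hv, hvr⟩ := himg hr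
    obtain ⟨u, hu, hud⟩ := himg hd
    have hv' : ρ v = ρ a * d := hvr
    have hu' : ρ u = d := hud
    have hu0 : ρ u ≠ 0 := by rw [hu']; exact hdu.ne_zero
    have huu := hunit u hu0
    refine ⟨v * ↑(huu.unit⁻¹), ⟨u, hu, huu, ?_⟩, ?_⟩
    · rw [mul_assoc, IsUnit.val_inv_mul, mul_one]
      exact hv
    · rw [RingHom.mem_ker]
      change ρ (a - v * ↑(huu.unit⁻¹)) = 0
      have h1 : ρ u * ρ (↑(huu.unit⁻¹) : A) = 1 := by
        rw [← map_mul, IsUnit.mul_val_inv, map_one]
      rw [map_sub, map_mul, hv', sub_eq_zero, mul_assoc, ← hu', h1, mul_one]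
  -- step n
  have hstep : ∀ n : ℕ, ∀ a : A, ∃ q ∈ Q, a - q ∈ RingHom.ker (ρ : A →+* F') ^ n := by
    intro n
    induction n with
    | zero =>
      intro a
      exact ⟨0, hBQ 0 B.zero_mem, by rw [pow_zero, Ideal.one_eq_top]; trivial⟩
    | succ n ih =>
      intro a
      obtain ⟨q₀, hq₀, h0⟩ := hstep1 a
      rw [hg] at h0
      obtain ⟨c, -, hc⟩ := Submodule.mem_span_finset.mp h0
      choose q' hq' hq'' using fun x => ih (c x)
      refine ⟨q₀ + ∑ x ∈ g, q' x * x, hQadd _ _ hq₀ (hQsum g _ fun x hx =>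
        hQmul _ _ (hq' (x)) (hBQ x (Algebra.subset_adjoin
          (by rw [Finset.mem_coe]; exact Finset.mem_union_right _ hx)))), ?_⟩
      have h1 : a - (q₀ + ∑ x ∈ g, q' x * x) = ∑ x ∈ g, (c x - q' x) * x := by
        rw [← sub_sub, ← hc, ← Finset.sum_sub_distrib]
        refine Finset.sum_congr rfl fun x _ => ?_
        rw [smul_eq_mul, sub_mul]
      rw [h1, pow_succ]
      refine Ideal.sum_mem _ fun x hx => Ideal.mul_mem_mul (hq'' x) ?_
      rw [hg]
      exact Ideal.subset_span hx
  obtain ⟨n, hn⟩ := hnil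
  intro a
  obtain ⟨q, hq, haq⟩ := hstep n a
  rw [hn, Ideal.zero_eq_bot, Ideal.mem_bot, sub_eq_zero] at haq
  rw [haq]
  exact hq


/-- If `A` has an `F`-basis mapping to a `K`-basis of `Λ`, then `Λ ≅ A ⊗[F] K` is flat over
`A`. -/
theorem flat_of_bases {F K A Λ ι : Type*} [Field F] [Field K] [Algebra F K] [CommRing A]
    [Algebra F A] [CommRing Λ] [Algebra A Λ] [Algebra K Λ] [Algebra F Λ] [IsScalarTower F A Λ]
    [IsScalarTower F K Λ] (bA : Module.Basis ι F A) (b : Module.Basis ι K Λ)
    (h : ∀ a, algebraMap A Λ (bA a) = b a) : Module.Flat A Λ := by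
  let ψ : A ⊗[F] K →ₐ[A] Λ :=
    Algebra.TensorProduct.lift (Algebra.ofId A Λ) (IsScalarTower.toAlgHom F K Λ)
      (fun _ _ => Commute.all _ _)
  have hψ : ∀ a c, ψ (a ⊗ₜ[F] c) = algebraMap A Λ a * algebraMap K Λ c := fun a c => by
    simp [ψ, Algebra.ofId_apply]
  let κ := Module.Free.chooseBasis F K
  let B₁ := bA.tensorProduct κ
  let B₂ := κ.smulTower b
  have hcomp : (ψ.toLinearMap.restrictScalars F) =
      (B₁.equiv B₂ (Equiv.prodComm _ _)).toLinearMap := by
    refine B₁.ext fun ⟨a, s⟩ => ?_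
    rw [LinearEquiv.coe_coe, Module.Basis.equiv_apply]
    simp only [B₁, B₂, Module.Basis.tensorProduct_apply, Equiv.prodComm_apply, Prod.swap_prod_mk,
      Module.Basis.smulTower_apply, LinearMap.coe_restrictScalars, AlgHom.toLinearMap_apply]
    rw [hψ, h, Algebra.smul_def, mul_comm]
  have hbij : Function.Bijective ψ := by
    have : (ψ : A ⊗[F] K → Λ) = (B₁.equiv B₂ (Equiv.prodComm _ _)) := by
      funext x
      exact LinearMap.congr_fun hcomp x
    rw [this]
    exact (B₁.equiv B₂ (Equiv.prodComm _ _)).bijective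
  let e : (A ⊗[F] K) ≃ₗ[A] Λ := LinearEquiv.ofBijective ψ.toLinearMap hbij
  exact Module.Flat.of_linearEquiv e.symm

end Groth.Agent.Lib.Helper7.Smoothing
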