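import Mathlib
import Groth.Agent.Lib.Helper7Smoothing60
import Groth.Agent.Lib.Helper19FSField

/-!
# Stacks 07FE: structure of the subalgebra `A_F` (helper7)
-/
set_option autoImplicit false
set_option linter.style.haveILetI false
set_option linter.unusedSectionVars false
universe u v w
open Function TensorProduct MvPolynomial KaehlerDifferential

namespace Groth.Agent.Lib.Helper7.Smoothing

theorem subalgebra_props {k K Λ : Type u} [Field k] [Field K] [Algebra k K] [CommRing Λ]
    [IsLocalRing Λ] [Algebra k Λ] [Algebra K Λ] (π : Λ →ₐ[K] K)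
    (hπk : ∀ c : k, π (algebraMap k Λ c) = algebraMap k K c)
    (hnil : IsNilpotent (RingHom.ker (π : Λ →+* K)))
    {ι : Type} [Fintype ι] (b : Module.Basis ι K Λ) (F : IntermediateField k K)
    [Algebra.EssFiniteType k F]
    (hbF : ∀ a, π (b a) ∈ F)
    (A : Subalgebra k Λ) (hA : ∀ x, x ∈ A ↔ x ∈ Submodule.span F (Set.range b))
    (gs : Finset Λ) (hgs : IsLocalRing.maximalIdeal Λ = Ideal.span (gs : Set Λ))
    (hgsA : ∀ x ∈ gs, x ∈ A) :
    ∃ (_ : IsLocalRing A), IsArtinianRing A ∧ Module.Flat A Λ ∧ Algebra.EssFiniteType k A ∧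
      (IsLocalRing.maximalIdeal A).map (algebraMap A Λ) = IsLocalRing.maximalIdeal Λ := by
  classical
  have hπsurj : Function.Surjective π := fun c => ⟨algebraMap K Λ c, π.commutes c⟩
  have hker : IsLocalRing.maximalIdeal Λ = RingHom.ker (π : Λ →+* K) :=
    maximalIdeal_eq_ker_of_surjective (π : Λ →+* K) hπsurj
  -- the `F`-algebra structure on `A`
  have hmemF : ∀ f : F, algebraMap F Λ f ∈ A := by
    intro f
    rw [hA, Algebra.algebraMap_eq_smul_one]
    exact Submodule.smul_mem _ _ ((hA 1).mp A.one_mem)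
  letI algFA : Algebra F A := (RingHom.codRestrict (algebraMap F Λ) A hmemF).toAlgebra
  haveI : IsScalarTower F A Λ := IsScalarTower.of_algebraMap_eq (fun _ => rfl)
  -- the basis
  have hbA : ∀ a, b a ∈ A := fun a => (hA _).mpr (Submodule.subset_span ⟨a, rfl⟩)
  let v : ι → A := fun a => ⟨b a, hbA a⟩
  let f : A →ₗ[F] Λ := (IsScalarTower.toAlgHom F A Λ).toLinearMap
  have hf : ∀ x : A, f x = (x : Λ) := fun _ => rfl
  have hbF' : LinearIndependent F b := b.linearIndependent.restrict_scalars' F
  have hvli : LinearIndependent F v := by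
    refine LinearIndependent.of_comp f ?_
    exact hbF'
  have hvspan : ⊤ ≤ Submodule.span F (Set.range v) := by
    intro x _
    have hx : (x : Λ) ∈ Submodule.span F (Set.range b) := (hA _).mp x.2
    have hr : Set.range b = f '' Set.range v := by
      ext y
      constructor
      · rintro ⟨a, rfl⟩
        exact ⟨v a, ⟨a, rfl⟩, rfl⟩
      · rintro ⟨_, ⟨a, rfl⟩, rfl⟩
        exact ⟨a, rfl⟩
    rw [hr, ← Submodule.map_span] at hx
    obtain ⟨y, hy, hyx⟩ := hx
    have : y = x := Subtype.ext hyx
    rw [← this]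
    exact hy
  let bA : Module.Basis ι F A := Module.Basis.mk hvli hvspan
  have hflat : Module.Flat A Λ := by
    refine flat_of_bases (F := F) (K := K) bA b (fun a => ?_)
    rw [Module.Basis.mk_apply]
    rfl
  -- the residue map
  have hπF : ∀ x ∈ Submodule.span F (Set.range b), π x ∈ F := by
    intro x hx
    induction hx using Submodule.span_induction with
    | mem x hx =>
      obtain ⟨a, rfl⟩ := hx
      exact hbF a
    | zero => rw [map_zero]; exact F.zero_mem
    | add x y _ _ hx hy => rw [map_add]; exact F.add_mem hx hy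
    | smul c x _ hx =>
      have : π (c • x) = (c : K) * π x := by
        rw [show c • x = (c : K) • x from rfl, map_smul, smul_eq_mul]
      rw [this]
      exact F.mul_mem c.2 hx
  let ρ : A →ₐ[k] F :=
    { toFun := fun x => ⟨π x, hπF _ ((hA _).mp x.2)⟩
      map_one' := Subtype.ext (map_one π)
      map_mul' := fun x y => Subtype.ext (map_mul π _ _)
      map_zero' := Subtype.ext (map_zero π)
      map_add' := fun x y => Subtype.ext (map_add π _ _)
      commutes' := fun c => Subtype.ext (hπk c) }
  have hρ : ∀ x : A, ((ρ x : F) : K) = π x := fun _ => rfl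
  have hρsurj : Function.Surjective ρ := by
    intro c
    refine ⟨algebraMap F A c, Subtype.ext ?_⟩
    rw [hρ]
    change π (algebraMap F Λ c) = c
    rw [IsScalarTower.algebraMap_apply F K Λ, π.commutes]
    rfl
  have hρker : ∀ x : A, ρ x = 0 ↔ (x : Λ) ∈ RingHom.ker (π : Λ →+* K) := by
    intro x
    rw [RingHom.mem_ker]
    constructor
    · intro h
      have := congrArg (Subtype.val) h
      exact this
    · intro h
      exact Subtype.ext h
  have hρnil : IsNilpotent (RingHom.ker (ρ : A →+* F)) := by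
    obtain ⟨n, hn⟩ := hnil
    refine ⟨n, ?_⟩
    rw [Ideal.zero_eq_bot, eq_bot_iff]
    intro x hx
    have h1 : (RingHom.ker (ρ : A →+* F)).map (A.val : A →+* Λ) ≤ RingHom.ker (π : Λ →+* K) := by
      rw [Ideal.map_le_iff_le_comap]
      intro a ha
      rw [Ideal.mem_comap]
      exact (hρker a).mp ha
    have h2 : (A.val : A →+* Λ) x ∈ (RingHom.ker (π : Λ →+* K)) ^ n := by
      have := Ideal.mem_map_of_mem (A.val : A →+* Λ) hx
      rw [Ideal.map_pow] at this
      exact Ideal.pow_right_mono h1 n this
    rw [hn, Ideal.zero_eq_bot, Ideal.mem_bot] at h2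
    rw [Ideal.mem_bot]
    exact Subtype.ext h2
  have hloc : IsLocalRing A := by
    refine isLocalRing_of_surjective_of_nilpotent (ρ : A →+* F) hρsurj (fun a ha => ?_)
    obtain ⟨n, hn⟩ := hρnil
    refine ⟨n, ?_⟩
    have : a ^ n ∈ RingHom.ker (ρ : A →+* F) ^ n := Ideal.pow_mem_pow ha n
    rw [hn, Ideal.zero_eq_bot, Ideal.mem_bot] at this
    exact this
  haveI := hloc
  have hmax : IsLocalRing.maximalIdeal A = RingHom.ker (ρ : A →+* F) :=
    maximalIdeal_eq_ker_of_surjective (ρ : A →+* F) hρsurj
  haveI : Module.Finite F A := Module.Finite.of_basis bA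
  have hart : IsArtinianRing A := IsArtinianRing.of_finite F A
  haveI : IsNoetherianRing A := inferInstance
  refine ⟨hloc, hart, hflat, ?_, ?_⟩
  · obtain ⟨g, hg⟩ := (IsNoetherian.noetherian (RingHom.ker (ρ : A →+* F)) :
      (RingHom.ker (ρ : A →+* F)).FG)
    exact essFiniteType_of_nilpotent ρ hρsurj g hg.symm hρnil
  · refine le_antisymm ?_ ?_
    · rw [Ideal.map_le_iff_le_comap, hmax, hker]
      intro a ha
      rw [Ideal.mem_comap]
      exact (hρker a).mp ha
    · rw [hgs, Ideal.span_le]
      intro x hx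
      have hxA := hgsA x hx
      have hxm : x ∈ IsLocalRing.maximalIdeal Λ := by
        rw [hgs]; exact Ideal.subset_span hx
      rw [hker] at hxm
      have : (⟨x, hxA⟩ : A) ∈ IsLocalRing.maximalIdeal A := by
        rw [hmax]
        exact (hρker ⟨x, hxA⟩).mpr hxm
      exact Ideal.mem_map_of_mem (algebraMap A Λ) this


section span

variable {k K Λ : Type u} [Field k] [Field K] [Algebra k K] [CommRing Λ] [Algebra K Λ]
  {ι : Type} [Fintype ι] (b : Module.Basis ι K Λ)

theorem mem_span_of_repr_mem (F : IntermediateField k K) (x : Λ) (hx : ∀ a, b.repr x a ∈ F) :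
    x ∈ Submodule.span F (Set.range b) := by
  rw [← b.sum_repr x]
  refine Submodule.sum_mem _ fun a _ => ?_
  have : b.repr x a • b a = (⟨b.repr x a, hx a⟩ : F) • b a := rfl
  rw [this]
  exact Submodule.smul_mem _ _ (Submodule.subset_span ⟨a, rfl⟩)

theorem mul_mem_span (F : IntermediateField k K)
    (hmul : ∀ a a', b a * b a' ∈ Submodule.span F (Set.range b)) (x y : Λ)
    (hx : x ∈ Submodule.span F (Set.range b)) (hy : y ∈ Submodule.span F (Set.range b)) :
    x * y ∈ Submodule.span F (Set.range b) := by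
  induction hx using Submodule.span_induction with
  | mem x hx =>
    obtain ⟨a, rfl⟩ := hx
    induction hy using Submodule.span_induction with
    | mem y hy =>
      obtain ⟨a', rfl⟩ := hy
      exact hmul a a'
    | zero => rw [mul_zero]; exact Submodule.zero_mem _
    | add y z _ _ hy hz => rw [mul_add]; exact Submodule.add_mem _ hy hz
    | smul c y _ hy => rw [mul_smul_comm]; exact Submodule.smul_mem _ _ hy
  | zero => rw [zero_mul]; exact Submodule.zero_mem _
  | add x z _ _ hx hz => rw [add_mul]; exact Submodule.add_mem _ hx hz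
  | smul c x _ hx => rw [smul_mul_assoc]; exact Submodule.smul_mem _ _ hx

/-- The subring spanned over `F` by a basis with structure constants in `F`. -/
def spanSubring (F : IntermediateField k K)
    (h1 : (1 : Λ) ∈ Submodule.span F (Set.range b))
    (hmul : ∀ a a', b a * b a' ∈ Submodule.span F (Set.range b)) : Subring Λ where
  carrier := Submodule.span F (Set.range b)
  mul_mem' := fun {x y} hx hy => mul_mem_span b F hmul x y hx hy
  one_mem' := h1
  add_mem' := fun hx hy => Submodule.add_mem _ hx hy
  zero_mem' := Submodule.zero_mem _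
  neg_mem' := fun hx => Submodule.neg_mem _ hx

theorem mem_spanSubring (F : IntermediateField k K)
    (h1 : (1 : Λ) ∈ Submodule.span F (Set.range b))
    (hmul : ∀ a a', b a * b a' ∈ Submodule.span F (Set.range b)) (x : Λ) :
    x ∈ spanSubring b F h1 hmul ↔ x ∈ Submodule.span F (Set.range b) := Iff.rfl

/-- There is a finitely generated intermediate field whose span of the basis contains a given
finite set. -/
theorem exists_intermediateField (T : Finset Λ) (S : Finset K) :
    ∃ s : Finset K, S ⊆ s ∧
      ∀ x ∈ T, x ∈ Submodule.span (IntermediateField.adjoin k (s : Set K)) (Set.range b) := by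
  classical
  refine ⟨S ∪ T.biUnion fun x => Finset.univ.image fun a => b.repr x a,
    Finset.subset_union_left, fun x hx => ?_⟩
  refine mem_span_of_repr_mem b _ x fun a => ?_
  refine IntermediateField.subset_adjoin k _ ?_
  rw [Finset.mem_coe]
  refine Finset.mem_union_right _ ?_
  rw [Finset.mem_biUnion]
  exact ⟨x, hx, Finset.mem_image_of_mem _ (Finset.mem_univ a)⟩

end span


/-- containment of `k` in a subring, via formal étaleness over `𝔽_p[Y]`. -/
theorem algebraMap_mem_of_differential_basis {k K Λ : Type u} [Field k] (p : ℕ) [Fact p.Prime]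
    [CharP k p] [Field K] [Algebra k K] [CommRing Λ] [Algebra k Λ]
    (π₀ : Λ →+* K) (hnil : IsNilpotent (RingHom.ker π₀))
    (hπk : ∀ c : k, π₀ (algebraMap k Λ c) = algebraMap k K c)
    {ι : Type u} (y : ι → k)
    [Algebra (ZMod p) k]
    (hli : LinearIndependent k (fun i => D (ZMod p) k (y i)))
    (hspan : Submodule.span k (Set.range fun i => D (ZMod p) k (y i)) = ⊤)
    (R₀ : Subring Λ) (hy : ∀ i, algebraMap k Λ (y i) ∈ R₀)
    (hR₀ : ∀ c : k, ∃ a ∈ R₀, π₀ a = algebraMap k K c) (c : k) : algebraMap k Λ c ∈ R₀ := by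
  haveI : Algebra.FormallySmooth (ZMod p) k :=
    Groth.Agent.Lib.Helper19.PBasis.formallySmooth_zmod p k
  letI algPk : Algebra (MvPolynomial ι (ZMod p)) k :=
    (aeval y : MvPolynomial ι (ZMod p) →ₐ[ZMod p] k).toRingHom.toAlgebra
  haveI : IsScalarTower (ZMod p) (MvPolynomial ι (ZMod p)) k := IsScalarTower.of_algebraMap_eq
    (fun c => ((aeval y : MvPolynomial ι (ZMod p) →ₐ[ZMod p] k).commutes c).symm)
  have hX : ∀ i, algebraMap (MvPolynomial ι (ZMod p)) k (X i) = y i := fun i => aeval_X _ i
  haveI : Algebra.FormallyEtale (MvPolynomial ι (ZMod p)) k := by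
    refine formallyEtale_mvPolynomial_of_basis ?_ ?_
    · simp only [hX]; exact hli
    · simp only [hX]; exact hspan
  letI algPΛ : Algebra (MvPolynomial ι (ZMod p)) Λ :=
    ((algebraMap k Λ).comp (algebraMap (MvPolynomial ι (ZMod p)) k)).toAlgebra
  haveI : IsScalarTower (MvPolynomial ι (ZMod p)) k Λ := IsScalarTower.of_algebraMap_eq (fun _ => rfl)
  letI algPK : Algebra (MvPolynomial ι (ZMod p)) K :=
    ((algebraMap k K).comp (algebraMap (MvPolynomial ι (ZMod p)) k)).toAlgebra
  haveI : IsScalarTower (MvPolynomial ι (ZMod p)) k K := IsScalarTower.of_algebraMap_eq (fun _ => rfl)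
  let π : Λ →ₐ[MvPolynomial ι (ZMod p)] K :=
    { π₀ with commutes' := fun q => hπk _ }
  have hmem : ∀ q : MvPolynomial ι (ZMod p), algebraMap (MvPolynomial ι (ZMod p)) Λ q ∈ R₀ := by
    intro q
    induction q using MvPolynomial.induction_on with
    | C c =>
      have h1 : (C c : MvPolynomial ι (ZMod p)) = ((c.val : ℕ) : MvPolynomial ι (ZMod p)) := by
        rw [← map_natCast (C : ZMod p →+* MvPolynomial ι (ZMod p)), ZMod.natCast_zmod_val]
      rw [h1, map_natCast]
      exact natCast_mem R₀ _
    | add q₁ q₂ hp hq => rw [map_add]; exact R₀.add_mem hp hq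
    | mul_X q₁ i hp =>
      rw [map_mul]
      refine R₀.mul_mem hp ?_
      change algebraMap k Λ (algebraMap (MvPolynomial ι (ZMod p)) k (X i)) ∈ R₀
      rw [hX]
      exact hy i
  let A : Subalgebra (MvPolynomial ι (ZMod p)) Λ :=
    { R₀.toSubsemiring with algebraMap_mem' := hmem }
  have := range_le_of_formallyEtale (IsScalarTower.toAlgHom (MvPolynomial ι (ZMod p)) k Λ) A π
    hnil (fun c => by
      obtain ⟨a, ha, hac⟩ := hR₀ c
      exact ⟨a, ha, hac.trans (hπk c).symm⟩) c
  exact this

end Groth.Agent.Lib.Helper7.Smoothing
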