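import Mathlib
import Groth.Agent.Lib.Helper7Smoothing61

/-!
# Helper7Smoothing64 (helper7): refined Stacks 07FE (towards 07FJ / S6824)

`exists_artin_subalgebra`: for an Artinian local `k`-algebra `Λ` (char `p`, `H₁(L_{K/k})` finite) and a
`k`-algebra map `θ : Λ₀ → Λ` through which every element of `Λ` is a fraction, there is a subalgebra
`A ⊆ Λ` as in Stacks 07FE together with a finite set `G ⊆ Λ₀` with `θ(G) ⊆ A` whose residues generate
the residue field of `A`.
-/
set_option autoImplicit false
set_option linter.style.haveILetI false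
set_option linter.unusedSectionVars false
universe u
open Function TensorProduct MvPolynomial KaehlerDifferential IsLocalRing

namespace Groth.Agent.Lib.Helper7.Smoothing

/-- Frobenius trick: in characteristic `p`, if `(u - v) ^ n = 0` then `u ^ (p ^ n) = v ^ (p ^ n)`. -/
theorem pow_char_pow_eq_of_sub_nilpotent {Λ : Type*} [CommRing Λ] (p : ℕ) [Fact p.Prime] [CharP Λ p]
    (u v : Λ) (n : ℕ) (h : (u - v) ^ n = 0) : u ^ (p ^ n) = v ^ (p ^ n) := by
  have h1 : (u - v) ^ (p ^ n) = 0 := by
    have hle : n ≤ p ^ n := (Nat.lt_pow_self (Fact.out : p.Prime).one_lt).le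
    obtain ⟨m, hm⟩ := Nat.exists_eq_add_of_le hle
    rw [hm, pow_add, h, zero_mul]
  rw [sub_pow_char_pow, sub_eq_zero] at h1
  exact h1

theorem exists_artin_subalgebra {k Λ₀ Λ : Type u} [Field k] (p : ℕ) [Fact p.Prime]
    [CharP k p] [CommRing Λ] [Algebra k Λ] [IsArtinianRing Λ] [IsLocalRing Λ]
    (hH : Module.Finite (ResidueField Λ) (Algebra.H1Cotangent k (ResidueField Λ)))
    [CommRing Λ₀] [Algebra k Λ₀] (θ : Λ₀ →ₐ[k] Λ)
    (hθ : ∀ x : Λ, ∃ a s : Λ₀, IsUnit (θ s) ∧ x * θ s = θ a)
    (E : Finset Λ) :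
    ∃ (A : Subalgebra k Λ) (_ : IsLocalRing A) (G : Finset Λ₀), (↑E : Set Λ) ⊆ A ∧
      IsArtinianRing A ∧ Module.Flat A Λ ∧ Algebra.EssFiniteType k A ∧
      (maximalIdeal A).map (algebraMap A Λ) = maximalIdeal Λ ∧
      (∀ g ∈ G, θ g ∈ A) ∧
      (∀ x ∈ A, residue Λ x ∈
        IntermediateField.adjoin k ((fun g => residue Λ (θ g)) '' (G : Set Λ₀))) := by
  classical
  haveI := hH
  -- characteristic `p` structures
  haveI : CharP (ResidueField Λ) p :=
    charP_of_injective_algebraMap (algebraMap k (ResidueField Λ)).injective p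
  haveI : CharP Λ p := charP_of_injective_algebraMap (algebraMap k Λ).injective p
  letI : Algebra (ZMod p) k := ZMod.algebra k p
  letI : Algebra (ZMod p) (ResidueField Λ) := ZMod.algebra (ResidueField Λ) p
  haveI : IsScalarTower (ZMod p) k (ResidueField Λ) :=
    IsScalarTower.of_algebraMap_eq' (Subsingleton.elim _ _)
  letI : Algebra (ZMod p) Λ := ((algebraMap k Λ).comp (algebraMap (ZMod p) k)).toAlgebra
  haveI : IsScalarTower (ZMod p) k Λ := IsScalarTower.of_algebraMap_eq (fun _ => rfl)
  haveI : Algebra.FormallySmooth (ZMod p) (ResidueField Λ) :=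
    Groth.Agent.Lib.Helper19.PBasis.formallySmooth_zmod p (ResidueField Λ)
  -- the differential basis
  obtain ⟨ι, y, hli, hspan⟩ := exists_differential_basis (ZMod p) k
  obtain ⟨s, hs⟩ := exists_finset_linearIndependent_compl (F := ZMod p) (k := k)
    (K := ResidueField Λ) y hli hspan
  -- the section
  have hπsurj : Function.Surjective (residue Λ) := residue_surjective
  have hker₀ : RingHom.ker (residue Λ) = maximalIdeal Λ := ker_residue
  have hnil : IsNilpotent (RingHom.ker (residue Λ)) := by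
    rw [hker₀, ← IsLocalRing.jacobson_eq_maximalIdeal ⊥ bot_ne_top]
    exact IsArtinianRing.isNilpotent_jacobson_bot
  have hπk : ∀ c : k, residue Λ (algebraMap k Λ c) = algebraMap k (ResidueField Λ) c :=
    fun _ => rfl
  obtain ⟨σ, hσπ, hσy⟩ := exists_section_extending (F := ZMod p) (residue Λ) hπsurj hnil hπk
    (fun i : {i // i ∉ s} => y i) hs
  letI algKΛ : Algebra (ResidueField Λ) Λ := σ.toAlgebra
  have halgσ : ∀ c, algebraMap (ResidueField Λ) Λ c = σ c := fun _ => rfl
  let π : Λ →ₐ[ResidueField Λ] ResidueField Λ := { residue Λ with commutes' := hσπ }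
  have hπ₀ : ∀ x, π x = residue Λ x := fun _ => rfl
  have hnil' : IsNilpotent (RingHom.ker (π : Λ →+* ResidueField Λ)) := hnil
  haveI : IsNoetherianRing Λ := inferInstance
  haveI : Module.Finite (ResidueField Λ) Λ := by
    refine Module.finite_of_surjective_of_ker_le_nilradical π hπsurj ?_
      (IsNoetherian.noetherian _)
    intro x hx
    have hx' : x ∈ RingHom.ker (residue Λ) := hx
    obtain ⟨n, hn⟩ := hnil
    rw [mem_nilradical]
    refine ⟨n, ?_⟩
    have := Ideal.pow_mem_pow hx' n
    rw [hn, Ideal.zero_eq_bot, Ideal.mem_bot] at this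
    exact this
  let b := Module.finBasis (ResidueField Λ) Λ
  obtain ⟨gs, hgs⟩ := (IsNoetherian.noetherian (maximalIdeal Λ) : (maximalIdeal Λ).FG)
  -- the Frobenius exponent
  obtain ⟨n, hn⟩ := hnil
  have hfrob : ∀ u : Λ, u ^ (p ^ n) = σ (residue Λ u ^ (p ^ n)) := by
    intro u
    rw [map_pow]
    refine pow_char_pow_eq_of_sub_nilpotent p u (σ (residue Λ u)) n ?_
    have hmem : u - σ (residue Λ u) ∈ RingHom.ker (residue Λ) := by
      rw [RingHom.mem_ker, map_sub, hσπ, sub_self]
    have := Ideal.pow_mem_pow hmem n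
    rw [hn, Ideal.zero_eq_bot, Ideal.mem_bot] at this
    exact this
  -- the finite sets
  let T : Finset Λ := {1} ∪ (Finset.univ ×ˢ Finset.univ).image (fun q => b q.1 * b q.2) ∪ E ∪ gs ∪
    s.image (fun j => algebraMap k Λ (y j))
  let S₀ : Finset (ResidueField Λ) := Finset.univ.image (fun a => π (b a)) ∪
    T.biUnion fun x => Finset.univ.image fun a => b.repr x a
  -- fractions
  choose num den hden hfrac using fun c : ResidueField Λ => hθ (σ c)
  let num' : ResidueField Λ → Λ₀ := fun c => num c * den c ^ (p ^ n - 1)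
  let den' : ResidueField Λ → Λ₀ := fun c => den c ^ (p ^ n)
  have hpn : p ^ n - 1 + 1 = p ^ n := Nat.sub_add_cancel (Nat.one_le_pow _ _ (Fact.out : p.Prime).pos)
  have hden' : ∀ c, θ (den' c) = σ (residue Λ (θ (den c)) ^ (p ^ n)) := by
    intro c
    change θ (den c ^ (p ^ n)) = _
    rw [map_pow, hfrob]
  have hnum' : ∀ c, θ (num' c) = σ (c * residue Λ (θ (den c)) ^ (p ^ n)) := by
    intro c
    change θ (num c * den c ^ (p ^ n - 1)) = _
    rw [map_mul, map_pow, ← hfrac c, mul_assoc, ← pow_succ', hpn, hfrob, map_mul]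
  have hρne : ∀ c, residue Λ (θ (den c)) ^ (p ^ n) ≠ 0 := by
    intro c
    exact pow_ne_zero _ ((hden c).map (residue Λ)).ne_zero
  let G : Finset Λ₀ := S₀.image num' ∪ S₀.image den'
  obtain ⟨F, hF⟩ : ∃ F : IntermediateField k (ResidueField Λ),
    F = IntermediateField.adjoin k ((fun g => residue Λ (θ g)) '' (G : Set Λ₀)) := ⟨_, rfl⟩
  have hGF : ∀ g ∈ G, residue Λ (θ g) ∈ F := by
    intro g hg
    rw [hF]
    exact IntermediateField.subset_adjoin k _ ⟨g, hg, rfl⟩
  have hS₀F : ∀ c ∈ S₀, c ∈ F := by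
    intro c hc
    have h1 : residue Λ (θ (num' c)) ∈ F :=
      hGF _ (Finset.mem_union_left _ (Finset.mem_image_of_mem _ hc))
    have h2 : residue Λ (θ (den' c)) ∈ F :=
      hGF _ (Finset.mem_union_right _ (Finset.mem_image_of_mem _ hc))
    rw [hnum', hσπ] at h1
    rw [hden', hσπ] at h2
    have h3 : c = (c * residue Λ (θ (den c)) ^ (p ^ n)) * (residue Λ (θ (den c)) ^ (p ^ n))⁻¹ := by
      rw [mul_assoc, mul_inv_cancel₀ (hρne c), mul_one]
    rw [h3]
    exact F.mul_mem h1 (F.inv_mem h2)
  haveI : Algebra.EssFiniteType k F := by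
    rw [IntermediateField.essFiniteType_iff, hF]
    have : ((fun g => residue Λ (θ g)) '' (G : Set Λ₀)) =
        ((G.image fun g => residue Λ (θ g) : Finset (ResidueField Λ)) : Set (ResidueField Λ)) := by
      rw [Finset.coe_image]
    rw [this]
    exact IntermediateField.fg_adjoin_finset _
  have hT : ∀ x ∈ T, x ∈ Submodule.span F (Set.range b) := by
    intro x hx
    refine mem_span_of_repr_mem b F x fun a => hS₀F _ ?_
    refine Finset.mem_union_right _ ?_
    rw [Finset.mem_biUnion]
    exact ⟨x, hx, Finset.mem_image_of_mem _ (Finset.mem_univ a)⟩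
  have h1 : (1 : Λ) ∈ Submodule.span F (Set.range b) := hT 1 (by simp [T])
  have hmul : ∀ a a', b a * b a' ∈ Submodule.span F (Set.range b) := fun a a' => hT _ (by
    simp only [T, Finset.mem_union, Finset.mem_image, Finset.mem_product, Finset.mem_univ,
      and_self, true_and, Prod.exists]
    exact Or.inl (Or.inl (Or.inl (Or.inr ⟨a, a', rfl⟩))))
  let R₀ := spanSubring b F h1 hmul
  have hbF : ∀ a, π (b a) ∈ F := fun a =>
    hS₀F _ (Finset.mem_union_left _ (Finset.mem_image_of_mem _ (Finset.mem_univ a)))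
  have hFmem : ∀ c : ResidueField Λ, c ∈ F → algebraMap (ResidueField Λ) Λ c ∈ R₀ := by
    intro c hc
    change algebraMap (ResidueField Λ) Λ c ∈ Submodule.span F (Set.range b)
    have : algebraMap (ResidueField Λ) Λ c = (⟨c, hc⟩ : F) • (1 : Λ) := by
      rw [Algebra.algebraMap_eq_smul_one]; rfl
    rw [this]
    exact Submodule.smul_mem _ _ h1
  have hkF : ∀ c : k, algebraMap k (ResidueField Λ) c ∈ F := fun c => F.algebraMap_mem c
  -- `k` lands in `R₀`
  have hkR₀ : ∀ c : k, algebraMap k Λ c ∈ R₀ := by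
    refine algebraMap_mem_of_differential_basis p (residue Λ) ⟨n, hn⟩ hπk y hli hspan R₀ ?_ ?_
    · intro i
      by_cases hi : i ∈ s
      · exact hT _ (by
          simp only [T, Finset.mem_union, Finset.mem_image]
          exact Or.inr ⟨i, hi, rfl⟩)
      · rw [← hσy ⟨i, hi⟩]
        exact hFmem _ (hkF _)
    · intro c
      exact ⟨algebraMap (ResidueField Λ) Λ (algebraMap k (ResidueField Λ) c), hFmem _ (hkF c),
        hσπ _⟩
  let A : Subalgebra k Λ := { R₀.toSubsemiring with algebraMap_mem' := hkR₀ }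
  have hA : ∀ x, x ∈ A ↔ x ∈ Submodule.span F (Set.range b) := fun x => Iff.rfl
  obtain ⟨hloc, hart, hflat, hess, hmax⟩ := subalgebra_props π hπk hnil' b F hbF A hA gs hgs.symm
    (fun x hx => hT x (by
      simp only [T, Finset.mem_union]
      exact Or.inl (Or.inr hx)))
  refine ⟨A, hloc, G, ?_, hart, hflat, hess, hmax, ?_, ?_⟩
  · intro x hx
    exact hT x (by
      simp only [T, Finset.mem_union]
      exact Or.inl (Or.inl (Or.inr hx)))
  · -- `θ(G) ⊆ A`
    intro g hg
    have hgF := hGF g hg
    have hσg : θ g = σ (residue Λ (θ g)) := by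
      rcases Finset.mem_union.mp hg with h | h
      · obtain ⟨c, _, rfl⟩ := Finset.mem_image.mp h
        rw [hnum', hσπ]
      · obtain ⟨c, _, rfl⟩ := Finset.mem_image.mp h
        rw [hden', hσπ]
    rw [hσg]
    exact hFmem _ hgF
  · -- residues of `A` lie in `F`
    rw [← hF]
    have key : ∀ z ∈ Submodule.span F (Set.range b), residue Λ z ∈ F := by
      intro z hz
      induction hz using Submodule.span_induction with
      | mem w hw =>
        obtain ⟨a, rfl⟩ := hw
        exact hbF a
      | zero => rw [map_zero]; exact F.zero_mem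
      | add w w' _ _ hw hw' => rw [map_add]; exact F.add_mem hw hw'
      | smul c w _ hw =>
        have : (c • w : Λ) = σ (c : ResidueField Λ) * w := by
          change algebraMap (ResidueField Λ) Λ (c : ResidueField Λ) * w = _
          rfl
        rw [this, map_mul, hσπ]
        exact F.mul_mem c.2 hw
    intro x hx
    exact key x hx

end Groth.Agent.Lib.Helper7.Smoothing
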