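import Mathlib

/-!
# Naturality of the Jacobi–Zariski connecting map in the top algebra; injectivity of
`M ⊗_L H¹(L_{L/K}) → H¹(L_{M/K})` for towers of fields (helper7)
-/

set_option autoImplicit false
set_option linter.style.haveILetI false
set_option linter.unusedSectionVars false
universe u₁ u₂ u₃ u₄

namespace Groth.Agent.Lib.Helper7.H1Nat

open Algebra KaehlerDifferential TensorProduct MvPolynomial

section Nat

variable {R : Type u₁} {S : Type u₂} {T : Type u₃} {T' : Type u₄} [CommRing R] [CommRing S]
  [Algebra R S] [CommRing T] [Algebra R T] [Algebra S T] [IsScalarTower R S T]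
  [CommRing T'] [Algebra R T'] [Algebra S T'] [IsScalarTower R S T']
  [Algebra T T'] [IsScalarTower S T T']

/-- the comparison map `T ⊗_S Ω_{S/R} → T' ⊗_S Ω_{S/R}` -/
noncomputable abbrev tmap : T ⊗[S] Ω[S⁄R] →ₗ[S] T' ⊗[S] Ω[S⁄R] :=
  (IsScalarTower.toAlgHom S T T').toLinearMap.rTensor (Ω[S⁄R])

lemma δAux_rename (x : MvPolynomial T S) :
    Generators.H1Cotangent.δAux R (Generators.self S T') (rename (algebraMap T T') x) =
      tmap (R := R) (T := T) (T' := T')
        (Generators.H1Cotangent.δAux R (Generators.self S T) x) := by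
  induction x using MvPolynomial.induction_on' with
  | monomial n r =>
    rw [rename_monomial, Generators.H1Cotangent.δAux_monomial,
      Generators.H1Cotangent.δAux_monomial, LinearMap.rTensor_tmul]
    congr 1
    rw [Finsupp.prod_mapDomain_index (fun _ => pow_zero _) (fun _ _ _ => pow_add _ _ _)]
    simp only [Generators.self_val, id_eq, AlgHom.toLinearMap_apply, IsScalarTower.coe_toAlgHom',
      map_finsuppProd, map_pow]
  | add x y hx hy => rw [map_add, map_add, hx, hy, map_add, map_add]

set_option backward.isDefEq.respectTransparency false in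
lemma δ_map_top (z : H1Cotangent S T) :
    H1Cotangent.δ R S T' (H1Cotangent.map S S T T' z) =
      tmap (R := R) (T := T) (T' := T') (H1Cotangent.δ R S T z) := by
  obtain ⟨x, hx⟩ := z
  obtain ⟨⟨y, hy⟩, rfl⟩ := Extension.Cotangent.mk_surjective x
  have h1 : H1Cotangent.δ R S T ⟨Extension.Cotangent.mk ⟨y, hy⟩, hx⟩ =
      Generators.H1Cotangent.δAux R (Generators.self S T) y :=
    Generators.H1Cotangent.δ_eq_δAux (Generators.self S T) (Generators.self R S) ⟨y, hy⟩ hx
  rw [h1, ← δAux_rename]
  set z' := H1Cotangent.map S S T T' ⟨Extension.Cotangent.mk ⟨y, hy⟩, hx⟩ with hz'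
  have hy0 : aeval (Generators.self S T).val y = 0 := hy
  have hy' : rename (algebraMap T T') y ∈ (Generators.self S T').toExtension.ker := by
    change aeval (Generators.self S T').val (rename (algebraMap T T') y) = 0
    rw [aeval_rename]
    have := MvPolynomial.aeval_algebraMap_apply (B := T') (Generators.self S T).val y
    rw [hy0, map_zero] at this
    exact this
  have heq : ((Generators.self S T).defaultHom (Generators.self S T')).toExtensionHom.toAlgHom y =
      rename (algebraMap T T') y := by
    have hfun : ((Generators.self S T).defaultHom (Generators.self S T')).toAlgHom =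
        rename (algebraMap T T') := by
      apply MvPolynomial.algHom_ext
      intro t
      rw [Generators.Hom.toAlgHom_X, rename_X]
      rfl
    rw [Generators.Hom.toExtensionHom_toAlgHom_apply, hfun]
  have hmap : z'.1 = Extension.Cotangent.mk ⟨rename (algebraMap T T') y, hy'⟩ := by
    rw [hz', H1Cotangent.map, Extension.H1Cotangent.map_apply_coe, Extension.Cotangent.map_mk]
    congr 1
    exact Subtype.ext heq
  have hz'' : Extension.Cotangent.mk ⟨rename (algebraMap T T') y, hy'⟩ ∈
      LinearMap.ker (Generators.self S T').toExtension.cotangentComplex := by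
    rw [← hmap]; exact z'.2
  have hz3 : z' = ⟨Extension.Cotangent.mk ⟨rename (algebraMap T T') y, hy'⟩, hz''⟩ :=
    Subtype.ext hmap
  rw [hz3]
  exact Generators.H1Cotangent.δ_eq_δAux (Generators.self S T') (Generators.self R S)
    ⟨rename (algebraMap T T') y, hy'⟩ hz''

end Nat


section Inj

variable {k₀ : Type u₁} {K : Type u₂} {L : Type u₃} {M : Type u₄} [Field k₀] [Field K] [Field L]
  [Field M] [Algebra k₀ K] [Algebra k₀ L] [Algebra k₀ M] [Algebra K L] [Algebra K M] [Algebra L M]
  [IsScalarTower k₀ K L] [IsScalarTower k₀ K M] [IsScalarTower K L M]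

theorem δ_injective_of_formallySmooth [Algebra.FormallySmooth k₀ L] :
    Function.Injective (H1Cotangent.δ k₀ K L) := by
  rw [injective_iff_map_eq_zero]
  intro z hz
  obtain ⟨w, rfl⟩ := (H1Cotangent.exact_map_δ k₀ K L z).1 hz
  rw [Subsingleton.elim w 0, map_zero]

lemma cancel_one_tmul (y : L ⊗[K] Ω[K⁄k₀]) :
    TensorProduct.AlgebraTensorModule.cancelBaseChange K L M M (Ω[K⁄k₀]) ((1 : M) ⊗ₜ[L] y) =
      tmap (R := k₀) (S := K) (T := L) (T' := M) y := by
  induction y using TensorProduct.induction_on with
  | zero => rw [tmul_zero, map_zero, map_zero]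
  | tmul l ω =>
    rw [TensorProduct.AlgebraTensorModule.cancelBaseChange_tmul, LinearMap.rTensor_tmul,
      Algebra.smul_def, mul_one]
    rfl
  | add a b ha hb => rw [tmul_add, map_add, ha, hb, map_add]

theorem injective_liftBaseChange_map_of_formallySmooth [Algebra.FormallySmooth k₀ L] :
    Function.Injective ((H1Cotangent.map K K L M).liftBaseChange M) := by
  have hδL := δ_injective_of_formallySmooth (k₀ := k₀) (K := K) (L := L)
  have hcomm : (H1Cotangent.δ k₀ K M) ∘ₗ ((H1Cotangent.map K K L M).liftBaseChange M) =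
      (TensorProduct.AlgebraTensorModule.cancelBaseChange K L M M (Ω[K⁄k₀])).toLinearMap ∘ₗ
        ((H1Cotangent.δ k₀ K L).baseChange M) := by
    apply TensorProduct.AlgebraTensorModule.ext
    intro m z
    rw [LinearMap.comp_apply, LinearMap.comp_apply, LinearMap.liftBaseChange_tmul,
      LinearMap.baseChange_tmul, map_smul, δ_map_top, LinearEquiv.coe_coe]
    have : m ⊗ₜ[L] (H1Cotangent.δ k₀ K L z) = m • ((1 : M) ⊗ₜ[L] (H1Cotangent.δ k₀ K L z)) := by
      rw [TensorProduct.smul_tmul', smul_eq_mul, mul_one]
    rw [this, map_smul, cancel_one_tmul]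
  rw [injective_iff_map_eq_zero]
  intro w hw
  have h1 : (H1Cotangent.δ k₀ K M) (((H1Cotangent.map K K L M).liftBaseChange M) w) = 0 := by
    rw [hw, map_zero]
  rw [← LinearMap.comp_apply, hcomm, LinearMap.comp_apply, LinearEquiv.coe_coe,
    LinearEquiv.map_eq_zero_iff] at h1
  have hinj : Function.Injective ((H1Cotangent.δ k₀ K L).baseChange M) := by
    rw [LinearMap.baseChange_eq_ltensor]
    exact Module.Flat.lTensor_preserves_injective_linearMap _ hδL
  exact hinj (h1.trans (map_zero _).symm)

end Inj

end Groth.Agent.Lib.Helper7.H1Nat
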