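import Mathlib
import Groth.Agent.Lib.Helper19ImperfFinite
import Groth.Agent.Lib.Helper19FSFlat
import Groth.Agent.Lib.Helper7H1Nat
import Groth.Agent.Lib.Helper19FSField

/-!
# Helper7Smoothing65 (helper7): `bijective_map_int_zmod`, `finite_h1Cotangent_of_isAdicFormallySmooth`
(finiteness of `H₁(L_{κ/k})` for the residue field of a formally smooth Noetherian local `k`-algebra,
via helper19's finiteness of the imperfection module).
-/
set_option autoImplicit false
set_option linter.style.haveILetI false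
universe u
open MvPolynomial IsLocalRing TensorProduct KaehlerDifferential

namespace Groth.Agent.Lib.Helper7.Smoothing

/-- `Ω[A⁄ℤ] → Ω[A⁄𝔽_p]` is bijective. -/
theorem bijective_map_int_zmod (p : ℕ) [Fact p.Prime] (A : Type*) [CommRing A]
    [Algebra (ZMod p) A] : Function.Bijective (KaehlerDifferential.map ℤ (ZMod p) A A) := by
  refine ⟨?_, KaehlerDifferential.map_surjective ℤ (ZMod p) A⟩
  rw [injective_iff_map_eq_zero]
  intro x hx
  obtain ⟨y, rfl⟩ := (KaehlerDifferential.exact_mapBaseChange_map ℤ (ZMod p) A x).1 hx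
  haveI : Subsingleton (Ω[ZMod p⁄ℤ]) :=
    KaehlerDifferential.subsingleton_of_surjective ℤ (ZMod p) (ZMod.intCast_surjective)
  rw [Subsingleton.elim y 0, map_zero]


/-- finiteness of `H₁(L_{𝕂/k})` for the residue field of a formally smooth Noetherian local
`k`-algebra (characteristic `p`). -/
theorem finite_h1Cotangent_of_isAdicFormallySmooth {k L 𝕂 : Type u} [Field k] (p : ℕ)
    [Fact p.Prime] [CharP k p] [CommRing L] [IsLocalRing L] [IsNoetherianRing L] [Algebra k L]
    [Field 𝕂] [Algebra L 𝕂] [Algebra k 𝕂] [IsScalarTower k L 𝕂]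
    (hs : Function.Surjective (algebraMap L 𝕂))
    (hK : ∀ x ∈ maximalIdeal L, algebraMap L 𝕂 x = 0)
    (h : CAlgX.IsAdicFormallySmooth k L (maximalIdeal L)) :
    Module.Finite 𝕂 (Algebra.H1Cotangent k 𝕂) := by
  haveI : CharP 𝕂 p := charP_of_injective_algebraMap (algebraMap k 𝕂).injective p
  letI : Algebra (ZMod p) k := ZMod.algebra k p
  letI : Algebra (ZMod p) 𝕂 := ZMod.algebra 𝕂 p
  haveI : IsScalarTower (ZMod p) k 𝕂 := IsScalarTower.of_algebraMap_eq' (Subsingleton.elim _ _)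
  haveI : Algebra.FormallySmooth (ZMod p) 𝕂 :=
    Groth.Agent.Lib.Helper19.PBasis.formallySmooth_zmod p 𝕂
  haveI hfin : Module.Finite 𝕂 (EGA41.imperfection ℤ k 𝕂) :=
    Groth.Agent.Lib.Helper19.GR.finite_imperfection_of_isAdicFormallySmooth hs hK h
  have hδ := Groth.Agent.Lib.Helper7.H1Nat.δ_injective_of_formallySmooth (k₀ := ZMod p) (K := k) (L := 𝕂)
  let e : Ω[k⁄ℤ] ≃ₗ[k] Ω[k⁄ZMod p] :=
    LinearEquiv.ofBijective (KaehlerDifferential.map ℤ (ZMod p) k k) (bijective_map_int_zmod p k)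
  let Ψ : 𝕂 ⊗[k] Ω[k⁄ℤ] ≃ₗ[𝕂] 𝕂 ⊗[k] Ω[k⁄ZMod p] := e.baseChange k 𝕂 _ _
  have key : ∀ ω : Ω[k⁄ℤ],
      (KaehlerDifferential.map (ZMod p) (ZMod p) k 𝕂) ((KaehlerDifferential.map ℤ (ZMod p) k k) ω) =
      (KaehlerDifferential.map ℤ (ZMod p) 𝕂 𝕂) ((KaehlerDifferential.map ℤ ℤ k 𝕂) ω) := by
    intro ω
    have hω : ω ∈ Submodule.span k (Set.range (KaehlerDifferential.D ℤ k)) := by
      rw [KaehlerDifferential.span_range_derivation]; trivial
    induction hω using Submodule.span_induction with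
    | mem w hw =>
      obtain ⟨a, rfl⟩ := hw
      rw [KaehlerDifferential.map_D, KaehlerDifferential.map_D, KaehlerDifferential.map_D,
        KaehlerDifferential.map_D]
      rfl
    | zero => simp
    | add w w' _ _ hw hw' => rw [map_add, map_add, map_add, map_add, hw, hw']
    | smul a w _ hw =>
      rw [map_smul, map_smul, map_smul, hw, ← algebraMap_smul 𝕂 a
        ((KaehlerDifferential.map ℤ ℤ k 𝕂) w), map_smul, algebraMap_smul]
  have hsq : ∀ v : 𝕂 ⊗[k] Ω[k⁄ℤ], KaehlerDifferential.mapBaseChange (ZMod p) k 𝕂 (Ψ v) =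
      KaehlerDifferential.map ℤ (ZMod p) 𝕂 𝕂 (KaehlerDifferential.mapBaseChange ℤ k 𝕂 v) := by
    intro v
    induction v using TensorProduct.induction_on with
    | zero => simp
    | add v w hv hw => rw [map_add, map_add, hv, hw, map_add, map_add]
    | tmul c ω =>
      have hΨ : Ψ (c ⊗ₜ[k] ω) = c ⊗ₜ[k] KaehlerDifferential.map ℤ (ZMod p) k k ω := rfl
      rw [hΨ, KaehlerDifferential.mapBaseChange_tmul, KaehlerDifferential.mapBaseChange_tmul,
        map_smul, key]
  -- the injection into the imperfection module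
  let f : Algebra.H1Cotangent k 𝕂 →ₗ[𝕂] EGA41.imperfection ℤ k 𝕂 :=
    LinearMap.codRestrict _ (Ψ.symm.toLinearMap ∘ₗ Algebra.H1Cotangent.δ (ZMod p) k 𝕂) (fun z => by
      change _ ∈ LinearMap.ker _
      rw [LinearMap.mem_ker]
      apply (bijective_map_int_zmod p 𝕂).1
      rw [← hsq, map_zero, LinearMap.comp_apply, LinearEquiv.coe_coe, LinearEquiv.apply_symm_apply]
      exact (Algebra.H1Cotangent.exact_δ_mapBaseChange (ZMod p) k 𝕂 _).2 ⟨z, rfl⟩)
  have hf : Function.Injective f := by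
    intro z z' hzz'
    have h1 := congrArg Subtype.val hzz'
    exact hδ (Ψ.symm.injective h1)
  exact FiniteDimensional.of_injective (K := 𝕂) (V := Algebra.H1Cotangent k 𝕂)
    (V₂ := EGA41.imperfection ℤ k 𝕂) f hf

end Groth.Agent.Lib.Helper7.Smoothing
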