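import Mathlib
import Groth.Agent.Lib.Helper7Smoothing62

/-!
# Helper7Smoothing71 (helper7): differentials of the residue field of the Artinian subalgebra

* `exists_fin_subfamily_basis`: a finite spanning family contains a basis, indexed by `Fin t`.
* `aeval_pderiv_eq_zero_of_linearIndependent`: if `dλ̄_j` are linearly independent in `Ω_{F/k}`, the
  kernel of `k[X] → F`, `X_j ↦ λ̄_j` is stable under the partial derivatives.
* `span_D_residue_of_adjoin`: the differentials of a generating family of the residue field span.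
-/
set_option autoImplicit false
set_option linter.style.haveILetI false
universe u
open Function IsLocalRing MvPolynomial

namespace Groth.Agent.Lib.Helper7.Smoothing

theorem exists_fin_subfamily_basis {K V ι : Type*} [Field K] [AddCommGroup V] [Module K V]
    [Finite ι] (v : ι → V) (hv : Submodule.span K (Set.range v) = ⊤) :
    ∃ (t : ℕ) (a : Fin t → ι), LinearIndependent K (v ∘ a) ∧
      Submodule.span K (Set.range (v ∘ a)) = ⊤ := by
  classical
  obtain ⟨κ, a, ha, hsp, hli⟩ := exists_linearIndependent' K v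
  haveI : Finite κ := Finite.of_injective a ha
  haveI : Fintype κ := Fintype.ofFinite κ
  let e : Fin (Fintype.card κ) ≃ κ := (Fintype.equivFin κ).symm
  refine ⟨Fintype.card κ, a ∘ e, ?_, ?_⟩
  · have : v ∘ (a ∘ e) = (v ∘ a) ∘ e := rfl
    rw [this]
    exact hli.comp e e.injective
  · have : v ∘ (a ∘ e) = (v ∘ a) ∘ e := rfl
    rw [this, Set.range_comp, e.range_eq_univ, Set.image_univ, hsp, hv]

theorem aeval_pderiv_eq_zero_of_linearIndependent {k F : Type*} [Field k] [Field F] [Algebra k F]
    {t : ℕ} (lb : Fin t → F)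
    (hli : LinearIndependent F (fun j => KaehlerDifferential.D k F (lb j)))
    (x : MvPolynomial (Fin t) k) (hx : aeval lb x = 0) (j : Fin t) :
    aeval lb (pderiv j x) = 0 := by
  classical
  -- the dual functional
  obtain ⟨ℓ, hℓ⟩ : ∃ ℓ : Ω[F⁄k] →ₗ[F] F, ∀ i, ℓ (KaehlerDifferential.D k F (lb i)) =
      if i = j then 1 else 0 := by
    obtain ⟨g, hg⟩ := LinearMap.exists_extend
      ((Finsupp.lapply j : (Fin t →₀ F) →ₗ[F] F) ∘ₗ hli.repr)
    refine ⟨g, fun i => ?_⟩
    have h1 := LinearMap.congr_fun hg ⟨KaehlerDifferential.D k F (lb i), Submodule.subset_span ⟨i, rfl⟩⟩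
    rw [LinearMap.comp_apply, Submodule.subtype_apply] at h1
    rw [h1, LinearMap.comp_apply]
    have h2 : hli.repr ⟨KaehlerDifferential.D k F (lb i), Submodule.subset_span ⟨i, rfl⟩⟩ =
        Finsupp.single i 1 := hli.repr_eq_single i _ rfl
    rw [h2, Finsupp.lapply_apply, Finsupp.single_apply]
  let dd : Derivation k F F := ℓ.compDer (KaehlerDifferential.D k F)
  have hdd : ∀ y, dd y = ℓ (KaehlerDifferential.D k F y) := fun _ => rfl
  letI algF : Algebra (MvPolynomial (Fin t) k) F := (aeval lb : MvPolynomial (Fin t) k →ₐ[k] F).toAlgebra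
  have halg : ∀ y, algebraMap (MvPolynomial (Fin t) k) F y = aeval lb y := fun _ => rfl
  haveI : IsScalarTower k (MvPolynomial (Fin t) k) F :=
    IsScalarTower.of_algebraMap_eq (fun c => ((aeval lb).commutes c).symm)
  let D' : Derivation k (MvPolynomial (Fin t) k) F := dd.compAlgebraMap (MvPolynomial (Fin t) k)
  have hD' : ∀ y, D' y = dd (aeval lb y) := fun _ => rfl
  have h1 := derivation_eq_sum_pderiv D' x
  rw [hD', hx, map_zero] at h1
  have h2 : ∀ i, pderiv i x • D' (X i) = if i = j then aeval lb (pderiv j x) else 0 := by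
    intro i
    rw [hD', aeval_X, hdd, hℓ, Algebra.smul_def, halg]
    split_ifs with h
    · rw [h, mul_one]
    · rw [mul_zero]
  rw [Finset.sum_congr rfl (fun i _ => h2 i), Finset.sum_ite_eq' Finset.univ j] at h1
  simpa using h1.symm

theorem span_D_residue_of_adjoin {k Λb : Type u} [Field k] [CommRing Λb] [IsLocalRing Λb]
    [Algebra k Λb] (A₁ : Subalgebra k Λb) [IsLocalRing A₁] [IsLocalHom (algebraMap A₁ Λb)]
    {ι : Type*} (g : ι → Λb) (hg : ∀ i, g i ∈ A₁)
    (hgen : ∀ x ∈ A₁, residue Λb x ∈ IntermediateField.adjoin k (Set.range fun i => residue Λb (g i))) :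
    Submodule.span (ResidueField A₁) (Set.range fun i =>
      KaehlerDifferential.D k (ResidueField A₁) (residue A₁ ⟨g i, hg i⟩)) = ⊤ := by
  classical
  obtain ⟨M, hM⟩ : ∃ M : Submodule (ResidueField A₁) (Ω[ResidueField A₁⁄k]),
      M = Submodule.span (ResidueField A₁) (Set.range fun i =>
        KaehlerDifferential.D k (ResidueField A₁) (residue A₁ ⟨g i, hg i⟩)) := ⟨_, rfl⟩
  rw [← hM]
  let ιf : ResidueField A₁ →+* ResidueField Λb := ResidueField.map (algebraMap A₁ Λb)
  have hιf : ∀ x : A₁, ιf (residue A₁ x) = residue Λb (x : Λb) := fun _ => rfl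
  have hιk : ∀ c : k, ιf (algebraMap k (ResidueField A₁) c) = algebraMap k (ResidueField Λb) c :=
    fun _ => rfl
  have key : ∀ y ∈ IntermediateField.adjoin k (Set.range fun i => residue Λb (g i)),
      ∃ y' : ResidueField A₁, ιf y' = y ∧ KaehlerDifferential.D k (ResidueField A₁) y' ∈ M := by
    intro y hy
    induction hy using IntermediateField.adjoin_induction with
    | mem x hx =>
      obtain ⟨i, rfl⟩ := hx
      exact ⟨residue A₁ ⟨g i, hg i⟩, rfl, hM ▸ Submodule.subset_span ⟨i, rfl⟩⟩
    | algebraMap c =>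
      exact ⟨algebraMap k (ResidueField A₁) c, hιk c, by
        rw [Derivation.map_algebraMap]; exact M.zero_mem⟩
    | add x y _ _ hx hy =>
      obtain ⟨x', rfl, hx'⟩ := hx
      obtain ⟨y', rfl, hy'⟩ := hy
      exact ⟨x' + y', map_add _ _ _, by rw [map_add]; exact M.add_mem hx' hy'⟩
    | inv x _ hx =>
      obtain ⟨x', rfl, hx'⟩ := hx
      exact ⟨x'⁻¹, map_inv₀ _ _, by
        rw [Derivation.leibniz_inv]; exact M.smul_mem _ hx'⟩
    | mul x y _ _ hx hy =>
      obtain ⟨x', rfl, hx'⟩ := hx
      obtain ⟨y', rfl, hy'⟩ := hy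
      exact ⟨x' * y', map_mul _ _ _, by
        rw [Derivation.leibniz]; exact M.add_mem (M.smul_mem _ hy') (M.smul_mem _ hx')⟩
  have hall : ∀ y : ResidueField A₁, KaehlerDifferential.D k (ResidueField A₁) y ∈ M := by
    intro y
    obtain ⟨x, rfl⟩ := residue_surjective y
    obtain ⟨y', hy', hy'M⟩ := key _ (hgen x x.2)
    rw [← hιf] at hy'
    rw [← ιf.injective hy']
    exact hy'M
  rw [eq_top_iff, ← KaehlerDifferential.span_range_derivation, Submodule.span_le]
  rintro _ ⟨y, rfl⟩
  exact hall y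

end Groth.Agent.Lib.Helper7.Smoothing
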