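import Mathlib
import Groth.Prelude.Def_CAlgX
import Groth.Agent.Lib.Helper7Smoothing64
import Groth.Agent.Lib.Helper7Smoothing65
import Groth.Agent.Lib.Helper7Smoothing71

/-!
# Helper7Smoothing72 (helper7): the Artinian subalgebra with a differential basis (towards Stacks 07F3)
-/
set_option autoImplicit false
set_option linter.style.haveILetI false
universe u
open Function IsLocalRing MvPolynomial

namespace Groth.Agent.Lib.Helper7.Smoothing

theorem isLocalRing_quotient_pow (L : Type*) [CommRing L] [IsLocalRing L] (n : ℕ) (hn : 0 < n) :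
    IsLocalRing (L ⧸ maximalIdeal L ^ n) := by
  haveI : Nontrivial (L ⧸ maximalIdeal L ^ n) := by
    rw [Ideal.Quotient.nontrivial_iff]
    intro h
    have h1 : maximalIdeal L ^ n ≤ maximalIdeal L := Ideal.pow_le_self hn.ne'
    exact (maximalIdeal.isMaximal L).ne_top (top_le_iff.mp (h ▸ h1))
  exact IsLocalRing.of_surjective' _ Ideal.Quotient.mk_surjective

theorem maximalIdeal_quotient_eq_map {L : Type*} [CommRing L] [IsLocalRing L] (I : Ideal L)
    [IsLocalRing (L ⧸ I)] : maximalIdeal (L ⧸ I) = (maximalIdeal L).map (Ideal.Quotient.mk I) := by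
  haveI : IsLocalHom (Ideal.Quotient.mk I) :=
    IsLocalHom.of_surjective _ Ideal.Quotient.mk_surjective
  apply le_antisymm
  · intro y hy
    obtain ⟨l, rfl⟩ := Ideal.Quotient.mk_surjective y
    have hl : l ∈ maximalIdeal L := by
      by_contra h
      have hu : IsUnit l := by
        by_contra hnu
        exact h hnu
      exact hy (hu.map _)
    exact Ideal.mem_map_of_mem _ hl
  · rw [Ideal.map_le_iff_le_comap]
    intro l hl
    rw [Ideal.mem_comap]
    intro hu
    exact hl (isUnit_of_map_unit (Ideal.Quotient.mk I) l hu)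

theorem mk_mem_maximalIdeal_iff {L : Type*} [CommRing L] [IsLocalRing L] (I : Ideal L)
    [IsLocalRing (L ⧸ I)] (l : L) :
    Ideal.Quotient.mk I l ∈ maximalIdeal (L ⧸ I) ↔ l ∈ maximalIdeal L := by
  haveI : IsLocalHom (Ideal.Quotient.mk I) :=
    IsLocalHom.of_surjective _ Ideal.Quotient.mk_surjective
  constructor
  · intro h
    by_contra hl
    have hu : IsUnit l := by
      by_contra hnu
      exact hl hnu
    exact h (hu.map _)
  · intro hl hu
    exact hl (isUnit_of_map_unit (Ideal.Quotient.mk I) l hu)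

/-- the Artinian subalgebra together with a differential basis of its residue field. -/
theorem exists_artin_with_basis {k Λ : Type u} [Field k] (p₀ : ℕ) [Fact p₀.Prime] [CharP k p₀]
    [CommRing Λ] [Algebra k Λ] [IsNoetherianRing Λ] (q : Ideal Λ) [q.IsPrime]
    (hsm : CAlgX.IsAdicFormallySmooth k (Localization.AtPrime q)
      (maximalIdeal (Localization.AtPrime q)))
    (n : ℕ) (hn : 0 < n) (E : Finset Λ) :
    ∃ (A₁ : Subalgebra k (Localization.AtPrime q ⧸ maximalIdeal (Localization.AtPrime q) ^ n))
      (_ : IsLocalRing A₁) (t : ℕ) (lam : Fin t → Λ)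
      (hlam : ∀ j, Ideal.Quotient.mk (maximalIdeal (Localization.AtPrime q) ^ n)
        (algebraMap Λ (Localization.AtPrime q) (lam j)) ∈ A₁),
      IsArtinianRing A₁ ∧
      Module.Flat A₁ (Localization.AtPrime q ⧸ maximalIdeal (Localization.AtPrime q) ^ n) ∧
      Algebra.EssFiniteType k A₁ ∧
      (maximalIdeal A₁).map (algebraMap A₁
          (Localization.AtPrime q ⧸ maximalIdeal (Localization.AtPrime q) ^ n)) =
        (maximalIdeal (Localization.AtPrime q)).map (Ideal.Quotient.mk _) ∧
      (∀ y ∈ E, Ideal.Quotient.mk (maximalIdeal (Localization.AtPrime q) ^ n)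
        (algebraMap Λ (Localization.AtPrime q) y) ∈ A₁) ∧
      LinearIndependent (ResidueField A₁) (fun j =>
        KaehlerDifferential.D k (ResidueField A₁) (residue A₁ ⟨_, hlam j⟩)) ∧
      Submodule.span (ResidueField A₁) (Set.range fun j =>
        KaehlerDifferential.D k (ResidueField A₁) (residue A₁ ⟨_, hlam j⟩)) = ⊤ := by
  classical
  haveI hlocΛb : IsLocalRing (Localization.AtPrime q ⧸ maximalIdeal (Localization.AtPrime q) ^ n) :=
    isLocalRing_quotient_pow _ n hn
  have hmaxΛb := maximalIdeal_quotient_eq_map (maximalIdeal (Localization.AtPrime q) ^ n)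
  haveI : IsArtinianRing
      (Localization.AtPrime q ⧸ maximalIdeal (Localization.AtPrime q) ^ n) := by
    rw [isArtinianRing_iff_isNilpotent_maximalIdeal]
    refine ⟨n, ?_⟩
    rw [hmaxΛb, ← Ideal.map_pow, Ideal.map_quotient_self]
    rfl
  -- finiteness of `H₁`
  have hH : Module.Finite
      (ResidueField (Localization.AtPrime q ⧸ maximalIdeal (Localization.AtPrime q) ^ n))
      (Algebra.H1Cotangent k
        (ResidueField (Localization.AtPrime q ⧸ maximalIdeal (Localization.AtPrime q) ^ n))) := by
    refine finite_h1Cotangent_of_isAdicFormallySmooth (L := Localization.AtPrime q) p₀ ?_ ?_ hsm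
    · intro y
      obtain ⟨y', rfl⟩ := residue_surjective y
      obtain ⟨l, rfl⟩ := Ideal.Quotient.mk_surjective y'
      exact ⟨l, rfl⟩
    · intro x hx
      change residue _ (Ideal.Quotient.mk _ x) = 0
      rw [residue_eq_zero_iff, mk_mem_maximalIdeal_iff]
      exact hx
  -- the map `θ`
  obtain ⟨θ, hθ⟩ : ∃ θ : Λ →ₐ[k]
      (Localization.AtPrime q ⧸ maximalIdeal (Localization.AtPrime q) ^ n),
      ∀ y, θ y = Ideal.Quotient.mk (maximalIdeal (Localization.AtPrime q) ^ n)
        (algebraMap Λ (Localization.AtPrime q) y) :=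
    ⟨(Ideal.Quotient.mkₐ k _).comp (IsScalarTower.toAlgHom k Λ (Localization.AtPrime q)),
      fun _ => rfl⟩
  have hfrac : ∀ x : Localization.AtPrime q ⧸ maximalIdeal (Localization.AtPrime q) ^ n,
      ∃ a s : Λ, IsUnit (θ s) ∧ x * θ s = θ a := by
    intro x
    obtain ⟨l, rfl⟩ := Ideal.Quotient.mk_surjective x
    obtain ⟨⟨a, s⟩, has⟩ := IsLocalization.surj q.primeCompl l
    dsimp only at has
    refine ⟨a, s, ?_, ?_⟩
    · rw [hθ]
      exact (IsLocalization.map_units (Localization.AtPrime q) s).map _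
    · rw [hθ, hθ, ← map_mul, has]
  obtain ⟨A₁, hloc, G, hE, hart, hflat, hess, hmax, hGA, hres⟩ :=
    exists_artin_subalgebra p₀ hH θ hfrac (E.image θ)
  haveI := hloc
  haveI : IsLocalHom (algebraMap A₁
      (Localization.AtPrime q ⧸ maximalIdeal (Localization.AtPrime q) ^ n)) :=
    ((IsLocalRing.local_hom_TFAE (algebraMap A₁ _)).out 0 2).mpr hmax.le
  -- the differentials span
  have hspan := span_D_residue_of_adjoin A₁ (fun g : G => θ g) (fun g => hGA g g.2) (by
    intro x hx
    have := hres x hx
    rwa [Set.image_eq_range] at this)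
  obtain ⟨t, a, hli, hsp⟩ := exists_fin_subfamily_basis (K := ResidueField A₁) _ hspan
  refine ⟨A₁, hloc, t, fun j => (a j : Λ), fun j => by rw [← hθ]; exact hGA _ (a j).2, hart,
    hflat, hess, by rw [hmax, hmaxΛb], ?_, ?_, ?_⟩
  · intro y hy
    rw [← hθ]
    exact hE (Finset.mem_coe.mpr (Finset.mem_image_of_mem _ hy))
  · convert hli using 1
    funext j
    simp only [Function.comp_apply, hθ]
  · convert hsp using 2
    congr 1
    funext j
    simp only [Function.comp_apply, hθ]

end Groth.Agent.Lib.Helper7.Smoothing
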