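import Mathlib
import Groth.Prelude.Def_CAlgX
import Groth.Agent.Lib.Helper7Smoothing68
import Groth.Agent.Lib.Helper7Smoothing69
import Groth.Agent.Lib.Helper7Smoothing70
import Groth.Agent.Lib.Helper7Smoothing72

/-!
# Helper7Smoothing73 (helper7): the local structure theorem (Stacks 07F3, étale form)

`exists_local_structure_charp`: for a Noetherian `k`-algebra `Λ` (char `p`) and a prime `𝔮` with `Λ_𝔮` regular and
formally smooth over `k`, and `n > 0`, there are a polynomial `k`-algebra `R → Λ` with `𝔭 = 𝔮 ∩ R`, elements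
`z` of `R` forming regular systems of parameters of `R_𝔭` and `Λ_𝔮`, and a `k`-subalgebra
`A₁ ⊆ Λ_𝔮/𝔪ⁿ`, faithfully flat under `Λ_𝔮/𝔪ⁿ`, étale over `R_𝔭/𝔪ⁿ`, containing the images of a given finite set.
-/
set_option autoImplicit false
set_option linter.style.haveILetI false
set_option maxHeartbeats 1000000
universe u
open Function IsLocalRing MvPolynomial RingTheory.Sequence

namespace Groth.Agent.Lib.Helper7.Smoothing

theorem exists_local_structure_charp {k Λ : Type u} [Field k] (p₀ : ℕ) [Fact p₀.Prime] [CharP k p₀]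
    [CommRing Λ] [Algebra k Λ] [IsNoetherianRing Λ] (q : Ideal Λ) [q.IsPrime]
    [IsRegularLocalRing (Localization.AtPrime q)]
    (hsm : CAlgX.IsAdicFormallySmooth k (Localization.AtPrime q)
      (maximalIdeal (Localization.AtPrime q)))
    (hext : DerivExt k (Localization.AtPrime q) q.ResidueField)
    (n : ℕ) (hn : 0 < n) (E₀ : Finset Λ) :
    ∃ (R : Type u) (_ : CommRing R) (_ : Algebra k R) (_ : Algebra.FinitePresentation k R)
      (_ : Algebra.FormallySmooth k R) (ev : R →ₐ[k] Λ) (p : Ideal R) (_ : p.IsPrime)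
      (_ : p = q.comap (ev : R →+* Λ)) (d : ℕ) (z : Fin d → R),
      ringKrullDim (Localization.AtPrime q) = d ∧ (∀ i, ev (z i) ∈ q) ∧
      IsWeaklyRegular (Localization.AtPrime p)
        (List.ofFn fun i => algebraMap R (Localization.AtPrime p) (z i)) ∧
      Ideal.span (Set.range fun i => algebraMap R (Localization.AtPrime p) (z i)) =
        maximalIdeal (Localization.AtPrime p) ∧
      Ideal.span (Set.range fun i => algebraMap Λ (Localization.AtPrime q) (ev (z i))) =
        maximalIdeal (Localization.AtPrime q) ∧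
      ∃ (A₁ : Subalgebra k (Localization.AtPrime q ⧸ maximalIdeal (Localization.AtPrime q) ^ n))
        (wA : (Localization.AtPrime p ⧸ maximalIdeal (Localization.AtPrime p) ^ n) →+* A₁),
        Module.FaithfullyFlat A₁
          (Localization.AtPrime q ⧸ maximalIdeal (Localization.AtPrime q) ^ n) ∧
        (∀ y ∈ E₀, Ideal.Quotient.mk (maximalIdeal (Localization.AtPrime q) ^ n)
          (algebraMap Λ (Localization.AtPrime q) y) ∈ A₁) ∧ wA.Etale ∧
        ∀ r : R, ((wA (Ideal.Quotient.mk _ (algebraMap R (Localization.AtPrime p) r)) : A₁) :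
          Localization.AtPrime q ⧸ maximalIdeal (Localization.AtPrime q) ^ n) =
          Ideal.Quotient.mk _ (algebraMap Λ (Localization.AtPrime q) (ev r)) := by
  classical
  -- generators of `q`
  obtain ⟨N, gq, hgq⟩ := Submodule.fg_iff_exists_fin_generating_family.mp
    (IsNoetherian.noetherian q)
  have hgq' : Ideal.span (Set.range gq) = q := hgq
  obtain ⟨A₁, hloc, t, lam, hlam, hart, hflat, hess, hmax, hE, hli, hsp⟩ :=
    exists_artin_with_basis p₀ q hsm n hn (E₀ ∪ Finset.univ.image gq)
  haveI := hloc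
  haveI := hart
  haveI := hess
  haveI := hflat
  haveI hlocΛb : IsLocalRing (Localization.AtPrime q ⧸ maximalIdeal (Localization.AtPrime q) ^ n) :=
    isLocalRing_quotient_pow _ n hn
  have hmaxΛb := maximalIdeal_quotient_eq_map (maximalIdeal (Localization.AtPrime q) ^ n)
  have hmax' : (maximalIdeal A₁).map (algebraMap A₁
      (Localization.AtPrime q ⧸ maximalIdeal (Localization.AtPrime q) ^ n)) =
      maximalIdeal (Localization.AtPrime q ⧸ maximalIdeal (Localization.AtPrime q) ^ n) := by
    rw [hmax, hmaxΛb]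
  haveI hlocA : IsLocalHom (algebraMap A₁
      (Localization.AtPrime q ⧸ maximalIdeal (Localization.AtPrime q) ^ n)) :=
    ((IsLocalRing.local_hom_TFAE (algebraMap A₁ _)).out 0 2).mpr hmax'.le
  haveI hff : Module.FaithfullyFlat A₁
      (Localization.AtPrime q ⧸ maximalIdeal (Localization.AtPrime q) ^ n) :=
    Module.FaithfullyFlat.of_flat_of_isLocalHom (A := A₁)
      (B := Localization.AtPrime q ⧸ maximalIdeal (Localization.AtPrime q) ^ n)
  -- the map `θ`
  obtain ⟨θ, hθ⟩ : ∃ θ : Λ →ₐ[k]
      (Localization.AtPrime q ⧸ maximalIdeal (Localization.AtPrime q) ^ n),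
      ∀ y, θ y = Ideal.Quotient.mk (maximalIdeal (Localization.AtPrime q) ^ n)
        (algebraMap Λ (Localization.AtPrime q) y) :=
    ⟨(Ideal.Quotient.mkₐ k _).comp (IsScalarTower.toAlgHom k Λ (Localization.AtPrime q)),
      fun _ => rfl⟩
  have hθq : ∀ y, θ y ∈ maximalIdeal
      (Localization.AtPrime q ⧸ maximalIdeal (Localization.AtPrime q) ^ n) ↔ y ∈ q := by
    intro y
    rw [hθ, mk_mem_maximalIdeal_iff]
    exact IsLocalization.AtPrime.to_map_mem_maximal_iff (Localization.AtPrime q) q y
  have hAmax : ∀ (y : Localization.AtPrime q ⧸ maximalIdeal (Localization.AtPrime q) ^ n)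
      (hy : y ∈ A₁), (⟨y, hy⟩ : A₁) ∈ maximalIdeal A₁ ↔ y ∈ maximalIdeal _ := by
    intro y hy
    rw [mem_maximalIdeal, mem_maximalIdeal, mem_nonunits_iff, mem_nonunits_iff, not_iff_not]
    exact (isUnit_map_iff (algebraMap A₁ _) (⟨y, hy⟩ : A₁)).symm
  have hlamA : ∀ j, θ (lam j) ∈ A₁ := fun j => by rw [hθ]; exact hlam j
  have hgqA : ∀ l, θ (gq l) ∈ A₁ := fun l => by
    rw [hθ]
    exact hE _ (Finset.mem_union_right _ (Finset.mem_image_of_mem _ (Finset.mem_univ l)))
  -- the `k[X]`-algebra structure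
  letI algR₁Λ : Algebra (MvPolynomial (Fin t) k) Λ :=
    (aeval lam : MvPolynomial (Fin t) k →ₐ[k] Λ).toAlgebra
  have halgR₁ : ∀ x, algebraMap (MvPolynomial (Fin t) k) Λ x = aeval lam x := fun _ => rfl
  haveI towerR₁ : IsScalarTower k (MvPolynomial (Fin t) k) Λ :=
    IsScalarTower.of_algebraMap_eq (fun c => ((aeval lam).commutes c).symm)
  have hmemR₁ : ∀ x : MvPolynomial (Fin t) k, θ (aeval lam x) ∈ A₁ := by
    intro x
    induction x using MvPolynomial.induction_on with
    | C a =>
      rw [aeval_C, AlgHom.commutes]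
      exact A₁.algebraMap_mem a
    | add x y hx hy => rw [map_add, map_add]; exact A₁.add_mem hx hy
    | mul_X x j hx =>
      rw [map_mul, map_mul, aeval_X]
      exact A₁.mul_mem hx (hlamA j)
  -- the map to the residue field
  obtain ⟨lb, hlb⟩ : ∃ lb : Fin t → ResidueField A₁,
      ∀ j, lb j = residue A₁ ⟨_, hlam j⟩ := ⟨_, fun _ => rfl⟩
  let Φ : MvPolynomial (Fin t) k →ₐ[k] ResidueField A₁ :=
    (IsScalarTower.toAlgHom k A₁ (ResidueField A₁)).comp
      (AlgHom.codRestrict (θ.comp (aeval lam)) A₁ hmemR₁)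
  have hΦ : ∀ x, Φ x = residue A₁ ⟨θ (aeval lam x), hmemR₁ x⟩ := fun _ => rfl
  have hΦeq : Φ = aeval lb := by
    refine MvPolynomial.algHom_ext fun j => ?_
    rw [hΦ, aeval_X (R := k) lb, hlb]
    congr 2
    rw [aeval_X, hθ]
  have hkey : ∀ x : MvPolynomial (Fin t) k, aeval lam x ∈ q ↔ aeval lb x = 0 := by
    intro x
    rw [← hΦeq, hΦ, residue_eq_zero_iff, hAmax, hθq]
  have hT : ∀ x : MvPolynomial (Fin t) k,
      algebraMap (MvPolynomial (Fin t) k) q.ResidueField x = 0 →
      ∀ j, algebraMap (MvPolynomial (Fin t) k) q.ResidueField (pderiv j x) = 0 := by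
    intro x hx j
    rw [IsScalarTower.algebraMap_apply (MvPolynomial (Fin t) k) Λ q.ResidueField,
      Ideal.algebraMap_residueField_eq_zero, halgR₁] at hx ⊢
    rw [hkey] at hx ⊢
    refine aeval_pderiv_eq_zero_of_linearIndependent lb ?_ x hx j
    simpa only [hlb] using hli
  obtain ⟨r, x, hxq, hxgen, hxind⟩ := exists_indep_generators q hext hT
  obtain ⟨m', f, p, hpprime, hp, hdim, hevz, hwr, hzW, hflatW, hzL⟩ :=
    exists_regular_parameters q x hxq
      (fun g hg => by
        obtain ⟨s, hs, hsg⟩ := hxgen g hg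
        exact ⟨s, hs, hsg⟩)
      (fun c hc => hxind c (by
        simpa only [IsScalarTower.algebraMap_apply (MvPolynomial (Fin t) k) Λ
          (Localization.AtPrime q)] using hc))
      gq hgq'
  haveI := hpprime
  -- notation
  obtain ⟨ev, hev⟩ : ∃ ev : MvPolynomial (Fin m') (MvPolynomial (Fin t) k) →ₐ[k] Λ,
      ∀ y, ev y = (aeval (gq ∘ f) :
        MvPolynomial (Fin m') (MvPolynomial (Fin t) k) →ₐ[MvPolynomial (Fin t) k] Λ) y :=
    ⟨(aeval (gq ∘ f) : MvPolynomial (Fin m') (MvPolynomial (Fin t) k) →ₐ[MvPolynomial (Fin t) k]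
      Λ).restrictScalars k, fun _ => rfl⟩
  have hevR : (ev : MvPolynomial (Fin m') (MvPolynomial (Fin t) k) →+* Λ) =
      ((aeval (gq ∘ f) : MvPolynomial (Fin m') (MvPolynomial (Fin t) k) →ₐ[MvPolynomial (Fin t) k]
      Λ) : MvPolynomial (Fin m') (MvPolynomial (Fin t) k) →+* Λ) := RingHom.ext hev
  have hp' : p = q.comap (ev : MvPolynomial (Fin m') (MvPolynomial (Fin t) k) →+* Λ) := by
    rw [hevR]; exact hp
  have hmemR : ∀ y : MvPolynomial (Fin m') (MvPolynomial (Fin t) k), θ (ev y) ∈ A₁ := by
    intro y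
    induction y using MvPolynomial.induction_on with
    | C a =>
      rw [hev, aeval_C, halgR₁]
      exact hmemR₁ a
    | add x y hx hy => rw [map_add, map_add]; exact A₁.add_mem hx hy
    | mul_X x j hx =>
      rw [map_mul, map_mul]
      refine A₁.mul_mem hx ?_
      rw [hev, aeval_X]
      exact hgqA _
  -- the local ring `W`
  letI algWL : Algebra (Localization.AtPrime p) (Localization.AtPrime q) :=
    (Localization.localRingHom p q _ hp).toAlgebra
  haveI : IsLocalHom (algebraMap (Localization.AtPrime p) (Localization.AtPrime q)) :=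
    Localization.isLocalHom_localRingHom p q _ hp
  haveI : Module.Flat (Localization.AtPrime p) (Localization.AtPrime q) := hflatW
  have hWLmap : ∀ y : MvPolynomial (Fin m') (MvPolynomial (Fin t) k),
      algebraMap (Localization.AtPrime p) (Localization.AtPrime q)
        (algebraMap _ (Localization.AtPrime p) y) =
      algebraMap Λ (Localization.AtPrime q) (ev y) := by
    intro y
    rw [hev]
    exact Localization.localRingHom_to_map p q _ hp y
  haveI : IsScalarTower k (Localization.AtPrime p) (Localization.AtPrime q) := by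
    refine IsScalarTower.of_algebraMap_eq fun c => ?_
    rw [IsScalarTower.algebraMap_apply k (MvPolynomial (Fin m') (MvPolynomial (Fin t) k))
      (Localization.AtPrime p), hWLmap, AlgHom.commutes,
      ← IsScalarTower.algebraMap_apply k Λ (Localization.AtPrime q)]
  have hWL : (maximalIdeal (Localization.AtPrime p)).map
      (algebraMap (Localization.AtPrime p) (Localization.AtPrime q)) =
      maximalIdeal (Localization.AtPrime q) := by
    rw [← hzW, Ideal.map_span, ← Set.range_comp, ← hzL]
    congr 2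
    funext i
    rw [Function.comp_apply, hWLmap, hev]
  have hW : ∀ w : Localization.AtPrime p,
      Ideal.Quotient.mk (maximalIdeal (Localization.AtPrime q) ^ n)
        (algebraMap (Localization.AtPrime p) (Localization.AtPrime q) w) ∈ A₁ := by
    intro w
    obtain ⟨⟨a, s⟩, has⟩ := IsLocalization.surj p.primeCompl w
    dsimp only at has
    have h1 : Ideal.Quotient.mk (maximalIdeal (Localization.AtPrime q) ^ n)
        (algebraMap (Localization.AtPrime p) (Localization.AtPrime q) w) * θ (ev s) =
        θ (ev a) := by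
      rw [hθ, hθ, ← hWLmap, ← hWLmap, ← map_mul, ← map_mul, has]
    have hs : (s : MvPolynomial (Fin m') (MvPolynomial (Fin t) k)) ∉ p := s.2
    have hsu : IsUnit (⟨θ (ev s), hmemR s⟩ : A₁) := by
      by_contra hnu
      have h2 : (⟨θ (ev s), hmemR s⟩ : A₁) ∈ maximalIdeal A₁ := hnu
      rw [hAmax, hθq] at h2
      exact hs (hp' ▸ h2)
    obtain ⟨u, hu⟩ := hsu
    have h3 : θ (ev s) * ((↑u⁻¹ : A₁) :
        Localization.AtPrime q ⧸ maximalIdeal (Localization.AtPrime q) ^ n) = 1 := by
      have := congrArg (fun a : A₁ => (a :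
        Localization.AtPrime q ⧸ maximalIdeal (Localization.AtPrime q) ^ n)) (Units.mul_inv u)
      rw [hu] at this
      exact this
    have h4 : Ideal.Quotient.mk (maximalIdeal (Localization.AtPrime q) ^ n)
        (algebraMap (Localization.AtPrime p) (Localization.AtPrime q) w) =
        θ (ev a) * ((↑u⁻¹ : A₁) :
          Localization.AtPrime q ⧸ maximalIdeal (Localization.AtPrime q) ^ n) := by
      rw [← h1, mul_assoc, h3, mul_one]
    rw [h4]
    exact A₁.mul_mem (hmemR a) (↑u⁻¹ : A₁).2
  -- étaleness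
  obtain ⟨wA, hwAet, hwA⟩ := exists_etale_quotient_map hWL n hn
    (maximalIdeal (Localization.AtPrime q) ^ n) rfl A₁ hflat hmax' hW
    (fun j : Fin t => algebraMap (MvPolynomial (Fin m') (MvPolynomial (Fin t) k))
      (Localization.AtPrime p) (C (X j))) (by
      rw [← hsp]
      congr 2
      funext j
      congr 2
      apply Subtype.ext
      change Ideal.Quotient.mk _ _ = Ideal.Quotient.mk _ _
      rw [hWLmap, hev, aeval_C, halgR₁, aeval_X])
  refine ⟨MvPolynomial (Fin m') (MvPolynomial (Fin t) k), inferInstance, inferInstance,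
    Algebra.FinitePresentation.trans k (MvPolynomial (Fin t) k) _,
    Algebra.FormallySmooth.comp k (MvPolynomial (Fin t) k) _, ev, p, hpprime, hp', r + m',
    Fin.append (fun i => C (x i)) X, hdim, ?_, hwr, hzW, ?_, A₁, wA, hff, ?_, hwAet, ?_⟩
  · intro i
    rw [hev]
    exact hevz i
  · simpa only [hev] using hzL
  · intro y hy
    exact hE y (Finset.mem_union_left _ hy)
  · intro y
    rw [hwA, hWLmap]

end Groth.Agent.Lib.Helper7.Smoothing
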