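import Mathlib
import Groth.Agent.S2109
import Groth.Agent.Lib.Helper7Smoothing53

/-!
# Helper7Smoothing74 (helper7): the multipliers (Stacks 07F5, steps 11–13)

* `exists_ann_multiplier`: for `t` regular modulo `J` in `Λ_𝔮`, there is `s ∉ 𝔮` such that every
  `γ = l s t` (`l ∉ 𝔮`) satisfies `(J : γ²) ⊆ (J : γ)`.
* `JJ_eq_of_units`.
* `exists_multipliers`: inductive construction of a polynomial extension `T ⊇ R`, `T → Λ` and
  multipliers `u_i` such that `γ_i = z_i u_i` satisfy the annihilator conditions of S6822 in `T` and `Λ`.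
-/
set_option autoImplicit false
set_option linter.style.haveILetI false
set_option maxHeartbeats 1000000
universe u
open Function IsLocalRing RingTheory.Sequence Polynomial
open Groth.Agent.S2109

namespace Groth.Agent.Lib.Helper7.Smoothing

theorem exists_ann_multiplier {Λ : Type u} [CommRing Λ] [IsNoetherianRing Λ] (q : Ideal Λ)
    [q.IsPrime] (J : Ideal Λ) (t : Λ)
    (hreg : ∀ y : Localization.AtPrime q, algebraMap Λ (Localization.AtPrime q) t * y ∈
      J.map (algebraMap Λ (Localization.AtPrime q)) →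
      y ∈ J.map (algebraMap Λ (Localization.AtPrime q))) :
    ∃ s ∈ q.primeCompl, ∀ l ∈ q.primeCompl, ∀ x : Λ,
      (l * s * t) ^ 2 * x ∈ J → (l * s * t) * x ∈ J := by
  obtain ⟨s, hs, hsx⟩ := exists_mem_primeCompl_mul_mem q J
  refine ⟨s, hs, fun l hl x hx => ?_⟩
  have h1 : algebraMap Λ (Localization.AtPrime q) t *
      (algebraMap Λ (Localization.AtPrime q) t *
        (algebraMap Λ (Localization.AtPrime q) ((l * s) ^ 2) *
          algebraMap Λ (Localization.AtPrime q) x)) ∈
      J.map (algebraMap Λ (Localization.AtPrime q)) := by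
    rw [← map_mul, ← map_mul, ← map_mul]
    have : t * (t * ((l * s) ^ 2 * x)) = (l * s * t) ^ 2 * x := by ring
    rw [this]
    exact Ideal.mem_map_of_mem _ hx
  have h2 := hreg _ (hreg _ h1)
  have hu : IsUnit (algebraMap Λ (Localization.AtPrime q) ((l * s) ^ 2)) :=
    IsLocalization.map_units (Localization.AtPrime q)
      (⟨(l * s) ^ 2, pow_mem (mul_mem hl hs) 2⟩ : q.primeCompl)
  have h3 := (Ideal.unit_mul_mem_iff_mem _ hu).mp h2
  have h4 := hsx x h3
  have : l * s * t * x = (l * t) * (s * x) := by ring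
  rw [this]
  exact J.mul_mem_left _ h4

theorem JJ_eq_of_units {L : Type u} [CommRing L] {d : ℕ} (e : ℕ) (y b : Fin d → L) (i : Fin d)
    (h : ∀ l : Fin d, (l : ℕ) < (i : ℕ) → ∃ u : L, IsUnit u ∧ b l = u * y l) :
    JJ e b i = JJ e y i := by
  unfold JJ
  apply le_antisymm
  · rw [Ideal.span_le]
    rintro _ ⟨l, rfl⟩
    obtain ⟨u, -, hu⟩ := h l l.2
    simp only [hu, mul_pow]
    exact Ideal.mul_mem_left _ _ (Ideal.subset_span ⟨l, rfl⟩)
  · rw [Ideal.span_le]
    rintro _ ⟨l, rfl⟩
    obtain ⟨u, hu1, hu⟩ := h l l.2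
    obtain ⟨u', rfl⟩ := hu1
    have : y l ^ e = (↑u'⁻¹ : L) ^ e * b l ^ e := by
      rw [hu, mul_pow, ← mul_assoc, ← mul_pow, Units.inv_mul, one_pow, one_mul]
    simp only [this]
    exact Ideal.mul_mem_left _ _ (Ideal.subset_span ⟨l, rfl⟩)

/-- regularity of `t_i` modulo `JJ e b i` in the localization, when `b` differs from the regular
sequence `y` by units. -/
theorem reg_mod_JJ_of_units {Λ : Type u} [CommRing Λ] (q : Ideal Λ) [q.IsPrime] {d : ℕ}
    (y b : Fin d → Λ) (e : ℕ) (he : 0 < e)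
    (hreg : IsWeaklyRegular (Localization.AtPrime q)
      (List.ofFn fun i => algebraMap Λ (Localization.AtPrime q) (y i)))
    (i : Fin d)
    (h : ∀ l : Fin d, (l : ℕ) < (i : ℕ) → ∃ u : Λ, u ∉ q ∧ b l = u * y l)
    (w : Localization.AtPrime q)
    (hw : algebraMap Λ (Localization.AtPrime q) (y i) * w ∈
      (JJ e b i).map (algebraMap Λ (Localization.AtPrime q))) :
    w ∈ (JJ e b i).map (algebraMap Λ (Localization.AtPrime q)) := by
  have hJ : (JJ e b i).map (algebraMap Λ (Localization.AtPrime q)) =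
      JJ e (fun l => algebraMap Λ (Localization.AtPrime q) (y l)) i := by
    rw [map_JJ]
    refine JJ_eq_of_units e _ _ i fun l hl => ?_
    obtain ⟨u, hu, hbl⟩ := h l hl
    exact ⟨algebraMap Λ (Localization.AtPrime q) u,
      IsLocalization.map_units (Localization.AtPrime q) (⟨u, hu⟩ : q.primeCompl), by
        rw [hbl, map_mul]⟩
  rw [hJ] at hw ⊢
  refine key_reg_gen (fun l => algebraMap Λ (Localization.AtPrime q) (y l)) hreg e 1 he
    Nat.one_pos i w ?_
  rw [pow_one]
  exact hw

end Groth.Agent.Lib.Helper7.Smoothing
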