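import Mathlib
import Groth.Agent.S2109
import Groth.Agent.Lib.Helper7Smoothing74

/-!
# Helper7Smoothing75 (helper7): `exists_multipliers` (Stacks 07F5, steps 11–13)
-/
set_option autoImplicit false
set_option linter.style.haveILetI false
set_option maxHeartbeats 1000000
universe u
open Function IsLocalRing RingTheory.Sequence Polynomial
open Groth.Agent.S2109

namespace Groth.Agent.Lib.Helper7.Smoothing

theorem exists_multipliers {R Λ : Type u} [CommRing R] [IsNoetherianRing R] [CommRing Λ]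
    [IsNoetherianRing Λ] [Algebra R Λ] (q : Ideal Λ) [q.IsPrime] {d : ℕ} (z : Fin d → R) (e : ℕ)
    (he : 0 < e)
    (hregR : IsWeaklyRegular (Localization.AtPrime (q.comap (algebraMap R Λ)))
      (List.ofFn fun i => algebraMap R (Localization.AtPrime (q.comap (algebraMap R Λ))) (z i)))
    (hregΛ : IsWeaklyRegular (Localization.AtPrime q)
      (List.ofFn fun i => algebraMap Λ (Localization.AtPrime q) (algebraMap R Λ (z i))))
    (κ₀ : Fin d → Λ) (hκ₀ : ∀ i, κ₀ i ∉ q) (j : ℕ) (hj : j ≤ d) :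
    ∃ (T : Type u) (_ : CommRing T) (_ : Algebra R T) (_ : Algebra.FinitePresentation R T)
      (_ : Algebra.FormallySmooth R T) (_ : Module.Flat R T) (ψ : T →ₐ[R] Λ) (u : Fin d → T)
      (θ : Fin d → Λ),
      (∀ i, θ i ∉ q) ∧ (∀ i : Fin d, (i : ℕ) < j → ψ (u i) = θ i * κ₀ i) ∧
      (∀ i : Fin d, (i : ℕ) < j → ∀ x : T,
        (algebraMap R T (z i) * u i) ^ 2 * x ∈ JJ e (fun l => algebraMap R T (z l) * u l) i →
        (algebraMap R T (z i) * u i) * x ∈ JJ e (fun l => algebraMap R T (z l) * u l) i) ∧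
      (∀ i : Fin d, (i : ℕ) < j → ∀ x : Λ,
        (algebraMap R Λ (z i) * (θ i * κ₀ i)) ^ 2 * x ∈
          JJ e (fun l => algebraMap R Λ (z l) * (θ l * κ₀ l)) i →
        (algebraMap R Λ (z i) * (θ i * κ₀ i)) * x ∈
          JJ e (fun l => algebraMap R Λ (z l) * (θ l * κ₀ l)) i) := by
  classical
  have hq1 : (1 : Λ) ∉ q := fun h =>
    (Ideal.IsPrime.ne_top inferInstance) ((Ideal.eq_top_iff_one q).mpr h)
  induction j with
  | zero =>
    exact ⟨R, inferInstance, inferInstance, inferInstance, inferInstance, inferInstance,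
      Algebra.ofId R Λ, fun _ => 1, fun _ => 1, fun _ => hq1,
      fun i hi => absurd hi (Nat.not_lt_zero _), fun i hi => absurd hi (Nat.not_lt_zero _),
      fun i hi => absurd hi (Nat.not_lt_zero _)⟩
  | succ j ih =>
    obtain ⟨T, _, _, hfp, hfs, hflat, ψ, u, θ, hθ, hψu, haT, haΛ⟩ := ih (by omega)
    haveI := hfp
    haveI := hfs
    haveI := hflat
    haveI : IsNoetherianRing T := Algebra.FiniteType.isNoetherianRing R T
    have hjd : j < d := by omega
    obtain ⟨i0, hi0⟩ : ∃ i0 : Fin d, (i0 : ℕ) = j := ⟨⟨j, hjd⟩, rfl⟩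
    -- the prime of `T`
    obtain ⟨𝔓, h𝔓⟩ : ∃ 𝔓 : Ideal T, 𝔓 = q.comap (ψ : T →+* Λ) := ⟨_, rfl⟩
    haveI : 𝔓.IsPrime := h𝔓 ▸ inferInstance
    have hmem𝔓 : ∀ y, y ∈ 𝔓 ↔ ψ y ∈ q := fun y => by rw [h𝔓]; rfl
    have hp𝔓 : q.comap (algebraMap R Λ) = 𝔓.comap (algebraMap R T) := by
      ext r
      rw [Ideal.mem_comap, Ideal.mem_comap, hmem𝔓, AlgHom.commutes]
    -- weak regularity in `T_𝔓`
    have hregT : IsWeaklyRegular (Localization.AtPrime 𝔓)
        (List.ofFn fun i => algebraMap T (Localization.AtPrime 𝔓) (algebraMap R T (z i))) := by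
      have hfl : (algebraMap R T).Flat := RingHom.flat_algebraMap_iff.mpr inferInstance
      have hfl' := hfl.localRingHom 𝔓 (q.comap (algebraMap R Λ)) hp𝔓
      letI := (Localization.localRingHom (q.comap (algebraMap R Λ)) 𝔓 (algebraMap R T)
        hp𝔓).toAlgebra
      haveI : Module.Flat (Localization.AtPrime (q.comap (algebraMap R Λ)))
        (Localization.AtPrime 𝔓) := hfl'
      have h1 := IsWeaklyRegular.of_flat (S := Localization.AtPrime 𝔓) hregR
      rw [List.map_ofFn] at h1
      have h2 : (⇑(algebraMap (Localization.AtPrime (q.comap (algebraMap R Λ)))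
          (Localization.AtPrime 𝔓)) ∘ fun i =>
          algebraMap R (Localization.AtPrime (q.comap (algebraMap R Λ))) (z i)) =
          fun i => algebraMap T (Localization.AtPrime 𝔓) (algebraMap R T (z i)) :=
        funext fun i => Localization.localRingHom_to_map _ _ _ hp𝔓 (z i)
      rw [h2] at h1
      exact h1
    have hθκ : ∀ l, θ l * κ₀ l ∉ q := fun l h =>
      (Ideal.IsPrime.mem_or_mem inferInstance h).elim (hθ l) (hκ₀ l)
    have huT : ∀ l : Fin d, (l : ℕ) < j → u l ∉ 𝔓 := fun l hl => by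
      rw [hmem𝔓, hψu l hl]
      exact hθκ l
    obtain ⟨sT, hsT, hsTx⟩ := exists_ann_multiplier 𝔓
      (JJ e (fun l => algebraMap R T (z l) * u l) i0) (algebraMap R T (z i0))
      (fun w hw => reg_mod_JJ_of_units 𝔓 (fun l => algebraMap R T (z l))
        (fun l => algebraMap R T (z l) * u l) e he hregT i0
        (fun l hl => ⟨u l, huT l (by omega), mul_comm _ _⟩) w hw)
    have hsT1 := hsTx 1 (Submonoid.one_mem _)
    have hψsT : ψ sT ∉ q := fun h => hsT ((hmem𝔓 sT).mpr h)
    obtain ⟨sΛ, hsΛ, hsΛx⟩ := exists_ann_multiplier q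
      (JJ e (fun l => algebraMap R Λ (z l) * (θ l * κ₀ l)) i0) (algebraMap R Λ (z i0))
      (fun w hw => reg_mod_JJ_of_units q (fun l => algebraMap R Λ (z l))
        (fun l => algebraMap R Λ (z l) * (θ l * κ₀ l)) e he hregΛ i0
        (fun l _ => ⟨θ l * κ₀ l, hθκ l, mul_comm _ _⟩) w hw)
    have hΛ1 := hsΛx (ψ sT * κ₀ i0) (fun h =>
      (Ideal.IsPrime.mem_or_mem inferInstance h).elim hψsT (hκ₀ i0))
    -- new data
    obtain ⟨ψ', hψ'C, hψ'X⟩ : ∃ ψ' : T[X] →ₐ[R] Λ, (∀ a, ψ' (C a) = ψ a) ∧
        ψ' X = sΛ * κ₀ i0 :=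
      ⟨Polynomial.aevalTower ψ (sΛ * κ₀ i0), fun a => Polynomial.aevalTower_C _ _ a,
        Polynomial.aevalTower_X _ _⟩
    obtain ⟨u', hu'⟩ : ∃ u' : Fin d → T[X], u' = fun l => if l = i0 then C sT * X else C (u l) :=
      ⟨_, rfl⟩
    obtain ⟨θ', hθ'⟩ : ∃ θ' : Fin d → Λ, θ' = Function.update θ i0 (ψ sT * sΛ) := ⟨_, rfl⟩
    have hu'0 : u' i0 = C sT * X := by rw [hu']; simp
    have hu'ne : ∀ l, l ≠ i0 → u' l = C (u l) := fun l hl => by rw [hu']; simp [hl]
    have hθ'0 : θ' i0 = ψ sT * sΛ := by rw [hθ', Function.update_self]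
    have hθ'ne : ∀ l, l ≠ i0 → θ' l = θ l := fun l hl => by
      rw [hθ', Function.update_of_ne hl]
    have hne_of_lt : ∀ l : Fin d, (l : ℕ) < j → l ≠ i0 := by
      intro l hl h
      rw [h, hi0] at hl
      omega
    have halgC : ∀ r : R, algebraMap R T[X] r = C (algebraMap R T r) := fun r =>
      Polynomial.algebraMap_apply r
    have hγ'ne : ∀ l, l ≠ i0 → algebraMap R T[X] (z l) * u' l =
        C (algebraMap R T (z l) * u l) := fun l hl => by
      rw [halgC, hu'ne l hl, C_mul]
    have hJT : ∀ i : Fin d, (i : ℕ) ≤ j → JJ e (fun l => algebraMap R T[X] (z l) * u' l) i =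
        (JJ e (fun l => algebraMap R T (z l) * u l) i).map (C : T →+* T[X]) := by
      intro i hi
      rw [map_JJ]
      exact JJ_congr e _ _ i fun l hl => hγ'ne l (hne_of_lt l (by omega))
    have hJΛ : ∀ i : Fin d, (i : ℕ) ≤ j →
        JJ e (fun l => algebraMap R Λ (z l) * (θ' l * κ₀ l)) i =
        JJ e (fun l => algebraMap R Λ (z l) * (θ l * κ₀ l)) i := by
      intro i hi
      exact JJ_congr e _ _ i fun l hl => by rw [hθ'ne l (hne_of_lt l (by omega))]
    refine ⟨T[X], inferInstance, inferInstance, Algebra.FinitePresentation.trans R T T[X],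
      Algebra.FormallySmooth.comp R T T[X], Module.Flat.trans R T T[X], ψ', u', θ', ?_, ?_, ?_, ?_⟩
    · intro i
      by_cases hi : i = i0
      · rw [hi, hθ'0]
        exact fun h => (Ideal.IsPrime.mem_or_mem inferInstance h).elim hψsT hsΛ
      · rw [hθ'ne i hi]
        exact hθ i
    · intro i hi
      by_cases hi' : i = i0
      · rw [hi', hu'0, hθ'0, map_mul, hψ'C, hψ'X]
        ring
      · have hlt : (i : ℕ) < j := by
          have : (i : ℕ) ≠ j := fun h => hi' (Fin.ext (by rw [h, hi0]))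
          omega
        rw [hu'ne i hi', hθ'ne i hi', hψ'C]
        exact hψu i hlt
    · intro i hi x hx
      by_cases hi' : i = i0
      · subst hi'
        rw [hJT i (by omega)] at hx ⊢
        have hg : algebraMap R T[X] (z i) * u' i =
            C (1 * sT * algebraMap R T (z i)) * X := by
          rw [halgC, hu'0, one_mul, C_mul]
          ring
        rw [hg] at hx ⊢
        rw [Ideal.mem_map_C_iff] at hx ⊢
        intro m
        have h1 : (C (1 * sT * algebraMap R T (z i)) * X) ^ 2 * x =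
            C ((1 * sT * algebraMap R T (z i)) ^ 2) * (X ^ 2 * x) := by
          rw [C_pow]; ring
        have h2 : C (1 * sT * algebraMap R T (z i)) * X * x =
            C (1 * sT * algebraMap R T (z i)) * (X * x) := by ring
        rw [h2, coeff_C_mul]
        rcases m with _ | m
        · rw [coeff_X_mul_zero, mul_zero]
          exact Ideal.zero_mem _
        · rw [coeff_X_mul]
          have h3 := hx (m + 2)
          rw [h1, coeff_C_mul, coeff_X_pow_mul] at h3
          exact hsT1 _ h3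
      · have hlt : (i : ℕ) < j := by
          have : (i : ℕ) ≠ j := fun h => hi' (Fin.ext (by rw [h, hi0]))
          omega
        rw [hJT i (by omega), hγ'ne i hi'] at hx ⊢
        rw [Ideal.mem_map_C_iff] at hx ⊢
        intro m
        have h3 := hx m
        rw [← C_pow, coeff_C_mul] at h3
        rw [coeff_C_mul]
        exact haT i hlt _ h3
    · intro i hi x hx
      rw [hJΛ i (by omega)] at hx ⊢
      by_cases hi' : i = i0
      · subst hi'
        have hg : algebraMap R Λ (z i) * (θ' i * κ₀ i) =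
            ψ sT * κ₀ i * sΛ * algebraMap R Λ (z i) := by
          rw [hθ'0]; ring
        rw [hg] at hx ⊢
        exact hΛ1 x hx
      · have hlt : (i : ℕ) < j := by
          have : (i : ℕ) ≠ j := fun h => hi' (Fin.ext (by rw [h, hi0]))
          omega
        rw [hθ'ne i hi'] at hx ⊢
        exact haΛ i hlt x hx

end Groth.Agent.Lib.Helper7.Smoothing
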