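import Mathlib
import Groth.Prelude.Def_Smoothing
import Groth.Agent.Lib.Helper7Smoothing50
import Groth.Agent.Lib.Helper7Smoothing51

/-!
# Helper7Smoothing76 (helper7): `exists_BB'`, `exists_BC'` — the construction of Stacks 07F1 with explicit
coordinates `z_ij`, the idempotent `ε` and a uniqueness statement (needed to compare maps in the char-`p` case).
-/

set_option autoImplicit false
set_option linter.style.haveILetI false
set_option maxHeartbeats 1000000
universe u
open Function TensorProduct MvPolynomial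

namespace Groth.Agent.Lib.Helper7.Smoothing

theorem exists_BB' {R A' : Type u} [CommRing R] [CommRing A'] [Algebra R A']
    [Algebra.FinitePresentation R A'] (d r n : ℕ) (ξ : Fin d → A') (α : Fin r → A')
    (hsm : ∀ j, ∀ q' : Ideal A', ∀ _ : q'.IsPrime, α j ∉ q' → Algebra.IsSmoothAt R q') :
    ∃ (B : Type u) (_ : CommRing B) (_ : Algebra A' B) (_ : Algebra R B)
      (_ : IsScalarTower R A' B) (zz : Fin d → Fin r → B), Algebra.FinitePresentation R B ∧
      (∀ i, algebraMap A' B (ξ i) ^ n ∈
        Ideal.span (Set.range fun j => algebraMap A' B (α j))) ∧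
      (∀ (Q : Ideal B) (_ : Q.IsPrime) (j : Fin r), algebraMap A' B (α j) ∉ Q →
        Algebra.IsSmoothAt R Q) ∧
      (∀ (T : Type u) [CommRing T] [Algebra A' T] (t : Fin d → Fin r → T),
        (∀ i, algebraMap A' T (ξ i) ^ n = ∑ j, t i j * algebraMap A' T (α j)) →
        ∃ hB : B →ₐ[A'] T, ∀ i j, hB (zz i j) = t i j) ∧
      (∀ (S : Type u) [CommRing S] (f₁ f₂ : B →+* S),
        (∀ a', f₁ (algebraMap A' B a') = f₂ (algebraMap A' B a')) →
        (∀ i j, f₁ (zz i j) = f₂ (zz i j)) → f₁ = f₂) := by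
  classical
  letI algRB : Algebra R (QuotAlg (bbRel d r n ξ α)) :=
    ((algebraMap A' (QuotAlg (bbRel d r n ξ α))).comp (algebraMap R A')).toAlgebra
  haveI tower : IsScalarTower R A' (QuotAlg (bbRel d r n ξ α)) :=
    IsScalarTower.of_algebraMap_eq (fun _ => rfl)
  have hC : ∀ x : A', algebraMap A' (QuotAlg (bbRel d r n ξ α)) x =
      qmk (bbRel d r n ξ α) (C x) := fun _ => rfl
  refine ⟨QuotAlg (bbRel d r n ξ α), inferInstance, inferInstance, algRB, tower,
    fun i j => qmk (bbRel d r n ξ α) (X (finProdFinEquiv (i, j))),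
    Algebra.FinitePresentation.trans R A' _, ?_, ?_, ?_, ?_⟩
  · intro i
    have h0 : qmk (bbRel d r n ξ α) (C (ξ i) ^ n -
        ∑ j : Fin r, X (finProdFinEquiv (i, j)) * C (α j)) = 0 := qmk_rel (bbRel d r n ξ α) i
    rw [map_sub, sub_eq_zero, map_pow, map_sum] at h0
    rw [hC, h0]
    refine Ideal.sum_mem _ fun j _ => ?_
    rw [map_mul]
    exact Ideal.mul_mem_left _ _ (Ideal.subset_span ⟨j, (hC _).symm⟩)
  · intro Q hQ j hαQ
    have hr : 0 < r := j.pos
    have hdN : d ≤ d * r := Nat.le_mul_of_pos_right d hr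
    have hstd : Smoothing.IsStrictlyStandard A' (QuotAlg (bbRel d r n ξ α))
        (qmk (bbRel d r n ξ α) (C (α j) ^ d)) := by
      refine isStrictlyStandard_quotAlg (bbRel d r n ξ α) d hdN (le_refl d) _ ?_ ?_
      · have hmin := jacobianMinor_bbRel d r n ξ α j
        have h1 : qmk (bbRel d r n ξ α) (C (α j) ^ d) = (-1) ^ d *
            qmk (bbRel d r n ξ α) (Smoothing.jacobianMinor (bbRel d r n ξ α)
              (Fin.castLE (le_refl d)) (fun i => finProdFinEquiv (i, j))) := by
          rw [hmin, map_pow, map_pow, map_neg, neg_pow (qmk (bbRel d r n ξ α) (C (α j))),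
            ← mul_assoc, ← mul_pow]
          simp
        rw [h1]
        exact Ideal.mul_mem_left _ _ (Ideal.subset_span ⟨_, rfl⟩)
      · intro a' _ j' hj'
        exact absurd j'.2 (not_lt.mpr hj')
    haveI : Algebra.IsSmoothAt A' Q :=
      Groth.Agent.Helper18Std.isSmoothAt_of_isStrictlyStandard _ hstd Q (by
        rw [map_pow, ← hC]
        exact fun h => hαQ (Ideal.IsPrime.mem_of_pow_mem hQ _ h))
    haveI : (Q.under A').IsPrime := Ideal.comap_isPrime _ _
    haveI : Algebra.IsSmoothAt R (Q.under A') := hsm j _ inferInstance (fun h => hαQ h)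
    haveI : Q.LiesOver (Q.under A') := Ideal.over_under _
    exact isSmoothAt_comp (Q.under A') Q
  · intro T _ _ t ht
    refine ⟨qlift (bbRel d r n ξ α)
      (aeval (fun v => t (finProdFinEquiv.symm v).1 (finProdFinEquiv.symm v).2)) ?_, ?_⟩
    · intro i
      change aeval (fun v => t (finProdFinEquiv.symm v).1 (finProdFinEquiv.symm v).2)
        (C (ξ i) ^ n - ∑ j : Fin r, X (finProdFinEquiv (i, j)) * C (α j)) = 0
      rw [map_sub, map_pow, map_sum, sub_eq_zero]
      simp only [map_mul, aeval_X, aeval_C, Equiv.symm_apply_apply]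
      exact ht i
    · intro i j
      rw [qlift_qmk, aeval_X, Equiv.symm_apply_apply]
  · intro S _ f₁ f₂ hA hz
    have h1 : f₁.comp (qmk (bbRel d r n ξ α) : MvPolynomial (Fin (d * r)) A' →+* _) =
        f₂.comp (qmk (bbRel d r n ξ α) : MvPolynomial (Fin (d * r)) A' →+* _) := by
      refine MvPolynomial.ringHom_ext (fun a' => ?_) (fun v => ?_)
      · exact hA a'
      · obtain ⟨⟨i, j⟩, rfl⟩ := finProdFinEquiv.surjective v
        exact hz i j
    ext y
    obtain ⟨w, rfl⟩ := qmk_surjective (bbRel d r n ξ α) y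
    exact RingHom.congr_fun h1 w

end Groth.Agent.Lib.Helper7.Smoothing
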