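import Mathlib
import Groth.Prelude.Def_Smoothing
import Groth.Agent.Lib.Helper7Smoothing49
import Groth.Agent.Lib.Helper7Smoothing51
import Groth.Agent.Lib.Helper7Smoothing76

/-!
# Helper7Smoothing77 (helper7): `exists_BC'` — Stacks 07F1 construction with coordinates and uniqueness.
-/

set_option autoImplicit false
set_option linter.style.haveILetI false
set_option maxHeartbeats 1000000
universe u
open Function TensorProduct MvPolynomial

namespace Groth.Agent.Lib.Helper7.Smoothing

theorem exists_BC' {k A : Type u} [Field k] [CommRing A] [Algebra k A]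
    [Algebra.FinitePresentation k A] (d n : ℕ) {r : ℕ} (a : Fin r → A)
    (ha : Submodule.span A (Set.range a) = Smoothing.singularIdeal k A) :
    ∃ (C : Type u) (_ : CommRing C) (_ : Algebra (MvPolynomial (Fin d) k) C) (_ : Algebra k C)
      (_ : IsScalarTower k (MvPolynomial (Fin d) k) C),
      Algebra.FinitePresentation (MvPolynomial (Fin d) k) C ∧
      ∃ (g : A →ₐ[k] C) (c : ℕ) (zz : Fin d → Fin r → C) (ε : C →+* C), 0 < c ∧
        (∀ i, Smoothing.IsStrictlyStandard (MvPolynomial (Fin d) k) C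
          (algebraMap (MvPolynomial (Fin d) k) C (X i ^ c))) ∧
        (∀ x ∈ Smoothing.singularIdeal k A,
          g x ∈ Smoothing.singularIdeal (MvPolynomial (Fin d) k) C) ∧
        (∀ (Λ : Type u) [CommRing Λ] [Algebra k Λ] (φ : A →ₐ[k] Λ) (π : Fin d → Λ)
          (lam : Fin d → Fin r → Λ), (∀ i, π i ^ n = ∑ j, lam i j * φ (a j)) →
          ∃ h : C →ₐ[k] Λ, h.comp g = φ ∧
            (∀ i, h (algebraMap (MvPolynomial (Fin d) k) C (X i)) = π i) ∧
            (∀ i j, h (zz i j) = lam i j) ∧ ∀ y, h (ε y) = h y) ∧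
        (∀ (S : Type u) [CommRing S] (h₁ h₂ : C →+* S), (∀ y, h₁ (ε y) = h₁ y) →
          (∀ y, h₂ (ε y) = h₂ y) → (∀ x, h₁ (g x) = h₂ (g x)) →
          (∀ i, h₁ (algebraMap (MvPolynomial (Fin d) k) C (X i)) =
            h₂ (algebraMap (MvPolynomial (Fin d) k) C (X i))) →
          (∀ i j, h₁ (zz i j) = h₂ (zz i j)) → h₁ = h₂) := by
  classical
  haveI : IsNoetherianRing A := Algebra.FiniteType.isNoetherianRing k A
  have haH : ∀ j, a j ∈ Smoothing.singularIdeal k A := fun j => by
    rw [← ha]; exact Submodule.subset_span ⟨j, rfl⟩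
  -- the algebra B
  obtain ⟨B, _, _, _, _, zzB, hBfp, hBrel, hBsm, hBmap, hBuniq⟩ :=
    exists_BB' (R := MvPolynomial (Fin d) k) (A' := MvPolynomial (Fin d) k ⊗[k] A) d r n
      (fun i => (X i : MvPolynomial (Fin d) k) ⊗ₜ[k] (1 : A))
      (fun j => (1 : MvPolynomial (Fin d) k) ⊗ₜ[k] a j)
      (fun j q' hq' hj => by
        haveI := hq'
        exact isSmoothAt_tensor_of_notMem (MvPolynomial (Fin d) k) (a j) (haH j) q' hj)
  haveI := hBfp
  -- the algebra C
  obtain ⟨C, _, _, _, _, hCfp, ⟨ρ⟩, hC⟩ :=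
    exists_retract_strictlyStandard (R := MvPolynomial (Fin d) k) (B := B)
  haveI := hCfp
  letI algkC : Algebra k C :=
    ((algebraMap (MvPolynomial (Fin d) k) C).comp (algebraMap k (MvPolynomial (Fin d) k))).toAlgebra
  haveI towerkC : IsScalarTower k (MvPolynomial (Fin d) k) C :=
    IsScalarTower.of_algebraMap_eq (fun _ => rfl)
  -- the ring map `A → B`
  obtain ⟨ιA, hιA⟩ : ∃ ιA : A →+* B, ιA = (algebraMap (MvPolynomial (Fin d) k ⊗[k] A) B).comp
      (Algebra.TensorProduct.includeRight (R := k) (A := MvPolynomial (Fin d) k)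
        (B := A)).toRingHom := ⟨_, rfl⟩
  have hιA_apply : ∀ x, ιA x = algebraMap (MvPolynomial (Fin d) k ⊗[k] A) B
      ((1 : MvPolynomial (Fin d) k) ⊗ₜ[k] x) := fun x => by rw [hιA]; rfl
  -- compatibility of the algebra maps
  have hRB : ∀ p : MvPolynomial (Fin d) k, algebraMap (MvPolynomial (Fin d) k) B p =
      algebraMap (MvPolynomial (Fin d) k ⊗[k] A) B (p ⊗ₜ[k] (1 : A)) := by
    intro p
    rw [IsScalarTower.algebraMap_apply (MvPolynomial (Fin d) k) (MvPolynomial (Fin d) k ⊗[k] A) B,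
      Algebra.TensorProduct.algebraMap_apply, Algebra.algebraMap_self_apply]
  have hkB : ∀ c₀ : k, algebraMap (MvPolynomial (Fin d) k) B
      (algebraMap k (MvPolynomial (Fin d) k) c₀) = ιA (algebraMap k A c₀) := by
    intro c₀
    have ht : (algebraMap k (MvPolynomial (Fin d) k) c₀) ⊗ₜ[k] (1 : A) =
        (1 : MvPolynomial (Fin d) k) ⊗ₜ[k] (algebraMap k A c₀) := by
      rw [Algebra.algebraMap_eq_smul_one, Algebra.algebraMap_eq_smul_one, TensorProduct.smul_tmul]
    rw [hRB, hιA_apply, ht]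
  -- smoothness
  have hkey : ∀ (b : B), b ∈ Ideal.span (Set.range fun j =>
      algebraMap (MvPolynomial (Fin d) k ⊗[k] A) B ((1 : MvPolynomial (Fin d) k) ⊗ₜ[k] a j)) →
      Algebra.Smooth (MvPolynomial (Fin d) k) (Localization.Away b) := by
    intro b hb
    refine smooth_away_of_forall b (fun Q hQ hbQ => ?_)
    by_contra hns
    apply hbQ
    have hle : Ideal.span (Set.range fun j =>
        algebraMap (MvPolynomial (Fin d) k ⊗[k] A) B
          ((1 : MvPolynomial (Fin d) k) ⊗ₜ[k] a j)) ≤ Q := by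
      rw [Ideal.span_le]
      rintro _ ⟨j, rfl⟩
      by_contra hj
      exact hns (hBsm Q hQ j hj)
    exact hle hb
  have hpow_smooth : ∀ (b : B) (m : ℕ), Algebra.Smooth (MvPolynomial (Fin d) k)
      (Localization.Away (b ^ m)) →
      Algebra.Smooth (MvPolynomial (Fin d) k) (Localization.Away b) := by
    intro b m hsm
    refine smooth_away_of_forall b (fun Q hQ hbQ => ?_)
    have hsub := (Algebra.basicOpen_subset_smoothLocus_iff_smooth
      (R := MvPolynomial (Fin d) k) (f := b ^ m)).mpr hsm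
    exact hsub (show (⟨Q, hQ⟩ : PrimeSpectrum B) ∈ _ from
      fun h => hbQ (Ideal.IsPrime.mem_of_pow_mem hQ _ h))
  have hx_smooth : ∀ i : Fin d, Algebra.Smooth (MvPolynomial (Fin d) k) (Localization.Away
      (algebraMap (MvPolynomial (Fin d) k ⊗[k] A) B
        ((X i : MvPolynomial (Fin d) k) ⊗ₜ[k] (1 : A)))) :=
    fun i => hpow_smooth _ n (hkey _ (hBrel i))
  have hιA_span : ∀ x ∈ Smoothing.singularIdeal k A, ιA x ∈ Ideal.span (Set.range fun j =>
      algebraMap (MvPolynomial (Fin d) k ⊗[k] A) B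
        ((1 : MvPolynomial (Fin d) k) ⊗ₜ[k] a j)) := by
    intro x hx
    have h1 : ιA x ∈ (Ideal.span (Set.range a)).map ιA := Ideal.mem_map_of_mem _ (by
      change x ∈ Submodule.span A (Set.range a)
      rw [ha]; exact hx)
    rw [Ideal.map_span] at h1
    refine Ideal.span_mono ?_ h1
    rintro _ ⟨_, ⟨j, rfl⟩, rfl⟩
    exact ⟨j, (hιA_apply _).symm⟩
  -- the exponent
  choose e₀ he₀ using fun i => (hC _ (hx_smooth i)).1
  obtain ⟨c, hc⟩ : ∃ c : ℕ, c = max 1 (Finset.univ.sup e₀) := ⟨_, rfl⟩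
  have hc1 : 0 < c := by rw [hc]; exact lt_of_lt_of_le Nat.one_pos (le_max_left _ _)
  have hce : ∀ i, e₀ i ≤ c := fun i => by
    rw [hc]; exact le_trans (Finset.le_sup (Finset.mem_univ i)) (le_max_right _ _)
  have hRC : ∀ i : Fin d, algebraMap (MvPolynomial (Fin d) k) C (X i) = algebraMap B C
      (algebraMap (MvPolynomial (Fin d) k ⊗[k] A) B
        ((X i : MvPolynomial (Fin d) k) ⊗ₜ[k] (1 : A))) := by
    intro i
    rw [IsScalarTower.algebraMap_apply (MvPolynomial (Fin d) k) B C, hRB]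
  -- the map `A → C`
  let g : A →ₐ[k] C :=
    { toRingHom := (algebraMap B C).comp ιA
      commutes' := by
        intro c₀
        change algebraMap B C (ιA (algebraMap k A c₀)) =
          algebraMap (MvPolynomial (Fin d) k) C (algebraMap k (MvPolynomial (Fin d) k) c₀)
        rw [← hkB, ← IsScalarTower.algebraMap_apply (MvPolynomial (Fin d) k) B C] }
  have hg : ∀ x, g x = algebraMap B C (ιA x) := fun _ => rfl
  have hρ : ∀ b : B, ρ (algebraMap B C b) = b := fun b => ρ.commutes b
  obtain ⟨ε, hε⟩ : ∃ ε : C →+* C, ∀ y, ε y = algebraMap B C (ρ y) :=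
    ⟨(algebraMap B C).comp (ρ : C →+* B), fun _ => rfl⟩
  refine ⟨C, inferInstance, inferInstance, algkC, towerkC, hCfp, g, c,
    fun i j => algebraMap B C (zzB i j), ε, hc1, ?_, ?_, ?_, ?_⟩
  · intro i
    rw [map_pow, hRC]
    exact he₀ i c (hce i)
  · intro x hx
    rw [hg]
    exact (hC _ (hkey _ (hιA_span x hx))).2
  · intro Λ _ _ φ π lam hlam
    obtain ⟨ψ₁, hψ₁⟩ : ∃ ψ₁ : MvPolynomial (Fin d) k ⊗[k] A →ₐ[k] Λ,
        ψ₁ = Algebra.TensorProduct.productMap (aeval π) φ := ⟨_, rfl⟩
    have hψ : ∀ (p : MvPolynomial (Fin d) k) (x : A), ψ₁ (p ⊗ₜ[k] x) = aeval π p * φ x := by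
      intro p x
      rw [hψ₁, Algebra.TensorProduct.productMap_apply_tmul]
    letI algΛ : Algebra (MvPolynomial (Fin d) k ⊗[k] A) Λ := ψ₁.toRingHom.toAlgebra
    have halg : ∀ y, algebraMap (MvPolynomial (Fin d) k ⊗[k] A) Λ y = ψ₁ y := fun _ => rfl
    obtain ⟨hB, hBzz⟩ := hBmap Λ lam (fun i => by
      rw [halg, hψ, aeval_X, map_one, mul_one, hlam i]
      refine Finset.sum_congr rfl fun j _ => ?_
      rw [halg, hψ, map_one, one_mul])
    have hhB : ∀ y, hB (algebraMap (MvPolynomial (Fin d) k ⊗[k] A) B y) = ψ₁ y :=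
      fun y => hB.commutes y
    let h : C →ₐ[k] Λ :=
      { toRingHom := (hB : B →+* Λ).comp (ρ : C →+* B)
        commutes' := by
          intro c₀
          change hB (ρ (algebraMap (MvPolynomial (Fin d) k) C
            (algebraMap k (MvPolynomial (Fin d) k) c₀))) = _
          rw [IsScalarTower.algebraMap_apply (MvPolynomial (Fin d) k) B C, hρ, hRB, hhB, hψ,
            map_one, mul_one, AlgHom.commutes] }
    have hh : ∀ y, h y = hB (ρ y) := fun _ => rfl
    refine ⟨h, ?_, ?_, ?_, ?_⟩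
    · ext x
      rw [AlgHom.comp_apply, hh, hg, hρ, hιA_apply, hhB, hψ, map_one, one_mul]
    · intro i
      rw [hh, hRC, hρ, hhB, hψ, aeval_X, map_one, mul_one]
    · intro i j
      rw [hh, hρ, hBzz]
    · intro y
      rw [hh, hh, hε, hρ]
  · intro S _ h₁ h₂ he₁ he₂ hgA hX hzz
    have hB12 : h₁.comp (algebraMap B C) = h₂.comp (algebraMap B C) := by
      refine hBuniq S _ _ (fun a' => ?_) (fun i j => hzz i j)
      induction a' using TensorProduct.induction_on with
      | zero => simp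
      | tmul p x =>
        have hpx : p ⊗ₜ[k] x = (p ⊗ₜ[k] (1 : A)) * ((1 : MvPolynomial (Fin d) k) ⊗ₜ[k] x) := by
          rw [Algebra.TensorProduct.tmul_mul_tmul, mul_one, one_mul]
        rw [hpx, map_mul, map_mul, map_mul]
        have h1 : ∀ p : MvPolynomial (Fin d) k,
            (h₁.comp (algebraMap B C)) (algebraMap (MvPolynomial (Fin d) k ⊗[k] A) B
              (p ⊗ₜ[k] (1 : A))) =
            (h₂.comp (algebraMap B C)) (algebraMap (MvPolynomial (Fin d) k ⊗[k] A) B
              (p ⊗ₜ[k] (1 : A))) := by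
          intro p
          have h2 : (h₁.comp (algebraMap (MvPolynomial (Fin d) k) C)) =
              (h₂.comp (algebraMap (MvPolynomial (Fin d) k) C)) := by
            refine MvPolynomial.ringHom_ext (fun c₀ => ?_) (fun i => hX i)
            have h3 : algebraMap (MvPolynomial (Fin d) k) C (MvPolynomial.C c₀) =
                g (algebraMap k A c₀) := (g.commutes c₀).symm
            rw [RingHom.comp_apply, RingHom.comp_apply, h3]
            exact hgA _
          have h4 := RingHom.congr_fun h2 p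
          rw [RingHom.comp_apply, RingHom.comp_apply,
            IsScalarTower.algebraMap_apply (MvPolynomial (Fin d) k) B C, hRB] at h4
          exact h4
        have h5 : (h₁.comp (algebraMap B C)) (algebraMap (MvPolynomial (Fin d) k ⊗[k] A) B
              ((1 : MvPolynomial (Fin d) k) ⊗ₜ[k] x)) =
            (h₂.comp (algebraMap B C)) (algebraMap (MvPolynomial (Fin d) k ⊗[k] A) B
              ((1 : MvPolynomial (Fin d) k) ⊗ₜ[k] x)) := by
          rw [← hιA_apply, RingHom.comp_apply, RingHom.comp_apply, ← hg]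
          exact hgA x
        rw [h1 p, h5]
      | add y y' hy hy' => rw [map_add, map_add, map_add, hy, hy']
    ext y
    rw [← he₁ y, ← he₂ y, hε]
    exact RingHom.congr_fun hB12 (ρ y)

end Groth.Agent.Lib.Helper7.Smoothing
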