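import Groth.Agent.Lib.Helper7Smoothing37
import Groth.Agent.S6829
import Mathlib.RingTheory.TensorProduct.Quotient
import Mathlib.RingTheory.Ideal.Quotient.PowTransition

set_option autoImplicit false
set_option linter.style.haveILetI false
universe u
open MvPolynomial TensorProduct

namespace Groth.Agent.Lib.Helper7.Smoothing

theorem isStrictlyStandard_of_algEquiv {R B₁ B₂ : Type u} [CommRing R] [CommRing B₁]
    [Algebra R B₁] [CommRing B₂] [Algebra R B₂] (e : B₁ ≃ₐ[R] B₂) (a : B₁)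
    (h : Smoothing.IsStrictlyStandard R B₁ a) : Smoothing.IsStrictlyStandard R B₂ (e a) := by
  obtain ⟨P, hspan, hkt⟩ := h
  refine ⟨{ n := P.n, m := P.m, c := P.c, hcn := P.hcn, hcm := P.hcm, rel := P.rel,
            hom := (e : B₁ →ₐ[R] B₂).comp P.hom,
            surj := e.surjective.comp P.surj,
            ker_eq := ?_ }, ?_, ?_⟩
  · rw [← P.ker_eq]
    ext x
    simp only [RingHom.mem_ker, AlgHom.toRingHom_eq_coe, RingHom.coe_coe, AlgHom.comp_apply,
      AlgEquiv.coe_toAlgHom]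
    exact e.map_eq_zero_iff
  · exact map_mem_span_range (e : B₁ →+* B₂) _ hspan
  · intro a' ha' j hj
    refine hkt a' ?_ j hj
    apply e.injective
    exact ha'

theorem isStrictlyStandard_quotient {R A : Type u} [CommRing R] [CommRing A] [Algebra R A]
    [Algebra.FinitePresentation R A] (I : Ideal R) (π : R)
    (h : Smoothing.IsStrictlyStandard R A (algebraMap R A π)) :
    Smoothing.IsStrictlyStandard (R ⧸ I) (A ⧸ I.map (algebraMap R A))
      (algebraMap (R ⧸ I) (A ⧸ I.map (algebraMap R A)) (Ideal.Quotient.mk I π)) := by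
  have h1 := (Groth.Agent.S6829.result (R := R) (A := A) (R' := R ⧸ I) (algebraMap R A π)).2 h
  have h2 := isStrictlyStandard_of_algEquiv
    (Algebra.TensorProduct.quotIdealMapEquivQuotTensor A I).symm _ h1
  convert h2 using 1
  rw [AlgEquiv.eq_symm_apply]
  rfl


section QuotPhi
variable {R A Λ : Type u} [CommRing R] [CommRing A] [Algebra R A] [CommRing Λ] [Algebra R Λ]

lemma quotPhi_aux (φ : A →ₐ[R] Λ) (I : Ideal R) :
    I.map (algebraMap R A) ≤ (I.map (algebraMap R Λ)).comap (φ : A →+* Λ) := by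
  rw [Ideal.map_le_iff_le_comap]
  intro r hr
  rw [Ideal.mem_comap, Ideal.mem_comap]
  change φ (algebraMap R A r) ∈ _
  rw [φ.commutes]
  exact Ideal.mem_map_of_mem _ hr

/-- The map `A/IA → Λ/IΛ` induced by `φ`, as an `R/I`-algebra map. -/
noncomputable def quotPhi (φ : A →ₐ[R] Λ) (I : Ideal R) :
    (A ⧸ I.map (algebraMap R A)) →ₐ[R ⧸ I] (Λ ⧸ I.map (algebraMap R Λ)) :=
  { Ideal.quotientMap (I.map (algebraMap R Λ)) (φ : A →+* Λ) (quotPhi_aux φ I) with
    commutes' := fun x => by
      obtain ⟨r, rfl⟩ := Ideal.Quotient.mk_surjective x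
      change Ideal.quotientMap _ (φ : A →+* Λ) (quotPhi_aux φ I)
        (Ideal.Quotient.mk _ (algebraMap R A r)) = Ideal.Quotient.mk _ (algebraMap R Λ r)
      rw [Ideal.quotientMap_mk]
      change Ideal.Quotient.mk _ (φ (algebraMap R A r)) = _
      rw [φ.commutes] }

lemma quotPhi_mk (φ : A →ₐ[R] Λ) (I : Ideal R) (a : A) :
    quotPhi φ I (Ideal.Quotient.mk _ a) = Ideal.Quotient.mk _ (φ a) := rfl

/-- Resolvability of the problem reduced modulo `I`. -/
def ResAt (φ : A →ₐ[R] Λ) (𝔮 : Ideal Λ) (I : Ideal R) : Prop :=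
  Smoothing.Resolvable (R ⧸ I) (quotPhi φ I)
    (𝔮.map (Ideal.Quotient.mk (I.map (algebraMap R Λ))))

end QuotPhi

end Groth.Agent.Lib.Helper7.Smoothing
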