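import Mathlib
import Groth.Prelude.Def_Smoothing
import Groth.Agent.S2034
import Groth.Agent.Lib.Helper7Smoothing38
import Groth.Agent.Lib.Helper7Smoothing39
import Groth.Agent.Lib.Helper7Smoothing46
import Groth.Agent.Lib.Helper7Smoothing54

/-!
# Helper7Smoothing78 (helper7): the reduced problem via a local smooth factorization

`resolvable_reduced_of_local_factorization`: if `Λ_𝔮/KΛ_𝔮` is zero-dimensional and, over every `T`-algebra `Ŝ`
killing `K` and inverting `T ∖ 𝔮`, the map `C_T → Λ_𝔮/KΛ_𝔮` factors through a smooth `Ŝ`-algebra, then the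
reduced problem `T/K → C_T/K → Λ/K ⊇ 𝔮/K` is resolvable (via S2034).
-/

set_option autoImplicit false
set_option linter.style.haveILetI false
set_option maxHeartbeats 1000000
universe u
open Function TensorProduct IsLocalRing

namespace Groth.Agent.Lib.Helper7.Smoothing

theorem resolvable_reduced_of_local_factorization {T CT Λ : Type u} [CommRing T]
    [IsNoetherianRing T] [CommRing CT] [Algebra T CT] [Algebra.FinitePresentation T CT]
    [CommRing Λ] [Algebra T Λ] (hT : CT →ₐ[T] Λ) (q : Ideal Λ) [q.IsPrime] (K : Ideal T)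
    (hKq : K.map (algebraMap T Λ) ≤ q)
    (hdim : ringKrullDim (Localization.AtPrime q ⧸ (K.map (algebraMap T Λ)).map
      (algebraMap Λ (Localization.AtPrime q))) = 0)
    (hloc : ∀ (S' : Type u) [CommRing S'] [Algebra T S']
      [Algebra S' (Localization.AtPrime q ⧸ (K.map (algebraMap T Λ)).map
        (algebraMap Λ (Localization.AtPrime q)))]
      [IsScalarTower T S' (Localization.AtPrime q ⧸ (K.map (algebraMap T Λ)).map
        (algebraMap Λ (Localization.AtPrime q)))],
      (∀ x ∈ K, algebraMap T S' x = 0) →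
      (∀ s : T, algebraMap T Λ s ∉ q → IsUnit (algebraMap T S' s)) →
      ∃ (B' : Type u) (_ : CommRing B') (_ : Algebra S' B') (_ : Algebra T B')
        (_ : IsScalarTower T S' B'), Algebra.Smooth S' B' ∧
        ∃ (g₀ : CT →ₐ[T] B') (h₀ : B' →ₐ[S'] (Localization.AtPrime q ⧸
          (K.map (algebraMap T Λ)).map (algebraMap Λ (Localization.AtPrime q)))),
          ∀ y, h₀ (g₀ y) = Ideal.Quotient.mk _ (algebraMap Λ (Localization.AtPrime q) (hT y))) :
    Smoothing.Resolvable (T ⧸ K) (quotPhi hT K)
      (q.map (Ideal.Quotient.mk (K.map (algebraMap T Λ)))) := by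
  classical
  haveI hprime : (q.map (Ideal.Quotient.mk (K.map (algebraMap T Λ)))).IsPrime :=
    map_mk_isPrime q _ hKq
  haveI : Algebra.FinitePresentation (T ⧸ K) (CT ⧸ K.map (algebraMap T CT)) :=
    finitePresentation_quotient_map K
  by_cases hsr : Smoothing.singRad (T ⧸ K) (quotPhi hT K) ≤
      q.map (Ideal.Quotient.mk (K.map (algebraMap T Λ)))
  · -- the zero-dimensional local problem
    letI algΛq : Algebra (T ⧸ K)
        (Localization.AtPrime q ⧸ (K.map (algebraMap T Λ)).map
          (algebraMap Λ (Localization.AtPrime q))) :=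
      ((algebraMap (Λ ⧸ K.map (algebraMap T Λ))
          (Localization.AtPrime q ⧸ (K.map (algebraMap T Λ)).map
            (algebraMap Λ (Localization.AtPrime q)))).comp
        (algebraMap (T ⧸ K) (Λ ⧸ K.map (algebraMap T Λ)))).toAlgebra
    haveI tower : IsScalarTower (T ⧸ K) (Λ ⧸ K.map (algebraMap T Λ))
        (Localization.AtPrime q ⧸ (K.map (algebraMap T Λ)).map
          (algebraMap Λ (Localization.AtPrime q))) :=
      IsScalarTower.of_algebraMap_eq (fun _ => rfl)
    haveI hlocΛ := isLocalization_atPrime_quotient q _ hKq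
    -- the prime of `T/K`
    obtain ⟨𝔓, h𝔓⟩ : ∃ 𝔓 : Ideal (T ⧸ K),
        𝔓 = (q.map (Ideal.Quotient.mk (K.map (algebraMap T Λ)))).comap
          (algebraMap (T ⧸ K) (Λ ⧸ K.map (algebraMap T Λ))) := ⟨_, rfl⟩
    haveI h𝔓prime : 𝔓.IsPrime := h𝔓 ▸ inferInstance
    have hqbar : ∀ x : Λ, Ideal.Quotient.mk (K.map (algebraMap T Λ)) x ∈
        q.map (Ideal.Quotient.mk (K.map (algebraMap T Λ))) ↔ x ∈ q := by
      intro x
      rw [← Ideal.mem_comap, Ideal.comap_map_of_surjective _ Ideal.Quotient.mk_surjective,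
        ← RingHom.ker_eq_comap_bot, Ideal.mk_ker, sup_eq_left.mpr hKq]
    have hmem𝔓' : ∀ x : T ⧸ K, x ∈ 𝔓 ↔ algebraMap (T ⧸ K) (Λ ⧸ K.map (algebraMap T Λ)) x ∈
        q.map (Ideal.Quotient.mk (K.map (algebraMap T Λ))) := fun x => by rw [h𝔓]; rfl
    have hmem𝔓 : ∀ t : T, Ideal.Quotient.mk K t ∈ 𝔓 ↔ algebraMap T Λ t ∈ q := by
      intro t
      rw [h𝔓, Ideal.mem_comap]
      exact hqbar _
    have hunits : ∀ y : 𝔓.primeCompl, IsUnit (algebraMap (T ⧸ K)
        (Localization.AtPrime q ⧸ (K.map (algebraMap T Λ)).map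
          (algebraMap Λ (Localization.AtPrime q))) y) := by
      intro y
      rw [IsScalarTower.algebraMap_apply (T ⧸ K) (Λ ⧸ K.map (algebraMap T Λ))]
      refine IsLocalization.map_units _ (⟨algebraMap (T ⧸ K) (Λ ⧸ K.map (algebraMap T Λ)) y, ?_⟩ :
        (q.map (Ideal.Quotient.mk (K.map (algebraMap T Λ)))).primeCompl)
      intro hy
      exact y.2 ((hmem𝔓' _).mpr hy)
    letI algRpΛq : Algebra (Localization.AtPrime 𝔓)
        (Localization.AtPrime q ⧸ (K.map (algebraMap T Λ)).map
          (algebraMap Λ (Localization.AtPrime q))) :=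
      (IsLocalization.lift (M := 𝔓.primeCompl) (S := Localization.AtPrime 𝔓) hunits).toAlgebra
    haveI towerRp : IsScalarTower (T ⧸ K) (Localization.AtPrime 𝔓)
        (Localization.AtPrime q ⧸ (K.map (algebraMap T Λ)).map
          (algebraMap Λ (Localization.AtPrime q))) :=
      IsScalarTower.of_algebraMap_eq (fun x => (IsLocalization.lift_eq hunits x).symm)
    haveI towerT : IsScalarTower T (Localization.AtPrime 𝔓)
        (Localization.AtPrime q ⧸ (K.map (algebraMap T Λ)).map
          (algebraMap Λ (Localization.AtPrime q))) := by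
      refine IsScalarTower.of_algebraMap_eq fun t => ?_
      rw [IsScalarTower.algebraMap_apply T (T ⧸ K) (Localization.AtPrime 𝔓),
        ← IsScalarTower.algebraMap_apply (T ⧸ K) (Localization.AtPrime 𝔓),
        IsScalarTower.algebraMap_apply (T ⧸ K) (Λ ⧸ K.map (algebraMap T Λ))]
      rfl
    haveI : IsLocalization.AtPrime (Localization.AtPrime 𝔓)
        ((q.map (Ideal.Quotient.mk (K.map (algebraMap T Λ)))).comap
          (algebraMap (T ⧸ K) (Λ ⧸ K.map (algebraMap T Λ)))) := by
      subst h𝔓; infer_instance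
    -- the local factorization
    obtain ⟨B', _, _, _, _, hsmooth, g₀, h₀, hgh⟩ := hloc (Localization.AtPrime 𝔓)
      (fun x hx => by
        rw [IsScalarTower.algebraMap_apply T (T ⧸ K) (Localization.AtPrime 𝔓)]
        have : algebraMap T (T ⧸ K) x = 0 := Ideal.Quotient.eq_zero_iff_mem.mpr hx
        rw [this, map_zero])
      (fun s hs => by
        rw [IsScalarTower.algebraMap_apply T (T ⧸ K) (Localization.AtPrime 𝔓)]
        exact IsLocalization.map_units _ (⟨algebraMap T (T ⧸ K) s, fun h => hs ((hmem𝔓 s).mp h)⟩ :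
          𝔓.primeCompl))
    haveI := hsmooth
    -- minimality
    have hmin' : q.map (Ideal.Quotient.mk (K.map (algebraMap T Λ))) ∈
        (Smoothing.singRad (T ⧸ K) (quotPhi hT K)).minimalPrimes := by
      have hht := IsLocalization.AtPrime.ringKrullDim_eq_height
        (q.map (Ideal.Quotient.mk (K.map (algebraMap T Λ))))
        (Localization.AtPrime q ⧸ (K.map (algebraMap T Λ)).map
          (algebraMap Λ (Localization.AtPrime q)))
      rw [hdim] at hht
      have hht0 : (q.map (Ideal.Quotient.mk (K.map (algebraMap T Λ)))).height = 0 := by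
        exact_mod_cast hht.symm
      have hq := Ideal.height_eq_zero_iff.mp hht0
      refine ⟨⟨hprime, hsr⟩, fun P hP hPle => ?_⟩
      exact hq.2 ⟨hP.1, bot_le⟩ hPle
    -- the algebra structures on `B'`
    letI algTKB : Algebra (T ⧸ K) B' :=
      ((algebraMap (Localization.AtPrime 𝔓) B').comp
        (algebraMap (T ⧸ K) (Localization.AtPrime 𝔓))).toAlgebra
    haveI towerB : IsScalarTower (T ⧸ K) (Localization.AtPrime 𝔓) B' :=
      IsScalarTower.of_algebraMap_eq (fun _ => rfl)
    have hTB : ∀ t : T, algebraMap (T ⧸ K) B' (Ideal.Quotient.mk K t) = algebraMap T B' t := by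
      intro t
      rw [IsScalarTower.algebraMap_apply T (Localization.AtPrime 𝔓) B',
        IsScalarTower.algebraMap_apply T (T ⧸ K) (Localization.AtPrime 𝔓)]
      rfl
    -- the map `C_T/K → B'`
    have hkerg : ∀ y ∈ K.map (algebraMap T CT), g₀ y = 0 := by
      intro y hy
      have h1 : K.map (algebraMap T CT) ≤ RingHom.ker (g₀ : CT →+* B') := by
        rw [Ideal.map_le_iff_le_comap]
        intro x hx
        rw [Ideal.mem_comap, RingHom.mem_ker]
        change g₀ (algebraMap T CT x) = 0
        rw [g₀.commutes, ← hTB, Ideal.Quotient.eq_zero_iff_mem.mpr hx, map_zero]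
      exact h1 hy
    let g₁ : (CT ⧸ K.map (algebraMap T CT)) →ₐ[T ⧸ K] B' :=
      { Ideal.Quotient.lift (K.map (algebraMap T CT)) (g₀ : CT →+* B') hkerg with
        commutes' := fun x => by
          obtain ⟨t, rfl⟩ := Ideal.Quotient.mk_surjective x
          change Ideal.Quotient.lift (K.map (algebraMap T CT)) (g₀ : CT →+* B') hkerg
            (Ideal.Quotient.mk _ (algebraMap T CT t)) = _
          rw [Ideal.Quotient.lift_mk, hTB]
          exact g₀.commutes t }
    have hg₁ : ∀ y : CT, g₁ (Ideal.Quotient.mk _ y) = g₀ y := fun _ => rfl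
    refine Groth.Agent.S2034.result (Rₚ := Localization.AtPrime 𝔓)
      (Λq := Localization.AtPrime q ⧸ (K.map (algebraMap T Λ)).map
          (algebraMap Λ (Localization.AtPrime q)))
      (quotPhi hT K) _ hmin' hdim ?_
    refine ⟨B', inferInstance, inferInstance, inferInstance,
      Algebra.TensorProduct.lift (Algebra.ofId (Localization.AtPrime 𝔓) B') g₁
        (fun _ _ => Commute.all _ _), h₀, ?_, ?_, ?_⟩
    · apply Algebra.TensorProduct.ext
      · ext
      · ext y
        obtain ⟨y, rfl⟩ := Ideal.Quotient.mk_surjective y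
        simp only [AlgHom.coe_comp, AlgHom.coe_restrictScalars', Function.comp_apply,
          Algebra.TensorProduct.includeRight_apply, Algebra.TensorProduct.lift_tmul, map_one,
          one_mul]
        rw [hg₁, hgh, quotPhi_mk]
        rfl
    · have : Smoothing.singRad (Localization.AtPrime 𝔓) h₀ = ⊤ := by
        rw [Smoothing.singRad, singularIdeal_eq_top_of_smooth, Ideal.map_top, Ideal.radical_top]
      rw [this]
      exact le_top
    · have : Smoothing.singRad (Localization.AtPrime 𝔓) h₀ = ⊤ := by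
        rw [Smoothing.singRad, singularIdeal_eq_top_of_smooth, Ideal.map_top, Ideal.radical_top]
      rw [this, top_le_iff]
      haveI : IsLocalRing (Localization.AtPrime q ⧸ (K.map (algebraMap T Λ)).map
          (algebraMap Λ (Localization.AtPrime q))) :=
        IsLocalization.AtPrime.isLocalRing _
          (q.map (Ideal.Quotient.mk (K.map (algebraMap T Λ))))
      rw [IsLocalization.AtPrime.map_eq_maximalIdeal
        (q.map (Ideal.Quotient.mk (K.map (algebraMap T Λ))))
        (Localization.AtPrime q ⧸ (K.map (algebraMap T Λ)).map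
          (algebraMap Λ (Localization.AtPrime q)))]
      exact Ideal.IsPrime.ne_top inferInstance
  · exact ⟨CT ⧸ K.map (algebraMap T CT), inferInstance, inferInstance,
      inferInstance, AlgHom.id _ _, quotPhi hT K, AlgHom.comp_id _, le_rfl, hsr⟩

end Groth.Agent.Lib.Helper7.Smoothing
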