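import Mathlib
import Groth.Prelude.Def_Smoothing
import Groth.Agent.S2109
import Groth.Agent.S6822
import Groth.Agent.S6829
import Groth.Agent.Lib.Helper7Smoothing38
import Groth.Agent.Lib.Helper7Smoothing51
import Groth.Agent.Lib.Helper7Smoothing52
import Groth.Agent.Lib.Helper7Smoothing53
import Groth.Agent.Lib.Helper7Smoothing54
import Groth.Agent.Lib.Helper7Smoothing72
import Groth.Agent.Lib.Helper7Smoothing78

/-!
# Helper7Smoothing79 (helper7): Stacks 07F5, the assembly over `T`

`resolvable_of_local_factorization`: given the algebra `C` of Stacks 07F1 (with coordinates and uniqueness), a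
smooth f.p. `k`-algebra `T → Λ` with elements `γ_i` satisfying the annihilator conditions, and a local smooth
factorization property at the level of `A`, the problem `k → A → Λ ⊇ 𝔮` is resolvable.
-/

set_option autoImplicit false
set_option linter.style.haveILetI false
set_option maxHeartbeats 2000000
universe u
open Function TensorProduct MvPolynomial IsLocalRing
open Groth.Agent.S2109

namespace Groth.Agent.Lib.Helper7.Smoothing

theorem resolvable_of_local_factorization {k A C T Λ : Type u} [Field k] [CommRing A] [Algebra k A]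
    [Algebra.FinitePresentation k A] [CommRing Λ] [Algebra k Λ] [IsNoetherianRing Λ]
    (φ : A →ₐ[k] Λ) (q : Ideal Λ) [q.IsPrime] {d r : ℕ} (hd : 0 < d) (c : ℕ) (hc : 0 < c) (N₀ : ℕ)
    (a : Fin r → A)
    [CommRing C] [Algebra (MvPolynomial (Fin d) k) C] [Algebra k C]
    [IsScalarTower k (MvPolynomial (Fin d) k) C]
    [Algebra.FinitePresentation (MvPolynomial (Fin d) k) C]
    (g : A →ₐ[k] C) (zz : Fin d → Fin r → C) (ε : C →+* C)
    (hstd : ∀ i, Smoothing.IsStrictlyStandard (MvPolynomial (Fin d) k) C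
      (algebraMap (MvPolynomial (Fin d) k) C (X i ^ c)))
    (hsing : ∀ x ∈ Smoothing.singularIdeal k A,
      g x ∈ Smoothing.singularIdeal (MvPolynomial (Fin d) k) C)
    (hmapC : ∀ (Λ' : Type u) [CommRing Λ'] [Algebra k Λ'] (φ' : A →ₐ[k] Λ') (π' : Fin d → Λ')
      (lam' : Fin d → Fin r → Λ'), (∀ i, π' i ^ N₀ = ∑ j, lam' i j * φ' (a j)) →
      ∃ h : C →ₐ[k] Λ', h.comp g = φ' ∧
        (∀ i, h (algebraMap (MvPolynomial (Fin d) k) C (X i)) = π' i) ∧
        (∀ i j, h (zz i j) = lam' i j) ∧ ∀ y, h (ε y) = h y)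
    (huniq : ∀ (S : Type u) [CommRing S] (h₁ h₂ : C →+* S), (∀ y, h₁ (ε y) = h₁ y) →
      (∀ y, h₂ (ε y) = h₂ y) → (∀ x, h₁ (g x) = h₂ (g x)) →
      (∀ i, h₁ (algebraMap (MvPolynomial (Fin d) k) C (X i)) =
        h₂ (algebraMap (MvPolynomial (Fin d) k) C (X i))) →
      (∀ i j, h₁ (zz i j) = h₂ (zz i j)) → h₁ = h₂)
    [CommRing T] [Algebra k T] [Algebra.FinitePresentation k T] [Algebra.FormallySmooth k T]
    [Algebra T Λ] [IsScalarTower k T Λ]
    (γ : Fin d → T) (hγq : ∀ i, algebraMap T Λ (γ i) ∈ q)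
    (haT : ∀ i : Fin d, ∀ x : T, γ i ^ 2 * x ∈ JJ (8 * c) γ i → γ i * x ∈ JJ (8 * c) γ i)
    (haΛ : ∀ i : Fin d, ∀ x : Λ,
      algebraMap T Λ (γ i) ^ 2 * x ∈ JJ (8 * c) (fun l => algebraMap T Λ (γ l)) i →
      algebraMap T Λ (γ i) * x ∈ JJ (8 * c) (fun l => algebraMap T Λ (γ l)) i)
    (hspan : Ideal.span (Set.range fun i =>
      algebraMap Λ (Localization.AtPrime q) (algebraMap T Λ (γ i))) =
      maximalIdeal (Localization.AtPrime q))
    (w : Fin d → Fin r → Λ) (hw : ∀ i, algebraMap T Λ (γ i) ^ N₀ = ∑ l, w i l * φ (a l))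
    (hLFP : ∀ (S' : Type u) [CommRing S'] [Algebra T S']
      [Algebra S' (Localization.AtPrime q ⧸
        ((Ideal.span (Set.range fun i => (γ i ^ c) ^ 8)).map (algebraMap T Λ)).map
          (algebraMap Λ (Localization.AtPrime q)))]
      [IsScalarTower T S' (Localization.AtPrime q ⧸
        ((Ideal.span (Set.range fun i => (γ i ^ c) ^ 8)).map (algebraMap T Λ)).map
          (algebraMap Λ (Localization.AtPrime q)))],
      (∀ x ∈ Ideal.span (Set.range fun i => (γ i ^ c) ^ 8), algebraMap T S' x = 0) →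
      (∀ s : T, algebraMap T Λ s ∉ q → IsUnit (algebraMap T S' s)) →
      ∃ (B' : Type u) (_ : CommRing B') (_ : Algebra S' B'), Algebra.Smooth S' B' ∧
        ∃ (gA : A →+* B') (h₀ : B' →ₐ[S'] (Localization.AtPrime q ⧸
          ((Ideal.span (Set.range fun i => (γ i ^ c) ^ 8)).map (algebraMap T Λ)).map
            (algebraMap Λ (Localization.AtPrime q)))) (ll : Fin d → Fin r → B'),
          (∀ x, h₀ (gA x) = Ideal.Quotient.mk _ (algebraMap Λ (Localization.AtPrime q) (φ x))) ∧
          (∀ c₀ : k, gA (algebraMap k A c₀) =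
            algebraMap S' B' (algebraMap T S' (algebraMap k T c₀))) ∧
          (∀ i, algebraMap S' B' (algebraMap T S' (γ i)) ^ N₀ = ∑ l, ll i l * gA (a l)) ∧
          ∀ i l, h₀ (ll i l) =
            Ideal.Quotient.mk _ (algebraMap Λ (Localization.AtPrime q) (w i l))) :
    Smoothing.Resolvable k φ q := by
  classical
  haveI : IsNoetherianRing T := Algebra.FiniteType.isNoetherianRing k T
  -- the map `h : C → Λ`
  obtain ⟨h, hhg, hhX, hhzz, hhε⟩ := hmapC Λ φ (fun i => algebraMap T Λ (γ i)) w hw
  -- `T` and `Λ` as `k[x]`-algebras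
  letI algPT : Algebra (MvPolynomial (Fin d) k) T :=
    (aeval γ : MvPolynomial (Fin d) k →ₐ[k] T).toAlgebra
  have halgPT : ∀ p, algebraMap (MvPolynomial (Fin d) k) T p = aeval γ p := fun _ => rfl
  haveI towerkPT : IsScalarTower k (MvPolynomial (Fin d) k) T :=
    IsScalarTower.of_algebraMap_eq (fun c₀ => ((aeval γ).commutes c₀).symm)
  letI algPΛ : Algebra (MvPolynomial (Fin d) k) Λ :=
    ((algebraMap T Λ).comp (algebraMap (MvPolynomial (Fin d) k) T)).toAlgebra
  haveI towerPTΛ : IsScalarTower (MvPolynomial (Fin d) k) T Λ :=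
    IsScalarTower.of_algebraMap_eq (fun _ => rfl)
  haveI towerkPΛ : IsScalarTower k (MvPolynomial (Fin d) k) Λ := by
    refine IsScalarTower.of_algebraMap_eq fun c₀ => ?_
    rw [IsScalarTower.algebraMap_apply (MvPolynomial (Fin d) k) T Λ,
      ← IsScalarTower.algebraMap_apply k (MvPolynomial (Fin d) k) T,
      ← IsScalarTower.algebraMap_apply k T Λ]
  have halgPΛX : ∀ i, algebraMap (MvPolynomial (Fin d) k) Λ (X i) = algebraMap T Λ (γ i) := by
    intro i
    rw [IsScalarTower.algebraMap_apply (MvPolynomial (Fin d) k) T Λ, halgPT, aeval_X]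
  -- `h` is `k[x]`-linear
  have hcommP : ∀ p : MvPolynomial (Fin d) k,
      h (algebraMap (MvPolynomial (Fin d) k) C p) = algebraMap (MvPolynomial (Fin d) k) Λ p := by
    have h1 : h.comp (IsScalarTower.toAlgHom k (MvPolynomial (Fin d) k) C) =
        IsScalarTower.toAlgHom k (MvPolynomial (Fin d) k) Λ := by
      refine MvPolynomial.algHom_ext fun i => ?_
      rw [AlgHom.comp_apply, IsScalarTower.toAlgHom_apply, IsScalarTower.toAlgHom_apply, hhX,
        halgPΛX]
    intro p
    exact DFunLike.congr_fun h1 p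
  let h' : C →ₐ[MvPolynomial (Fin d) k] Λ := { (h : C →+* Λ) with commutes' := hcommP }
  have hh' : ∀ y, h' y = h y := fun _ => rfl
  -- the base change
  let hT : T ⊗[MvPolynomial (Fin d) k] C →ₐ[T] Λ :=
    Algebra.TensorProduct.lift (Algebra.ofId T Λ) h' (fun _ _ => Commute.all _ _)
  have hhT : ∀ (t : T) (y : C), hT (t ⊗ₜ y) = algebraMap T Λ t * h y := fun t y => by
    change Algebra.TensorProduct.lift (Algebra.ofId T Λ) h' (fun _ _ => Commute.all _ _)
      (t ⊗ₜ y) = _
    rw [Algebra.TensorProduct.lift_tmul]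
    rfl
  let gT : A →ₐ[k] T ⊗[MvPolynomial (Fin d) k] C :=
    ((Algebra.TensorProduct.includeRight :
      C →ₐ[MvPolynomial (Fin d) k] T ⊗[MvPolynomial (Fin d) k] C).restrictScalars k).comp g
  have hgT : ∀ x, gT x = (1 : T) ⊗ₜ[MvPolynomial (Fin d) k] g x := fun _ => rfl
  have hcompT : ∀ x, hT (gT x) = φ x := by
    intro x
    rw [hgT, hhT, map_one, one_mul, ← hhg]
    rfl
  have hsingT : ∀ x ∈ Smoothing.singularIdeal k A,
      gT x ∈ Smoothing.singularIdeal T (T ⊗[MvPolynomial (Fin d) k] C) := by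
    intro x hx
    rw [Smoothing.singularIdeal, PrimeSpectrum.mem_vanishingIdeal]
    intro Q hQ
    by_contra hnot
    apply hQ
    haveI := Q.2
    exact isSmoothAt_tensor_of_notMem (k := MvPolynomial (Fin d) k) (A := C) T (g x)
      (hsing x hx) Q.asIdeal hnot
  refine resolvable_descend φ gT hT hcompT hsingT q ?_
  -- apply S6822
  obtain ⟨K, hK⟩ : ∃ K : Ideal T, K = Ideal.span (Set.range fun i => (γ i ^ c) ^ 8) := ⟨_, rfl⟩
  have hJJT : ∀ i : Fin d, Ideal.span (Set.range fun j : {j : Fin d // (j : ℕ) < (i : ℕ)} =>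
      (γ j ^ c) ^ 8) = JJ (8 * c) γ i := by
    intro i
    unfold JJ
    congr 2
    funext j
    rw [← pow_mul, mul_comm]
  have hJJΛ : ∀ i : Fin d, Ideal.span (Set.range fun j : {j : Fin d // (j : ℕ) < (i : ℕ)} =>
      algebraMap T Λ (γ j ^ c) ^ 8) = JJ (8 * c) (fun l => algebraMap T Λ (γ l)) i := by
    intro i
    unfold JJ
    congr 2
    funext j
    rw [map_pow, ← pow_mul, mul_comm]
  have hKq : K.map (algebraMap T Λ) ≤ q := by
    rw [Ideal.map_le_iff_le_comap, hK, Ideal.span_le]
    rintro _ ⟨i, rfl⟩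
    change algebraMap T Λ ((γ i ^ c) ^ 8) ∈ q
    rw [map_pow, map_pow]
    exact Ideal.pow_mem_of_mem _ (Ideal.pow_mem_of_mem _ (hγq i) c hc) 8 (by norm_num)
  refine Groth.Agent.S6822.result hT q hd (fun i => γ i ^ c) ?_ ?_ ?_ ?_ K hK
    (quotPhi hT K) (quotPhi_mk hT K) ?_
  · intro i
    rw [map_pow]
    exact Ideal.pow_mem_of_mem _ (hγq i) c hc
  · intro i x hx
    exact ann_cond_of_ann γ c hc i (haT i) _ (hJJT i) _ rfl x hx
  · intro i x hx
    exact ann_cond_of_ann (fun l => algebraMap T Λ (γ l)) c hc i (haΛ i) _ (hJJΛ i) _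
      (by rw [map_pow]) x hx
  · intro i
    have h1 := (Groth.Agent.S6829.result (R := MvPolynomial (Fin d) k) (A := C) (R' := T)
      (algebraMap (MvPolynomial (Fin d) k) C (X i ^ c))).2 (hstd i)
    have h2 : algebraMap T (T ⊗[MvPolynomial (Fin d) k] C) (γ i ^ c) =
        (1 : T) ⊗ₜ[MvPolynomial (Fin d) k] algebraMap (MvPolynomial (Fin d) k) C (X i ^ c) := by
      rw [Algebra.TensorProduct.algebraMap_apply, Algebra.algebraMap_self_apply,
        Algebra.algebraMap_eq_smul_one (X i ^ c : MvPolynomial (Fin d) k),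
        ← TensorProduct.smul_tmul, Algebra.smul_def, mul_one, halgPT, map_pow, aeval_X]
    rw [h2]
    exact h1
  · -- the reduced problem
    subst hK
    have hmaxΛq : IsLocalRing (Localization.AtPrime q ⧸
        ((Ideal.span (Set.range fun i => (γ i ^ c) ^ 8)).map (algebraMap T Λ)).map
          (algebraMap Λ (Localization.AtPrime q))) := by
      haveI : Nontrivial (Localization.AtPrime q ⧸
          ((Ideal.span (Set.range fun i => (γ i ^ c) ^ 8)).map (algebraMap T Λ)).map
            (algebraMap Λ (Localization.AtPrime q))) := by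
        rw [Ideal.Quotient.nontrivial_iff]
        intro htop
        have h1 : ((Ideal.span (Set.range fun i => (γ i ^ c) ^ 8)).map (algebraMap T Λ)).map
            (algebraMap Λ (Localization.AtPrime q)) ≤ maximalIdeal (Localization.AtPrime q) := by
          rw [← Localization.AtPrime.map_eq_maximalIdeal]
          exact Ideal.map_mono hKq
        exact (maximalIdeal.isMaximal (Localization.AtPrime q)).ne_top (top_le_iff.mp (htop ▸ h1))
      exact IsLocalRing.of_surjective' _ Ideal.Quotient.mk_surjective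
    have hdim : ringKrullDim (Localization.AtPrime q ⧸
        ((Ideal.span (Set.range fun i => (γ i ^ c) ^ 8)).map (algebraMap T Λ)).map
          (algebraMap Λ (Localization.AtPrime q))) = 0 := by
      haveI := hmaxΛq
      refine ringKrullDim_eq_zero_of_gens_nilpotent
        (fun i : Fin d => Ideal.Quotient.mk (((Ideal.span (Set.range fun i =>
          (γ i ^ c) ^ 8)).map (algebraMap T Λ)).map (algebraMap Λ (Localization.AtPrime q)))
          (algebraMap Λ (Localization.AtPrime q) (algebraMap T Λ (γ i)))) ?_ ?_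
      · rw [maximalIdeal_quotient_eq_map, ← hspan, Ideal.map_span (Ideal.Quotient.mk _)]
        refine Ideal.span_mono ?_
        rintro _ ⟨_, ⟨i, rfl⟩, rfl⟩
        exact ⟨i, rfl⟩
      · intro i
        refine ⟨c * 8, ?_⟩
        rw [← map_pow, ← map_pow, ← map_pow, Ideal.Quotient.eq_zero_iff_mem]
        refine Ideal.mem_map_of_mem _ (Ideal.mem_map_of_mem _ ?_)
        rw [pow_mul]
        exact Ideal.subset_span ⟨i, rfl⟩
    refine resolvable_reduced_of_local_factorization hT q _ hKq hdim ?_
    intro S' _ _ _ _ hK0 hunits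
    obtain ⟨B', _, _, hsm, gA, h₀, ll, hh₀gA, hgAk, hrel, hh₀ll⟩ := hLFP S' hK0 hunits
    letI algTB : Algebra T B' := ((algebraMap S' B').comp (algebraMap T S')).toAlgebra
    haveI towerTB : IsScalarTower T S' B' := IsScalarTower.of_algebraMap_eq (fun _ => rfl)
    letI algkB : Algebra k B' := ((algebraMap T B').comp (algebraMap k T)).toAlgebra
    haveI towerkTB : IsScalarTower k T B' := IsScalarTower.of_algebraMap_eq (fun _ => rfl)
    letI algPB : Algebra (MvPolynomial (Fin d) k) B' :=
      ((algebraMap T B').comp (algebraMap (MvPolynomial (Fin d) k) T)).toAlgebra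
    haveI towerPTB : IsScalarTower (MvPolynomial (Fin d) k) T B' :=
      IsScalarTower.of_algebraMap_eq (fun _ => rfl)
    haveI towerkPB : IsScalarTower k (MvPolynomial (Fin d) k) B' := by
      refine IsScalarTower.of_algebraMap_eq fun c₀ => ?_
      rw [IsScalarTower.algebraMap_apply (MvPolynomial (Fin d) k) T B',
        ← IsScalarTower.algebraMap_apply k (MvPolynomial (Fin d) k) T,
        ← IsScalarTower.algebraMap_apply k T B']
    let gA' : A →ₐ[k] B' := { gA with commutes' := fun c₀ => hgAk c₀ }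
    have hgA' : ∀ x, gA' x = gA x := fun _ => rfl
    obtain ⟨hC, hCg, hCX, hCzz, hCε⟩ := hmapC B' gA' (fun i => algebraMap T B' (γ i)) ll
      (fun i => by
        rw [IsScalarTower.algebraMap_apply T S' B', hrel i]
        rfl)
    have hCcommP : ∀ p : MvPolynomial (Fin d) k,
        hC (algebraMap (MvPolynomial (Fin d) k) C p) =
          algebraMap (MvPolynomial (Fin d) k) B' p := by
      have h1 : hC.comp (IsScalarTower.toAlgHom k (MvPolynomial (Fin d) k) C) =
          IsScalarTower.toAlgHom k (MvPolynomial (Fin d) k) B' := by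
        refine MvPolynomial.algHom_ext fun i => ?_
        rw [AlgHom.comp_apply, IsScalarTower.toAlgHom_apply, IsScalarTower.toAlgHom_apply, hCX,
          IsScalarTower.algebraMap_apply (MvPolynomial (Fin d) k) T B', halgPT, aeval_X]
      intro p
      exact DFunLike.congr_fun h1 p
    let hC' : C →ₐ[MvPolynomial (Fin d) k] B' := { (hC : C →+* B') with commutes' := hCcommP }
    have hhC' : ∀ y, hC' y = hC y := fun _ => rfl
    let g₀ : T ⊗[MvPolynomial (Fin d) k] C →ₐ[T] B' :=
      Algebra.TensorProduct.lift (Algebra.ofId T B') hC' (fun _ _ => Commute.all _ _)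
    have hg₀ : ∀ (t : T) (y : C), g₀ (t ⊗ₜ y) = algebraMap T B' t * hC y := fun t y => by
      change Algebra.TensorProduct.lift (Algebra.ofId T B') hC' (fun _ _ => Commute.all _ _)
        (t ⊗ₜ y) = _
      rw [Algebra.TensorProduct.lift_tmul]
      rfl
    refine ⟨B', inferInstance, inferInstance, algTB, towerTB, hsm, g₀, h₀, ?_⟩
    -- compatibility
    have hh₀T : ∀ t : T, h₀ (algebraMap T B' t) =
        Ideal.Quotient.mk _ (algebraMap Λ (Localization.AtPrime q) (algebraMap T Λ t)) := by
      intro t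
      rw [IsScalarTower.algebraMap_apply T S' B', h₀.commutes,
        ← IsScalarTower.algebraMap_apply T S']
      rw [IsScalarTower.algebraMap_apply T (Localization.AtPrime q),
        IsScalarTower.algebraMap_apply T Λ (Localization.AtPrime q)]
      rfl
    have hC12 : ((h₀ : B' →+* _).comp (hC : C →+* B')) =
        ((Ideal.Quotient.mk (((Ideal.span (Set.range fun i =>
          (γ i ^ c) ^ 8)).map (algebraMap T Λ)).map (algebraMap Λ (Localization.AtPrime q)))).comp
          (algebraMap Λ (Localization.AtPrime q))).comp (h : C →+* Λ) := by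
      refine huniq _ _ _ (fun y => ?_) (fun y => ?_) (fun x => ?_) (fun i => ?_) (fun i j => ?_)
      · simp only [RingHom.comp_apply, RingHom.coe_coe, hCε]
      · simp only [RingHom.comp_apply, RingHom.coe_coe, hhε]
      · simp only [RingHom.comp_apply, RingHom.coe_coe]
        have h1 : hC (g x) = gA x := DFunLike.congr_fun hCg x
        have h2 : h (g x) = φ x := DFunLike.congr_fun hhg x
        rw [h1, h2, hh₀gA]
      · simp only [RingHom.comp_apply, RingHom.coe_coe]
        rw [hCX, hhX, hh₀T]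
      · simp only [RingHom.comp_apply, RingHom.coe_coe]
        rw [hCzz, hhzz, hh₀ll]
    intro y
    induction y using TensorProduct.induction_on with
    | zero => simp
    | tmul t y =>
      rw [hg₀, hhT, map_mul, map_mul, map_mul, hh₀T]
      congr 1
      exact RingHom.congr_fun hC12 y
    | add y y' hy hy' => simp only [map_add, hy, hy']

end Groth.Agent.Lib.Helper7.Smoothing
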