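import Mathlib

/-!
# Helper7Smoothing80 (helper7): witnesses `x_i^N = Σ v_ij a_j` in the Artinian subalgebra and their lifts

* `span_pow_le_span_pow`: `(ζ₁,…,ζ_d)^{d e + 1} ⊆ (ζ₁^e,…,ζ_d^e)`.
* `exists_sum_of_mem_mul_span`.
* `exists_witnesses`.
-/

set_option autoImplicit false
set_option linter.style.haveILetI false
set_option maxHeartbeats 1000000
universe u
open Function IsLocalRing

namespace Groth.Agent.Lib.Helper7.Smoothing

theorem span_pow_le_span_pow {S : Type*} [CommRing S] (e : ℕ) :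
    ∀ (d : ℕ) (ζ : Fin d → S),
      Ideal.span (Set.range ζ) ^ (d * e + 1) ≤ Ideal.span (Set.range fun i => ζ i ^ e) := by
  intro d
  induction d with
  | zero =>
    intro ζ
    have : Set.range ζ = ∅ := Set.range_eq_empty _
    rw [this, Ideal.span_empty, Nat.zero_mul, zero_add, pow_one]
    exact bot_le
  | succ d ih =>
    intro ζ
    rw [Fin.range_fin_succ, Ideal.span_insert]
    have hexp : (d + 1) * e + 1 = e + (d * e + 1) := by ring
    rw [hexp]
    refine Ideal.sup_pow_add_le_pow_sup_pow.trans (sup_le ?_ ?_)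
    · rw [Ideal.span_singleton_pow, Ideal.span_le]
      rintro _ rfl
      exact Ideal.subset_span ⟨0, rfl⟩
    · refine (ih (Fin.tail ζ)).trans (Ideal.span_mono ?_)
      rintro _ ⟨i, rfl⟩
      exact ⟨i.succ, rfl⟩

theorem exists_sum_of_mem_mul_span {S : Type*} [CommRing S] (J : Ideal S) {r : ℕ} (b : Fin r → S)
    (x : S) (hx : x ∈ J * Ideal.span (Set.range b)) :
    ∃ ε : Fin r → S, (∀ l, ε l ∈ J) ∧ x = ∑ l, ε l * b l := by
  classical
  refine Submodule.mul_induction_on hx (fun j hj y hy => ?_) (fun x y hx hy => ?_)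
  · obtain ⟨c, rfl⟩ := (Ideal.mem_span_range_iff_exists_fun).mp hy
    refine ⟨fun l => j * c l, fun l => J.mul_mem_right _ hj, ?_⟩
    rw [Finset.mul_sum]
    refine Finset.sum_congr rfl fun l _ => ?_
    ring
  · obtain ⟨ε, hε, rfl⟩ := hx
    obtain ⟨ε', hε', rfl⟩ := hy
    refine ⟨fun l => ε l + ε' l, fun l => J.add_mem (hε l) (hε' l), ?_⟩
    rw [← Finset.sum_add_distrib]
    refine Finset.sum_congr rfl fun l _ => ?_
    ring

end Groth.Agent.Lib.Helper7.Smoothing
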