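import Mathlib
import Groth.Agent.Lib.Helper7Smoothing80

/-!
# Helper7Smoothing81 (helper7): `exists_witnesses` (Stacks 07F5, step 13(a))
-/

set_option autoImplicit false
set_option linter.style.haveILetI false
set_option maxHeartbeats 1000000
universe u
open Function IsLocalRing

namespace Groth.Agent.Lib.Helper7.Smoothing

theorem exists_witnesses {k A Λ : Type u} [Field k] [CommRing A] [Algebra k A] [CommRing Λ]
    [Algebra k Λ] (φ : A →ₐ[k] Λ) (q : Ideal Λ) [q.IsPrime] {d r : ℕ} (N₀ n : ℕ) (hN₀ : 0 < N₀)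
    (hn : N₀ ≤ n) (a : Fin r → A)
    (hpow : maximalIdeal (Localization.AtPrime q) ^ N₀ ≤
      Ideal.span (Set.range fun l => algebraMap Λ (Localization.AtPrime q) (φ (a l))))
    (ζ : Fin d → Λ) (hζ : ∀ i, ζ i ∈ q)
    (A₁ : Subalgebra k (Localization.AtPrime q ⧸ maximalIdeal (Localization.AtPrime q) ^ n))
    [Module.FaithfullyFlat A₁
      (Localization.AtPrime q ⧸ maximalIdeal (Localization.AtPrime q) ^ n)]
    (hφA : ∀ x : A, Ideal.Quotient.mk (maximalIdeal (Localization.AtPrime q) ^ n)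
      (algebraMap Λ (Localization.AtPrime q) (φ x)) ∈ A₁)
    (zA : Fin d → A₁)
    (hzA : ∀ i, ((zA i : A₁) :
      Localization.AtPrime q ⧸ maximalIdeal (Localization.AtPrime q) ^ n) =
      Ideal.Quotient.mk _ (algebraMap Λ (Localization.AtPrime q) (ζ i))) :
    ∃ (vb : Fin d → Fin r → A₁) (κ₀ : Fin d → Λ),
      (∀ i, zA i ^ N₀ = ∑ l, vb i l * ⟨_, hφA (a l)⟩) ∧ (∀ i, κ₀ i ∉ q) ∧
      ∀ θ : Fin d → Λ, ∃ w : Fin d → Fin r → Λ,
        (∀ i, (ζ i * (θ i * κ₀ i)) ^ N₀ = ∑ l, w i l * φ (a l)) ∧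
        ∀ (J : Ideal (Localization.AtPrime q))
          (hJ : maximalIdeal (Localization.AtPrime q) ^ n ≤ J),
          maximalIdeal (Localization.AtPrime q) ^ (n - N₀) ≤ J → ∀ i l,
          Ideal.Quotient.mk J (algebraMap Λ (Localization.AtPrime q) (w i l)) =
            Ideal.Quotient.mk J (algebraMap Λ (Localization.AtPrime q) (θ i * κ₀ i)) ^ N₀ *
              Ideal.Quotient.factor hJ ((vb i l : A₁) :
                Localization.AtPrime q ⧸ maximalIdeal (Localization.AtPrime q) ^ n) := by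
  classical
  have hζm : ∀ i, algebraMap Λ (Localization.AtPrime q) (ζ i) ∈
      maximalIdeal (Localization.AtPrime q) := fun i =>
    (IsLocalization.AtPrime.to_map_mem_maximal_iff (Localization.AtPrime q) q (ζ i)).mpr (hζ i)
  -- Step A
  have hA : ∀ i, zA i ^ N₀ ∈ Ideal.span (Set.range fun l => (⟨_, hφA (a l)⟩ : A₁)) := by
    intro i
    rw [← Ideal.comap_map_eq_self_of_faithfullyFlat
      (B := Localization.AtPrime q ⧸ maximalIdeal (Localization.AtPrime q) ^ n)
      (Ideal.span (Set.range fun l => (⟨_, hφA (a l)⟩ : A₁))), Ideal.mem_comap, Ideal.map_span,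
      ← Set.range_comp]
    have h1 : algebraMap A₁ (Localization.AtPrime q ⧸ maximalIdeal (Localization.AtPrime q) ^ n)
        (zA i ^ N₀) = Ideal.Quotient.mk _
          (algebraMap Λ (Localization.AtPrime q) (ζ i) ^ N₀) := by
      rw [map_pow, map_pow]
      congr 1
      exact hzA i
    rw [h1]
    have h2 := hpow (Ideal.pow_mem_pow (hζm i) N₀)
    have h3 := Ideal.mem_map_of_mem
      (Ideal.Quotient.mk (maximalIdeal (Localization.AtPrime q) ^ n)) h2
    rw [Ideal.map_span, ← Set.range_comp] at h3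
    exact h3
  choose vb hvb using fun i => (Ideal.mem_span_range_iff_exists_fun).mp (hA i)
  -- Step B
  choose v' hv' using fun i l => Ideal.Quotient.mk_surjective
    (I := maximalIdeal (Localization.AtPrime q) ^ n)
    ((vb i l : A₁) : Localization.AtPrime q ⧸ maximalIdeal (Localization.AtPrime q) ^ n)
  have hD : ∀ i, algebraMap Λ (Localization.AtPrime q) (ζ i) ^ N₀ -
      ∑ l, v' i l * algebraMap Λ (Localization.AtPrime q) (φ (a l)) ∈
      maximalIdeal (Localization.AtPrime q) ^ n := by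
    intro i
    rw [← Ideal.Quotient.eq_zero_iff_mem, map_sub, map_pow, map_sum, sub_eq_zero]
    have h1 := congrArg (fun y : A₁ => (y :
      Localization.AtPrime q ⧸ maximalIdeal (Localization.AtPrime q) ^ n)) (hvb i)
    rw [← hzA i]
    rw [AddSubmonoidClass.coe_finset_sum] at h1
    rw [← SubmonoidClass.coe_pow, ← h1]
    refine Finset.sum_congr rfl fun l _ => ?_
    rw [map_mul, hv']
    rfl
  have hsplit : maximalIdeal (Localization.AtPrime q) ^ n ≤
      maximalIdeal (Localization.AtPrime q) ^ (n - N₀) *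
        Ideal.span (Set.range fun l => algebraMap Λ (Localization.AtPrime q) (φ (a l))) := by
    have : n = (n - N₀) + N₀ := by omega
    conv_lhs => rw [this, pow_add]
    exact Ideal.mul_mono_right hpow
  choose ε hεm hε using fun i => exists_sum_of_mem_mul_span _ _ _ (hsplit (hD i))
  have hv'' : ∀ i, algebraMap Λ (Localization.AtPrime q) (ζ i) ^ N₀ =
      ∑ l, (v' i l + ε i l) * algebraMap Λ (Localization.AtPrime q) (φ (a l)) := by
    intro i
    have h1 := hε i
    rw [sub_eq_iff_eq_add] at h1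
    rw [h1, ← Finset.sum_add_distrib]
    refine Finset.sum_congr rfl fun l _ => ?_
    ring
  -- Step C
  choose ρ hρ using fun i => IsLocalization.exist_integer_multiples q.primeCompl
    (Finset.univ : Finset (Fin r)) (fun l => v' i l + ε i l)
  choose V hV using fun i l => hρ i l (Finset.mem_univ l)
  have hV' : ∀ i l, algebraMap Λ (Localization.AtPrime q) (V i l) =
      algebraMap Λ (Localization.AtPrime q) (ρ i) * (v' i l + ε i l) := by
    intro i l
    rw [hV i l, Algebra.smul_def]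
  have hσ : ∀ i, ∃ σ : q.primeCompl, (σ : Λ) * ((ρ i : Λ) * ζ i ^ N₀) =
      (σ : Λ) * ∑ l, V i l * φ (a l) := by
    intro i
    apply (IsLocalization.eq_iff_exists q.primeCompl (Localization.AtPrime q)).mp
    rw [map_mul, map_pow, hv'' i, Finset.mul_sum, map_sum]
    refine Finset.sum_congr rfl fun l _ => ?_
    rw [map_mul, hV']
    ring
  choose σ hσ using hσ
  refine ⟨vb, fun i => (σ i : Λ) * (ρ i : Λ), fun i => by rw [← hvb i], fun i =>
    (Submonoid.mul_mem _ (σ i).2 (ρ i).2 : (σ i : Λ) * (ρ i : Λ) ∈ q.primeCompl), fun θ => ?_⟩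
  obtain ⟨m, rfl⟩ : ∃ m, N₀ = m + 1 := ⟨N₀ - 1, by omega⟩
  refine ⟨fun i l => θ i ^ (m + 1) * ((σ i : Λ) * (ρ i : Λ)) ^ m * (σ i : Λ) * V i l,
    fun i => ?_, fun J hJ hJ' i l => ?_⟩
  · have h1 : (ζ i * (θ i * ((σ i : Λ) * (ρ i : Λ)))) ^ (m + 1) =
        θ i ^ (m + 1) * ((σ i : Λ) * (ρ i : Λ)) ^ m * ((σ i : Λ) * ((ρ i : Λ) * ζ i ^ (m + 1))) := by
      ring
    rw [h1, hσ i, Finset.mul_sum, Finset.mul_sum]
    refine Finset.sum_congr rfl fun l _ => ?_
    ring
  · have h1 : algebraMap Λ (Localization.AtPrime q)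
        (θ i ^ (m + 1) * ((σ i : Λ) * (ρ i : Λ)) ^ m * (σ i : Λ) * V i l) =
        algebraMap Λ (Localization.AtPrime q) (θ i * ((σ i : Λ) * (ρ i : Λ))) ^ (m + 1) *
          (v' i l + ε i l) := by
      rw [map_mul, hV']
      simp only [map_mul, map_pow]
      ring
    rw [h1, map_mul, map_pow, map_add]
    congr 1
    have h2 : Ideal.Quotient.mk J (ε i l) = 0 :=
      Ideal.Quotient.eq_zero_iff_mem.mpr (hJ' (hεm i l))
    rw [h2, add_zero, ← hv' i l, Ideal.Quotient.factor_mk]

end Groth.Agent.Lib.Helper7.Smoothing
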