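import Mathlib
import Groth.Agent.Lib.Helper7Smoothing80

/-!
# Helper7Smoothing82 (helper7): the local smooth factorization from the étale Artinian subalgebra
(Stacks 07F5, steps 19–22).
-/

set_option autoImplicit false
set_option linter.style.haveILetI false
set_option maxHeartbeats 2000000
universe u
open Function IsLocalRing TensorProduct

namespace Groth.Agent.Lib.Helper7.Smoothing

theorem local_factorization_of_etale {k A R T Λ : Type u} [Field k] [CommRing A] [Algebra k A]
    [CommRing Λ] [Algebra k Λ] (φ : A →ₐ[k] Λ) (q : Ideal Λ) [q.IsPrime] {d r : ℕ} (N₀ e n : ℕ)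
    (hn : d * e + 1 ≤ n) (a : Fin r → A)
    [CommRing R] [Algebra k R] [Algebra R Λ] [IsScalarTower k R Λ] (z : Fin d → R)
    (p : Ideal R) [p.IsPrime] (hp : p = q.comap (algebraMap R Λ))
    (hzW : Ideal.span (Set.range fun i => algebraMap R (Localization.AtPrime p) (z i)) =
      maximalIdeal (Localization.AtPrime p))
    (A₁ : Subalgebra k (Localization.AtPrime q ⧸ maximalIdeal (Localization.AtPrime q) ^ n))
    (wA : (Localization.AtPrime p ⧸ maximalIdeal (Localization.AtPrime p) ^ n) →+* A₁)
    (hwAet : wA.Etale)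
    (hwA : ∀ x : R, ((wA (Ideal.Quotient.mk _ (algebraMap R (Localization.AtPrime p) x)) : A₁) :
      Localization.AtPrime q ⧸ maximalIdeal (Localization.AtPrime q) ^ n) =
      Ideal.Quotient.mk _ (algebraMap Λ (Localization.AtPrime q) (algebraMap R Λ x)))
    (hφA : ∀ x : A, Ideal.Quotient.mk (maximalIdeal (Localization.AtPrime q) ^ n)
      (algebraMap Λ (Localization.AtPrime q) (φ x)) ∈ A₁)
    [CommRing T] [Algebra k T] [Algebra R T] [IsScalarTower k R T] [Algebra T Λ]
    [IsScalarTower R T Λ] [IsScalarTower k T Λ]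
    (u : Fin d → T) (hu : ∀ i, algebraMap T Λ (u i) ∉ q)
    (K : Ideal T) (hK : ∀ i, (algebraMap R T (z i) * u i) ^ e ∈ K)
    (hKL : maximalIdeal (Localization.AtPrime q) ^ n ≤
      (K.map (algebraMap T Λ)).map (algebraMap Λ (Localization.AtPrime q)))
    (vb : Fin d → Fin r → A₁)
    (hvb : ∀ i, wA (Ideal.Quotient.mk _ (algebraMap R (Localization.AtPrime p) (z i))) ^ N₀ =
      ∑ l, vb i l * ⟨_, hφA (a l)⟩)
    (w : Fin d → Fin r → Λ)
    (hwv : ∀ i l, Ideal.Quotient.mk ((K.map (algebraMap T Λ)).map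
        (algebraMap Λ (Localization.AtPrime q))) (algebraMap Λ (Localization.AtPrime q) (w i l)) =
      Ideal.Quotient.mk _ (algebraMap Λ (Localization.AtPrime q) (algebraMap T Λ (u i))) ^ N₀ *
        Ideal.Quotient.factor hKL ((vb i l : A₁) :
          Localization.AtPrime q ⧸ maximalIdeal (Localization.AtPrime q) ^ n)) :
    ∀ (S' : Type u) [CommRing S'] [Algebra T S']
      [Algebra S' (Localization.AtPrime q ⧸ (K.map (algebraMap T Λ)).map
          (algebraMap Λ (Localization.AtPrime q)))]
      [IsScalarTower T S' (Localization.AtPrime q ⧸ (K.map (algebraMap T Λ)).map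
          (algebraMap Λ (Localization.AtPrime q)))],
      (∀ x ∈ K, algebraMap T S' x = 0) →
      (∀ s : T, algebraMap T Λ s ∉ q → IsUnit (algebraMap T S' s)) →
      ∃ (B' : Type u) (_ : CommRing B') (_ : Algebra S' B'), Algebra.Smooth S' B' ∧
        ∃ (gA : A →+* B') (h₀ : B' →ₐ[S'] (Localization.AtPrime q ⧸
          (K.map (algebraMap T Λ)).map (algebraMap Λ (Localization.AtPrime q))))
          (ll : Fin d → Fin r → B'),
          (∀ x, h₀ (gA x) = Ideal.Quotient.mk _ (algebraMap Λ (Localization.AtPrime q) (φ x))) ∧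
          (∀ c₀ : k, gA (algebraMap k A c₀) =
            algebraMap S' B' (algebraMap T S' (algebraMap k T c₀))) ∧
          (∀ i, algebraMap S' B' (algebraMap T S' (algebraMap R T (z i) * u i)) ^ N₀ =
            ∑ l, ll i l * gA (a l)) ∧
          ∀ i l, h₀ (ll i l) =
            Ideal.Quotient.mk _ (algebraMap Λ (Localization.AtPrime q) (w i l)) := by
  intro S' _ _ _ _ hK0 hunits
  classical
  have hmemp : ∀ x : R, x ∈ p ↔ algebraMap R Λ x ∈ q := fun x => by rw [hp]; rfl
  -- `W → S'`
  have hRunits : ∀ y : p.primeCompl, IsUnit (((algebraMap T S').comp (algebraMap R T)) y) := by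
    intro y
    refine hunits _ ?_
    rw [← IsScalarTower.algebraMap_apply R T Λ]
    intro hy
    exact y.2 ((hmemp _).mpr hy)
  obtain ⟨ωW, hωW⟩ : ∃ ωW : Localization.AtPrime p →+* S',
      ∀ x : R, ωW (algebraMap R (Localization.AtPrime p) x) =
        algebraMap T S' (algebraMap R T x) :=
    ⟨IsLocalization.lift hRunits, fun x => IsLocalization.lift_eq hRunits x⟩
  have hze : ∀ i, ωW (algebraMap R (Localization.AtPrime p) (z i)) ^ e = 0 := by
    intro i
    have h1 : algebraMap T S' ((algebraMap R T (z i) * u i) ^ e) = 0 := hK0 _ (hK i)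
    rw [map_pow, map_mul, mul_pow] at h1
    have h2 : IsUnit (algebraMap T S' (u i) ^ e) := (hunits _ (hu i)).pow e
    rw [hωW]
    exact (h2.mul_left_eq_zero).mp h1
  have hkerW : ∀ x ∈ maximalIdeal (Localization.AtPrime p) ^ n, ωW x = 0 := by
    intro x hx
    have h1 : maximalIdeal (Localization.AtPrime p) ^ n ≤ Ideal.span (Set.range fun i =>
        algebraMap R (Localization.AtPrime p) (z i) ^ e) := by
      rw [← hzW]
      exact (Ideal.pow_le_pow_right hn).trans (span_pow_le_span_pow e d _)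
    have h2 : Ideal.span (Set.range fun i =>
        algebraMap R (Localization.AtPrime p) (z i) ^ e) ≤ RingHom.ker ωW := by
      rw [Ideal.span_le]
      rintro _ ⟨i, rfl⟩
      rw [SetLike.mem_coe, RingHom.mem_ker, map_pow]
      exact hze i
    exact h2 (h1 hx)
  obtain ⟨ω, hω'⟩ : ∃ ω : (Localization.AtPrime p ⧸ maximalIdeal (Localization.AtPrime p) ^ n) →+* S',
      ∀ x, ω (Ideal.Quotient.mk _ x) = ωW x :=
    ⟨Ideal.Quotient.lift _ ωW hkerW, fun _ => rfl⟩
  have hω : ∀ x : R, ω (Ideal.Quotient.mk _ (algebraMap R (Localization.AtPrime p) x)) =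
      algebraMap T S' (algebraMap R T x) := fun x => by rw [hω', hωW]
  letI algWS : Algebra (Localization.AtPrime p ⧸ maximalIdeal (Localization.AtPrime p) ^ n) S' :=
    ω.toAlgebra
  letI algWA : Algebra (Localization.AtPrime p ⧸ maximalIdeal (Localization.AtPrime p) ^ n) A₁ :=
    wA.toAlgebra
  haveI : Algebra.Etale (Localization.AtPrime p ⧸ maximalIdeal (Localization.AtPrime p) ^ n) A₁ :=
    hwAet
  have halgWS : ∀ x, algebraMap (Localization.AtPrime p ⧸ maximalIdeal (Localization.AtPrime p) ^ n)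
      S' x = ω x := fun _ => rfl
  have halgWA : ∀ x, algebraMap (Localization.AtPrime p ⧸ maximalIdeal (Localization.AtPrime p) ^ n)
      A₁ x = wA x := fun _ => rfl
  letI algWΛq : Algebra (Localization.AtPrime p ⧸ maximalIdeal (Localization.AtPrime p) ^ n)
      (Localization.AtPrime q ⧸ (K.map (algebraMap T Λ)).map
        (algebraMap Λ (Localization.AtPrime q))) :=
    ((algebraMap S' _).comp ω).toAlgebra
  haveI : IsScalarTower (Localization.AtPrime p ⧸ maximalIdeal (Localization.AtPrime p) ^ n) S'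
      (Localization.AtPrime q ⧸ (K.map (algebraMap T Λ)).map
        (algebraMap Λ (Localization.AtPrime q))) := IsScalarTower.of_algebraMap_eq (fun _ => rfl)
  -- the map `A₁ → Λq`
  have hTΛq : ∀ t : T, algebraMap T (Localization.AtPrime q ⧸ (K.map (algebraMap T Λ)).map
      (algebraMap Λ (Localization.AtPrime q))) t =
      Ideal.Quotient.mk _ (algebraMap Λ (Localization.AtPrime q) (algebraMap T Λ t)) := by
    intro t
    rw [IsScalarTower.algebraMap_apply T (Localization.AtPrime q),
      IsScalarTower.algebraMap_apply T Λ (Localization.AtPrime q)]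
    rfl
  obtain ⟨τ, hτ⟩ : ∃ τ : A₁ →+* (Localization.AtPrime q ⧸ (K.map (algebraMap T Λ)).map
      (algebraMap Λ (Localization.AtPrime q))),
      ∀ y : A₁, τ y = Ideal.Quotient.factor hKL (y :
        Localization.AtPrime q ⧸ maximalIdeal (Localization.AtPrime q) ^ n) :=
    ⟨(Ideal.Quotient.factor hKL).comp (algebraMap A₁ _), fun _ => rfl⟩
  have hτW : ∀ x : Localization.AtPrime p ⧸ maximalIdeal (Localization.AtPrime p) ^ n,
      τ (wA x) = algebraMap S' _ (ω x) := by
    have h1 : ((τ.comp wA).comp (Ideal.Quotient.mk _)) =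
        (((algebraMap S' (Localization.AtPrime q ⧸ (K.map (algebraMap T Λ)).map
        (algebraMap Λ (Localization.AtPrime q)))).comp ω).comp (Ideal.Quotient.mk _)) := by
      refine IsLocalization.ringHom_ext p.primeCompl ?_
      ext x
      simp only [RingHom.comp_apply]
      rw [hω, ← IsScalarTower.algebraMap_apply T S', hTΛq, hτ, hwA, Ideal.Quotient.factor_mk,
        ← IsScalarTower.algebraMap_apply R T Λ]
    intro x
    obtain ⟨x, rfl⟩ := Ideal.Quotient.mk_surjective x
    exact RingHom.congr_fun h1 x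
  let τ' : A₁ →ₐ[Localization.AtPrime p ⧸ maximalIdeal (Localization.AtPrime p) ^ n]
      (Localization.AtPrime q ⧸ (K.map (algebraMap T Λ)).map
        (algebraMap Λ (Localization.AtPrime q))) := { τ with commutes' := hτW }
  have hτ' : ∀ y, τ' y = τ y := fun _ => rfl
  -- the algebra `B'`
  let h₀ : S' ⊗[Localization.AtPrime p ⧸ maximalIdeal (Localization.AtPrime p) ^ n] A₁ →ₐ[S']
      (Localization.AtPrime q ⧸ (K.map (algebraMap T Λ)).map
        (algebraMap Λ (Localization.AtPrime q))) :=
    Algebra.TensorProduct.lift (Algebra.ofId S' _) τ' (fun _ _ => Commute.all _ _)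
  have hh₀ : ∀ (s : S') (y : A₁), h₀ (s ⊗ₜ y) = algebraMap S' _ s * τ y := fun s y => by
    change Algebra.TensorProduct.lift (Algebra.ofId S' _) τ' (fun _ _ => Commute.all _ _)
      (s ⊗ₜ y) = _
    rw [Algebra.TensorProduct.lift_tmul]
    rfl
  obtain ⟨φA, hφA'⟩ : ∃ φA : A →+* A₁, ∀ x, ((φA x : A₁) :
      Localization.AtPrime q ⧸ maximalIdeal (Localization.AtPrime q) ^ n) =
      Ideal.Quotient.mk _ (algebraMap Λ (Localization.AtPrime q) (φ x)) :=
    ⟨RingHom.codRestrict (((Ideal.Quotient.mk _).comp (algebraMap Λ (Localization.AtPrime q))).comp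
      (φ : A →+* Λ)) A₁ hφA, fun _ => rfl⟩
  have hφAa : ∀ l, φA (a l) = ⟨_, hφA (a l)⟩ := fun l => Subtype.ext (hφA' (a l))
  refine ⟨S' ⊗[Localization.AtPrime p ⧸ maximalIdeal (Localization.AtPrime p) ^ n] A₁,
    inferInstance, inferInstance, inferInstance,
    (Algebra.TensorProduct.includeRight : A₁ →ₐ[Localization.AtPrime p ⧸
      maximalIdeal (Localization.AtPrime p) ^ n] _).toRingHom.comp φA, h₀,
    fun i l => algebraMap T S' (u i ^ N₀) ⊗ₜ vb i l, ?_, ?_, ?_, ?_⟩
  · intro x
    change h₀ ((1 : S') ⊗ₜ φA x) = _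
    rw [hh₀, map_one, one_mul, hτ, hφA', Ideal.Quotient.factor_mk]
  · intro c₀
    change (1 : S') ⊗ₜ φA (algebraMap k A c₀) = (algebraMap T S' (algebraMap k T c₀)) ⊗ₜ (1 : A₁)
    have h1 : φA (algebraMap k A c₀) = algebraMap (Localization.AtPrime p ⧸
        maximalIdeal (Localization.AtPrime p) ^ n) A₁
        (Ideal.Quotient.mk _ (algebraMap R (Localization.AtPrime p) (algebraMap k R c₀))) := by
      apply Subtype.ext
      rw [hφA', halgWA, hwA, AlgHom.commutes, ← IsScalarTower.algebraMap_apply k R Λ]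
    have h2 : algebraMap T S' (algebraMap k T c₀) = algebraMap (Localization.AtPrime p ⧸
        maximalIdeal (Localization.AtPrime p) ^ n) S'
        (Ideal.Quotient.mk _ (algebraMap R (Localization.AtPrime p) (algebraMap k R c₀))) := by
      rw [halgWS, hω, ← IsScalarTower.algebraMap_apply k R T]
    rw [h1, h2]
    exact (Algebra.TensorProduct.tmul_one_eq_one_tmul _).symm
  · intro i
    have hmove : ∀ (wb : Localization.AtPrime p ⧸ maximalIdeal (Localization.AtPrime p) ^ n)
        (s : S'), (algebraMap _ S' wb * s) ⊗ₜ[Localization.AtPrime p ⧸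
          maximalIdeal (Localization.AtPrime p) ^ n] (1 : A₁) = s ⊗ₜ algebraMap _ A₁ wb := by
      intro wb s
      have h0 : (algebraMap _ S' wb * s) ⊗ₜ[Localization.AtPrime p ⧸
          maximalIdeal (Localization.AtPrime p) ^ n] (1 : A₁) =
          (algebraMap _ S' wb ⊗ₜ 1) * (s ⊗ₜ 1) := by
        rw [Algebra.TensorProduct.tmul_mul_tmul, mul_one]
      rw [h0, Algebra.TensorProduct.tmul_one_eq_one_tmul, Algebra.TensorProduct.tmul_mul_tmul,
        one_mul, mul_one]
    have h1 : algebraMap T S' (algebraMap R T (z i) * u i) ^ N₀ =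
        algebraMap (Localization.AtPrime p ⧸ maximalIdeal (Localization.AtPrime p) ^ n) S'
          (Ideal.Quotient.mk _ (algebraMap R (Localization.AtPrime p) (z i)) ^ N₀) *
          algebraMap T S' (u i ^ N₀) := by
      rw [halgWS, map_pow, hω, map_mul, mul_pow, map_pow]
    rw [Algebra.TensorProduct.algebraMap_apply, Algebra.algebraMap_self_apply,
      Algebra.TensorProduct.tmul_pow, one_pow, h1, hmove, halgWA, map_pow wA, hvb i,
      TensorProduct.tmul_sum]
    refine Finset.sum_congr rfl fun l _ => ?_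
    change _ = (algebraMap T S' (u i ^ N₀) ⊗ₜ vb i l) * ((1 : S') ⊗ₜ φA (a l))
    rw [Algebra.TensorProduct.tmul_mul_tmul, mul_one, hφAa]
  · intro i l
    rw [hh₀, ← IsScalarTower.algebraMap_apply T S', hTΛq, hτ, hwv, map_pow, map_pow, map_pow]

end Groth.Agent.Lib.Helper7.Smoothing
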