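import Mathlib
import Groth.Prelude.Def_Smoothing
import Groth.Prelude.Def_CAlgX
import Groth.Agent.S2109
import Groth.Agent.Lib.Helper5RLR
import Groth.Agent.Lib.Helper7Smoothing73
import Groth.Agent.Lib.Helper7Smoothing75
import Groth.Agent.Lib.Helper7Smoothing77
import Groth.Agent.Lib.Helper7Smoothing79
import Groth.Agent.Lib.Helper7Smoothing81
import Groth.Agent.Lib.Helper7Smoothing82

/-!
# Helper7Smoothing83 (helper7): Stacks 07F5 (inseparable residue fields), case `dim Λ_𝔮 > 0`
-/

set_option autoImplicit false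
set_option linter.style.haveILetI false
set_option maxHeartbeats 4000000
universe u
open Function TensorProduct MvPolynomial IsLocalRing RingTheory.Sequence
open Groth.Agent.S2109

namespace Groth.Agent.Lib.Helper7.Smoothing

theorem resolvable_charp_dim_pos {k A Λ : Type u} [Field k] (p₀ : ℕ) [Fact p₀.Prime] [CharP k p₀]
    [CommRing A] [Algebra k A] [Algebra.FinitePresentation k A] [CommRing Λ] [Algebra k Λ]
    [IsNoetherianRing Λ] (φ : A →ₐ[k] Λ) (q : Ideal Λ) [q.IsPrime]
    (hmin : q ∈ (Smoothing.singRad k φ).minimalPrimes)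
    [IsRegularLocalRing (Localization.AtPrime q)]
    (hsm : CAlgX.IsAdicFormallySmooth k (Localization.AtPrime q)
      (maximalIdeal (Localization.AtPrime q)))
    (hext : DerivExt k (Localization.AtPrime q) q.ResidueField)
    {d : ℕ} (hd : ringKrullDim (Localization.AtPrime q) = d) (hd0 : 0 < d) :
    Smoothing.Resolvable k φ q := by
  classical
  have hminI : q ∈ ((Smoothing.singularIdeal k A).map φ).minimalPrimes := by
    have := hmin
    rw [Smoothing.singRad, Ideal.radical_minimalPrimes] at this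
    exact this
  -- the exponent `N₀`
  obtain ⟨N₀, hN₀, hpowq⟩ : ∃ n : ℕ, 0 < n ∧ (q ^ n).map (algebraMap Λ (Localization.AtPrime q)) ≤
      ((Smoothing.singularIdeal k A).map φ).map (algebraMap Λ (Localization.AtPrime q)) := by
    have hrad := IsLocalization.AtPrime.radical_map_of_mem_minimalPrimes (Localization.AtPrime q) q
      ((Smoothing.singularIdeal k A).map φ) hminI
    obtain ⟨n, hn⟩ := Ideal.exists_pow_le_of_le_radical_of_fg hrad.ge
      (IsNoetherian.noetherian _)
    refine ⟨n + 1, Nat.succ_pos n, ?_⟩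
    rw [Ideal.map_pow]
    exact (Ideal.pow_le_pow_right (Nat.le_succ n)).trans hn
  -- generators of `H`
  haveI : IsNoetherianRing A := Algebra.FiniteType.isNoetherianRing k A
  obtain ⟨r, a, ha⟩ := Submodule.fg_iff_exists_fin_generating_family.mp
    (IsNoetherian.noetherian (Smoothing.singularIdeal k A))
  have hpow' : maximalIdeal (Localization.AtPrime q) ^ N₀ ≤
      Ideal.span (Set.range fun l => algebraMap Λ (Localization.AtPrime q) (φ (a l))) := by
    have h1 : ((Smoothing.singularIdeal k A).map φ).map (algebraMap Λ (Localization.AtPrime q)) =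
        Ideal.span (Set.range fun l => algebraMap Λ (Localization.AtPrime q) (φ (a l))) := by
      have h2 : Smoothing.singularIdeal k A = Ideal.span (Set.range a) := ha.symm
      rw [h2, Ideal.map_span, Ideal.map_span, ← Set.range_comp, ← Set.range_comp]
      rfl
    rw [← h1, ← Localization.AtPrime.map_eq_maximalIdeal, ← Ideal.map_pow]
    exact hpowq
  -- the algebra `C`
  obtain ⟨C, _, _, _, _, hCfp, g, c, zz, ε, hc, hstd, hsing, hmapC, huniq⟩ :=
    exists_BC' (k := k) (A := A) d N₀ a ha
  haveI := hCfp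
  obtain ⟨e, he⟩ : ∃ e : ℕ, e = 8 * c := ⟨_, rfl⟩
  have he0 : 0 < e := by omega
  obtain ⟨n, hn⟩ : ∃ n : ℕ, n = N₀ + (d * e + 1) := ⟨_, rfl⟩
  have hn0 : 0 < n := by omega
  -- algebra generators of `A`
  obtain ⟨s, hs⟩ := (Algebra.FiniteType.out : (⊤ : Subalgebra k A).FG)
  obtain ⟨R, _, _, hRfp, hRfs, ev, p, hpprime, hp, d', z, hdim', hevz, hwr, hzW, hzL, A₁, wA, hff,
    hE₀, hwAet, hwA⟩ := exists_local_structure_charp p₀ q hsm hext n hn0 (s.image φ)
  haveI := hRfp
  haveI := hRfs
  haveI := hpprime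
  haveI := hff
  have hdd : d = d' := by
    have := hd.symm.trans hdim'
    exact_mod_cast this
  subst hdd
  haveI : IsNoetherianRing R := Algebra.FiniteType.isNoetherianRing k R
  letI algRΛ : Algebra R Λ := ev.toAlgebra
  haveI towerkRΛ : IsScalarTower k R Λ :=
    IsScalarTower.of_algebraMap_eq (fun c₀ => (ev.commutes c₀).symm)
  have halgRΛ : ∀ x, algebraMap R Λ x = ev x := fun _ => rfl
  subst hp
  -- `φ(A)` lands in `A₁`
  have hφA : ∀ x : A, Ideal.Quotient.mk (maximalIdeal (Localization.AtPrime q) ^ n)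
      (algebraMap Λ (Localization.AtPrime q) (φ x)) ∈ A₁ := by
    let θφ : A →ₐ[k] (Localization.AtPrime q ⧸ maximalIdeal (Localization.AtPrime q) ^ n) :=
      ((Ideal.Quotient.mkₐ k _).comp (IsScalarTower.toAlgHom k Λ (Localization.AtPrime q))).comp φ
    have h1 : Algebra.adjoin k (s : Set A) ≤ A₁.comap θφ := by
      rw [Algebra.adjoin_le_iff]
      intro x hx
      exact hE₀ _ (Finset.mem_image_of_mem _ hx)
    intro x
    have h2 : x ∈ Algebra.adjoin k (s : Set A) := by rw [hs]; trivial
    exact h1 h2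
  -- witnesses
  obtain ⟨vb, κ₀, hvb, hκ₀, hW⟩ := exists_witnesses φ q N₀ n hN₀ (by omega) a hpow'
    (fun i => ev (z i)) hevz A₁ hφA
    (fun i => wA (Ideal.Quotient.mk _ (algebraMap R (Localization.AtPrime
      (q.comap (ev : R →+* Λ))) (z i)))) (fun i => hwA (z i))
  -- multipliers
  have hregΛ : IsWeaklyRegular (Localization.AtPrime q)
      (List.ofFn fun i => algebraMap Λ (Localization.AtPrime q) (algebraMap R Λ (z i))) :=
    (Groth.Agent.Lib.Helper5.isRegular_ofFn_of_span_eq_maximalIdeal hd _ hzL).toIsWeaklyRegular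
  obtain ⟨T, _, _, hTfp, hTfs, hTflat, ψ, u, θ, hθ, hψu, haT, haΛ⟩ :=
    exists_multipliers q z e he0 hwr hregΛ κ₀ hκ₀ d le_rfl
  haveI := hTfp
  haveI := hTfs
  letI algTΛ : Algebra T Λ := ψ.toRingHom.toAlgebra
  have halgTΛ : ∀ x, algebraMap T Λ x = ψ x := fun _ => rfl
  haveI towerRTΛ : IsScalarTower R T Λ :=
    IsScalarTower.of_algebraMap_eq (fun x => (ψ.commutes x).symm)
  letI algkT : Algebra k T := ((algebraMap R T).comp (algebraMap k R)).toAlgebra
  haveI towerkRT : IsScalarTower k R T := IsScalarTower.of_algebraMap_eq (fun _ => rfl)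
  haveI towerkTΛ : IsScalarTower k T Λ := by
    refine IsScalarTower.of_algebraMap_eq fun c₀ => ?_
    rw [IsScalarTower.algebraMap_apply k R T, ← IsScalarTower.algebraMap_apply R T Λ,
      ← IsScalarTower.algebraMap_apply k R Λ]
  haveI : Algebra.FinitePresentation k T := Algebra.FinitePresentation.trans k R T
  haveI : Algebra.FormallySmooth k T := Algebra.FormallySmooth.comp k R T
  -- the elements `γ`
  have hθκ : ∀ i, θ i * κ₀ i ∉ q := fun i h =>
    (Ideal.IsPrime.mem_or_mem inferInstance h).elim (hθ i) (hκ₀ i)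
  have hπ : ∀ i : Fin d, algebraMap T Λ (algebraMap R T (z i) * u i) =
      algebraMap R Λ (z i) * (θ i * κ₀ i) := by
    intro i
    rw [map_mul, ← IsScalarTower.algebraMap_apply R T Λ, halgTΛ, hψu i i.2]
  have hπfun : (fun l : Fin d => algebraMap T Λ (algebraMap R T (z l) * u l)) =
      fun l => algebraMap R Λ (z l) * (θ l * κ₀ l) := funext hπ
  obtain ⟨w, hw1, hw2⟩ := hW θ
  have hspan : Ideal.span (Set.range fun i : Fin d => algebraMap Λ (Localization.AtPrime q)
      (algebraMap T Λ (algebraMap R T (z i) * u i))) = maximalIdeal (Localization.AtPrime q) := by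
    rw [← hzL]
    refine span_range_eq_of_units _ _ fun i => ?_
    refine ⟨algebraMap Λ (Localization.AtPrime q) (θ i * κ₀ i),
      IsLocalization.map_units (Localization.AtPrime q) (⟨_, hθκ i⟩ : q.primeCompl), ?_⟩
    rw [hπ, map_mul, mul_comm]
    rfl
  -- the ideal `K`
  have hKL' : maximalIdeal (Localization.AtPrime q) ^ (d * e + 1) ≤
      ((Ideal.span (Set.range fun i : Fin d => ((algebraMap R T (z i) * u i) ^ c) ^ 8)).map
        (algebraMap T Λ)).map (algebraMap Λ (Localization.AtPrime q)) := by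
    rw [← hspan]
    refine (span_pow_le_span_pow e d _).trans ?_
    rw [Ideal.span_le]
    rintro _ ⟨i, rfl⟩
    rw [SetLike.mem_coe]
    beta_reduce
    rw [← map_pow, ← map_pow]
    refine Ideal.mem_map_of_mem _ (Ideal.mem_map_of_mem _ ?_)
    rw [he, mul_comm 8 c, pow_mul]
    exact Ideal.subset_span ⟨i, rfl⟩
  have hKL : maximalIdeal (Localization.AtPrime q) ^ n ≤
      ((Ideal.span (Set.range fun i : Fin d => ((algebraMap R T (z i) * u i) ^ c) ^ 8)).map
        (algebraMap T Λ)).map (algebraMap Λ (Localization.AtPrime q)) :=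
    (Ideal.pow_le_pow_right (by omega)).trans hKL'
  have hKL'' : maximalIdeal (Localization.AtPrime q) ^ (n - N₀) ≤
      ((Ideal.span (Set.range fun i : Fin d => ((algebraMap R T (z i) * u i) ^ c) ^ 8)).map
        (algebraMap T Λ)).map (algebraMap Λ (Localization.AtPrime q)) :=
    (Ideal.pow_le_pow_right (by omega)).trans hKL'
  have hLFP := local_factorization_of_etale φ q N₀ e n (by omega) a z
    (q.comap (ev : R →+* Λ)) rfl hzW A₁ wA hwAet hwA hφA u
    (fun i => by rw [halgTΛ, hψu i i.2]; exact hθκ i)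
    (Ideal.span (Set.range fun i : Fin d => ((algebraMap R T (z i) * u i) ^ c) ^ 8))
    (fun i => by
      rw [he, mul_comm 8 c, pow_mul]
      exact Ideal.subset_span ⟨i, rfl⟩)
    hKL vb hvb w
    (fun i l => by
      rw [hw2 _ hKL hKL'' i l, halgTΛ, hψu i i.2])
  refine resolvable_of_local_factorization φ q hd0 c hc N₀ a g zz ε hstd hsing hmapC huniq
    (fun i => algebraMap R T (z i) * u i) ?_ ?_ ?_ hspan w ?_ hLFP
  · intro i
    rw [hπ]
    exact Ideal.mul_mem_right _ _ (hevz i)
  · intro i x hx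
    rw [← he] at hx ⊢
    exact haT i i.2 x hx
  · intro i x hx
    rw [← he, hπfun] at hx ⊢
    rw [hπ] at hx ⊢
    exact haΛ i i.2 x hx
  · intro i
    rw [hπ]
    exact hw1 i

end Groth.Agent.Lib.Helper7.Smoothing
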