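import Mathlib
import Groth.Prelude.Def_Smoothing
import Groth.Prelude.Def_Found
import Groth.Agent.S6823
import Groth.Agent.S6824
import Groth.Agent.Lib.Helper7Smoothing30
import Groth.Agent.Lib.Helper7Smoothing50
import Groth.Agent.Lib.Helper7Smoothing84
import Groth.Agent.Lib.Helper14GeomRed

/-!
# Helper7Smoothing85 (helper7): Popescu's theorem over a field (Stacks 07GC, field case)

* `indSmooth_of_subsingleton`
* `exists_smooth_factor_of_map_singularIdeal_eq_top` (Stacks 07CF): if `H_{A/R} Λ = Λ` then `A → Λ`
  factors through a smooth `R`-algebra.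
* `isGeometricallyReduced_of_perfectField`
* `indSmooth_of_isGeometricallyRegular_field`: a Noetherian geometrically regular algebra over a field
  is ind-smooth.
-/

set_option autoImplicit false
set_option linter.style.haveILetI false
universe u
open Function TensorProduct MvPolynomial IsLocalRing

namespace Groth.Agent.Lib.Helper7.Smoothing

/-- a trivial algebra is ind-smooth. -/
theorem indSmooth_of_subsingleton {R Λ : Type u} [CommRing R] [CommRing Λ] [Algebra R Λ]
    [Subsingleton Λ] : Smoothing.IndSmooth R Λ := by
  intro A _ _ hfp f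
  haveI : Algebra.FormallySmooth R (Localization.Away (0 : R)) :=
    Algebra.FormallySmooth.of_isLocalization (Submonoid.powers (0 : R))
  haveI : Algebra.FinitePresentation R (Localization.Away (0 : R)) :=
    IsLocalization.Away.finitePresentation (0 : R)
  haveI : Subsingleton (Localization.Away (0 : R)) :=
    IsLocalization.subsingleton (M := Submonoid.powers (0 : R)) ⟨1, by simp⟩
  refine ⟨Localization.Away (0 : R), inferInstance, inferInstance, ⟨inferInstance, inferInstance⟩,
    { toFun := fun _ => 0
      map_one' := Subsingleton.elim _ _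
      map_mul' := fun _ _ => Subsingleton.elim _ _
      map_zero' := rfl
      map_add' := fun _ _ => Subsingleton.elim _ _
      commutes' := fun _ => Subsingleton.elim _ _ },
    { toFun := fun _ => 0
      map_one' := Subsingleton.elim _ _
      map_mul' := fun _ _ => Subsingleton.elim _ _
      map_zero' := rfl
      map_add' := fun _ _ => Subsingleton.elim _ _
      commutes' := fun _ => Subsingleton.elim _ _ }, ?_⟩
  ext a
  exact Subsingleton.elim _ _

/-- **Stacks 07CF**: if the singular ideal of `A` generates the unit ideal in `Λ`, then `A → Λ` factors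
through a smooth algebra. -/
theorem exists_smooth_factor_of_map_singularIdeal_eq_top {R A Λ : Type u} [CommRing R]
    [IsNoetherianRing R] [CommRing A] [Algebra R A] [Algebra.FinitePresentation R A] [CommRing Λ]
    [Algebra R Λ] (φ : A →ₐ[R] Λ) (htop : (Smoothing.singularIdeal R A).map φ = ⊤) :
    ∃ (B : Type u) (_ : CommRing B) (_ : Algebra R B), Algebra.Smooth R B ∧
      ∃ (g : A →ₐ[R] B) (h : B →ₐ[R] Λ), h.comp g = φ := by
  classical
  haveI : IsNoetherianRing A := Algebra.FiniteType.isNoetherianRing R A
  obtain ⟨r, a, ha⟩ := Submodule.fg_iff_exists_fin_generating_family.mp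
    (IsNoetherian.noetherian (Smoothing.singularIdeal R A))
  have haH : ∀ j, a j ∈ Smoothing.singularIdeal R A := fun j => by
    rw [← ha]; exact Submodule.subset_span ⟨j, rfl⟩
  obtain ⟨B, _, _, _, _, hBfp, hBrel, hBsm, hBmap⟩ :=
    exists_BB (R := R) (A' := A) 1 r 1 (fun _ => (1 : A)) a
      (fun j q' hq' hj => by
        haveI := hq'
        exact isSmoothAt_of_notMem_of_mem_singularIdeal (a j) (haH j) q' hj)
  haveI := hBfp
  -- `B` is smooth
  have hsmB : Algebra.Smooth R B := by
    refine ⟨?_, inferInstance⟩
    rw [← Algebra.smoothLocus_eq_univ_iff]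
    rw [Set.eq_univ_iff_forall]
    intro x
    by_contra hx
    have hall : ∀ j, algebraMap A B (a j) ∈ x.asIdeal := by
      intro j
      by_contra hj
      exact hx (hBsm x.asIdeal x.2 j hj)
    have h1 : (1 : B) ∈ x.asIdeal := by
      have h2 := hBrel 0
      rw [map_one, one_pow] at h2
      refine (Ideal.span_le.mpr ?_) h2
      rintro _ ⟨j, rfl⟩
      exact hall j
    exact x.2.ne_top ((Ideal.eq_top_iff_one _).mpr h1)
  -- the map `B → Λ`
  letI algAΛ : Algebra A Λ := φ.toRingHom.toAlgebra
  have halg : ∀ x, algebraMap A Λ x = φ x := fun _ => rfl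
  haveI : IsScalarTower R A Λ := IsScalarTower.of_algebraMap_eq (fun r => (φ.commutes r).symm)
  have h1 : (1 : Λ) ∈ Ideal.span (Set.range fun j => φ (a j)) := by
    have h2 : (Smoothing.singularIdeal R A).map φ = Ideal.span (Set.range fun j => φ (a j)) := by
      have h3 : Smoothing.singularIdeal R A = Ideal.span (Set.range a) := ha.symm
      rw [h3, Ideal.map_span, ← Set.range_comp]
      rfl
    rw [← h2, htop]
    trivial
  obtain ⟨t, ht⟩ := (Ideal.mem_span_range_iff_exists_fun).mp h1
  obtain ⟨ψ⟩ := hBmap Λ (fun _ j => t j) (fun _ => by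
    rw [map_one, one_pow, ← ht]
    rfl)
  refine ⟨B, inferInstance, inferInstance, hsmB, IsScalarTower.toAlgHom R A B,
    ψ.restrictScalars R, ?_⟩
  ext x
  show ψ (algebraMap A B x) = φ x
  rw [ψ.commutes]
  rfl

/-- over a perfect field every reduced algebra is geometrically reduced. -/
theorem isGeometricallyReduced_of_perfectField (k S : Type u) [Field k] [PerfectField k]
    [CommRing S] [Algebra k S] [IsReduced S] : Algebra.IsGeometricallyReduced k S := by
  rw [Algebra.isGeometricallyReduced_field_iff]
  haveI : Algebra.IsSeparable k (AlgebraicClosure k) :=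
    Algebra.IsAlgebraic.isSeparable_of_perfectField
  exact Groth.Agent.Lib.Helper14.GeomRed.isReduced_tensor_of_isSeparable

/-- **Popescu's theorem over a field** (Stacks 07GC, field case). -/
theorem indSmooth_of_isGeometricallyRegular_field {k Λ : Type u} [Field k] [CommRing Λ]
    [Algebra k Λ] [IsNoetherianRing Λ] (hreg : CAlg.IsGeometricallyRegular k Λ) :
    Smoothing.IndSmooth k Λ := by
  -- `Λ` is regular
  haveI hΛreg : IsRegularRing Λ := by
    haveI : IsRegularRing (k ⊗[k] Λ) := hreg k inferInstance
    exact IsRegularRing.of_ringEquiv (Algebra.TensorProduct.lid k Λ).toRingEquiv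
  -- resolvability at minimal primes
  have hres : ∀ (A : Type u) [CommRing A] [Algebra k A] [Algebra.FinitePresentation k A]
      (f : A →ₐ[k] Λ) (q : Ideal Λ) [q.IsPrime],
      q ∈ (Smoothing.singRad k f).minimalPrimes → Smoothing.Resolvable k f q := by
    intro A _ _ _ f q _ hq
    obtain ⟨p, hp⟩ := CharP.exists k
    rcases CharP.char_is_prime_or_zero k p with hpp | rfl
    · haveI : Fact p.Prime := ⟨hpp⟩
      exact Groth.Agent.S6824.result p hreg f q hq
    · haveI : CharZero k := CharP.charP_to_charZero k
      haveI : IsRegularLocalRing (Localization.AtPrime q) := isRegularRing_iff.mp hΛreg q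
      haveI : Algebra.IsGeometricallyReduced k q.ResidueField :=
        isGeometricallyReduced_of_perfectField k _
      exact Groth.Agent.S6823.result f q hq
  have key : ∀ I : Ideal Λ, ∀ (A : Type u) [CommRing A] [Algebra k A],
      Algebra.FinitePresentation k A → ∀ f : A →ₐ[k] Λ, Smoothing.singRad k f = I →
      ∃ (B : Type u) (_ : CommRing B) (_ : Algebra k B), Algebra.Smooth k B ∧
        ∃ (g : A →ₐ[k] B) (h : B →ₐ[k] Λ), h.comp g = f := by
    intro I
    induction I using IsNoetherian.induction with
    | hgt I IH =>
      intro A _ _ hfp f hI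
      haveI := hfp
      by_cases htop : I = ⊤
      · refine exists_smooth_factor_of_map_singularIdeal_eq_top f ?_
        rw [← Ideal.radical_eq_top]
        rw [← htop, ← hI]
        rfl
      · obtain ⟨⟨q, hq⟩⟩ := Ideal.nonempty_minimalPrimes htop
        haveI : q.IsPrime := hq.1.1
        obtain ⟨B, _, _, hBfp, g, h, hcomp, hle, hnot⟩ := hres A f q (hI ▸ hq)
        have hlt : I < Smoothing.singRad k h := by
          refine lt_of_le_of_ne (hI ▸ hle) ?_
          intro heq
          apply hnot
          rw [← heq]
          exact hq.1.2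
        obtain ⟨B', _, _, hB', g', h', hcomp'⟩ := IH _ hlt B hBfp h rfl
        refine ⟨B', inferInstance, inferInstance, hB', g'.comp g, h', ?_⟩
        rw [← AlgHom.comp_assoc, hcomp', hcomp]
  intro A _ _ hfp f
  exact key _ A hfp f rfl

end Groth.Agent.Lib.Helper7.Smoothing
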