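import Groth.Agent.Lib.Helper7Smoothing25

set_option autoImplicit false
set_option linter.style.haveILetI false
universe u
open MvPolynomial

namespace Groth.Agent.Lib.Helper7.Smoothing

section PolyMap
variable {R A E : Type*} [CommRing R] [CommRing A] [Algebra R A] [CommRing E] [Algebra R E]
  {σ : Type*}

/-- The `R`-algebra map `A[X_σ] → E` given by an `R`-algebra map `A → E` and values for `X`. -/
noncomputable def polyMap (g : A →ₐ[R] E) (τ : σ → E) : MvPolynomial σ A →ₐ[R] E :=
  { MvPolynomial.eval₂Hom (g : A →+* E) τ with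
    commutes' := fun r => by
      change MvPolynomial.eval₂Hom (g : A →+* E) τ (algebraMap R (MvPolynomial σ A) r) = _
      rw [IsScalarTower.algebraMap_apply R A (MvPolynomial σ A), MvPolynomial.algebraMap_eq]
      simp }

@[simp] lemma polyMap_C (g : A →ₐ[R] E) (τ : σ → E) (a : A) : polyMap g τ (C a) = g a := by
  change MvPolynomial.eval₂Hom (g : A →+* E) τ (C a) = _
  simp

@[simp] lemma polyMap_X (g : A →ₐ[R] E) (τ : σ → E) (i : σ) : polyMap g τ (X i) = τ i := by
  change MvPolynomial.eval₂Hom (g : A →+* E) τ (X i) = _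
  simp

lemma polyMap_ext {F : Type*} [CommRing F] [Algebra R F] (ψ₁ ψ₂ : MvPolynomial σ A →ₐ[R] F)
    (hC : ∀ a, ψ₁ (C a) = ψ₂ (C a)) (hX : ∀ i, ψ₁ (X i) = ψ₂ (X i)) : ψ₁ = ψ₂ := by
  apply AlgHom.ext
  intro p
  induction p using MvPolynomial.induction_on with
  | C a => exact hC a
  | add p q hp hq => rw [map_add, map_add, hp, hq]
  | mul_X p i hp => rw [map_mul, map_mul, hp, hX]

lemma polyMap_ext' {F : Type*} [CommRing F] (ψ₁ ψ₂ : MvPolynomial σ A →+* F)
    (hC : ∀ a, ψ₁ (C a) = ψ₂ (C a)) (hX : ∀ i, ψ₁ (X i) = ψ₂ (X i)) (p : MvPolynomial σ A) :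
    ψ₁ p = ψ₂ p := by
  induction p using MvPolynomial.induction_on with
  | C a => exact hC a
  | add p q hp hq => rw [map_add, map_add, hp, hq]
  | mul_X p i hp => rw [map_mul, map_mul, hp, hX]

end PolyMap

/-- A finitely generated ideal mapping to zero in a localization is killed by one denominator. -/
theorem exists_mul_eq_zero_of_fg {P Λ Λq : Type*} [CommRing P] [CommRing Λ] [CommRing Λq]
    [Algebra Λ Λq] (M : Submonoid Λ) [IsLocalization M Λq] (lam : P →+* Λ) (I : Ideal P)
    (hI : I.FG) (h0 : ∀ p ∈ I, algebraMap Λ Λq (lam p) = 0) :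
    ∃ ν ∈ M, ∀ p ∈ I, ν * lam p = 0 := by
  classical
  obtain ⟨s, hs⟩ := hI
  have key : ∀ t : Finset P, (∀ p ∈ t, p ∈ I) → ∃ ν ∈ M, ∀ p ∈ t, ν * lam p = 0 := by
    intro t
    induction t using Finset.induction_on with
    | empty => exact fun _ => ⟨1, M.one_mem, by simp⟩
    | insert a t hat ih =>
      intro ht
      obtain ⟨ν, hν, hνt⟩ := ih (fun p hp => ht p (Finset.mem_insert_of_mem hp))
      obtain ⟨⟨ν', hν'⟩, hν'a⟩ := (IsLocalization.map_eq_zero_iff M Λq _).mp
        (h0 a (ht a (Finset.mem_insert_self a t)))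
      refine ⟨ν * ν', M.mul_mem hν hν', fun p hp => ?_⟩
      rcases Finset.mem_insert.mp hp with rfl | hp
      · rw [mul_assoc, hν'a, mul_zero]
      · rw [mul_right_comm, hνt p hp, zero_mul]
  obtain ⟨ν, hν, hνs⟩ := key s (fun p hp => hs ▸ Ideal.subset_span hp)
  refine ⟨ν, hν, fun p hp => ?_⟩
  rw [← hs] at hp
  induction hp using Submodule.span_induction with
  | mem x hx => exact hνs x hx
  | zero => simp
  | add x y _ _ hx hy => rw [map_add, mul_add, hx, hy, add_zero]
  | smul a x _ hx => rw [smul_eq_mul, map_mul, mul_left_comm, hx, mul_zero]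

/-- Smoothness at the contraction of `𝔮` produces an element of the singular ideal outside `𝔮`. -/
theorem not_singularIdeal_map_le_of_isSmoothAt {R C Λ : Type u} [CommRing R] [CommRing C]
    [Algebra R C] [Algebra.FinitePresentation R C] [CommRing Λ] [Algebra R Λ] (h : C →ₐ[R] Λ)
    (𝔮 : Ideal Λ) [𝔮.IsPrime] (hsm : Algebra.IsSmoothAt R (𝔮.comap h)) :
    ¬ (Smoothing.singularIdeal R C).map h ≤ 𝔮 := by
  obtain ⟨c, hc, hsm⟩ := Algebra.IsSmoothAt.exists_notMem_smooth R (𝔮.comap h)
  have hsub := Algebra.basicOpen_subset_smoothLocus_iff_smooth.mpr hsm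
  have hmem : c ∈ Smoothing.singularIdeal R C := by
    rw [Smoothing.singularIdeal, PrimeSpectrum.mem_vanishingIdeal]
    intro x hx
    by_contra hcx
    exact hx (hsub hcx)
  intro hle
  exact hc (hle (Ideal.mem_map_of_mem _ hmem))

end Groth.Agent.Lib.Helper7.Smoothing
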