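import Mathlib
import Groth.Prelude.Def_Smoothing
import Groth.Agent.Lib.Helper7Smoothing26
import Groth.Agent.Lib.Helper7Smoothing30
import Groth.Agent.Lib.Helper7Smoothing49
import Groth.Agent.Lib.Helper7Smoothing51

/-!
# Helper7Smoothing86 (helper7): Stacks 07F3 (delocalizing the base), strictly standard version

* `exists_mem_singularIdeal_of_isLocalization`: spreading out smoothness.
* `delocalize_base_strict`: if `S⁻¹A → S⁻¹Λ` factors through a smooth `S⁻¹R`-algebra, then `A → Λ` factors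
  through a finitely presented `R`-algebra `B` in which some `s ∈ S` is strictly standard.
-/

set_option autoImplicit false
set_option linter.style.haveILetI false
universe u
open Function TensorProduct MvPolynomial

namespace Groth.Agent.Lib.Helper7.Smoothing

/-- Spreading out smoothness: if the localization of a finitely presented `R`-algebra `T` at
(the image of) `S ⊆ R` is formally smooth over `R`, then some `s ∈ S` lies in the singular ideal. -/
theorem exists_mem_singularIdeal_of_isLocalization {R T T' : Type u} [CommRing R] [CommRing T]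
    [Algebra R T] [Algebra.FinitePresentation R T] (S : Submonoid R) [CommRing T'] [Algebra T T']
    [Algebra R T'] [IsScalarTower R T T']
    [IsLocalization (Algebra.algebraMapSubmonoid T S) T'] [Algebra.FormallySmooth R T'] :
    ∃ s ∈ S, algebraMap R T s ∈ Smoothing.singularIdeal R T := by
  by_contra hcon
  push_neg at hcon
  have hdisj : Disjoint ((Smoothing.singularIdeal R T : Ideal T) : Set T)
      (Algebra.algebraMapSubmonoid T S : Set T) := by
    rw [Set.disjoint_left]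
    rintro x hx ⟨s, hs, rfl⟩
    exact hcon s hs hx
  obtain ⟨P, hPprime, hHP, hPdisj⟩ := Ideal.exists_le_prime_disjoint _ _ hdisj
  haveI := hPprime
  have hPdisj' : Disjoint (Algebra.algebraMapSubmonoid T S : Set T) (P : Set T) := hPdisj.symm
  haveI hP' : (P.map (algebraMap T T')).IsPrime :=
    IsLocalization.isPrime_of_isPrime_disjoint (Algebra.algebraMapSubmonoid T S) T' P hPprime
      hPdisj'
  have hcomap : (P.map (algebraMap T T')).comap (algebraMap T T') = P :=
    IsLocalization.under_map_of_isPrime_disjoint (Algebra.algebraMapSubmonoid T S) T' hPprime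
      hPdisj'
  have hloc : IsLocalization.AtPrime (Localization.AtPrime (P.map (algebraMap T T')))
      ((P.map (algebraMap T T')).comap (algebraMap T T')) :=
    IsLocalization.isLocalization_isLocalization_atPrime_isLocalization
      (Algebra.algebraMapSubmonoid T S) _ (P.map (algebraMap T T'))
  haveI : Algebra.FormallySmooth T' (Localization.AtPrime (P.map (algebraMap T T'))) :=
    Algebra.FormallySmooth.of_isLocalization (P.map (algebraMap T T')).primeCompl
  haveI : Algebra.FormallySmooth R (Localization.AtPrime (P.map (algebraMap T T'))) :=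
    Algebra.FormallySmooth.comp R T' _
  haveI : ((P.map (algebraMap T T')).comap (algebraMap T T')).IsPrime := Ideal.comap_isPrime _ _
  have hsm1 : Algebra.IsSmoothAt R ((P.map (algebraMap T T')).comap (algebraMap T T')) := by
    refine (Algebra.FormallySmooth.iff_of_equiv ?_).mpr
      (inferInstance : Algebra.FormallySmooth R (Localization.AtPrime (P.map (algebraMap T T'))))
    exact (IsLocalization.algEquiv
      ((P.map (algebraMap T T')).comap (algebraMap T T')).primeCompl _ _).restrictScalars R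
  have hsm : Algebra.IsSmoothAt R P := by
    have key : ∀ (Q : Ideal T) [Q.IsPrime], Q = P → Algebra.IsSmoothAt R Q → Algebra.IsSmoothAt R P := by
      intro Q _ hQ h
      subst hQ
      exact h
    exact key _ hcomap hsm1
  obtain ⟨c, hc, hsmc⟩ := Algebra.IsSmoothAt.exists_notMem_smooth R P
  have hsub := Algebra.basicOpen_subset_smoothLocus_iff_smooth.mpr hsmc
  have hmem : c ∈ Smoothing.singularIdeal R T := by
    rw [Smoothing.singularIdeal, PrimeSpectrum.mem_vanishingIdeal]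
    intro x hx
    by_contra hcx
    exact hx (hsub hcx)
  exact hc (hHP hmem)

/-- **Stacks 07F3**, strictly standard version. -/
theorem delocalize_base_strict {R A Λ Rₛ B' : Type u} [CommRing R] [IsNoetherianRing R]
    [CommRing A] [Algebra R A] [Algebra.FinitePresentation R A] [CommRing Λ] [Algebra R Λ]
    (φ : A →ₐ[R] Λ) (S : Submonoid R) [CommRing Rₛ] [Algebra R Rₛ] [IsLocalization S Rₛ]
    [CommRing B'] [Algebra Rₛ B'] [Algebra.Smooth Rₛ B'] (g : Rₛ ⊗[R] A →ₐ[Rₛ] B')
    (h : B' →ₐ[Rₛ] Rₛ ⊗[R] Λ)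
    (hgh : h.comp g = Algebra.TensorProduct.map (AlgHom.id Rₛ Rₛ) φ) :
    ∃ (B : Type u) (_ : CommRing B) (_ : Algebra R B), Algebra.FinitePresentation R B ∧
      ∃ (α : A →ₐ[R] B) (β : B →ₐ[R] Λ), β.comp α = φ ∧
        ∃ s ∈ S, Smoothing.IsStrictlyStandard R B (algebraMap R B s) := by
  classical
  letI algRB' : Algebra R B' := ((algebraMap Rₛ B').comp (algebraMap R Rₛ)).toAlgebra
  haveI towerRRₛB' : IsScalarTower R Rₛ B' := IsScalarTower.of_algebraMap_eq (fun _ => rfl)
  haveI : Algebra.FormallySmooth R Rₛ := Algebra.FormallySmooth.of_isLocalization S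
  haveI : Algebra.FormallySmooth R B' := Algebra.FormallySmooth.comp R Rₛ B'
  -- `Λₛ`
  letI algΛΛₛ : Algebra Λ (Rₛ ⊗[R] Λ) := Algebra.TensorProduct.rightAlgebra
  haveI hlocΛ : IsLocalization (Algebra.algebraMapSubmonoid Λ S) (Rₛ ⊗[R] Λ) :=
    IsLocalization.tensorRight Rₛ S
  have halgΛ : ∀ l : Λ, algebraMap Λ (Rₛ ⊗[R] Λ) l = 1 ⊗ₜ l := fun _ => rfl
  let gA : A →ₐ[R] B' := (g.restrictScalars R).comp Algebra.TensorProduct.includeRight
  have hgA : ∀ a, gA a = g (1 ⊗ₜ a) := fun _ => rfl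
  let h₀ : B' →ₐ[R] Rₛ ⊗[R] Λ := h.restrictScalars R
  have hh₀ : ∀ b, h₀ b = h b := fun _ => rfl
  have hcomp : ∀ a, h₀ (gA a) = algebraMap Λ (Rₛ ⊗[R] Λ) (φ a) := by
    intro a
    have h1 := AlgHom.congr_fun hgh (1 ⊗ₜ a)
    rw [AlgHom.comp_apply, Algebra.TensorProduct.map_tmul] at h1
    rw [hh₀, hgA, h1, halgΛ]
    rfl
  -- generators of `B'`
  obtain ⟨s, hs⟩ := (Algebra.FiniteType.out : (⊤ : Subalgebra Rₛ B').FG)
  obtain ⟨⟨μ, hμ⟩, hint⟩ := IsLocalization.exist_integer_multiples_of_finset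
    (Algebra.algebraMapSubmonoid Λ S) (s.image h₀)
  obtain ⟨s₀, hs₀, hs₀μ⟩ := hμ
  have hl : ∀ β : B', β ∈ s → ∃ l : Λ, algebraMap Λ (Rₛ ⊗[R] Λ) l =
      h₀ (algebraMap R B' s₀ * β) := by
    intro β hβ
    obtain ⟨l, hl⟩ := hint (h₀ β) (Finset.mem_image_of_mem _ hβ)
    refine ⟨l, ?_⟩
    rw [hl, map_mul, AlgHom.commutes]
    change μ • h₀ β = _
    rw [Algebra.smul_def, ← hs₀μ, ← IsScalarTower.algebraMap_apply]
  choose! l hl using hl
  -- the polynomial algebra
  let τ : s → B' := fun β => algebraMap R B' s₀ * β.1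
  let ψ : MvPolynomial s A →ₐ[R] B' := polyMap gA τ
  have hψ_C : ∀ a, ψ (C a) = gA a := fun a => polyMap_C _ _ _
  have hψ_X : ∀ i, ψ (X i) = τ i := fun i => polyMap_X _ _ _
  let lam : MvPolynomial s A →ₐ[R] Λ := polyMap φ (fun β => l β.1)
  have hlam_C : ∀ a, lam (C a) = φ a := fun a => polyMap_C _ _ _
  have hlam_X : ∀ i : s, lam (X i) = l i.1 := fun i => polyMap_X _ _ _
  have hcomm : ∀ p, algebraMap Λ (Rₛ ⊗[R] Λ) (lam p) = h₀ (ψ p) := by
    intro p
    refine polyMap_ext' ((algebraMap Λ (Rₛ ⊗[R] Λ)).comp (lam : MvPolynomial s A →+* Λ))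
      ((h₀ : B' →+* Rₛ ⊗[R] Λ).comp (ψ : MvPolynomial s A →+* B')) ?_ ?_ p
    · intro a
      change algebraMap Λ (Rₛ ⊗[R] Λ) (lam (C a)) = h₀ (ψ (C a))
      rw [hlam_C, hψ_C, hcomp]
    · intro β
      change algebraMap Λ (Rₛ ⊗[R] Λ) (lam (X β)) = h₀ (ψ (X β))
      rw [hlam_X, hψ_X, hl β.1 β.2]
  -- the kernel
  haveI : IsNoetherianRing (MvPolynomial s A) :=
    Algebra.FiniteType.isNoetherianRing R (MvPolynomial s A)
  let I₀ : Ideal (MvPolynomial s A) := RingHom.ker (ψ : MvPolynomial s A →+* B')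
  have hI₀ : I₀.FG := IsNoetherian.noetherian I₀
  obtain ⟨ν, hνS, hνI⟩ := exists_mul_eq_zero_of_fg (Λq := Rₛ ⊗[R] Λ)
    (Algebra.algebraMapSubmonoid Λ S) (lam : MvPolynomial s A →+* Λ) I₀ hI₀
    (fun p hp => by
      have h0 : ψ p = 0 := (RingHom.mem_ker).mp hp
      change algebraMap Λ (Rₛ ⊗[R] Λ) (lam p) = 0
      rw [hcomm, h0, map_zero])
  obtain ⟨s₁, hs₁, hs₁ν⟩ := hνS
  -- the algebra `B₀ = P₀ / s₁ I₀`
  let J : Ideal (MvPolynomial s A) :=
    Ideal.span {algebraMap R (MvPolynomial s A) s₁} * I₀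
  have hJfg : J.FG := (Submodule.fg_span_singleton _).mul hI₀
  haveI hB₀fp : Algebra.FinitePresentation R (MvPolynomial s A ⧸ J) :=
    Algebra.FinitePresentation.quotient hJfg
  have hJlam : ∀ x ∈ J, lam x = 0 := by
    intro x hx
    have hle : J ≤ RingHom.ker (lam : MvPolynomial s A →+* Λ) := by
      rw [Ideal.mul_le]
      intro r hr p hp
      obtain ⟨c, rfl⟩ := Ideal.mem_span_singleton'.mp hr
      rw [RingHom.mem_ker]
      change lam (c * algebraMap R (MvPolynomial s A) s₁ * p) = 0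
      have h0 : ν * lam p = 0 := hνI p hp
      rw [mul_assoc, map_mul, map_mul, AlgHom.commutes, hs₁ν, h0, mul_zero]
    exact (RingHom.mem_ker).mp (hle hx)
  have hJψ : ∀ x ∈ J, ψ x = 0 := by
    intro x hx
    have hle : J ≤ I₀ := by
      rw [Ideal.mul_le]
      intro r _ p hp
      exact Ideal.mul_mem_left _ _ hp
    exact (RingHom.mem_ker).mp (hle hx)
  let β₀ : (MvPolynomial s A ⧸ J) →ₐ[R] Λ := Ideal.Quotient.liftₐ J lam hJlam
  let ψb : (MvPolynomial s A ⧸ J) →ₐ[R] B' := Ideal.Quotient.liftₐ J ψ hJψ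
  have hψb : ∀ p, ψb (Ideal.Quotient.mk J p) = ψ p := fun p => rfl
  have hβ₀ : ∀ p, β₀ (Ideal.Quotient.mk J p) = lam p := fun p => rfl
  -- `B'` is the localization of `B₀`
  letI algB₀B' : Algebra (MvPolynomial s A ⧸ J) B' := ψb.toRingHom.toAlgebra
  have halgB₀B' : ∀ x, algebraMap (MvPolynomial s A ⧸ J) B' x = ψb x := fun _ => rfl
  haveI towerB₀ : IsScalarTower R (MvPolynomial s A ⧸ J) B' :=
    IsScalarTower.of_algebraMap_eq (fun r => (ψb.commutes r).symm)
  -- every element of `B'` is a fraction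
  have hfrac : ∀ z : B', ∃ t ∈ S, ∃ p : MvPolynomial s A, algebraMap R B' t * z = ψ p := by
    intro z
    have hz : z ∈ Algebra.adjoin Rₛ (s : Set B') := by rw [hs]; trivial
    induction hz using Algebra.adjoin_induction with
    | mem x hx =>
      refine ⟨s₀, hs₀, X ⟨x, hx⟩, ?_⟩
      rw [hψ_X]
    | algebraMap c =>
      obtain ⟨⟨r, t⟩, hrt⟩ := IsLocalization.surj S c
      refine ⟨t.1, t.2, algebraMap R (MvPolynomial s A) r, ?_⟩
      rw [AlgHom.commutes, IsScalarTower.algebraMap_apply R Rₛ B',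
        IsScalarTower.algebraMap_apply R Rₛ B', ← map_mul, mul_comm]
      exact congrArg _ hrt
    | add x y _ _ hx hy =>
      obtain ⟨t₁, ht₁, p₁, h1⟩ := hx
      obtain ⟨t₂, ht₂, p₂, h2⟩ := hy
      refine ⟨t₁ * t₂, S.mul_mem ht₁ ht₂, algebraMap R (MvPolynomial s A) t₂ * p₁ +
        algebraMap R (MvPolynomial s A) t₁ * p₂, ?_⟩
      rw [map_add ψ, map_mul ψ, map_mul ψ, AlgHom.commutes, AlgHom.commutes, ← h1, ← h2,
        map_mul (algebraMap R B')]
      ring
    | mul x y _ _ hx hy =>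
      obtain ⟨t₁, ht₁, p₁, h1⟩ := hx
      obtain ⟨t₂, ht₂, p₂, h2⟩ := hy
      refine ⟨t₁ * t₂, S.mul_mem ht₁ ht₂, p₁ * p₂, ?_⟩
      rw [map_mul ψ, ← h1, ← h2, map_mul (algebraMap R B')]
      ring
  haveI hlocB' : IsLocalization (Algebra.algebraMapSubmonoid (MvPolynomial s A ⧸ J) S) B' := by
    refine ⟨?_, ?_, ?_⟩
    · rintro ⟨_, t, ht, rfl⟩
      rw [← IsScalarTower.algebraMap_apply R (MvPolynomial s A ⧸ J) B',
        IsScalarTower.algebraMap_apply R Rₛ B']
      exact (IsLocalization.map_units Rₛ ⟨t, ht⟩).map _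
    · intro z
      obtain ⟨t, ht, p, hp⟩ := hfrac z
      refine ⟨⟨Ideal.Quotient.mk J p, ⟨algebraMap R _ t, t, ht, rfl⟩⟩, ?_⟩
      change z * algebraMap (MvPolynomial s A ⧸ J) B' (algebraMap R (MvPolynomial s A ⧸ J) t) =
        algebraMap (MvPolynomial s A ⧸ J) B' (Ideal.Quotient.mk J p)
      rw [← IsScalarTower.algebraMap_apply R (MvPolynomial s A ⧸ J) B', halgB₀B', hψb, ← hp,
        mul_comm]
    · intro x y hxy
      obtain ⟨p, rfl⟩ := Ideal.Quotient.mk_surjective x
      obtain ⟨q, rfl⟩ := Ideal.Quotient.mk_surjective y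
      rw [halgB₀B', halgB₀B', hψb, hψb] at hxy
      have hmem : p - q ∈ I₀ := by
        rw [RingHom.mem_ker]
        change ψ (p - q) = 0
        rw [map_sub, hxy, sub_self]
      refine ⟨⟨algebraMap R _ s₁, s₁, hs₁, rfl⟩, ?_⟩
      change algebraMap R (MvPolynomial s A ⧸ J) s₁ * Ideal.Quotient.mk J p =
        algebraMap R (MvPolynomial s A ⧸ J) s₁ * Ideal.Quotient.mk J q
      rw [← sub_eq_zero, ← mul_sub, ← map_sub,
        IsScalarTower.algebraMap_apply R (MvPolynomial s A) (MvPolynomial s A ⧸ J),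
        Ideal.Quotient.algebraMap_eq, ← map_mul, Ideal.Quotient.eq_zero_iff_mem]
      exact Ideal.mul_mem_mul (Ideal.subset_span rfl) hmem
  -- some `s ∈ S` lies in the singular ideal
  obtain ⟨s₂, hs₂, hs₂H⟩ := exists_mem_singularIdeal_of_isLocalization
    (R := R) (T := MvPolynomial s A ⧸ J) (T' := B') S
  have hsmB₀ : Algebra.Smooth R
      (Localization.Away (algebraMap R (MvPolynomial s A ⧸ J) s₂)) :=
    smooth_away_of_forall _ (fun Q hQ hsQ => by
      haveI := hQ
      exact isSmoothAt_of_notMem_of_mem_singularIdeal _ hs₂H Q hsQ)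
  -- the retract
  obtain ⟨C₁, _, _, _, _, hC₁fp, ⟨ρ⟩, hC₁⟩ :=
    exists_retract_strictlyStandard (R := R) (B := MvPolynomial s A ⧸ J)
  obtain ⟨⟨e₀, he₀⟩, -⟩ := hC₁ _ hsmB₀
  refine ⟨C₁, inferInstance, inferInstance, hC₁fp,
    (IsScalarTower.toAlgHom R (MvPolynomial s A ⧸ J) C₁).comp
      ((Ideal.Quotient.mkₐ R J).comp (IsScalarTower.toAlgHom R A (MvPolynomial s A))),
    β₀.comp (ρ.restrictScalars R), ?_, s₂ ^ e₀, S.pow_mem hs₂ e₀, ?_⟩
  · ext a
    change β₀ (ρ (algebraMap (MvPolynomial s A ⧸ J) C₁ (Ideal.Quotient.mk J (C a)))) = φ a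
    rw [ρ.commutes]
    change β₀ (Ideal.Quotient.mk J (C a)) = φ a
    rw [hβ₀, hlam_C]
  · have := he₀ e₀ le_rfl
    rwa [← map_pow, ← map_pow, ← IsScalarTower.algebraMap_apply] at this

end Groth.Agent.Lib.Helper7.Smoothing
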