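import Mathlib
import Groth.Prelude.Def_Smoothing
import Groth.Prelude.Def_Found
import Groth.Agent.Lib.Helper7Smoothing4
import Groth.Agent.Lib.Helper6HomBC

/-!
# Helper7Smoothing87 (helper7): auxiliary lemmas for the reduction of Popescu's theorem to fields

* `isRegularHom_of_algEquiv`, `isRegularHom_quotient`
* `indSmooth_quotQuot`
* `isLocalization_residueField_of_mem_minimalPrimes`
-/

set_option autoImplicit false
set_option linter.style.haveILetI false
universe u
open Function TensorProduct IsLocalRing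

namespace Groth.Agent.Lib.Helper7.Smoothing

theorem isRegularHom_of_algEquiv {A B B' : Type u} [CommRing A] [CommRing B] [CommRing B']
    [Algebra A B] [Algebra A B'] (e : B ≃ₐ[A] B') (h : CAlg.IsRegularHom A B) :
    CAlg.IsRegularHom A B' := by
  obtain ⟨hflat, hfib⟩ := h
  refine ⟨Module.Flat.of_linearEquiv e.symm.toLinearEquiv, fun p _ => ?_⟩
  let e' : p.Fiber B ≃ₐ[p.ResidueField] p.Fiber B' :=
    Algebra.TensorProduct.congr AlgEquiv.refl e
  haveI := (hfib p).1
  exact ⟨isNoetherianRing_of_ringEquiv _ e'.toRingEquiv,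
    Groth.Agent.Lib.Helper6.HomBC.geomRegular_of_algEquiv e' (hfib p).2⟩

theorem isRegularHom_quotient {R Λ : Type u} [CommRing R] [IsNoetherianRing R] [CommRing Λ]
    [IsNoetherianRing Λ] [Algebra R Λ] (I : Ideal R) (h : CAlg.IsRegularHom R Λ) :
    CAlg.IsRegularHom (R ⧸ I) (Λ ⧸ I.map (algebraMap R Λ)) := by
  have h1 : CAlg.IsRegularHom (R ⧸ I) ((R ⧸ I) ⊗[R] Λ) :=
    Groth.Agent.Lib.Helper6.HomBC.regularHom_baseChange R Λ (R ⧸ I) (Or.inr inferInstance) h
  exact isRegularHom_of_algEquiv (Algebra.TensorProduct.quotIdealMapEquivQuotTensor Λ I).symm h1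

theorem indSmooth_quotQuot {R Λ : Type u} [CommRing R] [CommRing Λ] [Algebra R Λ]
    (I J : Ideal R) (hIJ : I ≤ J)
    (hind : Smoothing.IndSmooth (R ⧸ J) (Λ ⧸ J.map (algebraMap R Λ))) :
    Smoothing.IndSmooth ((R ⧸ I) ⧸ J.map (Ideal.Quotient.mk I))
      ((Λ ⧸ I.map (algebraMap R Λ)) ⧸
        (J.map (Ideal.Quotient.mk I)).map (algebraMap (R ⧸ I) (Λ ⧸ I.map (algebraMap R Λ)))) := by
  have hle : I.map (algebraMap R Λ) ≤ J.map (algebraMap R Λ) := Ideal.map_mono hIJ
  have heq : (J.map (Ideal.Quotient.mk I)).map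
      (algebraMap (R ⧸ I) (Λ ⧸ I.map (algebraMap R Λ))) =
      (J.map (algebraMap R Λ)).map (Ideal.Quotient.mk (I.map (algebraMap R Λ))) := by
    rw [Ideal.map_map, Ideal.map_map]
    rfl
  let σ : (R ⧸ J) ≃+* ((R ⧸ I) ⧸ J.map (Ideal.Quotient.mk I)) :=
    (DoubleQuot.quotQuotEquivQuotOfLE hIJ).symm
  let τ : (Λ ⧸ J.map (algebraMap R Λ)) ≃+*
      ((Λ ⧸ I.map (algebraMap R Λ)) ⧸
        (J.map (Ideal.Quotient.mk I)).map (algebraMap (R ⧸ I) (Λ ⧸ I.map (algebraMap R Λ)))) :=
    (DoubleQuot.quotQuotEquivQuotOfLE hle).symm.trans (Ideal.quotEquivOfEq heq.symm)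
  refine indSmooth_of_ringEquiv σ τ ?_ hind
  intro r
  obtain ⟨r₀, rfl⟩ := Ideal.Quotient.mk_surjective r
  rfl

theorem isLocalization_residueField_of_mem_minimalPrimes {R : Type u} [CommRing R] [IsReduced R]
    (p : Ideal R) [p.IsPrime] (hp : p ∈ minimalPrimes R) :
    IsLocalization p.primeCompl p.ResidueField := by
  haveI : Ring.KrullDimLE 0 (Localization.AtPrime p) :=
    Ring.KrullDimLE.of_isLocalization p hp _
  have hfield : IsField (Localization.AtPrime p) := Ring.KrullDimLE.isField_of_isReduced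
  have hmax : maximalIdeal (Localization.AtPrime p) = ⊥ :=
    IsLocalRing.isField_iff_maximalIdeal_eq.mp hfield
  let e : Localization.AtPrime p ≃ₐ[R] p.ResidueField :=
    AlgEquiv.ofBijective (IsScalarTower.toAlgHom R (Localization.AtPrime p) p.ResidueField)
      ⟨by
        rw [injective_iff_map_eq_zero]
        intro x hx
        have : x ∈ maximalIdeal (Localization.AtPrime p) :=
          (IsLocalRing.residue_eq_zero_iff x).mp hx
        rw [hmax] at this
        exact this, IsLocalRing.residue_surjective⟩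
  exact IsLocalization.isLocalization_of_algEquiv p.primeCompl e

end Groth.Agent.Lib.Helper7.Smoothing
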