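import Groth.Agent.Lib.Helper7Smoothing35

set_option autoImplicit false
set_option linter.style.haveILetI false
universe u
open MvPolynomial

namespace Groth.Agent.Lib.Helper7.Smoothing

/-- Smoothness at a prime is insensitive to replacing the base ring by a ring mapping bijectively
onto it. -/
theorem isSmoothAt_of_bijective_base {S S' C : Type u} [CommRing S] [CommRing S'] [CommRing C]
    [Algebra S S'] [Algebra S' C] [Algebra S C] [IsScalarTower S S' C]
    (hbij : Function.Bijective (algebraMap S S')) (q : Ideal C) [q.IsPrime]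
    [Algebra.IsSmoothAt S' q] : Algebra.IsSmoothAt S q := by
  change Algebra.FormallySmooth S (Localization.AtPrime q)
  haveI : Algebra.FormallySmooth S' (Localization.AtPrime q) :=
    (inferInstance : Algebra.IsSmoothAt S' q)
  haveI : Algebra.FormallySmooth S S' :=
    Algebra.FormallySmooth.of_equiv (AlgEquiv.ofBijective (Algebra.ofId S S') hbij)
  haveI : IsScalarTower S S' (Localization.AtPrime q) := IsScalarTower.of_algebraMap_eq (fun x => by
    rw [IsScalarTower.algebraMap_apply S C (Localization.AtPrime q),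
      IsScalarTower.algebraMap_apply S S' C,
      ← IsScalarTower.algebraMap_apply S' C (Localization.AtPrime q)])
  exact Algebra.FormallySmooth.comp S S' _

end Groth.Agent.Lib.Helper7.Smoothing

namespace Groth.Agent.Lib.Helper7.Smoothing

/-- Flexible form of the combination of the lifting lemma and desingularization. -/
theorem desing_lift_flex {R Λ A C R' Λ' : Type u} [CommRing R] [IsNoetherianRing R] [CommRing Λ]
    [Algebra R Λ] (π : R) (hR : ∀ r : R, π ^ 2 * r = 0 → π * r = 0)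
    (hΛ : ∀ x : Λ, π ^ 2 • x = 0 → π • x = 0) [CommRing A] [Algebra R A]
    [Algebra.FinitePresentation R A] (φ : A →ₐ[R] Λ)
    (hπ : Smoothing.IsStrictlyStandard R A (algebraMap R A π))
    [CommRing R'] (pR : R →+* R') (hpR : Function.Surjective pR)
    (hkR : RingHom.ker pR = Ideal.span {π ^ 8})
    [CommRing Λ'] (pΛ : Λ →+* Λ') (hpΛ : Function.Surjective pΛ)
    (hkΛ : RingHom.ker pΛ = Ideal.span {algebraMap R Λ (π ^ 8)})
    [CommRing C] [Algebra R' C] [Algebra.FinitePresentation R' C]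
    (γ : A →+* C) (hγ : ∀ r, γ (algebraMap R A r) = algebraMap R' C (pR r))
    (g : C →+* Λ') (hg : ∀ r, g (algebraMap R' C (pR r)) = pΛ (algebraMap R Λ r))
    (hfac : ∀ a, g (γ a) = pΛ (φ a)) :
    ∃ (B : Type u) (_ : CommRing B) (_ : Algebra R B), Algebra.FinitePresentation R B ∧
      ∃ (α : A →ₐ[R] B) (β : B →ₐ[R] Λ), β.comp α = φ ∧
        (∀ (Q : Ideal B) [Q.IsPrime], algebraMap R B π ∉ Q → Algebra.IsSmoothAt R Q) ∧
        ∀ c ∈ Smoothing.singularIdeal R' C, ∀ l : Λ, pΛ l = g c →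
          l ∈ (Smoothing.singularIdeal R B).map β := by
  have hI : Ideal.span {(π ^ 4) ^ 2} = Ideal.span {π ^ 8} := by rw [← pow_mul]
  have hIΛ : Ideal.span {algebraMap R Λ ((π ^ 4) ^ 2)} = Ideal.span {algebraMap R Λ (π ^ 8)} := by
    rw [← pow_mul]
  let eR : R ⧸ Ideal.span {(π ^ 4) ^ 2} →+* R' := Ideal.Quotient.lift _ pR (fun a ha => by
    rw [← RingHom.mem_ker, hkR, ← hI]; exact ha)
  have heR_mk : ∀ r, eR (Ideal.Quotient.mk _ r) = pR r := fun r => rfl
  have heR_bij : Function.Bijective eR := by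
    constructor
    · rw [injective_iff_map_eq_zero]
      intro x hx
      obtain ⟨r, rfl⟩ := Ideal.Quotient.mk_surjective x
      rw [heR_mk, ← RingHom.mem_ker, hkR, ← hI] at hx
      exact Ideal.Quotient.eq_zero_iff_mem.mpr hx
    · intro r'
      obtain ⟨r, rfl⟩ := hpR r'
      exact ⟨Ideal.Quotient.mk _ r, rfl⟩
  letI : Algebra R C := ((algebraMap R' C).comp pR).toAlgebra
  letI : Algebra (R ⧸ Ideal.span {(π ^ 4) ^ 2}) R' := eR.toAlgebra
  letI : Algebra (R ⧸ Ideal.span {(π ^ 4) ^ 2}) C := ((algebraMap R' C).comp eR).toAlgebra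
  haveI : IsScalarTower R (R ⧸ Ideal.span {(π ^ 4) ^ 2}) C :=
    IsScalarTower.of_algebraMap_eq (fun r => rfl)
  haveI : IsScalarTower (R ⧸ Ideal.span {(π ^ 4) ^ 2}) R' C :=
    IsScalarTower.of_algebraMap_eq (fun r => rfl)
  haveI : Algebra.FinitePresentation (R ⧸ Ideal.span {(π ^ 4) ^ 2}) R' :=
    Algebra.FinitePresentation.equiv
      (AlgEquiv.ofBijective (Algebra.ofId (R ⧸ Ideal.span {(π ^ 4) ^ 2}) R') heR_bij)
  haveI : Algebra.FinitePresentation (R ⧸ Ideal.span {(π ^ 4) ^ 2}) C :=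
    Algebra.FinitePresentation.trans _ R' _
  let γ' : A →ₐ[R] C := { γ with commutes' := fun r => hγ r }
  have hkerΛ : RingHom.ker pΛ ≤
      RingHom.ker (Ideal.Quotient.mk (Ideal.span {algebraMap R Λ ((π ^ 4) ^ 2)})) := by
    rw [Ideal.mk_ker, hkΛ, hIΛ]
  let eΛ : Λ' →+* Λ ⧸ Ideal.span {algebraMap R Λ ((π ^ 4) ^ 2)} :=
    RingHom.liftOfSurjective pΛ hpΛ ⟨Ideal.Quotient.mk _, hkerΛ⟩
  have heΛ : ∀ l, eΛ (pΛ l) = Ideal.Quotient.mk _ l := fun l =>
    RingHom.liftOfRightInverse_comp_apply pΛ _ _ ⟨Ideal.Quotient.mk _, hkerΛ⟩ l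
  let g₄ : C →ₐ[R] Λ ⧸ Ideal.span {algebraMap R Λ ((π ^ 4) ^ 2)} :=
    { eΛ.comp g with
      commutes' := fun r => by
        change eΛ (g (algebraMap R' C (pR r))) = _
        rw [hg, heΛ]
        rfl }
  have hfac₄ : ∀ a : A, g₄ (γ' a) = Ideal.Quotient.mk _ (φ a) := fun a => by
    change eΛ (g (γ a)) = _
    rw [hfac, heΛ]
  obtain ⟨B, _, _, hBfp, α, β, hβα, hsm, H⟩ := desing_lift_rigid π hR hΛ φ hπ γ' g₄ hfac₄
  refine ⟨B, inferInstance, inferInstance, hBfp, α, β, hβα, hsm, ?_⟩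
  intro c hc l hl
  refine H c ?_ l ?_
  · intro q _ hcq
    haveI : Algebra.IsSmoothAt R' q := isSmoothAt_of_notMem_of_mem_singularIdeal c hc q hcq
    exact isSmoothAt_of_bijective_base (S' := R') heR_bij q
  · change _ = eΛ (g c)
    rw [← hl, heΛ]

end Groth.Agent.Lib.Helper7.Smoothing
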