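import Mathlib
import Groth.Prelude.Def_Smoothing
import Groth.Prelude.Def_Found
import Groth.Agent.S2022
import Groth.Agent.S19959
import Groth.Agent.Lib.Helper7Smoothing46
import Groth.Agent.Lib.Helper7Smoothing85
import Groth.Agent.Lib.Helper7Smoothing86
import Groth.Agent.Lib.Helper7Smoothing87

/-!
# Helper7Smoothing88 (helper7): Popescu's theorem (Stacks 07GC), reduction to the field case

* `indSmooth_step` (Stacks 07F4, inductive step).
* `indSmooth_of_isRegularHom`: a regular homomorphism of Noetherian rings is ind-smooth.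
-/

set_option autoImplicit false
set_option linter.style.haveILetI false
set_option maxHeartbeats 1000000
universe u
open Function TensorProduct IsLocalRing

namespace Groth.Agent.Lib.Helper7.Smoothing

theorem indSmooth_step {R Λ : Type u} [CommRing R] [IsNoetherianRing R] [CommRing Λ]
    [IsNoetherianRing Λ] [Algebra R Λ] (hreg : CAlg.IsRegularHom R Λ)
    (IH : ∀ J : Ideal R, J ≠ ⊥ → Smoothing.IndSmooth (R ⧸ J) (Λ ⧸ J.map (algebraMap R Λ))) :
    Smoothing.IndSmooth R Λ := by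
  haveI := hreg.1
  by_cases hred : IsReduced R
  swap
  · have hJ : nilradical R ≠ ⊥ := fun h => hred (nilradical_eq_bot_iff.mp h)
    exact Groth.Agent.S2022.result (nilradical R) (IsNoetherianRing.isNilpotent_nilradical R)
      (IH _ hJ)
  haveI := hred
  rcases subsingleton_or_nontrivial R with hsub | hnt
  · haveI : Subsingleton Λ := (algebraMap R Λ).codomain_trivial
    exact indSmooth_of_subsingleton
  obtain ⟨⟨p, hp⟩⟩ := Ideal.nonempty_minimalPrimes (I := (⊥ : Ideal R)) bot_ne_top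
  haveI : p.IsPrime := hp.1.1
  haveI hloc : IsLocalization p.primeCompl p.ResidueField :=
    isLocalization_residueField_of_mem_minimalPrimes p hp
  haveI := (hreg.2 p).1
  have hfield : Smoothing.IndSmooth p.ResidueField (p.Fiber Λ) :=
    indSmooth_of_isGeometricallyRegular_field (hreg.2 p).2
  intro A _ _ hfp f
  haveI := hfp
  obtain ⟨B', _, _, hB', g, h, hgh⟩ := hfield (p.ResidueField ⊗[R] A) inferInstance
    (Algebra.TensorProduct.map (AlgHom.id p.ResidueField p.ResidueField) f)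
  haveI := hB'
  obtain ⟨B₁, _, _, hB₁fp, α₁, β₁, hβα₁, π, hπS, hπ⟩ :=
    delocalize_base_strict f p.primeCompl g h hgh
  haveI := hB₁fp
  have hπp : π ∉ p := hπS
  have hR : ∀ r : R, π ^ 2 * r = 0 → π * r = 0 := by
    intro r hr
    have h2 : (π * r) ^ 2 = 0 := by rw [mul_pow, sq r, ← mul_assoc, hr, zero_mul]
    exact IsReduced.eq_zero _ ⟨2, h2⟩
  have hΛ : ∀ x : Λ, π ^ 2 • x = 0 → π • x = 0 :=
    fun x hx => smul_eq_zero_of_sq_smul_of_flat π hR x hx
  have hπ8 : π ^ 8 ∉ p := fun h8 => hπp (Ideal.IsPrime.mem_of_pow_mem inferInstance _ h8)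
  have hJ : Ideal.span {π ^ 8} ≠ (⊥ : Ideal R) := by
    intro h0
    apply hπ8
    have h1 : π ^ 8 ∈ Ideal.span {π ^ 8} := Ideal.subset_span rfl
    rw [h0] at h1
    rw [Ideal.mem_bot.mp h1]
    exact p.zero_mem
  have hJmap : (Ideal.span {π ^ 8}).map (algebraMap R Λ) =
      Ideal.span {algebraMap R Λ (π ^ 8)} := by
    rw [Ideal.map_span, Set.image_singleton]
  have hIH := IH _ hJ
  -- the map `R/π⁸ ⊗ B₁ → Λ/π⁸Λ`
  let f₂ : (R ⧸ Ideal.span {π ^ 8}) ⊗[R] B₁ →ₐ[R ⧸ Ideal.span {π ^ 8}]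
      Λ ⧸ (Ideal.span {π ^ 8}).map (algebraMap R Λ) :=
    Algebra.TensorProduct.lift (Algebra.ofId _ _)
      ((Ideal.Quotient.mkₐ R ((Ideal.span {π ^ 8}).map (algebraMap R Λ))).comp β₁)
      (fun _ _ => Commute.all _ _)
  obtain ⟨C, _, _, hC, g₂, h₂, hgh₂⟩ := hIH ((R ⧸ Ideal.span {π ^ 8}) ⊗[R] B₁) inferInstance f₂
  haveI := hC
  letI algRC : Algebra R C :=
    ((algebraMap (R ⧸ Ideal.span {π ^ 8}) C).comp (algebraMap R (R ⧸ Ideal.span {π ^ 8}))).toAlgebra
  haveI towerC : IsScalarTower R (R ⧸ Ideal.span {π ^ 8}) C :=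
    IsScalarTower.of_algebraMap_eq (fun _ => rfl)
  let γ : B₁ →ₐ[R] C := (g₂.restrictScalars R).comp Algebra.TensorProduct.includeRight
  let g₃ : C →ₐ[R] Λ ⧸ Ideal.span {algebraMap R Λ (π ^ 8)} :=
    ((Ideal.quotientEquivAlgOfEq R hJmap : _ →ₐ[R] _)).comp (h₂.restrictScalars R)
  have hfac : ∀ a : B₁, g₃ (γ a) =
      Ideal.Quotient.mk (Ideal.span {algebraMap R Λ (π ^ 8)}) (β₁ a) := by
    intro a
    have h1 : h₂ (g₂ (1 ⊗ₜ a)) = f₂ (1 ⊗ₜ a) := AlgHom.congr_fun hgh₂ (1 ⊗ₜ a)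
    change Ideal.quotientEquivAlgOfEq R hJmap (h₂ (g₂ (1 ⊗ₜ a))) = _
    rw [h1]
    change Ideal.quotientEquivAlgOfEq R hJmap (f₂ (1 ⊗ₜ a)) = _
    have h3 : f₂ (1 ⊗ₜ a) = Ideal.Quotient.mk _ (β₁ a) := by
      simp only [f₂, Algebra.TensorProduct.lift_tmul, map_one, one_mul]
      rfl
    rw [h3, Ideal.quotientEquivAlgOfEq_mk]
  obtain ⟨B₂, _, _, hB₂fp, α₂, β₂, hβα₂, hsmooth, hsing⟩ :=
    Groth.Agent.S19959.result π hR hΛ β₁ hπ γ g₃ hfac
  haveI := hB₂fp
  -- the singular ideal of `B₂` generates the unit ideal of `Λ`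
  have htop : (Smoothing.singularIdeal R B₂).map β₂ = ⊤ := by
    rw [← Ideal.radical_eq_top]
    have hπmem : algebraMap R Λ π ∈ ((Smoothing.singularIdeal R B₂).map β₂).radical := by
      have h1 : algebraMap R B₂ π ∈ Smoothing.singularIdeal R B₂ :=
        mem_singularIdeal_of_forall _ (fun Q hQ hπQ => by
          haveI := hQ
          exact hsmooth Q hπQ)
      have h2 := Ideal.mem_map_of_mem β₂ h1
      rw [β₂.commutes] at h2
      exact Ideal.le_radical h2
    rw [singularIdeal_eq_top_of_smooth, Ideal.map_top] at hsing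
    have h1 : (1 : Λ ⧸ Ideal.span {algebraMap R Λ (π ^ 8)}) ∈
        (((Smoothing.singularIdeal R B₂).map β₂).radical).map
          (Ideal.Quotient.mk (Ideal.span {algebraMap R Λ (π ^ 8)})) := hsing trivial
    obtain ⟨x, hx, hx1⟩ := (Ideal.mem_map_iff_of_surjective _
      Ideal.Quotient.mk_surjective).mp h1
    have h2 : x - 1 ∈ Ideal.span {algebraMap R Λ (π ^ 8)} := by
      rw [← Ideal.Quotient.eq_zero_iff_mem, map_sub, hx1, map_one, sub_self]
    obtain ⟨y, hy⟩ := Ideal.mem_span_singleton'.mp h2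
    rw [Ideal.eq_top_iff_one]
    have h3 : (1 : Λ) = x - y * algebraMap R Λ (π ^ 8) := by rw [hy]; ring
    rw [h3]
    refine Ideal.sub_mem _ hx (Ideal.mul_mem_left _ _ ?_)
    rw [map_pow]
    exact Ideal.pow_mem_of_mem _ hπmem 8 (by norm_num)
  obtain ⟨B₃, _, _, hB₃, g₄, h₄, hgh₄⟩ := exists_smooth_factor_of_map_singularIdeal_eq_top β₂ htop
  refine ⟨B₃, inferInstance, inferInstance, hB₃, g₄.comp (α₂.comp α₁), h₄, ?_⟩
  rw [← AlgHom.comp_assoc, hgh₄, ← AlgHom.comp_assoc, hβα₂, hβα₁]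

/-- **Popescu's theorem** (Stacks 07GC). -/
theorem indSmooth_of_isRegularHom (R Λ : Type u) [CommRing R] [IsNoetherianRing R] [CommRing Λ]
    [IsNoetherianRing Λ] [Algebra R Λ] (hreg : CAlg.IsRegularHom R Λ) :
    Smoothing.IndSmooth R Λ := by
  have key : ∀ I : Ideal R, Smoothing.IndSmooth (R ⧸ I) (Λ ⧸ I.map (algebraMap R Λ)) := by
    intro I
    induction I using IsNoetherian.induction with
    | hgt I IH =>
      refine indSmooth_step (isRegularHom_quotient I hreg) ?_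
      intro J' hJ'
      have hJ'eq : (J'.comap (Ideal.Quotient.mk I)).map (Ideal.Quotient.mk I) = J' :=
        Ideal.map_comap_of_surjective _ Ideal.Quotient.mk_surjective J'
      have hIJ : I ≤ J'.comap (Ideal.Quotient.mk I) := by
        intro x hx
        rw [Ideal.mem_comap, Ideal.Quotient.eq_zero_iff_mem.mpr hx]
        exact J'.zero_mem
      have hlt : I < J'.comap (Ideal.Quotient.mk I) :=
        lt_of_le_of_ne hIJ (fun heq => hJ' (by rw [← hJ'eq, ← heq, Ideal.map_quotient_self]))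
      have h1 := indSmooth_quotQuot I _ hIJ (IH _ hlt)
      rwa [hJ'eq] at h1
  have h0 := key ⊥
  have hbot : (⊥ : Ideal R).map (algebraMap R Λ) = ⊥ := Ideal.map_bot
  refine indSmooth_of_ringEquiv (RingEquiv.quotientBot R)
    ((Ideal.quotEquivOfEq hbot).trans (RingEquiv.quotientBot Λ)) ?_ h0
  intro r
  obtain ⟨r₀, rfl⟩ := Ideal.Quotient.mk_surjective r
  rfl

end Groth.Agent.Lib.Helper7.Smoothing
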