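import Mathlib
import Groth.Agent.Lib.Helper28GeomFibre5
import Groth.Agent.Lib.Helper28FibreTrans

/-!
# Helper28FibreLocal: geometric fibres can be studied locally on the target.
-/

set_option autoImplicit false
universe u

namespace Groth.Agent.Lib.Helper28
open IsLocalRing TensorProduct

section LocToGlob

variable (P : ∀ (R : Type u) [CommRing R], Prop)

/-- A property of rings which is invariant under isomorphisms, passes to localizations and can be
checked on localizations at primes can be checked after localizing a base ring `B` at suitable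
primes. -/
theorem property_of_forall_exists_tensor_localization
    (hP : ∀ (R S : Type u) [CommRing R] [CommRing S], (R ≃+* S) → P R → P S)
    (hloc : ∀ (R : Type u) [CommRing R] (M : Submonoid R) (R' : Type u) [CommRing R'] [Algebra R R']
      [IsLocalization M R'], P R → P R')
    (hl2g : ∀ (R : Type u) [CommRing R],
      (∀ (Q : Ideal R) [Q.IsPrime], P (Localization.AtPrime Q)) → P R)
    {B R : Type u} [CommRing B] [CommRing R] [Algebra B R]
    (h : ∀ (Q : Ideal R) [Q.IsPrime], ∃ (n : Ideal B) (_ : n.IsPrime),
      Q.comap (algebraMap B R) ≤ n ∧ P (R ⊗[B] Localization.AtPrime n)) : P R := by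
  apply hl2g
  intro Q hQ
  obtain ⟨n, hn, hle, hPn⟩ := h Q
  have hloc' : IsLocalization (Algebra.algebraMapSubmonoid R n.primeCompl)
      (R ⊗[B] Localization.AtPrime n) := IsLocalization.tensor (Localization.AtPrime n) n.primeCompl
  have hdisj : Disjoint ((Algebra.algebraMapSubmonoid R n.primeCompl : Submonoid R) : Set R) Q := by
    rw [Set.disjoint_left]
    rintro _ ⟨b, hb, rfl⟩ hbQ
    exact hb (hle hbQ)
  have hQ' : (Q.map (algebraMap R (R ⊗[B] Localization.AtPrime n))).IsPrime :=
    IsLocalization.isPrime_of_isPrime_disjoint (Algebra.algebraMapSubmonoid R n.primeCompl) _ Q hQ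
      hdisj
  have hcomap : (Q.map (algebraMap R (R ⊗[B] Localization.AtPrime n))).comap
      (algebraMap R (R ⊗[B] Localization.AtPrime n)) = Q :=
    IsLocalization.under_map_of_isPrime_disjoint (Algebra.algebraMapSubmonoid R n.primeCompl) _ hQ
      hdisj
  have h1 : P (Localization.AtPrime (Q.map (algebraMap R (R ⊗[B] Localization.AtPrime n)))) :=
    hloc _ (Q.map (algebraMap R (R ⊗[B] Localization.AtPrime n))).primeCompl _ hPn
  have hloc2 : IsLocalization.AtPrime
      (Localization.AtPrime (Q.map (algebraMap R (R ⊗[B] Localization.AtPrime n))))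
      ((Q.map (algebraMap R (R ⊗[B] Localization.AtPrime n))).comap
        (algebraMap R (R ⊗[B] Localization.AtPrime n))) :=
    IsLocalization.isLocalization_isLocalization_atPrime_isLocalization
      (Algebra.algebraMapSubmonoid R n.primeCompl) _ _
  have e := IsLocalization.algEquiv ((Q.map (algebraMap R (R ⊗[B] Localization.AtPrime n))).comap
        (algebraMap R (R ⊗[B] Localization.AtPrime n))).primeCompl
    (Localization.AtPrime ((Q.map (algebraMap R (R ⊗[B] Localization.AtPrime n))).comap
        (algebraMap R (R ⊗[B] Localization.AtPrime n))))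
    (Localization.AtPrime (Q.map (algebraMap R (R ⊗[B] Localization.AtPrime n))))
  have h2 := hP _ _ e.symm.toRingEquiv h1
  have key : ∀ (Q₁ : Ideal R) [Q₁.IsPrime], Q₁ = Q → P (Localization.AtPrime Q₁) →
      P (Localization.AtPrime Q) := by
    rintro Q₁ _ rfl h
    exact h
  exact key _ hcomap h2

/-- Geometric fibres can be studied locally on the target. -/
theorem tensor_fiber_of_forall_exists_localization
    (hP : ∀ (R S : Type u) [CommRing R] [CommRing S], (R ≃+* S) → P R → P S)
    (hloc : ∀ (R : Type u) [CommRing R] (M : Submonoid R) (R' : Type u) [CommRing R'] [Algebra R R']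
      [IsLocalization M R'], P R → P R')
    (hl2g : ∀ (R : Type u) [CommRing R],
      (∀ (Q : Ideal R) [Q.IsPrime], P (Localization.AtPrime Q)) → P R)
    (A B : Type u) [CommRing A] [CommRing B] [Algebra A B] (p : Ideal A) [p.IsPrime]
    (k' : Type u) [Field k'] [Algebra p.ResidueField k']
    (h : ∀ (q : Ideal B) [q.IsPrime], q.comap (algebraMap A B) = p →
      ∃ (n : Ideal B) (_ : n.IsPrime), q ≤ n ∧
        P (k' ⊗[p.ResidueField] p.Fiber (Localization.AtPrime n))) :
    P (k' ⊗[p.ResidueField] p.Fiber B) := by
  let _ : Algebra A k' := ((algebraMap p.ResidueField k').comp (algebraMap A p.ResidueField)).toAlgebra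
  have : IsScalarTower A p.ResidueField k' := .of_algebraMap_eq' rfl
  refine hP _ _ (tensorFiberEquiv A B p k') ?_
  refine property_of_forall_exists_tensor_localization P hP hloc hl2g (B := B) (R := B ⊗[A] k') ?_
  intro Q hQ
  have hq : (Q.comap (algebraMap B (B ⊗[A] k'))).comap (algebraMap A B) = p := by
    ext x
    rw [Ideal.mem_comap, Ideal.mem_comap]
    have e1 : algebraMap B (B ⊗[A] k') (algebraMap A B x) =
        (Algebra.TensorProduct.includeRight : k' →ₐ[A] B ⊗[A] k') (algebraMap A k' x) := by
      rw [Algebra.TensorProduct.algebraMap_apply, Algebra.TensorProduct.includeRight_apply,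
        Algebra.algebraMap_self, RingHom.id_apply, Algebra.algebraMap_eq_smul_one,
        Algebra.algebraMap_eq_smul_one (A := k'), TensorProduct.smul_tmul]
    rw [e1]
    have hQ2 : (Q.comap (Algebra.TensorProduct.includeRight : k' →ₐ[A] B ⊗[A] k')).IsPrime :=
      Ideal.comap_isPrime _ Q
    have hbot : Q.comap (Algebra.TensorProduct.includeRight : k' →ₐ[A] B ⊗[A] k') = ⊥ :=
      (Ideal.eq_bot_or_top _).resolve_right hQ2.ne_top
    change algebraMap A k' x ∈ Q.comap (Algebra.TensorProduct.includeRight : k' →ₐ[A] B ⊗[A] k') ↔ _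
    rw [hbot, Ideal.mem_bot, IsScalarTower.algebraMap_apply A p.ResidueField k',
      map_eq_zero_iff _ (algebraMap p.ResidueField k').injective,
      Ideal.algebraMap_residueField_eq_zero]
  obtain ⟨n, hn, hle, hPn⟩ := h _ hq
  exact ⟨n, hn, hle, hP _ _ (tensorTensorFiberEquiv A B (Localization.AtPrime n) p k').symm hPn⟩

end LocToGlob

end Groth.Agent.Lib.Helper28
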