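import Mathlib
import Groth.Agent.Lib.Helper28ComplCat
import Groth.Agent.Lib.Helper28LocLoc
import Groth.Agent.Lib.Helper28Equidim
import Groth.Agent.Lib.Helper28FormalFibres
import Groth.Agent.Lib.Helper28ComplFlatLocal
import Groth.Agent.Lib.Helper28FlatNormal
import Groth.Agent.Lib.Helper13Cat
import Groth.Agent.S2629
import Groth.Agent.S2630
import Groth.Agent.S2635

/-!
# Helper28FormalEquidimLoc: localizations of formally equidimensional rings (EGA IV 7.1.8)

* `isEquidim_localization_atPrime`: localization of an equidimensional catenary local ring is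
  equidimensional;
* `isEquidim_of_flat_of_forall_isPrime_map`, `isFormallyEquidim_of_flat_of_isLocalHom`;
* `isFormallyCatenary_localization_of_surjective`: localizations of quotients of CM rings are
  formally catenary;
* `isFormallyEquidim_localization_of_generic*`: the generic localization theorem;
* `isFormallyEquidim_localization_atPrime`: `A` formally equidimensional ⇒ `A_q` formally
  equidimensional.
-/

set_option autoImplicit false
universe u

namespace Groth.Agent.Lib.Helper28
open IsLocalRing

section EquidimLocalization

/-- A domain is equidimensional. -/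
theorem isEquidim_of_isDomain (R : Type u) [CommRing R] [IsDomain R] : EGA4.IsEquidim R := by
  intro p hp
  have : p = ⊥ := by
    have h1 : (⊥ : Ideal R) ≤ p := bot_le
    have : (⊥ : Ideal R).IsPrime := Ideal.isPrime_bot
    exact le_antisymm (hp.2 ⟨this, le_rfl⟩ h1) bot_le
  subst this
  exact ringKrullDim_eq_of_ringEquiv (RingEquiv.quotientBot R)

variable {R : Type u} [CommRing R]

/-- A minimal prime of a localization at a prime contracts to a minimal prime. -/
theorem comap_mem_minimalPrimes_of_atPrime (P : Ideal R) [P.IsPrime]
    (q' : Ideal (Localization.AtPrime P)) (hq' : q' ∈ minimalPrimes (Localization.AtPrime P)) :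
    q'.comap (algebraMap R (Localization.AtPrime P)) ∈ minimalPrimes R ∧
      q'.comap (algebraMap R (Localization.AtPrime P)) ≤ P := by
  have hq'p : q'.IsPrime := hq'.1.1
  have hdisj := ((IsLocalization.isPrime_iff_isPrime_disjoint P.primeCompl
    (Localization.AtPrime P) q').mp hq'p).2
  have hle : q'.comap (algebraMap R (Localization.AtPrime P)) ≤ P := by
    intro x hx
    by_contra hxP
    exact Set.disjoint_left.mp hdisj hxP hx
  refine ⟨⟨⟨inferInstance, bot_le⟩, ?_⟩, hle⟩
  rintro Q ⟨hQp, -⟩ hQle
  have hQP : Q ≤ P := hQle.trans hle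
  have hQdisj : Disjoint (P.primeCompl : Set R) Q := by
    rw [Set.disjoint_left]
    intro x hx hxQ
    exact hx (hQP hxQ)
  have hQ'p : (Q.map (algebraMap R (Localization.AtPrime P))).IsPrime :=
    IsLocalization.isPrime_of_isPrime_disjoint P.primeCompl _ Q hQp hQdisj
  have hcomap : (Q.map (algebraMap R (Localization.AtPrime P))).comap
      (algebraMap R (Localization.AtPrime P)) = Q :=
    IsLocalization.under_map_of_isPrime_disjoint P.primeCompl _ hQp hQdisj
  have h1 : Q.map (algebraMap R (Localization.AtPrime P)) ≤ q' := by
    rw [Ideal.map_le_iff_le_comap]; exact hQle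
  have h2 := hq'.2 ⟨hQ'p, bot_le⟩ h1
  calc q'.comap (algebraMap R (Localization.AtPrime P))
      ≤ (Q.map (algebraMap R (Localization.AtPrime P))).comap _ := Ideal.comap_mono h2
    _ = Q := hcomap

variable [IsNoetherianRing R] [IsLocalRing R]

/-- The localization of an equidimensional catenary Noetherian local ring at a prime is
equidimensional. -/
theorem isEquidim_localization_atPrime (hR : EGA4.IsEquidim R) (hc : CAlg.IsCatenary R)
    (P : Ideal R) [hP : P.IsPrime] : EGA4.IsEquidim (Localization.AtPrime P) := by
  intro q' hq'
  have hq'p : q'.IsPrime := hq'.1.1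
  obtain ⟨hQmin, hQP⟩ := comap_mem_minimalPrimes_of_atPrime P q' hq'
  set Q := q'.comap (algebraMap R (Localization.AtPrime P)) with hQ
  have hQp : Q.IsPrime := hQmin.1.1
  have hq'eq : Q.map (algebraMap R (Localization.AtPrime P)) = q' :=
    IsLocalization.map_under P.primeCompl _ q'
  rw [← hq'eq, ringKrullDim_localization_quotient_eq_height Q P hQP,
    IsLocalization.AtPrime.ringKrullDim_eq_height P (Localization.AtPrime P)]
  have hPbar : (P.map (Ideal.Quotient.mk Q)).IsPrime :=
    Ideal.map_isPrime_of_surjective Ideal.Quotient.mk_surjective (by rwa [Ideal.mk_ker])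
  have hcQ : CAlg.IsCatenary (R ⧸ Q) :=
    Groth.Agent.Helper13Cat.isCatenary_of_surjective (Ideal.Quotient.mk Q)
      Ideal.Quotient.mk_surjective hc
  have h1 := height_add_ringKrullDim_quotient_eq_of_isEquidim (isEquidim_of_isDomain (R ⧸ Q)) hcQ
    (P.map (Ideal.Quotient.mk Q))
  rw [ringKrullDim_eq_of_ringEquiv (DoubleQuot.quotQuotEquivQuotOfLE hQP), hR Q hQmin] at h1
  have h2 := height_add_ringKrullDim_quotient_eq_of_isEquidim hR hc P
  obtain ⟨d, hd⟩ := exists_nat_ringKrullDim_eq (R ⧸ P)
  rw [hd] at h1 h2
  apply Groth.Agent.S9297.withBot_enat_add_left_cancel d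
  rw [add_comm, h1, add_comm, h2]

end EquidimLocalization

section FlatAscent

variable {A A' : Type u} [CommRing A] [CommRing A'] [Algebra A A']
  [IsNoetherianRing A] [IsNoetherianRing A'] [IsLocalRing A] [IsLocalRing A']
  [IsLocalHom (algebraMap A A')] [Module.Flat A A']

/-- Ascent of equidimensionality along a flat local homomorphism such that the extension of every
minimal prime stays prime. -/
theorem isEquidim_of_flat_of_forall_isPrime_map (hA : EGA4.IsEquidim A)
    (hprime : ∀ P ∈ minimalPrimes A, (P.map (algebraMap A A')).IsPrime) : EGA4.IsEquidim A' := by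
  intro P' hP'
  have hP'' : P' ∈ ((⊥ : Ideal A).map (algebraMap A A')).minimalPrimes := by
    rw [Ideal.map_bot]; exact hP'
  obtain ⟨h1, h2⟩ := under_mem_minimalPrimes_of_mem_minimalPrimes_map (⊥ : Ideal A) P' hP''
  have hP : (P'.under A) ∈ minimalPrimes A := h1
  have hPp : (P'.under A).IsPrime := hP.1.1
  have hpr := hprime _ hP
  rw [Ideal.minimalPrimes_eq_subsingleton_self, Set.mem_singleton_iff] at h2
  rw [h2, ringKrullDim_quotient_map_eq_add _ hPp.ne_top, hA _ hP,
    ringKrullDim_eq_add_of_flat (R := A) (S := A') (EGA4.mB A A') rfl]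

/-- Descent of formal equidimensionality along a flat local homomorphism. -/
theorem isFormallyEquidim_of_flat_of_isLocalHom (h : EGA4.IsFormallyEquidim A') :
    EGA4.IsFormallyEquidim A := by
  obtain ⟨alg, -, hloc, hflat⟩ := exists_algebra_adicCompletion_of_isLocalHom A A'
  have hflat' := hflat inferInstance
  exact (Groth.Agent.S2630.result (AdicCompletion (maximalIdeal A) A)
    (AdicCompletion (maximalIdeal A') A') h (isCatenary_adicCompletion A')).1

end FlatAscent

section LocFlat2

variable {A B : Type u} [CommRing A] [CommRing B] [Algebra A B] [Module.Flat A B]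
  (Q : Ideal B) [Q.IsPrime]

/-- Plumbing: `A_P → B_Q` is a flat local homomorphism compatible with `A → B_Q`. -/
theorem exists_algebra_localization_flat' :
    ∃ (_ : Algebra (Localization.AtPrime (Q.comap (algebraMap A B))) (Localization.AtPrime Q))
      (_ : IsLocalHom (algebraMap (Localization.AtPrime (Q.comap (algebraMap A B)))
        (Localization.AtPrime Q)))
      (_ : Module.Flat (Localization.AtPrime (Q.comap (algebraMap A B))) (Localization.AtPrime Q)),
      IsScalarTower A (Localization.AtPrime (Q.comap (algebraMap A B))) (Localization.AtPrime Q) := by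
  set p : Ideal A := Q.comap (algebraMap A B) with hp
  have hlies : Q.LiesOver p := ⟨rfl⟩
  let alg := Localization.AtPrime.algebraOfLiesOver p Q
  have hloc : IsLocalHom (algebraMap (Localization.AtPrime p) (Localization.AtPrime Q)) := by
    rw [RingHom.algebraMap_toAlgebra]
    exact Localization.isLocalHom_localRingHom p Q (algebraMap A B) Ideal.LiesOver.over
  have hflatB : Module.Flat B (Localization.AtPrime Q) := IsLocalization.flat _ Q.primeCompl
  have hflatA : Module.Flat A (Localization.AtPrime Q) := Module.Flat.trans A B _
  have hflat : Module.Flat (Localization.AtPrime p) (Localization.AtPrime Q) :=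
    (Module.flat_iff_of_isLocalization (Localization.AtPrime p) p.primeCompl _).mpr hflatA
  exact ⟨alg, hloc, hflat, inferInstance⟩

end LocFlat2

section FormallyCatenaryOfCM

/-- A localization of a quotient of a Cohen–Macaulay ring is formally catenary. -/
theorem isFormallyCatenary_localization_of_surjective {W S : Type u} [CommRing W] [CommRing S]
    [LocCoh.IsCohenMacaulayRing W] [IsNoetherianRing S] (f : W →+* S)
    (hf : Function.Surjective f) (P : Ideal S) [P.IsPrime] :
    EGA4.IsFormallyCatenary (Localization.AtPrime P) := by
  have hCM : LocCoh.IsCohenMacaulayLocalRing (Localization.AtPrime (P.comap f)) :=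
    LocCoh.IsCohenMacaulayRing.isCohenMacaulayLocalRing_localization _
  let alg := (Localization.localRingHom (P.comap f) P f rfl).toAlgebra
  exact Groth.Agent.S2635.result (Localization.AtPrime (P.comap f)) (Localization.AtPrime P)
    (RingHom.surjective_localRingHom_of_surjective f hf P)

end FormallyCatenaryOfCM

section Generic

variable {R S S' W : Type u} [CommRing R] [CommRing S] [CommRing S'] [CommRing W]
  [IsNoetherianRing R] [IsLocalRing R] [IsNoetherianRing S] [IsNoetherianRing S']
  [Algebra R S'] [Algebra S S'] [Module.Flat R S'] [Module.Flat S S']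
  [LocCoh.IsCohenMacaulayRing W]

/-- Generic localization theorem: `R` equidimensional catenary Noetherian local, `S'` a flat
Noetherian `R`-algebra which is a quotient of a Cohen–Macaulay ring and such that minimal primes of
`R` extend to primes of `S'`. Then every localization of `S'` at a prime is formally
equidimensional. -/
theorem isFormallyEquidim_localization_of_generic (hR : EGA4.IsEquidim R) (hc : CAlg.IsCatenary R)
    (hprime : ∀ Q ∈ minimalPrimes R, (Q.map (algebraMap R S')).IsPrime)
    (f : W →+* S') (hf : Function.Surjective f) (q' : Ideal S') [q'.IsPrime] :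
    EGA4.IsFormallyEquidim (Localization.AtPrime q') := by
  have hcat : EGA4.IsFormallyCatenary (Localization.AtPrime q') :=
    isFormallyCatenary_localization_of_surjective f hf q'
  refine (Groth.Agent.S2629.result (Localization.AtPrime q')).mpr ⟨?_, fun p _ _ => hcat p⟩
  -- equidimensionality of `S'_{q'}`
  obtain ⟨alg, hloc, hflat, htower⟩ := exists_algebra_localization_flat' (A := R) (B := S') q'
  set P' := q'.comap (algebraMap R S') with hP'
  have hRP' : EGA4.IsEquidim (Localization.AtPrime P') := isEquidim_localization_atPrime hR hc P'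
  refine isEquidim_of_flat_of_forall_isPrime_map hRP' ?_
  intro 𝔓 h𝔓
  obtain ⟨hQmin, hQP'⟩ := comap_mem_minimalPrimes_of_atPrime P' 𝔓 h𝔓
  set Q := 𝔓.comap (algebraMap R (Localization.AtPrime P')) with hQ
  have h𝔓eq : Q.map (algebraMap R (Localization.AtPrime P')) = 𝔓 :=
    IsLocalization.map_under P'.primeCompl _ 𝔓
  have hQpr := hprime Q hQmin
  have hQle : Q.map (algebraMap R S') ≤ q' := by
    rw [Ideal.map_le_iff_le_comap]; exact hQP'
  have hdisj : Disjoint (q'.primeCompl : Set S') (Q.map (algebraMap R S')) := by
    rw [Set.disjoint_left]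
    intro x hx hxQ
    exact hx (hQle hxQ)
  have key : 𝔓.map (algebraMap (Localization.AtPrime P') (Localization.AtPrime q')) =
      (Q.map (algebraMap R S')).map (algebraMap S' (Localization.AtPrime q')) := by
    rw [← h𝔓eq, Ideal.map_map, Ideal.map_map, ← IsScalarTower.algebraMap_eq,
      ← IsScalarTower.algebraMap_eq]
  rw [key]
  exact IsLocalization.isPrime_of_isPrime_disjoint q'.primeCompl _ _ hQpr hdisj

/-- Generic descent: under the hypotheses above, if `S → S'` is flat then the localization of `S`
at the contraction of any prime of `S'` is formally equidimensional. -/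
theorem isFormallyEquidim_localization_comap_of_generic (hR : EGA4.IsEquidim R)
    (hc : CAlg.IsCatenary R)
    (hprime : ∀ Q ∈ minimalPrimes R, (Q.map (algebraMap R S')).IsPrime)
    (f : W →+* S') (hf : Function.Surjective f) (q' : Ideal S') [q'.IsPrime] :
    EGA4.IsFormallyEquidim (Localization.AtPrime (q'.comap (algebraMap S S'))) := by
  have h1 := isFormallyEquidim_localization_of_generic hR hc hprime f hf q'
  obtain ⟨alg, hloc, hflat, -⟩ := exists_algebra_localization_flat' (A := S) (B := S') q'
  exact isFormallyEquidim_of_flat_of_isLocalHom (A' := Localization.AtPrime q') h1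

omit [Module.Flat S S'] in
/-- Generic localization theorem, faithfully flat form. -/
theorem isFormallyEquidim_localization_of_generic_of_faithfullyFlat [Module.FaithfullyFlat S S']
    (hR : EGA4.IsEquidim R) (hc : CAlg.IsCatenary R)
    (hprime : ∀ Q ∈ minimalPrimes R, (Q.map (algebraMap R S')).IsPrime)
    (f : W →+* S') (hf : Function.Surjective f) (q : Ideal S) [hq : q.IsPrime] :
    EGA4.IsFormallyEquidim (Localization.AtPrime q) := by
  obtain ⟨q', hq'p, hq'⟩ := Ideal.exists_isPrime_liesOver_of_faithfullyFlat (B := S') q
  have h1 := isFormallyEquidim_localization_comap_of_generic (S := S) hR hc hprime f hf q'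
  have hcomap : q'.comap (algebraMap S S') = q := hq'.over.symm
  have key : ∀ (q₁ : Ideal S) [q₁.IsPrime], q₁ = q →
      EGA4.IsFormallyEquidim (Localization.AtPrime q₁) →
      EGA4.IsFormallyEquidim (Localization.AtPrime q) := by
    rintro q₁ _ rfl h
    exact h
  exact key _ hcomap h1

end Generic

end Groth.Agent.Lib.Helper28

namespace Groth.Agent.Lib.Helper28
open IsLocalRing

section ThmI

/-- A complete Noetherian local ring is a quotient of a Cohen–Macaulay (indeed regular) ring. -/
theorem exists_surjective_of_isCohenMacaulayRing_of_isAdicComplete (R : Type u) [CommRing R]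
    [IsNoetherianRing R] [IsLocalRing R] [IsAdicComplete (maximalIdeal R) R] :
    ∃ (W : Type u) (_ : CommRing W) (_ : IsRegularRing W) (_ : LocCoh.IsCohenMacaulayRing W)
      (f : W →+* R), Function.Surjective f := by
  obtain ⟨Λ, _, n, f, hΛ, hf⟩ :=
    Groth.Agent.Lib.Helper19.CohenStructure.exists_surjective_mvPowerSeries_of_complete_local R
      (IsNoetherian.noetherian _)
  have hreg : IsRegularRing Λ := by
    rcases hΛ with hF | hC
    · have : IsDomain Λ := hF.isDomain
      have : IsPrincipalIdealRing Λ := hF.isPrincipalIdealRing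
      infer_instance
    · obtain ⟨hd, hdvr, -⟩ := hC
      infer_instance
  have hreg' := isRegularRing_mvPowerSeries_fin Λ n
  have hCM : LocCoh.IsCohenMacaulayRing (MvPowerSeries (Fin n) Λ) :=
    ⟨fun p _ => Groth.Agent.Lib.Helper5.isCohenMacaulayLocalRing_of_isRegularLocalRing _⟩
  exact ⟨_, inferInstance, hreg', hCM, f, hf⟩

/-- **EGA IV 7.1.8 / Matsumura 31.6 (i)**: a localization of a formally equidimensional Noetherian
local ring at a prime is formally equidimensional. -/
theorem isFormallyEquidim_localization_atPrime (A : Type u) [CommRing A] [IsNoetherianRing A]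
    [IsLocalRing A] (h : EGA4.IsFormallyEquidim A) (q : Ideal A) [q.IsPrime] :
    EGA4.IsFormallyEquidim (Localization.AtPrime q) := by
  have hcompl := isAdicComplete_maximalIdeal_adicCompletion A
  obtain ⟨W, _, -, hCM, f, hf⟩ := exists_surjective_of_isCohenMacaulayRing_of_isAdicComplete
    (AdicCompletion (maximalIdeal A) A)
  have hff := faithfullyFlat_adicCompletion A
  refine isFormallyEquidim_localization_of_generic_of_faithfullyFlat
    (R := AdicCompletion (maximalIdeal A) A) (S := A) (S' := AdicCompletion (maximalIdeal A) A)
    h (isCatenary_adicCompletion A) ?_ f hf q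
  intro Q hQ
  rw [Algebra.algebraMap_self, Ideal.map_id]
  exact hQ.1.1

end ThmI

end Groth.Agent.Lib.Helper28
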