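import Mathlib
import Groth.Agent.Lib.Helper28ComplIso
import Groth.Agent.Lib.Helper28FormalEquidimLoc
import Groth.Agent.Lib.Helper19ComplNoeth

/-!
# Helper28IAdicLocal: the `I`-adic completion `Â` of a Noetherian ring `A` at a prime `n ⊇ I Â`:
`A_m → Â_n` (with `m = n ∩ A`) induces an isomorphism on completions.
-/

set_option autoImplicit false
universe u

namespace Groth.Agent.Lib.Helper28
open IsLocalRing

section IAdic

variable {A : Type u} [CommRing A] [IsNoetherianRing A] (I : Ideal A)

/-- `I Â` is contained in every maximal ideal of the `I`-adic completion. -/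
theorem map_le_of_isMaximal_adicCompletion (n : Ideal (AdicCompletion I A)) [hn : n.IsMaximal] :
    I.map (algebraMap A (AdicCompletion I A)) ≤ n := by
  have h1 : IsAdicComplete I (AdicCompletion I A) :=
    AdicCompletion.isAdicComplete (IsNoetherian.noetherian _)
  have h2 : IsAdicComplete (I.map (algebraMap A (AdicCompletion I A))) (AdicCompletion I A) :=
    (IsAdicComplete.map_algebraMap_iff (I := I)
      (S := AdicCompletion I A) (M := AdicCompletion I A)).mpr h1
  exact (IsAdicComplete.le_jacobson_bot _).trans (sInf_le ⟨bot_le, hn⟩)

/-- Elements of the completion are congruent to elements of `A` modulo `I Â`. -/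
theorem exists_sub_mem_map_adicCompletion (x : AdicCompletion I A) :
    ∃ a : A, x - algebraMap A (AdicCompletion I A) a ∈ I.map (algebraMap A (AdicCompletion I A)) := by
  obtain ⟨a, ha⟩ := exists_sub_of_mem_pow_smul_top I (IsNoetherian.noetherian _) 1 x
  refine ⟨a, ?_⟩
  rw [pow_one] at ha
  rw [← Submodule.restrictScalars_mem A, ← Ideal.smul_top_eq_map]
  exact ha

/-- An ideal of the completion containing `I Â` is extended from its contraction. -/
theorem map_comap_eq_of_map_le (n : Ideal (AdicCompletion I A))
    (hn : I.map (algebraMap A (AdicCompletion I A)) ≤ n) :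
    (n.comap (algebraMap A (AdicCompletion I A))).map (algebraMap A (AdicCompletion I A)) = n := by
  apply le_antisymm Ideal.map_comap_le
  intro x hx
  obtain ⟨a, ha⟩ := exists_sub_mem_map_adicCompletion I x
  have ha' : algebraMap A (AdicCompletion I A) a ∈ n := by
    have := n.sub_mem hx (hn ha)
    rwa [sub_sub_cancel] at this
  have hI : I ≤ n.comap (algebraMap A (AdicCompletion I A)) := Ideal.map_le_iff_le_comap.mp hn
  have e : x = (x - algebraMap A (AdicCompletion I A) a) + algebraMap A (AdicCompletion I A) a := by
    ring
  rw [e]
  exact Ideal.add_mem _ (Ideal.map_mono hI ha) (Ideal.mem_map_of_mem _ ha')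

/-- For a prime `n ⊇ I Â` of the `I`-adic completion `Â`, with contraction `m`, the flat local
homomorphism `A_m → Â_n` induces an isomorphism of completions. -/
theorem exists_ringEquiv_cpl_localization_adicCompletion (n : Ideal (AdicCompletion I A))
    [hnp : n.IsPrime] (hn : I.map (algebraMap A (AdicCompletion I A)) ≤ n) :
    ∃ (_ : Algebra (Localization.AtPrime (n.comap (algebraMap A (AdicCompletion I A))))
        (Localization.AtPrime n))
      (_ : IsLocalHom (algebraMap (Localization.AtPrime (n.comap (algebraMap A (AdicCompletion I A))))
        (Localization.AtPrime n)))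
      (_ : Module.Flat (Localization.AtPrime (n.comap (algebraMap A (AdicCompletion I A))))
        (Localization.AtPrime n))
      (_ : IsScalarTower A (Localization.AtPrime (n.comap (algebraMap A (AdicCompletion I A))))
        (Localization.AtPrime n)),
      ∃ e : EGA4.Cpl (Localization.AtPrime (n.comap (algebraMap A (AdicCompletion I A)))) ≃+*
          EGA4.Cpl (Localization.AtPrime n),
        ∀ a : Localization.AtPrime (n.comap (algebraMap A (AdicCompletion I A))),
          e (algebraMap (Localization.AtPrime (n.comap (algebraMap A (AdicCompletion I A))))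
            (EGA4.Cpl (Localization.AtPrime (n.comap (algebraMap A (AdicCompletion I A))))) a) =
          algebraMap (Localization.AtPrime n) (EGA4.Cpl (Localization.AtPrime n))
            (algebraMap (Localization.AtPrime (n.comap (algebraMap A (AdicCompletion I A))))
              (Localization.AtPrime n) a) := by
  have hNoeth : IsNoetherianRing (AdicCompletion I A) :=
    Groth.Agent.Lib.Helper19.isNoetherianRing_adicCompletion I
  obtain ⟨alg, hloc, hflat, htower⟩ :=
    exists_algebra_localization_flat' (A := A) (B := AdicCompletion I A) n
  set m := n.comap (algebraMap A (AdicCompletion I A)) with hm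
  have hmn : m.map (algebraMap A (AdicCompletion I A)) = n := map_comap_eq_of_map_le I n hn
  have h1 : (maximalIdeal (Localization.AtPrime m)).map
      (algebraMap (Localization.AtPrime m) (Localization.AtPrime n)) =
      maximalIdeal (Localization.AtPrime n) := by
    rw [← IsLocalization.AtPrime.map_eq_maximalIdeal m (Localization.AtPrime m), Ideal.map_map,
      ← IsScalarTower.algebraMap_eq,
      IsScalarTower.algebraMap_eq A (AdicCompletion I A) (Localization.AtPrime n),
      ← Ideal.map_map, hmn, IsLocalization.AtPrime.map_eq_maximalIdeal n (Localization.AtPrime n)]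
  have h2 : ∀ b : Localization.AtPrime n, ∃ a : Localization.AtPrime m,
      b - algebraMap (Localization.AtPrime m) (Localization.AtPrime n) a ∈
        maximalIdeal (Localization.AtPrime n) := by
    intro b
    obtain ⟨⟨x, s⟩, rfl⟩ := IsLocalization.mk'_surjective n.primeCompl b
    obtain ⟨a₁, ha₁⟩ := exists_sub_mem_map_adicCompletion I x
    obtain ⟨a₂, ha₂⟩ := exists_sub_mem_map_adicCompletion I (s : AdicCompletion I A)
    have ha₂m : a₂ ∈ m.primeCompl := by
      intro hmem
      have h3 : algebraMap A (AdicCompletion I A) a₂ ∈ n := hmem
      have := n.add_mem (hn ha₂) h3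
      rw [sub_add_cancel] at this
      exact s.2 this
    refine ⟨IsLocalization.mk' _ a₁ ⟨a₂, ha₂m⟩, ?_⟩
    have hu1 : IsUnit (algebraMap (AdicCompletion I A) (Localization.AtPrime n) s) :=
      IsLocalization.map_units _ s
    have ha₂n : algebraMap A (AdicCompletion I A) a₂ ∈ n.primeCompl := ha₂m
    have hu2 : IsUnit (algebraMap (AdicCompletion I A) (Localization.AtPrime n)
        (algebraMap A (AdicCompletion I A) a₂)) :=
      IsLocalization.map_units _ (⟨_, ha₂n⟩ : n.primeCompl)
    rw [← Ideal.unit_mul_mem_iff_mem _ (hu1.mul hu2)]
    have e1 : IsLocalization.mk' (Localization.AtPrime n) x s *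
        algebraMap (AdicCompletion I A) (Localization.AtPrime n) s =
        algebraMap (AdicCompletion I A) (Localization.AtPrime n) x := IsLocalization.mk'_spec _ x s
    have e2 : algebraMap (Localization.AtPrime m) (Localization.AtPrime n)
        (IsLocalization.mk' (Localization.AtPrime m) a₁ (⟨a₂, ha₂m⟩ : m.primeCompl)) *
        algebraMap (AdicCompletion I A) (Localization.AtPrime n)
          (algebraMap A (AdicCompletion I A) a₂) =
        algebraMap (AdicCompletion I A) (Localization.AtPrime n)
          (algebraMap A (AdicCompletion I A) a₁) := by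
      rw [← IsScalarTower.algebraMap_apply A (AdicCompletion I A) (Localization.AtPrime n),
        ← IsScalarTower.algebraMap_apply A (AdicCompletion I A) (Localization.AtPrime n),
        IsScalarTower.algebraMap_apply A (Localization.AtPrime m) (Localization.AtPrime n),
        IsScalarTower.algebraMap_apply A (Localization.AtPrime m) (Localization.AtPrime n),
        ← map_mul]
      congr 1
      exact IsLocalization.mk'_spec _ a₁ (⟨a₂, ha₂m⟩ : m.primeCompl)
    have e3 : algebraMap (AdicCompletion I A) (Localization.AtPrime n) s *
        algebraMap (AdicCompletion I A) (Localization.AtPrime n)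
          (algebraMap A (AdicCompletion I A) a₂) *
        (IsLocalization.mk' (Localization.AtPrime n) x s -
          algebraMap (Localization.AtPrime m) (Localization.AtPrime n)
            (IsLocalization.mk' (Localization.AtPrime m) a₁ (⟨a₂, ha₂m⟩ : m.primeCompl))) =
        algebraMap (AdicCompletion I A) (Localization.AtPrime n)
          ((x - algebraMap A (AdicCompletion I A) a₁) * algebraMap A (AdicCompletion I A) a₂ -
            algebraMap A (AdicCompletion I A) a₁ *
              ((s : AdicCompletion I A) - algebraMap A (AdicCompletion I A) a₂)) := by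
      rw [map_sub, map_mul, map_mul, map_sub, map_sub, ← e1, ← e2]
      ring
    rw [e3, IsLocalization.AtPrime.to_map_mem_maximal_iff (Localization.AtPrime n) n]
    exact n.sub_mem (n.mul_mem_right _ (hn ha₁)) (n.mul_mem_left _ (hn ha₂))
  refine ⟨alg, hloc, hflat, htower, ?_⟩
  exact exists_ringEquiv_adicCompletion_of_flat_of_map_maximalIdeal _ _ h1 h2

end IAdic

end Groth.Agent.Lib.Helper28
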