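import Mathlib
import Groth.Agent.Lib.Helper28IAdicLocal
import Groth.Agent.Lib.Helper28FibreLocal
import Groth.Agent.Lib.Helper28GeomFibre2

/-!
# Helper28IAdicFibres: geometric fibres of the `I`-adic completion of a Noetherian ring
(EGA IV 7.4.6 / Stacks 0AH2-type argument).
-/

set_option autoImplicit false
universe u

namespace Groth.Agent.Lib.Helper28
open IsLocalRing TensorProduct

section IAdicFibres

variable (P : ∀ (R : Type u) [CommRing R], Prop)

/-- **Fibres of the `I`-adic completion** (EGA IV 7.4.6 style): if a property `P` of Noetherian rings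
is local, stable under localization, descends along faithfully flat maps, holds for fields, and
ascends along the completion maps of the local rings of `A` (after quasi-finite base change), then
the geometric fibres of `A → Â` (the `I`-adic completion) satisfy `P`. -/
theorem tensor_fiber_adicCompletion_of_property
    (hP : ∀ (R S : Type u) [CommRing R] [CommRing S], (R ≃+* S) → P R → P S)
    (hdesc : ∀ (R' T : Type u) [CommRing R'] [CommRing T] [Algebra R' T]
      [Module.FaithfullyFlat R' T] [IsNoetherianRing R'] [IsNoetherianRing T], P T → P R')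
    (hloc : ∀ (R : Type u) [CommRing R] (M : Submonoid R) (R' : Type u) [CommRing R'] [Algebra R R']
      [IsLocalization M R'], P R → P R')
    (hl2g : ∀ (R : Type u) [CommRing R],
      (∀ (Q : Ideal R) [Q.IsPrime], P (Localization.AtPrime Q)) → P R)
    (hfield : ∀ (k : Type u) [Field k], P k)
    (A : Type u) [CommRing A] [IsNoetherianRing A] (I : Ideal A)
    (hasc : ∀ (m : Ideal A) [m.IsPrime] (R' : Type u) [CommRing R']
      [Algebra (Localization.AtPrime m) R'] [Algebra.QuasiFinite (Localization.AtPrime m) R']
      [IsNoetherianRing R']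
      [IsNoetherianRing (R' ⊗[Localization.AtPrime m] EGA4.Cpl (Localization.AtPrime m))],
      P R' → P (R' ⊗[Localization.AtPrime m] EGA4.Cpl (Localization.AtPrime m)))
    (p : Ideal A) [p.IsPrime] (k' : Type u) [Field k'] [Algebra p.ResidueField k']
    [Module.Finite p.ResidueField k'] :
    P (k' ⊗[p.ResidueField] p.Fiber (AdicCompletion I A)) := by
  have hNoeth : IsNoetherianRing (AdicCompletion I A) :=
    Groth.Agent.Lib.Helper19.isNoetherianRing_adicCompletion I
  apply tensor_fiber_of_forall_exists_localization P hP hloc hl2g
  intro q hq hqp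
  obtain ⟨n, hnmax, hqn⟩ := Ideal.exists_le_maximal q hq.ne_top
  have hn : n.IsPrime := hnmax.isPrime
  refine ⟨n, hn, hqn, ?_⟩
  have hIn := map_le_of_isMaximal_adicCompletion I n
  obtain ⟨alg, hloc', hflat, htower, e, he⟩ :=
    exists_ringEquiv_cpl_localization_adicCompletion I n hIn
  set m := n.comap (algebraMap A (AdicCompletion I A)) with hm
  let _ : Algebra A k' := ((algebraMap p.ResidueField k').comp (algebraMap A p.ResidueField)).toAlgebra
  have : IsScalarTower A p.ResidueField k' := .of_algebraMap_eq' rfl
  -- fibre of `A → A_m`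
  have h1 : P (k' ⊗[p.ResidueField] p.Fiber (Localization.AtPrime m)) := by
    refine hP _ _ (tensorFiberEquiv A (Localization.AtPrime m) p k') ?_
    refine hP _ _ (Algebra.TensorProduct.comm A k' (Localization.AtPrime m)).toRingEquiv ?_
    have : IsLocalization (Algebra.algebraMapSubmonoid k' m.primeCompl)
        (k' ⊗[A] Localization.AtPrime m) := IsLocalization.tensor (Localization.AtPrime m) m.primeCompl
    exact hloc k' (Algebra.algebraMapSubmonoid k' m.primeCompl) _ (hfield k')
  have hN1 : IsNoetherianRing (p.Fiber (Localization.AtPrime m)) := isNoetherianRing_fiber p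
  have hN2 : IsNoetherianRing (p.Fiber (EGA4.Cpl (Localization.AtPrime m))) := isNoetherianRing_fiber p
  have hN3 : IsNoetherianRing (p.Fiber (Localization.AtPrime n)) := isNoetherianRing_fiber p
  have hN4 : IsNoetherianRing (p.Fiber (EGA4.Cpl (Localization.AtPrime n))) := isNoetherianRing_fiber p
  -- fibre of `A → A_m → (A_m)^`
  have h2 : P (k' ⊗[p.ResidueField] p.Fiber (EGA4.Cpl (Localization.AtPrime m))) :=
    tensor_fiber_comp_of_property A (Localization.AtPrime m) (EGA4.Cpl (Localization.AtPrime m)) p k'
      P hP (hasc m) h1
  -- transfer along the isomorphism of completions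
  let eA : EGA4.Cpl (Localization.AtPrime m) ≃ₐ[A] EGA4.Cpl (Localization.AtPrime n) :=
    AlgEquiv.ofRingEquiv (f := e) (by
      intro a
      rw [IsScalarTower.algebraMap_apply A (Localization.AtPrime m)
        (EGA4.Cpl (Localization.AtPrime m)), he,
        ← IsScalarTower.algebraMap_apply A (Localization.AtPrime m) (Localization.AtPrime n),
        ← IsScalarTower.algebraMap_apply A (Localization.AtPrime n)
          (EGA4.Cpl (Localization.AtPrime n))])
  have h3 : P (k' ⊗[p.ResidueField] p.Fiber (EGA4.Cpl (Localization.AtPrime n))) :=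
    hP _ _ (tensorFiberCongr eA p k') h2
  have hff : Module.FaithfullyFlat (Localization.AtPrime n) (EGA4.Cpl (Localization.AtPrime n)) :=
    faithfullyFlat_adicCompletion (Localization.AtPrime n)
  exact tensor_fiber_descent_of_property A (Localization.AtPrime n)
    (EGA4.Cpl (Localization.AtPrime n)) p k' P hP hdesc h3

end IAdicFibres

end Groth.Agent.Lib.Helper28
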