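import Mathlib


set_option autoImplicit false
universe u

namespace Groth.Agent.Lib.Helper28
open IsLocalRing TensorProduct

section LocallyQ

variable (Q : ∀ (R : Type u) [CommRing R], Prop)
  (hQ : ∀ (R S : Type u) [CommRing R] [CommRing S], (R ≃+* S) → Q R → Q S)

include hQ in
/-- "Locally `Q`" is invariant under ring isomorphisms. -/
theorem locallyQ_of_ringEquiv {R S : Type u} [CommRing R] [CommRing S] (e : R ≃+* S)
    (h : ∀ (p : Ideal R) [p.IsPrime], Q (Localization.AtPrime p)) :
    ∀ (p : Ideal S) [p.IsPrime], Q (Localization.AtPrime p) := by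
  intro p hp
  have hp' : (p.comap (e : R →+* S)).IsPrime := Ideal.comap_isPrime _ _
  have h1 := h (p.comap (e : R →+* S))
  have hmap : (p.comap (e : R →+* S)).primeCompl.map (e : R →* S) = p.primeCompl := by
    ext y
    constructor
    · rintro ⟨x, hx, rfl⟩
      exact hx
    · intro hy
      refine ⟨e.symm y, ?_, by simp⟩
      intro hmem
      apply hy
      have : e (e.symm y) ∈ p := hmem
      rwa [e.apply_symm_apply] at this
  exact hQ _ _ (IsLocalization.ringEquivOfRingEquiv (Localization.AtPrime (p.comap (e : R →+* S)))
    (Localization.AtPrime p) e hmap) h1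

include hQ in
/-- "Locally `Q`" passes to localizations. -/
theorem locallyQ_of_isLocalization {R : Type u} [CommRing R] (M : Submonoid R) (R' : Type u)
    [CommRing R'] [Algebra R R'] [IsLocalization M R']
    (h : ∀ (p : Ideal R) [p.IsPrime], Q (Localization.AtPrime p)) :
    ∀ (p : Ideal R') [p.IsPrime], Q (Localization.AtPrime p) := by
  intro p hp
  have hp' : (p.comap (algebraMap R R')).IsPrime := Ideal.comap_isPrime _ _
  have hloc2 : IsLocalization.AtPrime (Localization.AtPrime p) (p.comap (algebraMap R R')) :=
    IsLocalization.isLocalization_isLocalization_atPrime_isLocalization M _ _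
  have e := IsLocalization.algEquiv (p.comap (algebraMap R R')).primeCompl
    (Localization.AtPrime (p.comap (algebraMap R R'))) (Localization.AtPrime p)
  exact hQ _ _ e.toRingEquiv (h _)

include hQ in
/-- "Locally `Q`" can be checked on localizations at primes. -/
theorem locallyQ_of_forall_localization {R : Type u} [CommRing R]
    (h : ∀ (P : Ideal R) [P.IsPrime] (p : Ideal (Localization.AtPrime P)) [p.IsPrime],
      Q (Localization.AtPrime p)) :
    ∀ (p : Ideal R) [p.IsPrime], Q (Localization.AtPrime p) := by
  intro p hp
  have h1 := h p (maximalIdeal (Localization.AtPrime p))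
  have hle : (maximalIdeal (Localization.AtPrime p)).primeCompl ≤
      IsUnit.submonoid (Localization.AtPrime p) := by
    intro x hx
    exact IsLocalRing.notMem_maximalIdeal.mp hx
  have e := IsLocalization.atUnits (Localization.AtPrime p)
    (maximalIdeal (Localization.AtPrime p)).primeCompl
    (S := Localization.AtPrime (maximalIdeal (Localization.AtPrime p))) hle
  exact hQ _ _ e.symm.toRingEquiv h1

end LocallyQ

end Groth.Agent.Lib.Helper28
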