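import Mathlib
import Groth.Agent.S0595
import Groth.Agent.S0600
import Groth.Agent.Lib.Helper7EtaleSection
import Groth.Agent.Lib.Helper19ComplNoeth
import Groth.Agent.Lib.Helper18EssEtale
import Groth.Agent.Lib.Helper7PolyGRing2
import Groth.Agent.Lib.Helper7ExcLoc
import Groth.Agent.Lib.Helper10ArtinSchA

/-!
# Scheme-level Artin approximation (helper10), part B

Popescu + étale-local sections of smooth maps + spreading out, assembled into the statement on
elementary étale neighbourhoods.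
-/

set_option autoImplicit false
set_option linter.style.haveILetI false
universe u

namespace Groth.Agent.Lib.Helper10.ArtinSch

open IsLocalRing TensorProduct AlgebraicGeometry CategoryTheory

/-- An algebra essentially of finite type over a G-ring is a G-ring. -/
theorem isGRing_of_essFiniteType (R : Type u) [CommRing R] (hR : CAlg.IsGRing R) (S : Type u)
    [CommRing S] [Algebra R S] [Algebra.EssFiniteType R S] : CAlg.IsGRing S := by
  have h1 : CAlg.IsGRing (Algebra.EssFiniteType.subalgebra R S) :=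
    Groth.Agent.Lib.Helper7.PolyGRing2.isGRing_of_finiteType R hR _
  have h2 := Groth.Agent.Lib.Helper7.ExcLoc.isGRing_localization _ h1
    (Algebra.EssFiniteType.submonoid R S)
  exact Groth.Agent.Lib.Helper7.PolyGRing2.isGRing_of_ringEquiv
    (IsLocalization.algEquiv (Algebra.EssFiniteType.submonoid R S)
      (Localization (Algebra.EssFiniteType.submonoid R S)) S).toRingEquiv h2

set_option maxHeartbeats 800000 in
theorem alg_core
    (R CX CY A : Type u) [CommRing R] [CommRing CX] [CommRing CY] [CommRing A]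
    [Algebra R CX] [Algebra R CY] [Algebra CX A] [Algebra R A] [IsScalarTower R CX A]
    [Algebra.FinitePresentation R CY]
    (p : Ideal CX) [p.IsPrime] [IsLocalization.AtPrime A p] [IsLocalRing A] [IsNoetherianRing A]
    (hreg : CAlg.IsRegularHom A (AdicCompletion (maximalIdeal A) A))
    (Φ : CY →+* AdicCompletion (maximalIdeal A) A)
    (hΦ : ∀ r : R, Φ (algebraMap R CY r) =
      algebraMap A (AdicCompletion (maximalIdeal A) A) (algebraMap R A r))
    (N : ℕ) (hN : 1 ≤ N) :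
    ∃ (E : Type u) (_ : CommRing E) (_ : Algebra CX E) (_ : Algebra.Etale CX E)
      (βE : CY →+* E) (ρE : E →+* A ⧸ maximalIdeal A ^ N),
      (∀ r : R, βE (algebraMap R CY r) = algebraMap CX E (algebraMap R CX r)) ∧
      (∀ c : CX, ρE (algebraMap CX E c) = Ideal.Quotient.mk _ (algebraMap CX A c)) ∧
      (∀ c : CY, ρE (βE c) = AdicCompletion.evalₐ (maximalIdeal A) N (Φ c)) := by
  classical
  have hNoeth : IsNoetherianRing (AdicCompletion (maximalIdeal A) A) :=
    Groth.Agent.Lib.Helper19.isNoetherianRing_adicCompletion (maximalIdeal A)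
  -- Φ as an R-algebra hom
  let ΦR : CY →ₐ[R] AdicCompletion (maximalIdeal A) A :=
    { Φ with
      commutes' := fun r => by
        change Φ (algebraMap R CY r) = _
        rw [hΦ, ← IsScalarTower.algebraMap_apply] }
  -- the f.p. A-algebra B
  let fB : A ⊗[R] CY →ₐ[A] AdicCompletion (maximalIdeal A) A :=
    Algebra.TensorProduct.lift (Algebra.ofId A _) ΦR (fun _ _ => Commute.all _ _)
  obtain ⟨D, _, _, hsm, g, h, hgh⟩ :=
    Groth.Agent.S0595.result A (AdicCompletion (maximalIdeal A) A) hreg (A ⊗[R] CY) fB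
  obtain ⟨A', _, _, _, τ, ψ, hψτ⟩ :=
    Groth.Agent.Lib.Helper7.EtaleSection.exists_etale_section (maximalIdeal A ^ N)
      ((AdicCompletion.evalₐ (maximalIdeal A) N).comp h)
  let β : A ⊗[R] CY →ₐ[A] A' := τ.comp g
  have hψβ : ∀ b, ψ (β b) = AdicCompletion.evalₐ (maximalIdeal A) N (fB b) := by
    intro b
    have h1 : ψ (τ (g b)) = AdicCompletion.evalₐ (maximalIdeal A) N (h (g b)) :=
      congr($hψτ (g b))
    have h2 : h (g b) = fB b := congr($hgh b)
    rw [← h2]
    exact h1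
  -- CX-algebra structure on A'
  letI : Algebra CX A' := ((algebraMap A A').comp (algebraMap CX A)).toAlgebra
  have towCXA : IsScalarTower CX A A' := IsScalarTower.of_algebraMap_eq (fun _ => rfl)
  obtain ⟨C₁, _, _, _, towC₁, hfpC₁, hlocC₁⟩ :=
    Groth.Agent.Lib.Helper18EssEtale.spread CX p A A'
  let βY : CY →+* A' :=
    (β : A ⊗[R] CY →+* A').comp
      (Algebra.TensorProduct.includeRight (R := R) (A := A) (B := CY) : CY →+* A ⊗[R] CY)
  have hβY : ∀ r : R, βY (algebraMap R CY r) = algebraMap A A' (algebraMap R A r) := by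
    intro r
    change β ((1 : A) ⊗ₜ[R] (algebraMap R CY r)) = _
    have e1 : ((1 : A) ⊗ₜ[R] (algebraMap R CY r)) =
        algebraMap A (A ⊗[R] CY) (algebraMap R A r) := by
      rw [Algebra.TensorProduct.algebraMap_apply, Algebra.algebraMap_eq_smul_one r,
        Algebra.algebraMap_eq_smul_one r, Algebra.algebraMap_self, RingHom.id_apply,
        TensorProduct.smul_tmul]
    rw [e1, AlgHom.commutes]
  obtain ⟨E, _, _, hEt, βE, ρE, h1, h2, h3⟩ :=
    alg_core_aux (R := R) (CX := CX) (CY := CY) (A := A) (A' := A') (C₁ := C₁) p N hN ψ βY hβY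
  refine ⟨E, inferInstance, inferInstance, hEt, βE, ρE, h1, h2, ?_⟩
  intro c
  rw [h3]
  change ψ (β ((1 : A) ⊗ₜ[R] c)) = _
  rw [hψβ]
  congr 1
  change Algebra.TensorProduct.lift (Algebra.ofId A _) ΦR (fun _ _ => Commute.all _ _)
    ((1 : A) ⊗ₜ[R] c) = Φ c
  rw [Algebra.TensorProduct.lift_tmul, map_one, one_mul]
  rfl

set_option maxHeartbeats 1600000 in
theorem main {X Y S : Scheme.{u}} [IsLocallyNoetherian S]
    (p : X ⟶ S) (q : Y ⟶ S) [LocallyOfFiniteType p] [LocallyOfFiniteType q] (x : X) (y : Y)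
    (hxy : p x = q y)
    (hG : CAlg.IsGRing ↑(S.presheaf.stalk (p x)))
    (φ : ↑(Y.presheaf.stalk y) →+* (AdicCompletion (IsLocalRing.maximalIdeal ↑(X.presheaf.stalk x)) ↑(X.presheaf.stalk x)))
    (hφ : φ.comp ((q.stalkMap y).hom.comp (S.presheaf.stalkCongr (Inseparable.of_eq hxy)).hom.hom) =
      (algebraMap ↑(X.presheaf.stalk x) (AdicCompletion (IsLocalRing.maximalIdeal ↑(X.presheaf.stalk x)) ↑(X.presheaf.stalk x))).comp (p.stalkMap x).hom)
    (hloc : ∀ b ∈ IsLocalRing.maximalIdeal ↑(Y.presheaf.stalk y),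
      φ b ∈ (IsLocalRing.maximalIdeal ↑(X.presheaf.stalk x)).map (algebraMap ↑(X.presheaf.stalk x) (AdicCompletion (IsLocalRing.maximalIdeal ↑(X.presheaf.stalk x)) ↑(X.presheaf.stalk x))))
    (N : ℕ) (hN : 1 ≤ N) :
    ∃ (U : Scheme.{u}) (e : U ⟶ X) (u : U) (heu : e u = x) (f : U ⟶ Y) (hfu : f u = y),
      Etale e ∧ Function.Bijective (e.residueFieldMap u) ∧ f ≫ q = e ≫ p ∧
      ∀ (b : ↑(Y.presheaf.stalk y)) (c : ↑(X.presheaf.stalk x)),
        AdicCompletion.evalₐ (IsLocalRing.maximalIdeal ↑(X.presheaf.stalk x)) N (φ b) =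
          Ideal.Quotient.mk (IsLocalRing.maximalIdeal ↑(X.presheaf.stalk x) ^ N) c →
        Ideal.Quotient.mk (IsLocalRing.maximalIdeal ↑(U.presheaf.stalk u) ^ N)
            ((f.stalkMap u).hom ((Y.presheaf.stalkCongr (Inseparable.of_eq hfu)).inv.hom b)) =
          Ideal.Quotient.mk (IsLocalRing.maximalIdeal ↑(U.presheaf.stalk u) ^ N)
            ((e.stalkMap u).hom ((X.presheaf.stalkCongr (Inseparable.of_eq heu)).inv.hom c)) := by
  classical
  -- affine opens
  obtain ⟨W, hW, hsW⟩ : ∃ W : S.Opens, IsAffineOpen W ∧ p x ∈ W := by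
    obtain ⟨_, ⟨W, hW, rfl⟩, hs, -⟩ := S.isBasis_affineOpens.exists_subset_of_mem_open
      (Set.mem_univ (p x)) isOpen_univ
    exact ⟨W, hW, hs⟩
  obtain ⟨VX, hVX, hxV, iX⟩ : ∃ VX : X.Opens, IsAffineOpen VX ∧ x ∈ VX ∧ VX ≤ p ⁻¹ᵁ W := by
    obtain ⟨_, ⟨V, hV, rfl⟩, hs, hle⟩ := X.isBasis_affineOpens.exists_subset_of_mem_open
      (show x ∈ ((p ⁻¹ᵁ W : X.Opens) : Set X) from hsW) (p ⁻¹ᵁ W).isOpen
    exact ⟨V, hV, hs, hle⟩
  have hsW' : q y ∈ W := hxy ▸ hsW
  obtain ⟨VY, hVY, hyV, iY⟩ : ∃ VY : Y.Opens, IsAffineOpen VY ∧ y ∈ VY ∧ VY ≤ q ⁻¹ᵁ W := by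
    obtain ⟨_, ⟨V, hV, rfl⟩, hs, hle⟩ := Y.isBasis_affineOpens.exists_subset_of_mem_open
      (show y ∈ ((q ⁻¹ᵁ W : Y.Opens) : Set Y) from hsW') (q ⁻¹ᵁ W).isOpen
    exact ⟨V, hV, hs, hle⟩
  -- rings
  haveI : IsNoetherianRing Γ(S, W) := IsLocallyNoetherian.component_noetherian ⟨W, hW⟩
  letI algRCX : Algebra Γ(S, W) Γ(X, VX) := (p.appLE W VX iX).hom.toAlgebra
  letI algRCY : Algebra Γ(S, W) Γ(Y, VY) := (q.appLE W VY iY).hom.toAlgebra
  letI algCXA : Algebra Γ(X, VX) (X.presheaf.stalk x) :=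
    TopCat.Presheaf.algebra_section_stalk X.presheaf ⟨x, hxV⟩
  letI algRA : Algebra Γ(S, W) (X.presheaf.stalk x) :=
    ((algebraMap Γ(X, VX) (X.presheaf.stalk x)).comp (algebraMap Γ(S, W) Γ(X, VX))).toAlgebra
  haveI : IsScalarTower Γ(S, W) Γ(X, VX) (X.presheaf.stalk x) :=
    IsScalarTower.of_algebraMap_eq (fun _ => rfl)
  haveI : Algebra.FinitePresentation Γ(S, W) Γ(Y, VY) := by
    have h := HasRingHomProperty.appLE (P := @LocallyOfFiniteType) q inferInstance ⟨W, hW⟩
      ⟨VY, hVY⟩ iY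
    have h' : Algebra.FiniteType Γ(S, W) Γ(Y, VY) := h
    exact Algebra.FinitePresentation.of_finiteType.mp h'
  haveI := hVX.isLocalization_stalk ⟨x, hxV⟩
  -- G-ring
  have hGA : CAlg.IsGRing (X.presheaf.stalk x) := by
    algebraize [(p.stalkMap x).hom]
    have : Algebra.EssFiniteType (S.presheaf.stalk (p x)) (X.presheaf.stalk x) := by
      rw [← RingHom.essFiniteType_algebraMap, RingHom.algebraMap_toAlgebra]
      exact LocallyOfFiniteType.stalkMap p x
    exact isGRing_of_essFiniteType _ hG _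
  haveI : IsNoetherianRing (X.presheaf.stalk x) := hGA.1
  have hreg := Groth.Agent.S0600.result (X.presheaf.stalk x) hGA (maximalIdeal (X.presheaf.stalk x))
  -- Φ
  let Φ : Γ(Y, VY) →+* AdicCompletion (maximalIdeal (X.presheaf.stalk x)) (X.presheaf.stalk x) :=
    φ.comp (Y.presheaf.germ VY y hyV).hom
  have hΦ : ∀ r : Γ(S, W), Φ (algebraMap Γ(S, W) Γ(Y, VY) r) =
      algebraMap (X.presheaf.stalk x) (AdicCompletion (maximalIdeal (X.presheaf.stalk x))
        (X.presheaf.stalk x)) (algebraMap Γ(S, W) (X.presheaf.stalk x) r) := by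
    intro r
    change φ ((Y.presheaf.germ VY y hyV).hom ((q.appLE W VY iY).hom r)) =
      algebraMap _ _ ((X.presheaf.germ VX x hxV).hom ((p.appLE W VX iX).hom r))
    erw [germ_appLE' q iY hyV r, germ_appLE' p iX hxV r]
    have h := RingHom.congr_fun hφ ((S.presheaf.germ W (p x) hsW).hom r)
    simp only [RingHom.comp_apply] at h
    rw [← h]
    congr 2
    exact (congr($(TopCat.Presheaf.germ_stalkSpecializes S.presheaf hsW
      (Inseparable.of_eq hxy).ge) r)).symm
  obtain ⟨E, _, _, hEt, βE, ρE, hβR, hρα, hρβ⟩ := alg_core Γ(S, W) Γ(X, VX) Γ(Y, VY)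
    (X.presheaf.stalk x) (hVX.primeIdealOf ⟨x, hxV⟩).asIdeal hreg Φ hΦ N hN
  -- schemes
  let α : Γ(X, VX) ⟶ CommRingCat.of E := CommRingCat.ofHom (algebraMap Γ(X, VX) E)
  let β : Γ(Y, VY) ⟶ CommRingCat.of E := CommRingCat.ofHom βE
  have hEtale : Etale (Spec.map α ≫ hVX.fromSpec) :=
    etale_spec hVX α (RingHom.etale_algebraMap.mpr hEt)
  have iX' := top_le_preimage hVX (Spec.map α)
  have iY' := top_le_preimage hVY (Spec.map β)
  let ρ : Γ(Spec (CommRingCat.of E), ⊤) →+*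
      (X.presheaf.stalk x) ⧸ maximalIdeal (X.presheaf.stalk x) ^ N :=
    ρE.comp (Scheme.ΓSpecIso (CommRingCat.of E)).hom.hom
  let φN : Y.presheaf.stalk y →+*
      (X.presheaf.stalk x) ⧸ maximalIdeal (X.presheaf.stalk x) ^ N :=
    ((AdicCompletion.evalₐ (maximalIdeal (X.presheaf.stalk x)) N :
      AdicCompletion (maximalIdeal (X.presheaf.stalk x)) (X.presheaf.stalk x) →ₐ[X.presheaf.stalk x]
        (X.presheaf.stalk x) ⧸ maximalIdeal (X.presheaf.stalk x) ^ N) :
      AdicCompletion (maximalIdeal (X.presheaf.stalk x)) (X.presheaf.stalk x) →+*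
        (X.presheaf.stalk x) ⧸ maximalIdeal (X.presheaf.stalk x) ^ N).comp φ
  have hφN : ∀ b ∈ maximalIdeal (Y.presheaf.stalk y), ¬ IsUnit (φN b) := fun b hb =>
    not_isUnit_eval_of_mem N hN φ b (hloc b hb)
  have hinv : ∀ z : E, (Scheme.ΓSpecIso (CommRingCat.of E)).hom.hom
      ((Scheme.ΓSpecIso (CommRingCat.of E)).inv.hom z) = z := fun z =>
    congr($((Scheme.ΓSpecIso (CommRingCat.of E)).inv_hom_id) z)
  have h1 : ∀ c, ρ (((Spec.map α ≫ hVX.fromSpec).appLE VX ⊤ iX').hom c) =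
      Ideal.Quotient.mk _ ((X.presheaf.germ VX x hxV).hom c) := by
    intro c
    rw [appLE_spec hVX α iX']
    change ρE ((Scheme.ΓSpecIso (CommRingCat.of E)).hom.hom
      ((Scheme.ΓSpecIso (CommRingCat.of E)).inv.hom (algebraMap Γ(X, VX) E c))) = _
    rw [hinv]
    exact hρα c
  have h2 : ∀ c, ρ (((Spec.map β ≫ hVY.fromSpec).appLE VY ⊤ iY').hom c) =
      φN ((Y.presheaf.germ VY y hyV).hom c) := by
    intro c
    rw [appLE_spec hVY β iY']
    change ρE ((Scheme.ΓSpecIso (CommRingCat.of E)).hom.hom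
      ((Scheme.ΓSpecIso (CommRingCat.of E)).inv.hom (βE c))) = _
    rw [hinv]
    exact hρβ c
  obtain ⟨u, heu, hfu, hbij, hfin⟩ := scheme_core (Spec.map α ≫ hVX.fromSpec)
    (Spec.map β ≫ hVY.fromSpec) x y hVX hxV hVY hyV (isAffineOpen_top _) iX' iY' N hN ρ φN hφN h1 h2
  refine ⟨Spec (CommRingCat.of E), Spec.map α ≫ hVX.fromSpec, u, heu,
    Spec.map β ≫ hVY.fromSpec, hfu, hEtale, hbij, ?_, ?_⟩
  · refine comp_eq_of_appLE p q hW hVX iX hVY iY α β ?_
    ext r
    exact hβR r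
  · intro b c hbc
    exact hfin b c hbc

end Groth.Agent.Lib.Helper10.ArtinSch
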