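import Mathlib
import Groth.Agent.Lib.Helper10ArtinSchA

/-!
# Finite-type refinement controlling maps to the completion (helper10), for S7201

`ring_core`: for `C` of finite type over `R₀`, `O_T = C_{pt}`, `O_S = (R₀)_{ps}` Noetherian local and
`σ : O_T → Ô_S` an `O_S`-algebra map, there is a finite type `C`-algebra `C'` with `τ₀ : C' → Ô_S`
extending `σ` such that any `σ'` admitting such an extension agrees with `σ` modulo `m^N Ô_S`.
-/

set_option autoImplicit false
set_option linter.style.haveILetI false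
universe u

namespace Groth.Agent.Lib.Helper10.ArtinSchC

open IsLocalRing

theorem ker_evalₐ {R : Type u} [CommRing R] (K : Ideal R) (hK : K.FG) (k : ℕ) :
    RingHom.ker (AdicCompletion.evalₐ K k).toRingHom =
      (K.map (algebraMap R (AdicCompletion K R))) ^ k := by
  ext x
  trans x ∈ LinearMap.ker (AdicCompletion.eval K R k)
  · have eq : K ^ k * ⊤ = K ^ k := Ideal.mul_top _
    have hinj : Function.Injective (Ideal.Quotient.factor (le_of_eq eq)) := by
      rw [RingHom.injective_iff_ker_eq_bot, Ideal.Quotient.factor_ker]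
      exact Ideal.map_mk_eq_bot_of_le (le_of_eq eq.symm)
    rw [RingHom.mem_ker, LinearMap.mem_ker]
    change AdicCompletion.evalₐ K k x = 0 ↔ _
    rw [← AdicCompletion.factor_eval_eq_evalₐ K x (le_of_eq eq)]
    exact map_eq_zero_iff _ hinj
  · rw [← AdicCompletion.pow_smul_top_eq_ker_eval hK, ← Ideal.map_pow, Ideal.smul_top_eq_map,
      Submodule.restrictScalars_mem]

/-- An element of the completion differs from an element of the ring by an element of `m^N Â`. -/
theorem exists_sub_mem {R : Type u} [CommRing R] (K : Ideal R) (hK : K.FG) (N : ℕ)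
    (z : AdicCompletion K R) :
    ∃ a : R, z - algebraMap R (AdicCompletion K R) a ∈
      (K ^ N).map (algebraMap R (AdicCompletion K R)) := by
  obtain ⟨a, ha⟩ := Ideal.Quotient.mk_surjective (AdicCompletion.evalₐ K N z)
  refine ⟨a, ?_⟩
  rw [Ideal.map_pow, ← ker_evalₐ K hK N, RingHom.mem_ker]
  change AdicCompletion.evalₐ K N (z - algebraMap R (AdicCompletion K R) a) = 0
  rw [map_sub, AlgHom.commutes, ← ha, sub_eq_zero]
  rfl

set_option maxHeartbeats 1000000 in
theorem ring_core
    {R₀ C OS OT : Type u} [CommRing R₀] [CommRing C] [CommRing OS] [CommRing OT]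
    [Algebra R₀ C] [Algebra.FiniteType R₀ C]
    [Algebra R₀ OS] (ps : Ideal R₀) [ps.IsPrime] [IsLocalization.AtPrime OS ps]
    [IsLocalRing OS] [IsNoetherianRing OS]
    [Algebra C OT] (pt : Ideal C) [pt.IsPrime] [IsLocalization.AtPrime OT pt]
    (hsh : OS →+* OT)
    (hcompat : ∀ r : R₀, hsh (algebraMap R₀ OS r) = algebraMap C OT (algebraMap R₀ C r))
    (σ : OT →+* AdicCompletion (maximalIdeal OS) OS)
    (hσ : σ.comp hsh = algebraMap OS (AdicCompletion (maximalIdeal OS) OS))
    (N : ℕ) :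
    ∃ (C' : Type u) (_ : CommRing C') (_ : Algebra C C') (_ : Algebra.FiniteType C C')
      (τ₀ : C' →+* AdicCompletion (maximalIdeal OS) OS),
      (∀ c : C, τ₀ (algebraMap C C' c) = σ (algebraMap C OT c)) ∧
      ∀ (σ' : OT →+* AdicCompletion (maximalIdeal OS) OS),
        σ'.comp hsh = algebraMap OS (AdicCompletion (maximalIdeal OS) OS) →
        (∃ τ₀' : C' →+* AdicCompletion (maximalIdeal OS) OS,
          ∀ c : C, τ₀' (algebraMap C C' c) = σ' (algebraMap C OT c)) →
        ∀ a : OT, σ a - σ' a ∈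
          (maximalIdeal OS ^ N).map (algebraMap OS (AdicCompletion (maximalIdeal OS) OS)) := by
  classical
  -- notation
  set Ô := AdicCompletion (maximalIdeal OS) OS with hÔ
  set J : Ideal Ô := (maximalIdeal OS ^ N).map (algebraMap OS Ô) with hJ
  -- generators of C
  obtain ⟨s, hs⟩ := (inferInstance : Algebra.FiniteType R₀ C).out
  -- generators of m^N
  obtain ⟨s', hs'⟩ := (IsNoetherian.noetherian (maximalIdeal OS ^ N) : (maximalIdeal OS ^ N).FG)
  -- approximants
  have hK : (maximalIdeal OS).FG := IsNoetherian.noetherian _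
  have happ : ∀ c : C, ∃ a : OS, σ (algebraMap C OT c) - algebraMap OS Ô a ∈ J := fun c =>
    exists_sub_mem (maximalIdeal OS) hK N _
  choose a ha using happ
  -- coefficients
  have hJspan : J = Ideal.span (Set.range (fun k : s' => algebraMap OS Ô (k : OS))) := by
    rw [hJ, ← hs', Ideal.map_span]
    congr 1
    ext z
    simp
  have hcoef : ∀ c : C, ∃ b : s' → Ô,
      ∑ k, b k * algebraMap OS Ô (k : OS) = σ (algebraMap C OT c) - algebraMap OS Ô (a c) := by
    intro c
    have := ha c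
    rw [hJspan] at this
    exact (Ideal.mem_span_range_iff_exists_fun).mp this
  choose b hb using hcoef
  -- common denominator
  obtain ⟨d, hd⟩ := IsLocalization.exist_integer_multiples_of_finset ps.primeCompl
    (s.image a ∪ s')
  have hα : ∀ c ∈ s, ∃ r : R₀, algebraMap R₀ OS r = algebraMap R₀ OS (d : R₀) * a c := by
    intro c hc
    obtain ⟨r, hr⟩ := hd (a c) (Finset.mem_union_left _ (Finset.mem_image_of_mem a hc))
    exact ⟨r, by rw [hr, Algebra.smul_def]⟩
  have hν : ∀ k ∈ s', ∃ r : R₀, algebraMap R₀ OS r = algebraMap R₀ OS (d : R₀) * k := by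
    intro k hk
    obtain ⟨r, hr⟩ := hd k (Finset.mem_union_right _ hk)
    exact ⟨r, by rw [hr, Algebra.smul_def]⟩
  choose! α hα using hα
  choose! ν hν using hν
  have hdu : IsUnit (algebraMap R₀ OS (d : R₀)) := IsLocalization.map_units OS d
  have hduÔ : IsUnit (algebraMap OS Ô (algebraMap R₀ OS (d : R₀))) := hdu.map _
  -- the algebra C'
  let rel : s → MvPolynomial (s × s') C := fun c =>
    MvPolynomial.C (algebraMap R₀ C (d : R₀)) * MvPolynomial.C (c : C) -
      MvPolynomial.C (algebraMap R₀ C (α c)) -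
      ∑ k : s', MvPolynomial.C (algebraMap R₀ C (ν k)) * MvPolynomial.X (c, k)
  let I : Ideal (MvPolynomial (s × s') C) := Ideal.span (Set.range rel)
  -- key compatibility: σ-type maps on R₀
  have H0 : ∀ (σ' : OT →+* Ô), σ'.comp hsh = algebraMap OS Ô → ∀ r : R₀,
      σ' (algebraMap C OT (algebraMap R₀ C r)) = algebraMap OS Ô (algebraMap R₀ OS r) := by
    intro σ' hσ' r
    rw [← hcompat]
    exact RingHom.congr_fun hσ' _
  -- the map τ₀
  let ev : MvPolynomial (s × s') C →+* Ô :=
    MvPolynomial.eval₂Hom (σ.comp (algebraMap C OT)) (fun ck => b ck.1 ck.2)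
  have hev : ∀ c : s, ev (rel c) = 0 := by
    intro c
    simp only [rel, ev, map_sub, map_mul, map_sum, MvPolynomial.eval₂Hom_C,
      MvPolynomial.eval₂Hom_X', RingHom.comp_apply]
    rw [H0 σ hσ, H0 σ hσ]
    have h2 : ∀ k : s', σ (algebraMap C OT (algebraMap R₀ C (ν k))) =
        algebraMap OS Ô (algebraMap R₀ OS (d : R₀)) * algebraMap OS Ô (k : OS) := by
      intro k
      rw [H0 σ hσ, hν k k.2, map_mul]
    simp only [h2]
    rw [hα c c.2, map_mul]
    have h3 := hb (c : C)
    have h4 : ∑ k : s', algebraMap OS Ô (algebraMap R₀ OS (d : R₀)) * algebraMap OS Ô (k : OS) *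
        b (c : C) k = algebraMap OS Ô (algebraMap R₀ OS (d : R₀)) *
        (σ (algebraMap C OT (c : C)) - algebraMap OS Ô (a (c : C))) := by
      rw [← h3, Finset.mul_sum]
      apply Finset.sum_congr rfl
      intro k _
      ring
    rw [h4]
    ring
  have hI : ∀ z ∈ I, ev z = 0 := by
    intro z hz
    have : I ≤ RingHom.ker ev := by
      rw [Ideal.span_le]
      rintro _ ⟨c, rfl⟩
      exact hev c
    exact this hz
  let τ₀ : (MvPolynomial (s × s') C ⧸ I) →+* Ô := Ideal.Quotient.lift I ev hI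
  have hft : Algebra.FiniteType C (MvPolynomial (s × s') C ⧸ I) :=
    Algebra.FiniteType.of_surjective (Ideal.Quotient.mkₐ C I) Ideal.Quotient.mk_surjective
  refine ⟨MvPolynomial (s × s') C ⧸ I, inferInstance, inferInstance, hft, τ₀, ?_, ?_⟩
  · intro c
    change τ₀ (Ideal.Quotient.mk I (MvPolynomial.C c)) = _
    rw [Ideal.Quotient.lift_mk]
    simp [ev]
  · rintro σ' hσ' ⟨τ₀', hτ₀'⟩
    have claim : ∀ (σ'' : OT →+* Ô), σ''.comp hsh = algebraMap OS Ô →
        ∀ (τ'' : (MvPolynomial (s × s') C ⧸ I) →+* Ô),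
        (∀ c : C, τ'' (algebraMap C (MvPolynomial (s × s') C ⧸ I) c) =
          σ'' (algebraMap C OT c)) →
        ∀ c : s, σ'' (algebraMap C OT (c : C)) - algebraMap OS Ô (a (c : C)) ∈ J := by
      intro σ'' hσ'' τ'' hτ'' c
      have hrel : τ'' (Ideal.Quotient.mk I (rel c)) = 0 := by
        have hmem : rel c ∈ I := Ideal.subset_span ⟨c, rfl⟩
        rw [Ideal.Quotient.eq_zero_iff_mem.mpr hmem, map_zero]
      have hC : ∀ z : C, τ'' (Ideal.Quotient.mk I (MvPolynomial.C z)) =
          σ'' (algebraMap C OT z) := hτ''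
      simp only [rel, map_sub, map_mul, map_sum, hC] at hrel
      have h2 : ∀ k : s', σ'' (algebraMap C OT (algebraMap R₀ C (ν k))) =
          algebraMap OS Ô (algebraMap R₀ OS (d : R₀)) * algebraMap OS Ô (k : OS) := by
        intro k
        rw [H0 σ'' hσ'', hν k k.2, map_mul]
      simp only [h2] at hrel
      rw [H0 σ'' hσ'', H0 σ'' hσ'', hα c c.2, map_mul] at hrel
      have h5 : algebraMap OS Ô (algebraMap R₀ OS (d : R₀)) *
          (σ'' (algebraMap C OT (c : C)) - algebraMap OS Ô (a (c : C)) -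
            ∑ k : s', algebraMap OS Ô (k : OS) *
              τ'' (Ideal.Quotient.mk I (MvPolynomial.X (c, k)))) = 0 := by
        rw [← hrel, mul_sub, mul_sub, Finset.mul_sum]
        congr 1
        apply Finset.sum_congr rfl
        intro k _
        ring
      have h6 := (hduÔ.mul_right_eq_zero).mp h5
      rw [sub_eq_zero] at h6
      rw [h6]
      apply Ideal.sum_mem
      intro k _
      apply Ideal.mul_mem_right
      apply Ideal.mem_map_of_mem
      rw [← hs']
      exact Ideal.subset_span k.2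
    have hσc := claim σ hσ τ₀ (fun c => by
      change τ₀ (Ideal.Quotient.mk I (MvPolynomial.C c)) = _
      rw [Ideal.Quotient.lift_mk]
      simp [ev])
    have hσ'c := claim σ' hσ' τ₀' hτ₀'
    have hgen : ∀ c : C, σ (algebraMap C OT c) - σ' (algebraMap C OT c) ∈ J := by
      intro c
      have hc : c ∈ Algebra.adjoin R₀ (s : Set C) := by rw [hs]; trivial
      induction hc using Algebra.adjoin_induction with
      | mem x hx =>
        have := J.sub_mem (hσc ⟨x, hx⟩) (hσ'c ⟨x, hx⟩)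
        simpa using this
      | algebraMap r =>
        rw [H0 σ hσ, H0 σ' hσ', sub_self]
        exact J.zero_mem
      | add x y _ _ hx hy =>
        have := J.add_mem hx hy
        rw [map_add, map_add, map_add]
        convert this using 1
        ring
      | mul x y _ _ hx hy =>
        have h7 : σ (algebraMap C OT (x * y)) - σ' (algebraMap C OT (x * y)) =
            σ (algebraMap C OT x) * (σ (algebraMap C OT y) - σ' (algebraMap C OT y)) +
            (σ (algebraMap C OT x) - σ' (algebraMap C OT x)) * σ' (algebraMap C OT y) := by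
          rw [map_mul, map_mul, map_mul]
          ring
        rw [h7]
        exact J.add_mem (J.mul_mem_left _ hy) (J.mul_mem_right _ hx)
    intro z
    have : (Ideal.Quotient.mk J).comp σ = (Ideal.Quotient.mk J).comp σ' := by
      apply IsLocalization.ringHom_ext pt.primeCompl
      ext c
      simp only [RingHom.comp_apply]
      exact Ideal.Quotient.eq.mpr (hgen c)
    exact Ideal.Quotient.eq.mp (RingHom.congr_fun this z)

open AlgebraicGeometry CategoryTheory

/-- The point of an affine open determined by a ring map to a local ring. -/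
theorem exists_point {U X : Scheme.{u}} (e : U ⟶ X) (x : X)
    {VX : X.Opens} (hVX : IsAffineOpen VX) (hxV : x ∈ VX)
    {WU : U.Opens} (hWU : IsAffineOpen WU) (iX : WU ≤ e ⁻¹ᵁ VX)
    {K : Type u} [CommRing K] [IsLocalRing K] (ρ : Γ(U, WU) →+* K)
    (h : (maximalIdeal (X.presheaf.stalk x)).comap (X.presheaf.germ VX x hxV).hom =
      ((maximalIdeal K).comap ρ).comap (e.appLE VX WU iX).hom) :
    ∃ (u : U) (huW : u ∈ WU),
      (hWU.primeIdealOf ⟨u, huW⟩).asIdeal = (maximalIdeal K).comap ρ ∧ e u = x := by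
  let P : PrimeSpectrum Γ(U, WU) := ⟨(maximalIdeal K).comap ρ, inferInstance⟩
  have huW : hWU.fromSpec P ∈ WU := by
    have h := hWU.range_fromSpec
    have : hWU.fromSpec P ∈ Set.range hWU.fromSpec := ⟨P, rfl⟩
    rw [h] at this
    exact this
  have hP : hWU.primeIdealOf ⟨hWU.fromSpec P, huW⟩ = P := by
    apply hWU.fromSpec.isOpenEmbedding.injective
    rw [hWU.fromSpec_primeIdealOf]
  refine ⟨hWU.fromSpec P, huW, congrArg PrimeSpectrum.asIdeal hP, ?_⟩
  have h0 := IsAffineOpen.comap_primeIdealOf_appLE (f := e) VX hVX WU hWU iX huW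
  rw [hP] at h0
  have h' : hVX.primeIdealOf ⟨x, hxV⟩ = P.comap (e.appLE VX WU iX).hom := by
    rw [hVX.primeIdealOf_eq_map_closedPoint]
    apply PrimeSpectrum.ext
    exact h
  have h3 : hVX.primeIdealOf ⟨e (hWU.fromSpec P), iX huW⟩ = hVX.primeIdealOf ⟨x, hxV⟩ := by
    rw [h', ← h0]
  have h4 := congrArg hVX.fromSpec h3
  rw [hVX.fromSpec_primeIdealOf, hVX.fromSpec_primeIdealOf] at h4
  exact h4

/-- Extending a ring map from sections to the stalk. -/
theorem exists_stalk_lift {U : Scheme.{u}} {WU : U.Opens} (hWU : IsAffineOpen WU) (u : U)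
    (huW : u ∈ WU) {K : Type u} [CommRing K] [IsLocalRing K] (ρ : Γ(U, WU) →+* K)
    (hP : (hWU.primeIdealOf ⟨u, huW⟩).asIdeal = (maximalIdeal K).comap ρ) :
    ∃ ρu : U.presheaf.stalk u →+* K, ∀ g, ρu ((U.presheaf.germ WU u huW).hom g) = ρ g := by
  letI algO := TopCat.Presheaf.algebra_section_stalk U.presheaf ⟨u, huW⟩
  haveI locO := hWU.isLocalization_stalk ⟨u, huW⟩
  have hunits : ∀ g : (hWU.primeIdealOf ⟨u, huW⟩).asIdeal.primeCompl, IsUnit (ρ g) := by
    intro g
    by_contra hnu
    apply g.2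
    have hg : (g : Γ(U, WU)) ∈ (maximalIdeal K).comap ρ := (mem_maximalIdeal _).mpr hnu
    rw [← hP] at hg
    exact hg
  exact ⟨IsLocalization.lift (M := (hWU.primeIdealOf ⟨u, huW⟩).asIdeal.primeCompl) hunits,
    fun g => IsLocalization.lift_eq hunits g⟩

open Groth.Agent.Lib.Helper10.ArtinSch in
set_option maxHeartbeats 1600000 in
theorem main7201 {T S : Scheme.{u}} [IsNoetherian T] [IsNoetherian S]
    (h : T ⟶ S) [LocallyOfFiniteType h] [QuasiCompact h] (t : T)
    (σ : ↑(T.presheaf.stalk t) →+* (AdicCompletion (IsLocalRing.maximalIdeal ↑(S.presheaf.stalk (h t))) ↑(S.presheaf.stalk (h t))))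
    (hσ : σ.comp (h.stalkMap t).hom = algebraMap ↑(S.presheaf.stalk (h t)) (AdicCompletion (IsLocalRing.maximalIdeal ↑(S.presheaf.stalk (h t))) ↑(S.presheaf.stalk (h t))))
    (hloc : ∀ a ∈ IsLocalRing.maximalIdeal ↑(T.presheaf.stalk t),
      σ a ∈ (IsLocalRing.maximalIdeal ↑(S.presheaf.stalk (h t))).map (algebraMap ↑(S.presheaf.stalk (h t)) (AdicCompletion (IsLocalRing.maximalIdeal ↑(S.presheaf.stalk (h t))) ↑(S.presheaf.stalk (h t)))))
    (N : ℕ) (hN : 1 ≤ N) :
    ∃ (T' : Scheme.{u}) (g : T' ⟶ T) (t' : T') (hg : g t' = t) (τ : ↑(T'.presheaf.stalk t') →+* (AdicCompletion (IsLocalRing.maximalIdeal ↑(S.presheaf.stalk (h t))) ↑(S.presheaf.stalk (h t)))),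
      LocallyOfFiniteType g ∧ QuasiCompact g ∧
      τ.comp ((g.stalkMap t').hom.comp (T.presheaf.stalkCongr (Inseparable.of_eq hg)).inv.hom) = σ ∧
      ∀ (σ' : ↑(T.presheaf.stalk t) →+* (AdicCompletion (IsLocalRing.maximalIdeal ↑(S.presheaf.stalk (h t))) ↑(S.presheaf.stalk (h t)))),
        σ'.comp (h.stalkMap t).hom = algebraMap ↑(S.presheaf.stalk (h t)) (AdicCompletion (IsLocalRing.maximalIdeal ↑(S.presheaf.stalk (h t))) ↑(S.presheaf.stalk (h t))) →
        (∀ a ∈ IsLocalRing.maximalIdeal ↑(T.presheaf.stalk t),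
          σ' a ∈ (IsLocalRing.maximalIdeal ↑(S.presheaf.stalk (h t))).map (algebraMap ↑(S.presheaf.stalk (h t)) (AdicCompletion (IsLocalRing.maximalIdeal ↑(S.presheaf.stalk (h t))) ↑(S.presheaf.stalk (h t))))) →
        (∃ τ' : ↑(T'.presheaf.stalk t') →+* (AdicCompletion (IsLocalRing.maximalIdeal ↑(S.presheaf.stalk (h t))) ↑(S.presheaf.stalk (h t))),
          τ'.comp ((g.stalkMap t').hom.comp (T.presheaf.stalkCongr (Inseparable.of_eq hg)).inv.hom) = σ') →
        ∀ a : ↑(T.presheaf.stalk t), σ a - σ' a ∈ (IsLocalRing.maximalIdeal ↑(S.presheaf.stalk (h t)) ^ N).map (algebraMap ↑(S.presheaf.stalk (h t)) (AdicCompletion (IsLocalRing.maximalIdeal ↑(S.presheaf.stalk (h t))) ↑(S.presheaf.stalk (h t)))) := by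
  classical
  obtain ⟨W, hW, hsW⟩ : ∃ W : S.Opens, IsAffineOpen W ∧ h t ∈ W := by
    obtain ⟨_, ⟨W, hW, rfl⟩, hs, -⟩ := S.isBasis_affineOpens.exists_subset_of_mem_open
      (Set.mem_univ (h t)) isOpen_univ
    exact ⟨W, hW, hs⟩
  obtain ⟨V, hV, htV, iV⟩ : ∃ V : T.Opens, IsAffineOpen V ∧ t ∈ V ∧ V ≤ h ⁻¹ᵁ W := by
    obtain ⟨_, ⟨V, hV, rfl⟩, hs, hle⟩ := T.isBasis_affineOpens.exists_subset_of_mem_open
      (show t ∈ ((h ⁻¹ᵁ W : T.Opens) : Set T) from hsW) (h ⁻¹ᵁ W).isOpen
    exact ⟨V, hV, hs, hle⟩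
  letI algR₀C : Algebra Γ(S, W) Γ(T, V) := (h.appLE W V iV).hom.toAlgebra
  haveI : Algebra.FiniteType Γ(S, W) Γ(T, V) :=
    HasRingHomProperty.appLE (P := @LocallyOfFiniteType) h inferInstance ⟨W, hW⟩ ⟨V, hV⟩ iV
  letI algOS : Algebra Γ(S, W) (S.presheaf.stalk (h t)) :=
    TopCat.Presheaf.algebra_section_stalk S.presheaf ⟨h t, hsW⟩
  haveI locOS := hW.isLocalization_stalk ⟨h t, hsW⟩
  letI algOT : Algebra Γ(T, V) (T.presheaf.stalk t) :=
    TopCat.Presheaf.algebra_section_stalk T.presheaf ⟨t, htV⟩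
  haveI locOT := hV.isLocalization_stalk ⟨t, htV⟩
  have hcompat : ∀ r : Γ(S, W), (h.stalkMap t).hom (algebraMap Γ(S, W) (S.presheaf.stalk (h t)) r) =
      algebraMap Γ(T, V) (T.presheaf.stalk t) (algebraMap Γ(S, W) Γ(T, V) r) := fun r =>
    (germ_appLE' h iV htV r).symm
  obtain ⟨C', _, _, hft, τ₀, h1, h2⟩ := ring_core (R₀ := Γ(S, W)) (C := Γ(T, V))
    (OS := S.presheaf.stalk (h t)) (OT := T.presheaf.stalk t)
    (hW.primeIdealOf ⟨h t, hsW⟩).asIdeal (hV.primeIdealOf ⟨t, htV⟩).asIdeal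
    (h.stalkMap t).hom hcompat σ hσ N
  -- the scheme T'
  let α : Γ(T, V) ⟶ CommRingCat.of C' := CommRingCat.ofHom (algebraMap Γ(T, V) C')
  have iV' := top_le_preimage hV (Spec.map α)
  let ρ : Γ(Spec (CommRingCat.of C'), ⊤) →+*
      AdicCompletion (maximalIdeal (S.presheaf.stalk (h t))) (S.presheaf.stalk (h t)) :=
    τ₀.comp (Scheme.ΓSpecIso (CommRingCat.of C')).hom.hom
  have hinv : ∀ z : C', (Scheme.ΓSpecIso (CommRingCat.of C')).hom.hom
      ((Scheme.ΓSpecIso (CommRingCat.of C')).inv.hom z) = z := fun z =>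
    congr($((Scheme.ΓSpecIso (CommRingCat.of C')).inv_hom_id) z)
  have hρ : ∀ c, ρ (((Spec.map α ≫ hV.fromSpec).appLE V ⊤ iV').hom c) =
      σ ((T.presheaf.germ V t htV).hom c) := by
    intro c
    rw [appLE_spec hV α iV']
    change τ₀ ((Scheme.ΓSpecIso (CommRingCat.of C')).hom.hom
      ((Scheme.ΓSpecIso (CommRingCat.of C')).inv.hom (algebraMap Γ(T, V) C' c))) = _
    rw [hinv]
    exact h1 c
  -- σ is local
  have hσloc : (maximalIdeal (AdicCompletion (maximalIdeal (S.presheaf.stalk (h t)))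
      (S.presheaf.stalk (h t)))).comap σ = maximalIdeal (T.presheaf.stalk t) := by
    symm
    apply (maximalIdeal.isMaximal (T.presheaf.stalk t)).eq_of_le
    · exact Ideal.IsPrime.ne_top inferInstance
    · intro a ha
      have := hloc a ha
      rw [← AdicCompletion.maximalIdeal_eq_map] at this
      exact this
  have hcomap : (maximalIdeal (T.presheaf.stalk t)).comap (T.presheaf.germ V t htV).hom =
      ((maximalIdeal (AdicCompletion (maximalIdeal (S.presheaf.stalk (h t)))
        (S.presheaf.stalk (h t)))).comap ρ).comap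
        ((Spec.map α ≫ hV.fromSpec).appLE V ⊤ iV').hom := by
    rw [Ideal.comap_comap, ← hσloc, Ideal.comap_comap]
    congr 1
    refine RingHom.ext fun c => ?_
    simp only [RingHom.comp_apply]
    exact (hρ c).symm
  obtain ⟨t', ht'W, hP, hg⟩ := exists_point (Spec.map α ≫ hV.fromSpec) t hV htV
    (isAffineOpen_top _) iV' ρ hcomap
  obtain ⟨τ, hτ⟩ := exists_stalk_lift (isAffineOpen_top _) t' ht'W ρ hP
  have hgerm : ∀ c, ((Spec.map α ≫ hV.fromSpec).stalkMap t').hom
      ((T.presheaf.stalkCongr (Inseparable.of_eq hg)).inv.hom ((T.presheaf.germ V t htV).hom c)) =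
      ((Spec (CommRingCat.of C')).presheaf.germ ⊤ t' ht'W).hom
        (((Spec.map α ≫ hV.fromSpec).appLE V ⊤ iV').hom c) := fun c =>
    stalk_comp_germ (Spec.map α ≫ hV.fromSpec) iV' ht'W hg htV c
  haveI : IsNoetherianRing Γ(T, V) := IsLocallyNoetherian.component_noetherian ⟨V, hV⟩
  haveI : IsNoetherianRing C' := Algebra.FiniteType.isNoetherianRing Γ(T, V) C'
  haveI : IsNoetherianRing (CommRingCat.of C') := ‹IsNoetherianRing C'›
  have hlft : LocallyOfFiniteType (Spec.map α ≫ hV.fromSpec) := by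
    have : LocallyOfFiniteType (Spec.map α) :=
      (HasRingHomProperty.Spec_iff (P := @LocallyOfFiniteType)).mpr
        (RingHom.finiteType_algebraMap.mpr hft)
    infer_instance
  refine ⟨Spec (CommRingCat.of C'), Spec.map α ≫ hV.fromSpec, t', hg, τ, hlft, inferInstance,
    ?_, ?_⟩
  · apply IsLocalization.ringHom_ext (hV.primeIdealOf ⟨t, htV⟩).asIdeal.primeCompl
    refine RingHom.ext fun c => ?_
    change τ (((Spec.map α ≫ hV.fromSpec).stalkMap t').hom
      ((T.presheaf.stalkCongr (Inseparable.of_eq hg)).inv.hom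
        ((T.presheaf.germ V t htV).hom c))) = σ ((T.presheaf.germ V t htV).hom c)
    rw [hgerm, hτ, hρ]
  · rintro σ' hσ' - ⟨τ', hτ'⟩ a
    refine h2 σ' hσ' ⟨(τ'.comp ((Spec (CommRingCat.of C')).presheaf.germ ⊤ t' ht'W).hom).comp
      (Scheme.ΓSpecIso (CommRingCat.of C')).inv.hom, ?_⟩ a
    intro c
    have h3 := RingHom.congr_fun hτ' ((T.presheaf.germ V t htV).hom c)
    simp only [RingHom.comp_apply] at h3
    rw [hgerm, appLE_spec hV α iV'] at h3
    exact h3

end Groth.Agent.Lib.Helper10.ArtinSchC
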