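import Mathlib
import Groth.Prelude.Def_DRing4
import Groth.Agent.Lib.Helper10RHomCx
set_option backward.isDefEq.respectTransparency.types false

/-!
# The dual complex `Hom•(P, A[0])` termwise, and biduality for bounded complexes of finite
projective modules (helper10)
-/

set_option autoImplicit false
universe u
open CategoryTheory CategoryTheory.Limits HomologicalComplex CochainComplex
  CochainComplex.HomComplex

namespace Groth.Agent.Lib.Helper10.DualCx

variable {A : Type u} [CommRing A]

/-- `A[0]` as a cochain complex -/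
noncomputable abbrev S (A : Type u) [CommRing A] : DRing.Cx A :=
  (CochainComplex.singleFunctor (ModuleCat.{u} A) 0).obj (ModuleCat.of A A)

/-- cochains `K → A[0]` of degree `n` are linear forms on `K^p`, `p + n = 0` -/
noncomputable def tau (K : DRing.Cx A) {p n : ℤ} (h : p + n = 0) :
    Cochain K (S A) n ≃ₗ[A] (K.X p →ₗ[A] A) where
  toFun α := (Cochain.toSingleEquiv (X := ModuleCat.of A A) (K := K) h α).hom
  invFun f := (Cochain.toSingleEquiv (X := ModuleCat.of A A) (K := K) h).symm (ModuleCat.ofHom f)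
  left_inv α := by simp
  right_inv f := by simp
  map_add' α β := by simp
  map_smul' a α := by
    simp [Cochain.toSingleEquiv]

lemma tau_apply (K : DRing.Cx A) {p n : ℤ} (h : p + n = 0) (α : Cochain K (S A) n) :
    tau K h α = (Cochain.toSingleEquiv (X := ModuleCat.of A A) (K := K) h α).hom := rfl

lemma tau_symm_apply (K : DRing.Cx A) {p n : ℤ} (h : p + n = 0) (f : K.X p →ₗ[A] A) :
    (tau K h).symm f = Cochain.toSingleMk (X := ModuleCat.of A A) (ModuleCat.ofHom f) h := rfl

lemma tau_toSingleMk (K : DRing.Cx A) {p n : ℤ} (h : p + n = 0) (f : K.X p ⟶ ModuleCat.of A A) :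
    tau K h (Cochain.toSingleMk f h) = f.hom := by
  simp [tau_apply]

/-- the differential of the dual complex, through `tau` -/
lemma tau_δ (K : DRing.Cx A) {p n p' n' : ℤ} (h : p + n = 0) (h' : p' + n' = 0)
    (α : Cochain K (S A) n) :
    tau K h' (δ n n' α) = (n'.negOnePow : ℤˣ) • (tau K h α) ∘ₗ (K.d p' p).hom := by
  obtain ⟨f, rfl⟩ := Cochain.toSingleMk_surjective α p h
  rw [Cochain.δ_toSingleMk f h n' p' h', map_zsmul_unit, tau_toSingleMk, tau_toSingleMk]
  rfl

/-- the dual complex `Hom•(P, A[0])` -/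
noncomputable abbrev D (P : DRing.Cx A) : DRing.Cx A := DRing.homCx P (S A)

lemma finite_D_X (P : DRing.Cx A) (n : ℤ) [Module.Finite A (P.X (-n))]
    [Module.Projective A (P.X (-n))] : Module.Finite A ((D P).X n) :=
  Module.Finite.equiv (tau P (show -n + n = 0 by omega)).symm

lemma projective_D_X (P : DRing.Cx A) (n : ℤ) [Module.Finite A (P.X (-n))]
    [Module.Projective A (P.X (-n))] : Module.Projective A ((D P).X n) :=
  Module.Projective.of_equiv (tau P (show -n + n = 0 by omega)).symm

lemma isZero_D_X (P : DRing.Cx A) (n : ℤ) (h : IsZero (P.X (-n))) : IsZero ((D P).X n) := by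
  haveI : Subsingleton (P.X (-n)) := ModuleCat.subsingleton_of_isZero h
  haveI : Subsingleton (Cochain P (S A) n) :=
    (tau P (show -n + n = 0 by omega)).toEquiv.subsingleton
  exact @ModuleCat.isZero_of_subsingleton _ _ (ModuleCat.of A (Cochain P (S A) n)) ‹_›

lemma termwiseFiniteProjective_D (P : DRing.Cx A) (hP : DRing.TermwiseFiniteProjective P) :
    DRing.TermwiseFiniteProjective (D P) := fun n => by
  haveI := (hP (-n)).1
  haveI := (hP (-n)).2
  exact ⟨finite_D_X P n, projective_D_X P n⟩

lemma vanishesOutside_D (P : DRing.Cx A) (a b : ℤ) (hP : DRing.VanishesOutside P a b) :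
    DRing.VanishesOutside (D P) (-b) (-a) := fun n hn =>
  isZero_D_X P n (hP (-n) (by omega))

/-- the linear form "evaluate at `x`" on `(D P)^{-j}` -/
noncomputable def evForm (P : DRing.Cx A) (j : ℤ) (x : P.X j) : (D P).X (-j) →ₗ[A] A :=
  (LinearMap.applyₗ x) ∘ₗ (tau P (show j + -j = 0 by omega)).toLinearMap

lemma evForm_apply (P : DRing.Cx A) (j : ℤ) (x : P.X j) (φ : Cochain P (S A) (-j)) :
    evForm P j x φ = tau P (show j + -j = 0 by omega) φ x := rfl

/-- component of the biduality map (unsigned) -/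
noncomputable def bdLin₀ (P : DRing.Cx A) (j : ℤ) : P.X j →ₗ[A] Cochain (D P) (S A) j where
  toFun x := (tau (D P) (show -j + j = 0 by omega)).symm (evForm P j x)
  map_add' x y := by
    rw [← map_add]; congr 1
    ext φ; simp [evForm_apply]
  map_smul' a x := by
    rw [← map_smul]; congr 1
    ext φ; simp [evForm_apply]

lemma bdLin₀_bijective (P : DRing.Cx A) (j : ℤ) [Module.Finite A (P.X j)]
    [Module.Projective A (P.X j)] : Function.Bijective (bdLin₀ P j) := by
  have h1 : ∀ x : P.X j, bdLin₀ P j x =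
      (tau (D P) (show -j + j = 0 by omega)).symm
        ((tau P (show j + -j = 0 by omega)).dualMap (Module.evalEquiv A (P.X j) x)) := by
    intro x
    rfl
  have h2 : (bdLin₀ P j : P.X j → _) =
      (tau (D P) (show -j + j = 0 by omega)).symm ∘
        (tau P (show j + -j = 0 by omega)).dualMap ∘ (Module.evalEquiv A (P.X j)) := by
    funext x; exact h1 x
  rw [h2]
  exact (LinearEquiv.bijective _).comp ((LinearEquiv.bijective _).comp (LinearEquiv.bijective _))

lemma tau_bdLin₀ (P : DRing.Cx A) (j : ℤ) (x : P.X j) :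
    tau (D P) (show -j + j = 0 by omega) (bdLin₀ P j x) = evForm P j x :=
  LinearEquiv.apply_symm_apply _ _

lemma evForm_δ (P : DRing.Cx A) (j : ℤ) (x : P.X j) (φ : Cochain P (S A) (-(j + 1))) :
    evForm P j x (δ (-(j + 1)) (-j) φ) =
      ((-j).negOnePow : ℤˣ) • evForm P (j + 1) ((P.d j (j + 1)).hom x) φ := by
  rw [evForm_apply, tau_δ P (show (j + 1) + -(j + 1) = 0 by omega) (show j + -j = 0 by omega)]
  rfl

/-- the biduality chain map `P ⟶ Hom•(Hom•(P, A[0]), A[0])` -/
noncomputable def bd (P : DRing.Cx A) : P ⟶ D (D P) where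
  f j := ModuleCat.ofHom ((j.negOnePow : ℤˣ) • bdLin₀ P j)
  comm' j k hjk := by
    obtain rfl : j + 1 = k := hjk
    ext x
    apply (tau (D P) (show -(j + 1) + (j + 1) = 0 by omega)).injective
    change tau (D P) _ (δ j (j + 1) ((j.negOnePow : ℤˣ) • bdLin₀ P j x)) =
      tau (D P) _ (((j + 1).negOnePow : ℤˣ) • bdLin₀ P (j + 1) ((P.d j (j + 1)).hom x))
    rw [tau_δ (D P) (show -j + j = 0 by omega)]
    ext φ
    have e1 : tau (D P) (show -j + j = 0 by omega) ((j.negOnePow : ℤˣ) • bdLin₀ P j x) =
        (j.negOnePow : ℤˣ) • evForm P j x := by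
      rw [map_zsmul_unit, tau_bdLin₀]
    have e2 : tau (D P) (show -(j + 1) + (j + 1) = 0 by omega)
        (((j + 1).negOnePow : ℤˣ) • bdLin₀ P (j + 1) ((P.d j (j + 1)).hom x)) =
        ((j + 1).negOnePow : ℤˣ) • evForm P (j + 1) ((P.d j (j + 1)).hom x) := by
      rw [map_zsmul_unit, tau_bdLin₀]
    rw [e1, e2]
    change ((j + 1).negOnePow : ℤˣ) • ((j.negOnePow : ℤˣ) • evForm P j x (δ (-(j + 1)) (-j) φ)) =
      ((j + 1).negOnePow : ℤˣ) • evForm P (j + 1) ((P.d j (j + 1)).hom x) φ
    rw [evForm_δ, smul_smul, smul_smul, ← Int.negOnePow_add, ← Int.negOnePow_add]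
    congr 1
    rw [show j + 1 + j + -j = j + 1 by omega]

lemma bd_f_bijective (P : DRing.Cx A) (j : ℤ) [Module.Finite A (P.X j)]
    [Module.Projective A (P.X j)] : Function.Bijective ((bd P).f j).hom := by
  change Function.Bijective ((j.negOnePow : ℤˣ) • bdLin₀ P j)
  have : ((j.negOnePow : ℤˣ) • bdLin₀ P j : P.X j → _) =
      (fun y => (j.negOnePow : ℤˣ) • y) ∘ (bdLin₀ P j) := by
    funext x; rfl
  rw [this]
  exact (MulAction.bijective (j.negOnePow : ℤˣ)).comp (bdLin₀_bijective P j)

lemma isIso_bd (P : DRing.Cx A) (hP : DRing.TermwiseFiniteProjective P) : IsIso (bd P) := by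
  haveI : ∀ j, IsIso ((bd P).f j) := fun j => by
    haveI := (hP j).1
    haveI := (hP j).2
    exact (ConcreteCategory.isIso_iff_bijective _).2 (bd_f_bijective P j)
  exact HomologicalComplex.Hom.isIso_of_components _

attribute [local instance] HasDerivedCategory.standard

open DerivedCategory in
/-- a bounded above complex of projective modules is K-projective -/
lemma isKProjective_of_vanishesOutside (P : DRing.Cx A) (a b : ℤ)
    (hP : DRing.VanishesOutside P a b) (hproj : ∀ i, Module.Projective A (P.X i)) :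
    P.IsKProjective := by
  haveI : P.IsStrictlyLE b := by
    rw [CochainComplex.isStrictlyLE_iff]
    intro i hi
    exact hP i (Or.inr hi)
  haveI : ∀ n, Projective (P.X n) := fun n => by
    have := hproj n
    exact (IsProjective.iff_projective (R := A) (P := P.X n)).1 this
  exact CochainComplex.isKProjective_of_projective P b

open DerivedCategory in
/-- `RHom(E, A) ≅ Hom•(P, A[0])` in `D(A)` when `P` is a bounded complex of projectives
isomorphic to `E` in `D(A)` -/
theorem nonempty_RHomCx_iso (P : DRing.Cx A) (a b : ℤ)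
    (hP : DRing.VanishesOutside P a b) (hproj : ∀ i, Module.Projective A (P.X i))
    (E : DRing.Cx A) [DRing.HasRHomCx E] (e : DRing.toD P ≅ DRing.toD E) :
    Nonempty ((DRing.RHomCx E).obj (Dual.inD A A) ≅ DRing.toD (D P)) := by
  haveI : P.IsKProjective := isKProjective_of_vanishesOutside P a b hP hproj
  obtain ⟨f, hf⟩ := Groth.Agent.Lib.Helper1.DT.Q_map_surjective P E e.hom
  haveI : IsIso (Q.map f) := by rw [hf]; infer_instance
  haveI : QuasiIso f := (DerivedCategory.isIso_Q_map_iff_quasiIso _ _).1 inferInstance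
  exact ⟨Groth.Agent.Lib.Helper10.RHomCx.RHomCxObjIso f (S A)⟩

end Groth.Agent.Lib.Helper10.DualCx
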