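import Mathlib
import Groth.Prelude.Def_DRing4
import Groth.Agent.Lib.Helper10TensHom
import Groth.Agent.Lib.Helper10DualCx
set_option backward.isDefEq.respectTransparency.types false

/-!
# `Z ⊗ Hom•(X, A[0]) ≅ Hom•(X, Z)` for a bounded complex `X` of finite projective modules
(helper10)

* `tensorDesc`: a chain map out of a tensor product of complexes from bilinear data satisfying the
  Leibniz rule;
* `τ X Z : Z ⊗ D X ⟶ Hom•(X, Z)`, `z ⊗ φ ↦ φ ≫ ẑ`;
* `isIso_τ`: it is an isomorphism when `X` is a bounded complex of finite projective modules.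
-/

set_option autoImplicit false
universe u
open CategoryTheory CategoryTheory.Limits MonoidalCategory HomologicalComplex CochainComplex
  CochainComplex.HomComplex

namespace Groth.Agent.Lib.Helper10.AutEqA
open Groth.Agent.Lib.Helper1.KF Groth.Agent.Lib.Helper10.TensHom Groth.Agent.Lib.Helper10.DualCx

variable {A : Type u} [CommRing A]

section Desc

variable {W₁ W₂ T : Cx A}

/-- the degree `n` part of `tensorDesc` -/
noncomputable def tensorDescF
    (b : ∀ p q n : ℤ, p + q = n → (W₁.X p →ₗ[A] W₂.X q →ₗ[A] T.X n)) (n : ℤ) :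
    (W₁ ⊗ W₂).X n ⟶ T.X n :=
  HomologicalComplex.mapBifunctorDesc (K₁ := W₁) (K₂ := W₂) (F := curriedTensor (ModuleCat.{u} A))
    (c := ComplexShape.up ℤ)
    (fun p q h => (ModuleCat.ofHom (TensorProduct.lift (b p q n h)) :
      (W₁.X p ⊗ W₂.X q : ModuleCat.{u} A) ⟶ T.X n))

@[reassoc]
lemma ι_tensorDescF (b : ∀ p q n : ℤ, p + q = n → (W₁.X p →ₗ[A] W₂.X q →ₗ[A] T.X n))
    (p q n : ℤ) (h : p + q = n) :
    ιTensorObj W₁ W₂ p q n h ≫ tensorDescF b n =
      (ModuleCat.ofHom (TensorProduct.lift (b p q n h)) :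
        (W₁.X p ⊗ W₂.X q : ModuleCat.{u} A) ⟶ T.X n) :=
  HomologicalComplex.ι_mapBifunctorDesc _ _ _ _

/-- a chain map out of a tensor product of complexes from bilinear data satisfying the Leibniz
rule -/
noncomputable def tensorDesc
    (b : ∀ p q n : ℤ, p + q = n → (W₁.X p →ₗ[A] W₂.X q →ₗ[A] T.X n))
    (hb : ∀ (p q n : ℤ) (h : p + q = n) (w₁ : W₁.X p) (w₂ : W₂.X q),
      (T.d n (n + 1)).hom (b p q n h w₁ w₂) =
        b (p + 1) q (n + 1) (by omega) ((W₁.d p (p + 1)).hom w₁) w₂ +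
          p.negOnePow • b p (q + 1) (n + 1) (by omega) w₁ ((W₂.d q (q + 1)).hom w₂)) :
    W₁ ⊗ W₂ ⟶ T where
  f n := tensorDescF b n
  comm' n n' hnn' := by
    have hnn : n + 1 = n' := hnn'
    subst hnn
    apply tensor_hom_ext
    intro p q hpq
    rw [ι_tensorDescF_assoc, ← Category.assoc,
      ι_tensor_d W₁ W₂ p q n hpq (p + 1) (q + 1) (n + 1) rfl rfl rfl]
    simp only [Preadditive.add_comp, Category.assoc, Linear.units_smul_comp, ι_tensorDescF]
    apply ModuleCat.MonoidalCategory.tensor_ext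
    intro w x
    have e1 : (W₁.d p (p + 1) ▷ W₂.X q).hom (w ⊗ₜ[A] x) = ((W₁.d p (p + 1)).hom w) ⊗ₜ[A] x :=
      ModuleCat.MonoidalCategory.whiskerRight_apply _ _ w x
    have e2 : (W₁.X p ◁ W₂.d q (q + 1)).hom (w ⊗ₜ[A] x) = w ⊗ₜ[A] ((W₂.d q (q + 1)).hom x) :=
      ModuleCat.MonoidalCategory.whiskerLeft_apply _ _ w x
    simp only [ModuleCat.hom_comp, ModuleCat.hom_add, LinearMap.comp_apply, LinearMap.add_apply,
      ModuleCat.hom_ofHom]
    rw [TensorProduct.lift.tmul, hb p q n hpq w x, e1, TensorProduct.lift.tmul, hom_units_smul,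
      ModuleCat.hom_comp, LinearMap.comp_apply, e2, ModuleCat.hom_ofHom, TensorProduct.lift.tmul]

lemma tensorDesc_f_ι_tmul
    (b : ∀ p q n : ℤ, p + q = n → (W₁.X p →ₗ[A] W₂.X q →ₗ[A] T.X n))
    (hb : ∀ (p q n : ℤ) (h : p + q = n) (w₁ : W₁.X p) (w₂ : W₂.X q),
      (T.d n (n + 1)).hom (b p q n h w₁ w₂) =
        b (p + 1) q (n + 1) (by omega) ((W₁.d p (p + 1)).hom w₁) w₂ +
          p.negOnePow • b p (q + 1) (n + 1) (by omega) w₁ ((W₂.d q (q + 1)).hom w₂))
    (p q n : ℤ) (h : p + q = n) :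
    ιTensorObj W₁ W₂ p q n h ≫ (tensorDesc b hb).f n =
      (ModuleCat.ofHom (TensorProduct.lift (b p q n h)) :
        (W₁.X p ⊗ W₂.X q : ModuleCat.{u} A) ⟶ T.X n) :=
  ι_tensorDescF b p q n h

end Desc

section Tau

variable (X Z : Cx A)

/-- an element as a morphism from `A` -/
noncomputable def elem {M : ModuleCat.{u} A} (z : M) : ModuleCat.of A A ⟶ M :=
  ModuleCat.ofHom (LinearMap.toSpanSingleton A M z)

lemma elem_apply {M : ModuleCat.{u} A} (z : M) (a : A) : (elem z).hom a = a • z := rfl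

lemma elem_comp {M N : ModuleCat.{u} A} (z : M) (f : M ⟶ N) : elem z ≫ f = elem (f.hom z) := by
  ext
  simp [elem]

lemma elem_add {M : ModuleCat.{u} A} (z z' : M) : elem (z + z') = elem z + elem z' := by
  ext
  simp [elem]

lemma elem_smul {M : ModuleCat.{u} A} (a : A) (z : M) : elem (a • z) = a • elem z := by
  ext
  simp [elem]

omit X in
lemma fromSingleMk_smul {q n : ℤ} (h : (0 : ℤ) + n = q) (a : A)
    (f : ModuleCat.of A A ⟶ Z.X q) :
    (Cochain.fromSingleMk (p := 0) (a • f) h : Cochain (S A) Z n) =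
      a • Cochain.fromSingleMk (p := 0) f h := by
  ext p' q' hpq'
  by_cases hp : p' = 0
  · subst hp
    obtain rfl : q' = q := by omega
    rw [Cochain.smul_v, Cochain.fromSingleMk_v, Cochain.fromSingleMk_v, Linear.comp_smul]
    rfl
  · rw [Cochain.smul_v, Cochain.fromSingleMk_v_eq_zero _ _ _ _ _ hp,
      Cochain.fromSingleMk_v_eq_zero _ _ _ _ _ hp, smul_zero]

/-- an element of `Z^p` as a cochain `A[0] → Z` of degree `p` -/
noncomputable def hat (p : ℤ) : Z.X p →ₗ[A] Cochain (S A) Z p where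
  toFun z := Cochain.fromSingleMk (p := 0) (q := p) (elem z) (zero_add p)
  map_add' z z' := by
    rw [elem_add, Cochain.fromSingleMk_add]
  map_smul' a z := by
    rw [elem_smul, fromSingleMk_smul]
    rfl

lemma hat_apply (p : ℤ) (z : Z.X p) :
    hat Z p z = Cochain.fromSingleMk (p := 0) (q := p) (elem z) (zero_add p) := rfl

lemma δ_hat (p : ℤ) (z : Z.X p) :
    δ p (p + 1) (hat Z p z) = hat Z (p + 1) ((Z.d p (p + 1)).hom z) := by
  rw [hat_apply, hat_apply,
    Cochain.δ_fromSingleMk (elem z) (zero_add p) (p + 1) (p + 1) (zero_add _), elem_comp]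

/-- the pairing `(z, φ) ↦ φ ≫ ẑ` -/
noncomputable def pair (p q n : ℤ) (h : p + q = n) :
    Z.X p →ₗ[A] (D X).X q →ₗ[A] (DRing.homCx X Z).X n :=
  LinearMap.mk₂ A (fun (z : Z.X p) (φ : Cochain X (S A) q) =>
      (φ.comp (hat Z p z) (by omega) : Cochain X Z n))
    (fun z z' φ => by
      rw [map_add]
      exact Cochain.comp_add (φ : Cochain X (S A) q) _ _ _)
    (fun a z φ => by
      rw [map_smul]
      exact Cochain.comp_smul (φ : Cochain X (S A) q) a _ _)
    (fun z φ φ' => Cochain.add_comp (φ : Cochain X (S A) q) (φ' : Cochain X (S A) q) _ _)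
    (fun a z φ => Cochain.smul_comp a (φ : Cochain X (S A) q) _ _)

lemma pair_apply (p q n : ℤ) (h : p + q = n) (z : Z.X p) (φ : Cochain X (S A) q) :
    pair X Z p q n h z φ = (φ.comp (hat Z p z) (by omega) : Cochain X Z n) := rfl

lemma pair_leibniz (p q n : ℤ) (h : p + q = n) (z : Z.X p) (φ : (D X).X q) :
    ((DRing.homCx X Z).d n (n + 1)).hom (pair X Z p q n h z φ) =
      pair X Z (p + 1) q (n + 1) (by omega) ((Z.d p (p + 1)).hom z) φ +
        p.negOnePow • pair X Z p (q + 1) (n + 1) (by omega) z (((D X).d q (q + 1)).hom φ) := by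
  change δ n (n + 1) ((φ : Cochain X (S A) q).comp (hat Z p z) (by omega)) =
    (φ : Cochain X (S A) q).comp (hat Z (p + 1) ((Z.d p (p + 1)).hom z)) (by omega) +
      p.negOnePow • (δ q (q + 1) (φ : Cochain X (S A) q)).comp (hat Z p z) (by omega)
  rw [δ_comp (φ : Cochain X (S A) q) (hat Z p z) (by omega : q + p = n) (q + 1) (p + 1) (n + 1)
    rfl rfl rfl, δ_hat]
  rfl

/-- the canonical map `Z ⊗ Hom•(X, A[0]) ⟶ Hom•(X, Z)` -/
noncomputable def τ : Z ⊗ D X ⟶ DRing.homCx X Z :=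
  tensorDesc (pair X Z) (pair_leibniz X Z)

lemma ι_τ (p q n : ℤ) (h : p + q = n) :
    ιTensorObj Z (D X) p q n h ≫ (τ X Z).f n =
      (ModuleCat.ofHom (TensorProduct.lift (pair X Z p q n h)) :
        (Z.X p ⊗ (D X).X q : ModuleCat.{u} A) ⟶ (DRing.homCx X Z).X n) :=
  tensorDesc_f_ι_tmul _ _ p q n h

/-- the only possibly nonzero component of `pair z φ` -/
lemma pair_v_self (k n : ℤ) (z : Z.X (k + n)) (φ : Cochain X (S A) (-k)) :
    (pair X Z (k + n) (-k) n (by omega) z φ : Cochain X Z n).v k (k + n) rfl =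
      ModuleCat.ofHom ((LinearMap.toSpanSingleton A (Z.X (k + n)) z) ∘ₗ
        (tau X (show k + -k = 0 by omega) φ)) := by
  rw [pair_apply, Cochain.comp_v φ (hat Z (k + n) z) (by omega : -k + (k + n) = n) k 0 (k + n)
    (by omega) (by omega), hat_apply, Cochain.fromSingleMk_v]
  rfl

lemma pair_v_ne (k k' n l' : ℤ) (hl' : k' + n = l') (hk : k' ≠ k) (z : Z.X (k + n))
    (φ : Cochain X (S A) (-k)) :
    (pair X Z (k + n) (-k) n (by omega) z φ : Cochain X Z n).v k' l' hl' = 0 := by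
  rw [pair_apply, Cochain.comp_v φ (hat Z (k + n) z) (by omega : -k + (k + n) = n) k' (k' + -k) l'
    rfl (by omega), hat_apply,
    Cochain.fromSingleMk_v_eq_zero _ _ _ _ _ (by omega : k' + -k ≠ 0), comp_zero]

end Tau

section Inverse

open TensorProduct

variable (X Z : Cx A)

/-- `Hom(X^k, Z^{k+n}) ≃ Z^{k+n} ⊗ (D X)^{-k}` -/
noncomputable def θ (k n : ℤ) [Module.Finite A (X.X k)] [Module.Projective A (X.X k)] :
    (X.X k →ₗ[A] Z.X (k + n)) ≃ₗ[A] ((Z.X (k + n) : Type u) ⊗[A] ((D X).X (-k) : Type u)) :=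
  (dualTensorHomEquiv A (X.X k) (Z.X (k + n))).symm ≪≫ₗ TensorProduct.comm A _ _ ≪≫ₗ
    TensorProduct.congr (LinearEquiv.refl A _) (tau X (show k + -k = 0 by omega)).symm

lemma vLin_lift_pair (k n : ℤ) [Module.Finite A (X.X k)] [Module.Projective A (X.X k)] :
    (vLin X Z n k (k + n) rfl) ∘ₗ (TensorProduct.lift (pair X Z (k + n) (-k) n (by omega))) =
      (θ X Z k n).symm.toLinearMap := by
  apply TensorProduct.ext'
  intro z φ
  rw [LinearMap.comp_apply, TensorProduct.lift.tmul]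
  change ((pair X Z (k + n) (-k) n (by omega) z φ : Cochain X Z n).v k (k + n) rfl).hom = _
  rw [pair_v_self]
  apply LinearMap.ext
  intro x
  simp [θ]
  rfl

lemma vLin_lift_pair_ne (k k' n : ℤ) (hk : k' ≠ k) :
    (vLin X Z n k' (k' + n) rfl) ∘ₗ (TensorProduct.lift (pair X Z (k + n) (-k) n (by omega))) =
      0 := by
  apply TensorProduct.ext'
  intro z φ
  rw [LinearMap.comp_apply, TensorProduct.lift.tmul]
  change ((pair X Z (k + n) (-k) n (by omega) z φ : Cochain X Z n).v k' (k' + n) rfl).hom = _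
  rw [pair_v_ne X Z k k' n (k' + n) rfl hk]
  rfl

/-- `lift (pair)` as a morphism of modules -/
noncomputable def LP (k n : ℤ) :
    (Z.X (k + n) ⊗ (D X).X (-k) : ModuleCat.{u} A) ⟶ (DRing.homCx X Z).X n :=
  ModuleCat.ofHom (TensorProduct.lift (pair X Z (k + n) (-k) n (by omega)))

@[reassoc]
lemma ι_τ' (k n : ℤ) :
    ιTensorObj Z (D X) (k + n) (-k) n (by omega) ≫ (τ X Z).f n = LP X Z k n :=
  ι_τ X Z (k + n) (-k) n (by omega)

/-- the component `k ↦ k + n` of a cochain, as a morphism of modules -/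
noncomputable def V (k n : ℤ) :
    (DRing.homCx X Z).X n ⟶ ModuleCat.of A (X.X k →ₗ[A] Z.X (k + n)) :=
  ModuleCat.ofHom (vLin X Z n k (k + n) rfl)

/-- `θ` as an isomorphism of modules -/
noncomputable def Θ (k n : ℤ) [Module.Finite A (X.X k)] [Module.Projective A (X.X k)] :
    ModuleCat.of A (X.X k →ₗ[A] Z.X (k + n)) ≅ (Z.X (k + n) ⊗ (D X).X (-k) : ModuleCat.{u} A) :=
  (θ X Z k n).toModuleIso

lemma LP_V_self (k n : ℤ) [Module.Finite A (X.X k)] [Module.Projective A (X.X k)] :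
    LP X Z k n ≫ V X Z k n = (Θ X Z k n).inv := by
  apply ModuleCat.hom_ext
  exact vLin_lift_pair X Z k n

lemma LP_V_ne (k k' n : ℤ) (hk : k' ≠ k) : LP X Z k n ≫ V X Z k' n = 0 := by
  apply ModuleCat.hom_ext
  exact vLin_lift_pair_ne X Z k k' n hk

lemma V_eq_zero (k n : ℤ) (h : IsZero (X.X k)) : V X Z k n = 0 := by
  haveI : Subsingleton (X.X k) := ModuleCat.subsingleton_of_isZero h
  apply ModuleCat.hom_ext
  apply LinearMap.ext
  intro c
  apply LinearMap.ext
  intro x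
  rw [Subsingleton.elim x 0]
  simp

lemma hom_ext_V {M : ModuleCat.{u} A} {n : ℤ} {f g : M ⟶ (DRing.homCx X Z).X n}
    (h : ∀ k : ℤ, f ≫ V X Z k n = g ≫ V X Z k n) : f = g := by
  apply ModuleCat.hom_ext
  apply LinearMap.ext
  intro m
  refine Cochain.ext (f.hom m : Cochain X Z n) (g.hom m : Cochain X Z n) (fun p q hpq => ?_)
  obtain rfl : q = p + n := by omega
  have h1 := congrArg (fun φ => φ.hom m) (h p)
  apply ModuleCat.hom_ext
  exact h1

variable {X} in
/-- the `k`-th summand of the inverse of `τ` -/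
noncomputable def σk (hfp : DRing.TermwiseFiniteProjective X) (k n : ℤ) :
    (DRing.homCx X Z).X n ⟶ (Z ⊗ D X).X n :=
  haveI := (hfp k).1
  haveI := (hfp k).2
  V X Z k n ≫ (Θ X Z k n).hom ≫ ιTensorObj Z (D X) (k + n) (-k) n (by omega)

variable {X} in
lemma σk_eq (hfp : DRing.TermwiseFiniteProjective X) (k n : ℤ)
    [Module.Finite A (X.X k)] [Module.Projective A (X.X k)] :
    σk Z hfp k n =
      V X Z k n ≫ (Θ X Z k n).hom ≫ ιTensorObj Z (D X) (k + n) (-k) n (by omega) := rfl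

variable {X} in
lemma ι_τ_σk_self (hfp : DRing.TermwiseFiniteProjective X) (k n : ℤ) :
    ιTensorObj Z (D X) (k + n) (-k) n (by omega) ≫ (τ X Z).f n ≫ σk Z hfp k n =
      ιTensorObj Z (D X) (k + n) (-k) n (by omega) := by
  haveI := (hfp k).1
  haveI := (hfp k).2
  rw [← Category.assoc, ι_τ', σk_eq, ← Category.assoc, LP_V_self, Iso.inv_hom_id_assoc]

variable {X} in
lemma ι_τ_σk_ne (hfp : DRing.TermwiseFiniteProjective X) (k k' n : ℤ) (hk : k' ≠ k) :
    ιTensorObj Z (D X) (k + n) (-k) n (by omega) ≫ (τ X Z).f n ≫ σk Z hfp k' n = 0 := by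
  haveI := (hfp k').1
  haveI := (hfp k').2
  rw [← Category.assoc, ι_τ', σk_eq, ← Category.assoc, LP_V_ne X Z k k' n hk, zero_comp]

variable {X} in
lemma σk_τ_V_self (hfp : DRing.TermwiseFiniteProjective X) (k n : ℤ) :
    (σk Z hfp k n ≫ (τ X Z).f n) ≫ V X Z k n = V X Z k n := by
  haveI := (hfp k).1
  haveI := (hfp k).2
  simp only [σk_eq, Category.assoc]
  rw [ι_τ'_assoc, LP_V_self, Iso.hom_inv_id, Category.comp_id]

variable {X} in
lemma σk_τ_V_ne (hfp : DRing.TermwiseFiniteProjective X) (k k' n : ℤ) (hk : k' ≠ k) :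
    (σk Z hfp k n ≫ (τ X Z).f n) ≫ V X Z k' n = 0 := by
  haveI := (hfp k).1
  haveI := (hfp k).2
  simp only [σk_eq, Category.assoc]
  rw [ι_τ'_assoc, LP_V_ne X Z k k' n hk, comp_zero, comp_zero]

variable {X} in
/-- **`Z ⊗ Hom•(X, A[0]) ≅ Hom•(X, Z)`** for a bounded complex `X` of finite projective modules -/
theorem isIso_τ (a b : ℤ) (hX : DRing.VanishesOutside X a b)
    (hfp : DRing.TermwiseFiniteProjective X) : IsIso (τ X Z) := by
  suffices ∀ n : ℤ, IsIso ((τ X Z).f n) from HomologicalComplex.Hom.isIso_of_components _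
  intro n
  refine ⟨⟨∑ k ∈ Finset.Icc a b, σk Z hfp k n, ?_, ?_⟩⟩
  · apply tensor_hom_ext
    intro p q hpq
    obtain ⟨k, hk⟩ : ∃ k : ℤ, q = -k := ⟨-q, by omega⟩
    subst hk
    obtain rfl : p = k + n := by omega
    refine Eq.trans ?_ (Category.comp_id _).symm
    rw [Preadditive.comp_sum, Preadditive.comp_sum]
    by_cases hk : k ∈ Finset.Icc a b
    · rw [Finset.sum_eq_single k (fun k' _ hk' => ι_τ_σk_ne Z hfp k k' n hk')
        (fun h => absurd hk h), ι_τ_σk_self]
    · rw [Finset.sum_eq_zero (fun k' hk' => ι_τ_σk_ne Z hfp k k' n (by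
        rintro rfl
        exact hk hk'))]
      have hz : IsZero ((D X).X (-k)) := isZero_D_X X (-k) (by
        rw [neg_neg]
        apply hX
        rw [Finset.mem_Icc] at hk
        omega)
      have hz2 : IsZero (Z.X (k + n) ⊗ (D X).X (-k) : ModuleCat.{u} A) :=
        (tensorLeft (Z.X (k + n))).map_isZero hz
      exact hz2.eq_of_src _ _
  · apply hom_ext_V
    intro k'
    refine Eq.trans ?_ (Category.id_comp _).symm
    rw [Preadditive.sum_comp, Preadditive.sum_comp]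
    by_cases hk : k' ∈ Finset.Icc a b
    · rw [Finset.sum_eq_single k' (fun k _ hkk => σk_τ_V_ne Z hfp k k' n (Ne.symm hkk))
        (fun h => absurd hk h), σk_τ_V_self]
    · rw [Finset.sum_eq_zero (fun k hkI => σk_τ_V_ne Z hfp k k' n (by
        rintro rfl
        exact hk hkI))]
      exact (V_eq_zero X Z k' n (hX k' (by
        rw [Finset.mem_Icc] at hk
        omega))).symm

end Inverse

end Groth.Agent.Lib.Helper10.AutEqA
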