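import Mathlib
import Groth.Agent.Lib.Helper10TensHom

/-!
# The biduality map `K ⟶ Hom•(Hom•(K, Y), Y)` and exactness/locality of `Hom•(-, Y)` (helper10)
-/

set_option autoImplicit false
set_option backward.isDefEq.respectTransparency.types false
universe u
open CategoryTheory CategoryTheory.Limits CochainComplex CochainComplex.HomComplex

namespace Groth.Agent.Lib.Helper10.BiDualB

open DRing Groth.Agent.Lib.Helper10.TensHom

variable {A : Type u} [CommRing A]

section Bd

variable (K Y : Cx A)

/-- evaluation at `x ∈ K^j` -/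
noncomputable def evalLin (j : ℤ) (x : K.X j) (p q : ℤ) (h : j + p = q) :
    Cochain K Y p →ₗ[A] Y.X q where
  toFun z := (z.v j q h).hom x
  map_add' z z' := by rw [Cochain.add_v]; rfl
  map_smul' a z := by rw [Cochain.smul_v]; rfl

lemma evalLin_apply (j : ℤ) (x : K.X j) (p q : ℤ) (h : j + p = q) (z : Cochain K Y p) :
    evalLin K Y j x p q h z = (z.v j q h).hom x := rfl

/-- the cochain `bd x` of degree `j` from `Hom•(K, Y)` to `Y` -/
noncomputable def bdCochain (j : ℤ) (x : K.X j) : Cochain (DRing.homCx K Y) Y j :=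
  Cochain.mk (fun p q hpq =>
    ModuleCat.ofHom (((p * j).negOnePow : ℤˣ) • evalLin K Y j x p q (by omega)))

lemma bdCochain_v_apply (j : ℤ) (x : K.X j) (p q : ℤ) (hpq : p + j = q) (z : Cochain K Y p) :
    ((bdCochain K Y j x).v p q hpq).hom z =
      ((p * j).negOnePow : ℤˣ) • (z.v j q (by omega)).hom x := rfl

/-- `x ↦ bd x`, linearly -/
noncomputable def bdLin (j : ℤ) : K.X j →ₗ[A] Cochain (DRing.homCx K Y) Y j where
  toFun x := bdCochain K Y j x
  map_add' x y := by
    refine Cochain.ext _ _ (fun p q hpq => ?_)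
    rw [Cochain.add_v]
    ext (z : Cochain K Y p)
    change ((bdCochain K Y j (x + y)).v p q hpq).hom z =
      ((bdCochain K Y j x).v p q hpq).hom z + ((bdCochain K Y j y).v p q hpq).hom z
    rw [bdCochain_v_apply, bdCochain_v_apply, bdCochain_v_apply, map_add, smul_add]
  map_smul' a x := by
    refine Cochain.ext _ _ (fun p q hpq => ?_)
    rw [Cochain.smul_v]
    ext (z : Cochain K Y p)
    change ((bdCochain K Y j (a • x)).v p q hpq).hom z =
      a • ((bdCochain K Y j x).v p q hpq).hom z
    rw [bdCochain_v_apply, bdCochain_v_apply, map_smul, smul_comm]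

lemma sign1 (p j : ℤ) :
    ((j + 1).negOnePow * ((p + 1) * j).negOnePow : ℤˣ) = -(p * j).negOnePow := by
  rw [← Int.negOnePow_add, ← Int.negOnePow_succ, Int.negOnePow_eq_iff]
  exact ⟨j, by ring⟩

lemma sign2 (p j : ℤ) :
    (-(p * j).negOnePow * (p + 1).negOnePow : ℤˣ) = (p * (j + 1)).negOnePow := by
  rw [← Int.negOnePow_succ, ← Int.negOnePow_add, Int.negOnePow_eq_iff]
  exact ⟨1, by ring⟩

/-- the biduality chain map `K ⟶ Hom•(Hom•(K, Y), Y)` -/
noncomputable def bd : K ⟶ DRing.homCx (DRing.homCx K Y) Y where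
  f j := ModuleCat.ofHom (bdLin K Y j)
  comm' j k hjk := by
    obtain rfl : j + 1 = k := hjk
    ext x
    change δ j (j + 1) (bdCochain K Y j x) = bdCochain K Y (j + 1) ((K.d j (j + 1)).hom x)
    symm
    refine Cochain.ext _ _ (fun p q hpq => ?_)
    rw [δ_v j (j + 1) rfl _ p q hpq (q - 1) (p + 1) rfl rfl]
    ext (z : Cochain K Y p)
    have h1 : ((bdCochain K Y j x).v p (q - 1) (by omega) ≫ Y.d (q - 1) q).hom z =
        ((p * j).negOnePow : ℤˣ) • (Y.d (q - 1) q).hom ((z.v j (q - 1) (by omega)).hom x) := by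
      rw [ModuleCat.hom_comp, LinearMap.comp_apply, bdCochain_v_apply, map_zsmul_unit]
    have h2 : ((DRing.homCx K Y).d p (p + 1) ≫
        (bdCochain K Y j x).v (p + 1) q (by omega)).hom z =
        (((p + 1) * j).negOnePow : ℤˣ) •
          (((δ p (p + 1) z).v j q (by omega)).hom x) := by
      rw [ModuleCat.hom_comp, LinearMap.comp_apply]
      exact bdCochain_v_apply K Y j x (p + 1) q (by omega) (δ p (p + 1) z)
    have h3 : ((δ p (p + 1) z).v j q (by omega)).hom x =
        (Y.d (q - 1) q).hom ((z.v j (q - 1) (by omega)).hom x) +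
          ((p + 1).negOnePow : ℤˣ) • (z.v (j + 1) q (by omega)).hom ((K.d j (j + 1)).hom x) := by
      rw [δ_v p (p + 1) rfl z j q (by omega) (q - 1) (j + 1) rfl rfl]
      rfl
    rw [bdCochain_v_apply]
    change _ = ((bdCochain K Y j x).v p (q - 1) (by omega) ≫ Y.d (q - 1) q).hom z +
      ((j + 1).negOnePow : ℤˣ) • ((DRing.homCx K Y).d p (p + 1) ≫
        (bdCochain K Y j x).v (p + 1) q (by omega)).hom z
    rw [h1, h2, h3, smul_add, smul_add, smul_smul, smul_smul, smul_smul, sign1, sign2,
      Units.neg_smul, ← add_assoc, add_neg_cancel, zero_add]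

end Bd

section Nat

/-- naturality of `bd` -/
lemma bd_naturality {K L : Cx A} (f : K ⟶ L) (Y : Cx A) :
    f ≫ bd L Y = bd K Y ≫ homCxPre (homCxPre f Y) Y := by
  ext j x
  change bdCochain L Y j ((f.f j).hom x) =
    (Cochain.ofHom (homCxPre f Y)).comp (bdCochain K Y j x) (zero_add j)
  refine Cochain.ext _ _ (fun p q hpq => ?_)
  rw [Cochain.zero_cochain_comp_v, Cochain.ofHom_v]
  ext (z : Cochain L Y p)
  rw [ModuleCat.hom_comp, LinearMap.comp_apply, bdCochain_v_apply]
  have h1 : ((bdCochain K Y j x).v p q hpq).hom (((homCxPre f Y).f p).hom z) =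
      ((p * j).negOnePow : ℤˣ) •
        ((((homCxPre f Y).f p).hom z : Cochain K Y p).v j q (by omega)).hom x :=
    bdCochain_v_apply K Y j x p q hpq _
  rw [h1, homCxPre_f_apply_v]
  rfl

end Nat

section Local

/-- `Hom•(f, Y)` is an isomorphism in degree `m` as soon as `f` is an isomorphism in the degrees
`p` with `Y^{p+m} ≠ 0` -/
lemma isIso_homCxPre_f {K L : Cx A} (f : K ⟶ L) (Y : Cx A) (m : ℤ)
    (h : ∀ p : ℤ, IsIso (f.f p) ∨ IsZero (Y.X (p + m))) : IsIso ((homCxPre f Y).f m) := by
  have hinj : Function.Injective (precompLin f Y m) := by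
    rw [← LinearMap.ker_eq_bot, LinearMap.ker_eq_bot']
    intro z hz
    refine Cochain.ext _ _ (fun p q hpq => ?_)
    obtain rfl : q = p + m := hpq.symm
    rcases h p with hp | hp
    · have h1 := Cochain.congr_v hz p (p + m) rfl
      change ((Cochain.ofHom f).comp z (zero_add m)).v p (p + m) rfl = _ at h1
      rw [Cochain.zero_cochain_comp_v, Cochain.ofHom_v, Cochain.zero_v] at h1
      rw [Cochain.zero_v]
      exact (cancel_epi (f.f p)).1 (h1.trans comp_zero.symm)
    · exact hp.eq_of_tgt _ _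
  have hsurj : Function.Surjective (precompLin f Y m) := by
    intro z'
    classical
    refine ⟨Cochain.mk (fun p q hpq =>
      if hp : IsIso (f.f p) then (@inv _ _ _ _ (f.f p) hp) ≫ z'.v p q hpq else 0), ?_⟩
    refine Cochain.ext _ _ (fun p q hpq => ?_)
    obtain rfl : q = p + m := hpq.symm
    change ((Cochain.ofHom f).comp _ (zero_add m)).v p (p + m) rfl = _
    rw [Cochain.zero_cochain_comp_v, Cochain.ofHom_v, Cochain.mk_v]
    by_cases hp : IsIso (f.f p)
    · rw [dif_pos hp, IsIso.hom_inv_id_assoc]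
    · rcases h p with hp' | hp'
      · exact absurd hp' hp
      · exact hp'.eq_of_tgt _ _
  have : (homCxPre f Y).f m =
      (LinearEquiv.ofBijective (precompLin f Y m) ⟨hinj, hsurj⟩).toModuleIso.hom := rfl
  rw [this]
  infer_instance

end Local

section Exact

/-- `Hom•(-, Y)` sends short exact sequences of complexes to short exact sequences when `Y` is
termwise injective -/
theorem homCxPre_shortExact_of_injective (S : ShortComplex (Cx A)) (hS : S.ShortExact) (Y : Cx A)
    (hY : ∀ q, Injective (Y.X q)) :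
    (ShortComplex.mk (homCxPre S.g Y) (homCxPre S.f Y)
      (by rw [← homCxPre_comp, S.zero, homCxPre_zero])).ShortExact := by
  apply HomologicalComplex.shortExact_of_degreewise_shortExact
  intro n
  have hSp : ∀ p : ℤ, (S.map (HomologicalComplex.eval _ _ p)).ShortExact :=
    fun p => hS.map_of_exact _
  haveI : ∀ p : ℤ, Epi (S.g.f p) := fun p => (hSp p).epi_g
  haveI : ∀ p : ℤ, Mono (S.f.f p) := fun p => (hSp p).mono_f
  refine { exact := ?_, mono_f := ?_, epi_g := ?_ }
  · -- exactness
    rw [ShortComplex.moduleCat_exact_iff]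
    intro (z : Cochain S.X₂ Y n) hz
    have hz' : ∀ p q hpq, S.f.f p ≫ z.v p q hpq = 0 := by
      intro p q hpq
      have := Cochain.congr_v hz p q hpq
      erw [homCxPre_f_apply_v] at this
      exact this
    haveI : ∀ p : ℤ, Epi (S.map (HomologicalComplex.eval _ _ p)).g := fun p => (hSp p).epi_g
    refine ⟨Cochain.mk (fun p q hpq => (hSp p).exact.desc (z.v p q hpq) (hz' p q hpq)), ?_⟩
    refine Cochain.ext _ _ (fun p q hpq => ?_)
    erw [homCxPre_f_apply_v]
    rw [Cochain.mk_v]
    exact (hSp p).exact.g_desc (z.v p q hpq) (hz' p q hpq)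
  · -- mono
    rw [ModuleCat.mono_iff_injective]
    intro (z : Cochain S.X₃ Y n) (z' : Cochain S.X₃ Y n) hzz'
    refine Cochain.ext _ _ (fun p q hpq => ?_)
    have := Cochain.congr_v hzz' p q hpq
    erw [homCxPre_f_apply_v, homCxPre_f_apply_v] at this
    exact (cancel_epi (S.g.f p)).1 this
  · -- epi
    rw [ModuleCat.epi_iff_surjective]
    intro (y : Cochain S.X₁ Y n)
    haveI := hY
    refine ⟨Cochain.mk (fun p q hpq => Injective.factorThru (y.v p q hpq) (S.f.f p)), ?_⟩
    refine Cochain.ext _ _ (fun p q hpq => ?_)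
    erw [homCxPre_f_apply_v]
    rw [Cochain.mk_v, Injective.comp_factorThru]

end Exact

end Groth.Agent.Lib.Helper10.BiDualB
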