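import Mathlib

/-!
# Five lemmas for the homology sequence of cochain complexes (helper10)

Mathlib has the `τ₃` versions (`HomologicalComplex.HomologySequence.quasiIso_τ₃`); here are the
`τ₁` and `τ₂` versions for cochain complexes indexed by `ℤ`, and a degreewise criterion for
`homologyMap` to be an isomorphism.
-/

set_option autoImplicit false
set_option backward.isDefEq.respectTransparency.types false
universe v u
open CategoryTheory CategoryTheory.Limits HomologicalComplex ComposableArrows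

namespace Groth.Agent.Lib.Helper10.BiDualA

open HomologicalComplex.HomologySequence

section Five

variable {C : Type u} [Category.{v} C] [Abelian C] {S₁ S₂ : ShortComplex (CochainComplex C ℤ)}
  (φ : S₁ ⟶ S₂) (hS₁ : S₁.ShortExact) (hS₂ : S₂.ShortExact)

include hS₁ hS₂

lemma isIso_homologyMap_τ₁ (i j : ℤ) (hij : i + 1 = j)
    (h₀ : Epi (homologyMap φ.τ₂ i)) (h₁ : IsIso (homologyMap φ.τ₃ i))
    (h₃ : IsIso (homologyMap φ.τ₂ j)) (h₄ : Mono (homologyMap φ.τ₃ j)) :
    IsIso (homologyMap φ.τ₁ j) :=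
  Abelian.isIso_of_epi_of_isIso_of_isIso_of_mono' (k := 1) (by omega)
    (composableArrows₅_exact hS₁ i j hij) (composableArrows₅_exact hS₂ i j hij)
    (mapComposableArrows₅ φ hS₁ hS₂ i j hij) 1 2 3 4 5 rfl rfl rfl rfl rfl h₀ h₁ h₃ h₄

lemma mono_homologyMap_τ₂ (i j : ℤ) (hij : i + 1 = j)
    (h₀ : Epi (homologyMap φ.τ₃ i)) (h₁ : Mono (homologyMap φ.τ₁ j))
    (h₃ : Mono (homologyMap φ.τ₃ j)) : Mono (homologyMap φ.τ₂ j) :=
  Abelian.mono_of_epi_of_mono_of_mono'' (k := 2) (by omega)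
    (composableArrows₅_exact hS₁ i j hij) (composableArrows₅_exact hS₂ i j hij)
    (mapComposableArrows₅ φ hS₁ hS₂ i j hij) 2 3 4 5 rfl rfl rfl rfl h₀ h₁ h₃

lemma epi_homologyMap_τ₂ (j k : ℤ) (hjk : j + 1 = k)
    (h₀ : Epi (homologyMap φ.τ₁ j)) (h₂ : Epi (homologyMap φ.τ₃ j))
    (h₃ : Mono (homologyMap φ.τ₁ k)) : Epi (homologyMap φ.τ₂ j) :=
  Abelian.epi_of_epi_of_epi_of_mono'' (k := 0) (by omega)
    (composableArrows₅_exact hS₁ j k hjk) (composableArrows₅_exact hS₂ j k hjk)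
    (mapComposableArrows₅ φ hS₁ hS₂ j k hjk) 0 1 2 3 rfl rfl rfl rfl h₀ h₂ h₃

lemma quasiIso_τ₁ (h₂ : QuasiIso φ.τ₂) (h₃ : QuasiIso φ.τ₃) : QuasiIso φ.τ₁ := by
  rw [quasiIso_iff]
  intro j
  rw [quasiIsoAt_iff_isIso_homologyMap]
  exact isIso_homologyMap_τ₁ φ hS₁ hS₂ (j - 1) j (by omega) inferInstance inferInstance
    inferInstance inferInstance

lemma quasiIso_τ₂ (h₁ : QuasiIso φ.τ₁) (h₃ : QuasiIso φ.τ₃) : QuasiIso φ.τ₂ := by
  rw [quasiIso_iff]
  intro j
  rw [quasiIsoAt_iff_isIso_homologyMap]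
  haveI := mono_homologyMap_τ₂ φ hS₁ hS₂ (j - 1) j (by omega) inferInstance inferInstance
    inferInstance
  haveI := epi_homologyMap_τ₂ φ hS₁ hS₂ j (j + 1) rfl inferInstance inferInstance inferInstance
  exact isIso_of_mono_of_epi _

end Five

section Degreewise

variable {C : Type u} [Category.{v} C] [Abelian C]

/-- a chain map which is an isomorphism in degrees `n - 1`, `n`, `n + 1` induces an isomorphism
on `H^n` -/
lemma isIso_homologyMap_of_isIso_f {X Y : CochainComplex C ℤ} (g : X ⟶ Y) (n : ℤ)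
    (h₁ : IsIso (g.f (n - 1))) (h₂ : IsIso (g.f n)) (h₃ : IsIso (g.f (n + 1))) :
    IsIso (homologyMap g n) := by
  have hq : QuasiIsoAt g n := by
    rw [quasiIsoAt_iff' g (n - 1) n (n + 1) (by simp) (by simp)]
    haveI : IsIso ((shortComplexFunctor' C (ComplexShape.up ℤ) (n - 1) n (n + 1)).map g) := by
      haveI : IsIso ((shortComplexFunctor' C (ComplexShape.up ℤ) (n - 1) n (n + 1)).map g).τ₁ := h₁
      haveI : IsIso ((shortComplexFunctor' C (ComplexShape.up ℤ) (n - 1) n (n + 1)).map g).τ₂ := h₂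
      haveI : IsIso ((shortComplexFunctor' C (ComplexShape.up ℤ) (n - 1) n (n + 1)).map g).τ₃ := h₃
      exact ShortComplex.isIso_of_isIso _
    infer_instance
  exact (quasiIsoAt_iff_isIso_homologyMap g n).1 hq

end Degreewise

end Groth.Agent.Lib.Helper10.BiDualA
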