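import Mathlib
import Groth.Agent.Lib.Helper10BiDualA

/-!
# A dévissage principle for complexes with finite cohomology over a Noetherian ring (helper10)

`Dev P w` packages the formal properties of a family of predicates `P n K` (`n : ℤ`, `K` a cochain
complex of modules) which allow to deduce `P n K` for all complexes with finite cohomology from
the case of finite modules placed in degree `0`: locality in a window of width `w` around `n`,
invariance under quasi-isomorphisms, two-out-of-three for short exact sequences.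
-/

set_option autoImplicit false
set_option backward.isDefEq.respectTransparency.types false
universe u
open CategoryTheory CategoryTheory.Limits HomologicalComplex ComplexShape

namespace Groth.Agent.Lib.Helper10.BiDualC

section Trunc

variable {C : Type*} [Category C] [Abelian C] (K : CochainComplex C ℤ)

lemma isIso_πTruncGE_f' {ι ι' : Type*} {c : ComplexShape ι} {c' : ComplexShape ι'}
    (K : HomologicalComplex C c') (e : c.Embedding c') [e.IsTruncGE]
    [∀ i', K.HasHomology i'] (i : ι) (i' : ι') (hi : e.f i = i') (hb : ¬ e.BoundaryGE i) :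
    IsIso ((K.πTruncGE e).f i') :=
  (e.isIso_liftExtend_f_iff (K.restrictionToTruncGE' e)
    (K.restrictionToTruncGE'_hasLift e) hi).2 (K.isIso_restrictionToTruncGE' e i hb)

lemma isIso_πTruncGE_f (n p : ℤ) (hp : n < p) : IsIso ((K.πTruncGE n).f p) := by
  obtain ⟨k, hk⟩ : ∃ k : ℕ, n + k = p := ⟨(p - n).toNat, by omega⟩
  apply isIso_πTruncGE_f' K (embeddingUpIntGE n) k p hk
  rw [boundaryGE_embeddingUpIntGE_iff]
  omega

lemma isIso_ιTruncLE_f (n p : ℤ) (hp : p < n) : IsIso ((K.ιTruncLE n).f p) := by
  obtain ⟨k, hk⟩ : ∃ k : ℕ, n - k = p := ⟨(n - p).toNat, by omega⟩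
  have h1 : IsIso ((K.op.πTruncGE (embeddingUpIntLE n).op).f p) := by
    apply isIso_πTruncGE_f' K.op (embeddingUpIntLE n).op k p hk
    rw [Embedding.op_boundaryGE_iff, boundaryLE_embeddingUpIntLE_iff]
    omega
  exact inferInstanceAs (IsIso ((K.op.πTruncGE (embeddingUpIntLE n).op).f p).unop)

end Trunc

variable {A : Type u} [CommRing A]

/-- finite cohomology -/
def FinH (K : CochainComplex (ModuleCat.{u} A) ℤ) : Prop :=
  ∀ i : ℤ, Module.Finite A (K.homology i)

lemma finH_iff_of_quasiIso {K L : CochainComplex (ModuleCat.{u} A) ℤ} (f : K ⟶ L) [QuasiIso f] :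
    FinH K ↔ FinH L := by
  constructor
  · intro h i
    haveI := h i
    exact Module.Finite.equiv (asIso (homologyMap f i)).toLinearEquiv
  · intro h i
    haveI := h i
    exact Module.Finite.equiv (asIso (homologyMap f i)).symm.toLinearEquiv

lemma finite_homology_of_exactAt (K : CochainComplex (ModuleCat.{u} A) ℤ) (i : ℤ)
    (h : K.ExactAt i) : Module.Finite A (K.homology i) := by
  haveI : Subsingleton (K.homology i) :=
    ModuleCat.subsingleton_of_isZero h.isZero_homology
  infer_instance

/-- the formal properties needed for the dévissage -/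
structure Dev (P : ℤ → CochainComplex (ModuleCat.{u} A) ℤ → Prop) (w : ℤ) : Prop where
  loc : ∀ (n : ℤ) {K L : CochainComplex (ModuleCat.{u} A) ℤ} (f : K ⟶ L),
    (∀ p, n - w ≤ p → p ≤ n + w → IsIso (f.f p)) → (P n K ↔ P n L)
  qis : ∀ {K L : CochainComplex (ModuleCat.{u} A) ℤ} (f : K ⟶ L), QuasiIso f →
    ((∀ n, P n K) ↔ (∀ n, P n L))
  ses₁ : ∀ (S : ShortComplex (CochainComplex (ModuleCat.{u} A) ℤ)), S.ShortExact →
    (∀ n, P n S.X₂) → (∀ n, P n S.X₃) → (∀ n, P n S.X₁)
  ses₂ : ∀ (S : ShortComplex (CochainComplex (ModuleCat.{u} A) ℤ)), S.ShortExact →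
    (∀ n, P n S.X₁) → (∀ n, P n S.X₃) → (∀ n, P n S.X₂)
  ses₃ : ∀ (S : ShortComplex (CochainComplex (ModuleCat.{u} A) ℤ)), S.ShortExact →
    (∀ n, P n S.X₁) → (∀ n, P n S.X₂) → (∀ n, P n S.X₃)
  base : ∀ (M : ModuleCat.{u} A), Module.Finite A M →
    ∀ n, P n ((CochainComplex.singleFunctor (ModuleCat.{u} A) 0).obj M)

namespace Dev

variable {P : ℤ → CochainComplex (ModuleCat.{u} A) ℤ → Prop} {w : ℤ} (h : Dev P w)
include h

lemma of_iso {K L : CochainComplex (ModuleCat.{u} A) ℤ} (e : K ≅ L) (hK : ∀ n, P n K) :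
    ∀ n, P n L :=
  (h.qis e.hom inferInstance).1 hK

lemma of_acyclic (C : CochainComplex (ModuleCat.{u} A) ℤ) (hC : C.Acyclic) : ∀ n, P n C := by
  let Z := (CochainComplex.singleFunctor (ModuleCat.{u} A) 0).obj (ModuleCat.of A PUnit)
  have hZ0 : IsZero Z :=
    Functor.map_isZero _ (ModuleCat.isZero_of_subsingleton _)
  have hZ : ∀ n, P n Z := h.base _ inferInstance
  have hq : QuasiIso (0 : Z ⟶ C) := by
    rw [quasiIso_iff]
    intro i
    have hZi : Z.ExactAt i := by
      rw [exactAt_iff_isZero_homology]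
      exact Functor.map_isZero (homologyFunctor _ _ i) hZ0
    exact (quasiIsoAt_iff_exactAt _ i hZi).2 (hC i)
  exact (h.qis _ hq).1 hZ

lemma shift_iff (X : CochainComplex (ModuleCat.{u} A) ℤ) :
    (∀ n, P n X) ↔ (∀ n, P n (X⟦(1 : ℤ)⟧)) := by
  let S := CochainComplex.mappingCone.triangleRotateShortComplex (𝟙 X)
  have hS : S.ShortExact := HomologicalComplex.shortExact_of_degreewise_shortExact _
    (fun n => (CochainComplex.mappingCone.triangleRotateShortComplexSplitting (𝟙 X) n).shortExact)
  have hcone : ∀ n, P n S.X₂ := by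
    apply h.of_acyclic
    intro i
    rw [exactAt_iff_isZero_homology, IsZero.iff_id_eq_zero, ← homologyMap_id]
    exact ((CochainComplex.mappingCone.homotopyToZeroOfId X).homologyMap_eq i).trans
      (homologyMap_zero _ _ i)
  exact ⟨fun hX => h.ses₃ S hS hX hcone, fun hX => h.ses₁ S hS hcone hX⟩

lemma single (M : ModuleCat.{u} A) [Module.Finite A M] (s : ℤ) :
    ∀ n, P n ((CochainComplex.singleFunctor (ModuleCat.{u} A) s).obj M) := by
  have step : ∀ s : ℤ, (∀ n, P n ((CochainComplex.singleFunctor (ModuleCat.{u} A) (s + 1)).obj M)) ↔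
      (∀ n, P n ((CochainComplex.singleFunctor (ModuleCat.{u} A) s).obj M)) := by
    intro s
    rw [h.shift_iff]
    let e : ((CochainComplex.singleFunctor (ModuleCat.{u} A) (s + 1)).obj M)⟦(1 : ℤ)⟧ ≅
        (CochainComplex.singleFunctor (ModuleCat.{u} A) s).obj M :=
      ((CochainComplex.singleFunctors (ModuleCat.{u} A)).shiftIso 1 s (s + 1) (by omega)).app M
    exact ⟨h.of_iso e, h.of_iso e.symm⟩
  induction s using Int.induction_on with
  | zero => exact h.base M inferInstance
  | succ i ih => exact (step i).2 ih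
  | pred i ih =>
    have := (step (-(i : ℤ) - 1)).1
    rw [show -(i : ℤ) - 1 + 1 = -(i : ℤ) by ring] at this
    exact this ih

lemma concentrated (X : CochainComplex (ModuleCat.{u} A) ℤ) (d : ℤ) [X.IsGE d] [X.IsLE d]
    (hX : FinH X) : ∀ n, P n X := by
  haveI : QuasiIso (X.ιTruncLE d) := inferInstance
  haveI : (X.truncLE d).IsGE d := by
    rw [CochainComplex.isGE_iff]
    intro i hi
    exact (quasiIsoAt_iff_exactAt' (X.ιTruncLE d) i (X.exactAt_of_isGE d i hi)).1 inferInstance
  haveI : QuasiIso ((X.truncLE d).πTruncGE d) := inferInstance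
  obtain ⟨M, ⟨e⟩⟩ := ((X.truncLE d).truncGE d).exists_iso_single d
  have hW : FinH ((X.truncLE d).truncGE d) :=
    (finH_iff_of_quasiIso ((X.truncLE d).πTruncGE d)).1
      ((finH_iff_of_quasiIso (X.ιTruncLE d)).2 hX)
  have hS : FinH ((HomologicalComplex.single (ModuleCat.{u} A) (ComplexShape.up ℤ) d).obj M) :=
    (finH_iff_of_quasiIso e.hom).1 hW
  haveI : Module.Finite A M := by
    haveI := hS d
    exact Module.Finite.equiv
      (HomologicalComplex.singleObjHomologySelfIso (ComplexShape.up ℤ) d M).toLinearEquiv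
  have h1 : ∀ n, P n ((X.truncLE d).truncGE d) := h.of_iso e.symm (h.single M d)
  have h2 : ∀ n, P n (X.truncLE d) := (h.qis ((X.truncLE d).πTruncGE d) inferInstance).2 h1
  exact (h.qis (X.ιTruncLE d) inferInstance).1 h2

lemma of_isZero_X (L : CochainComplex (ModuleCat.{u} A) ℤ) (hL : ∀ i, IsZero (L.X i)) :
    ∀ n, P n L := by
  apply h.of_acyclic
  intro i
  rw [exactAt_iff]
  exact ShortComplex.exact_of_isZero_X₂ _ (hL i)

theorem bounded : ∀ (k : ℕ) (L : CochainComplex (ModuleCat.{u} A) ℤ) (c d : ℤ), d - c < k →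
    L.IsStrictlyGE c → L.IsStrictlyLE d → FinH L → ∀ n, P n L := by
  intro k
  induction k with
  | zero =>
    intro L c d hk hc hd hL
    apply h.of_isZero_X
    intro i
    by_cases hi : i < c
    · exact L.isZero_of_isStrictlyGE c i hi
    · exact L.isZero_of_isStrictlyLE d i (by omega)
  | succ k ih =>
    intro L c d hk hc hd hL
    let S := L.shortComplexTruncLE (d - 1)
    have hS : S.ShortExact := L.shortComplexTruncLE_shortExact (d - 1)
    -- the truncation
    have hF1 : FinH (L.truncLE (d - 1)) := by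
      intro i
      by_cases hi : i ≤ d - 1
      · haveI := L.quasiIsoAt_ιTruncLE (d - 1) i hi
        haveI := hL i
        exact Module.Finite.equiv (asIso (homologyMap (L.ιTruncLE (d - 1)) i)).symm.toLinearEquiv
      · exact finite_homology_of_exactAt _ i
          ((L.truncLE (d - 1)).exactAt_of_isLE (d - 1) i (by omega))
    have h1 : ∀ n, P n S.X₁ :=
      ih (L.truncLE (d - 1)) c (d - 1) (by omega) inferInstance inferInstance hF1
    -- the quotient
    have hlow : ∀ i : ℤ, i ≤ d - 1 → S.X₃.ExactAt i := by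
      intro i hi
      obtain ⟨j, hj⟩ : ∃ j : ℕ, (embeddingUpIntLE (d - 1)).f j = i :=
        ⟨(d - 1 - i).toNat, by
          show d - 1 - ((d - 1 - i).toNat : ℤ) = i
          omega⟩
      rw [← hj]
      exact (L.shortComplexTruncLE_X₃_isSupportedOutside (embeddingUpIntLE (d - 1))).exactAt j
    have hq : ∀ i : ℤ, d - 1 < i → QuasiIsoAt S.g i := fun i hi =>
      L.quasiIsoAt_shortComplexTruncLE_g (embeddingUpIntLE (d - 1)) i
        ((notMem_range_embeddingUpIntLE_iff (d - 1) i).2 hi)
    have hhigh : ∀ i : ℤ, d < i → S.X₃.ExactAt i := by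
      intro i hi
      haveI := hq i (by omega)
      have hLi : L.ExactAt i := by
        rw [exactAt_iff]
        exact ShortComplex.exact_of_isZero_X₂ _ (L.isZero_of_isStrictlyLE d i hi)
      exact (quasiIsoAt_iff_exactAt S.g i hLi).1 inferInstance
    haveI : S.X₃.IsGE d := by
      rw [CochainComplex.isGE_iff]
      exact fun i hi => hlow i (by omega)
    haveI : S.X₃.IsLE d := by
      rw [CochainComplex.isLE_iff]
      exact fun i hi => hhigh i hi
    have hF3 : FinH S.X₃ := by
      intro i
      by_cases hi : i ≤ d - 1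
      · exact finite_homology_of_exactAt _ i (hlow i hi)
      · haveI := hq i (by omega)
        haveI : Module.Finite A (S.X₂.homology i) := hL i
        exact Module.Finite.equiv (asIso (homologyMap S.g i)).toLinearEquiv
    exact h.ses₂ S hS h1 (h.concentrated S.X₃ d hF3)

/-- **dévissage**: `P n K` holds for all complexes with finite cohomology -/
theorem main (K : CochainComplex (ModuleCat.{u} A) ℤ) (hK : FinH K) (n : ℤ) :
    P n K := by
  -- truncate above
  have e1 : P n (K.truncLE (n + w + 1)) ↔ P n K :=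
    h.loc n (K.ιTruncLE (n + w + 1)) (fun p _ hp => isIso_ιTruncLE_f K _ p (by omega))
  -- truncate below
  have e2 : P n (K.truncLE (n + w + 1)) ↔ P n ((K.truncLE (n + w + 1)).truncGE (n - w - 1)) :=
    h.loc n ((K.truncLE (n + w + 1)).πTruncGE (n - w - 1))
      (fun p hp _ => isIso_πTruncGE_f _ _ p (by omega))
  rw [← e1, e2]
  have hF1 : FinH (K.truncLE (n + w + 1)) := by
    intro i
    by_cases hi : i ≤ n + w + 1
    · haveI := K.quasiIsoAt_ιTruncLE (n + w + 1) i hi
      haveI := hK i
      exact Module.Finite.equiv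
        (asIso (homologyMap (K.ιTruncLE (n + w + 1)) i)).symm.toLinearEquiv
    · exact finite_homology_of_exactAt _ i
        ((K.truncLE (n + w + 1)).exactAt_of_isLE (n + w + 1) i (by omega))
  have hF2 : FinH ((K.truncLE (n + w + 1)).truncGE (n - w - 1)) := by
    intro i
    by_cases hi : n - w - 1 ≤ i
    · haveI := (K.truncLE (n + w + 1)).quasiIsoAt_πTruncGE (n - w - 1) i hi
      haveI := hF1 i
      exact Module.Finite.equiv
        (asIso (homologyMap ((K.truncLE (n + w + 1)).πTruncGE (n - w - 1)) i)).toLinearEquiv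
    · exact finite_homology_of_exactAt _ i
        (((K.truncLE (n + w + 1)).truncGE (n - w - 1)).exactAt_of_isGE (n - w - 1) i (by omega))
  exact h.bounded ((n + w + 1 - (n - w - 1)).toNat + 1) _ (n - w - 1) (n + w + 1) (by omega)
    inferInstance inferInstance hF2 n

end Dev

end Groth.Agent.Lib.Helper10.BiDualC
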