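import Mathlib
import Groth.Agent.Lib.Helper5BiDualC

/-!
# Biduality for finite modules, complete form (helper5)

With the notation of `Helper5BiDualB` (`ω` dualizing, `E` a bounded complex of injectives
representing it, `D(M) = Hom_A(M, E)`), for every finite module `M`:
* `vanD`: `Hom_{D(A)}(D(M), ω[n]) = 0` for all `n ≠ 0`;
* `bijective_ev`: `M → Hom_{D(A)}(D(M), ω)`, `m ↦ ev m`, is bijective.
-/

set_option autoImplicit false
universe u
open CategoryTheory CategoryTheory.Limits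
attribute [local instance] HasDerivedCategory.standard

namespace Groth.Agent.Lib.Helper5.BiDual

open DerivedCategory Pretriangulated
open Groth.Agent.Lib.Helper5.DualLocal Groth.Agent.Lib.Helper5.NormDual

variable {A : Type u} [CommRing A]

section LES

variable (S : ShortComplex (CochainComplex (ModuleCat.{u} A) ℤ)) (hS : S.ShortExact)

include hS in
/-- exactness of `Hom(-, Y)` at `X₃`. -/
lemma exists_of_g_comp_eq_zero (Y : Dual.D A) (φ : Q.obj S.X₃ ⟶ Y)
    (h : Q.map S.g ≫ φ = 0) :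
    ∃ χ : (Q.obj S.X₁)⟦(1 : ℤ)⟧ ⟶ Y, φ = triangleOfSESδ hS ≫ χ :=
  Triangle.yoneda_exact₂ _ (rot_of_distTriang _ (triangleOfSES_distinguished hS)) φ h

include hS in
/-- exactness of `Hom(-, Y)` at `X₁`. -/
lemma exists_factor' (Y : Dual.D A) (φ : Q.obj S.X₁ ⟶ Y)
    (hh : triangleOfSESδ hS ≫ φ⟦(1 : ℤ)⟧' = 0) :
    ∃ ψ : Q.obj S.X₂ ⟶ Y, φ = Q.map S.f ≫ ψ := by
  have hT := triangleOfSES_distinguished hS
  have hT2 := rot_of_distTriang _ (rot_of_distTriang _ hT)
  obtain ⟨g', hg'⟩ := Triangle.yoneda_exact₂ _ hT2 (φ⟦(1 : ℤ)⟧') hh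
  obtain ⟨g4, rfl⟩ := (shiftFunctor (DerivedCategory (ModuleCat.{u} A)) (1 : ℤ)).map_surjective g'
  obtain ⟨g'', rfl⟩ : ∃ g3 : Q.obj S.X₂ ⟶ Y, g3 = g4 := ⟨g4, rfl⟩
  have e : (φ⟦(1 : ℤ)⟧') = (-(Q.map S.f)⟦(1 : ℤ)⟧') ≫ g''⟦(1 : ℤ)⟧' := hg'
  have e2 : (shiftFunctor (DerivedCategory (ModuleCat.{u} A)) (1 : ℤ)).map φ =
      (shiftFunctor (DerivedCategory (ModuleCat.{u} A)) (1 : ℤ)).map
        (-(Q.map S.f ≫ g'')) := by
    rw [e, Functor.map_neg, Functor.map_comp, Preadditive.neg_comp]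
  refine ⟨-g'', ?_⟩
  exact ((shiftFunctor (DerivedCategory (ModuleCat.{u} A)) (1 : ℤ)).map_injective e2).trans
    (Preadditive.comp_neg _ _).symm

include hS in
lemma g_comp_δ : Q.map S.g ≫ triangleOfSESδ hS = 0 :=
  comp_distTriang_mor_zero₂₃ _ (triangleOfSES_distinguished hS)

end LES

section Lin

variable (E : CochainComplex (ModuleCat.{u} A) ℤ) (hE : ∀ p, Injective (E.X p))
  {N₁ N₂ N₃ : Type u} [AddCommGroup N₁] [Module A N₁] [AddCommGroup N₂] [Module A N₂]
  [AddCommGroup N₃] [Module A N₃] (f : N₁ →ₗ[A] N₂) (g : N₂ →ₗ[A] N₃)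
  (hf : Function.Injective f) (hg : Function.Surjective g) (hfg : Function.Exact f g)

include hE hf hg hfg in
lemma lin_eq_zero_of_comp_eq_zero (Y : Dual.D A)
    (φ : Q.obj (dualCx E (ModuleCat.of A N₁)) ⟶ Y)
    (h : Q.map (dualMap E (ModuleCat.ofHom f)) ≫ φ = 0)
    (hvan : ∀ χ : (Q.obj (dualCx E (ModuleCat.of A N₃)))⟦(1 : ℤ)⟧ ⟶ Y, χ = 0) : φ = 0 := by
  let S := ModuleCat.shortComplexOfCompEqZero f g hfg.linearMap_comp_eq_zero
  have hS : S.ShortExact := ModuleCat.shortComplex_shortExact S hfg hf hg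
  obtain ⟨χ, hχ⟩ := exists_of_g_comp_eq_zero (dualSC E S) (dualSC_shortExact E hE S hS) Y φ h
  have h2 : χ = 0 := hvan χ
  subst h2
  exact hχ.trans comp_zero

include hE hf hg hfg in
lemma lin_exists_factor' (Y : Dual.D A)
    (φ : Q.obj (dualCx E (ModuleCat.of A N₃)) ⟶ Y)
    (hh : ∀ u : Q.obj (dualCx E (ModuleCat.of A N₁)) ⟶ Y⟦(1 : ℤ)⟧,
      Q.map (dualMap E (ModuleCat.ofHom f)) ≫ u = 0 → u = 0) :
    ∃ ψ : Q.obj (dualCx E (ModuleCat.of A N₂)) ⟶ Y,
      φ = Q.map (dualMap E (ModuleCat.ofHom g)) ≫ ψ := by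
  let S := ModuleCat.shortComplexOfCompEqZero f g hfg.linearMap_comp_eq_zero
  have hS : S.ShortExact := ModuleCat.shortComplex_shortExact S hfg hf hg
  have hS' := dualSC_shortExact E hE S hS
  have h0 : Q.map (dualSC E S).g ≫ triangleOfSESδ hS' = 0 := g_comp_δ (dualSC E S) hS'
  have h1 : Q.map (dualMap E (ModuleCat.ofHom f)) ≫ triangleOfSESδ hS' = 0 := h0
  refine exists_factor' (dualSC E S) hS' Y φ (hh _ ?_)
  exact ((reassoc_of% h1) _).trans zero_comp

end Lin

lemma forall_eq_zero_shift_one (X ω : Dual.D A) (h : ∀ ψ : X ⟶ ω⟦(-1 : ℤ)⟧, ψ = 0) :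
    ∀ χ : X⟦(1 : ℤ)⟧ ⟶ ω, χ = 0 := by
  intro χ
  let c : (X⟦(1 : ℤ)⟧)⟦(-1 : ℤ)⟧ ≅ X :=
    (shiftFunctorCompIsoId (Dual.D A) (1 : ℤ) (-1 : ℤ) (by simp)).app X
  have h1 : c.inv ≫ χ⟦(-1 : ℤ)⟧' = 0 := h _
  have h2 : χ⟦(-1 : ℤ)⟧' = 0 := (cancel_epi c.inv).mp (h1.trans comp_zero.symm)
  exact (shiftFunctor (Dual.D A) (-1 : ℤ)).map_injective
    (h2.trans (Functor.map_zero _ _ _).symm)

variable {ω : Dual.D A}

/-- injectivity of `m ↦ ev m` -/
def InjD (R : Res ω) (M : ModuleCat.{u} A) : Prop :=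
  ∀ m : M, Q.map (ev R.E M m) ≫ R.e.hom = 0 → m = 0

section Main

variable (hω : Dual.IsDualizing A ω) (R : Res ω)

include hω in
lemma injD_base : InjD R (ModuleCat.of A A) := by
  intro x h
  rw [map_ev_self] at h
  have h3 : x • 𝟙 ω = (0 : A) • 𝟙 ω := by
    rw [zero_smul]
    have : x • 𝟙 ω = (ιA R).inv ≫ (x • (ιA R).hom) := by
      rw [Linear.comp_smul, Iso.inv_hom_id]
    rw [this, h, comp_zero]
  exact hω.toEnd_bijective.1 h3

include hω in
theorem vanD_neg_one (M : Type u) [AddCommGroup M] [Module A M] [hfin : Module.Finite A M] :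
    VanD R (ModuleCat.of A M) (-1) := by
  haveI := hω.isNoetherianRing
  induction hfin using IsNoetherianRing.induction_on_isQuotientEquivQuotientPrime A with
  | subsingleton N =>
    intro ψ
    exact (Functor.map_isZero Q (isZero_dualCx_of_isZero R.E _
      (ModuleCat.isZero_of_subsingleton (ModuleCat.of A N)))).eq_of_src _ _
  | quotient N p e' =>
    intro ψ
    obtain ⟨ψ', hψ'⟩ := lin_exists_factor' R.E R.injective_X (Submodule.subtype p.asIdeal)
      (quotMap p.asIdeal e') Subtype.val_injective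
      (quotMap_surjective p.asIdeal e') (quotMap_exact p.asIdeal e') (ω⟦(-1 : ℤ)⟧) ψ (by
        intro u hu
        let c : (ω⟦(-1 : ℤ)⟧)⟦(1 : ℤ)⟧ ≅ ω :=
          (shiftFunctorCompIsoId (Dual.D A) (-1 : ℤ) (1 : ℤ) (by simp)).app ω
        obtain ⟨y, hy⟩ := surjD hω R p.asIdeal (u ≫ c.hom)
        have h1 : dualMap R.E (ModuleCat.ofHom (Submodule.subtype p.asIdeal)) ≫
            ev R.E (ModuleCat.of A p.asIdeal) y = ev R.E (ModuleCat.of A A) (y : A) :=
          dualMap_ofHom_comp_ev R.E (Submodule.subtype p.asIdeal) y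
        have h2 : Q.map (ev R.E (ModuleCat.of A A) (y : A)) ≫ R.e.hom = 0 := by
          rw [← h1, Functor.map_comp, Category.assoc, ← hy, ← Category.assoc, hu, zero_comp]
        have h3 : (y : A) = 0 := injD_base hω R _ h2
        have h4 : y = 0 := Subtype.ext h3
        have h5 : u ≫ c.hom = 0 := by
          rw [hy, h4, ev_zero, Functor.map_zero, zero_comp]
        exact (cancel_mono c.hom).mp (h5.trans zero_comp.symm))
    rw [hψ', vanD_base hω R (-1) (by decide) ψ', comp_zero]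
  | exact N₁ N₂ N₃ f g hf hg hfg h₁ h₃ =>
    intro ψ
    obtain ⟨ψ', hψ'⟩ := lin_exists_of_comp_eq_zero R.E R.injective_X f g hf hg hfg
      (ω⟦(-1 : ℤ)⟧) ψ (h₃ _)
    have h0 := h₁ ψ'
    rw [hψ', h0]
    exact comp_zero

include hω in
theorem injD (M : Type u) [AddCommGroup M] [Module A M] [hfin : Module.Finite A M] :
    InjD R (ModuleCat.of A M) := by
  haveI := hω.isNoetherianRing
  induction hfin using IsNoetherianRing.induction_on_isQuotientEquivQuotientPrime A with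
  | subsingleton N =>
    intro m _
    exact Subsingleton.elim _ _
  | quotient N p e' =>
    intro m hm
    obtain ⟨x, rfl⟩ := quotMap_surjective p.asIdeal e' m
    have h0 : Q.map (dualMap R.E (ModuleCat.ofHom (quotMap p.asIdeal e'))) ≫
        (Q.map (ev R.E (ModuleCat.of A A) x) ≫ R.e.hom) = 0 := by
      rw [← Category.assoc, ← Functor.map_comp, dualMap_ofHom_comp_ev]
      exact hm
    obtain ⟨ψ, hψ⟩ := lin_exists_of_comp_eq_zero R.E R.injective_X
      (Submodule.subtype p.asIdeal) (quotMap p.asIdeal e') Subtype.val_injective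
      (quotMap_surjective p.asIdeal e') (quotMap_exact p.asIdeal e') ω _ h0
    obtain ⟨y, hy⟩ := surjD hω R p.asIdeal ψ
    have h1 : dualMap R.E (ModuleCat.ofHom (Submodule.subtype p.asIdeal)) ≫
        ev R.E (ModuleCat.of A p.asIdeal) y = ev R.E (ModuleCat.of A A) (y : A) :=
      dualMap_ofHom_comp_ev R.E (Submodule.subtype p.asIdeal) y
    have h2 : Q.map (ev R.E (ModuleCat.of A A) (x - y)) ≫ R.e.hom = 0 := by
      rw [ev_sub, Functor.map_sub, Preadditive.sub_comp, hψ, hy, ← h1, Functor.map_comp,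
        Category.assoc]
      exact sub_self _
    have h4 : x - (y : A) = 0 := injD_base hω R _ h2
    have hx : x ∈ p.asIdeal := by
      rw [sub_eq_zero.mp h4]
      exact y.2
    show e'.symm (Submodule.mkQ p.asIdeal x) = 0
    rw [LinearEquiv.map_eq_zero_iff]
    exact (Submodule.Quotient.mk_eq_zero _).mpr hx
  | exact N₁ N₂ N₃ f g hf hg hfg h₁ h₃ =>
    intro m₂ hm₂
    have hm₃ : g m₂ = 0 := by
      apply h₃
      have h5 : dualMap R.E (ModuleCat.ofHom g) ≫ ev R.E (ModuleCat.of A N₂) m₂ =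
          ev R.E (ModuleCat.of A N₃) (g m₂) := dualMap_ofHom_comp_ev R.E g m₂
      rw [← h5, Functor.map_comp, Category.assoc, hm₂, comp_zero]
    obtain ⟨m₁, rfl⟩ := (hfg m₂).mp hm₃
    have h0 : Q.map (dualMap R.E (ModuleCat.ofHom f)) ≫
        (Q.map (ev R.E (ModuleCat.of A N₁) m₁) ≫ R.e.hom) = 0 := by
      rw [← Category.assoc, ← Functor.map_comp, dualMap_ofHom_comp_ev]
      exact hm₂
    have h1 := lin_eq_zero_of_comp_eq_zero R.E R.injective_X f g hf hg hfg ω _ h0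
      (forall_eq_zero_shift_one _ ω (vanD_neg_one hω R N₃))
    rw [h₁ m₁ h1, map_zero]

include hω in
theorem vanD_neg_aux : ∀ (k : ℕ) (M : Type u) [AddCommGroup M] [Module A M]
    [Module.Finite A M], VanD R (ModuleCat.of A M) (-1 - (k : ℤ)) := by
  haveI := hω.isNoetherianRing
  intro k
  induction k with
  | zero =>
    intro M _ _ _
    have h : (-1 - ((0 : ℕ) : ℤ)) = -1 := by simp
    rw [h]
    exact vanD_neg_one hω R M
  | succ k IH =>
    intro M _ _ hfin
    induction hfin using IsNoetherianRing.induction_on_isQuotientEquivQuotientPrime A with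
    | subsingleton N =>
      intro ψ
      exact (Functor.map_isZero Q (isZero_dualCx_of_isZero R.E _
        (ModuleCat.isZero_of_subsingleton (ModuleCat.of A N)))).eq_of_src _ _
    | quotient N p e' =>
      intro ψ
      have hY : ∀ k' : Q.obj (dualCx R.E (ModuleCat.of A p.asIdeal)) ⟶
          (ω⟦(-1 - ((k + 1 : ℕ) : ℤ))⟧)⟦(1 : ℤ)⟧, k' = 0 :=
        (forall_eq_zero_shift_iff ω _ (-1 - ((k + 1 : ℕ) : ℤ)) (-1 - (k : ℤ))
          (by push_cast; ring)).mp (IH p.asIdeal)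
      obtain ⟨ψ', hψ'⟩ := lin_exists_factor R.E R.injective_X _ _ Subtype.val_injective
        (quotMap_surjective p.asIdeal e') (quotMap_exact p.asIdeal e')
        (ω⟦(-1 - ((k + 1 : ℕ) : ℤ))⟧) hY ψ
      have h0 := vanD_base hω R (-1 - ((k + 1 : ℕ) : ℤ)) (by push_cast; lia) ψ'
      rw [hψ', h0]
      exact comp_zero
    | exact N₁ N₂ N₃ f g hf hg hfg h₁ h₃ =>
      intro ψ
      obtain ⟨ψ', hψ'⟩ := lin_exists_of_comp_eq_zero R.E R.injective_X f g hf hg hfg
        (ω⟦(-1 - ((k + 1 : ℕ) : ℤ))⟧) ψ (h₃ _)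
      have h0 := h₁ ψ'
      rw [hψ', h0]
      exact comp_zero

include hω in
/-- `Hom(D(M), ω[n]) = 0` for `n ≠ 0`. -/
theorem vanD (n : ℤ) (hn : n ≠ 0) (M : Type u) [AddCommGroup M] [Module A M]
    [Module.Finite A M] : VanD R (ModuleCat.of A M) n := by
  rcases lt_or_gt_of_ne hn with h | h
  · obtain ⟨k, hk⟩ : ∃ k : ℕ, n = -1 - (k : ℤ) :=
      ⟨(-1 - n).toNat, by rw [Int.toNat_of_nonneg (by lia)]; ring⟩
    rw [hk]
    exact vanD_neg_aux hω R k M
  · exact vanD_pos hω R n (by lia) M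

include hω in
/-- `M ≃ Hom(D(M), ω)`. -/
theorem bijective_ev (M : Type u) [AddCommGroup M] [Module A M] [Module.Finite A M] :
    Function.Bijective
      (fun m : M => Q.map (ev R.E (ModuleCat.of A M) m) ≫ R.e.hom) := by
  constructor
  · intro m m' h
    have h1 : Q.map (ev R.E (ModuleCat.of A M) (m - m')) ≫ R.e.hom = 0 := by
      rw [ev_sub, Functor.map_sub, Preadditive.sub_comp]
      exact sub_eq_zero.mpr h
    exact sub_eq_zero.mp (injD hω R M (m - m') h1)
  · intro ψ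
    obtain ⟨m, hm⟩ := surjD hω R M ψ
    exact ⟨m, hm.symm⟩

end Main

end Groth.Agent.Lib.Helper5.BiDual
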