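import Groth.Agent.Lib.Helper17DRingAdj2

/-!
# `Hom(B[0], K[n]) = 0` for all `n` iff `Hom(res E, K) = 0` for all `E ∈ D(B)` (helper17)
-/

set_option autoImplicit false

universe u

open CategoryTheory CategoryTheory.Limits HomologicalComplex DerivedCategory

attribute [local instance] HasDerivedCategory.standard

namespace Groth.Agent.Lib.Helper17.DRingAdj

variable {A B : Type u} [CommRing A] [CommRing B] [Algebra A B]

/-- `B` as an `A`-module via restriction of scalars is `B` as an `A`-module via the algebra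
structure. -/
noncomputable def resSelfLin :
    ((ModuleCat.restrictScalars.{u} (algebraMap A B)).obj (ModuleCat.of B B)) ≃ₗ[A] B where
  toFun := fun x => x
  invFun := fun x => x
  map_add' := fun _ _ => rfl
  map_smul' := fun a b => by
    change algebraMap A B a * (id b : B) = a • (id b : B)
    exact (Algebra.smul_def a _).symm
  left_inv := fun _ => rfl
  right_inv := fun _ => rfl

noncomputable def resSelfIso :
    (ModuleCat.restrictScalars.{u} (algebraMap A B)).obj (ModuleCat.of B B) ≅ ModuleCat.of A B :=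
  (resSelfLin (A := A) (B := B)).toModuleIso

/-- `res(B[0]) ≅ B[0]` in `D(A)`. -/
noncomputable def restrictDSelfIso :
    (DRing.restrictD (algebraMap A B)).obj (Dual.inD B B) ≅ Dual.inD A B :=
  restrictDInD (algebraMap A B) B ≪≫
    (DerivedCategory.singleFunctor (ModuleCat.{u} A) 0).mapIso resSelfIso

variable (A B) in
theorem forall_subsingleton_iff (K : Dual.D A) :
    (∀ n : ℤ, Subsingleton (Dual.inD A B ⟶ K⟦n⟧)) ↔
      ∀ E : Dual.D B, Subsingleton ((DRing.restrictD (algebraMap A B)).obj E ⟶ K) := by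
  constructor
  · intro h E
    apply subsingleton_hom_restrictD (algebraMap A B) K _ E
    intro n
    haveI := h n
    exact ((restrictDSelfIso (A := A) (B := B)).homFromEquiv (Z := K⟦n⟧)).subsingleton
  · intro h n
    let X : Dual.D A := Dual.inD A B
    -- `X⟦-n⟧ ≅ res ((B[0])⟦-n⟧)`
    let e : (DRing.restrictD (algebraMap A B)).obj ((Dual.inD B B)⟦-n⟧) ≅ X⟦-n⟧ :=
      ((DRing.restrictD (algebraMap A B)).commShiftIso (-n)).app (Dual.inD B B) ≪≫
        (shiftFunctor (Dual.D A) (-n)).mapIso restrictDSelfIso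
    haveI : Subsingleton (X⟦-n⟧ ⟶ K) := by
      haveI := h ((Dual.inD B B)⟦-n⟧)
      exact (e.symm.homFromEquiv (Z := K)).subsingleton
    refine ⟨fun g₁ g₂ => ?_⟩
    suffices ∀ g : X ⟶ K⟦n⟧, g = 0 by rw [this g₁, this g₂]
    intro g
    let i : (X⟦-n⟧)⟦n⟧ ≅ X := (shiftFunctorCompIsoId (Dual.D A) (-n) n (by simp)).app X
    have h1 : (shiftFunctor (Dual.D A) n).map ((shiftFunctor (Dual.D A) n).preimage (i.hom ≫ g)) =
        i.hom ≫ g := Functor.map_preimage _ _
    have h2 : (shiftFunctor (Dual.D A) n).preimage (i.hom ≫ g) = 0 := Subsingleton.elim _ _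
    rw [h2, Functor.map_zero] at h1
    rw [← cancel_epi i.hom, ← h1, comp_zero]

end Groth.Agent.Lib.Helper17.DRingAdj
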