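import Mathlib
import Groth.Agent.Lib.Helper5BiDualD
import Groth.Agent.Lib.Helper1HomFinite

/-!
# Finiteness of the cohomology of `Hom_A(M, E)` (helper5)

`E` is a bounded below complex of injective modules over a Noetherian ring with finite cohomology
modules.  Then all cohomology modules of `Hom_A(M, E)` are finite for every finite module `M`
(`finite_homology_dualCx`).
-/

set_option autoImplicit false
universe u
open CategoryTheory CategoryTheory.Limits
attribute [local instance] HasDerivedCategory.standard

namespace Groth.Agent.Lib.Helper5.Coext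

open Groth.Agent.Lib.Helper5.BiDual Groth.Agent.Lib.Helper1.HomFinite

variable {A : Type u} [CommRing A]
variable (E : CochainComplex (ModuleCat.{u} A) ℤ)

lemma finite_homology_of_isZero (M : ModuleCat.{u} A) (i : ℤ) (h : IsZero (E.X i)) :
    Module.Finite A ((dualCx E M).homology i) := by
  have hz : IsZero ((dualCx E M).homology i) :=
    ShortComplex.isZero_homology_of_isZero_X₂ _ (isZero_dualCx_X E M i h)
  haveI := ModuleCat.subsingleton_of_isZero hz
  infer_instance

lemma finite_homology_of_isZero' (M : ModuleCat.{u} A) (i : ℤ) (h : IsZero M) :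
    Module.Finite A ((dualCx E M).homology i) := by
  have hz : IsZero ((dualCx E M).homology i) :=
    ShortComplex.isZero_homology_of_isZero_X₂ _
      ((HomologicalComplex.eval _ _ i).map_isZero (isZero_dualCx_of_isZero E M h))
  haveI := ModuleCat.subsingleton_of_isZero hz
  infer_instance

lemma finite_homology_base (hfin : ∀ i, Module.Finite A (E.homology i)) (i : ℤ) :
    Module.Finite A ((dualCx E (ModuleCat.of A A)).homology i) := by
  let e : (dualCx E (ModuleCat.of A A)).homology i ≅ E.homology i :=
    (HomologicalComplex.homologyFunctor (ModuleCat.{u} A) (ComplexShape.up ℤ) i).mapIso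
      (asIso (ev E (ModuleCat.of A A) (1 : A)))
  haveI := hfin i
  exact Module.Finite.equiv e.symm.toLinearEquiv

lemma finite_of_exact_sc [IsNoetherianRing A] (S : ShortComplex (ModuleCat.{u} A)) (hS : S.Exact)
    (h1 : Module.Finite A S.X₁) (h3 : Module.Finite A S.X₃) : Module.Finite A S.X₂ :=
  finite_of_exact S.f.hom S.g.hom ((ShortComplex.moduleCat_exact_iff S).mp hS)

theorem finite_homology_dualCx [IsNoetherianRing A] (hE : ∀ p, Injective (E.X p)) (a : ℤ)
    (ha : ∀ p : ℤ, p < a → IsZero (E.X p)) (hfin : ∀ i, Module.Finite A (E.homology i)) :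
    ∀ (i : ℤ) (M : Type u) [AddCommGroup M] [Module A M] [Module.Finite A M],
      Module.Finite A ((dualCx E (ModuleCat.of A M)).homology i) := by
  have key : ∀ (k : ℕ) (M : Type u) [AddCommGroup M] [Module A M] [Module.Finite A M],
      Module.Finite A ((dualCx E (ModuleCat.of A M)).homology (a - 1 + (k : ℤ))) := by
    intro k
    induction k with
    | zero =>
      intro M _ _ _
      exact finite_homology_of_isZero E _ _ (ha _ (by simp))
    | succ k IH =>
      intro M _ _ hfinM
      induction hfinM using IsNoetherianRing.induction_on_isQuotientEquivQuotientPrime A with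
      | subsingleton N =>
        exact finite_homology_of_isZero' E _ _
          (ModuleCat.isZero_of_subsingleton (ModuleCat.of A N))
      | quotient N p e' =>
        let S := ModuleCat.shortComplexOfCompEqZero (Submodule.subtype p.asIdeal)
          (quotMap p.asIdeal e') (quotMap_exact p.asIdeal e').linearMap_comp_eq_zero
        have hS : S.ShortExact := ModuleCat.shortComplex_shortExact S
          (quotMap_exact p.asIdeal e') Subtype.val_injective (quotMap_surjective p.asIdeal e')
        have hT := dualSC_shortExact E hE S hS
        have hrel : (ComplexShape.up ℤ).Rel (a - 1 + (k : ℤ)) (a - 1 + ((k + 1 : ℕ) : ℤ)) := by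
          show a - 1 + (k : ℤ) + 1 = a - 1 + ((k + 1 : ℕ) : ℤ)
          push_cast
          ring
        have hex := hT.homology_exact₁ _ _ hrel
        exact finite_of_exact_sc _ hex (IH p.asIdeal) (finite_homology_base E hfin _)
      | exact N₁ N₂ N₃ f g hf hg hfg h₁ h₃ =>
        let S := ModuleCat.shortComplexOfCompEqZero f g hfg.linearMap_comp_eq_zero
        have hS : S.ShortExact := ModuleCat.shortComplex_shortExact S hfg hf hg
        have hT := dualSC_shortExact E hE S hS
        have hex := hT.homology_exact₂ (a - 1 + ((k + 1 : ℕ) : ℤ))
        exact finite_of_exact_sc _ hex h₃ h₁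
  intro i M _ _ _
  by_cases hi : i < a
  · exact finite_homology_of_isZero E _ i (ha i hi)
  · have h := key (i - a + 1).toNat M
    rwa [show a - 1 + ((i - a + 1).toNat : ℤ) = i by
      rw [Int.toNat_of_nonneg (by lia)]; ring] at h

end Groth.Agent.Lib.Helper5.Coext
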