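import Mathlib

set_option backward.isDefEq.respectTransparency.types false

/-!
# Recognition of left derived functors from (non functorial) resolutions by "projective" objects

`L : C ⥤ D` a localization functor for `W`, `F : C ⥤ H`, `P` a class of objects of `C` such that
every object `X` receives a morphism `r : Y ⟶ X` from a `P`-object with `L.map r` invertible, and
`L.map : (Y ⟶ X) → (L Y ⟶ L X)` is surjective for `Y` in `P`. Then any extension `(LF, α)` whose
`α` is invertible on `P`-objects is a left derived functor of `F`.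
-/

namespace Groth.Agent.Lib.Helper1.LDerRes

open CategoryTheory Category Functor

variable {C D H : Type*} [Category C] [Category D] [Category H]
  (L : C ⥤ D) (W : MorphismProperty C) [L.IsLocalization W]
  (F : C ⥤ H) (P : ObjectProperty C)
  (hres : ∀ X : C, ∃ (Y : C) (r : Y ⟶ X), P Y ∧ IsIso (L.map r))
  (hsurj : ∀ Y, P Y → ∀ X, Function.Surjective (L.map : (Y ⟶ X) → (L.obj Y ⟶ L.obj X)))
  (LF : D ⥤ H) (α : L ⋙ LF ⟶ F) (hα : ∀ Y, P Y → IsIso (α.app Y))

section

/-- a chosen resolution -/
noncomputable def resObj (X : C) : C := (hres X).choose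

noncomputable def resMap (X : C) : resObj L P hres X ⟶ X := (hres X).choose_spec.choose

lemma resObj_prop (X : C) : P (resObj L P hres X) := (hres X).choose_spec.choose_spec.1

lemma isIso_L_resMap (X : C) : IsIso (L.map (resMap L P hres X)) :=
  (hres X).choose_spec.choose_spec.2

variable (G : D ⥤ H) (β : L ⋙ G ⟶ F)

/-- the candidate lift, before descending to `D` -/
noncomputable def tauPre : L ⋙ G ⟶ L ⋙ LF where
  app X :=
    haveI := isIso_L_resMap L P hres X
    haveI := hα _ (resObj_prop L P hres X)
    inv (G.map (L.map (resMap L P hres X))) ≫ β.app (resObj L P hres X) ≫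
      inv (α.app (resObj L P hres X)) ≫ LF.map (L.map (resMap L P hres X))
  naturality X X' f := by
    haveI := isIso_L_resMap L P hres X
    haveI := isIso_L_resMap L P hres X'
    haveI := hα _ (resObj_prop L P hres X)
    haveI := hα _ (resObj_prop L P hres X')
    obtain ⟨g, hg⟩ := hsurj _ (resObj_prop L P hres X) _
      (L.map (resMap L P hres X) ≫ L.map f ≫ inv (L.map (resMap L P hres X')))
    have hg' : L.map g ≫ L.map (resMap L P hres X') = L.map (resMap L P hres X) ≫ L.map f := by
      rw [hg]; simp
    have h1 : G.map (L.map f) ≫ inv (G.map (L.map (resMap L P hres X'))) =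
        inv (G.map (L.map (resMap L P hres X))) ≫ G.map (L.map g) := by
      rw [IsIso.eq_inv_comp, ← Category.assoc, IsIso.comp_inv_eq, ← G.map_comp, ← G.map_comp, hg']
    have h2 := β.naturality g
    have h3 := α.naturality g
    have h4 : F.map g ≫ inv (α.app (resObj L P hres X')) =
        inv (α.app (resObj L P hres X)) ≫ LF.map (L.map g) := by
      rw [IsIso.eq_inv_comp, ← Category.assoc, IsIso.comp_inv_eq]
      exact h3.symm
    simp only [Functor.comp_map] at h2 ⊢
    simp only [Category.assoc]
    rw [reassoc_of% h1, reassoc_of% h2, reassoc_of% h4, ← LF.map_comp, ← LF.map_comp, hg']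

noncomputable def tauLift : G ⟶ LF :=
  Localization.liftNatTrans L W (L ⋙ G) (L ⋙ LF) G LF (tauPre L F P hres hsurj LF α hα G β)

lemma tauLift_app (X : C) :
    (tauLift L W F P hres hsurj LF α hα G β).app (L.obj X) =
      (tauPre L F P hres hsurj LF α hα G β).app X := by
  simp [tauLift]

lemma tauLift_fac : whiskerLeft L (tauLift L W F P hres hsurj LF α hα G β) ≫ α = β := by
  ext X
  haveI := isIso_L_resMap L P hres X
  haveI := hα _ (resObj_prop L P hres X)
  have h1 := α.naturality (resMap L P hres X)
  have h2 := β.naturality (resMap L P hres X)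
  simp only [Functor.comp_map] at h1 h2
  simp only [NatTrans.comp_app, Functor.whiskerLeft_app]
  rw [tauLift_app]
  simp only [tauPre, Category.assoc]
  rw [h1, IsIso.inv_hom_id_assoc, ← h2, IsIso.inv_hom_id_assoc]

include W hres hα in
lemma tau_unique (τ₁ τ₂ : G ⟶ LF) (h₁ : whiskerLeft L τ₁ ≫ α = β)
    (h₂ : whiskerLeft L τ₂ ≫ α = β) : τ₁ = τ₂ := by
  apply Localization.natTrans_ext L W
  intro X
  haveI := isIso_L_resMap L P hres X
  haveI := hα _ (resObj_prop L P hres X)
  have key : ∀ τ : G ⟶ LF, whiskerLeft L τ ≫ α = β → τ.app (L.obj X) =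
      inv (G.map (L.map (resMap L P hres X))) ≫ β.app (resObj L P hres X) ≫
        inv (α.app (resObj L P hres X)) ≫ LF.map (L.map (resMap L P hres X)) := by
    intro τ hτ
    have e1 := τ.naturality (L.map (resMap L P hres X))
    have e2 := congr_app hτ (resObj L P hres X)
    simp only [NatTrans.comp_app, Functor.whiskerLeft_app] at e2
    rw [IsIso.eq_inv_comp, e1, ← e2]
    simp
  rw [key τ₁ h₁, key τ₂ h₂]

end

include hres hsurj hα in
/-- recognition of left derived functors -/
theorem isLeftDerivedFunctor_of_isIso_of_surjective : LF.IsLeftDerivedFunctor α W where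
  isRightKanExtension := ⟨⟨Limits.IsTerminal.ofUniqueHom
    (fun E => CostructuredArrow.homMk (tauLift L W F P hres hsurj LF α hα E.left E.hom)
      (tauLift_fac L W F P hres hsurj LF α hα E.left E.hom))
    (fun E m => by
      apply CostructuredArrow.hom_ext
      exact tau_unique L W F P hres LF α hα E.left E.hom m.left _ (CostructuredArrow.w m)
        (tauLift_fac L W F P hres hsurj LF α hα E.left E.hom))⟩⟩

end Groth.Agent.Lib.Helper1.LDerRes
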