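import Mathlib
import Groth.Prelude.Def_DDual2
import Groth.Agent.Lib.Helper1LBC
import Groth.Agent.Lib.Helper1DT4
import Groth.Agent.S12898

set_option backward.isDefEq.respectTransparency.types false

/-!
# Evaluation at zero `R[x] → R` (helper1)

The short exact sequence `0 → R[x] ⊗ M → R[x] ⊗ M → M → 0` of `R[x]`-modules, natural in the
`R`-module `M`.
-/

set_option autoImplicit false

namespace Groth.Agent.Lib.Helper1.PolyBC

open CategoryTheory Limits Polynomial TensorProduct

universe u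

variable (R : Type u) [CommRing R]

/-- the inclusion of constants -/
noncomputable abbrev ι : R →+* R[X] := Polynomial.C
/-- evaluation at zero -/
noncomputable abbrev φ : R[X] →+* R := Polynomial.evalRingHom (0 : R)

lemma φ_comp_ι : (φ R).comp (ι R) = RingHom.id R := by
  ext r
  simp

variable {R}

/-- the evaluation map `R[x] ⊗ M → M` as a map of `R[x]`-modules -/
noncomputable def ev (M : ModuleCat.{u} R) :
    (ModuleCat.extendScalars.{u, u, u} (ι R)).obj M ⟶ (ModuleCat.restrictScalars (φ R)).obj M :=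
  ((ModuleCat.extendRestrictScalarsAdj (ι R)).homEquiv M
    ((ModuleCat.restrictScalars (φ R)).obj M)).symm
    (ModuleCat.ofHom
      (Y := (ModuleCat.restrictScalars (ι R)).obj ((ModuleCat.restrictScalars (φ R)).obj M))
      { toFun := fun m => m
        map_add' := fun _ _ => rfl
        map_smul' := fun r m => by
          change r • m = (φ R) ((ι R) r) • m
          simp })

lemma ev_tmul (M : ModuleCat.{u} R) (p : R[X]) (m : M) :
    (ev M).hom (p ⊗ₜ m) = (p.eval 0 • m : M) := by
  rfl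

/-- multiplication by `x` on `R[x] ⊗ M` -/
noncomputable def mulX (M : ModuleCat.{u} R) :
    (ModuleCat.extendScalars.{u, u, u} (ι R)).obj M ⟶
      (ModuleCat.extendScalars.{u, u, u} (ι R)).obj M :=
  (X : R[X]) • 𝟙 _

lemma mulX_tmul (M : ModuleCat.{u} R) (p : R[X]) (m : M) :
    (mulX M).hom (p ⊗ₜ m) = ((X * p) ⊗ₜ m : (ModuleCat.extendScalars.{u, u, u} (ι R)).obj M) := by
  rfl

/-- the carrier `R[x]` viewed as an `R`-module -/
abbrev PX (R : Type u) [CommRing R] : Type u :=
  ↑((ModuleCat.restrictScalars (ι R)).obj (ModuleCat.of R[X] R[X]))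

/-- view a polynomial as an element of `PX` -/
def toPX (p : R[X]) : PX R := p
/-- view an element of `PX` as a polynomial -/
def ofPX (p : PX R) : R[X] := p

/-- `divX` on `PX` -/
noncomputable def dX (p : PX R) : PX R := toPX (divX (ofPX p))

lemma dX_zero : dX (0 : PX R) = 0 := divX_zero
lemma dX_add (a b : PX R) : dX (a + b) = dX a + dX b := divX_add
lemma dX_smul (r : R) (a : PX R) : dX (r • a) = r • dX a := divX_C_mul

/-- the additive retraction `p ⊗ m ↦ divX p ⊗ m` of `mulX` -/
noncomputable def divXHom (M : ModuleCat.{u} R) : PX R ⊗[R] M →+ PX R ⊗[R] M :=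
  TensorProduct.liftAddHom
    { toFun := fun p =>
        { toFun := fun m => dX p ⊗ₜ[R] m
          map_zero' := TensorProduct.tmul_zero _ _
          map_add' := fun a b => TensorProduct.tmul_add _ _ _ }
      map_zero' := by
        ext m
        change dX (0 : PX R) ⊗ₜ[R] m = 0
        rw [dX_zero, TensorProduct.zero_tmul]
      map_add' := fun a b => by
        ext m
        change dX (a + b) ⊗ₜ[R] m = dX a ⊗ₜ[R] m + dX b ⊗ₜ[R] m
        rw [dX_add, TensorProduct.add_tmul] }
    (by
      intro r p m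
      change dX (r • p) ⊗ₜ[R] m = dX p ⊗ₜ[R] (r • m)
      rw [dX_smul]
      exact TensorProduct.smul_tmul r (dX p) m)

lemma divXHom_tmul (M : ModuleCat.{u} R) (p : PX R) (m : M) :
    divXHom M (p ⊗ₜ m) = dX p ⊗ₜ m := by
  rfl

/-- the underlying additive map of `mulX` -/
noncomputable def mulXfun (M : ModuleCat.{u} R) (z : PX R ⊗[R] M) : PX R ⊗[R] M := (mulX M).hom z

/-- the underlying additive map of `ev` -/
noncomputable def evfun (M : ModuleCat.{u} R) (z : PX R ⊗[R] M) : M := (ev M).hom z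

lemma mulXfun_add (M : ModuleCat.{u} R) (a b : PX R ⊗[R] M) :
    mulXfun M (a + b) = mulXfun M a + mulXfun M b := map_add (mulX M).hom a b

lemma mulXfun_zero (M : ModuleCat.{u} R) : mulXfun M 0 = 0 := map_zero (mulX M).hom

lemma evfun_add (M : ModuleCat.{u} R) (a b : PX R ⊗[R] M) :
    evfun M (a + b) = evfun M a + evfun M b := map_add (ev M).hom a b

lemma evfun_zero (M : ModuleCat.{u} R) : evfun M 0 = 0 := map_zero (ev M).hom

lemma mulXfun_tmul (M : ModuleCat.{u} R) (p : PX R) (m : M) :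
    mulXfun M (p ⊗ₜ m) = toPX (X * ofPX p) ⊗ₜ m := rfl

lemma evfun_tmul (M : ModuleCat.{u} R) (p : PX R) (m : M) :
    evfun M (p ⊗ₜ m) = (ofPX p).eval 0 • m := rfl

lemma divX_X_mul (q : R[X]) : divX (X * q) = q := by
  ext n
  rw [coeff_divX, coeff_X_mul]

lemma poly_key (q : R[X]) : q = X * divX q + C (q.eval 0) * 1 := by
  rw [mul_one, ← coeff_zero_eq_eval_zero, X_mul_divX_add]

lemma dX_toPX_X_mul (p : PX R) : dX (toPX (X * ofPX p)) = p := divX_X_mul (ofPX p)

lemma px_key (p : PX R) :
    p = toPX (X * ofPX (dX p)) + (ofPX p).eval 0 • toPX (1 : R[X]) := poly_key (ofPX p)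

lemma divXHom_mulXfun (M : ModuleCat.{u} R) (z : PX R ⊗[R] M) :
    divXHom M (mulXfun M z) = z := by
  induction z using TensorProduct.induction_on with
  | zero => rw [mulXfun_zero, map_zero]
  | tmul p m =>
    rw [mulXfun_tmul, divXHom_tmul]
    rw [dX_toPX_X_mul]
  | add a b ha hb => rw [mulXfun_add, map_add, ha, hb]

lemma eq_mulXfun_add (M : ModuleCat.{u} R) (z : PX R ⊗[R] M) :
    z = mulXfun M (divXHom M z) + toPX (1 : R[X]) ⊗ₜ[R] (evfun M z) := by
  induction z using TensorProduct.induction_on with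
  | zero => rw [map_zero, mulXfun_zero, evfun_zero, TensorProduct.tmul_zero, add_zero]
  | tmul p m =>
    rw [divXHom_tmul, mulXfun_tmul, evfun_tmul, ← TensorProduct.smul_tmul, ← TensorProduct.add_tmul]
    rw [← px_key]
  | add a b ha hb =>
    rw [map_add, mulXfun_add, evfun_add, TensorProduct.tmul_add]
    nth_rw 1 [ha, hb]
    abel

lemma mulX_ev (M : ModuleCat.{u} R) : mulX M ≫ ev M = 0 := by
  apply ModuleCat.hom_ext
  apply LinearMap.ext
  intro z
  change (ev M).hom ((X : R[X]) • z) = 0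
  rw [map_smul]
  exact (show (Polynomial.eval 0 (X : R[X]) : R) • (show ↑M from (ev M).hom z) = 0 by simp)

/-- the short complex `R[x] ⊗ M → R[x] ⊗ M → M` -/
noncomputable def sc (M : ModuleCat.{u} R) : ShortComplex (ModuleCat.{u} R[X]) :=
  ShortComplex.mk (mulX M) (ev M) (mulX_ev M)

lemma sc_shortExact (M : ModuleCat.{u} R) : (sc M).ShortExact where
  exact := by
    rw [ShortComplex.moduleCat_exact_iff]
    intro (z : PX R ⊗[R] M) (hz : evfun M z = 0)
    refine ⟨divXHom M z, ?_⟩
    have h := eq_mulXfun_add M z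
    rw [hz, TensorProduct.tmul_zero, add_zero] at h
    exact h.symm
  mono_f := by
    rw [ModuleCat.mono_iff_injective]
    intro (a : PX R ⊗[R] M) (b : PX R ⊗[R] M) (hab : mulXfun M a = mulXfun M b)
    rw [← divXHom_mulXfun M a, hab, divXHom_mulXfun]
  epi_g := by
    rw [ModuleCat.epi_iff_surjective]
    intro (m : M)
    refine ⟨toPX (1 : R[X]) ⊗ₜ[R] m, ?_⟩
    change evfun M (toPX (1 : R[X]) ⊗ₜ[R] m) = m
    rw [evfun_tmul]
    change (1 : R[X]).eval 0 • m = m
    simp

/-- the underlying function of `extendScalars.map f` -/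
noncomputable def extfun {M N : ModuleCat.{u} R} (f : M ⟶ N) (z : PX R ⊗[R] M) : PX R ⊗[R] N :=
  ((ModuleCat.extendScalars.{u, u, u} (ι R)).map f).hom z

lemma extfun_add {M N : ModuleCat.{u} R} (f : M ⟶ N) (a b : PX R ⊗[R] M) :
    extfun f (a + b) = extfun f a + extfun f b :=
  map_add ((ModuleCat.extendScalars.{u, u, u} (ι R)).map f).hom a b

lemma extfun_zero {M N : ModuleCat.{u} R} (f : M ⟶ N) : extfun f (0 : PX R ⊗[R] M) = 0 :=
  map_zero ((ModuleCat.extendScalars.{u, u, u} (ι R)).map f).hom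

lemma extfun_tmul {M N : ModuleCat.{u} R} (f : M ⟶ N) (p : PX R) (m : M) :
    extfun f (p ⊗ₜ m) = p ⊗ₜ f.hom m := rfl

lemma mulX_naturality {M N : ModuleCat.{u} R} (f : M ⟶ N) :
    (ModuleCat.extendScalars.{u, u, u} (ι R)).map f ≫ mulX N =
      mulX M ≫ (ModuleCat.extendScalars.{u, u, u} (ι R)).map f := by
  simp [mulX]

lemma ev_naturality {M N : ModuleCat.{u} R} (f : M ⟶ N) :
    (ModuleCat.extendScalars.{u, u, u} (ι R)).map f ≫ ev N =
      ev M ≫ (ModuleCat.restrictScalars (φ R)).map f := by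
  apply ModuleCat.hom_ext
  apply LinearMap.ext
  intro (z : PX R ⊗[R] M)
  change evfun N (extfun f z) = f.hom (evfun M z)
  induction z using TensorProduct.induction_on with
  | zero => rw [extfun_zero, evfun_zero, evfun_zero, map_zero]
  | tmul p m => rw [extfun_tmul, evfun_tmul, evfun_tmul, map_smul]
  | add a b ha hb => rw [extfun_add, evfun_add, evfun_add, map_add, ha, hb]

/-- `mulX` as a natural transformation -/
noncomputable def mulXNat : ModuleCat.extendScalars.{u, u, u} (ι R) ⟶
    ModuleCat.extendScalars.{u, u, u} (ι R) where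
  app M := mulX M
  naturality _ _ f := mulX_naturality f

/-- `ev` as a natural transformation -/
noncomputable def evNat : ModuleCat.extendScalars.{u, u, u} (ι R) ⟶
    ModuleCat.restrictScalars (φ R) where
  app M := ev M
  naturality _ _ f := ev_naturality f

section general

variable {A B : Type u} [CommRing A] [CommRing B] (f : A →+* B)

/-- `B` as an `A`-module -/
noncomputable abbrev resB : ModuleCat.{u} A :=
  (ModuleCat.restrictScalars.{u} f).obj (ModuleCat.of B B)

lemma extendScalars_map_smul_id_apply (a : A) (M : ModuleCat.{u} A)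
    (z : TensorProduct A (resB f) M) :
    ((ModuleCat.extendScalars.{u, u, u} f).map (a • 𝟙 M)).hom z =
      (f a • 𝟙 ((ModuleCat.extendScalars.{u, u, u} f).obj M)).hom z := by
  induction z using TensorProduct.induction_on with
  | zero =>
    exact (map_zero ((ModuleCat.extendScalars.{u, u, u} f).map (a • 𝟙 M)).hom).trans
      (map_zero (f a • 𝟙 ((ModuleCat.extendScalars.{u, u, u} f).obj M)).hom).symm
  | tmul b m =>
    have e1 : ((ModuleCat.extendScalars.{u, u, u} f).map (a • 𝟙 M)).hom (b ⊗ₜ[A] m) =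
        b ⊗ₜ[A] (a • m) := rfl
    have e2 : (f a • 𝟙 ((ModuleCat.extendScalars.{u, u, u} f).obj M)).hom (b ⊗ₜ[A] m) =
        (a • b) ⊗ₜ[A] m := rfl
    rw [e1, e2, TensorProduct.smul_tmul]
  | add x y hx hy =>
    have e1 : ((ModuleCat.extendScalars.{u, u, u} f).map (a • 𝟙 M)).hom
        ((x : ((ModuleCat.extendScalars.{u, u, u} f).obj M)) + y) =
        ((ModuleCat.extendScalars.{u, u, u} f).map (a • 𝟙 M)).hom x +
          ((ModuleCat.extendScalars.{u, u, u} f).map (a • 𝟙 M)).hom y := map_add _ _ _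
    have e2 : (f a • 𝟙 ((ModuleCat.extendScalars.{u, u, u} f).obj M)).hom
        ((x : ((ModuleCat.extendScalars.{u, u, u} f).obj M)) + y) =
        (f a • 𝟙 ((ModuleCat.extendScalars.{u, u, u} f).obj M)).hom x +
          (f a • 𝟙 ((ModuleCat.extendScalars.{u, u, u} f).obj M)).hom y := map_add _ _ _
    exact e1.trans ((congrArg₂ (· + ·) hx hy).trans e2.symm)

lemma extendScalars_map_smul_id (a : A) (M : ModuleCat.{u} A) :
    (ModuleCat.extendScalars.{u, u, u} f).map (a • 𝟙 M) = f a • 𝟙 _ := by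
  apply ModuleCat.hom_ext
  apply LinearMap.ext
  exact extendScalars_map_smul_id_apply f a M

end general

section complexes

open DerivedCategory Pretriangulated Groth.Agent.Lib.Helper1.LDer Groth.Agent.Lib.Helper1.DT

attribute [local instance] HasDerivedCategory.standard

variable (P : CochainComplex (ModuleCat.{u} R) ℤ)

/-- `P[x]` -/
noncomputable abbrev FX : CochainComplex (ModuleCat.{u} R[X]) ℤ :=
  ((ModuleCat.extendScalars.{u, u, u} (ι R)).mapHomologicalComplex (ComplexShape.up ℤ)).obj P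

/-- multiplication by `x` on `P[x]` -/
noncomputable def sX : FX P ⟶ FX P :=
  (NatTrans.mapHomologicalComplex (mulXNat (R := R)) (ComplexShape.up ℤ)).app P

/-- evaluation at zero `P[x] → P` -/
noncomputable def eX : FX P ⟶ (DRing.restrictCx (φ R)).obj P :=
  (NatTrans.mapHomologicalComplex (evNat (R := R)) (ComplexShape.up ℤ)).app P

lemma sX_eX : sX P ≫ eX P = 0 := by
  apply HomologicalComplex.hom_ext
  intro i
  exact mulX_ev (P.X i)

/-- the short exact sequence `0 → P[x] → P[x] → P → 0` -/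
noncomputable def scX : ShortComplex (CochainComplex (ModuleCat.{u} R[X]) ℤ) :=
  ShortComplex.mk (sX P) (eX P) (sX_eX P)

lemma scX_shortExact : (scX P).ShortExact :=
  HomologicalComplex.shortExact_of_degreewise_shortExact _ (fun i => sc_shortExact (P.X i))

lemma bcCx_map_sX : (bcCx (φ R)).map (sX P) = 0 := by
  apply HomologicalComplex.hom_ext
  intro i
  change (ModuleCat.extendScalars.{u, u, u} (φ R)).map
    ((X : R[X]) • 𝟙 ((ModuleCat.extendScalars.{u, u, u} (ι R)).obj (P.X i))) = 0
  rw [extendScalars_map_smul_id]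
  simp

/-- `R ⊗_{R[x]} (R[x] ⊗_R M) ≅ M` -/
noncomputable def extExtIso :
    ModuleCat.extendScalars.{u, u, u} (ι R) ⋙ ModuleCat.extendScalars.{u, u, u} (φ R) ≅ 𝟭 _ :=
  (ModuleCat.extendScalarsComp (ι R) (φ R)).symm ≪≫
    eqToIso (by rw [φ_comp_ι]) ≪≫ ModuleCat.extendScalarsId R

/-- `R ⊗_{R[x]} P[x] ≅ P` -/
noncomputable def bcFXIso : (bcCx (φ R)).obj (FX P) ≅ P :=
  HomologicalComplex.Hom.isoOfComponents (fun i => (extExtIso (R := R)).app (P.X i))
    (fun i j _ => ((extExtIso (R := R)).hom.naturality (P.d i j)).symm)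

variable [DRing.HasLBaseChange (φ R)]

lemma LBC_map_Q_map_sX [P.IsKProjective] :
    (DRing.LBaseChange (φ R)).map (Q.map (sX P)) = 0 := by
  have h := lbcIso_hom_naturality (φ R) (sX P)
  rw [bcCx_map_sX, Functor.map_zero, Limits.comp_zero] at h
  rw [← cancel_mono (lbcIso (φ R) (FX P)).hom, h, Limits.zero_comp]

theorem main (K : Dual.D R) :
    Nonempty ((DRing.LBaseChange (φ R)).obj ((DRing.restrictD (φ R)).obj K) ≅
      K ⊞ (shiftFunctor (Dual.D R) (1 : ℤ)).obj K) := by
  obtain ⟨P, hP, -, ⟨e⟩⟩ := exists_kproj_iso K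
  obtain ⟨adj⟩ := Groth.Agent.S12898.result (φ R)
  letI : (DRing.LBaseChange (φ R)).CommShift ℤ := adj.leftAdjointCommShift ℤ
  haveI : adj.CommShift ℤ := adj.commShift_of_rightAdjoint ℤ
  haveI : (DRing.LBaseChange (φ R)).IsTriangulated := adj.isTriangulated_leftAdjoint
  have hT := triangleOfSES_distinguished (scX_shortExact P)
  have hT' := (DRing.LBaseChange (φ R)).map_distinguished _ hT
  have hrot := rot_of_distTriang _ hT'
  have zero : ((DRing.LBaseChange (φ R)).mapTriangle.obj
      (triangleOfSES (scX_shortExact P))).rotate.mor₃ = 0 := by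
    change -((DRing.LBaseChange (φ R)).map (Q.map (sX P)))⟦(1 : ℤ)⟧' = 0
    rw [LBC_map_Q_map_sX, Functor.map_zero, neg_zero]
  obtain ⟨e2, -, -⟩ := exists_iso_binaryBiproduct_of_distTriang _ hrot zero
  have iso3 : (DRing.LBaseChange (φ R)).obj (Q.obj (FX P)) ≅ K :=
    lbcIso (φ R) (FX P) ≪≫ Q.mapIso (bcFXIso P) ≪≫ e
  have iso1 : (DRing.LBaseChange (φ R)).obj ((DRing.restrictD (φ R)).obj K) ≅
      (DRing.LBaseChange (φ R)).obj (Q.obj ((DRing.restrictCx (φ R)).obj P)) :=
    (DRing.LBaseChange (φ R)).mapIso ((DRing.restrictD (φ R)).mapIso e.symm ≪≫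
      ((ModuleCat.restrictScalars.{u} (φ R)).mapDerivedCategoryFactors.app P))
  exact ⟨iso1 ≪≫ e2 ≪≫ biprod.mapIso iso3 ((shiftFunctor (Dual.D R) (1 : ℤ)).mapIso iso3)⟩

end complexes

end Groth.Agent.Lib.Helper1.PolyBC
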