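import Mathlib
import Groth.Agent.Lib.Helper1Extend
import Groth.Agent.Lib.Helper1PolyBC

/-!
# Localization of modules in terms of `extendScalars` (helper5)

Let `B` be a localization of `A` at the submonoid `S`.  For the functor
`ext A B = extendScalars (algebraMap A B)` we prove:
* `exists_lift_hom`: for `M` finitely presented, every `B`-linear map `M_S ⟶ N_S` becomes, after
  multiplication by some `s ∈ S`, the localization of a map `M ⟶ N`;
* `exists_smul_eq_zero`: for `M` finite, a map `M ⟶ N` whose localization vanishes is killed by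
  some `s ∈ S`;
* `injective_ext`: over a Noetherian ring the localization of an injective module is injective.
-/

set_option autoImplicit false
universe u
open CategoryTheory CategoryTheory.Limits

namespace Groth.Agent.Lib.Helper5.LocD

open Groth.Agent.Lib.Helper1.Extend TensorProduct
open scoped ChangeOfRings

variable {A : Type u} [CommRing A] (S : Submonoid A) (B : Type u) [CommRing B] [Algebra A B]

/-- `ext` is compatible with scalar multiplication. -/
lemma ext_map_smul {M N : ModuleCat.{u} A} (c : A) (g : M ⟶ N) :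
    (ext A B).map (c • g) = algebraMap A B c • (ext A B).map g := by
  have h1 : c • g = (c • 𝟙 M) ≫ g := by rw [Linear.smul_comp, Category.id_comp]
  rw [h1, Functor.map_comp,
    Groth.Agent.Lib.Helper1.PolyBC.extendScalars_map_smul_id (algebraMap A B) c M,
    Linear.smul_comp, Category.id_comp]

/-- the element `1 ⊗ m` of `B ⊗ M`. -/
noncomputable def oneT (M : ModuleCat.{u} A) (m : M) : ((ext A B).obj M : Type u) :=
  (1 : B) ⊗ₜ[A, algebraMap A B] m

lemma map_oneT {M N : ModuleCat.{u} A} (g : M ⟶ N) (m : M) :
    ((ext A B).map g).hom (oneT B M m) = oneT B N (g.hom m) := rfl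

lemma extEquiv_oneT (M : ModuleCat.{u} A) (m : M) :
    extEquiv (A := A) (B := B) M (oneT B M m) = (1 : B) ⊗ₜ[A] m := rfl

lemma oneT_add (M : ModuleCat.{u} A) (m m' : M) :
    oneT B M (m + m') = oneT B M m + oneT B M m' :=
  TensorProduct.tmul_add _ _ _

lemma hom_ext_oneT {M : ModuleCat.{u} A} {N : ModuleCat.{u} B}
    {α β : (ext A B).obj M ⟶ N} (h : ∀ m : M, α.hom (oneT B M m) = β.hom (oneT B M m)) :
    α = β :=
  ModuleCat.ExtendScalars.hom_ext h

variable [IsLocalization S B]

/-- the `A`-linear map `m ↦ g' (1 ⊗ m)`, with values in the honest tensor product. -/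
noncomputable def adjMap {M N : ModuleCat.{u} A} (g' : (ext A B).obj M ⟶ (ext A B).obj N) :
    M →ₗ[A] TensorProduct A B N where
  toFun m := extEquiv (A := A) (B := B) N (g'.hom (oneT B M m))
  map_add' m m' := by
    rw [oneT_add, map_add, map_add]
  map_smul' a m := by
    have h1 : oneT B M (a • m) = algebraMap A B a • oneT B M m :=
      (ModuleCat.ExtendRestrictScalarsAdj.Unit.map (algebraMap A B) (X := M)).hom.map_smul a m
    rw [h1, map_smul, map_smul, RingHom.id_apply, algebraMap_smul]

lemma adjMap_apply {M N : ModuleCat.{u} A} (g' : (ext A B).obj M ⟶ (ext A B).obj N) (m : M) :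
    adjMap B g' m = extEquiv (A := A) (B := B) N (g'.hom (oneT B M m)) := rfl

theorem exists_lift_hom (M N : ModuleCat.{u} A) [Module.FinitePresentation A M]
    (g' : (ext A B).obj M ⟶ (ext A B).obj N) :
    ∃ s ∈ S, ∃ g : M ⟶ N, (ext A B).map g = algebraMap A B s • g' := by
  obtain ⟨h, s, hs⟩ := Module.FinitePresentation.exists_lift_of_isLocalizedModule S
    (TensorProduct.mk A B N 1) (adjMap B g')
  refine ⟨s, s.2, ModuleCat.ofHom h, hom_ext_oneT B fun m => ?_⟩
  apply (extEquiv (A := A) (B := B) N).injective
  have h1 := LinearMap.congr_fun hs m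
  have h2 : extEquiv (A := A) (B := B) N (((ext A B).map (ModuleCat.ofHom h)).hom (oneT B M m)) =
      (1 : B) ⊗ₜ[A] h m := rfl
  have h3 : (algebraMap A B (s : A) • g').hom (oneT B M m) =
      algebraMap A B (s : A) • g'.hom (oneT B M m) := rfl
  rw [h2, h3, map_smul, algebraMap_smul]
  exact h1

theorem exists_smul_eq_zero (M N : ModuleCat.{u} A) [Module.Finite A M]
    (g : M ⟶ N) (hg : (ext A B).map g = 0) : ∃ s ∈ S, s • g = 0 := by
  have h : (TensorProduct.mk A B N 1) ∘ₗ g.hom = (TensorProduct.mk A B N 1) ∘ₗ 0 := by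
    apply LinearMap.ext
    intro m
    have h2 : extEquiv (A := A) (B := B) N (((ext A B).map g).hom (oneT B M m)) =
        (1 : B) ⊗ₜ[A] g.hom m := rfl
    rw [hg] at h2
    have h3 : ((0 : (ext A B).obj M ⟶ (ext A B).obj N)).hom (oneT B M m) = 0 := rfl
    rw [h3, map_zero] at h2
    simpa using h2.symm
  obtain ⟨s, hs⟩ := Module.Finite.exists_smul_of_comp_eq_of_isLocalizedModule S
    (TensorProduct.mk A B N 1) g.hom 0 h
  refine ⟨s, s.2, ?_⟩
  apply ModuleCat.hom_ext
  rw [smul_zero] at hs
  exact hs

include S in
theorem injective_ext [IsNoetherianRing A] (I : ModuleCat.{u} A) [Module.Injective A I] :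
    Module.Injective B ((ext A B).obj I) := by
  have h1 : Module.Injective B (TensorProduct A B I) :=
    Module.injective_of_isLocalizedModule S (TensorProduct.mk A B I 1)
  exact (Module.Baer.of_equiv (extEquiv (A := A) (B := B) I).symm
    (Module.Baer.of_injective h1)).injective

end Groth.Agent.Lib.Helper5.LocD
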