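import Mathlib
import Groth.Agent.Lib.Helper5LocDA

/-!
# Localization of the Hom complex (helper5)

`B` is a localization of `A` at `S`.  For `P` a bounded above complex of finitely presented
modules and `E` a bounded below complex, cochains (hence chain maps and homotopies) between the
localized complexes come, up to multiplication by an element of `S`, from cochains `P → E`.
-/

set_option autoImplicit false
universe u
open CategoryTheory CategoryTheory.Limits

namespace Groth.Agent.Lib.Helper5.LocD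

open Groth.Agent.Lib.Helper1.Extend CochainComplex HomComplex

variable {A : Type u} [CommRing A] (S : Submonoid A) (B : Type u) [CommRing B] [Algebra A B]

/-- termwise localization of complexes -/
noncomputable abbrev eCx :
    CochainComplex (ModuleCat.{u} A) ℤ ⥤ CochainComplex (ModuleCat.{u} B) ℤ :=
  (ext A B).mapHomologicalComplex (ComplexShape.up ℤ)

lemma cochain_map_smul {P E : CochainComplex (ModuleCat.{u} A) ℤ} {n : ℤ} (c : A)
    (z : Cochain P E n) :
    (c • z).map (ext A B) = algebraMap A B c • z.map (ext A B) := by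
  refine Cochain.ext _ _ (fun p q hpq => ?_)
  rw [Cochain.map_v, Cochain.smul_v, Cochain.smul_v, Cochain.map_v]
  exact ext_map_smul B c _

lemma ofHom_smul {R : Type u} [CommRing R] {F G : CochainComplex (ModuleCat.{u} R) ℤ} (b : R)
    (f : F ⟶ G) : Cochain.ofHom (b • f) = b • Cochain.ofHom f := by
  apply Cochain.ext₀
  intro p
  rw [Cochain.ofHom_v, Cochain.smul_v, Cochain.ofHom_v, HomologicalComplex.smul_f_apply]

section

variable [IsLocalization S B] (P E : CochainComplex (ModuleCat.{u} A) ℤ) (bP a : ℤ)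
  (hP : ∀ i : ℤ, bP < i → IsZero (P.X i)) (hE : ∀ i : ℤ, i < a → IsZero (E.X i))
  (hfp : ∀ i : ℤ, Module.FinitePresentation A (P.X i))

include hP hE hfp in
theorem cochain_surj (n : ℤ) (z' : Cochain ((eCx B).obj P) ((eCx B).obj E) n) :
    ∃ s ∈ S, ∃ z : Cochain P E n, z.map (ext A B) = algebraMap A B s • z' := by
  classical
  have key : ∀ (p q : ℤ) (hpq : p + n = q), ∃ s : S, ∃ g : P.X p ⟶ E.X q,
      (ext A B).map g = algebraMap A B (s : A) • z'.v p q hpq := by
    intro p q hpq
    haveI := hfp p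
    obtain ⟨s, hs, g, hg⟩ := exists_lift_hom S B (P.X p) (E.X q) (z'.v p q hpq)
    exact ⟨⟨s, hs⟩, g, hg⟩
  choose s g hg using key
  let J : Finset ℤ := Finset.Icc (a - n) bP
  let σ : ℤ → A := fun p => ((s p (p + n) rfl : S) : A)
  refine ⟨∏ p ∈ J, σ p, Submonoid.prod_mem S (fun p _ => (s p (p + n) rfl).2),
    Cochain.mk (fun p q hpq => (∏ x ∈ J.erase p, σ x) • g p q hpq), ?_⟩
  refine Cochain.ext _ _ (fun p q hpq => ?_)
  rw [Cochain.map_v, Cochain.mk_v, Cochain.smul_v]
  by_cases hp : p ∈ J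
  · subst hpq
    have hσ : (∏ x ∈ J.erase p, σ x) * ((s p (p + n) rfl : S) : A) = ∏ x ∈ J, σ x :=
      Finset.prod_erase_mul J σ hp
    have hfin : ∀ (X Y : ModuleCat.{u} B) (c d e : B) (w : X ⟶ Y), c * d = e →
        c • d • w = e • w := fun X Y c d e w h => by rw [smul_smul, h]
    rw [ext_map_smul, hg]
    exact hfin _ _ _ _ _ _ (by rw [← map_mul, hσ])
  · have hz : IsZero (((eCx B).obj P).X p) ∨ IsZero (((eCx B).obj E).X q) := by
      by_cases h1 : bP < p
      · exact Or.inl ((ext A B).map_isZero (hP p h1))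
      · refine Or.inr ((ext A B).map_isZero (hE q ?_))
        simp only [J, Finset.mem_Icc, not_and_or, not_le] at hp
        lia
    rcases hz with hz | hz
    · exact hz.eq_of_src _ _
    · exact hz.eq_of_tgt _ _

include hP hE hfp in
theorem cochain_inj (n : ℤ) (z : Cochain P E n) (hz : z.map (ext A B) = 0) :
    ∃ s ∈ S, s • z = 0 := by
  classical
  have key : ∀ (p q : ℤ) (hpq : p + n = q), ∃ s : S, (s : A) • z.v p q hpq = 0 := by
    intro p q hpq
    haveI := hfp p
    have h0 : (ext A B).map (z.v p q hpq) = 0 := by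
      have := Cochain.congr_v hz p q hpq
      rwa [Cochain.map_v, Cochain.zero_v] at this
    obtain ⟨s, hs, h⟩ := exists_smul_eq_zero S B (P.X p) (E.X q) (z.v p q hpq) h0
    exact ⟨⟨s, hs⟩, h⟩
  choose s hs using key
  let J : Finset ℤ := Finset.Icc (a - n) bP
  let σ : ℤ → A := fun p => ((s p (p + n) rfl : S) : A)
  refine ⟨∏ p ∈ J, σ p, Submonoid.prod_mem S (fun p _ => (s p (p + n) rfl).2), ?_⟩
  refine Cochain.ext _ _ (fun p q hpq => ?_)
  rw [Cochain.smul_v, Cochain.zero_v]
  by_cases hp : p ∈ J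
  · subst hpq
    have hσ : (∏ x ∈ J.erase p, σ x) * ((s p (p + n) rfl : S) : A) = ∏ x ∈ J, σ x :=
      Finset.prod_erase_mul J σ hp
    rw [← hσ, mul_smul, hs, smul_zero]
  · have hz : IsZero (P.X p) ∨ IsZero (E.X q) := by
      by_cases h1 : bP < p
      · exact Or.inl (hP p h1)
      · refine Or.inr (hE q ?_)
        simp only [J, Finset.mem_Icc, not_and_or, not_le] at hp
        lia
    rcases hz with hz | hz
    · rw [hz.eq_of_src (z.v p q hpq) 0, smul_zero]
    · exact hz.eq_of_tgt _ _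

include hP hE hfp in
theorem surj_cx (f' : (eCx B).obj P ⟶ (eCx B).obj E) :
    ∃ s ∈ S, ∃ f : P ⟶ E, (eCx B).map f = algebraMap A B s • f' := by
  obtain ⟨s, hs, z, hz⟩ := cochain_surj S B P E bP a hP hE hfp 0 (Cochain.ofHom f')
  have h1 : (δ 0 1 z).map (ext A B) = 0 := by
    rw [← δ_map, hz, δ_smul, δ_ofHom, smul_zero]
  obtain ⟨s', hs', hz'⟩ := cochain_inj S B P E bP a hP hE hfp 1 (δ 0 1 z) h1
  have hc : δ 0 1 (s' • z) = 0 := by rw [δ_smul, hz', ]
  refine ⟨s' * s, S.mul_mem hs' hs, Cocycle.homOf (Cocycle.mk (s' • z) 1 (zero_add 1) hc), ?_⟩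
  apply Cochain.ofHom_injective
  rw [← Cochain.map_ofHom, Cocycle.cochain_ofHom_homOf_eq_coe, Cocycle.mk_coe, cochain_map_smul,
    hz, smul_smul, ← map_mul, ofHom_smul]

include hP hE hfp in
theorem inj_cx (f : P ⟶ E) (h : Homotopy ((eCx B).map f) 0) :
    ∃ s ∈ S, Nonempty (Homotopy (s • f) 0) := by
  obtain ⟨h', hh'⟩ := Cochain.equivHomotopy _ _ h
  rw [Cochain.ofHom_zero, add_zero] at hh'
  obtain ⟨s, hs, z, hz⟩ := cochain_surj S B P E bP a hP hE hfp (-1) h'
  have h1 : (s • Cochain.ofHom f - δ (-1) 0 z).map (ext A B) = 0 := by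
    rw [Cochain.map_sub, cochain_map_smul, Cochain.map_ofHom, ← δ_map, hz, hh', δ_smul, sub_self]
  obtain ⟨s', hs', hw⟩ := cochain_inj S B P E bP a hP hE hfp 0 _ h1
  rw [smul_sub, sub_eq_zero] at hw
  refine ⟨s' * s, S.mul_mem hs' hs, ⟨(Cochain.equivHomotopy _ _).symm ⟨s' • z, ?_⟩⟩⟩
  rw [Cochain.ofHom_zero, add_zero, δ_smul, ← hw, smul_smul, ofHom_smul]

end

end Groth.Agent.Lib.Helper5.LocD
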