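import Mathlib
import Groth.Agent.Lib.Helper5LocDB
import Groth.Agent.Lib.Helper5BiDualB

/-!
# Localization of morphisms in the derived category (helper5)

`B` is a localization of the Noetherian ring `A` at `S`, and `extD A B : D(A) ⥤ D(B)` the induced
functor.  For `K` represented by a bounded above complex of finitely presented modules and `Y`
represented by a bounded below complex of injectives, `Hom(K_S, Y_S)` is the localization of
`Hom(K, Y)`: `LI_inj` and `LI_surj`.
-/

set_option autoImplicit false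
universe u
open CategoryTheory CategoryTheory.Limits
attribute [local instance] HasDerivedCategory.standard

namespace Groth.Agent.Lib.Helper5.LocD

open DerivedCategory Groth.Agent.Lib.Helper1.Extend Groth.Agent.Lib.Helper5.BiDual

section General

variable {R : Type u} [CommRing R]

lemma homotopy_of_Q_map_eq {K L : CochainComplex (ModuleCat.{u} R) ℤ} [L.IsKInjective]
    (f g : K ⟶ L) (h : Q.map f = Q.map g) : Nonempty (Homotopy f g) := by
  have h' : Qh.map ((HomotopyCategory.quotient _ _).map f) =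
      Qh.map ((HomotopyCategory.quotient _ _).map g) := h
  exact ⟨HomotopyCategory.homotopyOfEq _ _
    ((CochainComplex.IsKInjective.Qh_map_bijective _ L).injective h')⟩

lemma isKInjective_of_bddBelow (E : CochainComplex (ModuleCat.{u} R) ℤ) (a : ℤ)
    (h : ∀ i : ℤ, i < a → IsZero (E.X i)) (hinj : ∀ i : ℤ, Module.Injective R (E.X i)) :
    E.IsKInjective := by
  haveI : E.IsStrictlyGE a := by
    rw [CochainComplex.isStrictlyGE_iff]
    exact h
  haveI : ∀ n : ℤ, Injective (E.X n) := fun n => by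
    haveI := hinj n
    exact Module.injective_object_of_injective_module (R := R) (M := E.X n)
  exact CochainComplex.isKInjective_of_injective E a

/-- `K` is represented by a bounded above complex of finitely presented modules. -/
def HasFPRes (K : Dual.D R) : Prop :=
  ∃ (P : CochainComplex (ModuleCat.{u} R) ℤ) (b : ℤ), (∀ i : ℤ, b < i → IsZero (P.X i)) ∧
    (∀ i : ℤ, Module.FinitePresentation R (P.X i)) ∧ Nonempty (Q.obj P ≅ K)

/-- `Y` is represented by a bounded below complex of injective modules. -/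
def HasInjRes (Y : Dual.D R) : Prop :=
  ∃ (E : CochainComplex (ModuleCat.{u} R) ℤ) (a : ℤ), (∀ i : ℤ, i < a → IsZero (E.X i)) ∧
    (∀ i : ℤ, Module.Injective R (E.X i)) ∧ Nonempty (Q.obj E ≅ Y)

lemma hasFPRes_of_pc' (K : Dual.D R) (h : DRing.IsPseudoCoherent' R K) : HasFPRes K := by
  obtain ⟨E, b, hE, hff, ⟨e⟩⟩ := h
  refine ⟨E, b, hE, fun i => ?_, ⟨e⟩⟩
  haveI := (hff i).1
  haveI := (hff i).2
  exact Module.finitePresentation_of_projective R (E.X i)

lemma hasInjRes_of_res {Y : Dual.D R} (T : Res Y) : HasInjRes Y :=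
  ⟨T.E, T.a, fun i hi => T.van i (Or.inl hi), T.inj, ⟨T.e⟩⟩

lemma HasInjRes.of_iso {Y Y' : Dual.D R} (e : Y ≅ Y') (h : HasInjRes Y) : HasInjRes Y' := by
  obtain ⟨E, a, hE, hinj, ⟨e'⟩⟩ := h
  exact ⟨E, a, hE, hinj, ⟨e' ≪≫ e⟩⟩

lemma HasFPRes.of_iso {K K' : Dual.D R} (e : K ≅ K') (h : HasFPRes K) : HasFPRes K' := by
  obtain ⟨P, b, hP, hfp, ⟨e'⟩⟩ := h
  exact ⟨P, b, hP, hfp, ⟨e' ≪≫ e⟩⟩

lemma HasInjRes.shift {Y : Dual.D R} (h : HasInjRes Y) (n : ℤ) : HasInjRes (Y⟦n⟧) := by
  obtain ⟨E, a, hE, hinj, ⟨e⟩⟩ := h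
  refine ⟨E⟦n⟧, a - n, fun i hi => hE (i + n) (by lia), fun i => hinj (i + n),
    ⟨(Q.commShiftIso n).app E ≪≫ (shiftFunctor (Dual.D R) n).mapIso e⟩⟩

end General

variable {A : Type u} [CommRing A] (S : Submonoid A) (B : Type u) [CommRing B] [Algebra A B]
  [Module.Flat A B]

lemma mapQ_naturality {K L : CochainComplex (ModuleCat.{u} A) ℤ} (f : K ⟶ L) :
    (extD A B).map (Q.map f) ≫ (mapQIso (ext A B) L).hom =
      (mapQIso (ext A B) K).hom ≫ Q.map ((eCx B).map f) :=
  (ext A B).mapDerivedCategoryFactors.hom.naturality f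

lemma eCx_map_smul_id (c : A) (K : CochainComplex (ModuleCat.{u} A) ℤ) :
    (eCx B).map (c • 𝟙 K) = algebraMap A B c • 𝟙 _ := by
  refine HomologicalComplex.hom_ext _ _ fun i => ?_
  have h1 : ((eCx B).map (c • 𝟙 K)).f i = (ext A B).map (c • 𝟙 (K.X i)) := rfl
  have h2 : (algebraMap A B c • 𝟙 ((eCx B).obj K)).f i =
      algebraMap A B c • 𝟙 ((ext A B).obj (K.X i)) := rfl
  rw [h1, h2, ext_map_smul, CategoryTheory.Functor.map_id]

lemma extD_map_smul_id_Q (c : A) (K : CochainComplex (ModuleCat.{u} A) ℤ) :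
    (extD A B).map (c • 𝟙 (Q.obj K)) = algebraMap A B c • 𝟙 _ := by
  have h0 : c • 𝟙 (Q.obj K) = Q.map (c • 𝟙 K) := by
    rw [Functor.map_smul, CategoryTheory.Functor.map_id]
  have h1 := mapQ_naturality B (c • 𝟙 K)
  have h5 : Q.map (algebraMap A B c • 𝟙 ((eCx B).obj K)) =
      algebraMap A B c • 𝟙 (Q.obj ((eCx B).obj K)) := by
    rw [Functor.map_smul, CategoryTheory.Functor.map_id]
  rw [← h0, eCx_map_smul_id, h5, Linear.comp_smul, Category.comp_id] at h1
  rw [← cancel_mono (mapQIso (ext A B) K).hom, h1, Linear.smul_comp, Category.id_comp]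

lemma extD_map_smul_id (c : A) (X : Dual.D A) :
    (extD A B).map (c • 𝟙 X) = algebraMap A B c • 𝟙 _ := by
  let e : Q.obj (Q.objPreimage X) ≅ X := Q.objObjPreimageIso X
  have h1 : c • 𝟙 X = e.inv ≫ (c • 𝟙 (Q.obj (Q.objPreimage X))) ≫ e.hom := by
    rw [Linear.smul_comp, Linear.comp_smul, Category.id_comp, e.inv_hom_id]
  rw [h1, Functor.map_comp, Functor.map_comp, extD_map_smul_id_Q, Linear.smul_comp,
    Linear.comp_smul, Category.id_comp, ← Functor.map_comp, e.inv_hom_id, CategoryTheory.Functor.map_id]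

theorem extD_map_smul (c : A) {X Y : Dual.D A} (t : X ⟶ Y) :
    (extD A B).map (c • t) = algebraMap A B c • (extD A B).map t := by
  have h1 : c • t = (c • 𝟙 X) ≫ t := by rw [Linear.smul_comp, Category.id_comp]
  rw [h1, Functor.map_comp, extD_map_smul_id, Linear.smul_comp, Category.id_comp]

section LI

variable [IsNoetherianRing A] [IsLocalization S B] {K Y : Dual.D A}

include S in
lemma isKInjective_eCx (E : CochainComplex (ModuleCat.{u} A) ℤ) (a : ℤ)
    (hE : ∀ i : ℤ, i < a → IsZero (E.X i)) (hinj : ∀ i : ℤ, Module.Injective A (E.X i)) :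
    ((eCx B).obj E).IsKInjective :=
  isKInjective_of_bddBelow _ a (fun i hi => (ext A B).map_isZero (hE i hi))
    (fun i => by
      haveI := hinj i
      exact injective_ext S B (E.X i))

theorem LI_inj (hK : HasFPRes K) (hY : HasInjRes Y) (t : K ⟶ Y)
    (ht : (extD A B).map t = 0) : ∃ s ∈ S, s • t = 0 := by
  obtain ⟨P, bP, hP, hfp, ⟨eK⟩⟩ := hK
  obtain ⟨E, a, hE, hinj, ⟨eY⟩⟩ := hY
  haveI : E.IsKInjective := isKInjective_of_bddBelow E a hE hinj
  haveI : ((eCx B).obj E).IsKInjective := isKInjective_eCx S B E a hE hinj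
  obtain ⟨f, hf⟩ := exists_Q_map_eq (eK.hom ≫ t ≫ eY.inv)
  have h1 : Q.map ((eCx B).map f) = 0 := by
    have h := mapQ_naturality B f
    rw [hf, Functor.map_comp, Functor.map_comp, ht, zero_comp, comp_zero, zero_comp] at h
    exact (cancel_epi (mapQIso (ext A B) P).hom).1 (h.symm.trans comp_zero.symm)
  obtain ⟨h⟩ := homotopy_of_Q_map_eq _ _ (h1.trans (Functor.map_zero _ _ _).symm)
  obtain ⟨s, hs, ⟨h2⟩⟩ := inj_cx S B P E bP a hP hE hfp f h
  refine ⟨s, hs, ?_⟩
  have h3 : Q.map (s • f) = 0 := (Q_map_eq_of_homotopy _ h2).trans (Functor.map_zero _ _ _)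
  rw [Functor.map_smul, hf] at h3
  have h4 : s • t = eK.inv ≫ (s • (eK.hom ≫ t ≫ eY.inv)) ≫ eY.hom := by
    rw [Linear.smul_comp, Linear.comp_smul, Category.assoc, Category.assoc, eY.inv_hom_id,
      Category.comp_id, eK.inv_hom_id_assoc]
  rw [h4, h3, zero_comp, comp_zero]

theorem LI_surj (hK : HasFPRes K) (hY : HasInjRes Y)
    (u : (extD A B).obj K ⟶ (extD A B).obj Y) :
    ∃ s ∈ S, ∃ t : K ⟶ Y, algebraMap A B s • u = (extD A B).map t := by
  obtain ⟨P, bP, hP, hfp, ⟨eK⟩⟩ := hK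
  obtain ⟨E, a, hE, hinj, ⟨eY⟩⟩ := hY
  haveI : ((eCx B).obj E).IsKInjective := isKInjective_eCx S B E a hE hinj
  obtain ⟨f', hf'⟩ := exists_Q_map_eq ((mapQIso (ext A B) P).inv ≫ (extD A B).map eK.hom ≫ u ≫
    (extD A B).map eY.inv ≫ (mapQIso (ext A B) E).hom)
  obtain ⟨s, hs, f, hf⟩ := surj_cx S B P E bP a hP hE hfp f'
  refine ⟨s, hs, eK.inv ≫ Q.map f ≫ eY.hom, ?_⟩
  have h1 := mapQ_naturality B f
  rw [hf, Functor.map_smul, hf'] at h1
  have h2 : (extD A B).map (Q.map f) =
      algebraMap A B s • ((extD A B).map eK.hom ≫ u ≫ (extD A B).map eY.inv) := by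
    rw [← cancel_mono (mapQIso (ext A B) E).hom, h1, Linear.comp_smul, Linear.smul_comp,
      Iso.hom_inv_id_assoc]
    simp only [Category.assoc]
  rw [Functor.map_comp, Functor.map_comp, h2, Linear.smul_comp, Linear.comp_smul]
  congr 1
  simp only [Category.assoc, ← Functor.map_comp, Iso.inv_hom_id]
  rw [← Functor.map_comp_assoc, Iso.inv_hom_id, CategoryTheory.Functor.map_id,
    CategoryTheory.Functor.map_id, Category.id_comp, Category.comp_id]

end LI

end Groth.Agent.Lib.Helper5.LocD
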