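import Mathlib
import Groth.Agent.Lib.Helper5LocDC
import Groth.Agent.Lib.Helper1LBC
import Groth.Agent.Lib.Helper1DT2
import Groth.Agent.S6942
import Groth.Agent.S6965

/-!
# The localization of a dualizing complex is a dualizing complex (helper5)

`isDualizing_extD`: for `B` a localization of the Noetherian ring `A` and `ω` a dualizing complex
of `A`, the object `ω_S = (extD A B).obj ω` is a dualizing complex of `B`.
`lbc_iso_extD`: for flat `A → B`, derived base change agrees with `extD`.
-/

set_option autoImplicit false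
universe u
open CategoryTheory CategoryTheory.Limits
attribute [local instance] HasDerivedCategory.standard

namespace Groth.Agent.Lib.Helper5.LocD

open DerivedCategory Groth.Agent.Lib.Helper1.Extend Groth.Agent.Lib.Helper5.BiDual

section General

variable {A : Type u} [CommRing A]

theorem isDualizing_of_iso {ω ω' : Dual.D A} (e : ω ≅ ω') (h : Dual.IsDualizing A ω) :
    Dual.IsDualizing A ω' where
  isNoetherianRing := h.isNoetherianRing
  finite_injective_dimension := by
    obtain ⟨a, b, hab⟩ := h.finite_injective_dimension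
    refine ⟨a, b, fun M _ _ i hi => ?_⟩
    haveI := hab M i hi
    exact ⟨fun x y => by
      have h1 : x ≫ (e.inv⟦i⟧') = y ≫ (e.inv⟦i⟧') := Subsingleton.elim _ _
      exact (cancel_mono (e.inv⟦i⟧')).1 h1⟩
  finite_cohomology := fun i => by
    haveI := h.finite_cohomology i
    exact Module.Finite.equiv
      ((DerivedCategory.homologyFunctor (ModuleCat.{u} A) i).mapIso e).toLinearEquiv
  toEnd_bijective := by
    have hb := h.toEnd_bijective
    have key : ∀ a : A, a • 𝟙 ω = e.hom ≫ (a • 𝟙 ω') ≫ e.inv := fun a => by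
      rw [Linear.smul_comp, Linear.comp_smul, Category.id_comp, e.hom_inv_id]
    constructor
    · intro a a' haa
      have haa' : a • 𝟙 ω' = a' • 𝟙 ω' := haa
      apply hb.1
      show a • 𝟙 ω = a' • 𝟙 ω
      rw [key a, key a', haa']
    · intro t
      obtain ⟨a, ha⟩ := hb.2 (e.hom ≫ t ≫ e.inv)
      have ha' : a • 𝟙 ω = e.hom ≫ t ≫ e.inv := ha
      refine ⟨a, ?_⟩
      show a • 𝟙 ω' = t
      have h2 : a • 𝟙 ω' = e.inv ≫ (a • 𝟙 ω) ≫ e.hom := by
        rw [Linear.smul_comp, Linear.comp_smul, Category.id_comp, e.inv_hom_id]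
      rw [h2, ha', Category.assoc, Category.assoc, e.inv_hom_id, Category.comp_id,
        e.inv_hom_id_assoc]
  ext_self_subsingleton := fun i hi => by
    haveI := h.ext_self_subsingleton i hi
    exact ⟨fun x y => by
      have h1 : e.hom ≫ x ≫ (e.inv⟦i⟧') = e.hom ≫ y ≫ (e.inv⟦i⟧') := Subsingleton.elim _ _
      exact (cancel_mono (e.inv⟦i⟧')).1 ((cancel_epi e.hom).1 h1)⟩

lemma hasFPRes_of_bdd_finite [IsNoetherianRing A] (K : Dual.D A)
    (hb : ∃ b : ℤ, ∀ i : ℤ, b < i → Subsingleton (Dual.HD A K i))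
    (hfin : ∀ i : ℤ, Module.Finite A (Dual.HD A K i)) : HasFPRes K :=
  hasFPRes_of_pc' K (Groth.Agent.Lib.Helper1.PCTower.isPseudoCoherent'_of_forall K fun m =>
    ((Groth.Agent.S6942.result A m K A).1).2 ⟨hb, fun i _ => hfin i⟩)

lemma subsingleton_HD_of_res {Y : Dual.D A} (T : Res Y) (i : ℤ) (hi : i < T.a ∨ T.b < i) :
    Subsingleton (Dual.HD A Y i) := by
  have hz : IsZero (T.E.homology i) := by
    have hex : T.E.ExactAt i := by
      rw [HomologicalComplex.exactAt_iff]
      exact ShortComplex.exact_of_isZero_X₂ _ (T.van i hi)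
    exact hex.isZero_homology
  have hz2 : IsZero ((DerivedCategory.homologyFunctor (ModuleCat.{u} A) i).obj Y) :=
    hz.of_iso ((DerivedCategory.homologyFunctor (ModuleCat.{u} A) i).mapIso T.e.symm ≪≫
      (DerivedCategory.homologyFunctorFactors (ModuleCat.{u} A) i).app T.E)
  exact ModuleCat.subsingleton_of_isZero hz2

lemma hasFPRes_of_isDualizing (ω : Dual.D A) (hω : Dual.IsDualizing A ω) : HasFPRes ω := by
  haveI := hω.isNoetherianRing
  obtain ⟨T⟩ := nonempty_res ω hω
  exact hasFPRes_of_bdd_finite ω ⟨T.b, fun i hi => subsingleton_HD_of_res T i (Or.inr hi)⟩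
    hω.finite_cohomology

end General

section Main

variable {A : Type u} [CommRing A] [IsNoetherianRing A] (S : Submonoid A) (B : Type u)
  [CommRing B] [Algebra A B] [IsLocalization S B] [Module.Flat A B]

include S in
lemma smul_unit_cancel {X Y : Dual.D B} (s : A) (hs : s ∈ S) (u v : X ⟶ Y)
    (h : algebraMap A B s • u = algebraMap A B s • v) : u = v := by
  have hu : IsUnit (algebraMap A B s) := IsLocalization.map_units B ⟨s, hs⟩
  exact hu.smul_left_cancel.1 h

include S in
theorem isDualizing_extD (ω : Dual.D A) (hω : Dual.IsDualizing A ω) :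
    Dual.IsDualizing B ((extD A B).obj ω) := by
  obtain ⟨T⟩ := nonempty_res ω hω
  have hK : HasFPRes ω := hasFPRes_of_isDualizing ω hω
  have hY0 : HasInjRes ω := hasInjRes_of_res T
  have hY : ∀ i : ℤ, HasInjRes (ω⟦i⟧) := fun i => hY0.shift i
  refine ⟨IsLocalization.isNoetherianRing S B inferInstance, ?_, ?_, ?_, ?_⟩
  · refine ⟨T.a, T.b, ?_⟩
    have hamp : DRing.HasInjAmplitudeIn B T.a T.b ((extD A B).obj ω) :=
      ⟨(eCx B).obj T.E, fun i hi => (ext A B).map_isZero (T.van i hi),
        fun i => by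
          haveI := T.inj i
          exact injective_ext S B (T.E.X i),
        ⟨(mapQIso (ext A B) T.E).symm ≪≫ (extD A B).mapIso T.e⟩⟩
    exact ((Groth.Agent.S6965.result B _ T.a T.b).out 0 1).mp hamp
  · intro i
    haveI := hω.finite_cohomology i
    haveI : Module.Finite B ((ext A B).obj ((homologyFunctor (ModuleCat.{u} A) i).obj ω)) :=
      Groth.Agent.Lib.Helper1.LDer.finite_bc (algebraMap A B) _
    exact Module.Finite.equiv (homologyMapDIso (ext A B) ω i).symm.toLinearEquiv
  · constructor
    · intro b b' hbb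
      have hbb' : b • 𝟙 ((extD A B).obj ω) = b' • 𝟙 _ := hbb
      obtain ⟨⟨a, s⟩, has⟩ := IsLocalization.surj S (b - b')
      have has' : (b - b') * algebraMap A B (s : A) = algebraMap A B a := has
      have h1 : (extD A B).map (a • 𝟙 ω) = 0 := by
        rw [extD_map_smul, CategoryTheory.Functor.map_id, ← has', mul_comm, mul_smul, sub_smul,
          hbb', sub_self, smul_zero]
      obtain ⟨s', hs', h2⟩ := LI_inj S B hK hY0 (a • 𝟙 ω) h1
      have h3 : s' * a = 0 := by
        apply hω.toEnd_bijective.1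
        show (s' * a) • 𝟙 ω = (0 : A) • 𝟙 ω
        rw [mul_smul, h2, zero_smul]
      have h4 : algebraMap A B a = 0 := by
        have hu : IsUnit (algebraMap A B s') := IsLocalization.map_units B ⟨s', hs'⟩
        have h5 := congrArg (algebraMap A B) h3
        rw [map_mul, map_zero] at h5
        exact (hu.mul_right_eq_zero).1 h5
      have hu : IsUnit (algebraMap A B (s : A)) := IsLocalization.map_units B s
      rw [h4] at has'
      exact sub_eq_zero.1 ((hu.mul_left_eq_zero).1 has')
    · intro u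
      obtain ⟨s, hs, t, ht⟩ := LI_surj S B hK hY0 u
      obtain ⟨a, ha⟩ := hω.toEnd_bijective.2 t
      have ha' : a • 𝟙 ω = t := ha
      refine ⟨IsLocalization.mk' B a (⟨s, hs⟩ : S), ?_⟩
      show IsLocalization.mk' B a (⟨s, hs⟩ : S) • 𝟙 _ = u
      apply smul_unit_cancel S B s hs
      rw [smul_smul, ht, ← ha', extD_map_smul, CategoryTheory.Functor.map_id]
      congr 1
      exact IsLocalization.mk'_spec' B a (⟨s, hs⟩ : S)
  · intro i hi
    haveI := hω.ext_self_subsingleton i hi
    suffices h : ∀ u : (extD A B).obj ω ⟶ ((extD A B).obj ω)⟦i⟧, u = 0 from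
      ⟨fun u v => by rw [h u, h v]⟩
    intro u
    let c : (extD A B).obj (ω⟦i⟧) ≅ ((extD A B).obj ω)⟦i⟧ := ((extD A B).commShiftIso i).app ω
    obtain ⟨s, hs, t, ht⟩ := LI_surj S B hK (hY i) (u ≫ c.inv)
    have ht0 : t = 0 := Subsingleton.elim _ _
    rw [ht0, Functor.map_zero] at ht
    have h1 : u ≫ c.inv = 0 := smul_unit_cancel S B s hs _ _ (ht.trans (smul_zero _).symm)
    exact (cancel_mono c.inv).1 (h1.trans zero_comp.symm)

end Main

section LBC

variable {A : Type u} [CommRing A] (B : Type u) [CommRing B] [Algebra A B] [Module.Flat A B]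
  [DRing.HasLBaseChange (algebraMap A B)]

/-- for a flat ring map, derived base change is computed termwise. -/
theorem lbc_iso_extD (ω : Dual.D A) :
    Nonempty ((DRing.LBaseChange (algebraMap A B)).obj ω ≅ (extD A B).obj ω) := by
  obtain ⟨P, hP, -, ⟨e⟩⟩ := Groth.Agent.Lib.Helper1.DT.exists_kproj_iso ω
  haveI := hP
  exact ⟨(DRing.LBaseChange (algebraMap A B)).mapIso e.symm ≪≫
    Groth.Agent.Lib.Helper1.LDer.lbcIso (algebraMap A B) P ≪≫
    (mapQIso (ext A B) P).symm ≪≫ (extD A B).mapIso e⟩

end LBC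

end Groth.Agent.Lib.Helper5.LocD
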