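import Mathlib
import Groth.Agent.Lib.Helper5LocDD

/-!
# Dualizing complexes: from a covering family of localizations to the ring (helper5)

`isDualizing_of_cover`: let `S i` be submonoids of the Noetherian ring `A` which cover (an ideal
meeting every `S i` is the unit ideal).  If `K` is pseudo-coherent, has a bounded below injective
resolution, finite injective dimension and finite cohomology, and every localization `K_{S i}` is
dualizing, then `K` is dualizing.
-/

set_option autoImplicit false
universe u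
open CategoryTheory CategoryTheory.Limits
attribute [local instance] HasDerivedCategory.standard

namespace Groth.Agent.Lib.Helper5.LocD

open DerivedCategory Groth.Agent.Lib.Helper1.Extend Groth.Agent.Lib.Helper5.BiDual

variable {A : Type u} [CommRing A]

lemma hasInjRes_of_finInjDim (K : Dual.D A)
    (hinj : ∃ a b : ℤ, ∀ (M : Type u) [AddCommGroup M] [Module A M] (i : ℤ),
      (i < a ∨ b < i) → Subsingleton (Dual.inD A M ⟶ K⟦i⟧)) : HasInjRes K := by
  obtain ⟨a, b, h⟩ := hinj
  obtain ⟨E, hE, hinjE, ⟨e⟩⟩ := ((Groth.Agent.S6965.result A K a b).out 1 0).mp h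
  exact ⟨E, a, fun i hi => hE i (Or.inl hi), hinjE, ⟨e⟩⟩

lemma cover_maximal (I : Ideal A)
    (h : ∀ m : {m : Ideal A // m.IsMaximal}, ∃ s ∈ I, s ∈ (haveI := m.2.isPrime; m.1.primeCompl)) :
    I = ⊤ := by
  by_contra hI
  obtain ⟨m, hm, hIm⟩ := Ideal.exists_le_maximal I hI
  obtain ⟨s, hsI, hsm⟩ := h ⟨m, hm⟩
  exact hsm (hIm hsI)

section Cover

variable [IsNoetherianRing A] {ι : Type*} (Sι : ι → Submonoid A)
  (cov : ∀ I : Ideal A, (∀ i, ∃ s ∈ I, s ∈ Sι i) → I = ⊤)

include cov in
theorem eq_zero_of_cover {X Y : Dual.D A} (hX : HasFPRes X) (hY : HasInjRes Y) (t : X ⟶ Y)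
    (ht : ∀ i, (extD A (Localization (Sι i))).map t = 0) : t = 0 := by
  have h1 : LinearMap.ker (LinearMap.toSpanSingleton A (X ⟶ Y) t) = ⊤ := by
    refine cov _ fun i => ?_
    obtain ⟨s, hs, hst⟩ := LI_inj (Sι i) (Localization (Sι i)) hX hY t (ht i)
    exact ⟨s, by rw [LinearMap.mem_ker, LinearMap.toSpanSingleton_apply]; exact hst, hs⟩
  have h2 : (1 : A) ∈ LinearMap.ker (LinearMap.toSpanSingleton A (X ⟶ Y) t) := by
    rw [h1]; exact Submodule.mem_top
  rw [LinearMap.mem_ker, LinearMap.toSpanSingleton_apply, one_smul] at h2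
  exact h2

include cov in
theorem isDualizing_of_cover (K : Dual.D A) (hK : HasFPRes K) (hY : HasInjRes K)
    (hinj : ∃ a b : ℤ, ∀ (M : Type u) [AddCommGroup M] [Module A M] (i : ℤ),
      (i < a ∨ b < i) → Subsingleton (Dual.inD A M ⟶ K⟦i⟧))
    (hfin : ∀ i : ℤ, Module.Finite A (Dual.HD A K i))
    (hloc : ∀ i, Dual.IsDualizing (Localization (Sι i))
      ((extD A (Localization (Sι i))).obj K)) :
    Dual.IsDualizing A K := by
  refine ⟨inferInstance, hinj, hfin, ⟨?_, ?_⟩, ?_⟩
  · intro a a' haa
    have haa' : a • 𝟙 K = a' • 𝟙 K := haa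
    have h1 : LinearMap.ker (LinearMap.toSpanSingleton A A (a - a')) = ⊤ := by
      refine cov _ fun i => ?_
      have h2 : algebraMap A (Localization (Sι i)) (a - a') = 0 := by
        apply (hloc i).toEnd_bijective.1
        show algebraMap A (Localization (Sι i)) (a - a') • 𝟙 _ =
          (0 : Localization (Sι i)) • 𝟙 _
        rw [zero_smul, ← CategoryTheory.Functor.map_id, ← extD_map_smul, sub_smul, haa', sub_self,
          Functor.map_zero]
      obtain ⟨s, hs⟩ := (IsLocalization.map_eq_zero_iff (Sι i) (Localization (Sι i)) _).1 h2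
      refine ⟨s, ?_, s.2⟩
      rw [LinearMap.mem_ker, LinearMap.toSpanSingleton_apply, smul_eq_mul]
      exact hs
    have h3 : (1 : A) ∈ LinearMap.ker (LinearMap.toSpanSingleton A A (a - a')) := by
      rw [h1]; exact Submodule.mem_top
    rw [LinearMap.mem_ker, LinearMap.toSpanSingleton_apply, one_smul] at h3
    exact sub_eq_zero.1 h3
  · intro t
    have h1 : Submodule.comap (LinearMap.toSpanSingleton A (K ⟶ K) t)
        (LinearMap.range (LinearMap.toSpanSingleton A (K ⟶ K) (𝟙 K))) = ⊤ := by
      refine cov _ fun i => ?_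
      obtain ⟨b, hb⟩ := (hloc i).toEnd_bijective.2 ((extD A (Localization (Sι i))).map t)
      have hb' : b • 𝟙 _ = (extD A (Localization (Sι i))).map t := hb
      obtain ⟨⟨a, s⟩, has⟩ := IsLocalization.surj (Sι i) b
      have has' : b * algebraMap A (Localization (Sι i)) (s : A) =
        algebraMap A (Localization (Sι i)) a := has
      have h2 : (extD A (Localization (Sι i))).map ((s : A) • t - a • 𝟙 K) = 0 := by
        rw [Functor.map_sub, extD_map_smul, extD_map_smul, CategoryTheory.Functor.map_id, ← hb',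
          smul_smul, mul_comm, has', sub_self]
      obtain ⟨s', hs', h3⟩ := LI_inj (Sι i) (Localization (Sι i)) hK hY _ h2
      rw [smul_sub, sub_eq_zero, smul_smul, smul_smul] at h3
      refine ⟨s' * s, ?_, (Sι i).mul_mem hs' s.2⟩
      rw [Submodule.mem_comap, LinearMap.mem_range]
      exact ⟨s' * a, by
        rw [LinearMap.toSpanSingleton_apply, LinearMap.toSpanSingleton_apply]; exact h3.symm⟩
    have h4 : (1 : A) ∈ Submodule.comap (LinearMap.toSpanSingleton A (K ⟶ K) t)
        (LinearMap.range (LinearMap.toSpanSingleton A (K ⟶ K) (𝟙 K))) := by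
      rw [h1]; exact Submodule.mem_top
    rw [Submodule.mem_comap, LinearMap.mem_range] at h4
    obtain ⟨a, ha⟩ := h4
    rw [LinearMap.toSpanSingleton_apply, LinearMap.toSpanSingleton_apply, one_smul] at ha
    exact ⟨a, ha⟩
  · intro j hj
    suffices h : ∀ t : K ⟶ K⟦j⟧, t = 0 from ⟨fun u v => by rw [h u, h v]⟩
    intro t
    refine eq_zero_of_cover Sι cov hK (hY.shift j) t fun i => ?_
    haveI := (hloc i).ext_self_subsingleton j hj
    let c : (extD A (Localization (Sι i))).obj (K⟦j⟧) ≅
        ((extD A (Localization (Sι i))).obj K)⟦j⟧ :=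
      ((extD A (Localization (Sι i))).commShiftIso j).app K
    have h1 : (extD A (Localization (Sι i))).map t ≫ c.hom = 0 := Subsingleton.elim _ _
    exact (cancel_mono c.hom).1 (h1.trans zero_comp.symm)

end Cover

end Groth.Agent.Lib.Helper5.LocD
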