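import Mathlib
import Groth.Agent.Lib.Helper5LocDE

/-!
# Glueing dualizing complexes over a standard open cover (helper5)

`isDualizing_of_cover_away`: if `f_1, …, f_n` generate the unit ideal of the Noetherian ring `A`
and `ω_{f_i}` is a dualizing complex of `A_{f_i}` for every `i`, then `ω` is a dualizing complex.
-/

set_option autoImplicit false
universe u
open CategoryTheory CategoryTheory.Limits
attribute [local instance] HasDerivedCategory.standard

namespace Groth.Agent.Lib.Helper5.LocD

open DerivedCategory Groth.Agent.Lib.Helper1.Extend Groth.Agent.Lib.Helper5.BiDual TensorProduct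

variable {A : Type u} [CommRing A]

lemma cover_powers {n : ℕ} (f : Fin n → A) (hf : Ideal.span (Set.range f) = ⊤) (I : Ideal A)
    (h : ∀ i, ∃ s ∈ I, s ∈ Submonoid.powers (f i)) : I = ⊤ := by
  choose s hsI hs using h
  choose k hk using fun i => (Submonoid.mem_powers_iff _ _).1 (hs i)
  have h1 : Ideal.span ((fun x => x ^ (∑ i, k i)) '' Set.range f) = ⊤ :=
    Ideal.span_pow_eq_top _ hf _
  rw [eq_top_iff, ← h1, Ideal.span_le]
  rintro _ ⟨_, ⟨i, rfl⟩, rfl⟩
  have hle : k i ≤ ∑ i, k i :=
    Finset.single_le_sum (fun _ _ => Nat.zero_le _) (Finset.mem_univ i)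
  have h2 : f i ^ (∑ i, k i) = f i ^ ((∑ i, k i) - k i) * s i := by
    rw [← hk i, ← pow_add, Nat.sub_add_cancel hle]
  show f i ^ (∑ i, k i) ∈ I
  rw [h2]
  exact I.mul_mem_left _ (hsI i)

section Cover

variable {ι : Type*} (Sι : ι → Submonoid A)
  (cov : ∀ I : Ideal A, (∀ i, ∃ s ∈ I, s ∈ Sι i) → I = ⊤)

include cov in
lemma subsingleton_of_cover (M : ModuleCat.{u} A)
    (h : ∀ i, Subsingleton ((ext A (Localization (Sι i))).obj M)) : Subsingleton M := by
  suffices h0 : ∀ x : M, x = 0 from ⟨fun x y => by rw [h0 x, h0 y]⟩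
  intro x
  have h1 : LinearMap.ker (LinearMap.toSpanSingleton A M x) = ⊤ := by
    refine cov _ fun i => ?_
    haveI := h i
    have h2 : oneT (Localization (Sι i)) M x = oneT (Localization (Sι i)) M 0 :=
      Subsingleton.elim _ _
    have h3 := congrArg (extEquiv (A := A) (B := Localization (Sι i)) M) h2
    rw [extEquiv_oneT, extEquiv_oneT] at h3
    obtain ⟨c, hc⟩ := IsLocalizedModule.exists_of_eq (S := Sι i)
      (f := TensorProduct.mk A (Localization (Sι i)) M 1) h3
    rw [smul_zero] at hc
    exact ⟨c, by rw [LinearMap.mem_ker, LinearMap.toSpanSingleton_apply]; exact hc, c.2⟩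
  have h2 : (1 : A) ∈ LinearMap.ker (LinearMap.toSpanSingleton A M x) := by
    rw [h1]; exact Submodule.mem_top
  rw [LinearMap.mem_ker, LinearMap.toSpanSingleton_apply, one_smul] at h2
  exact h2

end Cover

lemma hasInjRes_of_bddBelow (Y : Dual.D A) (a : ℤ)
    (h : ∀ j : ℤ, j < a → Subsingleton (Dual.HD A Y j)) : HasInjRes Y := by
  haveI : Y.IsGE a := by
    rw [DerivedCategory.isGE_iff]
    intro j hj
    haveI := h j hj
    exact ModuleCat.isZero_of_subsingleton _
  obtain ⟨K, hK, ⟨e⟩⟩ := DerivedCategory.exists_iso_Q_obj_of_isGE Y a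
  haveI := hK
  obtain ⟨L, i, hi, hL, hLge⟩ :=
    CochainComplex.Plus.modelCategoryQuillen.exists_quasiIso_injective K a
  haveI : IsIso (Q.map i) := (DerivedCategory.isIso_Q_map_iff_quasiIso (φ := i)).2 hi
  refine ⟨L, a, fun j hj => CochainComplex.isZero_of_isStrictlyGE L a j hj, fun j => ?_,
    ⟨(asIso (Q.map i)).symm ≪≫ e.symm⟩⟩
  haveI := hL j
  exact Module.injective_module_of_injective_object A (L.X j)

lemma hasFPRes_inD_of_finite [IsNoetherianRing A] (M : Type u) [AddCommGroup M] [Module A M]
    [Module.Finite A M] : HasFPRes (Dual.inD A M) :=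
  hasFPRes_of_pc' _ (((Groth.Agent.S6942.result A 0 (Dual.inD A M) M).2).2 inferInstance)

lemma finite_of_cover_away {n : ℕ} (f : Fin n → A) (hf : Ideal.span (Set.range f) = ⊤)
    (M : ModuleCat.{u} A)
    (h : ∀ i, Module.Finite (Localization.Away (f i))
      ((ext A (Localization.Away (f i))).obj M)) : Module.Finite A M := by
  refine Module.Finite.of_localizationSpan' (Set.range f) hf
    (Mₚ := fun g => TensorProduct A (Localization.Away g.val) M)
    (Rₚ := fun g => Localization.Away g.val)
    (fun g => TensorProduct.mk A (Localization.Away g.val) M 1) ?_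
  rintro ⟨_, i, rfl⟩
  haveI := h i
  exact Module.Finite.equiv (extEquiv (A := A) (B := Localization.Away (f i)) M)

theorem isDualizing_of_cover_away [IsNoetherianRing A] {n : ℕ} (f : Fin n → A)
    (hf : Ideal.span (Set.range f) = ⊤) (ω : Dual.D A)
    (hloc : ∀ i, Dual.IsDualizing (Localization.Away (f i))
      ((extD A (Localization.Away (f i))).obj ω)) :
    Dual.IsDualizing A ω := by
  have cov := cover_powers f hf
  have key : ∀ i, ∃ a b : ℤ,
      (∀ j : ℤ, (j < a ∨ b < j) → Subsingleton (Dual.HD (Localization.Away (f i))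
        ((extD A (Localization.Away (f i))).obj ω) j)) ∧
      (∀ (M : Type u) [AddCommGroup M] [Module (Localization.Away (f i)) M] (j : ℤ),
        (j < a ∨ b < j) → Subsingleton (Dual.inD (Localization.Away (f i)) M ⟶
          ((extD A (Localization.Away (f i))).obj ω)⟦j⟧)) := by
    intro i
    obtain ⟨T⟩ := nonempty_res _ (hloc i)
    refine ⟨T.a, T.b, fun j hj => subsingleton_HD_of_res T j hj, ?_⟩
    have hamp : DRing.HasInjAmplitudeIn (Localization.Away (f i)) T.a T.b
        ((extD A (Localization.Away (f i))).obj ω) := ⟨T.E, T.van, T.inj, ⟨T.e⟩⟩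
    exact ((Groth.Agent.S6965.result (Localization.Away (f i)) _ T.a T.b).out 0 1).mp hamp
  choose a b h1 h2 using key
  have hlo : ∀ i, -(∑ i, |a i|) ≤ a i := fun i => by
    have h3 : |a i| ≤ ∑ i, |a i| :=
      Finset.single_le_sum (f := fun i => |a i|) (fun _ _ => abs_nonneg _) (Finset.mem_univ i)
    have h4 := neg_abs_le (a i)
    lia
  have hhi : ∀ i, b i ≤ ∑ i, |b i| := fun i => by
    have h3 : |b i| ≤ ∑ i, |b i| :=
      Finset.single_le_sum (f := fun i => |b i|) (fun _ _ => abs_nonneg _) (Finset.mem_univ i)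
    have h4 := le_abs_self (b i)
    lia
  -- cohomology vanishes outside the range
  have hvan : ∀ j : ℤ, (j < -(∑ i, |a i|) ∨ (∑ i, |b i|) < j) →
      Subsingleton (Dual.HD A ω j) := by
    intro j hj
    refine subsingleton_of_cover (fun i => Submonoid.powers (f i)) cov _ fun i => ?_
    haveI := h1 i j (by have := hlo i; have := hhi i; lia)
    exact (homologyMapDIso (ext A (Localization.Away (f i))) ω j).symm.toLinearEquiv.toEquiv.subsingleton
  have hfin : ∀ j : ℤ, Module.Finite A (Dual.HD A ω j) := by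
    intro j
    refine finite_of_cover_away f hf _ fun i => ?_
    haveI := (hloc i).finite_cohomology j
    exact Module.Finite.equiv (homologyMapDIso (ext A (Localization.Away (f i))) ω j).toLinearEquiv
  have hK : HasFPRes ω :=
    hasFPRes_of_bdd_finite ω ⟨_, fun j hj => hvan j (Or.inr hj)⟩ hfin
  have hY : HasInjRes ω := hasInjRes_of_bddBelow ω _ fun j hj => hvan j (Or.inl hj)
  have hinj : ∃ a b : ℤ, ∀ (M : Type u) [AddCommGroup M] [Module A M] (i : ℤ),
      (i < a ∨ b < i) → Subsingleton (Dual.inD A M ⟶ ω⟦i⟧) := by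
    refine ⟨-(∑ i, |a i|), ∑ i, |b i|,
      ((Groth.Agent.S6965.result A ω _ _).out 2 1).mp ?_⟩
    intro I j hj
    suffices h0 : ∀ t : Dual.inD A (A ⧸ I) ⟶ ω⟦j⟧, t = 0 from
      ⟨fun u v => by rw [h0 u, h0 v]⟩
    intro t
    refine eq_zero_of_cover (fun i => Submonoid.powers (f i)) cov
      (hasFPRes_inD_of_finite (A ⧸ I)) (hY.shift j) t fun i => ?_
    haveI := h2 i (TensorProduct A (Localization.Away (f i)) (A ⧸ I)) j
      (by have := hlo i; have := hhi i; lia)
    let e1 := extDInDIso (A := A) (B := Localization.Away (f i)) (A ⧸ I)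
    let c : (extD A (Localization.Away (f i))).obj (ω⟦j⟧) ≅
        ((extD A (Localization.Away (f i))).obj ω)⟦j⟧ :=
      ((extD A (Localization.Away (f i))).commShiftIso j).app ω
    have h3 : e1.inv ≫ (extD A (Localization.Away (f i))).map t ≫ c.hom = 0 :=
      Subsingleton.elim _ _
    exact (cancel_mono c.hom).1 (((cancel_epi e1.inv).1 (h3.trans comp_zero.symm)).trans
      zero_comp.symm)
  exact isDualizing_of_cover (fun i => Submonoid.powers (f i)) cov ω hK hY hinj hfin hloc

end Groth.Agent.Lib.Helper5.LocD
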