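import Mathlib
import Groth.Agent.Lib.Helper5CoextA
import Groth.Agent.Lib.Helper5LocDF
import Groth.Agent.Lib.Helper17DRingAdj3
import Groth.Agent.Lib.Helper17KInjD5
import Groth.Agent.Lib.Helper5DualFLA

/-!
# `RHom_A(B, -)` on K-injective complexes (helper5)

For a ring map `A → B`, the right adjoint `RG` of restriction of scalars `D(B) ⥤ D(A)` (built by
helper17 as the right derived functor of coextension of scalars) is computed on a K-injective
complex `E` by `Hom_A(B, E)`.  After restriction to `A` this is the complex `dualCx E B` of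
`Helper5BiDualA` (`J₀`), and the counit becomes evaluation at `1` (`counit_identity`).
-/

set_option autoImplicit false
universe u
open CategoryTheory CategoryTheory.Limits HomologicalComplex DerivedCategory
attribute [local instance] HasDerivedCategory.standard

namespace Groth.Agent.Lib.Helper5.Coext

open Groth.Agent.Lib.Helper17.KInj Groth.Agent.Lib.Helper17.Cpt Groth.Agent.Lib.Helper17
open Groth.Agent.Lib.Helper17.DRingAdj Groth.Agent.Lib.Helper5.BiDual

section Setup

variable (A B : Type u) [CommRing A] [CommRing B] [Algebra A B]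

/-- restriction of scalars -/
noncomputable abbrev Fr : ModuleCat.{u} B ⥤ ModuleCat.{u} A :=
  ModuleCat.restrictScalars.{u} (algebraMap A B)

/-- coextension of scalars -/
noncomputable abbrev Gc : ModuleCat.{u} A ⥤ ModuleCat.{u} B :=
  ModuleCat.coextendScalars.{u} (algebraMap A B)

/-- the adjunction -/
noncomputable abbrev adjFG : Fr A B ⊣ Gc A B :=
  ModuleCat.restrictCoextendScalarsAdj (algebraMap A B)

instance : (Gc A B).Additive := (adjFG A B).right_adjoint_additive

/-- `Q ∘ Hom_A(B, -)` on complexes. -/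
noncomputable abbrev G' : CochainComplex (ModuleCat.{u} A) ℤ ⥤ Dual.D B :=
  (Gc A B).mapHomologicalComplex (ComplexShape.up ℤ) ⋙ DerivedCategory.Q

instance : (G' A B).HasPointwiseRightDerivedFunctor
    (HomologicalComplex.quasiIso (ModuleCat.{u} A) (ComplexShape.up ℤ)) :=
  (fibLocalizerMorphism_derives (G' A B)
    (isInvertedBy_mapHomologicalComplex_comp_Q (Gc A B))).hasPointwiseRightDerivedFunctor

/-- the right derived functor of coextension of scalars. -/
noncomputable def RG : Dual.D A ⥤ Dual.D B :=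
  (G' A B).totalRightDerived (DerivedCategory.Q : _ ⥤ DerivedCategory (ModuleCat.{u} A))
    (HomologicalComplex.quasiIso (ModuleCat.{u} A) (ComplexShape.up ℤ))

/-- its unit. -/
noncomputable def βG : G' A B ⟶ DerivedCategory.Q ⋙ RG A B :=
  (G' A B).totalRightDerivedUnit (DerivedCategory.Q : _ ⥤ DerivedCategory (ModuleCat.{u} A))
    (HomologicalComplex.quasiIso (ModuleCat.{u} A) (ComplexShape.up ℤ))

instance : (RG A B).IsRightDerivedFunctor (βG A B)
    (HomologicalComplex.quasiIso (ModuleCat.{u} A) (ComplexShape.up ℤ)) := by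
  unfold RG βG
  infer_instance

/-- the derived adjunction. -/
noncomputable def adjD : DRing.restrictD (algebraMap A B) ⊣ RG A B :=
  derivedAdjunction (Fr A B) (Gc A B) (adjFG A B) (RG A B) (βG A B)

/-- `B` as an `A`-module -/
noncomputable abbrev Bm : ModuleCat.{u} A := (Fr A B).obj (ModuleCat.of B B)

/-- `Hom_A(B, N)` restricted to `A` is the hom-module in `ModuleCat A`. -/
noncomputable def kappaLin (N : ModuleCat.{u} A) :
    ((Fr A B).obj ((Gc A B).obj N)) ≃ₗ[A] (Bm A B ⟶ N) where
  toFun g := ModuleCat.ofHom (X := Bm A B) (Y := N)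
    (ModuleCat.CoextendScalars.equiv (algebraMap A B) N g)
  invFun h := (ModuleCat.CoextendScalars.equiv (algebraMap A B) N).symm h.hom
  map_add' g g' := rfl
  map_smul' a g := by
    refine ModuleCat.hom_ext (LinearMap.ext fun x => ?_)
    let f : ↑(Bm A B) →ₗ[A] ↑N := ModuleCat.CoextendScalars.equiv (algebraMap A B) N g
    have key : ∀ (y : B), (ModuleCat.CoextendScalars.equiv (algebraMap A B) N (a • g))
        (show ↑(Bm A B) from y) = f (show ↑(Bm A B) from (y * algebraMap A B a)) := fun y => rfl
    have h2 : ∀ (y : B), (show ↑(Bm A B) from (y * algebraMap A B a)) =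
        a • (show ↑(Bm A B) from y) := fun y => by
      show y * algebraMap A B a = algebraMap A B a * y
      exact mul_comm _ _
    have h3 : ∀ (y : B), (ModuleCat.CoextendScalars.equiv (algebraMap A B) N (a • g))
        (show ↑(Bm A B) from y) = a • f (show ↑(Bm A B) from y) := fun y => by
      rw [key, h2, f.map_smul]
    exact h3 x
  left_inv g := rfl
  right_inv h := rfl

/-- `Hom_A(B, E)` restricted to `A` is `dualCx E B`. -/
noncomputable def kappa (E : CochainComplex (ModuleCat.{u} A) ℤ) :
    ((Fr A B).mapHomologicalComplex (ComplexShape.up ℤ)).obj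
      (((Gc A B).mapHomologicalComplex (ComplexShape.up ℤ)).obj E) ≅ dualCx E (Bm A B) :=
  HomologicalComplex.Hom.isoOfComponents (fun p => (kappaLin A B (E.X p)).toModuleIso) (by
    intro p q _
    refine ModuleCat.hom_ext (LinearMap.ext fun g => ?_)
    rfl)

lemma star (E : CochainComplex (ModuleCat.{u} A) ℤ) (b : B) :
    ((Fr A B).mapHomologicalComplex (ComplexShape.up ℤ)).map
        (b • 𝟙 (((Gc A B).mapHomologicalComplex (ComplexShape.up ℤ)).obj E)) ≫
      (SerreLoc.adjHC (adjFG A B) (ComplexShape.up ℤ)).counit.app E =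
    (kappa A B E).hom ≫ ev E (Bm A B) b := by
  refine HomologicalComplex.hom_ext _ _ fun p => ModuleCat.hom_ext (LinearMap.ext fun g => ?_)
  show (ModuleCat.CoextendScalars.equiv (algebraMap A B) (E.X p) g)
      (show ↑(Bm A B) from ((1 : B) * b)) =
    (ModuleCat.CoextendScalars.equiv (algebraMap A B) (E.X p) g) (show ↑(Bm A B) from b)
  rw [one_mul]

end Setup

section Derived

variable {A : Type u} (B : Type u) [CommRing A] [CommRing B] [Algebra A B]
variable (E : CochainComplex (ModuleCat.{u} A) ℤ) [E.IsKInjective]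

instance isIso_βG_app : IsIso ((βG A B).app E) :=
  isIso_app_of_isKInjective (Gc A B) (RG A B) (βG A B) E

/-- `RHom_A(B, -)` on a K-injective complex -/
noncomputable def isoRG :
    (Q : _ ⥤ Dual.D B).obj (((Gc A B).mapHomologicalComplex (ComplexShape.up ℤ)).obj E) ≅
      (RG A B).obj ((Q : _ ⥤ Dual.D A).obj E) :=
  asIso ((βG A B).app E)

/-- `RHom_A(B, E)` as an object of `D(A)` -/
noncomputable def J₀ : (DRing.restrictD (algebraMap A B)).obj ((RG A B).obj (Q.obj E)) ≅
    (Q : _ ⥤ Dual.D A).obj (dualCx E (Bm A B)) :=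
  (DRing.restrictD (algebraMap A B)).mapIso (isoRG B E).symm ≪≫
    (Fr A B).mapDerivedCategoryFactors.app _ ≪≫ (Q : _ ⥤ Dual.D A).mapIso (kappa A B E)

lemma counit_identity (b : B) :
    (DRing.restrictD (algebraMap A B)).map (b • 𝟙 ((RG A B).obj (Q.obj E))) ≫
      (adjD A B).counit.app (Q.obj E) = (J₀ B E).hom ≫ Q.map (ev E (Bm A B) b) := by
  have hfac := derivedAdjunction_counit_fac (Fr A B) (Gc A B) (adjFG A B) (RG A B) (βG A B) E
  have hnat := (Fr A B).mapDerivedCategoryFactors_hom_naturality
    (b • 𝟙 (((Gc A B).mapHomologicalComplex (ComplexShape.up ℤ)).obj E))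
  have hb : b • 𝟙 ((RG A B).obj (Q.obj E)) =
      (isoRG B E).inv ≫ Q.map (b • 𝟙 (((Gc A B).mapHomologicalComplex
        (ComplexShape.up ℤ)).obj E)) ≫ (isoRG B E).hom := by
    rw [Functor.map_smul, CategoryTheory.Functor.map_id, Linear.smul_comp, Linear.comp_smul,
      Category.id_comp, Iso.inv_hom_id]
  have h1 : (DRing.restrictD (algebraMap A B)).map (isoRG B E).hom ≫
      (adjD A B).counit.app (Q.obj E) =
      (Fr A B).mapDerivedCategoryFactors.hom.app
        (((Gc A B).mapHomologicalComplex (ComplexShape.up ℤ)).obj E) ≫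
      Q.map ((SerreLoc.adjHC (adjFG A B) (ComplexShape.up ℤ)).counit.app E) := hfac
  rw [hb, Functor.map_comp, Functor.map_comp, Category.assoc, Category.assoc, h1,
    ← Category.assoc ((DRing.restrictD (algebraMap A B)).map (Q.map _)), hnat, Category.assoc,
    ← Functor.map_comp, star, Functor.map_comp]
  simp only [J₀, Iso.trans_hom, Functor.mapIso_hom, Iso.symm_hom, Iso.app_hom, Category.assoc]

end Derived

section Main

variable {A B : Type u} [CommRing A] [CommRing B] [Algebra A B]

lemma finite_of_finite_restrict (M : ModuleCat.{u} B) (h : Module.Finite A ((Fr A B).obj M)) :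
    Module.Finite B M := by
  letI : Module A M := Module.compHom M (algebraMap A B)
  haveI : IsScalarTower A B M := IsScalarTower.of_algebraMap_smul fun r x => rfl
  haveI : Module.Finite A M := h
  exact Module.Finite.of_restrictScalars_finite A B M

lemma finite_Bm [Module.Finite A B] : Module.Finite A (Bm A B) :=
  Module.Finite.equiv (resSelfLin (A := A) (B := B)).symm

/-- cohomology of `RHom_A(B, E)` -/
theorem finite_HD_RG [IsNoetherianRing A] [Module.Finite A B]
    (E : CochainComplex (ModuleCat.{u} A) ℤ) (a : ℤ) (ha : ∀ p : ℤ, p < a → IsZero (E.X p))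
    (hinj : ∀ p : ℤ, Module.Injective A (E.X p))
    (hfin : ∀ i : ℤ, Module.Finite A (E.homology i)) (i : ℤ) :
    Module.Finite B (Dual.HD B ((RG A B).obj (Q.obj E)) i) := by
  haveI : E.IsKInjective := Groth.Agent.Lib.Helper5.LocD.isKInjective_of_bddBelow E a ha hinj
  haveI := finite_Bm (A := A) (B := B)
  have hE : ∀ p, Injective (E.X p) := fun p => by
    haveI := hinj p
    exact Module.injective_object_of_injective_module (R := A) (M := E.X p)
  have h1 : Module.Finite A ((dualCx E (Bm A B)).homology i) :=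
    finite_homology_dualCx E hE a ha hfin i (Bm A B)
  have h2 : Module.Finite A (Dual.HD A (Q.obj (dualCx E (Bm A B))) i) := by
    let e2 : (homologyFunctor (ModuleCat.{u} A) i).obj (Q.obj (dualCx E (Bm A B))) ≅
        (dualCx E (Bm A B)).homology i :=
      (homologyFunctorFactors (ModuleCat.{u} A) i).app (dualCx E (Bm A B))
    haveI := h1
    exact Module.Finite.equiv e2.symm.toLinearEquiv
  have h3 : Module.Finite A (Dual.HD A ((DRing.restrictD (algebraMap A B)).obj
      ((RG A B).obj (Q.obj E))) i) :=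
    Module.Finite.equiv ((homologyFunctor (ModuleCat.{u} A) i).mapIso (J₀ B E).symm).toLinearEquiv
  have h4 : Module.Finite A ((Fr A B).obj ((homologyFunctor (ModuleCat.{u} B) i).obj
      ((RG A B).obj (Q.obj E)))) :=
    Module.Finite.equiv (Groth.Agent.Lib.Helper1.Extend.homologyMapDIso (Fr A B)
      ((RG A B).obj (Q.obj E)) i).toLinearEquiv
  exact finite_of_finite_restrict _ h4

theorem isDualizing_RG [IsNoetherianRing B] [Module.Finite A B]
    (E : CochainComplex (ModuleCat.{u} A) ℤ) (a b : ℤ)
    (van : DRing.VanishesOutside E a b) (inj : DRing.TermwiseInjective E)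
    (hω : Dual.IsDualizing A ((Q : _ ⥤ Dual.D A).obj E)) :
    Dual.IsDualizing B ((RG A B).obj (Q.obj E)) := by
  haveI := hω.isNoetherianRing
  let R : Res ((Q : _ ⥤ Dual.D A).obj E) := ⟨E, a, b, van, inj, Iso.refl _⟩
  haveI : E.IsKInjective := R.isKInjective
  haveI := finite_Bm (A := A) (B := B)
  letI : (RG A B).CommShift ℤ := (adjD A B).rightAdjointCommShift ℤ
  have eqv : ∀ (N : Dual.D B) (i : ℤ), (N ⟶ ((RG A B).obj (Q.obj E))⟦i⟧) ≃
      ((DRing.restrictD (algebraMap A B)).obj N ⟶ ((Q : _ ⥤ Dual.D A).obj E)⟦i⟧) := fun N i =>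
    (((RG A B).commShiftIso i).app (Q.obj E)).symm.homToEquiv.trans
      ((adjD A B).homEquiv _ _).symm
  refine ⟨inferInstance, ?_, ?_, ?_, ?_⟩
  · obtain ⟨a', b', hab⟩ := hω.finite_injective_dimension
    refine ⟨a', b', fun N _ _ i hi => ?_⟩
    haveI : Subsingleton ((DerivedCategory.singleFunctor (ModuleCat.{u} A) 0).obj
        ((Fr A B).obj (ModuleCat.of B N)) ⟶ ((Q : _ ⥤ Dual.D A).obj E)⟦i⟧) :=
      hab ((Fr A B).obj (ModuleCat.of B N)) i hi
    exact ((eqv (Dual.inD B N) i).trans
      ((restrictDInD (algebraMap A B) N).homFromEquiv)).subsingleton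
  · intro i
    refine finite_HD_RG E a (fun p hp => van p (Or.inl hp)) inj (fun j => ?_) i
    haveI := hω.finite_cohomology j
    let e3 : (homologyFunctor (ModuleCat.{u} A) j).obj (Q.obj E) ≅ E.homology j :=
      (homologyFunctorFactors (ModuleCat.{u} A) j).app E
    exact Module.Finite.equiv e3.toLinearEquiv
  · have hΘ : Function.Bijective (fun g : (RG A B).obj (Q.obj E) ⟶ (RG A B).obj (Q.obj E) =>
        (DRing.restrictD (algebraMap A B)).map g ≫ (adjD A B).counit.app (Q.obj E)) := by
      have h5 : (fun g : (RG A B).obj (Q.obj E) ⟶ (RG A B).obj (Q.obj E) =>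
          (DRing.restrictD (algebraMap A B)).map g ≫ (adjD A B).counit.app (Q.obj E)) =
          ⇑((adjD A B).homEquiv _ _).symm := by
        funext g
        exact ((adjD A B).homEquiv_counit _ _ g).symm
      rw [h5]
      exact Equiv.bijective _
    have hbij : Function.Bijective (fun b : B => (J₀ B E).hom ≫ Q.map (ev E (Bm A B) b)) := by
      have h0 := bijective_ev hω R (Bm A B)
      have h6 : (fun b : B => (J₀ B E).hom ≫ Q.map (ev E (Bm A B) b)) =
          (fun ψ => (J₀ B E).hom ≫ ψ) ∘
            (fun m : (Bm A B) => Q.map (ev R.E (ModuleCat.of A (Bm A B)) m) ≫ R.e.hom) := by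
        funext b
        show _ = (J₀ B E).hom ≫ (Q.map (ev E (Bm A B) b) ≫ 𝟙 _)
        rw [Category.comp_id]
      rw [h6]
      exact ((J₀ B E).symm.homFromEquiv).bijective.comp h0
    have hcomp : (fun g : (RG A B).obj (Q.obj E) ⟶ (RG A B).obj (Q.obj E) =>
        (DRing.restrictD (algebraMap A B)).map g ≫ (adjD A B).counit.app (Q.obj E)) ∘
        (fun b : B => b • 𝟙 ((RG A B).obj (Q.obj E))) =
        fun b : B => (J₀ B E).hom ≫ Q.map (ev E (Bm A B) b) := funext (counit_identity B E)
    rw [← hcomp] at hbij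
    exact (Function.Bijective.of_comp_iff' hΘ _).mp hbij
  · intro i hi
    have h := vanD hω R i hi (Bm A B)
    haveI : Subsingleton ((Q : _ ⥤ Dual.D A).obj (dualCx E (Bm A B)) ⟶
        ((Q : _ ⥤ Dual.D A).obj E)⟦i⟧) := ⟨fun f g => by rw [h f, h g]⟩
    exact ((eqv _ i).trans ((J₀ B E).homFromEquiv)).subsingleton

end Main

section Final

variable {A B : Type u} [CommRing A] [CommRing B] [Algebra A B]

theorem isDualizing_rightAdjoint [IsNoetherianRing A] [IsNoetherianRing B] [Module.Finite A B]
    (R : Dual.D A ⥤ Dual.D B) (adj : DRing.restrictD (algebraMap A B) ⊣ R) (ω : Dual.D A)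
    (hω : Dual.IsDualizing A ω) : Dual.IsDualizing B (R.obj ω) := by
  obtain ⟨T⟩ := nonempty_res ω hω
  have hω₀ : Dual.IsDualizing A ((Q : _ ⥤ Dual.D A).obj T.E) :=
    Groth.Agent.Lib.Helper5.LocD.isDualizing_of_iso T.e.symm hω
  have h1 := isDualizing_RG (B := B) T.E T.a T.b T.van T.inj hω₀
  have e : (RG A B).obj (Q.obj T.E) ≅ R.obj ω :=
    (RG A B).mapIso T.e ≪≫ ((adjD A B).rightAdjointUniq adj).app ω
  exact Groth.Agent.Lib.Helper5.LocD.isDualizing_of_iso e h1

theorem finite_HD_rightAdjoint [IsNoetherianRing A] [IsNoetherianRing B] [Module.Finite A B]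
    (R : Dual.D A ⥤ Dual.D B) (adj : DRing.restrictD (algebraMap A B) ⊣ R) (K : Dual.D A)
    (a : ℤ) (hKa : ∀ i : ℤ, i < a → Subsingleton (Dual.HD A K i))
    (hK : ∀ i : ℤ, Module.Finite A (Dual.HD A K i)) (i : ℤ) :
    Module.Finite B (Dual.HD B (R.obj K) i) := by
  obtain ⟨E, a', hz, hinj, ⟨e⟩⟩ := Groth.Agent.Lib.Helper5.LocD.hasInjRes_of_bddBelow K a hKa
  have hfin : ∀ j, Module.Finite A (E.homology j) := fun j => by
    haveI := hK j
    let e3 : E.homology j ≅ (homologyFunctor (ModuleCat.{u} A) j).obj K :=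
      ((homologyFunctorFactors (ModuleCat.{u} A) j).app E).symm ≪≫
        (homologyFunctor (ModuleCat.{u} A) j).mapIso e
    exact Module.Finite.equiv e3.symm.toLinearEquiv
  haveI := finite_HD_RG (B := B) E a' hz hinj hfin i
  have e' : (RG A B).obj (Q.obj E) ≅ R.obj K :=
    (RG A B).mapIso e ≪≫ ((adjD A B).rightAdjointUniq adj).app K
  exact Module.Finite.equiv ((homologyFunctor (ModuleCat.{u} B) i).mapIso e').toLinearEquiv

theorem isNormalized_rightAdjoint [IsLocalRing A] [IsLocalRing B]
    [IsLocalHom (algebraMap A B)] [IsNoetherianRing A] [IsNoetherianRing B] [Module.Finite A B]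
    (R : Dual.D A ⥤ Dual.D B) (adj : DRing.restrictD (algebraMap A B) ⊣ R) (ω : Dual.D A)
    (hn : Dual.IsNormalized A ω) : Dual.IsNormalized B (R.obj ω) := by
  intro i hi
  letI : R.CommShift ℤ := adj.rightAdjointCommShift ℤ
  have e1 : (Dual.inD B (IsLocalRing.ResidueField B) ⟶ (R.obj ω)⟦i⟧) ≃
      ((DRing.restrictD (algebraMap A B)).obj (Dual.inD B (IsLocalRing.ResidueField B)) ⟶
        ω⟦i⟧) :=
    ((R.commShiftIso i).app ω).symm.homToEquiv.trans (adj.homEquiv _ _).symm
  let X : ModuleCat.{u} A := (Fr A B).obj (ModuleCat.of B (IsLocalRing.ResidueField B))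
  let eX : (IsLocalRing.ResidueField B) ≃ₗ[A] X :=
    { toFun := fun x => x
      invFun := fun x => x
      map_add' := fun _ _ => rfl
      map_smul' := fun r x => (algebraMap_smul B r x).symm
      left_inv := fun _ => rfl
      right_inv := fun _ => rfl }
  haveI : Module.Finite A (IsLocalRing.ResidueField B) := Module.Finite.trans B _
  haveI : Module.Finite A X := Module.Finite.equiv eX
  have hfl : IsFiniteLength A X := by
    refine Groth.Agent.Lib.Helper5.DualFL.isFiniteLength_of_killed X 1 ?_
    intro r hr x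
    rw [pow_one] at hr
    have h1 : algebraMap A B r ∈ IsLocalRing.maximalIdeal B := by
      by_contra hcon
      have h2 : IsUnit (algebraMap A B r) := by
        by_contra h3
        exact hcon ((IsLocalRing.mem_maximalIdeal _).mpr h3)
      exact (IsLocalRing.mem_maximalIdeal _).mp hr (isUnit_of_map_unit (algebraMap A B) r h2)
    show (algebraMap A B r) • (show IsLocalRing.ResidueField B from x) = 0
    rw [Algebra.smul_def, IsLocalRing.ResidueField.algebraMap_eq,
      (IsLocalRing.residue_eq_zero_iff _).mpr h1, zero_mul]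
  have hz := Groth.Agent.Lib.Helper5.DualFL.vanish_of_isFiniteLength ω hn i hi X hfl
  haveI : Subsingleton ((DerivedCategory.singleFunctor (ModuleCat.{u} A) 0).obj X ⟶ ω⟦i⟧) :=
    ⟨fun f g => by rw [hz f, hz g]⟩
  exact (e1.trans ((restrictDInD (algebraMap A B)
    (IsLocalRing.ResidueField B)).homFromEquiv)).subsingleton

end Final

end Groth.Agent.Lib.Helper5.Coext
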