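import Mathlib
import Groth.Agent.Lib.Helper5CoextB

/-!
# The dimension function of `RHom_A(B, ω)` for a surjection `A → B` (helper5)

* `restrictD_map_smul_id`: restriction of scalars `D(B) ⥤ D(A)` is semilinear.
* `nontrivial_localized_hom_iff`: `Hom(B/q, R(ω)[i])_q ≠ 0 ↔ Hom(A/p, ω[i])_p ≠ 0`.
-/

set_option autoImplicit false
universe u
open CategoryTheory CategoryTheory.Limits
attribute [local instance] HasDerivedCategory.standard

namespace Groth.Agent.Lib.Helper5.DeltaRes

open DerivedCategory Groth.Agent.Lib.Helper17.DRingAdj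

section Semilinear

variable {A B : Type u} [CommRing A] [CommRing B] (φ : A →+* B)

lemma restrictD_map_smul_id (a : A) (Y : Dual.D B) :
    (DRing.restrictD φ).map (φ a • 𝟙 Y) = a • 𝟙 ((DRing.restrictD φ).obj Y) := by
  let K := (Q : CochainComplex (ModuleCat.{u} B) ℤ ⥤ Dual.D B).objPreimage Y
  let eY : (Q : _ ⥤ Dual.D B).obj K ≅ Y :=
    (Q : CochainComplex (ModuleCat.{u} B) ℤ ⥤ Dual.D B).objObjPreimageIso Y
  have h1 : φ a • 𝟙 Y = eY.inv ≫ Q.map (φ a • 𝟙 K) ≫ eY.hom := by
    rw [Functor.map_smul, CategoryTheory.Functor.map_id, Linear.smul_comp, Linear.comp_smul,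
      Category.id_comp, Iso.inv_hom_id]
  have h2 : ((ModuleCat.restrictScalars.{u} φ).mapHomologicalComplex (ComplexShape.up ℤ)).map
      (φ a • 𝟙 K) = a • 𝟙 _ := by
    refine HomologicalComplex.hom_ext _ _ fun p => ModuleCat.hom_ext (LinearMap.ext fun x => ?_)
    rfl
  have h3 := (ModuleCat.restrictScalars.{u} φ).mapDerivedCategoryFactors_hom_naturality
    (φ a • 𝟙 K)
  have hq : (Q : _ ⥤ Dual.D A).map (a • 𝟙 (((ModuleCat.restrictScalars.{u} φ).mapHomologicalComplex
      (ComplexShape.up ℤ)).obj K)) = a • 𝟙 _ := by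
    rw [Functor.map_smul, CategoryTheory.Functor.map_id]
  rw [h2, hq, Linear.comp_smul] at h3
  erw [Category.comp_id] at h3
  have h4 : (DRing.restrictD φ).map (Q.map (φ a • 𝟙 K)) = a • 𝟙 _ := by
    rw [← cancel_mono ((ModuleCat.restrictScalars.{u} φ).mapDerivedCategoryFactors.hom.app K),
      h3, Linear.smul_comp, Category.id_comp]
  rw [h1, Functor.map_comp, Functor.map_comp, h4, Linear.smul_comp, Linear.comp_smul,
    Category.id_comp, ← Functor.map_comp, Iso.inv_hom_id, CategoryTheory.Functor.map_id]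

lemma restrictD_map_smul (a : A) {X Y : Dual.D B} (z : X ⟶ Y) :
    (DRing.restrictD φ).map (φ a • z) = a • (DRing.restrictD φ).map z := by
  have h : φ a • z = (φ a • 𝟙 X) ≫ z := by rw [Linear.smul_comp, Category.id_comp]
  rw [h, Functor.map_comp, restrictD_map_smul_id, Linear.smul_comp, Category.id_comp]

lemma homEquiv_symm_smul (R : Dual.D A ⥤ Dual.D B) (adj : DRing.restrictD φ ⊣ R) (a : A)
    {X : Dual.D B} {Y : Dual.D A} (z : X ⟶ R.obj Y) :
    (adj.homEquiv X Y).symm (φ a • z) = a • (adj.homEquiv X Y).symm z := by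
  rw [Adjunction.homEquiv_counit, Adjunction.homEquiv_counit, restrictD_map_smul,
    Linear.smul_comp]

end Semilinear

section Main

variable {A B : Type u} [CommRing A] [CommRing B] [Algebra A B]

/-- `A/p ≃ B/q` as `A`-modules, for `A → B` surjective and `p` the preimage of `q`. -/
noncomputable def quotLin (hs : Function.Surjective (algebraMap A B)) (q : Ideal B) :
    (A ⧸ q.comap (algebraMap A B)) ≃ₗ[A]
      ((ModuleCat.restrictScalars.{u} (algebraMap A B)).obj (ModuleCat.of B (B ⧸ q))) := by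
  let ψ : A →ₗ[A] ((ModuleCat.restrictScalars.{u} (algebraMap A B)).obj
      (ModuleCat.of B (B ⧸ q))) :=
    { toFun := fun a => (Ideal.Quotient.mk q (algebraMap A B a) : B ⧸ q)
      map_add' := fun a a' => by
        show Ideal.Quotient.mk q (algebraMap A B (a + a')) =
          Ideal.Quotient.mk q (algebraMap A B a) + Ideal.Quotient.mk q (algebraMap A B a')
        rw [map_add, map_add]
      map_smul' := fun r a => by
        show Ideal.Quotient.mk q (algebraMap A B (r • a)) =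
          algebraMap A B r • (Ideal.Quotient.mk q (algebraMap A B a) : B ⧸ q)
        rw [smul_eq_mul, map_mul, map_mul]
        rfl }
  have hψ : ∀ a, ψ a = (Ideal.Quotient.mk q (algebraMap A B a) : B ⧸ q) := fun a => rfl
  have hsurj : Function.Surjective ψ := by
    intro y
    obtain ⟨b, hb⟩ := Ideal.Quotient.mk_surjective (show B ⧸ q from y)
    obtain ⟨a, rfl⟩ := hs b
    exact ⟨a, hb⟩
  have hker : LinearMap.ker ψ = q.comap (algebraMap A B) := by
    ext a
    rw [LinearMap.mem_ker, hψ, Ideal.mem_comap]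
    exact Ideal.Quotient.eq_zero_iff_mem
  exact (Submodule.quotEquivOfEq _ _ hker.symm).trans (ψ.quotKerEquivOfSurjective hsurj)

theorem nontrivial_localized_hom_iff (hs : Function.Surjective (algebraMap A B))
    (R : Dual.D A ⥤ Dual.D B) (adj : DRing.restrictD (algebraMap A B) ⊣ R) (ω : Dual.D A)
    (q : PrimeSpectrum B) (i : ℤ) :
    Nontrivial (LocalizedModule q.asIdeal.primeCompl
      (Dual.inD B (B ⧸ q.asIdeal) ⟶ (R.obj ω)⟦i⟧)) ↔
    Nontrivial (LocalizedModule (q.asIdeal.comap (algebraMap A B)).primeCompl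
      (Dual.inD A (A ⧸ q.asIdeal.comap (algebraMap A B)) ⟶ ω⟦i⟧)) := by
  letI : R.CommShift ℤ := adj.rightAdjointCommShift ℤ
  let c : (R.obj ω)⟦i⟧ ≅ R.obj (ω⟦i⟧) := ((R.commShiftIso i).app ω).symm
  let isoX : (DRing.restrictD (algebraMap A B)).obj (Dual.inD B (B ⧸ q.asIdeal)) ≅
      Dual.inD A (A ⧸ q.asIdeal.comap (algebraMap A B)) :=
    restrictDInD (algebraMap A B) (B ⧸ q.asIdeal) ≪≫
      ((singleFunctor (ModuleCat.{u} A) 0).mapIso (quotLin hs q.asIdeal).toModuleIso).symm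
  let Φ : (Dual.inD B (B ⧸ q.asIdeal) ⟶ (R.obj ω)⟦i⟧) →
      (Dual.inD A (A ⧸ q.asIdeal.comap (algebraMap A B)) ⟶ ω⟦i⟧) :=
    fun x => isoX.inv ≫ (adj.homEquiv _ _).symm (x ≫ c.hom)
  have hΦinj : Function.Injective Φ := by
    intro x x' h
    have h1 : (adj.homEquiv _ _).symm (x ≫ c.hom) = (adj.homEquiv _ _).symm (x' ≫ c.hom) :=
      (cancel_epi isoX.inv).mp h
    exact (cancel_mono c.hom).mp ((adj.homEquiv _ _).symm.injective h1)
  have hΦsurj : Function.Surjective Φ := by
    intro y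
    refine ⟨(adj.homEquiv _ _) (isoX.hom ≫ y) ≫ c.inv, ?_⟩
    show isoX.inv ≫ (adj.homEquiv _ _).symm (((adj.homEquiv _ _) (isoX.hom ≫ y) ≫ c.inv) ≫ c.hom) = y
    rw [Category.assoc, Iso.inv_hom_id, Category.comp_id, Equiv.symm_apply_apply,
      Iso.inv_hom_id_assoc]
  have hΦ : ∀ (t : A) (x : Dual.inD B (B ⧸ q.asIdeal) ⟶ (R.obj ω)⟦i⟧),
      Φ (algebraMap A B t • x) = t • Φ x := by
    intro t x
    show isoX.inv ≫ (adj.homEquiv _ _).symm ((algebraMap A B t • x) ≫ c.hom) =
      t • (isoX.inv ≫ (adj.homEquiv _ _).symm (x ≫ c.hom))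
    rw [Linear.smul_comp, homEquiv_symm_smul, Linear.comp_smul]
  have hΦ0 : Φ 0 = 0 := by
    have := hΦ 0 0
    rw [map_zero, zero_smul, zero_smul] at this
    exact this
  rw [← not_subsingleton_iff_nontrivial, ← not_subsingleton_iff_nontrivial,
    LocalizedModule.subsingleton_iff, LocalizedModule.subsingleton_iff]
  refine not_congr ⟨fun h y => ?_, fun h x => ?_⟩
  · obtain ⟨x, rfl⟩ := hΦsurj y
    obtain ⟨s, hs', hsx⟩ := h x
    obtain ⟨t, rfl⟩ := hs s
    refine ⟨t, fun ht => hs' ht, ?_⟩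
    rw [← hΦ, hsx, hΦ0]
  · obtain ⟨t, ht, hty⟩ := h (Φ x)
    refine ⟨algebraMap A B t, fun hq => ht hq, ?_⟩
    apply hΦinj
    rw [hΦ, hty, hΦ0]

end Main

end Groth.Agent.Lib.Helper5.DeltaRes
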