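import Mathlib
import Groth.Agent.Lib.Helper10DualCx
import Groth.Agent.Lib.Helper1DT2
import Groth.Agent.Lib.Helper1TorD
set_option backward.isDefEq.respectTransparency.types false

/-!
# Morphisms out of a K-projective complex and the Hom complex (helper5)

* `homEquivHomology`: for a K-projective complex `G` and any complex `L`,
  `H^i(Hom•(G, L)) ≃ₗ Hom_{D(A)}(G, L[i])`.
* `isZero_of_forall_hom_eq_zero`: a bounded complex `C` of finite projective modules with
  `Hom_{D(A)}(C, A[i]) = 0` for all `i` is zero in `D(A)`.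
-/

set_option autoImplicit false
universe u
open CategoryTheory CategoryTheory.Limits
attribute [local instance] HasDerivedCategory.standard

namespace Groth.Agent.Lib.Helper5.RelDual

open DerivedCategory HomologicalComplex CochainComplex.HomComplex
  Groth.Agent.Lib.Helper1.DT Groth.Agent.Lib.Helper10.DualCx

variable {A : Type u} [CommRing A]

section Cl

variable (G L : DRing.Cx A) (i : ℤ)

lemma mem_ker_iff (z : Cochain G L i) :
    z ∈ LinearMap.ker ((DRing.homCx G L).sc' (i - 1) i (i + 1)).g.hom ↔ δ i (i + 1) z = 0 :=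
  Iff.rfl

/-- the cocycle attached to an element of the kernel. -/
noncomputable def toCocycle (z : LinearMap.ker ((DRing.homCx G L).sc' (i - 1) i (i + 1)).g.hom) :
    Cocycle G L i :=
  Cocycle.mk z.1 (i + 1) rfl ((mem_ker_iff G L i z.1).mp z.2)

lemma toCocycle_add (z z' : LinearMap.ker ((DRing.homCx G L).sc' (i - 1) i (i + 1)).g.hom) :
    toCocycle G L i (z + z') = toCocycle G L i z + toCocycle G L i z' :=
  Cocycle.ext rfl

lemma toCocycle_smul (a : A) (z : LinearMap.ker ((DRing.homCx G L).sc' (i - 1) i (i + 1)).g.hom) :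
    toCocycle G L i (a • z) = a • toCocycle G L i z :=
  Cocycle.ext rfl

lemma equivHomShift_symm_smul (a : A) (z : Cocycle G L i) :
    Cocycle.equivHomShift.symm (a • z) = a • Cocycle.equivHomShift.symm z := by
  refine HomologicalComplex.hom_ext _ _ fun p => ?_
  rw [Cocycle.equivHomShift_symm_apply, HomologicalComplex.smul_f_apply,
    Cocycle.equivHomShift_symm_apply, Cocycle.homOf_f, Cocycle.homOf_f]
  show ((a • z).1.rightShift i 0 (zero_add i)).v p p (add_zero p) =
    a • (z.1.rightShift i 0 (zero_add i)).v p p (add_zero p)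
  rw [Cocycle.coe_smul, Cochain.rightShift_smul, Cochain.smul_v]

/-- cocycles to morphisms in the derived category. -/
noncomputable def clMap :
    LinearMap.ker ((DRing.homCx G L).sc' (i - 1) i (i + 1)).g.hom →ₗ[A]
      (Q.obj G ⟶ (Q.obj L)⟦i⟧) where
  toFun z := Q.map (Cocycle.equivHomShift.symm (toCocycle G L i z)) ≫ (Q.commShiftIso i).hom.app L
  map_add' z z' := by
    rw [toCocycle_add, map_add, Functor.map_add, Preadditive.add_comp]
  map_smul' a z := by
    rw [toCocycle_smul, equivHomShift_symm_smul, Functor.map_smul, Linear.smul_comp]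
    rfl

lemma clMap_apply (z : LinearMap.ker ((DRing.homCx G L).sc' (i - 1) i (i + 1)).g.hom) :
    clMap G L i z =
      Q.map (Cocycle.equivHomShift.symm (toCocycle G L i z)) ≫ (Q.commShiftIso i).hom.app L :=
  rfl

variable [G.IsKProjective]

lemma clMap_surjective : Function.Surjective (clMap G L i) := by
  intro φ
  obtain ⟨g, hg⟩ := Q_map_surjective G (L⟦i⟧) (φ ≫ (Q.commShiftIso i).inv.app L)
  let c : Cocycle G L i := Cocycle.equivHomShift g
  refine ⟨⟨c.1, (mem_ker_iff G L i c.1).mpr (c.δ_eq_zero (i + 1))⟩, ?_⟩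
  rw [clMap_apply]
  have h1 : toCocycle G L i ⟨c.1, (mem_ker_iff G L i c.1).mpr (c.δ_eq_zero (i + 1))⟩ = c :=
    Cocycle.ext rfl
  rw [h1, AddEquiv.symm_apply_apply, hg, Category.assoc, Iso.inv_hom_id_app]
  exact Category.comp_id φ

lemma clMap_eq_zero_iff (z : LinearMap.ker ((DRing.homCx G L).sc' (i - 1) i (i + 1)).g.hom) :
    clMap G L i z = 0 ↔ toCocycle G L i z ∈ coboundaries G L i := by
  rw [clMap_apply, ← CohomologyClass.toHom_mk_eq_zero_iff, CohomologyClass.toHom_mk]
  constructor
  · intro h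
    have h1 : Q.map (Cocycle.equivHomShift.symm (toCocycle G L i z)) = 0 :=
      (cancel_mono ((Q.commShiftIso i).hom.app L)).mp (h.trans zero_comp.symm)
    obtain ⟨H⟩ := homotopy_of_Q_map_eq G (L⟦i⟧) _ 0 (by rw [h1, Functor.map_zero])
    rw [HomotopyCategory.eq_of_homotopy _ _ H, Functor.map_zero]
  · intro h
    have h1 : Q.map (Cocycle.equivHomShift.symm (toCocycle G L i z)) = 0 := by
      exact (congrArg (fun t => Qh.map t) h).trans (Functor.map_zero _ _ _)
    rw [h1, zero_comp]

lemma ker_clMap : LinearMap.ker (clMap G L i) =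
    LinearMap.range ((DRing.homCx G L).sc' (i - 1) i (i + 1)).moduleCatToCycles := by
  ext z
  rw [LinearMap.mem_ker, LinearMap.mem_range, clMap_eq_zero_iff,
    mem_coboundaries_iff _ (i - 1) (by lia)]
  constructor
  · rintro ⟨k, hk⟩
    exact ⟨k, Subtype.ext hk⟩
  · rintro ⟨k, hk⟩
    exact ⟨k, congrArg Subtype.val hk⟩

/-- `H^i(Hom•(G, L)) ≃ Hom_{D(A)}(G, L[i])` for K-projective `G`. -/
noncomputable def homEquivHomology :
    (DRing.homCx G L).homology i ≃ₗ[A] (Q.obj G ⟶ (Q.obj L)⟦i⟧) :=
  ((((DRing.homCx G L).homologyIsoSc' (i - 1) i (i + 1) (by simp) (by simp)) ≪≫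
    ((DRing.homCx G L).sc' (i - 1) i (i + 1)).moduleCatHomologyIso).toLinearEquiv :
      (DRing.homCx G L).homology i ≃ₗ[A]
        (LinearMap.ker ((DRing.homCx G L).sc' (i - 1) i (i + 1)).g.hom ⧸
          LinearMap.range ((DRing.homCx G L).sc' (i - 1) i (i + 1)).moduleCatToCycles)) ≪≫ₗ
  (Submodule.quotEquivOfEq _ _ (ker_clMap G L i).symm) ≪≫ₗ
  (clMap G L i).quotKerEquivOfSurjective (clMap_surjective G L i)

end Cl

section Zero

lemma isZero_homology_of_forall_hom_eq_zero (G L : DRing.Cx A) [G.IsKProjective] (i : ℤ)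
    (h : ∀ φ : Q.obj G ⟶ (Q.obj L)⟦i⟧, φ = 0) : IsZero ((DRing.homCx G L).homology i) := by
  haveI : Subsingleton (Q.obj G ⟶ (Q.obj L)⟦i⟧) := ⟨fun s t => by rw [h s, h t]⟩
  haveI : Subsingleton ((DRing.homCx G L).homology i) :=
    (homEquivHomology G L i).toEquiv.subsingleton
  exact ModuleCat.isZero_of_subsingleton _

lemma isZero_Q_of_isZero_homology (K : DRing.Cx A) (h : ∀ i : ℤ, IsZero (K.homology i)) :
    IsZero (Q.obj K) :=
  Groth.Agent.Lib.Helper1.Tor.isZero_Q_of_exactAt K fun j =>
    (HomologicalComplex.exactAt_iff_isZero_homology K j).2 (h j)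

/-- a bounded complex of finite projective modules orthogonal to all shifts of `A` is zero. -/
theorem isZero_of_forall_hom_eq_zero (C : DRing.Cx A) (a b : ℤ)
    (hC : DRing.VanishesOutside C a b) (hfp : DRing.TermwiseFiniteProjective C)
    (h : ∀ (i : ℤ) (φ : Q.obj C ⟶ (Q.obj (S A))⟦i⟧), φ = 0) : IsZero (Q.obj C) := by
  haveI : C.IsKProjective := isKProjective_of_vanishesOutside C a b hC (fun i => (hfp i).2)
  have h2 : IsZero (Q.obj (D C)) :=
    isZero_Q_of_isZero_homology _ fun i => isZero_homology_of_forall_hom_eq_zero C (S A) i (h i)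
  haveI : (D C).IsKProjective :=
    isKProjective_of_vanishesOutside (D C) (-b) (-a) (vanishesOutside_D C a b hC)
      (fun i => (termwiseFiniteProjective_D C hfp i).2)
  have h3 : ∀ i : ℤ, IsZero ((D (D C)).homology i) := fun i =>
    isZero_homology_of_forall_hom_eq_zero (D C) (S A) i (fun φ => h2.eq_of_src _ _)
  haveI := isIso_bd C hfp
  exact isZero_Q_of_isZero_homology _ fun i =>
    (h3 i).of_iso ((HomologicalComplex.homologyFunctor _ _ i).mapIso (asIso (bd C)))

end Zero

end Groth.Agent.Lib.Helper5.RelDual
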