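import Mathlib
import Groth.Agent.Lib.Helper5RelDualA
import Groth.Agent.Lib.Helper5CoextB
import Groth.Agent.Lib.Helper5LocDF
import Groth.Agent.Lib.Helper5DeltaRes
import Groth.Agent.Lib.Helper10RHomCx
set_option backward.isDefEq.respectTransparency.types false

/-!
# `RHom_P(A, P)` for a perfect quotient `A` of `P` (helper5)

Let `P → A` be a surjection of rings, `Rr` a right adjoint of restriction of scalars
`D(A) ⥤ D(P)`, and `F → A` a resolution of `A` by a K-projective complex of `P`-modules.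

* `nonempty_restrict_rightAdjoint_iso`: `Rr(P)` restricted to `P` is `Hom•(F, P)`.
* `hom_rightAdjoint`: for `Y` in `D(A)` whose restriction to `P` is `Hom•(F, P)` with `F` bounded
  with finite projective terms, `Hom(Y, Rr(P)) ≃ A` and `Hom(Y, Rr(P)[i]) = 0` for `i ≠ 0`.
* `toEnd_bijective_of_linearEquiv`: `End(W) ≃ₗ[A] A` implies `a ↦ a • 𝟙 W` bijective.
-/

set_option autoImplicit false
universe u
open CategoryTheory CategoryTheory.Limits
attribute [local instance] HasDerivedCategory.standard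

namespace Groth.Agent.Lib.Helper5.RelDual

open DerivedCategory HomologicalComplex CochainComplex.HomComplex
  Groth.Agent.Lib.Helper1.DT Groth.Agent.Lib.Helper10.DualCx Groth.Agent.Lib.Helper10.RHomCx
  Groth.Agent.Lib.Helper10.TensHom Groth.Agent.Lib.Helper5.BiDual Groth.Agent.Lib.Helper5.Coext
  Groth.Agent.Lib.Helper5.LocD Groth.Agent.Lib.Helper5.HomCxQis
  Groth.Agent.Lib.Helper5.DeltaRes

section DualCxIso

variable {A : Type u} [CommRing A] (E : DRing.Cx A) (M : ModuleCat.{u} A)

/-- the complex `M[0]` -/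
noncomputable abbrev sgl : DRing.Cx A :=
  (CochainComplex.singleFunctor (ModuleCat.{u} A) 0).obj M

/-- cochains out of `M[0]`, linearly. -/
noncomputable def fromSingleLin (p : ℤ) : Cochain (sgl M) E p ≃ₗ[A] (M ⟶ E.X p) :=
  { Cochain.fromSingleEquiv (X := M) (K := E) (zero_add p) with
    map_smul' := fun a α => by
      change (HomologicalComplex.singleObjXSelf (ComplexShape.up ℤ) 0 M).inv ≫
          (a • α).v 0 p (zero_add p) =
        a • ((HomologicalComplex.singleObjXSelf (ComplexShape.up ℤ) 0 M).inv ≫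
          α.v 0 p (zero_add p))
      rw [Cochain.smul_v]
      exact Linear.comp_smul (R := A) (C := ModuleCat.{u} A) _ _ _ _ _ _ }

lemma fromSingleLin_apply (p : ℤ) (α : Cochain (sgl M) E p) :
    fromSingleLin E M p α = Cochain.fromSingleEquiv (X := M) (K := E) (zero_add p) α := rfl

lemma fromSingleLin_δ (p q : ℤ) (α : Cochain (sgl M) E p) :
    fromSingleLin E M q (δ p q α) = fromSingleLin E M p α ≫ E.d p q := by
  obtain ⟨f, rfl⟩ := Cochain.fromSingleMk_surjective α p (zero_add p)
  rw [Cochain.δ_fromSingleMk f (zero_add p) q q (zero_add q), fromSingleLin_apply,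
    fromSingleLin_apply, Cochain.fromSingleEquiv_fromSingleMk,
    Cochain.fromSingleEquiv_fromSingleMk]

/-- `Hom•(M[0], E)` is `Hom_A(M, E^•)`. -/
noncomputable def dualCxIso : DRing.homCx (sgl M) E ≅ dualCx E M :=
  HomologicalComplex.Hom.isoOfComponents (fun p => (fromSingleLin E M p).toModuleIso) (by
    intro p q _
    refine ModuleCat.hom_ext (LinearMap.ext fun (α : Cochain (sgl M) E p) => ?_)
    exact (fromSingleLin_δ E M p q α).symm)

end DualCxIso

section T2

variable {P A : Type u} [CommRing P] [CommRing A] [Algebra P A]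

/-- `Rr(P)` restricted to `P` is the dual of a K-projective resolution of `A`. -/
theorem nonempty_restrict_rightAdjoint_iso (Rr : Dual.D P ⥤ Dual.D A)
    (adj : DRing.restrictD (algebraMap P A) ⊣ Rr) (F : DRing.Cx P) [F.IsKProjective]
    (aF : F ⟶ sgl (Bm P A)) [QuasiIso aF] :
    Nonempty ((DRing.restrictD (algebraMap P A)).obj (Rr.obj (Dual.inD P P)) ≅ Q.obj (D F)) := by
  have hge : ∀ j : ℤ, j < 0 → Subsingleton (Dual.HD P (Dual.inD P P) j) := by
    intro j hj
    have h0 : (Dual.inD P P).IsGE 0 := inferInstance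
    exact ModuleCat.subsingleton_of_isZero ((DerivedCategory.isGE_iff _ 0).1 h0 j hj)
  obtain ⟨E, a', hz, hinj, ⟨e⟩⟩ := hasInjRes_of_bddBelow (Dual.inD P P) 0 hge
  haveI : E.IsKInjective := isKInjective_of_bddBelow E a' hz hinj
  obtain ⟨s, hs⟩ := exists_Q_map_eq (K := S P) (L := E)
    ((singleFunctorIsoCompQ (ModuleCat.{u} P) 0).inv.app (ModuleCat.of P P) ≫ e.inv)
  haveI : IsIso (Q.map s) := by rw [hs]; infer_instance
  haveI : QuasiIso s := (DerivedCategory.isIso_Q_map_iff_quasiIso _ _).1 inferInstance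
  haveI : QuasiIso (homCxPre aF E) := quasiIso_homCxPre E aF
  haveI : QuasiIso (DRing.homCxMap F s) := quasiIso_homCxMap F s
  haveI : IsIso (Q.map (homCxPre aF E)) :=
    (DerivedCategory.isIso_Q_map_iff_quasiIso _ _).2 inferInstance
  haveI : IsIso (Q.map (DRing.homCxMap F s)) :=
    (DerivedCategory.isIso_Q_map_iff_quasiIso _ _).2 inferInstance
  exact ⟨(DRing.restrictD (algebraMap P A)).mapIso
      ((((adjD P A).rightAdjointUniq adj).app (Dual.inD P P)).symm ≪≫
        (RG P A).mapIso e.symm) ≪≫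
    J₀ A E ≪≫ Q.mapIso (dualCxIso E (Bm P A)).symm ≪≫ asIso (Q.map (homCxPre aF E)) ≪≫
    (asIso (Q.map (DRing.homCxMap F s))).symm⟩

end T2

section End

variable {A : Type u} [CommRing A]

/-- if `End(W)` is free of rank one over `A` then `a ↦ a • 𝟙 W` is bijective. -/
theorem toEnd_bijective_of_linearEquiv {W : Dual.D A} (e : (W ⟶ W) ≃ₗ[A] A) :
    Function.Bijective (fun a : A => a • 𝟙 W) := by
  obtain ⟨gen, hgen1⟩ : ∃ g : W ⟶ W, e g = 1 := ⟨e.symm 1, e.apply_symm_apply 1⟩
  have hgen : ∀ f : W ⟶ W, f = e f • gen := fun f => by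
    apply e.injective
    rw [map_smul, hgen1, smul_eq_mul, mul_one]
  obtain ⟨c, hc⟩ : ∃ c : A, c = e (𝟙 W) := ⟨_, rfl⟩
  obtain ⟨b, hb⟩ : ∃ b : A, b = e (gen ≫ gen) := ⟨_, rfl⟩
  have h1 : 𝟙 W = c • gen := by rw [hc]; exact hgen _
  have h2 : gen ≫ gen = b • gen := by rw [hb]; exact hgen _
  have h3 : c * b = 1 := by
    have h4 : gen = (c * b) • gen := by
      calc gen = gen ≫ 𝟙 W := (Category.comp_id _).symm
        _ = gen ≫ (c • gen) := by rw [← h1]
        _ = c • (gen ≫ gen) := by rw [Linear.comp_smul]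
        _ = c • (b • gen) := by rw [h2]
        _ = (c * b) • gen := by rw [smul_smul]
    have h5 := congrArg e h4
    rw [map_smul, hgen1, smul_eq_mul, mul_one] at h5
    exact h5.symm
  have h6 : gen = b • 𝟙 W := by
    rw [h1, smul_smul, mul_comm, h3, one_smul]
  constructor
  · intro a a' (h : a • 𝟙 W = a' • 𝟙 W)
    have h7 := congrArg e h
    rw [map_smul, map_smul, ← hc, smul_eq_mul, smul_eq_mul] at h7
    calc a = a * (c * b) := by rw [h3, mul_one]
      _ = a * c * b := by ring
      _ = a' * c * b := by rw [h7]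
      _ = a' * (c * b) := by ring
      _ = a' := by rw [h3, mul_one]
  · intro f
    refine ⟨e f * b, ?_⟩
    show (e f * b) • 𝟙 W = f
    rw [mul_smul, ← h6]
    exact (hgen f).symm

end End

section T3

variable {P A : Type u} [CommRing P] [CommRing A] [Algebra P A]

/-- `Hom_{D(P)}(Hom•(F, P), P[i]) ≃ H^i(M[0])` for a bounded finite projective resolution `F` of
`M`. -/
noncomputable def homDualEquiv (F : DRing.Cx P) (a b : ℤ) (hF : DRing.VanishesOutside F a b)
    (hfp : DRing.TermwiseFiniteProjective F) (M : ModuleCat.{u} P) (aF : F ⟶ sgl M) [QuasiIso aF]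
    (i : ℤ) : (Q.obj (D F) ⟶ (Q.obj (S P))⟦i⟧) ≃ₗ[P] (sgl M).homology i :=
  haveI : (D F).IsKProjective :=
    isKProjective_of_vanishesOutside (D F) (-b) (-a) (vanishesOutside_D F a b hF)
      (fun i => (termwiseFiniteProjective_D F hfp i).2)
  haveI := isIso_bd F hfp
  (homEquivHomology (D F) (S P) i).symm ≪≫ₗ
    ((HomologicalComplex.homologyFunctor _ _ i).mapIso (asIso (bd F)).symm).toLinearEquiv ≪≫ₗ
    (isoOfQuasiIsoAt aF i).toLinearEquiv

/-- `Hom(Y, Rr(P)[i])` for `Y` restricting to the dual of a perfect resolution of `A`. -/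
theorem hom_rightAdjoint (Rr : Dual.D P ⥤ Dual.D A)
    (adj : DRing.restrictD (algebraMap P A) ⊣ Rr)
    (hsurj : Function.Surjective (algebraMap P A))
    (F : DRing.Cx P) (a b : ℤ) (hF : DRing.VanishesOutside F a b)
    (hfp : DRing.TermwiseFiniteProjective F) (aF : F ⟶ sgl (Bm P A)) [QuasiIso aF]
    (Y : Dual.D A) (θ : (DRing.restrictD (algebraMap P A)).obj Y ≅ Q.obj (D F)) :
    Nonempty ((Y ⟶ Rr.obj (Dual.inD P P)) ≃ₗ[A] A) ∧
      ∀ i : ℤ, i ≠ 0 → Subsingleton (Y ⟶ (Rr.obj (Dual.inD P P))⟦i⟧) := by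
  letI : Rr.CommShift ℤ := adj.rightAdjointCommShift ℤ
  let sI : Dual.inD P P ≅ Q.obj (S P) :=
    (singleFunctorIsoCompQ (ModuleCat.{u} P) 0).app (ModuleCat.of P P)
  constructor
  · let Ψ : ((DRing.restrictD (algebraMap P A)).obj Y ⟶ Dual.inD P P) ≃ₗ[P] Bm P A :=
      Linear.homCongr P θ (sI ≪≫ ((shiftFunctorZero (Dual.D P) ℤ).app _).symm) ≪≫ₗ
        homDualEquiv F a b hF hfp (Bm P A) aF 0 ≪≫ₗ
        (HomologicalComplex.singleObjHomologySelfIso (ComplexShape.up ℤ) 0
          (Bm P A)).toLinearEquiv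
    exact ⟨{
      toFun := fun f => (Ψ ((adj.homEquiv Y _).symm f) : Bm P A)
      invFun := fun x => adj.homEquiv Y _ (Ψ.symm (show Bm P A from x))
      left_inv := fun f => by
        show adj.homEquiv Y _ (Ψ.symm (Ψ ((adj.homEquiv Y _).symm f))) = f
        rw [Ψ.symm_apply_apply, Equiv.apply_symm_apply]
      right_inv := fun x => by
        show Ψ ((adj.homEquiv Y _).symm (adj.homEquiv Y _ (Ψ.symm (show Bm P A from x)))) = x
        rw [Equiv.symm_apply_apply, Ψ.apply_symm_apply]
      map_add' := fun f g => by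
        show Ψ ((adj.homEquiv Y _).symm (f + g)) =
          Ψ ((adj.homEquiv Y _).symm f) + Ψ ((adj.homEquiv Y _).symm g)
        rw [Adjunction.homEquiv_counit, Adjunction.homEquiv_counit, Adjunction.homEquiv_counit,
          Functor.map_add, Preadditive.add_comp, map_add]
      map_smul' := fun c f => by
        obtain ⟨p, rfl⟩ := hsurj c
        have h1 : Ψ ((adj.homEquiv Y _).symm (algebraMap P A p • f)) =
            p • Ψ ((adj.homEquiv Y _).symm f) := by
          rw [homEquiv_symm_smul, map_smul]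
        exact h1 }⟩
  · intro i hi
    have e : (Y ⟶ (Rr.obj (Dual.inD P P))⟦i⟧) ≃ ((sgl (Bm P A)).homology i) :=
      (((Rr.commShiftIso i).app _).symm.homToEquiv.trans (adj.homEquiv _ _).symm).trans
        ((Iso.homCongr θ ((shiftFunctor (Dual.D P) i).mapIso sI)).trans
          (homDualEquiv F a b hF hfp (Bm P A) aF i).toEquiv)
    haveI : Subsingleton ((sgl (Bm P A)).homology i) :=
      ModuleCat.subsingleton_of_isZero
        (HomologicalComplex.isZero_single_obj_homology (ComplexShape.up ℤ) 0 (Bm P A) i hi)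
    exact e.subsingleton

end T3

end Groth.Agent.Lib.Helper5.RelDual
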