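import Mathlib
import Groth.Agent.Lib.Helper10BiDualB
import Groth.Agent.Lib.Helper10BiDualC
import Groth.Agent.Lib.Helper10RHomCx
import Groth.Agent.Lib.Helper5BiDualD
import Groth.Agent.Lib.Helper5RelDualB

/-!
# Biduality for complexes with finite cohomology (helper10)

For a dualizing complex `ω` represented by a bounded complex of injectives `E`, the biduality map
`K ⟶ Hom•(Hom•(K, E), E)` is a quasi-isomorphism for every complex `K` with finite cohomology.
-/

set_option autoImplicit false
set_option backward.isDefEq.respectTransparency.types false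
universe u
open CategoryTheory CategoryTheory.Limits CochainComplex CochainComplex.HomComplex
attribute [local instance] HasDerivedCategory.standard

namespace Groth.Agent.Lib.Helper10.BiDualD

open DRing DerivedCategory Groth.Agent.Lib.Helper10.TensHom Groth.Agent.Lib.Helper10.BiDualB
  Groth.Agent.Lib.Helper10.BiDualC Groth.Agent.Lib.Helper5.BiDual

section Bridge

variable {C : Type*} [Category C] [Abelian C] [HasDerivedCategory C]

/-- if there is no nonzero map `X ⟶ I[n]` in the derived category, every `n`-cocycle from `X` to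
the K-injective complex `I` is a coboundary -/
theorem mem_coboundaries_of_forall_eq_zero (X I : CochainComplex C ℤ) [I.IsKInjective] (n : ℤ)
    (h : ∀ φ : Q.obj X ⟶ (Q.obj I)⟦n⟧, φ = 0) (z : Cocycle X I n) :
    z ∈ coboundaries X I n := by
  rw [← CohomologyClass.toHom_mk_eq_zero_iff, CohomologyClass.toHom_mk]
  haveI : (I⟦n⟧).IsKInjective := inferInstance
  apply (IsKInjective.Qh_map_bijective _ (I⟦n⟧)).injective
  rw [Functor.map_zero]
  have h0 : Q.map (Cocycle.equivHomShift.symm z) = 0 := by
    have := h (Q.map (Cocycle.equivHomShift.symm z) ≫ (Q.commShiftIso n).hom.app I)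
    exact (cancel_mono ((Q.commShiftIso n).hom.app I)).1 (this.trans zero_comp.symm)
  have h1 := (quotientCompQhIso C).hom.naturality (Cocycle.equivHomShift.symm z)
  rw [h0, comp_zero] at h1
  exact (cancel_mono ((quotientCompQhIso C).hom.app (I⟦n⟧))).1 (h1.trans zero_comp.symm)

/-- chain maps into a K-injective complex which agree in the derived category are homotopic -/
theorem exists_cochain_of_Q_map_eq (X I : CochainComplex C ℤ) [I.IsKInjective] (g g' : X ⟶ I)
    (h : Q.map g = Q.map g') :
    ∃ y : Cochain X I (-1), Cochain.ofHom g = δ (-1) 0 y + Cochain.ofHom g' := by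
  have h1 : (HomotopyCategory.quotient C (.up ℤ)).map g =
      (HomotopyCategory.quotient C (.up ℤ)).map g' := by
    apply (IsKInjective.Qh_map_bijective _ I).injective
    have e1 := (quotientCompQhIso C).hom.naturality g
    have e2 := (quotientCompQhIso C).hom.naturality g'
    rw [h] at e1
    exact (cancel_mono ((quotientCompQhIso C).hom.app I)).1 (e1.trans e2.symm)
  obtain ⟨y, hy⟩ := Cochain.equivHomotopy g g' (HomotopyCategory.homotopyOfEq g g' h1)
  exact ⟨y, hy⟩

end Bridge

section Phi

variable {A : Type u} [CommRing A] {ω : Dual.D A} (R : Res ω)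

/-- `Hom•(Hom•(f, E), E)` -/
noncomputable abbrev DDmap {K L : Cx A} (f : K ⟶ L) :
    DRing.homCx (DRing.homCx K R.E) R.E ⟶ DRing.homCx (DRing.homCx L R.E) R.E :=
  homCxPre (homCxPre f R.E) R.E

/-- the property: `H^n` of the biduality map is an isomorphism -/
def PΦ (n : ℤ) (K : Cx A) : Prop := IsIso (HomologicalComplex.homologyMap (bd K R.E) n)

lemma pΦ_iff_of_isIso {K L : Cx A} (f : K ⟶ L) (n : ℤ)
    (h1 : IsIso (HomologicalComplex.homologyMap f n))
    (h2 : IsIso (HomologicalComplex.homologyMap (DDmap R f) n)) : PΦ R n K ↔ PΦ R n L := by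
  have key : HomologicalComplex.homologyMap f n ≫ HomologicalComplex.homologyMap (bd L R.E) n =
      HomologicalComplex.homologyMap (bd K R.E) n ≫
        HomologicalComplex.homologyMap (DDmap R f) n := by
    rw [← HomologicalComplex.homologyMap_comp, ← HomologicalComplex.homologyMap_comp,
      bd_naturality]
  constructor
  · intro (hK : IsIso (HomologicalComplex.homologyMap (bd K R.E) n))
    have : HomologicalComplex.homologyMap (bd L R.E) n =
        inv (HomologicalComplex.homologyMap f n) ≫ HomologicalComplex.homologyMap (bd K R.E) n ≫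
          HomologicalComplex.homologyMap (DDmap R f) n := by
      rw [← key, IsIso.inv_hom_id_assoc]
    show IsIso (HomologicalComplex.homologyMap (bd L R.E) n)
    rw [this]
    infer_instance
  · intro (hL : IsIso (HomologicalComplex.homologyMap (bd L R.E) n))
    have : HomologicalComplex.homologyMap (bd K R.E) n =
        (HomologicalComplex.homologyMap f n ≫ HomologicalComplex.homologyMap (bd L R.E) n) ≫
          inv (HomologicalComplex.homologyMap (DDmap R f) n) := by
      rw [key, Category.assoc, IsIso.hom_inv_id, Category.comp_id]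
    show IsIso (HomologicalComplex.homologyMap (bd K R.E) n)
    rw [this]
    infer_instance

lemma isIso_DDmap_f {K L : Cx A} (f : K ⟶ L) (m : ℤ)
    (h : ∀ p : ℤ, m - max (R.b - R.a) 0 ≤ p → p ≤ m + max (R.b - R.a) 0 → IsIso (f.f p)) :
    IsIso ((DDmap R f).f m) := by
  apply isIso_homCxPre_f
  intro p
  by_cases hp : R.a ≤ p + m ∧ p + m ≤ R.b
  · left
    apply isIso_homCxPre_f
    intro p'
    by_cases hp' : R.a ≤ p' + p ∧ p' + p ≤ R.b
    · left
      exact h p' (by omega) (by omega)
    · right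
      exact R.van (p' + p) (by omega)
  · right
    exact R.van (p + m) (by omega)

lemma pΦ_all_iff (K : Cx A) : (∀ n, PΦ R n K) ↔ QuasiIso (bd K R.E) := by
  rw [quasiIso_iff]
  exact forall_congr' (fun n => (quasiIsoAt_iff_isIso_homologyMap (bd K R.E) n).symm)

/-- the short complex `Hom•(Hom•(S, E), E)` -/
noncomputable abbrev DDS (S : ShortComplex (Cx A)) : ShortComplex (Cx A) :=
  ShortComplex.mk (DDmap R S.f) (DDmap R S.g)
    (by rw [← homCxPre_comp, ← homCxPre_comp, S.zero, homCxPre_zero, homCxPre_zero])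

lemma dds_shortExact (S : ShortComplex (Cx A)) (hS : S.ShortExact) : (DDS R S).ShortExact :=
  homCxPre_shortExact_of_injective _
    (homCxPre_shortExact_of_injective S hS R.E R.injective_X) R.E R.injective_X

/-- the biduality map as a morphism of short complexes -/
noncomputable def bdS (S : ShortComplex (Cx A)) : S ⟶ DDS R S where
  τ₁ := bd S.X₁ R.E
  τ₂ := bd S.X₂ R.E
  τ₃ := bd S.X₃ R.E
  comm₁₂ := (bd_naturality S.f R.E).symm
  comm₂₃ := (bd_naturality S.g R.E).symm

lemma quasiIso_DDmap {K L : Cx A} (f : K ⟶ L) [QuasiIso f] : QuasiIso (DDmap R f) := by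
  haveI : QuasiIso (homCxPre f R.E) := Groth.Agent.Lib.Helper10.RHomCx.quasiIso_homCxPre R.E f
  exact Groth.Agent.Lib.Helper10.RHomCx.quasiIso_homCxPre R.E (homCxPre f R.E)

end Phi

section Base

open Groth.Agent.Lib.Helper5.RelDual

variable {A : Type u} [CommRing A] {ω : Dual.D A} (hω : Dual.IsDualizing A ω) (R : Res ω)
  (M : Type u) [AddCommGroup M] [Module A M]

/-- `m` as an element of `(M[0])^0` -/
noncomputable def x0 (m : M) : (sgl (ModuleCat.of A M)).X 0 :=
  (HomologicalComplex.singleObjXSelf (ComplexShape.up ℤ) 0 (ModuleCat.of A M)).inv.hom m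

lemma x0_surjective (x : (sgl (ModuleCat.of A M)).X 0) : ∃ m : M, x0 M m = x :=
  ⟨(HomologicalComplex.singleObjXSelf (ComplexShape.up ℤ) 0 (ModuleCat.of A M)).hom.hom x, by
    change ((HomologicalComplex.singleObjXSelf (ComplexShape.up ℤ) 0 (ModuleCat.of A M)).hom ≫
      (HomologicalComplex.singleObjXSelf (ComplexShape.up ℤ) 0 (ModuleCat.of A M)).inv).hom x = x
    rw [Iso.hom_inv_id]
    rfl⟩

/-- the evaluation chain map `Hom•(M[0], E) ⟶ E` -/
noncomputable def evS (m : M) : DRing.homCx (sgl (ModuleCat.of A M)) R.E ⟶ R.E :=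
  (dualCxIso R.E (ModuleCat.of A M)).hom ≫ ev R.E (ModuleCat.of A M) m

lemma bdCochain_x0 (m : M) :
    bdCochain (sgl (ModuleCat.of A M)) R.E 0 (x0 M m) = Cochain.ofHom (evS R M m) := by
  refine Cochain.ext _ _ (fun p q hpq => ?_)
  obtain rfl : p = q := by omega
  rw [Cochain.ofHom_v]
  ext (z : Cochain (sgl (ModuleCat.of A M)) R.E p)
  rw [bdCochain_v_apply, mul_zero, Int.negOnePow_zero, one_smul]
  rfl

variable [Module.Finite A M]

include hω in
lemma hom_eq_zero_of_ne (n : ℤ) (hn : n ≠ 0)
    (φ : Q.obj (DRing.homCx (sgl (ModuleCat.of A M)) R.E) ⟶ (Q.obj R.E)⟦n⟧) : φ = 0 := by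
  have h := vanD hω R n hn M
    (Q.map (dualCxIso R.E (ModuleCat.of A M)).inv ≫ φ ≫ (R.e.hom)⟦n⟧')
  haveI : IsIso (Q.map (dualCxIso R.E (ModuleCat.of A M)).inv) :=
    (Q.mapIso (dualCxIso R.E (ModuleCat.of A M)).symm).isIso_hom
  have h2 : φ ≫ (R.e.hom)⟦n⟧' = 0 :=
    (cancel_epi (Q.map (dualCxIso R.E (ModuleCat.of A M)).inv)).1 (h.trans comp_zero.symm)
  exact (cancel_mono ((R.e.hom)⟦n⟧')).1 (h2.trans zero_comp.symm)

include hω in
/-- biduality for a finite module in degree `0` -/
theorem quasiIso_bd_single : QuasiIso (bd (sgl (ModuleCat.of A M)) R.E) := by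
  rw [quasiIso_iff]
  intro n
  rw [quasiIsoAt_iff' _ (n - 1) n (n + 1) (by simp) (by simp)]
  apply Groth.Agent.Lib.Helper17.HOne.quasiIso_of_elements
  · intro x₂ hx₂
    obtain ⟨x₂, rfl⟩ : ∃ x : Cochain (DRing.homCx (sgl (ModuleCat.of A M)) R.E) R.E n, x = x₂ :=
      ⟨x₂, rfl⟩
    have hx : δ n (n + 1) x₂ = 0 := hx₂
    by_cases hn : n = 0
    · subst hn
      let g : DRing.homCx (sgl (ModuleCat.of A M)) R.E ⟶ R.E :=
        Cocycle.homOf (Cocycle.mk x₂ 1 (by simp) hx)
      have hg : Cochain.ofHom g = x₂ := Cocycle.cochain_ofHom_homOf_eq_coe _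
      obtain ⟨m, hm⟩ := surjD hω R M
        (Q.map ((dualCxIso R.E (ModuleCat.of A M)).inv ≫ g) ≫ R.e.hom)
      have h1 : Q.map ((dualCxIso R.E (ModuleCat.of A M)).inv ≫ g) =
          Q.map (ev R.E (ModuleCat.of A M) m) := (cancel_mono R.e.hom).1 hm
      have h2 : Q.map (evS R M m) = Q.map g := by
        rw [evS, Functor.map_comp, ← h1, ← Functor.map_comp, Iso.hom_inv_id_assoc]
      obtain ⟨y, hy⟩ := exists_cochain_of_Q_map_eq _ R.E (evS R M m) g h2
      refine ⟨x0 M m, ?_, y, ?_⟩
      · haveI : Subsingleton ((sgl (ModuleCat.of A M)).X (0 + 1)) :=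
          ModuleCat.subsingleton_of_isZero
            (HomologicalComplex.isZero_single_obj_X (ComplexShape.up ℤ) 0 _ (0 + 1) (by simp))
        exact @Subsingleton.elim ((sgl (ModuleCat.of A M)).X (0 + 1)) this _ _
      · change bdCochain (sgl (ModuleCat.of A M)) R.E 0 (x0 M m) = x₂ + δ (0 - 1) 0 y
        rw [bdCochain_x0, hy, hg, add_comm]
        rfl
    · have hz := mem_coboundaries_of_forall_eq_zero _ R.E n
        (hom_eq_zero_of_ne hω R M n hn) (Cocycle.mk x₂ (n + 1) rfl hx)
      obtain ⟨β, hβ⟩ := (mem_coboundaries_iff _ (n - 1) (by omega)).1 hz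
      have hβ' : δ (n - 1) n β = x₂ := hβ
      refine ⟨0, map_zero _, (-β : Cochain _ _ (n - 1)), ?_⟩
      change (bd (sgl (ModuleCat.of A M)) R.E).f n 0 = x₂ + δ (n - 1) n (-β)
      rw [map_zero, δ_neg, hβ', add_neg_cancel]
      rfl
  · intro x₁ hx₁ hy
    obtain ⟨y, hy⟩ := hy
    by_cases hn : n = 0
    · subst hn
      obtain ⟨m, rfl⟩ := x0_surjective M x₁
      obtain ⟨y, rfl⟩ : ∃ y' : Cochain (DRing.homCx (sgl (ModuleCat.of A M)) R.E) R.E (0 - 1),
        y' = y := ⟨y, rfl⟩
      have hy' : bdCochain (sgl (ModuleCat.of A M)) R.E 0 (x0 M m) = δ (0 - 1) 0 y := hy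
      rw [bdCochain_x0] at hy'
      have hh : Homotopy (evS R M m) 0 :=
        (Cochain.equivHomotopy (evS R M m) 0).symm ⟨y, by
          rw [Cochain.ofHom_zero, add_zero]
          exact hy'⟩
      have h1 : Q.map (evS R M m) = 0 := by
        rw [DerivedCategory.Q_map_eq_of_homotopy (h := hh), Functor.map_zero]
      have h2 : Q.map (ev R.E (ModuleCat.of A M) m) = 0 := by
        have : Q.map (ev R.E (ModuleCat.of A M) m) =
            Q.map (dualCxIso R.E (ModuleCat.of A M)).inv ≫ Q.map (evS R M m) := by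
          rw [evS, ← Functor.map_comp, Iso.inv_hom_id_assoc]
        rw [this, h1, comp_zero]
      have hm : m = 0 := injD hω R M m (by rw [h2, zero_comp])
      subst hm
      refine ⟨0, ?_⟩
      rw [map_zero]
      exact (map_zero _).symm
    · haveI : Subsingleton ((sgl (ModuleCat.of A M)).X n) :=
        ModuleCat.subsingleton_of_isZero
          (HomologicalComplex.isZero_single_obj_X (ComplexShape.up ℤ) 0 _ n hn)
      exact ⟨0, @Subsingleton.elim ((sgl (ModuleCat.of A M)).X n) this _ _⟩

end Base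

section Main

open Groth.Agent.Lib.Helper10.BiDualA

variable {A : Type u} [CommRing A] {ω : Dual.D A} (hω : Dual.IsDualizing A ω) (R : Res ω)

include hω in
theorem dev_PΦ : Dev (PΦ R) (max (R.b - R.a) 0 + 1) where
  loc n K L f hf := by
    apply pΦ_iff_of_isIso
    · exact isIso_homologyMap_of_isIso_f f n (hf _ (by omega) (by omega))
        (hf _ (by omega) (by omega)) (hf _ (by omega) (by omega))
    · apply isIso_homologyMap_of_isIso_f <;>
        exact isIso_DDmap_f R f _ (fun p hp1 hp2 => hf p (by omega) (by omega))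
  qis f hf := by
    haveI := hf
    haveI := quasiIso_DDmap R f
    exact forall_congr' (fun n => pΦ_iff_of_isIso R f n
      ((quasiIsoAt_iff_isIso_homologyMap f n).1 inferInstance)
      ((quasiIsoAt_iff_isIso_homologyMap (DDmap R f) n).1 inferInstance))
  ses₁ S hS h2 h3 := by
    rw [pΦ_all_iff] at h2 h3 ⊢
    exact quasiIso_τ₁ (bdS R S) hS (dds_shortExact R S hS) h2 h3
  ses₂ S hS h1 h3 := by
    rw [pΦ_all_iff] at h1 h3 ⊢
    exact quasiIso_τ₂ (bdS R S) hS (dds_shortExact R S hS) h1 h3
  ses₃ S hS h1 h2 := by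
    rw [pΦ_all_iff] at h1 h2 ⊢
    exact HomologicalComplex.HomologySequence.quasiIso_τ₃ (bdS R S) hS (dds_shortExact R S hS)
      h1 h2
  base M hM := by
    rw [pΦ_all_iff]
    haveI := hM
    exact quasiIso_bd_single hω R M

include hω in
/-- **biduality**: `K ⟶ Hom•(Hom•(K, E), E)` is a quasi-isomorphism when `K` has finite
cohomology -/
theorem quasiIso_bd (K : Cx A) (hK : FinH K) : QuasiIso (bd K R.E) :=
  (pΦ_all_iff R K).1 (fun n => (dev_PΦ hω R).main K hK n)

end Main

end Groth.Agent.Lib.Helper10.BiDualD
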