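import Mathlib
import Groth.Prelude.Def_DRing4
import Groth.Prelude.Def_DualLC
import Groth.Agent.Lib.Helper10RGamD
import Groth.Agent.Lib.Helper10RGamE
import Groth.Agent.Lib.Helper10RHomComp
import Groth.Agent.Lib.Helper5DualFLB
set_option backward.isDefEq.respectTransparency.types false

/-!
# Local duality with derived completion (helper10)

* `nonempty_RgammaI_iso_LP`: the Čech formula `RΓ_I(T) ≅ T ⊗ P`, `P` a K-projective resolution of
  the extended Čech complex (Noetherian ring).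
* `nonempty_RHomCx_iso_of_iso`: `RHom(E, -)` only depends on the class of `E` in `D(A)`.
* `nonempty_RgammaI_dualizing_iso`: `RΓ_m(ω) ≅ E[0]` for a normalized dualizing complex.
* `main`: `(RHom(K, ω))^ ≅ RHom(RΓ_m K, E[0])`.
-/

set_option autoImplicit false
set_option maxHeartbeats 400000
universe u
open CategoryTheory CategoryTheory.Limits HomologicalComplex CochainComplex MonoidalCategory
attribute [local instance] HasDerivedCategory.standard

namespace Groth.Agent.Lib.Helper10.LDC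

open DerivedCategory Groth.Agent.Lib.Helper1.KF Groth.Agent.Lib.Helper1.DT
  Groth.Agent.Lib.Helper10.TensHom Groth.Agent.Lib.Helper10.TensHomD
  Groth.Agent.Lib.Helper10.DCAdj Groth.Agent.Lib.Helper10.DCLoc
  Groth.Agent.Lib.Helper10.DCCech Groth.Agent.Lib.Helper10.DCMain
  Groth.Agent.Lib.Helper10.RHomCx
  Groth.Agent.Lib.Helper10.RGamA Groth.Agent.Lib.Helper10.RGamB Groth.Agent.Lib.Helper10.RGamC
  Groth.Agent.Lib.Helper10.RGamD Groth.Agent.Lib.Helper1.ExtCech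

section Yoneda

/-- co-Yoneda, by hand -/
lemma nonempty_iso_of_natural_equiv {C : Type*} [Category C] {X X' : C}
    (φ : ∀ Y : C, (X ⟶ Y) ≃ (X' ⟶ Y))
    (hφ : ∀ (Y Y' : C) (x : X ⟶ Y) (g : Y ⟶ Y'), φ Y' (x ≫ g) = φ Y x ≫ g) :
    Nonempty (X ≅ X') := by
  refine ⟨⟨(φ X').symm (𝟙 X'), φ X (𝟙 X), ?_, ?_⟩⟩
  · apply (φ X).injective
    rw [hφ, Equiv.apply_symm_apply, Category.id_comp]
  · rw [← hφ, Category.id_comp, Equiv.apply_symm_apply]

end Yoneda

variable {A : Type u} [CommRing A]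

section Cech

/-- **Čech formula**: `RΓ_I(T) ≅ T ⊗ P` for `P` a K-projective resolution of the extended
Čech complex on generators of `I` -/
theorem nonempty_RgammaI_iso_LP [IsNoetherianRing A] (fs : List A) (I : Ideal A)
    (hI : Ideal.span {x : A | x ∈ fs} = I) [DRing.HasRgammaI I]
    {P : Cx A} [P.IsKProjective] (π : P ⟶ DerCA.extCech (ModuleCat.of A A) fs) [QuasiIso π]
    (T : Dual.D A) : Nonempty ((DRing.RgammaI I).obj T ≅ (LP P).obj T) := by
  subst hI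
  have htors : ∀ g ∈ fs, ∀ q, PT g (Dual.HD A ((DRing.RgammaI
      (Ideal.span {x : A | x ∈ fs})).obj T) q) := fun g hg q =>
    PT_of_isPowerTorsion (I := Ideal.span {x : A | x ∈ fs}) (Ideal.subset_span hg)
      (isPowerTorsion_HD_RgammaI _ T q)
  have hcompl : ∀ Y, DRing.IsDerivedComplete (Ideal.span {x : A | x ∈ fs}) ((RP P).obj Y) :=
    fun Y => isDerivedComplete_of_fc fs _ (fun g hg => fc_RP fs π g hg Y)
  let e1 : ∀ Y, ((DRing.RgammaI (Ideal.span {x : A | x ∈ fs})).obj T ⟶ Y) ≃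
      ((DRing.RgammaI (Ideal.span {x : A | x ∈ fs})).obj T ⟶ (RP P).obj Y) := fun Y =>
    Equiv.ofBijective _ (bijective_postcomp_ηD fs π Y _ htors)
  let e2 : ∀ Y, (T ⟶ (RP P).obj Y) ≃
      ((DRing.RgammaI (Ideal.span {x : A | x ∈ fs})).obj T ⟶ (RP P).obj Y) := fun Y =>
    Equiv.ofBijective _ (bijective_precomp_ε (Ideal.span {x : A | x ∈ fs}) T _ (hcompl Y))
  let e3 : ∀ Y, ((LP P).obj T ⟶ Y) ≃ (T ⟶ (RP P).obj Y) := fun Y => (adjLR P).homEquiv T Y
  refine nonempty_iso_of_natural_equiv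
    (fun Y => (e1 Y).trans ((e2 Y).symm.trans (e3 Y).symm)) ?_
  intro Y Y' x g
  change (e3 Y').symm ((e2 Y').symm ((x ≫ g) ≫ (ηD (π ≫ aug' fs)).app Y')) =
    (e3 Y).symm ((e2 Y).symm (x ≫ (ηD (π ≫ aug' fs)).app Y)) ≫ g
  have hnat : g ≫ (ηD (π ≫ aug' fs)).app Y' = (ηD (π ≫ aug' fs)).app Y ≫ (RP P).map g :=
    (ηD (π ≫ aug' fs)).naturality g
  have h2 : (e2 Y').symm ((x ≫ g) ≫ (ηD (π ≫ aug' fs)).app Y') =
      (e2 Y).symm (x ≫ (ηD (π ≫ aug' fs)).app Y) ≫ (RP P).map g := by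
    rw [Equiv.symm_apply_eq]
    change _ = (DRing.RgammaIε _).app T ≫ (e2 Y).symm (x ≫ (ηD (π ≫ aug' fs)).app Y) ≫ _
    have h3 : (DRing.RgammaIε _).app T ≫ (e2 Y).symm (x ≫ (ηD (π ≫ aug' fs)).app Y) =
        x ≫ (ηD (π ≫ aug' fs)).app Y := (e2 Y).apply_symm_apply _
    rw [reassoc_of% h3, Category.assoc, hnat]
  rw [h2]
  exact (adjLR P).homEquiv_naturality_right_symm _ _

end Cech

section Invariance

lemma hasRHomCx (E : Cx A) : DRing.HasRHomCx E := by
  obtain ⟨P, a, hP, -, ha, -⟩ := exists_kprojective_resolution E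
  haveI := hP
  haveI := ha
  exact Functor.HasRightDerivedFunctor.mk' (RP P) (preUnit a)

/-- `RHom(E, -)` only depends on the class of `E` in `D(A)` -/
theorem nonempty_RHomCx_iso_of_iso (E E' : Cx A) [DRing.HasRHomCx E] [DRing.HasRHomCx E']
    (e : Q.obj E ≅ Q.obj E') : Nonempty (DRing.RHomCx E ≅ DRing.RHomCx E') := by
  obtain ⟨P, a, hP, -, ha, -⟩ := exists_kprojective_resolution E
  haveI := hP
  haveI := ha
  haveI : IsIso (Q.map a) := (isIso_Q_map_iff_quasiIso _ a).2 ha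
  obtain ⟨b, hb⟩ := Q_map_surjective P E' (Q.map a ≫ e.hom)
  haveI : IsIso (Q.map b) := by rw [hb]; infer_instance
  haveI : QuasiIso b := (isIso_Q_map_iff_quasiIso _ b).1 inferInstance
  exact ⟨RHomCxIso a ≪≫ (RHomCxIso b).symm⟩

end Invariance

section Dualizing

variable [IsLocalRing A] [IsNoetherianRing A]

/-- `RΓ_m(ω) ≅ E[0]` for a normalized dualizing complex `ω` and an injective hull `E` of the
residue field -/
theorem nonempty_RgammaI_dualizing_iso (ω : Dual.D A) (hω : Dual.IsDualizing A ω)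
    (hn : Dual.IsNormalized A ω) (E : Type u) [AddCommGroup E] [Module A E]
    (f : IsLocalRing.ResidueField A →ₗ[A] E) (hf : InjHull.IsInjectiveHull f)
    [DRing.HasRgammaI (IsLocalRing.maximalIdeal A)] :
    Nonempty ((DRing.RgammaI (IsLocalRing.maximalIdeal A)).obj ω ≅ Dual.inD A E) := by
  obtain ⟨⟨e0⟩, hz⟩ := Groth.Agent.Lib.Helper5.DualFL.main_lc ω hω hn f hf
  have hq : ∀ q : ℤ, q ≠ 0 → IsZero ((DerivedCategory.homologyFunctor (ModuleCat.{u} A) q).obj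
      ((DRing.RgammaI (IsLocalRing.maximalIdeal A)).obj ω)) := by
    intro q hq
    obtain ⟨eq⟩ := Groth.Agent.Lib.Helper10.RGamE.main (IsLocalRing.maximalIdeal A) ω q
    haveI := hz q hq
    haveI : Subsingleton (Dual.HD A ((DRing.RgammaI (IsLocalRing.maximalIdeal A)).obj ω) q) :=
      eq.toEquiv.subsingleton
    exact ModuleCat.isZero_of_subsingleton _
  haveI : ((DRing.RgammaI (IsLocalRing.maximalIdeal A)).obj ω).IsGE 0 := by
    rw [DerivedCategory.isGE_iff]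
    intro i hi
    exact hq i (by omega)
  haveI : ((DRing.RgammaI (IsLocalRing.maximalIdeal A)).obj ω).IsLE 0 := by
    rw [DerivedCategory.isLE_iff]
    intro i hi
    exact hq i (by omega)
  obtain ⟨Y, ⟨e⟩⟩ := DerivedCategory.exists_iso_singleFunctor_obj_of_isGE_of_isLE
    ((DRing.RgammaI (IsLocalRing.maximalIdeal A)).obj ω) 0
  obtain ⟨e1⟩ := Groth.Agent.Lib.Helper10.RGamE.main (IsLocalRing.maximalIdeal A) ω 0
  let e' : Y ≅ ModuleCat.of A E :=
    ((DerivedCategory.singleFunctorCompHomologyFunctorIso (ModuleCat.{u} A) 0).app Y).symm ≪≫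
      (DerivedCategory.homologyFunctor (ModuleCat.{u} A) 0).mapIso e.symm ≪≫
        (e1.trans e0).toModuleIso
  exact ⟨e ≪≫ (DerivedCategory.singleFunctor (ModuleCat.{u} A) 0).mapIso e'⟩

end Dualizing

section Main

variable [IsLocalRing A] [IsNoetherianRing A]

/-- **Local duality with derived completion**: `(RHom(K, ω))^ ≅ RHom(RΓ_m K, E[0])`. -/
theorem main (ω : Dual.D A) (hω : Dual.IsDualizing A ω) (hn : Dual.IsNormalized A ω)
    (E : Type u) [AddCommGroup E] [Module A E]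
    (f : IsLocalRing.ResidueField A →ₗ[A] E) (hf : InjHull.IsInjectiveHull f)
    [DRing.HasRgammaI (IsLocalRing.maximalIdeal A)]
    [DRing.HasDerivedCompletion (IsLocalRing.maximalIdeal A)]
    (K : DRing.Cx A) [DRing.HasRHomCx K] (G : DRing.Cx A) [DRing.HasRHomCx G]
    (hG : Nonempty (DRing.toD G ≅
      (DRing.RgammaI (IsLocalRing.maximalIdeal A)).obj (DRing.toD K))) :
    Nonempty (((DRing.derivedCompletion (IsLocalRing.maximalIdeal A)).obj
      ((DRing.RHomCx K).obj ω)).obj ≅ (DRing.RHomCx G).obj (Dual.inD A E)) := by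
  obtain ⟨fs, hfs⟩ := exists_list_span (IsLocalRing.maximalIdeal A)
  obtain ⟨PC, π, hPC, -, hπ, -⟩ :=
    exists_kprojective_resolution (DerCA.extCech (ModuleCat.of A A) fs)
  obtain ⟨PK, aK, hPK, -, haK, -⟩ := exists_kprojective_resolution K
  haveI := hPC
  haveI := hπ
  haveI := hPK
  haveI := haK
  haveI := hasRHomCx PC
  haveI := hasRHomCx PK
  haveI := hasRHomCx (PK ⊗ PC)
  -- the derived completion formula
  have dc : ∀ L : Dual.D A, Nonempty (((DRing.derivedCompletion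
      (IsLocalRing.maximalIdeal A)).obj L).obj ≅ (DRing.RHomCx PC).obj L) := fun L => by
    obtain ⟨e, -⟩ := exists_derivedCompletion_iso fs (IsLocalRing.maximalIdeal A) hfs.symm π L
    exact ⟨e ≪≫ ((RHomCxIso (𝟙 PC)).app L).symm⟩
  obtain ⟨iK⟩ : Nonempty (DRing.RHomCx K ≅ DRing.RHomCx PK) :=
    ⟨RHomCxIso aK ≪≫ (RHomCxIso (𝟙 PK)).symm⟩
  have c1 : ∀ L : Dual.D A, Nonempty ((DRing.RHomCx PC).obj ((DRing.RHomCx PK).obj L) ≅
      (DRing.RHomCx (PK ⊗ PC)).obj L) := fun L =>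
    Groth.Agent.Lib.Helper10.RHomComp.nonempty_RHomCx_comp_iso PC PK (PK ⊗ PC)
      (kflat_of_isKProjective PC).kflatL (swapIso PC PK) L
  have c2 : ∀ L : Dual.D A, Nonempty ((DRing.RHomCx PK).obj ((DRing.RHomCx PC).obj L) ≅
      (DRing.RHomCx (PK ⊗ PC)).obj L) := fun L =>
    Groth.Agent.Lib.Helper10.RHomComp.nonempty_RHomCx_comp_iso PK PC (PK ⊗ PC)
      (kflat_of_isKProjective PK).kflatL (Iso.refl _) L
  -- the left hand side
  obtain ⟨l1⟩ := dc ((DRing.RHomCx K).obj ω)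
  obtain ⟨l3⟩ := c1 ω
  -- the right hand side
  obtain ⟨r0⟩ := nonempty_RgammaI_dualizing_iso ω hω hn E f hf
  obtain ⟨g0⟩ := hG
  obtain ⟨cf⟩ := nonempty_RgammaI_iso_LP fs (IsLocalRing.maximalIdeal A) hfs.symm π (Q.obj K)
  haveI : IsIso (Q.map aK) := (isIso_Q_map_iff_quasiIso _ aK).2 haK
  let g1 : Q.obj G ≅ Q.obj (PK ⊗ PC) :=
    g0 ≪≫ cf ≪≫ (LP PC).mapIso (asIso (Q.map aK)).symm ≪≫ (LPIso PC).app PK
  obtain ⟨iG⟩ := nonempty_RHomCx_iso_of_iso G (PK ⊗ PC) g1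
  obtain ⟨-, ⟨gm⟩⟩ := greenlees_may (IsLocalRing.maximalIdeal A) ω
  obtain ⟨d1⟩ := dc ((DRing.RgammaI (IsLocalRing.maximalIdeal A)).obj ω)
  obtain ⟨d2⟩ := dc ω
  let mid : (DRing.RHomCx PC).obj ((DRing.RgammaI (IsLocalRing.maximalIdeal A)).obj ω) ≅
      (DRing.RHomCx PC).obj ω :=
    d1.symm ≪≫ (ObjectProperty.ι _).mapIso gm ≪≫ d2
  obtain ⟨r2⟩ := c2 ((DRing.RgammaI (IsLocalRing.maximalIdeal A)).obj ω)
  obtain ⟨r3⟩ := c2 ω
  exact ⟨(l1 ≪≫ (DRing.RHomCx PC).mapIso (iK.app ω) ≪≫ l3) ≪≫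
    ((DRing.RHomCx G).mapIso r0.symm ≪≫ iG.app _ ≪≫ r2.symm ≪≫
      (DRing.RHomCx PK).mapIso mid ≪≫ r3).symm⟩

end Main

end Groth.Agent.Lib.Helper10.LDC
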