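import Mathlib
import Groth.Agent.Lib.Helper10BiDualD
import Groth.Agent.Lib.Helper10LDC
import Groth.Agent.Lib.Helper5RelDualA
import Groth.Agent.Lib.Helper5NormDual
import Groth.Agent.Lib.Helper5LocDD

/-!
# Biduality for dualizing complexes: assembly (helper10)

* `finite_HD_RHomCx`: `RHom(K, ω)` has finite cohomology when `K` does.
* `nonempty_bidual_iso`: `RHom(RHom(K, ω), ω) ≅ K` for `K` with finite cohomology.
-/

set_option autoImplicit false
set_option backward.isDefEq.respectTransparency.types false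
universe u
open CategoryTheory CategoryTheory.Limits CochainComplex CochainComplex.HomComplex
attribute [local instance] HasDerivedCategory.standard

namespace Groth.Agent.Lib.Helper10.BiDualE

open DRing DerivedCategory Groth.Agent.Lib.Helper10.TensHom Groth.Agent.Lib.Helper10.BiDualB
  Groth.Agent.Lib.Helper10.BiDualC Groth.Agent.Lib.Helper10.BiDualD
  Groth.Agent.Lib.Helper5.BiDual Groth.Agent.Lib.Helper10.RHomCx Groth.Agent.Lib.Helper10.LDC
  Groth.Agent.Lib.Helper1.KF

variable {A : Type u} [CommRing A]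

/-- the cohomology of `Q.obj K` is the homology of `K` -/
noncomputable def hdEquiv (K : DRing.Cx A) (i : ℤ) : Dual.HD A (Q.obj K) i ≃ₗ[A] K.homology i :=
  ((DerivedCategory.homologyFunctorFactors (ModuleCat.{u} A) i).app K).toLinearEquiv

/-- cohomology is invariant under isomorphisms in `D(A)` -/
noncomputable def hdCongr {X Y : Dual.D A} (e : X ≅ Y) (i : ℤ) :
    Dual.HD A X i ≃ₗ[A] Dual.HD A Y i :=
  ((DerivedCategory.homologyFunctor (ModuleCat.{u} A) i).mapIso e).toLinearEquiv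

lemma finH_of_finite_HD (K : DRing.Cx A) (hK : ∀ i : ℤ, Module.Finite A (Dual.HD A (Q.obj K) i)) :
    FinH K := by
  intro i
  haveI := hK i
  exact Module.Finite.equiv (hdEquiv K i)

/-- `RHom(L, Q I) ≅ Q Hom•(L, I)` for K-injective `I` -/
lemma nonempty_RHomCx_obj_iso (L I : DRing.Cx A) [DRing.HasRHomCx L] [I.IsKInjective] :
    Nonempty ((DRing.RHomCx L).obj (Q.obj I) ≅ Q.obj (DRing.homCx L I)) := by
  obtain ⟨P, a, hP, -, ha, -⟩ := exists_kprojective_resolution L
  haveI := hP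
  haveI := ha
  haveI : QuasiIso (homCxPre a I) := quasiIso_homCxPre I a
  haveI : IsIso (Q.map (homCxPre a I)) := (isIso_Q_map_iff_quasiIso _ _).2 inferInstance
  exact ⟨RHomCxObjIso a I ≪≫ (asIso (Q.map (homCxPre a I))).symm⟩

variable [IsNoetherianRing A]

/-- `RHom(K, ω)` has finite cohomology -/
theorem finite_HD_RHomCx (ω : Dual.D A) (hω : Dual.IsDualizing A ω) (K : DRing.Cx A)
    [DRing.HasRHomCx K] (hK : ∀ i : ℤ, Module.Finite A (Dual.HD A (Q.obj K) i)) (i : ℤ) :
    Module.Finite A (Dual.HD A ((DRing.RHomCx K).obj ω) i) := by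
  obtain ⟨R⟩ := nonempty_res ω hω
  obtain ⟨P, a, hP, -, ha, -⟩ := exists_kprojective_resolution K
  haveI := hP
  haveI := ha
  haveI : IsIso (Q.map a) := (isIso_Q_map_iff_quasiIso _ a).2 ha
  have hE : Dual.IsDualizing A (Q.obj R.E) :=
    Groth.Agent.Lib.Helper5.LocD.isDualizing_of_iso R.e.symm hω
  have hP' : ∀ j : ℤ, Module.Finite A (Dual.HD A (Q.obj P) j) := by
    intro j
    haveI := hK j
    exact Module.Finite.equiv (hdCongr (asIso (Q.map a)) j).symm
  haveI : Module.Finite A (Q.obj P ⟶ (Q.obj R.E)⟦i⟧) :=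
    Groth.Agent.S1746.result A (Q.obj P) (Q.obj R.E) hP' hE.finite_cohomology
      (Groth.Agent.Lib.Helper5.NormDual.hasFiniteInjDim_of_isDualizing _ hE) i
  haveI : Module.Finite A ((DRing.homCx P R.E).homology i) :=
    Module.Finite.equiv (Groth.Agent.Lib.Helper5.RelDual.homEquivHomology P R.E i).symm
  haveI : Module.Finite A (Dual.HD A (Q.obj (DRing.homCx P R.E)) i) :=
    Module.Finite.equiv (hdEquiv (DRing.homCx P R.E) i).symm
  exact Module.Finite.equiv
    (hdCongr ((DRing.RHomCx K).mapIso R.e.symm ≪≫ RHomCxObjIso a R.E) i).symm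

omit [IsNoetherianRing A] in
/-- biduality: `RHom(RHom(K, ω), ω) ≅ K` -/
theorem nonempty_bidual_iso (ω : Dual.D A) (hω : Dual.IsDualizing A ω) (K : DRing.Cx A)
    [DRing.HasRHomCx K] (hK : ∀ i : ℤ, Module.Finite A (Dual.HD A (Q.obj K) i))
    (E : DRing.Cx A) [DRing.HasRHomCx E] (e : Q.obj E ≅ (DRing.RHomCx K).obj ω) :
    Nonempty ((DRing.RHomCx E).obj ω ≅ Q.obj K) := by
  obtain ⟨R⟩ := nonempty_res ω hω
  obtain ⟨i1⟩ := nonempty_RHomCx_obj_iso K R.E
  let L := DRing.homCx K R.E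
  haveI : DRing.HasRHomCx L := hasRHomCx L
  obtain ⟨f⟩ := nonempty_RHomCx_iso_of_iso E L
    (e ≪≫ (DRing.RHomCx K).mapIso R.e.symm ≪≫ i1)
  obtain ⟨i2⟩ := nonempty_RHomCx_obj_iso L R.E
  haveI : QuasiIso (bd K R.E) := quasiIso_bd hω R K (finH_of_finite_HD K hK)
  haveI : IsIso (Q.map (bd K R.E)) := (isIso_Q_map_iff_quasiIso _ _).2 inferInstance
  exact ⟨f.app ω ≪≫ (DRing.RHomCx L).mapIso R.e.symm ≪≫ i2 ≪≫
    (asIso (Q.map (bd K R.E))).symm⟩

end Groth.Agent.Lib.Helper10.BiDualE
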