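import Mathlib
import Groth.Agent.Lib.Helper10BiDualE

/-!
# Cohomology of `RHom(K, X)` and objects concentrated in degree zero (helper10)
-/

set_option autoImplicit false
set_option backward.isDefEq.respectTransparency.types false
universe u
open CategoryTheory CategoryTheory.Limits
attribute [local instance] HasDerivedCategory.standard

namespace Groth.Agent.Lib.Helper10.DualPairC

open DerivedCategory Groth.Agent.Lib.Helper10.BiDualE Groth.Agent.Lib.Helper10.RHomCx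
  Groth.Agent.Lib.Helper1.KF

variable {A : Type u} [CommRing A]

/-- `H^i(RHom(K, X)) = Hom(K, X[i])` -/
theorem nonempty_HD_RHomCx_equiv (K : DRing.Cx A) [DRing.HasRHomCx K] (X : Dual.D A) (i : ℤ) :
    Nonempty (Dual.HD A ((DRing.RHomCx K).obj X) i ≃ₗ[A] (Q.obj K ⟶ X⟦i⟧)) := by
  obtain ⟨P, a, hP, -, ha, -⟩ := exists_kprojective_resolution K
  haveI := hP
  haveI := ha
  haveI : IsIso (Q.map a) := (isIso_Q_map_iff_quasiIso _ a).2 ha
  let Y := Q.objPreimage X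
  let eY : Q.obj Y ≅ X := Q.objObjPreimageIso X
  let l1 : Dual.HD A ((DRing.RHomCx K).obj X) i ≃ₗ[A] Dual.HD A (Q.obj (DRing.homCx P Y)) i :=
    hdCongr ((DRing.RHomCx K).mapIso eY.symm ≪≫ RHomCxObjIso a Y) i
  let l2 := hdEquiv (DRing.homCx P Y) i
  let l3 := Groth.Agent.Lib.Helper5.RelDual.homEquivHomology P Y i
  let l4 : (Q.obj P ⟶ (Q.obj Y)⟦i⟧) ≃ₗ[A] (Q.obj K ⟶ X⟦i⟧) :=
    Linear.homCongr A (asIso (Q.map a)) ((shiftFunctor (Dual.D A) i).mapIso eY)
  exact ⟨l1 ≪≫ₗ l2 ≪≫ₗ l3 ≪≫ₗ l4⟩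

/-- an object of `D(A)` with cohomology concentrated in degree `0` is a module -/
theorem nonempty_iso_single (L : Dual.D A) (M : Type u) [AddCommGroup M] [Module A M]
    (h0 : Dual.HD A L 0 ≃ₗ[A] M) (h : ∀ i : ℤ, i ≠ 0 → Subsingleton (Dual.HD A L i)) :
    Nonempty (L ≅ Dual.inD A M) := by
  have hz : ∀ i : ℤ, i ≠ 0 → IsZero ((homologyFunctor (ModuleCat.{u} A) i).obj L) := by
    intro i hi
    haveI := h i hi
    exact ModuleCat.isZero_of_subsingleton _
  haveI : L.IsGE 0 := (isGE_iff L 0).2 (fun i hi => hz i (by omega))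
  haveI : L.IsLE 0 := (isLE_iff L 0).2 (fun i hi => hz i (by omega))
  obtain ⟨Y, ⟨e⟩⟩ := exists_iso_singleFunctor_obj_of_isGE_of_isLE L 0
  let e1 : Y ≅ (homologyFunctor (ModuleCat.{u} A) 0).obj L :=
    ((singleFunctorCompHomologyFunctorIso (ModuleCat.{u} A) 0).app Y).symm ≪≫
      (homologyFunctor (ModuleCat.{u} A) 0).mapIso e.symm
  let e2 : (homologyFunctor (ModuleCat.{u} A) 0).obj L ≅ ModuleCat.of A M := h0.toModuleIso
  exact ⟨e ≪≫ (singleFunctor (ModuleCat.{u} A) 0).mapIso (e1 ≪≫ e2)⟩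

end Groth.Agent.Lib.Helper10.DualPairC
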