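import Mathlib
import Groth.Prelude.Def_DTen
import Groth.Agent.Lib.Helper10AutEqA
import Groth.Agent.Lib.Helper10DualPairC
import Groth.Agent.Lib.Helper5RelDualA
import Groth.Agent.Lib.Helper1DT3
import Groth.Agent.Lib.Helper1KF10
set_option backward.isDefEq.respectTransparency.types false

/-!
# A perfect complex whose graded endomorphism ring is the base ring is invertible (helper10)
-/

set_option autoImplicit false
universe u
open CategoryTheory CategoryTheory.Limits MonoidalCategory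
attribute [local instance] HasDerivedCategory.standard

namespace Groth.Agent.Lib.Helper10.AutEqB

open DerivedCategory DTen Groth.Agent.Lib.Helper1.KF Groth.Agent.Lib.Helper1.DT
  Groth.Agent.Lib.Helper10.AutEqA Groth.Agent.Lib.Helper10.DualCx
  Groth.Agent.Lib.Helper10.BiDualE

variable {A : Type u} [CommRing A]

/-- `Hom•(X, X) ≅ A[0]` in `D(A)` when `X` is K-projective with graded endomorphism ring `A` -/
lemma nonempty_homCx_iso_unit (X : DRing.Cx A) [X.IsKProjective]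
    (h0 : Function.Bijective (fun a : A => a • 𝟙 (Q.obj X : Dual.D A)))
    (hn : ∀ n : ℤ, n ≠ 0 → ∀ f : (Q.obj X : Dual.D A) ⟶ (Q.obj X)⟦n⟧, f = 0) :
    Nonempty ((Q.obj (DRing.homCx X X) : Dual.D A) ≅ DTen.unit A) := by
  have l : ∀ i : ℤ, Dual.HD A (Q.obj (DRing.homCx X X)) i ≃ₗ[A]
      ((Q.obj X : Dual.D A) ⟶ (Q.obj X)⟦i⟧) := fun i =>
    hdEquiv (DRing.homCx X X) i ≪≫ₗ Groth.Agent.Lib.Helper5.RelDual.homEquivHomology X X i
  let s : A →ₗ[A] ((Q.obj X : Dual.D A) ⟶ Q.obj X) :=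
    LinearMap.toSpanSingleton A _ (𝟙 (Q.obj X : Dual.D A))
  have hs : Function.Bijective s := h0
  let l0 : ((Q.obj X : Dual.D A) ⟶ (Q.obj X)⟦(0 : ℤ)⟧) ≃ₗ[A] A :=
    (Linear.homCongr A (Iso.refl (Q.obj X : Dual.D A))
      ((shiftFunctorZero (Dual.D A) ℤ).app (Q.obj X))) ≪≫ₗ (LinearEquiv.ofBijective s hs).symm
  obtain ⟨e⟩ := Groth.Agent.Lib.Helper10.DualPairC.nonempty_iso_single
    (Q.obj (DRing.homCx X X) : Dual.D A) A (l 0 ≪≫ₗ l0) (fun i hi => by
      haveI : Subsingleton ((Q.obj X : Dual.D A) ⟶ (Q.obj X)⟦i⟧) :=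
        ⟨fun f g => by rw [hn i hi f, hn i hi g]⟩
      exact (l i).toEquiv.subsingleton)
  exact ⟨e⟩

/-- **a perfect complex whose graded endomorphism ring is `A` is an invertible object** -/
theorem isInvertible_of_isPerfect [HasLTen A] (L : Dual.D A) (hperf : DRing.IsPerfect A L)
    (h0 : Function.Bijective (fun a : A => a • 𝟙 L))
    (hn : ∀ n : ℤ, n ≠ 0 → ∀ f : L ⟶ L⟦n⟧, f = 0) : DTen.IsInvertible A L := by
  obtain ⟨X, a, b, hX, hfp, ⟨e⟩⟩ := hperf
  haveI : X.IsKProjective := isKProjective_of_vanishesOutside X a b hX (fun i => (hfp i).2)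
  have h0' : Function.Bijective (fun a : A => a • 𝟙 (Q.obj X : Dual.D A)) := by
    have hc : (fun a : A => a • 𝟙 (Q.obj X : Dual.D A)) =
        (fun f : L ⟶ L => e.hom ≫ f ≫ e.inv) ∘ (fun a : A => a • 𝟙 L) := by
      funext a
      simp
    rw [hc]
    refine Function.Bijective.comp ?_ h0
    refine ⟨fun f g hfg => ?_, fun g => ⟨e.inv ≫ g ≫ e.hom, by simp⟩⟩
    have := congrArg (fun φ => e.inv ≫ φ ≫ e.hom) hfg
    simpa using this
  have hn' : ∀ n : ℤ, n ≠ 0 → ∀ f : (Q.obj X : Dual.D A) ⟶ (Q.obj X)⟦n⟧, f = 0 := by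
    intro n hn0 f
    have h1 := hn n hn0 (e.inv ≫ f ≫ (shiftFunctor (Dual.D A) n).map e.hom)
    have h2 : f = e.hom ≫ (e.inv ≫ f ≫ (shiftFunctor (Dual.D A) n).map e.hom) ≫
        (shiftFunctor (Dual.D A) n).map e.inv := by
      simp [← Functor.map_comp]
    rw [h2, h1]
    simp
  obtain ⟨u⟩ := nonempty_homCx_iso_unit X h0' hn'
  have hXf : KFlat X := kflat_of_isKProjective X
  haveI := isIso_τ (X := X) X a b hX hfp
  haveI i1 : IsIso ((ε A).app (X, D X)) := isIso_ε_of_kflat X (D X) (Or.inl hXf)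
  haveI i2 : IsIso ((ε A).app (D X, X)) := isIso_ε_of_kflat (D X) X (Or.inr hXf)
  refine ⟨Q.obj (D X), ⟨?_⟩, ⟨?_⟩⟩
  · exact (LTen₂ A).mapIso (Iso.prod e.symm (Iso.refl _)) ≪≫ asIso ((ε A).app (X, D X)) ≪≫
      Q.mapIso (asIso (τ X X)) ≪≫ u
  · exact (LTen₂ A).mapIso (Iso.prod (Iso.refl _) e.symm) ≪≫ asIso ((ε A).app (D X, X)) ≪≫
      Q.mapIso (swapIso (D X) X) ≪≫ Q.mapIso (asIso (τ X X)) ≪≫ u

end Groth.Agent.Lib.Helper10.AutEqB
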