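import Mathlib
set_option backward.isDefEq.respectTransparency.types false

/-!
# Local freeness of a finite module from `Hom` and `Ext¹` into residue fields (helper10)

* `subsingleton_localizedModule_of_hom_eq_zero`: `Hom_A(N, A/𝔪) = 0` implies `N_𝔪 = 0`;
* `free_localizedModule_of_extension`: for a presentation `0 → R → F → N → 0` with `F` finite
  free, if every linear map `R → A/𝔪` extends to `F`, then `N_𝔪` is free;
* `projective_of_local_data`: a finite module over a Noetherian ring which satisfies one of the
  two conditions at every maximal ideal is projective.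
-/

set_option autoImplicit false
universe u
open TensorProduct

namespace Groth.Agent.Lib.Helper10.AutEqC

variable {A : Type u} [CommRing A]

section LA0

variable (m : Ideal A) [hm : m.IsMaximal] (N : Type u) [AddCommGroup N] [Module A N]
  [Module.Finite A N]

/-- no nonzero map to the residue field implies that the localisation vanishes -/
lemma subsingleton_localizedModule_of_hom_eq_zero (h : ∀ φ : N →ₗ[A] A ⧸ m, φ = 0) :
    Subsingleton (LocalizedModule m.primeCompl N) := by
  letI : Field (A ⧸ m) := Ideal.Quotient.field m
  have htop : (⊤ : Submodule A N) ≤ m • (⊤ : Submodule A N) := by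
    by_contra hne
    obtain ⟨x, -, hx⟩ := SetLike.not_le_iff_exists.1 hne
    have hx' : (m • (⊤ : Submodule A N)).mkQ x ≠ 0 := by
      rwa [Ne, Submodule.mkQ_apply, Submodule.Quotient.mk_eq_zero]
    obtain ⟨φ, hφ⟩ : ∃ φ : Module.Dual (A ⧸ m) (N ⧸ m • (⊤ : Submodule A N)),
        φ ((m • (⊤ : Submodule A N)).mkQ x) ≠ 0 := by
      by_contra hall
      push_neg at hall
      exact hx' ((Module.forall_dual_apply_eq_zero_iff (A ⧸ m) _).1 hall)
    have := h ((φ.restrictScalars A) ∘ₗ (m • (⊤ : Submodule A N)).mkQ)
    exact hφ (by simpa using LinearMap.congr_fun this x)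
  obtain ⟨r, hr1, hr2⟩ := Submodule.exists_sub_one_mem_and_smul_eq_zero_of_fg_of_le_smul m
    (⊤ : Submodule A N) Module.Finite.fg_top htop
  have hr : r ∈ m.primeCompl := by
    intro hrm
    exact hm.ne_top ((Ideal.eq_top_iff_one m).2 (by
      have := m.sub_mem hrm hr1
      simpa using this))
  rw [LocalizedModule.subsingleton_iff]
  exact fun n => ⟨r, hr, hr2 n trivial⟩

end LA0

section LA

variable (m : Ideal A) [hm : m.IsMaximal]
  {R F N : Type u} [AddCommGroup R] [Module A R] [AddCommGroup F] [Module A F]
  [AddCommGroup N] [Module A N] [Module.Finite A R] [Module.Finite A F] [Module.Free A F]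
  (f : R →ₗ[A] F) (g : F →ₗ[A] N)

/-- if every linear map from the module of relations to the residue field extends to the free
module, the localisation of the quotient is free -/
theorem free_localizedModule_of_extension (hg : Function.Surjective g)
    (hfg : Function.Exact f g)
    (h : ∀ ψ : R →ₗ[A] A ⧸ m, ∃ χ : F →ₗ[A] A ⧸ m, χ ∘ₗ f = ψ) :
    Module.Free (Localization.AtPrime m) (LocalizedModule m.primeCompl N) := by
  let eκ : (A ⧸ m) ≃ₗ[A] m.ResidueField :=
    LinearEquiv.ofBijective ((Algebra.linearMap (A ⧸ m) m.ResidueField).restrictScalars A)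
      (Ideal.bijective_algebraMap_quotient_residueField m)
  haveI : Module.Free (Localization.AtPrime m) (LocalizedModule m.primeCompl F) :=
    Module.free_of_isLocalizedModule m.primeCompl (LocalizedModule.mkLinearMap m.primeCompl F)
  have hunits : ∀ x : m.primeCompl,
      IsUnit ((algebraMap A (Module.End A m.ResidueField)) x) := by
    haveI := isLocalizedModule_id m.primeCompl m.ResidueField (Localization.AtPrime m)
    exact IsLocalizedModule.map_units (S := m.primeCompl)
      (LinearMap.id : m.ResidueField →ₗ[A] m.ResidueField)
  refine Module.free_of_lTensor_residueField_injective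
    (LocalizedModule.map m.primeCompl f) (LocalizedModule.map m.primeCompl g)
    (LocalizedModule.map_surjective m.primeCompl g hg)
    (LocalizedModule.map_exact m.primeCompl f g hfg) ?_
  rw [← LinearMap.baseChange_eq_ltensor, ← LinearMap.dualMap_surjective_iff]
  intro l
  -- the restriction of `l` to `R`
  let ψm : LocalizedModule m.primeCompl R →ₗ[Localization.AtPrime m] m.ResidueField :=
    (l.restrictScalars (Localization.AtPrime m)) ∘ₗ
      (TensorProduct.mk (Localization.AtPrime m) m.ResidueField
        (LocalizedModule m.primeCompl R) 1)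
  obtain ⟨χ, hχ⟩ := h (eκ.symm.toLinearMap ∘ₗ (ψm.restrictScalars A) ∘ₗ
    LocalizedModule.mkLinearMap m.primeCompl R)
  let χk : F →ₗ[A] m.ResidueField := eκ.toLinearMap ∘ₗ χ
  let χm : LocalizedModule m.primeCompl F →ₗ[Localization.AtPrime m] m.ResidueField :=
    (LocalizedModule.lift m.primeCompl χk hunits).extendScalarsOfIsLocalization m.primeCompl
      (Localization.AtPrime m)
  have hcomp : χm ∘ₗ (LocalizedModule.map m.primeCompl f) = ψm := by
    apply LinearMap.restrictScalars_injective A
    apply IsLocalizedModule.ext m.primeCompl (LocalizedModule.mkLinearMap m.primeCompl R) hunits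
    ext x
    have h1 := LinearMap.congr_fun hχ x
    simp only [LinearMap.comp_apply, LinearEquiv.coe_coe, LinearMap.restrictScalars_apply,
      LocalizedModule.mkLinearMap_apply] at h1
    simp only [LinearMap.comp_apply, LinearMap.restrictScalars_apply,
      LocalizedModule.mkLinearMap_apply, LocalizedModule.map_mk]
    change (LocalizedModule.lift m.primeCompl χk hunits) (LocalizedModule.mk (f x) 1) = _
    rw [LocalizedModule.lift_mk_one]
    change eκ (χ (f x)) = _
    rw [h1, LinearEquiv.apply_symm_apply]
  refine ⟨LinearMap.liftBaseChange m.ResidueField χm, ?_⟩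
  apply TensorProduct.AlgebraTensorModule.ext
  intro c r
  rw [LinearMap.dualMap_apply, LinearMap.baseChange_tmul, LinearMap.liftBaseChange_tmul,
    ← LinearMap.comp_apply, hcomp]
  change c • l ((1 : m.ResidueField) ⊗ₜ r) = _
  rw [← map_smul, TensorProduct.smul_tmul', smul_eq_mul, mul_one]

end LA

/-- a finite module over a Noetherian ring is projective as soon as at every maximal ideal either
`Hom(N, A/𝔪) = 0` or every map from the relations to `A/𝔪` extends -/
theorem projective_of_local_data [IsNoetherianRing A] (N : Type u) [AddCommGroup N] [Module A N]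
    [Module.Finite A N] (n : ℕ) (g : (Fin n → A) →ₗ[A] N) (hg : Function.Surjective g)
    (H : ∀ m : Ideal A, m.IsMaximal →
      (∀ φ : N →ₗ[A] A ⧸ m, φ = 0) ∨
      (∀ ψ : LinearMap.ker g →ₗ[A] A ⧸ m, ∃ χ : (Fin n → A) →ₗ[A] A ⧸ m,
        χ ∘ₗ (LinearMap.ker g).subtype = ψ)) :
    Module.Projective A N := by
  haveI : Module.FinitePresentation A N := Module.finitePresentation_of_finite A N
  apply Module.projective_of_localization_maximal
  intro m hm
  rcases H m hm with h | h
  · haveI := subsingleton_localizedModule_of_hom_eq_zero m N h
    infer_instance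
  · haveI := free_localizedModule_of_extension m (LinearMap.ker g).subtype g hg
      (LinearMap.exact_subtype_ker_map g) h
    infer_instance

end Groth.Agent.Lib.Helper10.AutEqC
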