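import Mathlib
import Groth.Agent.S6990
import Groth.Agent.Lib.Helper21DTrunc

/-!
# Splitting off the top truncation of a bounded above complex of projectives (helper1)

Let `P` be a bounded above complex of projectives and `a : ℤ`. If the canonical chain map
`P ⟶ (im d^a)[-a]` vanishes in the derived category, then `im d^a` is a direct summand of
`P^{a+1}`, the canonical truncation `τ_{≥ a+1} P` is a complex of projectives, and the truncation
triangle `τ_{≤ a} P ⟶ P ⟶ τ_{≥ a+1} P` splits.
-/
set_option autoImplicit false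
universe w v u
open CategoryTheory CategoryTheory.Limits CategoryTheory.Pretriangulated

namespace Groth.Agent.Lib.Helper1.SplitTrunc

open CochainComplex HomologicalComplex DerivedCategory Groth.Agent.S14388

variable {A : Type u} [Category.{v} A] [Abelian A]

/-- the canonical chain map `P ⟶ (im d^a)[-a]` -/
noncomputable def toImage (P : CochainComplex A ℤ) (a : ℤ) :
    P ⟶ (single A (ComplexShape.up ℤ) a).obj (Abelian.image (P.d a (a + 1))) :=
  mkHomToSingle (Abelian.factorThruImage (P.d a (a + 1))) (fun i _ => by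
    rw [← cancel_mono (Abelian.image.ι (P.d a (a + 1))), Category.assoc, Abelian.image.fac,
      zero_comp, P.d_comp_d])

lemma toImage_f (P : CochainComplex A ℤ) (a : ℤ) :
    (toImage P a).f a = Abelian.factorThruImage (P.d a (a + 1)) ≫
      (singleObjXSelf (ComplexShape.up ℤ) a _).inv :=
  mkHomToSingle_f _ _

variable [HasDerivedCategory.{w} A]

/-- a retraction of `im d^a ⟶ P^{a+1}` -/
lemma exists_retraction (P : CochainComplex A ℤ) [P.IsKProjective] (a : ℤ)
    (h : Q.map (toImage P a) = 0) :
    ∃ g : P.X (a + 1) ⟶ Abelian.image (P.d a (a + 1)),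
      Abelian.image.ι (P.d a (a + 1)) ≫ g = 𝟙 _ := by
  have h2 : (HomotopyCategory.quotient A (ComplexShape.up ℤ)).map (toImage P a) =
      (HomotopyCategory.quotient A (ComplexShape.up ℤ)).map 0 := by
    apply (CochainComplex.IsKProjective.Qh_map_bijective P _).1
    rw [Functor.map_zero, Functor.map_zero]
    exact h
  have ho : Homotopy (toImage P a) 0 := HomotopyCategory.homotopyOfEq _ _ h2
  have hc := ho.comm a
  rw [dNext_eq ho.hom (show (ComplexShape.up ℤ).Rel a (a + 1) by simp),
    prevD_eq ho.hom (show (ComplexShape.up ℤ).Rel (a - 1) a by simp),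
    HomologicalComplex.single_obj_d, comp_zero, add_zero, HomologicalComplex.zero_f, add_zero,
    toImage_f] at hc
  refine ⟨ho.hom (a + 1) a ≫ (singleObjXSelf (ComplexShape.up ℤ) a _).hom, ?_⟩
  rw [← cancel_epi (Abelian.factorThruImage (P.d a (a + 1))), ← Category.assoc,
    Abelian.image.fac, ← Category.assoc, ← hc, Category.assoc, Iso.inv_hom_id, Category.comp_id]

omit [HasDerivedCategory.{w} A] in
/-- if `im d^a` is a direct summand of the projective `P^{a+1}`, then `coker d^a` is projective -/
lemma projective_opcycles (P : CochainComplex A ℤ) (a : ℤ) [Projective (P.X (a + 1))]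
    (g : P.X (a + 1) ⟶ Abelian.image (P.d a (a + 1)))
    (hg : Abelian.image.ι (P.d a (a + 1)) ≫ g = 𝟙 _) : Projective (P.opcycles (a + 1)) := by
  have h1 : P.d a (a + 1) ≫ g = Abelian.factorThruImage (P.d a (a + 1)) := by
    calc P.d a (a + 1) ≫ g = (Abelian.factorThruImage (P.d a (a + 1)) ≫
          Abelian.image.ι (P.d a (a + 1))) ≫ g := by rw [Abelian.image.fac]
      _ = _ := by rw [Category.assoc, hg, Category.comp_id]
  have hd : P.d a (a + 1) ≫ (𝟙 _ - g ≫ Abelian.image.ι (P.d a (a + 1))) = 0 := by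
    rw [Preadditive.comp_sub, Category.comp_id, ← Category.assoc, h1, Abelian.image.fac, sub_self]
  have hι : Abelian.image.ι (P.d a (a + 1)) ≫ P.pOpcycles (a + 1) = 0 := by
    rw [← cancel_epi (Abelian.factorThruImage (P.d a (a + 1))), ← Category.assoc,
      Abelian.image.fac, comp_zero, P.d_pOpcycles]
  let s : P.opcycles (a + 1) ⟶ P.X (a + 1) :=
    P.descOpcycles (𝟙 _ - g ≫ Abelian.image.ι (P.d a (a + 1))) a (by simp) hd
  have hs : s ≫ P.pOpcycles (a + 1) = 𝟙 _ := by
    rw [← cancel_epi (P.pOpcycles (a + 1)), P.p_descOpcycles_assoc, Preadditive.sub_comp,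
      Category.id_comp, Category.assoc, hι, comp_zero, sub_zero, Category.comp_id]
  exact Retract.projective ⟨s, P.pOpcycles (a + 1), hs⟩

/-- the terms of the canonical truncation are projective -/
theorem projective_truncGE_X (P : CochainComplex A ℤ) (b : ℤ) [P.IsStrictlyLE b]
    [∀ i : ℤ, Projective (P.X i)] (a : ℤ) (h : Q.map (toImage P a) = 0) (i : ℤ) :
    Projective ((P.truncGE (a + 1)).X i) := by
  have : P.IsKProjective := isKProjective_of_projective P b
  obtain ⟨g, hg⟩ := exists_retraction P a h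
  have := projective_opcycles P a g hg
  obtain hi | rfl | hi := lt_trichotomy i (a + 1)
  · exact ((P.truncGE (a + 1)).isZero_of_isStrictlyGE (a + 1) i hi).projective
  · exact Projective.of_iso (P.truncGEXIsoOpcycles (a + 1)).symm inferInstance
  · exact Projective.of_iso (P.truncGEXIso (a + 1) i hi).symm inferInstance

omit [HasDerivedCategory.{w} A] in
lemma isZero_truncGE_X (P : CochainComplex A ℤ) (b : ℤ) [P.IsStrictlyLE b] (a i : ℤ)
    (hi : i < a + 1 ∨ max b (a + 1) < i) : IsZero ((P.truncGE (a + 1)).X i) := by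
  obtain hi | hi := hi
  · exact (P.truncGE (a + 1)).isZero_of_isStrictlyGE (a + 1) i hi
  · have h1 : a + 1 < i := lt_of_le_of_lt (le_max_right b (a + 1)) hi
    have h2 : b < i := lt_of_le_of_lt (le_max_left b (a + 1)) hi
    exact (P.isZero_of_isStrictlyLE b i h2).of_iso (P.truncGEXIso (a + 1) i h1)

/-- the truncation triangle splits as soon as the top truncation is represented by a bounded
above complex of projectives -/
theorem exists_splitting (K : DerivedCategory A) (n : ℤ) (P' : CochainComplex A ℤ) (b' : ℤ)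
    (hP' : ∀ i : ℤ, i < n ∨ b' < i → IsZero (P'.X i)) [∀ i : ℤ, Projective (P'.X i)]
    (e : Q.obj P' ≅ (tt.truncGE n).obj K) :
    ∃ e' : K ≅ (tt.truncLT n).obj K ⊞ (tt.truncGE n).obj K,
      (tt.truncLTι n).app K ≫ e'.hom = biprod.inl ∧
        e'.hom ≫ biprod.snd = (tt.truncGEπ n).app K := by
  have hT := tt.triangleLTGE_distinguished n K
  have i0 : ((tt.truncLT n).obj K).IsLE (n - 1) := inferInstance
  have i0' : ((tt.truncLT n).obj K).IsLE n := tt.isLE_of_le _ (n - 1) n (by lia)
  have i1 : (((tt.truncLT n).obj K)⟦(1 : ℤ)⟧).IsLE (n - 1) :=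
    tt.isLE_shift ((tt.truncLT n).obj K) n 1 (n - 1) (by lia)
  obtain ⟨δ, hδ⟩ : ∃ δ : (tt.truncGE n).obj K ⟶ ((tt.truncLT n).obj K)⟦(1 : ℤ)⟧,
      δ = ((tt.triangleLTGE n).obj K).mor₃ := ⟨_, rfl⟩
  have hδ0 : δ = 0 := by
    have h := Groth.Agent.S6990.hom_eq_zero P' n b' hP' _ (e.hom ≫ δ)
    rw [← cancel_epi e.hom, h, comp_zero]
  have hz : ((tt.triangleLTGE n).obj K).mor₃ = 0 := hδ.symm.trans hδ0
  obtain ⟨e', h1, h2⟩ := exists_iso_binaryBiproduct_of_distTriang _ hT hz
  exact ⟨e', h1, h2.symm⟩

end Groth.Agent.Lib.Helper1.SplitTrunc
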