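import Mathlib
import Groth.Prelude.Def_DRing2
import Groth.Agent.Lib.Helper10AutEqC
import Groth.Agent.Lib.Helper1SplitTrunc
import Groth.Agent.S7028
set_option backward.isDefEq.respectTransparency.types false

/-!
# A bounded complex with finite cohomology whose `Hom` into each residue field is concentrated
in one degree is perfect (helper10)
-/

set_option autoImplicit false
universe u
open CategoryTheory CategoryTheory.Limits CategoryTheory.Pretriangulated
attribute [local instance] HasDerivedCategory.standard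

namespace Groth.Agent.Lib.Helper10.AutEqD

open DerivedCategory Groth.Agent.S14388

variable {A : Type u} [CommRing A]

/-- a module placed in degree `j` -/
noncomputable abbrev sg (j : ℤ) (M : ModuleCat.{u} A) : Dual.D A :=
  (DerivedCategory.singleFunctor (ModuleCat.{u} A) j).obj M

/-- vanishing of `Hom` between modules placed in the same degree -/
lemma hom_eq_zero_of_sg (t : ℤ) (N κ : ModuleCat.{u} A) (h : ∀ u : sg t N ⟶ sg t κ, u = 0)
    (φ : N ⟶ κ) : φ = 0 :=
  (DerivedCategory.singleFunctor (ModuleCat.{u} A) t).map_injective (by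
    rw [h ((DerivedCategory.singleFunctor (ModuleCat.{u} A) t).map φ), Functor.map_zero])

/-- from `Hom(N[-t], κ[-t+1]) = 0` to `Ext¹(N, κ) = 0` -/
lemma hom_shift_eq_zero (t : ℤ) (N κ : ModuleCat.{u} A)
    (h : ∀ u : sg t N ⟶ sg (t - 1) κ, u = 0) (v : sg 0 N ⟶ (sg 0 κ)⟦(1 : ℤ)⟧) : v = 0 := by
  let e1 : (sg 0 N)⟦-t⟧ ≅ sg t N :=
    ((DerivedCategory.singleFunctors (ModuleCat.{u} A)).shiftIso (-t) t 0 (by omega)).app N
  let e2 : (sg 0 κ)⟦(1 : ℤ)⟧ ≅ sg (-1) κ :=
    ((DerivedCategory.singleFunctors (ModuleCat.{u} A)).shiftIso 1 (-1) 0 (by omega)).app κ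
  let e3 : (sg (-1) κ)⟦-t⟧ ≅ sg (t - 1) κ :=
    ((DerivedCategory.singleFunctors (ModuleCat.{u} A)).shiftIso (-t) (t - 1) (-1)
      (by omega)).app κ
  have h1 := h (e1.inv ≫ (shiftFunctor (Dual.D A) (-t)).map (v ≫ e2.hom) ≫ e3.hom)
  have h2 : (shiftFunctor (Dual.D A) (-t)).map (v ≫ e2.hom) = 0 := by
    rw [← cancel_epi e1.inv, ← cancel_mono e3.hom, Category.assoc, h1, comp_zero, zero_comp]
  have h3 : v ≫ e2.hom = 0 :=
    (shiftFunctor (Dual.D A) (-t)).map_injective (by rw [h2, Functor.map_zero])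
  rw [← cancel_mono e2.hom, h3, zero_comp]

/-- if `Ext¹(X₃, κ) = 0` then every map `X₁ ⟶ κ` extends to `X₂` -/
lemma exists_extension (κ : ModuleCat.{u} A) (S : ShortComplex (ModuleCat.{u} A))
    (hS : S.ShortExact) (h : ∀ v : sg 0 S.X₃ ⟶ (sg 0 κ)⟦(1 : ℤ)⟧, v = 0) (ψ : S.X₁ ⟶ κ) :
    ∃ χ : S.X₂ ⟶ κ, S.f ≫ χ = ψ := by
  have hT := rot_of_distTriang _ hS.singleTriangle_distinguished
  obtain ⟨v, hv⟩ := Triangle.yoneda_exact₃ _ hT
    ((shiftFunctor (Dual.D A) (1 : ℤ)).map
      ((DerivedCategory.singleFunctor (ModuleCat.{u} A) 0).map ψ)) (h _)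
  obtain ⟨w, rfl⟩ := (shiftFunctor (Dual.D A) (1 : ℤ)).map_surjective v
  obtain ⟨χ, rfl⟩ := (DerivedCategory.singleFunctor (ModuleCat.{u} A) 0).map_surjective w
  refine ⟨-χ, ?_⟩
  apply (DerivedCategory.singleFunctor (ModuleCat.{u} A) 0).map_injective
  apply (shiftFunctor (Dual.D A) (1 : ℤ)).map_injective
  refine Eq.trans ?_ hv.symm
  simp
  exact (Preadditive.neg_comp _ _).symm

/-- the local condition: for each maximal ideal, `Hom(L, (A/𝔪)[-j])` vanishes for all `j` but
one -/
def LocCond (L : Dual.D A) : Prop :=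
  ∀ m : Ideal A, m.IsMaximal → ∃ b : ℤ, ∀ j : ℤ, j ≠ b →
    ∀ f : L ⟶ sg j (ModuleCat.of A (A ⧸ m)), f = 0

/-- the top cohomology is projective -/
lemma projective_top [IsNoetherianRing A] (L : Dual.D A) (t : ℤ) [L.IsLE t]
    (N : ModuleCat.{u} A) [Module.Finite A N] (e : (tt.truncGE t).obj L ≅ sg t N)
    (hloc : LocCond L) : Module.Projective A N := by
  obtain ⟨n, g, hg⟩ := Module.Finite.exists_fin' A N
  refine Groth.Agent.Lib.Helper10.AutEqC.projective_of_local_data N n g hg (fun m hm => ?_)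
  obtain ⟨b, hb⟩ := hloc m hm
  have key : ∀ j : ℤ, t - 1 ≤ j → (∀ f : L ⟶ sg j (ModuleCat.of A (A ⧸ m)), f = 0) →
      ∀ u : sg t N ⟶ sg j (ModuleCat.of A (A ⧸ m)), u = 0 := by
    intro j hj hf u
    haveI : tt.IsGE (sg j (ModuleCat.of A (A ⧸ m))) (t - 1) :=
      tt.isGE_of_ge _ (t - 1) j hj
    have h1 := lemmaA (n := t) (X := L) (e.hom ≫ u) (hf _)
    rw [← cancel_epi e.hom, h1, comp_zero]
  by_cases hbt : b = t
  · right
    have h1 := key (t - 1) le_rfl (hb (t - 1) (by omega))
    have h2 := hom_shift_eq_zero t N (ModuleCat.of A (A ⧸ m)) h1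
    intro ψ
    obtain ⟨χ, hχ⟩ := exists_extension (ModuleCat.of A (A ⧸ m)) g.shortComplexKer
      (LinearMap.shortExact_shortComplexKer hg) h2 (ModuleCat.ofHom ψ)
    refine ⟨χ.hom, ?_⟩
    have := congrArg ModuleCat.Hom.hom hχ
    exact this
  · left
    have h1 := key t (by omega) (hb t (Ne.symm hbt))
    intro φ
    have := hom_eq_zero_of_sg t N (ModuleCat.of A (A ⧸ m)) h1 (ModuleCat.ofHom φ)
    have h2 := congrArg ModuleCat.Hom.hom this
    exact h2

instance projective_single_X (t : ℤ) (N : ModuleCat.{u} A) [Module.Projective A N] (i : ℤ) :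
    Projective (((CochainComplex.singleFunctor (ModuleCat.{u} A) t).obj N).X i) := by
  by_cases h : i = t
  · subst h
    haveI : Projective N := (IsProjective.iff_projective (R := A) (P := N)).1 inferInstance
    exact Projective.of_iso (HomologicalComplex.singleObjXSelf (ComplexShape.up ℤ) i N).symm
      inferInstance
  · exact (HomologicalComplex.isZero_single_obj_X (ComplexShape.up ℤ) t N i h).projective

/-- a finite projective module placed in one degree is perfect -/
lemma isPerfect_sg (t : ℤ) (N : ModuleCat.{u} A) [Module.Finite A N] [Module.Projective A N] :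
    DRing.IsPerfect A (sg t N) := by
  refine ⟨(CochainComplex.singleFunctor (ModuleCat.{u} A) t).obj N, t, t, fun i hi =>
    HomologicalComplex.isZero_single_obj_X (ComplexShape.up ℤ) t N i (by omega), fun i => ?_,
    ⟨((DerivedCategory.singleFunctorIsoCompQ (ModuleCat.{u} A) t).app N).symm⟩⟩
  by_cases h : i = t
  · subst h
    let e := (HomologicalComplex.singleObjXSelf (ComplexShape.up ℤ) i N).toLinearEquiv
    exact ⟨Module.Finite.equiv e.symm, Module.Projective.of_equiv e.symm⟩
  · haveI : Subsingleton (((CochainComplex.singleFunctor (ModuleCat.{u} A) t).obj N).X i) :=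
      ModuleCat.subsingleton_of_isZero
        (HomologicalComplex.isZero_single_obj_X (ComplexShape.up ℤ) t N i h)
    exact ⟨inferInstance, inferInstance⟩

lemma isPerfect_of_iso {K K' : Dual.D A} (e : K ≅ K') (h : DRing.IsPerfect A K) :
    DRing.IsPerfect A K' := by
  obtain ⟨E, a, b, h1, h2, ⟨e'⟩⟩ := h
  exact ⟨E, a, b, h1, h2, ⟨e' ≪≫ e⟩⟩

/-- zero objects are perfect -/
lemma isPerfect_of_isZero (L : Dual.D A) (h : IsZero L) : DRing.IsPerfect A L := by
  haveI : Subsingleton (ModuleCat.of A PUnit.{u + 1}) := inferInstanceAs (Subsingleton PUnit)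
  have hz : IsZero (sg 0 (ModuleCat.of A PUnit.{u + 1})) :=
    Functor.map_isZero _ (ModuleCat.isZero_of_subsingleton _)
  exact isPerfect_of_iso (hz.iso h) (isPerfect_sg 0 (ModuleCat.of A PUnit.{u + 1}))

/-- the middle term of a distinguished triangle with perfect outer terms is perfect -/
lemma isPerfect_of_distTriang (T : Triangle (Dual.D A)) (hT : T ∈ distTriang (Dual.D A))
    (h1 : DRing.IsPerfect A T.obj₁) (h3 : DRing.IsPerfect A T.obj₃) :
    DRing.IsPerfect A T.obj₂ := by
  rw [Groth.Agent.S7028.isPerfect_iff] at h1 h3 ⊢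
  exact (Groth.Agent.Lib.Helper1.Cone.Rep.two_out_of_three (fun X h => h.2)
    Groth.Agent.S7028.FP_iso Groth.Agent.S7028.FP_sum T hT).2.1 h1 h3

/-- induction on the amplitude -/
theorem isPerfect_aux [IsNoetherianRing A] (n : ℕ) : ∀ (L : Dual.D A) (t : ℤ), L.IsLE t →
    L.IsGE (t + 1 - n) → (∀ i : ℤ, Module.Finite A (Dual.HD A L i)) → LocCond L →
    DRing.IsPerfect A L := by
  induction n with
  | zero =>
    intro L t h1 h2 _ _
    haveI := h1
    haveI : L.IsGE (t + 1) := by simpa using h2
    exact isPerfect_of_isZero L (tt.isZero L t (t + 1) (by omega))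
  | succ n ih =>
    intro L t h1 h2 hfin hloc
    haveI := h1
    haveI hGE : L.IsGE (t - n) := by
      have : t + 1 - ((n + 1 : ℕ) : ℤ) = t - n := by push_cast; ring
      rwa [this] at h2
    obtain ⟨N, ⟨e⟩⟩ := exists_iso_singleFunctor_obj_of_isGE_of_isLE ((tt.truncGE t).obj L) t
    haveI hNfin : Module.Finite A N := by
      haveI := isIso_homology_truncGEπ t t le_rfl L
      let e1 : (DerivedCategory.homologyFunctor (ModuleCat.{u} A) t).obj L ≅ N :=
        asIso ((DerivedCategory.homologyFunctor (ModuleCat.{u} A) t).map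
          ((tt.truncGEπ t).app L)) ≪≫
        (DerivedCategory.homologyFunctor (ModuleCat.{u} A) t).mapIso e ≪≫
        (DerivedCategory.singleFunctorCompHomologyFunctorIso (ModuleCat.{u} A) t).app N
      haveI := hfin t
      exact Module.Finite.equiv e1.toLinearEquiv
    haveI hNproj : Module.Projective A N := projective_top L t N e hloc
    let e₀ : Q.obj ((CochainComplex.singleFunctor (ModuleCat.{u} A) t).obj N) ≅
        (tt.truncGE t).obj L :=
      ((DerivedCategory.singleFunctorIsoCompQ (ModuleCat.{u} A) t).app N).symm ≪≫ e.symm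
    obtain ⟨e', h1', -⟩ := Groth.Agent.Lib.Helper1.SplitTrunc.exists_splitting L t
      ((CochainComplex.singleFunctor (ModuleCat.{u} A) t).obj N) t
      (fun i hi => HomologicalComplex.isZero_single_obj_X (ComplexShape.up ℤ) t N i (by omega)) e₀
    have hL₁ : DRing.IsPerfect A ((tt.truncLT t).obj L) := by
      refine ih ((tt.truncLT t).obj L) (t - 1) inferInstance ?_ ?_ ?_
      · rw [show t - 1 + 1 - (n : ℤ) = t - n by ring, isGE_iff]
        intro i hi
        haveI := isIso_homology_truncLTι t i (by omega) L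
        exact (isZero_of_isGE L (t - n) i hi).of_iso
          (asIso ((DerivedCategory.homologyFunctor (ModuleCat.{u} A) i).map
            ((tt.truncLTι t).app L)))
      · intro i
        by_cases hi : i < t
        · haveI := isIso_homology_truncLTι t i hi L
          haveI : Module.Finite A ((DerivedCategory.homologyFunctor (ModuleCat.{u} A) i).obj
            ((𝟭 (DerivedCategory (ModuleCat.{u} A))).obj L)) := hfin i
          exact Module.Finite.equiv (asIso ((DerivedCategory.homologyFunctor (ModuleCat.{u} A)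
            i).map ((tt.truncLTι t).app L))).toLinearEquiv.symm
        · haveI : Subsingleton (Dual.HD A ((tt.truncLT t).obj L) i) :=
            ModuleCat.subsingleton_of_isZero
              (isZero_of_isLE ((tt.truncLT t).obj L) (t - 1) i (by omega))
          infer_instance
      · intro m hm
        obtain ⟨b, hb⟩ := hloc m hm
        refine ⟨b, fun j hj f => ?_⟩
        have h0 := hb j hj (e'.hom ≫ biprod.fst ≫ f)
        have h3 : f = (tt.truncLTι t).app L ≫ e'.hom ≫ biprod.fst ≫ f := by
          rw [← Category.assoc, h1', biprod.inl_fst_assoc]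
        rw [h3, h0, comp_zero]
    have hL₂ : DRing.IsPerfect A ((tt.truncGE t).obj L) :=
      isPerfect_of_iso e.symm (isPerfect_sg t N)
    exact isPerfect_of_distTriang _ (tt.triangleLTGE_distinguished t L) hL₁ hL₂

/-- **a bounded complex with finite cohomology whose `Hom` into each residue field is
concentrated in one degree is perfect** -/
theorem isPerfect_of_locCond [IsNoetherianRing A] (L : Dual.D A)
    (hfin : ∀ i : ℤ, Module.Finite A (Dual.HD A L i))
    (hbdd : ∃ a b : ℤ, ∀ i : ℤ, (i < a ∨ b < i) → Subsingleton (Dual.HD A L i))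
    (hloc : LocCond L) : DRing.IsPerfect A L := by
  obtain ⟨a, b, hab⟩ := hbdd
  have hz : ∀ i : ℤ, (i < a ∨ b < i) →
      IsZero ((DerivedCategory.homologyFunctor (ModuleCat.{u} A) i).obj L) := fun i hi => by
    haveI := hab i hi
    exact ModuleCat.isZero_of_subsingleton _
  haveI : L.IsLE b := (isLE_iff L b).2 (fun i hi => hz i (Or.inr hi))
  haveI : L.IsGE a := (isGE_iff L a).2 (fun i hi => hz i (Or.inl hi))
  by_cases h : a ≤ b + 1
  · obtain ⟨k, hk⟩ : ∃ k : ℕ, (k : ℤ) = b + 1 - a :=
      ⟨(b + 1 - a).toNat, Int.toNat_of_nonneg (by omega)⟩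
    refine isPerfect_aux k L b inferInstance ?_ hfin hloc
    rw [hk, show b + 1 - (b + 1 - a) = a by ring]
    infer_instance
  · refine isPerfect_aux 0 L b inferInstance ?_ hfin hloc
    exact tt.isGE_of_ge L (b + 1 - ((0 : ℕ) : ℤ)) a (by push_cast; omega)

end Groth.Agent.Lib.Helper10.AutEqD
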