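import Mathlib
import Groth.Prelude.Def_DRing2
import Groth.Agent.S14388
set_option backward.isDefEq.respectTransparency.types false

/-!
# Point-like objects of `D(A)` are concentrated in one degree (helper10)

An object `K` of `D(A)` with bounded cohomology which is killed by a maximal ideal and has no
negative self-extensions has cohomology in at most one degree (`concentrated`).
-/

set_option autoImplicit false
universe u
open CategoryTheory CategoryTheory.Limits CategoryTheory.Pretriangulated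
attribute [local instance] HasDerivedCategory.standard

namespace Groth.Agent.Lib.Helper10.AutEqE

open DerivedCategory Groth.Agent.S14388

variable {A : Type u} [CommRing A]

/-- two nonzero modules killed by the same maximal ideal admit a nonzero linear map -/
lemma exists_linearMap_ne_zero (m : Ideal A) [hm : m.IsMaximal] (M M' : Type u)
    [AddCommGroup M] [Module A M] [AddCommGroup M'] [Module A M']
    (hM : ∀ x ∈ m, ∀ n : M, x • n = 0) (hM' : ∀ x ∈ m, ∀ n : M', x • n = 0)
    [Nontrivial M] [Nontrivial M'] : ∃ φ : M →ₗ[A] M', φ ≠ 0 := by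
  letI : Field (A ⧸ m) := Ideal.Quotient.field m
  have tM : Module.IsTorsionBySet A M m := fun n a => hM a a.2 n
  have tM' : Module.IsTorsionBySet A M' m := fun n a => hM' a a.2 n
  letI := tM.module
  letI := tM'.module
  haveI := tM.isScalarTower (S := A)
  haveI := tM'.isScalarTower (S := A)
  obtain ⟨x₀, hx₀⟩ := exists_ne (0 : M)
  obtain ⟨y₀, hy₀⟩ := exists_ne (0 : M')
  obtain ⟨f, hf⟩ : ∃ f : Module.Dual (A ⧸ m) M, f x₀ ≠ 0 := by
    by_contra hall
    push Not at hall
    exact hx₀ ((Module.forall_dual_apply_eq_zero_iff (A ⧸ m) x₀).1 hall)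
  refine ⟨((LinearMap.toSpanSingleton (A ⧸ m) M' y₀) ∘ₗ f).restrictScalars A, fun h => ?_⟩
  have h1 := LinearMap.congr_fun h x₀
  simp only [LinearMap.restrictScalars_apply, LinearMap.comp_apply,
    LinearMap.toSpanSingleton_apply, LinearMap.zero_apply] at h1
  rcases smul_eq_zero.1 h1 with h2 | h2
  · exact hf h2
  · exact hy₀ h2

/-- a module placed in degree `j` -/
noncomputable abbrev sg (j : ℤ) (M : ModuleCat.{u} A) : Dual.D A :=
  (DerivedCategory.singleFunctor (ModuleCat.{u} A) j).obj M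

lemma smul_id_of_iso {X Y : Dual.D A} (e : X ≅ Y) (x : A) (h : x • 𝟙 X = 0) : x • 𝟙 Y = 0 := by
  have : x • 𝟙 Y = e.inv ≫ (x • 𝟙 X) ≫ e.hom := by
    rw [Linear.smul_comp, Linear.comp_smul, Category.id_comp, e.inv_hom_id]
  rw [this, h, zero_comp, comp_zero]

/-- a scalar that kills `K` kills its truncations `τ_{≥ b} K` -/
lemma smul_id_truncGE (K : Dual.D A) (b : ℤ) (x : A) (hx : x • 𝟙 K = 0) :
    x • 𝟙 ((tt.truncGE b).obj K) = 0 := by
  haveI : tt.IsGE ((tt.truncGE b).obj K) (b - 1) := tt.isGE_of_ge _ (b - 1) b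
  apply lemmaA (n := b) (X := K)
  rw [Linear.comp_smul, Category.comp_id, ← Category.id_comp ((tt.truncGEπ b).app K),
    ← Linear.smul_comp]
  exact (congrArg (fun f => f ≫ (tt.truncGEπ b).app K) hx).trans zero_comp

/-- a scalar that kills `K` kills its truncations `τ_{< n} K` -/
lemma smul_id_truncLT (K : Dual.D A) (n : ℤ) (x : A) (hx : x • 𝟙 K = 0) :
    x • 𝟙 ((tt.truncLT n).obj K) = 0 := by
  haveI : tt.IsLE ((tt.truncLT n).obj K) n := tt.isLE_of_le _ (n - 1) n
  apply lemmaB (n := n) (X := K)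
  rw [Linear.smul_comp, Category.id_comp, ← Category.comp_id ((tt.truncLTι n).app K),
    ← Linear.comp_smul]
  exact (congrArg (fun f => (tt.truncLTι n).app K ≫ f) hx).trans comp_zero

/-- scalars killing `N[-t]` kill `N` -/
lemma smul_eq_zero_of_sg (t : ℤ) (N : ModuleCat.{u} A) (x : A) (h : x • 𝟙 (sg t N) = 0)
    (n : N) : x • n = 0 := by
  have h1 : (DerivedCategory.singleFunctor (ModuleCat.{u} A) t).map (x • 𝟙 N) = 0 := by
    rw [Functor.map_smul, CategoryTheory.Functor.map_id]
    exact h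
  have h2 : x • 𝟙 N = 0 :=
    (DerivedCategory.singleFunctor (ModuleCat.{u} A) t).map_injective
      (by rw [h1, Functor.map_zero])
  have h3 := congrArg (fun f => f.hom n) h2
  exact h3

/-- the key contradiction: cohomology in two different degrees gives a nonzero negative
self-extension -/
lemma false_of_two_degrees (m : Ideal A) [hm : m.IsMaximal] (K : Dual.D A) (a b : ℤ)
    (hab : a < b) [K.IsGE a] [K.IsLE b]
    (ha : ¬ IsZero ((DerivedCategory.homologyFunctor (ModuleCat.{u} A) a).obj K))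
    (hb : ¬ IsZero ((DerivedCategory.homologyFunctor (ModuleCat.{u} A) b).obj K))
    (hkill : ∀ x ∈ m, x • 𝟙 K = 0)
    (hneg : ∀ n : ℤ, n < 0 → ∀ f : K ⟶ K⟦n⟧, f = 0) : False := by
  -- the top cohomology
  obtain ⟨Nb, ⟨eb⟩⟩ := exists_iso_singleFunctor_obj_of_isGE_of_isLE ((tt.truncGE b).obj K) b
  -- the bottom cohomology
  haveI : ((tt.truncLT (a + 1)).obj K).IsLE a := by
    have : ((tt.truncLT (a + 1)).obj K).IsLE (a + 1 - 1) := inferInstance
    simpa using this
  haveI : ((tt.truncLT (a + 1)).obj K).IsGE a := by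
    rw [isGE_iff]
    intro i hi
    haveI := isIso_homology_truncLTι (a + 1) i (by omega) K
    exact (isZero_of_isGE K a i hi).of_iso
      (asIso ((DerivedCategory.homologyFunctor (ModuleCat.{u} A) i).map
        ((tt.truncLTι (a + 1)).app K)))
  obtain ⟨Na, ⟨ea⟩⟩ :=
    exists_iso_singleFunctor_obj_of_isGE_of_isLE ((tt.truncLT (a + 1)).obj K) a
  -- both are nonzero
  haveI hNb : Nontrivial Nb := by
    by_contra hnt
    rw [not_nontrivial_iff_subsingleton] at hnt
    haveI := isIso_homology_truncGEπ b b le_rfl K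
    let e1 : (DerivedCategory.homologyFunctor (ModuleCat.{u} A) b).obj K ≅ Nb :=
      asIso ((DerivedCategory.homologyFunctor (ModuleCat.{u} A) b).map
        ((tt.truncGEπ b).app K)) ≪≫
      (DerivedCategory.homologyFunctor (ModuleCat.{u} A) b).mapIso eb ≪≫
      (DerivedCategory.singleFunctorCompHomologyFunctorIso (ModuleCat.{u} A) b).app Nb
    exact hb ((ModuleCat.isZero_of_subsingleton Nb).of_iso e1)
  haveI hNa : Nontrivial Na := by
    by_contra hnt
    rw [not_nontrivial_iff_subsingleton] at hnt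
    haveI := isIso_homology_truncLTι (a + 1) a (by omega) K
    let e1 : (DerivedCategory.homologyFunctor (ModuleCat.{u} A) a).obj K ≅ Na :=
      (asIso ((DerivedCategory.homologyFunctor (ModuleCat.{u} A) a).map
        ((tt.truncLTι (a + 1)).app K))).symm ≪≫
      (DerivedCategory.homologyFunctor (ModuleCat.{u} A) a).mapIso ea ≪≫
      (DerivedCategory.singleFunctorCompHomologyFunctorIso (ModuleCat.{u} A) a).app Na
    exact ha ((ModuleCat.isZero_of_subsingleton Na).of_iso e1)
  -- both are killed by `m`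
  have kNb : ∀ x ∈ m, ∀ n : Nb, x • n = 0 := fun x hx n =>
    smul_eq_zero_of_sg b Nb x (smul_id_of_iso eb x (smul_id_truncGE K b x (hkill x hx))) n
  have kNa : ∀ x ∈ m, ∀ n : Na, x • n = 0 := fun x hx n =>
    smul_eq_zero_of_sg a Na x (smul_id_of_iso ea x (smul_id_truncLT K (a + 1) x (hkill x hx))) n
  obtain ⟨φ, hφ⟩ := exists_linearMap_ne_zero m Nb Na kNb kNa
  -- the resulting map `τ_{≥ b} K ⟶ (τ_{≤ a} K)[a - b]`
  let s : (sg a Na)⟦a - b⟧ ≅ sg b Na :=
    ((DerivedCategory.singleFunctors (ModuleCat.{u} A)).shiftIso (a - b) b a (by omega)).app Na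
  let u : (tt.truncGE b).obj K ⟶ ((tt.truncLT (a + 1)).obj K)⟦a - b⟧ :=
    eb.hom ≫ (DerivedCategory.singleFunctor (ModuleCat.{u} A) b).map (ModuleCat.ofHom φ) ≫
      s.inv ≫ (shiftFunctor (Dual.D A) (a - b)).map ea.inv
  have hc := hneg (a - b) (by omega)
    ((tt.truncGEπ b).app K ≫ u ≫ (shiftFunctor (Dual.D A) (a - b)).map
      ((tt.truncLTι (a + 1)).app K))
  -- step 1
  have h1 : u ≫ (shiftFunctor (Dual.D A) (a - b)).map ((tt.truncLTι (a + 1)).app K) = 0 := by
    haveI : tt.IsGE (K⟦a - b⟧) b := tt.isGE_shift K a (a - b) b (by omega)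
    haveI : tt.IsGE (K⟦a - b⟧) (b - 1) := tt.isGE_of_ge _ (b - 1) b
    exact lemmaA (n := b) (X := K) (Y := K⟦a - b⟧) _ hc
  -- step 2
  have h2 : u = 0 := by
    let η : (tt.truncGE b).obj K ≅ (((tt.truncGE b).obj K)⟦b - a⟧)⟦a - b⟧ :=
      ((shiftFunctorCompIsoId (Dual.D A) (b - a) (a - b) (by omega)).app
        ((tt.truncGE b).obj K)).symm
    obtain ⟨u', hu'⟩ := (shiftFunctor (Dual.D A) (a - b)).map_surjective (η.inv ≫ u)
    have h3 : u' ≫ (tt.truncLTι (a + 1)).app K = 0 := by
      apply (shiftFunctor (Dual.D A) (a - b)).map_injective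
      rw [Functor.map_comp, hu', Category.assoc, h1, comp_zero, Functor.map_zero]
    haveI : tt.IsLE (((tt.truncGE b).obj K)⟦b - a⟧) a :=
      tt.isLE_shift ((tt.truncGE b).obj K) b (b - a) a (by omega)
    haveI : tt.IsLE (((tt.truncGE b).obj K)⟦b - a⟧) (a + 1) := tt.isLE_of_le _ a (a + 1)
    have h4 : u' = 0 := lemmaB (n := a + 1) (X := K) u' h3
    rw [h4, Functor.map_zero] at hu'
    rw [← cancel_epi η.inv, ← hu', comp_zero]
  -- step 3
  have h5 : (DerivedCategory.singleFunctor (ModuleCat.{u} A) b).map (ModuleCat.ofHom φ) = 0 := by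
    have h6 : eb.hom ≫ (DerivedCategory.singleFunctor (ModuleCat.{u} A) b).map
        (ModuleCat.ofHom φ) ≫ (s.inv ≫ (shiftFunctor (Dual.D A) (a - b)).map ea.inv) = 0 := by
      simpa [u] using h2
    have h8 := (cancel_epi eb.hom).1 (h6.trans comp_zero.symm)
    exact (cancel_mono (s.inv ≫ (shiftFunctor (Dual.D A) (a - b)).map ea.inv)).1
      (h8.trans zero_comp.symm)
  have h7 : ModuleCat.ofHom φ = 0 :=
    (DerivedCategory.singleFunctor (ModuleCat.{u} A) b).map_injective
      (by rw [h5, Functor.map_zero])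
  exact hφ (congrArg ModuleCat.Hom.hom h7)

/-- **point-like objects are concentrated in one degree** -/
theorem concentrated (m : Ideal A) [hm : m.IsMaximal] (K : Dual.D A)
    (hbdd : ∃ a b : ℤ, ∀ i : ℤ, (i < a ∨ b < i) →
      IsZero ((DerivedCategory.homologyFunctor (ModuleCat.{u} A) i).obj K))
    (hkill : ∀ x ∈ m, x • 𝟙 K = 0)
    (hneg : ∀ n : ℤ, n < 0 → ∀ f : K ⟶ K⟦n⟧, f = 0) :
    ∃ c : ℤ, ∀ j : ℤ, j ≠ c →
      IsZero ((DerivedCategory.homologyFunctor (ModuleCat.{u} A) j).obj K) := by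
  by_cases hall : ∀ i : ℤ, IsZero ((DerivedCategory.homologyFunctor (ModuleCat.{u} A) i).obj K)
  · exact ⟨0, fun j _ => hall j⟩
  push Not at hall
  obtain ⟨i₀, hi₀⟩ := hall
  obtain ⟨a₀, b₀, hab⟩ := hbdd
  obtain ⟨a, ha, hamin⟩ := Int.exists_least_of_bdd
    (P := fun i => ¬ IsZero ((DerivedCategory.homologyFunctor (ModuleCat.{u} A) i).obj K))
    ⟨a₀, fun i hi => by
      by_contra h
      exact hi (hab i (Or.inl (by omega)))⟩ ⟨i₀, hi₀⟩
  obtain ⟨b, hb, hbmax⟩ := Int.exists_greatest_of_bdd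
    (P := fun i => ¬ IsZero ((DerivedCategory.homologyFunctor (ModuleCat.{u} A) i).obj K))
    ⟨b₀, fun i hi => by
      by_contra h
      exact hi (hab i (Or.inr (by omega)))⟩ ⟨i₀, hi₀⟩
  have hab' : a ≤ b := hamin b hb
  rcases hab'.eq_or_lt with heq | hlt
  · subst heq
    refine ⟨a, fun j hj => ?_⟩
    by_contra h
    have h1 := hamin j h
    have h2 := hbmax j h
    omega
  · exfalso
    haveI : K.IsGE a := (isGE_iff K a).2 (fun i hi => by
      by_contra h
      have := hamin i h
      omega)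
    haveI : K.IsLE b := (isLE_iff K b).2 (fun i hi => by
      by_contra h
      have := hbmax i h
      omega)
    exact false_of_two_degrees m K a b hlt ha hb hkill hneg

end Groth.Agent.Lib.Helper10.AutEqE
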