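import Mathlib
set_option backward.isDefEq.respectTransparency.types false

/-!
# Transport of `Hom`-vanishing and scalar conditions along fully faithful linear functors
commuting with shifts (helper10)
-/

set_option autoImplicit false
universe u
open CategoryTheory CategoryTheory.Limits

namespace Groth.Agent.Lib.Helper10.AutEqF

variable {A : Type u} [CommRing A]
  {C D : Type*} [Category C] [Category D] [Preadditive C] [Preadditive D]
  [Linear A C] [Linear A D]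

section NoShift

variable (Ψ : C ⥤ D) [Ψ.Full] [Ψ.Faithful] [Ψ.Additive] [Ψ.Linear A]

lemma smul_id_eq_zero_iff (X : C) (x : A) : x • 𝟙 (Ψ.obj X) = 0 ↔ x • 𝟙 X = 0 := by
  have h : Ψ.map (x • 𝟙 X) = x • 𝟙 (Ψ.obj X) := by
    rw [Functor.map_smul, CategoryTheory.Functor.map_id]
  constructor
  · intro h1
    apply Ψ.map_injective
    rw [h, h1, Functor.map_zero]
  · intro h1
    rw [← h, h1, Functor.map_zero]

lemma scalarEnd_iff (X : C) :
    Function.Bijective (fun a : A => a • 𝟙 (Ψ.obj X)) ↔ Function.Bijective (fun a : A => a • 𝟙 X) := by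
  have hb : Function.Bijective (fun f : X ⟶ X => Ψ.map f) :=
    ⟨Ψ.map_injective, Ψ.map_surjective⟩
  have hc : (fun a : A => a • 𝟙 (Ψ.obj X)) = (fun f : X ⟶ X => Ψ.map f) ∘ (fun a : A => a • 𝟙 X) := by
    funext a
    simp [Functor.map_smul]
  rw [hc]
  exact Function.Bijective.of_comp_iff' hb _

end NoShift

section Iso

lemma smul_id_eq_zero_of_iso {X Y : C} (e : X ≅ Y) (x : A) (h : x • 𝟙 X = 0) : x • 𝟙 Y = 0 := by
  have : x • 𝟙 Y = e.inv ≫ (x • 𝟙 X) ≫ e.hom := by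
    rw [Linear.smul_comp, Linear.comp_smul, Category.id_comp, e.inv_hom_id]
  rw [this, h, zero_comp, comp_zero]

variable [HasShift C ℤ]

lemma hom_shift_eq_zero_of_iso {X X' Y Y' : C} (eX : X ≅ X') (eY : Y ≅ Y') (n : ℤ)
    (h : ∀ f : X ⟶ Y⟦n⟧, f = 0) (g : X' ⟶ Y'⟦n⟧) : g = 0 := by
  have h1 := h (eX.hom ≫ g ≫ (shiftFunctor C n).map eY.inv)
  have h2 : g = eX.inv ≫ (eX.hom ≫ g ≫ (shiftFunctor C n).map eY.inv) ≫
      (shiftFunctor C n).map eY.hom := by
    simp [← Functor.map_comp]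
  rw [h2, h1, zero_comp, comp_zero]

end Iso

section Shift

variable [HasShift C ℤ] [HasShift D ℤ] (Ψ : C ⥤ D) [Ψ.Full] [Ψ.Faithful] [Ψ.Additive]
  [Ψ.CommShift ℤ]

lemma hom_shift_eq_zero_iff (X Y : C) (n : ℤ) :
    (∀ g : Ψ.obj X ⟶ (Ψ.obj Y)⟦n⟧, g = 0) ↔ (∀ f : X ⟶ Y⟦n⟧, f = 0) := by
  constructor
  · intro h f
    apply Ψ.map_injective
    have h1 := h (Ψ.map f ≫ (Ψ.commShiftIso n).hom.app Y)
    rw [Functor.map_zero, ← cancel_mono ((Ψ.commShiftIso n).hom.app Y), h1, zero_comp]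
  · intro h g
    obtain ⟨f, hf⟩ := Ψ.map_surjective (g ≫ (Ψ.commShiftIso n).inv.app Y)
    rw [h f, Functor.map_zero] at hf
    rw [← cancel_mono ((Ψ.commShiftIso n).inv.app Y), ← hf, zero_comp]

end Shift

end Groth.Agent.Lib.Helper10.AutEqF
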