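import Mathlib
import Groth.Prelude.Def_DTen
import Groth.Agent.Lib.Helper10AutEqB
import Groth.Agent.Lib.Helper10AutEqD
import Groth.Agent.Lib.Helper10AutEqE
import Groth.Agent.Lib.Helper10AutEqF
import Groth.Agent.Lib.Helper10UnitHom
set_option backward.isDefEq.respectTransparency.types false

/-!
# An `A`-linear triangulated autoequivalence of `D^b_Coh(A)` sends `A` to an invertible object
(helper10)
-/

set_option autoImplicit false
universe u
open CategoryTheory CategoryTheory.Limits MonoidalCategory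
attribute [local instance] HasDerivedCategory.standard

namespace Groth.Agent.Lib.Helper10.AutEqG

open DerivedCategory DTen Groth.Agent.S14388 Groth.Agent.Lib.Helper10.AutEqF
  Groth.Agent.Lib.Helper10.AutEqD

variable {A : Type u} [CommRing A]

/-- the endomorphisms of `A[0]` are the scalars -/
lemma scalarEnd_unit : Function.Bijective (fun a : A => a • 𝟙 (DTen.unit A)) := by
  refine (scalarEnd_iff (A := A) (DerivedCategory.singleFunctor (ModuleCat.{u} A) 0)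
    (ModuleCat.of A A)).2 ⟨fun a b hab => ?_, fun f => ⟨f.hom (1 : A), ?_⟩⟩
  · have := congrArg (fun g : ModuleCat.of A A ⟶ ModuleCat.of A A => g.hom (1 : A)) hab
    simpa using this
  · apply ModuleCat.hom_ext
    apply LinearMap.ext_ring
    simp

/-- maps from `A[0]` to a shift of an object concentrated in one degree -/
lemma hom_unit_shift_eq_zero (K : Dual.D A) (c : ℤ) [K.IsLE c] [K.IsGE c] (n : ℤ) (hn : n ≠ c)
    (f : DTen.unit A ⟶ K⟦n⟧) : f = 0 := by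
  rcases lt_or_gt_of_ne hn with h | h
  · -- `c - n > 0`
    haveI : tt.IsGE (K⟦n⟧) (c - n) := tt.isGE_shift K c n (c - n) (by omega)
    haveI : tt.IsLE (DTen.unit A) 0 :=
      inferInstanceAs (tt.IsLE ((DerivedCategory.singleFunctor (ModuleCat.{u} A) 0).obj
        (ModuleCat.of A A)) 0)
    exact tt.zero_of_isLE_of_isGE f 0 (c - n) (by omega) inferInstance inferInstance
  · haveI : (K⟦n⟧).IsLE (c - n) := tt.isLE_shift K c n (c - n) (by omega)
    exact Groth.Agent.Lib.Helper10.UnitHom.hom_eq_zero_of_isLE (c - n) (K⟦n⟧) 0 (by omega) f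

section Kappa

variable (m : Ideal A)

/-- the residue module `A/𝔪` placed in degree `0` -/
noncomputable abbrev κ0 : Dual.D A := sg 0 (ModuleCat.of A (A ⧸ m))

lemma isZero_homology_κ0 (i : ℤ) (hi : i ≠ 0) :
    IsZero ((DerivedCategory.homologyFunctor (ModuleCat.{u} A) i).obj (κ0 m)) := by
  rcases lt_or_gt_of_ne hi with h | h
  · exact isZero_of_isGE (κ0 m) 0 i h
  · exact isZero_of_isLE (κ0 m) 0 i h

lemma finite_homology_κ0 (i : ℤ) : Module.Finite A (Dual.HD A (κ0 m) i) := by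
  by_cases hi : i = 0
  · subst hi
    let e : (DerivedCategory.homologyFunctor (ModuleCat.{u} A) 0).obj (κ0 m) ≅
        ModuleCat.of A (A ⧸ m) :=
      (DerivedCategory.singleFunctorCompHomologyFunctorIso (ModuleCat.{u} A) 0).app _
    exact Module.Finite.equiv e.toLinearEquiv.symm
  · haveI : Subsingleton (Dual.HD A (κ0 m) i) :=
      ModuleCat.subsingleton_of_isZero (isZero_homology_κ0 m i hi)
    infer_instance

lemma smul_id_κ0 (x : A) (hx : x ∈ m) : x • 𝟙 (κ0 m) = 0 := by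
  have h1 : x • 𝟙 (ModuleCat.of A (A ⧸ m)) = 0 := by
    apply ModuleCat.hom_ext
    apply LinearMap.ext
    intro y
    obtain ⟨y, rfl⟩ := Ideal.Quotient.mk_surjective y
    change x • (Ideal.Quotient.mk m y) = 0
    rw [Algebra.smul_def, Ideal.Quotient.algebraMap_eq, ← map_mul, Ideal.Quotient.eq_zero_iff_mem]
    exact m.mul_mem_right y hx
  exact (smul_id_eq_zero_iff (A := A) (DerivedCategory.singleFunctor (ModuleCat.{u} A) 0)
    (ModuleCat.of A (A ⧸ m)) x).2 h1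

lemma hom_κ0_shift_eq_zero (n : ℤ) (hn : n < 0) (f : κ0 m ⟶ (κ0 m)⟦n⟧) : f = 0 := by
  haveI : tt.IsGE ((κ0 m)⟦n⟧) (-n) := tt.isGE_shift (κ0 m) 0 n (-n) (by omega)
  exact tt.zero_of_isLE_of_isGE f 0 (-n) (by omega) inferInstance inferInstance

end Kappa

/-- **an `A`-linear autoequivalence of `D^b_Coh(A)` commuting with shifts sends `A[0]` to an
invertible object** -/
theorem main [IsNoetherianRing A] [DTen.HasLTen A]
    (P : ObjectProperty (Dual.D A))
    (hP : ∀ K : Dual.D A, P K ↔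
      ((∀ i : ℤ, Module.Finite A (Dual.HD A K i)) ∧
        ∃ a b : ℤ, ∀ i : ℤ, (i < a ∨ b < i) → Subsingleton (Dual.HD A K i)))
    [P.IsTriangulated]
    (F : P.FullSubcategory ⥤ P.FullSubcategory) [F.CommShift ℤ] [F.IsEquivalence]
    [F.Additive] [F.Linear A]
    (hA : P (DTen.unit A)) :
    DTen.IsInvertible A (F.obj ⟨DTen.unit A, hA⟩).obj := by
  let A₀ : P.FullSubcategory := ⟨DTen.unit A, hA⟩
  change DTen.IsInvertible A (F.obj A₀).obj
  obtain ⟨hfin, hbdd⟩ := (hP (F.obj A₀).obj).1 (F.obj A₀).property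
  haveI : tt.IsLE (DTen.unit A) 0 :=
    inferInstanceAs (tt.IsLE ((DerivedCategory.singleFunctor (ModuleCat.{u} A) 0).obj
      (ModuleCat.of A A)) 0)
  haveI : tt.IsGE (DTen.unit A) 0 :=
    inferInstanceAs (tt.IsGE ((DerivedCategory.singleFunctor (ModuleCat.{u} A) 0).obj
      (ModuleCat.of A A)) 0)
  -- the endomorphisms of `F(A)` are the scalars
  have h0 : Function.Bijective (fun a : A => a • 𝟙 (F.obj A₀).obj) := by
    have h1 : Function.Bijective (fun a : A => a • 𝟙 A₀) :=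
      (scalarEnd_iff (A := A) P.ι A₀).1 scalarEnd_unit
    have h2 : Function.Bijective (fun a : A => a • 𝟙 (F.obj A₀)) :=
      (scalarEnd_iff (A := A) F A₀).2 h1
    exact (scalarEnd_iff (A := A) P.ι (F.obj A₀)).2 h2
  -- `F(A)` has no self-extensions
  have hn : ∀ n : ℤ, n ≠ 0 → ∀ f : (F.obj A₀).obj ⟶ (F.obj A₀).obj⟦n⟧, f = 0 := by
    intro n hn0
    have h1 : ∀ f : A₀ ⟶ A₀⟦n⟧, f = 0 :=
      (hom_shift_eq_zero_iff P.ι A₀ A₀ n).1
        (fun g => hom_unit_shift_eq_zero (DTen.unit A) 0 n hn0 g)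
    have h2 : ∀ g : F.obj A₀ ⟶ (F.obj A₀)⟦n⟧, g = 0 := (hom_shift_eq_zero_iff F A₀ A₀ n).2 h1
    exact (hom_shift_eq_zero_iff P.ι (F.obj A₀) (F.obj A₀) n).2 h2
  -- the local condition
  have hloc : LocCond (F.obj A₀).obj := by
    intro m hm
    have hκ : P (κ0 m) := (hP _).2 ⟨finite_homology_κ0 m, 0, 0, fun i hi =>
      ModuleCat.subsingleton_of_isZero (isZero_homology_κ0 m i (by omega))⟩
    let κ₀ : P.FullSubcategory := ⟨κ0 m, hκ⟩
    let K₀ := F.objPreimage κ₀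
    let eK : F.obj K₀ ≅ κ₀ := F.objObjPreimageIso κ₀
    obtain ⟨-, aK, bK, hKb⟩ := (hP K₀.obj).1 K₀.property
    have hkill : ∀ x ∈ m, x • 𝟙 K₀.obj = 0 := by
      intro x hx
      have h1 : x • 𝟙 κ₀ = 0 := (smul_id_eq_zero_iff (A := A) P.ι κ₀ x).1 (smul_id_κ0 m x hx)
      have h2 : x • 𝟙 (F.obj K₀) = 0 := smul_id_eq_zero_of_iso eK.symm x h1
      have h3 : x • 𝟙 K₀ = 0 := (smul_id_eq_zero_iff (A := A) F K₀ x).1 h2
      exact (smul_id_eq_zero_iff (A := A) P.ι K₀ x).2 h3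
    have hneg : ∀ n : ℤ, n < 0 → ∀ f : K₀.obj ⟶ K₀.obj⟦n⟧, f = 0 := by
      intro n hn
      have h1 : ∀ f : κ₀ ⟶ κ₀⟦n⟧, f = 0 :=
        (hom_shift_eq_zero_iff P.ι κ₀ κ₀ n).1 (hom_κ0_shift_eq_zero m n hn)
      have h2 : ∀ f : F.obj K₀ ⟶ (F.obj K₀)⟦n⟧, f = 0 :=
        hom_shift_eq_zero_of_iso eK.symm eK.symm n h1
      have h3 : ∀ f : K₀ ⟶ K₀⟦n⟧, f = 0 := (hom_shift_eq_zero_iff F K₀ K₀ n).1 h2
      exact (hom_shift_eq_zero_iff P.ι K₀ K₀ n).2 h3
    obtain ⟨c, hc⟩ := Groth.Agent.Lib.Helper10.AutEqE.concentrated m K₀.obj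
      ⟨aK, bK, fun i hi => by
        haveI := hKb i hi
        exact ModuleCat.isZero_of_subsingleton _⟩ hkill hneg
    haveI : K₀.obj.IsLE c := (isLE_iff _ c).2 (fun i hi => hc i (by omega))
    haveI : K₀.obj.IsGE c := (isGE_iff _ c).2 (fun i hi => hc i (by omega))
    refine ⟨-c, fun j hj f => ?_⟩
    let s : (κ0 m)⟦-j⟧ ≅ sg j (ModuleCat.of A (A ⧸ m)) :=
      ((DerivedCategory.singleFunctors (ModuleCat.{u} A)).shiftIso (-j) j 0 (by omega)).app _
    have h1 : ∀ g : A₀ ⟶ K₀⟦-j⟧, g = 0 :=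
      (hom_shift_eq_zero_iff P.ι A₀ K₀ (-j)).1
        (fun g => hom_unit_shift_eq_zero K₀.obj c (-j) (by omega) g)
    have h2 : ∀ g : F.obj A₀ ⟶ (F.obj K₀)⟦-j⟧, g = 0 :=
      (hom_shift_eq_zero_iff F A₀ K₀ (-j)).2 h1
    have h3 : ∀ g : F.obj A₀ ⟶ κ₀⟦-j⟧, g = 0 :=
      hom_shift_eq_zero_of_iso (Iso.refl _) eK (-j) h2
    have h4 : ∀ g : (F.obj A₀).obj ⟶ (κ0 m)⟦-j⟧, g = 0 :=
      (hom_shift_eq_zero_iff P.ι (F.obj A₀) κ₀ (-j)).2 h3
    have h5 := h4 (f ≫ s.inv)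
    rw [← cancel_mono s.inv, h5, zero_comp]
  exact Groth.Agent.Lib.Helper10.AutEqB.isInvertible_of_isPerfect (F.obj A₀).obj
    (isPerfect_of_locCond (F.obj A₀).obj hfin hbdd hloc) h0 hn

end Groth.Agent.Lib.Helper10.AutEqG
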