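import Mathlib

/-!
# Semicontinuity of fibre ranks (helper10)

* `exists_isOpen_finrank_le`: for a finite module `Q` over a commutative ring `B`, the function
  `y ↦ dim_{κ(y)} κ(y) ⊗ Q` on `Spec B` is upper semicontinuous.
* `finrank_range_baseChange_add`: `dim Im(φ_y) + dim κ(y) ⊗ coker φ = dim κ(y) ⊗ K'`.
* `lowerSemicontinuous_finrank_range_baseChange`: for `K'` finitely presented flat, the rank of the
  image of `φ_y` is lower semicontinuous.
-/

namespace Groth.Agent.Lib.Helper10.FibreRank

open TensorProduct Module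

universe u v

variable {B : Type u} [CommRing B]

lemma span_one_tmul (κ : Type*) [CommRing κ] [Algebra B κ] (M : Type*) [AddCommGroup M]
    [Module B M] :
    Submodule.span κ (Set.range (fun m : M => (1 : κ) ⊗ₜ[B] m)) = ⊤ := by
  have h := Submodule.baseChange_top (R := B) (M := M) κ
  rw [Submodule.baseChange_eq_span, Submodule.map_top] at h
  rw [← h]
  rfl

/-- If `κ ⊗ (Q ⧸ span (range g))` is trivial then the `1 ⊗ g v` span `κ ⊗ Q`. -/
lemma span_one_tmul_of_subsingleton (κ : Type*) [CommRing κ] [Algebra B κ] {Q : Type*}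
    [AddCommGroup Q] [Module B Q] {ι : Type*} (g : ι → Q)
    [Subsingleton (κ ⊗[B] (Q ⧸ Submodule.span B (Set.range g)))] :
    Submodule.span κ (Set.range fun i : ι => (1 : κ) ⊗ₜ[B] g i) = ⊤ := by
  set N := Submodule.span B (Set.range g) with hN
  have h1 : N.baseChange κ = Submodule.span κ (Set.range fun i : ι => (1 : κ) ⊗ₜ[B] g i) := by
    rw [hN, Submodule.baseChange_span, ← Set.range_comp]
    rfl
  rw [← h1, eq_top_iff]
  intro x _
  have hker : x ∈ LinearMap.ker (LinearMap.lTensor κ N.mkQ) :=
    LinearMap.mem_ker.mpr (Subsingleton.elim _ _)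
  rw [lTensor_mkQ] at hker
  obtain ⟨z, hz⟩ := hker
  exact ⟨z, hz⟩

/-- Upper semicontinuity of the fibre rank of a finite module. -/
theorem exists_isOpen_finrank_le (Q : Type v) [AddCommGroup Q] [Module B Q] [Module.Finite B Q]
    (y : PrimeSpectrum B) :
    ∃ U : Set (PrimeSpectrum B), IsOpen U ∧ y ∈ U ∧ ∀ y' ∈ U,
      finrank y'.asIdeal.ResidueField (y'.asIdeal.ResidueField ⊗[B] Q) ≤
        finrank y.asIdeal.ResidueField (y.asIdeal.ResidueField ⊗[B] Q) := by
  classical
  set κ := y.asIdeal.ResidueField with hκ
  have hspan := span_one_tmul (B := B) κ Q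
  obtain ⟨b, hbs, hbspan, hbli⟩ :=
    exists_linearIndependent κ (Set.range fun q : Q => (1 : κ) ⊗ₜ[B] q)
  have hbfin : b.Finite := hbli.setFinite
  haveI : Fintype b := hbfin.fintype
  have hcard : Fintype.card b = finrank κ (κ ⊗[B] Q) := by
    let bs : Basis b κ (κ ⊗[B] Q) := Basis.mk hbli (by
      rw [Subtype.range_coe, hbspan, hspan])
    exact (finrank_eq_card_basis bs).symm
  choose g hg using fun v : b => hbs v.2
  set T := Q ⧸ Submodule.span B (Set.range g) with hT
  have hTsub : Subsingleton (κ ⊗[B] T) := by
    refine ⟨fun a c => ?_⟩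
    suffices h : ∀ x : κ ⊗[B] T, x = 0 by rw [h a, h c]
    intro x
    obtain ⟨x', rfl⟩ := LinearMap.lTensor_surjective κ
      (Submodule.mkQ_surjective (Submodule.span B (Set.range g))) x
    have hx' : x' ∈ (Submodule.span B (Set.range g)).baseChange κ := by
      have h2 : (Submodule.span B (Set.range g)).baseChange κ = ⊤ := by
        rw [Submodule.baseChange_span, ← Set.range_comp, eq_top_iff, ← hspan, ← hbspan]
        apply Submodule.span_mono
        intro v hv
        exact ⟨⟨v, hv⟩, hg ⟨v, hv⟩⟩
      rw [h2]
      exact Submodule.mem_top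
    obtain ⟨z, rfl⟩ := hx'
    have : LinearMap.lTensor κ (Submodule.span B (Set.range g)).mkQ
        (LinearMap.lTensor κ (Submodule.span B (Set.range g)).subtype z) = 0 := by
      rw [← LinearMap.comp_apply, ← LinearMap.lTensor_comp]
      have h0 : (Submodule.span B (Set.range g)).mkQ ∘ₗ
          (Submodule.span B (Set.range g)).subtype = 0 := by
        ext x
        simp
      rw [h0, LinearMap.lTensor_zero]
      rfl
    exact this
  have hy : y ∉ Module.support B T := by
    rw [Module.mem_support_iff_nontrivial_residueField_tensorProduct]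
    exact not_nontrivial_iff_subsingleton.mpr hTsub
  refine ⟨(Module.support B T)ᶜ, Module.isClosed_support.isOpen_compl, hy, fun y' hy' => ?_⟩
  have hT' : Subsingleton (y'.asIdeal.ResidueField ⊗[B] T) := by
    rw [← not_nontrivial_iff_subsingleton,
      ← Module.mem_support_iff_nontrivial_residueField_tensorProduct]
    exact hy'
  have hspan' := span_one_tmul_of_subsingleton (B := B) y'.asIdeal.ResidueField g
  calc finrank y'.asIdeal.ResidueField (y'.asIdeal.ResidueField ⊗[B] Q)
      = finrank y'.asIdeal.ResidueField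
          (Submodule.span y'.asIdeal.ResidueField
            (Set.range fun i : b => (1 : y'.asIdeal.ResidueField) ⊗ₜ[B] g i)) := by
        rw [hspan', finrank_top]
    _ ≤ Fintype.card b := finrank_range_le_card _
    _ = finrank κ (κ ⊗[B] Q) := hcard

/-- `dim Im(φ_κ) + dim κ ⊗ coker φ = dim κ ⊗ K'`. -/
theorem finrank_range_baseChange_add {K K' : Type*} [AddCommGroup K] [Module B K]
    [AddCommGroup K'] [Module B K'] [Module.Finite B K']
    (φ : K →ₗ[B] K') (κ : Type*) [Field κ] [Algebra B κ] :
    finrank κ (LinearMap.range (φ.baseChange κ)) +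
      finrank κ (κ ⊗[B] (K' ⧸ LinearMap.range φ)) = finrank κ (κ ⊗[B] K') := by
  set π := (LinearMap.range φ).mkQ with hπ
  have hsurj : Function.Surjective (π.baseChange κ) :=
    LinearMap.lTensor_surjective κ (Submodule.mkQ_surjective _)
  have hker : LinearMap.ker (π.baseChange κ) = LinearMap.range (φ.baseChange κ) := by
    ext x
    have hex := lTensor_exact κ (LinearMap.exact_map_mkQ_range φ)
      (Submodule.mkQ_surjective (LinearMap.range φ))
    have := hex x
    rw [LinearMap.mem_ker, LinearMap.mem_range]
    exact this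
  have h := LinearMap.finrank_range_add_finrank_ker (π.baseChange κ)
  rw [LinearMap.range_eq_top.mpr hsurj, finrank_top, hker] at h
  omega

/-- Lower semicontinuity of the rank of the image of `φ_y`, for `K'` finitely presented flat. -/
theorem lowerSemicontinuous_finrank_range_baseChange {K K' : Type*} [AddCommGroup K] [Module B K]
    [AddCommGroup K'] [Module B K'] [Module.FinitePresentation B K'] [Module.Flat B K']
    (φ : K →ₗ[B] K') :
    LowerSemicontinuous (fun y : PrimeSpectrum B =>
      finrank y.asIdeal.ResidueField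
        (LinearMap.range (φ.baseChange y.asIdeal.ResidueField))) := by
  intro y r hr
  obtain ⟨U, hUo, hyU, hU⟩ := exists_isOpen_finrank_le (B := B) (K' ⧸ LinearMap.range φ) y
  have hlc := (Module.isLocallyConstant_rankAtStalk (R := B) (M := K')).eventually_eq y
  filter_upwards [hUo.mem_nhds hyU, hlc] with y' hy'U hy'eq
  have h1 := finrank_range_baseChange_add φ y.asIdeal.ResidueField
  have h2 := finrank_range_baseChange_add φ y'.asIdeal.ResidueField
  have h3 := hU y' hy'U
  rw [Module.rankAtStalk_eq, Module.rankAtStalk_eq] at hy'eq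
  have h4 : finrank y'.asIdeal.ResidueField (y'.asIdeal.ResidueField ⊗[B] K') =
      finrank y.asIdeal.ResidueField (y.asIdeal.ResidueField ⊗[B] K') := hy'eq
  refine lt_of_lt_of_le hr ?_
  show finrank y.asIdeal.ResidueField
      (LinearMap.range (φ.baseChange y.asIdeal.ResidueField)) ≤
    finrank y'.asIdeal.ResidueField
      (LinearMap.range (φ.baseChange y'.asIdeal.ResidueField))
  rw [h4] at h2
  generalize finrank y.asIdeal.ResidueField
      (LinearMap.range (φ.baseChange y.asIdeal.ResidueField)) = a at h1 ⊢
  generalize finrank y'.asIdeal.ResidueField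
      (LinearMap.range (φ.baseChange y'.asIdeal.ResidueField)) = a' at h2 ⊢
  generalize finrank y.asIdeal.ResidueField
      (y.asIdeal.ResidueField ⊗[B] (K' ⧸ LinearMap.range φ)) = d at h1 h3
  generalize finrank y'.asIdeal.ResidueField
      (y'.asIdeal.ResidueField ⊗[B] (K' ⧸ LinearMap.range φ)) = d' at h2 h3
  generalize finrank y.asIdeal.ResidueField (y.asIdeal.ResidueField ⊗[B] K') = R at h1 h2
  omega

end Groth.Agent.Lib.Helper10.FibreRank
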