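import Mathlib
import Groth.Prelude.Def_AzInv
import Groth.Agent.Lib.Helper10FibreRank

/-!
# Dimension of symmetric elements in fibres of an algebra with `lam`-involution (helper10)
-/

namespace Groth.Agent.Lib.Helper10.AzSign

open TensorProduct Module

universe u v w

variable {R : Type v} {A : Type w} [CommRing R] [Ring A] [Algebra R A] {lam : R → R}
  (t : AzInv.LamInv R A lam)

section fibre

variable (κ : Type*) [Field κ] [Algebra R κ]
  (hram : ∀ r : R, algebraMap R κ (lam r) = algebraMap R κ r)

/-- the involution induced on the fibre `κ ⊗ A` when `lam` is trivial on `κ`. -/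
noncomputable def fibreInvAdd : κ ⊗[R] A →+ κ ⊗[R] A :=
  TensorProduct.liftAddHom
    { toFun := fun c =>
        { toFun := fun a => c ⊗ₜ[R] t a
          map_zero' := by simp [t.map_zero]
          map_add' := fun a b => by rw [t.map_add, TensorProduct.tmul_add] }
      map_zero' := by ext a; simp
      map_add' := fun c c' => by ext a; simp [TensorProduct.add_tmul] }
    (by
      intro r c a
      simp only [AddMonoidHom.coe_mk, ZeroHom.coe_mk]
      rw [t.map_smul, ← TensorProduct.smul_tmul]
      congr 1
      rw [Algebra.smul_def, Algebra.smul_def, hram r])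

@[simp] lemma fibreInvAdd_tmul (c : κ) (a : A) :
    fibreInvAdd t κ hram (c ⊗ₜ[R] a) = c ⊗ₜ[R] t a := rfl

/-- the `κ`-linear involution on the fibre. -/
noncomputable def fibreInv : κ ⊗[R] A →ₗ[κ] κ ⊗[R] A where
  toFun := fibreInvAdd t κ hram
  map_add' := map_add _
  map_smul' := by
    intro c x
    induction x using TensorProduct.induction_on with
    | zero => simp
    | tmul c' a => simp [TensorProduct.smul_tmul']
    | add x y hx hy => simp only [smul_add, map_add, hx, hy]

@[simp] lemma fibreInv_tmul (c : κ) (a : A) :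
    fibreInv t κ hram (c ⊗ₜ[R] a) = c ⊗ₜ[R] t a := rfl

/-- the span of the symmetric elements in the fibre -/
def symSpan : Submodule κ (κ ⊗[R] A) :=
  Submodule.span κ (Set.range fun a : {a : A // t a = a} => (1 : κ) ⊗ₜ[R] (a : A))

/-- the span of the skew elements in the fibre -/
def skewSpan : Submodule κ (κ ⊗[R] A) :=
  Submodule.span κ (Set.range fun a : {a : A // t a = -a} => (1 : κ) ⊗ₜ[R] (a : A))

include hram in
lemma symSpan_inf_skewSpan (h2 : (2 : κ) ≠ 0) : symSpan t κ ⊓ skewSpan t κ = ⊥ := by
  rw [eq_bot_iff]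
  rintro x ⟨hx1, hx2⟩
  have h1 : fibreInv t κ hram x = x := by
    have : symSpan t κ ≤ LinearMap.ker (fibreInv t κ hram - LinearMap.id) := by
      apply Submodule.span_le.mpr
      rintro _ ⟨a, rfl⟩
      simp [a.2]
    have := this hx1
    rwa [LinearMap.mem_ker, LinearMap.sub_apply, LinearMap.id_apply, sub_eq_zero] at this
  have h2' : fibreInv t κ hram x = -x := by
    have : skewSpan t κ ≤ LinearMap.ker (fibreInv t κ hram + LinearMap.id) := by
      apply Submodule.span_le.mpr
      rintro _ ⟨a, rfl⟩
      simp [a.2, TensorProduct.tmul_neg]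
    have := this hx2
    rwa [LinearMap.mem_ker, LinearMap.add_apply, LinearMap.id_apply,
      add_eq_zero_iff_eq_neg] at this
  have h3 : (2 : κ) • x = 0 := by
    rw [two_smul]
    nth_rewrite 1 [← h1]
    rw [h2', neg_add_cancel]
  rcases smul_eq_zero.mp h3 with h | h
  · exact absurd h h2
  · exact h

lemma symSpan_sup_skewSpan (u : R) (hu : 2 * u = 1) (hlu : lam u = u) :
    symSpan t κ ⊔ skewSpan t κ = ⊤ := by
  rw [eq_top_iff, ← FibreRank.span_one_tmul (B := R) κ A]
  apply Submodule.span_le.mpr
  rintro _ ⟨a, rfl⟩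
  have hs : t (u • (a + t a)) = u • (a + t a) := by
    rw [t.map_smul, hlu, t.map_add, t.invol, add_comm]
  have hk : t (u • (a - t a)) = -(u • (a - t a)) := by
    rw [t.map_smul, hlu, t.map_sub, t.invol, ← smul_neg, neg_sub]
  have hsum : a = u • (a + t a) + u • (a - t a) := by
    rw [← smul_add]
    have : a + t a + (a - t a) = (2 : R) • a := by rw [two_smul]; abel
    rw [this, smul_smul, mul_comm, hu, one_smul]
  have h1 : (1 : κ) ⊗ₜ[R] a = (1 : κ) ⊗ₜ[R] (u • (a + t a)) + (1 : κ) ⊗ₜ[R] (u • (a - t a)) := by
    rw [← TensorProduct.tmul_add, ← hsum]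
  change (1 : κ) ⊗ₜ[R] a ∈ symSpan t κ ⊔ skewSpan t κ
  rw [h1]
  exact Submodule.add_mem_sup (Submodule.subset_span ⟨⟨_, hs⟩, rfl⟩)
    (Submodule.subset_span ⟨⟨_, hk⟩, rfl⟩)

include hram in
lemma finrank_symSpan_add_finrank_skewSpan [Module.Finite R A] (h2 : (2 : κ) ≠ 0)
    (u : R) (hu : 2 * u = 1) (hlu : lam u = u) :
    finrank κ (symSpan t κ) + finrank κ (skewSpan t κ) = finrank κ (κ ⊗[R] A) := by
  have h := Submodule.finrank_sup_add_finrank_inf_eq (symSpan t κ) (skewSpan t κ)
  rw [symSpan_sup_skewSpan t κ u hu hlu, symSpan_inf_skewSpan t κ hram h2, finrank_top,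
    finrank_bot, add_zero] at h
  exact h.symm

end fibre

lemma eventually_le_of_lowerSemicontinuousAt {X : Type*} [TopologicalSpace X] (f : X → ℕ) (x : X)
    (h : LowerSemicontinuousAt f x) : ∀ᶠ y in nhds x, f x ≤ f y := by
  rcases Nat.eq_zero_or_pos (f x) with h0 | hpos
  · exact Filter.Eventually.of_forall fun y => by omega
  · have := h (f x - 1) (by omega)
    exact this.mono fun y hy => by omega

lemma symSpan_eq_range (κ : Type*) [Field κ] [Algebra R κ] :
    symSpan t κ = LinearMap.range
      ((Submodule.span R {a : A | t a = a}).subtype.baseChange κ) := by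
  have h := Submodule.baseChange_span (R := R) (M := A) κ {a : A | t a = a}
  rw [Set.image_eq_range] at h
  exact h.symm

lemma skewSpan_eq_range (κ : Type*) [Field κ] [Algebra R κ] :
    skewSpan t κ = LinearMap.range
      ((Submodule.span R {a : A | t a = -a}).subtype.baseChange κ) := by
  have h := Submodule.baseChange_span (R := R) (M := A) κ {a : A | t a = -a}
  rw [Set.image_eq_range] at h
  exact h.symm

theorem exists_basicOpen_finrank_symSpan_eq [Module.Finite R A] [Module.Projective R A]
    (u : R) (hu : 2 * u = 1) (hlu : lam u = u) (q : PrimeSpectrum R)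
    (hq : ∀ r, lam r - r ∈ q.asIdeal) :
    ∃ f : R, f ∉ q.asIdeal ∧ ∀ q' : PrimeSpectrum R, (∀ r, lam r - r ∈ q'.asIdeal) →
      f ∉ q'.asIdeal →
      finrank q'.asIdeal.ResidueField (symSpan t q'.asIdeal.ResidueField) =
        finrank q.asIdeal.ResidueField (symSpan t q.asIdeal.ResidueField) := by
  haveI : Module.FinitePresentation R A := Module.finitePresentation_of_projective R A
  have hl1 := FibreRank.lowerSemicontinuous_finrank_range_baseChange (B := R)
    (Submodule.span R {a : A | t a = a}).subtype
  have hl2 := FibreRank.lowerSemicontinuous_finrank_range_baseChange (B := R)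
    (Submodule.span R {a : A | t a = -a}).subtype
  have e1 := eventually_le_of_lowerSemicontinuousAt _ q (hl1 q)
  have e2 := eventually_le_of_lowerSemicontinuousAt _ q (hl2 q)
  have e3 := (Module.isLocallyConstant_rankAtStalk (R := R) (M := A)).eventually_eq q
  have hU := e1.and (e2.and e3)
  obtain ⟨_, ⟨f, rfl⟩, hqf, hfU⟩ :=
    PrimeSpectrum.isTopologicalBasis_basic_opens.mem_nhds_iff.mp hU
  refine ⟨f, fun hf => hqf hf, fun q' hq' hfq' => ?_⟩
  obtain ⟨h1, h2, h3⟩ := hfU (show q' ∈ (PrimeSpectrum.basicOpen f : Set _) from hfq')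
  have hsum : ∀ p : PrimeSpectrum R, (∀ r, lam r - r ∈ p.asIdeal) →
      finrank p.asIdeal.ResidueField (symSpan t p.asIdeal.ResidueField) +
        finrank p.asIdeal.ResidueField (skewSpan t p.asIdeal.ResidueField) =
      finrank p.asIdeal.ResidueField (p.asIdeal.ResidueField ⊗[R] A) := by
    intro p hp
    refine finrank_symSpan_add_finrank_skewSpan t p.asIdeal.ResidueField ?_ ?_ u hu hlu
    · intro r
      rw [← sub_eq_zero, ← map_sub, Ideal.algebraMap_residueField_eq_zero]
      exact hp r
    · intro h0
      have := congrArg (algebraMap R p.asIdeal.ResidueField) hu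
      rw [map_mul, map_ofNat, h0, zero_mul, map_one] at this
      exact zero_ne_one this
  have s1 := hsum q hq
  have s2 := hsum q' hq'
  rw [Module.rankAtStalk_eq, Module.rankAtStalk_eq] at h3
  have h3' : finrank q'.asIdeal.ResidueField (q'.asIdeal.ResidueField ⊗[R] A) =
      finrank q.asIdeal.ResidueField (q.asIdeal.ResidueField ⊗[R] A) := h3
  rw [symSpan_eq_range, skewSpan_eq_range] at s1 s2
  rw [symSpan_eq_range, symSpan_eq_range]
  rw [h3'] at s2
  have h1' : finrank q.asIdeal.ResidueField (LinearMap.range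
      ((Submodule.span R {a : A | t a = a}).subtype.baseChange q.asIdeal.ResidueField)) ≤
    finrank q'.asIdeal.ResidueField (LinearMap.range
      ((Submodule.span R {a : A | t a = a}).subtype.baseChange q'.asIdeal.ResidueField)) := h1
  have h2' : finrank q.asIdeal.ResidueField (LinearMap.range
      ((Submodule.span R {a : A | t a = -a}).subtype.baseChange q.asIdeal.ResidueField)) ≤
    finrank q'.asIdeal.ResidueField (LinearMap.range
      ((Submodule.span R {a : A | t a = -a}).subtype.baseChange q'.asIdeal.ResidueField)) := h2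
  omega

end Groth.Agent.Lib.Helper10.AzSign
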