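import Mathlib
import Groth.Prelude.Def_DTen5
import Groth.Prelude.Def_DTen6
import Groth.Agent.Lib.Helper1DT5
import Groth.Agent.Lib.Helper1KF9
import Groth.Agent.Lib.Helper10DTenA
set_option backward.isDefEq.respectTransparency.types false

/-!
# Derived base change is strong monoidal (helper10)

`θ : L(T ⊗^L_R K) ⟶ LT ⊗^L_{R'} LK` (adjunct of `(η ⊗ η) ≫ resPF`) is an isomorphism.
-/

set_option autoImplicit false
set_option maxHeartbeats 400000
universe u
open CategoryTheory CategoryTheory.Limits MonoidalCategory HomologicalComplex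
attribute [local instance] HasDerivedCategory.standard

namespace Groth.Agent.Lib.Helper10.BCA

open DerivedCategory Groth.Agent.Lib.Helper1.KF Groth.Agent.Lib.Helper1.DT DTen

variable {R R' : Type u} [CommRing R] [CommRing R'] (φ : R →+* R')

section Module

/-- the unit of extension/restriction of scalars is monoidal -/
lemma unit_tensor (X Y : ModuleCat.{u} R) :
    (ModuleCat.extendRestrictScalarsAdj.{u, u, u} φ).unit.app (X ⊗ Y) ≫
        (resM φ).map (Functor.OplaxMonoidal.δ (extM φ) X Y) =
      ((ModuleCat.extendRestrictScalarsAdj.{u, u, u} φ).unit.app X ⊗ₘ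
        (ModuleCat.extendRestrictScalarsAdj.{u, u, u} φ).unit.app Y) ≫
        resTen₀app φ ((extM φ).obj X) ((extM φ).obj Y) := by
  rw [resTen₀app_eq_μ]
  exact Adjunction.unit_app_tensor_comp_map_δ _ X Y

end Module

section Complex

set_option backward.isDefEq.respectTransparency false in
/-- the unit of extension/restriction of scalars on complexes is monoidal -/
lemma unitCx_tensor (P P' : Cx R) :
    (unitCx φ).app ((tensorT R).obj (P, P')) ≫ (resCx φ).map (extTenCxIso φ P P').hom =
      ((unitCx φ).app P ⊗ₘ (unitCx φ).app P') ≫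
        resTenCx φ ((extCx φ).obj P) ((extCx φ).obj P') := by
  change _ = HomologicalComplex.mapBifunctorMap ((unitCx φ).app P) ((unitCx φ).app P') _ _ ≫ _
  refine HomologicalComplex.hom_ext _ _ (fun n => HomologicalComplex.mapBifunctor.hom_ext (fun p q h => ?_))
  have h1 : HomologicalComplex.ιTensorObj P P' p q n h ≫
      (HomologicalComplex.mapBifunctorMap ((unitCx φ).app P) ((unitCx φ).app P')
        (curriedTensor (ModuleCat.{u} R)) (ComplexShape.up ℤ)).f n =
      (((unitCx φ).app P).f p ⊗ₘ ((unitCx φ).app P').f q) ≫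
        HomologicalComplex.ιTensorObj ((resCx φ).obj ((extCx φ).obj P))
          ((resCx φ).obj ((extCx φ).obj P')) p q n h := by
    rw [MonoidalCategory.tensorHom_def]
    exact HomologicalComplex.ι_mapBifunctorMap _ _ _ _ p q n h
  have h2 := ι_resTenCx φ ((extCx φ).obj P) ((extCx φ).obj P') p q n h
  have h3 : HomologicalComplex.ιTensorObj P P' p q n h ≫
      ((unitCx φ).app ((tensorT R).obj (P, P'))).f n =
      (ModuleCat.extendRestrictScalarsAdj.{u, u, u} φ).unit.app (P.X p ⊗ P'.X q) ≫
        (resM φ).map ((extM φ).map (HomologicalComplex.ιTensorObj P P' p q n h)) :=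
    (ModuleCat.extendRestrictScalarsAdj.{u, u, u} φ).unit.naturality
      (HomologicalComplex.ιTensorObj P P' p q n h)
  have h4 := map_ι_extTenCxIso_hom φ P P' p q n h
  have h5 := unit_tensor φ (P.X p) (P'.X q)
  have h6 : ((resCx φ).map (extTenCxIso φ P P').hom).f n =
      (resM φ).map ((extTenCxIso φ P P').hom.f n) := rfl
  calc HomologicalComplex.ιTensorObj P P' p q n h ≫
        ((unitCx φ).app ((tensorT R).obj (P, P')) ≫ (resCx φ).map (extTenCxIso φ P P').hom).f n
      = (HomologicalComplex.ιTensorObj P P' p q n h ≫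
          ((unitCx φ).app ((tensorT R).obj (P, P'))).f n) ≫
          ((resCx φ).map (extTenCxIso φ P P').hom).f n := by
        rw [HomologicalComplex.comp_f, Category.assoc]
    _ = (ModuleCat.extendRestrictScalarsAdj.{u, u, u} φ).unit.app (P.X p ⊗ P'.X q) ≫
          (resM φ).map (Functor.OplaxMonoidal.δ (extM φ) (P.X p) (P'.X q) ≫
            HomologicalComplex.ιTensorObj ((extCx φ).obj P) ((extCx φ).obj P') p q n h) := by
        rw [h3, h6, Category.assoc, ← Functor.map_comp, h4]
    _ = (((unitCx φ).app P).f p ⊗ₘ ((unitCx φ).app P').f q) ≫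
          resTen₀app φ (((extCx φ).obj P).X p) (((extCx φ).obj P').X q) ≫
          (resM φ).map (HomologicalComplex.ιTensorObj ((extCx φ).obj P) ((extCx φ).obj P') p q n h) := by
        rw [Functor.map_comp, ← Category.assoc, h5, Category.assoc]
        rfl
    _ = (HomologicalComplex.ιTensorObj P P' p q n h ≫
          (HomologicalComplex.mapBifunctorMap ((unitCx φ).app P) ((unitCx φ).app P')
            (curriedTensor (ModuleCat.{u} R)) (ComplexShape.up ℤ)).f n) ≫
          (resTenCx φ ((extCx φ).obj P) ((extCx φ).obj P')).f n := by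
        rw [h1, Category.assoc, h2]
    _ = HomologicalComplex.ιTensorObj P P' p q n h ≫
          (HomologicalComplex.mapBifunctorMap ((unitCx φ).app P) ((unitCx φ).app P')
            (curriedTensor (ModuleCat.{u} R)) (ComplexShape.up ℤ) ≫
          resTenCx φ ((extCx φ).obj P) ((extCx φ).obj P')).f n := by
        rw [HomologicalComplex.comp_f, Category.assoc]

end Complex

section Derived

variable [HasLTen R] [HasLTen R'] [HasLBase φ] [HasResTen φ] [ResLegIso φ]

/-- functoriality of `⊗^L` on pairs of maps -/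
@[reassoc]
lemma tmap_comp (A : Type u) [CommRing A] [HasLTen A] {X X' X'' Y Y' Y'' : Dual.D A} (f : X ⟶ X')
    (f' : X' ⟶ X'') (g : Y ⟶ Y') (g' : Y' ⟶ Y'') :
    (LTen₂ A).map (Prod.mkHom (f ≫ f') (g ≫ g')) =
      (LTen₂ A).map (Prod.mkHom f g) ≫ (LTen₂ A).map (Prod.mkHom f' g') := by
  rw [← Functor.map_comp]
  rfl

/-- `(η ⊗ η) ≫ resPF : T ⊗^L K ⟶ res (LT ⊗^L LK)` -/
noncomputable def θpre (T K : Dual.D R) :
    (LTen₂ R).obj (T, K) ⟶
      (DRing.restrictD φ).obj ((LTen₂ R').obj ((LBase φ).obj T, (LBase φ).obj K)) :=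
  (LTen₂ R).map (Prod.mkHom ((baseAdj φ).unit.app T) ((baseAdj φ).unit.app K)) ≫
    (resPF φ).app ((LBase φ).obj T, (LBase φ).obj K)

lemma θpre_naturality {T T' K K' : Dual.D R} (f : T ⟶ T') (g : K ⟶ K') :
    (LTen₂ R).map (Prod.mkHom f g) ≫ θpre φ T' K' =
      θpre φ T K ≫ (DRing.restrictD φ).map
        ((LTen₂ R').map (Prod.mkHom ((LBase φ).map f) ((LBase φ).map g))) := by
  have h1 := (resPF φ).naturality (X := ((LBase φ).obj T, (LBase φ).obj K))
    (Y := ((LBase φ).obj T', (LBase φ).obj K')) (Prod.mkHom ((LBase φ).map f) ((LBase φ).map g))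
  have h2 := (baseAdj φ).unit.naturality f
  have h3 := (baseAdj φ).unit.naturality g
  dsimp at h1 h2 h3
  unfold θpre
  rw [Category.assoc, ← h1, ← Category.assoc, ← Category.assoc, ← tmap_comp, ← tmap_comp, h2, h3]

/-- `θ : L(T ⊗^L K) ⟶ LT ⊗^L LK` -/
noncomputable def θ (T K : Dual.D R) :
    (LBase φ).obj ((LTen₂ R).obj (T, K)) ⟶ (LTen₂ R').obj ((LBase φ).obj T, (LBase φ).obj K) :=
  ((baseAdj φ).homEquiv _ _).symm (θpre φ T K)

lemma θ_fac (T K : Dual.D R) :
    (baseAdj φ).unit.app _ ≫ (DRing.restrictD φ).map (θ φ T K) = θpre φ T K := by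
  rw [θ]
  erw [← (baseAdj φ).homEquiv_unit]
  exact Equiv.apply_symm_apply _ _

lemma θ_naturality {T T' K K' : Dual.D R} (f : T ⟶ T') (g : K ⟶ K') :
    (LBase φ).map ((LTen₂ R).map (Prod.mkHom f g)) ≫ θ φ T' K' =
      θ φ T K ≫ (LTen₂ R').map (Prod.mkHom ((LBase φ).map f) ((LBase φ).map g)) := by
  unfold θ
  rw [← Adjunction.homEquiv_naturality_left_symm, ← Adjunction.homEquiv_naturality_right_symm,
    θpre_naturality]

/-- the restriction of `baseγ` followed by the identification is `Q` of the unit -/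
lemma baseγ_resFactors (P : Cx R) :
    (baseγ φ).app P ≫ (resFactors φ).hom.app ((extCx φ).obj P) = Q.map ((unitCx φ).app P) := by
  unfold baseγ
  dsimp only
  rw [Category.assoc, Iso.inv_hom_id_app]
  exact Category.comp_id _

/-- `resPF` on images of complexes, followed by restriction of the counit -/
lemma resPF_ε (X : Cx R' × Cx R') :
    (resPF φ).app ((QQ R').obj X) ≫ (DRing.restrictD φ).map ((ε R').app X) =
      (resβA φ).app X ≫ (resFactors φ).inv.app ((tensorT R').obj X) := by
  have h := resPF_fac φ X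
  unfold resβB at h
  dsimp only at h
  rw [← h, Category.assoc, Category.assoc, Iso.hom_inv_id_app]
  congr 1
  exact (Category.comp_id _).symm

/-- the key identity on complexes -/
lemma θ_Q (P P' : Cx R) :
    θ φ (Q.obj P) (Q.obj P') ≫
        (LTen₂ R').map (Prod.mkHom ((baseCmp φ).app P) ((baseCmp φ).app P')) ≫
        (ε R').app ((extCx φ).obj P, (extCx φ).obj P') =
      (LBase φ).map ((ε R).app (P, P')) ≫ (baseCmp φ).app ((tensorT R).obj (P, P')) ≫
        Q.map (extTenCxIso φ P P').hom := by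
  apply ((baseAdj φ).homEquiv _ _).injective
  rw [Adjunction.homEquiv_unit, Adjunction.homEquiv_unit]
  -- left hand side
  have hL : (baseAdj φ).unit.app ((LTen₂ R).obj (Q.obj P, Q.obj P')) ≫
      (DRing.restrictD φ).map
        (θ φ (Q.obj P) (Q.obj P') ≫
          (LTen₂ R').map (Prod.mkHom ((baseCmp φ).app P) ((baseCmp φ).app P')) ≫
            (ε R').app ((extCx φ).obj P, (extCx φ).obj P')) =
      (ε R).app (P, P') ≫ Q.map ((unitCx φ).app P ⊗ₘ (unitCx φ).app P') ≫
      Q.map (resTenCx φ ((extCx φ).obj P) ((extCx φ).obj P')) ≫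
      (resFactors φ).inv.app ((tensorT R').obj ((extCx φ).obj P, (extCx φ).obj P')) := by
    have n1 := (resPF φ).naturality (X := ((LBase φ).obj (Q.obj P), (LBase φ).obj (Q.obj P')))
      (Y := (QQ R').obj ((extCx φ).obj P, (extCx φ).obj P'))
      (Prod.mkHom ((baseCmp φ).app P) ((baseCmp φ).app P'))
    have n2 := resPF_ε φ ((extCx φ).obj P, (extCx φ).obj P')
    have n3 := (ε R).naturality (X := (P, P'))
      (Y := ((resCx φ).obj ((extCx φ).obj P), (resCx φ).obj ((extCx φ).obj P')))
      (Prod.mkHom ((unitCx φ).app P) ((unitCx φ).app P'))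
    have n4 : (tensorT R).map (Prod.mkHom ((unitCx φ).app P) ((unitCx φ).app P')) =
        ((unitCx φ).app P ⊗ₘ (unitCx φ).app P') := by
      dsimp
      rw [← MonoidalCategory.tensorHom_def]
    dsimp only [Functor.comp_map, Functor.prod_map, Functor.comp_obj, Functor.prod_obj] at n1 n2 n3
    rw [Functor.map_comp, Functor.map_comp, ← Category.assoc, θ_fac]
    unfold θpre
    rw [Category.assoc, ← Category.assoc ((resPF φ).app _), ← n1, Category.assoc, n2]
    unfold resβA
    dsimp only
    simp only [Category.assoc]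
    rw [← tmap_comp_assoc, ← tmap_comp_assoc, baseCmp_fac, baseCmp_fac,
      baseγ_resFactors, baseγ_resFactors, ← Category.assoc ((LTen₂ R).map _), n3, n4, Category.assoc]
  rw [hL]
  have m1 := (baseAdj φ).unit.naturality ((ε R).app (P, P'))
  have m2 := baseCmp_fac φ ((tensorT R).obj (P, P'))
  have m3 := (resFactors φ).inv.naturality (extTenCxIso φ P P').hom
  have m4 := unitCx_tensor φ P P'
  have m5 : (baseγ φ).app ((tensorT R).obj (P, P')) = Q.map ((unitCx φ).app ((tensorT R).obj (P, P'))) ≫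
      (resFactors φ).inv.app ((extCx φ).obj ((tensorT R).obj (P, P'))) := rfl
  dsimp only [Functor.comp_map, Functor.comp_obj, Functor.id_obj, Functor.id_map, Functor.prod_obj] at m1 m3
  symm
  calc (baseAdj φ).unit.app ((LTen₂ R).obj (Q.obj P, Q.obj P')) ≫
        (DRing.restrictD φ).map ((LBase φ).map ((ε R).app (P, P')) ≫
          (baseCmp φ).app ((tensorT R).obj (P, P')) ≫ Q.map (extTenCxIso φ P P').hom)
      = ((baseAdj φ).unit.app ((LTen₂ R).obj (Q.obj P, Q.obj P')) ≫
          (DRing.restrictD φ).map ((LBase φ).map ((ε R).app (P, P')))) ≫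
          (DRing.restrictD φ).map ((baseCmp φ).app ((tensorT R).obj (P, P'))) ≫
          (DRing.restrictD φ).map (Q.map (extTenCxIso φ P P').hom) := by
        rw [Functor.map_comp, Functor.map_comp, Category.assoc]
    _ = (ε R).app (P, P') ≫ ((baseAdj φ).unit.app (Q.obj ((tensorT R).obj (P, P'))) ≫
          (DRing.restrictD φ).map ((baseCmp φ).app ((tensorT R).obj (P, P')))) ≫
          (DRing.restrictD φ).map (Q.map (extTenCxIso φ P P').hom) := by
        rw [← m1, Category.assoc, Category.assoc]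
    _ = (ε R).app (P, P') ≫ Q.map ((unitCx φ).app ((tensorT R).obj (P, P'))) ≫
          Q.map ((resCx φ).map (extTenCxIso φ P P').hom) ≫
          (resFactors φ).inv.app ((tensorT R').obj ((extCx φ).obj P, (extCx φ).obj P')) := by
        rw [m2, m5, Category.assoc, m3]
    _ = (ε R).app (P, P') ≫ Q.map ((unitCx φ).app P ⊗ₘ (unitCx φ).app P') ≫
          Q.map (resTenCx φ ((extCx φ).obj P) ((extCx φ).obj P')) ≫
          (resFactors φ).inv.app ((tensorT R').obj ((extCx φ).obj P, (extCx φ).obj P')) := by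
        rw [← Category.assoc (Q.map _), ← Functor.map_comp, m4, Functor.map_comp, Category.assoc]

lemma isIso_tmap (A : Type u) [CommRing A] [HasLTen A] {X X' Y Y' : Dual.D A} (f : X ⟶ X')
    (g : Y ⟶ Y') [IsIso f] [IsIso g] : IsIso ((LTen₂ A).map (Prod.mkHom f g)) := by
  have : IsIso (Prod.mkHom f g : (X, Y) ⟶ (X', Y')) :=
    (CategoryTheory.isIso_prod_iff (f := (Prod.mkHom f g : (X, Y) ⟶ (X', Y')))).2
      ⟨inferInstanceAs (IsIso f), inferInstanceAs (IsIso g)⟩
  infer_instance

theorem isIso_θ_Q (P P' : Cx R) [P.IsKProjective] [P'.IsKProjective] :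
    IsIso (θ φ (Q.obj P) (Q.obj P')) := by
  have h := θ_Q φ P P'
  have h1 : IsIso ((baseCmp φ).app P) := isIso_baseCmp_of_isKProjective φ P
  have h2 : IsIso ((baseCmp φ).app P') := isIso_baseCmp_of_isKProjective φ P'
  have h3 : IsIso ((ε R').app ((extCx φ).obj P, (extCx φ).obj P')) :=
    isIso_ε_of_isKProjective _ _
  have h4 : IsIso ((ε R).app (P, P')) := isIso_ε_of_isKProjective P P'
  have h5 : IsIso ((baseCmp φ).app ((tensorT R).obj (P, P'))) :=
    isIso_baseCmp_of_kflat φ _ (kflat_tensor (kflat_of_isKProjective P) (kflat_of_isKProjective P'))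
  have h6 := isIso_tmap R' ((baseCmp φ).app P) ((baseCmp φ).app P')
  have e : θ φ (Q.obj P) (Q.obj P') =
      ((LBase φ).map ((ε R).app (P, P')) ≫ (baseCmp φ).app ((tensorT R).obj (P, P')) ≫
        Q.map (extTenCxIso φ P P').hom) ≫
      inv ((ε R').app ((extCx φ).obj P, (extCx φ).obj P')) ≫
      inv ((LTen₂ R').map (Prod.mkHom ((baseCmp φ).app P) ((baseCmp φ).app P'))) := by
    rw [← h]
    simp only [Category.assoc, IsIso.hom_inv_id_assoc, IsIso.hom_inv_id, Category.comp_id]
  rw [e]
  infer_instance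

/-- **derived base change is strong monoidal** -/
theorem isIso_θ (T K : Dual.D R) : IsIso (θ φ T K) := by
  obtain ⟨P, hP, -, ⟨eT⟩⟩ := exists_kproj_iso T
  obtain ⟨P', hP', -, ⟨eK⟩⟩ := exists_kproj_iso K
  have := isIso_θ_Q φ P P'
  have h := θ_naturality φ eT.hom eK.hom
  have := isIso_tmap R eT.hom eK.hom
  have := isIso_tmap R' ((LBase φ).map eT.hom) ((LBase φ).map eK.hom)
  have e : θ φ T K = inv ((LBase φ).map ((LTen₂ R).map (Prod.mkHom eT.hom eK.hom))) ≫
      θ φ (Q.obj P) (Q.obj P') ≫
      (LTen₂ R').map (Prod.mkHom ((LBase φ).map eT.hom) ((LBase φ).map eK.hom)) := by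
    rw [← h, IsIso.inv_hom_id_assoc]
  rw [e]
  infer_instance

end Derived

end Groth.Agent.Lib.Helper10.BCA
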