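import Mathlib
import Groth.Agent.Lib.Helper10BCA
set_option backward.isDefEq.respectTransparency.types false

/-!
# `rhomBC` is an isomorphism (helper10)
-/

set_option autoImplicit false
set_option maxHeartbeats 400000
universe u
open CategoryTheory CategoryTheory.Limits MonoidalCategory HomologicalComplex
attribute [local instance] HasDerivedCategory.standard

namespace Groth.Agent.Lib.Helper10.BCB

open DerivedCategory Groth.Agent.Lib.Helper1.KF Groth.Agent.Lib.Helper1.DT DTen
  Groth.Agent.Lib.Helper10.BCA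

variable {R R' : Type u} [CommRing R] [CommRing R'] (φ : R →+* R')
  [HasLTen R] [HasLTen R'] [HasRHom R] [HasRHom R'] [HasLBase φ] [HasResTen φ] [ResLegIso φ]

/-- the inverse of the tensor-hom adjunction bijection -/
lemma rhomHomEquiv_symm (A : Type u) [CommRing A] [HasLTen A] [HasRHom A] (K L M : Dual.D A)
    (f : K ⟶ (RHomR A L).obj M) :
    (rhomHomEquiv K L M).symm f = (LTen₂ A).map (Prod.mkHom f (𝟙 L)) ≫ ev L M := by
  rw [Adjunction.homEquiv_counit]
  rfl

/-- the key computation: the adjunct of `x ≫ rhomBC` -/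
lemma rhomBC_adjunct (K : Dual.D R) (M : Dual.D R') (T : Dual.D R)
    (y : (LBase φ).obj T ⟶ (RHomR R' ((LBase φ).obj K)).obj M) :
    (rhomHomEquiv T K ((DRing.restrictD φ).obj M)).symm
        (((baseAdj φ).homEquiv _ _ y) ≫ rhomBC φ K M) =
      θpre φ T K ≫ (DRing.restrictD φ).map ((rhomHomEquiv _ _ M).symm y) := by
  rw [rhomHomEquiv_symm, rhomHomEquiv_symm, Adjunction.homEquiv_unit]
  have h1 := rhomBC_fac φ K M
  have h2 := (resPF φ).naturality (X := ((LBase φ).obj T, (LBase φ).obj K))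
    (Y := ((RHomR R' ((LBase φ).obj K)).obj M, (LBase φ).obj K)) (Prod.mkHom y (𝟙 _))
  dsimp only [Functor.comp_map, Functor.prod_map, Functor.comp_obj, Functor.prod_obj] at h2
  have h3 : (tensorRightD R K).map (rhomBC φ K M) =
      (LTen₂ R).map (Prod.mkHom (rhomBC φ K M) (𝟙 K)) := rfl
  rw [h3] at h1
  have e1 : (LTen₂ R).map (Prod.mkHom (((baseAdj φ).unit.app T ≫ (DRing.restrictD φ).map y) ≫
      rhomBC φ K M) (𝟙 K)) =
      (LTen₂ R).map (Prod.mkHom ((baseAdj φ).unit.app T ≫ (DRing.restrictD φ).map y) (𝟙 K)) ≫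
        (LTen₂ R).map (Prod.mkHom (rhomBC φ K M) (𝟙 K)) := by
    rw [← tmap_comp, Category.comp_id]
  rw [e1, Category.assoc, h1]
  unfold rhomBCCore θpre
  rw [← tmap_comp_assoc, Category.comp_id, Category.id_comp, Functor.map_comp, Category.assoc,
    ← Category.assoc ((resPF φ).app _), ← h2, Category.assoc, ← tmap_comp_assoc,
    CategoryTheory.Functor.map_id]
  erw [Category.comp_id]

/-- **the comparison `res RHom_{R'}(K ⊗^L R', M) ⟶ RHom_R(K, res M)` is an isomorphism** -/
theorem isIso_rhomBC (K : Dual.D R) (M : Dual.D R') : IsIso (rhomBC φ K M) := by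
  apply isIso_of_yoneda_map_bijective
  intro T
  have hθ := isIso_θ φ T K
  let e1 : (T ⟶ (DRing.restrictD φ).obj ((RHomR R' ((LBase φ).obj K)).obj M)) ≃
      ((LTen₂ R').obj ((LBase φ).obj T, (LBase φ).obj K) ⟶ M) :=
    ((baseAdj φ).homEquiv T _).symm.trans (rhomHomEquiv ((LBase φ).obj T) ((LBase φ).obj K) M).symm
  let e2 : (T ⟶ (RHomR R K).obj ((DRing.restrictD φ).obj M)) ≃
      ((LBase φ).obj ((LTen₂ R).obj (T, K)) ⟶ M) :=
    (rhomHomEquiv T K ((DRing.restrictD φ).obj M)).symm.trans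
      ((baseAdj φ).homEquiv ((LTen₂ R).obj (T, K)) M).symm
  have key : ∀ x, e2 (x ≫ rhomBC φ K M) = θ φ T K ≫ e1 x := by
    intro x
    apply ((baseAdj φ).homEquiv _ _).injective
    have hL : (baseAdj φ).homEquiv _ _ (e2 (x ≫ rhomBC φ K M)) =
        (rhomHomEquiv T K _).symm (x ≫ rhomBC φ K M) := Equiv.apply_symm_apply _ _
    have hx : x = (baseAdj φ).homEquiv _ _ (((baseAdj φ).homEquiv T _).symm x) :=
      (Equiv.apply_symm_apply _ _).symm
    rw [hL, Adjunction.homEquiv_unit, Functor.map_comp, ← Category.assoc, θ_fac]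
    conv_lhs => rw [hx]
    exact rhomBC_adjunct φ K M T _
  have hfun : (fun x : T ⟶ (DRing.restrictD φ).obj ((RHomR R' ((LBase φ).obj K)).obj M) =>
      x ≫ rhomBC φ K M) = e2.symm ∘ (fun g => θ φ T K ≫ g) ∘ e1 := by
    funext x
    change _ = e2.symm (θ φ T K ≫ e1 x)
    rw [← key, Equiv.symm_apply_apply]
  rw [hfun]
  refine e2.symm.bijective.comp (Function.Bijective.comp ?_ e1.bijective)
  exact ⟨fun a b h => (cancel_epi (θ φ T K)).1 h, fun g => ⟨inv (θ φ T K) ≫ g, by simp⟩⟩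

end Groth.Agent.Lib.Helper10.BCB
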