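import Mathlib
import Groth.Agent.Lib.Helper10BCB
set_option backward.isDefEq.respectTransparency.types false

/-!
# Naturality of `rhomBC`, `bcRHom` in the first variable; the characterisation of `bcRHom` (helper10)
-/

set_option autoImplicit false
set_option maxHeartbeats 400000
universe u
open CategoryTheory CategoryTheory.Limits MonoidalCategory HomologicalComplex
attribute [local instance] HasDerivedCategory.standard

namespace Groth.Agent.Lib.Helper10.BCC

open DerivedCategory Groth.Agent.Lib.Helper1.KF Groth.Agent.Lib.Helper1.DT DTen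
  Groth.Agent.Lib.Helper10.BCA Groth.Agent.Lib.Helper10.BCB

variable {R R' : Type u} [CommRing R] [CommRing R'] (φ : R →+* R')
  [HasLTen R] [HasLTen R'] [HasRHom R] [HasRHom R'] [HasLBase φ] [HasResTen φ] [ResLegIso φ]

/-- `rhomBCCore` unfolded -/
lemma rhomBC_tensor_ev (K : Dual.D R) (N : Dual.D R') :
    (LTen₂ R).map (Prod.mkHom (rhomBC φ K N) (𝟙 K)) ≫ ev K ((DRing.restrictD φ).obj N) =
      (LTen₂ R).map (Prod.mkHom (𝟙 ((DRing.restrictD φ).obj ((RHomR R' ((LBase φ).obj K)).obj N)))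
          ((baseAdj φ).unit.app K)) ≫
        (resPF φ).app ((RHomR R' ((LBase φ).obj K)).obj N, (LBase φ).obj K) ≫
        (DRing.restrictD φ).map (ev ((LBase φ).obj K) N) :=
  rhomBC_fac φ K N

/-- `rhomBC` is natural in `K` -/
lemma rhomBC_naturality {K K' : Dual.D R} (k : K ⟶ K') (N : Dual.D R') :
    (DRing.restrictD φ).map (RHomMap ((LBase φ).map k) N) ≫ rhomBC φ K N =
      rhomBC φ K' N ≫ RHomMap k ((DRing.restrictD φ).obj N) := by
  apply (rhomHomEquiv _ K _).symm.injective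
  rw [rhomHomEquiv_symm, rhomHomEquiv_symm]
  have n1 := (resPF φ).naturality (X := ((RHomR R' ((LBase φ).obj K')).obj N, (LBase φ).obj K))
    (Y := ((RHomR R' ((LBase φ).obj K)).obj N, (LBase φ).obj K))
    (Prod.mkHom (RHomMap ((LBase φ).map k) N) (𝟙 _))
  have n2 := (resPF φ).naturality (X := ((RHomR R' ((LBase φ).obj K')).obj N, (LBase φ).obj K))
    (Y := ((RHomR R' ((LBase φ).obj K')).obj N, (LBase φ).obj K'))
    (Prod.mkHom (𝟙 _) ((LBase φ).map k))
  have n3 := RHom_map_ev ((LBase φ).map k) N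
  have n4 := RHom_map_ev k ((DRing.restrictD φ).obj N)
  have n5 := (baseAdj φ).unit.naturality k
  dsimp only [Functor.comp_map, Functor.prod_map, Functor.comp_obj, Functor.prod_obj,
    Functor.id_obj, Functor.id_map] at n1 n2 n5
  rw [CategoryTheory.Functor.map_id] at n1 n2
  -- left hand side
  have hL : (LTen₂ R).map (Prod.mkHom ((DRing.restrictD φ).map (RHomMap ((LBase φ).map k) N) ≫
      rhomBC φ K N) (𝟙 K)) ≫ ev K ((DRing.restrictD φ).obj N) =
      (LTen₂ R).map (Prod.mkHom (𝟙 ((DRing.restrictD φ).obj ((RHomR R' ((LBase φ).obj K')).obj N)))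
          ((baseAdj φ).unit.app K)) ≫
        (resPF φ).app ((RHomR R' ((LBase φ).obj K')).obj N, (LBase φ).obj K) ≫
        (DRing.restrictD φ).map ((LTen₂ R').map (Prod.mkHom (𝟙 ((RHomR R' ((LBase φ).obj K')).obj N))
          ((LBase φ).map k)) ≫ ev ((LBase φ).obj K') N) := by
    have s1 : (LTen₂ R).map (Prod.mkHom ((DRing.restrictD φ).map (RHomMap ((LBase φ).map k) N) ≫
        rhomBC φ K N) (𝟙 K)) =
        (LTen₂ R).map (Prod.mkHom ((DRing.restrictD φ).map (RHomMap ((LBase φ).map k) N)) (𝟙 K)) ≫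
        (LTen₂ R).map (Prod.mkHom (rhomBC φ K N) (𝟙 K)) := by
      rw [← tmap_comp, Category.comp_id]
    have s2 : (LTen₂ R).map (Prod.mkHom ((DRing.restrictD φ).map (RHomMap ((LBase φ).map k) N)) (𝟙 K)) ≫
        (LTen₂ R).map (Prod.mkHom (𝟙 ((DRing.restrictD φ).obj ((RHomR R' ((LBase φ).obj K)).obj N)))
          ((baseAdj φ).unit.app K)) =
        (LTen₂ R).map (Prod.mkHom (𝟙 ((DRing.restrictD φ).obj ((RHomR R' ((LBase φ).obj K')).obj N)))
          ((baseAdj φ).unit.app K)) ≫
        (LTen₂ R).map (Prod.mkHom ((DRing.restrictD φ).map (RHomMap ((LBase φ).map k) N))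
          (𝟙 ((DRing.restrictD φ).obj ((LBase φ).obj K)))) := by
      rw [← tmap_comp, ← tmap_comp, Category.comp_id, Category.id_comp, Category.id_comp]
      erw [Category.comp_id]
    rw [s1, Category.assoc, rhomBC_tensor_ev, ← Category.assoc, s2, Category.assoc,
      reassoc_of% n1, ← Functor.map_comp, n3]
  -- right hand side
  have hR : (LTen₂ R).map (Prod.mkHom (rhomBC φ K' N ≫ RHomMap k ((DRing.restrictD φ).obj N))
      (𝟙 K)) ≫ ev K ((DRing.restrictD φ).obj N) =
      (LTen₂ R).map (Prod.mkHom (𝟙 ((DRing.restrictD φ).obj ((RHomR R' ((LBase φ).obj K')).obj N)))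
          ((baseAdj φ).unit.app K)) ≫
        (resPF φ).app ((RHomR R' ((LBase φ).obj K')).obj N, (LBase φ).obj K) ≫
        (DRing.restrictD φ).map ((LTen₂ R').map (Prod.mkHom (𝟙 ((RHomR R' ((LBase φ).obj K')).obj N))
          ((LBase φ).map k)) ≫ ev ((LBase φ).obj K') N) := by
    have s1 : (LTen₂ R).map (Prod.mkHom (rhomBC φ K' N ≫ RHomMap k ((DRing.restrictD φ).obj N))
        (𝟙 K)) =
        (LTen₂ R).map (Prod.mkHom (rhomBC φ K' N) (𝟙 K)) ≫
        (LTen₂ R).map (Prod.mkHom (RHomMap k ((DRing.restrictD φ).obj N)) (𝟙 K)) := by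
      rw [← tmap_comp, Category.comp_id]
    have s2 : (LTen₂ R).map (Prod.mkHom (rhomBC φ K' N) (𝟙 K)) ≫
        (LTen₂ R).map (Prod.mkHom (𝟙 ((RHomR R K').obj ((DRing.restrictD φ).obj N))) k) =
        (LTen₂ R).map (Prod.mkHom (𝟙 ((DRing.restrictD φ).obj ((RHomR R' ((LBase φ).obj K')).obj N))) k) ≫
          (LTen₂ R).map (Prod.mkHom (rhomBC φ K' N) (𝟙 K')) := by
      rw [← tmap_comp, ← tmap_comp, Category.comp_id, Category.id_comp, Category.comp_id,
        Category.id_comp]
    have s3 : (LTen₂ R).map (Prod.mkHom (𝟙 ((DRing.restrictD φ).obj ((RHomR R' ((LBase φ).obj K')).obj N))) k) ≫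
        (LTen₂ R).map (Prod.mkHom (𝟙 ((DRing.restrictD φ).obj ((RHomR R' ((LBase φ).obj K')).obj N)))
          ((baseAdj φ).unit.app K')) =
        (LTen₂ R).map (Prod.mkHom (𝟙 ((DRing.restrictD φ).obj ((RHomR R' ((LBase φ).obj K')).obj N)))
          ((baseAdj φ).unit.app K)) ≫
        (LTen₂ R).map (Prod.mkHom (𝟙 ((DRing.restrictD φ).obj ((RHomR R' ((LBase φ).obj K')).obj N)))
          ((DRing.restrictD φ).map ((LBase φ).map k))) := by
      rw [← tmap_comp, ← tmap_comp, n5]
    rw [s1, Category.assoc, n4, ← Category.assoc, s2, Category.assoc, rhomBC_tensor_ev,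
      ← Category.assoc, s3, Category.assoc, reassoc_of% n2, ← Functor.map_comp]
  rw [hL, hR]

/-- `RHom` is a bifunctor -/
lemma RHomMap_naturality (A : Type u) [CommRing A] [HasLTen A] [HasRHom A] {K K' : Dual.D A}
    (k : K ⟶ K') {M M' : Dual.D A} (g : M ⟶ M') :
    RHomMap k M ≫ (RHomR A K).map g = (RHomR A K').map g ≫ RHomMap k M' :=
  (((RHom A).map k.op).naturality g).symm

/-- `bcRHom` is natural in `K` -/
lemma bcRHom_naturality {K K' : Dual.D R} (k : K ⟶ K') (M : Dual.D R)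
    [IsIso (rhomBC φ K ((LBase φ).obj M))] [IsIso (rhomBC φ K' ((LBase φ).obj M))] :
    (LBase φ).map (RHomMap k M) ≫ bcRHom φ K M =
      bcRHom φ K' M ≫ RHomMap ((LBase φ).map k) ((LBase φ).obj M) := by
  apply ((baseAdj φ).homEquiv _ _).injective
  rw [Adjunction.homEquiv_unit, Adjunction.homEquiv_unit, Functor.map_comp, Functor.map_comp]
  have n1 := (baseAdj φ).unit.naturality (RHomMap k M)
  have n2 := bcRHom_fac φ K M
  have n3 := bcRHom_fac φ K' M
  have n4 := rhomBC_naturality φ k ((LBase φ).obj M)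
  have n5 := RHomMap_naturality R k ((baseAdj φ).unit.app M)
  dsimp only [Functor.comp_map, Functor.comp_obj, Functor.id_obj, Functor.id_map] at n1 n5
  have n4' : inv (rhomBC φ K' ((LBase φ).obj M)) ≫
      (DRing.restrictD φ).map (RHomMap ((LBase φ).map k) ((LBase φ).obj M)) =
      RHomMap k ((DRing.restrictD φ).obj ((LBase φ).obj M)) ≫ inv (rhomBC φ K ((LBase φ).obj M)) := by
    rw [IsIso.inv_comp_eq, ← Category.assoc, ← n4, Category.assoc, IsIso.hom_inv_id, Category.comp_id]
  rw [← Category.assoc, ← n1, Category.assoc, n2, ← Category.assoc ((baseAdj φ).unit.app _), n3,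
    Category.assoc, n4', ← Category.assoc, ← Category.assoc, n5]

/-- the characterisation of `bcRHom` through `θ` and the evaluations -/
lemma θ_bcRHom (K M : Dual.D R) [IsIso (rhomBC φ K ((LBase φ).obj M))] :
    θ φ ((RHomR R K).obj M) K ≫
        (LTen₂ R').map (Prod.mkHom (bcRHom φ K M) (𝟙 ((LBase φ).obj K))) ≫
        ev ((LBase φ).obj K) ((LBase φ).obj M) =
      (LBase φ).map (ev K M) := by
  apply ((baseAdj φ).homEquiv _ _).injective
  rw [Adjunction.homEquiv_unit, Adjunction.homEquiv_unit, Functor.map_comp, Functor.map_comp,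
    ← Category.assoc, θ_fac]
  have n1 := (resPF φ).naturality (X := ((LBase φ).obj ((RHomR R K).obj M), (LBase φ).obj K))
    (Y := ((RHomR R' ((LBase φ).obj K)).obj ((LBase φ).obj M), (LBase φ).obj K))
    (Prod.mkHom (bcRHom φ K M) (𝟙 _))
  have n2 := bcRHom_fac φ K M
  have n3 := rhomBC_tensor_ev φ K ((LBase φ).obj M)
  have n4 := (rhomAdj R K).counit.naturality ((baseAdj φ).unit.app M)
  have n5 := (baseAdj φ).unit.naturality (ev K M)
  dsimp only [Functor.comp_map, Functor.prod_map, Functor.comp_obj, Functor.prod_obj,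
    Functor.id_obj, Functor.id_map] at n1 n4 n5
  rw [CategoryTheory.Functor.map_id] at n1
  have n4' : (LTen₂ R).map (Prod.mkHom ((RHomR R K).map ((baseAdj φ).unit.app M)) (𝟙 K)) ≫
      ev K ((DRing.restrictD φ).obj ((LBase φ).obj M)) = ev K M ≫ (baseAdj φ).unit.app M := n4
  have s1 : (LTen₂ R).map (Prod.mkHom ((baseAdj φ).unit.app ((RHomR R K).obj M))
        ((baseAdj φ).unit.app K)) ≫
      (LTen₂ R).map (Prod.mkHom ((DRing.restrictD φ).map (bcRHom φ K M))
        (𝟙 ((DRing.restrictD φ).obj ((LBase φ).obj K)))) =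
      (LTen₂ R).map (Prod.mkHom ((RHomR R K).map ((baseAdj φ).unit.app M) ≫
        inv (rhomBC φ K ((LBase φ).obj M))) (𝟙 K)) ≫
      (LTen₂ R).map (Prod.mkHom (𝟙 ((DRing.restrictD φ).obj
        ((RHomR R' ((LBase φ).obj K)).obj ((LBase φ).obj M)))) ((baseAdj φ).unit.app K)) := by
    rw [← tmap_comp, ← tmap_comp, n2, Category.id_comp, Category.comp_id]
    erw [Category.comp_id]
  have s2 : (LTen₂ R).map (Prod.mkHom ((RHomR R K).map ((baseAdj φ).unit.app M) ≫
        inv (rhomBC φ K ((LBase φ).obj M))) (𝟙 K)) ≫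
      (LTen₂ R).map (Prod.mkHom (rhomBC φ K ((LBase φ).obj M)) (𝟙 K)) =
      (LTen₂ R).map (Prod.mkHom ((RHomR R K).map ((baseAdj φ).unit.app M)) (𝟙 K)) := by
    rw [← tmap_comp, Category.assoc, IsIso.inv_hom_id, Category.comp_id, Category.comp_id]
  unfold θpre
  rw [Category.assoc, ← reassoc_of% n1, ← Category.assoc, s1, Category.assoc, ← n3, ← Category.assoc,
    s2, n4', n5]

end Groth.Agent.Lib.Helper10.BCC
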