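import Mathlib
import Groth.Agent.Lib.Helper10DTenE
set_option backward.isDefEq.respectTransparency.types false

/-!
# `RHom(L, M) ⊗^L K ⟶ RHom(RHom(K, L), M)` is an isomorphism for perfect `K` (helper10)
-/

set_option autoImplicit false
universe u
open CategoryTheory CategoryTheory.Limits MonoidalCategory CategoryTheory.Pretriangulated Opposite
attribute [local instance] HasDerivedCategory.standard

namespace Groth.Agent.Lib.Helper10.DTenF

open DerivedCategory Groth.Agent.Lib.Helper1.KF Groth.Agent.Lib.Helper1.DT DTen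
  Groth.Agent.Lib.Helper10.DTenA Groth.Agent.Lib.Helper10.DTenB Groth.Agent.Lib.Helper10.DTenD
  Groth.Agent.Lib.Helper10.DistPair Groth.Agent.Lib.Helper10.TensHomD
  Groth.Agent.Lib.Helper10.PerfInd Groth.Agent.Lib.Helper10.DTenE CochainComplex

variable {A : Type u} [CommRing A] [HasLTen A] [HasLTen₃ A] [IsSymMonoidal A] [HasRHom A]

set_option quotPrecheck false in
local notation "⟪" f ", " g "⟫" => CategoryTheory.Functor.map (LTen₂ A) (Prod.mkHom f g)

omit [HasLTen₃ A] [IsSymMonoidal A] [HasRHom A] in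
/-- naturality of the symmetry -/
lemma symm_naturality {X X' Y Y' : Dual.D A} (f : X ⟶ X') (g : Y ⟶ Y') :
    ⟪g, f⟫ ≫ (symm A).app (X', Y') = (symm A).app (X, Y) ≫ ⟪f, g⟫ :=
  (symm A).naturality (X := (X, Y)) (Y := (X', Y')) (Prod.mkHom f g)

/-- `evalHom` is natural in the first variable -/
lemma evalHom_naturality (L M : Dual.D A) {K K' : Dual.D A} (k : K ⟶ K') :
    ⟪𝟙 ((RHomR A L).obj M), k⟫ ≫ evalHom K' L M =
      evalHom K L M ≫ RHomMap (RHomMap k L) M := by
  apply ((rhomAdj A ((RHomR A K').obj L)).homEquiv _ _).symm.injective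
  rw [Adjunction.homEquiv_counit, Adjunction.homEquiv_counit]
  change ⟪⟪𝟙 ((RHomR A L).obj M), k⟫ ≫ evalHom K' L M, 𝟙 ((RHomR A K').obj L)⟫ ≫
      ev ((RHomR A K').obj L) M =
    ⟪evalHom K L M ≫ RHomMap (RHomMap k L) M, 𝟙 ((RHomR A K').obj L)⟫ ≫
      ev ((RHomR A K').obj L) M
  have e1 : ⟪⟪𝟙 ((RHomR A L).obj M), k⟫ ≫ evalHom K' L M, 𝟙 ((RHomR A K').obj L)⟫ =
      ⟪⟪𝟙 ((RHomR A L).obj M), k⟫, 𝟙 ((RHomR A K').obj L)⟫ ≫
        ⟪evalHom K' L M, 𝟙 ((RHomR A K').obj L)⟫ := by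
    rw [← tm_comp, Category.comp_id]
  have e2 : ⟪evalHom K L M ≫ RHomMap (RHomMap k L) M, 𝟙 ((RHomR A K').obj L)⟫ =
      ⟪evalHom K L M, 𝟙 ((RHomR A K').obj L)⟫ ≫
        ⟪RHomMap (RHomMap k L) M, 𝟙 ((RHomR A K').obj L)⟫ := by
    rw [← tm_comp, Category.comp_id]
  rw [e1, e2, Category.assoc, Category.assoc, evalHom_fac, RHom_map_ev]
  have e3 : ⟪evalHom K L M, 𝟙 ((RHomR A K').obj L)⟫ ≫ ⟪𝟙 _, RHomMap k L⟫ =
      ⟪𝟙 _, RHomMap k L⟫ ≫ ⟪evalHom K L M, 𝟙 ((RHomR A K).obj L)⟫ := by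
    rw [← tm_comp, ← tm_comp, Category.id_comp, Category.comp_id, Category.id_comp,
      Category.comp_id]
  rw [reassoc_of% e3, evalHom_fac]
  unfold evalHomAux
  rw [← Category.assoc, DTenB.associator_naturality, Category.assoc, ← tm_comp_assoc,
    Category.id_comp]
  have e4 : ⟪𝟙 ((LTen₂ A).obj ((RHomR A L).obj M, K)), RHomMap k L⟫ =
      ⟪⟪𝟙 ((RHomR A L).obj M), 𝟙 K⟫, RHomMap k L⟫ := by
    rw [tm_id]
  rw [e4, ← Category.assoc (⟪⟪𝟙 ((RHomR A L).obj M), 𝟙 K⟫, RHomMap k L⟫),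
    DTenB.associator_naturality, Category.assoc, ← tm_comp_assoc, Category.id_comp]
  congr 3
  rw [← Category.assoc, symm_naturality, Category.assoc, ← RHom_map_ev, ← Category.assoc,
    ← Category.assoc, symm_naturality]

/-- `K ↦ RHom(RHom(K, L), M)` -/
noncomputable abbrev GG (L M : Dual.D A) : Dual.D A ⥤ Dual.D A :=
  ((RHom A).flip.obj L).rightOp ⋙ (RHom A).flip.obj M

instance (L M : Dual.D A) : (GG L M).PreservesZeroMorphisms :=
  ⟨fun X Y => by
    change RHomMap (RHomMap (0 : X ⟶ Y) L) M = 0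
    rw [RHomMap_zero, RHomMap_zero]⟩

omit [HasLTen₃ A] [IsSymMonoidal A] in
lemma hexact_GG (L M : Dual.D A) : HExact (GG L M) :=
  ((hdistOp_RHom L).comp_rightOp (hdistOp_RHom M)).hexact

/-- `evalHom` as a natural transformation in the first variable -/
noncomputable def evalHomNat (L M : Dual.D A) :
    (LTen A).obj ((RHomR A L).obj M) ⟶ GG L M where
  app K := evalHom K L M
  naturality _ _ k := evalHom_naturality L M k

@[simp] lemma evalHomNat_app (K L M : Dual.D A) : (evalHomNat L M).app K = evalHom K L M := rfl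

omit [HasLTen₃ A] [IsSymMonoidal A] [HasRHom A] in
lemma tmR_bijective (U : Dual.D A) [(tensorRightD A U).Full] [(tensorRightD A U).Faithful]
    (X Y : Dual.D A) : Function.Bijective (fun g : X ⟶ Y => ⟪g, 𝟙 U⟫) :=
  (Functor.FullyFaithful.ofFullyFaithful (tensorRightD A U)).map_bijective X Y

/-- if `- ⊗^L U` is an equivalence then `evalHom U L M` is an isomorphism -/
theorem isIso_evalHom_of_equiv (U L M : Dual.D A) [(tensorRightD A U).IsEquivalence] :
    IsIso (evalHom U L M) := by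
  haveI : (RHomR A U).IsEquivalence := (rhomAdj A U).isEquivalence_right_of_isEquivalence_left
  haveI : IsIso (ev U L) := inferInstanceAs (IsIso ((rhomAdj A U).counit.app L))
  obtain ⟨c, hc, hciso⟩ : ∃ c : (LTen₂ A).obj (U, (RHomR A U).obj L) ⟶ L,
      c = (symm A).app ((RHomR A U).obj L, U) ≫ ev U L ∧ IsIso c := ⟨_, rfl, inferInstance⟩
  apply isIso_of_yoneda_map_bijective
  intro W
  let W' := (tensorRightD A U).objPreimage W
  let w : (LTen₂ A).obj (W', U) ≅ W := (tensorRightD A U).objObjPreimageIso W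
  suffices H : Function.Bijective
      (fun g : (LTen₂ A).obj (W', U) ⟶ (LTen₂ A).obj ((RHomR A L).obj M, U) =>
        g ≫ evalHom U L M) by
    have e : (fun g : W ⟶ (LTen₂ A).obj ((RHomR A L).obj M, U) => g ≫ evalHom U L M) =
        (w.homFromEquiv (Y := _)) ∘ (fun g => g ≫ evalHom U L M) ∘
          (w.homFromEquiv (Y := _)).symm := by
      funext g
      simp [Iso.homFromEquiv]
    rw [e]
    exact (w.homFromEquiv).bijective.comp (H.comp (w.homFromEquiv).symm.bijective)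
  haveI : IsIso (⟪𝟙 W', c⟫) := inferInstanceAs (IsIso (((LTen A).obj W').map c))
  have hΨ : Function.Bijective (fun x' : W' ⟶ (RHomR A L).obj M =>
      (rhomHomEquiv ((LTen₂ A).obj (W', U)) ((RHomR A U).obj L) M)
        (((associator W' U ((RHomR A U).obj L)).hom ≫ ⟪𝟙 W', c⟫) ≫
          (rhomHomEquiv W' L M).symm x')) := by
    refine (Equiv.bijective _).comp
      (((asIso ((associator W' U ((RHomR A U).obj L)).hom ≫
        ⟪𝟙 W', c⟫)).homFromEquiv.symm.bijective).comp (Equiv.bijective _))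
  have key : (fun g : (LTen₂ A).obj (W', U) ⟶ (LTen₂ A).obj ((RHomR A L).obj M, U) =>
        g ≫ evalHom U L M) ∘ (fun x' : W' ⟶ (RHomR A L).obj M => ⟪x', 𝟙 U⟫) =
      (fun x' : W' ⟶ (RHomR A L).obj M =>
      (rhomHomEquiv ((LTen₂ A).obj (W', U)) ((RHomR A U).obj L) M)
        (((associator W' U ((RHomR A U).obj L)).hom ≫ ⟪𝟙 W', c⟫) ≫
          (rhomHomEquiv W' L M).symm x')) := by
    funext x'
    have hsymm : (rhomHomEquiv W' L M).symm x' = ⟪x', 𝟙 L⟫ ≫ ev L M := by
      rw [Adjunction.homEquiv_counit]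
      rfl
    have h1 : ⟪⟪x', 𝟙 U⟫, 𝟙 ((RHomR A U).obj L)⟫ ≫ evalHomAux U L M =
        ((associator W' U ((RHomR A U).obj L)).hom ≫ ⟪𝟙 W', c⟫) ≫
          (rhomHomEquiv W' L M).symm x' := by
      unfold evalHomAux
      rw [← Category.assoc, DTenB.associator_naturality, Category.assoc, ← tm_comp_assoc, hsymm,
        Category.assoc, ← tm_comp_assoc, tm_id, Category.id_comp, Category.comp_id,
        Category.comp_id, Category.id_comp, hc]
    change ⟪x', 𝟙 U⟫ ≫ (rhomAdj A ((RHomR A U).obj L)).homEquiv _ _ (evalHomAux U L M) = _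
    rw [← h1]
    exact ((rhomAdj A ((RHomR A U).obj L)).homEquiv_naturality_left ⟪x', 𝟙 U⟫
      (evalHomAux U L M)).symm
  rw [← key] at hΨ
  exact (Function.Bijective.of_comp_iff _ (tmR_bijective U _ _)).mp hΨ

/-- **`RHom(L, M) ⊗^L K ⟶ RHom(RHom(K, L), M)` is an isomorphism for perfect `K`.** -/
theorem isIso_evalHom_of_isPerfect (K L M : Dual.D A) (hK : DRing.IsPerfect A K) :
    IsIso (evalHom K L M) := by
  have h := isIso_app_of_isPerfect (evalHomNat L M) (hexact_LTen_obj _) (hexact_GG L M) ?_ K hK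
  · exact h
  · intro n
    haveI := isEquivalence_tensorRightD_unitShift (A := A) n
    exact isIso_app_of_iso (evalHomNat L M)
      ((CategoryTheory.shiftFunctor (Dual.D A) n).mapIso singleUnitIso).symm
      (isIso_evalHom_of_equiv ((unit A)⟦n⟧) L M)

end Groth.Agent.Lib.Helper10.DTenF
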