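import Mathlib
import Groth.Agent.Lib.Helper10BCC
import Groth.Agent.Lib.Helper10DTenF
import Groth.Agent.S13576
set_option backward.isDefEq.respectTransparency.types false

/-!
# `- ⊗^L A[n]` is the shift; base change for `RHom` out of a perfect complex (helper10)
-/

set_option autoImplicit false
set_option maxHeartbeats 400000
universe u
open CategoryTheory CategoryTheory.Limits MonoidalCategory HomologicalComplex
attribute [local instance] HasDerivedCategory.standard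

namespace CochainComplex

variable {C₁ C₂ D : Type*} [Category* C₁] [Category* C₂] [Category* D]
variable [Preadditive C₁] [Preadditive C₂] [Preadditive D]
  {K₁ L₁ : CochainComplex C₁ ℤ} (f₁ : K₁ ⟶ L₁) (K₂ : CochainComplex C₂ ℤ)
  (F : C₁ ⥤ C₂ ⥤ D) [F.Additive] [∀ (X₁ : C₁), (F.obj X₁).Additive] (y : ℤ)
  [HasMapBifunctor K₁ K₂ F] [HasMapBifunctor L₁ K₂ F]

set_option backward.defeqAttrib.useBackward true in
set_option backward.isDefEq.respectTransparency false in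
/-- naturality of `mapBifunctorShift₂Iso` in the first variable -/
lemma helper10_mapBifunctorShift₂Iso_hom_naturality₁ :
    mapBifunctorMap f₁ (𝟙 (K₂⟦y⟧)) F (.up ℤ) ≫ (mapBifunctorShift₂Iso L₁ K₂ F y).hom =
      (mapBifunctorShift₂Iso K₁ K₂ F y).hom ≫ mapBifunctorMap f₁ (𝟙 K₂) F (.up ℤ)⟦y⟧' := by
  ext n p q h
  simp [ι_mapBifunctorShift₂Iso_hom_f _ _ _ _ _ _ _ _ (q + y) (n + y) rfl rfl,
    ι_mapBifunctorShift₂Iso_hom_f_assoc _ _ _ _ _ _ _ _ (q + y) (n + y) rfl rfl]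

end CochainComplex

namespace Groth.Agent.Lib.Helper10.BCD

open DerivedCategory Groth.Agent.Lib.Helper1.KF Groth.Agent.Lib.Helper1.DT DTen
  Groth.Agent.Lib.Helper10.BCA Groth.Agent.Lib.Helper10.BCB Groth.Agent.Lib.Helper10.BCC
  Groth.Agent.Lib.Helper10.DTenA Groth.Agent.Lib.Helper10.DistPair
  Groth.Agent.Lib.Helper10.TensHomD Groth.Agent.Lib.Helper10.PerfInd

section Shift

variable {A : Type u} [CommRing A]

/-- naturality of `X ⊗ K⟦n⟧ ≅ (X ⊗ K)⟦n⟧` in `X` -/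
lemma tensorShiftRightIso_naturality {X Y : Cx A} (f : X ⟶ Y) (K : Cx A) (n : ℤ) :
    (f ▷ (K⟦n⟧)) ≫ (tensorShiftRightIso Y K n).hom =
      (tensorShiftRightIso X K n).hom ≫ (f ▷ K)⟦n⟧' :=
  CochainComplex.helper10_mapBifunctorShift₂Iso_hom_naturality₁ f K
    (curriedTensor (ModuleCat.{u} A)) n

variable [HasLTen A]

/-- the components of `- ⊗^L A[n] ≅ [n]` -/
noncomputable def shiftCompIso (n : ℤ) (X : Cx A) :
    (LTen₂ A).obj (Q.obj X, Q.obj ((𝟙_ (Cx A))⟦n⟧)) ≅ (Q.obj X)⟦n⟧ :=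
  (@asIso _ _ _ _ ((ε A).app (X, (𝟙_ (Cx A))⟦n⟧))
    (isIso_ε_of_kflat _ _ (Or.inr (Groth.Agent.Lib.Helper10.DTenD.kflat_unit.shift n)))) ≪≫
  Q.mapIso (tensorShiftRightIso X (𝟙_ (Cx A)) n ≪≫
    (CategoryTheory.shiftFunctor (Cx A) n).mapIso (ρ_ X)) ≪≫
  (Q.commShiftIso n).app X

lemma shiftCompIso_naturality (n : ℤ) {X Y : Cx A} (f : X ⟶ Y) :
    (LTen₂ A).map (Prod.mkHom (Q.map f) (𝟙 (Q.obj ((𝟙_ (Cx A))⟦n⟧)))) ≫ (shiftCompIso n Y).hom =
      (shiftCompIso n X).hom ≫ (Q.map f)⟦n⟧' := by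
  have n1 := (ε A).naturality (X := (X, (𝟙_ (Cx A))⟦n⟧)) (Y := (Y, (𝟙_ (Cx A))⟦n⟧))
    (Prod.mkHom f (𝟙 _))
  have n2 : (tensorT A).map (Prod.mkHom f (𝟙 ((𝟙_ (Cx A))⟦n⟧))) = f ▷ ((𝟙_ (Cx A))⟦n⟧) := by
    dsimp
    rw [MonoidalCategory.whiskerLeft_id, Category.comp_id]
  have n3 := tensorShiftRightIso_naturality f (𝟙_ (Cx A)) n
  have n4 : (f ▷ (𝟙_ (Cx A))) ≫ (ρ_ Y).hom = (ρ_ X).hom ≫ f := rightUnitor_naturality f
  have n5 := (Q.commShiftIso n).hom.naturality f
  dsimp only [Functor.comp_map, Functor.prod_map, Functor.comp_obj, Functor.prod_obj] at n1 n5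
  rw [CategoryTheory.Functor.map_id, n2] at n1
  unfold shiftCompIso
  dsimp only [Iso.trans_hom, asIso_hom, Functor.mapIso_hom, Iso.app_hom]
  rw [← Category.assoc, n1, Category.assoc, ← Category.assoc (Q.map _), ← Functor.map_comp,
    ← Category.assoc (f ▷ _), n3, Category.assoc, ← Functor.map_comp, n4, Functor.map_comp,
    Functor.map_comp, Functor.map_comp, Category.assoc, Category.assoc, n5]
  simp only [Functor.map_comp, Category.assoc]

/-- `- ⊗^L A[n]` is the shift functor -/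
noncomputable def tensorRightShiftIso (n : ℤ) :
    tensorRightD A (Q.obj ((𝟙_ (Cx A))⟦n⟧)) ≅ CategoryTheory.shiftFunctor (Dual.D A) n :=
  Localization.liftNatIso Q (HomologicalComplex.quasiIso (ModuleCat.{u} A) (ComplexShape.up ℤ))
    (Q ⋙ tensorRightD A (Q.obj ((𝟙_ (Cx A))⟦n⟧))) (Q ⋙ CategoryTheory.shiftFunctor (Dual.D A) n) _ _
    (NatIso.ofComponents (fun X => shiftCompIso n X) (fun f => shiftCompIso_naturality n f))

/-- `- ⊗^L A[0]⟦n⟧` is an equivalence -/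
lemma isEquivalence_tensorRightD_unitShift (n : ℤ) :
    (tensorRightD A ((unit A)⟦n⟧)).IsEquivalence := by
  have h1 : (tensorRightD A (Q.obj ((𝟙_ (Cx A))⟦n⟧))).IsEquivalence :=
    Functor.isEquivalence_of_iso (tensorRightShiftIso (A := A) n).symm
  exact @Functor.isEquivalence_of_iso _ _ _ _ (tensorRightD A (Q.obj ((𝟙_ (Cx A))⟦n⟧)))
    (tensorRightD A ((unit A)⟦n⟧)) ((LTen A).flip.mapIso ((Q.commShiftIso n).app (𝟙_ (Cx A)))) h1

lemma isEquivalence_tensorRightD_of_iso {U V : Dual.D A} (e : U ≅ V)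
    [(tensorRightD A U).IsEquivalence] : (tensorRightD A V).IsEquivalence :=
  Functor.isEquivalence_of_iso ((LTen A).flip.mapIso e)

end Shift

section Zero

variable {A : Type u} [CommRing A] [HasLTen A] [HasRHom A]

lemma tmap_zero_left {X X' : Dual.D A} (Y : Dual.D A) :
    (LTen₂ A).map (Prod.mkHom (0 : X ⟶ X') (𝟙 Y)) = 0 :=
  (tensorRightD A Y).map_zero X X'

lemma tmap_zero_right (X : Dual.D A) {Y Y' : Dual.D A} :
    (LTen₂ A).map (Prod.mkHom (𝟙 X) (0 : Y ⟶ Y')) = 0 := by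
  have h := (symm A).naturality (X := (X, Y)) (Y := (X, Y')) (Prod.mkHom (𝟙 X) 0)
  haveI := Groth.Agent.S13576.result A X Y
  have h0 : (LTen₂ A).map (Prod.mkHom (0 : Y ⟶ Y') (𝟙 X)) = 0 := tmap_zero_left X
  have h' : (LTen₂ A).map (Prod.mkHom (0 : Y ⟶ Y') (𝟙 X)) ≫ (symm A).app (X, Y') =
      (symm A).app (X, Y) ≫ (LTen₂ A).map (Prod.mkHom (𝟙 X) (0 : Y ⟶ Y')) := h
  rw [← cancel_epi ((symm A).app (X, Y)), ← h', h0, zero_comp, comp_zero]

lemma RHomMap_zero' (M M' L : Dual.D A) : RHomMap (0 : M' ⟶ M) L = 0 := by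
  apply ((rhomAdj A M').homEquiv _ _).symm.injective
  rw [Adjunction.homEquiv_counit, Adjunction.homEquiv_counit]
  change (LTen₂ A).map (Prod.mkHom (RHomMap (0 : M' ⟶ M) L) (𝟙 M')) ≫ ev M' L =
    (LTen₂ A).map (Prod.mkHom 0 (𝟙 M')) ≫ ev M' L
  rw [RHom_map_ev, tmap_zero_left, tmap_zero_right, zero_comp, zero_comp]

lemma preservesZeroMorphisms_RHom_flip' (L : Dual.D A) :
    ((RHom A).flip.obj L).PreservesZeroMorphisms :=
  ⟨fun X Y => RHomMap_zero' X.unop Y.unop L⟩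

end Zero

section BC

variable {R R' : Type u} [CommRing R] [CommRing R'] (φ : R →+* R')

section L

variable [HasLBase φ]

/-- derived base change preserves distinguished pairs -/
lemma hdist_LBase : HDist (LBase φ) := by
  intro X Y Z f g hfg
  obtain ⟨h, hT⟩ := hfg
  letI : (LBase φ).CommShift ℤ := (baseAdj φ).leftAdjointCommShift ℤ
  haveI : (baseAdj φ).CommShift ℤ := (baseAdj φ).commShift_of_rightAdjoint ℤ
  haveI : (LBase φ).IsTriangulated := (baseAdj φ).isTriangulated_leftAdjoint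
  exact ⟨_, (LBase φ).map_distinguished _ hT⟩

/-- extension of scalars of the unit complex -/
noncomputable def extUnitIso : (extCx φ).obj (𝟙_ (Cx R)) ≅ 𝟙_ (Cx R') :=
  (HomologicalComplex.singleMapHomologicalComplex (extM φ) (ComplexShape.up ℤ) 0).app
      (𝟙_ (ModuleCat.{u} R)) ≪≫
    (HomologicalComplex.single (ModuleCat.{u} R') (ComplexShape.up ℤ) 0).mapIso
      (Functor.Monoidal.εIso (extM φ)).symm

/-- `L(R[0]) ≅ R'[0]` -/
noncomputable def LBaseUnitIso : (LBase φ).obj (unit R) ≅ unit R' :=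
  (@asIso _ _ _ _ ((baseCmp φ).app (𝟙_ (Cx R)))
    (isIso_baseCmp_of_kflat φ _ Groth.Agent.Lib.Helper10.DTenD.kflat_unit)) ≪≫
  Q.mapIso (extUnitIso φ)

/-- `L(R[0]⟦n⟧) ≅ R'[0]⟦n⟧` -/
lemma nonempty_LBaseShiftUnitIso (n : ℤ) :
    Nonempty ((LBase φ).obj ((unit R)⟦n⟧) ≅ (unit R')⟦n⟧) := by
  letI : (LBase φ).CommShift ℤ := (baseAdj φ).leftAdjointCommShift ℤ
  exact ⟨((LBase φ).commShiftIso n).app (unit R) ≪≫
    (CategoryTheory.shiftFunctor (Dual.D R') n).mapIso (LBaseUnitIso φ)⟩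

end L

section Main

open CategoryTheory.Pretriangulated CategoryTheory.Pretriangulated.Opposite

variable [HasLTen R] [HasLTen R'] [HasRHom R] [HasRHom R'] [HasLBase φ] [HasResTen φ] [ResLegIso φ]

/-- `bcRHom` is an isomorphism at `U` when `- ⊗^L U` and `- ⊗^L LU` are equivalences -/
lemma isIso_bcRHom_of_equiv (U M : Dual.D R) [IsIso (rhomBC φ U ((LBase φ).obj M))]
    [(tensorRightD R U).IsEquivalence] [(tensorRightD R' ((LBase φ).obj U)).IsEquivalence] :
    IsIso (bcRHom φ U M) := by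
  haveI : (RHomR R U).IsEquivalence := (rhomAdj R U).isEquivalence_right_of_isEquivalence_left
  haveI : IsIso (ev U M) := inferInstanceAs (IsIso ((rhomAdj R U).counit.app M))
  haveI : (RHomR R' ((LBase φ).obj U)).IsEquivalence :=
    (rhomAdj R' ((LBase φ).obj U)).isEquivalence_right_of_isEquivalence_left
  haveI : IsIso (ev ((LBase φ).obj U) ((LBase φ).obj M)) :=
    inferInstanceAs (IsIso ((rhomAdj R' ((LBase φ).obj U)).counit.app ((LBase φ).obj M)))
  haveI := isIso_θ φ ((RHomR R U).obj M) U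
  have h := θ_bcRHom φ U M
  have h2 : (tensorRightD R' ((LBase φ).obj U)).map (bcRHom φ U M) =
      inv (θ φ ((RHomR R U).obj M) U) ≫ (LBase φ).map (ev U M) ≫
        inv (ev ((LBase φ).obj U) ((LBase φ).obj M)) := by
    change (LTen₂ R').map (Prod.mkHom (bcRHom φ U M) (𝟙 ((LBase φ).obj U))) = _
    rw [← h]
    simp only [Category.assoc, IsIso.hom_inv_id, Category.comp_id, IsIso.inv_hom_id_assoc]
  haveI : IsIso ((tensorRightD R' ((LBase φ).obj U)).map (bcRHom φ U M)) := by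
    rw [h2]
    infer_instance
  exact isIso_of_reflects_iso (bcRHom φ U M) (tensorRightD R' ((LBase φ).obj U))

variable (M : Dual.D R)

/-- `K ↦ L RHom_R(K, M)` -/
noncomputable abbrev FF : (Dual.D R)ᵒᵖ ⥤ Dual.D R' := (RHom R).flip.obj M ⋙ LBase φ

/-- `K ↦ RHom_{R'}(LK, LM)` -/
noncomputable abbrev GG : (Dual.D R)ᵒᵖ ⥤ Dual.D R' :=
  (LBase φ).op ⋙ (RHom R').flip.obj ((LBase φ).obj M)

/-- `bcRHom` as a natural transformation in `K` -/
noncomputable def bcNat : FF φ M ⟶ GG φ M where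
  app K :=
    haveI := isIso_rhomBC φ K.unop ((LBase φ).obj M)
    bcRHom φ K.unop M
  naturality K K' f := by
    haveI := isIso_rhomBC φ K.unop ((LBase φ).obj M)
    haveI := isIso_rhomBC φ K'.unop ((LBase φ).obj M)
    exact bcRHom_naturality φ f.unop M

omit [HasLTen R'] [HasRHom R'] [HasResTen φ] [ResLegIso φ] in
lemma hexact_FF : HExact (FF φ M) :=
  (hdistOp_RHom M).comp_hexact (hdist_LBase φ).hexact

omit [HasLTen R] [HasRHom R] [HasResTen φ] [ResLegIso φ] in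
lemma hexact_GG : HExact (GG φ M) := by
  have h : HDistOp (GG φ M) := fun X Y Z f g hfg =>
    hdistOp_RHom ((LBase φ).obj M) _ _ (hdist_LBase φ f g hfg)
  exact h.hexact

/-- **base change for `RHom` out of a perfect complex** -/
theorem isIso_bcRHom_of_isPerfect (K : Dual.D R) [IsIso (rhomBC φ K ((LBase φ).obj M))]
    (hK : DRing.IsPerfect R K) : IsIso (bcRHom φ K M) := by
  haveI := preservesZeroMorphisms_RHom_flip' (A := R) M
  haveI := preservesZeroMorphisms_RHom_flip' (A := R') ((LBase φ).obj M)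
  have key := isIso_app_op_of_isPerfect (bcNat φ M) (hexact_FF φ M) (hexact_GG φ M) ?_ K hK
  · exact key
  · intro n
    have e : ((DerivedCategory.singleFunctor (ModuleCat.{u} R) 0).obj (ModuleCat.of R R))⟦n⟧ ≅
        (unit R)⟦n⟧ :=
      (CategoryTheory.shiftFunctor (Dual.D R) n).mapIso Groth.Agent.Lib.Helper10.DTenD.singleUnitIso
    obtain ⟨e'⟩ := nonempty_LBaseShiftUnitIso φ n
    haveI := isEquivalence_tensorRightD_unitShift (A := R) n
    haveI := isEquivalence_tensorRightD_unitShift (A := R') n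
    haveI : (tensorRightD R' ((LBase φ).obj ((unit R)⟦n⟧))).IsEquivalence :=
      isEquivalence_tensorRightD_of_iso e'.symm
    haveI := isIso_rhomBC φ ((unit R)⟦n⟧) ((LBase φ).obj M)
    have h1 : IsIso ((bcNat φ M).app (Opposite.op ((unit R)⟦n⟧))) :=
      isIso_bcRHom_of_equiv φ ((unit R)⟦n⟧) M
    exact isIso_app_of_iso (bcNat φ M) e.symm.op h1

end Main

end BC

end Groth.Agent.Lib.Helper10.BCD
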