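import Mathlib
import Groth.Agent.Lib.Helper10Amp
import Groth.Agent.Lib.Helper10DTenF
import Groth.Agent.Lib.Helper1PC
set_option backward.isDefEq.respectTransparency.types false

/-!
# `RHom(L, M) ⊗^L K ⟶ RHom(RHom(K, L), M)` is an isomorphism for `K` pseudo-coherent,
`L ∈ D^+`, `M` of finite injective dimension (helper10)
-/

set_option autoImplicit false
universe u
open CategoryTheory CategoryTheory.Limits MonoidalCategory CategoryTheory.Pretriangulated Opposite
attribute [local instance] HasDerivedCategory.standard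

namespace Groth.Agent.Lib.Helper10.DTenG

open DerivedCategory Groth.Agent.Lib.Helper1.KF Groth.Agent.Lib.Helper1.DT DTen
  Groth.Agent.Lib.Helper10.DTenA Groth.Agent.Lib.Helper10.DTenB Groth.Agent.Lib.Helper10.DTenD
  Groth.Agent.Lib.Helper10.DistPair Groth.Agent.Lib.Helper10.TensHomD
  Groth.Agent.Lib.Helper10.DTenE Groth.Agent.Lib.Helper10.DTenF Groth.Agent.Lib.Helper10.Amp
  Groth.Agent.Lib.Helper10.UnitHom Groth.Agent.Lib.Helper1.PC CochainComplex

section Abstract

variable {C : Type*} [Category C] [Preadditive C] [HasZeroObject C] [HasShift C ℤ]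
  [∀ n : ℤ, (CategoryTheory.shiftFunctor C n).Additive] [Pretriangulated C]
  {D : Type*} [Category D] [Preadditive D]

/-- if `Hom(W, F(Z⟦-1⟧)) = 0 = Hom(W, F Z)` for the cone `Z` of `X ⟶ Y`, then
`Hom(W, F X) ⟶ Hom(W, F Y)` is bijective -/
lemma bijective_of_hexact {F : C ⥤ D} (hF : HExact F) (T : Triangle C) (hT : T ∈ distTriang C)
    (W : D) (h1 : ∀ φ : W ⟶ F.obj (T.obj₃⟦(-1 : ℤ)⟧), φ = 0)
    (h3 : ∀ φ : W ⟶ F.obj T.obj₃, φ = 0) :
    Function.Bijective (fun x : W ⟶ F.obj T.obj₁ => x ≫ F.map T.mor₁) := by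
  constructor
  · intro x x' hxx'
    have h0 : (x - x') ≫ F.map T.invRotate.mor₂ = 0 := by
      change (x - x') ≫ F.map T.mor₁ = 0
      rw [Preadditive.sub_comp]
      exact sub_eq_zero.mpr hxx'
    obtain ⟨y, hy⟩ := hF T.invRotate (inv_rot_of_distTriang _ hT) _ h0
    have hy0 : y = 0 := h1 y
    rw [hy0, zero_comp] at hy
    exact sub_eq_zero.mp hy.symm
  · intro x
    obtain ⟨y, hy⟩ := hF T hT x (h3 _)
    exact ⟨y, hy⟩

omit [Preadditive C] [HasShift C ℤ] [HasZeroObject C]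
  [∀ n : ℤ, (CategoryTheory.shiftFunctor C n).Additive] [Pretriangulated C] [Preadditive D] in
/-- transfer of bijectivity along a natural transformation -/
lemma bijective_app_of_bijective {F G : C ⥤ D} (η : F ⟶ G) {X Y : C} (α : X ⟶ Y) (W : D)
    (hF : Function.Bijective (fun x : W ⟶ F.obj X => x ≫ F.map α))
    (hG : Function.Bijective (fun x : W ⟶ G.obj X => x ≫ G.map α)) [IsIso (η.app X)] :
    Function.Bijective (fun x : W ⟶ F.obj Y => x ≫ η.app Y) := by
  have hη : Function.Bijective (fun x : W ⟶ F.obj X => x ≫ η.app X) :=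
    ⟨fun x x' h => (cancel_mono (η.app X)).1 h, fun y => ⟨y ≫ inv (η.app X), by simp⟩⟩
  have key : (fun x : W ⟶ F.obj Y => x ≫ η.app Y) ∘ (fun x : W ⟶ F.obj X => x ≫ F.map α) =
      (fun x : W ⟶ G.obj X => x ≫ G.map α) ∘ (fun x : W ⟶ F.obj X => x ≫ η.app X) := by
    funext x
    simp
  have h2 := hG.comp hη
  rw [← key] at h2
  exact (Function.Bijective.of_comp_iff _ hF).mp h2

end Abstract

section Main

variable {A : Type u} [CommRing A] [HasLTen A] [HasLTen₃ A] [IsSymMonoidal A] [HasRHom A]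

omit [HasLTen A] [HasLTen₃ A] [IsSymMonoidal A] [HasRHom A] in
/-- brutal truncations of a bounded above complex of finite free modules are perfect -/
lemma isPerfect_sigmaGE (E : DRing.Cx A) (b : ℤ) (hb : DRing.VanishesAbove E b)
    (hff : DRing.TermwiseFiniteFree E) (m : ℤ) :
    DRing.IsPerfect A (Q.obj (sigmaGE E m)) := by
  refine ⟨sigmaGE E m, m, b, ?_, ?_, ⟨Iso.refl _⟩⟩
  · rintro i (hi | hi)
    · exact isZero_sigmaGE_X E m i hi
    · exact isZero_sigmaGE_X' E m i (hb i hi)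
  · intro i
    obtain ⟨h1, h2⟩ := FF_sigmaGE E m i (hff i)
    exact ⟨h1, inferInstance⟩

/-- **`RHom(L, M) ⊗^L K ⟶ RHom(RHom(K, L), M)` is an isomorphism for `K` pseudo-coherent,
`L ∈ D^{≥ n}` and `M` of finite injective dimension.** -/
theorem isIso_evalHom_of_isPseudoCoherent (K L M : Dual.D A) (hK : DRing.IsPseudoCoherent' A K)
    (n : ℤ) [L.IsGE n] (hM : DRing.HasFiniteInjDim A M) : IsIso (evalHom K L M) := by
  obtain ⟨a, b, hab⟩ := hM
  obtain ⟨E, bE, hEb, hEff, ⟨eK⟩⟩ := hK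
  haveI hR : ((RHomR A L).obj M).IsLE (b - n) := isLE_RHom_of_injAmp L M n a b hab
  suffices h : IsIso ((evalHomNat L M).app (Q.obj E)) from
    isIso_app_of_iso (evalHomNat L M) eK h
  -- vanishing bounds
  have vF : ∀ (C' : Dual.D A) (c i : ℤ), C'.IsLE c → c + (b - n) < i →
      ∀ φ : U A i ⟶ ((LTen A).obj ((RHomR A L).obj M)).obj C', φ = 0 := by
    intro C' c i hC' hi φ
    haveI := hC'
    haveI : ((LTen₂ A).obj ((RHomR A L).obj M, C')).IsLE ((b - n) + c) :=
      isLE_LTen ((RHomR A L).obj M) C' (b - n) c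
    exact hom_eq_zero_of_isLE ((b - n) + c) ((LTen₂ A).obj ((RHomR A L).obj M, C')) i (by omega) φ
  have vG : ∀ (C' : Dual.D A) (c i : ℤ), C'.IsLE c → c + (b - n) < i →
      ∀ φ : U A i ⟶ (GG L M).obj C', φ = 0 := by
    intro C' c i hC' hi φ
    haveI := hC'
    haveI : ((RHomR A C').obj L).IsGE (n - c) := isGE_RHom C' L c n
    haveI : ((RHomR A ((RHomR A C').obj L)).obj M).IsLE (b - (n - c)) :=
      isLE_RHom_of_injAmp ((RHomR A C').obj L) M (n - c) a b hab
    exact hom_eq_zero_of_isLE (b - (n - c)) ((RHomR A ((RHomR A C').obj L)).obj M) i (by omega) φ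
  apply isIso_of_bijective
  intro i
  obtain ⟨m, hm⟩ : ∃ m : ℤ, m = i - (b - n) - 1 := ⟨_, rfl⟩
  have hperf := isPerfect_sigmaGE E bE hEb hEff m
  haveI : IsIso ((evalHomNat L M).app (Q.obj (sigmaGE E m))) :=
    isIso_evalHom_of_isPerfect _ L M hperf
  obtain ⟨C', β, γ, hT⟩ := distinguished_cocone_triangle (Q.map (sigmaGEι E m))
  haveI hC : C'.IsLE (m - 1) := (conn_iff_of_distTriang _ hT m).1 (conn_sigmaGEι E m)
  haveI hC1 : (C'⟦(-1 : ℤ)⟧).IsLE m := TStructure.t.isLE_shift C' (m - 1) (-1) m (by omega)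
  exact bijective_app_of_bijective (evalHomNat L M) (Q.map (sigmaGEι E m)) (U A i)
    (bijective_of_hexact (hexact_LTen_obj _) _ hT (U A i)
      (vF _ m i hC1 (by omega)) (vF _ (m - 1) i hC (by omega)))
    (bijective_of_hexact (hexact_GG L M) _ hT (U A i)
      (vG _ m i hC1 (by omega)) (vG _ (m - 1) i hC (by omega)))

end Main

end Groth.Agent.Lib.Helper10.DTenG
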