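import Mathlib
import Groth.Agent.Lib.Helper10BCD
import Groth.Agent.Lib.Helper10DTenG
set_option backward.isDefEq.respectTransparency.types false

/-!
# Flat base change for `RHom` out of a pseudo-coherent complex into a bounded below one (helper10)
-/

set_option autoImplicit false
set_option maxHeartbeats 400000
universe u
open CategoryTheory CategoryTheory.Limits MonoidalCategory HomologicalComplex
attribute [local instance] HasDerivedCategory.standard

namespace Groth.Agent.Lib.Helper10.BCE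

open DerivedCategory Groth.Agent.Lib.Helper1.KF Groth.Agent.Lib.Helper1.DT DTen
  Groth.Agent.Lib.Helper10.BCA Groth.Agent.Lib.Helper10.BCB Groth.Agent.Lib.Helper10.BCC
  Groth.Agent.Lib.Helper10.BCD
  Groth.Agent.Lib.Helper10.DTenA Groth.Agent.Lib.Helper10.DistPair
  Groth.Agent.Lib.Helper10.TensHomD Groth.Agent.Lib.Helper10.PerfInd
  Groth.Agent.Lib.Helper10.UnitHom Groth.Agent.Lib.Helper10.Amp Groth.Agent.Lib.Helper1.PC

section GE

variable {A : Type u} [CommRing A]

/-- maps from `A[-i]` to an object of `D^{≥ z}` vanish for `i < z` -/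
lemma hom_eq_zero_of_isGE (z : ℤ) (Z : Dual.D A) [Z.IsGE z] (i : ℤ) (hi : i < z)
    (φ : U A i ⟶ Z) : φ = 0 := by
  obtain ⟨Z', hZ', ⟨e⟩⟩ := Z.exists_iso_Q_obj_of_isGE z
  have h := hom_eq_zero_of_isZero i Z' (Z'.isZero_of_isStrictlyGE z i hi) (φ ≫ e.hom)
  rw [← cancel_mono e.hom, h, zero_comp]

end GE

section Flat

variable {R R' : Type u} [CommRing R] [CommRing R'] (φ : R →+* R')

open CochainComplex

/-- extension of scalars along a flat map preserves acyclic complexes -/
lemma acyc_extCx_of_flat (hflat : Module.Flat R (resA φ)) {C : Cx R} (hCa : Acyc C) :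
    Acyc ((extCx φ).obj C) := by
  intro n
  rw [← exactAt_iff_isZero_homology, exactAt_extCx_iff]
  have hn : C.ExactAt n := (exactAt_iff_isZero_homology _ _).2 (hCa n)
  rw [exactAt_iff' _ (n - 1) n (n + 1) (by simp) (by simp)] at hn ⊢
  exact Module.Flat.lTensor_shortComplex_exact (resA φ) _ hn

/-- extension of scalars along a flat map preserves quasi-isomorphisms -/
lemma quasiIso_extCx_map_of_flat (hflat : Module.Flat R (resA φ)) {P K : Cx R} (π : P ⟶ K)
    [QuasiIso π] : QuasiIso ((extCx φ).map π) := by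
  apply quasiIso_of_acyc_cone
  have h1 : Acyc (mappingCone π) := acyc_cone_of_quasiIso π
  exact Acyc.of_iso (mappingCone.mapHomologicalComplexIso π (ModuleCat.extendScalars.{u, u, u} φ))
    (acyc_extCx_of_flat φ hflat h1)

/-- for a flat ring map, derived base change is termwise base change on every complex -/
theorem isIso_baseCmp_of_flat [HasLBase φ] (hflat : Module.Flat R (resA φ)) (K : Cx R) :
    IsIso ((baseCmp φ).app K) := by
  obtain ⟨P, π, hP, -, hπ, -⟩ := exists_kprojective_resolution K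
  have e := (baseCmp φ).naturality π
  have h1 : IsIso ((baseCmp φ).app P) := isIso_baseCmp_of_isKProjective φ P
  have h2 : IsIso ((Q ⋙ LBase φ).map π) := by
    have : IsIso (Q.map π) := (DerivedCategory.isIso_Q_map_iff_quasiIso (φ := π)).2 hπ
    exact Functor.map_isIso (LBase φ) _
  have h3 : IsIso ((extCx φ ⋙ Q).map π) := by
    have hq := quasiIso_extCx_map_of_flat φ hflat π
    exact (DerivedCategory.isIso_Q_map_iff_quasiIso (φ := (extCx φ).map π)).2 hq
  have h4 : (baseCmp φ).app K =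
      inv ((Q ⋙ LBase φ).map π) ≫ (baseCmp φ).app P ≫ (extCx φ ⋙ Q).map π := by
    rw [IsIso.eq_inv_comp]
    exact e
  rw [h4]
  infer_instance

end Flat

section TExact

variable {R R' : Type u} [CommRing R] [CommRing R'] (φ : R →+* R') [HasLBase φ]

lemma isStrictlyLE_extCx (P : Cx R) (c : ℤ) [P.IsStrictlyLE c] :
    ((extCx φ).obj P).IsStrictlyLE c := by
  rw [CochainComplex.isStrictlyLE_iff]
  intro i hi
  exact (ModuleCat.extendScalars.{u, u, u} φ).map_isZero (P.isZero_of_isStrictlyLE c i hi)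

lemma isStrictlyGE_extCx (P : Cx R) (c : ℤ) [P.IsStrictlyGE c] :
    ((extCx φ).obj P).IsStrictlyGE c := by
  rw [CochainComplex.isStrictlyGE_iff]
  intro i hi
  exact (ModuleCat.extendScalars.{u, u, u} φ).map_isZero (P.isZero_of_isStrictlyGE c i hi)

/-- derived base change is right t-exact -/
lemma isLE_LBase (X : Dual.D R) (c : ℤ) [X.IsLE c] : ((LBase φ).obj X).IsLE c := by
  obtain ⟨P, hP, hPp, ⟨e⟩⟩ := Groth.Agent.Lib.Helper1.ProjRes.exists_iso_Q_proj X c
  haveI : P.IsKProjective := CochainComplex.isKProjective_of_projective P c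
  haveI := isIso_baseCmp_of_isKProjective φ P
  haveI := isStrictlyLE_extCx φ P c
  let e' : (LBase φ).obj X ≅ Q.obj ((extCx φ).obj P) :=
    (LBase φ).mapIso e.symm ≪≫ asIso ((baseCmp φ).app P)
  exact TStructure.t.isLE_of_iso e'.symm c

/-- derived base change along a flat map is left t-exact -/
lemma isGE_LBase_of_flat (hflat : Module.Flat R (resA φ)) (X : Dual.D R) (c : ℤ) [X.IsGE c] :
    ((LBase φ).obj X).IsGE c := by
  obtain ⟨Y, hY, ⟨e⟩⟩ := X.exists_iso_Q_obj_of_isGE c
  haveI := isIso_baseCmp_of_flat φ hflat Y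
  haveI := isStrictlyGE_extCx φ Y c
  let e' : (LBase φ).obj X ≅ Q.obj ((extCx φ).obj Y) :=
    (LBase φ).mapIso e ≪≫ asIso ((baseCmp φ).app Y)
  exact TStructure.t.isGE_of_iso e'.symm c

end TExact

section Main

open CategoryTheory.Pretriangulated CategoryTheory.Pretriangulated.Opposite Opposite

section Abstract

variable {C : Type*} [Category C] [Preadditive C] [HasZeroObject C] [HasShift C ℤ]
  [∀ n : ℤ, (CategoryTheory.shiftFunctor C n).Additive] [Pretriangulated C]
  {D : Type*} [Category D] [Preadditive D] [HasZeroObject D] [HasShift D ℤ]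
  [∀ n : ℤ, (CategoryTheory.shiftFunctor D n).Additive] [Pretriangulated D]

/-- contravariant version of `bijective_of_hexact` -/
lemma bijective_of_hdistOp {F : Cᵒᵖ ⥤ D} (hF : HDistOp F) (T : Triangle C)
    (hT : T ∈ distTriang C) (W : D)
    (h1 : ∀ φ : W ⟶ F.obj (op (T.obj₃⟦(-1 : ℤ)⟧)), φ = 0)
    (h3 : ∀ φ : W ⟶ F.obj (op T.obj₃), φ = 0) :
    Function.Bijective (fun x : W ⟶ F.obj (op T.obj₂) => x ≫ F.map T.mor₁.op) := by
  have d1 : IsDistPair (F.map T.mor₂.op) (F.map T.mor₁.op) :=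
    hF _ _ (isDistPair_of_distTriang T hT)
  have d2 : IsDistPair (F.map T.invRotate.mor₂.op) (F.map T.invRotate.mor₁.op) :=
    hF _ _ (isDistPair_of_distTriang _ (inv_rot_of_distTriang T hT))
  constructor
  · intro x x' hxx'
    have h0 : (x - x') ≫ F.map T.mor₁.op = 0 := by
      rw [Preadditive.sub_comp]
      exact sub_eq_zero.mpr hxx'
    obtain ⟨y, hy⟩ := d1.exact _ h0
    rw [h3 y, zero_comp] at hy
    exact sub_eq_zero.mp hy.symm
  · intro z
    obtain ⟨y, hy⟩ := d2.exact z (h1 _)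
    exact ⟨y, hy⟩

omit [Preadditive C] [HasShift C ℤ] [HasZeroObject C]
  [∀ n : ℤ, (CategoryTheory.shiftFunctor C n).Additive] [Pretriangulated C] [Preadditive D]
  [HasZeroObject D] [HasShift D ℤ] [∀ n : ℤ, (CategoryTheory.shiftFunctor D n).Additive]
  [Pretriangulated D] in
/-- transfer of bijectivity along a natural transformation, backwards -/
lemma bijective_app_of_bijective' {F G : C ⥤ D} (η : F ⟶ G) {X Y : C} (α : Y ⟶ X) (W : D)
    (hF : Function.Bijective (fun x : W ⟶ F.obj Y => x ≫ F.map α))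
    (hG : Function.Bijective (fun x : W ⟶ G.obj Y => x ≫ G.map α)) [IsIso (η.app X)] :
    Function.Bijective (fun x : W ⟶ F.obj Y => x ≫ η.app Y) := by
  have hη : Function.Bijective (fun x : W ⟶ F.obj X => x ≫ η.app X) :=
    ⟨fun x x' h => (cancel_mono (η.app X)).1 h, fun y => ⟨y ≫ inv (η.app X), by simp⟩⟩
  have key : (fun x : W ⟶ G.obj Y => x ≫ G.map α) ∘ (fun x : W ⟶ F.obj Y => x ≫ η.app Y) =
      (fun x : W ⟶ F.obj X => x ≫ η.app X) ∘ (fun x : W ⟶ F.obj Y => x ≫ F.map α) := by
    funext x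
    simp
  have h2 := hη.comp hF
  rw [← key] at h2
  exact (Function.Bijective.of_comp_iff' hG _).mp h2

end Abstract

variable {R R' : Type u} [CommRing R] [CommRing R'] (φ : R →+* R')
  [HasLTen R] [HasLTen R'] [HasRHom R] [HasRHom R'] [HasLBase φ] [HasResTen φ] [ResLegIso φ]

omit [HasLTen R'] [HasRHom R'] [HasResTen φ] [ResLegIso φ] in
lemma hdistOp_FF (M : Dual.D R) : HDistOp (FF φ M) := fun _ _ _ f g hfg =>
  hdist_LBase φ _ _ (hdistOp_RHom M f g hfg)

omit [HasLTen R] [HasRHom R] [HasResTen φ] [ResLegIso φ] in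
lemma hdistOp_GG (M : Dual.D R) : HDistOp (GG φ M) := fun _ _ _ f g hfg =>
  hdistOp_RHom ((LBase φ).obj M) _ _ (hdist_LBase φ f g hfg)

/-- **flat base change for `RHom(K, M)`, `K` pseudo-coherent, `M` bounded below** -/
theorem isIso_bcRHom_of_flat_of_isPseudoCoherent (hflat : Module.Flat R (resA φ))
    (K M : Dual.D R) [IsIso (rhomBC φ K ((LBase φ).obj M))]
    (hK : DRing.IsPseudoCoherent' R K) (n : ℤ) [M.IsGE n] : IsIso (bcRHom φ K M) := by
  obtain ⟨E, bE, hEb, hEff, ⟨eK⟩⟩ := hK
  suffices h : IsIso ((bcNat φ M).app (op (Q.obj E))) from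
    isIso_app_of_iso (bcNat φ M) eK.symm.op h
  haveI : ((LBase φ).obj M).IsGE n := isGE_LBase_of_flat φ hflat M n
  -- vanishing bounds
  have vF : ∀ (C' : Dual.D R) (c i : ℤ), C'.IsLE c → i < n - c →
      ∀ ψ : U R' i ⟶ (FF φ M).obj (op C'), ψ = 0 := by
    intro C' c i hC' hi ψ
    haveI := hC'
    haveI : ((RHomR R C').obj M).IsGE (n - c) := isGE_RHom C' M c n
    haveI : ((LBase φ).obj ((RHomR R C').obj M)).IsGE (n - c) :=
      isGE_LBase_of_flat φ hflat _ (n - c)
    exact hom_eq_zero_of_isGE (n - c) ((LBase φ).obj ((RHomR R C').obj M)) i hi ψ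
  have vG : ∀ (C' : Dual.D R) (c i : ℤ), C'.IsLE c → i < n - c →
      ∀ ψ : U R' i ⟶ (GG φ M).obj (op C'), ψ = 0 := by
    intro C' c i hC' hi ψ
    haveI := hC'
    haveI : ((LBase φ).obj C').IsLE c := isLE_LBase φ C' c
    haveI : ((RHomR R' ((LBase φ).obj C')).obj ((LBase φ).obj M)).IsGE (n - c) :=
      isGE_RHom ((LBase φ).obj C') ((LBase φ).obj M) c n
    exact hom_eq_zero_of_isGE (n - c) ((RHomR R' ((LBase φ).obj C')).obj ((LBase φ).obj M)) i hi ψ
  apply isIso_of_bijective
  intro i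
  obtain ⟨m, hm⟩ : ∃ m : ℤ, m = n - i - 1 := ⟨_, rfl⟩
  have hperf := Groth.Agent.Lib.Helper10.DTenG.isPerfect_sigmaGE E bE hEb hEff m
  haveI := isIso_rhomBC φ (Q.obj (sigmaGE E m)) ((LBase φ).obj M)
  haveI : IsIso ((bcNat φ M).app (op (Q.obj (sigmaGE E m)))) :=
    isIso_bcRHom_of_isPerfect φ M _ hperf
  obtain ⟨C', β, γ, hT⟩ := distinguished_cocone_triangle (Q.map (sigmaGEι E m))
  haveI hC : C'.IsLE (m - 1) := (conn_iff_of_distTriang _ hT m).1 (conn_sigmaGEι E m)
  haveI hC1 : (C'⟦(-1 : ℤ)⟧).IsLE m := TStructure.t.isLE_shift C' (m - 1) (-1) m (by omega)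
  exact bijective_app_of_bijective' (bcNat φ M) (Q.map (sigmaGEι E m)).op (U R' i)
    (bijective_of_hdistOp (hdistOp_FF φ M) _ hT (U R' i)
      (vF _ m i hC1 (by omega)) (vF _ (m - 1) i hC (by omega)))
    (bijective_of_hdistOp (hdistOp_GG φ M) _ hT (U R' i)
      (vG _ m i hC1 (by omega)) (vG _ (m - 1) i hC (by omega)))

end Main

section FlatAlg

variable (R R' : Type u) [CommRing R] [CommRing R'] [Algebra R R']

/-- `R'` as an `R`-module through restriction of scalars is flat when `R'` is a flat algebra -/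
lemma flat_resA [Module.Flat R R'] : Module.Flat R (resA (algebraMap R R')) := by
  let e : (resA (algebraMap R R')) ≃ₗ[R] R' :=
    { toFun := fun x => x
      invFun := fun x => x
      left_inv := fun _ => rfl
      right_inv := fun _ => rfl
      map_add' := fun _ _ => rfl
      map_smul' := fun r x => by
        refine (ModuleCat.restrictScalars.smul_def (algebraMap R R') r x).trans ?_
        simp only [RingHom.id_apply]
        exact (@Algebra.smul_def R R' _ _ _ r x).symm }
  exact Module.Flat.of_linearEquiv e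

end FlatAlg

end Groth.Agent.Lib.Helper10.BCE
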