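import Mathlib
import Groth.Agent.Lib.Helper1TorF

/-!
# Tor amplitude: pseudo-coherent + tor amplitude gives finite projective representatives (helper1)
-/
set_option autoImplicit false
universe u
open CategoryTheory CategoryTheory.Limits MonoidalCategory
attribute [local instance] HasDerivedCategory.standard

namespace Groth.Agent.Lib.Helper1.Tor

open DerivedCategory Pretriangulated Groth.Agent.Lib.Helper21.DTrunc Groth.Agent.S14388
open Groth.Agent.Lib.Helper1.Cone Groth.Agent.Lib.Helper1.ProjRes ZeroObject

variable {R : Type u} [CommRing R]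

section ModuleLevel

/-- In a short exact sequence `0 → M' → M → M'' → 0` with `M` and `M''` projective, `M'` is
projective. -/
theorem proj_ker {M' M M'' : Type*} [AddCommGroup M'] [AddCommGroup M] [AddCommGroup M'']
    [Module R M'] [Module R M] [Module R M''] [Module.Projective R M] [Module.Projective R M'']
    (ι : M' →ₗ[R] M) (δ : M →ₗ[R] M'') (hι : Function.Injective ι) (hδ : Function.Surjective δ)
    (hex : Function.Exact ι δ) : Module.Projective R M' := by
  obtain ⟨s, hs⟩ := Module.projective_lifting_property δ LinearMap.id hδ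
  have h01 : (∃ l, δ ∘ₗ l = LinearMap.id) ↔ ∃ l, l ∘ₗ ι = LinearMap.id :=
    (hex.split_tfae hι hδ).out 0 1
  obtain ⟨l, hl⟩ := h01.1 ⟨s, hs⟩
  exact Module.Projective.of_split ι l hl

/-- finite version -/
theorem finite_ker {M' M M'' : Type*} [AddCommGroup M'] [AddCommGroup M] [AddCommGroup M'']
    [Module R M'] [Module R M] [Module R M''] [Module.Finite R M] [Module.Projective R M'']
    (ι : M' →ₗ[R] M) (δ : M →ₗ[R] M'') (hι : Function.Injective ι) (hδ : Function.Surjective δ)
    (hex : Function.Exact ι δ) : Module.Finite R M' := by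
  obtain ⟨s, hs⟩ := Module.projective_lifting_property δ LinearMap.id hδ
  have h01 : (∃ l, δ ∘ₗ l = LinearMap.id) ↔ ∃ l, l ∘ₗ ι = LinearMap.id :=
    (hex.split_tfae hι hδ).out 0 1
  obtain ⟨l, hl⟩ := h01.1 ⟨s, hs⟩
  refine Module.Finite.of_surjective l (fun x => ⟨ι x, ?_⟩)
  exact congrArg (fun f => f x) hl

theorem projective_range_of_exact {Y Z W : Type*} [AddCommGroup Y] [AddCommGroup Z]
    [AddCommGroup W] [Module R Y] [Module R Z] [Module R W] [Module.Projective R Z]
    (g : Y →ₗ[R] Z) (h : Z →ₗ[R] W) (hgh : Function.Exact g h)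
    [Module.Projective R (LinearMap.range h)] : Module.Projective R (LinearMap.range g) := by
  have hex : Function.Exact (LinearMap.range g).subtype h.rangeRestrict := by
    intro z
    constructor
    · intro hz
      have : h z = 0 := congrArg Subtype.val hz
      obtain ⟨y, rfl⟩ := (hgh z).1 this
      exact ⟨⟨g y, ⟨y, rfl⟩⟩, rfl⟩
    · rintro ⟨⟨_, ⟨y, rfl⟩⟩, rfl⟩
      apply Subtype.ext
      exact (hgh (g y)).2 ⟨y, rfl⟩
  exact proj_ker (LinearMap.range g).subtype h.rangeRestrict (Submodule.subtype_injective _)
    h.surjective_rangeRestrict hex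

theorem projective_of_exact_of_projective_range {N Z W : Type*} [AddCommGroup N] [AddCommGroup Z]
    [AddCommGroup W] [Module R N] [Module R Z] [Module R W] [Module.Projective R Z]
    (ι : N →ₗ[R] Z) (h : Z →ₗ[R] W) (hι : Function.Injective ι) (hex : Function.Exact ι h)
    [Module.Projective R (LinearMap.range h)] : Module.Projective R N := by
  refine proj_ker ι h.rangeRestrict hι h.surjective_rangeRestrict ?_
  intro z
  rw [← hex z]
  constructor
  · intro hz
    exact congrArg Subtype.val hz
  · intro hz
    exact Subtype.ext hz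

theorem finite_of_exact_of_projective_range {N Z W : Type*} [AddCommGroup N] [AddCommGroup Z]
    [AddCommGroup W] [Module R N] [Module R Z] [Module R W] [Module.Finite R Z]
    (ι : N →ₗ[R] Z) (h : Z →ₗ[R] W) (hι : Function.Injective ι) (hex : Function.Exact ι h)
    [Module.Projective R (LinearMap.range h)] : Module.Finite R N := by
  refine finite_ker ι h.rangeRestrict hι h.surjective_rangeRestrict ?_
  intro z
  rw [← hex z]
  constructor
  · intro hz
    exact congrArg Subtype.val hz
  · intro hz
    exact Subtype.ext hz

end ModuleLevel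

/-- projective version of Lemma Z -/
lemma projective_range_d (K : DRing.Cx R) (b : ℤ) (hb : DRing.VanishesAbove K b)
    (hproj : ∀ i : ℤ, Module.Projective R (K.X i)) (n : ℤ) (hex : ∀ j : ℤ, n < j → K.ExactAt j) :
    ∀ i : ℤ, n ≤ i → Module.Projective R (LinearMap.range (K.d i (i + 1)).hom) := by
  have key : ∀ (k : ℕ) (i : ℤ), n ≤ i → b ≤ i + k →
      Module.Projective R (LinearMap.range (K.d i (i + 1)).hom) := by
    intro k
    induction k with
    | zero =>
      intro i _ hbi
      have hz : IsZero (K.X (i + 1)) := hb (i + 1) (by lia)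
      have := ModuleCat.subsingleton_of_isZero hz
      infer_instance
    | succ k ih =>
      intro i hni hbi
      have h1 : Module.Projective R (LinearMap.range (K.d (i + 1) (i + 1 + 1)).hom) :=
        ih (i + 1) (by lia) (by push_cast at hbi; lia)
      have h2 := (exactAt_iff_fexact K i (i + 1) (i + 1 + 1) rfl rfl).1 (hex (i + 1) (by lia))
      have := hproj (i + 1)
      exact projective_range_of_exact _ _ h2
  intro i hi
  exact key (b - i).toNat i hi (by lia)

/-- the truncation `τ_{≤ b}` of a bounded above projective complex exact above `b` is projective -/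
lemma projective_truncLE (G : DRing.Cx R) (bG : ℤ) (hGb : DRing.VanishesAbove G bG)
    (hG : ∀ i : ℤ, Module.Projective R (G.X i)) (b : ℤ) (hex : ∀ j : ℤ, b < j → G.ExactAt j) :
    ∀ i : ℤ, Module.Projective R ((G.truncLE b).X i) := by
  intro i
  obtain hi | rfl | hi := lt_trichotomy i b
  · have := hG i
    exact Module.Projective.of_equiv (G.truncLEXIso b i hi).toLinearEquiv.symm
  · have := hG i
    have := projective_range_d G bG hGb hG i hex i le_rfl
    have : Module.Projective R (G.cycles i) :=
      projective_of_exact_of_projective_range (G.iCycles i).hom (G.d i (i + 1)).hom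
        ((ModuleCat.mono_iff_injective _).1 inferInstance) (fexact_iCycles_d G i)
    exact Module.Projective.of_equiv (G.truncLEXIsoCycles i).toLinearEquiv.symm
  · have := ModuleCat.subsingleton_of_isZero ((G.truncLE b).isZero_of_isStrictlyLE b i hi)
    infer_instance

/-- finiteness of the terms of `τ_{≤ b}` of a bounded above finite projective complex exact
above `b` -/
lemma finite_truncLE (G : DRing.Cx R) (bG : ℤ) (hGb : DRing.VanishesAbove G bG)
    (hG : DRing.TermwiseFiniteProjective G) (b : ℤ) (hex : ∀ j : ℤ, b < j → G.ExactAt j) :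
    ∀ i : ℤ, Module.Finite R ((G.truncLE b).X i) := by
  intro i
  obtain hi | rfl | hi := lt_trichotomy i b
  · have := (hG i).1
    exact Module.Finite.equiv (G.truncLEXIso b i hi).toLinearEquiv.symm
  · have := (hG i).1
    have := projective_range_d G bG hGb (fun i => (hG i).2) i hex i le_rfl
    have : Module.Finite R (G.cycles i) :=
      finite_of_exact_of_projective_range (G.iCycles i).hom (G.d i (i + 1)).hom
        ((ModuleCat.mono_iff_injective _).1 inferInstance) (fexact_iCycles_d G i)
    exact Module.Finite.equiv (G.truncLEXIsoCycles i).toLinearEquiv.symm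
  · have := ModuleCat.subsingleton_of_isZero ((G.truncLE b).isZero_of_isStrictlyLE b i hi)
    infer_instance

/-- the truncation `τ_{≥ a}` of a finite free complex with tensor-vanishing below `a` is
finite projective -/
lemma finiteProjective_truncGE (F : DRing.Cx R) (hF : DRing.TermwiseFiniteFree F) (a c : ℤ)
    (h : TorVan F a c) : DRing.TermwiseFiniteProjective (F.truncGE a) := by
  have hFf : DRing.TermwiseFlat F := fun i =>
    have := (hF i).2
    inferInstance
  intro i
  obtain hi | rfl | hi := lt_trichotomy i a
  · have := ModuleCat.subsingleton_of_isZero ((F.truncGE a).isZero_of_isStrictlyGE a i hi)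
    exact ⟨inferInstance, inferInstance⟩
  · have hsurj : Function.Surjective (F.pOpcycles i).hom :=
      (ModuleCat.epi_iff_surjective _).1 inferInstance
    have hexd := fexact_d_pOpcycles F i
    have hflat : Module.Flat R (F.opcycles i) :=
      flat_of_torVan F hFf i c h (F.pOpcycles i).hom hsurj hexd
    have := (hF i).1
    have := (hF i).2
    have := (hF (i - 1)).1
    have : Module.FinitePresentation R (F.X i) := Module.finitePresentation_of_projective R _
    have hfp : Module.FinitePresentation R (F.opcycles i) := by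
      refine Module.finitePresentation_of_surjective (F.pOpcycles i).hom hsurj ?_
      rw [LinearMap.exact_iff.1 hexd, LinearMap.range_eq_map]
      exact Submodule.FG.map _ Module.Finite.fg_top
    have hproj : Module.Projective R (F.opcycles i) := Module.Flat.projective_of_finitePresentation
    have hfin : Module.Finite R (F.opcycles i) := Module.Finite.of_surjective _ hsurj
    exact ⟨Module.Finite.equiv (F.truncGEXIsoOpcycles i).toLinearEquiv.symm,
      Module.Projective.of_equiv (F.truncGEXIsoOpcycles i).toLinearEquiv.symm⟩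
  · have := (hF i).1
    have := (hF i).2
    exact ⟨Module.Finite.equiv (F.truncGEXIso a i hi).toLinearEquiv.symm,
      Module.Projective.of_equiv (F.truncGEXIso a i hi).toLinearEquiv.symm⟩

/-- a pseudo-coherent object with tor amplitude in `[a, c]` is represented by a complex of
finite projective modules in `[a, c]` -/
theorem exists_finiteProjective_of_pc_of_torAmp (K : Dual.D R)
    (hK : DRing.IsPseudoCoherent' R K) (a c : ℤ) (h : DRing.HasTorAmplitudeIn R a c K) :
    ∃ E : DRing.Cx R, DRing.VanishesOutside E a c ∧ DRing.TermwiseFiniteProjective E ∧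
      Nonempty (DRing.toD E ≅ K) := by
  obtain ⟨F, bF, hFb, hFf, ⟨eF⟩⟩ := hK
  obtain ⟨E, hE, hEf, ⟨eE⟩⟩ := h
  have hFflat : DRing.TermwiseFlat F := fun i =>
    have := (hFf i).2
    inferInstance
  have htv : TorVan F a c := torVan_of_iso F E bF hFb hFflat a c hE hEf (eE ≪≫ eF.symm)
  have hFge : CochainComplex.IsGE F a := by
    rw [CochainComplex.isGE_iff]
    exact fun i hi => htv.exactAt i (Or.inl hi)
  have hq : QuasiIso (F.πTruncGE a) := (F.quasiIso_πTruncGE_iff a).2 hFge
  have hiso : IsIso (Q.map (F.πTruncGE a)) :=
    (DerivedCategory.isIso_Q_map_iff_quasiIso (φ := F.πTruncGE a)).2 hq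
  set G' := F.truncGE a with hG'
  have hG'fp : DRing.TermwiseFiniteProjective G' := finiteProjective_truncGE F hFf a c htv
  have hG'b : DRing.VanishesAbove G' (max bF a) := by
    intro i hi
    have hi1 : a < i := lt_of_le_of_lt (le_max_right _ _) hi
    have hi2 : bF < i := lt_of_le_of_lt (le_max_left _ _) hi
    exact (hFb i hi2).of_iso (F.truncGEXIso a i hi1)
  have hex' : ∀ j : ℤ, c < j → G'.ExactAt j := fun j hj =>
    exactAt_of_Q_iso (asIso (Q.map (F.πTruncGE a))) j (htv.exactAt j (Or.inr hj))
  have hG'le : CochainComplex.IsLE G' c := by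
    rw [CochainComplex.isLE_iff]
    exact hex'
  have hq' : QuasiIso (G'.ιTruncLE c) := (G'.quasiIso_ιTruncLE_iff c).2 hG'le
  have hiso' : IsIso (Q.map (G'.ιTruncLE c)) :=
    (DerivedCategory.isIso_Q_map_iff_quasiIso (φ := G'.ιTruncLE c)).2 hq'
  refine ⟨G'.truncLE c, ?_, fun i => ⟨finite_truncLE G' _ hG'b hG'fp c hex' i,
    projective_truncLE G' _ hG'b (fun i => (hG'fp i).2) c hex' i⟩,
    ⟨asIso (Q.map (G'.ιTruncLE c)) ≪≫ (asIso (Q.map (F.πTruncGE a))).symm ≪≫ eF⟩⟩
  intro i hi
  by_cases hib : c < i
  · exact (G'.truncLE c).isZero_of_isStrictlyLE c i hib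
  · have hia : i < a := by
      rcases hi with hi | hi
      · exact hi
      · exact absurd hi hib
    have hz : IsZero (G'.X i) := G'.isZero_of_isStrictlyGE a i hia
    obtain hib' | rfl := lt_or_eq_of_le (not_lt.1 hib)
    · exact hz.of_iso (G'.truncLEXIso c i hib')
    · have : IsZero (G'.cycles i) := IsZero.of_mono (G'.iCycles i) hz
      exact this.of_iso (G'.truncLEXIsoCycles i)

end Groth.Agent.Lib.Helper1.Tor
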