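import Mathlib
import Groth.Agent.Lib.Helper1TorG

/-!
# Tor amplitude: comparison with Mathlib's `Tor` (helper1)
-/
set_option autoImplicit false
universe u
open CategoryTheory CategoryTheory.Limits MonoidalCategory
attribute [local instance] HasDerivedCategory.standard

namespace Groth.Agent.Lib.Helper1.Tor

open DerivedCategory Pretriangulated Groth.Agent.Lib.Helper21.DTrunc Groth.Agent.S14388
open Groth.Agent.Lib.Helper1.Cone Groth.Agent.Lib.Helper1.ProjRes ZeroObject

variable {R : Type u} [CommRing R]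

lemma hasTorAmp_mono {K : Dual.D R} {a b a' b' : ℤ} (ha : a' ≤ a) (hb : b ≤ b')
    (h : DRing.HasTorAmplitudeIn R a b K) : DRing.HasTorAmplitudeIn R a' b' K := by
  obtain ⟨E, h1, h2, h3⟩ := h
  exact ⟨E, fun i hi => h1 i (by lia), h2, h3⟩

/-- refined form of `hasTorAmp_of_torVan` -/
theorem hasTorAmp_of_flat_opcycles (G : DRing.Cx R) (bG : ℤ) (hGb : DRing.VanishesAbove G bG)
    (hG : DRing.TermwiseFlat G) (a b : ℤ) (hlow : ∀ i : ℤ, i < a → G.ExactAt i)
    (hhigh : ∀ i : ℤ, b < i → G.ExactAt i) (hflat : Module.Flat R (G.opcycles a)) :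
    DRing.HasTorAmplitudeIn R a b (DRing.toD G) := by
  have hGge : CochainComplex.IsGE G a := by
    rw [CochainComplex.isGE_iff]
    exact hlow
  have hq : QuasiIso (G.πTruncGE a) := (G.quasiIso_πTruncGE_iff a).2 hGge
  have hiso : IsIso (Q.map (G.πTruncGE a)) :=
    (DerivedCategory.isIso_Q_map_iff_quasiIso (φ := G.πTruncGE a)).2 hq
  set G' := G.truncGE a with hG'
  have hG'f : DRing.TermwiseFlat G' := by
    intro i
    obtain hi | rfl | hi := lt_trichotomy i a
    · have := ModuleCat.subsingleton_of_isZero ((G.truncGE a).isZero_of_isStrictlyGE a i hi)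
      infer_instance
    · exact Module.Flat.of_linearEquiv (G.truncGEXIsoOpcycles i).toLinearEquiv
    · have := hG i
      exact Module.Flat.of_linearEquiv (G.truncGEXIso a i hi).toLinearEquiv
  have hG'b : DRing.VanishesAbove G' (max bG a) := by
    intro i hi
    have hi1 : a < i := lt_of_le_of_lt (le_max_right _ _) hi
    have hi2 : bG < i := lt_of_le_of_lt (le_max_left _ _) hi
    exact (hGb i hi2).of_iso (G.truncGEXIso a i hi1)
  have hex' : ∀ j : ℤ, b < j → G'.ExactAt j := fun j hj =>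
    exactAt_of_Q_iso (asIso (Q.map (G.πTruncGE a))) j (hhigh j hj)
  have hG'le : CochainComplex.IsLE G' b := by
    rw [CochainComplex.isLE_iff]
    exact hex'
  have hq' : QuasiIso (G'.ιTruncLE b) := (G'.quasiIso_ιTruncLE_iff b).2 hG'le
  have hiso' : IsIso (Q.map (G'.ιTruncLE b)) :=
    (DerivedCategory.isIso_Q_map_iff_quasiIso (φ := G'.ιTruncLE b)).2 hq'
  refine ⟨G'.truncLE b, ?_, termwiseFlat_truncLE G' _ hG'b hG'f b hex',
    ⟨asIso (Q.map (G'.ιTruncLE b)) ≪≫ (asIso (Q.map (G.πTruncGE a))).symm⟩⟩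
  intro i hi
  by_cases hib : b < i
  · exact (G'.truncLE b).isZero_of_isStrictlyLE b i hib
  · have hia : i < a := by
      rcases hi with hi | hi
      · exact hi
      · exact absurd hi hib
    have hz : IsZero (G'.X i) := G'.isZero_of_isStrictlyGE a i hia
    obtain hib' | rfl := lt_or_eq_of_le (not_lt.1 hib)
    · exact hz.of_iso (G'.truncLEXIso b i hib')
    · have : IsZero (G'.cycles i) := IsZero.of_mono (G'.iCycles i) hz
      exact this.of_iso (G'.truncLEXIsoCycles i)

section MathlibTor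

variable {X : ModuleCat.{u} R} (P : ProjectiveResolution X)

/-- comparison of exactness for the `ℤ`-indexed and the `ℕ`-indexed complexes -/
lemma exactAt_map_cochainComplex_iff (F : ModuleCat.{u} R ⥤ ModuleCat.{u} R) [F.Additive] (q : ℕ)
    (n₁ n₂ n₃ : ℤ) (h₁ : -((q + 2 : ℕ) : ℤ) = n₁) (h₂ : -((q + 1 : ℕ) : ℤ) = n₂)
    (h₃ : -(q : ℤ) = n₃) :
    ((F.mapHomologicalComplex (ComplexShape.up ℤ)).obj P.cochainComplex).ExactAt n₂ ↔
      ((F.mapHomologicalComplex (ComplexShape.down ℕ)).obj P.complex).ExactAt (q + 1) := by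
  have h1 : (ComplexShape.up ℤ).prev n₂ = n₁ := by
    simp only [CochainComplex.prev]
    push_cast at h₁ h₂
    lia
  have h2 : (ComplexShape.up ℤ).next n₂ = n₃ := by
    simp only [CochainComplex.next]
    push_cast at h₂
    lia
  rw [HomologicalComplex.exactAt_iff' _ n₁ n₂ n₃ h1 h2,
    HomologicalComplex.exactAt_iff' _ (q + 2) (q + 1) q (by simp) (by simp)]
  have e : P.cochainComplex.sc' n₁ n₂ n₃ ≅ P.complex.sc' (q + 2) (q + 1) q := by
    refine ShortComplex.isoMk (P.cochainComplexXIso n₁ (q + 2) h₁)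
      (P.cochainComplexXIso n₂ (q + 1) h₂) (P.cochainComplexXIso n₃ q h₃) ?_ ?_
    · show (P.cochainComplexXIso n₁ (q + 2) h₁).hom ≫ P.complex.d (q + 2) (q + 1) =
        P.cochainComplex.d n₁ n₂ ≫ (P.cochainComplexXIso n₂ (q + 1) h₂).hom
      rw [P.cochainComplex_d n₁ n₂ (q + 2) (q + 1) h₁ h₂]
      simp
    · show (P.cochainComplexXIso n₂ (q + 1) h₂).hom ≫ P.complex.d (q + 1) q =
        P.cochainComplex.d n₂ n₃ ≫ (P.cochainComplexXIso n₃ q h₃).hom
      rw [P.cochainComplex_d n₂ n₃ (q + 1) q h₂ h₃]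
      simp
  exact ShortComplex.exact_iff_of_iso (F.mapShortComplex.mapIso e)

/-- vanishing of Mathlib's `Tor` gives exactness of the tensored resolution -/
lemma exactAt_TC_of_subsingleton_tor (M N : Type u) [AddCommGroup M] [Module R M]
    [AddCommGroup N] [Module R N] (P : ProjectiveResolution (ModuleCat.of R N)) (q : ℕ)
    (h : Subsingleton (DRing.Tor R (q + 1) M N)) :
    ((TC (ModuleCat.of R M)).obj P.cochainComplex).ExactAt (-((q + 1 : ℕ) : ℤ)) := by
  rw [exactAt_map_cochainComplex_iff P _ q (-((q + 2 : ℕ) : ℤ)) _ (-(q : ℤ)) rfl rfl rfl,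
    HomologicalComplex.exactAt_iff_isZero_homology]
  have e := P.isoLeftDerivedObj (tensorLeft (ModuleCat.of R M)) (q + 1)
  have hz : IsZero (((Tor (ModuleCat.{u} R) (q + 1)).obj (ModuleCat.of R M)).obj (ModuleCat.of R N)) :=
    ModuleCat.isZero_of_subsingleton _
  exact hz.of_iso e.symm

end MathlibTor

end Groth.Agent.Lib.Helper1.Tor
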