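import Mathlib
import Groth.Agent.Lib.Helper1TorH
import Groth.Agent.Lib.Helper13TorBal
import Groth.Agent.Lib.Helper1Restrict
import Groth.Agent.Lib.Helper1Devissage
import Groth.Agent.S6313
import Groth.Agent.S6314

/-!
# Tor dimension of modules vs tor amplitude; restriction along algebras of finite tor dimension (helper1)
-/
set_option autoImplicit false
set_option maxHeartbeats 400000
universe u
open CategoryTheory CategoryTheory.Limits MonoidalCategory
attribute [local instance] HasDerivedCategory.standard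

namespace Groth.Agent.Lib.Helper1.TorDim

open DerivedCategory Pretriangulated Groth.Agent.Lib.Helper1.Tor ZeroObject TensorProduct
open Groth.Agent.Lib.Helper1.Restrict Groth.Agent.Lib.Helper1.Devissage

lemma exact_of_ladder {X₁ X₂ X₃ Y₁ Y₂ Y₃ : Type*} [Zero X₃] [Zero Y₃] (f₁ : X₁ → X₂) (f₂ : X₂ → X₃)
    (g₁ : Y₁ → Y₂) (g₂ : Y₂ → Y₃) (e₁ : X₁ ≃ Y₁) (e₂ : X₂ ≃ Y₂) (e₃ : X₃ ≃ Y₃) (he₃ : e₃ 0 = 0)
    (h₁ : ∀ x, g₁ (e₁ x) = e₂ (f₁ x)) (h₂ : ∀ x, g₂ (e₂ x) = e₃ (f₂ x))
    (H : Function.Exact f₁ f₂) : Function.Exact g₁ g₂ := by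
  intro y
  obtain ⟨x, rfl⟩ := e₂.surjective y
  rw [h₂, ← he₃, e₃.injective.eq_iff, H x]
  constructor
  · rintro ⟨w, rfl⟩
    exact ⟨e₁ w, h₁ w⟩
  · rintro ⟨w, hw⟩
    obtain ⟨w, rfl⟩ := e₁.surjective w
    rw [h₁] at hw
    exact ⟨w, e₂.injective hw⟩

section
variable {A B : Type*} [CommRing A] [CommRing B] [Algebra A B] (F : Type*) [AddCommGroup F]
  [Module A F] [Module B F] [IsScalarTower A B F]

lemma cancel_nat {X Y : Type*} [AddCommGroup X] [Module A X] [AddCommGroup Y] [Module A Y]
    (f : X →ₗ[A] Y) (t : F ⊗[B] (B ⊗[A] X)) :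
    (f.lTensor F) (AlgebraTensorModule.cancelBaseChange A B B F X t) =
      AlgebraTensorModule.cancelBaseChange A B B F Y (((f.baseChange B).lTensor F) t) := by
  induction t using TensorProduct.induction_on with
  | zero => simp
  | add x y hx hy => simp only [map_add, hx, hy]
  | tmul m s =>
    induction s using TensorProduct.induction_on with
    | zero => simp
    | add x y hx hy => simp only [tmul_add, map_add, hx, hy]
    | tmul b x => simp

lemma exact_lTensor_of_flat_algebra [Module.Flat B F] {X Y Z : Type*} [AddCommGroup X] [Module A X]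
    [AddCommGroup Y] [Module A Y] [AddCommGroup Z] [Module A Z] (f : X →ₗ[A] Y) (g : Y →ₗ[A] Z)
    (h : Function.Exact (f.lTensor B) (g.lTensor B)) :
    Function.Exact (f.lTensor F) (g.lTensor F) := by
  have h' : Function.Exact (f.baseChange B) (g.baseChange B) := by
    intro y
    exact h y
  have H := Module.Flat.lTensor_exact F h'
  exact exact_of_ladder _ _ _ _
    (AlgebraTensorModule.cancelBaseChange A B B F X).toEquiv
    (AlgebraTensorModule.cancelBaseChange A B B F Y).toEquiv
    (AlgebraTensorModule.cancelBaseChange A B B F Z).toEquiv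
    (map_zero (AlgebraTensorModule.cancelBaseChange A B B F Z))
    (fun t => cancel_nat F f t) (fun t => cancel_nat F g t) H

end

variable {R : Type u} [CommRing R]

/-- `Tor_{q+1}(M, N)` (Mathlib's, resolving `N`) vanishes iff `N ⊗ P_M` is exact at `-(q+1)`, for a
projective resolution `P_M` of `M` (balancing). -/
lemma exactAt_TC_iff_subsingleton_tor (M N : Type u) [AddCommGroup M] [Module R M]
    [AddCommGroup N] [Module R N] (P : ProjectiveResolution (ModuleCat.of R M)) (q : ℕ) :
    ((TC (ModuleCat.of R N)).obj P.cochainComplex).ExactAt (-((q + 1 : ℕ) : ℤ)) ↔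
      Subsingleton (DRing.Tor R (q + 1) M N) := by
  rw [exactAt_map_cochainComplex_iff P _ q (-((q + 2 : ℕ) : ℤ)) _ (-(q : ℤ)) rfl rfl rfl,
    HomologicalComplex.exactAt_iff_isZero_homology]
  obtain ⟨e⟩ := Groth.Agent.Helper13Tor.nonempty_tor_iso_homology (ModuleCat.of R M)
    (ModuleCat.of R N) P (q + 1)
  have e2 : ((tensorLeft (ModuleCat.of R N)).mapHomologicalComplex (ComplexShape.down ℕ)).obj
      P.complex ≅ ((tensorRight (ModuleCat.of R N)).mapHomologicalComplex
        (ComplexShape.down ℕ)).obj P.complex :=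
    (NatIso.mapHomologicalComplex (BraidedCategory.tensorLeftIsoTensorRight (ModuleCat.of R N))
      (ComplexShape.down ℕ)).app P.complex
  have e3 := (HomologicalComplex.homologyFunctor _ _ (q + 1)).mapIso e2
  constructor
  · intro h
    exact ModuleCat.subsingleton_of_isZero (h.of_iso (e ≪≫ e3.symm))
  · intro h
    have hz : IsZero (((Tor (ModuleCat.{u} R) (q + 1)).obj (ModuleCat.of R M)).obj
        (ModuleCat.of R N)) := ModuleCat.isZero_of_subsingleton _
    exact hz.of_iso (e3 ≪≫ e.symm)

/-- the complex of a projective resolution represents the module -/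
noncomputable def resIso (M : Type u) [AddCommGroup M] [Module R M]
    (P : ProjectiveResolution (ModuleCat.of R M)) : Q.obj P.cochainComplex ≅ Dual.inD R M :=
  asIso (Q.map P.π') ≪≫ ((singleFunctorIsoCompQ (ModuleCat.{u} R) 0).app _).symm

theorem hasTorDimLE_iff_hasTorAmp (M : Type u) [AddCommGroup M] [Module R M] (d : ℕ) :
    DRing.HasTorDimLE R d M ↔ DRing.HasTorAmplitudeIn R (-(d : ℤ)) 0 (Dual.inD R M) := by
  let P := ProjectiveResolution.of (ModuleCat.of R M)
  set G := P.cochainComplex with hG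
  have e : Q.obj G ≅ Dual.inD R M := resIso M P
  have hGb : DRing.VanishesAbove G 0 := fun i hi => G.isZero_of_isStrictlyLE 0 i hi
  have hGf : DRing.TermwiseFlat G := termwiseFlat_of_projective G (fun k => inferInstance)
  constructor
  · intro h
    refine hasTorAmp_of_iso e (hasTorAmp_of_torVan G 0 hGb hGf _ 0 ?_)
    intro N i hi
    rcases hi with hi | hi
    · obtain ⟨q, hq⟩ : ∃ q : ℕ, i = -((q + 1 : ℕ) : ℤ) := ⟨(-i - 1).toNat, by push_cast; omega⟩
      subst hq
      have hdq : d < q + 1 := by push_cast at hi; omega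
      exact (exactAt_TC_iff_subsingleton_tor M N P q).2 (h N (q + 1) hdq)
    · exact exactAt_of_isZero_X _ i ((T N).map_isZero (hGb i hi))
  · rintro ⟨E, hE, hEf, ⟨e'⟩⟩ N _ _ p hp
    have htv : TorVan G (-(d : ℤ)) 0 := torVan_of_iso G E 0 hGb hGf _ 0 hE hEf (e' ≪≫ e.symm)
    obtain ⟨q, rfl⟩ : ∃ q, p = q + 1 := ⟨p - 1, by omega⟩
    exact (exactAt_TC_iff_subsingleton_tor M N P q).1
      (htv (ModuleCat.of R N) _ (Or.inl (by push_cast; omega)))

theorem hasTorDimLE_zero_iff_flat (M : Type u) [AddCommGroup M] [Module R M] :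
    DRing.HasTorDimLE R 0 M ↔ Module.Flat R M := by
  constructor
  · intro h
    rw [Groth.Agent.S6313.result R M]
    intro I _
    have := h (R ⧸ I) 1 (by omega)
    exact ModuleCat.isZero_of_subsingleton _
  · intro h N _ _ p hp
    exact ModuleCat.subsingleton_of_isZero (Groth.Agent.S6314.result R M (ModuleCat.of R N) p hp)

/-- exactness of `X ⊗ P` at `q+1` for a chain complex, as exactness of linear maps -/
lemma exactAt_tensorLeft_iff (X : ModuleCat.{u} R) (P : ChainComplex (ModuleCat.{u} R) ℕ) (q : ℕ) :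
    (((tensorLeft X).mapHomologicalComplex (ComplexShape.down ℕ)).obj P).ExactAt (q + 1) ↔
      Function.Exact ((P.d (q + 2) (q + 1)).hom.lTensor X) ((P.d (q + 1) q).hom.lTensor X) := by
  rw [HomologicalComplex.exactAt_iff' _ (q + 2) (q + 1) q (by simp) (by simp),
    ShortComplex.ShortExact.moduleCat_exact_iff_function_exact]
  rfl

/-- vanishing of `Tor_{q+1}(X, N)` as exactness of the tensored resolution of `N` -/
lemma subsingleton_tor_iff (X N : Type u) [AddCommGroup X] [Module R X] [AddCommGroup N]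
    [Module R N] (P : ProjectiveResolution (ModuleCat.of R N)) (q : ℕ) :
    Subsingleton (DRing.Tor R (q + 1) X N) ↔
      Function.Exact ((P.complex.d (q + 2) (q + 1)).hom.lTensor X)
        ((P.complex.d (q + 1) q).hom.lTensor X) := by
  rw [← exactAt_tensorLeft_iff (ModuleCat.of R X) P.complex q,
    HomologicalComplex.exactAt_iff_isZero_homology]
  have e := P.isoLeftDerivedObj (tensorLeft (ModuleCat.of R X)) (q + 1)
  constructor
  · intro h
    have hz : IsZero (((Tor (ModuleCat.{u} R) (q + 1)).obj (ModuleCat.of R X)).obj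
        (ModuleCat.of R N)) := ModuleCat.isZero_of_subsingleton _
    exact hz.of_iso e.symm
  · intro h
    exact ModuleCat.subsingleton_of_isZero (h.of_iso e)

theorem hasTorDimLE_of_flat_algebra {A B : Type u} [CommRing A] [CommRing B] [Algebra A B] (d : ℕ)
    (hB : DRing.HasTorDimLE A d B) (F : Type u) [AddCommGroup F] [Module A F] [Module B F]
    [IsScalarTower A B F] [Module.Flat B F] : DRing.HasTorDimLE A d F := by
  intro N _ _ p hp
  obtain ⟨q, rfl⟩ : ∃ q, p = q + 1 := ⟨p - 1, by omega⟩
  let P := ProjectiveResolution.of (ModuleCat.of A N)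
  rw [subsingleton_tor_iff F N P q]
  exact exact_lTensor_of_flat_algebra F _ _ ((subsingleton_tor_iff B N P q).1 (hB N (q + 1) hp))

/-- restriction of scalars of a flat module over an algebra of tor dimension `≤ d` has tor
amplitude in `[-d, 0]` -/
theorem hasTorAmp_restrict_flat {A B : Type u} [CommRing A] [CommRing B] [Algebra A B] (d : ℕ)
    (hB : DRing.HasTorAmplitudeIn A (-(d : ℤ)) 0 (Dual.inD A B)) (F : ModuleCat.{u} B)
    [Module.Flat B F] :
    DRing.HasTorAmplitudeIn A (-(d : ℤ)) 0
      ((DerivedCategory.singleFunctor (ModuleCat.{u} A) 0).obj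
        ((ModuleCat.restrictScalars.{u} (algebraMap A B)).obj F)) := by
  let _ : Module A F := Module.compHom F (algebraMap A B)
  have : IsScalarTower A B F := IsScalarTower.of_algebraMap_smul (fun r m => rfl)
  have h1 : DRing.HasTorDimLE A d F :=
    hasTorDimLE_of_flat_algebra d ((hasTorDimLE_iff_hasTorAmp B d).2 hB) F
  exact (hasTorDimLE_iff_hasTorAmp F d).1 h1

theorem hasTorAmp_restrictD {A B : Type u} [CommRing A] [CommRing B]
    [Algebra A B] (d : ℕ) (hB : DRing.HasTorAmplitudeIn A (-(d : ℤ)) 0 (Dual.inD A B)) (K : Dual.D B)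
    (a b : ℤ) (hK : DRing.HasTorAmplitudeIn B a b K) :
    DRing.HasTorAmplitudeIn A (a - d) b ((DRing.restrictD (algebraMap A B)).obj K) := by
  obtain ⟨E, hE, hEf, ⟨e⟩⟩ := hK
  refine hasTorAmp_of_iso ((DRing.restrictD (algebraMap A B)).mapIso e) ?_
  let P : ObjectProperty (DerivedCategory (ModuleCat.{u} B)) := fun X =>
    DRing.HasTorAmplitudeIn A (a - d) b ((DRing.restrictD (algebraMap A B)).obj X)
  have hPiso : P.IsClosedUnderIsomorphisms := ⟨fun {X Y} e h =>
    hasTorAmp_of_iso ((DRing.restrictD (algebraMap A B)).mapIso e) h⟩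
  refine induction_terms' P (fun X hX => hasTorAmp_of_isZero _
    ((DRing.restrictD (algebraMap A B)).map_isZero hX) _ _) (fun T hT h₁ h₃ => ?_)
    (fun j X Y ⟨e⟩ h => hasTorAmp_of_iso ((DRing.restrictD (algebraMap A B)).mapIso
      ((DerivedCategory.singleFunctor _ j).mapIso e)) h) E a b hE (fun j hj1 hj2 => ?_)
  · have hT' := (DRing.restrictD (algebraMap A B)).map_distinguished T hT
    exact (hasTorAmp_two_out_of_three _ _ _ hT').2.1 h₁ h₃
  · have := hEf j
    refine hasTorAmp_of_iso (restrictDSingleIso (algebraMap A B) (E.X j) j).symm ?_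
    refine hasTorAmp_single _ _ _ j ?_
    exact hasTorAmp_mono (by lia) (by lia) (hasTorAmp_restrict_flat d hB (E.X j))

end Groth.Agent.Lib.Helper1.TorDim
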