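import Mathlib
import Groth.Agent.Lib.Helper10BCE
import Groth.Agent.Lib.Helper1TorDim
import Groth.Agent.Lib.Helper1KF12
set_option backward.isDefEq.respectTransparency.types false

/-!
# Base change for `RHom(K, M)` along a ring map of finite tor dimension,
`K` pseudo-coherent, `M` bounded below (helper10)
-/

set_option autoImplicit false
set_option maxHeartbeats 400000
universe u
open CategoryTheory CategoryTheory.Limits MonoidalCategory HomologicalComplex
attribute [local instance] HasDerivedCategory.standard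

namespace Groth.Agent.Lib.Helper10.BCF

open DerivedCategory Groth.Agent.Lib.Helper1.KF Groth.Agent.Lib.Helper1.DT DTen
  Groth.Agent.Lib.Helper10.BCA Groth.Agent.Lib.Helper10.BCB Groth.Agent.Lib.Helper10.BCC
  Groth.Agent.Lib.Helper10.BCD Groth.Agent.Lib.Helper10.BCE
  Groth.Agent.Lib.Helper10.DTenA Groth.Agent.Lib.Helper10.DistPair
  Groth.Agent.Lib.Helper10.TensHomD Groth.Agent.Lib.Helper10.PerfInd
  Groth.Agent.Lib.Helper10.UnitHom Groth.Agent.Lib.Helper10.Amp Groth.Agent.Lib.Helper1.PC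

section Tensor

variable {A : Type u} [CommRing A]

/-- the tensor product of complexes bounded below by `r` and `c` is bounded below by `r + c` -/
lemma tensor_isStrictlyGE (P P' : Cx A) (r c : ℤ) [P.IsStrictlyGE r] [P'.IsStrictlyGE c] :
    (P ⊗ P').IsStrictlyGE (r + c) := by
  rw [CochainComplex.isStrictlyGE_iff]
  intro m hm
  rw [IsZero.iff_id_eq_zero]
  apply tensor_hom_ext
  intro p q hpq
  have hz : IsZero (P.X p ⊗ P'.X q) := by
    by_cases hp : p < r
    · exact (tensorRight (P'.X q)).map_isZero (P.isZero_of_isStrictlyGE r p hp)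
    · exact (tensorLeft (P.X p)).map_isZero (P'.isZero_of_isStrictlyGE c q (by omega))
  exact hz.eq_of_src _ _

end Tensor

section TorAmp

variable {R R' : Type u} [CommRing R] [CommRing R'] (φ : R →+* R') [HasLTen R]

/-- termwise base change of a K-projective resolution of a complex in degrees `≥ k`, along a map
of tor amplitude `[-d, 0]`, is exact below `k - d` -/
lemma isGE_extCx_of_torAmp (d : ℕ) (F : Cx R) (hF : DRing.VanishesOutside F (-(d : ℤ)) 0)
    (hFf : DRing.TermwiseFlat F) (eF : Q.obj F ≅ Q.obj (sgl (resA φ)))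
    (P Y : Cx R) [P.IsKProjective] (k : ℤ) [Y.IsStrictlyGE k] (π : P ⟶ Y) [QuasiIso π] :
    ((extCx φ).obj P).IsGE (k - d) := by
  haveI : F.IsStrictlyGE (-(d : ℤ)) := by
    rw [CochainComplex.isStrictlyGE_iff]
    exact fun i hi => hF i (Or.inl hi)
  haveI := tensor_isStrictlyGE F Y (-(d : ℤ)) k
  have hFk : KFlat F := kflat_of_boundedAbove_flat F 0 (fun q hq => hF q (Or.inr hq)) hFf
  haveI h1 : IsIso ((ε R).app (sgl (resA φ), P)) :=
    isIso_ε_of_kflat _ _ (Or.inr (kflat_of_isKProjective P))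
  haveI h2 : IsIso ((ε R).app (F, Y)) := isIso_ε_of_kflat _ _ (Or.inl hFk)
  haveI h3 : IsIso (Q.map π) := (DerivedCategory.isIso_Q_map_iff_quasiIso (φ := π)).2 inferInstance
  let e : Q.obj (sgl (resA φ) ⊗ P) ≅ Q.obj (F ⊗ Y) :=
    (asIso ((ε R).app (sgl (resA φ), P))).symm ≪≫
      (LTen₂ R).mapIso (Iso.prod eF.symm (asIso (Q.map π))) ≪≫ asIso ((ε R).app (F, Y))
  haveI : (Q.obj (F ⊗ Y)).IsGE (-(d : ℤ) + k) := inferInstance
  have hGE : (Q.obj (sgl (resA φ) ⊗ P)).IsGE (k - d) := by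
    have : (Q.obj (sgl (resA φ) ⊗ P)).IsGE (-(d : ℤ) + k) := TStructure.t.isGE_of_iso e.symm _
    have hk : k - (d : ℤ) = -(d : ℤ) + k := by ring
    rw [hk]
    exact this
  rw [isGE_Q_obj_iff, CochainComplex.isGE_iff] at hGE
  rw [CochainComplex.isGE_iff]
  intro j hj
  rw [exactAt_extCx_iff]
  have h4 := hGE j hj
  rw [exactAt_iff_isZero_homology] at h4 ⊢
  exact IsZero.of_iso h4 ((homologyFunctor _ _ j).mapIso (singleTensorIso (resA φ) P))

end TorAmp

section LBaseGE

variable {R R' : Type u} [CommRing R] [CommRing R'] (φ : R →+* R') [HasLTen R] [HasLBase φ]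

/-- derived base change along a map of tor amplitude `[-d, 0]` lowers the cohomological lower
bound by at most `d` -/
lemma isGE_LBase_of_torAmp (d : ℕ)
    (hB : DRing.HasTorAmplitudeIn R (-(d : ℤ)) 0 (Q.obj (sgl (resA φ)))) (X : Dual.D R) (k : ℤ)
    [X.IsGE k] : ((LBase φ).obj X).IsGE (k - d) := by
  obtain ⟨F, hF, hFf, ⟨eF⟩⟩ := hB
  obtain ⟨Y, hY, ⟨e⟩⟩ := X.exists_iso_Q_obj_of_isGE k
  obtain ⟨P, π, hP, -, hπ, -⟩ := exists_kprojective_resolution Y
  haveI := hP
  haveI := hπ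
  haveI := hY
  haveI := isIso_baseCmp_of_isKProjective φ P
  haveI h3 : IsIso (Q.map π) := (DerivedCategory.isIso_Q_map_iff_quasiIso (φ := π)).2 inferInstance
  haveI h4 : ((extCx φ).obj P).IsGE (k - d) := isGE_extCx_of_torAmp φ d F hF hFf eF P Y k π
  haveI h5 : (Q.obj ((extCx φ).obj P)).IsGE (k - d) := (isGE_Q_obj_iff _ _).2 h4
  let e' : (LBase φ).obj X ≅ Q.obj ((extCx φ).obj P) :=
    (LBase φ).mapIso (e ≪≫ (asIso (Q.map π)).symm) ≪≫ asIso ((baseCmp φ).app P)
  exact TStructure.t.isGE_of_iso e'.symm (k - d)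

end LBaseGE

section Main

open CategoryTheory.Pretriangulated CategoryTheory.Pretriangulated.Opposite Opposite

variable {R R' : Type u} [CommRing R] [CommRing R'] (φ : R →+* R')
  [HasLTen R] [HasLTen R'] [HasRHom R] [HasRHom R'] [HasLBase φ] [HasResTen φ] [ResLegIso φ]

/-- **base change for `RHom(K, M)`, `K` pseudo-coherent, `M` bounded below, along a map whose
derived base change has bounded cohomological amplitude** -/
theorem isIso_bcRHom_of_isGE_LBase (d : ℕ)
    (hL : ∀ (X : Dual.D R) (k : ℤ), X.IsGE k → ((LBase φ).obj X).IsGE (k - d))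
    (K M : Dual.D R) [IsIso (rhomBC φ K ((LBase φ).obj M))]
    (hK : DRing.IsPseudoCoherent' R K) (n : ℤ) [M.IsGE n] : IsIso (bcRHom φ K M) := by
  obtain ⟨E, bE, hEb, hEff, ⟨eK⟩⟩ := hK
  suffices h : IsIso ((bcNat φ M).app (op (Q.obj E))) from
    isIso_app_of_iso (bcNat φ M) eK.symm.op h
  haveI : ((LBase φ).obj M).IsGE (n - d) := hL M n inferInstance
  -- vanishing bounds
  have vF : ∀ (C' : Dual.D R) (c i : ℤ), C'.IsLE c → i < n - c - d →
      ∀ ψ : U R' i ⟶ (FF φ M).obj (op C'), ψ = 0 := by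
    intro C' c i hC' hi ψ
    haveI := hC'
    haveI : ((RHomR R C').obj M).IsGE (n - c) := isGE_RHom C' M c n
    haveI : ((LBase φ).obj ((RHomR R C').obj M)).IsGE (n - c - d) := hL _ (n - c) inferInstance
    exact hom_eq_zero_of_isGE (n - c - d) ((LBase φ).obj ((RHomR R C').obj M)) i hi ψ
  have vG : ∀ (C' : Dual.D R) (c i : ℤ), C'.IsLE c → i < n - d - c →
      ∀ ψ : U R' i ⟶ (GG φ M).obj (op C'), ψ = 0 := by
    intro C' c i hC' hi ψ
    haveI := hC'
    haveI : ((LBase φ).obj C').IsLE c := isLE_LBase φ C' c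
    haveI : ((RHomR R' ((LBase φ).obj C')).obj ((LBase φ).obj M)).IsGE (n - d - c) :=
      isGE_RHom ((LBase φ).obj C') ((LBase φ).obj M) c (n - d)
    exact hom_eq_zero_of_isGE (n - d - c)
      ((RHomR R' ((LBase φ).obj C')).obj ((LBase φ).obj M)) i hi ψ
  apply isIso_of_bijective
  intro i
  obtain ⟨m, hm⟩ : ∃ m : ℤ, m = n - d - i - 1 := ⟨_, rfl⟩
  have hperf := Groth.Agent.Lib.Helper10.DTenG.isPerfect_sigmaGE E bE hEb hEff m
  haveI := isIso_rhomBC φ (Q.obj (sigmaGE E m)) ((LBase φ).obj M)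
  haveI : IsIso ((bcNat φ M).app (op (Q.obj (sigmaGE E m)))) :=
    isIso_bcRHom_of_isPerfect φ M _ hperf
  obtain ⟨C', β, γ, hT⟩ := distinguished_cocone_triangle (Q.map (sigmaGEι E m))
  haveI hC : C'.IsLE (m - 1) := (conn_iff_of_distTriang _ hT m).1 (conn_sigmaGEι E m)
  haveI hC1 : (C'⟦(-1 : ℤ)⟧).IsLE m := TStructure.t.isLE_shift C' (m - 1) (-1) m (by omega)
  exact bijective_app_of_bijective' (bcNat φ M) (Q.map (sigmaGEι E m)).op (U R' i)
    (bijective_of_hdistOp (hdistOp_FF φ M) _ hT (U R' i)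
      (vF _ m i hC1 (by omega)) (vF _ (m - 1) i hC (by omega)))
    (bijective_of_hdistOp (hdistOp_GG φ M) _ hT (U R' i)
      (vG _ m i hC1 (by omega)) (vG _ (m - 1) i hC (by omega)))

/-- **base change for `RHom(K, M)`, `K` pseudo-coherent, `M` bounded below, along a map of tor
amplitude `[-d, 0]`** -/
theorem isIso_bcRHom_of_torAmp_of_isPseudoCoherent (d : ℕ)
    (hB : DRing.HasTorAmplitudeIn R (-(d : ℤ)) 0 (Q.obj (sgl (resA φ))))
    (K M : Dual.D R) [IsIso (rhomBC φ K ((LBase φ).obj M))]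
    (hK : DRing.IsPseudoCoherent' R K) (n : ℤ) [M.IsGE n] : IsIso (bcRHom φ K M) :=
  isIso_bcRHom_of_isGE_LBase φ d
    (fun X k hX => by haveI := hX; exact isGE_LBase_of_torAmp φ d hB X k) K M hK n

end Main

section Alg

variable (R R' : Type u) [CommRing R] [CommRing R'] [Algebra R R']

/-- `R'` as an `R`-module through restriction of scalars -/
noncomputable def resALinearEquiv : (resA (algebraMap R R')) ≃ₗ[R] R' :=
  { toFun := fun x => x
    invFun := fun x => x
    left_inv := fun _ => rfl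
    right_inv := fun _ => rfl
    map_add' := fun _ _ => rfl
    map_smul' := fun r x => by
      refine (ModuleCat.restrictScalars.smul_def (algebraMap R R') r x).trans ?_
      simp only [RingHom.id_apply]
      exact (@Algebra.smul_def R R' _ _ _ r x).symm }

/-- an algebra of tor dimension `≤ d` has tor amplitude `[-d, 0]` -/
lemma hasTorAmp_resA (d : ℕ) (h : DRing.HasTorDimLE R d R') :
    DRing.HasTorAmplitudeIn R (-(d : ℤ)) 0 (Q.obj (sgl (resA (algebraMap R R')))) := by
  have h1 : DRing.HasTorAmplitudeIn R (-(d : ℤ)) 0 (Dual.inD R R') :=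
    (Groth.Agent.Lib.Helper1.TorDim.hasTorDimLE_iff_hasTorAmp R' d).1 h
  let e1 : Dual.inD R R' ≅ Q.obj (sgl (ModuleCat.of R R')) :=
    (singleFunctorIsoCompQ (ModuleCat.{u} R) 0).app (ModuleCat.of R R')
  let e2 : ModuleCat.of R R' ≅ resA (algebraMap R R') :=
    (LinearEquiv.toModuleIso (resALinearEquiv R R')).symm
  let e3 : Q.obj (sgl (ModuleCat.of R R')) ≅ Q.obj (sgl (resA (algebraMap R R'))) :=
    Q.mapIso ((HomologicalComplex.single (ModuleCat.{u} R) (ComplexShape.up ℤ) 0).mapIso e2)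
  exact Groth.Agent.Lib.Helper1.Tor.hasTorAmp_of_iso (e1 ≪≫ e3) h1

end Alg

end Groth.Agent.Lib.Helper10.BCF
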