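import Mathlib

/-!
# Flat base change of submodules: images, `I • ⊤`, intersections
-/

set_option autoImplicit false
universe u v w

namespace Groth.Agent.Lib.Helper10

open TensorProduct

section

variable {A : Type u} [CommRing A] (B : Type v) [CommRing B] [Algebra A B]
variable {M : Type w} {N : Type w} [AddCommGroup M] [Module A M] [AddCommGroup N] [Module A N]

/-- base change of submodules commutes with images (no flatness needed) -/
theorem baseChange_map (f : M →ₗ[A] N) (p : Submodule A M) :
    (Submodule.map f p).baseChange B = Submodule.map (f.baseChange B) (p.baseChange B) := by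
  rw [Submodule.baseChange_eq_span, Submodule.baseChange_eq_span, Submodule.map_span]
  congr 1
  ext t
  constructor
  · rintro ⟨y, ⟨x, hx, rfl⟩, rfl⟩
    exact ⟨(1 : B) ⊗ₜ[A] x, ⟨x, hx, rfl⟩, by simp⟩
  · rintro ⟨_, ⟨x, hx, rfl⟩, rfl⟩
    exact ⟨f x, ⟨x, hx, rfl⟩, by simp⟩

theorem baseChange_range (f : M →ₗ[A] N) :
    (LinearMap.range f).baseChange B = LinearMap.range (f.baseChange B) := by
  rw [← Submodule.map_top, baseChange_map, Submodule.baseChange_top, Submodule.map_top]

/-- base change of `J • ⊤` (no flatness needed) -/
theorem baseChange_smul_top (J : Ideal A) :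
    (J • (⊤ : Submodule A N)).baseChange B =
      (J.map (algebraMap A B)) • (⊤ : Submodule B (B ⊗[A] N)) := by
  apply le_antisymm
  · rw [Submodule.baseChange_eq_span, Submodule.span_le]
    rintro _ ⟨y, hy, rfl⟩
    change (1 : B) ⊗ₜ[A] y ∈ _
    refine Submodule.smul_induction_on hy ?_ ?_
    · intro r hr x _
      have : (1 : B) ⊗ₜ[A] (r • x) = algebraMap A B r • ((1 : B) ⊗ₜ[A] x) := by
        rw [TensorProduct.smul_tmul', ← TensorProduct.smul_tmul, Algebra.smul_def, smul_eq_mul]
      rw [this]
      exact Submodule.smul_mem_smul (Ideal.mem_map_of_mem _ hr) trivial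
    · intro x y hx hy
      rw [TensorProduct.tmul_add]
      exact Submodule.add_mem _ hx hy
  · rw [Submodule.smul_le]
    intro b hb t _
    have key : ∀ (r : A), r ∈ J → ∀ t : B ⊗[A] N,
        algebraMap A B r • t ∈ (J • (⊤ : Submodule A N)).baseChange B := by
      intro r hr t
      induction t using TensorProduct.induction_on with
      | zero => simp
      | tmul b' x =>
        have : algebraMap A B r • (b' ⊗ₜ[A] x) = b' ⊗ₜ[A] (r • x) := by
          rw [TensorProduct.smul_tmul', smul_eq_mul, ← Algebra.smul_def,
            TensorProduct.smul_tmul]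
        rw [this]
        exact Submodule.tmul_mem_baseChange_of_mem _ (Submodule.smul_mem_smul hr trivial)
      | add t₁ t₂ h₁ h₂ =>
        rw [smul_add]
        exact Submodule.add_mem _ h₁ h₂
    induction hb using Submodule.span_induction with
    | mem b hb =>
      obtain ⟨r, hr, rfl⟩ := hb
      exact key r hr t
    | zero => simp
    | add b₁ b₂ _ _ h₁ h₂ =>
      rw [add_smul]
      exact Submodule.add_mem _ h₁ h₂
    | smul c b _ h =>
      rw [smul_eq_mul, mul_smul]
      exact Submodule.smul_mem _ c h

/-- flat base change of submodules commutes with intersections -/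
theorem baseChange_inf [Module.Flat A B] (p q : Submodule A N) :
    (p ⊓ q).baseChange B = p.baseChange B ⊓ q.baseChange B := by
  apply le_antisymm
  · exact le_inf (Submodule.baseChange_mono B inf_le_left) (Submodule.baseChange_mono B inf_le_right)
  · rintro t ⟨⟨s, hs⟩, htq⟩
    -- `s : B ⊗ p`, `t = image of s`
    have hs' : (p.subtype.baseChange B) s = t := hs
    -- `t ∈ q.baseChange B = ker (B ⊗ N → B ⊗ N/q)`
    have hker : (q.mkQ.baseChange B) t = 0 := by
      obtain ⟨s', hs'⟩ := htq
      have : (q.mkQ.baseChange B) ((q.subtype.baseChange B) s') = 0 := by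
        have h0 : q.mkQ ∘ₗ q.subtype = 0 := by
          ext x
          simp
        have := LinearMap.congr_fun (LinearMap.baseChange_comp (A := B) (f := q.subtype) q.mkQ) s'
        rw [h0, LinearMap.baseChange_zero] at this
        exact this.symm
      rw [← hs']
      exact this
    -- exactness of `p ⊓ q → p → N / q` and flatness
    let i : ↥(p ⊓ q) →ₗ[A] ↥p := Submodule.inclusion inf_le_left
    let g : ↥p →ₗ[A] N ⧸ q := q.mkQ ∘ₗ p.subtype
    have hex : Function.Exact i g := by
      intro x
      constructor
      · intro hx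
        have hxq : (x : N) ∈ q := by
          have : q.mkQ (x : N) = 0 := hx
          rwa [Submodule.mkQ_apply, Submodule.Quotient.mk_eq_zero] at this
        exact ⟨⟨x, x.2, hxq⟩, rfl⟩
      · rintro ⟨y, rfl⟩
        change q.mkQ (y : N) = 0
        rw [Submodule.mkQ_apply, Submodule.Quotient.mk_eq_zero]
        exact y.2.2
    have hexB : Function.Exact (i.lTensor B) (g.lTensor B) := Module.Flat.lTensor_exact B hex
    have hgs : (g.lTensor B) s = 0 := by
      have h1 : (g.baseChange B) s = (q.mkQ.baseChange B) ((p.subtype.baseChange B) s) :=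
        LinearMap.congr_fun (LinearMap.baseChange_comp (A := B) (f := p.subtype) q.mkQ) s
      rw [hs', hker] at h1
      exact h1
    obtain ⟨r, hr⟩ := (hexB s).mp hgs
    refine ⟨r, ?_⟩
    have h2 : ((p ⊓ q).subtype.baseChange B) r = (p.subtype.baseChange B) ((i.baseChange B) r) := by
      have := LinearMap.congr_fun (LinearMap.baseChange_comp (A := B) (f := i) p.subtype) r
      have e : (p ⊓ q).subtype = p.subtype ∘ₗ i := rfl
      rw [e]
      exact this
    rw [h2, ← hs']
    congr 1

end

end Groth.Agent.Lib.Helper10
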