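import Mathlib
import Groth.Prelude.Def_Found
import Groth.Prelude.Def_W4stktopologysheavesDim
import Groth.Agent.Lib.Helper10Catenary

/-!
# Catenary spaces, order-theoretically (helper10)

* `OrdCat α`: order-theoretic catenarity of a partial order (`CAlg.IsCatenary R` is by definition
  `OrdCat (PrimeSpectrum R)`).
* `OrdCat.of_orderEmbedding`, `OrdCat.of_cover`, `OrdCat.dual`, `OrdCat.of_orderIso`.
* `isCatenarySpace_iff`: `PtTop.IsCatenarySpace X ↔ OrdCat (IrreducibleCloseds X)`.
* `icEmb`: order embedding on irreducible closed sets induced by an inducing map; its range is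
  order connected when the range of the map is locally closed.
* `isCatenarySpace_of_isInducing`, `isCatenarySpace_of_cover`, `isCatenarySpace_primeSpectrum_iff`.
-/

set_option autoImplicit false
open Topology TopologicalSpace Set

namespace Groth.Agent.Lib.Helper10.Catenary2

open Groth.Agent.Lib.Helper10.Catenary

universe u v

section Order

/-- Order-theoretic catenarity. -/
def OrdCat (α : Type*) [PartialOrder α] : Prop :=
  (∀ p q : α, p ≤ q → ∃ n : ℕ, ∀ s : LTSeries α, s.head = p → s.last = q → s.length ≤ n) ∧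
  ∀ s t : LTSeries α, s.head = t.head → s.last = t.last →
    (∀ i : Fin s.length, s (Fin.castSucc i) ⋖ s (Fin.succ i)) →
    (∀ i : Fin t.length, t (Fin.castSucc i) ⋖ t (Fin.succ i)) →
    s.length = t.length

theorem isCatenary_iff (R : Type u) [CommRing R] : CAlg.IsCatenary R ↔ OrdCat (PrimeSpectrum R) :=
  Iff.rfl

variable {α : Type*} {β : Type*} [PartialOrder α] [PartialOrder β]

theorem exists_lift (e : β ↪o α) (s : LTSeries α) (h : ∀ i, s i ∈ Set.range e) :
    ∃ s' : LTSeries β, s'.map e e.strictMono = s := by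
  choose f hf using h
  have hstep : ∀ i : Fin s.length, f i.castSucc < f i.succ := by
    intro i
    rw [← e.lt_iff_lt, hf, hf]
    exact s.step i
  refine ⟨⟨s.length, f, hstep⟩, ?_⟩
  refine RelSeries.ext rfl ?_
  funext i
  exact hf i

theorem OrdCat.of_orderEmbedding (e : β ↪o α) (hconv : (Set.range e).OrdConnected)
    (hA : OrdCat α) : OrdCat β := by
  obtain ⟨h1, h2⟩ := hA
  refine ⟨?_, ?_⟩
  · intro p q hpq
    obtain ⟨n, hn⟩ := h1 (e p) (e q) (e.monotone hpq)
    refine ⟨n, fun s hs ht => ?_⟩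
    have := hn (s.map e e.strictMono) (by rw [LTSeries.head_map, hs])
      (by rw [LTSeries.last_map, ht])
    simpa using this
  · intro s t hst hst' hs ht
    have := h2 (s.map e e.strictMono) (t.map e e.strictMono)
      (by rw [LTSeries.head_map, LTSeries.head_map, hst])
      (by rw [LTSeries.last_map, LTSeries.last_map, hst'])
      (fun i => (hconv.apply_covBy_apply_iff e).mpr (hs i))
      (fun i => (hconv.apply_covBy_apply_iff e).mpr (ht i))
    simpa using this

theorem le_last' (x : LTSeries α) (n : Fin (x.length + 1)) : x n ≤ x.last :=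
  x.strictMono.monotone (Fin.le_last n)

theorem OrdCat.of_cover
    (h : ∀ P Q : α, P ≤ Q → ∃ (β : Type v) (_ : PartialOrder β)
      (e : β ↪o α), (Set.range e).OrdConnected ∧ OrdCat β ∧
        P ∈ Set.range e ∧ Q ∈ Set.range e) : OrdCat α := by
  refine ⟨?_, ?_⟩
  · intro P Q hPQ
    obtain ⟨B, _, e, hconv, hB, ⟨P', rfl⟩, ⟨Q', rfl⟩⟩ := h P Q hPQ
    obtain ⟨n, hn⟩ := hB.1 P' Q' (e.le_iff_le.mp hPQ)
    refine ⟨n, fun s hs ht => ?_⟩
    have hmem : ∀ i, s i ∈ Set.range e := by
      intro i
      refine hconv.out ⟨P', rfl⟩ ⟨Q', rfl⟩ ⟨?_, ?_⟩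
      · rw [← hs]; exact LTSeries.head_le s i
      · rw [← ht]; exact le_last' s i
    obtain ⟨s', rfl⟩ := exists_lift e s hmem
    have := hn s' (e.injective (by simpa using hs)) (e.injective (by simpa using ht))
    simpa using this
  · intro s t hst hst' hs ht
    have hPQ : s.head ≤ s.last := LTSeries.head_le_last s
    obtain ⟨B, _, e, hconv, hB, ⟨P', hP'⟩, ⟨Q', hQ'⟩⟩ := h s.head s.last hPQ
    have hmems : ∀ i, s i ∈ Set.range e := by
      intro i
      refine hconv.out ⟨P', hP'⟩ ⟨Q', hQ'⟩ ⟨LTSeries.head_le s i, le_last' s i⟩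
    have hmemt : ∀ i, t i ∈ Set.range e := by
      intro i
      refine hconv.out ⟨P', hP'⟩ ⟨Q', hQ'⟩ ⟨?_, ?_⟩
      · rw [hst]; exact LTSeries.head_le t i
      · rw [hst']; exact le_last' t i
    obtain ⟨s', rfl⟩ := exists_lift e s hmems
    obtain ⟨t', rfl⟩ := exists_lift e t hmemt
    have := hB.2 s' t' (e.injective (by simpa using hst)) (e.injective (by simpa using hst'))
      (fun i => (hconv.apply_covBy_apply_iff e).mp (hs i))
      (fun i => (hconv.apply_covBy_apply_iff e).mp (ht i))
    simpa using this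

theorem OrdCat.of_orderIso (e : β ≃o α) (hA : OrdCat α) : OrdCat β := by
  refine OrdCat.of_orderEmbedding e.toOrderEmbedding ?_ hA
  have : Set.range e.toOrderEmbedding = Set.univ := e.surjective.range_eq
  rw [this]
  exact Set.ordConnected_univ

/-- Reverse an `LTSeries` of the order dual. -/
def revSeries (s : LTSeries αᵒᵈ) : LTSeries α where
  length := s.length
  toFun i := OrderDual.ofDual (s i.rev)
  step i := by
    have := s.step i.rev
    rw [← Fin.rev_succ, ← Fin.rev_castSucc] at this
    exact this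

theorem revSeries_head (s : LTSeries αᵒᵈ) : (revSeries s).head = OrderDual.ofDual s.last := by
  show OrderDual.ofDual (s (Fin.rev 0)) = _
  rw [Fin.rev_zero]; rfl

theorem revSeries_last (s : LTSeries αᵒᵈ) : (revSeries s).last = OrderDual.ofDual s.head := by
  show OrderDual.ofDual (s (Fin.rev (Fin.last _))) = _
  rw [Fin.rev_last]; rfl

theorem OrdCat.dual (hA : OrdCat α) : OrdCat αᵒᵈ := by
  obtain ⟨h1, h2⟩ := hA
  refine ⟨?_, ?_⟩
  · intro p q hpq
    obtain ⟨n, hn⟩ := h1 (OrderDual.ofDual q) (OrderDual.ofDual p) hpq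
    refine ⟨n, fun s hs ht => ?_⟩
    exact hn (revSeries s) (by rw [revSeries_head, ht]) (by rw [revSeries_last, hs])
  · intro s t hst hst' hs ht
    have hcov : ∀ r : LTSeries αᵒᵈ, (∀ i : Fin r.length, r (Fin.castSucc i) ⋖ r (Fin.succ i)) →
        ∀ i : Fin (revSeries r).length,
          (revSeries r) (Fin.castSucc i) ⋖ (revSeries r) (Fin.succ i) := by
      intro r hr i
      have := hr (Fin.rev i)
      rw [← Fin.rev_succ, ← Fin.rev_castSucc] at this
      exact this.ofDual
    exact h2 (revSeries s) (revSeries t)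
      (by rw [revSeries_head, revSeries_head, hst'])
      (by rw [revSeries_last, revSeries_last, hst]) (hcov s hs) (hcov t ht)

end Order

section Space

variable {X : Type u} [TopologicalSpace X]

theorem isCatenarySpace_iff : PtTop.IsCatenarySpace X ↔ OrdCat (IrreducibleCloseds X) := by
  constructor
  · intro h
    refine ⟨fun T T' hTT' => ?_, fun s t hh hl hs ht => ?_⟩
    · obtain ⟨h1, -⟩ := h T T' hTT'
      refine ⟨(PtTop.codim T (T' : Set X)).toNat, fun s hs hl => ?_⟩
      have := length_le_codim (T := T) (T' := (T' : Set X)) s hs (by rw [hl])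
      rw [← ENat.coe_toNat h1] at this
      exact_mod_cast this
    · have hTT' : s.head ≤ s.last := LTSeries.head_le_last s
      obtain ⟨-, h2⟩ := h s.head s.last hTT'
      have e1 := h2 s rfl rfl hs
      have e2 := h2 t hh.symm hl.symm ht
      have : (s.length : ℕ∞) = t.length := e1.trans e2.symm
      exact_mod_cast this
  · intro h T T' hTT'
    obtain ⟨n, hn⟩ := h.1 T T' hTT'
    have hle : PtTop.codim T (T' : Set X) ≤ n := by
      unfold PtTop.codim
      refine iSup₂_le fun s hs => ?_
      obtain ⟨hsh, hsl⟩ := hs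
      have hsl' : s.last ≤ T' := hsl
      rcases eq_or_lt_of_le hsl' with heq | hlt
      · exact_mod_cast hn s hsh heq
      · have := hn (s.snoc T' hlt) (by rw [RelSeries.head_snoc]; exact hsh)
          (by rw [RelSeries.last_snoc])
        rw [RelSeries.snoc_length] at this
        have : s.length ≤ n := by omega
        exact_mod_cast this
    have hne : PtTop.codim T (T' : Set X) ≠ ⊤ := ne_top_of_le_ne_top (ENat.coe_ne_top n) hle
    refine ⟨hne, fun s hsh hsl hs => ?_⟩
    obtain ⟨t, hth, htl, htlen, ht⟩ := exists_series_of_codim_ne_top hTT' hne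
    rw [← htlen]
    have := h.2 s t (hsh.trans hth.symm) (hsl.trans htl.symm) hs ht
    exact_mod_cast this

end Space

section Emb

variable {X : Type u} {Y : Type v} [TopologicalSpace X] [TopologicalSpace Y]

/-- The order embedding of irreducible closed subsets induced by an inducing map. -/
noncomputable def icEmb (f : Y → X) (hf : IsInducing f) :
    IrreducibleCloseds Y ↪o IrreducibleCloseds X :=
  OrderEmbedding.ofMapLEIff (IrreducibleCloseds.map f hf.continuous) (fun A B => by
    constructor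
    · intro h
      have h' : closure (f '' (A : Set Y)) ⊆ closure (f '' (B : Set Y)) := h
      have hA : (A : Set Y) = f ⁻¹' closure (f '' A) := by
        rw [← hf.closure_eq_preimage_closure_image, A.isClosed.closure_eq]
      have hB : (B : Set Y) = f ⁻¹' closure (f '' B) := by
        rw [← hf.closure_eq_preimage_closure_image, B.isClosed.closure_eq]
      show (A : Set Y) ⊆ B
      rw [hA, hB]
      exact preimage_mono h'
    · exact fun h => IrreducibleCloseds.map_mono hf.continuous h)

theorem coe_icEmb (f : Y → X) (hf : IsInducing f) (A : IrreducibleCloseds Y) :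
    ((icEmb f hf A : IrreducibleCloseds X) : Set X) = closure (f '' (A : Set Y)) := rfl

theorem isPreirreducible_inter_open {T U : Set X} (hT : IsPreirreducible T) (hU : IsOpen U) :
    IsPreirreducible (T ∩ U) := by
  rintro u v hu hv ⟨x, ⟨hxT, hxU⟩, hxu⟩ ⟨y, ⟨hyT, hyU⟩, hyv⟩
  obtain ⟨z, hzT, hz⟩ := hT (U ∩ u) (U ∩ v) (hU.inter hu) (hU.inter hv)
    ⟨x, hxT, hxU, hxu⟩ ⟨y, hyT, hyU, hyv⟩
  exact ⟨z, ⟨hzT, hz.1.1⟩, hz.1.2, hz.2.2⟩

theorem isPreirreducible_preimage_of_isInducing {f : Y → X} (hf : IsInducing f) {D : Set X}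
    (hD : IsPreirreducible D) (hDr : D ⊆ range f) : IsPreirreducible (f ⁻¹' D) := by
  rintro u' v' hu' hv' ⟨x, hxD, hxu⟩ ⟨y, hyD, hyv⟩
  obtain ⟨u, hu, rfl⟩ := hf.isOpen_iff.mp hu'
  obtain ⟨v, hv, rfl⟩ := hf.isOpen_iff.mp hv'
  obtain ⟨z, hzD, hzu, hzv⟩ := hD u v hu hv ⟨f x, hxD, hxu⟩ ⟨f y, hyD, hyv⟩
  obtain ⟨w, rfl⟩ := hDr hzD
  exact ⟨w, hzD, hzu, hzv⟩

theorem mem_range_icEmb (f : Y → X) (hf : IsInducing f) {U Z : Set X} (hU : IsOpen U)
    (hr : range f = U ∩ Z) (T : IrreducibleCloseds X) (h1 : (T : Set X) ⊆ Z)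
    (h2 : ((T : Set X) ∩ range f).Nonempty) : T ∈ range (icEmb f hf) := by
  have hTU : (T : Set X) ∩ range f = (T : Set X) ∩ U := by
    rw [hr]; ext x; constructor
    · rintro ⟨a, b, c⟩; exact ⟨a, b⟩
    · rintro ⟨a, b⟩; exact ⟨a, b, h1 a⟩
  have hpre : IsPreirreducible ((T : Set X) ∩ range f) := by
    rw [hTU]; exact isPreirreducible_inter_open T.isIrreducible.isPreirreducible hU
  have hne : (f ⁻¹' (T : Set X)).Nonempty := by
    obtain ⟨x, hxT, ⟨y, rfl⟩⟩ := h2
    exact ⟨y, hxT⟩
  have hpre' : IsPreirreducible (f ⁻¹' (T : Set X)) := by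
    have : f ⁻¹' (T : Set X) = f ⁻¹' ((T : Set X) ∩ range f) := by
      ext y; simp
    rw [this]
    exact isPreirreducible_preimage_of_isInducing hf hpre inter_subset_right
  refine ⟨⟨f ⁻¹' (T : Set X), ⟨hne, hpre'⟩, T.isClosed.preimage hf.continuous⟩, ?_⟩
  apply IrreducibleCloseds.ext
  rw [coe_icEmb]
  show closure (f '' (f ⁻¹' (T : Set X))) = T
  rw [image_preimage_eq_inter_range, hTU]
  apply subset_antisymm
  · exact closure_minimal inter_subset_left T.isClosed
  · exact subset_closure_inter_of_isPreirreducible_of_isOpen T.isIrreducible.isPreirreducible hU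
      (hTU ▸ h2)

theorem ordConnected_range_icEmb (f : Y → X) (hf : IsInducing f)
    (hlc : IsLocallyClosed (range f)) : (range (icEmb f hf)).OrdConnected := by
  obtain ⟨U, Z, hU, hZ, hr⟩ := hlc
  refine ⟨fun A hA B hB C hC => ?_⟩
  obtain ⟨a, rfl⟩ := hA
  obtain ⟨b, rfl⟩ := hB
  refine mem_range_icEmb f hf hU hr C ?_ ?_
  · have h1 : (C : Set X) ⊆ closure (f '' (b : Set Y)) := hC.2
    refine h1.trans (closure_minimal ?_ hZ)
    rintro _ ⟨y, -, rfl⟩
    have : f y ∈ range f := mem_range_self y
    rw [hr] at this; exact this.2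
  · obtain ⟨y, hy⟩ := a.isIrreducible.nonempty
    have h1 : closure (f '' (a : Set Y)) ⊆ (C : Set X) := hC.1
    exact ⟨f y, h1 (subset_closure (mem_image_of_mem f hy)), mem_range_self y⟩

theorem isCatenarySpace_of_isInducing (f : Y → X) (hf : IsInducing f)
    (hlc : IsLocallyClosed (range f)) (hX : PtTop.IsCatenarySpace X) :
    PtTop.IsCatenarySpace Y :=
  isCatenarySpace_iff.mpr ((isCatenarySpace_iff.mp hX).of_orderEmbedding (icEmb f hf)
    (ordConnected_range_icEmb f hf hlc))

theorem isCatenarySpace_of_homeomorph (e : Y ≃ₜ X) (hX : PtTop.IsCatenarySpace X) :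
    PtTop.IsCatenarySpace Y :=
  isCatenarySpace_of_isInducing e e.isInducing
    (by rw [e.surjective.range_eq]; exact isOpen_univ.isLocallyClosed) hX

theorem isCatenarySpace_subtype (S : Set X) (hS : IsLocallyClosed S)
    (hX : PtTop.IsCatenarySpace X) : PtTop.IsCatenarySpace S :=
  isCatenarySpace_of_isInducing (Subtype.val : S → X) IsInducing.subtypeVal
    (by rw [Subtype.range_val]; exact hS) hX

end Emb

section Cover

variable {X : Type u} [TopologicalSpace X]

theorem isCatenarySpace_of_cover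
    (h : ∀ x : X, ∃ U : Opens X, x ∈ U ∧ PtTop.IsCatenarySpace U) :
    PtTop.IsCatenarySpace X := by
  rw [isCatenarySpace_iff]
  refine OrdCat.of_cover.{_, u} fun T T' hTT' => ?_
  obtain ⟨x, hx⟩ := T.isIrreducible.nonempty
  obtain ⟨U, hxU, hU⟩ := h x
  have hind : IsInducing (Subtype.val : U → X) := IsInducing.subtypeVal
  have hrU : range (Subtype.val : U → X) = (U : Set X) := Subtype.range_val
  have hr : range (Subtype.val : U → X) = (U : Set X) ∩ univ := by rw [hrU, inter_univ]
  refine ⟨IrreducibleCloseds U, inferInstance, icEmb _ hind,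
    ordConnected_range_icEmb _ hind ?_, isCatenarySpace_iff.mp hU, ?_, ?_⟩
  · rw [hrU]; exact U.isOpen.isLocallyClosed
  · exact mem_range_icEmb _ hind U.isOpen hr T (subset_univ _) ⟨x, hx, by rw [hrU]; exact hxU⟩
  · exact mem_range_icEmb _ hind U.isOpen hr T' (subset_univ _)
      ⟨x, hTT' hx, by rw [hrU]; exact hxU⟩

theorem isCatenarySpace_primeSpectrum_iff (R : Type u) [CommRing R] :
    PtTop.IsCatenarySpace (PrimeSpectrum R) ↔ CAlg.IsCatenary R := by
  rw [isCatenarySpace_iff]
  have e : PrimeSpectrum R ≃o (IrreducibleCloseds (PrimeSpectrum R))ᵒᵈ :=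
    PrimeSpectrum.pointsEquivIrreducibleCloseds R
  constructor
  · intro h; exact h.dual.of_orderIso e
  · intro h
    have h1 : OrdCat (IrreducibleCloseds (PrimeSpectrum R))ᵒᵈ := OrdCat.of_orderIso e.symm h
    have h2 := h1.dual
    exact OrdCat.of_orderIso (OrderIso.dualDual _) h2

end Cover

end Groth.Agent.Lib.Helper10.Catenary2
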