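import Mathlib

/-!
# Any two endomorphisms of an arrow with the same base induce homotopic maps on the Čech nerve
-/

universe v u

open CategoryTheory CategoryTheory.Limits Opposite Simplicial SimplexCategory

namespace Groth.Agent.Lib.Helper10.CechHtpy

variable {C : Type u} [Category.{v} C] (f : Arrow C)
  [∀ n : ℕ, HasWidePullback f.right (fun _ : Fin (n + 1) => f.left) fun _ => f.hom]
  (a b : f ⟶ f) (hr : a.right = b.right)

/-- The colour map. -/
noncomputable def col {n : ℕ} (j : Fin (n + 1)) (k : Fin (n + 2)) : f.left ⟶ f.left :=
  if k ≤ j.castSucc then a.left else b.left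

include hr in
lemma col_w {n : ℕ} (j : Fin (n + 1)) (k : Fin (n + 2)) :
    col f a b j k ≫ f.hom = f.hom ≫ a.right := by
  unfold col
  split_ifs
  · exact a.w
  · rw [hr]; exact b.w

set_option backward.defeqAttrib.useBackward true in
set_option backward.isDefEq.respectTransparency false in
/-- The homotopy operators `(y₀,…,yₙ) ↦ (a y₀,…,a yⱼ, b yⱼ,…,b yₙ)`. -/
noncomputable def hh {n : ℕ} (j : Fin (n + 1)) :
    f.cechNerve _⦋n⦌ ⟶ f.cechNerve _⦋n + 1⦌ :=
  WidePullback.lift (WidePullback.base _ ≫ a.right)
    (fun k : Fin (n + 1 + 1) => WidePullback.π _ (Fin.predAbove j k) ≫ col f a b j k)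
    (fun k => by
      rw [Category.assoc, col_w f a b hr]
      simp)

set_option backward.defeqAttrib.useBackward true in
set_option backward.isDefEq.respectTransparency false in
@[reassoc (attr := simp)]
lemma hh_π {n : ℕ} (j : Fin (n + 1)) (k : Fin (n + 1 + 1)) :
    hh f a b hr j ≫ WidePullback.π _ k =
      WidePullback.π _ (Fin.predAbove j k) ≫ col f a b j k := by
  simp [hh]

set_option backward.defeqAttrib.useBackward true in
set_option backward.isDefEq.respectTransparency false in
@[reassoc (attr := simp)]
lemma hh_base {n : ℕ} (j : Fin (n + 1)) :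
    hh f a b hr j ≫ WidePullback.base _ = WidePullback.base _ ≫ a.right := by
  simp [hh]


lemma val_succAbove {n : ℕ} (p : Fin (n + 1)) (i : Fin n) :
    (p.succAbove i).val = if i.val < p.val then i.val else i.val + 1 := by
  unfold Fin.succAbove
  split_ifs with h <;> simp only [Fin.lt_def, Fin.val_castSucc, Fin.val_succ] at h ⊢ <;> omega

lemma val_predAbove {n : ℕ} (p : Fin n) (i : Fin (n + 1)) :
    (p.predAbove i).val = if p.val < i.val then i.val - 1 else i.val := by
  unfold Fin.predAbove
  split_ifs with h <;> simp only [Fin.lt_def, Fin.val_castSucc, Fin.val_pred, Fin.coe_castPred] at h ⊢ <;> omega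

omit [∀ n : ℕ, HasWidePullback f.right (fun _ : Fin (n + 1) => f.left) fun _ => f.hom] in
lemma aux {Z : C} {m : ℕ} (p : Fin (m + 1) → (Z ⟶ f.left)) (k₁ k₂ : Fin (m + 1))
    (c₁ c₂ : Prop) [Decidable c₁] [Decidable c₂]
    (hk : k₁.val = k₂.val) (hc : c₁ ↔ c₂) :
    p k₁ ≫ (if c₁ then a.left else b.left) = p k₂ ≫ (if c₂ then a.left else b.left) := by
  obtain rfl : k₁ = k₂ := Fin.ext hk
  simp only [hc]

set_option backward.defeqAttrib.useBackward true in
set_option backward.isDefEq.respectTransparency false in
/-- The homotopy. -/
noncomputable def htpy : SimplicialObject.Homotopy (Arrow.mapCechNerve a) (Arrow.mapCechNerve b) where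
  h j := hh f a b hr j
  h_zero_comp_δ_zero n := by
    apply WidePullback.hom_ext
    · intro k
      simp [SimplicialObject.δ, col]
      refine Eq.trans (aux f a b (fun k => WidePullback.π (fun _ => f.hom) k) _ k _ False ?_ ?_)
        (by simp) <;>
      · have hk := k.isLt
        dsimp at hk
        dsimp [SimplexCategory.δ, SimplexCategory.σ]
        simp only [val_succAbove, val_predAbove, Fin.le_def, Fin.lt_def, Fin.val_succ,
          Fin.val_castSucc, Fin.val_last, Fin.val_zero, Fin.ext_iff] at *
        (try split_ifs) <;> first | omega | (simp only [iff_false, iff_true]; omega)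
    · simp [SimplicialObject.δ, hr]
  h_last_comp_δ_last n := by
    apply WidePullback.hom_ext
    · intro k
      simp [SimplicialObject.δ, col]
      refine Eq.trans (aux f a b (fun k => WidePullback.π (fun _ => f.hom) k) _ k _ True ?_ ?_)
        (by simp) <;>
      · have hk := k.isLt
        dsimp at hk
        dsimp [SimplexCategory.δ, SimplexCategory.σ]
        simp only [val_succAbove, val_predAbove, Fin.le_def, Fin.lt_def, Fin.val_succ,
          Fin.val_castSucc, Fin.val_last, Fin.val_zero, Fin.ext_iff] at *
        (try split_ifs) <;> first | omega | (simp only [iff_false, iff_true]; omega)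
    · simp [SimplicialObject.δ]
  h_succ_comp_δ_castSucc_of_lt i j hij := by
    apply WidePullback.hom_ext
    · intro k
      simp [SimplicialObject.δ, col]
      refine aux f a b (fun k => WidePullback.π (fun _ => f.hom) k) _ _ _ _ ?_ ?_ <;>
      · dsimp [SimplexCategory.δ, SimplexCategory.σ]
        simp only [val_succAbove, val_predAbove, Fin.le_def, Fin.lt_def, Fin.val_succ,
          Fin.val_castSucc, Fin.val_last, Fin.val_zero] at *
        split_ifs <;> omega
    · simp [SimplicialObject.δ]
  h_succ_comp_δ_castSucc_succ j := by
    apply WidePullback.hom_ext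
    · intro k
      simp [SimplicialObject.δ, col]
      refine aux f a b (fun k => WidePullback.π (fun _ => f.hom) k) _ _ _ _ ?_ ?_ <;>
      · dsimp [SimplexCategory.δ, SimplexCategory.σ]
        simp only [val_succAbove, val_predAbove, Fin.le_def, Fin.lt_def, Fin.val_succ,
          Fin.val_castSucc, Fin.val_last, Fin.val_zero] at *
        split_ifs <;> omega
    · simp [SimplicialObject.δ]
  h_castSucc_comp_δ_succ_of_lt i j hji := by
    apply WidePullback.hom_ext
    · intro k
      simp [SimplicialObject.δ, col]
      refine aux f a b (fun k => WidePullback.π (fun _ => f.hom) k) _ _ _ _ ?_ ?_ <;>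
      · dsimp [SimplexCategory.δ, SimplexCategory.σ]
        simp only [val_succAbove, val_predAbove, Fin.le_def, Fin.lt_def, Fin.val_succ,
          Fin.val_castSucc, Fin.val_last, Fin.val_zero] at *
        split_ifs <;> omega
    · simp [SimplicialObject.δ]
  h_comp_σ_castSucc_of_le i j hij := by
    apply WidePullback.hom_ext
    · intro k
      simp [SimplicialObject.σ, col]
      refine aux f a b (fun k => WidePullback.π (fun _ => f.hom) k) _ _ _ _ ?_ ?_ <;>
      · dsimp [SimplexCategory.δ, SimplexCategory.σ]
        simp only [val_succAbove, val_predAbove, Fin.le_def, Fin.lt_def, Fin.val_succ,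
          Fin.val_castSucc, Fin.val_last, Fin.val_zero] at *
        split_ifs <;> omega
    · simp [SimplicialObject.σ]
  h_comp_σ_succ_of_lt i j hji := by
    apply WidePullback.hom_ext
    · intro k
      simp [SimplicialObject.σ, col]
      refine aux f a b (fun k => WidePullback.π (fun _ => f.hom) k) _ _ _ _ ?_ ?_ <;>
      · dsimp [SimplexCategory.δ, SimplexCategory.σ]
        simp only [val_succAbove, val_predAbove, Fin.le_def, Fin.lt_def, Fin.val_succ,
          Fin.val_castSucc, Fin.val_last, Fin.val_zero] at *
        split_ifs <;> omega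
    · simp [SimplicialObject.σ]


set_option backward.defeqAttrib.useBackward true in
set_option backward.isDefEq.respectTransparency false in
lemma mapCechNerve_id : Arrow.mapCechNerve (𝟙 f) = 𝟙 f.cechNerve := by
  ext n
  apply WidePullback.hom_ext
  · intro k
    simp
  · simp

end Groth.Agent.Lib.Helper10.CechHtpy
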