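import Mathlib
import Groth.Prelude.Def_W4bk4git07Quot

/-!
# Helper10OrbitBC: the orbit map `(σ, p₂)` after base change

* `isPullback_lift_lift` (any category with pullbacks): for `σ s : W ⟶ X` equalized by `φ : X ⟶ Y`,
  a base change `X' = X ×_Y Y'`, `W' = W ×_{s,X} X'` and a lift `σ' : W' ⟶ X'` of `σ`, the map
  `(σ', s') : W' ⟶ X' ×_{Y'} X'` is a base change of `(σ, s) : W ⟶ X ×_Y X`.
* `isOpenMap_of_surjective_lift`: a topological quotient map `φ'` of schemes with
  `(σ', s') : W' ⟶ X' ×_{Y'} X'` surjective and `s'` open is an open map.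
* `isPullback_whiskerLeft`, `isPullback_whiskerRight` in a cartesian monoidal category.
-/

set_option autoImplicit false
universe v₁ u₁ u

open CategoryTheory Limits

namespace Groth.Agent.Lib.Helper10.OrbitBC

section General

variable {C : Type u₁} [Category.{v₁} C] [HasPullbacks C]
variable {X Y W X' Y' W' : C} {φ : X ⟶ Y} {σ s : W ⟶ X} (hσs : σ ≫ φ = s ≫ φ)
variable {φ' : X' ⟶ Y'} {pr : X' ⟶ X} {g : Y' ⟶ Y} (H : IsPullback φ' pr g φ)
variable {q : W' ⟶ W} {s' : W' ⟶ X'} (HW : IsPullback q s' s pr)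
variable {σ' : W' ⟶ X'} (h1 : σ' ≫ pr = q ≫ σ) (h2 : σ' ≫ φ' = s' ≫ φ')

include H in
/-- the second projection of `X' ×_{Y'} X'` is a base change of that of `X ×_Y X` -/
lemma isPullback_map_snd :
    IsPullback (pullback.map φ' φ' φ φ pr pr g H.w H.w) (pullback.snd φ' φ') (pullback.snd φ φ) pr := by
  have left : IsPullback (pullback.fst φ' φ') (pullback.snd φ' φ') φ' φ' :=
    IsPullback.of_hasPullback φ' φ'
  have outer : IsPullback (pullback.fst φ' φ' ≫ pr) (pullback.snd φ' φ') φ (φ' ≫ g) :=
    left.paste_horiz H.flip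
  have right : IsPullback (pullback.fst φ φ) (pullback.snd φ φ) φ φ :=
    IsPullback.of_hasPullback φ φ
  have e1 : pullback.map φ' φ' φ φ pr pr g H.w H.w ≫ pullback.fst φ φ = pullback.fst φ' φ' ≫ pr :=
    pullback.lift_fst _ _ _
  have e2 : pullback.map φ' φ' φ φ pr pr g H.w H.w ≫ pullback.snd φ φ = pullback.snd φ' φ' ≫ pr :=
    pullback.lift_snd _ _ _
  have outer' : IsPullback (pullback.map φ' φ' φ φ pr pr g H.w H.w ≫ pullback.fst φ φ)
      (pullback.snd φ' φ') φ (pr ≫ φ) := by
    rw [e1, ← H.w]; exact outer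
  exact IsPullback.of_right outer' e2 right

include H HW h1 in
/-- `(σ', s')` is a base change of `(σ, s)`. -/
theorem isPullback_lift_lift :
    IsPullback (pullback.lift σ' s' h2) q (pullback.map φ' φ' φ φ pr pr g H.w H.w)
      (pullback.lift σ s hσs) := by
  have R := (isPullback_map_snd H).flip
  have outer : IsPullback (pullback.lift σ' s' h2 ≫ pullback.snd φ' φ') q pr
      (pullback.lift σ s hσs ≫ pullback.snd φ φ) := by
    rw [pullback.lift_snd, pullback.lift_snd]
    exact HW.flip
  refine IsPullback.of_right outer ?_ R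
  have e1 : pullback.map φ' φ' φ φ pr pr g H.w H.w ≫ pullback.fst φ φ = pullback.fst φ' φ' ≫ pr :=
    pullback.lift_fst _ _ _
  have e2 : pullback.map φ' φ' φ φ pr pr g H.w H.w ≫ pullback.snd φ φ = pullback.snd φ' φ' ≫ pr :=
    pullback.lift_snd _ _ _
  apply pullback.hom_ext
  · rw [Category.assoc, e1, pullback.lift_fst_assoc, Category.assoc, pullback.lift_fst, h1]
  · rw [Category.assoc, e2, pullback.lift_snd_assoc, Category.assoc, pullback.lift_snd, HW.w]

end General

section Cartesian

open MonoidalCategory CartesianMonoidalCategory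

variable {C : Type u₁} [Category.{v₁} C] [CartesianMonoidalCategory C]

/-- `G ◁ i` is a base change of `i`. -/
lemma isPullback_whiskerLeft (G : C) {X Y : C} (i : X ⟶ Y) :
    IsPullback (G ◁ i) (snd G X) (snd G Y) i := by
  refine ⟨⟨by simp⟩, ⟨PullbackCone.IsLimit.mk _ (fun c => lift (c.fst ≫ fst G Y) c.snd) ?_ ?_ ?_⟩⟩
  · intro c
    apply CartesianMonoidalCategory.hom_ext
    · simp
    · simp [c.condition]
  · intro c; simp
  · intro c m hm1 hm2
    apply CartesianMonoidalCategory.hom_ext
    · rw [lift_fst, ← hm1]; simp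
    · rw [lift_snd, hm2]

/-- `f ▷ U` is a base change of `f`. -/
lemma isPullback_whiskerRight (U : C) {X Y : C} (f : X ⟶ Y) :
    IsPullback (f ▷ U) (fst X U) (fst Y U) f := by
  refine ⟨⟨by simp⟩, ⟨PullbackCone.IsLimit.mk _ (fun c => lift c.snd (c.fst ≫ snd Y U)) ?_ ?_ ?_⟩⟩
  · intro c
    apply CartesianMonoidalCategory.hom_ext
    · simp [c.condition]
    · simp
  · intro c; simp
  · intro c m hm1 hm2
    apply CartesianMonoidalCategory.hom_ext
    · rw [lift_fst, hm2]
    · rw [lift_snd, ← hm1]; simp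

end Cartesian

section Sch

open AlgebraicGeometry Topology

variable {X' Y' W' : Scheme.{u}} (φ' : X' ⟶ Y') (σ' s' : W' ⟶ X') (h2 : σ' ≫ φ' = s' ≫ φ')

/-- a quotient map whose orbit relation is the image of `(σ', s')` with `s'` open is open. -/
theorem isOpenMap_of_surjective_lift (hq : IsQuotientMap φ'.base)
    (hsurj : Function.Surjective (pullback.lift σ' s' h2).base) (hs' : IsOpenMap s'.base) :
    IsOpenMap φ'.base := by
  intro V hV
  rw [← hq.isOpen_preimage]
  have key : φ'.base ⁻¹' (φ'.base '' V) = s'.base '' (σ'.base ⁻¹' V) := by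
    ext x
    constructor
    · rintro ⟨v, hv, hvx⟩
      obtain ⟨z, hz1, hz2⟩ := Scheme.Pullback.exists_preimage_pullback (f := φ') (g := φ') v x hvx
      obtain ⟨w, rfl⟩ := hsurj z
      refine ⟨w, ?_, ?_⟩
      · show σ'.base w ∈ V
        have : σ'.base w = (pullback.fst φ' φ').base ((pullback.lift σ' s' h2).base w) := by
          rw [← Scheme.Hom.comp_apply, pullback.lift_fst]
        rw [this]; exact hz1 ▸ hv
      · have : s'.base w = (pullback.snd φ' φ').base ((pullback.lift σ' s' h2).base w) := by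
          rw [← Scheme.Hom.comp_apply, pullback.lift_snd]
        rw [this]; exact hz2
    · rintro ⟨w, hw, rfl⟩
      refine ⟨σ'.base w, hw, ?_⟩
      rw [← Scheme.Hom.comp_apply, ← Scheme.Hom.comp_apply, h2]
  rw [key]
  exact hs' _ (hV.preimage σ'.continuous)

end Sch

end Groth.Agent.Lib.Helper10.OrbitBC
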