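import Mathlib
import Groth.Prelude.Def_W4bk4git07Quot
import Groth.Agent.Lib.Helper10OrbitBC

/-!
# Helper10ClosedOrbit: a geometric quotient has closed geometric orbits
-/

set_option autoImplicit false
universe u

open CategoryTheory Limits MonoidalCategory CartesianMonoidalCategory MonObj AlgebraicGeometry Topology
open Groth.Agent.Lib.Helper10.OrbitBC

namespace Groth.Agent.Lib.Helper10.ClosedOrbit

/-- points of a pullback square of schemes -/
lemma exists_preimage_of_isPullback {P A B Z : Scheme.{u}} {p₁ : P ⟶ A} {p₂ : P ⟶ B} {f : A ⟶ Z}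
    {g : B ⟶ Z} (h : IsPullback p₁ p₂ f g) (a : A) (b : B) (hab : f.base a = g.base b) :
    ∃ p : P, p₁.base p = a ∧ p₂.base p = b := by
  obtain ⟨z, hz1, hz2⟩ := Scheme.Pullback.exists_preimage_pullback (f := f) (g := g) a b hab
  refine ⟨h.isoPullback.inv.base z, ?_, ?_⟩
  · rw [← Scheme.Hom.comp_apply, h.isoPullback_inv_fst]; exact hz1
  · rw [← Scheme.Hom.comp_apply, h.isoPullback_inv_snd]; exact hz2

/-- a section of `Y' ⟶ T` with `T` an affine one-point scheme has closed image -/
lemma isClosed_range_section {Y' T : Scheme.{u}} [IsAffine T] (t₀ : T) (hT : ∀ t : T, t = t₀)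
    (p : Y' ⟶ T) (y : T ⟶ Y') (hy : y ≫ p = 𝟙 T) : IsClosed (Set.range y.base) := by
  rw [TopologicalSpace.IsOpenCover.isClosed_iff_coe_preimage (iSup_affineOpens_eq_top Y')]
  intro U
  by_cases hU : y.base t₀ ∈ U.1
  · have hrange : Set.range y.base ⊆ Set.range U.1.ι.base := by
      rintro _ ⟨t, rfl⟩
      rw [hT t, Scheme.Opens.range_ι]
      exact hU
    obtain ⟨yU, hyU⟩ : ∃ yU : T ⟶ U.1, yU ≫ U.1.ι = y :=
      ⟨IsOpenImmersion.lift U.1.ι y hrange, IsOpenImmersion.lift_fac _ _ _⟩
    haveI : IsAffine (U.1 : Scheme.{u}) := U.2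
    haveI : IsClosedImmersion yU := by
      have h1 : IsClosedImmersion (yU ≫ (U.1.ι ≫ p)) := by
        rw [← Category.assoc, hyU, hy]; infer_instance
      exact MorphismProperty.of_postcomp (W := @IsClosedImmersion) (W' := @IsSeparated) yU
        (U.1.ι ≫ p) inferInstance h1
    have hcl : IsClosed (Set.range yU.base) := yU.isClosedEmbedding.isClosed_range
    have heq : ((fun x : U.1 => (x : Y')) ⁻¹' Set.range y.base) = Set.range yU.base := by
      ext x
      constructor
      · rintro ⟨t, ht⟩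
        refine ⟨t, ?_⟩
        apply U.1.ι.isOpenEmbedding.injective
        rw [← Scheme.Hom.comp_apply, hyU]
        exact ht
      · rintro ⟨t, rfl⟩
        refine ⟨t, ?_⟩
        rw [← hyU]
        rfl
    exact heq ▸ hcl
  · convert isClosed_empty using 1
    ext x
    simp only [Set.mem_preimage, Set.mem_range, Set.mem_empty_iff_false, iff_false, not_exists]
    intro t ht
    apply hU
    rw [← hT t, ht]
    exact x.2

section Main

variable {S : Scheme.{u}} {G X Y : Over S} [GrpObj G]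

set_option backward.isDefEq.respectTransparency false in
/-- the orbit of a point with values in an affine one-point scheme is closed in the fibre -/
theorem isClosed_range_psi (a : AlgGrp.Action G X) (φ : X ⟶ Y) (h : GIT.IsGeomQuot a φ)
    (T : Over S) [IsAffine T.left] (t₀ : T.left) (hT : ∀ t : T.left, t = t₀) (f : T ⟶ X) :
    IsClosed (Set.range (GIT.psi a f).left.base) := by
  obtain ⟨x₀, hx₀⟩ : ∃ x₀ : T ⟶ X ⊗ T, x₀ = lift f (𝟙 T) := ⟨_, rfl⟩
  obtain ⟨σ', hσ'⟩ : ∃ σ' : G ⊗ (X ⊗ T) ⟶ X ⊗ T,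
      σ' = lift ((G ◁ fst X T) ≫ a.act) (snd G (X ⊗ T) ≫ snd X T) := ⟨_, rfl⟩
  have hx₀1 : x₀ ≫ fst X T = f := by rw [hx₀, lift_fst]
  have hx₀2 : x₀ ≫ snd X T = 𝟙 T := by rw [hx₀, lift_snd]
  have h1 : σ' ≫ fst X T = (G ◁ fst X T) ≫ a.act := by rw [hσ', lift_fst]
  have h1' : σ' ≫ snd X T = snd G (X ⊗ T) ≫ snd X T := by rw [hσ', lift_snd]
  have hinv : a.act ≫ φ = snd G X ≫ φ := h.inv
  have h2 : σ' ≫ (φ ▷ T) = snd G (X ⊗ T) ≫ (φ ▷ T) := by
    apply CartesianMonoidalCategory.hom_ext
    · rw [Category.assoc, Category.assoc, whiskerRight_fst, ← Category.assoc, h1, Category.assoc,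
        hinv, whiskerLeft_snd_assoc]
    · rw [Category.assoc, Category.assoc, whiskerRight_snd, h1']
  have hpsi : GIT.psi a f = (G ◁ x₀) ≫ σ' := by
    unfold GIT.psi
    apply CartesianMonoidalCategory.hom_ext
    · rw [lift_fst, Category.assoc, h1, ← whiskerLeft_comp_assoc, hx₀1]
    · rw [lift_snd, Category.assoc, h1', whiskerLeft_snd_assoc, hx₀2, Category.comp_id]
  -- scheme level
  have H : IsPullback (φ ▷ T).left (fst X T).left (fst Y T).left φ.left :=
    (isPullback_whiskerRight T φ).map (Over.forget S)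
  have HW : IsPullback (G ◁ fst X T).left (snd G (X ⊗ T)).left (snd G X).left (fst X T).left :=
    (isPullback_whiskerLeft G (fst X T)).map (Over.forget S)
  have HW₀ : IsPullback (G ◁ x₀).left (snd G T).left (snd G (X ⊗ T)).left x₀.left :=
    (isPullback_whiskerLeft G x₀).map (Over.forget S)
  have h1l : σ'.left ≫ (fst X T).left = (G ◁ fst X T).left ≫ a.act.left := by
    rw [← Over.comp_left, ← Over.comp_left, h1]
  have h2l : σ'.left ≫ (φ ▷ T).left = (snd G (X ⊗ T)).left ≫ (φ ▷ T).left := by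
    rw [← Over.comp_left, ← Over.comp_left, h2]
  have hpb := isPullback_lift_lift h.inv.left H HW h1l h2l
  haveI : Surjective (pullback.lift a.act.left (snd G X).left h.inv.left) := ⟨h.orbit⟩
  haveI : Surjective (pullback.lift σ'.left (snd G (X ⊗ T)).left h2l) :=
    MorphismProperty.of_isPullback (P := @Surjective) hpb.flip ‹_›
  -- the closed point
  obtain ⟨yb, hyb⟩ : ∃ yb : T.left ⟶ (Y ⊗ T).left, yb = (x₀ ≫ (φ ▷ T)).left := ⟨_, rfl⟩
  have hyb1 : yb ≫ (snd Y T).left = 𝟙 T.left := by
    rw [hyb, ← Over.comp_left, Category.assoc, whiskerRight_snd, hx₀2]; rfl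
  have hcl : IsClosed (Set.range yb.base) := isClosed_range_section t₀ hT _ yb hyb1
  have key : Set.range (GIT.psi a f).left.base = (φ ▷ T).left.base ⁻¹' (Set.range yb.base) := by
    ext x
    constructor
    · rintro ⟨w, rfl⟩
      refine ⟨(snd G T).left.base w, ?_⟩
      rw [hyb, ← Scheme.Hom.comp_apply, ← Scheme.Hom.comp_apply, ← Over.comp_left, ← Over.comp_left,
        hpsi, Category.assoc, h2, whiskerLeft_snd_assoc]
    · rintro ⟨t, ht⟩
      have ht' : (φ ▷ T).left.base (x₀.left.base t) = (φ ▷ T).left.base x := by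
        rw [← ht, hyb, Over.comp_left]; rfl
      obtain ⟨z, hz1, hz2⟩ := Scheme.Pullback.exists_preimage_pullback (f := (φ ▷ T).left)
        (g := (φ ▷ T).left) x (x₀.left.base t) ht'.symm
      obtain ⟨w', rfl⟩ := (pullback.lift σ'.left (snd G (X ⊗ T)).left h2l).surjective z
      have e1 : σ'.left.base w' = x := by
        rw [← hz1, ← Scheme.Hom.comp_apply, pullback.lift_fst]
      have e2 : (snd G (X ⊗ T)).left.base w' = x₀.left.base t := by
        rw [← hz2, ← Scheme.Hom.comp_apply, pullback.lift_snd]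
      obtain ⟨w, hw1, -⟩ := exists_preimage_of_isPullback HW₀ w' t e2
      refine ⟨w, ?_⟩
      rw [hpsi, Over.comp_left, Scheme.Hom.comp_apply, hw1, e1]
  rw [key]
  exact hcl.preimage (φ ▷ T).left.continuous

end Main

end Groth.Agent.Lib.Helper10.ClosedOrbit
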