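/-
Helper library (helper10): closures of products over a field; projections restricted to fibres are open.
-/
import Mathlib

set_option autoImplicit false
universe u

open CategoryTheory CategoryTheory.Limits AlgebraicGeometry

namespace Groth.Agent.Lib.Helper10.ClosureProd

/-- Over a "field-like" base, the restriction of the second projection of a fibre product to a fibre of
the first projection is an open map. -/
theorem isOpen_image_inter_fibre {P X Y S : Scheme.{u}} {p : P ⟶ X} {q : P ⟶ Y} {f : X ⟶ S}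
    {g : Y ⟶ S} (h : IsPullback p q f g) [IsIntegral S] [Subsingleton S]
    (a : X) (W : Set ↥P) (hW : IsOpen W) :
    IsOpen (q.base '' (W ∩ p.base ⁻¹' {a})) := by
  let ι := p.fiberι a
  have hpb : IsPullback ι (p.fiberToSpecResidueField a) p (X.fromSpecResidueField a) :=
    IsPullback.of_hasPullback _ _
  have hpaste : IsPullback (ι ≫ q) (p.fiberToSpecResidueField a) g
      (X.fromSpecResidueField a ≫ f) := hpb.paste_horiz h.flip
  haveI : UniversallyOpen (X.fromSpecResidueField a ≫ f) := inferInstance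
  haveI : UniversallyOpen (ι ≫ q) := MorphismProperty.of_isPullback hpaste.flip inferInstance
  have heq : q.base '' (W ∩ p.base ⁻¹' {a}) = (ι ≫ q).base '' (ι.base ⁻¹' W) := by
    ext y
    constructor
    · rintro ⟨w, ⟨hwW, hwa⟩, rfl⟩
      have : w ∈ Set.range ι.base := by
        rw [p.range_fiberι a]; exact hwa
      obtain ⟨t, rfl⟩ := this
      exact ⟨t, hwW, rfl⟩
    · rintro ⟨t, ht, rfl⟩
      refine ⟨ι.base t, ⟨ht, ?_⟩, rfl⟩
      have : ι.base t ∈ Set.range ι.base := ⟨t, rfl⟩
      rw [p.range_fiberι a] at this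
      exact this
  rw [heq]
  exact (ι ≫ q).isOpenMap _ (hW.preimage ι.continuous)

/-- Closure of a "product set" in a fibre product over a field-like base. -/
theorem closure_inter_preimage {P X Y S : Scheme.{u}} {p : P ⟶ X} {q : P ⟶ Y} {f : X ⟶ S}
    {g : Y ⟶ S} (h : IsPullback p q f g) [IsIntegral S] [Subsingleton S]
    (A : Set ↥X) (B : Set ↥Y) :
    closure (p.base ⁻¹' A ∩ q.base ⁻¹' B) = p.base ⁻¹' closure A ∩ q.base ⁻¹' closure B := by
  apply Set.Subset.antisymm
  · apply closure_minimal
    · exact Set.inter_subset_inter (Set.preimage_mono subset_closure)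
        (Set.preimage_mono subset_closure)
    · exact (isClosed_closure.preimage p.continuous).inter (isClosed_closure.preimage q.continuous)
  · -- step 1
    have h1 : p.base ⁻¹' A ∩ q.base ⁻¹' closure B ⊆ closure (p.base ⁻¹' A ∩ q.base ⁻¹' B) := by
      rintro z ⟨hzA, hzB⟩
      rw [mem_closure_iff]
      intro W hW hzW
      have hV := isOpen_image_inter_fibre h (p.base z) W hW
      have hqz : q.base z ∈ q.base '' (W ∩ p.base ⁻¹' {p.base z}) := ⟨z, ⟨hzW, rfl⟩, rfl⟩
      obtain ⟨y, ⟨w, ⟨hwW, hwa⟩, rfl⟩, hyB⟩ := mem_closure_iff.mp hzB _ hV hqz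
      refine ⟨w, hwW, ?_, hyB⟩
      have : p.base w = p.base z := hwa
      show p.base w ∈ A
      rw [this]; exact hzA
    rintro z ⟨hzA, hzB⟩
    rw [← closure_closure, mem_closure_iff]
    intro W hW hzW
    have hV := isOpen_image_inter_fibre h.flip (q.base z) W hW
    have hpz : p.base z ∈ p.base '' (W ∩ q.base ⁻¹' {q.base z}) := ⟨z, ⟨hzW, rfl⟩, rfl⟩
    obtain ⟨x, ⟨w, ⟨hwW, hwb⟩, rfl⟩, hxA⟩ := mem_closure_iff.mp hzA _ hV hpz
    refine ⟨w, hwW, h1 ⟨hxA, ?_⟩⟩
    have : q.base w = q.base z := hwb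
    show q.base w ∈ closure B
    rw [this]; exact hzB

end Groth.Agent.Lib.Helper10.ClosureProd
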