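import Mathlib

/-!
# Connected components of quasi-compact quasi-separated prespectral spaces (helper10)
-/

set_option autoImplicit false
open Topology TopologicalSpace Set

namespace Groth.Agent.Lib.Helper10.ConnComp

universe u

variable {X : Type u} [TopologicalSpace X]

/-- Finite intersections of clopen neighbourhoods. -/
theorem isClopen_biInter_mem {x : X} (t : Finset {Z : Set X // IsClopen Z ∧ x ∈ Z}) :
    IsClopen (⋂ Z ∈ t, (Z : Set X)) ∧ x ∈ ⋂ Z ∈ t, (Z : Set X) := by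
  refine ⟨isClopen_biInter_finset fun Z _ => Z.2.1, ?_⟩
  simp only [Set.mem_iInter]
  exact fun Z _ => Z.2.2

/-- If a compact set misses the intersection of all clopen neighbourhoods of `x`, it misses one
clopen neighbourhood. -/
theorem exists_isClopen_disjoint {x : X} {K : Set X} (hK : IsCompact K)
    (h : K ∩ ⋂₀ {Z : Set X | IsClopen Z ∧ x ∈ Z} = ∅) :
    ∃ Z : Set X, IsClopen Z ∧ x ∈ Z ∧ K ∩ Z = ∅ := by
  rw [Set.sInter_eq_iInter] at h
  obtain ⟨t, ht⟩ := hK.elim_finite_subfamily_closed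
    (fun Z : {Z : Set X // IsClopen Z ∧ x ∈ Z} => (Z : Set X)) (fun Z => Z.2.1.1) h
  exact ⟨_, (isClopen_biInter_mem t).1, (isClopen_biInter_mem t).2, ht⟩

theorem key [CompactSpace X] [PrespectralSpace X] [QuasiSeparatedSpace X] (x : X)
    (u v : Set X) (hu : IsClosed u) (hv : IsClosed v)
    (hS : ⋂₀ {Z : Set X | IsClopen Z ∧ x ∈ Z} ⊆ u ∪ v)
    (huv : ⋂₀ {Z : Set X | IsClopen Z ∧ x ∈ Z} ∩ (u ∩ v) = ∅) (hxu : x ∈ u) :
    ⋂₀ {Z : Set X | IsClopen Z ∧ x ∈ Z} ⊆ u := by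
  set S := ⋂₀ {Z : Set X | IsClopen Z ∧ x ∈ Z} with hSdef
  have hScl : IsClosed S := isClosed_sInter fun Z hZ => hZ.1.1
  have hxS : x ∈ S := fun Z hZ => hZ.2
  have hB : IsCompact (S ∩ u) := (hScl.inter hu).isCompact
  have hC : IsCompact (S ∩ v) := (hScl.inter hv).isCompact
  have hBv : S ∩ u ⊆ vᶜ := by
    rintro y ⟨hyS, hyu⟩ hyv
    have : y ∈ S ∩ (u ∩ v) := ⟨hyS, hyu, hyv⟩
    rw [huv] at this; exact this
  have hCu : S ∩ v ⊆ uᶜ := by
    rintro y ⟨hyS, hyv⟩ hyu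
    have : y ∈ S ∩ (u ∩ v) := ⟨hyS, hyu, hyv⟩
    rw [huv] at this; exact this
  obtain ⟨U, hUc, hUo, hBU, hUv⟩ :=
    PrespectralSpace.exists_isCompact_and_isOpen_between hB hv.isOpen_compl hBv
  obtain ⟨V, hVc, hVo, hCV, hVu⟩ :=
    PrespectralSpace.exists_isCompact_and_isOpen_between hC hu.isOpen_compl hCu
  -- U ∩ V ∩ S = ∅
  have h1 : (U ∩ V) ∩ S = ∅ := by
    rw [Set.eq_empty_iff_forall_notMem]
    rintro y ⟨⟨hyU, hyV⟩, hyS⟩
    rcases hS hyS with hyu | hyv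
    · exact hVu hyV hyu
    · exact hUv hyU hyv
  obtain ⟨Z', hZ', hxZ', hZ'e⟩ := exists_isClopen_disjoint (x := x)
    (hUc.inter_of_isOpen hVc hUo hVo) h1
  -- (U ∪ V)ᶜ ∩ S = ∅
  have h2 : (U ∪ V)ᶜ ∩ S = ∅ := by
    rw [Set.eq_empty_iff_forall_notMem]
    rintro y ⟨hyUV, hyS⟩
    rcases hS hyS with hyu | hyv
    · exact hyUV (Or.inl (hBU ⟨hyS, hyu⟩))
    · exact hyUV (Or.inr (hCV ⟨hyS, hyv⟩))
  obtain ⟨Z'', hZ'', hxZ'', hZ''e⟩ := exists_isClopen_disjoint (x := x)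
    (hUo.union hVo).isClosed_compl.isCompact h2
  set Z0 := Z' ∩ Z'' with hZ0
  have hZ0c : IsClopen Z0 := hZ'.inter hZ''
  have hZ0UV : Z0 ⊆ U ∪ V := by
    intro y hy
    by_contra hcon
    have : y ∈ (U ∪ V)ᶜ ∩ Z'' := ⟨hcon, hy.2⟩
    rw [hZ''e] at this; exact this
  have hZ0d : ∀ y ∈ Z0, y ∈ U → y ∈ V → False := by
    intro y hy hyU hyV
    have : y ∈ (U ∩ V) ∩ Z' := ⟨⟨hyU, hyV⟩, hy.1⟩
    rw [hZ'e] at this; exact this
  have hZ0U : IsClopen (Z0 ∩ U) := by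
    refine ⟨?_, hZ0c.2.inter hUo⟩
    have : Z0 ∩ U = Z0 ∩ Vᶜ := by
      ext y
      constructor
      · rintro ⟨hy, hyU⟩; exact ⟨hy, fun hyV => hZ0d y hy hyU hyV⟩
      · rintro ⟨hy, hyV⟩
        rcases hZ0UV hy with h | h
        · exact ⟨hy, h⟩
        · exact absurd h hyV
    rw [this]
    exact hZ0c.1.inter hVo.isClosed_compl
  have hxZ0U : x ∈ Z0 ∩ U := ⟨⟨hxZ', hxZ''⟩, hBU ⟨hxS, hxu⟩⟩
  have hSU : S ⊆ Z0 ∩ U := Set.sInter_subset_of_mem ⟨hZ0U, hxZ0U⟩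
  intro y hyS
  rcases hS hyS with hyu | hyv
  · exact hyu
  · exact absurd (hSU hyS).2 (fun hyU => hUv hyU hyv)

/-- In a quasi-compact quasi-separated prespectral space the connected component of a point is
the intersection of its clopen neighbourhoods. -/
theorem connectedComponent_eq_sInter_isClopen [CompactSpace X] [PrespectralSpace X]
    [QuasiSeparatedSpace X] (x : X) :
    connectedComponent x = ⋂₀ {Z : Set X | IsClopen Z ∧ x ∈ Z} := by
  apply subset_antisymm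
  · intro y hy Z hZ
    exact hZ.1.connectedComponent_subset hZ.2 hy
  · apply IsPreconnected.subset_connectedComponent _ (fun Z hZ => hZ.2)
    rw [isPreconnected_iff_subset_of_disjoint_closed]
    intro u v hu hv hS huv
    have hxS : x ∈ ⋂₀ {Z : Set X | IsClopen Z ∧ x ∈ Z} := fun Z hZ => hZ.2
    rcases hS hxS with hxu | hxv
    · exact Or.inl (key x u v hu hv hS huv hxu)
    · refine Or.inr (key x v u hv hu (by rwa [Set.union_comm]) (by rwa [Set.inter_comm v u]) hxv)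

end Groth.Agent.Lib.Helper10.ConnComp
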