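import Mathlib
import Groth.Agent.Lib.Helper2Constr

/-!
# Constructible sets in subspaces (helper10)
-/

set_option autoImplicit false
open Topology TopologicalSpace Set

namespace Groth.Agent.Lib.Helper10.Constr

universe u

variable {X : Type u} [TopologicalSpace X]

/-- A compact open subset of a subspace `T` of a prespectral space is the trace of a compact open
subset of the ambient space. -/
theorem exists_isCompact_isOpen_preimage_eq [PrespectralSpace X] (T : Set X) (W : Set T)
    (hWo : IsOpen W) (hWc : IsCompact W) :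
    ∃ U : Set X, IsOpen U ∧ IsCompact U ∧ (Subtype.val : T → X) ⁻¹' U = W := by
  obtain ⟨O, hO, rfl⟩ := isOpen_induced_iff.mp hWo
  -- cover by compact opens inside O
  have hcov : (Subtype.val : T → X) ⁻¹' O ⊆
      ⋃ U : {U : Set X // IsOpen U ∧ IsCompact U ∧ U ⊆ O}, (Subtype.val : T → X) ⁻¹' U.1 := by
    intro x hx
    have hx' : (x : X) ∈ O := hx
    obtain ⟨V, ⟨hVo, hVc⟩, hxV, hVO⟩ :=
      PrespectralSpace.isTopologicalBasis.exists_subset_of_mem_open hx' hO
    exact Set.mem_iUnion.mpr ⟨⟨V, hVo, hVc, hVO⟩, hxV⟩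
  obtain ⟨t, ht⟩ := hWc.elim_finite_subcover _
    (fun U => U.2.1.preimage continuous_subtype_val) hcov
  refine ⟨⋃ U ∈ t, U.1, isOpen_biUnion fun U _ => U.2.1,
    t.isCompact_biUnion fun U _ => U.2.2.1, ?_⟩
  apply subset_antisymm
  · rw [Set.preimage_iUnion₂]
    exact Set.iUnion₂_subset fun U _ => Set.preimage_mono U.2.2.2
  · rw [Set.preimage_iUnion₂]
    exact ht

/-- The trace on a retrocompact subset of a retrocompact open is retrocompact. -/
theorem isRetrocompact_preimage_val [PrespectralSpace X] {T : Set X} (hT : IsRetrocompact T)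
    {s : Set X} (hso : IsOpen s) (hs : IsRetrocompact s) :
    IsRetrocompact ((Subtype.val : T → X) ⁻¹' s) := by
  intro W hWc hWo
  obtain ⟨U, hUo, hUc, rfl⟩ := exists_isCompact_isOpen_preimage_eq T W hWo hWc
  rw [← Set.preimage_inter]
  have h1 : IsCompact (s ∩ U) := hs hUc hUo
  have h2 : IsCompact (T ∩ (s ∩ U)) := hT h1 (hso.inter hUo)
  have := IsInducing.subtypeVal.isCompact_preimage' (f := (Subtype.val : T → X)) h2
    (by rw [Subtype.range_val]; exact Set.inter_subset_left)
  convert this using 1
  ext ⟨x, hx⟩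
  simp [hx]

/-- Constructible sets restrict to constructible sets on retrocompact subsets. -/
theorem isConstructible_preimage_val [PrespectralSpace X] {T : Set X} (hT : IsRetrocompact T)
    {E : Set X} (hE : Topology.IsConstructible E) :
    Topology.IsConstructible ((Subtype.val : T → X) ⁻¹' E) :=
  hE.preimage continuous_subtype_val fun _ hso hs => isRetrocompact_preimage_val hT hso hs

/-- Restriction of constructible sets along an inclusion of retrocompact subsets. -/
theorem isConstructible_preimage_val_of_subset [PrespectralSpace X] {T₁ T₂ : Set X} (h : T₁ ⊆ T₂)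
    (hT₁ : IsRetrocompact T₁) (hT₂ : IsRetrocompact T₂) {F : Set X}
    (hF : Topology.IsConstructible ((Subtype.val : T₂ → X) ⁻¹' F)) :
    Topology.IsConstructible ((Subtype.val : T₁ → X) ⁻¹' F) := by
  have heq : (Subtype.val : T₁ → X) ⁻¹' F = Set.inclusion h ⁻¹' ((Subtype.val : T₂ → X) ⁻¹' F) := by
    ext x; rfl
  rw [heq]
  refine hF.preimage (continuous_inclusion h) fun s hso hs => ?_
  intro W hWc hWo
  obtain ⟨U', hU'o, hU'c, rfl⟩ := exists_isCompact_isOpen_preimage_eq T₁ W hWo hWc
  -- val_{T₂}⁻¹ U' is compact open in T₂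
  have hc2 : IsCompact ((Subtype.val : T₂ → X) ⁻¹' U') := by
    have h2 : IsCompact (T₂ ∩ U') := hT₂ hU'c hU'o
    have := IsInducing.subtypeVal.isCompact_preimage' (f := (Subtype.val : T₂ → X)) h2
      (by rw [Subtype.range_val]; exact Set.inter_subset_left)
    convert this using 1
    ext ⟨x, hx⟩
    simp [hx]
  have hK : IsCompact (s ∩ (Subtype.val : T₂ → X) ⁻¹' U') :=
    hs hc2 (hU'o.preimage continuous_subtype_val)
  have hKo : IsOpen (s ∩ (Subtype.val : T₂ → X) ⁻¹' U') :=
    hso.inter (hU'o.preimage continuous_subtype_val)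
  obtain ⟨U'', hU''o, hU''c, hU''⟩ := exists_isCompact_isOpen_preimage_eq T₂ _ hKo hK
  have heq2 : Set.inclusion h ⁻¹' s ∩ (Subtype.val : T₁ → X) ⁻¹' U' =
      (Subtype.val : T₁ → X) ⁻¹' U'' := by
    have : (Subtype.val : T₁ → X) ⁻¹' U'' =
        Set.inclusion h ⁻¹' ((Subtype.val : T₂ → X) ⁻¹' U'') := by ext x; rfl
    rw [this, hU'']
    ext x; rfl
  rw [heq2]
  have h1 : IsCompact (T₁ ∩ U'') := hT₁ hU''c hU''o
  have := IsInducing.subtypeVal.isCompact_preimage' (f := (Subtype.val : T₁ → X)) h1
    (by rw [Subtype.range_val]; exact Set.inter_subset_left)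
  convert this using 1
  ext ⟨x, hx⟩
  simp [hx]

/-- A subset of `U \ V` (`U`, `V` retrocompact open) which is constructible in `U \ V` is
constructible in the ambient space. -/
theorem isConstructible_of_sdiff {U V : Set X} (hUo : IsOpen U) (hU : IsRetrocompact U)
    (hVo : IsOpen V) (hV : IsRetrocompact V) {F : Set X} (hFE : F ⊆ U \ V)
    (hF : Topology.IsConstructible ((Subtype.val : ↥(U \ V) → X) ⁻¹' F)) :
    Topology.IsConstructible F := by
  have h : U \ V ⊆ U := Set.sdiff_subset
  have hemb : IsOpenEmbedding (Subtype.val : U → X) := hUo.isOpenEmbedding_subtypeVal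
  have hrange : Set.range (Set.inclusion h) = (Subtype.val : U → X) ⁻¹' Vᶜ := by
    rw [Set.range_inclusion]
    ext ⟨x, hx⟩
    simp [hx]
  have hg : IsClosedEmbedding (Set.inclusion h) := by
    refine ⟨Topology.IsEmbedding.inclusion h, ?_⟩
    rw [hrange]
    exact hVo.isClosed_compl.preimage continuous_subtype_val
  have hcompl : IsRetrocompact (Set.range (Set.inclusion h))ᶜ := by
    rw [hrange, ← Set.preimage_compl, compl_compl]
    exact hV.preimage_of_isOpenEmbedding hemb
  have h1 := hF.image_of_isClosedEmbedding hg hcompl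
  have h2 := h1.image_of_isOpenEmbedding hemb (by rw [Subtype.range_val]; exact hU)
  convert h2 using 1
  rw [Set.image_image]
  have : (fun x : ↥(U \ V) => ((Set.inclusion h x : U) : X)) = Subtype.val := rfl
  rw [this, Subtype.image_preimage_coe, Set.inter_eq_right.mpr hFE]

/-- A subset of a constructible set `E` which is constructible in `E` is constructible in the
ambient (prespectral) space. -/
theorem isConstructible_of_isConstructible_preimage_val [PrespectralSpace X] {E : Set X}
    (hE : Topology.IsConstructible E) :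
    ∀ {F : Set X}, F ⊆ E → Topology.IsConstructible ((Subtype.val : E → X) ⁻¹' F) →
      Topology.IsConstructible F := by
  suffices h : Topology.IsConstructible E ∧ ∀ F : Set X, F ⊆ E →
      Topology.IsConstructible ((Subtype.val : E → X) ⁻¹' F) → Topology.IsConstructible F from
    fun {F} hFE hF => h.2 F hFE hF
  refine Groth.Agent.Lib.Helper2.Constr.sdiff_union_induction
    (P := fun E => Topology.IsConstructible E ∧ ∀ F : Set X, F ⊆ E →
      Topology.IsConstructible ((Subtype.val : E → X) ⁻¹' F) → Topology.IsConstructible F)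
    ?_ ?_ hE
  · intro U V hUo hU hVo hV
    exact ⟨(hU.isConstructible hUo).sdiff (hV.isConstructible hVo),
      fun F hFE hF => isConstructible_of_sdiff hUo hU hVo hV hFE hF⟩
  · rintro s t ⟨hs, hs'⟩ ⟨ht, ht'⟩
    refine ⟨hs.union ht, fun F hFE hF => ?_⟩
    have hrs := Groth.Agent.Lib.Helper2.Constr.isRetrocompact_of_isConstructible hs
    have hrt := Groth.Agent.Lib.Helper2.Constr.isRetrocompact_of_isConstructible ht
    have hrst := Groth.Agent.Lib.Helper2.Constr.isRetrocompact_of_isConstructible (hs.union ht)
    have h1 := isConstructible_preimage_val_of_subset (Set.subset_union_left (s := s) (t := t))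
      hrs hrst hF
    have h2 := isConstructible_preimage_val_of_subset (Set.subset_union_right (s := s) (t := t))
      hrt hrst hF
    have h1' : Topology.IsConstructible ((Subtype.val : s → X) ⁻¹' (F ∩ s)) := by
      convert h1 using 1
      ext ⟨x, hx⟩; simp [hx]
    have h2' : Topology.IsConstructible ((Subtype.val : t → X) ⁻¹' (F ∩ t)) := by
      convert h2 using 1
      ext ⟨x, hx⟩; simp [hx]
    have := (hs' (F ∩ s) Set.inter_subset_right h1').union (ht' (F ∩ t) Set.inter_subset_right h2')
    convert this using 1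
    rw [← Set.inter_union_distrib_left, Set.inter_eq_left.mpr hFE]

end Groth.Agent.Lib.Helper10.Constr
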