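import Mathlib

/-!
# Constructible subsets of qcqs schemes are images of affine finitely presented morphisms (helper10)
-/

set_option autoImplicit false
universe u
open AlgebraicGeometry CategoryTheory Topology Limits

namespace Groth.Agent.Lib.Helper10.ConstrImage

set_option backward.isDefEq.respectTransparency false in
theorem union_case (X X₁ X₂ : Scheme.{u}) [QuasiSeparatedSpace X] (f₁ : X₁ ⟶ X) (f₂ : X₂ ⟶ X)
    [IsAffine X₁] [IsAffine X₂] [LocallyOfFinitePresentation f₁] [LocallyOfFinitePresentation f₂] :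
    ∃ (X' : Scheme.{u}) (f : X' ⟶ X), IsAffine X' ∧ LocallyOfFinitePresentation f ∧ QuasiCompact f ∧
      QuasiSeparated f ∧ Set.range f.base = Set.range f₁.base ∪ Set.range f₂.base := by
  refine ⟨X₁ ⨿ X₂, coprod.desc f₁ f₂, inferInstance, ?_, inferInstance, inferInstance, ?_⟩
  · rw [IsZariskiLocalAtSource.iff_of_openCover (P := @LocallyOfFinitePresentation)
      (coprodOpenCover.{u, 0} X₁ X₂)]
    rintro (⟨⟩ | ⟨⟩)
    · simpa [coprodOpenCover] using (inferInstance : LocallyOfFinitePresentation f₁)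
    · simpa [coprodOpenCover] using (inferInstance : LocallyOfFinitePresentation f₂)
  · ext x
    constructor
    · rintro ⟨y, rfl⟩
      obtain ⟨z, rfl⟩ := (coprodMk X₁ X₂).surjective y
      rcases z with z | z
      · left
        refine ⟨z, ?_⟩
        rw [coprodMk_inl, ← Scheme.Hom.comp_apply, coprod.inl_desc]
      · right
        refine ⟨z, ?_⟩
        rw [coprodMk_inr, ← Scheme.Hom.comp_apply, coprod.inr_desc]
    · rintro (⟨z, rfl⟩ | ⟨z, rfl⟩)
      · refine ⟨(coprod.inl : X₁ ⟶ X₁ ⨿ X₂) z, ?_⟩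
        rw [← Scheme.Hom.comp_apply, coprod.inl_desc]
      · refine ⟨(coprod.inr : X₂ ⟶ X₁ ⨿ X₂) z, ?_⟩
        rw [← Scheme.Hom.comp_apply, coprod.inr_desc]

set_option backward.isDefEq.respectTransparency false in
theorem sdiff_case (X : Scheme.{u}) [QuasiSeparatedSpace X] (W : X.Opens) (hW : IsAffineOpen W)
    (V : Set X) (hVo : IsOpen V) (hVc : IsCompact V) :
    ∃ (X' : Scheme.{u}) (f : X' ⟶ X), IsAffine X' ∧ LocallyOfFinitePresentation f ∧ QuasiCompact f ∧
      QuasiSeparated f ∧ Set.range f.base = (W : Set X) \ V := by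
  have hmem : ∀ x, hW.fromSpec x ∈ (W : Set X) := by
    intro x
    have : hW.fromSpec x ∈ Set.range hW.fromSpec := ⟨x, rfl⟩
    rw [hW.range_fromSpec] at this
    exact this
  have hT : IsCompact (hW.fromSpec ⁻¹' V) ∧ IsOpen (hW.fromSpec ⁻¹' V) := by
    refine ⟨?_, hVo.preimage hW.fromSpec.continuous⟩
    have h1 : IsCompact (V ∩ (W : Set X)) := hVc.inter_of_isOpen hW.isCompact hVo W.isOpen
    have h2 : hW.fromSpec ⁻¹' V = hW.fromSpec ⁻¹' (V ∩ (W : Set X)) := by
      ext x
      simp only [Set.mem_preimage, Set.mem_inter_iff, iff_self_and]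
      intro _
      exact hmem x
    rw [h2]
    exact (hW.fromSpec.isOpenEmbedding.isInducing.isCompact_preimage_iff
      (by rw [hW.range_fromSpec]; exact Set.inter_subset_right)).mpr h1
  obtain ⟨t, ht⟩ := (PrimeSpectrum.isCompact_isOpen_iff (R := Γ(X, W))).mp hT
  let I : Ideal Γ(X, W) := Ideal.span (t : Set Γ(X, W))
  let q : Spec (CommRingCat.of (Γ(X, W) ⧸ I)) ⟶ Spec Γ(X, W) :=
    Spec.map (CommRingCat.ofHom (Ideal.Quotient.mk I))
  have hq : LocallyOfFinitePresentation q :=
    (HasRingHomProperty.Spec_iff (P := @LocallyOfFinitePresentation)).mpr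
      (RingHom.FinitePresentation.of_surjective _ Ideal.Quotient.mk_surjective
        (by
          show (RingHom.ker (Ideal.Quotient.mk I)).FG
          rw [Ideal.mk_ker]
          exact ⟨t, rfl⟩))
  refine ⟨_, q ≫ hW.fromSpec, inferInstance, inferInstance, inferInstance, inferInstance, ?_⟩
  have hrq : Set.range q.base = (hW.fromSpec ⁻¹' V)ᶜ := by
    rw [← ht, compl_compl]
    have := range_comap_of_surjective _ (Ideal.Quotient.mk I)
      Ideal.Quotient.mk_surjective
    rw [Ideal.mk_ker, PrimeSpectrum.zeroLocus_span] at this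
    exact this
  rw [Scheme.Hom.comp_base, TopCat.coe_comp, Set.range_comp, hrq, ← Set.preimage_compl,
    Set.image_preimage_eq_inter_range, hW.range_fromSpec]
  ext x
  simp [and_comm]


set_option backward.isDefEq.respectTransparency false in
theorem exists_affine_fp_range_eq (X : Scheme.{u}) [CompactSpace X] [QuasiSeparatedSpace X]
    (Z : Set X) (hZ : IsConstructible Z) :
    ∃ (X' : Scheme.{u}) (f : X' ⟶ X), IsAffine X' ∧ LocallyOfFinitePresentation f ∧ QuasiCompact f ∧
      QuasiSeparated f ∧ Set.range f.base = Z := by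
  classical
  have hne : Nonempty X.affineOpens := ⟨⟨⊥, isAffineOpen_bot X⟩⟩
  have basis : TopologicalSpace.IsTopologicalBasis
      (Set.range (fun U : X.affineOpens => ((U : X.Opens) : Set X))) := by
    have h := X.isBasis_affineOpens
    rw [TopologicalSpace.Opens.IsBasis] at h
    convert h using 1
    ext s
    simp
  refine Topology.IsConstructible.induction_of_isTopologicalBasis
    (P := fun Z _ => ∃ (X' : Scheme.{u}) (f : X' ⟶ X), IsAffine X' ∧
      LocallyOfFinitePresentation f ∧ QuasiCompact f ∧ QuasiSeparated f ∧ Set.range f.base = Z)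
    (fun U : X.affineOpens => ((U : X.Opens) : Set X)) basis (fun U => U.2.isCompact) ?_ ?_ Z hZ
  · intro W s hs
    exact sdiff_case X W W.2 _ (isOpen_biUnion fun j _ => (j : X.Opens).isOpen)
      (hs.isCompact_biUnion fun j _ => j.2.isCompact)
  · rintro Z₁ hZ₁ Z₂ hZ₂ ⟨X₁, f₁, hA₁, hP₁, -, -, hr₁⟩ ⟨X₂, f₂, hA₂, hP₂, -, -, hr₂⟩
    rw [← hr₁, ← hr₂]
    exact union_case X X₁ X₂ f₁ f₂

end Groth.Agent.Lib.Helper10.ConstrImage
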