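import Mathlib

/-!
# Constructible topology on spectral spaces (helper10)

Basic theory of the constructible topology: finer than the original topology, Hausdorff, totally
separated, compact; constructibly closed sets are quasi-compact; spectral maps are continuous for
the constructible topologies; closure of a constructibly closed set = set of specializations.
-/

set_option autoImplicit false

open Topology TopologicalSpace Set

namespace Groth.Agent.Lib.Helper10.Spectral

universe u v

variable {X : Type u} [TopologicalSpace X] {Y : Type v} [TopologicalSpace Y]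

/-- The constructible topology is finer than the original topology of a prespectral space. -/
theorem constructibleTopology_le [PrespectralSpace X] :
    constructibleTopology X ≤ (inferInstance : TopologicalSpace X) := by
  intro U hU
  change IsOpen U at hU
  rw [PrespectralSpace.isTopologicalBasis.open_eq_sUnion' hU]
  apply @isOpen_sUnion _ (constructibleTopology X)
  rintro V ⟨⟨hVo, hVc⟩, _⟩
  exact hVc.isOpen_constructibleTopology_of_isOpen hVo

theorem isOpen_constr_of_isOpen [PrespectralSpace X] {U : Set X} (hU : IsOpen U) :
    IsOpen[constructibleTopology X] U :=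
  constructibleTopology_le U hU

theorem isClosed_constr_of_isClosed [PrespectralSpace X] {Z : Set X} (hZ : IsClosed Z) :
    IsClosed[constructibleTopology X] Z := by
  rw [← @isOpen_compl_iff _ _ (constructibleTopology X)]
  exact isOpen_constr_of_isOpen hZ.isOpen_compl

theorem isClosed_constr_of_isCompact_isOpen {U : Set X} (hU : IsOpen U) (hUc : IsCompact U) :
    IsClosed[constructibleTopology X] U := by
  rw [← @isOpen_compl_iff _ _ (constructibleTopology X)]
  exact IsCompact.isOpen_constructibleTopology_of_isClosed (by simpa using hUc) hU.isClosed_compl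

theorem isOpen_constr_of_isCompact_isOpen {U : Set X} (hU : IsOpen U) (hUc : IsCompact U) :
    IsOpen[constructibleTopology X] U :=
  hUc.isOpen_constructibleTopology_of_isOpen hU

theorem isClopen_constr_of_isCompact_isOpen {U : Set X} (hU : IsOpen U) (hUc : IsCompact U) :
    @IsClopen X (constructibleTopology X) U :=
  ⟨isClosed_constr_of_isCompact_isOpen hU hUc, isOpen_constr_of_isCompact_isOpen hU hUc⟩

/-- In a T0 prespectral space two distinct points are separated by a compact open set. -/
theorem exists_isCompact_isOpen_separating [T0Space X] [PrespectralSpace X] {x y : X} (h : x ≠ y) :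
    ∃ U : Set X, IsOpen U ∧ IsCompact U ∧ ((x ∈ U ∧ y ∉ U) ∨ (y ∈ U ∧ x ∉ U)) := by
  obtain ⟨O, hO, hxy⟩ := exists_isOpen_xor_mem h
  rcases hxy with ⟨hx, hy⟩ | ⟨hy, hx⟩
  · obtain ⟨V, ⟨hVo, hVc⟩, hxV, hVO⟩ :=
      PrespectralSpace.isTopologicalBasis.exists_subset_of_mem_open hx hO
    exact ⟨V, hVo, hVc, Or.inl ⟨hxV, fun h => hy (hVO h)⟩⟩
  · obtain ⟨V, ⟨hVo, hVc⟩, hyV, hVO⟩ :=
      PrespectralSpace.isTopologicalBasis.exists_subset_of_mem_open hy hO
    exact ⟨V, hVo, hVc, Or.inr ⟨hyV, fun h => hx (hVO h)⟩⟩

/-- Points of a T0 prespectral space are separated by sets clopen in the constructible topology. -/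
theorem exists_isClopen_constr_separating [T0Space X] [PrespectralSpace X] {x y : X} (h : x ≠ y) :
    ∃ U : Set X, @IsClopen X (constructibleTopology X) U ∧ x ∈ U ∧ y ∉ U := by
  obtain ⟨U, hUo, hUc, hxy⟩ := exists_isCompact_isOpen_separating h
  rcases hxy with ⟨hx, hy⟩ | ⟨hy, hx⟩
  · exact ⟨U, isClopen_constr_of_isCompact_isOpen hUo hUc, hx, hy⟩
  · exact ⟨Uᶜ, @IsClopen.compl X (constructibleTopology X) U
      (isClopen_constr_of_isCompact_isOpen hUo hUc), hx, fun h => h hy⟩

theorem totallySeparatedSpace_constr [T0Space X] [PrespectralSpace X] :
    @TotallySeparatedSpace X (constructibleTopology X) := by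
  rw [@totallySeparatedSpace_iff_exists_isClopen X (constructibleTopology X)]
  intro x y hxy
  obtain ⟨U, hU, hx, hy⟩ := exists_isClopen_constr_separating hxy
  exact ⟨U, hU, hx, hy⟩

theorem t2Space_constr [T0Space X] [PrespectralSpace X] :
    @T2Space X (constructibleTopology X) :=
  @TotallySeparatedSpace.t2Space X (constructibleTopology X) totallySeparatedSpace_constr

theorem totallyDisconnectedSpace_constr [T0Space X] [PrespectralSpace X] :
    @TotallyDisconnectedSpace X (constructibleTopology X) :=
  @TotallySeparatedSpace.totallyDisconnectedSpace X (constructibleTopology X)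
    totallySeparatedSpace_constr

theorem compactSpace_constr [CompactSpace X] [QuasiSober X] [PrespectralSpace X]
    [QuasiSeparatedSpace X] : @CompactSpace X (constructibleTopology X) := by
  have h : CompactSpace (WithConstructibleTopology X) := inferInstance
  exact @Function.Surjective.compactSpace (WithConstructibleTopology X) X _
    (constructibleTopology X) WithTopology.ofTopology
    (WithTopology.continuous_ofTopology _) h (WithTopology.ofTopology_surjective _)

/-- A constructibly closed subset of a spectral space is compact for the constructible topology. -/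
theorem isCompact_constr_of_isClosed_constr [CompactSpace X] [QuasiSober X] [PrespectralSpace X]
    [QuasiSeparatedSpace X] {E : Set X} (hE : IsClosed[constructibleTopology X] E) :
    @IsCompact X (constructibleTopology X) E :=
  @IsClosed.isCompact X (constructibleTopology X) E compactSpace_constr hE

/-- A set compact for the constructible topology is compact for the original topology. -/
theorem isCompact_of_isCompact_constr [PrespectralSpace X] {E : Set X}
    (hE : @IsCompact X (constructibleTopology X) E) : IsCompact E := by
  have hc : @Continuous X X (constructibleTopology X) inferInstance id :=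
    continuous_id_of_le constructibleTopology_le
  simpa using @IsCompact.image X X (constructibleTopology X) inferInstance E id hE hc

/-- A constructibly closed subset of a spectral space is quasi-compact. -/
theorem isCompact_of_isClosed_constr [CompactSpace X] [QuasiSober X] [PrespectralSpace X]
    [QuasiSeparatedSpace X] {E : Set X} (hE : IsClosed[constructibleTopology X] E) :
    IsCompact E :=
  isCompact_of_isCompact_constr (isCompact_constr_of_isClosed_constr hE)

/-- Spectral maps are continuous for the constructible topologies. -/
theorem _root_.IsSpectralMap.continuous_constr {f : X → Y} (hf : IsSpectralMap f) :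
    Continuous[constructibleTopology X, constructibleTopology Y] f := by
  apply continuous_generateFrom_iff.mpr
  rintro s (⟨hso, hsc⟩ | ⟨hscl, hsc⟩)
  · exact (hf.isCompact_preimage_of_isOpen hso hsc).isOpen_constructibleTopology_of_isOpen
      (hso.preimage hf.continuous)
  · apply IsCompact.isOpen_constructibleTopology_of_isClosed _ (hscl.preimage hf.continuous)
    rw [← preimage_compl]
    exact hf.isCompact_preimage_of_isOpen hscl.isOpen_compl hsc

/-- A continuous map of spectral spaces which is continuous for the constructible topologies is
spectral. -/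
theorem isSpectralMap_of_continuous_constr [CompactSpace X] [QuasiSober X] [PrespectralSpace X]
    [QuasiSeparatedSpace X] {f : X → Y} (hf : Continuous f)
    (hfc : Continuous[constructibleTopology X, constructibleTopology Y] f) : IsSpectralMap f := by
  refine ⟨hf, fun s hso hsc => ?_⟩
  apply isCompact_of_isClosed_constr
  exact @IsClosed.preimage X Y (constructibleTopology X) (constructibleTopology Y) f hfc s
    (isClosed_constr_of_isCompact_isOpen hso hsc)

section Specialization

variable [CompactSpace X] [QuasiSober X] [PrespectralSpace X] [QuasiSeparatedSpace X]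

/-- A family of constructibly closed sets with the finite intersection property has nonempty
intersection. -/
theorem nonempty_iInter_of_isClosed_constr {ι : Type*} (Z : ι → Set X)
    (hZ : ∀ i, IsClosed[constructibleTopology X] (Z i))
    (hfin : ∀ s : Finset ι, (⋂ i ∈ s, Z i).Nonempty) : (⋂ i, Z i).Nonempty := by
  by_contra hne
  rw [Set.not_nonempty_iff_eq_empty] at hne
  have hcu : @IsCompact X (constructibleTopology X) Set.univ :=
    @isCompact_univ X (constructibleTopology X) compactSpace_constr
  obtain ⟨s, hs⟩ := @IsCompact.elim_finite_subfamily_closed X (constructibleTopology X) _ _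
    hcu Z hZ (by simpa using hne)
  have := hfin s
  rw [Set.univ_inter] at hs
  rw [hs] at this
  exact Set.not_nonempty_empty this

/-- In a spectral space, every point of the closure of a constructibly closed set is a
specialization of a point of the set. -/
theorem exists_specializes_of_mem_closure {E : Set X}
    (hE : IsClosed[constructibleTopology X] E) {x : X} (hx : x ∈ closure E) :
    ∃ e ∈ E, e ⤳ x := by
  classical
  -- the compact open neighbourhoods of x
  let ι := {U : Set X // IsOpen U ∧ IsCompact U ∧ x ∈ U}
  let Z : Option ι → Set X := fun o => o.elim E (fun U => U.1)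
  have hZ : ∀ o, IsClosed[constructibleTopology X] (Z o) := by
    rintro (_ | U)
    · exact hE
    · exact isClosed_constr_of_isCompact_isOpen U.2.1 U.2.2.1
  have hfin : ∀ s : Finset (Option ι), (⋂ i ∈ s, Z i).Nonempty := by
    intro s
    -- the intersection of the finitely many opens is an open neighbourhood of x, meets E
    let O : Set X := ⋂ i ∈ s, (i.elim Set.univ (fun U : ι => U.1))
    have hO : IsOpen O := by
      apply isOpen_biInter_finset
      rintro (_ | U) _
      · exact isOpen_univ
      · exact U.2.1
    have hxO : x ∈ O := by
      simp only [O, Set.mem_iInter]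
      rintro (_ | U) _
      · trivial
      · exact U.2.2.2
    obtain ⟨e, heO, heE⟩ := mem_closure_iff.mp hx O hO hxO
    refine ⟨e, ?_⟩
    simp only [Set.mem_iInter]
    rintro (_ | U) hU
    · exact heE
    · have := heO
      simp only [O, Set.mem_iInter] at this
      exact this (some U) hU
  obtain ⟨e, he⟩ := nonempty_iInter_of_isClosed_constr Z hZ hfin
  rw [Set.mem_iInter] at he
  refine ⟨e, he none, ?_⟩
  rw [specializes_iff_forall_open]
  intro O hO hxO
  obtain ⟨V, ⟨hVo, hVc⟩, hxV, hVO⟩ :=
    PrespectralSpace.isTopologicalBasis.exists_subset_of_mem_open hxO hO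
  exact hVO (he (some ⟨V, hVo, hVc, hxV⟩))

/-- A constructibly closed set stable under specialization is closed. -/
theorem isClosed_of_isClosed_constr_of_stableUnderSpecialization {E : Set X}
    (hE : IsClosed[constructibleTopology X] E) (hs : StableUnderSpecialization E) :
    IsClosed E := by
  rw [← closure_subset_iff_isClosed]
  intro x hx
  obtain ⟨e, he, hex⟩ := exists_specializes_of_mem_closure hE hx
  exact hs hex he

/-- A constructibly open set stable under generalization is open. -/
theorem isOpen_of_isOpen_constr_of_stableUnderGeneralization {E : Set X}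
    (hE : IsOpen[constructibleTopology X] E) (hs : StableUnderGeneralization E) :
    IsOpen E := by
  rw [← isClosed_compl_iff]
  apply isClosed_of_isClosed_constr_of_stableUnderSpecialization
  · rw [@isClosed_compl_iff _ (constructibleTopology X)]; exact hE
  · exact hs.compl

end Specialization

end Groth.Agent.Lib.Helper10.Spectral

namespace Groth.Agent.Lib.Helper10.Spectral

universe u

variable {X : Type u} [TopologicalSpace X]

instance totallySeparatedSpace_withConstructibleTopology [T0Space X] [PrespectralSpace X] :
    TotallySeparatedSpace (WithConstructibleTopology X) := by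
  rw [totallySeparatedSpace_iff_exists_isClopen]
  intro x y hxy
  have hne : x.ofTopology ≠ y.ofTopology := fun h => hxy ((WithTopology.ofTopology_injective _) h)
  obtain ⟨U, hU, hx, hy⟩ := exists_isClopen_constr_separating hne
  refine ⟨WithTopology.ofTopology ⁻¹' U, ?_, hx, hy⟩
  have hc : @Continuous (WithConstructibleTopology X) X _ (constructibleTopology X)
      WithTopology.ofTopology := WithTopology.continuous_ofTopology (constructibleTopology X)
  exact ⟨@IsClosed.preimage _ _ _ (constructibleTopology X) _ hc U hU.1,
    @IsOpen.preimage _ _ _ (constructibleTopology X) _ hc U hU.2⟩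

end Groth.Agent.Lib.Helper10.Spectral

namespace Groth.Agent.Lib.Helper10.Spectral

universe u v

variable {X : Type u} [TopologicalSpace X] {Y : Type v} [TopologicalSpace Y]

/-- A spectral map from a spectral space to a T0 prespectral space sends constructibly closed sets
to constructibly closed sets. -/
theorem isClosed_constr_image [CompactSpace X] [QuasiSober X] [PrespectralSpace X]
    [QuasiSeparatedSpace X] [T0Space Y] [PrespectralSpace Y] {f : X → Y} (hf : IsSpectralMap f)
    {Z : Set X} (hZ : IsClosed[constructibleTopology X] Z) :
    IsClosed[constructibleTopology Y] (f '' Z) := by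
  have hT2 : @T2Space Y (constructibleTopology Y) := t2Space_constr
  exact @IsCompact.isClosed Y (constructibleTopology Y) hT2 _
    (@IsCompact.image X Y (constructibleTopology X) (constructibleTopology Y) Z f
      (isCompact_constr_of_isClosed_constr hZ) hf.continuous_constr)

/-- A bijective spectral map from a spectral space to a T0 prespectral space sends constructibly
open sets to constructibly open sets. -/
theorem isOpen_constr_image_of_bijective [CompactSpace X] [QuasiSober X] [PrespectralSpace X]
    [QuasiSeparatedSpace X] [T0Space Y] [PrespectralSpace Y] {f : X → Y} (hf : IsSpectralMap f)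
    (hb : Function.Bijective f)
    {O : Set X} (hO : IsOpen[constructibleTopology X] O) :
    IsOpen[constructibleTopology Y] (f '' O) := by
  rw [← @isClosed_compl_iff _ (constructibleTopology Y), ← Set.image_compl_eq hb]
  apply isClosed_constr_image hf
  rw [@isClosed_compl_iff _ (constructibleTopology X)]
  exact hO

end Groth.Agent.Lib.Helper10.Spectral

namespace Groth.Agent.Lib.Helper10.Spectral

universe u v

variable {X : Type u} [TopologicalSpace X]

theorem isClosed_constr_inter {A B : Set X} (hA : IsClosed[constructibleTopology X] A)
    (hB : IsClosed[constructibleTopology X] B) : IsClosed[constructibleTopology X] (A ∩ B) :=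
  @IsClosed.inter X A B (constructibleTopology X) hA hB

theorem isClosed_constr_iInter {ι : Sort*} {A : ι → Set X}
    (hA : ∀ i, IsClosed[constructibleTopology X] (A i)) :
    IsClosed[constructibleTopology X] (⋂ i, A i) :=
  @isClosed_iInter X ι (constructibleTopology X) A hA

theorem isClosed_constr_union {A B : Set X} (hA : IsClosed[constructibleTopology X] A)
    (hB : IsClosed[constructibleTopology X] B) : IsClosed[constructibleTopology X] (A ∪ B) :=
  @IsClosed.union X A B (constructibleTopology X) hA hB

section Subspace

variable [SpectralSpace X] {E : Set X}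

/-- The inclusion of a constructibly closed subset of a spectral space is a spectral map. -/
theorem isSpectralMap_subtype_val (hE : IsClosed[constructibleTopology X] E) :
    IsSpectralMap (Subtype.val : E → X) := by
  refine ⟨continuous_subtype_val, fun U hUo hUc => ?_⟩
  have hcomp : IsCompact (U ∩ E) :=
    isCompact_of_isClosed_constr
      (isClosed_constr_inter (isClosed_constr_of_isCompact_isOpen hUo hUc) hE)
  have := IsInducing.subtypeVal.isCompact_preimage' (f := (Subtype.val : E → X)) hcomp
    (by simp [Subtype.range_val])
  convert this using 1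
  ext ⟨x, hx⟩
  simp [hx]

/-- A constructibly closed subset of a spectral space is a spectral space. -/
theorem spectralSpace_of_isClosed_constr (hE : IsClosed[constructibleTopology X] E) :
    SpectralSpace E := by
  have hcE : IsCompact E := isCompact_of_isClosed_constr hE
  have hsp := isSpectralMap_subtype_val hE
  have h1 : CompactSpace E := isCompact_iff_compactSpace.mp hcE
  have h2 : PrespectralSpace E := PrespectralSpace.of_isInducing Subtype.val IsInducing.subtypeVal hsp
  have h3 : QuasiSeparatedSpace E := by
    let b : {U : Set X // IsOpen U ∧ IsCompact U} → Set E := fun U => Subtype.val ⁻¹' U.1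
    have hb : IsTopologicalBasis (Set.range b) := by
      have := (PrespectralSpace.isTopologicalBasis (X := X)).isInducing
        (IsInducing.subtypeVal (t := E))
      convert this using 1
      ext s
      simp only [Set.mem_range, Subtype.exists, Set.mem_image, Set.mem_ofPred_eq, b]
      constructor
      · rintro ⟨U, hU, rfl⟩; exact ⟨U, hU, rfl⟩
      · rintro ⟨U, hU, rfl⟩; exact ⟨U, hU, rfl⟩
    apply QuasiSeparatedSpace.of_isTopologicalBasis hb
    rintro ⟨U, hUo, hUc⟩ ⟨V, hVo, hVc⟩
    have : b ⟨U, hUo, hUc⟩ ∩ b ⟨V, hVo, hVc⟩ = Subtype.val ⁻¹' (U ∩ V) := by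
      simp [b, Set.preimage_inter]
    rw [this]
    exact hsp.isCompact_preimage_of_isOpen (hUo.inter hVo) (hUc.inter_of_isOpen hVc hUo hVo)
  have h4 : QuasiSober E := by
    constructor
    intro S hS hScl
    have hS' : IsIrreducible (Subtype.val '' S : Set X) :=
      hS.image _ continuous_subtype_val.continuousOn
    have hgen := hS'.isGenericPoint_genericPoint_closure
    set ξ := hS'.genericPoint with hξ
    -- S = val⁻¹ (closure (val '' S))
    have hSeq : S = Subtype.val ⁻¹' closure (Subtype.val '' S : Set X) := by
      rw [← IsInducing.subtypeVal.closure_eq_preimage_closure_image, hScl.closure_eq]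
    have himg : (Subtype.val '' S : Set X) = closure (Subtype.val '' S : Set X) ∩ E := by
      conv_lhs => rw [hSeq]
      rw [Subtype.image_preimage_coe, Set.inter_comm]
    have hcc : IsClosed[constructibleTopology X] (Subtype.val '' S : Set X) := by
      rw [himg]
      exact isClosed_constr_inter (isClosed_constr_of_isClosed isClosed_closure) hE
    have hξmem : ξ ∈ closure (Subtype.val '' S : Set X) := hgen.mem
    obtain ⟨e, heS, heξ⟩ := exists_specializes_of_mem_closure hcc hξmem
    have hξe : ξ ⤳ e := by
      rw [specializes_iff_mem_closure, hgen.def]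
      exact subset_closure heS
    have hee : e = ξ := (heξ.antisymm hξe).eq
    obtain ⟨s, hsS, hse⟩ := heS
    refine ⟨s, ?_⟩
    rw [IsGenericPoint, IsInducing.subtypeVal.closure_eq_preimage_closure_image, Set.image_singleton,
      hse, hee, hgen.def, ← hSeq]
  exact { }

end Subspace

end Groth.Agent.Lib.Helper10.Spectral

namespace Groth.Agent.Lib.Helper10.Spectral

universe u v

variable {X : Type u} [TopologicalSpace X] {Y : Type v} [TopologicalSpace Y]

/-- The product of two quasi-sober spaces is quasi-sober. -/
instance quasiSober_prod [QuasiSober X] [QuasiSober Y] : QuasiSober (X × Y) := by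
  constructor
  intro S hS hScl
  have hS₁ : IsIrreducible (Prod.fst '' S) := hS.image _ continuous_fst.continuousOn
  have hS₂ : IsIrreducible (Prod.snd '' S) := hS.image _ continuous_snd.continuousOn
  have hg₁ := hS₁.isGenericPoint_genericPoint_closure
  have hg₂ := hS₂.isGenericPoint_genericPoint_closure
  set ξ₁ := hS₁.genericPoint
  set ξ₂ := hS₂.genericPoint
  refine ⟨(ξ₁, ξ₂), ?_⟩
  have hcl : closure ({(ξ₁, ξ₂)} : Set (X × Y)) = closure (Prod.fst '' S) ×ˢ closure (Prod.snd '' S) := by
    rw [← Set.singleton_prod_singleton, closure_prod_eq, hg₁.def, hg₂.def]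
  apply subset_antisymm
  · rw [hScl.closure_subset_iff, Set.singleton_subset_iff]
    by_contra hmem
    obtain ⟨U, V, hU, hV, hξU, hξV, hUV⟩ := isOpen_prod_iff.mp hScl.isOpen_compl ξ₁ ξ₂ hmem
    have h1 : (S ∩ Prod.fst ⁻¹' U).Nonempty := by
      obtain ⟨x, hxU, ⟨s, hs, rfl⟩⟩ := mem_closure_iff.mp hg₁.mem U hU hξU
      exact ⟨s, hs, hxU⟩
    have h2 : (S ∩ Prod.snd ⁻¹' V).Nonempty := by
      obtain ⟨x, hxV, ⟨s, hs, rfl⟩⟩ := mem_closure_iff.mp hg₂.mem V hV hξV
      exact ⟨s, hs, hxV⟩
    obtain ⟨r, hrS, hrU, hrV⟩ := hS.2 _ _ (hU.preimage continuous_fst) (hV.preimage continuous_snd) h1 h2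
    exact hUV (Set.mk_mem_prod hrU hrV) hrS
  · rw [hcl]
    intro s hs
    exact ⟨subset_closure ⟨s, hs, rfl⟩, subset_closure ⟨s, hs, rfl⟩⟩

/-- The product of two spectral spaces is spectral. -/
instance spectralSpace_prod [SpectralSpace X] [SpectralSpace Y] : SpectralSpace (X × Y) := by
  let b : {U : Set X // IsOpen U ∧ IsCompact U} × {V : Set Y // IsOpen V ∧ IsCompact V} →
      Set (X × Y) := fun p => p.1.1 ×ˢ p.2.1
  have hb : IsTopologicalBasis (Set.range b) := by
    have := (PrespectralSpace.isTopologicalBasis (X := X)).prod
      (PrespectralSpace.isTopologicalBasis (X := Y))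
    convert this using 1
    ext s
    simp only [Set.mem_range, Prod.exists, Subtype.exists, Set.mem_image2, Set.mem_ofPred_eq, b]
    constructor
    · rintro ⟨U, hU, V, hV, rfl⟩; exact ⟨U, hU, V, hV, rfl⟩
    · rintro ⟨U, hU, V, hV, rfl⟩; exact ⟨U, hU, V, hV, rfl⟩
  have h2 : PrespectralSpace (X × Y) :=
    PrespectralSpace.of_isTopologicalBasis' hb fun p => p.1.2.2.prod p.2.2.2
  have h3 : QuasiSeparatedSpace (X × Y) := by
    apply QuasiSeparatedSpace.of_isTopologicalBasis hb
    rintro ⟨⟨U, hUo, hUc⟩, ⟨V, hVo, hVc⟩⟩ ⟨⟨U', hUo', hUc'⟩, ⟨V', hVo', hVc'⟩⟩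
    simp only [b, Set.prod_inter_prod]
    exact (hUc.inter_of_isOpen hUc' hUo hUo').prod (hVc.inter_of_isOpen hVc' hVo hVo')
  exact { }

end Groth.Agent.Lib.Helper10.Spectral

namespace Groth.Agent.Lib.Helper10.Spectral

universe u v

variable {X : Type u} [TopologicalSpace X]

/-- Finite intersections of compact opens in a compact quasi-separated space are compact. -/
theorem isCompact_biInter_finset [CompactSpace X] [QuasiSeparatedSpace X] {ι : Type*}
    (s : Finset ι) (U : ι → Set X) (hU : ∀ i ∈ s, IsOpen (U i) ∧ IsCompact (U i)) :
    IsCompact (⋂ i ∈ s, U i) := by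
  classical
  induction s using Finset.induction_on with
  | empty => simpa using isCompact_univ
  | insert a s ha ih =>
    rw [Finset.set_biInter_insert]
    have h1 := hU a (Finset.mem_insert_self a s)
    have h2 : ∀ i ∈ s, IsOpen (U i) ∧ IsCompact (U i) := fun i hi => hU i (Finset.mem_insert_of_mem hi)
    exact h1.2.inter_of_isOpen (ih h2) h1.1 (isOpen_biInter_finset fun i hi => (h2 i hi).1)

/-- Constructible subsets of a spectral space are clopen in the constructible topology. -/
theorem isClopen_constr_of_isConstructible [CompactSpace X] {s : Set X}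
    (hs : Topology.IsConstructible s) : @IsClopen X (constructibleTopology X) s := by
  induction hs using Topology.IsConstructible.empty_union_induction with
  | open_retrocompact U hUo hUc => exact isClopen_constr_of_isCompact_isOpen hUo hUc.isCompact
  | union s _ t _ hs' ht' => exact @IsClopen.union X (constructibleTopology X) s t hs' ht'
  | compl s _ hs' => exact @IsClopen.compl X (constructibleTopology X) s hs'

theorem isClosed_constr_of_isConstructible [CompactSpace X] {s : Set X}
    (hs : Topology.IsConstructible s) : IsClosed[constructibleTopology X] s :=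
  (isClopen_constr_of_isConstructible hs).1

theorem isOpen_constr_of_isConstructible [CompactSpace X] {s : Set X}
    (hs : Topology.IsConstructible s) : IsOpen[constructibleTopology X] s :=
  (isClopen_constr_of_isConstructible hs).2

/-- The set of generalizations of points of a compact set in a prespectral space is the
intersection of the compact opens containing it. -/
theorem generalizations_eq_sInter [PrespectralSpace X] {E : Set X} (hE : IsCompact E) :
    {x | ∃ e ∈ E, x ⤳ e} = ⋂₀ {U : Set X | IsOpen U ∧ IsCompact U ∧ E ⊆ U} := by
  apply subset_antisymm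
  · rintro x ⟨e, he, hxe⟩ U ⟨hUo, _, hEU⟩
    exact hUo.stableUnderGeneralization hxe (hEU he)
  · intro x hx
    by_contra hcon
    simp only [Set.mem_setOf_eq, not_exists, not_and] at hcon
    -- for every e ∈ E there is a compact open containing e but not x
    have : ∀ e ∈ E, ∃ U : Set X, IsOpen U ∧ IsCompact U ∧ e ∈ U ∧ x ∉ U := by
      intro e he
      have := hcon e he
      rw [specializes_iff_forall_open] at this
      push_neg at this
      obtain ⟨O, hO, heO, hxO⟩ := this
      obtain ⟨V, ⟨hVo, hVc⟩, heV, hVO⟩ :=
        PrespectralSpace.isTopologicalBasis.exists_subset_of_mem_open heO hO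
      exact ⟨V, hVo, hVc, heV, fun h => hxO (hVO h)⟩
    choose! U hUo hUc heU hxU using this
    obtain ⟨t, htE, hcov⟩ := hE.elim_nhds_subcover U
      (fun e he => (hUo e he).mem_nhds (heU e he))
    have hmem : (⋃ e ∈ t, U e) ∈ {U : Set X | IsOpen U ∧ IsCompact U ∧ E ⊆ U} :=
      ⟨isOpen_biUnion fun e he => hUo e (htE e he),
        t.isCompact_biUnion fun e he => hUc e (htE e he), hcov⟩
    have hx' := hx _ hmem
    simp only [Set.mem_iUnion] at hx'
    obtain ⟨e, het, hxe⟩ := hx'
    exact hxU e (htE e het) hxe

end Groth.Agent.Lib.Helper10.Spectral

namespace Groth.Agent.Lib.Helper10.Spectral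

universe u v

variable {X : Type u} [TopologicalSpace X] {Y : Type v} [TopologicalSpace Y]

theorem continuous_map_withConstr {f : X → Y} (hf : IsSpectralMap f) :
    Continuous (fun z : WithConstructibleTopology X =>
      (WithTopology.toTopology _ (f z.ofTopology) : WithConstructibleTopology Y)) := by
  rw [continuous_def]
  intro s hs
  rw [WithConstructibleTopology.isOpen_iff] at hs ⊢
  exact @Continuous.isOpen_preimage X Y (constructibleTopology X) (constructibleTopology Y) f
    hf.continuous_constr _ hs

theorem continuous_ofTopology_orig [PrespectralSpace X] :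
    Continuous (WithTopology.ofTopology : WithConstructibleTopology X → X) := by
  rw [continuous_def]
  intro s hs
  rw [WithConstructibleTopology.isOpen_iff]
  exact isOpen_constr_of_isOpen hs

theorem isClosed_withConstr_iff {s : Set X} :
    IsClosed (WithTopology.ofTopology ⁻¹' s : Set (WithConstructibleTopology X)) ↔
      IsClosed[constructibleTopology X] s := by
  rw [WithConstructibleTopology.isClosed_iff]
  rfl

theorem isClosed_constr_preimage {f : X → Y} (hf : IsSpectralMap f) {s : Set Y}
    (hs : IsClosed[constructibleTopology Y] s) : IsClosed[constructibleTopology X] (f ⁻¹' s) :=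
  @IsClosed.preimage X Y (constructibleTopology X) (constructibleTopology Y) f
    hf.continuous_constr s hs

theorem isOpen_constr_preimage {f : X → Y} (hf : IsSpectralMap f) {s : Set Y}
    (hs : IsOpen[constructibleTopology Y] s) : IsOpen[constructibleTopology X] (f ⁻¹' s) :=
  @IsOpen.preimage X Y (constructibleTopology X) (constructibleTopology Y) f
    hf.continuous_constr s hs

end Groth.Agent.Lib.Helper10.Spectral

namespace Groth.Agent.Lib.Helper10.Spectral

universe u v

variable {X : Type u} [TopologicalSpace X] {Y : Type v} [TopologicalSpace Y]

/-- Preimages of constructible sets under spectral maps are constructible. -/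
theorem isConstructible_preimage_of_isSpectralMap [CompactSpace Y] [QuasiSeparatedSpace X]
    {f : X → Y} (hf : IsSpectralMap f) {s : Set Y} (hs : Topology.IsConstructible s) :
    Topology.IsConstructible (f ⁻¹' s) :=
  hs.preimage hf.continuous fun t hto htc =>
    (hf.isCompact_preimage_of_isOpen hto htc.isCompact).isRetrocompact (hto.preimage hf.continuous)

end Groth.Agent.Lib.Helper10.Spectral
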