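import Mathlib
import Groth.Agent.Lib.Helper10Spectral

/-!
# Constructible topology on locally spectral quasi-separated spaces (helper10)

For a quasi-separated, quasi-sober, prespectral space `X` (e.g. a quasi-separated scheme):
compact opens are compact (and clopen) for the constructible topology, constructibly closed subsets
of compact opens are constructibly compact, the constructible topology is Hausdorff, locally
compact, totally disconnected; locally constructible = constructibly clopen; spectral maps are
proper for the constructible topologies, and conversely.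
-/

set_option autoImplicit false
open Topology TopologicalSpace Set

namespace Groth.Agent.Lib.Helper10.ConstrLoc

open Groth.Agent.Lib.Helper10.Spectral

universe u v

variable {X : Type u} [TopologicalSpace X] {Y : Type v} [TopologicalSpace Y]

/-- In a spectral space, a constructibly clopen set is constructible. -/
theorem isConstructible_of_isClopen_constr [CompactSpace X] [QuasiSober X] [PrespectralSpace X]
    [QuasiSeparatedSpace X] {E : Set X} (hE : @IsClopen X (constructibleTopology X) E) :
    Topology.IsConstructible E := by
  classical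
  have hbasis := @TopologicalSpace.isTopologicalBasis_of_subbasis X (constructibleTopology X)
    (constructibleTopologySubbasis X) rfl
  have hcomp : @IsCompact X (constructibleTopology X) E := isCompact_constr_of_isClosed_constr hE.1
  -- every basic set is constructible
  have hb : ∀ B ∈ ((fun f : Set (Set X) => ⋂₀ f) ''
      {f : Set (Set X) | f.Finite ∧ f ⊆ constructibleTopologySubbasis X}),
      Topology.IsConstructible B := by
    rintro _ ⟨f, ⟨hf, hfs⟩, rfl⟩
    refine Topology.IsConstructible.sInter hf fun s hs => ?_
    rcases hfs hs with ⟨hso, hsc⟩ | ⟨hscl, hsc⟩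
    · exact hsc.isConstructible hso
    · rw [← Topology.isConstructible_compl]
      exact hsc.isConstructible hscl.isOpen_compl
  -- cover E by basic sets inside E
  have hcov : ∀ x ∈ E, ∃ B ∈ ((fun f : Set (Set X) => ⋂₀ f) ''
      {f : Set (Set X) | f.Finite ∧ f ⊆ constructibleTopologySubbasis X}), x ∈ B ∧ B ⊆ E :=
    fun x hx => @IsTopologicalBasis.exists_subset_of_mem_open X (constructibleTopology X) _ hbasis
      x E hx hE.2
  choose! B hB hxB hBE using hcov
  have hBo : ∀ x ∈ E, IsOpen[constructibleTopology X] (B x) := fun x hx =>
    @IsTopologicalBasis.isOpen X (constructibleTopology X) _ _ hbasis (hB x hx)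
  obtain ⟨t, htE⟩ := @IsCompact.elim_nhds_subcover' X (constructibleTopology X) E hcomp
    (fun x _ => B x) (fun x hx =>
      @IsOpen.mem_nhds X (constructibleTopology X) x (B x) (hBo x hx) (hxB x hx))
  have hEq : E = ⋃ x ∈ t, B x.1 := by
    apply subset_antisymm htE
    exact Set.iUnion₂_subset fun x _ => hBE x.1 x.2
  rw [hEq]
  exact Topology.IsConstructible.biUnion t.finite_toSet fun x _ => hb _ (hB x.1 x.2)

section Loc

variable [PrespectralSpace X] [QuasiSober X] [QuasiSeparatedSpace X]

theorem isSpectralMap_val {U : Set X} (hUo : IsOpen U) (hUc : IsCompact U) :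
    IsSpectralMap (Subtype.val : U → X) :=
  IsRetrocompact_iff_isSpectralMap_subtypeVal.mp (hUc.isRetrocompact hUo)

theorem continuous_constr_val {U : Set X} (hUo : IsOpen U) (hUc : IsCompact U) :
    Continuous[constructibleTopology U, constructibleTopology X] (Subtype.val : U → X) :=
  (isSpectralMap_val hUo hUc).continuous_constr

theorem compactSpace_constr_subtype {U : Set X} (hUo : IsOpen U) (hUc : IsCompact U) :
    @CompactSpace U (constructibleTopology U) := by
  have : CompactSpace U := isCompact_iff_compactSpace.mp hUc
  have : QuasiSober U := hUo.isOpenEmbedding_subtypeVal.quasiSober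
  have : PrespectralSpace U := hUo.isOpenEmbedding_subtypeVal.prespectralSpace
  have : QuasiSeparatedSpace U := hUo.isOpenEmbedding_subtypeVal.quasiSeparatedSpace
  exact compactSpace_constr

/-- A compact open subset is compact for the constructible topology. -/
theorem isCompact_constr_of_isCompact_isOpen {U : Set X} (hUo : IsOpen U) (hUc : IsCompact U) :
    @IsCompact X (constructibleTopology X) U := by
  have h1 := compactSpace_constr_subtype hUo hUc
  have h2 := @isCompact_range U X (constructibleTopology U) (constructibleTopology X) h1
    Subtype.val (continuous_constr_val hUo hUc)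
  rwa [Subtype.range_coe] at h2

/-- A constructibly closed subset of a compact open subset is constructibly compact. -/
theorem isCompact_constr_of_subset {U E : Set X} (hUo : IsOpen U) (hUc : IsCompact U)
    (hE : IsClosed[constructibleTopology X] E) (hEU : E ⊆ U) :
    @IsCompact X (constructibleTopology X) E :=
  @IsCompact.of_isClosed_subset X (constructibleTopology X) U E
    (isCompact_constr_of_isCompact_isOpen hUo hUc) hE hEU

theorem exists_isCompact_isOpen_mem (x : X) : ∃ U : Set X, IsOpen U ∧ IsCompact U ∧ x ∈ U := by
  obtain ⟨V, ⟨hVo, hVc⟩, hxV, -⟩ :=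
    PrespectralSpace.isTopologicalBasis.exists_subset_of_mem_open (mem_univ x) isOpen_univ
  exact ⟨V, hVo, hVc, hxV⟩

variable [T0Space X]

theorem isClosed_constr_of_isCompact_constr {E : Set X}
    (hE : @IsCompact X (constructibleTopology X) E) : IsClosed[constructibleTopology X] E :=
  @IsCompact.isClosed X (constructibleTopology X) t2Space_constr E hE

theorem weaklyLocallyCompactSpace_constr :
    @WeaklyLocallyCompactSpace X (constructibleTopology X) := by
  refine @WeaklyLocallyCompactSpace.mk X (constructibleTopology X) fun x => ?_
  obtain ⟨U, hUo, hUc, hxU⟩ := exists_isCompact_isOpen_mem x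
  exact ⟨U, isCompact_constr_of_isCompact_isOpen hUo hUc,
    @IsOpen.mem_nhds X (constructibleTopology X) x U (isOpen_constr_of_isCompact_isOpen hUo hUc) hxU⟩

theorem locallyCompactSpace_constr : @LocallyCompactSpace X (constructibleTopology X) :=
  @WeaklyLocallyCompactSpace.locallyCompactSpace X (constructibleTopology X)
    (@T2Space.r1Space X (constructibleTopology X) t2Space_constr) weaklyLocallyCompactSpace_constr

end Loc

section Generic

variable {Z : Type*}

theorem isOpen_of_forall_exists' {t : TopologicalSpace Z} {E : Set Z}
    (h : ∀ x ∈ E, ∃ V, IsOpen[t] V ∧ x ∈ V ∧ V ⊆ E) : IsOpen[t] E := by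
  letI := t
  exact isOpen_iff_forall_mem_open.mpr fun x hx =>
    let ⟨V, hV, hxV, hVE⟩ := h x hx
    ⟨V, hVE, hV, hxV⟩

theorem isClosed_of_forall_exists' {t : TopologicalSpace Z} {E : Set Z}
    (h : ∀ x, x ∉ E → ∃ V, IsOpen[t] V ∧ x ∈ V ∧ Disjoint V E) : IsClosed[t] E := by
  letI := t
  rw [← isOpen_compl_iff]
  refine isOpen_of_forall_exists' fun x hx => ?_
  obtain ⟨V, hV, hxV, hVE⟩ := h x hx
  exact ⟨V, hV, hxV, fun y hy hyE => Set.disjoint_left.mp hVE hy hyE⟩

theorem isOpen_sdiff' {t : TopologicalSpace Z} {A B : Set Z} (hA : IsOpen[t] A)
    (hB : IsClosed[t] B) : IsOpen[t] (A \ B) := by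
  letI := t
  exact hA.sdiff hB

end Generic

section Loc2

variable [PrespectralSpace X] [QuasiSober X] [QuasiSeparatedSpace X] [T0Space X]

theorem isClosed_constr_image_val {U : Set X} (hUo : IsOpen U) (hUc : IsCompact U) {F : Set U}
    (hF : IsClosed[constructibleTopology U] F) :
    IsClosed[constructibleTopology X] (Subtype.val '' F) := by
  have h1 := compactSpace_constr_subtype hUo hUc
  have h2 : @IsCompact U (constructibleTopology U) F :=
    @IsClosed.isCompact U (constructibleTopology U) F h1 hF
  have h3 := @IsCompact.image U X (constructibleTopology U) (constructibleTopology X) F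
    Subtype.val h2 (continuous_constr_val hUo hUc)
  exact isClosed_constr_of_isCompact_constr h3

/-- Locally constructible = clopen for the constructible topology. -/
theorem isLocallyConstructible_iff_isClopen_constr {E : Set X} :
    Topology.IsLocallyConstructible E ↔ @IsClopen X (constructibleTopology X) E := by
  constructor
  · intro hE
    have key : ∀ U : Set X, IsOpen U → IsCompact U →
        IsClosed[constructibleTopology X] (U ∩ E) ∧ IsClosed[constructibleTopology X] (U \ E) := by
      intro U hUo hUc
      have : CompactSpace U := isCompact_iff_compactSpace.mp hUc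
      have : QuasiSober U := hUo.isOpenEmbedding_subtypeVal.quasiSober
      have : PrespectralSpace U := hUo.isOpenEmbedding_subtypeVal.prespectralSpace
      have : QuasiSeparatedSpace U := hUo.isOpenEmbedding_subtypeVal.quasiSeparatedSpace
      have h1 : Topology.IsConstructible (Subtype.val ⁻¹' E : Set U) :=
        (hE.preimage_of_isOpenEmbedding hUo.isOpenEmbedding_subtypeVal).isConstructible
      have h2 := isClopen_constr_of_isConstructible h1
      have h2' := isClopen_constr_of_isConstructible (Topology.isConstructible_compl.mpr h1)
      have h3 := isClosed_constr_image_val hUo hUc h2.1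
      have h4 := isClosed_constr_image_val hUo hUc h2'.1
      rw [Subtype.image_preimage_coe] at h3
      rw [← Set.preimage_compl, Subtype.image_preimage_coe] at h4
      exact ⟨h3, by rwa [Set.diff_eq]⟩
    constructor
    · refine isClosed_of_forall_exists' fun x hx => ?_
      obtain ⟨U, hUo, hUc, hxU⟩ := exists_isCompact_isOpen_mem x
      refine ⟨U \ (U ∩ E), isOpen_sdiff' (isOpen_constr_of_isCompact_isOpen hUo hUc)
        (key U hUo hUc).1, ⟨hxU, fun h => hx h.2⟩, ?_⟩
      rw [Set.disjoint_left]
      rintro y ⟨hyU, hy⟩ hyE
      exact hy ⟨hyU, hyE⟩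
    · refine isOpen_of_forall_exists' fun x hx => ?_
      obtain ⟨U, hUo, hUc, hxU⟩ := exists_isCompact_isOpen_mem x
      refine ⟨U \ (U \ E), isOpen_sdiff' (isOpen_constr_of_isCompact_isOpen hUo hUc)
        (key U hUo hUc).2, ⟨hxU, fun h => h.2 hx⟩, ?_⟩
      rintro y ⟨hyU, hy⟩
      by_contra hyE
      exact hy ⟨hyU, hyE⟩
  · intro hE x
    obtain ⟨U, hUo, hUc, hxU⟩ := exists_isCompact_isOpen_mem x
    have : CompactSpace U := isCompact_iff_compactSpace.mp hUc
    have : QuasiSober U := hUo.isOpenEmbedding_subtypeVal.quasiSober
    have : PrespectralSpace U := hUo.isOpenEmbedding_subtypeVal.prespectralSpace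
    have : QuasiSeparatedSpace U := hUo.isOpenEmbedding_subtypeVal.quasiSeparatedSpace
    refine ⟨U, hUo.mem_nhds hxU, hUo, ?_⟩
    apply isConstructible_of_isClopen_constr
    exact @IsClopen.preimage U X (constructibleTopology U) (constructibleTopology X) E hE
      Subtype.val (continuous_constr_val hUo hUc)

end Loc2

section Proper

/-- A spectral map between quasi-separated locally spectral spaces is proper for the constructible
topologies. -/
theorem isProperMap_constr_of_isSpectralMap [PrespectralSpace X] [QuasiSober X]
    [QuasiSeparatedSpace X] [PrespectralSpace Y] [QuasiSober Y] [QuasiSeparatedSpace Y] [T0Space Y]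
    {f : X → Y} (hf : IsSpectralMap f) :
    @IsProperMap X Y (constructibleTopology X) (constructibleTopology Y) f := by
  have hcont := hf.continuous_constr
  refine (@isProperMap_iff_isClosedMap_and_compact_fibers X Y (constructibleTopology X)
    (constructibleTopology Y) f).mpr ⟨hcont, ?_, ?_⟩
  · intro A hA
    refine isClosed_of_forall_exists' fun y hy => ?_
    obtain ⟨V, hVo, hVc, hyV⟩ := exists_isCompact_isOpen_mem y
    have hWo : IsOpen (f ⁻¹' V) := hVo.preimage hf.continuous
    have hWc : IsCompact (f ⁻¹' V) := hf.isCompact_preimage_of_isOpen hVo hVc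
    have h1 : IsClosed[constructibleTopology X] (A ∩ f ⁻¹' V) :=
      isClosed_constr_inter hA (isClosed_constr_of_isCompact_isOpen hWo hWc)
    have h2 := isCompact_constr_of_subset hWo hWc h1 Set.inter_subset_right
    have h3 := @IsCompact.image X Y (constructibleTopology X) (constructibleTopology Y) _ f h2 hcont
    have h4 := isClosed_constr_of_isCompact_constr h3
    refine ⟨V \ (f '' (A ∩ f ⁻¹' V)), isOpen_sdiff' (isOpen_constr_of_isCompact_isOpen hVo hVc) h4,
      ⟨hyV, ?_⟩, ?_⟩
    · rintro ⟨a, ⟨haA, -⟩, rfl⟩
      exact hy ⟨a, haA, rfl⟩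
    · rw [Set.disjoint_left]
      rintro _ ⟨hzV, hz⟩ ⟨a, haA, rfl⟩
      exact hz ⟨a, ⟨haA, hzV⟩, rfl⟩
  · intro y
    obtain ⟨V, hVo, hVc, hyV⟩ := exists_isCompact_isOpen_mem y
    have hWo : IsOpen (f ⁻¹' V) := hVo.preimage hf.continuous
    have hWc : IsCompact (f ⁻¹' V) := hf.isCompact_preimage_of_isOpen hVo hVc
    have h0 : IsClosed[constructibleTopology Y] ({y} : Set Y) :=
      @IsCompact.isClosed Y (constructibleTopology Y) t2Space_constr {y}
        (@isCompact_singleton Y (constructibleTopology Y) y)
    have h1 : IsClosed[constructibleTopology X] (f ⁻¹' {y}) :=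
      @IsClosed.preimage X Y (constructibleTopology X) (constructibleTopology Y) f hcont {y} h0
    exact isCompact_constr_of_subset hWo hWc h1 (Set.preimage_mono (Set.singleton_subset_iff.mpr hyV))

theorem isSpectralMap_of_isProperMap_constr [PrespectralSpace X]
    [PrespectralSpace Y] [QuasiSober Y] [QuasiSeparatedSpace Y]
    {f : X → Y} (hc : Continuous f)
    (hf : @IsProperMap X Y (constructibleTopology X) (constructibleTopology Y) f) :
    IsSpectralMap f :=
  ⟨hc, fun V hVo hVc => isCompact_of_isCompact_constr
    (@IsProperMap.isCompact_preimage X Y (constructibleTopology X) (constructibleTopology Y) f hf V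
      (isCompact_constr_of_isCompact_isOpen hVo hVc))⟩

end Proper

section WithTop

/-- `(X, t)` is homeomorphic to `WithTopology X t`. -/
def homeoWithTopology (t : TopologicalSpace X) : @Homeomorph X (WithTopology X t) t _ :=
  @Homeomorph.mk X (WithTopology X t) t _ (WithTopology.equiv X t).symm
    (WithTopology.continuous_toTopology t) (WithTopology.continuous_ofTopology t)

theorem t2Space_withTopology {t : TopologicalSpace X} (h : @T2Space X t) :
    T2Space (WithTopology X t) :=
  @Homeomorph.t2Space X (WithTopology X t) t _ h (homeoWithTopology t)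

theorem totallyDisconnectedSpace_withTopology {t : TopologicalSpace X}
    (h : @TotallyDisconnectedSpace X t) : TotallyDisconnectedSpace (WithTopology X t) :=
  @Homeomorph.totallyDisconnectedSpace X (WithTopology X t) t _ (homeoWithTopology t) h

theorem locallyCompactSpace_withTopology {t : TopologicalSpace X}
    (h : @LocallyCompactSpace X t) : LocallyCompactSpace (WithTopology X t) :=
  @Topology.IsClosedEmbedding.locallyCompactSpace (WithTopology X t) X _ t h
    (@Homeomorph.symm X (WithTopology X t) t _ (homeoWithTopology t))
    (@Homeomorph.isClosedEmbedding (WithTopology X t) X _ t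
      (@Homeomorph.symm X (WithTopology X t) t _ (homeoWithTopology t)))

end WithTop

end Groth.Agent.Lib.Helper10.ConstrLoc
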