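import Mathlib
import Groth.Agent.Lib.Helper7Dim

set_option autoImplicit false
universe u
open CategoryTheory CategoryTheory.Limits AlgebraicGeometry TopologicalSpace

namespace Groth.Agent.Lib.Helper10.CurveFin

open Groth.Agent.Lib

section Top

variable {X Y : Type*} [TopologicalSpace X] [TopologicalSpace Y]

section
attribute [local instance] specializationOrder

lemma forall_of_topologicalKrullDim_le_one [QuasiSober X] [T0Space X]
    (h : topologicalKrullDim X ≤ 1) (y : X) :
    (∀ z, y ⤳ z → z ⤳ y) ∨ (∀ z, z ⤳ y → y ⤳ z) := by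
  rw [Helper7.topologicalKrullDim_eq_krullDim_points, Order.krullDim_le_one_iff] at h
  rcases h y with h | h
  · left; intro z hz; exact h hz
  · right; intro z hz; exact h hz

lemma one_le_topologicalKrullDim_of_specializes [QuasiSober X] [T0Space X] {a b : X}
    (h : b ⤳ a) (hne : ¬ a ⤳ b) : 1 ≤ topologicalKrullDim X := by
  rw [Helper7.topologicalKrullDim_eq_krullDim_points, Order.one_le_krullDim_iff]
  refine ⟨a, b, ?_⟩
  rw [lt_iff_le_not_ge]
  exact ⟨h, hne⟩

end

/-- `x` is a closed point. -/
lemma isClosed_singleton_of_forall [T0Space X] {x : X} (hx : ∀ z, x ⤳ z → z ⤳ x) :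
    IsClosed ({x} : Set X) := by
  rw [← closure_eq_iff_isClosed]
  apply Set.Subset.antisymm _ subset_closure
  intro x' hx'
  have h1 : x ⤳ x' := specializes_iff_mem_closure.mpr hx'
  exact ((hx x' h1).antisymm h1).eq

lemma closure_mem_irreducibleComponents_of_forall [QuasiSober X] [T0Space X] {x : X}
    (hx : ∀ z, z ⤳ x → x ⤳ z) : closure ({x} : Set X) ∈ irreducibleComponents X := by
  refine ⟨isIrreducible_singleton.closure, fun s hs hle => ?_⟩
  obtain ⟨g, hg⟩ := QuasiSober.sober hs.closure isClosed_closure
  have hxs : x ∈ closure s := subset_closure (hle (subset_closure rfl))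
  have h1 : g ⤳ x := by
    rw [specializes_iff_mem_closure, hg.def]; exact hxs
  have h2 : x ⤳ g := hx g h1
  have : closure s ⊆ closure {x} := by
    rw [← hg.def]
    exact closure_minimal (Set.singleton_subset_iff.mpr (specializes_iff_mem_closure.mp h2))
      isClosed_closure
  exact subset_closure.trans this

lemma finite_setOf_forall [NoetherianSpace X] [QuasiSober X] [T0Space X] :
    {x : X | ∀ z, z ⤳ x → x ⤳ z}.Finite := by
  have hfin := NoetherianSpace.finite_irreducibleComponents (α := X)
  refine Set.Finite.of_injOn (f := fun x : X => closure ({x} : Set X)) ?_ ?_ hfin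
  · intro x hx
    exact closure_mem_irreducibleComponents_of_forall hx
  · intro x _ x' _ h
    exact (inseparable_iff_closure_eq.mpr h).eq

lemma topologicalKrullDim_closure_eq_one [QuasiSober X] [T0Space X]
    (hdim : topologicalKrullDim X ≤ 1) {g x' : X} (hx'g : g ⤳ x') (hne : ¬ x' ⤳ g) :
    topologicalKrullDim ↥(closure ({g} : Set X)) = 1 := by
  apply le_antisymm
  · exact ((isClosed_closure (s := ({g} : Set X))).isClosedEmbedding_subtypeVal).topologicalKrullDim_le.trans hdim
  · have : QuasiSober ↥(closure ({g} : Set X)) :=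
      ((isClosed_closure (s := ({g} : Set X))).isClosedEmbedding_subtypeVal).quasiSober
    refine one_le_topologicalKrullDim_of_specializes
      (a := (⟨x', specializes_iff_mem_closure.mp hx'g⟩ : ↥(closure ({g} : Set X))))
      (b := ⟨g, subset_closure rfl⟩) ?_ ?_
    · exact Topology.IsInducing.subtypeVal.specializes_iff.mp hx'g
    · intro h
      exact hne (Topology.IsInducing.subtypeVal.specializes_iff.mpr h)

theorem finite_preimage_singleton [NoetherianSpace X] [QuasiSober X] [T0Space X]
    (hdim : topologicalKrullDim X ≤ 1) (f : X → Y) (hcont : Continuous f) (hf : IsClosedMap f)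
    (h : ∀ Z ∈ irreducibleComponents X, topologicalKrullDim ↥Z = 1 → (f '' Z).Nontrivial) (y : Y) :
    (f ⁻¹' {y}).Finite := by
  have hdim' := forall_of_topologicalKrullDim_le_one hdim
  by_cases hsub : f ⁻¹' {y} ⊆ {x : X | ∀ z, z ⤳ x → x ⤳ z}
  · exact finite_setOf_forall.subset hsub
  · rw [Set.not_subset] at hsub
    obtain ⟨x₀, hx₀, hx₀max⟩ := hsub
    have hx₀min : ∀ z, x₀ ⤳ z → z ⤳ x₀ := (hdim' x₀).resolve_right hx₀max
    have hycl : IsClosed ({y} : Set Y) := by
      have := hf _ (isClosed_singleton_of_forall hx₀min)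
      rwa [Set.image_singleton, show f x₀ = y from hx₀] at this
    have hFcl : IsClosed (f ⁻¹' {y}) := hycl.preimage hcont
    obtain ⟨S, hSf, hSc, hSi, hSU⟩ := NoetherianSpace.exists_finite_set_isClosed_irreducible hFcl
    have hsing : ∀ g : X, (∀ z, g ⤳ z → z ⤳ g) → (closure ({g} : Set X)).Finite := by
      intro g hmin
      rw [(isClosed_singleton_of_forall hmin).closure_eq]
      exact Set.finite_singleton g
    rw [hSU]
    refine Set.Finite.sUnion hSf fun t ht => ?_
    obtain ⟨g, hg⟩ := QuasiSober.sober (hSi t ht) (hSc t ht)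
    have htF : t ⊆ f ⁻¹' {y} := by rw [hSU]; exact Set.subset_sUnion_of_mem ht
    rw [← hg.def]
    by_cases hmin : ∀ z, g ⤳ z → z ⤳ g
    · exact hsing g hmin
    · have hmax := (hdim' g).resolve_left hmin
      push Not at hmin
      obtain ⟨x', hgx', hne⟩ := hmin
      have hcomp := closure_mem_irreducibleComponents_of_forall hmax
      have hd1 := topologicalKrullDim_closure_eq_one hdim hgx' hne
      have hnt := h _ hcomp hd1
      exfalso
      rw [hg.def] at hnt
      have hsub' : f '' t ⊆ {y} := by
        rintro _ ⟨x, hx, rfl⟩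
        exact htF hx
      exact (Set.subsingleton_singleton.anti hsub').not_nontrivial hnt

end Top

theorem main (k : Type u) [Field k] (X Y : Scheme.{u}) (p : X ⟶ Spec (CommRingCat.of k))
    (q : Y ⟶ Spec (CommRingCat.of k))
    [IsProper p] [IsSeparated q] (f : X ⟶ Y) (hf : f ≫ q = p) (hdim : topologicalKrullDim X ≤ 1)
    (h : ∀ Z ∈ irreducibleComponents (X : Type u), topologicalKrullDim Z = 1 →
      (f.base '' Z).Nontrivial) :
    IsFinite f := by
  have : IsProper (f ≫ q) := hf ▸ inferInstance
  have : IsProper f := IsProper.of_comp f q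
  have : IsLocallyNoetherian X := LocallyOfFiniteType.isLocallyNoetherian p
  have : CompactSpace X := QuasiCompact.compactSpace_of_compactSpace p
  have : IsNoetherian X := {}
  have : LocallyQuasiFinite f := LocallyQuasiFinite.of_finite_preimage_singleton f
    (fun y => finite_preimage_singleton hdim f f.continuous f.isClosedMap h y)
  exact IsFinite.of_isProper_of_locallyQuasiFinite f

end Groth.Agent.Lib.Helper10.CurveFin
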