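import Mathlib
import Groth.Agent.Lib.Helper7Dim

set_option autoImplicit false
universe u
open CategoryTheory CategoryTheory.Limits AlgebraicGeometry TopologicalSpace

namespace Groth.Agent.Lib.Helper10.CurveFlat

lemma injective_of_isField {R S : Type*} [CommRing R] [CommRing S] [Nontrivial S] (h : IsField R)
    (φ : R →+* S) : Function.Injective φ := by
  let _ := h.toField
  exact φ.injective

lemma coheight_le_of_topologicalKrullDim_le (Y : Scheme.{u}) (n : ℕ)
    (hY : topologicalKrullDim Y ≤ n) (y : Y) : Order.coheight y ≤ n := by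
  have h1 : topologicalKrullDim Y = Order.krullDim Y :=
    Helper7.topologicalKrullDim_eq_krullDim_points
  have h2 : (Order.coheight y : WithBot ℕ∞) ≤ Order.krullDim Y := Order.coheight_le_krullDim y
  rw [← h1] at h2
  have h3 := h2.trans hY
  exact_mod_cast h3

lemma stalkSpecializes_injective {Y : Scheme.{u}} [IsIntegral Y] {y y' : Y} (h : y' ⤳ y) :
    Function.Injective (Y.presheaf.stalkSpecializes h).hom := by
  have hη : genericPoint Y ⤳ y' := genericPoint_specializes y'
  have hcomp : Y.presheaf.stalkSpecializes h ≫ Y.presheaf.stalkSpecializes hη =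
      Y.presheaf.stalkSpecializes (hη.trans h) := Y.presheaf.stalkSpecializes_comp hη h
  have hinj : Function.Injective
      ((Y.presheaf.stalkSpecializes hη).hom ∘ (Y.presheaf.stalkSpecializes h).hom) := by
    have h0 : ⇑(Y.presheaf.stalkSpecializes hη).hom ∘ ⇑(Y.presheaf.stalkSpecializes h).hom =
        ⇑(Y.presheaf.stalkSpecializes (hη.trans h)).hom := by
      rw [← hcomp]; rfl
    rw [h0]
    exact IsFractionRing.injective (Y.presheaf.stalk y) Y.functionField
  exact Function.Injective.of_comp hinj

lemma stalkMap_injective_of_generic {X Y : Scheme.{u}} [IsIntegral X] [IsIntegral Y] (f : X ⟶ Y)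
    (hgen : f (genericPoint X) = genericPoint Y) (x : X) :
    Function.Injective (f.stalkMap x).hom := by
  have hF : ∀ y : Y, y = genericPoint Y → IsField (Y.presheaf.stalk y) := by
    rintro _ rfl
    exact Field.toIsField Y.functionField
  have hη : genericPoint X ⤳ x := genericPoint_specializes x
  have h1 : Function.Injective (f.stalkMap (genericPoint X)).hom :=
    injective_of_isField (hF _ hgen) _
  have h2 : Function.Injective
      (Y.presheaf.stalkSpecializes (f.base.hom.map_specializes hη)).hom :=
    stalkSpecializes_injective _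
  rw [injective_iff_map_eq_zero]
  intro s hs
  have h3 := Scheme.Hom.stalkSpecializes_stalkMap_apply f _ _ hη s
  apply h2
  apply h1
  rw [map_zero, map_zero]
  refine h3.trans ?_
  change (X.presheaf.stalkSpecializes hη) ((f.stalkMap x).hom s) = 0
  rw [hs, map_zero]

lemma flat_of_injective_of_isDedekindDomain {R A : Type u} [CommRing R]
    [IsDedekindDomain R] [CommRing A] [IsDomain A] (β : R →+* A)
    (hinj : Function.Injective β) : β.Flat := by
  algebraize [β]
  have h1 : Module.IsTorsionFree R A := Module.isTorsionFree_iff_algebraMap_injective.mpr hinj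
  exact inferInstanceAs (Module.Flat R A)

lemma isDedekindDomain_stalk (Y : Scheme.{u}) [IsIntegral Y] [IsLocallyNoetherian Y]
    (hY : topologicalKrullDim Y ≤ 1) (y : Y) (hN : IsIntegrallyClosed (Y.presheaf.stalk y)) :
    IsDedekindDomain (Y.presheaf.stalk y) := by
  have hk : Ring.KrullDimLE 1 (Y.presheaf.stalk y) :=
    krullDimLE_of_coheight_le (coheight_le_of_topologicalKrullDim_le Y 1 (by exact_mod_cast hY) y)
  have hd : Ring.DimensionLEOne (Y.presheaf.stalk y) :=
    ⟨fun {p} hp hpp => Ring.krullDimLE_one_iff_of_noZeroDivisors.mp hk p hp hpp⟩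
  exact { toIsDomain := inferInstance, toIsDedekindRing := { } }

attribute [local instance] specializationOrder in
lemma map_genericPoint {X Y : Scheme.{u}} [IsIntegral X] [IsIntegral Y]
    (hY : topologicalKrullDim Y ≤ 1) (f : X ⟶ Y) (hnc : (Set.range f.base).Nontrivial) :
    f (genericPoint X) = genericPoint Y := by
  by_contra hne
  have h1 : topologicalKrullDim Y = Order.krullDim Y :=
    Helper7.topologicalKrullDim_eq_krullDim_points
  rw [h1, Order.krullDim_le_one_iff] at hY
  have hsub : Set.range f.base ⊆ {f (genericPoint X)} := by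
    rintro _ ⟨x, rfl⟩
    have hx : f (genericPoint X) ⤳ f x := (genericPoint_specializes x).map f.continuous
    rcases hY (f (genericPoint X)) with hmin | hmax
    · have : f x ⤳ f (genericPoint X) := hmin (show f x ≤ f (genericPoint X) from hx)
      exact (this.antisymm hx).eq
    · exfalso
      apply hne
      have h2 : genericPoint Y ⤳ f (genericPoint X) := genericPoint_specializes _
      have : f (genericPoint X) ⤳ genericPoint Y :=
        hmax (show f (genericPoint X) ≤ genericPoint Y from h2)
      exact (this.antisymm h2).eq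
  exact (Set.subsingleton_singleton.anti hsub).not_nontrivial hnc

theorem main (k : Type u) [Field k] (X Y : Scheme.{u}) (q : Y ⟶ Spec (CommRingCat.of k))
    [IsIntegral X] [IsIntegral Y] [LocallyOfFiniteType q]
    (hY : topologicalKrullDim Y = 1)
    (hN : ∀ y : Y, IsDomain (Y.presheaf.stalk y) ∧ IsIntegrallyClosed (Y.presheaf.stalk y))
    (f : X ⟶ Y) (hnc : (Set.range f.base).Nontrivial) :
    Flat f := by
  have : IsLocallyNoetherian Y := LocallyOfFiniteType.isLocallyNoetherian q
  have hgen := map_genericPoint hY.le f hnc
  rw [Flat.iff_flat_stalkMap]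
  intro x
  have := isDedekindDomain_stalk Y hY.le (f x) (hN (f x)).2
  exact flat_of_injective_of_isDedekindDomain _ (stalkMap_injective_of_generic f hgen x)

end Groth.Agent.Lib.Helper10.CurveFlat
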