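import Mathlib
import Groth.Agent.Lib.Helper10DCFinA
import Groth.Agent.S0543
set_option backward.isDefEq.respectTransparency.types false
set_option backward.isDefEq.respectTransparency false

/-!
# Derived complete modules with finite reduction are adically complete (helper10)

`A` Noetherian, `I` an ideal, `M` a derived `I`-complete module.
* `finite_adicCompletion_of_finite_quotient`: `M/IM` finite ⟹ `M^` finite over `A^` (formal, any `A`).
* `exists_extension`, `eq_zero_of_comp_of_eq_zero`: `Hom_A(F^, M) = Hom_A(F, M)` for `F` finite.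
* `surjective_extension`: derived Nakayama for the extension `F^ ⟶ M`.
* `smul_mem_ker`: kernels of `A`-linear maps `F^ ⟶ M` are `A^`-submodules.
* `isAdicComplete_of_isDerivedComplete`: `M/IM` finite ⟹ `M` is `I`-adically complete.
-/

set_option autoImplicit false
set_option maxHeartbeats 400000
universe u
open CategoryTheory CategoryTheory.Limits
open scoped TensorProduct
attribute [local instance] HasDerivedCategory.standard

namespace Groth.Agent.Lib.Helper10.DCFinC

open DerivedCategory Groth.Agent.Lib.Helper10.DCFin Groth.Agent.Lib.Helper10.DerComplete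

section Formal

variable {A : Type u} [CommRing A] (I : Ideal A) (M : Type u) [AddCommGroup M] [Module A M]

/-- a finite free module with a map to `M` which is surjective modulo `I` -/
lemma exists_fin_map (hf : Module.Finite A (M ⧸ I • (⊤ : Submodule A M))) :
    ∃ (t : ℕ) (g : (Fin t → A) →ₗ[A] M),
      Function.Surjective ((I • (⊤ : Submodule A M)).mkQ ∘ₗ g) := by
  obtain ⟨t, g₀, hg₀⟩ := Module.Finite.exists_fin' A (M ⧸ I • (⊤ : Submodule A M))
  obtain ⟨g, hg⟩ := Module.projective_lifting_property (I • (⊤ : Submodule A M)).mkQ g₀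
    (Submodule.mkQ_surjective _)
  exact ⟨t, g, by rw [hg]; exact hg₀⟩

instance finite_adicCompletion (N : Type u) [AddCommGroup N] [Module A N] [Module.Finite A N] :
    Module.Finite (AdicCompletion I A) (AdicCompletion I N) :=
  Module.Finite.of_surjective (AdicCompletion.ofTensorProduct I N)
    (AdicCompletion.ofTensorProduct_surjective_of_finite I N)

/-- if `M/IM` is finite then `M^` is finite over `A^` -/
theorem finite_adicCompletion_of_finite_quotient
    (hf : Module.Finite A (M ⧸ I • (⊤ : Submodule A M))) :
    Module.Finite (AdicCompletion I A) (AdicCompletion I M) := by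
  obtain ⟨t, g, hg⟩ := exists_fin_map I M hf
  exact Module.Finite.of_surjective (AdicCompletion.map I g)
    (AdicCompletion.map_surjective_of_mkQ_comp_surjective hg)

end Formal

section Complete

variable {A : Type u} [CommRing A] [IsNoetherianRing A] (I : Ideal A)
  (M : Type u) [AddCommGroup M] [Module A M]
  (F : Type u) [AddCommGroup F] [Module A F] [Module.Finite A F]

/-- a linear map from a finite module `F` to a derived complete module extends to `F^` -/
lemma exists_extension (hc : DRing.IsDerivedComplete I (Dual.inD A M)) (g : F →ₗ[A] M) :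
    ∃ g' : AdicCompletion I F →ₗ[A] M, g' ∘ₗ AdicCompletion.of I F = g := by
  obtain ⟨ψ, hψ⟩ := (bijective_precomp_uM I F (Dual.inD A M) hc).2
    ((DerivedCategory.singleFunctor (ModuleCat.{u} A) 0).map (ModuleCat.ofHom g))
  obtain ⟨g', rfl⟩ := (DerivedCategory.singleFunctor (ModuleCat.{u} A) 0).map_surjective ψ
  have h1 : ModuleCat.ofHom (AdicCompletion.of I F) ≫ g' = ModuleCat.ofHom g := by
    apply (DerivedCategory.singleFunctor (ModuleCat.{u} A) 0).map_injective
    rw [Functor.map_comp]
    exact hψ
  refine ⟨g'.hom, ?_⟩
  have := congrArg ModuleCat.Hom.hom h1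
  exact this

/-- uniqueness of extensions -/
lemma eq_zero_of_comp_of_eq_zero (hc : DRing.IsDerivedComplete I (Dual.inD A M))
    (h : AdicCompletion I F →ₗ[A] M) (h0 : h ∘ₗ AdicCompletion.of I F = 0) : h = 0 := by
  have h1 : (DerivedCategory.singleFunctor (ModuleCat.{u} A) 0).map (ModuleCat.ofHom h) = 0 := by
    apply (bijective_precomp_uM I F (Dual.inD A M) hc).1
    change uM I F ≫ _ = uM I F ≫ 0
    rw [comp_zero]
    dsimp only [uM]
    rw [← Functor.map_comp, ← ModuleCat.ofHom_comp, h0]
    have : ModuleCat.ofHom (0 : F →ₗ[A] M) = 0 := rfl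
    rw [this, Functor.map_zero]
  have h2 : ModuleCat.ofHom h = 0 := by
    apply (DerivedCategory.singleFunctor (ModuleCat.{u} A) 0).map_injective
    rw [h1, Functor.map_zero]
  have := congrArg ModuleCat.Hom.hom h2
  exact this

omit [IsNoetherianRing A] [Module.Finite A F] in
lemma of_smul_eq (r : A) (x : AdicCompletion I F) :
    (AdicCompletion.of I A r) • x = r • x := by
  rw [← algebraMap_smul (AdicCompletion I A) r x]
  rfl

omit [Module.Finite A F] in
/-- the extension `F^ ⟶ M` is surjective if `F ⟶ M/IM` is -/
lemma surjective_extension (hc : DRing.IsDerivedComplete I (Dual.inD A M))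
    (g : F →ₗ[A] M) (hg : Function.Surjective ((I • (⊤ : Submodule A M)).mkQ ∘ₗ g))
    (g' : AdicCompletion I F →ₗ[A] M) (hg' : g' ∘ₗ AdicCompletion.of I F = g) :
    Function.Surjective g' := by
  have hfg : I.FG := IsNoetherian.noetherian I
  have cM : ∀ f ∈ I, Crit f M := (isDerivedComplete_iff_crit I M).1 hc
  have cF : ∀ f ∈ I, Crit f (AdicCompletion I F) :=
    (isDerivedComplete_iff_crit I _).1 (isDerivedComplete_inD_adicCompletion I F hfg)
  obtain ⟨s, hs⟩ := hfg
  haveI : Subsingleton (M ⧸ LinearMap.range g') := by
    apply subsingleton_of_crit_of_smul_top_eq_top s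
    · intro f hf'
      have hfI : f ∈ I := by rw [← hs]; exact Ideal.subset_span hf'
      exact Crit.coker g' (cF f hfI) (cM f hfI)
    · rw [hs, eq_top_iff]
      rintro x' -
      obtain ⟨x, rfl⟩ := Submodule.mkQ_surjective _ x'
      obtain ⟨a, ha⟩ := hg ((I • (⊤ : Submodule A M)).mkQ x)
      have hy : x - g a ∈ I • (⊤ : Submodule A M) := by
        rw [← Submodule.Quotient.mk_eq_zero, Submodule.Quotient.mk_sub, sub_eq_zero]
        exact ha.symm
      have hga : (LinearMap.range g').mkQ (g a) = 0 := by
        rw [Submodule.mkQ_apply, Submodule.Quotient.mk_eq_zero, ← hg']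
        exact ⟨_, rfl⟩
      have e1 : (LinearMap.range g').mkQ x = (LinearMap.range g').mkQ (x - g a) := by
        rw [map_sub, hga, sub_zero]
      rw [e1]
      have := Submodule.mem_map_of_mem (f := (LinearMap.range g').mkQ) hy
      rw [Submodule.map_smul''] at this
      exact Submodule.smul_mono le_rfl le_top this
  rw [← LinearMap.range_eq_top]
  exact Submodule.Quotient.subsingleton_iff.1 this

omit [Module.Finite A F] in
/-- the kernel of an `A`-linear map `F^ ⟶ M`, `M` derived complete, is stable under `A^` -/
lemma smul_mem_ker (hc : DRing.IsDerivedComplete I (Dual.inD A M))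
    (g' : AdicCompletion I F →ₗ[A] M) (r : AdicCompletion I A) (x : AdicCompletion I F)
    (hx : g' x = 0) : g' (r • x) = 0 := by
  let h : AdicCompletion I A →ₗ[A] M :=
    g' ∘ₗ ((LinearMap.toSpanSingleton (AdicCompletion I A) (AdicCompletion I F) x).restrictScalars A)
  have h0 : h ∘ₗ AdicCompletion.of I A = 0 := by
    ext
    change g' ((AdicCompletion.of I A 1) • x) = 0
    rw [of_smul_eq, one_smul, hx]
  have := eq_zero_of_comp_of_eq_zero I M A hc h h0
  exact congr($this r)

/-- **A derived complete module `M` over a Noetherian ring with `M/IM` finite is `I`-adically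
complete.** -/
theorem isAdicComplete_of_isDerivedComplete (hc : DRing.IsDerivedComplete I (Dual.inD A M))
    (hf : Module.Finite A (M ⧸ I • (⊤ : Submodule A M))) : IsAdicComplete I M := by
  have hfg : I.FG := IsNoetherian.noetherian I
  obtain ⟨t, g, hg⟩ := exists_fin_map I M hf
  obtain ⟨g', hg'⟩ := exists_extension I M (Fin t → A) hc g
  have hsurj := surjective_extension I M (Fin t → A) hc g hg g' hg'
  haveI : IsAdicComplete I (AdicCompletion I (Fin t → A)) := AdicCompletion.isAdicComplete hfg
  -- precomplete
  have hpre : IsPrecomplete I M := by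
    rw [← AdicCompletion.of_surjective_iff]
    have h1 : Function.Surjective (AdicCompletion.map I g') := AdicCompletion.map_surjective I hsurj
    have h2 : Function.Surjective (AdicCompletion.of I (AdicCompletion I (Fin t → A))) :=
      AdicCompletion.of_surjective I _
    have h3 : (AdicCompletion.of I M) ∘ g' =
        (AdicCompletion.map I g') ∘ (AdicCompletion.of I (AdicCompletion I (Fin t → A))) := by
      funext x
      exact (AdicCompletion.map_of I g' x).symm
    exact Function.Surjective.of_comp (g := g') (by rw [h3]; exact h1.comp h2)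
  -- Hausdorff
  have hhaus : IsHausdorff I M := by
    haveI : IsNoetherianRing (AdicCompletion I A) := Groth.Agent.S0543.result A I
    haveI hR : IsAdicComplete I (AdicCompletion I A) := AdicCompletion.isAdicComplete hfg
    haveI h1 : IsHausdorff (I.map (algebraMap A (AdicCompletion I A))) (AdicCompletion I A) :=
      IsHausdorff.map_algebraMap_iff.2 hR.toIsHausdorff
    haveI h2 : IsPrecomplete (I.map (algebraMap A (AdicCompletion I A))) (AdicCompletion I A) :=
      IsPrecomplete.map_algebraMap_iff.2 hR.toIsPrecomplete
    haveI : IsAdicComplete (I.map (algebraMap A (AdicCompletion I A))) (AdicCompletion I A) := {}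
    have hJ : I.map (algebraMap A (AdicCompletion I A)) ≤
        (⊥ : Ideal (AdicCompletion I A)).jacobson := IsAdicComplete.le_jacobson_bot _
    let N' : Submodule (AdicCompletion I A) (AdicCompletion I (Fin t → A)) :=
      { carrier := {x | g' x = 0}
        add_mem' := fun {a b} ha hb => by
          change g' (a + b) = 0
          rw [map_add, ha, hb, add_zero]
        zero_mem' := map_zero g'
        smul_mem' := fun r x hx => smul_mem_ker I M _ hc g' r x hx }
    haveI h3 : IsHausdorff (I.map (algebraMap A (AdicCompletion I A)))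
        (AdicCompletion I (Fin t → A) ⧸ N') := IsHausdorff.of_le_jacobson _ _ hJ
    haveI h4 : IsHausdorff I (AdicCompletion I (Fin t → A) ⧸ N') :=
      IsHausdorff.map_algebraMap_iff.1 h3
    refine ⟨fun x hx => ?_⟩
    obtain ⟨y, rfl⟩ := hsurj x
    have key : N'.mkQ y = 0 := by
      apply h4.haus
      intro n
      rw [SModEq.zero]
      have hxn := hx n
      rw [SModEq.zero] at hxn
      have hmap : (I ^ n • (⊤ : Submodule A M)) =
          Submodule.map g' (I ^ n • (⊤ : Submodule A (AdicCompletion I (Fin t → A)))) := by
        rw [Submodule.map_smul'', Submodule.map_top, LinearMap.range_eq_top.2 hsurj]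
      rw [hmap] at hxn
      obtain ⟨z, hz, hzy⟩ := hxn
      have hyz : N'.mkQ y = N'.mkQ z := by
        rw [← sub_eq_zero, ← map_sub, Submodule.mkQ_apply, Submodule.Quotient.mk_eq_zero]
        change g' (y - z) = 0
        rw [map_sub, hzy, sub_self]
      rw [hyz]
      have := Submodule.mem_map_of_mem (f := N'.mkQ.restrictScalars A) hz
      rw [Submodule.map_smul''] at this
      exact Submodule.smul_mono le_rfl le_top this
    rw [Submodule.mkQ_apply, Submodule.Quotient.mk_eq_zero] at key
    exact key
  exact { toIsHausdorff := hhaus, toIsPrecomplete := hpre }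

end Complete

end Groth.Agent.Lib.Helper10.DCFinC
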