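import Mathlib
import Groth.Agent.Lib.Helper10DNakA
import Groth.Agent.Lib.Helper10DCFinB
import Groth.Agent.Lib.Helper1ProjRes
set_option backward.isDefEq.respectTransparency.types false
set_option backward.isDefEq.respectTransparency false

/-!
# Dévissage for `X ⊗ M`, `M` finite over a Noetherian ring (helper10)

`Van W X N n`: `Hom(W, (X ⊗ N)[n]) = 0` in `D(A)`.
`van_of_finite`: if `Hom(W, -)` vanishes on `D^{≤ c}`, `X` is a bounded above complex of flat
modules and `Hom(W, X[n]) = 0` for all `n`, then `Hom(W, (X ⊗ M)[n]) = 0` for every finite module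
`M` and all `n` (downward induction using `0 → p → A → A/p → 0` and prime filtrations).
-/

set_option autoImplicit false
set_option maxHeartbeats 400000
universe u
open CategoryTheory CategoryTheory.Limits HomologicalComplex CochainComplex MonoidalCategory
open scoped TensorProduct
attribute [local instance] HasDerivedCategory.standard

namespace Groth.Agent.Lib.Helper10.DCTens

open DerivedCategory Groth.Agent.Lib.Helper1.LDer Groth.Agent.Lib.Helper10.DNak
  Groth.Agent.Lib.Helper10.DCFinB Pretriangulated

variable {A : Type u} [CommRing A]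

section D

variable (W : Dual.D A) (X : DRing.Cx A)

/-- `Hom(W, (X ⊗ N)[n]) = 0` -/
def Van (N : ModuleCat.{u} A) (n : ℤ) : Prop :=
  Subsingleton (W ⟶ (Q.obj ((tCx N).obj X))⟦n⟧)

lemma van_of_subsingleton (N : ModuleCat.{u} A) [Subsingleton N] (n : ℤ) : Van W X N n := by
  have h0 : (𝟙 N : N ⟶ N) = 0 := by
    apply ModuleCat.hom_ext
    ext x
    exact Subsingleton.elim _ _
  have h1 : 𝟙 ((tCx N).obj X) = 0 := by
    have : Ψmap X (𝟙 N) = 𝟙 _ := by
      apply HomologicalComplex.hom_ext
      intro i
      exact MonoidalCategory.whiskerLeft_id _ _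
    rw [← this, h0, Ψmap_zero]
  have hz : IsZero ((tCx N).obj X) := (IsZero.iff_id_eq_zero _).2 h1
  have hz' : IsZero ((Q.obj ((tCx N).obj X) : Dual.D A)⟦n⟧) :=
    (CategoryTheory.shiftFunctor (Dual.D A) n).map_isZero (Q.map_isZero hz)
  exact ⟨fun a b => hz'.eq_of_tgt _ _⟩

lemma van_of_shortExact (hX : DRing.TermwiseFlat X) (S : ShortComplex (ModuleCat.{u} A))
    (hS : S.ShortExact) (n : ℤ) (h1 : Van W X S.X₁ n) (h3 : Van W X S.X₃ n) : Van W X S.X₂ n :=
  subsingleton_hom_of_triangle W _
    (triangleOfSES_distinguished (ΨS_shortExact X hX S hS)) n h1 h3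

lemma van_of_shortExact' (hX : DRing.TermwiseFlat X) (S : ShortComplex (ModuleCat.{u} A))
    (hS : S.ShortExact) (n : ℤ) (h2 : Van W X S.X₂ n) (h1 : Van W X S.X₁ (n + 1)) :
    Van W X S.X₃ n := by
  have hT := rot_of_distTriang _ (triangleOfSES_distinguished (ΨS_shortExact X hX S hS))
  refine subsingleton_hom_of_triangle W _ hT n h2 ?_
  have e : ((Q.obj ((tCx S.X₁).obj X) : Dual.D A)⟦(1 : ℤ)⟧)⟦n⟧ ≅
      (Q.obj ((tCx S.X₁).obj X) : Dual.D A)⟦n + 1⟧ :=
    ((CategoryTheory.shiftFunctorAdd' (Dual.D A) 1 n (n + 1) (by omega)).app _).symm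
  exact @Equiv.subsingleton _ _ e.homToEquiv h1

lemma van_unit (n : ℤ) (h : Subsingleton (W ⟶ (Q.obj X : Dual.D A)⟦n⟧)) :
    Van W X (ModuleCat.of A A) n := by
  have e : (Q.obj ((tCx (ModuleCat.of A A)).obj X) : Dual.D A)⟦n⟧ ≅ (Q.obj X : Dual.D A)⟦n⟧ :=
    (CategoryTheory.shiftFunctor (Dual.D A) n).mapIso
      (Q.mapIso ((NatIso.mapHomologicalComplex (rightUnitorNatIso (ModuleCat.{u} A))
        (ComplexShape.up ℤ)).app _ ≪≫ (Functor.mapHomologicalComplexIdIso _ _).app _))
  exact @Equiv.subsingleton _ _ e.homToEquiv h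

lemma van_of_le (c : ℤ) (hW : ∀ Y : Dual.D A, Y.IsLE c → Subsingleton (W ⟶ Y)) (b : ℤ)
    [X.IsStrictlyLE b] (N : ModuleCat.{u} A) (n : ℤ) (hn : b - c ≤ n) : Van W X N n := by
  have h1 : ((tCx N).obj X).IsStrictlyLE b := by
    rw [CochainComplex.isStrictlyLE_iff]
    intro i hi
    exact (tensorRight N).map_isZero (CochainComplex.isZero_of_isStrictlyLE X b i hi)
  have h2 : (Q.obj ((tCx N).obj X) : Dual.D A).IsLE b := inferInstance
  have h3 : ((Q.obj ((tCx N).obj X) : Dual.D A)⟦n⟧).IsLE (b - n) :=
    TStructure.t.isLE_shift _ b n (b - n) (by omega)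
  have h4 : ((Q.obj ((tCx N).obj X) : Dual.D A)⟦n⟧).IsLE c :=
    TStructure.t.isLE_of_le _ (b - n) c (by omega)
  exact hW _ h4

/-- **Dévissage**: if `Hom(W, -)` vanishes on `D^{≤ c}` and `Hom(W, X[n]) = 0` for all `n`, `X` a
bounded above complex of flat modules, then `Hom(W, (X ⊗ M)[n]) = 0` for all finite modules `M`
over the Noetherian ring `A`. -/
theorem van_of_finite [IsNoetherianRing A] (c : ℤ)
    (hW : ∀ Y : Dual.D A, Y.IsLE c → Subsingleton (W ⟶ Y))
    (hX : DRing.TermwiseFlat X) (b : ℤ) [X.IsStrictlyLE b]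
    (h : ∀ n : ℤ, Subsingleton (W ⟶ (Q.obj X : Dual.D A)⟦n⟧))
    (M : Type u) [AddCommGroup M] [Module A M] [Module.Finite A M] (n : ℤ) :
    Van W X (ModuleCat.of A M) n := by
  have key : ∀ k : ℕ, ∀ (M : Type u) [AddCommGroup M] [Module A M] [Module.Finite A M] (n : ℤ),
      b - c - k ≤ n → Van W X (ModuleCat.of A M) n := by
    intro k
    induction k with
    | zero =>
      intro M _ _ _ n hn
      exact van_of_le W X c hW b _ n (by simpa using hn)
    | succ k ih =>
      intro M _ _ hM
      induction hM using IsNoetherianRing.induction_on_isQuotientEquivQuotientPrime A with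
      | subsingleton N =>
        intro n _
        exact van_of_subsingleton W X (ModuleCat.of A N) n
      | quotient N p e =>
        intro n hn
        let S : ShortComplex (ModuleCat.{u} A) :=
          ShortComplex.mk (ModuleCat.ofHom (p.1.subtype : p.1 →ₗ[A] A))
            (ModuleCat.ofHom (e.symm.toLinearMap ∘ₗ (Submodule.mkQ p.1)))
            (by
              apply ModuleCat.hom_ext
              ext x
              change e.symm (Submodule.mkQ p.1 x.1) = 0
              rw [Submodule.mkQ_apply, (Submodule.Quotient.mk_eq_zero _).2 x.2, map_zero])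
        have hS : S.ShortExact := by
          apply ModuleCat.shortComplex_shortExact
          · intro (x : A)
            change e.symm (Submodule.mkQ p.1 x) = 0 ↔ x ∈ Set.range p.1.subtype
            rw [LinearEquiv.map_eq_zero_iff, Submodule.mkQ_apply, Submodule.Quotient.mk_eq_zero]
            simp
          · exact Submodule.injective_subtype _
          · exact e.symm.surjective.comp (Submodule.mkQ_surjective _)
        exact van_of_shortExact' W X hX S hS n (van_unit W X n (h n))
          (ih p.1 (n + 1) (by push_cast at hn ⊢; omega))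
      | exact N₁ N₂ N₃ f g hf hg hfg h₁ h₃ =>
        intro n hn
        let S : ShortComplex (ModuleCat.{u} A) :=
          ShortComplex.mk (ModuleCat.ofHom f) (ModuleCat.ofHom g)
            (by
              apply ModuleCat.hom_ext
              ext x
              exact hfg.apply_apply_eq_zero x)
        have hS : S.ShortExact := ModuleCat.shortComplex_shortExact S hfg hf hg
        exact van_of_shortExact W X hX S hS n (h₁ n hn) (h₃ n hn)
  obtain ⟨k, hk⟩ : ∃ k : ℕ, b - c - k ≤ n := ⟨(b - c - n).toNat, by omega⟩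
  exact key k M n hk

end D

end Groth.Agent.Lib.Helper10.DCTens
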