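import Mathlib
import Groth.Agent.Lib.Helper10DCTensA
set_option backward.isDefEq.respectTransparency.types false
set_option backward.isDefEq.respectTransparency false

/-!
# Derived completion commutes with `- ⊗^L M` for finite `M` and bounded above objects (helper10)

* `CA_of_bijective_precomp`: the cone of a map which is universal towards derived complete objects
  has no maps to derived complete objects; `CA_iff_isZero_derivedCompletion`, `CA_iff_subsingleton`.
* `isLE_derivedCompletion`: derived completion preserves `D^{≤ b}`.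
* `isDerivedComplete_LTensor`: `L ⊗^L M` derived complete for `L` derived complete bounded above.
* `bijective_precomp_LTensor_map`: `K ⊗^L M ⟶ K^ ⊗^L M` is universal.
-/

set_option autoImplicit false
set_option maxHeartbeats 400000
universe u
open CategoryTheory CategoryTheory.Limits HomologicalComplex CochainComplex MonoidalCategory
open scoped TensorProduct
attribute [local instance] HasDerivedCategory.standard

namespace Groth.Agent.Lib.Helper10.DCTens

open DerivedCategory Groth.Agent.Lib.Helper1.LDer Groth.Agent.Lib.Helper10.DNak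
  Groth.Agent.Lib.Helper10.DCFinB Groth.Agent.Lib.Helper10.DCFin Pretriangulated
  Groth.Agent.Lib.Helper1.KF Groth.Agent.Lib.Helper1.DT
  Groth.Agent.Lib.Helper10.DCAmp Groth.Agent.Lib.Helper10.UnitHom
  Groth.Agent.Lib.Helper10.TensHomD Groth.Agent.Lib.Helper10.DCMain
  Groth.Agent.Lib.Helper10.DerComplete Groth.Agent.Lib.Helper10.DCLoc

variable {A : Type u} [CommRing A]

section CA

variable (I : Ideal A)

lemma CA.of_iso {Z Z' : Dual.D A} (h : CA I Z) (e : Z ≅ Z') : CA I Z' := by
  intro E hE φ
  have := h E hE (e.hom ≫ φ)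
  exact (cancel_epi e.hom).1 (this.trans comp_zero.symm)

/-- the cone of a map inducing bijections on maps to derived complete objects has no maps to
derived complete objects -/
lemma CA_of_bijective_precomp {X Y C : Dual.D A} (f : X ⟶ Y) (g : Y ⟶ C)
    (k : C ⟶ X⟦(1 : ℤ)⟧) (hT : Triangle.mk f g k ∈ distTriang _)
    (hb : ∀ E : Dual.D A, DRing.IsDerivedComplete I E →
      Function.Bijective (fun ψ : Y ⟶ E => f ≫ ψ)) : CA I C := by
  intro E hE φ
  have h1 : g ≫ φ = 0 := by
    apply (hb E hE).1
    change f ≫ g ≫ φ = f ≫ 0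
    have : f ≫ g = 0 := comp_distTriang_mor_zero₁₂ _ hT
    rw [reassoc_of% this, zero_comp, comp_zero]
  obtain ⟨ψ, hψ⟩ := Triangle.yoneda_exact₃ _ hT φ h1
  have hψ' : φ = k ≫ ψ := hψ
  let eq := (shiftEquiv (Dual.D A) (1 : ℤ)).toAdjunction
  obtain ⟨χ, hχ⟩ := (hb _ (isDerivedComplete_shift I E hE (-1))).2 (eq.homEquiv X E ψ)
  have hχ' : f ≫ χ = eq.homEquiv X E ψ := hχ
  have h2 : ψ = f⟦(1 : ℤ)⟧' ≫ (eq.homEquiv Y E).symm χ := by
    apply (eq.homEquiv X E).injective
    rw [← hχ']
    exact ((eq.homEquiv_naturality_left f ((eq.homEquiv Y E).symm χ)).trans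
      (by rw [Equiv.apply_symm_apply])).symm
  have h3 : k ≫ f⟦(1 : ℤ)⟧' = 0 := comp_distTriang_mor_zero₃₁ _ hT
  rw [hψ', h2, reassoc_of% h3, zero_comp]

end CA

section CZ

variable (fs : List A) (I : Ideal A) (hI : Ideal.span {x : A | x ∈ fs} = I)
  [DRing.HasDerivedCompletion I] {P : Cx A} [P.IsKProjective]
  (π : P ⟶ DerCA.extCech (ModuleCat.of A A) fs) [QuasiIso π]

include hI π in
lemma isZero_derivedCompletion_iff (Z : Dual.D A) :
    IsZero ((DRing.derivedCompletion I).obj Z).obj ↔
      ∀ n : ℤ, Subsingleton (Q.obj P ⟶ Z⟦n⟧) := by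
  obtain ⟨e, -⟩ := exists_derivedCompletion_iso fs I hI π Z
  constructor
  · intro hz n
    have hz' : IsZero ((RP P).obj Z) := hz.of_iso e.symm
    haveI : Subsingleton (U A n ⟶ (RP P).obj Z) := ⟨fun a b => hz'.eq_of_tgt _ _⟩
    exact (uHomEquiv P Z n).symm.subsingleton
  · intro h
    have hz' : IsZero ((RP P).obj Z) := by
      apply isZero_of_hom_eq_zero
      intro i φ
      haveI := h i
      haveI : Subsingleton (U A i ⟶ (RP P).obj Z) := (uHomEquiv P Z i).subsingleton
      exact Subsingleton.elim _ _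
    exact hz'.of_iso e

omit [P.IsKProjective] in
lemma CA_iff_isZero_derivedCompletion (Z : Dual.D A) :
    CA I Z ↔ IsZero ((DRing.derivedCompletion I).obj Z).obj := by
  constructor
  · intro h
    rw [IsZero.iff_id_eq_zero]
    apply (bijective_toDerivedCompletion I Z _ ((DRing.derivedCompletion I).obj Z).property).1
    change DRing.toDerivedCompletion I Z ≫ 𝟙 _ = DRing.toDerivedCompletion I Z ≫ 0
    rw [h _ ((DRing.derivedCompletion I).obj Z).property (DRing.toDerivedCompletion I Z),
      zero_comp, zero_comp]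
  · intro hz E hE φ
    obtain ⟨ψ, hψ⟩ := (bijective_toDerivedCompletion I Z E hE).2 φ
    have hψ' : DRing.toDerivedCompletion I Z ≫ ψ = φ := hψ
    rw [← hψ', hz.eq_of_src ψ 0, comp_zero]

include hI π in
lemma CA_iff_subsingleton (Z : Dual.D A) :
    CA I Z ↔ ∀ n : ℤ, Subsingleton (Q.obj P ⟶ Z⟦n⟧) :=
  (CA_iff_isZero_derivedCompletion I Z).trans (isZero_derivedCompletion_iff fs I hI π Z)

include hI π in
/-- the derived completion preserves `D^{≤ b}` -/
lemma isLE_derivedCompletion (K : Dual.D A) (b : ℤ) [K.IsLE b] :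
    ((DRing.derivedCompletion I).obj K).obj.IsLE b := by
  obtain ⟨e, -⟩ := exists_derivedCompletion_iso fs I hI π K
  have : ((RP P).obj K).IsLE b := by
    rw [DerivedCategory.isLE_iff]
    intro i hi
    haveI : (K⟦i⟧).IsLE (b - i) := TStructure.t.isLE_shift K b i (b - i) (by omega)
    haveI : (K⟦i⟧).IsLE (-1) := TStructure.t.isLE_of_le (K⟦i⟧) (b - i) (-1) (by omega)
    haveI := subsingleton_HD_RP fs π K i (Or.inl inferInstance)
    exact ModuleCat.isZero_of_subsingleton _
  exact TStructure.t.isLE_of_iso e.symm b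

end CZ

section Main

open Groth.Agent.Lib.Helper10.RGamA

variable [IsNoetherianRing A] (I : Ideal A)
  (M : Type u) [AddCommGroup M] [Module A M] [Module.Finite A M]
  [DRing.HasLTensor A (ModuleCat.of A M)]

omit [IsNoetherianRing A] in
lemma termwiseFlat_of_projective (P : DRing.Cx A) (hproj : ∀ k : ℤ, Projective (P.X k)) :
    DRing.TermwiseFlat P := fun i => by
  have : Module.Projective A (P.X i) := (IsProjective.iff_projective (P.X i)).2 (hproj i)
  infer_instance

/-- `L ⊗^L M` is derived complete for `L` derived complete and bounded above, `M` finite -/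
theorem isDerivedComplete_LTensor (L : Dual.D A) (b : ℤ) [L.IsLE b]
    (hL : DRing.IsDerivedComplete I L) :
    DRing.IsDerivedComplete I ((DRing.LTensor A (ModuleCat.of A M)).obj L) := by
  obtain ⟨P, hP, hproj, ⟨e⟩⟩ := Groth.Agent.Lib.Helper1.ProjRes.exists_iso_Q_proj L b
  haveI : P.IsKProjective := CochainComplex.isKProjective_of_projective P b
  have hflat : DRing.TermwiseFlat P := termwiseFlat_of_projective P hproj
  have hLP : DRing.IsDerivedComplete I (Q.obj P) := isDerivedComplete_of_iso' I e.symm hL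
  refine isDerivedComplete_of_iso' I
    ((ltIso (ModuleCat.of A M) P).symm ≪≫ (DRing.LTensor A (ModuleCat.of A M)).mapIso e) ?_
  rw [isDerivedComplete_iff_V] at hLP ⊢
  intro f hf n
  rw [V_iff_subsingleton]
  exact van_of_finite (Dual.inD A (Localization.Away f)) P (-2)
    (fun Y hY => by
      haveI := hY
      exact (V_iff_subsingleton f Y).1 (V_of_isLE f Y)) hflat b
    (fun n => (V_iff_subsingleton f _).1 (hLP f hf n)) M n

/-- `K ⊗^L M ⟶ K^ ⊗^L M` is universal among maps to derived complete objects, for `K` bounded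
above and `M` finite -/
theorem bijective_precomp_LTensor_map [DRing.HasDerivedCompletion I] (K : Dual.D A) (b : ℤ)
    [K.IsLE b] (E : Dual.D A) (hE : DRing.IsDerivedComplete I E) :
    Function.Bijective (fun φ : (DRing.LTensor A (ModuleCat.of A M)).obj
        ((DRing.derivedCompletion I).obj K).obj ⟶ E =>
      (DRing.LTensor A (ModuleCat.of A M)).map (DRing.toDerivedCompletion I K) ≫ φ) := by
  obtain ⟨fs, hfs⟩ := exists_list_span I
  obtain ⟨Pc, π, hPc, -, hπ, -⟩ :=
    exists_kprojective_resolution (DerCA.extCech (ModuleCat.of A A) fs)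
  haveI : ((DRing.derivedCompletion I).obj K).obj.IsLE b :=
    isLE_derivedCompletion fs I hfs.symm π K b
  obtain ⟨P, hP, hproj, ⟨e⟩⟩ := Groth.Agent.Lib.Helper1.ProjRes.exists_iso_Q_proj K b
  obtain ⟨P', hP', hproj', ⟨e'⟩⟩ :=
    Groth.Agent.Lib.Helper1.ProjRes.exists_iso_Q_proj ((DRing.derivedCompletion I).obj K).obj b
  haveI : P.IsKProjective := CochainComplex.isKProjective_of_projective P b
  haveI : P'.IsKProjective := CochainComplex.isKProjective_of_projective P' b
  have hflat : DRing.TermwiseFlat P := termwiseFlat_of_projective P hproj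
  have hflat' : DRing.TermwiseFlat P' := termwiseFlat_of_projective P' hproj'
  obtain ⟨u, hu⟩ := Q_map_surjective P P' (e.hom ≫ DRing.toDerivedCompletion I K ≫ e'.inv)
  have hC_flat : DRing.TermwiseFlat (CochainComplex.mappingCone u) :=
    Groth.Agent.Lib.Helper1.Tor.termwiseFlat_mappingCone u hflat hflat'
  haveI : (CochainComplex.mappingCone u).IsStrictlyLE b := by
    rw [CochainComplex.isStrictlyLE_iff]
    intro i hi
    rw [CochainComplex.mappingCone.isZero_X_iff]
    exact ⟨CochainComplex.isZero_of_isStrictlyLE P b _ (by omega),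
      CochainComplex.isZero_of_isStrictlyLE P' b _ hi⟩
  -- the cone of `u` has no maps to derived complete objects
  have hCA : CA I (Q.obj (CochainComplex.mappingCone u)) := by
    refine CA_of_bijective_precomp I (Q.map u) _ _
      (DerivedCategory.mappingCone_triangle_distinguished u) (fun E' hE' => ?_)
    have e1 : (fun ψ : Q.obj P' ⟶ E' => Q.map u ≫ ψ) =
        (fun ψ => e.hom ≫ ψ) ∘
        (fun ψ : ((DRing.derivedCompletion I).obj K).obj ⟶ E' =>
          DRing.toDerivedCompletion I K ≫ ψ) ∘ (fun ψ => e'.inv ≫ ψ) := by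
      funext ψ
      simp only [Function.comp_apply, hu, Category.assoc]
    rw [e1]
    exact (bijective_precomp_of_isIso e.hom E').comp
      ((bijective_toDerivedCompletion I K E' hE').comp (bijective_precomp_of_isIso e'.inv E'))
  have hCZ := (CA_iff_subsingleton fs I hfs.symm π _).1 hCA
  haveI : IsIso (Q.map π) := (isIso_Q_map_iff_quasiIso _ π).2 inferInstance
  have hCZ' : ∀ n : ℤ, Subsingleton (Q.obj Pc ⟶
      (Q.obj ((tCx (ModuleCat.of A M)).obj (CochainComplex.mappingCone u)) : Dual.D A)⟦n⟧) :=
    fun n => van_of_finite (Q.obj Pc) (CochainComplex.mappingCone u) (-1)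
      (fun Y hY => by
        haveI := hY
        haveI := subsingleton_hom_extCech_of_isLE fs Y
        exact (asIso (Q.map π)).homFromEquiv.subsingleton) hC_flat b hCZ M n
  have hCA' : CA I (Q.obj ((tCx (ModuleCat.of A M)).obj (CochainComplex.mappingCone u))) :=
    (CA_iff_subsingleton fs I hfs.symm π _).2 hCZ'
  have hCA'' : CA I (Q.obj (CochainComplex.mappingCone ((tCx (ModuleCat.of A M)).map u))) :=
    CA.of_iso I hCA' (Q.mapIso (CochainComplex.mappingCone.mapHomologicalComplexIso u
      (tensorRight (ModuleCat.of A M))))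
  have hb := bijective_precomp_of_CA I (Q.map ((tCx (ModuleCat.of A M)).map u)) _ _
    (DerivedCategory.mappingCone_triangle_distinguished _) hCA'' E hE
  -- transfer
  have hη : DRing.toDerivedCompletion I K = e.inv ≫ Q.map u ≫ e'.hom := by
    rw [hu]
    simp
  have hnat := ltIso_hom_naturality (ModuleCat.of A M) u
  have e2 : (fun φ : (DRing.LTensor A (ModuleCat.of A M)).obj
        ((DRing.derivedCompletion I).obj K).obj ⟶ E =>
      (DRing.LTensor A (ModuleCat.of A M)).map (DRing.toDerivedCompletion I K) ≫ φ) =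
      (fun φ => ((DRing.LTensor A (ModuleCat.of A M)).map e.inv ≫
        (ltIso (ModuleCat.of A M) P).hom) ≫ φ) ∘
      (fun φ : Q.obj ((tCx (ModuleCat.of A M)).obj P') ⟶ E =>
        Q.map ((tCx (ModuleCat.of A M)).map u) ≫ φ) ∘
      (fun φ => ((ltIso (ModuleCat.of A M) P').inv ≫
        (DRing.LTensor A (ModuleCat.of A M)).map e'.hom) ≫ φ) := by
    funext φ
    simp only [Function.comp_apply, Category.assoc]
    rw [hη, Functor.map_comp, Functor.map_comp, Category.assoc, Category.assoc]
    congr 1
    rw [← reassoc_of% hnat, Iso.hom_inv_id_assoc]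
  rw [e2]
  haveI : IsIso ((DRing.LTensor A (ModuleCat.of A M)).map e.inv ≫
      (ltIso (ModuleCat.of A M) P).hom) := inferInstance
  haveI : IsIso ((ltIso (ModuleCat.of A M) P').inv ≫
      (DRing.LTensor A (ModuleCat.of A M)).map e'.hom) := inferInstance
  exact (bijective_precomp_of_isIso _ E).comp (hb.comp (bijective_precomp_of_isIso _ E))

end Main

end Groth.Agent.Lib.Helper10.DCTens
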