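import Mathlib
import Groth.Agent.Lib.Helper1KF2
import Groth.Agent.Lib.Helper13TorMore
set_option backward.isDefEq.respectTransparency.types false

/-!
# K-flat complexes: short exact sequences with termwise flat cokernel (helper1, K-flat cluster, part 3)
-/

set_option autoImplicit false
universe u
open CategoryTheory CategoryTheory.Limits MonoidalCategory HomologicalComplex

namespace Groth.Agent.Lib.Helper1.KF

variable {R : Type u} [CommRing R]

/-- if `S.X₃` is flat then `M ⊗ S.f` is injective -/
lemma lTensor_injective_of_flat_X₃ (M : ModuleCat.{u} R) (S : ShortComplex (ModuleCat.{u} R))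
    (hS : S.ShortExact) [Module.Flat R S.X₃] :
    Function.Injective (LinearMap.lTensor M S.f.hom) := by
  obtain ⟨δ, w₁, w₂, hex₁, hex₂⟩ := Groth.Agent.Helper13Tor.tor₂_exists_δ M S hS 0
  rw [← Groth.Agent.Helper13Tor.mono_tor_zero_map_iff]
  exact hex₂.mono_g
    ((Groth.Agent.Helper13Tor.isZero_tor_of_flat_right M S.X₃ 1 (by omega)).eq_of_src _ _)

lemma tensorLeft_shortExact_of_flat (M : ModuleCat.{u} R) (S : ShortComplex (ModuleCat.{u} R))
    (hS : S.ShortExact) [Module.Flat R S.X₃] : (S.map (tensorLeft M)).ShortExact := by
  have := hS.epi_g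
  have hm : Mono ((tensorLeft M).map S.f) :=
    (ModuleCat.mono_iff_injective ((tensorLeft M).map S.f)).2
      (lTensor_injective_of_flat_X₃ M S hS)
  have : (tensorLeft M).PreservesEpimorphisms :=
    (tensorLeft M).preservesEpimorphisms_of_adjunction (ihom.adjunction M)
  have he : Epi ((tensorLeft M).map S.g) := (tensorLeft M).map_epi S.g
  have : PreservesColimitsOfSize.{0, 0} (tensorLeft M) :=
    (ihom.adjunction M).leftAdjoint_preservesColimits
  have : (S.map (tensorLeft M)).HasHomology :=
    CategoryWithHomology.hasHomology _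
  have hex : (S.map (tensorLeft M)).Exact :=
    hS.exact.map_of_epi_of_preservesCokernel (tensorLeft M) inferInstance inferInstance
  exact { exact := hex, mono_f := hm, epi_g := he }

lemma tensorRight_shortExact_of_flat (M : ModuleCat.{u} R) (S : ShortComplex (ModuleCat.{u} R))
    (hS : S.ShortExact) [Module.Flat R S.X₃] : (S.map (tensorRight M)).ShortExact := by
  refine ShortComplex.shortExact_of_iso ?_ (tensorLeft_shortExact_of_flat M S hS)
  exact ShortComplex.isoMk (β_ M S.X₁) (β_ M S.X₂) (β_ M S.X₃)
    (BraidedCategory.braiding_naturality_right M S.f).symm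
    (BraidedCategory.braiding_naturality_right M S.g).symm

/-- short exact sequences of complexes with termwise flat cokernel are preserved by `L ⊗ -` -/
theorem tensorLeft_shortExact_of_termwiseFlat (L : Cx R) (S : ShortComplex (Cx R))
    (hS : S.ShortExact) (h₃ : ∀ i, Module.Flat R (S.X₃.X i)) :
    (S.map (tensorLeft L)).ShortExact :=
  tensorLeft_shortExact L S (fun p q => by
    have : Module.Flat R ((S.map (eval _ _ q)).X₃) := h₃ q
    have hq : (S.map (eval _ _ q)).ShortExact := by
      have := hS.mono_f
      have := hS.epi_g
      exact hS.map_of_exact (eval _ _ q)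
    exact tensorLeft_shortExact_of_flat (L.X p) (S.map (eval _ _ q)) hq)

/-- short exact sequences of complexes with termwise flat cokernel are preserved by `- ⊗ K` -/
theorem tensorRight_shortExact_of_termwiseFlat (K : Cx R) (S : ShortComplex (Cx R))
    (hS : S.ShortExact) (h₃ : ∀ i, Module.Flat R (S.X₃.X i)) :
    (S.map (tensorRight K)).ShortExact :=
  tensorRight_shortExact K S (fun p q => by
    have : Module.Flat R ((S.map (eval _ _ p)).X₃) := h₃ p
    have hp : (S.map (eval _ _ p)).ShortExact := by
      have := hS.mono_f
      have := hS.epi_g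
      exact hS.map_of_exact (eval _ _ p)
    exact tensorRight_shortExact_of_flat (K.X q) (S.map (eval _ _ p)) hp)

end Groth.Agent.Lib.Helper1.KF
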