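import Mathlib
import Groth.Agent.Lib.Helper1TorD
import Groth.Agent.Lib.Helper1DT5
import Groth.Agent.Lib.Helper1KF12
import Groth.Agent.Lib.Helper1KF3
set_option backward.isDefEq.respectTransparency.types false

/-!
# One-sided tor amplitude `[a, ∞)` via `DRing.LTensorCx` (helper1)
-/

set_option autoImplicit false
set_option maxHeartbeats 400000
universe u
open CategoryTheory CategoryTheory.Limits MonoidalCategory HomologicalComplex
attribute [local instance] HasDerivedCategory.standard

namespace Groth.Agent.Lib.Helper1.TorL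

open DerivedCategory Groth.Agent.Lib.Helper1.KF Groth.Agent.Lib.Helper1.Tor
  Groth.Agent.Lib.Helper1.DT Groth.Agent.Lib.Helper1.LDer

variable {R : Type u} [CommRing R]

/-- tensor-vanishing below `a` for all modules -/
def TorVanBelow (K : DRing.Cx R) (a : ℤ) : Prop :=
  ∀ (M : ModuleCat.{u} R) (i : ℤ), i < a → ((TC M).obj K).ExactAt i

lemma TorVanBelow.exactAt {K : DRing.Cx R} {a : ℤ} (h : TorVanBelow K a) (i : ℤ) (hi : i < a) :
    K.ExactAt i := by
  have h1 := h (ModuleCat.of R R) i hi
  rw [exactAt_TC_iff _ K (i - 1) i (i + 1) (by lia) rfl] at h1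
  rw [exactAt_iff_fexact K (i - 1) i (i + 1) (by lia) rfl]
  refine Function.Exact.of_ladder_linearEquiv_of_exact (e₁ := TensorProduct.lid R _)
    (e₂ := TensorProduct.lid R _) (e₃ := TensorProduct.lid R _) ?_ ?_ h1
  · ext x
    simp
  · ext x
    simp

theorem flat_of_torVanBelow (K : DRing.Cx R) (hflat : DRing.TermwiseFlat K) (a : ℤ)
    (h : TorVanBelow K a) {C : Type*} [AddCommGroup C] [Module R C] (p : K.X a →ₗ[R] C)
    (hp : Function.Surjective p) (hdp : Function.Exact (K.d (a - 1) a).hom p) :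
    Module.Flat R C := by
  have := hflat a
  refine flat_of_forall_exact_lTensor (K.d (a - 1 - 1) (a - 1)).hom (K.d (a - 1) a).hom p hp hdp ?_ ?_
  · exact (exactAt_iff_fexact K (a - 1 - 1) (a - 1) a (by lia) (by lia)).1
      (h.exactAt (a - 1) (by lia))
  · intro I
    have h1 := h (ModuleCat.of R (R ⧸ I)) (a - 1) (by lia)
    rw [exactAt_TC_iff _ K (a - 1 - 1) (a - 1) a (by lia) (by lia)] at h1
    exact h1

lemma termwiseFlat_truncGE' (G : DRing.Cx R) (hG : DRing.TermwiseFlat G) (a : ℤ)
    (h : TorVanBelow G a) : DRing.TermwiseFlat (G.truncGE a) := by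
  intro i
  obtain hi | rfl | hi := lt_trichotomy i a
  · have := ModuleCat.subsingleton_of_isZero ((G.truncGE a).isZero_of_isStrictlyGE a i hi)
    infer_instance
  · have : Module.Flat R (G.opcycles i) :=
      flat_of_torVanBelow G hG i h (G.pOpcycles i).hom
        ((ModuleCat.epi_iff_surjective _).1 inferInstance) (fexact_d_pOpcycles G i)
    exact Module.Flat.of_linearEquiv (G.truncGEXIsoOpcycles i).toLinearEquiv
  · have := hG i
    exact Module.Flat.of_linearEquiv (G.truncGEXIso a i hi).toLinearEquiv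


lemma isIso_πTruncGE_f (G : DRing.Cx R) (a i : ℤ) (hi : a < i) :
    IsIso ((G.πTruncGE a).f i) := by
  obtain ⟨k, hk⟩ : ∃ k : ℕ, (ComplexShape.embeddingUpIntGE a).f k = i :=
    ⟨(i - a).toNat, by
      show a + ((i - a).toNat : ℤ) = i
      rw [Int.toNat_of_nonneg (by lia)]; ring⟩
  have hkb : ¬ (ComplexShape.embeddingUpIntGE a).BoundaryGE k := by
    rw [ComplexShape.boundaryGE_embeddingUpIntGE_iff]
    intro h0
    subst h0
    have hk' : a + ((0 : ℕ) : ℤ) = i := hk
    simp at hk'
    lia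
  exact ((ComplexShape.embeddingUpIntGE a).isIso_liftExtend_f_iff
    (G.restrictionToTruncGE' _) (G.restrictionToTruncGE'_hasLift _) hk).2
    (G.isIso_restrictionToTruncGE' _ k hkb)


/-- the canonical truncation `τ_{≥ a}` of a K-flat complex with flat terms and tensor-vanishing below
`a` is K-flat -/
theorem kflat_truncGE (P : DRing.Cx R) (hP : KFlat P) (hPf : DRing.TermwiseFlat P) (a : ℤ)
    (h : TorVanBelow P a) : KFlat (P.truncGE a) := by
  let π : P ⟶ P.truncGE a := P.πTruncGE a
  have hπepi : Epi π := by dsimp [π, CochainComplex.πTruncGE]; infer_instance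
  let S : ShortComplex (Cx R) := ShortComplex.mk (kernel.ι π) π (kernel.condition π)
  have hS : S.ShortExact :=
    { exact := ShortComplex.exact_of_f_is_kernel _ (kernelIsKernel π)
      mono_f := inferInstanceAs (Mono (kernel.ι π))
      epi_g := hπepi }
  have hEf : DRing.TermwiseFlat (P.truncGE a) := termwiseFlat_truncGE' P hPf a h
  have hS' : ∀ L : Cx R, (S.map (tensorLeft L)).ShortExact :=
    fun L => tensorLeft_shortExact_of_termwiseFlat L S hS hEf
  have hSq : ∀ q : ℤ, (S.map (eval _ _ q)).ShortExact := fun q => by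
    have := hS.mono_f
    have := hS.epi_g
    exact hS.map_of_exact (eval _ _ q)
  have hN : KFlat (kernel π) := by
    apply kflat_of_boundedAbove_flat _ a
    · intro q hq
      have hiso : IsIso (S.map (eval _ _ q)).g := isIso_πTruncGE_f P a q hq
      have hf0 : (S.map (eval _ _ q)).f = 0 := (hSq q).exact.mono_g_iff.1 inferInstance
      exact @IsZero.of_mono_eq_zero _ _ _ _ _ _ (hSq q).mono_f hf0
    · intro q
      have := hPf q
      have := hEf q
      have hex := (hSq q).exact
      rw [ShortComplex.ShortExact.moduleCat_exact_iff_function_exact] at hex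
      have := (hSq q).mono_f
      have := (hSq q).epi_g
      have hinj := (ModuleCat.mono_iff_injective _).1 (hSq q).mono_f
      have hsurj := (ModuleCat.epi_iff_surjective _).1 (hSq q).epi_g
      exact @flat_ker R _ _ (P.X q) ((P.truncGE a).X q) _ _ _ _ _ _ (hPf q) (hEf q)
        (S.map (eval _ _ q)).f.hom (S.map (eval _ _ q)).g.hom hinj hsurj hex
  exact KFlat.X₃ (S := S) hS' hN hP


section LTensor

variable (K : DRing.Cx R) [DRing.HasLTensorCx R K]

/-- the counit of `- ⊗^L K` is an isomorphism at K-projective complexes -/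
theorem isIso_counit_LTensorCx (P : Cx R) [P.IsKProjective] :
    IsIso (((DRing.tensorCxQ R K).totalLeftDerivedCounit Q
      (HomologicalComplex.quasiIso (ModuleCat.{u} R) (ComplexShape.up ℤ))).app P) := by
  have := Functor.IsLeftDerivedFunctor.isRightKanExtension (DRing.LTensorCx R K)
    ((DRing.tensorCxQ R K).totalLeftDerivedCounit Q
      (HomologicalComplex.quasiIso (ModuleCat.{u} R) (ComplexShape.up ℤ)))
    (HomologicalComplex.quasiIso (ModuleCat.{u} R) (ComplexShape.up ℤ))
  refine isIso_counit_app'.{u} Q (DRing.tensorCxQ R K) (DRing.LTensorCx R K) _ P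
    (fun Y => Q_map_surjective P Y) ?_
  intro Y f g h
  obtain ⟨hfg⟩ := homotopy_of_Q_map_eq P Y f g h
  show Q.map (f ▷ K) = Q.map (g ▷ K)
  exact Q_map_eq_of_homotopy
    (mapBifunctorMapHomotopy₁ hfg (𝟙 K) (curriedTensor (ModuleCat.{u} R)) (ComplexShape.up ℤ))

/-- `M ⊗^L K` is computed termwise on any K-flat complex `E` quasi-isomorphic to `K` -/
theorem nonempty_iso_LTensorCx_single (E : Cx R) (hE : KFlat E) (e : Q.obj E ≅ Q.obj K)
    (M : ModuleCat.{u} R) :
    Nonempty ((DRing.LTensorCx R K).obj (Q.obj (sgl M)) ≅ Q.obj (TCx M E)) := by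
  obtain ⟨F, π, hF, -, hπ, -⟩ := exists_kprojective_resolution (sgl M)
  obtain ⟨P, q, hP, -, hq, -⟩ := exists_kprojective_resolution K
  have hπi : IsIso (Q.map π) := (DerivedCategory.isIso_Q_map_iff_quasiIso (φ := π)).2 hπ
  have hqi : IsIso (Q.map q) := (DerivedCategory.isIso_Q_map_iff_quasiIso (φ := q)).2 hq
  obtain ⟨g, hg⟩ := Q_map_surjective P E (Q.map q ≫ e.inv)
  have hgi : IsIso (Q.map g) := by rw [hg]; infer_instance
  have hgq : QuasiIso g := (DerivedCategory.isIso_Q_map_iff_quasiIso (φ := g)).1 hgi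
  have hFL : KFlatL F := (kflat_of_isKProjective F).kflatL
  have := isIso_counit_LTensorCx K F
  have q1 : QuasiIso (F ◁ q) := quasiIso_whiskerLeft_of_kflatL q F hFL
  have q2 : QuasiIso (F ◁ g) := quasiIso_whiskerLeft_of_kflatL g F hFL
  have q3 : QuasiIso (π ▷ E) := quasiIso_whiskerRight_of_kflat π E hE
  have i1 : IsIso (Q.map (F ◁ q)) := (DerivedCategory.isIso_Q_map_iff_quasiIso (φ := F ◁ q)).2 q1
  have i2 : IsIso (Q.map (F ◁ g)) := (DerivedCategory.isIso_Q_map_iff_quasiIso (φ := F ◁ g)).2 q2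
  have i3 : IsIso (Q.map (π ▷ E)) := (DerivedCategory.isIso_Q_map_iff_quasiIso (φ := π ▷ E)).2 q3
  exact ⟨(DRing.LTensorCx R K).mapIso (asIso (Q.map π)).symm ≪≫
    asIso (((DRing.tensorCxQ R K).totalLeftDerivedCounit Q
      (HomologicalComplex.quasiIso (ModuleCat.{u} R) (ComplexShape.up ℤ))).app F) ≪≫
    (asIso (Q.map (F ◁ q))).symm ≪≫ asIso (Q.map (F ◁ g)) ≪≫ asIso (Q.map (π ▷ E)) ≪≫
    Q.mapIso (singleTensorIso M E).symm⟩

end LTensor

end Groth.Agent.Lib.Helper1.TorL
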