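import Mathlib
import Groth.Agent.Lib.Helper1TorL
import Groth.Agent.Lib.Helper1PCTower
import Groth.Agent.Lib.Helper1LBC
set_option backward.isDefEq.respectTransparency.types false

/-!
# Terms of the tensor product of two complexes of modules; `P ⊗^L L` for perfect / pseudo-coherent
arguments (helper1)
-/

set_option autoImplicit false
set_option maxHeartbeats 400000
universe u
open CategoryTheory CategoryTheory.Limits MonoidalCategory HomologicalComplex
attribute [local instance] HasDerivedCategory.standard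

namespace Groth.Agent.Lib.Helper1.TensPerf

open DerivedCategory Groth.Agent.Lib.Helper1.KF Groth.Agent.Lib.Helper1.Tor
  Groth.Agent.Lib.Helper1.DT Groth.Agent.Lib.Helper1.LDer Groth.Agent.Lib.Helper1.TorL

variable {R : Type u} [CommRing R] (P P' : DRing.Cx R)

lemma tensor_hom_ext {Y : ModuleCat.{u} R} {n : ℤ} {f g : (P ⊗ P').X n ⟶ Y}
    (h : ∀ (p q : ℤ) (hpq : p + q = n), ιTensorObj P P' p q n hpq ≫ f = ιTensorObj P P' p q n hpq ≫ g) :
    f = g :=
  HomologicalComplex.mapBifunctor.hom_ext (fun p q hpq => h p q hpq)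

lemma isZero_tensorObj_of_isZero_left {M N : ModuleCat.{u} R} (h : IsZero M) : IsZero (M ⊗ N) := by
  have := ModuleCat.subsingleton_of_isZero h
  have : Subsingleton (TensorProduct R M N) := inferInstance
  exact ModuleCat.isZero_of_subsingleton (M ⊗ N)

lemma isZero_tensorObj_of_isZero_right {M N : ModuleCat.{u} R} (h : IsZero N) : IsZero (M ⊗ N) := by
  have := ModuleCat.subsingleton_of_isZero h
  have : Subsingleton (TensorProduct R M N) := inferInstance
  exact ModuleCat.isZero_of_subsingleton (M ⊗ N)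

lemma isZero_tensor_X (n : ℤ)
    (h : ∀ p q : ℤ, p + q = n → IsZero (P.X p) ∨ IsZero (P'.X q)) : IsZero ((P ⊗ P').X n) := by
  rw [IsZero.iff_id_eq_zero]
  apply tensor_hom_ext
  intro p q hpq
  have hz : IsZero (P.X p ⊗ P'.X q) := by
    rcases h p q hpq with h1 | h1
    · exact isZero_tensorObj_of_isZero_left h1
    · exact isZero_tensorObj_of_isZero_right h1
  exact hz.eq_of_src _ _

lemma projective_tensorObj {M N : ModuleCat.{u} R} [Module.Projective R M] [Module.Projective R N] :
    Projective (M ⊗ N) := by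
  have : Module.Projective R (TensorProduct R M N) := inferInstance
  have : Module.Projective R ↑(M ⊗ N) := this
  exact ModuleCat.projective_of_categoryTheory_projective (M ⊗ N)

lemma projective_tensor_X (hP : ∀ i, Module.Projective R (P.X i))
    (hP' : ∀ i, Module.Projective R (P'.X i)) (n : ℤ) :
    Module.Projective R ((P ⊗ P').X n) := by
  have hpq : ∀ p q : ℤ, Projective (((curriedTensor (ModuleCat.{u} R)).obj (P.X p)).obj (P'.X q)) :=
    fun p q => by
      have := hP p
      have := hP' q
      exact projective_tensorObj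
  have : Projective ((P ⊗ P').X n) := by
    refine ⟨fun {E X} f e _ => ?_⟩
    refine ⟨HomologicalComplex.mapBifunctorDesc (fun p q h =>
      haveI := hpq p q
      Projective.factorThru (ιTensorObj P P' p q n h ≫ f) e), ?_⟩
    apply tensor_hom_ext
    intro p q h
    erw [HomologicalComplex.ι_mapBifunctorDesc_assoc]
    exact Projective.factorThru_comp _ _
  exact ModuleCat.projective_of_module_projective _

lemma finite_tensor_X (hP : ∀ i, Module.Finite R (P.X i)) (hP' : ∀ i, Module.Finite R (P'.X i))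
    (n : ℤ) (S : Finset ℤ)
    (hS : ∀ p q : ℤ, p + q = n → p ∉ S → IsZero (P.X p) ∨ IsZero (P'.X q)) :
    Module.Finite R ((P ⊗ P').X n) := by
  classical
  let N : Submodule R ((P ⊗ P').X n) :=
    ⨆ p ∈ S, LinearMap.range (ιTensorObj P P' p (n - p) n (by lia)).hom
  have hN : N.FG := by
    refine Submodule.fg_biSup S _ (fun p _ => ?_)
    have := hP p
    have := hP' (n - p)
    have : Module.Finite R (TensorProduct R (P.X p) (P'.X (n - p))) := inferInstance
    have : Module.Finite R ↑(P.X p ⊗ P'.X (n - p)) := this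
    rw [LinearMap.range_eq_map]
    exact Module.Finite.fg_top.map _
  have hq : ModuleCat.ofHom N.mkQ = 0 := by
    apply tensor_hom_ext
    intro p q hpq
    by_cases hp : p ∈ S
    · obtain rfl : q = n - p := by lia
      rw [Limits.comp_zero]
      apply ModuleCat.hom_ext
      apply LinearMap.ext
      intro x
      change N.mkQ ((ιTensorObj P P' p (n - p) n hpq).hom x) = 0
      rw [Submodule.mkQ_apply, Submodule.Quotient.mk_eq_zero]
      exact Submodule.mem_iSup_of_mem p (Submodule.mem_iSup_of_mem hp ⟨x, rfl⟩)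
    · have hz : IsZero (P.X p ⊗ P'.X q) := by
        rcases hS p q hpq hp with h1 | h1
        · exact isZero_tensorObj_of_isZero_left h1
        · exact isZero_tensorObj_of_isZero_right h1
      exact hz.eq_of_src _ _
  have hNtop : N = ⊤ := by
    have h1 : N.mkQ = 0 := by
      have := congrArg ModuleCat.Hom.hom hq
      exact this
    rw [← Submodule.ker_mkQ N, h1, LinearMap.ker_zero]
  exact ⟨hNtop ▸ hN⟩

/-- `K ⊗^L L ≅ Q(P ⊗ P')` for K-projective representatives `P` of `K` and `P'` of `L` -/
theorem nonempty_iso_LTensorCx (L : DRing.Cx R) [DRing.HasLTensorCx R L] (K : Dual.D R)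
    (P : DRing.Cx R) [P.IsKProjective] (eK : Q.obj P ≅ K) (P' : DRing.Cx R) [P'.IsKProjective]
    (eL : Q.obj P' ≅ Q.obj L) :
    Nonempty ((DRing.LTensorCx R L).obj K ≅ Q.obj (P ⊗ P')) := by
  obtain ⟨g, hg⟩ := Q_map_surjective P' L eL.hom
  have hgi : IsIso (Q.map g) := by rw [hg]; infer_instance
  have hgq : QuasiIso g := (DerivedCategory.isIso_Q_map_iff_quasiIso (φ := g)).1 hgi
  have q1 : QuasiIso (P ◁ g) :=
    quasiIso_whiskerLeft_of_kflatL g P (kflat_of_isKProjective P).kflatL
  have i1 : IsIso (Q.map (P ◁ g)) := (DerivedCategory.isIso_Q_map_iff_quasiIso (φ := P ◁ g)).2 q1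
  have := isIso_counit_LTensorCx L P
  exact ⟨(DRing.LTensorCx R L).mapIso eK.symm ≪≫
    asIso (((DRing.tensorCxQ R L).totalLeftDerivedCounit Q
      (HomologicalComplex.quasiIso (ModuleCat.{u} R) (ComplexShape.up ℤ))).app P) ≪≫
    (asIso (Q.map (P ◁ g))).symm⟩

theorem isPerfect_LTensorCx (K : Dual.D R) (hK : DRing.IsPerfect R K) (L : DRing.Cx R)
    (hL : DRing.IsPerfect R (DRing.toD L)) [DRing.HasLTensorCx R L] :
    DRing.IsPerfect R ((DRing.LTensorCx R L).obj K) := by
  obtain ⟨E, a, b, hE, hEp, ⟨eK⟩⟩ := hK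
  obtain ⟨E', a', b', hE', hEp', ⟨eL⟩⟩ := hL
  haveI : E.IsKProjective :=
    isKProjective_of_vanishesAbove E b (fun i hi => hE i (Or.inr hi)) (fun i => (hEp i).2)
  haveI : E'.IsKProjective :=
    isKProjective_of_vanishesAbove E' b' (fun i hi => hE' i (Or.inr hi)) (fun i => (hEp' i).2)
  obtain ⟨e⟩ := nonempty_iso_LTensorCx L K E eK E' eL
  refine ⟨E ⊗ E', a + a', b + b', ?_, ?_, ⟨e.symm⟩⟩
  · intro n hn
    apply isZero_tensor_X
    intro p q hpq
    by_cases hp : p < a ∨ b < p
    · exact Or.inl (hE p hp)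
    · refine Or.inr (hE' q ?_)
      push Not at hp
      rcases hn with hn | hn
      · left; lia
      · right; lia
  · intro n
    refine ⟨finite_tensor_X E E' (fun i => (hEp i).1) (fun i => (hEp' i).1) n (Finset.Icc a b) ?_,
      projective_tensor_X E E' (fun i => (hEp i).2) (fun i => (hEp' i).2) n⟩
    intro p q _ hp
    refine Or.inl (hE p ?_)
    rw [Finset.mem_Icc] at hp
    lia

open Groth.Agent.Lib.Helper1.PC Groth.Agent.Lib.Helper1.PCTower in
theorem isPseudoCoherent'_LTensorCx (K : Dual.D R) (hK : DRing.IsPseudoCoherent' R K)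
    (L : DRing.Cx R) (hL : DRing.IsPseudoCoherent' R (DRing.toD L)) [DRing.HasLTensorCx R L] :
    DRing.IsPseudoCoherent' R ((DRing.LTensorCx R L).obj K) := by
  obtain ⟨E, b, hE, hEp, ⟨eK⟩⟩ := hK
  obtain ⟨E', b', hE', hEp', ⟨eL⟩⟩ := hL
  have hproj : ∀ i, Module.Projective R (E.X i) := fun i =>
    have := (hEp i).2
    inferInstance
  have hproj' : ∀ i, Module.Projective R (E'.X i) := fun i =>
    have := (hEp' i).2
    inferInstance
  haveI : E.IsKProjective := isKProjective_of_vanishesAbove E b hE hproj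
  haveI : E'.IsKProjective := isKProjective_of_vanishesAbove E' b' hE' hproj'
  obtain ⟨e⟩ := nonempty_iso_LTensorCx L K E eK E' eL
  apply isPseudoCoherent'_of_forall
  intro m
  refine isPC_of_iso e.symm (isPC_of_bddAbove_finProj (E ⊗ E') (b + b') ?_ ?_ m)
  · intro n hn
    apply isZero_tensor_X
    intro p q hpq
    by_cases hp : b < p
    · exact Or.inl (hE p hp)
    · exact Or.inr (hE' q (by lia))
  · intro n
    refine ⟨finite_tensor_X E E' (fun i => (hEp i).1) (fun i => (hEp' i).1) n
      (Finset.Icc (n - b') b) ?_, projective_tensor_X E E' hproj hproj' n⟩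
    intro p q hpq hp
    rw [Finset.mem_Icc] at hp
    by_cases hp' : b < p
    · exact Or.inl (hE p hp')
    · exact Or.inr (hE' q (by lia))

end Groth.Agent.Lib.Helper1.TensPerf
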