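import Mathlib
import Groth.Agent.Lib.Helper10DCTensB
import Groth.Agent.Lib.Helper10ConeTensor
import Groth.Agent.Lib.Helper10DTenB
import Groth.Agent.Lib.Helper1PC
import Groth.Agent.Lib.Helper1TensPerf
import Groth.Agent.Lib.Helper1KF12
set_option backward.isDefEq.respectTransparency.types false
set_option backward.isDefEq.respectTransparency false

/-!
# Derived completion commutes with `- ⊗^L F`, `F` pseudo-coherent, on bounded above objects (helper10)

* `Θ X hX`: the functor `- ⊗ X` on `D(A)` for K-flat `X` (lift of `tensorRight X ⋙ Q`), `hexact_Θ`,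
  `isLE_Θ`, `ΘshiftQ`, `ΘsingleIso`.
* `van_tensor`: dévissage for `F ⊗ X`, `F` a bounded above complex of finite free modules.
* `ltcIso`: `P ⊗^L F ≅ P ⊗ F` for K-projective `P`.
* `isDerivedComplete_LTensorCx`, `bijective_precomp_LTensorCx_map`.
-/

set_option autoImplicit false
set_option maxHeartbeats 400000
universe u
open CategoryTheory CategoryTheory.Limits HomologicalComplex CochainComplex MonoidalCategory
open scoped TensorProduct
attribute [local instance] HasDerivedCategory.standard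

namespace Groth.Agent.Lib.Helper10.DCTensC

open DerivedCategory Groth.Agent.Lib.Helper1.LDer Groth.Agent.Lib.Helper10.DNak
  Groth.Agent.Lib.Helper10.DCFinB Groth.Agent.Lib.Helper10.DCFin Pretriangulated
  Groth.Agent.Lib.Helper1.KF Groth.Agent.Lib.Helper1.DT
  Groth.Agent.Lib.Helper10.DTenA Groth.Agent.Lib.Helper10.DTenB
  Groth.Agent.Lib.Helper10.ConeTensor Groth.Agent.Lib.Helper10.DCTens

variable {A : Type u} [CommRing A]

section Theta

variable (X : Cx A) (hX : KFlat X)

include hX in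
/-- `- ⊗ X` inverts quasi-isomorphisms when `X` is K-flat -/
lemma isInvertedBy_tensorRight :
    (HomologicalComplex.quasiIso (ModuleCat.{u} A) (ComplexShape.up ℤ)).IsInvertedBy
      (tensorRight X ⋙ Q) := by
  intro K L f hf
  haveI : QuasiIso f := hf
  haveI := quasiIso_whiskerRight_of_kflat f X hX
  exact (DerivedCategory.isIso_Q_map_iff_quasiIso _ (f ▷ X)).2 inferInstance

/-- the functor `- ⊗ X` on `D(A)`, `X` K-flat -/
noncomputable def Θ : Dual.D A ⥤ Dual.D A :=
  Localization.lift (tensorRight X ⋙ Q) (isInvertedBy_tensorRight X hX) Q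

noncomputable def ΘIso : Q ⋙ Θ X hX ≅ tensorRight X ⋙ Q :=
  Localization.fac (tensorRight X ⋙ Q) (isInvertedBy_tensorRight X hX) Q

/-- `Θ` is exact at standard triangles -/
lemma exactAt_Θ {K L : Cx A} (φ : K ⟶ L) :
    ExactAt (Θ X hX) (Q.mapTriangle.obj (mappingCone.triangle φ)) := by
  intro W f hf
  have nat1 := (ΘIso X hX).hom.naturality φ
  have nat2 := (ΘIso X hX).hom.naturality (mappingCone.inr φ)
  have hiso : IsIso (Q.map (coneTensorHom φ X)) := inferInstance
  refine chase (C := Dual.D A) f _ _ ((ΘIso X hX).hom.app K) ((ΘIso X hX).hom.app L)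
    ((ΘIso X hX).hom.app (mappingCone φ)) inferInstance inferInstance (Q.map (φ ▷ X))
    (Q.map (mappingCone.inr φ ▷ X))
    (Q.map (mappingCone.inr (φ ▷ X))) (Q.map (coneTensorHom φ X)) hiso nat1 nat2 ?_ ?_ hf
  · rw [← Q.map_comp, inr_coneTensorHom]
  · intro x hx
    exact Triangle.coyoneda_exact₂ _ (mappingCone_triangle_distinguished (φ ▷ X)) x hx

theorem hexact_Θ : HExact (Θ X hX) := by
  intro T hT
  rw [mem_distTriang_iff] at hT
  obtain ⟨K, L, φ, ⟨eT⟩⟩ := hT
  exact ExactAt.of_iso eT (exactAt_Θ X hX φ)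

/-- `Θ(Q(F[n])) ≅ Q(F ⊗ X)[n]` -/
noncomputable def ΘQshift (F : Cx A) (n : ℤ) :
    (Θ X hX).obj (Q.obj (F⟦n⟧)) ≅ (Q.obj (F ⊗ X) : Dual.D A)⟦n⟧ :=
  (ΘIso X hX).app (F⟦n⟧) ≪≫ Q.mapIso (tensorShiftLeftIso F X n) ≪≫
    (Q.commShiftIso n).app (F ⊗ X)

/-- `Θ((Q F)[n]) ≅ Q(F ⊗ X)[n]` -/
noncomputable def ΘshiftQ (F : Cx A) (n : ℤ) :
    (Θ X hX).obj ((Q.obj F : Dual.D A)⟦n⟧) ≅ (Q.obj (F ⊗ X) : Dual.D A)⟦n⟧ :=
  (Θ X hX).mapIso ((Q.commShiftIso n).app F).symm ≪≫ ΘQshift X hX F n

/-- amplitude of `Θ` -/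
lemma isLE_Θ (b : ℤ) [X.IsStrictlyLE b] (G : Dual.D A) (m : ℤ) [G.IsLE m] :
    ((Θ X hX).obj G).IsLE (m + b) := by
  obtain ⟨E, hE, ⟨e⟩⟩ := G.exists_iso_Q_obj_of_isLE m
  have h1 : (E ⊗ X).IsStrictlyLE (m + b) := by
    rw [CochainComplex.isStrictlyLE_iff]
    intro i hi
    apply Groth.Agent.Lib.Helper1.TensPerf.isZero_tensor_X
    intro p q hpq
    by_cases hp : m < p
    · exact Or.inl (CochainComplex.isZero_of_isStrictlyLE E m p hp)
    · exact Or.inr (CochainComplex.isZero_of_isStrictlyLE X b q (by omega))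
  have h2 : (Q.obj (E ⊗ X) : Dual.D A).IsLE (m + b) := inferInstance
  have e' : (Q.obj (E ⊗ X) : Dual.D A) ≅ (Θ X hX).obj G :=
    ((ΘIso X hX).app E).symm ≪≫ (Θ X hX).mapIso e.symm
  exact TStructure.t.isLE_of_iso e' (m + b)

/-- `Θ` on single modules -/
noncomputable def ΘsingleIso (N : ModuleCat.{u} A) (m : ℤ) :
    (Θ X hX).obj ((DerivedCategory.singleFunctor (ModuleCat.{u} A) m).obj N) ≅
      (Q.obj ((tCx N).obj X) : Dual.D A)⟦-m⟧ :=
  (Θ X hX).mapIso ((DerivedCategory.singleFunctorIsoCompQ (ModuleCat.{u} A) m).app N ≪≫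
    Q.mapIso (((CochainComplex.singleFunctors (ModuleCat.{u} A)).shiftIso (-m) m 0
      (by omega)).app N).symm) ≪≫
  ΘQshift X hX (sgl N) (-m) ≪≫
  (CategoryTheory.shiftFunctor (Dual.D A) (-m)).mapIso
    (Q.mapIso ((singleTensorIso N X).symm ≪≫ ((tCxIsoTC N).app X).symm))

end Theta

section E

open Groth.Agent.Lib.Helper1.PC Groth.Agent.Lib.Helper1.Devissage

lemma subsingleton_of_hexact {F : Dual.D A ⥤ Dual.D A} (hF : HExact F) (T : Triangle (Dual.D A))
    (hT : T ∈ distTriang _) (W : Dual.D A) (h1 : Subsingleton (W ⟶ F.obj T.obj₁))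
    (h3 : Subsingleton (W ⟶ F.obj T.obj₃)) : Subsingleton (W ⟶ F.obj T.obj₂) := by
  have key : ∀ f : W ⟶ F.obj T.obj₂, f = 0 := by
    intro f
    obtain ⟨g, hg⟩ := hF T hT f (Subsingleton.elim _ _)
    rw [← hg, Subsingleton.elim g 0, zero_comp]
  exact ⟨fun a b => (key a).trans (key b).symm⟩

variable (W : Dual.D A) (X : Cx A) (hX : KFlat X)

/-- `Hom(W, Θ(G[n])) = 0` for all `n` -/
def PW : ObjectProperty (Dual.D A) :=
  fun G => ∀ n : ℤ, Subsingleton (W ⟶ (Θ X hX).obj (G⟦n⟧))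

instance : (PW W X hX).IsClosedUnderIsomorphisms where
  of_iso {G G'} e h n := by
    have e' : (Θ X hX).obj (G'⟦n⟧) ≅ (Θ X hX).obj (G⟦n⟧) :=
      (Θ X hX).mapIso ((CategoryTheory.shiftFunctor (Dual.D A) n).mapIso e.symm)
    exact @Equiv.subsingleton _ _ e'.homToEquiv (h n)

lemma PW_of_triangle (T : Triangle (Dual.D A)) (hT : T ∈ distTriang _)
    (h1 : PW W X hX T.obj₁) (h3 : PW W X hX T.obj₃) : PW W X hX T.obj₂ := fun n =>
  subsingleton_of_hexact (hexact_Θ X hX) _ (Triangle.shift_distinguished T hT n) W (h1 n) (h3 n)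

variable (c₀ : ℤ) (hW : ∀ Y : Dual.D A, Y.IsLE c₀ → Subsingleton (W ⟶ Y))

include hW in
lemma PW_of_isZero (b : ℤ) [X.IsStrictlyLE b] (G : Dual.D A) (hG : IsZero G) :
    PW W X hX G := fun n => by
  have hz : IsZero (G⟦n⟧) := (CategoryTheory.shiftFunctor (Dual.D A) n).map_isZero hG
  haveI : (G⟦n⟧).IsLE (c₀ - b) := TStructure.t.isLE_of_isZero hz _
  have h1 := isLE_Θ X hX b (G⟦n⟧) (c₀ - b)
  exact hW _ (TStructure.t.isLE_of_le _ (c₀ - b + b) c₀ (by omega))

include hW in
/-- singles of finite modules -/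
lemma PW_single [IsNoetherianRing A] (hXf : DRing.TermwiseFlat X) (b : ℤ) [X.IsStrictlyLE b]
    (h : ∀ n : ℤ, Subsingleton (W ⟶ (Q.obj X : Dual.D A)⟦n⟧))
    (N : ModuleCat.{u} A) [Module.Finite A N] (j : ℤ) :
    PW W X hX ((DerivedCategory.singleFunctor (ModuleCat.{u} A) j).obj N) := fun n => by
  have e : (Θ X hX).obj (((DerivedCategory.singleFunctor (ModuleCat.{u} A) j).obj N)⟦n⟧) ≅
      (Q.obj ((tCx N).obj X) : Dual.D A)⟦-(j - n)⟧ :=
    (Θ X hX).mapIso (((DerivedCategory.singleFunctors (ModuleCat.{u} A)).shiftIso n (j - n) j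
      (by omega)).app N) ≪≫ ΘsingleIso X hX N (j - n)
  have hv : Van W X (ModuleCat.of A N) (-(j - n)) := van_of_finite W X c₀ hW hXf b h N _
  exact @Equiv.subsingleton _ _ e.homToEquiv hv

include hW in
/-- bounded complexes of finite modules -/
theorem PW_bounded [IsNoetherianRing A] (hXf : DRing.TermwiseFlat X) (b : ℤ) [X.IsStrictlyLE b]
    (h : ∀ n : ℤ, Subsingleton (W ⟶ (Q.obj X : Dual.D A)⟦n⟧))
    (E : Cx A) (a d : ℤ) (hE : ∀ i : ℤ, (i < a ∨ d < i) → IsZero (E.X i))
    (hEf : ∀ i : ℤ, Module.Finite A (E.X i)) : PW W X hX (Q.obj E) := by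
  refine induction_terms' (PW W X hX) (PW_of_isZero W X hX c₀ hW b)
    (PW_of_triangle W X hX) ?_ E a d hE ?_
  · intro j M N ⟨e⟩ hM
    exact (PW W X hX).prop_of_iso
      ((DerivedCategory.singleFunctor (ModuleCat.{u} A) j).mapIso e) hM
  · intro j _ _
    haveI := hEf j
    exact PW_single W X hX c₀ hW hXf b h (E.X j) j

include hW in
/-- **Dévissage for complexes**: if `Hom(W, -)` vanishes on `D^{≤ c₀}`, `X` is a bounded above complex
of flat modules with `Hom(W, X[n]) = 0` for all `n`, and `F` is a bounded above complex of finite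
free modules, then `Hom(W, (F ⊗ X)[n]) = 0` for all `n`. -/
theorem van_tensor [IsNoetherianRing A] (hXf : DRing.TermwiseFlat X) (b : ℤ) [X.IsStrictlyLE b]
    (h : ∀ n : ℤ, Subsingleton (W ⟶ (Q.obj X : Dual.D A)⟦n⟧))
    (F : Cx A) (c : ℤ) (hFc : DRing.VanishesAbove F c) (hFf : DRing.TermwiseFiniteFree F)
    (n : ℤ) : Subsingleton (W ⟶ (Q.obj (F ⊗ X) : Dual.D A)⟦n⟧) := by
  have hX : KFlat X := kflat_of_boundedAbove_flat X b
    (fun q hq => CochainComplex.isZero_of_isStrictlyLE X b q hq) hXf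
  obtain ⟨m, hm⟩ : ∃ m : ℤ, m = c₀ + n + 1 - b := ⟨_, rfl⟩
  obtain ⟨C', β, γ, hT⟩ := distinguished_cocone_triangle (Q.map (sigmaGEι F m))
  haveI hC : C'.IsLE (m - 1) := (conn_iff_of_distTriang _ hT m).1 (conn_sigmaGEι F m)
  have h1 : PW W X hX (Q.obj (sigmaGE F m)) := by
    refine PW_bounded W X hX c₀ hW hXf b h (sigmaGE F m) m c ?_ ?_
    · rintro i (hi | hi)
      · exact isZero_sigmaGE_X F m i hi
      · exact isZero_sigmaGE_X' F m i (hFc i hi)
    · intro i
      exact (FF_sigmaGE F m i (hFf i)).1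
  have h3 : Subsingleton (W ⟶ (Θ X hX).obj (C'⟦n⟧)) := by
    haveI : (C'⟦n⟧).IsLE (m - 1 - n) := TStructure.t.isLE_shift C' (m - 1) n (m - 1 - n) (by omega)
    have := isLE_Θ X hX b (C'⟦n⟧) (m - 1 - n)
    exact hW _ (TStructure.t.isLE_of_le _ (m - 1 - n + b) c₀ (by omega))
  have key : Subsingleton (W ⟶ (Θ X hX).obj ((Q.obj F : Dual.D A)⟦n⟧)) :=
    subsingleton_of_hexact (hexact_Θ X hX) _ (Triangle.shift_distinguished _ hT n) W (h1 n) h3
  exact @Equiv.subsingleton _ _ (ΘshiftQ X hX F n).symm.homToEquiv key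

end E

section Main

open Groth.Agent.Lib.Helper10.RGamA Groth.Agent.Lib.Helper10.DerComplete
  Groth.Agent.Lib.Helper10.DCMain Groth.Agent.Lib.Helper10.DCAmp

variable [IsNoetherianRing A] (I : Ideal A) (F : DRing.Cx A) [DRing.HasLTensorCx A F]

/-- `P ⊗^L F ≅ P ⊗ F` for K-projective `P` -/
noncomputable def ltcIso (P : Cx A) [P.IsKProjective] :
    (DRing.LTensorCx A F).obj (Q.obj P) ≅ Q.obj (P ⊗ F) :=
  haveI := Groth.Agent.Lib.Helper1.TorL.isIso_counit_LTensorCx F P
  asIso (((DRing.tensorCxQ A F).totalLeftDerivedCounit Q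
    (HomologicalComplex.quasiIso (ModuleCat.{u} A) (ComplexShape.up ℤ))).app P)

omit [IsNoetherianRing A] in
lemma ltcIso_hom_naturality {P P' : Cx A} [P.IsKProjective] [P'.IsKProjective] (f : P ⟶ P') :
    (DRing.LTensorCx A F).map (Q.map f) ≫ (ltcIso F P').hom =
      (ltcIso F P).hom ≫ Q.map (f ▷ F) :=
  ((DRing.tensorCxQ A F).totalLeftDerivedCounit Q
    (HomologicalComplex.quasiIso (ModuleCat.{u} A) (ComplexShape.up ℤ))).naturality f

variable (c : ℤ) (hFc : DRing.VanishesAbove F c) (hFf : DRing.TermwiseFiniteFree F)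

include hFc hFf in
/-- `L ⊗^L F` is derived complete for `L` derived complete and bounded above, `F` a bounded above
complex of finite free modules -/
theorem isDerivedComplete_LTensorCx (L : Dual.D A) (b : ℤ) [L.IsLE b]
    (hL : DRing.IsDerivedComplete I L) :
    DRing.IsDerivedComplete I ((DRing.LTensorCx A F).obj L) := by
  obtain ⟨P, hP, hproj, ⟨e⟩⟩ := Groth.Agent.Lib.Helper1.ProjRes.exists_iso_Q_proj L b
  haveI : P.IsKProjective := CochainComplex.isKProjective_of_projective P b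
  have hflat : DRing.TermwiseFlat P := termwiseFlat_of_projective P hproj
  have hLP : DRing.IsDerivedComplete I (Q.obj P) := isDerivedComplete_of_iso' I e.symm hL
  refine isDerivedComplete_of_iso' I
    (Q.mapIso (swapIso F P) ≪≫ (ltcIso F P).symm ≪≫ (DRing.LTensorCx A F).mapIso e) ?_
  rw [isDerivedComplete_iff_V] at hLP ⊢
  intro f hf n
  rw [V_iff_subsingleton]
  exact van_tensor (Dual.inD A (Localization.Away f)) P (-2)
    (fun Y hY => by
      haveI := hY
      exact (V_iff_subsingleton f Y).1 (V_of_isLE f Y)) hflat b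
    (fun n => (V_iff_subsingleton f _).1 (hLP f hf n)) F c hFc hFf n

include hFc hFf in
/-- `K ⊗^L F ⟶ K^ ⊗^L F` is universal among maps to derived complete objects, for `K` bounded
above and `F` a bounded above complex of finite free modules -/
theorem bijective_precomp_LTensorCx_map [DRing.HasDerivedCompletion I] (K : Dual.D A) (b : ℤ)
    [K.IsLE b] (E : Dual.D A) (hE : DRing.IsDerivedComplete I E) :
    Function.Bijective (fun φ : (DRing.LTensorCx A F).obj
        ((DRing.derivedCompletion I).obj K).obj ⟶ E =>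
      (DRing.LTensorCx A F).map (DRing.toDerivedCompletion I K) ≫ φ) := by
  obtain ⟨fs, hfs⟩ := exists_list_span I
  obtain ⟨Pc, π, hPc, -, hπ, -⟩ :=
    exists_kprojective_resolution (DerCA.extCech (ModuleCat.of A A) fs)
  haveI : ((DRing.derivedCompletion I).obj K).obj.IsLE b :=
    isLE_derivedCompletion fs I hfs.symm π K b
  obtain ⟨P, hP, hproj, ⟨e⟩⟩ := Groth.Agent.Lib.Helper1.ProjRes.exists_iso_Q_proj K b
  obtain ⟨P', hP', hproj', ⟨e'⟩⟩ :=
    Groth.Agent.Lib.Helper1.ProjRes.exists_iso_Q_proj ((DRing.derivedCompletion I).obj K).obj b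
  haveI : P.IsKProjective := CochainComplex.isKProjective_of_projective P b
  haveI : P'.IsKProjective := CochainComplex.isKProjective_of_projective P' b
  have hflat : DRing.TermwiseFlat P := termwiseFlat_of_projective P hproj
  have hflat' : DRing.TermwiseFlat P' := termwiseFlat_of_projective P' hproj'
  obtain ⟨u, hu⟩ := Q_map_surjective P P' (e.hom ≫ DRing.toDerivedCompletion I K ≫ e'.inv)
  have hC_flat : DRing.TermwiseFlat (CochainComplex.mappingCone u) :=
    Groth.Agent.Lib.Helper1.Tor.termwiseFlat_mappingCone u hflat hflat'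
  haveI : (CochainComplex.mappingCone u).IsStrictlyLE b := by
    rw [CochainComplex.isStrictlyLE_iff]
    intro i hi
    rw [CochainComplex.mappingCone.isZero_X_iff]
    exact ⟨CochainComplex.isZero_of_isStrictlyLE P b _ (by omega),
      CochainComplex.isZero_of_isStrictlyLE P' b _ hi⟩
  have hCA : CA I (Q.obj (CochainComplex.mappingCone u)) := by
    refine CA_of_bijective_precomp I (Q.map u) _ _
      (DerivedCategory.mappingCone_triangle_distinguished u) (fun E' hE' => ?_)
    have e1 : (fun ψ : Q.obj P' ⟶ E' => Q.map u ≫ ψ) =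
        (fun ψ => e.hom ≫ ψ) ∘
        (fun ψ : ((DRing.derivedCompletion I).obj K).obj ⟶ E' =>
          DRing.toDerivedCompletion I K ≫ ψ) ∘ (fun ψ => e'.inv ≫ ψ) := by
      funext ψ
      simp only [Function.comp_apply, hu, Category.assoc]
    rw [e1]
    exact (bijective_precomp_of_isIso e.hom E').comp
      ((bijective_toDerivedCompletion I K E' hE').comp (bijective_precomp_of_isIso e'.inv E'))
  have hCZ := (CA_iff_subsingleton fs I hfs.symm π _).1 hCA
  haveI : IsIso (Q.map π) := (isIso_Q_map_iff_quasiIso _ π).2 inferInstance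
  have hCZ' : ∀ n : ℤ, Subsingleton (Q.obj Pc ⟶
      (Q.obj (F ⊗ CochainComplex.mappingCone u) : Dual.D A)⟦n⟧) :=
    fun n => van_tensor (Q.obj Pc) (CochainComplex.mappingCone u) (-1)
      (fun Y hY => by
        haveI := hY
        haveI := subsingleton_hom_extCech_of_isLE fs Y
        exact (asIso (Q.map π)).homFromEquiv.subsingleton) hC_flat b hCZ F c hFc hFf n
  have hCA' : CA I (Q.obj (F ⊗ CochainComplex.mappingCone u)) :=
    (CA_iff_subsingleton fs I hfs.symm π _).2 hCZ'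
  have hCA'' : CA I (Q.obj (CochainComplex.mappingCone (u ▷ F))) :=
    CA.of_iso I hCA' (Q.mapIso (swapIso F (CochainComplex.mappingCone u) ≪≫
      (coneTensorIso u F).symm))
  have hb := bijective_precomp_of_CA I (Q.map (u ▷ F)) _ _
    (DerivedCategory.mappingCone_triangle_distinguished _) hCA'' E hE
  have hη : DRing.toDerivedCompletion I K = e.inv ≫ Q.map u ≫ e'.hom := by
    rw [hu]
    simp
  have hnat := ltcIso_hom_naturality F u
  have e2 : (fun φ : (DRing.LTensorCx A F).obj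
        ((DRing.derivedCompletion I).obj K).obj ⟶ E =>
      (DRing.LTensorCx A F).map (DRing.toDerivedCompletion I K) ≫ φ) =
      (fun φ => ((DRing.LTensorCx A F).map e.inv ≫ (ltcIso F P).hom) ≫ φ) ∘
      (fun φ : Q.obj (P' ⊗ F) ⟶ E => Q.map (u ▷ F) ≫ φ) ∘
      (fun φ => ((ltcIso F P').inv ≫ (DRing.LTensorCx A F).map e'.hom) ≫ φ) := by
    funext φ
    simp only [Function.comp_apply, Category.assoc]
    rw [hη, Functor.map_comp, Functor.map_comp, Category.assoc, Category.assoc]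
    congr 1
    rw [← reassoc_of% hnat, Iso.hom_inv_id_assoc]
  rw [e2]
  haveI : IsIso ((DRing.LTensorCx A F).map e.inv ≫ (ltcIso F P).hom) := inferInstance
  haveI : IsIso ((ltcIso F P').inv ≫ (DRing.LTensorCx A F).map e'.hom) := inferInstance
  exact (bijective_precomp_of_isIso _ E).comp (hb.comp (bijective_precomp_of_isIso _ E))

end Main

end Groth.Agent.Lib.Helper10.DCTensC
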