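import Mathlib
import Groth.Agent.Lib.Helper10DNakA
import Groth.Agent.Lib.Helper1ProjRes

/-!
# Derived Nakayama, amplitude version (helper10)

For a finitely generated ideal `I` and a derived `I`-complete object `K` of `D(A)`:
`K ∈ D^{≤ 0}` iff `K ⊗^L A/I ∈ D^{≤ 0}` (`main`).

* `exactAt_of_homotopy_zero`: a null-homotopic chain map surjective in degree `n-1` and injective in
  degree `n` has source exact in degree `n`.
* `exactAt_tCx_of_isLE`: `P` K-projective with `P ⊗ A/I ∈ D^{≤0}` gives `P ⊗ N ∈ D^{≤0}` for all modules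
  `N` killed by `I`.
* `leTens_mappingCone`: ascent along cones of `f` (octahedron).
* `isLE_of_isLE_mappingCone`: descent for derived complete objects.
* `isLE_LTensor`: right t-exactness of `- ⊗^L M`.
-/

set_option autoImplicit false
universe u
open CategoryTheory Limits DerivedCategory MonoidalCategory TensorProduct

attribute [local instance] HasDerivedCategory.standard

namespace Groth.Agent.Lib.Helper10.DNakB

open Groth.Agent.Lib.Helper1.LDer Groth.Agent.Lib.Helper10.DNak

variable {A : Type u} [CommRing A]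

section Chase

/-- a null-homotopic chain map which is surjective in degree `n - 1` and injective in degree `n`
has a source which is exact in degree `n`. -/
lemma exactAt_of_homotopy_zero {C D : DRing.Cx A} (g : C ⟶ D) (h : Homotopy g 0) (n : ℤ)
    (hs : Function.Surjective (g.f (n - 1)).hom) (hi : Function.Injective (g.f n).hom) :
    C.ExactAt n := by
  rw [HomologicalComplex.exactAt_iff' C (n - 1) n (n + 1) (by simp) (by simp),
    ShortComplex.moduleCat_exact_iff]
  intro (z : C.X n) (hz : (C.d n (n + 1)).hom z = 0)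
  have hc := h.comm n
  rw [dNext_eq h.hom (show (ComplexShape.up ℤ).Rel n (n + 1) from rfl),
    prevD_eq h.hom (show (ComplexShape.up ℤ).Rel (n - 1) n by simp)] at hc
  obtain ⟨y, hy⟩ := hs ((h.hom n (n - 1)).hom z)
  refine ⟨y, ?_⟩
  change (C.d (n - 1) n).hom y = z
  apply hi
  have h1 : (g.f n).hom ((C.d (n - 1) n).hom y) = (D.d (n - 1) n).hom ((g.f (n - 1)).hom y) := by
    have := congr($(g.comm (n - 1) n).hom y)
    exact this.symm
  rw [h1, hy]
  have h2 := congr($(hc).hom z)
  simp only [ModuleCat.hom_add, ModuleCat.hom_comp, LinearMap.add_apply, LinearMap.comp_apply,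
    HomologicalComplex.zero_f, add_zero] at h2
  rw [h2, hz, map_zero, zero_add]

end Chase

section Base

variable (I : Ideal A) (N : ModuleCat.{u} A) (hN : ∀ a ∈ I, ∀ x : N, a • x = 0)

lemma β_surjective (X : ModuleCat.{u} A) : Function.Surjective (β I X).hom := by
  intro t
  induction t using TensorProduct.induction_on with
  | zero => exact ⟨0, map_zero _⟩
  | tmul x a =>
    obtain ⟨a, rfl⟩ := Ideal.Quotient.mk_surjective a
    refine ⟨a • x, ?_⟩
    rw [β_apply]
    change (a • x) ⊗ₜ[A] (Ideal.Quotient.mk I 1) = x ⊗ₜ[A] (Ideal.Quotient.mk I a)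
    rw [TensorProduct.smul_tmul]
    congr 1
    change Ideal.Quotient.mk I (a • (1 : A)) = _
    rw [smul_eq_mul, mul_one]
  | add t t' ht ht' =>
    obtain ⟨x, rfl⟩ := ht
    obtain ⟨x', rfl⟩ := ht'
    exact ⟨x + x', map_add _ _ _⟩

lemma whiskerRight_surjective {X Y : ModuleCat.{u} A} (g : X ⟶ Y)
    (hg : Function.Surjective g.hom) : Function.Surjective (g ▷ N).hom :=
  LinearMap.rTensor_surjective N hg

include hN in
theorem exactAt_tCx_of_isLE (P : DRing.Cx A) [P.IsKProjective]
    (hP : ((tCx (ModuleCat.of A (A ⧸ I))).obj P).IsLE 0) (n : ℤ) (hn : 0 < n) :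
    ((tCx N).obj P).ExactAt n := by
  obtain ⟨Pb, hPb⟩ : ∃ Pb, Pb = (tCx (ModuleCat.of A (A ⧸ I))).obj P := ⟨_, rfl⟩
  rw [← hPb] at hP
  have hS : (Pb.shortComplexTruncLE 0).ShortExact := Pb.shortComplexTruncLE_shortExact 0
  have hq : QuasiIso (Pb.shortComplexTruncLE 0).f := (Pb.quasiIso_ιTruncLE_iff 0).2 hP
  have hT : (Pb.shortComplexTruncLE 0).X₃.Acyclic := hS.acyclic_X₃ hq
  have hSi := (HomologicalComplex.shortExact_iff_degreewise_shortExact _).1 hS
  obtain ⟨g0, hg0⟩ : ∃ g0 : P ⟶ (Pb.shortComplexTruncLE 0).X₃,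
      g0 = (πc I P ≫ eqToHom hPb.symm) ≫ (Pb.shortComplexTruncLE 0).g := ⟨_, rfl⟩
  have h0 : Homotopy g0 0 := CochainComplex.IsKProjective.homotopyZero g0 hT
  have hG : Homotopy ((tCx N).map g0) 0 :=
    ((tensorRight N).mapHomotopy h0).trans (Homotopy.ofEq (Functor.map_zero _ _ _))
  have hepi : ∀ i, Function.Surjective ((Pb.shortComplexTruncLE 0).g.f i).hom := fun i =>
    (ModuleCat.epi_iff_surjective _).1 (hSi i).epi_g
  subst hPb
  have hgf : ∀ i, g0.f i = β I (P.X i) ≫ ((((tCx (ModuleCat.of A (A ⧸ I))).obj P).shortComplexTruncLE 0).g.f i) := by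
    intro i
    rw [hg0]
    simp only [eqToHom_refl, Category.comp_id]
    rfl
  apply exactAt_of_homotopy_zero _ hG n
  · change Function.Surjective ((g0.f (n - 1)) ▷ N).hom
    apply whiskerRight_surjective
    rw [hgf]
    exact (hepi _).comp (β_surjective I _)
  · change Function.Injective ((g0.f n) ▷ N).hom
    rw [hgf]
    have e := MonoidalCategory.comp_whiskerRight (β I (P.X n))
      ((((tCx (ModuleCat.of A (A ⧸ I))).obj P).shortComplexTruncLE 0).g.f n) N
    rw [e]
    have h1 : Function.Injective ((β I (P.X n)) ▷ N).hom := by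
      have := β_γ I N hN (P.X n)
      intro a b hab
      have h2 := congr($(this).hom a)
      have h3 := congr($(this).hom b)
      simp only [ModuleCat.hom_comp, LinearMap.comp_apply, ModuleCat.hom_id, LinearMap.id_apply] at h2 h3
      rw [← h2, ← h3, hab]
    have hz : IsZero ((((tCx (ModuleCat.of A (A ⧸ I))).obj P).truncLE 0).X n) :=
      CochainComplex.isZero_of_isStrictlyLE _ 0 n hn
    have h2 : IsIso ((((tCx (ModuleCat.of A (A ⧸ I))).obj P).shortComplexTruncLE 0).g.f n) :=
      (hSi n).isIso_g_iff.2 hz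
    have h3 : IsIso (((((tCx (ModuleCat.of A (A ⧸ I))).obj P).shortComplexTruncLE 0).g.f n) ▷ N) :=
      inferInstance
    have h4 := ((ConcreteCategory.isIso_iff_bijective _).1 h3).1
    exact h4.comp h1

end Base

section Step

open Pretriangulated

/-- `X ⊗ N` lies in `D^{≤ 0}` for all modules `N` killed by `J` -/
def LETens (J : Ideal A) (X : DRing.Cx A) : Prop :=
  ∀ N : ModuleCat.{u} A, (∀ a ∈ J, ∀ x : N, a • x = 0) →
    (Q.obj ((tCx N).obj X) : Dual.D A).IsLE 0

theorem leTens_mappingCone (J : Ideal A) (X : DRing.Cx A) (hX : DRing.TermwiseFlat X) (f : A)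
    (h : LETens (J ⊔ Ideal.span {f}) X) :
    LETens J (CochainComplex.mappingCone (f • 𝟙 X)) := by
  intro N hN
  have hK : (Q.obj ((tCx (S₁ N f).X₁).obj X) : Dual.D A).IsLE 0 := by
    apply h
    intro a ha x
    obtain ⟨j, hj, c, hc, rfl⟩ := Submodule.mem_sup.1 ha
    obtain ⟨c', rfl⟩ := Ideal.mem_span_singleton'.1 hc
    apply Subtype.ext
    change (j + c' * f) • (x.1 : N) = 0
    have hx : f • (x.1 : N) = 0 := x.2
    rw [add_smul, mul_smul, hx, smul_zero, add_zero]
    exact hN j hj _
  have hC : (Q.obj ((tCx (S₂ N f).X₃).obj X) : Dual.D A).IsLE 0 := by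
    apply h
    intro a ha x
    obtain ⟨j, hj, c, hc, rfl⟩ := Submodule.mem_sup.1 ha
    obtain ⟨c', rfl⟩ := Ideal.mem_span_singleton'.1 hc
    obtain ⟨y, rfl⟩ := Submodule.mkQ_surjective _ x
    change (j + c' * f) • (LinearMap.range (mulLin N f)).mkQ y = 0
    rw [← map_smul, add_smul, hN j hj, zero_add, Submodule.mkQ_apply,
      Submodule.Quotient.mk_eq_zero]
    exact ⟨c' • y, by rw [mulLin_apply, mul_smul, smul_comm]⟩
  have hT₁ := rot_of_distTriang _
    (triangleOfSES_distinguished (ΨS_shortExact X hX _ (S₁_shortExact N f)))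
  have hT₂ := triangleOfSES_distinguished (ΨS_shortExact X hX _ (S₂_shortExact N f))
  have hT₃ := DerivedCategory.mappingCone_triangle_distinguished ((tCx N).map (f • 𝟙 X))
  have comm : Q.map (Ψmap X (S₁ N f).g) ≫ Q.map (Ψmap X (S₂ N f).f) =
      Q.map ((tCx N).map (f • 𝟙 X)) := by
    rw [tCx_map_smul, Ψmap_smul_eq]
    exact (Q.map_comp _ _).symm
  have oct := Triangulated.someOctahedron comm hT₁ hT₂ hT₃
  have h0 : ((Q.obj ((tCx (S₁ N f).X₁).obj X) : Dual.D A)⟦(1 : ℤ)⟧).IsLE (-1) :=
    DerivedCategory.TStructure.t.isLE_shift _ 0 1 (-1) (by lia)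
  have h1 : ((Q.obj ((tCx (S₁ N f).X₁).obj X) : Dual.D A)⟦(1 : ℤ)⟧).IsLE 0 :=
    DerivedCategory.TStructure.t.isLE_of_le _ (-1) 0 (by lia)
  have h2 : (Q.obj (CochainComplex.mappingCone ((tCx N).map (f • 𝟙 X))) : Dual.D A).IsLE 0 :=
    DerivedCategory.TStructure.t.isLE₂ _ oct.mem 0 h1 hC
  exact DerivedCategory.TStructure.t.isLE_of_iso (Q.mapIso
    (CochainComplex.mappingCone.mapHomologicalComplexIso (f • 𝟙 X) (tensorRight N))).symm 0

end Step

section Descent

open Pretriangulated Groth.Agent.Lib.Helper10.DerComplete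

theorem isLE_of_isLE_mappingCone (I : Ideal A) (Y : DRing.Cx A) (f : A) (hf : f ∈ I)
    (hdc : DRing.IsDerivedComplete I (Q.obj Y))
    (hz : (Q.obj (CochainComplex.mappingCone (f • 𝟙 Y)) : Dual.D A).IsLE 0) :
    (Q.obj Y : Dual.D A).IsLE 0 := by
  rw [DerivedCategory.isLE_iff] at hz ⊢
  intro i hi
  have hT := DerivedCategory.mappingCone_triangle_distinguished (f • 𝟙 Y)
  have hex := (homologyFunctor (ModuleCat.{u} A) i).map_distinguished_exact _ hT
  have hepi : Epi ((homologyFunctor (ModuleCat.{u} A) i).map (Q.map (f • 𝟙 Y))) :=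
    hex.epi_f ((hz i hi).eq_of_tgt _ _)
  have hepi' : Epi (HomologicalComplex.homologyMap (f • 𝟙 Y) i) := by
    have nat := (homologyFunctorFactors (ModuleCat.{u} A) i).hom.naturality (f • 𝟙 Y)
    have h1 : Epi ((homologyFunctorFactors (ModuleCat.{u} A) i).hom.app Y ≫
        (HomologicalComplex.homologyFunctor (ModuleCat.{u} A) (ComplexShape.up ℤ) i).map
          (f • 𝟙 Y)) := by
      rw [← nat]
      exact epi_comp' hepi inferInstance
    exact @epi_of_epi _ _ _ _ _ ((homologyFunctorFactors (ModuleCat.{u} A) i).hom.app Y) _ h1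
  have hcrit := (isDerivedComplete_iff_forall_crit I _).1 hdc f hf
  have hc : Crit f (Y.homology i) := (hcrit i).of_linearEquiv
    ((homologyFunctorFactors (ModuleCat.{u} A) i).app Y).toLinearEquiv
  have hs : Function.Surjective (fun x : Y.homology i => f • x) := by
    intro y
    obtain ⟨x, hx⟩ := (ModuleCat.epi_iff_surjective _).1 hepi' y
    exact ⟨x, by rw [← hx]; exact (smul_homology Y i f x).symm⟩
  have : Subsingleton (Y.homology i) :=
    ⟨fun a b => by rw [hc.eq_zero_of_surjective hs a, hc.eq_zero_of_surjective hs b]⟩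
  exact (ModuleCat.isZero_of_subsingleton (Y.homology i)).of_iso
    ((homologyFunctorFactors (ModuleCat.{u} A) i).app Y)

theorem leTens_coneIter (fs : List A) : ∀ (J : Ideal A) (X : DRing.Cx A),
    DRing.TermwiseFlat X → LETens (J ⊔ Ideal.span {x | x ∈ fs}) X →
      LETens J (coneIter fs X) := by
  induction fs with
  | nil =>
    intro J X _ h
    have : J ⊔ Ideal.span {x | x ∈ ([] : List A)} = J := by simp
    rw [this] at h
    exact h
  | cons f fs ih =>
    intro J X hX h
    apply ih J _ (Groth.Agent.Lib.Helper1.Tor.termwiseFlat_mappingCone _ hX hX)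
    apply leTens_mappingCone _ _ hX
    have : J ⊔ Ideal.span {x | x ∈ fs} ⊔ Ideal.span {f} = J ⊔ Ideal.span {x | x ∈ f :: fs} := by
      rw [sup_assoc, ← Ideal.span_union]
      congr 2
      ext x
      simp
    rw [this]
    exact h

theorem isLE_of_isLE_coneIter (I : Ideal A) (fs : List A) : ∀ (X : DRing.Cx A),
    (∀ f ∈ fs, f ∈ I) → DRing.IsDerivedComplete I (Q.obj X) →
      (Q.obj (coneIter fs X) : Dual.D A).IsLE 0 → (Q.obj X : Dual.D A).IsLE 0 := by
  induction fs with
  | nil => intro X _ _ h; exact h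
  | cons f fs ih =>
    intro X hfs hdc hz
    apply isLE_of_isLE_mappingCone I X f (hfs f (by simp)) hdc
    exact ih _ (fun g hg => hfs g (by simp [hg])) (isDerivedComplete_Q_mappingCone I X f hdc) hz

end Descent

section Main

lemma isLE_zero_iff (K : Dual.D A) :
    K.IsLE 0 ↔ ∀ i : ℤ, 0 < i → Subsingleton (Dual.HD A K i) := by
  rw [DerivedCategory.isLE_iff]
  refine forall₂_congr fun i _ => ?_
  exact ⟨fun h => ModuleCat.subsingleton_of_isZero h, fun h => ModuleCat.isZero_of_subsingleton _⟩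

/-- right t-exactness of `- ⊗^L M` -/
theorem isLE_LTensor (M : ModuleCat.{u} A) [DRing.HasLTensor A M] (K : Dual.D A) [K.IsLE 0] :
    ((DRing.LTensor A M).obj K).IsLE 0 := by
  obtain ⟨P, hP, hproj, ⟨e⟩⟩ := Groth.Agent.Lib.Helper1.ProjRes.exists_iso_Q_proj K 0
  have : P.IsKProjective := CochainComplex.isKProjective_of_projective P 0
  have h1 : ((tCx M).obj P).IsStrictlyLE 0 := by
    rw [CochainComplex.isStrictlyLE_iff]
    intro i hi
    have hz : IsZero (P.X i) := CochainComplex.isZero_of_isStrictlyLE P 0 i hi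
    exact (tensorRight M).map_isZero hz
  have h2 : (Q.obj ((tCx M).obj P) : Dual.D A).IsLE 0 := inferInstance
  exact DerivedCategory.TStructure.t.isLE_of_iso
    ((ltIso M P).symm ≪≫ (DRing.LTensor A M).mapIso e) 0

theorem main (I : Ideal A) (hI : I.FG) [DRing.HasLTensor A (ModuleCat.of A (A ⧸ I))]
    (K : Dual.D A) (hc : DRing.IsDerivedComplete I K) :
    K.IsLE 0 ↔ ((DRing.LTensor A (ModuleCat.of A (A ⧸ I))).obj K).IsLE 0 := by
  classical
  constructor
  · intro h
    exact isLE_LTensor _ K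
  · intro h0
    obtain ⟨P, hP, hproj, ⟨e⟩⟩ := Groth.Agent.Lib.Helper1.DT.exists_kproj_iso K
    have h1 : (Q.obj ((tCx (ModuleCat.of A (A ⧸ I))).obj P) : Dual.D A).IsLE 0 :=
      DerivedCategory.TStructure.t.isLE_of_iso
        ((DRing.LTensor A (ModuleCat.of A (A ⧸ I))).mapIso e.symm ≪≫
          ltIso (ModuleCat.of A (A ⧸ I)) P) 0
    have h1' : ((tCx (ModuleCat.of A (A ⧸ I))).obj P).IsLE 0 :=
      (DerivedCategory.isLE_Q_obj_iff _ _).1 h1
    have hA : LETens I P := fun N hN => by
      rw [DerivedCategory.isLE_Q_obj_iff, CochainComplex.isLE_iff]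
      intro i hi
      exact exactAt_tCx_of_isLE I N hN P h1' i hi
    obtain ⟨s, hs⟩ := hI
    have hflat : DRing.TermwiseFlat P := fun i => by
      have : Module.Projective A (P.X i) := (IsProjective.iff_projective (P.X i)).2 (hproj i)
      infer_instance
    have hspan : Ideal.span {x | x ∈ s.toList} = I := by
      rw [← hs]
      congr 1
      ext x
      simp
    have h2 : LETens ⊥ (coneIter s.toList P) :=
      leTens_coneIter s.toList ⊥ P hflat (by rw [bot_sup_eq, hspan]; exact hA)
    have h3 : (Q.obj (coneIter s.toList P) : Dual.D A).IsLE 0 := by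
      have := h2 (ModuleCat.of A A) (fun a ha x => by
        rw [(Submodule.mem_bot A).1 ha, zero_smul])
      exact DerivedCategory.TStructure.t.isLE_of_iso
        (Q.mapIso ((NatIso.mapHomologicalComplex (rightUnitorNatIso (ModuleCat.{u} A))
          (ComplexShape.up ℤ)).app _ ≪≫ (Functor.mapHomologicalComplexIdIso _ _).app _)) 0
    have h4 : (Q.obj P : Dual.D A).IsLE 0 :=
      isLE_of_isLE_coneIter I s.toList P (fun f hf => by
        rw [← hs]
        exact Ideal.subset_span (by simpa using hf))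
        (isDerivedComplete_of_iso I e.symm hc) h3
    exact DerivedCategory.TStructure.t.isLE_of_iso e 0

end Main

end Groth.Agent.Lib.Helper10.DNakB
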