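import Mathlib

/-!
# Algebra over a ring with a distinguished element `π` with reduced quotient (helper10)

* `exists_idem_of_away`: `π` a nonzerodivisor of `C`, `C ⧸ (π)` reduced: every idempotent of
  `C[1/π]` comes from an idempotent of `C`.
* `exists_smul_nilradical_eq_zero`: `C` Noetherian, `C ⧸ (π)` reduced, no minimal prime contains `π`:
  some `s ≡ 1 mod π` kills the nilradical.
* consequences for `C[1/s]`.
-/

namespace Groth.Agent.Lib.Helper10.DVRAlg

variable {C : Type*} [CommRing C]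

theorem mem_span_of_sq_mem {π : C} [IsReduced (C ⧸ Ideal.span {π})] {b : C} {k : ℕ}
    (h : b ^ k ∈ Ideal.span {π}) : b ∈ Ideal.span {π} := by
  rw [← Ideal.Quotient.eq_zero_iff_mem] at h ⊢
  rw [map_pow] at h
  exact IsReduced.eq_zero _ ⟨k, h⟩

theorem exists_idem_of_away (π : C) (hπ : π ∈ nonZeroDivisors C)
    [IsReduced (C ⧸ Ideal.span {π})] (L : Type*) [CommRing L] [Algebra C L]
    [IsLocalization.Away π L] (e : L) (he : IsIdempotentElem e) :
    ∃ c : C, IsIdempotentElem c ∧ algebraMap C L c = e := by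
  have hinj : Function.Injective (algebraMap C L) :=
    IsLocalization.injective L (M := Submonoid.powers π) (Submonoid.powers_le.2 hπ)
  have hunit : IsUnit (algebraMap C L π) := IsLocalization.Away.algebraMap_isUnit π
  have key : ∀ (n : ℕ) (b : C), e * algebraMap C L π ^ n = algebraMap C L b →
      ∃ c, algebraMap C L c = e := by
    intro n
    induction n with
    | zero => intro b hb; exact ⟨b, by rw [← hb, pow_zero, mul_one]⟩
    | succ n ih =>
      intro b hb
      have h1 : algebraMap C L (b * b) = algebraMap C L (b * π ^ (n + 1)) := by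
        rw [map_mul, map_mul, map_pow, ← hb]
        have : e * algebraMap C L π ^ (n + 1) * (e * algebraMap C L π ^ (n + 1))
            = (e * e) * algebraMap C L π ^ (n + 1) * algebraMap C L π ^ (n + 1) := by ring
        rw [this, he.eq]
      have h2 : b * b = b * π ^ (n + 1) := hinj h1
      have h3 : b ^ 2 ∈ Ideal.span {π} := by
        rw [pow_two, h2, pow_succ, ← mul_assoc]
        exact Ideal.mul_mem_left _ _ (Ideal.subset_span rfl)
      have h4 : b ∈ Ideal.span {π} := mem_span_of_sq_mem h3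
      obtain ⟨b', rfl⟩ := Ideal.mem_span_singleton'.1 h4
      apply ih b'
      have h5 : e * algebraMap C L π ^ n * algebraMap C L π = algebraMap C L b' * algebraMap C L π := by
        rw [← map_mul, ← hb, pow_succ, mul_assoc]
      exact hunit.mul_right_cancel h5
  obtain ⟨n, b, hb⟩ := IsLocalization.Away.surj π e (S := L)
  obtain ⟨c, hc⟩ := key n b hb
  refine ⟨c, ?_, hc⟩
  apply hinj
  rw [map_mul, hc, he.eq]

/-- `π`-torsion elements are nilpotent when no minimal prime contains `π`. -/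
theorem mem_nilradical_of_mul_eq_zero {π : C} (hmin : ∀ p ∈ minimalPrimes C, π ∉ p) {t : C}
    (ht : π * t ∈ nilradical C) : t ∈ nilradical C := by
  rw [nilradical, ← Ideal.sInf_minimalPrimes, Ideal.mem_sInf] at ht ⊢
  intro p hp
  have hp' : p.IsPrime := hp.1.1
  exact (hp'.mem_or_mem (ht hp)).resolve_left (hmin p hp)

section Noeth

variable [IsNoetherianRing C]

theorem exists_smul_nilradical_eq_zero (π : C) [IsReduced (C ⧸ Ideal.span {π})]
    (hmin : ∀ p ∈ minimalPrimes C, π ∉ p) :
    ∃ s : C, s - 1 ∈ Ideal.span {π} ∧ ∀ n ∈ nilradical C, s * n = 0 := by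
  have h1 : nilradical C ≤ Ideal.span {π} := by
    intro n hn
    obtain ⟨k, hk⟩ := hn
    exact mem_span_of_sq_mem (k := k) (by rw [hk]; exact Ideal.zero_mem _)
  have h2 : nilradical C ≤ Ideal.span {π} • nilradical C := by
    intro n hn
    obtain ⟨c, rfl⟩ := Ideal.mem_span_singleton'.1 (h1 hn)
    have hc : c ∈ nilradical C := mem_nilradical_of_mul_eq_zero hmin (by rwa [mul_comm] at hn)
    rw [mul_comm]
    exact Submodule.smul_mem_smul (Ideal.subset_span rfl) hc
  obtain ⟨r, hr1, hr2⟩ := Submodule.exists_sub_one_mem_and_smul_eq_zero_of_fg_of_le_smul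
    (Ideal.span {π}) (nilradical C) (IsNoetherian.noetherian _) h2
  exact ⟨r, hr1, fun n hn => hr2 n hn⟩

end Noeth

section Away

variable {π : C} (s : C) (C' : Type*) [CommRing C'] [Algebra C C'] [IsLocalization.Away s C']

/-- If `s` kills the nilradical of `C` then `C[1/s]` is reduced. -/
theorem isReduced_away (hs : ∀ n ∈ nilradical C, s * n = 0) : IsReduced C' := by
  refine ⟨fun y hy => ?_⟩
  obtain ⟨k, x, hx⟩ := IsLocalization.Away.surj s y (S := C')
  obtain ⟨j, hj⟩ := hy
  have hsu : IsUnit (algebraMap C C' s) := IsLocalization.Away.algebraMap_isUnit s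
  have h1 : algebraMap C C' (x ^ j) = algebraMap C C' 0 := by
    rw [map_pow, ← hx, mul_pow, hj, zero_mul, map_zero]
  obtain ⟨m, hm⟩ := IsLocalization.Away.exists_of_eq s (S := C') h1
  rw [mul_zero] at hm
  have h2 : s * x ∈ nilradical C := by
    rw [mem_nilradical]
    refine ⟨m + j, ?_⟩
    have : (s * x) ^ (m + j) = (s ^ m * x ^ j) * (s ^ j * x ^ m) := by ring
    rw [this, hm, zero_mul]
  have h3 : s * (s * x) = 0 := hs _ h2
  have h4 : (algebraMap C C' s * algebraMap C C' s) * algebraMap C C' x = 0 := by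
    rw [← map_mul, ← map_mul, mul_assoc, h3, map_zero]
  have h5 : algebraMap C C' x = 0 := (hsu.mul hsu).mul_right_eq_zero.1 h4
  have h6 : y * algebraMap C C' s ^ k = 0 := by rw [hx, h5]
  exact (hsu.pow k).mul_left_eq_zero.1 h6

/-- If `s` kills the nilradical and `π`-torsion is nilpotent, `π` is a nonzerodivisor of `C[1/s]`. -/
theorem algebraMap_mem_nonZeroDivisors_away (hs : ∀ n ∈ nilradical C, s * n = 0)
    (htors : ∀ t : C, π * t ∈ nilradical C → t ∈ nilradical C) :
    algebraMap C C' π ∈ nonZeroDivisors C' := by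
  rw [mem_nonZeroDivisors_iff_right]
  intro y hy
  obtain ⟨k, x, hx⟩ := IsLocalization.Away.surj s y (S := C')
  have hsu : IsUnit (algebraMap C C' s) := IsLocalization.Away.algebraMap_isUnit s
  have h1 : algebraMap C C' (x * π) = algebraMap C C' 0 := by
    rw [map_mul, ← hx, map_zero]
    have : y * algebraMap C C' s ^ k * algebraMap C C' π
        = (y * algebraMap C C' π) * algebraMap C C' s ^ k := by ring
    rw [this, hy, zero_mul]
  obtain ⟨m, hm⟩ := IsLocalization.Away.exists_of_eq s (S := C') h1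
  rw [mul_zero] at hm
  have h2 : s ^ m * x ∈ nilradical C := by
    apply htors
    have : π * (s ^ m * x) = s ^ m * (x * π) := by ring
    rw [this, hm]
    exact Ideal.zero_mem _
  have h3 : s * (s ^ m * x) = 0 := hs _ h2
  have h4 : (algebraMap C C' s * algebraMap C C' s ^ m) * algebraMap C C' x = 0 := by
    rw [← map_pow, ← map_mul, ← map_mul, mul_assoc, h3, map_zero]
  have h5 : algebraMap C C' x = 0 := (hsu.mul (hsu.pow m)).mul_right_eq_zero.1 h4
  have h6 : y * algebraMap C C' s ^ k = 0 := by rw [hx, h5]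
  exact (hsu.pow k).mul_left_eq_zero.1 h6

include s in
/-- `C ⧸ π` reduced implies `C[1/s] ⧸ π` reduced. -/
theorem isReduced_quotient_away [IsReduced (C ⧸ Ideal.span {π})] :
    IsReduced (C' ⧸ Ideal.span {algebraMap C C' π}) := by
  refine ⟨fun z hz => ?_⟩
  obtain ⟨y, rfl⟩ := Ideal.Quotient.mk_surjective z
  obtain ⟨j, hj⟩ := hz
  rw [← map_pow, Ideal.Quotient.eq_zero_iff_mem, Ideal.mem_span_singleton'] at hj
  obtain ⟨w, hw⟩ := hj
  rw [Ideal.Quotient.eq_zero_iff_mem]
  obtain ⟨k, x, hx⟩ := IsLocalization.Away.surj s y (S := C')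
  obtain ⟨l, v, hv⟩ := IsLocalization.Away.surj s w (S := C')
  have hsu : IsUnit (algebraMap C C' s) := IsLocalization.Away.algebraMap_isUnit s
  -- x^j * s^l = v * π * s^(k j) in C'
  have h1 : algebraMap C C' (x ^ j * s ^ l) = algebraMap C C' (v * π * s ^ (k * j)) := by
    simp only [map_mul, map_pow]
    rw [← hx, ← hv, mul_pow, ← hw, ← pow_mul]
    ring
  obtain ⟨m, hm⟩ := IsLocalization.Away.exists_of_eq s (S := C') h1
  -- (s^(m+l) x)^j ∈ (π)
  have h2 : (s ^ (m + l) * x) ^ (j + 1) ∈ Ideal.span {π} := by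
    have : (s ^ (m + l) * x) ^ (j + 1)
        = (s ^ m * (x ^ j * s ^ l)) * (s ^ ((m + l) * j) * x) := by
      ring
    rw [this, hm]
    have : s ^ m * (v * π * s ^ (k * j)) * (s ^ ((m + l) * j) * x)
        = (s ^ m * v * s ^ (k * j) * (s ^ ((m + l) * j) * x)) * π := by ring
    rw [this]
    exact Ideal.mul_mem_left _ _ (Ideal.subset_span rfl)
  have h3 : s ^ (m + l) * x ∈ Ideal.span {π} := mem_span_of_sq_mem h2
  obtain ⟨u, hu⟩ := Ideal.mem_span_singleton'.1 h3
  -- y = (s^(m+l) x) / s^(m+l+k)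
  have hsu' : IsUnit (algebraMap C C' s ^ (m + l + k)) := hsu.pow _
  obtain ⟨d, hd⟩ := hsu'
  rw [Ideal.mem_span_singleton']
  refine ⟨algebraMap C C' u * (d⁻¹ : C'ˣ), ?_⟩
  have h4 : y * (d : C') = algebraMap C C' u * algebraMap C C' π := by
    rw [hd, ← map_mul, hu, map_mul, map_pow, ← hx, pow_add]
    ring
  calc algebraMap C C' u * (d⁻¹ : C'ˣ) * algebraMap C C' π
      = (algebraMap C C' u * algebraMap C C' π) * (d⁻¹ : C'ˣ) := by ring
    _ = y * (d : C') * (d⁻¹ : C'ˣ) := by rw [h4]
    _ = y := by rw [mul_assoc, Units.mul_inv, mul_one]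

end Away

section Fiber

open TensorProduct

variable {A C : Type*} [CommRing A] [CommRing C] [Algebra A C]

theorem mem_span_of_one_tmul_eq_zero (p : Ideal A) [p.IsMaximal] (π : A) (hp : p = Ideal.span {π})
    (c : C) (hc : (1 : p.ResidueField) ⊗ₜ[A] c = 0) : c ∈ Ideal.span {algebraMap A C π} := by
  let ε : (A ⧸ p) ≃ₗ[A] p.ResidueField :=
    LinearEquiv.ofBijective (Algebra.linearMap (A ⧸ p) p.ResidueField |>.restrictScalars A)
      p.bijective_algebraMap_quotient_residueField
  let Θ : p.ResidueField ⊗[A] C ≃ₗ[A] C ⧸ (p • ⊤ : Submodule A C) :=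
    (LinearEquiv.rTensor C ε.symm).trans (TensorProduct.quotTensorEquivQuotSMul C p)
  have h1 : ε.symm 1 = 1 := by
    rw [LinearEquiv.symm_apply_eq]
    show (1 : p.ResidueField) = algebraMap (A ⧸ p) p.ResidueField 1
    rw [map_one]
  have h2 : Θ ((1 : p.ResidueField) ⊗ₜ[A] c) = Submodule.Quotient.mk c := by
    show TensorProduct.quotTensorEquivQuotSMul C p ((LinearEquiv.rTensor C ε.symm) (1 ⊗ₜ c)) = _
    rw [LinearEquiv.rTensor_tmul, h1]
    have : (1 : A ⧸ p) = Ideal.Quotient.mk p 1 := rfl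
    rw [this, TensorProduct.quotTensorEquivQuotSMul_mk_tmul, one_smul]
  rw [hc, map_zero] at h2
  have h3 : c ∈ (p • ⊤ : Submodule A C) := (Submodule.Quotient.mk_eq_zero _).1 h2.symm
  rw [hp] at h3
  refine Submodule.smul_induction_on h3 ?_ ?_
  · intro r hr m _
    obtain ⟨a, rfl⟩ := Ideal.mem_span_singleton'.1 hr
    rw [Algebra.smul_def, map_mul, mul_assoc, mul_comm (algebraMap A C π), ← mul_assoc]
    exact Ideal.mul_mem_left _ _ (Ideal.subset_span rfl)
  · intro x y hx hy
    exact Ideal.add_mem _ hx hy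

theorem isReduced_quotient_of_fiber (p : Ideal A) [p.IsMaximal] (π : A) (hp : p = Ideal.span {π})
    [IsReduced (p.Fiber C)] : IsReduced (C ⧸ Ideal.span {algebraMap A C π}) := by
  have hπ : algebraMap A p.ResidueField π = 0 := by
    have : π ∈ p := hp ▸ Ideal.subset_span rfl
    rw [IsScalarTower.algebraMap_apply A (A ⧸ p) p.ResidueField]
    have h0 : algebraMap A (A ⧸ p) π = 0 := Ideal.Quotient.eq_zero_iff_mem.2 this
    rw [h0, map_zero]
  let ι : C →+* p.Fiber C := (Algebra.TensorProduct.includeRight : C →ₐ[A] p.ResidueField ⊗[A] C)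
  have hι : ∀ x ∈ Ideal.span {algebraMap A C π}, ι x = 0 := by
    intro x hx
    obtain ⟨d, rfl⟩ := Ideal.mem_span_singleton'.1 hx
    show (1 : p.ResidueField) ⊗ₜ[A] (d * algebraMap A C π) = 0
    rw [mul_comm, ← Algebra.smul_def, TensorProduct.tmul_smul, TensorProduct.smul_tmul',
      Algebra.smul_def, mul_one, hπ, TensorProduct.zero_tmul]
  let ψ : C ⧸ Ideal.span {algebraMap A C π} →+* p.Fiber C := Ideal.Quotient.lift _ ι hι
  have hψ : Function.Injective ψ := by
    rw [injective_iff_map_eq_zero]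
    intro z hz
    obtain ⟨c, rfl⟩ := Ideal.Quotient.mk_surjective z
    rw [Ideal.Quotient.eq_zero_iff_mem]
    exact mem_span_of_one_tmul_eq_zero p π hp c hz
  exact isReduced_of_injective ψ hψ
end Fiber

end Groth.Agent.Lib.Helper10.DVRAlg
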