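import Mathlib
import Groth.Agent.Lib.Helper10DVRAlg

/-!
# Connectedness of the locus `g ≠ 0` when `g` is a nonzerodivisor with reduced zero locus (helper10)
-/

namespace Groth.Agent.Lib.Helper10.DVRFibre

open AlgebraicGeometry CategoryTheory TopologicalSpace Opposite

universe u

variable {X : Scheme.{u}}

/-- Affine-local separation: `U` affine, `gU ∈ Γ(U)` a nonzerodivisor with `Γ(U)/gU` reduced. If the
basic open `D(gU)` is the disjoint union of opens `W₁`, `W₂`, no point of `U` lies in both closures. -/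
theorem not_mem_closure_both {U : X.Opens} (hU : IsAffineOpen U) (gU : Γ(X, U))
    (hnzd : gU ∈ nonZeroDivisors Γ(X, U)) [IsReduced (Γ(X, U) ⧸ Ideal.span {gU})]
    (W₁ W₂ : X.Opens) (hW : W₁ ⊔ W₂ = X.basicOpen gU) (hdisj : W₁ ⊓ W₂ = ⊥)
    (x : X) (hxU : x ∈ U) (h1 : x ∈ closure (W₁ : Set X)) (h2 : x ∈ closure (W₂ : Set X)) :
    False := by
  have hle : W₁ ⊔ W₂ ≤ U := hW ▸ X.basicOpen_le gU
  haveI : Subsingleton Γ(X, W₁ ⊓ W₂) := by rw [hdisj]; infer_instance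
  -- the idempotent on W₁ ⊔ W₂
  let p : (CommRingCat.of <| RingHom.eqLocus
      (RingHom.comp (X.sheaf.obj.map (homOfLE inf_le_left : W₁ ⊓ W₂ ⟶ W₁).op).hom
        (RingHom.fst (X.sheaf.obj.obj <| op W₁) (X.sheaf.obj.obj <| op W₂)))
      (RingHom.comp (X.sheaf.obj.map (homOfLE inf_le_right : W₁ ⊓ W₂ ⟶ W₂).op).hom
        (RingHom.snd (X.sheaf.obj.obj <| op W₁) (X.sheaf.obj.obj <| op W₂)))) :=
    ⟨(1, 0), Subsingleton.elim (α := Γ(X, W₁ ⊓ W₂)) _ _⟩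
  let e : Γ(X, W₁ ⊔ W₂) := (X.sheaf.objSupIsoProdEqLocus W₁ W₂).inv p
  have he1 : X.presheaf.map (homOfLE (le_sup_left : W₁ ≤ W₁ ⊔ W₂)).op e = 1 :=
    TopCat.Sheaf.objSupIsoProdEqLocus_inv_fst X.sheaf W₁ W₂ p
  have he2 : X.presheaf.map (homOfLE (le_sup_right : W₂ ≤ W₁ ⊔ W₂)).op e = 0 :=
    TopCat.Sheaf.objSupIsoProdEqLocus_inv_snd X.sheaf W₁ W₂ p
  have hpp : p * p = p := by
    apply Subtype.ext
    apply Prod.ext
    · show (1 : Γ(X, W₁)) * 1 = 1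
      rw [mul_one]
    · show (0 : Γ(X, W₂)) * 0 = 0
      rw [mul_zero]
  have hee : IsIdempotentElem e := by
    show e * e = e
    have : e * e = (X.sheaf.objSupIsoProdEqLocus W₁ W₂).inv (p * p) :=
      (map_mul (X.sheaf.objSupIsoProdEqLocus W₁ W₂).inv.hom p p).symm
    rw [this, hpp]
  letI : Algebra Γ(X, U) Γ(X, W₁ ⊔ W₂) := (X.presheaf.map (homOfLE hle).op).hom.toAlgebra
  haveI : IsLocalization.Away gU Γ(X, W₁ ⊔ W₂) :=
    hU.isLocalization_of_eq_basicOpen gU (homOfLE hle) hW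
  obtain ⟨c, hc, hce⟩ := Groth.Agent.Lib.Helper10.DVRAlg.exists_idem_of_away gU hnzd
    Γ(X, W₁ ⊔ W₂) e hee
  have hce' : X.presheaf.map (homOfLE hle).op c = e := hce
  have hc1 : X.presheaf.map (homOfLE (le_sup_left.trans hle : W₁ ≤ U)).op c = 1 := by
    rw [← he1, ← hce', ← CommRingCat.comp_apply, ← Functor.map_comp]
    rfl
  have hc2 : X.presheaf.map (homOfLE (le_sup_right.trans hle : W₂ ≤ U)).op c = 0 := by
    rw [← he2, ← hce', ← CommRingCat.comp_apply, ← Functor.map_comp]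
    rfl
  have hW1 : W₁ ≤ X.basicOpen c := by
    have := X.basicOpen_res c (homOfLE (le_sup_left.trans hle : W₁ ≤ U)).op
    rw [hc1, X.basicOpen_of_isUnit isUnit_one] at this
    exact this ▸ inf_le_right
  have hW2 : W₂ ≤ X.basicOpen (1 - c) := by
    have := X.basicOpen_res (1 - c) (homOfLE (le_sup_right.trans hle : W₂ ≤ U)).op
    rw [map_sub, hc2, map_one, sub_zero, X.basicOpen_of_isUnit isUnit_one] at this
    exact this ▸ inf_le_right
  have hbot : X.basicOpen c ⊓ X.basicOpen (1 - c) = ⊥ := by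
    rw [← X.basicOpen_mul]
    have : c * (1 - c) = 0 := by rw [mul_sub, mul_one, hc.eq, sub_self]
    rw [this, X.basicOpen_zero]
  have hx : x ∈ X.basicOpen c ∨ x ∈ X.basicOpen (1 - c) := by
    rw [X.mem_basicOpen c x hxU, X.mem_basicOpen (1 - c) x hxU]
    apply IsLocalRing.isUnit_or_isUnit_of_add_one
    rw [← map_add, add_sub_cancel, map_one]
  rcases hx with hx | hx
  · obtain ⟨y, hy1, hy2⟩ := mem_closure_iff.1 h2 _ (X.basicOpen c).2 hx
    have : y ∈ X.basicOpen c ⊓ X.basicOpen (1 - c) := ⟨hy1, hW2 hy2⟩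
    rw [hbot] at this
    exact this
  · obtain ⟨y, hy1, hy2⟩ := mem_closure_iff.1 h1 _ (X.basicOpen (1 - c)).2 hx
    have : y ∈ X.basicOpen c ⊓ X.basicOpen (1 - c) := ⟨hW1 hy2, hy1⟩
    rw [hbot] at this
    exact this

/-- Main connectedness criterion. -/
theorem isPreconnected_basicOpen [PreconnectedSpace X] (g : Γ(X, ⊤))
    (hdense : ∀ x : X, ∃ x' ∈ X.basicOpen g, x' ⤳ x)
    (haff : ∀ x : X, x ∉ X.basicOpen g → ∃ U : X.Opens, IsAffineOpen U ∧ x ∈ U ∧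
      X.presheaf.map (homOfLE (le_top : U ≤ ⊤)).op g ∈ nonZeroDivisors Γ(X, U) ∧
      IsReduced (Γ(X, U) ⧸ Ideal.span {X.presheaf.map (homOfLE (le_top : U ≤ ⊤)).op g})) :
    _root_.IsPreconnected (X.basicOpen g : Set X) := by
  intro u v hu hv huv ⟨a, haG, hau⟩ ⟨b, hbG, hbv⟩
  by_contra hcon
  set G : X.Opens := X.basicOpen g with hG
  let Z₁ : X.Opens := G ⊓ ⟨u, hu⟩
  let Z₂ : X.Opens := G ⊓ ⟨v, hv⟩
  have hdisj : Z₁ ⊓ Z₂ = ⊥ := by
    ext z
    simp only [Opens.coe_inf, Opens.coe_bot, Set.mem_inter_iff, SetLike.mem_coe,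
      Set.mem_empty_iff_false, iff_false]
    rintro ⟨⟨hz1, hz2⟩, ⟨-, hz3⟩⟩
    exact hcon ⟨z, hz1, hz2, hz3⟩
  have hcov : Z₁ ⊔ Z₂ = G := by
    ext z
    simp only [Opens.coe_sup, Opens.coe_inf, Set.mem_union, Set.mem_inter_iff, SetLike.mem_coe]
    constructor
    · rintro (⟨h, -⟩ | ⟨h, -⟩) <;> exact h
    · intro hz
      rcases huv hz with h | h
      · exact Or.inl ⟨hz, h⟩
      · exact Or.inr ⟨hz, h⟩
  have hcl : ∀ x : X, x ∈ closure (Z₁ : Set X) ∨ x ∈ closure (Z₂ : Set X) := by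
    intro x
    obtain ⟨x', hx'G, hsp⟩ := hdense x
    have hx' : x' ∈ Z₁ ⊔ Z₂ := hcov ▸ hx'G
    rcases hx' with h | h
    · exact Or.inl (closure_mono (Set.singleton_subset_iff.2 h) hsp.mem_closure)
    · exact Or.inr (closure_mono (Set.singleton_subset_iff.2 h) hsp.mem_closure)
  have hdj : ∀ x : X, x ∈ closure (Z₁ : Set X) → x ∈ closure (Z₂ : Set X) → False := by
    intro x h1 h2
    by_cases hxG : x ∈ G
    · have hx' : x ∈ Z₁ ⊔ Z₂ := hcov ▸ hxG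
      rcases hx' with h | h
      · obtain ⟨y, hy1, hy2⟩ := mem_closure_iff.1 h2 _ Z₁.2 h
        have : y ∈ Z₁ ⊓ Z₂ := ⟨hy1, hy2⟩
        rw [hdisj] at this
        exact this
      · obtain ⟨y, hy1, hy2⟩ := mem_closure_iff.1 h1 _ Z₂.2 h
        have : y ∈ Z₁ ⊓ Z₂ := ⟨hy2, hy1⟩
        rw [hdisj] at this
        exact this
    · obtain ⟨U, hU, hxU, hnzd, hred⟩ := haff x hxG
      haveI := hred
      refine not_mem_closure_both hU _ hnzd (U ⊓ Z₁) (U ⊓ Z₂) ?_ ?_ x hxU ?_ ?_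
      · rw [← inf_sup_left, hcov, X.basicOpen_res]
      · rw [inf_inf_inf_comm, hdisj, inf_bot_eq]
      · rw [mem_closure_iff]
        intro o ho hxo
        obtain ⟨y, ⟨hy1, hy2⟩, hy3⟩ := mem_closure_iff.1 h1 (o ∩ U) (ho.inter U.2) ⟨hxo, hxU⟩
        exact ⟨y, hy1, hy2, hy3⟩
      · rw [mem_closure_iff]
        intro o ho hxo
        obtain ⟨y, ⟨hy1, hy2⟩, hy3⟩ := mem_closure_iff.1 h2 (o ∩ U) (ho.inter U.2) ⟨hxo, hxU⟩
        exact ⟨y, hy1, hy2, hy3⟩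
  have := isPreconnected_closed_iff.1 (isPreconnected_univ (α := X)) _ _
    (isClosed_closure (s := (Z₁ : Set X))) (isClosed_closure (s := (Z₂ : Set X)))
    (fun x _ => hcl x) ⟨a, trivial, subset_closure ⟨haG, hau⟩⟩ ⟨b, trivial, subset_closure ⟨hbG, hbv⟩⟩
  obtain ⟨z, -, hz1, hz2⟩ := this
  exact hdj z hz1 hz2

end Groth.Agent.Lib.Helper10.DVRFibre
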