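import Mathlib
import Groth.Agent.Lib.Helper10DVRAlg

/-!
# Fibres of `f : X ⟶ Spec A` over affine opens of `X` (helper10)

`phi f U : A →+* Γ(X, U)`; if the fibre `f.fiber y` is reduced and `y` is the closed point of a
principal maximal ideal `(π)`, then `Γ(X, U) ⧸ (phi f U π)` is reduced for every affine open `U`.
-/

namespace Groth.Agent.Lib.Helper10.DVRFibre

open AlgebraicGeometry CategoryTheory CategoryTheory.Limits TopologicalSpace Opposite

universe u

variable {A : Type u} [CommRing A] {X : Scheme.{u}} (f : X ⟶ Spec (CommRingCat.of A))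

/-- The ring map `A → Γ(X, U)` induced by `f : X ⟶ Spec A`. -/
noncomputable def phi (U : X.Opens) : A →+* Γ(X, U) :=
  (f.appLE ⊤ U le_top).hom.comp (Scheme.ΓSpecIso (CommRingCat.of A)).inv.hom

theorem phi_apply (U : X.Opens) (r : A) :
    phi f U r = X.presheaf.map (homOfLE (le_top : U ≤ ⊤)).op
      (f.appTop ((Scheme.ΓSpecIso (CommRingCat.of A)).inv r)) := rfl

theorem fromSpec_comp {U : X.Opens} (hU : IsAffineOpen U) :
    hU.fromSpec ≫ f = Spec.map (CommRingCat.ofHom (phi f U)) := by
  rw [← (isAffineOpen_top (Spec (CommRingCat.of A))).SpecMap_appLE_fromSpec f hU le_top,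
    IsAffineOpen.fromSpec_top, Scheme.isoSpec_Spec_inv, ← Spec.map_comp]
  rfl

theorem isReduced_fiber_fromSpec {U : X.Opens} (hU : IsAffineOpen U)
    (y : Spec (CommRingCat.of A)) [IsReduced (f.fiber y)] :
    IsReduced ((hU.fromSpec ≫ f).fiber y) := by
  let g := (Spec (CommRingCat.of A)).fromSpecResidueField y
  let e : pullback hU.fromSpec (pullback.fst f g) ≅ pullback (hU.fromSpec ≫ f) g :=
    pullbackRightPullbackFstIso f g hU.fromSpec
  haveI : IsReduced (pullback f g) := ‹IsReduced (f.fiber y)›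
  haveI : IsReduced (pullback hU.fromSpec (pullback.fst f g)) :=
    isReduced_of_isOpenImmersion (pullback.snd hU.fromSpec (pullback.fst f g))
  exact isReduced_of_isOpenImmersion e.inv

theorem isReduced_fiber_ring (C : Type u) [CommRing C] [Algebra A C]
    (y : PrimeSpectrum A)
    [IsReduced ((Spec.map (CommRingCat.ofHom (algebraMap A C))).fiber y)] :
    _root_.IsReduced (y.asIdeal.Fiber C) := by
  let e := Spec.fiberToSpecResidueFieldIso A C y
  let e' := Arrow.leftFunc.mapIso e
  have hsrc : IsReduced ((Spec.map (CommRingCat.ofHom (algebraMap A C))).fiber y) := inferInstance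
  haveI : IsReduced (Spec (CommRingCat.of (y.asIdeal.Fiber C))) :=
    @isReduced_of_isOpenImmersion _ _ e'.inv inferInstance hsrc
  exact (affine_isReduced_iff (CommRingCat.of (y.asIdeal.Fiber C))).1 inferInstance

theorem isReduced_quotient_of_isReduced_fiber (y : PrimeSpectrum A) [y.asIdeal.IsMaximal] (π : A)
    (hy : y.asIdeal = Ideal.span {π}) [IsReduced (f.fiber y)] {U : X.Opens} (hU : IsAffineOpen U) :
    _root_.IsReduced (Γ(X, U) ⧸ Ideal.span {phi f U π}) := by
  letI : Algebra A Γ(X, U) := (phi f U).toAlgebra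
  haveI h1 : IsReduced ((hU.fromSpec ≫ f).fiber y) := isReduced_fiber_fromSpec f hU y
  rw [fromSpec_comp] at h1
  haveI : _root_.IsReduced (y.asIdeal.Fiber Γ(X, U)) := isReduced_fiber_ring Γ(X, U) y
  exact Groth.Agent.Lib.Helper10.DVRAlg.isReduced_quotient_of_fiber y.asIdeal π hy

end Groth.Agent.Lib.Helper10.DVRFibre
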