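import Mathlib
import Groth.Agent.Lib.Helper10DVRFibre
import Groth.Agent.Lib.Helper10DVRFibre2

/-!
# Schemes over a discrete valuation ring: connectedness of the generic fibre (helper10)
-/

namespace Groth.Agent.Lib.Helper10.DVRFibre

open AlgebraicGeometry CategoryTheory CategoryTheory.Limits TopologicalSpace Opposite

universe u

variable {R : Type u} [CommRing R] [IsDomain R] [IsDiscreteValuationRing R]

/-- the generic point of `Spec R` -/
abbrev genPt (R : Type u) [CommRing R] [IsDomain R] : PrimeSpectrum R := ⟨⊥, Ideal.isPrime_bot⟩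

omit [IsDiscreteValuationRing R] in
theorem genPt_specializes (z : PrimeSpectrum R) : genPt R ⤳ z := by
  rw [← PrimeSpectrum.le_iff_specializes]
  exact bot_le (a := z.asIdeal)

theorem eq_genPt_or_closedPoint (z : PrimeSpectrum R) :
    z = genPt R ∨ z = IsLocalRing.closedPoint R := by
  by_cases h : z.asIdeal = ⊥
  · left; exact PrimeSpectrum.ext h
  · right
    have : z.asIdeal.IsMaximal := z.isPrime.isMaximal h
    exact PrimeSpectrum.ext (IsLocalRing.eq_maximalIdeal this)

theorem mem_basicOpen_iff_eq_genPt {π : R} (hπ : Irreducible π) (z : PrimeSpectrum R) :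
    z ∈ PrimeSpectrum.basicOpen π ↔ z = genPt R := by
  rw [PrimeSpectrum.mem_basicOpen]
  constructor
  · intro h
    rcases eq_genPt_or_closedPoint z with h1 | h1
    · exact h1
    · exfalso
      apply h
      rw [h1]
      show π ∈ IsLocalRing.maximalIdeal R
      rw [hπ.maximalIdeal_eq]
      exact Ideal.subset_span rfl
  · rintro rfl
    show π ∉ (⊥ : Ideal R)
    rw [Ideal.mem_bot]
    exact hπ.ne_zero

variable {X : Scheme.{u}} (f : X ⟶ Spec (CommRingCat.of R))

/-- The global function `f^♯ π`. -/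
noncomputable def gOf (π : R) : Γ(X, ⊤) :=
  f.appTop ((Scheme.ΓSpecIso (CommRingCat.of R)).inv π)

theorem coe_basicOpen_gOf {π : R} (hπ : Irreducible π) :
    (X.basicOpen (gOf f π) : Set X) = f ⁻¹' {genPt R} := by
  have h1 : X.basicOpen (gOf f π) = f ⁻¹ᵁ ((Spec (CommRingCat.of R)).basicOpen
      ((Scheme.ΓSpecIso (CommRingCat.of R)).inv π)) :=
    (Scheme.preimage_basicOpen f _).symm
  have h2 : (Spec (CommRingCat.of R)).basicOpen ((Scheme.ΓSpecIso (CommRingCat.of R)).inv π)
      = PrimeSpectrum.basicOpen π := basicOpen_eq_of_affine (R := CommRingCat.of R) π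
  rw [h1, h2]
  ext x
  exact mem_basicOpen_iff_eq_genPt hπ (f x)

theorem map_gOf {π : R} (U : X.Opens) :
    X.presheaf.map (homOfLE (le_top : U ≤ ⊤)).op (gOf f π) = phi f U π := rfl

/-- Main theorem over a DVR. -/
theorem isPreconnected_preimage_genPt [PreconnectedSpace X] {π : R} (hπ : Irreducible π)
    (hgen : GeneralizingMap f)
    (haff : ∀ x : X, f x ≠ genPt R → ∃ U : X.Opens, IsAffineOpen U ∧ x ∈ U ∧
      phi f U π ∈ nonZeroDivisors Γ(X, U) ∧ _root_.IsReduced (Γ(X, U) ⧸ Ideal.span {phi f U π})) :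
    _root_.IsPreconnected (f ⁻¹' {genPt R}) := by
  rw [← coe_basicOpen_gOf f hπ]
  apply isPreconnected_basicOpen
  · intro x
    obtain ⟨x', hx', hfx'⟩ := hgen (genPt_specializes (f x))
    refine ⟨x', ?_, hx'⟩
    have : x' ∈ (X.basicOpen (gOf f π) : Set X) := by
      rw [coe_basicOpen_gOf f hπ]
      exact hfx'
    exact this
  · intro x hx
    have hx' : f x ≠ genPt R := by
      intro h
      apply hx
      have : x ∈ (X.basicOpen (gOf f π) : Set X) := by
        rw [coe_basicOpen_gOf f hπ]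
        exact h
      exact this
    obtain ⟨U, hU, hxU, h1, h2⟩ := haff x hx'
    exact ⟨U, hU, hxU, h1, h2⟩

/-- transport to the scheme-theoretic fibre -/
theorem preconnectedSpace_fiber_of_isPreconnected (y : Spec (CommRingCat.of R))
    (h : _root_.IsPreconnected (f ⁻¹' {y})) : PreconnectedSpace (f.fiber y) := by
  haveI : PreconnectedSpace (f ⁻¹' {y}) := isPreconnected_iff_preconnectedSpace.1 h
  refine ⟨?_⟩
  have := (isPreconnected_univ (α := f ⁻¹' {y})).image (f.fiberHomeo y).symm
    (f.fiberHomeo y).symm.continuous.continuousOn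
  rwa [Set.image_univ, (f.fiberHomeo y).symm.surjective.range_eq] at this

end Groth.Agent.Lib.Helper10.DVRFibre

namespace Groth.Agent.Lib.Helper10.DVRFibre

open AlgebraicGeometry CategoryTheory CategoryTheory.Limits TopologicalSpace Opposite

universe u

variable {R : Type u} [CommRing R] [IsDomain R] {X : Scheme.{u}}
  (f : X ⟶ Spec (CommRingCat.of R))

/-- flatness of `phi` -/
theorem phi_flat [Flat f] {U : X.Opens} (hU : IsAffineOpen U) : (phi f U).Flat := by
  have h1 : (f.appLE ⊤ U le_top).hom.Flat :=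
    HasRingHomProperty.appLE (P := @Flat) f inferInstance ⟨⊤, isAffineOpen_top _⟩ ⟨U, hU⟩ le_top
  have h2 : (Scheme.ΓSpecIso (CommRingCat.of R)).inv.hom.Flat :=
    RingHom.Flat.of_bijective
      (ConcreteCategory.bijective_of_isIso (Scheme.ΓSpecIso (CommRingCat.of R)).inv)
  exact RingHom.Flat.comp h2 h1

theorem phi_mem_nonZeroDivisors [Flat f] {U : X.Opens} (hU : IsAffineOpen U) {π : R} (hπ : π ≠ 0) :
    phi f U π ∈ nonZeroDivisors Γ(X, U) := by
  letI : Algebra R Γ(X, U) := (phi f U).toAlgebra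
  haveI : Module.Flat R Γ(X, U) := phi_flat f hU
  have h := Module.Flat.isSMulRegular_of_nonZeroDivisors (M := Γ(X, U))
    (mem_nonZeroDivisors_of_ne_zero hπ)
  rw [mem_nonZeroDivisors_iff_left]
  intro x hx
  apply h
  show π • x = π • 0
  rw [smul_zero, Algebra.smul_def]
  exact hx

theorem exists_affineOpen_mem (x : X) : ∃ U : X.Opens, IsAffineOpen U ∧ x ∈ U := by
  obtain ⟨_, ⟨U, hU, rfl⟩, hxU, -⟩ :=
    X.isBasis_affineOpens.exists_subset_of_mem_open (Set.mem_univ x) isOpen_univ
  exact ⟨U, hU, hxU⟩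

end Groth.Agent.Lib.Helper10.DVRFibre
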