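import Mathlib
import Groth.Agent.Lib.Helper10DVRFibre3

/-!
# Schemes over a DVR, Noetherian case: a good affine neighbourhood of a point of the special fibre
-/

namespace Groth.Agent.Lib.Helper10.DVRFibre

open AlgebraicGeometry CategoryTheory CategoryTheory.Limits TopologicalSpace Opposite

universe u

section General

variable {X : Scheme.{u}}

/-- `W` affine with Noetherian ring of sections, `gW` with reduced quotient and lying in no minimal
prime; around every point of `W` where `gW` vanishes there is a basic open `D(s)` on which `gW` is a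
nonzerodivisor, with reduced quotient, and whose ring of sections is reduced. -/
theorem exists_basicOpen_nzd_reduced {W : X.Opens} (hW : IsAffineOpen W)
    [IsNoetherianRing Γ(X, W)] (gW : Γ(X, W)) [_root_.IsReduced (Γ(X, W) ⧸ Ideal.span {gW})]
    (hmin : ∀ p ∈ minimalPrimes Γ(X, W), gW ∉ p) (x : X) (hxW : x ∈ W)
    (hx : x ∉ X.basicOpen gW) :
    ∃ s : Γ(X, W), x ∈ X.basicOpen s ∧
      algebraMap Γ(X, W) Γ(X, X.basicOpen s) gW ∈ nonZeroDivisors Γ(X, X.basicOpen s) ∧
      _root_.IsReduced (Γ(X, X.basicOpen s) ⧸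
        Ideal.span {algebraMap Γ(X, W) Γ(X, X.basicOpen s) gW}) ∧
      _root_.IsReduced Γ(X, X.basicOpen s) := by
  obtain ⟨s, hs1, hs2⟩ := DVRAlg.exists_smul_nilradical_eq_zero gW hmin
  haveI : IsLocalization.Away s Γ(X, X.basicOpen s) := hW.isLocalization_basicOpen s
  refine ⟨s, ?_, ?_, ?_, ?_⟩
  · rw [X.mem_basicOpen s x hxW]
    rw [X.mem_basicOpen gW x hxW] at hx
    obtain ⟨c, hc⟩ := Ideal.mem_span_singleton'.1 hs1
    have h1 : X.presheaf.germ W x hxW s = 1 + X.presheaf.germ W x hxW c *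
        X.presheaf.germ W x hxW gW := by
      rw [← map_mul, hc, map_sub, map_one]
      ring
    rw [h1]
    have h2 : X.presheaf.germ W x hxW c * X.presheaf.germ W x hxW gW ∈
        IsLocalRing.maximalIdeal (X.presheaf.stalk x) :=
      Ideal.mul_mem_left _ _ ((IsLocalRing.mem_maximalIdeal _).2 hx)
    by_contra h3
    have h4 : (1 : X.presheaf.stalk x) ∈ IsLocalRing.maximalIdeal (X.presheaf.stalk x) := by
      have := Ideal.sub_mem _ ((IsLocalRing.mem_maximalIdeal _).2 h3) h2
      rwa [add_sub_cancel_right] at this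
    exact (IsLocalRing.maximalIdeal.isMaximal _).ne_top ((Ideal.eq_top_iff_one _).2 h4)
  · exact DVRAlg.algebraMap_mem_nonZeroDivisors_away s _ hs2
      (fun t ht => DVRAlg.mem_nilradical_of_mul_eq_zero hmin ht)
  · exact DVRAlg.isReduced_quotient_away s _
  · exact DVRAlg.isReduced_away s _ hs2

end General

section DVR

variable {R : Type u} [CommRing R] [IsDomain R] {X : Scheme.{u}}
  (f : X ⟶ Spec (CommRingCat.of R))

theorem generalizingMap_comap_phi (hgen : GeneralizingMap f) {W : X.Opens} (hW : IsAffineOpen W) :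
    GeneralizingMap (PrimeSpectrum.comap (phi f W)) := by
  have h1 : GeneralizingMap (hW.fromSpec ≫ f) := by
    rw [Scheme.Hom.comp_base, TopCat.coe_comp]
    exact hW.fromSpec.isOpenEmbedding.generalizingMap.comp hgen
  rw [fromSpec_comp] at h1
  exact h1

theorem notMem_minimalPrimes_of_generalizing (hgen : GeneralizingMap f) {W : X.Opens}
    (hW : IsAffineOpen W) {π : R} (hπ : π ≠ 0) :
    ∀ p ∈ minimalPrimes Γ(X, W), phi f W π ∉ p := by
  intro p hp hmem
  haveI : p.IsPrime := hp.1.1
  let P : PrimeSpectrum Γ(X, W) := ⟨p, inferInstance⟩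
  obtain ⟨Q, hQP, hQ⟩ := generalizingMap_comap_phi f hgen hW
    (genPt_specializes (PrimeSpectrum.comap (phi f W) P))
  have hle : Q.asIdeal ≤ p := (PrimeSpectrum.le_iff_specializes Q P).2 hQP
  have hge : p ≤ Q.asIdeal := hp.2 ⟨Q.isPrime, bot_le⟩ hle
  have h1 : π ∈ (PrimeSpectrum.comap (phi f W) Q).asIdeal := hge hmem
  rw [hQ] at h1
  exact hπ ((Ideal.mem_bot).1 h1)

theorem phi_basicOpen {W : X.Opens} (s : Γ(X, W)) (r : R) :
    phi f (X.basicOpen s) r = algebraMap Γ(X, W) Γ(X, X.basicOpen s) (phi f W r) := by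
  show _ = X.presheaf.map (homOfLE (X.basicOpen_le s)).op (phi f W r)
  rw [phi_apply, phi_apply]
  generalize f.appTop ((Scheme.ΓSpecIso (CommRingCat.of R)).inv r) = z
  rw [← CommRingCat.comp_apply, ← Functor.map_comp]
  rfl

variable [IsDiscreteValuationRing R]

theorem notMem_basicOpen_phi {π : R} (hπ : Irreducible π) {W : X.Opens} {x : X}
    (hx : f x ≠ genPt R) : x ∉ X.basicOpen (phi f W π) := by
  intro h
  apply hx
  have h1 : x ∈ X.basicOpen (gOf f π) := by
    have := X.basicOpen_res (gOf f π) (homOfLE (le_top : W ≤ ⊤)).op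
    rw [map_gOf] at this
    rw [this] at h
    exact h.2
  have h2 : x ∈ (X.basicOpen (gOf f π) : Set X) := h1
  rw [coe_basicOpen_gOf f hπ] at h2
  exact h2

/-- Locally of finite type over a DVR, generalizing, reduced special fibre: good affine
neighbourhoods. -/
theorem exists_affine_nzd_reduced_of_generalizing [LocallyOfFiniteType f]
    (hgen : GeneralizingMap f) {π : R} (hπ : Irreducible π)
    [IsReduced (f.fiber (IsLocalRing.closedPoint R))] (x : X) (hx : f x ≠ genPt R) :
    ∃ U : X.Opens, IsAffineOpen U ∧ x ∈ U ∧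
      phi f U π ∈ nonZeroDivisors Γ(X, U) ∧
      _root_.IsReduced (Γ(X, U) ⧸ Ideal.span {phi f U π}) := by
  obtain ⟨W, hW, hxW⟩ := exists_affineOpen_mem x
  have hft : (phi f W).FiniteType := by
    have h1 : (f.appLE ⊤ W le_top).hom.FiniteType :=
      HasRingHomProperty.appLE (P := @LocallyOfFiniteType) f inferInstance
        ⟨⊤, isAffineOpen_top _⟩ ⟨W, hW⟩ le_top
    have h2 : (Scheme.ΓSpecIso (CommRingCat.of R)).inv.hom.FiniteType :=
      RingHom.FiniteType.of_surjective _
        (ConcreteCategory.bijective_of_isIso (Scheme.ΓSpecIso (CommRingCat.of R)).inv).2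
    exact RingHom.FiniteType.comp h1 h2
  haveI : IsNoetherianRing Γ(X, W) := by
    letI : Algebra R Γ(X, W) := (phi f W).toAlgebra
    haveI : Algebra.FiniteType R Γ(X, W) := hft
    exact Algebra.FiniteType.isNoetherianRing R Γ(X, W)
  have hy : (IsLocalRing.closedPoint R).asIdeal = Ideal.span {π} := hπ.maximalIdeal_eq
  haveI : (IsLocalRing.closedPoint R).asIdeal.IsMaximal := IsLocalRing.maximalIdeal.isMaximal R
  haveI : _root_.IsReduced (Γ(X, W) ⧸ Ideal.span {phi f W π}) :=
    isReduced_quotient_of_isReduced_fiber f (IsLocalRing.closedPoint R) π hy hW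
  obtain ⟨s, hxs, h1, h2, -⟩ := exists_basicOpen_nzd_reduced hW (phi f W π)
    (notMem_minimalPrimes_of_generalizing f hgen hW hπ.ne_zero) x hxW
    (notMem_basicOpen_phi f hπ hx)
  refine ⟨X.basicOpen s, hW.basicOpen s, hxs, ?_, ?_⟩
  · rw [phi_basicOpen]; exact h1
  · rw [phi_basicOpen]; exact h2

end DVR

end Groth.Agent.Lib.Helper10.DVRFibre
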