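import Mathlib
import Groth.Agent.Lib.Helper10DVRFibre4

/-!
# Schemes over a DVR: flatness from density of the generic fibre (helper10)
-/

namespace Groth.Agent.Lib.Helper10.DVRFibre

open AlgebraicGeometry CategoryTheory CategoryTheory.Limits TopologicalSpace Opposite

universe u

section Alg

variable {R : Type*} [CommRing R] [IsDomain R] [IsDiscreteValuationRing R]

/-- An algebra over a DVR on which the uniformizer is a nonzerodivisor is flat. -/
theorem flat_of_mem_nonZeroDivisors {C : Type*} [CommRing C] [Algebra R C] {π : R}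
    (hπ : Irreducible π) (h : algebraMap R C π ∈ nonZeroDivisors C) : Module.Flat R C := by
  have : Module.IsTorsionFree R C := by
    refine ⟨fun r hr => ?_⟩
    have hr0 : r ≠ 0 := hr.ne_zero
    obtain ⟨n, u, hu⟩ := IsDiscreteValuationRing.eq_unit_mul_pow_irreducible hr0 hπ
    intro x y hxy
    have h1 : r • (x - y) = 0 := by
      rw [smul_sub]; exact sub_eq_zero.2 hxy
    rw [hu, mul_smul] at h1
    have h2 : π ^ n • (x - y) = 0 := by
      have := congrArg (fun z => (↑u⁻¹ : R) • z) h1
      simpa [smul_smul] using this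
    have h3 : ∀ m : ℕ, ∀ z : C, π ^ m • z = 0 → z = 0 := by
      intro m
      induction m with
      | zero => intro z hz; simpa using hz
      | succ m ih =>
        intro z hz
        apply ih
        rw [pow_succ, mul_smul] at hz
        have h4 : algebraMap R C π * (π ^ m • z) = 0 := by
          rw [← Algebra.smul_def, smul_comm]; exact hz
        exact (mem_nonZeroDivisors_iff_left.1 h) _ h4
    exact sub_eq_zero.1 (h3 n _ h2)
  infer_instance

end Alg

section Sch

variable {R : Type u} [CommRing R] [IsDomain R] {X : Scheme.{u}}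
  (f : X ⟶ Spec (CommRingCat.of R))

omit [IsDomain R] in
/-- flatness can be checked on a family of affine opens covering `X`. -/
theorem flat_of_forall_exists_affine
    (h : ∀ x : X, ∃ U : X.Opens, IsAffineOpen U ∧ x ∈ U ∧ (phi f U).Flat) : Flat f := by
  choose U hU hxU hflat using h
  rw [HasRingHomProperty.iff_of_iSup_eq_top (P := @Flat) (fun x : X => ⟨U x, hU x⟩)
    (by
      rw [eq_top_iff]
      intro x _
      exact Opens.mem_iSup.2 ⟨x, hxU x⟩)]
  intro x
  have h2 : (Scheme.ΓSpecIso (CommRingCat.of R)).hom.hom.Flat :=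
    RingHom.Flat.of_bijective
      (ConcreteCategory.bijective_of_isIso (Scheme.ΓSpecIso (CommRingCat.of R)).hom)
  have h3 := RingHom.Flat.comp h2 (hflat x)
  have h4 : (phi f (U x)).comp (Scheme.ΓSpecIso (CommRingCat.of R)).hom.hom =
      (f.appLE ⊤ (U x) le_top).hom := by
    ext r
    simp only [phi, RingHom.comp_apply]
    rw [← CommRingCat.comp_apply (Scheme.ΓSpecIso (CommRingCat.of R)).hom, Iso.hom_inv_id]
    rfl
  rw [h4] at h3
  exact h3

variable [IsDiscreteValuationRing R]

/-- If the generic fibre is dense, the uniformizer lies in no minimal prime of an affine open. -/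
theorem notMem_minimalPrimes_of_dense {π : R} (hπ : Irreducible π)
    (hdense : Dense (f ⁻¹' {genPt R})) {W : X.Opens} (hW : IsAffineOpen W) :
    ∀ p ∈ minimalPrimes Γ(X, W), phi f W π ∉ p := by
  intro p hp hmem
  have h1 : phi f W π ∈ ⋃ p ∈ (⊥ : Ideal Γ(X, W)).minimalPrimes, (p : Set Γ(X, W)) :=
    Set.mem_biUnion hp hmem
  rw [Ideal.iUnion_minimalPrimes] at h1
  obtain ⟨y, hy, hgy⟩ := h1
  obtain ⟨n, hn⟩ := hgy
  rw [Ideal.mem_bot] at hn
  have hne : (X.basicOpen y : Set X).Nonempty := by
    by_contra hemp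
    rw [Set.not_nonempty_iff_eq_empty] at hemp
    apply hy
    have h2 : PrimeSpectrum.basicOpen y = ⊥ := by
      have h3 := hW.fromSpec_image_basicOpen y
      ext z
      simp only [Opens.coe_bot, Set.mem_empty_iff_false, iff_false]
      intro hz
      have : hW.fromSpec z ∈ (X.basicOpen y : Set X) := by
        rw [← h3]; exact ⟨z, hz, rfl⟩
      rw [hemp] at this
      exact this
    rw [PrimeSpectrum.basicOpen_eq_bot_iff] at h2
    obtain ⟨k, hk⟩ := h2
    exact ⟨k, by rw [hk]; exact Ideal.zero_mem _⟩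
  obtain ⟨x, hxy, hxg⟩ := hdense.inter_open_nonempty _ (X.basicOpen y).isOpen hne
  have hxW : x ∈ W := X.basicOpen_le y hxy
  have hx1 : x ∈ X.basicOpen (phi f W π) := by
    have h4 := X.basicOpen_res (gOf f π) (homOfLE (le_top : W ≤ ⊤)).op
    rw [map_gOf] at h4
    rw [h4]
    refine ⟨hxW, ?_⟩
    show x ∈ (X.basicOpen (gOf f π) : Set X)
    rw [coe_basicOpen_gOf f hπ]
    exact hxg
  have hx2 : x ∈ X.basicOpen ((phi f W π * y) ^ n) := by
    rw [X.mem_basicOpen _ x hxW, map_pow]
    apply IsUnit.pow
    rw [map_mul]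
    exact ((X.mem_basicOpen _ x hxW).1 hx1).mul ((X.mem_basicOpen _ x hxW).1 hxy)
  rw [hn, X.basicOpen_zero] at hx2
  exact hx2

end Sch

end Groth.Agent.Lib.Helper10.DVRFibre
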