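import Mathlib
import Groth.Agent.Lib.Helper10DVRFibre5

/-!
# Proper flat schemes over a DVR with reduced special fibre are reduced (helper10)
-/

namespace Groth.Agent.Lib.Helper10.DVRFibre

open AlgebraicGeometry CategoryTheory CategoryTheory.Limits TopologicalSpace Opposite
open scoped TensorProduct

universe u

section General

variable {A : Type u} [CommRing A] {X : Scheme.{u}} (f : X ⟶ Spec (CommRingCat.of A))

/-- A scheme covered by affine opens with reduced rings of sections is reduced. -/
theorem isReduced_of_forall_exists_affine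
    (h : ∀ x : X, ∃ U : X.Opens, IsAffineOpen U ∧ x ∈ U ∧ _root_.IsReduced Γ(X, U)) :
    IsReduced X := by
  choose U hU hxU hred using h
  have hcov : IsOpenCover U := by
    rw [IsOpenCover, eq_top_iff]
    intro x _
    exact Opens.mem_iSup.2 ⟨x, hxU x⟩
  haveI : ∀ i, IsReduced ((X.openCoverOfIsOpenCover U hcov).X i) := by
    intro i
    show IsReduced (U i).toScheme
    haveI : IsAffine (U i).toScheme := hU i
    haveI : _root_.IsReduced Γ((U i).toScheme, ⊤) := by
      haveI := hred i
      exact isReduced_of_injective (U i).topIso.hom.hom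
        (ConcreteCategory.bijective_of_isIso (U i).topIso.hom).1
    exact isReduced_of_isAffine_isReduced _
  exact IsReduced.of_openCover _ (X.openCoverOfIsOpenCover U hcov)

/-- the converse of `isReduced_fiber_ring` -/
theorem isReduced_fiber_of_ring (C : Type u) [CommRing C] [Algebra A C]
    (y : PrimeSpectrum A) [_root_.IsReduced (y.asIdeal.Fiber C)] :
    IsReduced ((Spec.map (CommRingCat.ofHom (algebraMap A C))).fiber y) := by
  let e := Spec.fiberToSpecResidueFieldIso A C y
  let e' := Arrow.leftFunc.mapIso e
  haveI : IsReduced (Spec (CommRingCat.of (y.asIdeal.Fiber C))) :=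
    (affine_isReduced_iff (CommRingCat.of (y.asIdeal.Fiber C))).2 inferInstance
  exact @isReduced_of_isOpenImmersion _ _ e'.hom inferInstance this

/-- the fibre of `f` over `y` restricted to an affine open `U`, in terms of the ring fibre. -/
theorem isReduced_pullback_ι_of_ring {U : X.Opens} (hU : IsAffineOpen U) (y : PrimeSpectrum A)
    (h : letI : Algebra A Γ(X, U) := (phi f U).toAlgebra
      _root_.IsReduced (y.asIdeal.Fiber Γ(X, U))) :
    IsReduced (pullback (U.ι ≫ f) ((Spec (CommRingCat.of A)).fromSpecResidueField y)) := by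
  letI : Algebra A Γ(X, U) := (phi f U).toAlgebra
  haveI := h
  have h1 : IsReduced ((Spec.map (CommRingCat.ofHom (algebraMap A Γ(X, U)))).fiber y) :=
    isReduced_fiber_of_ring Γ(X, U) y
  have h2 : U.ι ≫ f = hU.isoSpec.hom ≫ Spec.map (CommRingCat.ofHom (algebraMap A Γ(X, U))) := by
    rw [← hU.isoSpec_hom_fromSpec, Category.assoc, fromSpec_comp]
  let g := (Spec (CommRingCat.of A)).fromSpecResidueField y
  let m : pullback (U.ι ≫ f) g ⟶
      pullback (Spec.map (CommRingCat.ofHom (algebraMap A Γ(X, U)))) g :=
    pullback.map _ _ _ _ hU.isoSpec.hom (𝟙 _) (𝟙 _) (by rw [Category.comp_id, h2])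
      (by rw [Category.comp_id, Category.id_comp])
  haveI : IsIso m := by
    dsimp only [m]
    infer_instance
  exact @isReduced_of_isOpenImmersion _ _ m inferInstance h1

/-- The fibre of `f` over `y` is reduced if it is so on a family of affine opens covering `X`. -/
theorem isReduced_fiber_of_forall_exists_affine (y : PrimeSpectrum A)
    (h : ∀ x : X, ∃ U : X.Opens, IsAffineOpen U ∧ x ∈ U ∧
      (letI : Algebra A Γ(X, U) := (phi f U).toAlgebra
       _root_.IsReduced (y.asIdeal.Fiber Γ(X, U)))) :
    IsReduced (f.fiber y) := by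
  choose U hU hxU hred using h
  have hcov : IsOpenCover U := by
    rw [IsOpenCover, eq_top_iff]
    intro x _
    exact Opens.mem_iSup.2 ⟨x, hxU x⟩
  let 𝒰 := X.openCoverOfIsOpenCover U hcov
  let g := (Spec (CommRingCat.of A)).fromSpecResidueField y
  haveI : ∀ i, IsReduced ((Scheme.Pullback.openCoverOfLeft 𝒰 f g).X i) := by
    intro i
    exact isReduced_pullback_ι_of_ring f (hU i) y (hred i)
  exact IsReduced.of_openCover _ (Scheme.Pullback.openCoverOfLeft 𝒰 f g)

end General

section Dom

variable {R : Type u} [CommRing R] [IsDomain R]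

/-- over a domain, the generic fibre of a reduced algebra is reduced -/
theorem isReduced_fiber_bot (C : Type u) [CommRing C] [Algebra R C] [_root_.IsReduced C] :
    _root_.IsReduced ((⊥ : Ideal R).Fiber C) := by
  letI : Algebra C ((⊥ : Ideal R).ResidueField ⊗[R] C) := Algebra.TensorProduct.rightAlgebra
  haveI : IsLocalization (Algebra.algebraMapSubmonoid C (nonZeroDivisors R))
      ((⊥ : Ideal R).ResidueField ⊗[R] C) :=
    IsLocalization.tensorRight (S := C) (A := (⊥ : Ideal R).ResidueField) (nonZeroDivisors R)
  exact isReduced_localizationPreserves (Algebra.algebraMapSubmonoid C (nonZeroDivisors R))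
    ((⊥ : Ideal R).ResidueField ⊗[R] C) inferInstance

end Dom

end Groth.Agent.Lib.Helper10.DVRFibre
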