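import Mathlib

/-!
# Flat morphisms with reduced generic fibres (helper10)

Adaptation of Mathlib's `GeometricallyReduced.isReduced_of_flat_of_finite_irreducibleComponents`:
only the scheme-theoretic fibres over the generic points of the target are needed.
-/

namespace Groth.Agent.Lib.Helper10.RedFib

open AlgebraicGeometry CategoryTheory CategoryTheory.Limits MorphismProperty

universe u

variable {X Y : Scheme.{u}}

/-- If the stalk at `η` is a field, the fibre over `η` is the base change along
`Spec 𝒪_{Y,η} ⟶ Y`. -/
theorem isReduced_pullback_fromSpecStalk (f : X ⟶ Y) (η : Y)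
    (hη : IsField (Y.presheaf.stalk η)) [IsReduced (f.fiber η)] :
    IsReduced (pullback f (Y.fromSpecStalk η)) := by
  have hbij : Function.Bijective (Y.residue η).hom := by
    refine ⟨?_, IsLocalRing.residue_surjective⟩
    letI := hη.toField
    exact (IsLocalRing.residue (Y.presheaf.stalk η)).injective
  haveI : IsIso (Y.residue η) :=
    (ConcreteCategory.isIso_iff_bijective (Y.residue η)).2 hbij
  haveI : IsIso (Spec.map (Y.residue η)) := by
    have : IsIso (Scheme.Spec.map (Y.residue η).op) := inferInstance
    exact this
  let m : f.fiber η ⟶ pullback f (Y.fromSpecStalk η) :=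
    pullback.map f (Y.fromSpecResidueField η) f (Y.fromSpecStalk η) (𝟙 X)
      (Spec.map (Y.residue η)) (𝟙 Y) (by simp) (by simp [Scheme.fromSpecResidueField])
  haveI : IsIso m := by
    dsimp only [m]
    exact pullback.map_isIso _ _ _ _ _ _ _ _ _
  exact @isReduced_of_isOpenImmersion _ _ (inv m) inferInstance ‹_›

set_option backward.isDefEq.respectTransparency false in
/-- A flat scheme over a reduced scheme with finitely many irreducible components whose fibres over
the generic points are reduced is reduced. -/
theorem isReduced_of_flat_of_generic_fibres (f : X ⟶ Y) [Flat f] [IsReduced Y]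
    [Finite (irreducibleComponents Y)]
    (h : ∀ η : Y, closure {η} ∈ irreducibleComponents Y → IsReduced (f.fiber η)) :
    IsReduced X := by
  let pt (Z : irreducibleComponents Y) := Y.presheaf.stalk Z.property.1.genericPoint
  have hcl (Z : irreducibleComponents Y) :
      closure {Z.property.1.genericPoint} ∈ irreducibleComponents Y := by
    rw [Z.property.1.closure_genericPoint (isClosed_of_mem_irreducibleComponents _ Z.property)]
    exact Z.property
  have hpt (Z : _) : IsField (pt Z) :=
    isField_stalk_of_closure_mem_irreducibleComponents _ _ (hcl Z)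
  let Z := ∐ fun Z ↦ Spec (pt Z)
  let g : Z ⟶ Y := Sigma.desc fun Z ↦ Y.fromSpecStalk _
  have : Finite Z := by
    have (Z : irreducibleComponents Y) : Finite (Spec (pt Z)) := by
      letI := (hpt Z).toField
      infer_instance
    exact (sigmaMk _).finite_iff.mp inferInstance
  have : QuasiCompact g := ⟨fun _ _ _ ↦ (Set.toFinite _).isCompact⟩
  have H : IsSchemeTheoreticallyDominant g := by
    rw [isSchemeTheoreticallyDominant_iff_isDominant, isDominant_iff, denseRange_iff_closure_range,
      Set.eq_univ_iff_forall]
    intro y
    let z : Z := Sigma.ι (fun Z ↦ Spec (pt Z)) ⟨_, irreducibleComponent_mem_irreducibleComponents y⟩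
      (IsLocalRing.closedPoint _)
    have hz : g z ⤳ y := by
      simp only [g, z, Z, ← Scheme.Hom.comp_apply, Sigma.ι_desc, pt,
        Scheme.fromSpecStalk_closedPoint]
      exact (IsIrreducible.isGenericPoint_genericPoint _
        isClosed_irreducibleComponent).specializes mem_irreducibleComponent
    exact hz.mem_closed isClosed_closure (subset_closure ⟨_, rfl⟩)
  suffices IsReduced (pullback f g) from IsSchemeTheoreticallyDominant.isReduced (pullback.fst f g)
  have H := IsUniversalColimit.isPullback_of_isColimit_left
    (X := fun Z ↦ Spec (pt Z))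
    (FinitaryPreExtensive.isUniversal_finiteCoproducts (coproductIsCoproduct _))
    (fun Z ↦ Y.fromSpecStalk _) g f _ _ (fun _ ↦ .of_hasPullback _ _) (coproductIsCoproduct _)
  apply +allowSynthFailures @isReduced_of_isOpenImmersion (f := H.isoPullback.inv)
  apply +allowSynthFailures @IsReduced.of_openCover (𝒰 := sigmaOpenCover _)
  intro i
  haveI := h _ (hcl i)
  exact isReduced_pullback_fromSpecStalk f _ (hpt i)

end Groth.Agent.Lib.Helper10.RedFib
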