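import Mathlib
import Groth.Agent.Lib.Helper10RedFib
import Groth.Agent.Lib.Helper10DVRFibre6

/-!
# Flat morphisms of locally Noetherian schemes with reduced fibres (helper10)
-/

namespace Groth.Agent.Lib.Helper10.RedFib

open AlgebraicGeometry CategoryTheory CategoryTheory.Limits MorphismProperty TopologicalSpace

universe u

/-- In a Noetherian ring whose localization at `p` is reduced, some `s ∉ p` kills the nilradical. -/
theorem exists_notMem_forall_nilradical_mul_eq_zero (A : Type*) [CommRing A] [IsNoetherianRing A]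
    (p : Ideal A) [p.IsPrime] (S : Type*) [CommRing S] [Algebra A S] [IsLocalization.AtPrime S p]
    [_root_.IsReduced S] : ∃ s ∉ p, ∀ t ∈ nilradical A, s * t = 0 := by
  classical
  obtain ⟨G, hG⟩ := (isNoetherianRing_iff_ideal_fg A).1 inferInstance (nilradical A)
  have key : ∀ G : Finset A, (∀ n ∈ G, n ∈ nilradical A) → ∃ s ∉ p, ∀ n ∈ G, s * n = 0 := by
    intro G
    induction G using Finset.induction_on with
    | empty => exact fun _ => ⟨1, fun h => (Ideal.IsPrime.ne_top ‹_›) ((Ideal.eq_top_iff_one p).2 h),
        fun n hn => absurd hn (Finset.notMem_empty n)⟩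
    | insert a G ha ih =>
      intro hall
      obtain ⟨s, hs, hsG⟩ := ih (fun n hn => hall n (Finset.mem_insert_of_mem hn))
      have ha' : a ∈ nilradical A := hall a (Finset.mem_insert_self a G)
      have h0 : algebraMap A S a = 0 := by
        obtain ⟨k, hk⟩ := ha'
        exact IsReduced.eq_zero _ ⟨k, by rw [← map_pow, hk, map_zero]⟩
      obtain ⟨c, hc⟩ := (IsLocalization.map_eq_zero_iff p.primeCompl S a).1 h0
      refine ⟨s * c, fun h => ?_, fun n hn => ?_⟩
      · rcases (‹p.IsPrime›.mem_or_mem h) with h1 | h1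
        · exact hs h1
        · exact c.2 h1
      · rcases Finset.mem_insert.1 hn with rfl | hn
        · rw [mul_assoc, hc, mul_zero]
        · rw [mul_comm s, mul_assoc, hsG n hn, mul_zero]
  obtain ⟨s, hs, hsG⟩ := key G (fun n hn => by rw [← hG]; exact Ideal.subset_span hn)
  refine ⟨s, hs, fun t ht => ?_⟩
  rw [← hG] at ht
  induction ht using Submodule.span_induction with
  | mem x hx => exact hsG x hx
  | zero => exact mul_zero s
  | add x y _ _ hx hy => rw [mul_add, hx, hy, add_zero]
  | smul a x _ hx => rw [smul_eq_mul, mul_left_comm, hx, mul_zero]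

variable {X Y : Scheme.{u}}

/-- A point with reduced local ring on a locally Noetherian scheme has an affine neighbourhood with
reduced ring of sections. -/
theorem exists_affine_isReduced_of_stalk [IsLocallyNoetherian Y] (y : Y)
    [_root_.IsReduced (Y.presheaf.stalk y)] :
    ∃ V : Y.Opens, IsAffineOpen V ∧ y ∈ V ∧ _root_.IsReduced Γ(Y, V) := by
  obtain ⟨W, hW, hyW⟩ := Groth.Agent.Lib.Helper10.DVRFibre.exists_affineOpen_mem y
  haveI : IsNoetherianRing Γ(Y, W) := IsLocallyNoetherian.component_noetherian ⟨W, hW⟩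
  letI alg := TopCat.Presheaf.algebra_section_stalk Y.presheaf (⟨y, hyW⟩ : W)
  haveI := hW.isLocalization_stalk ⟨y, hyW⟩
  obtain ⟨s, hs, hkill⟩ := exists_notMem_forall_nilradical_mul_eq_zero Γ(Y, W)
    (hW.primeIdealOf ⟨y, hyW⟩).asIdeal (Y.presheaf.stalk y)
  refine ⟨Y.basicOpen s, hW.basicOpen s, ?_, ?_⟩
  · rw [Y.mem_basicOpen s y hyW]
    exact IsLocalization.map_units (Y.presheaf.stalk y)
      (⟨s, hs⟩ : (hW.primeIdealOf ⟨y, hyW⟩).asIdeal.primeCompl)
  · haveI : IsLocalization.Away s Γ(Y, Y.basicOpen s) := hW.isLocalization_basicOpen s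
    exact Groth.Agent.Lib.Helper10.DVRAlg.isReduced_away s _ hkill

/-- The fibre of the restriction of `f` over an open `V` is the fibre of `f`. -/
theorem isReduced_fiber_morphismRestrict (f : X ⟶ Y) (V : Y.Opens) (η : V.toScheme)
    [IsReduced (f.fiber (V.ι η))] : IsReduced ((f ∣_ V).fiber η) := by
  have h := isPullback_fiberToSpecResidueField_of_isPullback (isPullback_morphismRestrict f V).flip η
  obtain ⟨m, hm⟩ : ∃ m : (f ∣_ V).fiber η ⟶ f.fiber (V.ι η), IsIso m :=
    ⟨_, h.isIso_fst_of_isIso⟩
  exact isReduced_of_isOpenImmersion m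

/-- Flat morphism of locally Noetherian schemes, the target has reduced local rings at the points of
the image and all fibres are reduced: the source is reduced. -/
theorem isReduced_of_flat_of_fibres [IsLocallyNoetherian Y] (f : X ⟶ Y) [Flat f]
    (hY : ∀ x : X, _root_.IsReduced (Y.presheaf.stalk (f x)))
    (hfib : ∀ y : Y, IsReduced (f.fiber y)) : IsReduced X := by
  have key : ∀ x : X, ∃ V : Y.Opens, IsAffineOpen V ∧ f x ∈ V ∧ _root_.IsReduced Γ(Y, V) := by
    intro x
    haveI := hY x
    exact exists_affine_isReduced_of_stalk (f x)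
  choose V hV hxV hred using key
  have hcov : IsOpenCover (fun x => f ⁻¹ᵁ V x) := by
    rw [IsOpenCover, eq_top_iff]
    intro x _
    exact Opens.mem_iSup.2 ⟨x, hxV x⟩
  haveI : ∀ i, IsReduced ((X.openCoverOfIsOpenCover _ hcov).X i) := by
    intro x
    show IsReduced (f ⁻¹ᵁ V x).toScheme
    haveI : IsAffine (V x).toScheme := hV x
    haveI : _root_.IsReduced Γ((V x).toScheme, ⊤) := by
      haveI := hred x
      exact isReduced_of_injective (V x).topIso.hom.hom
        (ConcreteCategory.bijective_of_isIso (V x).topIso.hom).1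
    haveI : IsReduced (V x).toScheme := isReduced_of_isAffine_isReduced _
    haveI : IsNoetherian (V x).toScheme := {}
    haveI : Finite (irreducibleComponents (V x).toScheme) :=
      TopologicalSpace.NoetherianSpace.finite_irreducibleComponents.to_subtype
    refine isReduced_of_flat_of_generic_fibres (f ∣_ V x) (fun η _ => ?_)
    haveI := hfib ((V x).ι η)
    exact isReduced_fiber_morphismRestrict f (V x) η
  exact IsReduced.of_openCover _ (X.openCoverOfIsOpenCover _ hcov)

end Groth.Agent.Lib.Helper10.RedFib
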