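import Mathlib
import Groth.Agent.Lib.Helper10DVRFibre6
import Groth.Agent.Lib.Helper10RedFib2

/-!
# Local flatness criterion over a DVR via openness at the maximal points of the fibre (helper10)
-/

namespace Groth.Agent.Lib.Helper10.DVRFibre

open AlgebraicGeometry CategoryTheory CategoryTheory.Limits TopologicalSpace Opposite

universe u

section Alg

/-- reducedness of `C / π` passes to localizations -/
theorem isReduced_quotient_of_isLocalization {C : Type*} [CommRing C] (M : Submonoid C)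
    (B : Type*) [CommRing B] [Algebra C B] [IsLocalization M B] (π : C)
    [IsReduced (C ⧸ Ideal.span {π})] : IsReduced (B ⧸ Ideal.span {algebraMap C B π}) := by
  refine ⟨fun z hz => ?_⟩
  obtain ⟨b, rfl⟩ := Ideal.Quotient.mk_surjective z
  obtain ⟨n, hn⟩ := hz
  rw [← map_pow, Ideal.Quotient.eq_zero_iff_mem, Ideal.mem_span_singleton'] at hn
  obtain ⟨w, hw⟩ := hn
  rw [Ideal.Quotient.eq_zero_iff_mem]
  obtain ⟨⟨c, s⟩, hcs⟩ := IsLocalization.surj M b
  obtain ⟨⟨c', s'⟩, hcs'⟩ := IsLocalization.surj M w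
  simp only at hcs hcs'
  -- b * s = c, w * s' = c'
  have h1 : algebraMap C B (c ^ n * s') = algebraMap C B (c' * π * s ^ n) := by
    rw [map_mul, map_pow, ← hcs, map_mul, map_mul, ← hcs', map_pow, mul_pow, ← hw]
    ring
  obtain ⟨u, hu⟩ := (IsLocalization.eq_iff_exists M B).1 h1
  have h2 : (↑u * ↑s' * c) ^ (n + 1) ∈ Ideal.span {π} := by
    have : (↑u * ↑s' * c) ^ (n + 1) = (↑u * ↑s' * c) * ((↑u : C) ^ n * (↑s' : C) ^ n) *
        (c ^ n) := by ring
    rw [this]
    have h3 : (↑u * ↑s' * c) * ((↑u : C) ^ n * (↑s' : C) ^ n) * (c ^ n) =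
        (c * ((↑u : C) ^ n * (↑s' : C) ^ n) * (↑u * (c' * (↑s : C) ^ n))) * π := by
      have hu' : (↑u : C) * (c ^ n * ↑s') = ↑u * (c' * π * (↑s : C) ^ n) := hu
      calc (↑u * ↑s' * c) * ((↑u : C) ^ n * (↑s' : C) ^ n) * (c ^ n)
          = (c * ((↑u : C) ^ n * (↑s' : C) ^ n)) * (↑u * (c ^ n * ↑s')) := by ring
        _ = (c * ((↑u : C) ^ n * (↑s' : C) ^ n)) * (↑u * (c' * π * (↑s : C) ^ n)) := by rw [hu']
        _ = _ := by ring
    rw [h3]
    exact Ideal.mul_mem_left _ _ (Ideal.subset_span rfl)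
  have h4 : ↑u * ↑s' * c ∈ Ideal.span {π} := DVRAlg.mem_span_of_sq_mem h2
  obtain ⟨d, hd⟩ := Ideal.mem_span_singleton'.1 h4
  have hunit : IsUnit (algebraMap C B (↑u * ↑s' * ↑s)) := by
    rw [map_mul, map_mul]
    exact ((IsLocalization.map_units B u).mul (IsLocalization.map_units B s')).mul
      (IsLocalization.map_units B s)
  have h5 : algebraMap C B (↑u * ↑s' * ↑s) * b = algebraMap C B d * algebraMap C B π := by
    rw [← map_mul, hd, map_mul, map_mul, map_mul, map_mul, ← hcs]
    ring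
  obtain ⟨v, hv⟩ := hunit
  have h6 : b = ↑v⁻¹ * (algebraMap C B d * algebraMap C B π) := by
    rw [← h5, ← hv, ← mul_assoc, Units.inv_mul, one_mul]
  rw [h6, ← mul_assoc]
  exact Ideal.mul_mem_left _ _ (Ideal.subset_span rfl)

/-- In a Noetherian local ring: `π ∈ 𝔪`, `B / π` reduced, `π` in no minimal prime: then `π` is a
nonzerodivisor. -/
theorem mem_nonZeroDivisors_of_isLocalRing {B : Type*} [CommRing B] [IsLocalRing B]
    [IsNoetherianRing B] (π : B) (hπ : π ∈ IsLocalRing.maximalIdeal B)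
    [IsReduced (B ⧸ Ideal.span {π})] (hmin : ∀ p ∈ minimalPrimes B, π ∉ p) :
    π ∈ nonZeroDivisors B := by
  obtain ⟨s, hs1, hs2⟩ := DVRAlg.exists_smul_nilradical_eq_zero π hmin
  have hsu : IsUnit s := by
    by_contra hns
    have h1 : s ∈ IsLocalRing.maximalIdeal B := (IsLocalRing.mem_maximalIdeal s).2 hns
    have h2 : s - 1 ∈ IsLocalRing.maximalIdeal B := by
      obtain ⟨c, hc⟩ := Ideal.mem_span_singleton'.1 hs1
      rw [← hc]
      exact Ideal.mul_mem_left _ _ hπ
    have h3 : (1 : B) ∈ IsLocalRing.maximalIdeal B := by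
      have := Ideal.sub_mem _ h1 h2
      rwa [sub_sub_cancel] at this
    exact (IsLocalRing.maximalIdeal.isMaximal B).ne_top ((Ideal.eq_top_iff_one _).2 h3)
  rw [mem_nonZeroDivisors_iff_left]
  intro t ht
  have h1 : t ∈ nilradical B :=
    DVRAlg.mem_nilradical_of_mul_eq_zero hmin (by rw [ht]; exact Ideal.zero_mem _)
  exact hsu.mul_right_eq_zero.1 (hs2 t h1)

/-- An element of a minimal prime is killed, up to a power, by an element outside the prime. -/
theorem exists_notMem_mul_pow_eq_zero {C : Type*} [CommRing C] {p : Ideal C}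
    (hp : p ∈ minimalPrimes C) {g : C} (hg : g ∈ p) : ∃ t ∉ p, ∃ n : ℕ, t * g ^ n = 0 := by
  haveI : p.IsPrime := hp.1.1
  have h1 := IsLocalization.AtPrime.radical_map_of_mem_minimalPrimes
    (A := Localization.AtPrime p) p ⊥ hp
  have h2 : algebraMap C (Localization.AtPrime p) g ∈
      ((⊥ : Ideal C).map (algebraMap C (Localization.AtPrime p))).radical := by
    rw [h1]; exact Ideal.mem_map_of_mem _ hg
  rw [Ideal.map_bot] at h2
  obtain ⟨n, hn⟩ := h2
  rw [Ideal.mem_bot, ← map_pow] at hn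
  obtain ⟨t, ht⟩ := (IsLocalization.map_eq_zero_iff p.primeCompl _ _).1 hn
  exact ⟨t, t.2, n, ht⟩

end Alg

section General

variable {A : Type u} [CommRing A] {X : Scheme.{u}} (f : X ⟶ Spec (CommRingCat.of A))

/-- variant of `isReduced_quotient_of_isReduced_fiber`: only the affine piece of the fibre is known
to be reduced -/
theorem isReduced_quotient_of_isReduced_fiber' (y : PrimeSpectrum A) [y.asIdeal.IsMaximal] (π : A)
    (hy : y.asIdeal = Ideal.span {π}) {U : X.Opens} (hU : IsAffineOpen U)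
    (h1 : IsReduced ((hU.fromSpec ≫ f).fiber y)) :
    _root_.IsReduced (Γ(X, U) ⧸ Ideal.span {phi f U π}) := by
  letI : Algebra A Γ(X, U) := (phi f U).toAlgebra
  rw [fromSpec_comp] at h1
  haveI := h1
  haveI : _root_.IsReduced (y.asIdeal.Fiber Γ(X, U)) := isReduced_fiber_ring Γ(X, U) y
  exact Groth.Agent.Lib.Helper10.DVRAlg.isReduced_quotient_of_fiber y.asIdeal π hy

/-- If the local ring of the fibre through `x` at `x` is reduced, then `x` has an affine
neighbourhood `W` such that the fibre of `W` is reduced. -/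
theorem exists_affine_isReduced_fiber_of_stalk [LocallyOfFiniteType f] (x : X)
    (hred : _root_.IsReduced ((f.fiber (f x)).presheaf.stalk (f.asFiber x))) :
    ∃ (W : X.Opens) (hW : IsAffineOpen W), x ∈ W ∧ IsReduced ((hW.fromSpec ≫ f).fiber (f x)) := by
  haveI : IsLocallyNoetherian (f.fiber (f x)) := by
    haveI : LocallyOfFiniteType (f.fiberToSpecResidueField (f x)) := by
      dsimp only [Scheme.Hom.fiberToSpecResidueField]
      exact MorphismProperty.pullback_snd (P := @LocallyOfFiniteType) f _ inferInstance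
    exact LocallyOfFiniteType.isLocallyNoetherian (f.fiberToSpecResidueField (f x))
  haveI := hred
  obtain ⟨V₀, hV₀, hξ, hV₀red⟩ :=
    Groth.Agent.Lib.Helper10.RedFib.exists_affine_isReduced_of_stalk (f.asFiber x)
  obtain ⟨W₀, hW₀open, hW₀⟩ :=
    (f.fiberι (f x)).isEmbedding.isInducing.isOpen_iff.1 V₀.isOpen
  have hxW₀ : x ∈ W₀ := by
    have h1 : f.asFiber x ∈ (f.fiberι (f x)) ⁻¹' W₀ := by rw [hW₀]; exact hξ
    rw [Set.mem_preimage, f.fiberι_asFiber] at h1
    exact h1
  obtain ⟨_, ⟨W, hW, rfl⟩, hxW, hWW₀⟩ :=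
    X.isBasis_affineOpens.exists_subset_of_mem_open hxW₀ hW₀open
  refine ⟨W, hW, hxW, ?_⟩
  have hrange : Set.range (pullback.snd hW.fromSpec (f.fiberι (f x))) ⊆ Set.range V₀.ι := by
    rw [IsOpenImmersion.range_pullbackSnd, Scheme.Opens.range_ι]
    intro z hz
    have h1 : f.fiberι (f x) z ∈ W := by
      rw [hW.opensRange_fromSpec] at hz
      exact hz
    show z ∈ (V₀ : Set _)
    rw [← hW₀]
    exact hWW₀ h1
  let l := IsOpenImmersion.lift V₀.ι (pullback.snd hW.fromSpec (f.fiberι (f x))) hrange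
  haveI : IsOpenImmersion l := by
    haveI : IsOpenImmersion (l ≫ V₀.ι) := by
      rw [IsOpenImmersion.lift_fac]; infer_instance
    exact IsOpenImmersion.of_comp l V₀.ι
  haveI : IsReduced V₀.toScheme := by
    haveI : IsAffine V₀.toScheme := hV₀
    haveI : _root_.IsReduced Γ(V₀.toScheme, ⊤) :=
      isReduced_of_injective V₀.topIso.hom.hom
        (ConcreteCategory.bijective_of_isIso V₀.topIso.hom).1
    exact isReduced_of_isAffine_isReduced _
  haveI : IsReduced (pullback hW.fromSpec (f.fiberι (f x))) := isReduced_of_isOpenImmersion l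
  let g := (Spec (CommRingCat.of A)).fromSpecResidueField (f x)
  let e : pullback hW.fromSpec (pullback.fst f g) ≅ pullback (hW.fromSpec ≫ f) g :=
    pullbackRightPullbackFstIso f g hW.fromSpec
  haveI : IsReduced (pullback hW.fromSpec (pullback.fst f g)) :=
    ‹IsReduced (pullback hW.fromSpec (f.fiberι (f x)))›
  exact isReduced_of_isOpenImmersion e.inv

end General

section DVR

variable {R : Type u} [CommRing R] [IsDomain R] [IsDiscreteValuationRing R] {X : Scheme.{u}}
  (f : X ⟶ Spec (CommRingCat.of R))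

theorem mem_basicOpen_phi_of_eq_genPt {π : R} (hπ : Irreducible π) {W : X.Opens} {z : X}
    (hzW : z ∈ W) (hz : f z = genPt R) : z ∈ X.basicOpen (phi f W π) := by
  have h4 := X.basicOpen_res (gOf f π) (homOfLE (le_top : W ≤ ⊤)).op
  rw [map_gOf] at h4
  rw [h4]
  refine ⟨hzW, ?_⟩
  show z ∈ (X.basicOpen (gOf f π) : Set X)
  rw [coe_basicOpen_gOf f hπ]
  exact hz

/-- Local flatness criterion over a DVR (EGA IV 15.2.2-like): `f` locally of finite type, `x` in the
closed fibre, the fibre reduced at `x`, and `f` open at the maximal points of the fibre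
generalizing `x`: then `f` is flat at `x`. -/
theorem flat_stalkMap_of_isOpenAt [LocallyOfFiniteType f] (x : X)
    (hx : f x = IsLocalRing.closedPoint R)
    (h : ∀ z : ↥(f.fiber (f x)), f.asFiber x ∈ closure {z} →
      (∀ z' : ↥(f.fiber (f x)), z ∈ closure {z'} → z' = z) →
      ∀ U ∈ nhds (f.fiberι (f x) z), f '' U ∈ nhds (f (f.fiberι (f x) z)))
    (hred : _root_.IsReduced ((f.fiber (f x)).presheaf.stalk (f.asFiber x))) :
    (f.stalkMap x).hom.Flat := by
  classical
  obtain ⟨π, hπ⟩ := IsDiscreteValuationRing.exists_irreducible R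
  have hy : (f x).asIdeal = Ideal.span {π} := by rw [hx]; exact hπ.maximalIdeal_eq
  haveI : (f x).asIdeal.IsMaximal := by rw [hx]; exact IsLocalRing.maximalIdeal.isMaximal R
  have hne : f x ≠ genPt R := by
    rw [hx]; intro h0
    have h1 : π ∈ (IsLocalRing.closedPoint R).asIdeal := by
      show π ∈ IsLocalRing.maximalIdeal R
      rw [hπ.maximalIdeal_eq]; exact Ideal.subset_span rfl
    rw [h0] at h1
    exact hπ.ne_zero ((Ideal.mem_bot).1 h1)
  obtain ⟨W, hW, hxW, hfibred⟩ := exists_affine_isReduced_fiber_of_stalk f x hred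
  haveI hCred : _root_.IsReduced (Γ(X, W) ⧸ Ideal.span {phi f W π}) :=
    isReduced_quotient_of_isReduced_fiber' f (f x) π hy hW hfibred
  have hft : (phi f W).FiniteType := by
    have h1 : (f.appLE ⊤ W le_top).hom.FiniteType :=
      HasRingHomProperty.appLE (P := @LocallyOfFiniteType) f inferInstance
        ⟨⊤, isAffineOpen_top _⟩ ⟨W, hW⟩ le_top
    have h2 : (Scheme.ΓSpecIso (CommRingCat.of R)).inv.hom.FiniteType :=
      RingHom.FiniteType.of_surjective _
        (ConcreteCategory.bijective_of_isIso (Scheme.ΓSpecIso (CommRingCat.of R)).inv).2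
    exact RingHom.FiniteType.comp h1 h2
  haveI : IsNoetherianRing Γ(X, W) := by
    letI : Algebra R Γ(X, W) := (phi f W).toAlgebra
    haveI : Algebra.FiniteType R Γ(X, W) := hft
    exact Algebra.FiniteType.isNoetherianRing R Γ(X, W)
  letI algCB : Algebra Γ(X, W) (X.presheaf.stalk x) :=
    TopCat.Presheaf.algebra_section_stalk X.presheaf (⟨x, hxW⟩ : W)
  haveI hloc : IsLocalization.AtPrime (X.presheaf.stalk x) (hW.primeIdealOf ⟨x, hxW⟩).asIdeal :=
    hW.isLocalization_stalk ⟨x, hxW⟩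
  set q := hW.primeIdealOf ⟨x, hxW⟩ with hq
  have hqx : hW.fromSpec q = x := hW.fromSpec_primeIdealOf ⟨x, hxW⟩
  haveI : IsNoetherianRing (X.presheaf.stalk x) :=
    IsLocalization.isNoetherianRing q.asIdeal.primeCompl _ inferInstance
  set πB : X.presheaf.stalk x := algebraMap Γ(X, W) (X.presheaf.stalk x) (phi f W π) with hπB
  haveI : _root_.IsReduced (X.presheaf.stalk x ⧸ Ideal.span {πB}) :=
    isReduced_quotient_of_isLocalization q.asIdeal.primeCompl _ (phi f W π)
  have hπm : πB ∈ IsLocalRing.maximalIdeal (X.presheaf.stalk x) := by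
    rw [IsLocalRing.mem_maximalIdeal, mem_nonunits_iff]
    intro hu
    have : x ∈ X.basicOpen (phi f W π) := (X.mem_basicOpen _ x hxW).2 hu
    exact notMem_basicOpen_phi f hπ hne this
  have hmin : ∀ P ∈ minimalPrimes (X.presheaf.stalk x), πB ∉ P := by
    intro P hP hmem
    haveI hPprime : P.IsPrime := hP.1.1
    set p : Ideal Γ(X, W) := P.comap (algebraMap Γ(X, W) (X.presheaf.stalk x)) with hp
    haveI hpprime : p.IsPrime := Ideal.comap_isPrime _ _
    have hgp : phi f W π ∈ p := hmem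
    have hpq : p ≤ q.asIdeal := by
      have h1 : P ≤ IsLocalRing.maximalIdeal _ := IsLocalRing.le_maximalIdeal hPprime.ne_top
      have h2 := Ideal.comap_mono (f := algebraMap Γ(X, W) (X.presheaf.stalk x)) h1
      have h3 := IsLocalization.AtPrime.under_maximalIdeal (X.presheaf.stalk x) q.asIdeal
      rw [Ideal.under_def] at h3
      rwa [h3] at h2
    have hpmin : p ∈ minimalPrimes Γ(X, W) := by
      refine ⟨⟨hpprime, bot_le⟩, fun p' hp' hp'p => ?_⟩
      haveI : p'.IsPrime := hp'.1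
      have hdisj : Disjoint (q.asIdeal.primeCompl : Set Γ(X, W)) (p' : Set Γ(X, W)) := by
        rw [Set.disjoint_left]
        intro a ha ha'
        exact ha (hpq (hp'p ha'))
      have hP' : (p'.map (algebraMap Γ(X, W) (X.presheaf.stalk x))).IsPrime :=
        IsLocalization.isPrime_of_isPrime_disjoint q.asIdeal.primeCompl _ p' inferInstance hdisj
      have hcomap : (p'.map (algebraMap Γ(X, W) (X.presheaf.stalk x))).comap
          (algebraMap Γ(X, W) (X.presheaf.stalk x)) = p' :=
        IsLocalization.under_map_of_isPrime_disjoint q.asIdeal.primeCompl _ inferInstance hdisj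
      have hle : p'.map (algebraMap Γ(X, W) (X.presheaf.stalk x)) ≤ P := by
        rw [Ideal.map_le_iff_le_comap]; exact hp'p
      have h5 := hP.2 ⟨hP', bot_le⟩ hle
      calc p ≤ (p'.map (algebraMap Γ(X, W) (X.presheaf.stalk x))).comap
            (algebraMap Γ(X, W) (X.presheaf.stalk x)) := Ideal.comap_mono h5
        _ = p' := hcomap
    obtain ⟨t, htp, n, htn⟩ := exists_notMem_mul_pow_eq_zero hpmin hgp
    set zp : X := hW.fromSpec ⟨p, hpprime⟩ with hzp
    have hzpW : zp ∈ W := by
      have : zp ∈ Set.range hW.fromSpec := ⟨_, rfl⟩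
      rwa [hW.range_fromSpec] at this
    have hzpt : zp ∈ X.basicOpen t := by
      have h1 : (⟨p, hpprime⟩ : PrimeSpectrum Γ(X, W)) ∈ hW.fromSpec ⁻¹ᵁ X.basicOpen t := by
        rw [hW.fromSpec_preimage_basicOpen]
        exact htp
      exact h1
    have hzpπ : zp ∉ X.basicOpen (phi f W π) := by
      intro h0
      have h1 : (⟨p, hpprime⟩ : PrimeSpectrum Γ(X, W)) ∈
          hW.fromSpec ⁻¹ᵁ X.basicOpen (phi f W π) := h0
      rw [hW.fromSpec_preimage_basicOpen] at h1
      exact h1 hgp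
    have hfzp : f zp = f x := by
      rw [hx]
      rcases eq_genPt_or_closedPoint (f zp) with h0 | h0
      · exact absurd (mem_basicOpen_phi_of_eq_genPt f hπ hzpW h0) hzpπ
      · exact h0
    have hsp : zp ⤳ x := by
      have h1 : (⟨p, hpprime⟩ : PrimeSpectrum Γ(X, W)) ⤳ q :=
        (PrimeSpectrum.le_iff_specializes _ _).1 hpq
      have h2 := h1.map hW.fromSpec.continuous
      rwa [hqx] at h2
    let z : ↥(f.fiber (f x)) := (f.fiberHomeo (f x)).symm ⟨zp, hfzp⟩
    have hιz : f.fiberι (f x) z = zp := f.fiberι_fiberHomeo_symm (f x) ⟨zp, hfzp⟩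
    have hind := (f.fiberι (f x)).isEmbedding.isInducing
    have c1 : f.asFiber x ∈ closure {z} := by
      rw [hind.closure_eq_preimage_closure_image, Set.image_singleton, Set.mem_preimage,
        f.fiberι_asFiber, hιz]
      exact specializes_iff_mem_closure.1 hsp
    have c2 : ∀ z' : ↥(f.fiber (f x)), z ∈ closure {z'} → z' = z := by
      intro z' hz'
      rw [hind.closure_eq_preimage_closure_image, Set.image_singleton, Set.mem_preimage,
        hιz] at hz'
      have hsw : f.fiberι (f x) z' ⤳ zp := specializes_iff_mem_closure.2 hz'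
      have hwW : f.fiberι (f x) z' ∈ W := hsw.mem_open W.isOpen hzpW
      set pw := hW.primeIdealOf ⟨f.fiberι (f x) z', hwW⟩ with hpw
      have hpwx : hW.fromSpec pw = f.fiberι (f x) z' := hW.fromSpec_primeIdealOf ⟨_, hwW⟩
      have h1 : pw ⤳ (⟨p, hpprime⟩ : PrimeSpectrum Γ(X, W)) := by
        have h0 : hW.fromSpec pw ⤳ hW.fromSpec ⟨p, hpprime⟩ := by rw [hpwx]; exact hsw
        exact (hW.fromSpec.isOpenEmbedding.isInducing.specializes_iff).1 h0
      have h2 : pw.asIdeal ≤ p := (PrimeSpectrum.le_iff_specializes pw ⟨p, hpprime⟩).2 h1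
      have h3 : p ≤ pw.asIdeal := hpmin.2 ⟨pw.isPrime, bot_le⟩ h2
      have h4 : pw = ⟨p, hpprime⟩ := PrimeSpectrum.ext (le_antisymm h2 h3)
      apply (f.fiberι (f x)).isEmbedding.injective
      rw [hιz, ← hpwx, h4]
    have hnhds : (X.basicOpen t : Set X) ∈ nhds (f.fiberι (f x) z) := by
      rw [hιz]
      exact (X.basicOpen t).isOpen.mem_nhds hzpt
    have h6 := h z c1 c2 _ hnhds
    rw [hιz, mem_nhds_iff] at h6
    obtain ⟨O, hOsub, hOopen, hOmem⟩ := h6
    have hgen : genPt R ∈ O := (genPt_specializes (f zp)).mem_open hOopen hOmem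
    obtain ⟨w, hwt, hfw⟩ := hOsub hgen
    have hwW : w ∈ W := X.basicOpen_le t hwt
    have hwπ : w ∈ X.basicOpen (phi f W π) := mem_basicOpen_phi_of_eq_genPt f hπ hwW hfw
    have hw0 : w ∈ X.basicOpen (t * phi f W π ^ n) := by
      rw [X.mem_basicOpen _ w hwW, map_mul, map_pow]
      exact ((X.mem_basicOpen _ w hwW).1 hwt).mul (((X.mem_basicOpen _ w hwW).1 hwπ).pow n)
    rw [htn, X.basicOpen_zero] at hw0
    exact hw0
  have hnzd : πB ∈ nonZeroDivisors (X.presheaf.stalk x) :=
    mem_nonZeroDivisors_of_isLocalRing πB hπm hmin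
  -- flatness over `R`
  let ψ : R →+* X.presheaf.stalk x := (algebraMap Γ(X, W) (X.presheaf.stalk x)).comp (phi f W)
  have hψ : ψ.Flat := by
    letI : Algebra R (X.presheaf.stalk x) := ψ.toAlgebra
    exact flat_of_mem_nonZeroDivisors hπ hnzd
  -- transfer to the stalk map
  let Y := Spec (CommRingCat.of R)
  let χ : Γ(Y, ⊤) →+* X.presheaf.stalk x := ψ.comp (Scheme.ΓSpecIso (CommRingCat.of R)).hom.hom
  have hχ : χ.Flat := by
    have h2 : (Scheme.ΓSpecIso (CommRingCat.of R)).hom.hom.Flat :=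
      RingHom.Flat.of_bijective
        (ConcreteCategory.bijective_of_isIso (Scheme.ΓSpecIso (CommRingCat.of R)).hom)
    exact RingHom.Flat.comp h2 hψ
  have hχeq : ∀ a : Γ(Y, ⊤), χ a = (f.stalkMap x).hom
      ((Y.presheaf.germ ⊤ (f x) trivial).hom a) := by
    intro a
    have h1 := f.germ_stalkMap_apply ⊤ x trivial a
    rw [h1]
    show (X.presheaf.germ W x hxW).hom (phi f W ((Scheme.ΓSpecIso (CommRingCat.of R)).hom.hom a)) = _
    rw [phi_apply]
    have h2 : (Scheme.ΓSpecIso (CommRingCat.of R)).inv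
        ((Scheme.ΓSpecIso (CommRingCat.of R)).hom.hom a) = a := by
      rw [← CommRingCat.comp_apply, Iso.hom_inv_id]; rfl
    rw [h2]
    exact X.presheaf.germ_res_apply (homOfLE (le_top : W ≤ ⊤)) x hxW _
  letI algYS : Algebra Γ(Y, ⊤) (Y.presheaf.stalk (f x)) :=
    TopCat.Presheaf.algebra_section_stalk Y.presheaf (⟨f x, trivial⟩ : (⊤ : Y.Opens))
  haveI locS := (isAffineOpen_top Y).isLocalization_stalk ⟨f x, trivial⟩
  letI algSB : Algebra (Y.presheaf.stalk (f x)) (X.presheaf.stalk x) :=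
    (f.stalkMap x).hom.toAlgebra
  letI algΓB : Algebra Γ(Y, ⊤) (X.presheaf.stalk x) := χ.toAlgebra
  haveI : IsScalarTower Γ(Y, ⊤) (Y.presheaf.stalk (f x)) (X.presheaf.stalk x) :=
    IsScalarTower.of_algebraMap_eq hχeq
  have hfin : Module.Flat Γ(Y, ⊤) (X.presheaf.stalk x) := hχ
  exact (Module.flat_iff_of_isLocalization (Y.presheaf.stalk (f x))
    ((isAffineOpen_top Y).primeIdealOf ⟨f x, trivial⟩).asIdeal.primeCompl
    (X.presheaf.stalk x)).2 hfin

end DVR

end Groth.Agent.Lib.Helper10.DVRFibre
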