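import Mathlib

/-!
# Integral closedness from a localization with reduced quotient (helper10)
-/

namespace Groth.Agent.Lib.Helper10.DVRNormal

open Polynomial

/-- `A → B` injective, `π` invertible in `B`, every element of `B` is `a / π ^ n`, `A / π` reduced:
every element of `B` integral over `A` lies in `A`. -/
theorem mem_range_of_isIntegral {A B : Type*} [CommRing A] [CommRing B] [Algebra A B]
    (hinj : Function.Injective (algebraMap A B)) (π : A)
    (hπ : IsUnit (algebraMap A B π))
    (hB : ∀ b : B, ∃ n : ℕ, ∃ a : A, algebraMap A B a = algebraMap A B π ^ n * b)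
    [IsReduced (A ⧸ Ideal.span {π})] (b : B) (hb : IsIntegral A b) :
    ∃ a : A, algebraMap A B a = b := by
  classical
  have hn := Nat.find_spec (hB b)
  have hmin := fun m => Nat.find_min (hB b) (m := m)
  set n := Nat.find (hB b) with hn_def
  rcases Nat.eq_zero_or_eq_succ_pred n with h0 | hsucc
  · obtain ⟨a, ha⟩ := hn
    rw [h0, pow_zero, one_mul] at ha
    exact ⟨a, ha⟩
  · exfalso
    obtain ⟨a, ha⟩ := hn
    set m := n.pred with hm
    rw [hsucc] at ha
    obtain ⟨p, hp, hpb⟩ := hb
    rw [← aeval_def] at hpb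
    set s : A := π ^ (m + 1) with hs
    have h1 : aeval (algebraMap A B s * b) (scaleRoots p s) = 0 := scaleRoots_aeval_eq_zero hpb
    rw [hs, map_pow, ← ha, aeval_algebraMap_apply, ← hs] at h1
    have h2 : eval a (scaleRoots p s) = 0 := by
      apply hinj
      rw [map_zero, ← h1, coe_aeval_eq_eval]
    -- reduce mod π
    have h3 : (scaleRoots p s).map (Ideal.Quotient.mk (Ideal.span {π})) = X ^ p.natDegree := by
      ext i
      rw [coeff_map, coeff_scaleRoots, coeff_X_pow]
      split_ifs with hi
      · rw [hi, Nat.sub_self, pow_zero, mul_one]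
        have : p.coeff p.natDegree = 1 := hp
        rw [this, map_one]
      · rcases lt_or_gt_of_ne hi with hlt | hgt
        · have : s ^ (p.natDegree - i) ∈ Ideal.span {π} := by
            rw [hs, ← pow_mul, Nat.succ_mul, pow_add]
            have hpos : 0 < p.natDegree - i := Nat.sub_pos_of_lt hlt
            obtain ⟨k, hk⟩ := Nat.exists_eq_succ_of_ne_zero hpos.ne'
            rw [hk, pow_succ]
            exact Ideal.mul_mem_left _ _ (Ideal.mul_mem_left _ _ (Ideal.subset_span rfl))
          rw [map_mul, Ideal.Quotient.eq_zero_iff_mem.2 this, mul_zero]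
        · rw [coeff_eq_zero_of_natDegree_lt hgt, zero_mul, map_zero]
    have h4 : (Ideal.Quotient.mk (Ideal.span {π}) a) ^ p.natDegree = 0 := by
      have := congrArg (eval (Ideal.Quotient.mk (Ideal.span {π}) a)) h3
      rw [eval_map, eval₂_hom, h2, map_zero, eval_pow, eval_X] at this
      exact this.symm
    have h5 : Ideal.Quotient.mk (Ideal.span {π}) a = 0 :=
      IsReduced.eq_zero _ ⟨_, h4⟩
    rw [Ideal.Quotient.eq_zero_iff_mem, Ideal.mem_span_singleton'] at h5
    obtain ⟨a', ha'⟩ := h5
    apply hmin m (by rw [hsucc]; exact Nat.lt_succ_self m)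
    refine ⟨a', ?_⟩
    apply hπ.mul_left_cancel
    rw [← mul_assoc, ← pow_succ', ← ha, ← ha', map_mul, mul_comm]

end Groth.Agent.Lib.Helper10.DVRNormal
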