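import Mathlib

/-!
# Flatness over a Dedekind scheme (helper10)

* `isPrincipalIdealRing_of_regular` : a regular local domain of dimension `≤ 1` is a PID.
* `genericPoint_of_flat` : for flat `f : X ⟶ Y` with `Y` irreducible, generic points of
  irreducible components of `X` map to the generic point.
* `flat_of_maximal_points` : `X` reduced, `Y` integral with PID stalks: if every maximal point of
  `X` maps to the generic point of `Y`, then `f` is flat.
-/

set_option autoImplicit false
universe u
open CategoryTheory CategoryTheory.Limits AlgebraicGeometry TopologicalSpace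

namespace Groth.Agent.Lib.Helper10.DedFlat

lemma isPrincipalIdealRing_of_regular (R : Type u) [CommRing R] [IsDomain R]
    [IsRegularLocalRing R] (h : ringKrullDim R ≤ 1) : IsPrincipalIdealRing R := by
  have hsp := IsRegularLocalRing.spanFinrank_maximalIdeal (R := R)
  have hle : (IsLocalRing.maximalIdeal R).spanFinrank ≤ 1 := by
    have : ((IsLocalRing.maximalIdeal R).spanFinrank : WithBot ℕ∞) ≤ 1 := hsp ▸ h
    exact_mod_cast this
  have hprin : (IsLocalRing.maximalIdeal R).IsPrincipal := by
    rcases Nat.le_one_iff_eq_zero_or_eq_one.mp hle with h0 | h1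
    · rw [Submodule.spanFinrank_eq_zero_iff_eq_bot (IsNoetherian.noetherian _)] at h0
      rw [h0]
      infer_instance
    · exact ((Submodule.spanFinrank_eq_one_iff _).mp h1).1
  exact ((tfae_of_isNoetherianRing_of_isLocalRing_of_isDomain
    (R := R)).out 4 0).mp hprin

section top
variable {T : Type*} [TopologicalSpace T]

lemma closure_mem_irreducibleComponents_of_max [QuasiSober T] {y : T}
    (hy : ∀ y' : T, y' ⤳ y → y ⤳ y') :
    closure ({y} : Set T) ∈ irreducibleComponents T := by
  refine ⟨isIrreducible_singleton.closure, fun A hA hle => ?_⟩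
  have hA' : IsIrreducible (closure A) := hA.closure
  let gp := hA'.genericPoint
  have hgp : IsGenericPoint gp (closure A) := hA'.isGenericPoint_genericPoint isClosed_closure
  have h1 : gp ⤳ y := hgp.specializes (subset_closure (hle (subset_closure rfl)))
  have h2 : y ⤳ gp := hy gp h1
  intro a ha
  have h3 : gp ⤳ a := hgp.specializes (subset_closure ha)
  exact (h2.trans h3).mem_closure

end top

/-- In a reduced ring, an element outside all minimal primes is a nonzerodivisor. -/
lemma eq_zero_of_mul_eq_zero_of_notMem_minimalPrimes {B : Type*} [CommRing B] [IsReduced B]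
    {b c : B} (hb : ∀ q ∈ minimalPrimes B, b ∉ q) (h : b * c = 0) : c = 0 := by
  have hc : c ∈ sInf (minimalPrimes B) := by
    rw [Submodule.mem_sInf]
    intro q hq
    have hq' : Ideal.IsPrime q := hq.1.1
    have : b * c ∈ q := h ▸ q.zero_mem
    exact (hq'.mem_or_mem this).resolve_left (hb q hq)
  have h0 : sInf (minimalPrimes B) = (⊥ : Ideal B) := by
    have := Ideal.sInf_minimalPrimes (I := (⊥ : Ideal B))
    rw [this]
    exact nilradical_eq_zero B
  rw [h0] at hc
  exact hc

/-- Flat morphisms map generic points of irreducible components to the generic point. -/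
lemma map_eq_genericPoint_of_flat {X Y : Scheme.{u}} [IrreducibleSpace Y] (f : X ⟶ Y) [Flat f]
    (ξ : X) (hξ : ∀ ξ' : X, ξ' ⤳ ξ → ξ ⤳ ξ') : f ξ = genericPoint Y := by
  obtain ⟨ξ', hξ', hf⟩ := Flat.generalizingMap f (genericPoint_specializes (f ξ))
  have h1 : f ξ ⤳ genericPoint Y := by
    rw [← hf]
    exact (hξ ξ' hξ').map f.continuous
  exact (h1.antisymm (genericPoint_specializes _)).eq

theorem dense_image_of_flat {X Y : Scheme.{u}} [IrreducibleSpace Y] (f : X ⟶ Y) [Flat f]
    (Z : Set X) (hZ : Z ∈ irreducibleComponents X) : Dense (f '' Z) := by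
  have hcl : IsClosed Z := isClosed_of_mem_irreducibleComponents _ hZ
  obtain ⟨ξ, hξ⟩ := QuasiSober.sober hZ.1 hcl
  have hmax : ∀ ξ' : X, ξ' ⤳ ξ → ξ ⤳ ξ' := by
    intro ξ' h
    have h1 : Z ≤ closure ({ξ'} : Set X) := by
      rw [← hξ.def]
      exact closure_minimal (Set.singleton_subset_iff.mpr h.mem_closure) isClosed_closure
    have h2 : closure ({ξ'} : Set X) ≤ Z := hZ.2 isIrreducible_singleton.closure h1
    have : ξ' ∈ Z := h2 (subset_closure rfl)
    exact hξ.specializes this
  have h1 := map_eq_genericPoint_of_flat f ξ hmax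
  have h2 : genericPoint Y ∈ f '' Z := ⟨ξ, hξ.mem, h1⟩
  have h3 : closure ({genericPoint Y} : Set Y) = Set.univ := (genericPoint_spec Y).def
  rw [dense_iff_closure_eq, ← Set.univ_subset_iff, ← h3]
  exact closure_mono (Set.singleton_subset_iff.mpr h2)

theorem flat_of_maximal_points {X Y : Scheme.{u}} [IsIntegral Y] (f : X ⟶ Y) [IsReduced X]
    (hpid : ∀ y : Y, IsPrincipalIdealRing (Y.presheaf.stalk y))
    (h : ∀ ξ : X, (∀ ξ' : X, ξ' ⤳ ξ → ξ ⤳ ξ') → f ξ = genericPoint Y) : Flat f := by
  rw [Flat.iff_flat_stalkMap]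
  intro x
  set φ := (f.stalkMap x).hom with hφ
  rw [RingHom.Flat]
  letI : Algebra (Y.presheaf.stalk (f x)) (X.presheaf.stalk x) := φ.toAlgebra
  haveI := hpid (f x)
  suffices htf : Module.IsTorsionFree (Y.presheaf.stalk (f x)) (X.presheaf.stalk x) by
    infer_instance
  have key : ∀ a : Y.presheaf.stalk (f x), a ≠ 0 →
      ∀ q ∈ minimalPrimes (X.presheaf.stalk x), φ a ∉ q := by
    intro a ha0 q hq haq
    have hqp : q.IsPrime := hq.1.1
    let qq : Spec (X.presheaf.stalk x) := ⟨q, hqp⟩
    set ξ : X := X.fromSpecStalk x qq with hξ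
    have hemb := (X.fromSpecStalk x).isEmbedding
    have hξx : ξ ⤳ x := by
      have : ξ ∈ Set.range (X.fromSpecStalk x) := ⟨qq, rfl⟩
      rw [Scheme.range_fromSpecStalk] at this
      exact this
    have hmax : ∀ ξ' : X, ξ' ⤳ ξ → ξ ⤳ ξ' := by
      intro ξ' hξ'
      have h1 : ξ' ∈ Set.range (X.fromSpecStalk x) := by
        rw [Scheme.range_fromSpecStalk]
        exact hξ'.trans hξx
      obtain ⟨q', rfl⟩ := h1
      have h2 : q' ⤳ qq := hemb.isInducing.specializes_iff.mp hξ'
      have h3 : q'.asIdeal ≤ q := (PrimeSpectrum.le_iff_specializes q' qq).mpr h2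
      have h4 : q ≤ q'.asIdeal := hq.2 ⟨q'.isPrime, bot_le⟩ h3
      have h5 : qq ⤳ q' := (PrimeSpectrum.le_iff_specializes qq q').mp h4
      exact h5.map (X.fromSpecStalk x).continuous
    have hgen := h ξ hmax
    have hsq := Scheme.SpecMap_stalkMap_fromSpecStalk (f := f) (x := x)
    set 𝔭 : Spec (Y.presheaf.stalk (f x)) := Spec.map (f.stalkMap x) qq with h𝔭
    have h6 : Y.fromSpecStalk (f x) 𝔭 = genericPoint Y := by
      rw [← hgen, hξ, h𝔭, ← Scheme.Hom.comp_apply, hsq, Scheme.Hom.comp_apply]
    let bot : Spec (Y.presheaf.stalk (f x)) := ⟨⊥, Ideal.isPrime_bot⟩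
    have h7 : bot ⤳ 𝔭 := (PrimeSpectrum.le_iff_specializes bot 𝔭).mp (bot_le (a := 𝔭.asIdeal))
    have h8 : Y.fromSpecStalk (f x) bot ⤳ genericPoint Y := by
      rw [← h6]
      exact h7.map (Y.fromSpecStalk (f x)).continuous
    have h9 : Y.fromSpecStalk (f x) bot = Y.fromSpecStalk (f x) 𝔭 := by
      rw [h6]
      exact (h8.antisymm (genericPoint_specializes _)).eq
    have h10 : bot = 𝔭 := (Y.fromSpecStalk (f x)).isEmbedding.injective h9
    have h11 : a ∈ 𝔭.asIdeal := haq
    rw [← h10] at h11
    exact ha0 h11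
  constructor
  intro a ha s t hst
  have ha0 : a ≠ 0 := ha.ne_zero
  have hmul : φ a * (s - t) = 0 := by
    rw [mul_sub, sub_eq_zero]
    exact hst
  exact sub_eq_zero.mp (eq_zero_of_mul_eq_zero_of_notMem_minimalPrimes (key a ha0) hmul)

end Groth.Agent.Lib.Helper10.DedFlat
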