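import Mathlib
import Groth.Agent.Lib.Helper10DedFlat

/-!
# Flatness over a Dedekind scheme via associated points (helper10)

* `isAssociatedPrime_stalk_fromSpecStalk` : for `X` locally Noetherian, an associated prime `q` of the
  local ring `O_{X,x}` gives a point `ξ = fromSpecStalk x q` whose maximal ideal is associated.
* `flat_of_assPoints` : `Y` integral with PID stalks, `X` locally Noetherian; if every point `ξ` with
  `m_ξ ∈ Ass(O_{X,ξ})` maps to the generic point of `Y` then `f` is flat.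
* `map_eq_genericPoint_of_flat_of_ass` : converse.
-/

set_option autoImplicit false
universe u
open CategoryTheory CategoryTheory.Limits AlgebraicGeometry TopologicalSpace

namespace Groth.Agent.Lib.Helper10.DedFlat

lemma isAssociatedPrime_stalk_fromSpecStalk {X : Scheme.{u}} [IsLocallyNoetherian X] (x : X)
    (q : Ideal (X.presheaf.stalk x))
    (hq : q ∈ associatedPrimes (X.presheaf.stalk x) (X.presheaf.stalk x)) (hqp : q.IsPrime) :
    IsAssociatedPrime
      (IsLocalRing.maximalIdeal (X.presheaf.stalk (X.fromSpecStalk x ⟨q, hqp⟩)))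
      (X.presheaf.stalk (X.fromSpecStalk x ⟨q, hqp⟩)) := by
  obtain ⟨_, ⟨U, hU, rfl⟩, hxU, -⟩ :=
    X.isBasis_affineOpens.exists_subset_of_mem_open (Set.mem_univ x) isOpen_univ
  have hU : IsAffineOpen U := hU
  haveI : IsNoetherianRing Γ(X, U) := IsLocallyNoetherian.component_noetherian ⟨U, hU⟩
  letI alg : Algebra Γ(X, U) (X.presheaf.stalk x) := X.presheaf.algebra_section_stalk ⟨x, hxU⟩
  haveI loc : IsLocalization.AtPrime (X.presheaf.stalk x) (hU.primeIdealOf ⟨x, hxU⟩).asIdeal :=
    hU.isLocalization_stalk ⟨x, hxU⟩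
  haveI : IsLocalizedModule (hU.primeIdealOf ⟨x, hxU⟩).asIdeal.primeCompl
      (Algebra.linearMap Γ(X, U) (X.presheaf.stalk x)) :=
    (isLocalizedModule_iff_isLocalization' _ _).mpr loc
  -- the prime `q₀` of `Γ(X, U)` below `q`
  have hq0 : q.comap (algebraMap Γ(X, U) (X.presheaf.stalk x)) ∈
      associatedPrimes Γ(X, U) Γ(X, U) :=
    Module.associatedPrimes.comap_mem_associatedPrimes_of_mem_associatedPrimes_of_isLocalizedModule_of_fg
      (hU.primeIdealOf ⟨x, hxU⟩).asIdeal.primeCompl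
      (Algebra.linearMap Γ(X, U) (X.presheaf.stalk x)) q hq
      ((isNoetherianRing_iff_ideal_fg _).mp inferInstance _)
  set qq : Spec (X.presheaf.stalk x) := ⟨q, hqp⟩ with hqq
  set ξ : X := X.fromSpecStalk x qq with hξ
  set y₀ : Spec Γ(X, U) := Spec.map (X.presheaf.germ U x hxU) qq with hy₀
  have hξ' : ξ = hU.fromSpec y₀ := by
    rw [hξ, ← hU.fromSpecStalk_eq_fromSpecStalk hxU]
    rfl
  have hξU : ξ ∈ U := by
    rw [hξ']
    have : hU.fromSpec y₀ ∈ Set.range hU.fromSpec := ⟨y₀, rfl⟩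
    rw [hU.range_fromSpec] at this
    exact this
  have hprime : hU.primeIdealOf ⟨ξ, hξU⟩ = y₀ := by
    apply hU.fromSpec.isOpenEmbedding.injective
    rw [hU.fromSpec_primeIdealOf ⟨ξ, hξU⟩]
    exact hξ'
  letI alg' : Algebra Γ(X, U) (X.presheaf.stalk ξ) := X.presheaf.algebra_section_stalk ⟨ξ, hξU⟩
  haveI loc' : IsLocalization.AtPrime (X.presheaf.stalk ξ) (hU.primeIdealOf ⟨ξ, hξU⟩).asIdeal :=
    hU.isLocalization_stalk ⟨ξ, hξU⟩
  haveI : IsLocalizedModule (hU.primeIdealOf ⟨ξ, hξU⟩).asIdeal.primeCompl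
      (Algebra.linearMap Γ(X, U) (X.presheaf.stalk ξ)) :=
    (isLocalizedModule_iff_isLocalization' _ _).mpr loc'
  have hc : (IsLocalRing.maximalIdeal (X.presheaf.stalk ξ)).comap
      (algebraMap Γ(X, U) (X.presheaf.stalk ξ)) = (hU.primeIdealOf ⟨ξ, hξU⟩).asIdeal :=
    IsLocalization.AtPrime.under_maximalIdeal _ _
  have hy₀q : y₀.asIdeal = q.comap (algebraMap Γ(X, U) (X.presheaf.stalk x)) := rfl
  apply Module.associatedPrimes.mem_associatedPrimes_of_comap_mem_associatedPrimes_of_isLocalizedModule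
    (hU.primeIdealOf ⟨ξ, hξU⟩).asIdeal.primeCompl
    (Algebra.linearMap Γ(X, U) (X.presheaf.stalk ξ))
  rw [hc, hprime, hy₀q]
  exact hq0

/-- If the point of `X` given by a prime `qq` of `O_{X,x}` maps to the generic point of the integral
scheme `Y`, then the preimage of `qq` in `O_{Y,f x}` is zero. -/
lemma eq_zero_of_stalkMap_mem {X Y : Scheme.{u}} [IsIntegral Y] (f : X ⟶ Y) (x : X)
    (qq : Spec (X.presheaf.stalk x)) (hgen : f (X.fromSpecStalk x qq) = genericPoint Y)
    (a : Y.presheaf.stalk (f x)) (haq : (f.stalkMap x).hom a ∈ qq.asIdeal) : a = 0 := by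
  have hsq := Scheme.SpecMap_stalkMap_fromSpecStalk (f := f) (x := x)
  set 𝔭 : Spec (Y.presheaf.stalk (f x)) := Spec.map (f.stalkMap x) qq with h𝔭
  have h6 : Y.fromSpecStalk (f x) 𝔭 = genericPoint Y := by
    rw [← hgen, h𝔭, ← Scheme.Hom.comp_apply, hsq, Scheme.Hom.comp_apply]
  let bot : Spec (Y.presheaf.stalk (f x)) := ⟨⊥, Ideal.isPrime_bot⟩
  have h7 : bot ⤳ 𝔭 := (PrimeSpectrum.le_iff_specializes bot 𝔭).mp (bot_le (a := 𝔭.asIdeal))
  have h8 : Y.fromSpecStalk (f x) bot ⤳ genericPoint Y := by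
    rw [← h6]
    exact h7.map (Y.fromSpecStalk (f x)).continuous
  have h9 : Y.fromSpecStalk (f x) bot = Y.fromSpecStalk (f x) 𝔭 := by
    rw [h6]
    exact (h8.antisymm (genericPoint_specializes _)).eq
  have h10 : bot = 𝔭 := (Y.fromSpecStalk (f x)).isEmbedding.injective h9
  have h11 : a ∈ 𝔭.asIdeal := haq
  rw [← h10] at h11
  exact h11

theorem flat_of_assPoints {X Y : Scheme.{u}} [IsIntegral Y] [IsLocallyNoetherian X] (f : X ⟶ Y)
    (hpid : ∀ y : Y, IsPrincipalIdealRing (Y.presheaf.stalk y))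
    (h : ∀ ξ : X, IsAssociatedPrime (IsLocalRing.maximalIdeal (X.presheaf.stalk ξ))
      (X.presheaf.stalk ξ) → f ξ = genericPoint Y) : Flat f := by
  rw [Flat.iff_flat_stalkMap]
  intro x
  set φ := (f.stalkMap x).hom with hφ
  rw [RingHom.Flat]
  letI : Algebra (Y.presheaf.stalk (f x)) (X.presheaf.stalk x) := φ.toAlgebra
  haveI := hpid (f x)
  suffices htf : Module.IsTorsionFree (Y.presheaf.stalk (f x)) (X.presheaf.stalk x) by
    infer_instance
  haveI : IsNoetherianRing (X.presheaf.stalk x) := inferInstance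
  constructor
  intro a ha s t hst
  have ha0 : a ≠ 0 := ha.ne_zero
  have hmul : φ a * (s - t) = 0 := by
    rw [mul_sub, sub_eq_zero]
    exact hst
  by_contra hne
  have hb : s - t ≠ 0 := sub_ne_zero.mpr hne
  obtain ⟨q, hq, hle⟩ := exists_le_isAssociatedPrime_of_isNoetherianRing
    (R := X.presheaf.stalk x) (s - t) hb
  have hqp : q.IsPrime := hq.isPrime
  have haq : φ a ∈ q := by
    apply hle
    rw [Submodule.mem_colon_singleton]
    exact hmul
  have hass := isAssociatedPrime_stalk_fromSpecStalk x q hq hqp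
  have hgen := h _ hass
  exact ha0 (eq_zero_of_stalkMap_mem f x ⟨q, hqp⟩ hgen a haq)

theorem map_eq_genericPoint_of_flat_of_ass {X Y : Scheme.{u}} [IsIntegral Y] [IsLocallyNoetherian X]
    (f : X ⟶ Y) [Flat f] (x : X)
    (hx : IsAssociatedPrime (IsLocalRing.maximalIdeal (X.presheaf.stalk x)) (X.presheaf.stalk x)) :
    f x = genericPoint Y := by
  by_contra hne
  set φ := (f.stalkMap x).hom with hφ
  have hfl : φ.Flat := (Flat.iff_flat_stalkMap f).mp inferInstance x
  rw [RingHom.Flat] at hfl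
  letI : Algebra (Y.presheaf.stalk (f x)) (X.presheaf.stalk x) := φ.toAlgebra
  -- a nonzero element of the maximal ideal of `O_{Y, f x}`
  have hex : ∃ a ∈ IsLocalRing.maximalIdeal (Y.presheaf.stalk (f x)), a ≠ 0 := by
    by_contra hcon
    push Not at hcon
    apply hne
    -- then `Spec O_{Y,f x}` is a point
    have hgen : genericPoint Y ∈ Set.range (Y.fromSpecStalk (f x)) := by
      rw [Scheme.range_fromSpecStalk]
      exact genericPoint_specializes _
    obtain ⟨p, hp⟩ := hgen
    have hpm : p.asIdeal = IsLocalRing.maximalIdeal (Y.presheaf.stalk (f x)) := by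
      apply le_antisymm (IsLocalRing.le_maximalIdeal p.isPrime.ne_top)
      intro a ha
      rw [hcon a ha]
      exact p.asIdeal.zero_mem
    have : p = IsLocalRing.closedPoint (Y.presheaf.stalk (f x)) := PrimeSpectrum.ext hpm
    rw [← hp, this, Scheme.fromSpecStalk_closedPoint]
  obtain ⟨a, ham, ha0⟩ := hex
  haveI : IsNoetherianRing (X.presheaf.stalk x) := inferInstance
  obtain ⟨-, b, hb⟩ := isAssociatedPrime_iff.mp hx
  have hφa : φ a ∈ IsLocalRing.maximalIdeal (X.presheaf.stalk x) := by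
    have : IsLocalHom φ := inferInstance
    exact (IsLocalRing.mem_maximalIdeal _).mpr fun hu =>
      (IsLocalRing.mem_maximalIdeal _).mp ham ((isUnit_map_iff φ a).mp hu)
  rw [hb, Submodule.mem_colon_singleton] at hφa
  have hb0 : b ≠ 0 := by
    rintro rfl
    have h1 : (1 : X.presheaf.stalk x) ∈ IsLocalRing.maximalIdeal (X.presheaf.stalk x) := by
      rw [hb, Submodule.mem_colon_singleton]; simp
    exact (IsLocalRing.mem_maximalIdeal _).mp h1 isUnit_one
  have hreg : IsSMulRegular (X.presheaf.stalk x) a :=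
    Module.Flat.isSMulRegular_of_isRegular (IsRegular.of_ne_zero ha0)
  apply hb0
  apply hreg
  change φ a * b = φ a * 0
  rw [mul_zero]
  exact hφa

end Groth.Agent.Lib.Helper10.DedFlat
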