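import Mathlib

/-!
# Two degreewise splittings give homotopic boundary maps (helper10)
-/
set_option autoImplicit false
open CategoryTheory CategoryTheory.Limits
universe v u
open CochainComplex HomologicalComplex HomComplex

namespace Groth.Agent.Lib.Helper10.DegSplit

variable {C : Type u} [Category.{v} C] [Preadditive C]
  (S : ShortComplex (CochainComplex C ℤ))
  (σ σ' : ∀ n : ℤ, (S.map (HomologicalComplex.eval C (ComplexShape.up ℤ) n)).Splitting)

/-- the section in degree `p` -/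
def sec (p : ℤ) : S.X₃.X p ⟶ S.X₂.X p := (σ p).s
/-- the retraction in degree `p` -/
def ret (p : ℤ) : S.X₂.X p ⟶ S.X₁.X p := (σ p).r

theorem sec_g (p : ℤ) : sec S σ p ≫ S.g.f p = 𝟙 _ := (σ p).s_g
theorem f_ret (p : ℤ) : S.f.f p ≫ ret S σ p = 𝟙 _ := (σ p).f_r
theorem sec_ret (p : ℤ) : sec S σ p ≫ ret S σ p = 0 := (σ p).s_r
theorem split_id (p : ℤ) : ret S σ p ≫ S.f.f p + S.g.f p ≫ sec S σ p = 𝟙 _ := (σ p).id
theorem f_g (p : ℤ) : S.f.f p ≫ S.g.f p = 0 := by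
  rw [← HomologicalComplex.comp_f, S.zero]; rfl

/-- the comparison map -/
def hh (p : ℤ) : S.X₃.X p ⟶ S.X₁.X p := sec S σ' p ≫ ret S σ p

theorem s'_eq (p : ℤ) : sec S σ' p = sec S σ p + hh S σ σ' p ≫ S.f.f p := by
  have h1 := split_id S σ p
  have h2 := sec_g S σ' p
  calc sec S σ' p = sec S σ' p ≫ (ret S σ p ≫ S.f.f p + S.g.f p ≫ sec S σ p) := by
        rw [h1, Category.comp_id]
    _ = _ := by rw [Preadditive.comp_add, reassoc_of% h2, add_comm, hh, Category.assoc]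

theorem r'_eq (p : ℤ) : ret S σ' p = ret S σ p - S.g.f p ≫ hh S σ σ' p := by
  have h2 := split_id S σ' p
  have h3 := f_ret S σ p
  have : ret S σ p = (ret S σ' p ≫ S.f.f p + S.g.f p ≫ sec S σ' p) ≫ ret S σ p := by
    rw [h2, Category.id_comp]
  rw [Preadditive.add_comp, Category.assoc, h3, Category.comp_id, Category.assoc] at this
  rw [this, hh]
  abel

theorem cocycle_v (p : ℤ) : (cocycleOfDegreewiseSplit S σ).1.v p (p + 1) rfl =
    sec S σ p ≫ S.X₂.d p (p + 1) ≫ ret S σ (p + 1) := by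
  simp only [cocycleOfDegreewiseSplit, Cocycle.mk_coe, Cochain.mk_v]
  rfl

theorem key (p : ℤ) :
    (cocycleOfDegreewiseSplit S σ').1.v p (p + 1) rfl =
      (cocycleOfDegreewiseSplit S σ).1.v p (p + 1) rfl +
        (hh S σ σ' p ≫ S.X₁.d p (p + 1) - S.X₃.d p (p + 1) ≫ hh S σ σ' (p + 1)) := by
  rw [cocycle_v, cocycle_v, s'_eq S σ σ' p, r'_eq S σ σ' (p + 1)]
  have e1 : S.f.f p ≫ S.X₂.d p (p + 1) = S.X₁.d p (p + 1) ≫ S.f.f (p + 1) := (S.f.comm p (p + 1))
  have e2 : S.X₂.d p (p + 1) ≫ S.g.f (p + 1) = S.g.f p ≫ S.X₃.d p (p + 1) := (S.g.comm p (p + 1)).symm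
  have e3 := f_ret S σ (p + 1)
  have e4 := sec_g S σ p
  have e5 := f_g S (p + 1)
  have e6 := f_g S p
  simp only [Preadditive.add_comp, Preadditive.comp_sub, Category.assoc,
    reassoc_of% e1, reassoc_of% e2, e3, reassoc_of% e4, reassoc_of% e5, reassoc_of% e6,
    Category.comp_id, zero_comp, comp_zero]
  abel

/-- the homotopy cochain -/
def zC : Cochain S.X₃ (S.X₁⟦(1 : ℤ)⟧) (-1) :=
  Cochain.mk (fun p q hpq => by
    exact hh S σ σ' p ≫ (S.X₁.XIsoOfEq (show p = q + 1 by omega)).hom)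

theorem zC_v (p q : ℤ) (hpq : p + (-1) = q) :
    (zC S σ σ').v p q hpq = hh S σ σ' p ≫ (S.X₁.XIsoOfEq (show p = q + 1 by omega)).hom := rfl

theorem aux_abel {G : Type*} [AddCommGroup G] (a b c : G) : a = -b + c + (a + (b - c)) := by
  abel

theorem zC_d (p : ℤ) :
    (zC S σ σ').v p (p - 1) (by omega) ≫ (S.X₁⟦(1 : ℤ)⟧).d (p - 1) p =
      -(hh S σ σ' p ≫ S.X₁.d p (p + 1)) := by
  change (hh S σ σ' p ≫ (S.X₁.XIsoOfEq (show p = p - 1 + 1 by omega)).hom) ≫
    ((1 : ℤ).negOnePow • S.X₁.d (p - 1 + 1) (p + 1)) = _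
  rw [Int.negOnePow_one, Units.neg_smul, one_smul, Preadditive.comp_neg, Category.assoc,
    HomologicalComplex.XIsoOfEq_hom_comp_d]

theorem zC_v_succ (p : ℤ) :
    (zC S σ σ').v (p + 1) p (by omega) = hh S σ σ' (p + 1) := by
  change hh S σ σ' (p + 1) ≫ (S.X₁.XIsoOfEq (show p + 1 = p + 1 by omega)).hom = _
  rw [HomologicalComplex.XIsoOfEq_rfl]
  exact Category.comp_id _

theorem main_eq :
    Cochain.ofHom (homOfDegreewiseSplit S σ) =
      δ (-1) 0 (zC S σ σ') + Cochain.ofHom (homOfDegreewiseSplit S σ') := by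
  apply Cochain.ext₀
  intro p
  rw [Cochain.add_v, Cochain.ofHom_v, Cochain.ofHom_v, homOfDegreewiseSplit_f,
    homOfDegreewiseSplit_f, key S σ σ' p,
    δ_v (-1) 0 rfl (zC S σ σ') p p (add_zero p) (p - 1) (p + 1) rfl rfl, zC_d, zC_v_succ,
    Int.negOnePow_zero, one_smul]
  exact aux_abel _ _ _

theorem nonempty_homotopy :
    Nonempty (Homotopy (homOfDegreewiseSplit S σ) (homOfDegreewiseSplit S σ')) :=
  ⟨(Cochain.equivHomotopy _ _).symm ⟨zC S σ σ', main_eq S σ σ'⟩⟩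

end Groth.Agent.Lib.Helper10.DegSplit
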