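import Mathlib
import Groth.Agent.Lib.Helper10DerComplete2

/-!
# Derived complete rings: the ideal `⋂ Iⁿ` is nilpotent
-/

set_option autoImplicit false
universe u

namespace Groth.Agent.Lib.Helper10.DerComplete

/-- Only the action of the element matters in the criterion. -/
theorem Crit.of_smul_eq {A B : Type*} [CommRing A] [CommRing B] {M : Type*} [AddCommGroup M]
    [Module A M] [Module B M] {g : A} {g' : B} (h : ∀ x : M, g' • x = g • x) (hc : Crit g M) :
    Crit g' M := by
  unfold Crit at hc ⊢
  simpa only [h] using hc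

variable {A : Type u} [CommRing A]

/-- Infinitely `f`-divisible scalars kill infinitely `f`-divisible elements of a derived
`f`-complete module. -/
theorem Crit.smul_eq_zero_of_divisible {M : Type*} [AddCommGroup M] [Module A M] {f : A}
    (hc : Crit f M) {a : A} {x : M} (ha : ∀ n : ℕ, f ^ n ∣ a) (hx : ∀ n : ℕ, ∃ y : M, f ^ n • y = x) :
    a • x = 0 := by
  choose b hb using ha
  choose y hy using hx
  have key : ∀ n, b n • x = f • (b (n + 1) • x) := by
    intro n
    rw [← sub_eq_zero, smul_smul, ← sub_smul]
    have h1 : f ^ n * (b n - f * b (n + 1)) = 0 := by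
      rw [mul_sub, ← hb n, ← mul_assoc, ← pow_succ, ← hb (n + 1), sub_self]
    rw [← hy n, smul_smul, mul_comm, h1, zero_smul]
  have h0 := hc.1 (fun n => b n • x) key 0
  have : a = b 0 := by rw [hb 0, pow_zero, one_mul]
  rw [this]
  exact h0

theorem Crit.quotient_span_singleton {g : A} (c : A) (hc : Crit g A) :
    Crit (Ideal.Quotient.mk (Ideal.span {c}) g) (A ⧸ Ideal.span {c}) := by
  have h1 := Crit.coker (LinearMap.lsmul A A c) hc hc
  have h2 : LinearMap.range (LinearMap.lsmul A A c) = Ideal.span {c} := by
    ext x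
    rw [LinearMap.mem_range, Ideal.mem_span_singleton']
    constructor
    · rintro ⟨y, rfl⟩; exact ⟨y, by simp [mul_comm]⟩
    · rintro ⟨y, rfl⟩; exact ⟨y, by simp [mul_comm]⟩
  rw [h2] at h1
  refine Crit.of_smul_eq (fun x => ?_) h1
  obtain ⟨y, rfl⟩ := Ideal.Quotient.mk_surjective x
  rfl

theorem iInf_pow_pow_eq_bot (r : ℕ) : ∀ (A : Type u) [CommRing A] (s : Finset A), s.card ≤ r →
    (∀ g ∈ Ideal.span (s : Set A), Crit g A) →
      (⨅ n : ℕ, Ideal.span (s : Set A) ^ n) ^ (2 ^ r) = ⊥ := by
  classical
  induction r with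
  | zero =>
    intro A _ s hs _
    have : s = ∅ := Finset.card_eq_zero.mp (Nat.le_zero.mp hs)
    subst this
    rw [pow_zero, pow_one, eq_bot_iff]
    refine (iInf_le _ 1).trans ?_
    simp
  | succ r ih =>
    intro A _ s hs hc
    by_cases hse : s = ∅
    · subst hse
      rw [eq_bot_iff]
      refine (Ideal.pow_le_self (by positivity)).trans ((iInf_le _ 1).trans ?_)
      simp
    obtain ⟨f, hf⟩ := Finset.nonempty_iff_ne_empty.mpr hse
    set s' := s.erase f with hs'
    have hcard : s'.card ≤ r := by
      rw [hs', Finset.card_erase_of_mem hf]; omega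
    have hins : insert f s' = s := Finset.insert_erase hf
    set I := Ideal.span (s : Set A) with hI
    set J := ⨅ n : ℕ, I ^ n with hJ
    -- key: J^(2^r) ≤ (f^n) for all n
    have key : ∀ n : ℕ, J ^ (2 ^ r) ≤ Ideal.span {f ^ n} := by
      intro n
      let mk := Ideal.Quotient.mk (Ideal.span {f ^ n})
      have hmk : Function.Surjective mk := Ideal.Quotient.mk_surjective
      have h1 := ih (A ⧸ Ideal.span {f ^ n}) (s'.image mk) (Finset.card_image_le.trans hcard) (by
        intro g' hg'
        rw [Finset.coe_image, ← Ideal.map_span, Ideal.mem_map_iff_of_surjective mk hmk] at hg'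
        obtain ⟨g, hg, rfl⟩ := hg'
        refine Crit.quotient_span_singleton _ (hc g ?_)
        refine Ideal.span_mono ?_ hg
        rw [← hins]; simp)
      have h2 : Ideal.map mk J ≤ ⨅ k : ℕ, Ideal.span ((s'.image mk : Finset _) : Set _) ^ k := by
        refine le_iInf fun k => ?_
        have h3 : Ideal.map mk I ≤ Ideal.span ((s'.image mk : Finset _) : Set _) ⊔
            Ideal.span {mk f} := by
          rw [hI, ← hins, Finset.coe_insert, Ideal.map_span, Set.image_insert_eq, Ideal.span_insert,
            Finset.coe_image, sup_comm]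
        calc Ideal.map mk J ≤ Ideal.map mk (I ^ (k + n)) := Ideal.map_mono (iInf_le _ _)
          _ = (Ideal.map mk I) ^ (k + n) := Ideal.map_pow _ _ _
          _ ≤ (Ideal.span ((s'.image mk : Finset _) : Set _) ⊔ Ideal.span {mk f}) ^ (k + n) :=
            Ideal.pow_right_mono h3 _
          _ ≤ Ideal.span ((s'.image mk : Finset _) : Set _) ^ k ⊔ Ideal.span {mk f} ^ n :=
            Ideal.sup_pow_add_le_pow_sup_pow
          _ = Ideal.span ((s'.image mk : Finset _) : Set _) ^ k := by
            rw [Ideal.span_singleton_pow, ← map_pow]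
            have : mk (f ^ n) = 0 :=
              Ideal.Quotient.eq_zero_iff_mem.mpr (Ideal.mem_span_singleton_self _)
            rw [this, Ideal.span_singleton_zero, sup_bot_eq]
      intro a ha
      rw [← Ideal.Quotient.eq_zero_iff_mem, ← Ideal.mem_bot, ← h1]
      have h4 : mk a ∈ Ideal.map mk (J ^ (2 ^ r)) := Ideal.mem_map_of_mem mk ha
      rw [Ideal.map_pow] at h4
      exact Ideal.pow_right_mono h2 _ h4
    have hK : J ^ (2 ^ r) * J ^ (2 ^ r) = ⊥ := by
      rw [eq_bot_iff, Ideal.mul_le]
      intro a ha x hx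
      rw [Ideal.mem_bot]
      have hcf : Crit f A := hc f (Ideal.subset_span hf)
      have := hcf.smul_eq_zero_of_divisible (a := a) (x := x)
        (fun n => Ideal.mem_span_singleton.mp (key n ha))
        (fun n => by
          obtain ⟨y, hy⟩ := Ideal.mem_span_singleton.mp (key n hx)
          exact ⟨y, by rw [smul_eq_mul, hy]⟩)
      simpa using this
    rw [pow_succ, pow_mul, pow_two, hK]

end Groth.Agent.Lib.Helper10.DerComplete
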