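import Mathlib
import Groth.Agent.Lib.Helper10DerComplete6
import Groth.Agent.Lib.Helper10DerComplete3
import Groth.Prelude.Def_DDual2

/-!
# Derived completeness and restriction of scalars
-/

set_option autoImplicit false
universe u
open CategoryTheory Limits DerivedCategory

attribute [local instance] HasDerivedCategory.standard

namespace Groth.Agent.Lib.Helper10.DerComplete

section general
universe v₁ v₂ u₁ u₂
variable {C₁ : Type u₁} {C₂ : Type u₂} [Category.{v₁} C₁] [Category.{v₂} C₂] [Abelian C₁] [Abelian C₂]
  (F : C₁ ⥤ C₂) [F.Additive] [PreservesFiniteLimits F] [PreservesFiniteColimits F]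

/-- an exact functor commutes with cohomology of the derived category. -/
noncomputable def homologyMapDerivedCategoryIso (L : DerivedCategory C₁) (i : ℤ) :
    (homologyFunctor C₂ i).obj (F.mapDerivedCategory.obj L) ≅
      F.obj ((homologyFunctor C₁ i).obj L) :=
  (homologyFunctor C₂ i).mapIso (F.mapDerivedCategory.mapIso (Q.objObjPreimageIso L).symm) ≪≫
  (homologyFunctor C₂ i).mapIso (F.mapDerivedCategoryFactors.app (Q.objPreimage L)) ≪≫
  (homologyFunctorFactors C₂ i).app _ ≪≫
  ((Q.objPreimage L).sc i).mapHomologyIso F ≪≫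
  F.mapIso ((homologyFunctorFactors C₁ i).app (Q.objPreimage L)).symm ≪≫
  F.mapIso ((homologyFunctor C₁ i).mapIso (Q.objObjPreimageIso L))

end general

variable {A B : Type u} [CommRing A] [CommRing B]

theorem crit_restrictScalars_iff (φ : A →+* B) (f : A) (N : ModuleCat.{u} B) :
    Crit f ((ModuleCat.restrictScalars φ).obj N) ↔ Crit (φ f) N := by
  letI : Module B ((ModuleCat.restrictScalars φ).obj N) := inferInstanceAs (Module B N)
  constructor
  · intro h
    exact Crit.of_smul_eq (M := (ModuleCat.restrictScalars φ).obj N) (g := f) (g' := φ f)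
      (fun x => rfl) h
  · intro h
    exact Crit.of_smul_eq (M := (ModuleCat.restrictScalars φ).obj N) (g := φ f) (g' := f)
      (fun x => rfl) h

theorem isDerivedComplete_restrictD_iff (φ : A →+* B) (I : Ideal A) (L : Dual.D B) :
    DRing.IsDerivedComplete (I.map φ) L ↔
      DRing.IsDerivedComplete I ((DRing.restrictD φ).obj L) := by
  rw [isDerivedComplete_iff_forall_crit, isDerivedComplete_iff_forall_crit]
  have h1 : (∀ g ∈ I.map φ, ∀ i : ℤ, Crit g (Dual.HD B L i)) ↔
      ∀ f ∈ I, ∀ i : ℤ, Crit (φ f) (Dual.HD B L i) := by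
    have : (∀ g ∈ I.map φ, ∀ i : ℤ, Crit g (Dual.HD B L i)) ↔
        I.map φ ≤ ⨅ i : ℤ, critIdeal B (Dual.HD B L i) := by
      constructor
      · intro h g hg
        rw [Ideal.mem_iInf]
        exact fun i => h g hg i
      · intro h g hg i
        exact (Ideal.mem_iInf.mp (h hg)) i
    rw [this, Ideal.map_le_iff_le_comap]
    constructor
    · intro h f hf i
      exact (Ideal.mem_iInf.mp (Ideal.mem_comap.mp (h hf))) i
    · intro h f hf
      rw [Ideal.mem_comap, Ideal.mem_iInf]
      exact fun i => h f hf i
  rw [h1]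
  refine forall₂_congr fun f _ => forall_congr' fun i => ?_
  rw [← crit_restrictScalars_iff]
  have e := (homologyMapDerivedCategoryIso (ModuleCat.restrictScalars.{u} φ) L i).toLinearEquiv
  exact ⟨fun h => h.of_linearEquiv e.symm, fun h => h.of_linearEquiv e⟩

end Groth.Agent.Lib.Helper10.DerComplete
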