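import Mathlib
import Groth.Prelude.Def_DescFam

/-!
# Helper10DescPull: isomorphisms of descent data (for schemes, relative to a family) from natural
bijections on points, and two applications to the pullback functors `Desc.pullDDFam`.
-/

set_option backward.isDefEq.respectTransparency false
set_option backward.isDefEq.respectTransparency.types false

universe w'' w' w u

open CategoryTheory CategoryTheory.Limits AlgebraicGeometry

namespace Groth.Agent.Lib.Helper10.DescPull

open Desc

section general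

variable {S : Scheme.{u}} {ι : Type w} {X : ι → Scheme.{u}} {f : ∀ i, X i ⟶ S}

lemma φ_nat (D : SchDDFam f) {T T' : Scheme.{u}} (g : T' ⟶ T) {i j : ι} (x₀ : T ⟶ X i)
    (x₁ : T ⟶ X j) (h : x₀ ≫ f i = x₁ ≫ f j) (v : Lifts (D.obj i) x₀)
    (h' : (g ≫ x₀) ≫ f i = (g ≫ x₁) ≫ f j) (hv : (g ≫ v.1) ≫ (D.obj i).hom = g ≫ x₀) :
    (D.φ (g ≫ x₀) (g ≫ x₁) h' ⟨g ≫ v.1, hv⟩).1 = g ≫ (D.φ x₀ x₁ h v).1 :=
  D.φ_natural g x₀ x₁ h _ _ rfl rfl h' v _ rfl

/-- A family of bijections on points, natural in the test scheme and compatible with the gluing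
bijections. -/
structure LiftsIso (D D' : SchDDFam f) where
  e : ∀ ⦃T : Scheme.{u}⦄ ⦃i : ι⦄ (x : T ⟶ X i), Lifts (D.obj i) x ≃ Lifts (D'.obj i) x
  nat : ∀ ⦃T T' : Scheme.{u}⦄ (g : T' ⟶ T) ⦃i : ι⦄ (x : T ⟶ X i) (y : T' ⟶ X i) (_ : g ≫ x = y)
    (v : Lifts (D.obj i) x) (v' : Lifts (D.obj i) y), v'.1 = g ≫ v.1 →
      (e y v').1 = g ≫ (e x v).1
  comm : ∀ ⦃T : Scheme.{u}⦄ ⦃i j : ι⦄ (x₀ : T ⟶ X i) (x₁ : T ⟶ X j) (h : x₀ ≫ f i = x₁ ≫ f j)
    (v : Lifts (D.obj i) x₀), D'.φ x₀ x₁ h (e x₀ v) = e x₁ (D.φ x₀ x₁ h v)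

namespace LiftsIso

variable {D D' : SchDDFam f} (L : LiftsIso D D')

/-- the universal point -/
def univ (D : SchDDFam f) (i : ι) : Lifts (D.obj i) (D.obj i).hom := ⟨𝟙 _, Category.id_comp _⟩

/-- The underlying morphisms. -/
def homLeft (i : ι) : (D.obj i).left ⟶ (D'.obj i).left := (L.e (D.obj i).hom (univ D i)).1

lemma homLeft_w (i : ι) : L.homLeft i ≫ (D'.obj i).hom = (D.obj i).hom :=
  (L.e (D.obj i).hom (univ D i)).2

lemma comp_homLeft {T : Scheme.{u}} {i : ι} {x : T ⟶ X i} (v : Lifts (D.obj i) x) :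
    v.1 ≫ L.homLeft i = (L.e x v).1 :=
  (L.nat v.1 (D.obj i).hom x v.2 (univ D i) v (by simp [univ])).symm

/-- The morphism of descent data. -/
def hom : D ⟶ D' where
  hom i := Over.homMk (L.homLeft i) (L.homLeft_w i)
  comm T i j x₀ x₁ h v w hw := by
    have e1 : w = L.e x₀ v := Subtype.ext (by rw [hw]; exact L.comp_homLeft v)
    subst e1
    rw [L.comm]
    exact (L.comp_homLeft _).symm

@[simp] lemma hom_hom_left (i : ι) : (L.hom.hom i).left = L.homLeft i := rfl

/-- The inverse family of bijections. -/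
def symm : LiftsIso D' D where
  e T i x := (L.e x).symm
  nat T T' g i x y hy v v' hv' := by
    have hu : (g ≫ ((L.e x).symm v).1) ≫ (D.obj i).hom = y := by
      rw [Category.assoc, ((L.e x).symm v).2, hy]
    have h1 := L.nat g x y hy ((L.e x).symm v) ⟨g ≫ ((L.e x).symm v).1, hu⟩ rfl
    rw [Equiv.apply_symm_apply, ← hv'] at h1
    have h2 : L.e y ⟨g ≫ ((L.e x).symm v).1, hu⟩ = v' := Subtype.ext h1
    rw [← h2, Equiv.symm_apply_apply]
  comm T i j x₀ x₁ h v := by
    apply (L.e x₁).injective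
    rw [← L.comm, Equiv.apply_symm_apply, Equiv.apply_symm_apply]

lemma homLeft_symm (i : ι) : L.homLeft i ≫ L.symm.homLeft i = 𝟙 _ := by
  have h1 := L.symm.comp_homLeft (L.e (D.obj i).hom (univ D i))
  have h2 : (L.symm.e (D.obj i).hom (L.e (D.obj i).hom (univ D i))) = univ D i :=
    (L.e (D.obj i).hom).symm_apply_apply _
  rw [h2] at h1
  exact h1

lemma symm_homLeft (i : ι) : L.symm.homLeft i ≫ L.homLeft i = 𝟙 _ := by
  have h1 := L.comp_homLeft (L.symm.e (D'.obj i).hom (univ D' i))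
  have h2 : (L.e (D'.obj i).hom (L.symm.e (D'.obj i).hom (univ D' i))) = univ D' i :=
    (L.e (D'.obj i).hom).apply_symm_apply _
  rw [h2] at h1
  exact h1

/-- The isomorphism of descent data. -/
def iso : D ≅ D' where
  hom := L.hom
  inv := L.symm.hom
  hom_inv_id := by
    ext i
    simp only [SchDDFam.comp_hom, SchDDFam.id_hom, Over.comp_left, Over.id_left, hom_hom_left]
    exact L.homLeft_symm i
  inv_hom_id := by
    ext i
    simp only [SchDDFam.comp_hom, SchDDFam.id_hom, Over.comp_left, Over.id_left, hom_hom_left]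
    exact L.symm_homLeft i

@[simp] lemma iso_hom : L.iso.hom = L.hom := rfl

end LiftsIso

/-- A natural isomorphism of functors into descent data from natural bijections on points. -/
def natIsoOfLifts {C : Type*} [Category C] (F G : C ⥤ SchDDFam f)
    (L : ∀ c, LiftsIso (F.obj c) (G.obj c))
    (hL : ∀ ⦃c c' : C⦄ (a : c ⟶ c') ⦃T : Scheme.{u}⦄ ⦃i : ι⦄ (x : T ⟶ X i)
      (v : Lifts ((F.obj c).obj i) x),
      ((L c').e x ((F.map a).push v)).1 = ((L c).e x v).1 ≫ ((G.map a).hom i).left) :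
    F ≅ G :=
  NatIso.ofComponents (fun c => (L c).iso) (fun {c c'} a => by
    ext i
    simp only [SchDDFam.comp_hom, Over.comp_left, LiftsIso.iso_hom, LiftsIso.hom_hom_left]
    have h1 := hL a ((F.obj c).obj i).hom (LiftsIso.univ (F.obj c) i)
    have h2 := (L c').comp_homLeft ((F.map a).push (LiftsIso.univ (F.obj c) i))
    rw [← h2] at h1
    simpa [SchDDFam.Hom.push, LiftsIso.univ, LiftsIso.homLeft] using h1)

end general

section self

variable {S : Scheme.{u}} {ι : Type w} {X : ι → Scheme.{u}} {f : ∀ i, X i ⟶ S}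
  {α : ι → ι} {p : S ⟶ S} {p' : ∀ i, X i ⟶ X (α i)} (w : ∀ i, p' i ≫ f (α i) = f i ≫ p)
  (hw : ∀ i, p' i ≫ f (α i) = f i)

include hw in
lemma self_compat {T : Scheme.{u}} {i : ι} (x : T ⟶ X i) :
    (x ≫ p' i) ≫ f (α i) = x ≫ f i := by rw [Category.assoc, hw]

/-- Pulling a descent datum back along an endomorphism of the family over the base is
isomorphic to the datum: the bijections on points. -/
noncomputable def selfLifts (D : SchDDFam f) : LiftsIso ((pullDDFam w).obj D) D where
  e T i x := (liftsPullbackEquiv (D.obj (α i)) (p' i) x).trans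
    (D.φ (x ≫ p' i) x (self_compat hw x))
  nat T T' g i x y hy v v' hv' := by
    simp only [Equiv.trans_apply]
    exact D.φ_natural g (x ≫ p' i) x (self_compat hw x) (y ≫ p' i) y
      (by rw [← hy, Category.assoc]) hy (self_compat hw y) _ _
      (by simp [liftsPullbackEquiv, hv'])
  comm T i j x₀ x₁ h v := by
    simp only [pullDDFam, pullDDFamObj, Equiv.trans_apply, Equiv.apply_symm_apply, D.φ_comp]

/-- The pullback functor along an endomorphism of the family over the base is isomorphic to the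
identity functor. -/
noncomputable def pullSelfIso : pullDDFam w ≅ 𝟭 (SchDDFam f) :=
  natIsoOfLifts _ _ (fun D => selfLifts w hw D) (fun {D D'} a T i x v => by
    simp only [selfLifts, Equiv.trans_apply, Functor.id_obj, Functor.id_map]
    exact a.comm (x ≫ p' i) x (self_compat hw x) _ _
      (by simp [liftsPullbackEquiv, SchDDFam.Hom.push, pullDDFam]))

end self

section back

variable {S : Scheme.{u}} {ι : Type w} {X : ι → Scheme.{u}} {f : ∀ i, X i ⟶ S}
  {ι' : Type w'} {X' : ι' → Scheme.{u}} {f' : ∀ j, X' j ⟶ S}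
  {α : ι' → ι} {p : S ⟶ S} {p' : ∀ j, X' j ⟶ X (α j)} (w : ∀ j, p' j ≫ f (α j) = f' j ≫ p)
  {β : ι → ι'} {q : S ⟶ S} {q' : ∀ i, X i ⟶ X' (β i)} (w' : ∀ i, q' i ≫ f' (β i) = f i ≫ q)
  (hw : ∀ i, (q' i ≫ p' (β i)) ≫ f (α (β i)) = f i)

include hw in
lemma back_compat {T : Scheme.{u}} {i : ι} (x : T ⟶ X i) :
    ((x ≫ q' i) ≫ p' (β i)) ≫ f (α (β i)) = x ≫ f i := by
  rw [← hw i]; simp only [Category.assoc]

/-- Pulling back along `f' → f` and then along `f → f'` (both over the base) gives back the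
datum up to isomorphism: the bijections on points. -/
noncomputable def backLifts (D : SchDDFam f) :
    LiftsIso ((pullDDFam w').obj ((pullDDFam w).obj D)) D where
  e T i x := (liftsPullbackEquiv ((pullDDFamObj w D).obj (β i)) (q' i) x).trans
    ((liftsPullbackEquiv (D.obj (α (β i))) (p' (β i)) (x ≫ q' i)).trans
      (D.φ ((x ≫ q' i) ≫ p' (β i)) x (back_compat hw x)))
  nat T T' g i x y hy v v' hv' := by
    simp only [Equiv.trans_apply]
    exact D.φ_natural g ((x ≫ q' i) ≫ p' (β i)) x (back_compat hw x) ((y ≫ q' i) ≫ p' (β i)) y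
      (by rw [← hy]; simp only [Category.assoc]) hy (back_compat hw y) _ _
      (by simp [liftsPullbackEquiv, hv'])
  comm T i j x₀ x₁ h v := by
    simp only [pullDDFam, pullDDFamObj, Equiv.trans_apply, Equiv.apply_symm_apply, D.φ_comp]

/-- The composite of the pullback functors along `f' → f` and `f → f'` (both over the base) is
isomorphic to the identity functor. -/
noncomputable def pullBackIso : pullDDFam w ⋙ pullDDFam w' ≅ 𝟭 (SchDDFam f) :=
  natIsoOfLifts _ _ (fun D => backLifts w w' hw D) (fun {D D'} a T i x v => by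
    simp only [backLifts, Equiv.trans_apply, Functor.id_obj, Functor.id_map]
    exact a.comm ((x ≫ q' i) ≫ p' (β i)) x (back_compat hw x) _ _
      (by simp [liftsPullbackEquiv, SchDDFam.Hom.push, pullDDFam]))

end back

end Groth.Agent.Lib.Helper10.DescPull
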