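import Mathlib

/-!
# Dévissage for finitely generated modules over a Noetherian ring (helper10)

`devissage`: a property of f.g. modules holding for zero modules, stable under extensions, and
holding for `B ⧸ p` (`p` prime) as soon as it holds for all f.g. modules killed by an ideal
strictly larger than `p`, holds for all f.g. modules.
-/

namespace Groth.Agent.Lib.Helper10.Devissage

universe u

variable {B : Type u} [CommRing B] [IsNoetherianRing B]

theorem devissage
    (P : ∀ (N : Type u) [AddCommGroup N] [Module B N], Prop)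
    (h0 : ∀ (N : Type u) [AddCommGroup N] [Module B N] [Subsingleton N], P N)
    (hext : ∀ (N₁ : Type u) [AddCommGroup N₁] [Module B N₁] [Module.Finite B N₁]
      (N₂ : Type u) [AddCommGroup N₂] [Module B N₂] [Module.Finite B N₂]
      (N₃ : Type u) [AddCommGroup N₃] [Module B N₃] [Module.Finite B N₃]
      (f : N₁ →ₗ[B] N₂) (g : N₂ →ₗ[B] N₃), Function.Injective f → Function.Surjective g →
      Function.Exact f g → P N₁ → P N₃ → P N₂)
    (hprime : ∀ p : Ideal B, p.IsPrime →
      (∀ (N : Type u) [AddCommGroup N] [Module B N] [Module.Finite B N],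
        (∃ J : Ideal B, p < J ∧ ∀ a ∈ J, ∀ x : N, a • x = 0) → P N) → P (B ⧸ p))
    (M : Type u) [AddCommGroup M] [Module B M] [Module.Finite B M] : P M := by
  have hequiv : ∀ (N₁ : Type u) [AddCommGroup N₁] [Module B N₁] [Module.Finite B N₁]
      (N₂ : Type u) [AddCommGroup N₂] [Module B N₂] [Module.Finite B N₂]
      (f : N₁ ≃ₗ[B] N₂), P N₁ → P N₂ := by
    intro N₁ _ _ _ N₂ _ _ _ f h
    exact hext N₁ N₂ PUnit.{u + 1} f 0 f.injective (Function.surjective_to_subsingleton _)
      ((f.exact_zero_iff_surjective _).2 f.surjective) h (h0 _)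
  have hA : ∀ I : Ideal B, I.IsPrime → P (B ⧸ I) := by
    intro I
    induction I using WellFoundedGT.induction with
    | ind I ih =>
      intro hI
      apply hprime I hI
      intro N _ _ hN ⟨J, hIJ, hJ⟩
      revert hJ
      refine IsNoetherianRing.induction_on_isQuotientEquivQuotientPrime B hN
        (motive := fun N _ _ _ => (∀ a ∈ J, ∀ x : N, a • x = 0) → P N) ?_ ?_ ?_
      · intro N _ _ _ _ _
        exact h0 N
      · intro N _ _ _ q e hJ
        have hJq : J ≤ q.asIdeal := by
          intro a ha
          have h1 := hJ a ha (e.symm 1)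
          have h2 : e (a • e.symm 1) = 0 := by rw [h1, map_zero]
          rw [map_smul, LinearEquiv.apply_symm_apply] at h2
          have h3 : (Ideal.Quotient.mk q.asIdeal a) = 0 := by
            rw [← h2, Algebra.smul_def, mul_one]; rfl
          exact Ideal.Quotient.eq_zero_iff_mem.1 h3
        have := ih q.asIdeal (lt_of_lt_of_le hIJ hJq) q.2
        exact hequiv _ _ e.symm this
      · intro N₁ _ _ _ N₂ _ _ _ N₃ _ _ _ f g hf hg hfg h1 h3 hJ
        refine hext N₁ N₂ N₃ f g hf hg hfg (h1 ?_) (h3 ?_)
        · intro a ha x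
          apply hf
          rw [map_smul, hJ a ha, map_zero]
        · intro a ha y
          obtain ⟨x, rfl⟩ := hg y
          rw [← map_smul, hJ a ha, map_zero]
  refine IsNoetherianRing.induction_on_isQuotientEquivQuotientPrime B ‹Module.Finite B M›
    (motive := fun N _ _ _ => P N) ?_ ?_ ?_
  · intro N _ _ _ _
    exact h0 N
  · intro N _ _ _ q e
    exact hequiv _ _ e.symm (hA q.asIdeal q.2)
  · intro N₁ _ _ _ N₂ _ _ _ N₃ _ _ _ f g hf hg hfg h1 h3
    exact hext N₁ N₂ N₃ f g hf hg hfg h1 h3

end Groth.Agent.Lib.Helper10.Devissage
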