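import Mathlib
import Groth.Agent.S12080

set_option autoImplicit false
universe u
open TensorProduct

namespace Groth.Agent.Helper13QFOmega

/-- a finitely presented module which is free of rank one at every prime is invertible. -/
theorem invertible_of_forall_prime (B M : Type u) [CommRing B] [AddCommGroup M] [Module B M]
    [Module.FinitePresentation B M]
    (h : ∀ (q : Ideal B) [q.IsPrime],
      Nonempty (Localization.AtPrime q ⊗[B] M ≃ₗ[Localization.AtPrime q] Localization.AtPrime q)) :
    Module.Invertible B M := by
  let s : Set B := {r | Nonempty (LocalizedModule.Away r M ≃ₗ[Localization.Away r]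
    Localization.Away r)}
  apply Groth.Agent.S12080.result B M s ?_ (fun f hf => hf)
  by_contra hne
  obtain ⟨m, hm, hle⟩ := Ideal.exists_le_maximal _ hne
  haveI := hm.isPrime
  obtain ⟨e⟩ := h m
  obtain ⟨r, hr, l', -⟩ := Module.FinitePresentation.exists_lift_equiv_of_isLocalizedModule
    m.primeCompl (TensorProduct.mk B (Localization.AtPrime m) M 1)
    (Algebra.linearMap B (Localization.AtPrime m)) (e.restrictScalars B)
  have e₀ : LocalizedModule (Submonoid.powers r) B ≃ₗ[B] Localization (Submonoid.powers r) :=
    IsLocalizedModule.iso (Submonoid.powers r)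
      (Algebra.linearMap B (Localization (Submonoid.powers r)))
  have e₁ : LocalizedModule (Submonoid.powers r) B ≃ₗ[Localization (Submonoid.powers r)]
      Localization (Submonoid.powers r) :=
    LinearEquiv.extendScalarsOfIsLocalization (Submonoid.powers r)
      (Localization (Submonoid.powers r)) e₀
  have hrs : r ∈ s := ⟨l'.trans e₁⟩
  exact hr (hle (Ideal.subset_span hrs))

end Groth.Agent.Helper13QFOmega
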