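import Mathlib
import Groth.Agent.Lib.Helper13QFOmega14

/-!
# A family of finite modules which is locally `A_q` in a single degree (helper10)
-/

set_option autoImplicit false
set_option backward.isDefEq.respectTransparency.types false
universe u
open TensorProduct

namespace Groth.Agent.Lib.Helper10.DualPairA

variable {A : Type u} [CommRing A] [IsNoetherianRing A]

/-- Let `M i` be finite modules over a Noetherian ring with connected spectrum such that at each
prime `q` exactly one `M n` localizes to `A_q` and the others to zero. Then exactly one `M i₀` is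
nonzero, and it is invertible. -/
theorem exists_invertible_of_local_data [ConnectedSpace (PrimeSpectrum A)]
    (M : ℤ → Type u) [∀ i, AddCommGroup (M i)] [∀ i, Module A (M i)]
    [∀ i, Module.Finite A (M i)]
    (h : ∀ q : PrimeSpectrum A, ∃ n : ℤ,
      Nonempty (LocalizedModule q.asIdeal.primeCompl (M n) ≃ₗ[Localization.AtPrime q.asIdeal]
        Localization.AtPrime q.asIdeal) ∧
      ∀ i, i ≠ n → Subsingleton (LocalizedModule q.asIdeal.primeCompl (M i))) :
    ∃ i₀ : ℤ, Module.Invertible A (M i₀) ∧ ∀ i, i ≠ i₀ → Subsingleton (M i) := by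
  choose n hn1 hn2 using h
  haveI : ∀ i, Module.FinitePresentation A (M i) := fun i =>
    Module.finitePresentation_of_finite A (M i)
  -- local freeness
  have hfree : ∀ i (q : PrimeSpectrum A), Module.Free (Localization.AtPrime q.asIdeal)
      (LocalizedModule q.asIdeal.primeCompl (M i)) := by
    intro i q
    by_cases hi : i = n q
    · subst hi
      obtain ⟨e⟩ := hn1 q
      exact Module.Free.of_equiv e.symm
    · haveI := hn2 q i hi
      infer_instance
  haveI : ∀ i, Module.Projective A (M i) := fun i =>
    Module.freeLocus_eq_univ_iff.1 (Set.eq_univ_iff_forall.2 (fun q => hfree i q))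
  -- ranks
  have hrank1 : ∀ q : PrimeSpectrum A, Module.rankAtStalk (M (n q)) q = 1 := by
    intro q
    obtain ⟨e⟩ := hn1 q
    rw [Module.rankAtStalk, e.finrank_eq, Module.finrank_self]
  have hrank0 : ∀ (q : PrimeSpectrum A) (i : ℤ), i ≠ n q → Module.rankAtStalk (M i) q = 0 := by
    intro q i hi
    haveI := hn2 q i hi
    rw [Module.rankAtStalk]
    exact Module.finrank_zero_of_subsingleton
  obtain ⟨q₀⟩ : Nonempty (PrimeSpectrum A) := inferInstance
  have hconst : ∀ q, n q = n q₀ := by
    intro q
    by_contra hne
    have h1 := (Module.isLocallyConstant_rankAtStalk (R := A) (M := M (n q₀))).apply_eq_of_preconnectedSpace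
      q q₀
    rw [hrank1 q₀, hrank0 q (n q₀) (fun h => hne h.symm)] at h1
    exact zero_ne_one h1
  refine ⟨n q₀, ?_, ?_⟩
  · apply Groth.Agent.Helper13QFOmega.invertible_of_forall_prime
    intro q hq
    obtain ⟨e⟩ := hn1 ⟨q, hq⟩
    rw [hconst] at e
    exact ⟨(LocalizedModule.equivTensorProduct q.primeCompl (M (n q₀))).symm ≪≫ₗ e⟩
  · intro i hi
    rw [← Module.support_eq_empty_iff (R := A)]
    apply Set.eq_empty_of_forall_notMem
    intro q
    rw [Module.notMem_support_iff]
    exact hn2 q i (by rw [hconst]; exact hi)

end Groth.Agent.Lib.Helper10.DualPairA
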