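import Groth.Agent.Lib.Helper17KInjD5
import Groth.Agent.Lib.Helper17Cpt2
import Groth.Prelude.Def_DRing3
import Groth.Prelude.Def_DDual2
import Mathlib.Algebra.Category.ModuleCat.ChangeOfRingsExact
import Mathlib.Algebra.Category.ModuleCat.AB

/-!
# The derived adjunction `restrictD ⊣ R coextendScalars` and detection of zero objects of `D(B)`
(helper17)
-/

set_option autoImplicit false

universe u

open CategoryTheory CategoryTheory.Limits HomologicalComplex DerivedCategory

attribute [local instance] HasDerivedCategory.standard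

namespace Groth.Agent.Lib.Helper17.DRingAdj

open Groth.Agent.Lib.Helper17.KInj Groth.Agent.Lib.Helper17.Cpt

section Adj

variable {A B : Type u} [CommRing A] [CommRing B] (φ : A →+* B)

/-- restriction of scalars on derived categories has a right adjoint. -/
theorem exists_rightAdjoint_restrictD :
    ∃ (RG : Dual.D A ⥤ Dual.D B), Nonempty (DRing.restrictD φ ⊣ RG) := by
  classical
  let F := ModuleCat.restrictScalars.{u} φ
  let G := ModuleCat.coextendScalars.{u} φ
  let adj : F ⊣ G := ModuleCat.restrictCoextendScalarsAdj φ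
  haveI : G.Additive := adj.right_adjoint_additive
  let G' := G.mapHomologicalComplex (ComplexShape.up ℤ) ⋙
    (DerivedCategory.Q : _ ⥤ DerivedCategory (ModuleCat.{u} B))
  haveI : G'.HasPointwiseRightDerivedFunctor
      (HomologicalComplex.quasiIso (ModuleCat.{u} A) (ComplexShape.up ℤ)) :=
    (fibLocalizerMorphism_derives G'
      (isInvertedBy_mapHomologicalComplex_comp_Q G)).hasPointwiseRightDerivedFunctor
  let RG := G'.totalRightDerived (DerivedCategory.Q : _ ⥤ DerivedCategory (ModuleCat.{u} A))
    (HomologicalComplex.quasiIso (ModuleCat.{u} A) (ComplexShape.up ℤ))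
  let β := G'.totalRightDerivedUnit
    (DerivedCategory.Q : _ ⥤ DerivedCategory (ModuleCat.{u} A))
    (HomologicalComplex.quasiIso (ModuleCat.{u} A) (ComplexShape.up ℤ))
  exact ⟨RG, ⟨derivedAdjunction F G adj RG β⟩⟩

end Adj

section Zero

variable {B : Type u} [CommRing B]

/-- a complex of `B`-modules all of whose maps from `B[0]` in the derived category vanish has
vanishing `H^0`. -/
lemma isZero_homology_zero (L : CochainComplex (ModuleCat.{u} B) ℤ)
    (h : Subsingleton (Dual.inD B B ⟶ (Q : _ ⥤ Dual.D B).obj L)) :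
    IsZero (L.homology 0) := by
  have key : ∀ g : ModuleCat.of B B ⟶ L.cycles 0, g ≫ L.homologyπ 0 = 0 := by
    intro g
    have hf : (g ≫ L.iCycles 0) ≫ L.d 0 1 = 0 := by simp
    let φ := fromSphere L (g ≫ L.iCycles 0) hf
    let K := sphere (ModuleCat.of B B) 0
    have hQ : (Q : _ ⥤ Dual.D B).map φ = 0 := by
      let e : Dual.inD B B ≅ (Q : _ ⥤ Dual.D B).obj K :=
        (DerivedCategory.singleFunctorIsoCompQ (ModuleCat.{u} B) 0).app (ModuleCat.of B B)
      have : e.hom ≫ (Q : _ ⥤ Dual.D B).map φ = 0 := Subsingleton.elim _ _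
      rw [← cancel_epi e.hom, this, comp_zero]
    have hH : HomologicalComplex.homologyMap φ 0 = 0 := by
      have h1 := (DerivedCategory.homologyFunctorFactors (ModuleCat.{u} B) 0).hom.naturality φ
      have h3 : (DerivedCategory.homologyFunctorFactors (ModuleCat.{u} B) 0).hom.app K ≫
          HomologicalComplex.homologyMap φ 0 = 0 := by
        refine h1.symm.trans ?_
        change (DerivedCategory.homologyFunctor (ModuleCat.{u} B) 0).map
          ((Q : _ ⥤ Dual.D B).map φ) ≫ _ = 0
        rw [hQ, Functor.map_zero, zero_comp]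
      exact (cancel_epi ((DerivedCategory.homologyFunctorFactors
        (ModuleCat.{u} B) 0).hom.app K)).1 (h3.trans comp_zero.symm)
    have hdK : (sphereIso (ModuleCat.of B B) 0).inv ≫ K.d 0 1 = 0 := by
      have : K.d 0 1 = 0 := by
        apply (HomologicalComplex.isZero_single_obj_X (ComplexShape.up ℤ) 0
          (ModuleCat.of B B) 1 (by decide)).eq_of_tgt
      rw [this, comp_zero]
    let c : ModuleCat.of B B ⟶ K.cycles 0 :=
      K.liftCycles (sphereIso (ModuleCat.of B B) 0).inv 1 (by simp) hdK
    have hc : c ≫ HomologicalComplex.cyclesMap φ 0 = g := by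
      rw [← cancel_mono (L.iCycles 0), Category.assoc, HomologicalComplex.cyclesMap_i,
        HomologicalComplex.liftCycles_i_assoc, fromSphere_f, Iso.inv_hom_id_assoc]
    rw [← hc, Category.assoc, ← HomologicalComplex.homologyπ_naturality, hH, comp_zero, comp_zero]
  rw [ModuleCat.isZero_iff_subsingleton]
  refine ⟨fun x y => ?_⟩
  suffices ∀ z : L.homology 0, z = 0 by rw [this x, this y]
  intro z
  let hz : ModuleCat.of B B ⟶ L.homology 0 := ModuleCat.ofHom (LinearMap.toSpanSingleton B _ z)
  haveI : Epi (L.homologyπ 0) := inferInstance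
  have h1 : Projective.factorThru hz (L.homologyπ 0) ≫ L.homologyπ 0 = hz :=
    Projective.factorThru_comp _ _
  have h2 : hz = 0 := by rw [← h1]; exact key _
  have h3 : hz.hom (1 : B) = z := by
    change LinearMap.toSpanSingleton B _ z 1 = z
    simp
  rw [← h3, h2]
  rfl

end Zero

end Groth.Agent.Lib.Helper17.DRingAdj
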