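import Mathlib
import Groth.Agent.Lib.Helper5BiDualC

/-!
# Localized vanishing of `Hom(-, ω[i])` (helper5)

`LZ ω p i X` says that every element of `Hom(X, ω[i])` is killed by an element outside the
prime `p`, i.e. the localization of this module at `p` vanishes.  We prove the basic dévissage
lemmas for this predicate.
-/

set_option autoImplicit false
universe u
open CategoryTheory CategoryTheory.Limits
attribute [local instance] HasDerivedCategory.standard

namespace Groth.Agent.Lib.Helper5.DualDim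

open DerivedCategory Pretriangulated
open Groth.Agent.Lib.Helper5.DualLocal Groth.Agent.Lib.Helper5.NormDual

variable {A : Type u} [CommRing A]

/-- every element of `Hom(X, ω[i])` is killed by some element outside `p`. -/
def LZ (ω : Dual.D A) (p : Ideal A) (i : ℤ) (X : Dual.D A) : Prop :=
  ∀ t : X ⟶ ω⟦i⟧, ∃ s : A, s ∉ p ∧ s • t = 0

section Basic

variable {ω : Dual.D A} {p : Ideal A} {i : ℤ}

lemma LZ.of_iso {X Y : Dual.D A} (e : X ≅ Y) (h : LZ ω p i X) : LZ ω p i Y := by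
  intro t
  obtain ⟨s, hs, hst⟩ := h (e.hom ≫ t)
  refine ⟨s, hs, ?_⟩
  rw [← Linear.comp_smul] at hst
  exact (cancel_epi e.hom).mp (hst.trans comp_zero.symm)

lemma LZ.of_isZero {X : Dual.D A} (hp : p ≠ ⊤) (h : IsZero X) : LZ ω p i X := by
  intro t
  exact ⟨1, fun h1 => hp ((Ideal.eq_top_iff_one p).mpr h1), by rw [one_smul]; exact h.eq_of_src _ _⟩

lemma LZ.of_smul_id {X : Dual.D A} (s : A) (hs : s ∉ p) (h : s • 𝟙 X = 0) : LZ ω p i X := by
  intro t
  refine ⟨s, hs, ?_⟩
  have : s • t = (s • 𝟙 X) ≫ t := by rw [Linear.smul_comp, Category.id_comp]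
  rw [this, h, zero_comp]

lemma LZ.mono {q : Ideal A} {X : Dual.D A} (hpq : p ≤ q) (h : LZ ω q i X) : LZ ω p i X := by
  intro t
  obtain ⟨s, hs, hst⟩ := h t
  exact ⟨s, fun hsp => hs (hpq hsp), hst⟩

lemma LZ.of_triangle [hp : p.IsPrime] (T : Triangle (Dual.D A))
    (hT : T ∈ distTriang (DerivedCategory (ModuleCat.{u} A)))
    (h1 : LZ ω p i T.obj₁) (h3 : LZ ω p i T.obj₃) : LZ ω p i T.obj₂ := by
  intro t
  obtain ⟨s₁, hs₁, hst₁⟩ := h1 (T.mor₁ ≫ t)
  have h0 : T.mor₁ ≫ (s₁ • t) = 0 := by rw [Linear.comp_smul]; exact hst₁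
  obtain ⟨t₃, ht₃⟩ := Triangle.yoneda_exact₂ T hT (s₁ • t) h0
  obtain ⟨s₃, hs₃, hst₃⟩ := h3 t₃
  refine ⟨s₃ * s₁, fun h => (hp.mem_or_mem h).elim hs₃ hs₁, ?_⟩
  rw [mul_smul, ht₃, ← Linear.comp_smul, hst₃, comp_zero]

lemma smul_id_inD_eq_zero (M : Type u) [AddCommGroup M] [Module A M] (s : A)
    (h : ∀ m : M, s • m = 0) : s • 𝟙 (Dual.inD A M) = 0 := by
  have h2 : s • 𝟙 (ModuleCat.of A M) = 0 := by
    refine ModuleCat.hom_ext (LinearMap.ext fun y => ?_)
    exact h y
  have h3 : (DerivedCategory.singleFunctor (ModuleCat.{u} A) 0).map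
      (s • 𝟙 (ModuleCat.of A M)) = s • 𝟙 (Dual.inD A M) := by
    rw [Functor.map_smul, CategoryTheory.Functor.map_id]
  rw [← h3, h2, Functor.map_zero]

/-- shifting the source -/
lemma LZ.shift {X : Dual.D A} (k : ℤ) (h : ∀ j, LZ ω p j X) : ∀ j, LZ ω p j (X⟦k⟧) := by
  intro j t
  let α : ω⟦j⟧ ≅ (ω⟦j - k⟧)⟦k⟧ :=
    (shiftFunctorAdd' (DerivedCategory (ModuleCat.{u} A)) (j - k) k j (by lia)).app ω
  obtain ⟨t', ht'⟩ := (shiftFunctor (DerivedCategory (ModuleCat.{u} A)) k).map_surjective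
    (t ≫ α.hom)
  obtain ⟨s, hs, hst⟩ := h (j - k) t'
  refine ⟨s, hs, ?_⟩
  have h1 : (s • t) ≫ α.hom = 0 := by
    rw [Linear.smul_comp, ← ht', ← Functor.map_smul, hst, Functor.map_zero]
  exact (cancel_mono α.hom).mp (h1.trans zero_comp.symm)

end Basic

section Nakayama

/-- Nakayama's lemma after localization at `q`, in elementwise form. -/
lemma nakayama_loc {X : Type*} [AddCommGroup X] [Module A X] [Module.Finite A X] (q : Ideal A)
    [q.IsPrime] (x : A) (hx : x ∈ q)
    (h : ∀ t : X, ∃ s : A, s ∉ q ∧ ∃ t' : X, s • t = x • t') :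
    ∀ t : X, ∃ s : A, s ∉ q ∧ s • t = 0 := by
  have hsub : Subsingleton (LocalizedModule q.primeCompl X) := by
    have htop : (⊤ : Submodule (Localization.AtPrime q) (LocalizedModule q.primeCompl X)) = ⊥ := by
      refine Submodule.eq_bot_of_le_smul_of_le_jacobson_bot
        (IsLocalRing.maximalIdeal (Localization.AtPrime q)) ⊤ Module.Finite.fg_top ?_
        (IsLocalRing.maximalIdeal_le_jacobson _)
      intro y _
      induction y using LocalizedModule.induction_on with
      | h t u =>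
        obtain ⟨s, hs, t', ht'⟩ := h t
        have hmem : Localization.mk x (⟨s, hs⟩ * u) ∈
            IsLocalRing.maximalIdeal (Localization.AtPrime q) := by
          rw [Localization.mk_eq_mk', IsLocalization.AtPrime.mk'_mem_maximal_iff
            (Localization.AtPrime q) q]
          exact hx
        have heq : LocalizedModule.mk t u =
            Localization.mk x (⟨s, hs⟩ * u) • LocalizedModule.mk t' (1 : q.primeCompl) := by
          rw [LocalizedModule.mk_smul_mk, mul_one, LocalizedModule.mk_eq]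
          refine ⟨1, ?_⟩
          rw [one_smul, one_smul, ← ht']
          show (⟨s, hs⟩ * u : q.primeCompl) • t = u • (s • t)
          rw [Submonoid.smul_def, Submonoid.smul_def, Submonoid.coe_mul, mul_smul, smul_comm]
        rw [heq]
        exact Submodule.smul_mem_smul hmem Submodule.mem_top
    refine ⟨fun a b => ?_⟩
    have ha : a ∈ (⊤ : Submodule (Localization.AtPrime q) (LocalizedModule q.primeCompl X)) :=
      Submodule.mem_top
    have hb : b ∈ (⊤ : Submodule (Localization.AtPrime q) (LocalizedModule q.primeCompl X)) :=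
      Submodule.mem_top
    rw [htop] at ha hb
    rw [(Submodule.mem_bot _).mp ha, (Submodule.mem_bot _).mp hb]
  intro t
  obtain ⟨r, hr, hrt⟩ := LocalizedModule.subsingleton_iff.mp hsub t
  exact ⟨r, hr, hrt⟩

end Nakayama

section Step

lemma map_mulSC_f_comp (r : Ideal A) (x : A) (Y : Dual.D A)
    (g : (singleFunctor (ModuleCat.{u} A) 0).obj (mulSC r x).X₂ ⟶ Y) :
    (singleFunctor (ModuleCat.{u} A) 0).map (mulSC r x).f ≫ g = x • g := by
  show (singleFunctor (ModuleCat.{u} A) 0).map (x • 𝟙 (ModuleCat.of A (A ⧸ r))) ≫ g = _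
  rw [Functor.map_smul, CategoryTheory.Functor.map_id, Linear.smul_comp, Category.id_comp]
  rfl

variable (ω : Dual.D A) (hω : Dual.IsDualizing A ω)

include hω in
/-- `x ∈ q`, `x ∉ r`: vanishing for `A/(r+x)` in degree `i+1` gives vanishing for `A/r` in degree
`i`, after localization at `q`. -/
theorem LZ_step (r : Ideal A) [r.IsPrime] (q : Ideal A) [q.IsPrime] (x : A) (hxq : x ∈ q)
    (hxr : x ∉ r) (i : ℤ)
    (h : LZ ω q (i + 1) (Dual.inD A (A ⧸ (r ⊔ Ideal.span {x})))) :
    LZ ω q i (Dual.inD A (A ⧸ r)) := by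
  haveI := hω.isNoetherianRing
  haveI : Module.Finite A (Dual.inD A (A ⧸ r) ⟶ ω⟦i⟧) := finite_ext ω hω (A ⧸ r) i
  have hS := mulSC_shortExact r x hxr
  have key : ∀ t : Dual.inD A (A ⧸ r) ⟶ ω⟦i⟧, ∃ s : A, s ∉ q ∧
      ∃ t' : Dual.inD A (A ⧸ r) ⟶ ω⟦i⟧, s • t = x • t' := by
    intro t
    let β := (shiftFunctorAdd' (DerivedCategory (ModuleCat.{u} A)) i 1 (i + 1) rfl).app ω
    let t₀ : (singleFunctor (ModuleCat.{u} A) 0).obj (mulSC r x).X₁ ⟶ ω⟦i⟧ := t
    obtain ⟨s, hs, hst⟩ := h ((hS.singleδ ≫ t₀⟦(1 : ℤ)⟧') ≫ β.inv)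
    have e1 : (s • t₀)⟦(1 : ℤ)⟧' = s • t₀⟦(1 : ℤ)⟧' := Functor.map_smul _ _ _
    have h1 : hS.singleδ ≫ (s • t₀)⟦(1 : ℤ)⟧' = 0 := by
      rw [e1, Linear.comp_smul]
      rw [← Linear.smul_comp] at hst
      exact (cancel_mono β.inv).mp (hst.trans zero_comp.symm)
    obtain ⟨g, hg⟩ := exists_factor_of_δ_comp_eq_zero (mulSC r x) hS (ω⟦i⟧) (s • t₀) h1
    exact ⟨s, hs, g, hg.trans (map_mulSC_f_comp r x _ g)⟩
  exact nakayama_loc q x hxq key

end Step

section Dev

variable (ω : Dual.D A)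

/-- dévissage: if `LZ` holds for `A/r'` for all primes `r' ⊇ 𝔞` contained in `p`, then it
holds for every finite module killed by `𝔞`. -/
theorem LZ_of_killed [IsNoetherianRing A] (p : Ideal A) [hp : p.IsPrime] (i : ℤ) (𝔞 : Ideal A)
    (h : ∀ r : PrimeSpectrum A, 𝔞 ≤ r.asIdeal → r.asIdeal ≤ p →
      LZ ω p i (Dual.inD A (A ⧸ r.asIdeal)))
    (N : Type u) [AddCommGroup N] [Module A N] [hfin : Module.Finite A N]
    (hN : ∀ c ∈ 𝔞, ∀ n : N, c • n = 0) : LZ ω p i (Dual.inD A N) := by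
  induction hfin using IsNoetherianRing.induction_on_isQuotientEquivQuotientPrime A with
  | subsingleton N =>
    exact LZ.of_isZero hp.ne_top (Functor.map_isZero _ (ModuleCat.isZero_of_subsingleton _))
  | quotient N r e =>
    have har : 𝔞 ≤ r.asIdeal := by
      intro c hc
      have h1 : c • e.symm (Submodule.Quotient.mk 1) = 0 := hN c hc _
      rw [← map_smul, LinearEquiv.map_eq_zero_iff, ← Submodule.Quotient.mk_smul,
        Submodule.Quotient.mk_eq_zero] at h1
      simpa using h1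
    by_cases hrp : r.asIdeal ≤ p
    · exact (h r har hrp).of_iso (inDIso e.symm)
    · obtain ⟨s, hsr, hsp⟩ := SetLike.not_le_iff_exists.mp hrp
      refine LZ.of_smul_id s hsp (smul_id_inD_eq_zero N s fun n => ?_)
      apply e.injective
      rw [map_smul, map_zero]
      exact quot_killed r.asIdeal s hsr _
  | exact N₁ N₂ N₃ f g hf hg hfg h₁ h₃ =>
    let S := ModuleCat.shortComplexOfCompEqZero f g hfg.linearMap_comp_eq_zero
    have hS : S.ShortExact := ModuleCat.shortComplex_shortExact S hfg hf hg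
    have hN₁ : ∀ c ∈ 𝔞, ∀ n : N₁, c • n = 0 := by
      intro c hc n
      apply hf
      rw [map_smul, map_zero]
      exact hN c hc _
    have hN₃ : ∀ c ∈ 𝔞, ∀ n : N₃, c • n = 0 := by
      intro c hc n
      obtain ⟨n₂, rfl⟩ := hg n
      rw [← map_smul, hN c hc n₂, map_zero]
    exact LZ.of_triangle _ hS.singleTriangle_distinguished (h₁ hN₁) (h₃ hN₃)

end Dev

end Groth.Agent.Lib.Helper5.DualDim
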