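import Mathlib
import Groth.Agent.Lib.Helper5DualDimA
import Groth.Agent.Lib.Helper1Devissage

/-!
# The dimension function of a dualizing complex (helper5)

For a dualizing complex `ω` over a Noetherian ring `A` and a prime `p`, the localization at `p` of
`Hom(A/p, ω[i])` is nonzero for exactly one `i = -δ(p)`, and `δ(p) = δ(q) + 1` when `q` covers `p`.
-/

set_option autoImplicit false
universe u
open CategoryTheory CategoryTheory.Limits
attribute [local instance] HasDerivedCategory.standard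

namespace Groth.Agent.Lib.Helper5.DualDim

open DerivedCategory Pretriangulated
open Groth.Agent.Lib.Helper5.DualLocal Groth.Agent.Lib.Helper5.NormDual
open Groth.Agent.Lib.Helper5.BiDual

variable {A : Type u} [CommRing A]

section Existence

variable (ω : Dual.D A) (hω : Dual.IsDualizing A ω)

include hω in
/-- if `Hom(A/p, ω[i])_p = 0` for all `i`, the same holds for all primes -/
theorem LZ_prime_of_forall [IsNoetherianRing A] (p : Ideal A) [hp : p.IsPrime]
    (H0 : ∀ i, LZ ω p i (Dual.inD A (A ⧸ p))) :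
    ∀ (r : PrimeSpectrum A) (i : ℤ), LZ ω p i (Dual.inD A (A ⧸ r.asIdeal)) := by
  intro r
  induction r using (InvImage.wf (fun q : PrimeSpectrum A => q.asIdeal)
    (wellFounded_gt : WellFounded ((· > ·) : Ideal A → Ideal A → Prop))).induction with
  | _ r IH =>
    intro i
    by_cases hrp : r.asIdeal ≤ p
    · by_cases heq : r.asIdeal = p
      · exact (H0 i).of_iso (inDIso (Submodule.quotEquivOfEq _ _ heq.symm))
      · obtain ⟨x, hxp, hxr⟩ := SetLike.exists_of_lt (lt_of_le_of_ne hrp heq)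
        haveI := r.isPrime
        refine LZ_step ω hω r.asIdeal p x hxp hxr i ?_
        refine LZ_of_killed ω p (i + 1) (r.asIdeal ⊔ Ideal.span {x}) ?_ _ (quot_killed _)
        intro r' hr' _
        refine IH r' ?_ (i + 1)
        show r.asIdeal < r'.asIdeal
        refine lt_of_le_of_ne (le_sup_left.trans hr') ?_
        intro h
        apply hxr
        rw [h]
        exact hr' (Ideal.mem_sup_right (Ideal.subset_span rfl))
    · obtain ⟨s, hsr, hsp⟩ := SetLike.not_le_iff_exists.mp hrp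
      exact LZ.of_smul_id s hsp (smul_id_inD_eq_zero _ s (quot_killed r.asIdeal s hsr))

include hω in
theorem not_forall_LZ (p : Ideal A) [hp : p.IsPrime] :
    ¬ ∀ i, LZ ω p i (Dual.inD A (A ⧸ p)) := by
  haveI := hω.isNoetherianRing
  intro H0
  have h1 := LZ_prime_of_forall ω hω p H0
  have h2 : ∀ (N : Type u) [AddCommGroup N] [Module A N] [Module.Finite A N] (i : ℤ),
      LZ ω p i (Dual.inD A N) := by
    intro N _ _ _ i
    exact LZ_of_killed ω p i ⊥ (fun r _ _ => h1 r i) N (fun c hc n => by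
      rw [(Submodule.mem_bot A).mp hc, zero_smul])
  -- dévissage in `D(A)`
  let P : ObjectProperty (DerivedCategory (ModuleCat.{u} A)) := fun X => ∀ i, LZ ω p i X
  haveI : P.IsClosedUnderIsomorphisms := ⟨fun e h i => (h i).of_iso e⟩
  obtain ⟨R⟩ := nonempty_res ω hω
  have hPω : P ω := by
    refine Groth.Agent.Lib.Helper1.Devissage.induction_homology' P
      (fun K hK i => LZ.of_isZero hp.ne_top hK)
      (fun T hT h1 h3 i => LZ.of_triangle T hT (h1 i) (h3 i)) ω R.a R.b ?_ ?_
    · intro i hi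
      have hex : R.E.ExactAt i :=
        Groth.Agent.Lib.Helper1.Tor.exactAt_of_isZero_X R.E i (R.van i hi)
      rw [Groth.Agent.Lib.Helper1.Tor.exactAt_iff_isZero_H] at hex
      exact hex.of_iso ((homologyFunctor (ModuleCat.{u} A) i).mapIso R.e.symm)
    · intro j _ _
      haveI : Module.Finite A ↑((homologyFunctor (ModuleCat.{u} A) j).obj ω) :=
        hω.finite_cohomology j
      have h3 : P ((singleFunctor (ModuleCat.{u} A) 0).obj
          ((homologyFunctor (ModuleCat.{u} A) j).obj ω)) :=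
        fun i => h2 ↑((homologyFunctor (ModuleCat.{u} A) j).obj ω) i
      have h4 : P (((singleFunctor (ModuleCat.{u} A) 0).obj
          ((homologyFunctor (ModuleCat.{u} A) j).obj ω))⟦-j⟧) := LZ.shift (-j) h3
      exact ObjectProperty.prop_of_iso P
        (((DerivedCategory.singleFunctors (ModuleCat.{u} A)).shiftIso (-j) j 0 (by lia)).app
          ((homologyFunctor (ModuleCat.{u} A) j).obj ω)) h4
  obtain ⟨s, hs, hst⟩ := hPω 0
    ((shiftFunctorZero (DerivedCategory (ModuleCat.{u} A)) ℤ).inv.app ω)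
  have h5 : s • 𝟙 ω = 0 := by
    have h6 : (s • 𝟙 ω) ≫ (shiftFunctorZero (DerivedCategory (ModuleCat.{u} A)) ℤ).inv.app ω = 0 := by
      rw [Linear.smul_comp, Category.id_comp]
      exact hst
    exact (cancel_mono ((shiftFunctorZero (DerivedCategory (ModuleCat.{u} A)) ℤ).inv.app ω)).mp
      (h6.trans zero_comp.symm)
  have h7 : s = 0 := hω.toEnd_bijective.1 (show s • 𝟙 ω = (0 : A) • 𝟙 ω by rw [h5, zero_smul])
  exact hs (h7 ▸ p.zero_mem)

end Existence

section Cover

variable (ω : Dual.D A) (hω : Dual.IsDualizing A ω)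

include hω in
theorem LZ_of_covBy [IsNoetherianRing A] (p q : PrimeSpectrum A) (hpq : p ⋖ q) (i : ℤ)
    (h : LZ ω q.asIdeal (i + 1) (Dual.inD A (A ⧸ q.asIdeal))) :
    LZ ω p.asIdeal i (Dual.inD A (A ⧸ p.asIdeal)) := by
  have hlt : p.asIdeal < q.asIdeal := hpq.lt
  obtain ⟨x, hxq, hxp⟩ := SetLike.exists_of_lt hlt
  haveI := p.isPrime
  haveI := q.isPrime
  refine LZ.mono hlt.le (LZ_step ω hω p.asIdeal q.asIdeal x hxq hxp i ?_)
  refine LZ_of_killed ω q.asIdeal (i + 1) (p.asIdeal ⊔ Ideal.span {x}) ?_ _ (quot_killed _)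
  intro r' hr' hr'q
  have h1 : p < r' := by
    show p.asIdeal < r'.asIdeal
    refine lt_of_le_of_ne (le_sup_left.trans hr') ?_
    intro h
    apply hxp
    rw [h]
    exact hr' (Ideal.mem_sup_right (Ideal.subset_span rfl))
  have h2 : r' = q := by
    have h3 : r' ≤ q := hr'q
    exact h3.eq_of_not_lt (hpq.2 h1)
  rw [h2]
  exact h

end Cover

section Maximal

variable (ω : Dual.D A) (hω : Dual.IsDualizing A ω)

include hω in
theorem maximal_case [IsNoetherianRing A] (p : Ideal A) [hp : p.IsMaximal] :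
    ∃ n : ℤ, ∀ i, ¬ LZ ω p i (Dual.inD A (A ⧸ p)) ↔ i = n := by
  obtain ⟨n, h1, ⟨e⟩⟩ := Groth.Agent.Lib.Helper5.BiDual.main A ω hω p
  refine ⟨n, fun i => ⟨fun h => ?_, fun h => ?_⟩⟩
  · by_contra hin
    apply h
    intro t
    haveI := h1 i hin
    exact ⟨1, fun h1 => hp.ne_top ((Ideal.eq_top_iff_one p).mpr h1),
      by rw [one_smul]; exact Subsingleton.elim _ _⟩
  · subst h
    intro hLZ
    obtain ⟨s, hs, hst⟩ := hLZ (e.symm (Submodule.Quotient.mk 1))
    apply hs
    have h2 : e (s • e.symm (Submodule.Quotient.mk 1)) = 0 := by rw [hst, map_zero]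
    rw [map_smul, LinearEquiv.apply_symm_apply, ← Submodule.Quotient.mk_smul,
      Submodule.Quotient.mk_eq_zero] at h2
    simpa using h2

end Maximal

section Assembly

variable (ω : Dual.D A) (hω : Dual.IsDualizing A ω)

/-- a prime which is not maximal is covered by some prime -/
lemma exists_covBy [IsNoetherianRing A] (p : PrimeSpectrum A) (hp : ¬ p.asIdeal.IsMaximal) :
    ∃ q : PrimeSpectrum A, p ⋖ q := by
  obtain ⟨m, hm, hpm⟩ := Ideal.exists_le_maximal p.asIdeal p.isPrime.ne_top
  let S : Set (PrimeSpectrum A) := {q | p < q}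
  have hne : S.Nonempty := by
    refine ⟨⟨m, hm.isPrime⟩, ?_⟩
    show p.asIdeal < m
    refine lt_of_le_of_ne hpm ?_
    intro h
    exact hp (h ▸ hm)
  obtain ⟨q₀, hq₀, hmin⟩ := WellFounded.has_min
    (InvImage.wf (fun q : PrimeSpectrum A => q.asIdeal.height) wellFounded_lt) S hne
  refine ⟨q₀, hq₀, fun c hpc hcq => ?_⟩
  apply hmin c hpc
  show c.asIdeal.height < q₀.asIdeal.height
  haveI := c.isPrime
  haveI := q₀.isPrime
  have hlt : c.asIdeal < q₀.asIdeal := hcq
  exact Ideal.height_strict_mono_of_isPrime hlt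

include hω in
theorem unique_degree [IsNoetherianRing A] :
    ∀ (p : PrimeSpectrum A) (i i' : ℤ), ¬ LZ ω p.asIdeal i (Dual.inD A (A ⧸ p.asIdeal)) →
      ¬ LZ ω p.asIdeal i' (Dual.inD A (A ⧸ p.asIdeal)) → i = i' := by
  intro p
  induction p using (InvImage.wf (fun q : PrimeSpectrum A => q.asIdeal)
    (wellFounded_gt : WellFounded ((· > ·) : Ideal A → Ideal A → Prop))).induction with
  | _ p IH =>
    intro i i' hi hi'
    by_cases hmax : p.asIdeal.IsMaximal
    · obtain ⟨n, hn⟩ := maximal_case ω hω p.asIdeal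
      rw [(hn i).mp hi, (hn i').mp hi']
    · obtain ⟨q, hpq⟩ := exists_covBy p hmax
      have h1 : ¬ LZ ω q.asIdeal (i + 1) (Dual.inD A (A ⧸ q.asIdeal)) :=
        fun h => hi (LZ_of_covBy ω hω p q hpq i h)
      have h2 : ¬ LZ ω q.asIdeal (i' + 1) (Dual.inD A (A ⧸ q.asIdeal)) :=
        fun h => hi' (LZ_of_covBy ω hω p q hpq i' h)
      have h3 := IH q (show p.asIdeal < q.asIdeal from hpq.lt) (i + 1) (i' + 1) h1 h2
      lia

theorem main (A : Type u) [CommRing A] [IsNoetherianRing A] (ω : Dual.D A)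
    (hω : Dual.IsDualizing A ω) :
    ∃ δ : PrimeSpectrum A → ℤ,
      (∀ (p : PrimeSpectrum A) (i : ℤ),
        Nontrivial (LocalizedModule p.asIdeal.primeCompl
          (Dual.inD A (A ⧸ p.asIdeal) ⟶ ω⟦i⟧)) ↔ i = -δ p) ∧
      ∀ p q : PrimeSpectrum A, p ⋖ q → δ p = δ q + 1 := by
  have hex : ∀ p : PrimeSpectrum A, ∃ i : ℤ,
      ¬ LZ ω p.asIdeal i (Dual.inD A (A ⧸ p.asIdeal)) := by
    intro p
    haveI := p.isPrime
    have := not_forall_LZ ω hω p.asIdeal
    push Not at this
    exact this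
  have hnt : ∀ (p : PrimeSpectrum A) (i : ℤ),
      Nontrivial (LocalizedModule p.asIdeal.primeCompl (Dual.inD A (A ⧸ p.asIdeal) ⟶ ω⟦i⟧)) ↔
        ¬ LZ ω p.asIdeal i (Dual.inD A (A ⧸ p.asIdeal)) := by
    intro p i
    rw [← not_subsingleton_iff_nontrivial, LocalizedModule.subsingleton_iff]
    rfl
  refine ⟨fun p => -(hex p).choose, fun p i => ?_, fun p q hpq => ?_⟩
  · rw [hnt, neg_neg]
    constructor
    · intro h
      exact unique_degree ω hω p i _ h (hex p).choose_spec
    · rintro rfl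
      exact (hex p).choose_spec
  · have h1 : ¬ LZ ω q.asIdeal ((hex p).choose + 1) (Dual.inD A (A ⧸ q.asIdeal)) :=
      fun h => (hex p).choose_spec (LZ_of_covBy ω hω p q hpq _ h)
    have h2 := unique_degree ω hω q _ _ h1 (hex q).choose_spec
    show -(hex p).choose = -(hex q).choose + 1
    lia

end Assembly

end Groth.Agent.Lib.Helper5.DualDim
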