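import Mathlib
import Groth.Agent.Lib.Helper5DualDimB
import Groth.Agent.Lib.Helper17DRingAdj1

/-!
# Cohomology of a dualizing complex at minimal primes (helper5)

* `exists_hom_of_HD`: every element of `H^i(Y)` comes from a map `A[0] ⟶ Y[i]`, compatibly with
  scalars.
* for a minimal prime `p`, `H^i(ω)_p ≠ 0` exactly when `Hom(A/p, ω[i])_p ≠ 0`.
-/

set_option autoImplicit false
universe u
open CategoryTheory CategoryTheory.Limits
attribute [local instance] HasDerivedCategory.standard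

namespace Groth.Agent.Lib.Helper5.DualMin

open DerivedCategory Pretriangulated HomologicalComplex
open Groth.Agent.Lib.Helper17.KInj Groth.Agent.Lib.Helper17.Cpt
open Groth.Agent.Lib.Helper5.DualLocal Groth.Agent.Lib.Helper5.NormDual
open Groth.Agent.Lib.Helper5.BiDual Groth.Agent.Lib.Helper5.DualDim

variable {A : Type u} [CommRing A]

section Ev

lemma exists_hom_of_HD_zero (Y : Dual.D A) (x : Dual.HD A Y 0) :
    ∃ t : Dual.inD A A ⟶ Y, ∀ s : A, s • t = 0 → s • x = 0 := by
  let L := (Q : _ ⥤ Dual.D A).objPreimage Y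
  let e : (Q : _ ⥤ Dual.D A).obj L ≅ Y := Q.objObjPreimageIso Y
  let α : (homologyFunctor (ModuleCat.{u} A) 0).obj Y ≅ L.homology 0 :=
    (homologyFunctor (ModuleCat.{u} A) 0).mapIso e.symm ≪≫
      (homologyFunctorFactors (ModuleCat.{u} A) 0).app L
  let K := sphere (ModuleCat.of A A) 0
  let e0 : Dual.inD A A ≅ (Q : _ ⥤ Dual.D A).obj K :=
    (DerivedCategory.singleFunctorIsoCompQ (ModuleCat.{u} A) 0).app (ModuleCat.of A A)
  obtain ⟨z, hz⟩ := (ModuleCat.epi_iff_surjective (L.homologyπ 0)).mp inferInstance (α.hom.hom x)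
  have hf : ∀ g' : ModuleCat.of A A ⟶ L.cycles 0, (g' ≫ L.iCycles 0) ≫ L.d 0 1 = 0 :=
    fun g' => by simp
  have key : ∀ g' : ModuleCat.of A A ⟶ L.cycles 0,
      (Q : _ ⥤ Dual.D A).map (fromSphere L (g' ≫ L.iCycles 0) (hf g')) = 0 →
        g' ≫ L.homologyπ 0 = 0 := by
    intro g' hQ
    let φ := fromSphere L (g' ≫ L.iCycles 0) (hf g')
    have hH : HomologicalComplex.homologyMap φ 0 = 0 := by
      have h1 := (DerivedCategory.homologyFunctorFactors (ModuleCat.{u} A) 0).hom.naturality φ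
      have h3 : (DerivedCategory.homologyFunctorFactors (ModuleCat.{u} A) 0).hom.app K ≫
          HomologicalComplex.homologyMap φ 0 = 0 := by
        refine h1.symm.trans ?_
        change (DerivedCategory.homologyFunctor (ModuleCat.{u} A) 0).map
          ((Q : _ ⥤ Dual.D A).map φ) ≫ _ = 0
        rw [hQ, Functor.map_zero, zero_comp]
      exact (cancel_epi ((DerivedCategory.homologyFunctorFactors
        (ModuleCat.{u} A) 0).hom.app K)).1 (h3.trans comp_zero.symm)
    have hdK : (sphereIso (ModuleCat.of A A) 0).inv ≫ K.d 0 1 = 0 := by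
      have : K.d 0 1 = 0 := by
        apply (HomologicalComplex.isZero_single_obj_X (ComplexShape.up ℤ) 0
          (ModuleCat.of A A) 1 (by decide)).eq_of_tgt
      rw [this, comp_zero]
    let c : ModuleCat.of A A ⟶ K.cycles 0 :=
      K.liftCycles (sphereIso (ModuleCat.of A A) 0).inv 1 (by simp) hdK
    have hc : c ≫ HomologicalComplex.cyclesMap φ 0 = g' := by
      rw [← cancel_mono (L.iCycles 0), Category.assoc, HomologicalComplex.cyclesMap_i,
        HomologicalComplex.liftCycles_i_assoc, fromSphere_f, Iso.inv_hom_id_assoc]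
    rw [← hc, Category.assoc, ← HomologicalComplex.homologyπ_naturality, hH, comp_zero, comp_zero]
  let g : ModuleCat.of A A ⟶ L.cycles 0 := ModuleCat.ofHom (LinearMap.toSpanSingleton A _ z)
  refine ⟨e0.hom ≫ (Q : _ ⥤ Dual.D A).map (fromSphere L (g ≫ L.iCycles 0) (hf g)) ≫ e.hom,
    fun s hs => ?_⟩
  have h2 : fromSphere L ((s • g) ≫ L.iCycles 0) (hf _) =
      s • fromSphere L (g ≫ L.iCycles 0) (hf g) := by
    apply from_sphere_hom_ext
    rw [fromSphere_f, HomologicalComplex.smul_f_apply, fromSphere_f, Linear.smul_comp,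
      Linear.comp_smul]
  have h1 : (Q : _ ⥤ Dual.D A).map (fromSphere L ((s • g) ≫ L.iCycles 0) (hf _)) = 0 := by
    rw [h2, Functor.map_smul]
    have h3 : e0.hom ≫ (s • (Q : _ ⥤ Dual.D A).map (fromSphere L (g ≫ L.iCycles 0) (hf g))) ≫
        e.hom = 0 := by
      rw [Linear.smul_comp, Linear.comp_smul]
      exact hs
    have h4 := (cancel_epi e0.hom).mp (h3.trans comp_zero.symm)
    exact (cancel_mono e.hom).mp (h4.trans zero_comp.symm)
  have h5 := key (s • g) h1
  have h6 : s • α.hom.hom x = 0 := by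
    rw [← hz]
    have h7 : (L.homologyπ 0).hom ((s • g).hom (1 : A)) = 0 :=
      congrArg (fun m => m.hom (1 : A)) h5
    have h9 : (s • g).hom (1 : A) = s • z := by
      rw [ModuleCat.hom_smul, LinearMap.smul_apply]
      show s • (LinearMap.toSpanSingleton A _ z) 1 = s • z
      rw [LinearMap.toSpanSingleton_apply, one_smul]
    rw [h9, map_smul] at h7
    exact h7
  have h8 : α.hom.hom (s • x) = α.hom.hom 0 := by rw [map_smul, h6, map_zero]
  exact (ModuleCat.mono_iff_injective α.hom).mp inferInstance h8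

lemma exists_hom_of_HD (Y : Dual.D A) (i : ℤ) (x : Dual.HD A Y i) :
    ∃ t : Dual.inD A A ⟶ Y⟦i⟧, ∀ s : A, s • t = 0 → s • x = 0 := by
  let β : (homologyFunctor (ModuleCat.{u} A) 0).obj (Y⟦i⟧) ≅
      (homologyFunctor (ModuleCat.{u} A) i).obj Y :=
    ((homologyFunctor (ModuleCat.{u} A) 0).shiftIso i 0 i (by simp)).app Y
  obtain ⟨t, ht⟩ := exists_hom_of_HD_zero (Y⟦i⟧) (β.inv.hom x)
  refine ⟨t, fun s hs => ?_⟩
  have h1 := ht s hs
  have h2 : β.inv.hom (s • x) = β.inv.hom 0 := by rw [map_smul, h1, map_zero]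
  exact (ModuleCat.mono_iff_injective β.inv).mp inferInstance h2

lemma subsingleton_loc_HD_of_LZ (ω : Dual.D A) (p : Ideal A) [p.IsPrime] (i : ℤ)
    (h : LZ ω p i (Dual.inD A A)) :
    Subsingleton (LocalizedModule p.primeCompl (Dual.HD A ω i)) := by
  rw [LocalizedModule.subsingleton_iff]
  intro x
  obtain ⟨t, ht⟩ := exists_hom_of_HD ω i x
  obtain ⟨s, hs, hst⟩ := h t
  exact ⟨s, hs, ht s hst⟩

end Ev

section NonVanish

variable (ω : Dual.D A) (hω : Dual.IsDualizing A ω)

include hω in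
/-- a dualizing complex has nonzero cohomology at every prime -/
theorem exists_nontrivial_loc_HD (p : Ideal A) [hp : p.IsPrime] :
    ∃ i, Nontrivial (LocalizedModule p.primeCompl (Dual.HD A ω i)) := by
  haveI := hω.isNoetherianRing
  by_contra hcon
  have hsub : ∀ i, Subsingleton (LocalizedModule p.primeCompl (Dual.HD A ω i)) := by
    intro i
    rw [← not_nontrivial_iff_subsingleton]
    exact fun h => hcon ⟨i, h⟩
  have hkill : ∀ i, ∃ s : A, s ∉ p ∧ ∀ x : Dual.HD A ω i, s • x = 0 := by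
    intro i
    haveI := hω.finite_cohomology i
    have h1 : (⟨p, hp⟩ : PrimeSpectrum A) ∉ Module.support A (Dual.HD A ω i) := by
      rw [Module.notMem_support_iff]
      exact hsub i
    rw [Module.mem_support_iff_of_finite] at h1
    obtain ⟨s, hs, hsp⟩ := SetLike.not_le_iff_exists.mp h1
    exact ⟨s, hsp, fun x => Module.mem_annihilator.mp hs x⟩
  let P : ObjectProperty (DerivedCategory (ModuleCat.{u} A)) := fun X => ∀ i, LZ ω p i X
  haveI : P.IsClosedUnderIsomorphisms := ⟨fun e h i => (h i).of_iso e⟩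
  obtain ⟨R⟩ := nonempty_res ω hω
  have hPω : P ω := by
    refine Groth.Agent.Lib.Helper1.Devissage.induction_homology' P
      (fun K hK i => LZ.of_isZero hp.ne_top hK)
      (fun T hT h1 h3 i => LZ.of_triangle T hT (h1 i) (h3 i)) ω R.a R.b ?_ ?_
    · intro i hi
      have hex : R.E.ExactAt i :=
        Groth.Agent.Lib.Helper1.Tor.exactAt_of_isZero_X R.E i (R.van i hi)
      rw [Groth.Agent.Lib.Helper1.Tor.exactAt_iff_isZero_H] at hex
      exact hex.of_iso ((homologyFunctor (ModuleCat.{u} A) i).mapIso R.e.symm)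
    · intro j _ _
      obtain ⟨s, hs, hkj⟩ := hkill j
      have h3 : P ((singleFunctor (ModuleCat.{u} A) 0).obj
          ((homologyFunctor (ModuleCat.{u} A) j).obj ω)) :=
        fun i => LZ.of_smul_id s hs
          (smul_id_inD_eq_zero (↑((homologyFunctor (ModuleCat.{u} A) j).obj ω)) s hkj)
      have h4 : P (((singleFunctor (ModuleCat.{u} A) 0).obj
          ((homologyFunctor (ModuleCat.{u} A) j).obj ω))⟦-j⟧) := LZ.shift (-j) h3
      exact ObjectProperty.prop_of_iso P
        (((DerivedCategory.singleFunctors (ModuleCat.{u} A)).shiftIso (-j) j 0 (by lia)).app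
          ((homologyFunctor (ModuleCat.{u} A) j).obj ω)) h4
  obtain ⟨s, hs, hst⟩ := hPω 0
    ((shiftFunctorZero (DerivedCategory (ModuleCat.{u} A)) ℤ).inv.app ω)
  have h5 : s • 𝟙 ω = 0 := by
    have h6 : (s • 𝟙 ω) ≫ (shiftFunctorZero (DerivedCategory (ModuleCat.{u} A)) ℤ).inv.app ω = 0 := by
      rw [Linear.smul_comp, Category.id_comp]
      exact hst
    exact (cancel_mono ((shiftFunctorZero (DerivedCategory (ModuleCat.{u} A)) ℤ).inv.app ω)).mp
      (h6.trans zero_comp.symm)
  have h7 : s = 0 := hω.toEnd_bijective.1 (show s • 𝟙 ω = (0 : A) • 𝟙 ω by rw [h5, zero_smul])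
  exact hs (h7 ▸ p.zero_mem)

end NonVanish

section Minimal

variable [IsNoetherianRing A] (ω : Dual.D A) (hω : Dual.IsDualizing A ω)

include hω in
/-- at a minimal prime, `H^i(ω)_p ≠ 0` iff `Hom(A/p, ω[i])_p ≠ 0` -/
theorem nontrivial_iff_minimal (p : Ideal A) (hp : p ∈ minimalPrimes A) (i : ℤ) :
    Nontrivial (LocalizedModule (Ideal.primeCompl p (hp := hp.1.1)) (Dual.HD A ω i)) ↔
      ¬ LZ ω p i (Dual.inD A (A ⧸ p)) := by
  haveI hpp : p.IsPrime := hp.1.1
  have hvan : ∀ j, LZ ω p j (Dual.inD A (A ⧸ p)) →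
      ¬ Nontrivial (LocalizedModule p.primeCompl (Dual.HD A ω j)) := by
    intro j hP
    have hA : LZ ω p j (Dual.inD A A) := by
      refine LZ_of_killed ω p j ⊥ (fun r _ hrp => ?_) A
        (fun c hc n => by rw [(Submodule.mem_bot A).mp hc, zero_smul])
      have hr : r.asIdeal = p := le_antisymm hrp (hp.2 ⟨r.isPrime, bot_le⟩ hrp)
      exact hP.of_iso (inDIso (Submodule.quotEquivOfEq _ _ hr.symm))
    rw [not_nontrivial_iff_subsingleton]
    exact subsingleton_loc_HD_of_LZ ω p j hA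
  constructor
  · intro h hP
    exact hvan i hP h
  · intro h
    obtain ⟨i₁, hi₁⟩ := exists_nontrivial_loc_HD ω hω p
    have h1 : ¬ LZ ω p i₁ (Dual.inD A (A ⧸ p)) := fun hP => hvan i₁ hP hi₁
    have h2 : i = i₁ := unique_degree ω hω ⟨p, hpp⟩ i i₁ h h1
    rw [h2]
    exact hi₁

include hω in
theorem existsUnique_minimal (p : Ideal A) (hp : p ∈ minimalPrimes A) :
    ∃! i : ℤ, Nontrivial (LocalizedModule (Ideal.primeCompl p (hp := hp.1.1))
      (Dual.HD A ω i)) := by
  haveI hpp : p.IsPrime := hp.1.1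
  have hex : ∃ i₀, ¬ LZ ω p i₀ (Dual.inD A (A ⧸ p)) := by
    have := not_forall_LZ ω hω p
    push Not at this
    exact this
  obtain ⟨i₀, hi₀⟩ := hex
  refine ⟨i₀, (nontrivial_iff_minimal ω hω p hp i₀).mpr hi₀, fun j hj => ?_⟩
  exact unique_degree ω hω ⟨p, hpp⟩ j i₀ ((nontrivial_iff_minimal ω hω p hp j).mp hj) hi₀

end Minimal

end Groth.Agent.Lib.Helper5.DualMin
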