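import Mathlib
import Groth.Agent.Lib.Helper5DualMinA

/-!
# The dimension function of a normalized dualizing complex is `dim A/p` (helper5)
-/

set_option autoImplicit false
universe u
open CategoryTheory CategoryTheory.Limits
attribute [local instance] HasDerivedCategory.standard

namespace Groth.Agent.Lib.Helper5.DualMin

open DerivedCategory Pretriangulated
open Groth.Agent.Lib.Helper5.DualLocal Groth.Agent.Lib.Helper5.NormDual
open Groth.Agent.Lib.Helper5.BiDual Groth.Agent.Lib.Helper5.DualDim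

variable {A : Type u} [CommRing A]

section Delta

variable [IsNoetherianRing A] (δ : PrimeSpectrum A → ℤ)
  (h2 : ∀ p q : PrimeSpectrum A, p ⋖ q → δ p = δ q + 1)

include h2 in
lemma delta_anti : ∀ q p : PrimeSpectrum A, p < q → δ q + 1 ≤ δ p := by
  intro q p
  induction p using (InvImage.wf (fun q : PrimeSpectrum A => q.asIdeal)
    (wellFounded_gt : WellFounded ((· > ·) : Ideal A → Ideal A → Prop))).induction with
  | _ p IH =>
    intro hpq
    let S : Set (PrimeSpectrum A) := {c | p < c ∧ c ≤ q}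
    have hne : S.Nonempty := ⟨q, hpq, le_rfl⟩
    obtain ⟨c₀, hc₀, hmin⟩ := WellFounded.has_min
      (InvImage.wf (fun q : PrimeSpectrum A => q.asIdeal.height) wellFounded_lt) S hne
    have hcov : p ⋖ c₀ := by
      refine ⟨hc₀.1, fun c hpc hcc => ?_⟩
      apply hmin c ⟨hpc, hcc.le.trans hc₀.2⟩
      show c.asIdeal.height < c₀.asIdeal.height
      haveI := c.isPrime
      haveI := c₀.isPrime
      have hlt : c.asIdeal < c₀.asIdeal := hcc
      exact Ideal.height_strict_mono_of_isPrime hlt
    have e1 := h2 p c₀ hcov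
    rcases hc₀.2.eq_or_lt with heq | hlt
    · rw [← heq]
      lia
    · have e2 := IH c₀ (show p.asIdeal < c₀.asIdeal from hc₀.1) hlt
      lia

variable [IsLocalRing A] (h0 : δ (IsLocalRing.closedPoint A) = 0)

include h2 h0 in
lemma delta_nonneg (p : PrimeSpectrum A) : 0 ≤ δ p := by
  have hle : p ≤ IsLocalRing.closedPoint A :=
    IsLocalRing.le_maximalIdeal p.isPrime.ne_top
  rcases hle.eq_or_lt with heq | hlt
  · rw [heq, h0]
  · have := delta_anti δ h2 _ _ hlt
    lia

include h2 h0 in
lemma exists_series : ∀ p : PrimeSpectrum A,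
    ∃ s : LTSeries (PrimeSpectrum A), s.head = p ∧ (s.length : ℤ) = δ p := by
  intro p
  induction p using (InvImage.wf (fun q : PrimeSpectrum A => q.asIdeal)
    (wellFounded_gt : WellFounded ((· > ·) : Ideal A → Ideal A → Prop))).induction with
  | _ p IH =>
    by_cases hmax : p.asIdeal.IsMaximal
    · have hp : p = IsLocalRing.closedPoint A :=
        PrimeSpectrum.ext (IsLocalRing.eq_maximalIdeal hmax)
      refine ⟨RelSeries.singleton _ p, rfl, ?_⟩
      rw [hp, h0]
      rfl
    · obtain ⟨q, hpq⟩ := exists_covBy p hmax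
      obtain ⟨s, hs, hl⟩ := IH q (show p.asIdeal < q.asIdeal from hpq.lt)
      have hrel : p < s.head := by
        rw [hs]
        exact hpq.lt
      refine ⟨s.cons p hrel, RelSeries.head_cons _ _ _, ?_⟩
      rw [RelSeries.cons_length, h2 p q hpq]
      push_cast
      lia

include h2 h0 in
lemma coheight_eq (p : PrimeSpectrum A) : Order.coheight p = ((δ p).toNat : ℕ∞) := by
  apply le_antisymm
  · refine Order.coheight_le fun s hs => ?_
    have key : ∀ (i : ℕ) (hi : i < s.length + 1),
        δ (s ⟨i, hi⟩) + (i : ℤ) ≤ δ (s ⟨0, by lia⟩) := by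
      intro i
      induction i with
      | zero => intro hi; simp
      | succ k ih =>
        intro hi
        have hk : k < s.length + 1 := by lia
        have hlt : s ⟨k, hk⟩ < s ⟨k + 1, hi⟩ := s.strictMono (by simp [Fin.lt_def])
        have e1 := delta_anti δ h2 _ _ hlt
        have e2 := ih hk
        push_cast
        lia
    have e3 := key s.length (by lia)
    have h3 := delta_nonneg δ h2 h0 (s ⟨s.length, by lia⟩)
    have h4 : s ⟨0, by lia⟩ = p := hs
    rw [h4] at e3
    have h5 : s.length ≤ (δ p).toNat := by lia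
    exact_mod_cast h5
  · obtain ⟨s, hs, hl⟩ := exists_series δ h2 h0 p
    have h6 := Order.length_le_coheight_head (p := s)
    rw [hs] at h6
    have h5 : (δ p).toNat = s.length := by lia
    rw [h5]
    exact h6

include h2 h0 in
lemma ringKrullDim_quotient_eq (p : PrimeSpectrum A) :
    ringKrullDim (A ⧸ p.asIdeal) = (((δ p).toNat : ℕ∞) : WithBot ℕ∞) := by
  rw [ringKrullDim_quotient]
  have hset : PrimeSpectrum.zeroLocus (p.asIdeal : Set A) = Set.Ici p := by
    ext q
    rw [PrimeSpectrum.mem_zeroLocus, Set.mem_Ici, SetLike.coe_subset_coe]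
    rfl
  rw [hset, ← Order.coheight_eq_krullDim_Ici, coheight_eq δ h2 h0 p]

end Delta

section Main

variable [IsLocalRing A] [IsNoetherianRing A]

theorem main_minimal (ω : Dual.D A) (hω : Dual.IsDualizing A ω) (hn : Dual.IsNormalized A ω)
    (p : Ideal A) (hp : p ∈ minimalPrimes A) (e : ℕ) (he : ringKrullDim (A ⧸ p) = e) (i : ℤ) :
    Nontrivial (LocalizedModule (Ideal.primeCompl p (hp := hp.1.1)) (Dual.HD A ω i)) ↔
      i = -(e : ℤ) := by
  haveI hpp : p.IsPrime := hp.1.1
  obtain ⟨δ, h1, h2⟩ := Groth.Agent.Lib.Helper5.DualDim.main A ω hω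
  have h0 : δ (IsLocalRing.closedPoint A) = 0 := by
    by_contra hne
    have hnt := (h1 (IsLocalRing.closedPoint A) (-δ (IsLocalRing.closedPoint A))).mpr rfl
    have hne' : -δ (IsLocalRing.closedPoint A) ≠ 0 := by lia
    have hs : Subsingleton (Dual.inD A (A ⧸ (IsLocalRing.closedPoint A).asIdeal) ⟶
        ω⟦-δ (IsLocalRing.closedPoint A)⟧) := hn _ hne'
    exact not_subsingleton _ (inferInstance : Subsingleton (LocalizedModule
      (IsLocalRing.closedPoint A).asIdeal.primeCompl
      (Dual.inD A (A ⧸ (IsLocalRing.closedPoint A).asIdeal) ⟶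
        ω⟦-δ (IsLocalRing.closedPoint A)⟧)))
  have hdim := ringKrullDim_quotient_eq δ h2 h0 ⟨p, hpp⟩
  have hδ : δ ⟨p, hpp⟩ = e := by
    have h3 : (((δ ⟨p, hpp⟩).toNat : ℕ∞) : WithBot ℕ∞) = ((e : ℕ) : WithBot ℕ∞) :=
      hdim.symm.trans he
    have h4 : (δ ⟨p, hpp⟩).toNat = e := by exact_mod_cast h3
    have h5 := delta_nonneg δ h2 h0 ⟨p, hpp⟩
    lia
  rw [nontrivial_iff_minimal ω hω p hp i]
  have hnt : Nontrivial (LocalizedModule p.primeCompl (Dual.inD A (A ⧸ p) ⟶ ω⟦i⟧)) ↔
      ¬ LZ ω p i (Dual.inD A (A ⧸ p)) := by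
    rw [← not_subsingleton_iff_nontrivial, LocalizedModule.subsingleton_iff]
    rfl
  rw [← hδ]
  exact hnt.symm.trans (h1 ⟨p, hpp⟩ i)

end Main

end Groth.Agent.Lib.Helper5.DualMin
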