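import Mathlib
import Groth.Agent.Lib.Helper5LocDD
import Groth.Agent.Lib.Helper5DualMinB
import Groth.Agent.Lib.Helper5DualLocal3
import Groth.Agent.Lib.Helper5BiDualC

/-!
# A local ring whose dualizing complex is a module is Cohen–Macaulay (helper5)

* `exists_normalized_shift`: over a Noetherian local ring every dualizing complex has a normalized
  shift.
* `isCM_of_single_degree`: if a normalized dualizing complex has cohomology in a single degree
  then the ring is Cohen–Macaulay.
* `isCMRing_of_dualizing_module`: a Noetherian ring with a dualizing module is Cohen–Macaulay.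
-/

set_option autoImplicit false
universe u
open CategoryTheory CategoryTheory.Limits
attribute [local instance] HasDerivedCategory.standard

namespace Groth.Agent.Lib.Helper5.LocD

open DerivedCategory Groth.Agent.Lib.Helper1.Extend Groth.Agent.Lib.Helper5.BiDual
open Groth.Agent.Lib.Helper5.DualLocal Groth.Agent.Lib.Helper5.DualMin
open Groth.Agent.Lib.Helper5.DualDim

variable {A : Type u} [CommRing A]

lemma exists_normalized_shift [IsNoetherianRing A] [IsLocalRing A] (ω : Dual.D A)
    (hω : Dual.IsDualizing A ω) : ∃ n : ℤ, Dual.IsNormalized A (ω⟦n⟧) := by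
  obtain ⟨n, h, -⟩ := Groth.Agent.Lib.Helper5.BiDual.main A ω hω (IsLocalRing.maximalIdeal A)
  refine ⟨n, fun i hi => ?_⟩
  have h' : Subsingleton (Dual.inD A (IsLocalRing.ResidueField A) ⟶ ω⟦n + i⟧) :=
    h (n + i) (by lia)
  rw [subsingleton_iff_forall_eq_zero]
  exact (forall_eq_zero_shift_add_iff ω _ n i (n + i) rfl).mp (fun g => Subsingleton.elim _ _)

lemma subsingleton_HD_inD_shift (M : Type u) [AddCommGroup M] [Module A M] (m i : ℤ)
    (h : i ≠ -m) : Subsingleton (Dual.HD A ((Dual.inD A M)⟦m⟧) i) := by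
  let e : (homologyFunctor (ModuleCat.{u} A) i).obj ((Dual.inD A M)⟦m⟧) ≅
      (homologyFunctor (ModuleCat.{u} A) (m + i)).obj (Dual.inD A M) :=
    ((homologyFunctor (ModuleCat.{u} A) 0).shiftIso m i (m + i) rfl).app _
  have hz : IsZero ((homologyFunctor (ModuleCat.{u} A) (m + i)).obj (Dual.inD A M)) := by
    rcases lt_or_gt_of_ne (show m + i ≠ 0 by lia) with h1 | h1
    · exact isZero_of_isGE _ 0 (m + i) h1
    · exact isZero_of_isLE _ 0 (m + i) h1
  exact ModuleCat.subsingleton_of_isZero (hz.of_iso e)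

theorem isCM_of_single_degree [IsLocalRing A] [IsNoetherianRing A] (ω : Dual.D A)
    (hω : Dual.IsDualizing A ω) (hn : Dual.IsNormalized A ω) (n : ℤ)
    (hsingle : ∀ i : ℤ, i ≠ n → Subsingleton (Dual.HD A ω i)) :
    LocCoh.IsCohenMacaulayLocalRing A := by
  have hIM : IsLocalRing.maximalIdeal A • (⊤ : Submodule A A) ≠ ⊤ :=
    Groth.Agent.Lib.Helper5.maximalIdeal_smul_top_ne_top
  have hne : LocCoh.depth A A ≠ ⊤ := Groth.Agent.Lib.Helper28.idealDepth_ne_top hIM
  obtain ⟨k, hk⟩ := ENat.ne_top_iff_exists.mp hne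
  obtain ⟨-, hk2⟩ := (depth_self_eq_iff ω hω hn k).mp hk.symm
  have hnk : n = -(k : ℤ) := by
    by_contra hne'
    haveI := hsingle (-(k : ℤ)) (fun h => hne' h.symm)
    exact false_of_nontrivial_of_subsingleton (Dual.HD A ω (-(k : ℤ)))
  obtain ⟨δ, h1, h2⟩ := Groth.Agent.Lib.Helper5.DualDim.main A ω hω
  have h0 : δ (IsLocalRing.closedPoint A) = 0 := by
    by_contra hne
    have hnt := (h1 (IsLocalRing.closedPoint A) (-δ (IsLocalRing.closedPoint A))).mpr rfl
    have hne' : -δ (IsLocalRing.closedPoint A) ≠ 0 := by lia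
    have hs : Subsingleton (Dual.inD A (A ⧸ (IsLocalRing.closedPoint A).asIdeal) ⟶
        ω⟦-δ (IsLocalRing.closedPoint A)⟧) := hn _ hne'
    exact not_subsingleton _ (inferInstance : Subsingleton (LocalizedModule
      (IsLocalRing.closedPoint A).asIdeal.primeCompl
      (Dual.inD A (A ⧸ (IsLocalRing.closedPoint A).asIdeal) ⟶
        ω⟦-δ (IsLocalRing.closedPoint A)⟧)))
  have hmin : ∀ p : PrimeSpectrum A, p.asIdeal ∈ minimalPrimes A → δ p = k := by
    intro p hp
    have hnt : Nontrivial (LocalizedModule p.asIdeal.primeCompl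
        (Dual.inD A (A ⧸ p.asIdeal) ⟶ ω⟦-δ p⟧)) ↔
        ¬ LZ ω p.asIdeal (-δ p) (Dual.inD A (A ⧸ p.asIdeal)) := by
      rw [← not_subsingleton_iff_nontrivial, LocalizedModule.subsingleton_iff]
      rfl
    have hnt2 : Nontrivial (LocalizedModule p.asIdeal.primeCompl (Dual.HD A ω (-δ p))) :=
      (nontrivial_iff_minimal ω hω p.asIdeal hp (-δ p)).mpr (hnt.mp ((h1 p (-δ p)).mpr rfl))
    have hnt3 : Nontrivial (Dual.HD A ω (-δ p)) := by
      by_contra hs
      rw [not_nontrivial_iff_subsingleton] at hs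
      haveI := hs
      exact false_of_nontrivial_of_subsingleton
        (LocalizedModule p.asIdeal.primeCompl (Dual.HD A ω (-δ p)))
    have h3 : -δ p = n := by
      by_contra hne'
      haveI := hsingle (-δ p) hne'
      exact false_of_nontrivial_of_subsingleton (Dual.HD A ω (-δ p))
    lia
  have hdim : ringKrullDim A = ((k : ℕ∞) : WithBot ℕ∞) := by
    apply le_antisymm
    · show Order.krullDim (PrimeSpectrum A) ≤ _
      rw [Order.krullDim_eq_iSup_coheight_of_nonempty]
      apply WithBot.coe_le_coe.2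
      apply iSup_le
      intro q
      obtain ⟨p, hp, hpq⟩ := Ideal.exists_minimalPrimes_le (bot_le : ⊥ ≤ q.asIdeal)
      have hp' : p ∈ minimalPrimes A := hp
      have h3 : Order.coheight q ≤ Order.coheight (⟨p, hp.1.1⟩ : PrimeSpectrum A) :=
        Order.coheight_anti (show (⟨p, hp.1.1⟩ : PrimeSpectrum A) ≤ q from hpq)
      rw [coheight_eq δ h2 h0 ⟨p, hp.1.1⟩, hmin ⟨p, hp.1.1⟩ hp'] at h3
      simpa using h3
    · obtain ⟨p, hp, -⟩ :=
        Ideal.exists_minimalPrimes_le (bot_le : ⊥ ≤ IsLocalRing.maximalIdeal A)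
      have hp' : p ∈ minimalPrimes A := hp
      have h3 := ringKrullDim_quotient_eq δ h2 h0 ⟨p, hp.1.1⟩
      rw [hmin ⟨p, hp.1.1⟩ hp'] at h3
      have h4 := ringKrullDim_quotient_le p
      have h5 : ringKrullDim (A ⧸ p) = ((k : ℕ∞) : WithBot ℕ∞) := by
        rw [h3]; simp
      rw [h5] at h4
      exact h4
  have hfinal : Module.supportDim A A = ((LocCoh.depth A A : ℕ∞) : WithBot ℕ∞) := by
    rw [Module.supportDim_self_eq_ringKrullDim, hdim, ← hk]
  exact { supportDim_eq_depth := hfinal }

theorem isCMRing_of_dualizing_module [IsNoetherianRing A] (W : Type u) [AddCommGroup W]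
    [Module A W] (h : Dual.IsDualizing A (Dual.inD A W)) : LocCoh.IsCohenMacaulayRing A := by
  refine { isCohenMacaulayLocalRing_localization := fun p _ => ?_ }
  have hB : Dual.IsDualizing (Localization.AtPrime p)
      ((extD A (Localization.AtPrime p)).obj (Dual.inD A W)) :=
    isDualizing_extD p.primeCompl (Localization.AtPrime p) _ h
  have hB' : Dual.IsDualizing (Localization.AtPrime p)
      (Dual.inD (Localization.AtPrime p) (TensorProduct A (Localization.AtPrime p) W)) :=
    isDualizing_of_iso (extDInDIso (A := A) (B := Localization.AtPrime p) W) hB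
  haveI := hB'.isNoetherianRing
  obtain ⟨m, hm⟩ := exists_normalized_shift _ hB'
  exact isCM_of_single_degree _ (isDualizing_shift hB' m) hm (-m)
    (fun i hi => subsingleton_HD_inD_shift _ m i hi)

end Groth.Agent.Lib.Helper5.LocD
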