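import Mathlib
import Groth.Agent.Lib.Helper5BiDualD
import Groth.Agent.Lib.Helper5DualCxHom
import Groth.Agent.Lib.Helper5CoextA
import Groth.Agent.Lib.Helper5LocDG
import Groth.Agent.Lib.Helper1HomFinite
import Groth.Agent.S0973

/-!
# Uniqueness of dualizing complexes over a Noetherian local ring (helper5)

Let `A` be a Noetherian local ring with maximal ideal `𝔪` and residue field `κ`, and let `ω`, `ω'`
be normalized dualizing complexes.  With `D(M) = Hom_A(M, E)` for a bounded injective resolution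
`E` of `ω`, the groups `T^n(M) = Hom(D(M), ω'[n])` form a covariant cohomological functor on finite
modules.  We show `T^n = 0` for `n ≥ 1` (descending induction, Nakayama), deduce that the
restriction `Hom(ω, ω') ⟶ Hom(D(κ), ω')` is onto, hence that there are `s : κ ⟶ ω` and
`f : ω ⟶ ω'` with `s ≫ f ≠ 0`, and symmetrically `s'`, `g`.  As `Hom(κ, ω)` and `Hom(κ, ω')` are
one dimensional, `f ≫ g` and `g ≫ f` are units of `A = End ω = End ω'`, so `f` is an isomorphism.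

* `nonempty_iso_of_normalized`: two normalized dualizing complexes are isomorphic.
* `exists_shift_iso`: `ω' ≅ ω⟦n⟧` for some `n`.
-/

set_option autoImplicit false
universe u
open CategoryTheory CategoryTheory.Limits
attribute [local instance] HasDerivedCategory.standard

namespace Groth.Agent.Lib.Helper5.DualUniq

open DerivedCategory Pretriangulated
open Groth.Agent.Lib.Helper5.BiDual Groth.Agent.Lib.Helper5.DualLocal
  Groth.Agent.Lib.Helper5.NormDual Groth.Agent.Lib.Helper1.HomFinite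

variable {A : Type u} [CommRing A]

section DualMap

variable (E : CochainComplex (ModuleCat.{u} A) ℤ)

lemma dualMap_id (M : ModuleCat.{u} A) : dualMap E (𝟙 M) = 𝟙 (dualCx E M) := by
  refine HomologicalComplex.hom_ext _ _ fun p => ModuleCat.hom_ext (LinearMap.ext fun g => ?_)
  show 𝟙 M ≫ g = g
  exact Category.id_comp g

lemma dualMap_comp {M N P : ModuleCat.{u} A} (f : M ⟶ N) (g : N ⟶ P) :
    dualMap E (f ≫ g) = dualMap E g ≫ dualMap E f := by
  refine HomologicalComplex.hom_ext _ _ fun p => ModuleCat.hom_ext (LinearMap.ext fun h => ?_)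
  show (f ≫ g) ≫ h = f ≫ (g ≫ h)
  exact Category.assoc f g h

lemma dualMap_smul {M N : ModuleCat.{u} A} (a : A) (f : M ⟶ N) :
    dualMap E (a • f) = a • dualMap E f := by
  refine HomologicalComplex.hom_ext _ _ fun p => ModuleCat.hom_ext (LinearMap.ext fun h => ?_)
  show (a • f) ≫ h = a • (f ≫ h)
  exact Linear.smul_comp _ _ _ _ _ _

/-- transport of vanishing along an isomorphism of modules -/
lemma eq_zero_of_iso {N N' : ModuleCat.{u} A} (i : N ≅ N') (Y : Dual.D A)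
    (h : ∀ ψ : Q.obj (dualCx E N') ⟶ Y, ψ = 0) (ψ : Q.obj (dualCx E N) ⟶ Y) : ψ = 0 := by
  have h1 : Q.map (dualMap E i.inv) ≫ Q.map (dualMap E i.hom) = 𝟙 _ := by
    rw [← Functor.map_comp, ← dualMap_comp, i.hom_inv_id, dualMap_id, CategoryTheory.Functor.map_id]
  have h2 : ψ = Q.map (dualMap E i.inv) ≫ (Q.map (dualMap E i.hom) ≫ ψ) := by
    rw [← Category.assoc, h1, Category.id_comp]
  rw [h2, h (Q.map (dualMap E i.hom) ≫ ψ), comp_zero]

variable (hE : ∀ p, Injective (E.X p))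

include hE in
/-- if `T(M/xM) = 0` and `T⟦1⟧(0 :_M x) = 0` then `T(M) = x T(M)` -/
lemma exists_smul_eq (Y : Dual.D A) (M : Type u) [AddCommGroup M] [Module A M] (x : A)
    (hK : ∀ ψ : Q.obj (dualCx E (ModuleCat.of A
      (LinearMap.ker (x • LinearMap.id : M →ₗ[A] M).rangeRestrict))) ⟶ Y⟦(1 : ℤ)⟧, ψ = 0)
    (hQ : ∀ ψ : Q.obj (dualCx E (ModuleCat.of A
      (M ⧸ LinearMap.range (x • LinearMap.id : M →ₗ[A] M)))) ⟶ Y, ψ = 0)
    (φ : Q.obj (dualCx E (ModuleCat.of A M)) ⟶ Y) :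
    ∃ φ' : Q.obj (dualCx E (ModuleCat.of A M)) ⟶ Y, φ = x • φ' := by
  obtain ⟨ψ, hψ⟩ := lin_exists_of_comp_eq_zero E hE
    (LinearMap.range (x • LinearMap.id : M →ₗ[A] M)).subtype
    (LinearMap.range (x • LinearMap.id : M →ₗ[A] M)).mkQ
    Subtype.val_injective (Submodule.mkQ_surjective _) (LinearMap.exact_subtype_mkQ _) Y φ (hQ _)
  obtain ⟨φ', hφ'⟩ := lin_exists_factor E hE
    (LinearMap.ker (x • LinearMap.id : M →ₗ[A] M).rangeRestrict).subtype
    (x • LinearMap.id : M →ₗ[A] M).rangeRestrict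
    Subtype.val_injective (LinearMap.surjective_rangeRestrict _)
    (LinearMap.exact_subtype_ker_map _) Y hK ψ
  refine ⟨φ', ?_⟩
  have h1 : ModuleCat.ofHom (x • LinearMap.id : M →ₗ[A] M).rangeRestrict ≫
      ModuleCat.ofHom (LinearMap.range (x • LinearMap.id : M →ₗ[A] M)).subtype =
        x • 𝟙 (ModuleCat.of A M) := by
    refine ModuleCat.hom_ext (LinearMap.ext fun y => ?_)
    rfl
  rw [hψ, hφ', ← Category.assoc, ← Functor.map_comp, ← dualMap_comp, h1, dualMap_smul,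
    dualMap_id, Functor.map_smul, CategoryTheory.Functor.map_id, Linear.smul_comp,
    Category.id_comp]

end DualMap

section Nakayama

variable [IsLocalRing A]

lemma eq_zero_of_forall_exists_smul {X : Type*} [AddCommGroup X] [Module A X]
    [Module.Finite A X] (x : A) (hx : x ∈ IsLocalRing.maximalIdeal A)
    (h : ∀ φ : X, ∃ φ' : X, φ = x • φ') (φ : X) : φ = 0 := by
  have h1 : (⊤ : Submodule A X) ≤ Ideal.span {x} • (⊤ : Submodule A X) := by
    intro φ _
    obtain ⟨φ', rfl⟩ := h φ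
    exact Submodule.smul_mem_smul (Ideal.mem_span_singleton_self x) Submodule.mem_top
  have h2 : Ideal.span {x} ≤ (⊥ : Ideal A).jacobson := by
    rw [IsLocalRing.jacobson_eq_maximalIdeal ⊥ bot_ne_top, Ideal.span_singleton_le_iff_mem]
    exact hx
  have h3 := Submodule.eq_bot_of_le_smul_of_le_jacobson_bot (Ideal.span {x})
    (⊤ : Submodule A X) Module.Finite.fg_top h1 h2
  have h4 : φ ∈ (⊤ : Submodule A X) := Submodule.mem_top
  rw [h3] at h4
  exact (Submodule.mem_bot A).mp h4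

/-- one dimensionality -/
lemma exists_smul_of_ne_zero {V : Type*} [AddCommGroup V] [Module A V]
    (e : V ≃ₗ[A] A ⧸ IsLocalRing.maximalIdeal A) (v w : V) (hv : v ≠ 0) (hw : w ≠ 0) :
    ∃ u : A, IsUnit u ∧ v = u • w := by
  obtain ⟨a, ha⟩ := Submodule.Quotient.mk_surjective (IsLocalRing.maximalIdeal A) (e v)
  obtain ⟨b, hb⟩ := Submodule.Quotient.mk_surjective (IsLocalRing.maximalIdeal A) (e w)
  have ha' : a ∉ IsLocalRing.maximalIdeal A := by
    intro hm
    apply hv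
    apply e.injective
    rw [← ha, map_zero]
    exact (Submodule.Quotient.mk_eq_zero _).mpr hm
  have hb' : b ∉ IsLocalRing.maximalIdeal A := by
    intro hm
    apply hw
    apply e.injective
    rw [← hb, map_zero]
    exact (Submodule.Quotient.mk_eq_zero _).mpr hm
  have hua : IsUnit a := IsLocalRing.notMem_maximalIdeal.mp ha'
  have hub : IsUnit b := IsLocalRing.notMem_maximalIdeal.mp hb'
  obtain ⟨ub, rfl⟩ := hub
  refine ⟨a * ↑ub⁻¹, hua.mul (Units.isUnit _), ?_⟩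
  apply e.injective
  rw [map_smul, ← hb, ← ha, ← Submodule.Quotient.mk_smul]
  congr 1
  rw [smul_eq_mul, mul_assoc, Units.inv_mul, mul_one]

lemma smul_hom_residue_eq_zero (Y : Dual.D A) (a : A) (ha : a ∈ IsLocalRing.maximalIdeal A)
    (s : Dual.inD A (A ⧸ IsLocalRing.maximalIdeal A) ⟶ Y) : a • s = 0 := by
  have h1 : a • 𝟙 (Dual.inD A (A ⧸ IsLocalRing.maximalIdeal A)) = 0 := by
    have h2 : a • 𝟙 (ModuleCat.of A (A ⧸ IsLocalRing.maximalIdeal A)) = 0 :=
      smul_hom_eq_zero (IsLocalRing.maximalIdeal A) _ a ha _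
    have h3 : (DerivedCategory.singleFunctor (ModuleCat.{u} A) 0).map
        (a • 𝟙 (ModuleCat.of A (A ⧸ IsLocalRing.maximalIdeal A))) =
          a • 𝟙 (Dual.inD A (A ⧸ IsLocalRing.maximalIdeal A)) := by
      rw [Functor.map_smul, CategoryTheory.Functor.map_id]
    rw [← h3, h2, Functor.map_zero]
  have h4 : a • s = (a • 𝟙 (Dual.inD A (A ⧸ IsLocalRing.maximalIdeal A))) ≫ s := by
    rw [Linear.smul_comp, Category.id_comp]
  rw [h4, h1, zero_comp]

end Nakayama

section Quot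

variable [IsNoetherianRing A] [IsLocalRing A]
variable (E : CochainComplex (ModuleCat.{u} A) ℤ) (hE : ∀ p, Injective (E.X p))

include hE in
/-- the Nakayama induction: `T(N) = 0` for all cyclic `N` -/
theorem van_cyclic (Y : Dual.D A)
    (hfinY : ∀ (M : Type u) [AddCommGroup M] [Module A M] [Module.Finite A M],
      Module.Finite A (Q.obj (dualCx E (ModuleCat.of A M)) ⟶ Y))
    (hY1 : ∀ (K : Type u) [AddCommGroup K] [Module A K] [Module.Finite A K],
      ∀ ψ : Q.obj (dualCx E (ModuleCat.of A K)) ⟶ Y⟦(1 : ℤ)⟧, ψ = 0)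
    (hk : ∀ ψ : Q.obj (dualCx E (ModuleCat.of A (A ⧸ IsLocalRing.maximalIdeal A))) ⟶ Y,
      ψ = 0) :
    ∀ (J : Ideal A) (N : Type u) [AddCommGroup N] [Module A N] (π : A →ₗ[A] N),
      Function.Surjective π → LinearMap.ker π = J →
        ∀ ψ : Q.obj (dualCx E (ModuleCat.of A N)) ⟶ Y, ψ = 0 := by
  intro J
  induction J using WellFoundedGT.induction with
  | ind J IH =>
    intro N _ _ π hπ hker ψ
    haveI : Module.Finite A N := Module.Finite.of_surjective π hπ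
    by_cases hJ : J = ⊤
    · have hsub : Subsingleton N := by
        refine ⟨fun y y' => ?_⟩
        have h0 : ∀ z : N, z = 0 := by
          intro z
          obtain ⟨a, rfl⟩ := hπ z
          have : a ∈ LinearMap.ker π := by rw [hker, hJ]; exact Submodule.mem_top
          exact LinearMap.mem_ker.mp this
        rw [h0 y, h0 y']
      exact (Functor.map_isZero Q (isZero_dualCx_of_isZero E _
        (ModuleCat.isZero_of_subsingleton (ModuleCat.of A N)))).eq_of_src _ _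
    by_cases hJm : J = IsLocalRing.maximalIdeal A
    · let e1 : (A ⧸ IsLocalRing.maximalIdeal A) ≃ₗ[A] N :=
        (Submodule.quotEquivOfEq _ _ (hker.trans hJm).symm).trans
          (LinearMap.quotKerEquivOfSurjective π hπ)
      exact eq_zero_of_iso E e1.symm.toModuleIso Y hk ψ
    · have hlt : J < IsLocalRing.maximalIdeal A :=
        lt_of_le_of_ne (IsLocalRing.le_maximalIdeal hJ) hJm
      obtain ⟨x, hxm, hxJ⟩ := SetLike.exists_of_lt hlt
      -- the quotient `N / xN`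
      have hQ : ∀ ψ : Q.obj (dualCx E (ModuleCat.of A
          (N ⧸ LinearMap.range (x • LinearMap.id : N →ₗ[A] N)))) ⟶ Y, ψ = 0 := by
        refine IH (LinearMap.ker ((LinearMap.range (x • LinearMap.id : N →ₗ[A] N)).mkQ ∘ₗ π)) ?_
          _ ((LinearMap.range (x • LinearMap.id : N →ₗ[A] N)).mkQ ∘ₗ π)
          ((Submodule.mkQ_surjective _).comp hπ) rfl
        refine lt_of_le_of_ne ?_ ?_
        · intro a ha
          rw [← hker, LinearMap.mem_ker] at ha
          rw [LinearMap.mem_ker, LinearMap.comp_apply, ha, map_zero]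
        · intro heq
          apply hxJ
          rw [heq, LinearMap.mem_ker, LinearMap.comp_apply, Submodule.mkQ_apply,
            Submodule.Quotient.mk_eq_zero]
          refine ⟨π 1, ?_⟩
          show x • π 1 = π x
          rw [← map_smul, smul_eq_mul, mul_one]
      have hK : ∀ ψ : Q.obj (dualCx E (ModuleCat.of A
          (LinearMap.ker (x • LinearMap.id : N →ₗ[A] N).rangeRestrict))) ⟶ Y⟦(1 : ℤ)⟧, ψ = 0 :=
        hY1 _
      haveI := hfinY N
      exact eq_zero_of_forall_exists_smul x hxm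
        (fun φ => exists_smul_eq E hE Y N x hK hQ φ) ψ

include hE in
/-- `T(M) = 0` for all finite `M` -/
theorem van_finite (Y : Dual.D A)
    (hfinY : ∀ (M : Type u) [AddCommGroup M] [Module A M] [Module.Finite A M],
      Module.Finite A (Q.obj (dualCx E (ModuleCat.of A M)) ⟶ Y))
    (hY1 : ∀ (K : Type u) [AddCommGroup K] [Module A K] [Module.Finite A K],
      ∀ ψ : Q.obj (dualCx E (ModuleCat.of A K)) ⟶ Y⟦(1 : ℤ)⟧, ψ = 0)
    (hk : ∀ ψ : Q.obj (dualCx E (ModuleCat.of A (A ⧸ IsLocalRing.maximalIdeal A))) ⟶ Y,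
      ψ = 0)
    (M : Type u) [AddCommGroup M] [Module A M] [hfin : Module.Finite A M] :
    ∀ ψ : Q.obj (dualCx E (ModuleCat.of A M)) ⟶ Y, ψ = 0 := by
  induction hfin using IsNoetherianRing.induction_on_isQuotientEquivQuotientPrime A with
  | subsingleton N =>
    intro ψ
    exact (Functor.map_isZero Q (isZero_dualCx_of_isZero E _
      (ModuleCat.isZero_of_subsingleton (ModuleCat.of A N)))).eq_of_src _ _
  | quotient N p e' =>
    refine van_cyclic E hE Y hfinY hY1 hk p.asIdeal N (quotMap p.asIdeal e')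
      (quotMap_surjective p.asIdeal e') ?_
    rw [LinearMap.exact_iff.mp (quotMap_exact p.asIdeal e'), Submodule.range_subtype]
  | exact N₁ N₂ N₃ f g hf hg hfg h₁ h₃ =>
    intro ψ
    obtain ⟨ψ', hψ'⟩ := lin_exists_of_comp_eq_zero E hE f g hf hg hfg Y ψ (h₃ _)
    have h0 := h₁ ψ'
    rw [hψ', h0]
    exact comp_zero

end Quot

section Main

variable [IsNoetherianRing A] [IsLocalRing A]
variable {ω ω' : Dual.D A}

local notation "𝔪" => IsLocalRing.maximalIdeal A

/-- `Hom(κ, ω) ≃ κ` for a normalized dualizing complex -/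
theorem nonempty_hom_residue_equiv (hω : Dual.IsDualizing A ω) (hn : Dual.IsNormalized A ω) :
    Nonempty ((Dual.inD A (A ⧸ 𝔪) ⟶ ω) ≃ₗ[A] (A ⧸ 𝔪)) := by
  obtain ⟨n, -, ⟨e⟩⟩ := Groth.Agent.Lib.Helper5.BiDual.main A ω hω 𝔪
  have hn0 : n = 0 := by
    by_contra hne
    haveI : Subsingleton (Dual.inD A (A ⧸ 𝔪) ⟶ ω⟦n⟧) := hn n hne
    haveI : Subsingleton (A ⧸ 𝔪) := e.symm.toEquiv.subsingleton
    haveI : Nontrivial (A ⧸ 𝔪) := Ideal.Quotient.nontrivial_iff.mpr
      (IsLocalRing.maximalIdeal.isMaximal A).ne_top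
    exact not_subsingleton (A ⧸ 𝔪) inferInstance
  subst hn0
  exact ⟨(Linear.homCongr A (Iso.refl _)
    ((shiftFunctorZero (Dual.D A) ℤ).symm.app ω)).trans e⟩

variable (hω : Dual.IsDualizing A ω) (hn : Dual.IsNormalized A ω) (R : Res ω)

include hω hn in
/-- `D(κ) ≅ κ` for a normalized dualizing complex -/
theorem nonempty_dual_residue_iso :
    Nonempty (Q.obj (dualCx R.E (ModuleCat.of A (A ⧸ 𝔪))) ≅ Dual.inD A (A ⧸ 𝔪)) := by
  have hex : ∀ i : ℤ, i ≠ 0 → IsZero ((dualCx R.E (ModuleCat.of A (A ⧸ 𝔪))).homology i) := by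
    intro i hi
    haveI : Subsingleton (Dual.inD A (A ⧸ 𝔪) ⟶ ω⟦i⟧) := hn i hi
    have key := (Groth.Agent.Lib.Helper23InjAmp.single_forall_eq_zero_iff
      (ModuleCat.of A (A ⧸ 𝔪)) R.E i (i - 1) (i + 1) (by lia) rfl).mp (by
        intro φ
        have h0 : φ ≫ (R.e.hom)⟦i⟧' = 0 := Subsingleton.elim _ _
        exact (cancel_mono ((R.e.hom)⟦i⟧')).mp (h0.trans zero_comp.symm))
    rw [← HomologicalComplex.exactAt_iff_isZero_homology,
      HomologicalComplex.exactAt_iff' _ (i - 1) i (i + 1) (by simp) (by simp),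
      ShortComplex.moduleCat_exact_iff]
    intro (x₂ : ModuleCat.of A (A ⧸ 𝔪) ⟶ R.E.X i) (hx₂ : x₂ ≫ R.E.d i (i + 1) = 0)
    obtain ⟨g, hg⟩ := key x₂ hx₂
    exact ⟨g, hg⟩
  have hH : ∀ i : ℤ, i ≠ 0 → IsZero ((homologyFunctor (ModuleCat.{u} A) i).obj
      (Q.obj (dualCx R.E (ModuleCat.of A (A ⧸ 𝔪))))) := fun i hi =>
    (hex i hi).of_iso ((homologyFunctorFactors (ModuleCat.{u} A) i).app _)
  haveI : (Q.obj (dualCx R.E (ModuleCat.of A (A ⧸ 𝔪)))).IsGE 0 :=
    (DerivedCategory.isGE_iff _ 0).2 (fun i hi => hH i (by lia))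
  haveI : (Q.obj (dualCx R.E (ModuleCat.of A (A ⧸ 𝔪)))).IsLE 0 :=
    (DerivedCategory.isLE_iff _ 0).2 (fun i hi => hH i (by lia))
  obtain ⟨e⟩ := Groth.Agent.S0973.iso_single_of_amp
    (Q.obj (dualCx R.E (ModuleCat.of A (A ⧸ 𝔪)))) 0
  obtain ⟨e4⟩ := nonempty_hom_residue_equiv hω hn
  let e1 : ((homologyFunctor (ModuleCat.{u} A) 0).obj
      (Q.obj (dualCx R.E (ModuleCat.of A (A ⧸ 𝔪))))) ≃ₗ[A]
        (dualCx R.E (ModuleCat.of A (A ⧸ 𝔪))).homology 0 :=
    ((homologyFunctorFactors (ModuleCat.{u} A) 0).app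
      (dualCx R.E (ModuleCat.of A (A ⧸ 𝔪)))).toLinearEquiv
  let e2 := homologyDualCxEquiv R.E (ModuleCat.of A (A ⧸ 𝔪)) 0
  let e3 : (sD (ModuleCat.of A (A ⧸ 𝔪)) 0 ⟶ Q.obj R.E) ≃ₗ[A] (Dual.inD A (A ⧸ 𝔪) ⟶ ω) :=
    Linear.homCongr A (Iso.refl _) R.e
  let eN := ((e1.trans e2).trans e3).trans e4
  exact ⟨e ≪≫ (singleFunctor (ModuleCat.{u} A) 0).mapIso
    eN.toModuleIso⟩

variable (hω' : Dual.IsDualizing A ω') (hn' : Dual.IsNormalized A ω')

include hω hn hn' in
/-- `T^n(κ) = 0` for `n ≠ 0` -/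
theorem van_residue (n : ℤ) (hn0 : n ≠ 0)
    (ψ : Q.obj (dualCx R.E (ModuleCat.of A (A ⧸ 𝔪))) ⟶ ω'⟦n⟧) : ψ = 0 := by
  obtain ⟨e⟩ := nonempty_dual_residue_iso hω hn R
  haveI : Subsingleton (Dual.inD A (A ⧸ 𝔪) ⟶ ω'⟦n⟧) := hn' n hn0
  have h : e.inv ≫ ψ = 0 := Subsingleton.elim _ _
  exact (cancel_epi e.inv).mp (h.trans comp_zero.symm)

include hω hω' in
theorem finite_hom_dual (n : ℤ) (M : Type u) [AddCommGroup M] [Module A M]
    [Module.Finite A M] :
    Module.Finite A (Q.obj (dualCx R.E (ModuleCat.of A M)) ⟶ ω'⟦n⟧) := by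
  have hfE : ∀ i, Module.Finite A (R.E.homology i) := by
    intro i
    have := hω.finite_cohomology i
    let e1 : (homologyFunctor (ModuleCat.{u} A) i).obj ω ≅ R.E.homology i :=
      (homologyFunctor (ModuleCat.{u} A) i).mapIso R.e.symm ≪≫
        (homologyFunctorFactors (ModuleCat.{u} A) i).app R.E
    exact Module.Finite.equiv e1.toLinearEquiv
  apply finite_hom_of_finInj
  · intro i
    have := Groth.Agent.Lib.Helper5.Coext.finite_homology_dualCx R.E R.injective_X R.a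
      (fun p hp => R.van p (Or.inl hp)) hfE i M
    let e2 : (homologyFunctor (ModuleCat.{u} A) i).obj
        (Q.obj (dualCx R.E (ModuleCat.of A M))) ≅ (dualCx R.E (ModuleCat.of A M)).homology i :=
      (homologyFunctorFactors (ModuleCat.{u} A) i).app _
    exact Module.Finite.equiv e2.symm.toLinearEquiv
  · exact (isDualizing_shift hω' n).finite_cohomology
  · exact hasFiniteInjDim_of_isDualizing _ (isDualizing_shift hω' n)

variable (R' : Res ω')

include hω hn hω' hn' R' in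
theorem van_pos_aux : ∀ (k : ℕ) (n : ℤ), 1 ≤ n → max R.b R'.b - min R.a R'.a < n + k →
    ∀ (M : Type u) [AddCommGroup M] [Module A M] [Module.Finite A M],
      ∀ ψ : Q.obj (dualCx R.E (ModuleCat.of A M)) ⟶ ω'⟦n⟧, ψ = 0 := by
  intro k
  induction k with
  | zero =>
    intro n _ hk M _ _ _ ψ
    have hX : DRing.VanishesOutside (dualCx R.E (ModuleCat.of A M)) (min R.a R'.a)
        (max R.b R'.b) := fun i hi =>
      R.vanishesOutside_dualCx (ModuleCat.of A M) i (by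
        rcases hi with hi | hi
        · exact Or.inl (lt_of_lt_of_le hi (min_le_left _ _))
        · exact Or.inr (lt_of_le_of_lt (le_max_left _ _) hi))
    have hE' : DRing.VanishesOutside R'.E (min R.a R'.a) (max R.b R'.b) := fun i hi =>
      R'.van i (by
        rcases hi with hi | hi
        · exact Or.inl (lt_of_lt_of_le hi (min_le_right _ _))
        · exact Or.inr (lt_of_le_of_lt (le_max_right _ _) hi))
    have h0 := eq_zero_of_bound R'.E _ _ hE' _ hX n (by simpa using hk) (ψ ≫ (R'.e.inv)⟦n⟧')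
    exact (cancel_mono ((R'.e.inv)⟦n⟧')).mp (h0.trans zero_comp.symm)
  | succ k IH =>
    intro n hn1 hk M _ _ _
    refine van_finite R.E R.injective_X (ω'⟦n⟧) (fun M' _ _ _ => finite_hom_dual hω R hω' n M')
      ?_ (fun ψ => van_residue hω hn R hn' n (by lia) ψ) M
    intro K _ _ _
    exact (forall_eq_zero_shift_iff ω' _ n (n + 1) rfl).mp
      (IH (n + 1) (by lia) (by push_cast at hk; lia) K)

include hω hn hω' hn' R' in
theorem van_pos (n : ℤ) (hn1 : 1 ≤ n) (M : Type u) [AddCommGroup M] [Module A M]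
    [Module.Finite A M] :
    ∀ ψ : Q.obj (dualCx R.E (ModuleCat.of A M)) ⟶ ω'⟦n⟧, ψ = 0 := by
  obtain ⟨k, hk⟩ : ∃ k : ℕ, max R.b R'.b - min R.a R'.a < n + k :=
    ⟨(max R.b R'.b - min R.a R'.a).toNat + 1, by
      have := Int.self_le_toNat (max R.b R'.b - min R.a R'.a)
      push_cast
      lia⟩
  exact van_pos_aux hω hn R hω' hn' R' k n hn1 hk M

end Main

section Final

variable [IsNoetherianRing A] [IsLocalRing A]

local notation "𝔪" => IsLocalRing.maximalIdeal A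

/-- there are `s : κ ⟶ ω` and `f : ω ⟶ ω'` with `s ≫ f ≠ 0` -/
theorem exists_comp_ne_zero (ω ω' : Dual.D A) (hω : Dual.IsDualizing A ω)
    (hn : Dual.IsNormalized A ω) (hω' : Dual.IsDualizing A ω') (hn' : Dual.IsNormalized A ω') :
    ∃ (s : Dual.inD A (A ⧸ 𝔪) ⟶ ω) (f : ω ⟶ ω'), s ≫ f ≠ 0 := by
  obtain ⟨R⟩ := nonempty_res ω hω
  obtain ⟨R'⟩ := nonempty_res ω' hω'
  obtain ⟨e⟩ := nonempty_dual_residue_iso hω hn R
  obtain ⟨e4⟩ := nonempty_hom_residue_equiv hω' hn'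
  -- a nonzero map `κ ⟶ ω'`
  obtain ⟨t, ht⟩ : ∃ t : Dual.inD A (A ⧸ 𝔪) ⟶ ω', t ≠ 0 := by
    refine ⟨e4.symm 1, fun h0 => ?_⟩
    have h1 : (1 : A ⧸ 𝔪) = 0 := by
      have := congrArg e4 h0
      rwa [LinearEquiv.apply_symm_apply, map_zero] at this
    haveI : Nontrivial (A ⧸ 𝔪) := Ideal.Quotient.nontrivial_iff.mpr
      (IsLocalRing.maximalIdeal.isMaximal A).ne_top
    exact one_ne_zero h1
  have hY : ∀ k : Q.obj (dualCx R.E (ModuleCat.of A 𝔪)) ⟶ ω'⟦(1 : ℤ)⟧, k = 0 :=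
    van_pos hω hn R hω' hn' R' 1 le_rfl 𝔪
  obtain ⟨ψ, hψ⟩ := lin_exists_factor R.E R.injective_X (Submodule.subtype 𝔪)
    (Submodule.mkQ 𝔪) Subtype.val_injective (Submodule.mkQ_surjective 𝔪)
    (LinearMap.exact_subtype_mkQ 𝔪) ω' hY (e.hom ≫ t)
  refine ⟨e.inv ≫ Q.map (dualMap R.E (ModuleCat.ofHom (Submodule.mkQ 𝔪))) ≫ (ιA R).hom,
    (ιA R).inv ≫ ψ, ?_⟩
  have h1 : (e.inv ≫ Q.map (dualMap R.E (ModuleCat.ofHom (Submodule.mkQ 𝔪))) ≫ (ιA R).hom) ≫
      (ιA R).inv ≫ ψ = t := by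
    simp only [Category.assoc, Iso.hom_inv_id_assoc]
    rw [← hψ, Iso.inv_hom_id_assoc]
  rw [h1]
  exact ht

/-- **two normalized dualizing complexes over a Noetherian local ring are isomorphic** -/
theorem nonempty_iso_of_normalized (ω ω' : Dual.D A) (hω : Dual.IsDualizing A ω)
    (hn : Dual.IsNormalized A ω) (hω' : Dual.IsDualizing A ω') (hn' : Dual.IsNormalized A ω') :
    Nonempty (ω ≅ ω') := by
  obtain ⟨s, f, hsf⟩ := exists_comp_ne_zero ω ω' hω hn hω' hn'
  obtain ⟨s', g, hs'g⟩ := exists_comp_ne_zero ω' ω hω' hn' hω hn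
  obtain ⟨eV⟩ := nonempty_hom_residue_equiv hω hn
  obtain ⟨eV'⟩ := nonempty_hom_residue_equiv hω' hn'
  have hs : s ≠ 0 := fun h => hsf (by rw [h, zero_comp])
  have hs' : s' ≠ 0 := fun h => hs'g (by rw [h, zero_comp])
  -- `f ≫ g` is a unit
  obtain ⟨u, hu, hu'⟩ := exists_smul_of_ne_zero eV' (s ≫ f) s' hsf hs'
  have h1 : s ≫ f ≫ g ≠ 0 := by
    rw [← Category.assoc, hu', Linear.smul_comp]
    exact fun h => hs'g (hu.smul_eq_zero.mp h)
  obtain ⟨a, ha⟩ := hω.toEnd_bijective.2 (f ≫ g)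
  have ha : a • 𝟙 ω = f ≫ g := ha
  have ha' : a ∉ 𝔪 := by
    intro hm
    apply h1
    rw [← ha, Linear.comp_smul, Category.comp_id]
    exact smul_hom_residue_eq_zero ω a hm s
  -- `g ≫ f` is a unit
  obtain ⟨v, hv, hv'⟩ := exists_smul_of_ne_zero eV (s' ≫ g) s hs'g hs
  have h2 : s' ≫ g ≫ f ≠ 0 := by
    rw [← Category.assoc, hv', Linear.smul_comp]
    exact fun h => hsf (hv.smul_eq_zero.mp h)
  obtain ⟨b, hb⟩ := hω'.toEnd_bijective.2 (g ≫ f)
  have hb : b • 𝟙 ω' = g ≫ f := hb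
  have hb' : b ∉ 𝔪 := by
    intro hm
    apply h2
    rw [← hb, Linear.comp_smul, Category.comp_id]
    exact smul_hom_residue_eq_zero ω' b hm s'
  obtain ⟨ua, rfl⟩ := IsLocalRing.notMem_maximalIdeal.mp ha'
  obtain ⟨ub, rfl⟩ := IsLocalRing.notMem_maximalIdeal.mp hb'
  have hr : f ≫ ((↑ua⁻¹ : A) • g) = 𝟙 ω := by
    rw [Linear.comp_smul, ← ha, smul_smul, Units.inv_mul, one_smul]
  have hl : ((↑ub⁻¹ : A) • g) ≫ f = 𝟙 ω' := by
    rw [Linear.smul_comp, ← hb, smul_smul, Units.inv_mul, one_smul]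
  have hlr : (↑ub⁻¹ : A) • g = (↑ua⁻¹ : A) • g := by
    calc (↑ub⁻¹ : A) • g = ((↑ub⁻¹ : A) • g) ≫ 𝟙 ω := (Category.comp_id _).symm
      _ = ((↑ub⁻¹ : A) • g) ≫ f ≫ ((↑ua⁻¹ : A) • g) := by rw [hr]
      _ = (((↑ub⁻¹ : A) • g) ≫ f) ≫ ((↑ua⁻¹ : A) • g) := (Category.assoc _ _ _).symm
      _ = (↑ua⁻¹ : A) • g := by rw [hl, Category.id_comp]
  exact ⟨⟨f, (↑ua⁻¹ : A) • g, hr, by rw [← hlr]; exact hl⟩⟩

/-- **uniqueness of dualizing complexes over a Noetherian local ring up to shift** -/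
theorem exists_shift_iso (ω ω' : Dual.D A) (hω : Dual.IsDualizing A ω)
    (hω' : Dual.IsDualizing A ω') : ∃ n : ℤ, Nonempty (ω' ≅ ω⟦n⟧) := by
  obtain ⟨n, hn⟩ := Groth.Agent.Lib.Helper5.LocD.exists_normalized_shift ω hω
  obtain ⟨n', hn'⟩ := Groth.Agent.Lib.Helper5.LocD.exists_normalized_shift ω' hω'
  obtain ⟨e⟩ := nonempty_iso_of_normalized (ω⟦n⟧) (ω'⟦n'⟧) (isDualizing_shift hω n) hn
    (isDualizing_shift hω' n') hn'
  refine ⟨n - n', ⟨?_⟩⟩
  exact ((shiftFunctorCompIsoId (Dual.D A) n' (-n') (by lia)).app ω').symm ≪≫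
    (shiftFunctor (Dual.D A) (-n')).mapIso e.symm ≪≫
    ((shiftFunctorAdd' (Dual.D A) n (-n') (n - n') (by lia)).app ω).symm

end Final

end Groth.Agent.Lib.Helper5.DualUniq
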