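import Mathlib
import Groth.Agent.Lib.Helper5LocDD
import Groth.Agent.Lib.Helper5DualUniqA
import Groth.Agent.S1746

/-!
# Local structure of `Hom(ω', ω[i])` for two dualizing complexes (helper10)
-/

set_option autoImplicit false
set_option backward.isDefEq.respectTransparency.types false
universe u
open CategoryTheory CategoryTheory.Limits
attribute [local instance] HasDerivedCategory.standard

namespace Groth.Agent.Lib.Helper10.DualPairB

open DerivedCategory Groth.Agent.Lib.Helper1.Extend Groth.Agent.Lib.Helper5.BiDual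
  Groth.Agent.Lib.Helper5.LocD

section Loc

variable {A : Type u} [CommRing A] [IsNoetherianRing A] (S : Submonoid A)

/-- `Hom(K_S, Y_S)` is the localization of `Hom(K, Y)` -/
theorem nonempty_localizedModule_equiv {K Y : Dual.D A} (hK : HasFPRes K) (hY : HasInjRes Y)
    {M : Type u} [AddCommGroup M] [Module A M] (e : M ≃ₗ[A] (K ⟶ Y)) :
    Nonempty (LocalizedModule S M ≃ₗ[Localization S]
      ((extD A (Localization S)).obj K ⟶ (extD A (Localization S)).obj Y)) := by
  let B := Localization S
  haveI : Module.Flat A B := IsLocalization.flat B S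
  letI modA : Module A ((extD A B).obj K ⟶ (extD A B).obj Y) :=
    Module.compHom _ (algebraMap A B)
  haveI : IsScalarTower A B ((extD A B).obj K ⟶ (extD A B).obj Y) :=
    ⟨fun a b n => by
      change (a • b) • n = algebraMap A B a • (b • n)
      rw [Algebra.smul_def, mul_smul]⟩
  let φ : M →ₗ[A] ((extD A B).obj K ⟶ (extD A B).obj Y) :=
    { toFun := fun m => (extD A B).map (e m)
      map_add' := fun m m' => by rw [map_add, Functor.map_add]
      map_smul' := fun a m => by
        rw [map_smul, extD_map_smul]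
        rfl }
  haveI : IsLocalizedModule S φ := by
    refine ⟨?_, ?_, ?_⟩
    · intro s
      have hu : IsUnit (algebraMap A B (s : A)) := IsLocalization.map_units B s
      rw [Module.End.isUnit_iff]
      constructor
      · intro x y hxy
        have hxy' : algebraMap A B (s : A) • x = algebraMap A B (s : A) • y := hxy
        exact hu.smul_left_cancel.1 hxy'
      · intro y
        obtain ⟨b, hb⟩ := hu.exists_right_inv
        refine ⟨b • y, ?_⟩
        change algebraMap A B (s : A) • (b • y) = y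
        rw [smul_smul, hb, one_smul]
    · intro y
      obtain ⟨s, hs, t, ht⟩ := LI_surj S B hK hY y
      refine ⟨(e.symm t, ⟨s, hs⟩), ?_⟩
      change algebraMap A B s • y = (extD A B).map (e (e.symm t))
      rw [e.apply_symm_apply, ht]
    · intro x₁ x₂ h
      have h' : (extD A B).map (e x₁) = (extD A B).map (e x₂) := h
      have h0 : (extD A B).map (e (x₁ - x₂)) = 0 := by
        rw [map_sub, Functor.map_sub, h', sub_self]
      obtain ⟨s, hs, hst⟩ := LI_inj S B hK hY _ h0
      refine ⟨⟨s, hs⟩, ?_⟩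
      have h1 : e (s • (x₁ - x₂)) = 0 := by rw [map_smul]; exact hst
      have h2 : s • (x₁ - x₂) = 0 := e.injective (h1.trans (map_zero e).symm)
      rw [smul_sub, sub_eq_zero] at h2
      exact h2
  exact ⟨(IsLocalizedModule.iso S φ).extendScalarsOfIsLocalization S B⟩

end Loc

section Pair

variable {A : Type u} [CommRing A] [IsNoetherianRing A]

/-- local structure of the modules `Hom(ω', ω[i])` -/
theorem local_data (ω ω' : Dual.D A) (hω : Dual.IsDualizing A ω) (hω' : Dual.IsDualizing A ω')
    (M : ℤ → Type u) [∀ i, AddCommGroup (M i)] [∀ i, Module A (M i)]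
    (e : ∀ i, M i ≃ₗ[A] (ω' ⟶ ω⟦i⟧)) (q : PrimeSpectrum A) :
    ∃ n : ℤ,
      Nonempty (LocalizedModule q.asIdeal.primeCompl (M n) ≃ₗ[Localization.AtPrime q.asIdeal]
        Localization.AtPrime q.asIdeal) ∧
      ∀ i, i ≠ n → Subsingleton (LocalizedModule q.asIdeal.primeCompl (M i)) := by
  let S := q.asIdeal.primeCompl
  let B := Localization.AtPrime q.asIdeal
  haveI : Module.Flat A B := IsLocalization.flat B S
  haveI : IsNoetherianRing B := IsLocalization.isNoetherianRing S B inferInstance
  have hωB : Dual.IsDualizing B ((extD A B).obj ω) := isDualizing_extD S B ω hω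
  have hωB' : Dual.IsDualizing B ((extD A B).obj ω') := isDualizing_extD S B ω' hω'
  obtain ⟨n, ⟨f⟩⟩ := Groth.Agent.Lib.Helper5.DualUniq.exists_shift_iso _ _ hωB hωB'
  obtain ⟨T⟩ := nonempty_res ω hω
  have hK : HasFPRes ω' := hasFPRes_of_isDualizing ω' hω'
  have hY : ∀ i : ℤ, HasInjRes (ω⟦i⟧) := fun i => (hasInjRes_of_res T).shift i
  have hloc : ∀ i, Nonempty (LocalizedModule S (M i) ≃ₗ[B]
      ((extD A B).obj ω' ⟶ (extD A B).obj (ω⟦i⟧))) := fun i =>
    nonempty_localizedModule_equiv S hK (hY i) (e i)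
  let c : ∀ i : ℤ, (extD A B).obj (ω⟦i⟧) ≅ ((extD A B).obj ω)⟦i⟧ := fun i =>
    ((extD A B).commShiftIso i).app ω
  refine ⟨n, ?_, ?_⟩
  · obtain ⟨l⟩ := hloc n
    let g : (extD A B).obj (ω⟦n⟧) ≅ (extD A B).obj ω' := c n ≪≫ f.symm
    let l2 : ((extD A B).obj ω' ⟶ (extD A B).obj (ω⟦n⟧)) ≃ₗ[B]
        ((extD A B).obj ω' ⟶ (extD A B).obj ω') :=
      Linear.homCongr B (Iso.refl _) g
    let l3 : B ≃ₗ[B] ((extD A B).obj ω' ⟶ (extD A B).obj ω') :=
      LinearEquiv.ofBijective (LinearMap.toSpanSingleton B _ (𝟙 _)) (by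
        have := hωB'.toEnd_bijective
        convert this using 2
        rfl)
    exact ⟨l ≪≫ₗ l2 ≪≫ₗ l3.symm⟩
  · intro i hi
    obtain ⟨l⟩ := hloc i
    haveI := hωB'.ext_self_subsingleton (i - n) (by omega)
    let g : (extD A B).obj (ω⟦i⟧) ≅ ((extD A B).obj ω')⟦i - n⟧ :=
      c i ≪≫ (shiftFunctorAdd' (Dual.D B) n (i - n) i (by omega)).app _ ≪≫
        (shiftFunctor (Dual.D B) (i - n)).mapIso f.symm
    have h0 : ∀ u : (extD A B).obj ω' ⟶ (extD A B).obj (ω⟦i⟧), u = 0 := by
      intro u
      have : u ≫ g.hom = 0 := Subsingleton.elim _ _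
      exact (cancel_mono g.hom).1 (this.trans zero_comp.symm)
    haveI : Subsingleton ((extD A B).obj ω' ⟶ (extD A B).obj (ω⟦i⟧)) :=
      ⟨fun u v => by rw [h0 u, h0 v]⟩
    exact l.toEquiv.subsingleton

end Pair

end Groth.Agent.Lib.Helper10.DualPairB
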