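import Mathlib
import Groth.Agent.Lib.Helper5BiDualA
import Groth.Prelude.Def_DRing4

/-!
# `Hom(M, E•) ≅ E• ⊗ M^∨` for a finite projective module `M` (helper10)
-/

set_option autoImplicit false
set_option backward.isDefEq.respectTransparency.types false
universe u
open CategoryTheory CategoryTheory.Limits MonoidalCategory TensorProduct

namespace Groth.Agent.Lib.Helper10.DualPairD

open Groth.Agent.Lib.Helper5.BiDual

variable {A : Type u} [CommRing A] (M : Type u) [AddCommGroup M] [Module A M]
  [Module.Finite A M] [Module.Projective A M]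

/-- `Hom(M, N) ≃ N ⊗ M^∨` -/
noncomputable def homTensorEquiv (N : ModuleCat.{u} A) :
    (ModuleCat.of A M ⟶ N) ≃ₗ[A] (N ⊗[A] Module.Dual A M) :=
  ModuleCat.homLinearEquiv ≪≫ₗ (dualTensorHomEquiv A M N).symm ≪≫ₗ TensorProduct.comm A _ _

lemma homTensorEquiv_naturality {N N' : ModuleCat.{u} A} (g : N ⟶ N')
    (f : ModuleCat.of A M ⟶ N) :
    homTensorEquiv M N' (f ≫ g) = LinearMap.rTensor _ g.hom (homTensorEquiv M N f) := by
  have key : ∀ y : Module.Dual A M ⊗[A] N,
      TensorProduct.comm A _ _ (LinearMap.lTensor _ g.hom y) =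
        LinearMap.rTensor _ g.hom (TensorProduct.comm A _ _ y) := by
    intro y
    induction y using TensorProduct.induction_on with
    | zero => simp
    | tmul φ n => simp
    | add x y hx hy => simp only [map_add, hx, hy]
  obtain ⟨x, hx⟩ : ∃ x : Module.Dual A M ⊗[A] N, dualTensorHomEquiv A M N x = f.hom :=
    (dualTensorHomEquiv A M N).surjective _
  have h1 : (dualTensorHomEquiv A M N).symm f.hom = x := by
    rw [← hx, LinearEquiv.symm_apply_apply]
  have h2 : (dualTensorHomEquiv A M N').symm (f ≫ g).hom = LinearMap.lTensor _ g.hom x := by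
    rw [LinearEquiv.symm_apply_eq]
    have := LinearMap.congr_fun (dualTensorHom_comp_lTensor (R := A) (M := M) g.hom) x
    simp only [LinearMap.comp_apply] at this
    change (f ≫ g).hom = dualTensorHom A M N' (LinearMap.lTensor _ g.hom x)
    rw [this]
    change _ = g.hom ∘ₗ (dualTensorHomEquiv A M N x)
    rw [hx]
    rfl
  change TensorProduct.comm A _ _ ((dualTensorHomEquiv A M N').symm (f ≫ g).hom) =
    LinearMap.rTensor _ g.hom (TensorProduct.comm A _ _ ((dualTensorHomEquiv A M N).symm f.hom))
  rw [h1, h2, key]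

/-- `Hom(M, E•) ≅ E• ⊗ M^∨` -/
noncomputable def dualCxTensorIso (E : DRing.Cx A) :
    dualCx E (ModuleCat.of A M) ≅
      ((tensorRight (ModuleCat.of A (Module.Dual A M))).mapHomologicalComplex
        (ComplexShape.up ℤ)).obj E :=
  HomologicalComplex.Hom.isoOfComponents (fun p => (homTensorEquiv M (E.X p)).toModuleIso) (by
    intro p q _
    refine ModuleCat.hom_ext (LinearMap.ext fun (f : ModuleCat.of A M ⟶ E.X p) => ?_)
    change LinearMap.rTensor _ (E.d p q).hom (homTensorEquiv M (E.X p) f) =
      homTensorEquiv M (E.X q) (f ≫ E.d p q)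
    exact (homTensorEquiv_naturality M (E.d p q) f).symm)

end Groth.Agent.Lib.Helper10.DualPairD
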