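import Mathlib
import Groth.Prelude.Def_DDual2
import Groth.Agent.Lib.Helper1KF8
set_option backward.isDefEq.respectTransparency.types false

/-!
# Existence of total left derived functors on `D(A)` (helper5)

Every complex of modules has a K-projective resolution (`Helper1.KF.exists_kprojective_resolution`);
at a K-projective complex every functor on the homotopy category has a pointwise left derived
functor (the relevant comma category has an initial object).  Hence every functor
`F : K(A) ⥤ H` has a total left derived functor with respect to quasi-isomorphisms.

* `hasLeftDerivedFunctor`: the general statement.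
* `hasLBaseChange φ : DRing.HasLBaseChange φ` for every ring map `φ`.
* `hasLTensor A M : DRing.HasLTensor A M` for every module `M`.
-/

set_option autoImplicit false
universe u v w
open CategoryTheory CategoryTheory.Limits
attribute [local instance] HasDerivedCategory.standard

namespace Groth.Agent.Lib.Helper5.HasLDer

open DerivedCategory

variable {A : Type u} [CommRing A] {H : Type v} [Category.{w} H]
  (F : HomotopyCategory (ModuleCat.{u} A) (ComplexShape.up ℤ) ⥤ H)

/-- for a K-projective complex `P`, the identity of `Qh P` is initial among the maps from `Qh P`
to objects in the image of `Qh`. -/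
noncomputable def isInitialMkId (P : CochainComplex (ModuleCat.{u} A) ℤ) [P.IsKProjective] :
    IsInitial (StructuredArrow.mk
      (𝟙 ((Qh : _ ⥤ DerivedCategory (ModuleCat.{u} A)).obj
        ((HomotopyCategory.quotient _ _).obj P)))) :=
  IsInitial.ofUniqueHom
    (fun Y => StructuredArrow.homMk
      ((CochainComplex.IsKProjective.Qh_map_bijective P Y.right).2 Y.hom).choose
      (by
        have h := ((CochainComplex.IsKProjective.Qh_map_bijective P Y.right).2 Y.hom).choose_spec
        simpa using h))
    (fun Y m => by
      apply StructuredArrow.ext
      apply (CochainComplex.IsKProjective.Qh_map_bijective P Y.right).1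
      have h := ((CochainComplex.IsKProjective.Qh_map_bijective P Y.right).2 Y.hom).choose_spec
      have hm := StructuredArrow.w m
      simp only [StructuredArrow.mk_hom_eq_self, Category.id_comp] at hm
      simp only [StructuredArrow.homMk_right]
      exact hm.trans h.symm)

lemma hasPointwiseLeftDerivedFunctorAt_of_isKProjective
    (P : CochainComplex (ModuleCat.{u} A) ℤ) [P.IsKProjective] :
    F.HasPointwiseLeftDerivedFunctorAt
      (HomotopyCategory.quasiIso (ModuleCat.{u} A) (ComplexShape.up ℤ))
      ((HomotopyCategory.quotient _ _).obj P) := by
  rw [F.hasPointwiseLeftDerivedFunctorAt_iff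
    (Qh : _ ⥤ DerivedCategory (ModuleCat.{u} A))
    (HomotopyCategory.quasiIso (ModuleCat.{u} A) (ComplexShape.up ℤ))]
  exact HasLimit.mk ⟨_, limitOfDiagramInitial (isInitialMkId P) _⟩

/-- every functor on the homotopy category of complexes of modules has a total left derived
functor. -/
theorem hasLeftDerivedFunctor :
    F.HasLeftDerivedFunctor (HomotopyCategory.quasiIso (ModuleCat.{u} A) (ComplexShape.up ℤ)) := by
  haveI : F.HasPointwiseLeftDerivedFunctor
      (HomotopyCategory.quasiIso (ModuleCat.{u} A) (ComplexShape.up ℤ)) := by
    intro X
    obtain ⟨K, rfl⟩ := HomotopyCategory.quotient_obj_surjective X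
    obtain ⟨P, π, hP, -, hπ, -⟩ := Groth.Agent.Lib.Helper1.KF.exists_kprojective_resolution K
    haveI := hP
    have hw : HomotopyCategory.quasiIso (ModuleCat.{u} A) (ComplexShape.up ℤ)
        ((HomotopyCategory.quotient _ _).map π) := by
      rw [HomotopyCategory.quotient_map_mem_quasiIso_iff, HomologicalComplex.mem_quasiIso_iff]
      exact hπ
    exact (F.hasPointwiseLeftDerivedFunctorAt_iff_of_mem _ _ hw).1
      (hasPointwiseLeftDerivedFunctorAt_of_isKProjective F P)
  infer_instance

/-- derived base change exists along every ring map. -/
theorem hasLBaseChange {A B : Type u} [CommRing A] [CommRing B] (φ : A →+* B) :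
    DRing.HasLBaseChange φ :=
  hasLeftDerivedFunctor _

/-- the derived tensor product with a module exists. -/
theorem hasLTensor (A : Type u) [CommRing A] (M : ModuleCat.{u} A) : DRing.HasLTensor A M :=
  hasLeftDerivedFunctor _

end Groth.Agent.Lib.Helper5.HasLDer
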