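import Mathlib
import Groth.Agent.Lib.Helper5LocDG

/-!
# The Cohen–Macaulay locus of a ring with a dualizing complex (helper5)

* `cm_localization_iff`: `A_p` is Cohen–Macaulay iff the cohomology modules of `ω` have `p` in
  their support in at most one degree.
* `isOpen_dense_cmLocus`: the Cohen–Macaulay locus is open and dense.
-/

set_option autoImplicit false
universe u
open CategoryTheory CategoryTheory.Limits
attribute [local instance] HasDerivedCategory.standard

namespace Groth.Agent.Lib.Helper5.LocD

open DerivedCategory Groth.Agent.Lib.Helper1.Extend Groth.Agent.Lib.Helper5.BiDual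
open Groth.Agent.Lib.Helper5.DualLocal Groth.Agent.Lib.Helper5.DualMin
open Groth.Agent.Lib.Helper5.DualDim

variable {A : Type u} [CommRing A]

lemma subsingleton_ext_iff (M : ModuleCat.{u} A) (p : PrimeSpectrum A) :
    Subsingleton ((ext A (Localization.AtPrime p.asIdeal)).obj M) ↔
      p ∉ Module.support A M := by
  rw [Module.notMem_support_iff]
  let e1 := extEquiv (A := A) (B := Localization.AtPrime p.asIdeal) M
  let e2 := IsLocalizedModule.linearEquiv p.asIdeal.primeCompl
    (LocalizedModule.mkLinearMap p.asIdeal.primeCompl M)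
    (TensorProduct.mk A (Localization.AtPrime p.asIdeal) M 1)
  constructor
  · intro h
    exact (e2.toEquiv.trans e1.symm.toEquiv).subsingleton
  · intro h
    exact (e1.toEquiv.trans e2.symm.toEquiv).subsingleton

theorem cm_localization_iff [IsNoetherianRing A] (ω : Dual.D A) (hω : Dual.IsDualizing A ω)
    (p : PrimeSpectrum A) :
    LocCoh.IsCohenMacaulayLocalRing (Localization.AtPrime p.asIdeal) ↔
      ∃ n : ℤ, ∀ i : ℤ, i ≠ n → p ∉ Module.support A (Dual.HD A ω i) := by
  have hB : Dual.IsDualizing (Localization.AtPrime p.asIdeal)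
      ((extD A (Localization.AtPrime p.asIdeal)).obj ω) :=
    isDualizing_extD p.asIdeal.primeCompl (Localization.AtPrime p.asIdeal) ω hω
  haveI := hB.isNoetherianRing
  obtain ⟨m, hm⟩ := exists_normalized_shift _ hB
  have hB' := isDualizing_shift hB m
  have key : ∀ j : ℤ, Subsingleton (Dual.HD (Localization.AtPrime p.asIdeal)
      (((extD A (Localization.AtPrime p.asIdeal)).obj ω)⟦m⟧) j) ↔
      p ∉ Module.support A (Dual.HD A ω (m + j)) := by
    intro j
    rw [← subsingleton_ext_iff]
    let e : (homologyFunctor (ModuleCat.{u} (Localization.AtPrime p.asIdeal)) j).obj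
        (((extD A (Localization.AtPrime p.asIdeal)).obj ω)⟦m⟧) ≅
        (ext A (Localization.AtPrime p.asIdeal)).obj
          ((homologyFunctor (ModuleCat.{u} A) (m + j)).obj ω) :=
      ((homologyFunctor (ModuleCat.{u} (Localization.AtPrime p.asIdeal)) 0).shiftIso m j (m + j)
        rfl).app _ ≪≫ homologyMapDIso (ext A (Localization.AtPrime p.asIdeal)) ω (m + j)
    constructor
    · intro h
      exact e.symm.toLinearEquiv.toEquiv.subsingleton
    · intro h
      exact e.toLinearEquiv.toEquiv.subsingleton
  constructor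
  · intro hcm
    obtain ⟨d, hd⟩ : ∃ d : ℕ, Module.supportDim (Localization.AtPrime p.asIdeal)
        (Localization.AtPrime p.asIdeal) = d :=
      ⟨_, (Module.supportDim_self_eq_ringKrullDim _).trans
        Order.krullDim_eq_length_of_finiteDimensionalOrder⟩
    have h1 := (cm_iff _ hB' hm (Localization.AtPrime p.asIdeal) d hd).mp
      hcm.supportDim_eq_depth
    refine ⟨m - d, fun i hi => ?_⟩
    have h2 := h1 (m - i) (by intro h; apply hi; lia)
    rw [forall_eq_zero_iff_subsingleton_HD] at h2
    have h3 := (key (-(m - i))).mp h2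
    rwa [show m + -(m - i) = i by ring] at h3
  · rintro ⟨n, hn⟩
    exact isCM_of_single_degree _ hB' hm (n - m)
      (fun j hj => (key j).mpr (hn (m + j) (by intro h; apply hj; lia)))

theorem isOpen_dense_cmLocus [IsNoetherianRing A] (ω : Dual.D A) (hω : Dual.IsDualizing A ω) :
    IsOpen {p : PrimeSpectrum A |
      LocCoh.IsCohenMacaulayLocalRing (Localization.AtPrime p.asIdeal)} ∧
    Dense {p : PrimeSpectrum A |
      LocCoh.IsCohenMacaulayLocalRing (Localization.AtPrime p.asIdeal)} := by
  have hset : {p : PrimeSpectrum A |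
      LocCoh.IsCohenMacaulayLocalRing (Localization.AtPrime p.asIdeal)} =
      {p | ∃ n : ℤ, ∀ i : ℤ, i ≠ n → p ∉ Module.support A (Dual.HD A ω i)} := by
    ext p
    exact cm_localization_iff ω hω p
  rw [hset]
  obtain ⟨T⟩ := nonempty_res ω hω
  constructor
  · rw [isOpen_iff_forall_mem_open]
    rintro p ⟨n, hn⟩
    refine ⟨⋂ i ∈ (Finset.Icc T.a T.b).erase n, (Module.support A (Dual.HD A ω i))ᶜ, ?_, ?_, ?_⟩
    · intro q hq
      refine ⟨n, fun i hi => ?_⟩
      by_cases hi2 : i ∈ Finset.Icc T.a T.b
      · exact Set.mem_iInter₂.1 hq i (Finset.mem_erase.2 ⟨hi, hi2⟩)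
      · haveI := subsingleton_HD_of_res T i (by
          simp only [Finset.mem_Icc, not_and_or, not_le] at hi2
          exact hi2)
        rw [Module.notMem_support_iff]
        infer_instance
    · apply isOpen_biInter_finset
      intro i _
      haveI := hω.finite_cohomology i
      exact (Module.isClosed_support (R := A) (M := Dual.HD A ω i)).isOpen_compl
    · exact Set.mem_iInter₂.2 fun i hi => hn i (Finset.mem_erase.1 hi).1
  · rw [dense_iff_inter_open]
    rintro V hV ⟨q, hq⟩
    obtain ⟨p, hp, hpq⟩ := Ideal.exists_minimalPrimes_le (bot_le : ⊥ ≤ q.asIdeal)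
    have hp' : p ∈ minimalPrimes A := hp
    refine ⟨⟨p, hp.1.1⟩, ?_, ?_⟩
    · have hspec : (⟨p, hp.1.1⟩ : PrimeSpectrum A) ⤳ q :=
        (PrimeSpectrum.le_iff_specializes _ _).1 hpq
      exact hspec.mem_open hV hq
    · obtain ⟨i₀, hi₀, huniq⟩ := existsUnique_minimal ω hω p hp'
      refine ⟨i₀, fun i hi => ?_⟩
      rw [Module.notMem_support_iff]
      by_contra hns
      rw [not_subsingleton_iff_nontrivial] at hns
      exact hi (huniq i hns)

end Groth.Agent.Lib.Helper5.LocD
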