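import Mathlib
import Groth.Agent.S0563
import Groth.Agent.S5804
import Groth.Agent.S6964
import Groth.Statements.S6964

/-!
# Global dimension of regular rings and projective amplitude of modules (helper1)

* `gldim_of_regular`: over a Noetherian regular ring of Krull dimension `d` every module has
  projective dimension `≤ d` (from helper21's local statement S0563 and S5804).
* `subsingleton_hom_of_pd`: `pd M ≤ d` kills `Hom_{D(R)}(M[0], N[n])` for `n > d`.
* `projAmp_single`: `pd M ≤ d` gives a representative of `M[-j]` by projectives in `[j - d, j]`.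
-/
set_option autoImplicit false
universe u
open CategoryTheory CategoryTheory.Limits
attribute [local instance] HasDerivedCategory.standard

namespace Groth.Agent.Lib.Helper1.GlDim

open DerivedCategory Groth.Agent.S14388

variable {R : Type u} [CommRing R]

theorem gldim_of_regular_le [IsNoetherianRing R]
    (hreg : ∀ p : PrimeSpectrum R, IsRegularLocalRing (Localization.AtPrime p.asIdeal)) (d : ℕ)
    (hd : ringKrullDim R ≤ d) (M : Type u) [AddCommGroup M] [Module R M] :
    HasProjectiveDimensionLT (ModuleCat.of R M) (d + 1) := by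
  apply Groth.Agent.S5804.result R d
  intro I
  show HasProjectiveDimensionLE (ModuleCat.of R (R ⧸ I)) d
  rw [ModuleCat.hasProjectiveDimensionLE_iff_forall_primeSpectrum]
  intro p
  have := hreg p
  have h1 : ringKrullDim (Localization.AtPrime p.asIdeal) = p.asIdeal.height :=
    IsLocalization.AtPrime.ringKrullDim_eq_height p.asIdeal _
  have h2 : (p.asIdeal.height : WithBot ℕ∞) ≤ ringKrullDim R :=
    Ideal.height_le_ringKrullDim_of_ne_top Ideal.IsPrime.ne_top'
  have h2' : (p.asIdeal.height : WithBot ℕ∞) ≤ ((d : ℕ∞) : WithBot ℕ∞) := h2.trans hd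
  have h3 : p.asIdeal.height ≤ (d : ℕ∞) := by exact_mod_cast h2'
  obtain ⟨n, hn⟩ : ∃ n : ℕ, p.asIdeal.height = n :=
    ENat.ne_top_iff_exists.1 (fun h => by rw [h] at h3; simp at h3) |>.imp (fun _ h => h.symm)
  have hnd : n ≤ d := by rw [hn] at h3; exact_mod_cast h3
  have h4 : ringKrullDim (Localization.AtPrime p.asIdeal) = n := by rw [h1, hn]; rfl
  have h5 := Groth.Agent.S0563.result (Localization.AtPrime p.asIdeal) n h4
    (Shrink.{u} (LocalizedModule p.asIdeal.primeCompl (R ⧸ I)))
  show HasProjectiveDimensionLT (ModuleCat.of (Localization.AtPrime p.asIdeal)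
    (Shrink.{u} (LocalizedModule p.asIdeal.primeCompl (R ⧸ I)))) (d + 1)
  exact hasProjectiveDimensionLT_of_ge _ (n + 1) _ (by omega)

theorem gldim_of_regular [IsNoetherianRing R]
    (hreg : ∀ p : PrimeSpectrum R, IsRegularLocalRing (Localization.AtPrime p.asIdeal)) (d : ℕ)
    (hd : ringKrullDim R = d) (M : Type u) [AddCommGroup M] [Module R M] :
    HasProjectiveDimensionLT (ModuleCat.of R M) (d + 1) :=
  gldim_of_regular_le hreg d hd.le M

/-- `pd M ≤ d` kills `Hom(M[0], N[n])` for `n > d` -/
theorem subsingleton_hom_of_pd (M N : ModuleCat.{u} R) (d : ℕ)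
    (h : HasProjectiveDimensionLT M (d + 1)) (n : ℤ) (hn : (d : ℤ) < n) :
    Subsingleton ((singleFunctor (ModuleCat.{u} R) 0).obj M ⟶
      (shiftFunctor (DerivedCategory (ModuleCat.{u} R)) n).obj
        ((singleFunctor (ModuleCat.{u} R) 0).obj N)) := by
  obtain ⟨m, rfl⟩ : ∃ m : ℕ, n = m := ⟨n.toNat, (Int.toNat_of_nonneg (by omega)).symm⟩
  have hs : Subsingleton (Abelian.Ext M N m) :=
    HasProjectiveDimensionLT.subsingleton M (d + 1) m (by omega) N
  exact (Abelian.Ext.homEquiv (X := M) (Y := N) (n := m)).symm.subsingleton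

/-- `pd M ≤ d` gives a representative of `M[0]` by projectives in `[-d, 0]` -/
theorem projAmp_single_zero (M : ModuleCat.{u} R) (d : ℕ) (h : HasProjectiveDimensionLT M (d + 1)) :
    ∃ P : DRing.Cx R, DRing.VanishesOutside P (-(d : ℤ)) 0 ∧ (∀ i : ℤ, Module.Projective R (P.X i)) ∧
      Nonempty (DRing.toD P ≅ (singleFunctor (ModuleCat.{u} R) 0).obj M) := by
  have t := (Groth.Agent.S6964.result R ((singleFunctor (ModuleCat.{u} R) 0).obj M) (-(d : ℤ)) 0).out 0 1
  rw [t]
  intro N _ _ i hi
  rcases hi with hi | hi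
  · refine ⟨fun f g => ?_⟩
    have hz : ∀ f : (singleFunctor (ModuleCat.{u} R) 0).obj M ⟶
        (shiftFunctor (DerivedCategory (ModuleCat.{u} R)) i).obj (Dual.inD R N), f = 0 := by
      intro f
      have h1 : ((shiftFunctor (DerivedCategory (ModuleCat.{u} R)) i).obj (Dual.inD R N)).IsGE (-i) :=
        tt.isGE_shift (Dual.inD R N) 0 i (-i) (by omega)
      exact tt.zero_of_isLE_of_isGE f 0 (-i) (by omega) inferInstance h1
    rw [hz f, hz g]
  · exact subsingleton_hom_of_pd M (ModuleCat.of R N) d h i (by omega)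

/-- `pd M ≤ d` gives a representative of `M[-j]` by projectives in `[j - d, j]` -/
theorem projAmp_single (M : ModuleCat.{u} R) (d : ℕ) (h : HasProjectiveDimensionLT M (d + 1)) (j : ℤ) :
    ∃ P : DRing.Cx R, DRing.VanishesOutside P (j - d) j ∧ (∀ i : ℤ, Module.Projective R (P.X i)) ∧
      Nonempty (DRing.toD P ≅ (singleFunctor (ModuleCat.{u} R) j).obj M) := by
  obtain ⟨P, hP, hproj, ⟨e⟩⟩ := projAmp_single_zero M d h
  refine ⟨(shiftFunctor (DRing.Cx R) (-j)).obj P, fun i hi => hP (i + -j) (by omega),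
    fun i => hproj (i + -j), ⟨(Q.commShiftIso (-j)).app P ≪≫ (shiftFunctor _ (-j)).mapIso e ≪≫
      ((DerivedCategory.singleFunctors (ModuleCat.{u} R)).shiftIso (-j) j 0 (by lia)).app M⟩⟩

end Groth.Agent.Lib.Helper1.GlDim
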