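import Mathlib
import Groth.Agent.Lib.Helper5LocDH
import Groth.Agent.Lib.Helper5LocDE
import Groth.Agent.Lib.Helper5LocDF
import Groth.Agent.Lib.Helper5DualMinB
import Groth.Agent.Lib.Helper5DualLocal
import Groth.Agent.S11185

/-!
# Pointwise dualizing complexes over rings of finite Krull dimension are dualizing (helper5)

`A` is a Noetherian ring of finite Krull dimension and `R ∈ D^+(A)` has finite cohomology modules.
If `R_p` is a dualizing complex over `A_p` for every prime `p`, then `R` is dualizing.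

The point is a uniform bound for the injective dimensions of the `R_p`: if `R_p[n_p]` is normalized
and `q ⊆ p` is a minimal prime then `H^{n_p - e}(R)_q ≠ 0` for `e = dim A_p/qA_p`, whence
`n_p ≤ L + dim A` where `L` bounds the cohomology of `R` at the finitely many minimal primes.
-/

set_option autoImplicit false
universe u
open CategoryTheory CategoryTheory.Limits
attribute [local instance] HasDerivedCategory.standard

namespace Groth.Agent.Lib.Helper5.PtDual

open DerivedCategory Groth.Agent.Lib.Helper1.Extend Groth.Agent.Lib.Helper5.BiDual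
open Groth.Agent.Lib.Helper5.LocD Groth.Agent.Lib.Helper5.DualLocal
open Groth.Agent.Lib.Helper5.DualMin Groth.Agent.S14388 TensorProduct

section Alg

variable {A : Type u} [CommRing A]

/-- if `M_q = 0` then `(B ⊗ M)_{q'} = 0` for a prime `q'` of `B` over `q` -/
lemma subsingleton_localized_tensor (B : Type*) [CommRing B] [Algebra A B] (M : Type*)
    [AddCommGroup M] [Module A M] (q' : Ideal B) [q'.IsPrime]
    (h : Subsingleton (LocalizedModule (q'.comap (algebraMap A B)).primeCompl M)) :
    Subsingleton (LocalizedModule q'.primeCompl (B ⊗[A] M)) := by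
  rw [LocalizedModule.subsingleton_iff] at h ⊢
  intro z
  induction z using TensorProduct.induction_on with
  | zero => exact ⟨1, Submonoid.one_mem _, smul_zero _⟩
  | tmul b m =>
    obtain ⟨s, hs, hsm⟩ := h m
    refine ⟨algebraMap A B s, hs, ?_⟩
    rw [TensorProduct.smul_tmul', algebraMap_smul, TensorProduct.smul_tmul, hsm,
      TensorProduct.tmul_zero]
  | add x y hx hy =>
    obtain ⟨r, hr, hrx⟩ := hx
    obtain ⟨s, hs, hsy⟩ := hy
    refine ⟨r * s, Submonoid.mul_mem _ hr hs, ?_⟩
    rw [smul_add, mul_smul r s y, hsy, smul_zero, add_zero, mul_comm r s, mul_smul, hrx,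
      smul_zero]

/-- transport of triviality of a localization along a linear equivalence -/
lemma subsingleton_localizedModule_of_linearEquiv {B : Type*} [CommRing B] (S : Submonoid B)
    {N N' : Type*} [AddCommGroup N] [Module B N] [AddCommGroup N'] [Module B N']
    (e : N ≃ₗ[B] N') (h : Subsingleton (LocalizedModule S N')) :
    Subsingleton (LocalizedModule S N) := by
  rw [LocalizedModule.subsingleton_iff] at h ⊢
  intro x
  obtain ⟨r, hr, hrx⟩ := h (e x)
  refine ⟨r, hr, e.injective ?_⟩
  rw [map_smul, hrx, map_zero]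

lemma exists_nat_eq_of_le (x : WithBot ℕ∞) (h0 : 0 ≤ x) (d : ℕ) (hd : x ≤ (d : WithBot ℕ∞)) :
    ∃ e : ℕ, x = (e : WithBot ℕ∞) ∧ e ≤ d := by
  induction x using WithBot.recBotCoe with
  | bot => exact absurd h0 (by simp)
  | coe y =>
    have hy : y ≤ (d : ℕ∞) := by exact_mod_cast hd
    obtain ⟨e, rfl⟩ := ENat.ne_top_iff_exists.mp (ne_top_of_le_ne_top (ENat.coe_ne_top d) hy)
    exact ⟨e, rfl, by exact_mod_cast hy⟩

end Alg

section Main

variable {A : Type u} [CommRing A] [IsNoetherianRing A]

/-- cohomology of the localization -/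
lemma subsingleton_HD_extD_iff (R : Dual.D A) (p : PrimeSpectrum A) (j : ℤ) :
    Subsingleton (Dual.HD (Localization.AtPrime p.asIdeal)
      ((extD A (Localization.AtPrime p.asIdeal)).obj R) j) ↔
      p ∉ Module.support A (Dual.HD A R j) := by
  rw [← subsingleton_ext_iff]
  constructor
  · intro h
    exact (homologyMapDIso (ext A (Localization.AtPrime p.asIdeal)) R
      j).symm.toLinearEquiv.toEquiv.subsingleton
  · intro h
    exact (homologyMapDIso (ext A (Localization.AtPrime p.asIdeal)) R
      j).toLinearEquiv.toEquiv.subsingleton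

variable (R : Dual.D A)
  (hloc : ∀ p : PrimeSpectrum A, Dual.IsDualizing (Localization.AtPrime p.asIdeal)
    ((extD A (Localization.AtPrime p.asIdeal)).obj R))

include hloc in
/-- a bound for the cohomology of `R` at the minimal primes -/
lemma exists_bound_minimal : ∃ L : ℤ, ∀ q : PrimeSpectrum A, q.asIdeal ∈ minimalPrimes A →
    ∀ i : ℤ, L < i → q ∉ Module.support A (Dual.HD A R i) := by
  have hb : ∀ q : PrimeSpectrum A, ∃ b : ℤ, ∀ i : ℤ, b < i →
      q ∉ Module.support A (Dual.HD A R i) := by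
    intro q
    obtain ⟨T⟩ := nonempty_res _ (hloc q)
    exact ⟨T.b, fun i hi => (subsingleton_HD_extD_iff R q i).mp
      (subsingleton_HD_of_res T i (Or.inr hi))⟩
  choose b hb using hb
  have hfin : {q : PrimeSpectrum A | q.asIdeal ∈ minimalPrimes A}.Finite := by
    have h1 := minimalPrimes.finite_of_isNoetherianRing A
    exact Set.Finite.preimage (fun x _ y _ hxy => PrimeSpectrum.ext hxy) h1
  obtain ⟨L, hL⟩ := (hfin.image b).bddAbove
  refine ⟨L, fun q hq i hi => hb q i (lt_of_le_of_lt (hL ⟨q, hq, rfl⟩) hi)⟩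

include hloc in
/-- the bound for the normalizing shifts -/
lemma shift_le (L : ℤ) (hL : ∀ q : PrimeSpectrum A, q.asIdeal ∈ minimalPrimes A →
      ∀ i : ℤ, L < i → q ∉ Module.support A (Dual.HD A R i))
    (d : ℕ) (hd : ringKrullDim A ≤ (d : WithBot ℕ∞)) (p : PrimeSpectrum A) (n : ℤ)
    (hn : Dual.IsNormalized (Localization.AtPrime p.asIdeal)
      (((extD A (Localization.AtPrime p.asIdeal)).obj R)⟦n⟧)) : n ≤ L + d := by
  have hB := hloc p
  haveI := hB.isNoetherianRing
  obtain ⟨q', hq', -⟩ := Ideal.exists_minimalPrimes_le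
    (bot_le : (⊥ : Ideal (Localization.AtPrime p.asIdeal)) ≤
      IsLocalRing.maximalIdeal (Localization.AtPrime p.asIdeal))
  have hq'm : q' ∈ minimalPrimes (Localization.AtPrime p.asIdeal) := hq'
  haveI hq'p : q'.IsPrime := hq'.1.1
  -- the dimension of the quotient
  have hdimB : ringKrullDim (Localization.AtPrime p.asIdeal ⧸ q') ≤ (d : WithBot ℕ∞) := by
    refine (ringKrullDim_quotient_le q').trans ?_
    rw [IsLocalization.AtPrime.ringKrullDim_eq_height p.asIdeal]
    exact (Ideal.height_le_ringKrullDim_of_ne_top Ideal.IsPrime.ne_top').trans hd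
  obtain ⟨e, he, hed⟩ := exists_nat_eq_of_le _ ringKrullDim_nonneg_of_nontrivial d hdimB
  have hnt := (main_minimal _ (isDualizing_shift hB n) hn q' hq'm e he (-(e : ℤ))).mpr rfl
  -- move to `A`
  let eH : Dual.HD (Localization.AtPrime p.asIdeal)
      (((extD A (Localization.AtPrime p.asIdeal)).obj R)⟦n⟧) (-(e : ℤ)) ≃ₗ[Localization.AtPrime
        p.asIdeal] (Localization.AtPrime p.asIdeal ⊗[A] Dual.HD A R (n + -(e : ℤ))) :=
    (((homologyFunctor (ModuleCat.{u} (Localization.AtPrime p.asIdeal)) 0).shiftIso n (-(e : ℤ))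
      (n + -(e : ℤ)) rfl).app _ ≪≫ homologyMapDIso (ext A (Localization.AtPrime p.asIdeal)) R
        (n + -(e : ℤ))).toLinearEquiv.trans
      (extEquiv (A := A) (B := Localization.AtPrime p.asIdeal) (Dual.HD A R (n + -(e : ℤ))))
  let q : PrimeSpectrum A := ⟨q'.comap (algebraMap A (Localization.AtPrime p.asIdeal)),
    Ideal.IsPrime.comap _⟩
  have hqmin : q.asIdeal ∈ minimalPrimes A := by
    have h1 := IsLocalization.minimalPrimes_map p.asIdeal.primeCompl
      (Localization.AtPrime p.asIdeal) (⊥ : Ideal A)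
    rw [Ideal.map_bot] at h1
    have h2 : q' ∈ Ideal.under A ⁻¹' (⊥ : Ideal A).minimalPrimes := h1 ▸ hq'
    exact h2
  have hsupp : q ∈ Module.support A (Dual.HD A R (n + -(e : ℤ))) := by
    rw [Module.mem_support_iff]
    by_contra hns
    rw [not_nontrivial_iff_subsingleton] at hns
    have h3 := subsingleton_localized_tensor (Localization.AtPrime p.asIdeal)
      (Dual.HD A R (n + -(e : ℤ))) q' hns
    have h4 := subsingleton_localizedModule_of_linearEquiv q'.primeCompl eH h3
    exact not_subsingleton _ h4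
  by_contra hcon
  push Not at hcon
  exact hL q hqmin (n + -(e : ℤ)) (by lia) hsupp

include hloc in
/-- local vanishing -/
lemma extD_map_eq_zero (L : ℤ) (hL : ∀ q : PrimeSpectrum A, q.asIdeal ∈ minimalPrimes A →
      ∀ i : ℤ, L < i → q ∉ Module.support A (Dual.HD A R i))
    (d : ℕ) (hd : ringKrullDim A ≤ (d : WithBot ℕ∞)) (p : PrimeSpectrum A)
    (M : Type u) [AddCommGroup M] [Module A M] [Module.Finite A M] (i : ℤ) (hi : L + d < i)
    (t : Dual.inD A M ⟶ R⟦i⟧) : (extD A (Localization.AtPrime p.asIdeal)).map t = 0 := by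
  have hB := hloc p
  haveI := hB.isNoetherianRing
  obtain ⟨n, hn⟩ := exists_normalized_shift _ hB
  have hle := shift_le R hloc L hL d hd p n hn
  have hvan : ∀ g : Dual.inD (Localization.AtPrime p.asIdeal)
      (Localization.AtPrime p.asIdeal ⊗[A] M) ⟶
      ((extD A (Localization.AtPrime p.asIdeal)).obj R)⟦i⟧, g = 0 :=
    (forall_eq_zero_shift_add_iff _ _ n (i - n) i (by ring)).mpr
      (fun g => vanish_pos _ (isDualizing_shift hB n) hn
        (Localization.AtPrime p.asIdeal ⊗[A] M) (i - n) (by lia) g)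
  have h0 := hvan ((extDInDIso (A := A) (B := Localization.AtPrime p.asIdeal) M).inv ≫
    (extD A (Localization.AtPrime p.asIdeal)).map t ≫
    ((extD A (Localization.AtPrime p.asIdeal)).commShiftIso i).hom.app R)
  rw [← cancel_epi (extDInDIso (A := A) (B := Localization.AtPrime p.asIdeal) M).inv,
    ← cancel_mono (((extD A (Localization.AtPrime p.asIdeal)).commShiftIso i).hom.app R),
    Category.assoc, h0, comp_zero, zero_comp]

variable (hfin : ∀ i : ℤ, Module.Finite A (Dual.HD A R i))
  (a₀ : ℤ) (hbdd : ∀ i : ℤ, i < a₀ → Subsingleton (Dual.HD A R i))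

include hloc hbdd in
/-- global vanishing above -/
lemma eq_zero_above (L : ℤ) (hL : ∀ q : PrimeSpectrum A, q.asIdeal ∈ minimalPrimes A →
      ∀ i : ℤ, L < i → q ∉ Module.support A (Dual.HD A R i))
    (d : ℕ) (hd : ringKrullDim A ≤ (d : WithBot ℕ∞))
    (M : Type u) [AddCommGroup M] [Module A M] [Module.Finite A M] (i : ℤ) (hi : L + d < i)
    (t : Dual.inD A M ⟶ R⟦i⟧) : t = 0 := by
  refine eq_zero_of_cover
    (fun m : {m : Ideal A // m.IsMaximal} => (haveI := m.2.isPrime; m.1.primeCompl))
    cover_maximal (hasFPRes_inD_of_finite M) ((hasInjRes_of_bddBelow R a₀ hbdd).shift i) t ?_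
  intro m
  haveI := m.2.isPrime
  exact extD_map_eq_zero R hloc L hL d hd ⟨m.1, m.2.isPrime⟩ M i hi t

include hbdd in
/-- vanishing below -/
lemma eq_zero_below (M : Type u) [AddCommGroup M] [Module A M] (i : ℤ) (hi : i < a₀)
    (t : Dual.inD A M ⟶ R⟦i⟧) : t = 0 := by
  haveI : R.IsGE a₀ := by
    rw [DerivedCategory.isGE_iff]
    intro j hj
    haveI := hbdd j hj
    exact ModuleCat.isZero_of_subsingleton _
  have h1 : (R⟦i⟧).IsGE (a₀ - i) := tt.isGE_shift R a₀ i (a₀ - i) (by omega)
  exact tt.zero_of_isLE_of_isGE t 0 (a₀ - i) (by omega) inferInstance h1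

include hloc hfin hbdd in
/-- **a pointwise dualizing complex over a ring of finite Krull dimension is dualizing** -/
theorem isDualizing_of_pointwise (hdim : ringKrullDim A < ⊤) : Dual.IsDualizing A R := by
  obtain ⟨d, hd⟩ : ∃ d : ℕ, ringKrullDim A ≤ d := by
    by_cases hb : ringKrullDim A = ⊥
    · exact ⟨0, by rw [hb]; exact bot_le⟩
    · obtain ⟨e, he⟩ := WithBot.ne_bot_iff_exists.mp hb
      have hetop : e ≠ ⊤ := by
        rintro rfl
        rw [← he] at hdim
        exact lt_irrefl _ hdim
      obtain ⟨d, rfl⟩ := ENat.ne_top_iff_exists.mp hetop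
      exact ⟨d, he.symm.le⟩
  obtain ⟨L, hL⟩ := exists_bound_minimal R hloc
  -- the vanishing range
  have hvan : ∀ (M : Type u) [AddCommGroup M] [Module A M] [Module.Finite A M] (i : ℤ),
      (i < a₀ ∨ L + d < i) → Subsingleton (Dual.inD A M ⟶ R⟦i⟧) := by
    intro M _ _ _ i hi
    refine ⟨fun s t => ?_⟩
    rcases hi with hi | hi
    · rw [eq_zero_below R a₀ hbdd M i hi s, eq_zero_below R a₀ hbdd M i hi t]
    · rw [eq_zero_above R hloc a₀ hbdd L hL d hd M i hi s,
        eq_zero_above R hloc a₀ hbdd L hL d hd M i hi t]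
  have hinj : ∃ a b : ℤ, ∀ (M : Type u) [AddCommGroup M] [Module A M] (i : ℤ),
      (i < a ∨ b < i) → Subsingleton (Dual.inD A M ⟶ R⟦i⟧) :=
    ⟨a₀, L + d, ((Groth.Agent.S6965.result A R a₀ (L + d)).out 2 1).mp
      (fun I i hi => hvan (A ⧸ I) i hi)⟩
  have hbd : ∃ b : ℤ, ∀ i : ℤ, b < i → Subsingleton (Dual.HD A R i) := by
    refine ⟨L + d, fun i hi => ?_⟩
    rw [← forall_eq_zero_iff_subsingleton_HD]
    intro g
    haveI := hvan A i (Or.inr hi)
    exact Subsingleton.elim _ _
  refine isDualizing_of_cover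
    (fun m : {m : Ideal A // m.IsMaximal} => (haveI := m.2.isPrime; m.1.primeCompl))
    cover_maximal R (hasFPRes_of_bdd_finite R hbd hfin) (hasInjRes_of_bddBelow R a₀ hbdd)
    hinj hfin ?_
  intro m
  haveI := m.2.isPrime
  exact hloc ⟨m.1, m.2.isPrime⟩

end Main

end Groth.Agent.Lib.Helper5.PtDual
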