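import Mathlib
import Groth.Agent.Lib.Helper1LT
import Groth.Agent.Lib.Helper1Extend
import Groth.Agent.Lib.Helper5LocDD
import Groth.Agent.Lib.Helper5BiDualC
import Groth.Agent.Lib.Helper5HasLDer
import Groth.Agent.S11173
import Groth.Agent.S0371
import Groth.Agent.S1775
import Groth.Agent.Lib.Helper10DerComplete7

/-!
# Twisting a dualizing complex by an invertible module (helper10)

`isDualizing_LTensor`: for `ω` dualizing over the Noetherian ring `A` and `P` an invertible
`A`-module, `ω ⊗^L P` is dualizing.  Proof: pointwise (`S11173`), since `P` is locally free of rank one.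
-/

set_option autoImplicit false
set_option backward.isDefEq.respectTransparency.types false
universe u
open CategoryTheory CategoryTheory.Limits MonoidalCategory
attribute [local instance] HasDerivedCategory.standard

namespace Groth.Agent.Lib.Helper10.InvTwist

open DerivedCategory Groth.Agent.Lib.Helper1.Extend Groth.Agent.Lib.Helper1.LDer
  Groth.Agent.Lib.Helper5.LocD Groth.Agent.Lib.Helper5.BiDual

section Mod

variable {A B : Type u} [CommRing A] [CommRing B] [Algebra A B]

/-- if `B ⊗ P ≅ B` then `(- ⊗ P) ⋙ (B ⊗ -) ≅ (B ⊗ -)` -/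
noncomputable def twistExtIso (P : ModuleCat.{u} A) (e : (ext A B).obj P ≅ 𝟙_ (ModuleCat.{u} B)) :
    tensorRight P ⋙ ext A B ≅ ext A B :=
  NatIso.ofComponents
    (fun M => (Functor.Monoidal.μIso (ext A B) M P).symm ≪≫ whiskerLeftIso _ e ≪≫ ρ_ _)
    (by
      intro M N f
      show (ext A B).map (f ▷ P) ≫ Functor.OplaxMonoidal.δ (ext A B) N P ≫
          ((ext A B).obj N ◁ e.hom) ≫ (ρ_ ((ext A B).obj N)).hom =
        (Functor.OplaxMonoidal.δ (ext A B) M P ≫ ((ext A B).obj M ◁ e.hom) ≫
          (ρ_ ((ext A B).obj M)).hom) ≫ (ext A B).map f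
      rw [← Functor.OplaxMonoidal.δ_natural_left_assoc, Category.assoc, Category.assoc,
        ← whisker_exchange_assoc, rightUnitor_naturality])

end Mod

section Loc

variable {A : Type u} [CommRing A]

/-- over a local `A`-algebra `B`, `B ⊗ P ≅ B` for invertible `P` -/
lemma nonempty_ext_iso_unit (P : Type u) [AddCommGroup P] [Module A P] [Module.Invertible A P]
    (B : Type u) [CommRing B] [Algebra A B] [IsLocalRing B] :
    Nonempty ((ext A B).obj (ModuleCat.of A P) ≅ 𝟙_ (ModuleCat.{u} B)) := by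
  haveI : Module.Invertible B (TensorProduct A B P) := inferInstance
  haveI : Module.Free B (TensorProduct A B P) := Module.free_of_flat_of_isLocalRing
  obtain ⟨l⟩ := Module.Invertible.free_iff_linearEquiv.1
    (inferInstance : Module.Free B (TensorProduct A B P))
  exact ⟨extIso (A := A) (B := B) P ≪≫ l.toModuleIso⟩

variable {B : Type u} [CommRing B] [Algebra A B]

/-- `B ⊗ (Z ⊗ P) ≅ B ⊗ Z` on complexes -/
noncomputable def twistExtCxIso (P : ModuleCat.{u} A) (e : (ext A B).obj P ≅ 𝟙_ (ModuleCat.{u} B))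
    (Z : DRing.Cx A) :
    ((ext A B).mapHomologicalComplex (ComplexShape.up ℤ)).obj ((tCx P).obj Z) ≅
      ((ext A B).mapHomologicalComplex (ComplexShape.up ℤ)).obj Z :=
  (NatIso.mapHomologicalComplex (twistExtIso P e) (ComplexShape.up ℤ)).app Z

variable [Module.Flat A B]

/-- `(ω ⊗^L P) ⊗ B ≅ ω ⊗ B` when `B ⊗ P ≅ B` -/
theorem nonempty_extD_LTensor_iso (P : ModuleCat.{u} A) [Module.Flat A P] [DRing.HasLTensor A P]
    (e : (ext A B).obj P ≅ 𝟙_ (ModuleCat.{u} B)) (ω : Dual.D A) :
    Nonempty ((extD A B).obj ((DRing.LTensor A P).obj ω) ≅ (extD A B).obj ω) := by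
  let Z := Q.objPreimage ω
  let e0 : Q.obj Z ≅ ω := Q.objObjPreimageIso ω
  exact ⟨(extD A B).mapIso ((DRing.LTensor A P).mapIso e0.symm ≪≫ ltIsoOfFlat P Z) ≪≫
    mapQIso (ext A B) ((tCx P).obj Z) ≪≫ Q.mapIso (twistExtCxIso P e Z) ≪≫
    (mapQIso (ext A B) Z).symm ≪≫ (extD A B).mapIso e0⟩

end Loc

section Main

variable {A : Type u} [CommRing A]

/-- for flat `P`, `ω ⊗^L P` is the image of `ω` under the exact functor `- ⊗ P` -/
noncomputable def ltensorIsoMap (P : ModuleCat.{u} A) [Module.Flat A P] [DRing.HasLTensor A P]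
    (ω : Dual.D A) :
    (DRing.LTensor A P).obj ω ≅ (tensorRight P).mapDerivedCategory.obj ω :=
  (DRing.LTensor A P).mapIso (Q.objObjPreimageIso ω).symm ≪≫ ltIsoOfFlat P (Q.objPreimage ω) ≪≫
    (mapQIso (tensorRight P) (Q.objPreimage ω)).symm ≪≫
    (tensorRight P).mapDerivedCategory.mapIso (Q.objObjPreimageIso ω)

/-- `H^i(ω ⊗^L P) ≅ H^i(ω) ⊗ P` for flat `P` -/
noncomputable def homologyLTensorIso (P : ModuleCat.{u} A) [Module.Flat A P]
    [DRing.HasLTensor A P] (ω : Dual.D A) (i : ℤ) :
    (DerivedCategory.homologyFunctor (ModuleCat.{u} A) i).obj ((DRing.LTensor A P).obj ω) ≅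
      (DerivedCategory.homologyFunctor (ModuleCat.{u} A) i).obj ω ⊗ P :=
  (DerivedCategory.homologyFunctor (ModuleCat.{u} A) i).mapIso (ltensorIsoMap P ω) ≪≫
    Groth.Agent.Lib.Helper10.DerComplete.homologyMapDerivedCategoryIso (tensorRight P) ω i

theorem isDualizing_LTensor [IsNoetherianRing A] (ω : Dual.D A) (hω : Dual.IsDualizing A ω)
    (P : Type u) [AddCommGroup P] [Module A P] [Module.Invertible A P]
    [DRing.HasLTensor A (ModuleCat.of A P)] :
    Dual.IsDualizing A ((DRing.LTensor A (ModuleCat.of A P)).obj ω) := by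
  haveI : Module.Flat A (ModuleCat.of A P) := inferInstanceAs (Module.Flat A P)
  refine Groth.Agent.S11173.result A (Groth.Agent.S0371.result A ω hω) _ (fun i => ?_) ?_
    (fun p => ?_)
  · haveI := hω.finite_cohomology i
    haveI : Module.Finite A ((DerivedCategory.homologyFunctor (ModuleCat.{u} A) i).obj ω ⊗
        ModuleCat.of A P : ModuleCat.{u} A) :=
      inferInstanceAs (Module.Finite A (TensorProduct A (Dual.HD A ω i) P))
    exact Module.Finite.equiv (homologyLTensorIso (ModuleCat.of A P) ω i).symm.toLinearEquiv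
  · obtain ⟨R⟩ := nonempty_res ω hω
    refine ⟨R.a, fun i hi => ?_⟩
    haveI := subsingleton_HD_of_res R i (Or.inl hi)
    haveI : Subsingleton ((DerivedCategory.homologyFunctor (ModuleCat.{u} A) i).obj ω ⊗
        ModuleCat.of A P : ModuleCat.{u} A) :=
      inferInstanceAs (Subsingleton (TensorProduct A (Dual.HD A ω i) P))
    exact (homologyLTensorIso (ModuleCat.of A P) ω i).toLinearEquiv.toEquiv.subsingleton
  · refine ⟨Groth.Agent.Lib.Helper5.HasLDer.hasLBaseChange _, ?_⟩
    letI := Groth.Agent.Lib.Helper5.HasLDer.hasLBaseChange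
      (algebraMap A (Localization.AtPrime p.asIdeal))
    haveI : Module.Flat A (Localization.AtPrime p.asIdeal) :=
      IsLocalization.flat _ p.asIdeal.primeCompl
    obtain ⟨e⟩ := nonempty_ext_iso_unit (A := A) P (Localization.AtPrime p.asIdeal)
    obtain ⟨e1⟩ := lbc_iso_extD (A := A) (Localization.AtPrime p.asIdeal)
      ((DRing.LTensor A (ModuleCat.of A P)).obj ω)
    obtain ⟨e2⟩ := nonempty_extD_LTensor_iso (B := Localization.AtPrime p.asIdeal)
      (ModuleCat.of A P) e ω
    obtain ⟨e3⟩ := lbc_iso_extD (A := A) (Localization.AtPrime p.asIdeal) ω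
    exact isDualizing_of_iso (e1 ≪≫ e2 ≪≫ e3.symm).symm
      (Groth.Agent.S1775.result A p.asIdeal.primeCompl ω hω)

end Main

end Groth.Agent.Lib.Helper10.InvTwist
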