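import Mathlib
import Groth.Agent.Lib.Helper10DualPairA
import Groth.Agent.Lib.Helper10DualPairB
import Groth.Agent.Lib.Helper10DualPairC
import Groth.Agent.Lib.Helper10DualPairD
import Groth.Agent.Lib.Helper10InvTwist
import Groth.Agent.Lib.Helper5RelDualB
import Groth.Agent.Lib.Helper5NormDual

/-!
# Two dualizing complexes differ by an invertible module and a shift (helper10)
-/

set_option autoImplicit false
set_option backward.isDefEq.respectTransparency.types false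
universe u
open CategoryTheory CategoryTheory.Limits MonoidalCategory
attribute [local instance] HasDerivedCategory.standard

namespace Groth.Agent.Lib.Helper10.DualPairE

open DerivedCategory Groth.Agent.Lib.Helper10.BiDualE Groth.Agent.Lib.Helper10.RHomCx
  Groth.Agent.Lib.Helper10.LDC Groth.Agent.Lib.Helper10.DualPairA
  Groth.Agent.Lib.Helper10.DualPairB Groth.Agent.Lib.Helper10.DualPairC
  Groth.Agent.Lib.Helper10.DualPairD Groth.Agent.Lib.Helper10.InvTwist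
  Groth.Agent.Lib.Helper5.BiDual Groth.Agent.Lib.Helper5.RelDual
  Groth.Agent.Lib.Helper1.Extend

variable {A : Type u} [CommRing A] [IsNoetherianRing A]

omit [IsNoetherianRing A] in
/-- the case where `Hom(ω', ω₀[i])` is concentrated in degree `0` -/
theorem degree_zero_case (ω₀ ω' : Dual.D A) (hω₀ : Dual.IsDualizing A ω₀)
    (hω' : Dual.IsDualizing A ω') (M₀ : Type u) [AddCommGroup M₀] [Module A M₀]
    [Module.Invertible A M₀] (e₀ : M₀ ≃ₗ[A] (ω' ⟶ ω₀))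
    (hvan : ∀ i : ℤ, i ≠ 0 → Subsingleton (ω' ⟶ ω₀⟦i⟧))
    [DRing.HasLTensor A (ModuleCat.of A (Module.Dual A M₀))] :
    Nonempty (ω' ≅ (DRing.LTensor A (ModuleCat.of A (Module.Dual A M₀))).obj ω₀) := by
  let P : ModuleCat.{u} A := ModuleCat.of A (Module.Dual A M₀)
  haveI : Module.Flat A P := inferInstanceAs (Module.Flat A (Module.Dual A M₀))
  let K' := Q.objPreimage ω'
  let eK : Q.obj K' ≅ ω' := Q.objObjPreimageIso ω'
  haveI : DRing.HasRHomCx K' := hasRHomCx K'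
  -- cohomology of `RHom(ω', ω₀)`
  obtain ⟨l0⟩ := nonempty_HD_RHomCx_equiv K' ω₀ 0
  have h0 : Dual.HD A ((DRing.RHomCx K').obj ω₀) 0 ≃ₗ[A] M₀ :=
    l0 ≪≫ₗ Linear.homCongr A eK ((shiftFunctorZero (Dual.D A) ℤ).app ω₀) ≪≫ₗ e₀.symm
  have hi : ∀ i : ℤ, i ≠ 0 → Subsingleton (Dual.HD A ((DRing.RHomCx K').obj ω₀) i) := by
    intro i hi
    obtain ⟨l⟩ := nonempty_HD_RHomCx_equiv K' ω₀ i
    haveI := hvan i hi
    exact (l ≪≫ₗ Linear.homCongr A eK (Iso.refl _)).toEquiv.subsingleton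
  obtain ⟨eL⟩ := nonempty_iso_single _ M₀ h0 hi
  let E : DRing.Cx A := sgl (ModuleCat.of A M₀)
  let eQ : Q.obj E ≅ Dual.inD A M₀ :=
    ((DerivedCategory.singleFunctorIsoCompQ (ModuleCat.{u} A) 0).app (ModuleCat.of A M₀)).symm
  haveI : DRing.HasRHomCx E := hasRHomCx E
  have hfin : ∀ i : ℤ, Module.Finite A (Dual.HD A (Q.obj K') i) := by
    intro i
    haveI := hω'.finite_cohomology i
    exact Module.Finite.equiv (hdCongr eK i).symm
  obtain ⟨i0⟩ := nonempty_bidual_iso ω₀ hω₀ K' hfin E (eQ ≪≫ eL.symm)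
  obtain ⟨R⟩ := nonempty_res ω₀ hω₀
  obtain ⟨i1⟩ := nonempty_RHomCx_obj_iso E R.E
  let i2 : DRing.homCx E R.E ≅ dualCx R.E (ModuleCat.of A M₀) := dualCxIso R.E (ModuleCat.of A M₀)
  let i3 := dualCxTensorIso M₀ R.E
  let i4 := (mapQIso (tensorRight P) R.E).symm
  let i5 := (ltensorIsoMap P (Q.obj R.E)).symm
  exact ⟨eK.symm ≪≫ i0.symm ≪≫ (DRing.RHomCx E).mapIso R.e.symm ≪≫ i1 ≪≫ Q.mapIso i2 ≪≫
    Q.mapIso i3 ≪≫ i4 ≪≫ i5 ≪≫ (DRing.LTensor A P).mapIso R.e⟩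

/-- two dualizing complexes over a Noetherian ring with connected spectrum differ by an invertible
module and a shift -/
theorem main [ConnectedSpace (PrimeSpectrum A)] (ω ω' : Dual.D A) (hω : Dual.IsDualizing A ω)
    (hω' : Dual.IsDualizing A ω') :
    ∃ (P : ModuleCat.{u} A) (_ : Module.Invertible A P) (n : ℤ),
      ∀ [DRing.HasLTensor A P], Nonempty (ω' ≅ ((DRing.LTensor A P).obj ω)⟦n⟧) := by
  have hfinM : ∀ i : ℤ, Module.Finite A (ω' ⟶ ω⟦i⟧) := fun i =>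
    Groth.Agent.S1746.result A ω' ω hω'.finite_cohomology hω.finite_cohomology
      (Groth.Agent.Lib.Helper5.NormDual.hasFiniteInjDim_of_isDualizing ω hω) i
  have hex : ∀ i : ℤ, ∃ (k : ℕ) (f : (Fin k → A) →ₗ[A] (ω' ⟶ ω⟦i⟧)), Function.Surjective f :=
    fun i => Module.Finite.exists_fin' A _
  choose k f hf using hex
  let M : ℤ → Type u := fun i => (Fin (k i) → A) ⧸ LinearMap.ker (f i)
  let e : ∀ i, M i ≃ₗ[A] (ω' ⟶ ω⟦i⟧) := fun i => (f i).quotKerEquivOfSurjective (hf i)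
  haveI : ∀ i, Module.Finite A (M i) := fun i =>
    inferInstanceAs (Module.Finite A ((Fin (k i) → A) ⧸ LinearMap.ker (f i)))
  obtain ⟨i₀, hinv, hsub⟩ := exists_invertible_of_local_data M
    (fun q => local_data ω ω' hω hω' M e q)
  haveI := hinv
  have hω₀ : Dual.IsDualizing A (ω⟦i₀⟧) := isDualizing_shift hω i₀
  have hvan : ∀ i : ℤ, i ≠ 0 → Subsingleton (ω' ⟶ (ω⟦i₀⟧)⟦i⟧) := by
    intro i hi
    haveI := hsub (i₀ + i) (by omega)
    haveI : Subsingleton (ω' ⟶ ω⟦i₀ + i⟧) := (e (i₀ + i)).symm.toEquiv.subsingleton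
    let g : (ω⟦i₀⟧)⟦i⟧ ≅ ω⟦i₀ + i⟧ := ((shiftFunctorAdd' (Dual.D A) i₀ i (i₀ + i) rfl).app ω).symm
    have h0 : ∀ u : ω' ⟶ (ω⟦i₀⟧)⟦i⟧, u = 0 := by
      intro u
      have : u ≫ g.hom = 0 := Subsingleton.elim _ _
      exact (cancel_mono g.hom).1 (this.trans zero_comp.symm)
    exact ⟨fun u v => by rw [h0 u, h0 v]⟩
  let P : ModuleCat.{u} A := ModuleCat.of A (Module.Dual A (M i₀))
  refine ⟨P, inferInstanceAs (Module.Invertible A (Module.Dual A (M i₀))), i₀, ?_⟩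
  intro _
  haveI : Module.Flat A P := inferInstanceAs (Module.Flat A (Module.Dual A (M i₀)))
  obtain ⟨g⟩ := degree_zero_case (ω⟦i₀⟧) ω' hω₀ hω' (M i₀) (e i₀) hvan
  exact ⟨g ≪≫ ltensorIsoMap P (ω⟦i₀⟧) ≪≫
    ((tensorRight P).mapDerivedCategory.commShiftIso i₀).app ω ≪≫
    (shiftFunctor (Dual.D A) i₀).mapIso (ltensorIsoMap P ω).symm⟩

end Groth.Agent.Lib.Helper10.DualPairE
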