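import Mathlib
set_option autoImplicit false
universe u
open TensorProduct

namespace Groth.Agent.Lib.Helper10.ExactPairAbs

variable {R : Type u} [CommRing R] (M' N' : Type u) [AddCommGroup M'] [Module R M']
  [AddCommGroup N'] [Module R N']

lemma exists_finset_rTensor_eq_zero (t : M' ⊗[R] N') :
    ∃ s : Finset M', ((Submodule.span R (s : Set M')).mkQ.rTensor N') t = 0 := by
  classical
  have mono : ∀ (s s' : Finset M') (t : M' ⊗[R] N'), s ⊆ s' →
      ((Submodule.span R (s : Set M')).mkQ.rTensor N') t = 0 →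
      ((Submodule.span R (s' : Set M')).mkQ.rTensor N') t = 0 := by
    intro s s' t hss ht
    have hle : Submodule.span R (s : Set M') ≤ Submodule.span R (s' : Set M') :=
      Submodule.span_mono (by exact_mod_cast hss)
    have hfac : (Submodule.span R (s' : Set M')).mkQ =
        (Submodule.mapQ _ _ LinearMap.id (by simpa using hle)) ∘ₗ
          (Submodule.span R (s : Set M')).mkQ := by
      ext x; simp
    rw [hfac, LinearMap.rTensor_comp, LinearMap.comp_apply, ht, map_zero]
  induction t using TensorProduct.induction_on with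
  | zero => exact ⟨∅, map_zero _⟩
  | tmul m n =>
    refine ⟨{m}, ?_⟩
    rw [LinearMap.rTensor_tmul]
    have : (Submodule.span R ((({m} : Finset M')) : Set M')).mkQ m = 0 := by
      rw [Submodule.mkQ_apply, Submodule.Quotient.mk_eq_zero]
      exact Submodule.subset_span (by simp)
    rw [this, zero_tmul]
  | add t₁ t₂ h₁ h₂ =>
    obtain ⟨s₁, hs₁⟩ := h₁
    obtain ⟨s₂, hs₂⟩ := h₂
    refine ⟨s₁ ∪ s₂, ?_⟩
    rw [map_add, mono s₁ (s₁ ∪ s₂) t₁ Finset.subset_union_left hs₁,
      mono s₂ (s₁ ∪ s₂) t₂ Finset.subset_union_right hs₂, add_zero]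

variable {M' N'}

/-- a natural family of bijections `Hom(M', Y) ≅ Y ⊗ N'` forces `M'` to be finite projective -/
theorem finite_projective_of_natural_equiv
    (Φ : ∀ (Y : Type u) [AddCommGroup Y] [Module R Y], (M' →ₗ[R] Y) ≃ₗ[R] (Y ⊗[R] N'))
    (hΦ : ∀ (Y Y' : Type u) [AddCommGroup Y] [Module R Y] [AddCommGroup Y'] [Module R Y']
      (h : Y →ₗ[R] Y') (f : M' →ₗ[R] Y), Φ Y' (h ∘ₗ f) = (h.rTensor N') (Φ Y f)) :
    Module.Finite R M' ∧ Module.Projective R M' := by
  constructor
  · obtain ⟨s, hs⟩ := exists_finset_rTensor_eq_zero M' N' (Φ M' LinearMap.id)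
    have h1 : Φ (M' ⧸ Submodule.span R (s : Set M')) ((Submodule.span R (s : Set M')).mkQ) = 0 := by
      have := hΦ M' (M' ⧸ Submodule.span R (s : Set M')) (Submodule.span R (s : Set M')).mkQ
        LinearMap.id
      rw [LinearMap.comp_id] at this
      rw [this, hs]
    have h2 : (Submodule.span R (s : Set M')).mkQ = 0 := by
      have := (Φ (M' ⧸ Submodule.span R (s : Set M'))).injective (h1.trans (map_zero _).symm)
      exact this
    have h3 : Submodule.span R (s : Set M') = ⊤ := by
      rw [eq_top_iff]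
      intro x _
      have := congrArg (fun φ => φ x) h2
      simpa [Submodule.Quotient.mk_eq_zero] using this
    exact ⟨⟨s, h3⟩⟩
  · apply Module.Projective.of_lifting_property
    intro Y X _ _ _ _ e f he
    have hsurj : Function.Surjective (e.rTensor N') := LinearMap.rTensor_surjective N' he
    obtain ⟨t, ht⟩ := hsurj (Φ X f)
    refine ⟨(Φ Y).symm t, ?_⟩
    apply (Φ X).injective
    rw [hΦ Y X e ((Φ Y).symm t), LinearEquiv.apply_symm_apply, ht]

/-- and `N'` is the dual of `M'` -/
noncomputable def dualEquiv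
    (Φ : ∀ (Y : Type u) [AddCommGroup Y] [Module R Y], (M' →ₗ[R] Y) ≃ₗ[R] (Y ⊗[R] N')) :
    N' ≃ₗ[R] (M' →ₗ[R] R) :=
  (TensorProduct.lid R N').symm ≪≫ₗ (Φ R).symm

end Groth.Agent.Lib.Helper10.ExactPairAbs
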