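import Mathlib
import Groth.Prelude.Def_DRing4
import Groth.Agent.Lib.Helper10TensHom
import Groth.Agent.Lib.Helper1KF1
import Groth.Agent.Lib.Helper1DT5
import Groth.Agent.Lib.Helper10ExactPairAbs
set_option backward.isDefEq.respectTransparency.types false

/-!
# Dualizable complexes of modules are bounded complexes of finite projective modules (helper10)
-/

set_option autoImplicit false
universe u
open CategoryTheory CategoryTheory.Limits HomologicalComplex CochainComplex MonoidalCategory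
  CochainComplex.HomComplex

namespace Groth.Agent.Lib.Helper10.ExactPair

open Groth.Agent.Lib.Helper1.KF Groth.Agent.Lib.Helper10.TensHom

variable {R : Type u} [CommRing R]

section Pairing

variable (M N : Cx R) [ExactPairing M N]

/-- `Hom•(M, -) ≅ - ⊗ N` for an exact pairing `(M, N)` -/
noncomputable def Ψ : DRing.homCxFunctor M ≅ tensorRight N :=
  (adj M).rightAdjointUniq (tensorRightAdjunction M N)

/-- the "Casimir element" -/
noncomputable def cas : (M ⊗ N).X 0 := ((Ψ M N).hom.app M).f 0 (Cochain.ofHom (𝟙 M))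

lemma Ψ_ofHom {X : Cx R} (g : M ⟶ X) :
    ((Ψ M N).hom.app X).f 0 (Cochain.ofHom g) = (g ▷ N).f 0 (cas M N) := by
  have h := (Ψ M N).hom.naturality g
  have h2 := congrArg (fun φ => (φ.f 0) (Cochain.ofHom (𝟙 M))) h
  simp only [HomologicalComplex.comp_f] at h2
  have h3 : ((DRing.homCxFunctor M).map g).f 0 (Cochain.ofHom (𝟙 M)) = Cochain.ofHom g := by
    change (Cochain.ofHom (𝟙 M)).comp (Cochain.ofHom g) (add_zero 0) = Cochain.ofHom g
    simp
  change ((Ψ M N).hom.app X).f 0 (((DRing.homCxFunctor M).map g).f 0 (Cochain.ofHom (𝟙 M))) =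
    ((tensorRight N).map g).f 0 (((Ψ M N).hom.app M).f 0 (Cochain.ofHom (𝟙 M))) at h2
  rw [h3] at h2
  exact h2

/-- the submodule of `(M ⊗ N)^0` spanned by the summands `M^p ⊗ N^{-p}` -/
noncomputable def rng (M N : Cx R) (p : ℤ) : Submodule R ((M ⊗ N).X 0) :=
  LinearMap.range (ιTensorObj M N p (-p) 0 (by omega)).hom

omit [ExactPairing M N] in
lemma iSup_rng : ⨆ p : ℤ, rng M N p = ⊤ := by
  set S : Submodule R ((M ⊗ N).X 0) := ⨆ p : ℤ, rng M N p with hS
  have h : (ModuleCat.ofHom S.mkQ : (M ⊗ N).X 0 ⟶ ModuleCat.of R (((M ⊗ N).X 0) ⧸ S)) = 0 := by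
    apply tensor_hom_ext
    intro p q hpq
    obtain rfl : q = -p := by omega
    ext y
    change S.mkQ ((ιTensorObj M N p (-p) 0 hpq).hom y) = 0
    rw [Submodule.mkQ_apply, Submodule.Quotient.mk_eq_zero]
    exact (le_iSup (fun p => rng M N p) p) ⟨y, rfl⟩
  rw [eq_top_iff]
  intro x _
  have hx : S.mkQ x = 0 := by
    have := congrArg (fun φ => φ.hom x) h
    exact this
  rwa [Submodule.mkQ_apply, Submodule.Quotient.mk_eq_zero] at hx

omit [ExactPairing M N] in
lemma exists_finset_cas_mem (c : (M ⊗ N).X 0) :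
    ∃ F : Finset ℤ, c ∈ ⨆ p ∈ F, rng M N p := by
  have h : c ∈ ⨆ p : ℤ, rng M N p := by rw [iSup_rng]; trivial
  exact Submodule.exists_finset_of_mem_iSup _ h

omit [ExactPairing M N] in
lemma whiskerRight_eq_zero_of_mem {X : Cx R} (g : M ⟶ X) (F : Finset ℤ)
    (hg : ∀ p ∈ F, g.f p = 0) (c : (M ⊗ N).X 0) (hc : c ∈ ⨆ p ∈ F, rng M N p) :
    (g ▷ N).f 0 c = 0 := by
  have hle : (⨆ p ∈ F, rng M N p) ≤ LinearMap.ker ((g ▷ N).f 0).hom := by
    apply iSup₂_le
    rintro p hp _ ⟨y, rfl⟩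
    rw [LinearMap.mem_ker]
    have h := ι_whiskerRight g N p (-p) 0 (by omega)
    have h2 := congrArg (fun φ => φ.hom y) h
    simp only [ModuleCat.hom_comp, LinearMap.comp_apply] at h2
    rw [h2, hg p hp]
    simp
  exact hle hc

/-- a chain map out of `M` vanishing on the (finite) support of the Casimir element is zero -/
lemma eq_zero_of_support {X : Cx R} (g : M ⟶ X) (F : Finset ℤ)
    (hF : cas M N ∈ ⨆ p ∈ F, rng M N p) (hg : ∀ p ∈ F, g.f p = 0) : g = 0 := by
  have h1 := Ψ_ofHom M N g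
  rw [whiskerRight_eq_zero_of_mem M N g F hg _ hF] at h1
  have hinj : Function.Injective (((Ψ M N).hom.app X).f 0) := by
    haveI : IsIso (((Ψ M N).hom.app X).f 0) := inferInstance
    exact ((ConcreteCategory.isIso_iff_bijective _).1 inferInstance).1
  have h2 : Cochain.ofHom g = 0 := hinj (h1.trans (map_zero (((Ψ M N).hom.app X).f 0).hom).symm)
  exact (Cochain.ofHom_injective (by rw [h2, Cochain.ofHom_zero]))

lemma epi_d_of_not_mem (F : Finset ℤ) (hF : cas M N ∈ ⨆ p ∈ F, rng M N p) (p : ℤ) (hp : p ∉ F) :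
    Epi (M.d (p - 1) p) := by
  let g : M ⟶ (HomologicalComplex.single (ModuleCat.{u} R) (ComplexShape.up ℤ) p).obj
      (cokernel (M.d (p - 1) p)) :=
    HomologicalComplex.mkHomToSingle (cokernel.π (M.d (p - 1) p)) (by
      intro i hi
      obtain rfl : i = p - 1 := by simp at hi; omega
      exact cokernel.condition _)
  have hg : g = 0 := by
    apply eq_zero_of_support M N g F hF
    intro q hq
    have hqp : q ≠ p := fun h => hp (h ▸ hq)
    exact (HomologicalComplex.isZero_single_obj_X (ComplexShape.up ℤ) p _ q hqp).eq_of_tgt _ _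
  have h1 : g.f p = cokernel.π (M.d (p - 1) p) ≫
      (HomologicalComplex.singleObjXSelf (ComplexShape.up ℤ) p _).inv :=
    HomologicalComplex.mkHomToSingle_f _ _
  have h2 : cokernel.π (M.d (p - 1) p) = 0 := by
    rw [hg] at h1
    have h3 := congrArg (fun φ => φ ≫ (HomologicalComplex.singleObjXSelf (ComplexShape.up ℤ) p
      (cokernel (M.d (p - 1) p))).hom) h1
    simpa using h3.symm
  exact Abelian.epi_of_cokernel_π_eq_zero _ h2

lemma isZero_X_of_not_mem (F : Finset ℤ) (hF : cas M N ∈ ⨆ p ∈ F, rng M N p) (j : ℤ)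
    (hj : j ∉ F) (hj' : j - 1 ∉ F) : IsZero (M.X j) := by
  haveI h1 := epi_d_of_not_mem M N F hF j hj
  haveI h2 := epi_d_of_not_mem M N F hF (j - 1) hj'
  have h3 : M.d (j - 1) j = 0 := by
    rw [← cancel_epi (M.d (j - 1 - 1) (j - 1))]
    simp
  rw [h3] at h1
  exact IsZero.of_epi_eq_zero (0 : M.X (j - 1) ⟶ M.X j) rfl

include N in
/-- the left member of an exact pairing of complexes is bounded -/
theorem exists_vanishesOutside : ∃ a b : ℤ, DRing.VanishesOutside M a b := by
  obtain ⟨F, hF⟩ := exists_finset_cas_mem M N (cas M N)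
  obtain ⟨B, hB⟩ : ∃ B : ℤ, ∀ p ∈ F, |p| ≤ B := by
    obtain ⟨B, hB⟩ := (F.image (fun p => |p|)).exists_le
    exact ⟨B, fun p hp => hB _ (Finset.mem_image_of_mem _ hp)⟩
  refine ⟨-B, B + 1, fun j hj => isZero_X_of_not_mem M N F hF j ?_ ?_⟩
  · intro h; have := hB j h; rw [abs_le] at this; omega
  · intro h; have := hB (j - 1) h; rw [abs_le] at this; omega

end Pairing

section Single

open Groth.Agent.Lib.Helper1.DT

/-- cochains `K → Y[0]` of degree `n` are linear maps `K^p → Y`, `p + n = 0` -/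
noncomputable def tauY (K : Cx R) (Y : ModuleCat.{u} R) {p n : ℤ} (h : p + n = 0) :
    Cochain K ((CochainComplex.singleFunctor (ModuleCat.{u} R) 0).obj Y) n ≃ₗ[R]
      (K.X p →ₗ[R] Y) where
  toFun α := (Cochain.toSingleEquiv (X := Y) (K := K) h α).hom
  invFun f := (Cochain.toSingleEquiv (X := Y) (K := K) h).symm (ModuleCat.ofHom f)
  left_inv α := by simp
  right_inv f := by simp
  map_add' α β := by simp
  map_smul' a α := by
    simp [Cochain.toSingleEquiv]

lemma tauY_symm_apply (K : Cx R) (Y : ModuleCat.{u} R) {p n : ℤ} (h : p + n = 0)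
    (f : K.X p →ₗ[R] Y) :
    (tauY K Y h).symm f = Cochain.toSingleMk (X := Y) (ModuleCat.ofHom f) h := rfl

/-- naturality of `tauY` in `Y` -/
lemma tauY_symm_comp (K : Cx R) {Y Y' : ModuleCat.{u} R} (g : Y ⟶ Y') {p n : ℤ} (h : p + n = 0)
    (f : K.X p →ₗ[R] Y) :
    (tauY K Y' h).symm (g.hom ∘ₗ f) =
      ((DRing.homCxFunctor K).map
        ((HomologicalComplex.single (ModuleCat.{u} R) (ComplexShape.up ℤ) 0).map g)).f n
        ((tauY K Y h).symm f) := by
  rw [tauY_symm_apply, tauY_symm_apply]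
  have := Cochain.toSingleMk_postcomp (K := K) (ModuleCat.ofHom f) h g
  change Cochain.toSingleMk (ModuleCat.ofHom f ≫ g) h = _
  rw [this]
  rfl

lemma sglι_naturality {Y Y' : ModuleCat.{u} R} (g : Y ⟶ Y') (C : Cx R) (n : ℤ) :
    sglι Y C n ≫
      (((HomologicalComplex.single (ModuleCat.{u} R) (ComplexShape.up ℤ) 0).map g) ▷ C).f n =
      (g ▷ C.X n) ≫ sglι Y' C n := by
  unfold sglι
  rw [Category.assoc, ι_whiskerRight, ← Category.assoc, ← Category.assoc, ← comp_whiskerRight,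
    ← comp_whiskerRight, HomologicalComplex.single_map_f_self, Iso.inv_hom_id_assoc]

lemma sglπ_naturality {Y Y' : ModuleCat.{u} R} (g : Y ⟶ Y') (C : Cx R) (n : ℤ) :
    (((HomologicalComplex.single (ModuleCat.{u} R) (ComplexShape.up ℤ) 0).map g) ▷ C).f n ≫
      sglπ Y' C n = sglπ Y C n ≫ (g ▷ C.X n) := by
  have h := sglι_naturality g C n
  have h2 : sglπ Y C n ≫ (sglι Y C n ≫
      (((HomologicalComplex.single (ModuleCat.{u} R) (ComplexShape.up ℤ) 0).map g) ▷ C).f n) ≫
        sglπ Y' C n = sglπ Y C n ≫ ((g ▷ C.X n) ≫ sglι Y' C n) ≫ sglπ Y' C n := by rw [h]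
  rw [Category.assoc, Category.assoc, sglι_sglπ, Category.comp_id,
    ← Category.assoc, sglπ_sglι, Category.id_comp] at h2
  exact h2

variable (M N : Cx R) [ExactPairing M N]

/-- `(Y[0] ⊗ N)^n ≃ Y ⊗ N^n` -/
noncomputable def e3 (Y : ModuleCat.{u} R) (n : ℤ) :
    ((sgl Y ⊗ N).X n) ≃ₗ[R] TensorProduct R Y (N.X n) :=
  (Iso.toLinearEquiv { hom := sglπ Y N n, inv := sglι Y N n, hom_inv_id := sglπ_sglι Y N n,
                       inv_hom_id := sglι_sglπ Y N n } : _ ≃ₗ[R] ((Y ⊗ N.X n : ModuleCat.{u} R)))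

/-- `Hom•(M, Y[0])^n ≃ (Y[0] ⊗ N)^n` -/
noncomputable def e2 (Y : ModuleCat.{u} R) (n : ℤ) :
    Cochain M (sgl Y) n ≃ₗ[R] ((sgl Y ⊗ N).X n) :=
  (Iso.toLinearEquiv ((HomologicalComplex.eval _ _ n).mapIso ((Ψ M N).app (sgl Y))) :
    ((DRing.homCx M (sgl Y)).X n) ≃ₗ[R] ((sgl Y ⊗ N).X n))

/-- the natural family `Hom(M^p, Y) ≃ Y ⊗ N^n`, `p + n = 0` -/
noncomputable def Φ {p n : ℤ} (h : p + n = 0) (Y : Type u) [AddCommGroup Y] [Module R Y] :
    (M.X p →ₗ[R] Y) ≃ₗ[R] TensorProduct R Y (N.X n) :=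
  (tauY M (ModuleCat.of R Y) h).symm ≪≫ₗ e2 M N (ModuleCat.of R Y) n ≪≫ₗ e3 N (ModuleCat.of R Y) n

lemma e2_natural {Y Y' : ModuleCat.{u} R} (g : Y ⟶ Y') (n : ℤ) (z : Cochain M (sgl Y) n) :
    e2 M N Y' n (((DRing.homCxFunctor M).map
        ((HomologicalComplex.single (ModuleCat.{u} R) (ComplexShape.up ℤ) 0).map g)).f n z) =
      (((HomologicalComplex.single (ModuleCat.{u} R) (ComplexShape.up ℤ) 0).map g) ▷ N).f n
        (e2 M N Y n z) := by
  have h := (Ψ M N).hom.naturality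
    ((HomologicalComplex.single (ModuleCat.{u} R) (ComplexShape.up ℤ) 0).map g)
  have h2 := congrArg (fun φ => (φ.f n) z) h
  exact h2

omit [ExactPairing M N] in
lemma e3_natural {Y Y' : ModuleCat.{u} R} (g : Y ⟶ Y') (n : ℤ) (w : (sgl Y ⊗ N).X n) :
    e3 N Y' n ((((HomologicalComplex.single (ModuleCat.{u} R) (ComplexShape.up ℤ) 0).map g) ▷ N).f n
        w) = (g.hom.rTensor (N.X n)) (e3 N Y n w) := by
  have h := sglπ_naturality g N n
  have h2 := congrArg (fun φ => φ.hom w) h
  exact h2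

lemma Φ_natural {p n : ℤ} (h : p + n = 0) (Y Y' : Type u) [AddCommGroup Y] [Module R Y]
    [AddCommGroup Y'] [Module R Y'] (g : Y →ₗ[R] Y') (f : M.X p →ₗ[R] Y) :
    Φ M N h Y' (g ∘ₗ f) = (g.rTensor (N.X n)) (Φ M N h Y f) := by
  unfold Φ
  simp only [LinearEquiv.trans_apply]
  have h1 := tauY_symm_comp M (ModuleCat.ofHom g) h f
  change (tauY M (ModuleCat.of R Y') h).symm (g ∘ₗ f) = _ at h1
  rw [h1]
  erw [e2_natural M N (ModuleCat.ofHom g) n, e3_natural N (ModuleCat.ofHom g) n]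
  rfl

open Groth.Agent.Lib.Helper10.ExactPairAbs in
include N in
/-- the left member of an exact pairing is termwise finite projective -/
theorem termwiseFiniteProjective_left : DRing.TermwiseFiniteProjective M := fun p =>
  finite_projective_of_natural_equiv (N' := N.X (-p))
    (fun Y _ _ => Φ M N (show p + -p = 0 by omega) Y)
    (fun Y Y' _ _ _ _ g f => Φ_natural M N (show p + -p = 0 by omega) Y Y' g f)

open Groth.Agent.Lib.Helper10.ExactPairAbs in
/-- the terms of the right member are the duals of the terms of the left member -/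
noncomputable def rightEquivDual (n : ℤ) : N.X n ≃ₗ[R] (M.X (-n) →ₗ[R] R) :=
  dualEquiv (M' := M.X (-n)) (N' := N.X n)
    (fun Y _ _ => Φ M N (show -n + n = 0 by omega) Y)

include M in
theorem termwiseFiniteProjective_right : DRing.TermwiseFiniteProjective N := fun n => by
  haveI := (termwiseFiniteProjective_left M N (-n)).1
  haveI := (termwiseFiniteProjective_left M N (-n)).2
  exact ⟨Module.Finite.equiv (rightEquivDual M N n).symm,
    Module.Projective.of_equiv (rightEquivDual M N n).symm⟩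

include M in
theorem exists_vanishesOutside_right : ∃ a b : ℤ, DRing.VanishesOutside N a b := by
  obtain ⟨a, b, hab⟩ := exists_vanishesOutside M N
  refine ⟨-b, -a, fun n hn => ?_⟩
  have hz : IsZero (M.X (-n)) := hab (-n) (by omega)
  haveI : Subsingleton (M.X (-n)) := ModuleCat.subsingleton_of_isZero hz
  haveI : Subsingleton (N.X n) := (rightEquivDual M N n).toEquiv.subsingleton
  exact ModuleCat.isZero_of_subsingleton _

end Single

end Groth.Agent.Lib.Helper10.ExactPair
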