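import Mathlib

/-!
# Top exterior power of `R^n / R a`

Local model for "the zeroth homology of `L → E` (`L` invertible, `E` locally free of rank `n`) is
locally free of rank `n - 1` off the closed subscheme cut out by `Ann ⋀^n`".
-/

namespace Groth.Agent.Lib.Helper10.ExtQuot

open Module

section free

variable {S : Type*} [CommRing S] {n : ℕ} (a : Fin n → S) (i : Fin n)

lemma isCompl_span_ker_proj (h : IsUnit (a i)) :
    IsCompl (Submodule.span S {a})
      (LinearMap.ker (LinearMap.proj i : (Fin n → S) →ₗ[S] S)) := by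
  obtain ⟨u, hu⟩ := h
  constructor
  · rw [Submodule.disjoint_def]
    intro x hx hx'
    obtain ⟨c, rfl⟩ := Submodule.mem_span_singleton.mp hx
    have h0 : c * a i = 0 := by simpa using hx'
    have : c = 0 := by
      have := congrArg (· * (↑u⁻¹ : S)) h0
      simpa [← hu, mul_assoc] using this
    simp [this]
  · rw [codisjoint_iff, eq_top_iff]
    intro x _
    have hx : x = (x i * (↑u⁻¹ : S)) • a + (x - (x i * (↑u⁻¹ : S)) • a) := by abel
    rw [hx]
    refine Submodule.add_mem_sup (Submodule.smul_mem _ _ (Submodule.mem_span_singleton_self a)) ?_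
    simp [← hu, mul_assoc]

/-- `S^n / S a` is isomorphic to `S^{n-1}` when a coordinate of `a` is a unit. -/
noncomputable def quotEquiv (h : IsUnit (a i)) :
    ((Fin n → S) ⧸ Submodule.span S {a}) ≃ₗ[S] (({i}ᶜ : Set (Fin n)) → S) := by
  classical
  have hK : LinearMap.ker (LinearMap.proj i : (Fin n → S) →ₗ[S] S) =
      ⨅ j ∈ ({i} : Set (Fin n)), LinearMap.ker (LinearMap.proj j : (Fin n → S) →ₗ[S] S) := by
    simp
  exact (Submodule.quotientEquivOfIsCompl _ _ (isCompl_span_ker_proj a i h)).trans
    ((LinearEquiv.ofEq _ _ hK).trans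
      (LinearMap.iInfKerProjEquiv S (fun _ : Fin n => S) (I := ({i}ᶜ : Set (Fin n))) (J := {i})
        disjoint_compl_left (by rw [Set.compl_union_self])))

lemma free_quot (h : IsUnit (a i)) : Module.Free S ((Fin n → S) ⧸ Submodule.span S {a}) :=
  Module.Free.of_equiv (quotEquiv a i h).symm

lemma finrank_quot [Nontrivial S] (h : IsUnit (a i)) :
    Module.finrank S ((Fin n → S) ⧸ Submodule.span S {a}) = n - 1 := by
  classical
  rw [(quotEquiv a i h).finrank_eq, Module.finrank_pi, Fintype.card_compl_set]
  simp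

end free

section ann

variable {R : Type*} [CommRing R] {n : ℕ} (a : Fin n → R)

/-- The class of the `k`-th standard basis vector in `R^n / R a`. -/
noncomputable def ebar (k : Fin n) : (Fin n → R) ⧸ Submodule.span R {a} :=
  Submodule.Quotient.mk (Pi.single k 1)

lemma span_range_ebar : Submodule.span R (Set.range (ebar a)) = ⊤ := by
  rw [eq_top_iff]
  rintro x -
  obtain ⟨w, rfl⟩ := Submodule.Quotient.mk_surjective _ x
  have hw : w = ∑ k, w k • (Pi.single k 1 : Fin n → R) := by
    ext l
    simp [Finset.sum_apply, Pi.single_apply]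
  show (Submodule.span R {a}).mkQ w ∈ _
  rw [hw, map_sum]
  refine Submodule.sum_mem _ fun k _ => ?_
  rw [map_smul]
  exact Submodule.smul_mem _ _ (Submodule.subset_span ⟨k, rfl⟩)

/-- Key computation: a linear map out of `R^n / R a` which kills all `ebar l`, `l ≠ j`,
satisfies `a j • L (ebar j) = 0`. -/
lemma smul_eq_zero_of_forall_ne {W : Type*} [AddCommGroup W] [Module R W]
    (L : ((Fin n → R) ⧸ Submodule.span R {a}) →ₗ[R] W) (j : Fin n)
    (hL : ∀ l, l ≠ j → L (ebar a l) = 0) : a j • L (ebar a j) = 0 := by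
  classical
  have key : L ∘ₗ (Submodule.span R {a}).mkQ =
      (LinearMap.toSpanSingleton R W (L (ebar a j))) ∘ₗ (LinearMap.proj j) := by
    refine LinearMap.pi_ext fun l x => ?_
    have hx : (Pi.single l x : Fin n → R) = x • Pi.single l 1 := by
      ext m; simp [Pi.single_apply]
    simp only [LinearMap.coe_comp, Function.comp_apply, Submodule.mkQ_apply, LinearMap.proj_apply,
      LinearMap.toSpanSingleton_apply]
    rw [hx, Submodule.Quotient.mk_smul, map_smul]
    by_cases hl : l = j
    · subst hl; simp [ebar]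
    · have := hL l hl
      simp only [ebar] at this
      simp [this, Ne.symm hl]
  have h1 := LinearMap.congr_fun key a
  simp only [LinearMap.coe_comp, Function.comp_apply, Submodule.mkQ_apply, LinearMap.proj_apply,
    LinearMap.toSpanSingleton_apply] at h1
  rw [← h1]
  have : (Submodule.Quotient.mk a : (Fin n → R) ⧸ Submodule.span R {a}) = 0 :=
    (Submodule.Quotient.mk_eq_zero _).mpr (Submodule.mem_span_singleton_self a)
  rw [this, map_zero]

lemma smul_ιMulti_ebar_comp (j : Fin n) (σ : Fin n → Fin n) :
    a j • exteriorPower.ιMulti R n (ebar a ∘ σ) = 0 := by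
  classical
  by_cases hσ : Function.Injective σ
  · have hsurj : Function.Surjective σ := Finite.surjective_of_injective hσ
    obtain ⟨k, rfl⟩ := hsurj j
    set v := ebar a ∘ σ with hv
    have := smul_eq_zero_of_forall_ne a
      ((exteriorPower.ιMulti R n).toMultilinearMap.toLinearMap v k) (σ k) ?_
    · have hupd : Function.update v k (ebar a (σ k)) = v := Function.update_eq_self k v
      simpa [hupd] using this
    · intro l hl
      obtain ⟨k', rfl⟩ := hsurj l
      have hkk' : k' ≠ k := fun h => hl (by rw [h])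
      simp only [MultilinearMap.toLinearMap_apply, AlternatingMap.coe_multilinearMap]
      refine (exteriorPower.ιMulti R n).map_eq_zero_of_eq _ (i := k') (j := k) ?_ hkk'
      simp [hv, Function.update_of_ne hkk']
  · rw [(exteriorPower.ιMulti R n).map_eq_zero_of_not_injective _ ?_, smul_zero]
    intro h
    apply hσ
    intro x y hxy
    exact h (by simp [hxy])

lemma span_le_annihilator :
    Ideal.span (Set.range a) ≤
      (⋀[R]^n ((Fin n → R) ⧸ Submodule.span R {a})).annihilator := by
  rw [Ideal.span_le]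
  rintro _ ⟨j, rfl⟩
  rw [SetLike.mem_coe, Module.mem_annihilator]
  intro ω
  have hω : ω ∈ Submodule.span R
      (exteriorPower.ιMulti R n '' {v | Set.range v ⊆ Set.range (ebar a)}) := by
    rw [exteriorPower.ιMulti_span_of_span R n _ (span_range_ebar a)]; trivial
  induction hω using Submodule.span_induction with
  | mem x hx =>
    obtain ⟨v, hv, rfl⟩ := hx
    choose σ hσ using fun k => hv ⟨k, rfl⟩
    have : v = ebar a ∘ σ := by ext k; simp [hσ]
    rw [this]
    exact smul_ιMulti_ebar_comp a j σ
  | zero => simp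
  | add x y _ _ hx hy => rw [smul_add, hx, hy, add_zero]
  | smul c x _ hx => rw [smul_comm, hx, smul_zero]

/-- The `R`-linear map `R^n / R a → (R/I)^n`, `I = (a_1, …, a_n)`. -/
noncomputable def toQuotPi :
    ((Fin n → R) ⧸ Submodule.span R {a}) →ₗ[R] (Fin n → R ⧸ Ideal.span (Set.range a)) :=
  Submodule.liftQ _ ((Submodule.mkQ (Ideal.span (Set.range a))).compLeft (Fin n)) (by
    rw [Submodule.span_le, Set.singleton_subset_iff, SetLike.mem_coe, LinearMap.mem_ker]
    ext l
    simp only [LinearMap.compLeft_apply, Function.comp_apply, Submodule.mkQ_apply, Pi.zero_apply]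
    exact (Submodule.Quotient.mk_eq_zero _).mpr (Ideal.subset_span ⟨l, rfl⟩))

lemma annihilator_le_span :
    (⋀[R]^n ((Fin n → R) ⧸ Submodule.span R {a})).annihilator ≤
      Ideal.span (Set.range a) := by
  classical
  intro r hr
  rw [Module.mem_annihilator] at hr
  let g : ((Fin n → R) ⧸ Submodule.span R {a}) [⋀^Fin n]→ₗ[R] (R ⧸ Ideal.span (Set.range a)) :=
    { ((Matrix.detRowAlternating (R := R ⧸ Ideal.span (Set.range a))
        (n := Fin n)).toMultilinearMap.restrictScalars R).compLinearMap
          (fun _ => toQuotPi a) with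
      map_eq_zero_of_eq' := fun v i j hv hij => by
        show Matrix.det (fun k => toQuotPi a (v k)) = 0
        exact Matrix.det_zero_of_row_eq hij (by simp [hv]) }
  have h1 := congrArg (exteriorPower.alternatingMapLinearEquiv g)
    (hr (exteriorPower.ιMulti R n (ebar a)))
  rw [map_smul, exteriorPower.alternatingMapLinearEquiv_apply_ιMulti, map_zero] at h1
  have hg : g (ebar a) = 1 := by
    have : (fun k => toQuotPi a (ebar a k)) =
        (1 : Matrix (Fin n) (Fin n) (R ⧸ Ideal.span (Set.range a))) := by
      ext k l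
      simp [toQuotPi, ebar, Matrix.one_apply, Pi.single_apply, eq_comm]
    show Matrix.det (fun k => toQuotPi a (ebar a k)) = 1
    rw [this, Matrix.det_one]
  rw [hg] at h1
  have : (Ideal.Quotient.mk (Ideal.span (Set.range a)) r) = 0 := by
    rw [← h1]
    simp [Algebra.smul_def]
  exact Ideal.Quotient.eq_zero_iff_mem.mp this

theorem annihilator_eq :
    (⋀[R]^n ((Fin n → R) ⧸ Submodule.span R {a})).annihilator = Ideal.span (Set.range a) :=
  le_antisymm (annihilator_le_span a) (span_le_annihilator a)

end ann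

section loc

universe u

variable {R : Type u} [CommRing R] {n : ℕ} (a : Fin n → R) (p : PrimeSpectrum R)

theorem mem_freeLocus_and_rank (h : ¬ Ideal.span (Set.range a) ≤ p.asIdeal) :
    p ∈ Module.freeLocus R ((Fin n → R) ⧸ Submodule.span R {a}) ∧
      Module.rankAtStalk ((Fin n → R) ⧸ Submodule.span R {a}) p = n - 1 := by
  obtain ⟨i, hi⟩ : ∃ i, a i ∉ p.asIdeal := by
    by_contra hcon
    push Not at hcon
    exact h (Ideal.span_le.mpr (by rintro _ ⟨i, rfl⟩; exact hcon i))
  let S := Localization.AtPrime p.asIdeal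
  let f₀ : (Fin n → R) →ₗ[R] (Fin n → S) :=
    LinearMap.pi fun k => (Algebra.linearMap R S) ∘ₗ LinearMap.proj k
  haveI : IsLocalizedModule p.asIdeal.primeCompl f₀ := inferInstance
  let N := Submodule.span R {a}
  let f := N.toLocalizedQuotient' S p.asIdeal.primeCompl f₀
  have hN : N.localized' S p.asIdeal.primeCompl f₀ = Submodule.span S {f₀ a} := by
    rw [Submodule.localized'_span]; simp
  have hu : IsUnit (f₀ a i) := IsLocalization.map_units S (⟨a i, hi⟩ : p.asIdeal.primeCompl)
  let e₁ : ((Fin n → S) ⧸ N.localized' S p.asIdeal.primeCompl f₀) ≃ₗ[S]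
      ((Fin n → S) ⧸ Submodule.span S {f₀ a}) := Submodule.quotEquivOfEq _ _ hN
  haveI hfree : Module.Free S ((Fin n → S) ⧸ N.localized' S p.asIdeal.primeCompl f₀) :=
    haveI := free_quot (f₀ a) i hu
    Module.Free.of_equiv e₁.symm
  have hrank : Module.finrank S ((Fin n → S) ⧸ N.localized' S p.asIdeal.primeCompl f₀) = n - 1 := by
    rw [e₁.finrank_eq, finrank_quot (f₀ a) i hu]
  refine ⟨(Module.mem_freeLocus_of_isLocalization p S _ f).mpr hfree, ?_⟩
  let e : LocalizedModule p.asIdeal.primeCompl ((Fin n → R) ⧸ N) ≃ₗ[S]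
      ((Fin n → S) ⧸ N.localized' S p.asIdeal.primeCompl f₀) :=
    (IsLocalizedModule.linearEquiv p.asIdeal.primeCompl
      (LocalizedModule.mkLinearMap _ _) f).extendScalarsOfIsLocalization p.asIdeal.primeCompl _
  rw [Module.rankAtStalk, e.finrank_eq, hrank]

end loc

end Groth.Agent.Lib.Helper10.ExtQuot
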