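import Mathlib
import Groth.Agent.Lib.Helper10FibCI2

set_option autoImplicit false
universe u
open CategoryTheory AlgebraicGeometry TopologicalSpace Limits TensorProduct

namespace Groth.Agent.Lib.Helper10.FibCI

variable {X Y : Scheme.{u}}

lemma isIso_residueFieldMap_of_surjectiveOnStalks (f : X ⟶ Y) [SurjectiveOnStalks f] (x : X) :
    IsIso (f.residueFieldMap x) := by
  rw [ConcreteCategory.isIso_iff_bijective]
  refine ⟨RingHom.injective _, fun b => ?_⟩
  obtain ⟨b', rfl⟩ := IsLocalRing.residue_surjective b
  obtain ⟨a', rfl⟩ := f.stalkMap_surjective x b'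
  refine ⟨IsLocalRing.residue _ a', ?_⟩
  exact IsLocalRing.ResidueField.map_residue (f.stalkMap x).hom a'

/-- fibres over points in the image of a closed immersion (or any morphism surjective on stalks) -/
lemma isClosedImmersion_fiber_iff_of_isPullback' {P X Y Z : Scheme.{u}} {fst : P ⟶ X}
    {snd : P ⟶ Y} {f : X ⟶ Z} {g : Y ⟶ Z} [SurjectiveOnStalks g] (h : IsPullback fst snd f g)
    (y : Y) :
    IsClosedImmersion (snd.fiberToSpecResidueField y) ↔
      IsClosedImmersion (f.fiberToSpecResidueField (g y)) := by
  haveI := isIso_residueFieldMap_of_surjectiveOnStalks g y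
  exact iff_of_isPullback_of_isIso @IsClosedImmersion
    (isPullback_fiberToSpecResidueField_of_isPullback h y)

lemma isClosedImmersion_fiberToSpecResidueField (f : X ⟶ Y) [IsClosedImmersion f] (y : Y) :
    IsClosedImmersion (f.fiberToSpecResidueField y) :=
  MorphismProperty.of_isPullback (IsPullback.of_hasPullback f (Y.fromSpecResidueField y)) ‹_›

/-- universally closed + locally of finite type + all fibres closed immersions ⇒ closed immersion -/
lemma isClosedImmersion_of_forall_fiber (f : X ⟶ Y) [LocallyOfFiniteType f] [UniversallyClosed f]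
    (h : ∀ y, IsClosedImmersion (f.fiberToSpecResidueField y)) : IsClosedImmersion f :=
  IsZariskiLocalAtTarget.of_forall_exists_morphismRestrict (P := @IsClosedImmersion)
    fun y => exists_isClosedImmersion_morphismRestrict f y (h y)

theorem main417 {X S S' : Scheme.{u}} (f : X ⟶ S) (i : S' ⟶ S) [IsClosedImmersion i]
    (hi : Function.Bijective i) [LocallyOfFiniteType f]
    [IsClosedImmersion (pullback.snd f i)] : IsClosedImmersion f := by
  haveI : Surjective i := ⟨hi.2⟩
  haveI : UniversallyClosed (pullback.fst f i ≫ f) := by
    rw [pullback.condition]; infer_instance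
  haveI : UniversallyClosed f := UniversallyClosed.of_comp_surjective (pullback.fst f i) f
  refine isClosedImmersion_of_forall_fiber f fun y => ?_
  obtain ⟨y', rfl⟩ := hi.2 y
  exact (isClosedImmersion_fiber_iff_of_isPullback' (IsPullback.of_hasPullback f i) y').mp
    (isClosedImmersion_fiberToSpecResidueField _ y')

end Groth.Agent.Lib.Helper10.FibCI
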