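import Mathlib

/-!
# Closed points of fibres and residue field extensions (helper10; Mathlib-only)
-/

universe u

namespace Groth.Agent.Lib.Helper10.FibClosed

open CategoryTheory CategoryTheory.Limits AlgebraicGeometry TopologicalSpace

/-- If `g : Spec K ⟶ F` (K a field) composed with `h : F ⟶ T` is integral, then the image point
of `g` is closed in `F`. (No separatedness of `h` needed.) -/
theorem isClosed_range_of_isIntegralHom_comp {K : CommRingCat.{u}} [Subsingleton (Spec K)]
    {F T : Scheme.{u}} [IsAffine T]
    (g : Spec K ⟶ F) (h : F ⟶ T) [IsIntegralHom (g ≫ h)] : IsClosed (Set.range g) := by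
  have hcov : IsOpenCover (fun i : F.affineOpens => (i : F.Opens)) := iSup_affineOpens_eq_top F
  rw [hcov.isClosed_iff_coe_preimage]
  intro U
  by_cases hU : Set.range g ⊆ (U : F.Opens)
  · have hU' : Set.range g ⊆ Set.range (U : F.Opens).ι := by simpa using hU
    let g' : Spec K ⟶ (U : F.Opens) := IsOpenImmersion.lift (U : F.Opens).ι g hU'
    have hg' : g' ≫ (U : F.Opens).ι = g := IsOpenImmersion.lift_fac _ _ _
    haveI : IsAffine ((U : F.Opens) : Scheme) := U.2
    haveI : IsIntegralHom (g' ≫ ((U : F.Opens).ι ≫ h)) := by
      rw [← Category.assoc, hg']; infer_instance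
    haveI : IsIntegralHom g' := IsIntegralHom.of_comp g' ((U : F.Opens).ι ≫ h)
    have hcl : IsClosed (Set.range g') := g'.isClosedMap.isClosed_range
    have heq : (Subtype.val ⁻¹' Set.range g : Set ((U : F.Opens) : Set F)) = Set.range g' := by
      ext y
      simp only [Set.mem_preimage, Set.mem_range]
      constructor
      · rintro ⟨t, ht⟩
        refine ⟨t, ?_⟩
        apply (U : F.Opens).ι.isOpenEmbedding.injective
        rw [← Scheme.Hom.comp_apply, hg', ht]; rfl
      · rintro ⟨t, ht⟩
        refine ⟨t, ?_⟩
        rw [← hg', Scheme.Hom.comp_apply, ht]; rfl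
    exact heq ▸ hcl
  · convert isClosed_empty using 1
    ext y
    simp only [Set.mem_preimage, Set.mem_range, Set.mem_empty_iff_false, iff_false]
    rintro ⟨t, ht⟩
    apply hU
    rintro _ ⟨t', rfl⟩
    have : t' = t := Subsingleton.elim _ _
    rw [this, ht]; exact y.2

variable {X S : Scheme.{u}}

theorem isClosed_asFiber_of_isAlgebraic (f : X ⟶ S) (x : X)
    (halg : @Algebra.IsAlgebraic (S.residueField (f.base x)) (X.residueField x) _ _
      (f.residueFieldMap x).hom.toAlgebra) :
    IsClosed ({f.asFiber x} : Set ↑(f.fiber (f.base x))) := by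
  rw [← f.range_asFiberHom x]
  haveI : IsIntegralHom (f.asFiberHom x ≫ f.fiberToSpecResidueField (f x)) := by
    rw [Scheme.Hom.asFiberHom_fiberToSpecResidueField, IsIntegralHom.SpecMap_iff]
    letI := (f.residueFieldMap x).hom.toAlgebra
    have : Algebra.IsIntegral (S.residueField (f.base x)) (X.residueField x) :=
      Algebra.IsAlgebraic.isIntegral
    exact fun y => Algebra.IsIntegral.isIntegral y
  exact isClosed_range_of_isIntegralHom_comp (f.asFiberHom x) (f.fiberToSpecResidueField (f x))

theorem isClosed_singleton_of_isClosed_asFiber (f : X ⟶ S) (x : X)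
    (h : IsClosed ({f.asFiber x} : Set ↑(f.fiber (f.base x))))
    (hs : IsClosed ({f.base x} : Set ↑S)) : IsClosed ({x} : Set ↑X) := by
  have hemb : Topology.IsClosedEmbedding (f.fiberι (f x)) := by
    refine ⟨(f.fiberι (f x)).isEmbedding, ?_⟩
    rw [f.range_fiberι]
    exact hs.preimage f.continuous
  have := hemb.isClosedMap _ h
  rwa [Set.image_singleton, f.fiberι_asFiber] at this

set_option backward.isDefEq.respectTransparency.types false in
theorem isClosed_asFiber_iff_finite (f : X ⟶ S) [LocallyOfFiniteType f] (x : X) :
    IsClosed ({f.asFiber x} : Set ↑(f.fiber (f.base x))) ↔ (f.residueFieldMap x).hom.Finite := by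
  constructor
  · intro h
    rw [← f.range_asFiberHom x] at h
    haveI : IsClosedImmersion (f.asFiberHom x) := IsClosedImmersion.of_isPreimmersion _ h
    haveI : LocallyOfFiniteType (f.fiberToSpecResidueField (f x)) :=
      MorphismProperty.pullback_snd _ _ inferInstance
    haveI : LocallyOfFiniteType (Spec.map (f.residueFieldMap x)) := by
      rw [← Scheme.Hom.asFiberHom_fiberToSpecResidueField]; infer_instance
    have : IsFinite (Spec.map (f.residueFieldMap x)) :=
      isFinite_iff_locallyOfFiniteType_of_jacobsonSpace.mpr inferInstance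
    rwa [IsFinite.SpecMap_iff] at this
  · intro h
    apply isClosed_asFiber_of_isAlgebraic
    letI := (f.residueFieldMap x).hom.toAlgebra
    have : Module.Finite (S.residueField (f.base x)) (X.residueField x) := h
    exact Algebra.IsAlgebraic.of_finite _ _

end Groth.Agent.Lib.Helper10.FibClosed
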