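import Mathlib

/-!
# Connected components of a finite étale cover meet every fibre (helper10)
-/

open CategoryTheory AlgebraicGeometry

universe u

namespace Groth.Agent.Lib.Helper10.FinEtConn

/-- Topological core: an open and closed map with a finite fibre over `x` onto a preconnected
space: every connected component of the source meets the fibre over `x`. -/
theorem exists_mem_connectedComponent {A B : Type*} [TopologicalSpace A] [TopologicalSpace B]
    [PreconnectedSpace B] (f : A → B) (hfo : IsOpenMap f) (hfc : IsClosedMap f) (x : B)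
    (hfin : (f ⁻¹' {x}).Finite) (c : A) : ∃ x', f x' = x ∧ x' ∈ connectedComponent c := by
  classical
  have key : ∀ W : Set A, IsClopen W → W.Nonempty → (W ∩ f ⁻¹' {x}).Nonempty := by
    intro W hW hne
    have h1 : IsClopen (f '' W) := ⟨hfc _ hW.1, hfo _ hW.2⟩
    have h2 : f '' W = Set.univ := h1.eq_univ (hne.image f)
    obtain ⟨w, hw, hwx⟩ : x ∈ f '' W := h2 ▸ Set.mem_univ x
    exact ⟨w, hw, hwx⟩
  have hex : ∃ n : ℕ, ∃ W : Set A, IsClopen W ∧ c ∈ W ∧ (W ∩ f ⁻¹' {x}).ncard = n :=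
    ⟨_, Set.univ, isClopen_univ, Set.mem_univ c, rfl⟩
  obtain ⟨W₀, hW₀, hcW₀, hn⟩ := Nat.find_spec hex
  have hmin : ∀ W : Set A, IsClopen W → c ∈ W → (W₀ ∩ f ⁻¹' {x}).ncard ≤ (W ∩ f ⁻¹' {x}).ncard := by
    intro W hW hcW
    rw [hn]
    exact Nat.find_min' hex ⟨W, hW, hcW, rfl⟩
  -- `W₀` is preconnected
  have hsub : ∀ u v : Set A, IsClosed u → IsClosed v → W₀ ⊆ u ∪ v → Disjoint u v → c ∈ u →
      W₀ ⊆ u := by
    intro u v hu hv huv hdisj hcu
    have hA : W₀ ∩ u = W₀ ∩ vᶜ := by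
      ext a
      simp only [Set.mem_inter_iff, Set.mem_compl_iff]
      constructor
      · rintro ⟨h1, h2⟩
        exact ⟨h1, fun h3 => Set.disjoint_left.mp hdisj h2 h3⟩
      · rintro ⟨h1, h2⟩
        exact ⟨h1, (huv h1).resolve_right h2⟩
    have hB : W₀ ∩ v = W₀ ∩ uᶜ := by
      ext a
      simp only [Set.mem_inter_iff, Set.mem_compl_iff]
      constructor
      · rintro ⟨h1, h2⟩
        exact ⟨h1, fun h3 => Set.disjoint_left.mp hdisj h3 h2⟩
      · rintro ⟨h1, h2⟩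
        exact ⟨h1, (huv h1).resolve_left h2⟩
    have hAclopen : IsClopen (W₀ ∩ u) :=
      ⟨hW₀.1.inter hu, hA ▸ hW₀.2.inter hv.isOpen_compl⟩
    have hBclopen : IsClopen (W₀ ∩ v) :=
      ⟨hW₀.1.inter hv, hB ▸ hW₀.2.inter hu.isOpen_compl⟩
    have h1 := hmin (W₀ ∩ u) hAclopen ⟨hcW₀, hcu⟩
    have hfinW : (W₀ ∩ f ⁻¹' {x}).Finite := hfin.subset Set.inter_subset_right
    have h2 : W₀ ∩ u ∩ f ⁻¹' {x} = W₀ ∩ f ⁻¹' {x} := by
      refine Set.eq_of_subset_of_ncard_le ?_ h1 hfinW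
      exact Set.inter_subset_inter_left _ Set.inter_subset_left
    have hBempty : W₀ ∩ v = ∅ := by
      by_contra hne
      obtain ⟨b, ⟨hb1, hb2⟩, hb3⟩ := key _ hBclopen (Set.nonempty_iff_ne_empty.mpr hne)
      have hb4 : b ∈ W₀ ∩ u ∩ f ⁻¹' {x} := h2 ▸ ⟨hb1, hb3⟩
      exact Set.disjoint_left.mp hdisj hb4.1.2 hb2
    intro a ha
    rcases huv ha with h | h
    · exact h
    · exact absurd (show a ∈ W₀ ∩ v from ⟨ha, h⟩) (hBempty ▸ Set.notMem_empty a)
  have hpre : IsPreconnected W₀ := by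
    rw [isPreconnected_iff_subset_of_fully_disjoint_closed hW₀.1]
    intro u v hu hv huv hdisj
    rcases huv hcW₀ with hcu | hcv
    · exact Or.inl (hsub u v hu hv huv hdisj hcu)
    · exact Or.inr (hsub v u hv hu (by rwa [Set.union_comm]) hdisj.symm hcv)
  obtain ⟨x', hx'W, hx'x⟩ := key W₀ hW₀ ⟨c, hcW₀⟩
  exact ⟨x', hx'x, hpre.subset_connectedComponent hcW₀ hx'W⟩

theorem main5278 {X X' : Scheme.{u}} [ConnectedSpace X] (f : X' ⟶ X)
    [IsFinite f] [Etale f] (x : X) (c : X') :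
    ∃ x' : X', f.base x' = x ∧ x' ∈ connectedComponent c :=
  exists_mem_connectedComponent f f.isOpenMap f.isClosedMap x (f.finite_preimage_singleton x) c

end Groth.Agent.Lib.Helper10.FinEtConn
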