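import Mathlib

/-!
# Largest finite étale subalgebra of a subalgebra of a finite-type algebra over a field
(helper10; Mathlib-only)
-/

universe u

namespace Groth.Agent.Lib.Helper10.FinEtSub

open Module

variable {k : Type u} [Field k] {B : Type u} [CommRing B] [Algebra k B]

/-- The range of an algebra map from a finite étale algebra over a field is finite étale. -/
theorem finite_etale_range {E₁ : Type u} [CommRing E₁] [Algebra k E₁] [Module.Finite k E₁]
    [Algebra.Etale k E₁] (f : E₁ →ₐ[k] B) :
    Module.Finite k f.range ∧ Algebra.Etale k f.range := by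
  have hfin : Module.Finite k f.range :=
    Module.Finite.of_surjective f.rangeRestrict.toLinearMap f.rangeRestrict_surjective
  refine ⟨hfin, ?_⟩
  have : Algebra.FormallyUnramified k f.range :=
    Algebra.FormallyUnramified.of_surjective f.rangeRestrict f.rangeRestrict_surjective
  have : Algebra.FormallyEtale k f.range :=
    Algebra.FormallyEtale.of_formallyUnramified_of_field k _
  have : Algebra.FinitePresentation k f.range :=
    Algebra.FinitePresentation.of_finiteType.mp inferInstance
  exact ⟨inferInstance, inferInstance⟩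

theorem finite_etale_sup (E₁ E₂ : Subalgebra k B) [Module.Finite k E₁] [Algebra.Etale k E₁]
    [Module.Finite k E₂] [Algebra.Etale k E₂] :
    Module.Finite k ↥(E₁ ⊔ E₂) ∧ Algebra.Etale k ↥(E₁ ⊔ E₂) := by
  have h := Algebra.TensorProduct.productMap_range E₁.val E₂.val
  rw [Subalgebra.range_val, Subalgebra.range_val] at h
  have : Algebra.Etale k (TensorProduct k E₁ E₂) := Algebra.Etale.comp k E₁ _
  rw [← h]
  exact finite_etale_range _

theorem finite_etale_bot : Module.Finite k ↥(⊥ : Subalgebra k B) ∧
    Algebra.Etale k ↥(⊥ : Subalgebra k B) := by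
  have h : (Algebra.ofId k B).range = ⊥ := Algebra.range_ofId
  rw [← h]
  exact finite_etale_range _

theorem exists_finite_etale_of_idempotent (A : Subalgebra k B) {e : B} (heA : e ∈ A)
    (he : IsIdempotentElem e) :
    ∃ E' : Subalgebra k B, e ∈ E' ∧ E' ≤ A ∧ Module.Finite k E' ∧ Algebra.Etale k E' := by
  let φ : (Fin 2 → k) →ₗ[k] B :=
    (LinearMap.proj 0 : (Fin 2 → k) →ₗ[k] k).smulRight e +
      (LinearMap.proj 1 : (Fin 2 → k) →ₗ[k] k).smulRight (1 - e)
  have h1 : e * e = e := he
  let f : (Fin 2 → k) →ₐ[k] B := AlgHom.ofLinearMap φ (by simp [φ]) (by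
    intro a b
    simp only [φ, LinearMap.add_apply, LinearMap.smulRight_apply, LinearMap.proj_apply,
      Pi.mul_apply, Algebra.smul_def, map_mul]
    linear_combination (-(algebraMap k B (a 0) - algebraMap k B (a 1)) *
      (algebraMap k B (b 0) - algebraMap k B (b 1))) * h1)
  obtain ⟨h2, h3⟩ := finite_etale_range f
  refine ⟨f.range, ⟨![1, 0], by simp [f, φ]⟩, ?_, h2, h3⟩
  rintro _ ⟨a, rfl⟩
  show (a 0 • e + a 1 • (1 - e)) ∈ A
  exact A.add_mem (A.smul_mem heA _) (A.smul_mem (A.sub_mem A.one_mem heA) _)

theorem exists_finrank_bound [Algebra.FiniteType k B] :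
    ∃ N : ℕ, ∀ E' : Subalgebra k B, Module.Finite k E' → Algebra.Etale k E' →
      finrank k E' ≤ N := by
  classical
  have : IsNoetherianRing B := Algebra.FiniteType.isNoetherianRing k B
  have hfin : (minimalPrimes B).Finite := minimalPrimes.finite_of_isNoetherianRing B
  have : Finite (minimalPrimes B) := hfin.to_subtype
  have hm : ∀ P : minimalPrimes B, ∃ m : Ideal B, m.IsMaximal ∧ P.1 ≤ m :=
    fun P => Ideal.exists_le_maximal P.1 P.2.1.1.ne_top
  choose m hmax hle using hm
  have hQ : ∀ P, Module.Finite k (B ⧸ m P) := fun P => by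
    letI := Ideal.Quotient.field (m P)
    exact finite_of_finite_type_of_isJacobsonRing k (B ⧸ m P)
  let ψ : B →ₐ[k] (∀ P : minimalPrimes B, B ⧸ m P) :=
    AlgHom.pi (fun P => Ideal.Quotient.mkₐ k (m P))
  refine ⟨finrank k (∀ P : minimalPrimes B, B ⧸ m P), fun E' h1 h2 => ?_⟩
  have hinj : Function.Injective (ψ.comp E'.val) := by
    rw [injective_iff_map_eq_zero]
    intro x hx
    have hred : IsReduced E' := Algebra.FormallyUnramified.isReduced_of_field k E'
    have hart : IsArtinianRing E' := IsArtinianRing.of_finite k E'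
    have hx' : ∀ P, (x : B) ∈ m P := fun P => by
      have := congrFun hx P
      simpa [ψ, Ideal.Quotient.eq_zero_iff_mem] using this
    have hnil : x ∈ nilradical E' := by
      rw [nilradical_eq_sInf, Ideal.mem_sInf]
      intro n hn
      haveI : n.IsPrime := hn
      have hnmin : n ∈ ((⊥ : Ideal B).comap E'.val.toRingHom).minimalPrimes := by
        have : (⊥ : Ideal B).comap E'.val.toRingHom = ⊥ :=
          Ideal.comap_bot_of_injective _ Subtype.val_injective
        rw [this]; exact IsArtinianRing.mem_minimalPrimes bot_le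
      obtain ⟨P, hP, hPn⟩ := Ideal.exists_minimalPrimes_comap_eq _ n hnmin
      have hP' : P ∈ minimalPrimes B := hP
      have hle' : n ≤ (m ⟨P, hP'⟩).comap E'.val.toRingHom := by
        rw [← hPn]; exact Ideal.comap_mono (hle ⟨P, hP'⟩)
      have hmaxn : n.IsMaximal := inferInstance
      have := hmaxn.eq_of_le (Ideal.comap_ne_top _ (hmax ⟨P, hP'⟩).ne_top) hle'
      rw [this]; exact hx' ⟨P, hP'⟩
    rw [nilradical_eq_zero, Ideal.zero_eq_bot, Ideal.mem_bot] at hnil
    exact hnil
  exact LinearMap.finrank_le_finrank_of_injective (f := (ψ.comp E'.val).toLinearMap) hinj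

end Groth.Agent.Lib.Helper10.FinEtSub

namespace Groth.Agent.Lib.Helper10.FinEtSub

open Module

theorem main (k : Type u) [Field k] (B : Type u) [CommRing B] [Algebra k B]
    [Algebra.FiniteType k B] (A : Subalgebra k B) :
    ∃ (E : Subalgebra k B) (hE : E ≤ A), Module.Finite k E ∧ Algebra.Etale k E ∧
      (∀ E' : Subalgebra k B, E' ≤ A → Module.Finite k E' → Algebra.Etale k E' → E' ≤ E) ∧
      Function.Surjective (PrimeSpectrum.comap (Subalgebra.inclusion hE).toRingHom) ∧
      ∀ p q : PrimeSpectrum A, PrimeSpectrum.comap (Subalgebra.inclusion hE).toRingHom p =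
          PrimeSpectrum.comap (Subalgebra.inclusion hE).toRingHom q ↔
        connectedComponent p = connectedComponent q := by
  classical
  obtain ⟨N, hN⟩ := exists_finrank_bound (k := k) (B := B)
  let F : Set (Subalgebra k B) := {E' | E' ≤ A ∧ Module.Finite k E' ∧ Algebra.Etale k E'}
  have hbot : (⊥ : Subalgebra k B) ∈ F := ⟨bot_le, finite_etale_bot.1, finite_etale_bot.2⟩
  let S : Set ℕ := (fun E' : Subalgebra k B => finrank k E') '' F
  have hS : S.Nonempty := ⟨_, ⊥, hbot, rfl⟩
  have hbdd : BddAbove S := ⟨N, by rintro _ ⟨E', hE', rfl⟩; exact hN E' hE'.2.1 hE'.2.2⟩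
  obtain ⟨E, hEF, hEs⟩ := Nat.sSup_mem hS hbdd
  have hmaxE : ∀ E' ∈ F, finrank k E' ≤ finrank k E := fun E' hE' => by
    have hEs' : finrank k E = sSup S := hEs
    rw [hEs']; exact le_csSup hbdd ⟨E', hE', rfl⟩
  obtain ⟨hEA, hEfin, hEet⟩ := hEF
  have hlargest : ∀ E' : Subalgebra k B, E' ≤ A → Module.Finite k E' → Algebra.Etale k E' →
      E' ≤ E := by
    intro E' h1 h2 h3
    obtain ⟨h4, h5⟩ := finite_etale_sup E E'
    have h6 : E ⊔ E' ∈ F := ⟨sup_le hEA h1, h4, h5⟩
    have := Subalgebra.eq_of_le_of_finrank_le (F := E) (E := E ⊔ E') le_sup_left (hmaxE _ h6)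
    rw [this]; exact le_sup_right
  have hart : IsArtinianRing E := IsArtinianRing.of_finite k E
  have hinj : Function.Injective (Subalgebra.inclusion hEA).toRingHom :=
    Subalgebra.inclusion_injective hEA
  have hsurj : Function.Surjective
      (PrimeSpectrum.comap (Subalgebra.inclusion hEA).toRingHom) := by
    intro n
    have : n.asIdeal ∈ minimalPrimes E := IsArtinianRing.mem_minimalPrimes bot_le
    obtain ⟨p', hp', hp'n⟩ := Ideal.exists_comap_eq_of_mem_minimalPrimes_of_injective
      (f := (Subalgebra.inclusion hEA).toRingHom) hinj n.asIdeal this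
    exact ⟨⟨p', hp'⟩, PrimeSpectrum.ext hp'n⟩
  have hidem : ∀ e : A, IsIdempotentElem e → (e : B) ∈ E := by
    intro e he
    have he' : IsIdempotentElem (e : B) := by
      have := congrArg (Subtype.val) he.eq
      exact this
    obtain ⟨E', heE', hE'A, h1, h2⟩ := exists_finite_etale_of_idempotent A e.2 he'
    exact hlargest E' hE'A h1 h2 heE'
  refine ⟨E, hEA, hEfin, hEet, hlargest, hsurj, fun p q => ⟨fun hpq => ?_, fun hpq => ?_⟩⟩
  · set g := PrimeSpectrum.comap (Subalgebra.inclusion hEA).toRingHom with hg
    have hcont : Continuous g := PrimeSpectrum.continuous_comap _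
    let S : Set (PrimeSpectrum A) := g ⁻¹' {g p}
    have hSclopen : IsClopen S := (isClopen_discrete {g p}).preimage hcont
    have hSpre : IsPreconnected S := by
      rw [isPreconnected_iff_subset_of_disjoint]
      intro u v hu hv huv hdisj
      have hUclopen : IsClopen (S ∩ u) := by
        refine ⟨?_, hSclopen.isOpen.inter hu⟩
        have : (S ∩ u)ᶜ = Sᶜ ∪ (S ∩ v) := by
          ext x; constructor
          · intro hx
            by_cases hxS : x ∈ S
            · right; refine ⟨hxS, ?_⟩
              rcases huv hxS with h | h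
              · exact absurd ⟨hxS, h⟩ hx
              · exact h
            · left; exact hxS
          · rintro (hx | ⟨hxS, hxv⟩) ⟨hxS', hxu⟩
            · exact hx hxS'
            · exact (Set.eq_empty_iff_forall_notMem.mp hdisj x) ⟨hxS, hxu, hxv⟩
        rw [← isOpen_compl_iff, this]
        exact hSclopen.compl.isOpen.union (hSclopen.isOpen.inter hv)
      obtain ⟨e, he, heq⟩ := PrimeSpectrum.exists_idempotent_basicOpen_eq_of_isClopen hUclopen
      have heE := hidem e he
      have key : ∀ x ∈ S, (x ∈ u ↔ (⟨e, heE⟩ : E) ∉ (g p).asIdeal) := by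
        intro x hx
        have hx' : g x = g p := hx
        rw [← hx']
        have h1 : x ∈ S ∩ u ↔ x ∈ (PrimeSpectrum.basicOpen e : Set _) := by rw [heq]
        simp only [Set.mem_inter_iff, hx, true_and] at h1
        rw [h1]
        have h2 : (Subalgebra.inclusion hEA) ⟨e, heE⟩ = e := Subtype.ext rfl
        simp only [g, SetLike.mem_coe, PrimeSpectrum.mem_basicOpen, PrimeSpectrum.comap_asIdeal,
          Ideal.mem_comap, AlgHom.toRingHom_eq_coe, RingHom.coe_coe, h2]
      by_cases h : (⟨e, heE⟩ : E) ∈ (g p).asIdeal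
      · right; intro x hx
        rcases huv hx with hxu | hxv
        · exact absurd h ((key x hx).mp hxu)
        · exact hxv
      · left; intro x hx; exact (key x hx).mpr h
    have := hSpre.subset_connectedComponent (x := p) rfl (show q ∈ S from hpq.symm)
    exact connectedComponent_eq this
  · set g := PrimeSpectrum.comap (Subalgebra.inclusion hEA).toRingHom with hg
    have hcont : Continuous g := PrimeSpectrum.continuous_comap _
    have hq : q ∈ connectedComponent p := by rw [hpq]; exact mem_connectedComponent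
    have := hcont.image_connectedComponent_subset p ⟨q, hq, rfl⟩
    rw [connectedComponent_eq_singleton] at this
    exact this.symm

end Groth.Agent.Lib.Helper10.FinEtSub
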