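import Mathlib

/-!
# Finiteness of structured arrow categories over truncated simplex categories (helper10)
-/

set_option autoImplicit false
open CategoryTheory CategoryTheory.Limits Opposite

namespace Groth.Agent.Lib.Helper10.FinStrArr

section General

variable {A B : Type} [SmallCategory A] [SmallCategory B] (L : A ⥤ B)
  [Finite A] [∀ a a' : A, Finite (a ⟶ a')] [∀ b b' : B, Finite (b ⟶ b')]

theorem finite_structuredArrow (Y : B) : Finite (StructuredArrow Y L) := by
  let φ : StructuredArrow Y L → Σ a : A, (Y ⟶ L.obj a) := fun f => ⟨f.right, f.hom⟩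
  refine Finite.of_injective φ ?_
  intro f g h
  rcases f with ⟨⟨⟨⟩⟩, fr, fh⟩
  rcases g with ⟨⟨⟨⟩⟩, gr, gh⟩
  obtain ⟨h1, h2⟩ := Sigma.mk.inj_iff.mp h
  subst h1
  have h3 : fh = gh := eq_of_heq h2
  subst h3
  rfl

omit [Finite A] [∀ b b' : B, Finite (b ⟶ b')] in
theorem finite_structuredArrow_hom (Y : B) (f g : StructuredArrow Y L) : Finite (f ⟶ g) :=
  Finite.of_injective (fun φ => φ.right) (fun _ _ h => StructuredArrow.hom_ext _ _ h)

/-- The structured arrow category is a finite category. -/
@[instance_reducible]
noncomputable def finCategoryStructuredArrow (Y : B) : FinCategory (StructuredArrow Y L) :=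
  haveI := finite_structuredArrow L Y
  haveI := finite_structuredArrow_hom L Y
  { fintypeObj := Fintype.ofFinite _
    fintypeHom := fun _ _ => Fintype.ofFinite _ }

theorem finite_costructuredArrow (Y : B) : Finite (CostructuredArrow L Y) := by
  let φ : CostructuredArrow L Y → Σ a : A, (L.obj a ⟶ Y) := fun f => ⟨f.left, f.hom⟩
  refine Finite.of_injective φ ?_
  intro f g h
  rcases f with ⟨fl, ⟨⟨⟩⟩, fh⟩
  rcases g with ⟨gl, ⟨⟨⟩⟩, gh⟩
  obtain ⟨h1, h2⟩ := Sigma.mk.inj_iff.mp h
  subst h1
  have h3 : fh = gh := eq_of_heq h2
  subst h3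
  rfl

omit [Finite A] [∀ b b' : B, Finite (b ⟶ b')] in
theorem finite_costructuredArrow_hom (Y : B) (f g : CostructuredArrow L Y) : Finite (f ⟶ g) :=
  Finite.of_injective (fun φ => φ.left) (fun _ _ h => CostructuredArrow.hom_ext _ _ h)

/-- The costructured arrow category is a finite category. -/
@[instance_reducible]
noncomputable def finCategoryCostructuredArrow (Y : B) : FinCategory (CostructuredArrow L Y) :=
  haveI := finite_costructuredArrow L Y
  haveI := finite_costructuredArrow_hom L Y
  { fintypeObj := Fintype.ofFinite _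
    fintypeHom := fun _ _ => Fintype.ofFinite _ }

end General

section Simplex

variable (m : ℕ)

instance finite_truncated : Finite (SimplexCategory.Truncated m) := by
  let φ : SimplexCategory.Truncated m → Fin (m + 1) := fun a => ⟨a.obj.len, Nat.lt_succ_of_le a.property⟩
  refine Finite.of_injective φ ?_
  intro a b h
  apply ObjectProperty.FullSubcategory.ext
  apply SimplexCategory.ext
  exact congrArg Fin.val h

instance finite_truncated_hom (a b : SimplexCategory.Truncated m) : Finite (a ⟶ b) :=
  Finite.of_injective (fun f => (SimplexCategory.Truncated.inclusion m).map f)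
    (SimplexCategory.Truncated.inclusion m).map_injective

instance finite_truncated_op : Finite (SimplexCategory.Truncated m)ᵒᵖ :=
  Finite.of_equiv _ Opposite.equivToOpposite

instance finite_truncated_op_hom (a b : (SimplexCategory.Truncated m)ᵒᵖ) : Finite (a ⟶ b) :=
  Finite.of_equiv _ (opEquiv a b).symm

instance finite_simplexCategory_op_hom (a b : SimplexCategoryᵒᵖ) : Finite (a ⟶ b) :=
  Finite.of_equiv _ (opEquiv a b).symm

universe v u

theorem hasPointwiseRightKanExtension {C : Type u} [Category.{v} C] [HasFiniteLimits C]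
    (U : (SimplexCategory.Truncated m)ᵒᵖ ⥤ C) :
    (SimplexCategory.Truncated.inclusion m).op.HasPointwiseRightKanExtension U := by
  intro Y
  letI := finCategoryStructuredArrow (SimplexCategory.Truncated.inclusion m).op Y
  change HasLimit _
  infer_instance

theorem hasPointwiseLeftKanExtension {C : Type u} [Category.{v} C] [HasFiniteColimits C]
    (U : (SimplexCategory.Truncated m)ᵒᵖ ⥤ C) :
    (SimplexCategory.Truncated.inclusion m).op.HasPointwiseLeftKanExtension U := by
  intro Y
  letI := finCategoryCostructuredArrow (SimplexCategory.Truncated.inclusion m).op Y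
  change HasColimit _
  infer_instance

theorem hasPointwiseRightKanExtension_incl {C : Type u} [Category.{v} C] [HasFiniteLimits C]
    {n : ℕ} (h : n ≤ m) (U : (SimplexCategory.Truncated n)ᵒᵖ ⥤ C) :
    (SimplexCategory.Truncated.incl n m h).op.HasPointwiseRightKanExtension U := by
  intro Y
  letI := finCategoryStructuredArrow (SimplexCategory.Truncated.incl n m h).op Y
  change HasLimit _
  infer_instance

open SimplicialObject in
theorem isCoskeletal_of_le {C : Type u} [Category.{v} C] [HasFiniteLimits C]
    (U : SimplicialObject C) {n : ℕ} (h : n ≤ m) [U.IsCoskeletal n] : U.IsCoskeletal m := by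
  haveI hm : ∀ F : (SimplexCategory.Truncated m)ᵒᵖ ⥤ C,
      (SimplexCategory.Truncated.inclusion m).op.HasPointwiseRightKanExtension F :=
    hasPointwiseRightKanExtension m
  haveI hn : ∀ F : (SimplexCategory.Truncated n)ᵒᵖ ⥤ C,
      (SimplexCategory.Truncated.inclusion n).op.HasPointwiseRightKanExtension F :=
    hasPointwiseRightKanExtension n
  haveI hnm : ∀ F : (SimplexCategory.Truncated n)ᵒᵖ ⥤ C,
      (SimplexCategory.Truncated.incl n m h).op.HasPointwiseRightKanExtension F :=
    hasPointwiseRightKanExtension_incl m h
  rw [isCoskeletal_iff_isIso]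
  let adjm := coskAdj (C := C) m
  let adjn := coskAdj (C := C) n
  let adjnm : Truncated.trunc C m n h ⊣ (SimplexCategory.Truncated.incl n m h).op.ran :=
    (SimplexCategory.Truncated.incl n m h).op.ranAdjunction C
  let adj' : truncation n ⊣ (SimplexCategory.Truncated.incl n m h).op.ran ⋙ Truncated.cosk m :=
    (adjm.comp adjnm).ofNatIsoLeft (truncationCompTrunc h)
  let e : Truncated.cosk n ≅ (SimplexCategory.Truncated.incl n m h).op.ran ⋙ Truncated.cosk m :=
    adjn.rightAdjointUniq adj'
  let i : U ≅ (Truncated.cosk m).obj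
      ((SimplexCategory.Truncated.incl n m h).op.ran.obj ((truncation n).obj U)) :=
    asIso (adjn.unit.app U) ≪≫ e.app _
  exact adjm.isIso_unit_app_of_iso i

end Simplex

end Groth.Agent.Lib.Helper10.FinStrArr
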