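import Mathlib

/-!
# Epimorphisms of sheaves of modules are locally surjective (helper4)

* `isLocallySurjective_of_epi`: an epimorphism in `SheafOfModules R` is locally surjective on the
  underlying presheaves of abelian groups.
* `exists_app_eq_of_epi`: scheme version: for an epi `π : G ⟶ C` of `O_X`-modules, every section
  of `C` over `U` is, locally around any `x ∈ U`, in the image of `π`.
* `exists_germ_eq_of_epi`: every germ of `C` at `x` is the image of a germ of `G`.
-/

set_option autoImplicit false
open CategoryTheory Limits Opposite AlgebraicGeometry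

namespace Groth.Agent.Lib.Helper4.ModEpi

section Generic

universe v v' u u'
variable {C : Type u'} [Category.{v'} C] {J : GrothendieckTopology C} {R : Sheaf J RingCat.{u}}
  [HasSheafify J AddCommGrpCat.{v}] [J.WEqualsLocallyBijective AddCommGrpCat.{v}]

theorem isLocallySurjective_of_epi {M N : SheafOfModules.{v} R} (π : M ⟶ N) [Epi π] :
    Presheaf.IsLocallySurjective J ((PresheafOfModules.toPresheaf R.obj).map π.val) := by
  let adj := PresheafOfModules.sheafificationAdjunction (𝟙 R.obj) (J := J) (R := R)
  let ι := SheafOfModules.forget.{v} R ⋙ PresheafOfModules.restrictScalars (𝟙 R.obj)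
  let a := PresheafOfModules.sheafification.{v} (𝟙 R.obj) (J := J) (R := R)
  let P := cokernel (ι.map π)
  let q : ι.obj N ⟶ P := cokernel.π (ι.map π)
  let η : P ⟶ ι.obj (a.obj P) := adj.unit.app P
  have hη : η = 0 := by
    have h1 : q ≫ η = 0 := by
      obtain ⟨ψ, hψ⟩ := ι.map_surjective (q ≫ η)
      have h2 : π ≫ ψ = 0 := by
        apply ι.map_injective
        rw [ι.map_comp, hψ, ← Category.assoc, cokernel.condition, zero_comp, ι.map_zero]
      have h3 : ψ = 0 := by
        rw [← cancel_epi π, h2, comp_zero]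
      rw [← hψ, h3, ι.map_zero]
    rw [← cancel_epi q, h1, comp_zero]
  have hloc : Presheaf.IsLocallyInjective J ((PresheafOfModules.toPresheaf R.obj).map η) := by
    have : (PresheafOfModules.toPresheaf R.obj).map η = CategoryTheory.toSheafify J P.presheaf :=
      PresheafOfModules.toPresheaf_map_sheafificationAdjunction_unit_app (𝟙 R.obj) P
    rw [this]
    exact (J.W_toSheafify P.presheaf).isLocallyInjective
  -- exactness of sections
  let S : ShortComplex (PresheafOfModules.{v} R.obj) :=
    ShortComplex.mk (ι.map π) q (cokernel.condition _)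
  have hS : S.Exact := S.exact_of_g_is_cokernel (cokernelIsCokernel _)
  constructor
  intro U s
  have h0 : Presheaf.equalizerSieve (F := P.presheaf) (X := op U) (q.app (op U) s) 0 ∈ J U := by
    apply Presheaf.equalizerSieve_mem J ((PresheafOfModules.toPresheaf R.obj).map η)
    rw [hη]
    rfl
  refine J.superset_covering ?_ h0
  intro V f hf
  have hSV : (S.map (PresheafOfModules.evaluation R.obj (op V))).Exact :=
    hS.map_of_epi_of_preservesCokernel _ inferInstance inferInstance
  rw [ShortComplex.moduleCat_exact_iff] at hSV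
  have hf' : q.app (op V) (N.val.map f.op s) = 0 := by
    have h1 := PresheafOfModules.naturality_apply q f.op s
    have h2 : P.presheaf.map f.op (q.app (op U) s) = P.presheaf.map f.op 0 := hf
    rw [map_zero] at h2
    exact h1.trans h2
  obtain ⟨t, ht⟩ := hSV _ hf'
  exact ⟨t, ht⟩

end Generic

section Scheme

universe u
variable {X : Scheme.{u}}

theorem exists_app_eq_of_epi {G C : X.Modules} (π : G ⟶ C) [hπ : Epi π] (U : X.Opens)
    (c : Γ(C, U)) (x : X) (hx : x ∈ U) :
    ∃ (V : X.Opens) (hVU : V ≤ U) (_ : x ∈ V) (g : Γ(G, V)),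
      Scheme.Modules.Hom.app π V g = C.presheaf.map (homOfLE hVU).op c := by
  have hπ' : @Epi (SheafOfModules.{u} X.ringCatSheaf) _ G C π := hπ
  have h := isLocallySurjective_of_epi (R := X.ringCatSheaf) (M := G) (N := C) π
  have h1 := h.imageSieve_mem (U := U) c
  obtain ⟨V, f, ⟨t, ht⟩, hxV⟩ := h1 x hx
  exact ⟨V, f.le, hxV, t, ht⟩

theorem exists_germ_eq_of_epi {G C : X.Modules} (π : G ⟶ C) [hπ : Epi π] (x : X)
    (c : C.presheaf.stalk x) :
    ∃ g : G.presheaf.stalk x,
      (TopCat.Presheaf.stalkFunctor AddCommGrpCat.{u} x).map (Scheme.Modules.Hom.mapPresheaf π) g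
        = c := by
  obtain ⟨U, hxU, s, rfl⟩ := C.presheaf.exists_germ_eq c
  obtain ⟨V, hVU, hxV, g, hg⟩ := exists_app_eq_of_epi π U s x hxU
  refine ⟨G.presheaf.germ V x hxV g, ?_⟩
  rw [TopCat.Presheaf.stalkFunctor_map_germ_apply V x hxV (Scheme.Modules.Hom.mapPresheaf π) g]
  rw [Scheme.Modules.mapPresheaf_app]
  erw [hg]
  exact TopCat.Presheaf.germ_res_apply C.presheaf (homOfLE hVU) x hxV s

end Scheme

end Groth.Agent.Lib.Helper4.ModEpi
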