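import Mathlib
import Groth.Agent.Lib.Helper4ModEpi

/-!
# Stalks of short exact sequences of `O_X`-modules (helper20)

Namespace `Groth.Agent.Lib.Helper20.StalkExact`.

* `secF V` : sections over `V` as a limit preserving functor `X.Modules ⥤ Ab`.
* `injective_app_of_mono`, `exists_app_eq_of_exact` : left exactness of sections.
* `subsingleton_stalk_iff` : for a short exact `0 → F₁ → F₂ → F₃ → 0`, `F₂,x = 0 ↔ F₁,x = 0 ∧ F₃,x = 0`.
-/

set_option autoImplicit false
set_option linter.style.haveILetI false
universe u
open CategoryTheory AlgebraicGeometry Limits Opposite TopologicalSpace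
open Groth.Agent.Lib.Helper4.ModEpi

namespace Groth.Agent.Lib.Helper20.StalkExact

variable {X : Scheme.{u}}

/-- sections over `V` as a functor to abelian groups -/
noncomputable abbrev secF (V : X.Opens) : X.Modules ⥤ Ab.{u} :=
  Scheme.Modules.toPresheaf X ⋙ (evaluation (Opens X)ᵒᵖ Ab.{u}).obj (op V)

noncomputable instance (V : X.Opens) : PreservesLimits (secF V) := by
  haveI h1 : PreservesLimits (Scheme.Modules.toPresheaf X) := inferInstance
  haveI h2 : PreservesLimits ((evaluation (Opens X)ᵒᵖ Ab.{u}).obj (op V)) := inferInstance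
  exact comp_preservesLimits _ _

theorem injective_app_of_mono {M N : X.Modules} (f : M ⟶ N) [Mono f] (V : X.Opens) :
    Function.Injective (Scheme.Modules.Hom.app f V) := by
  haveI : Mono ((secF V).map f) := inferInstance
  exact (AddCommGrpCat.mono_iff_injective ((secF V).map f)).mp inferInstance

theorem exists_app_eq_of_exact (E : ShortComplex X.Modules) (hE : E.ShortExact) (V : X.Opens)
    (t : Γ(E.X₂, V)) (ht : Scheme.Modules.Hom.app E.g V t = 0) :
    ∃ r : Γ(E.X₁, V), Scheme.Modules.Hom.app E.f V r = t := by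
  haveI := hE.mono_f
  haveI : (secF (X := X) V).PreservesZeroMorphisms := ⟨fun _ _ => rfl⟩
  have h1 : (E.map (secF V)).Exact :=
    hE.exact.map_of_mono_of_preservesKernel (secF V) inferInstance inferInstance
  rw [ShortComplex.ab_exact_iff] at h1
  exact h1 t ht

/-- stalks of a short exact sequence: the middle stalk vanishes iff the outer ones do. -/
theorem subsingleton_stalk_iff (E : ShortComplex X.Modules) (hE : E.ShortExact) (x : X) :
    Subsingleton (E.X₂.presheaf.stalk x) ↔
      Subsingleton (E.X₁.presheaf.stalk x) ∧ Subsingleton (E.X₃.presheaf.stalk x) := by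
  haveI := hE.mono_f
  haveI := hE.epi_g
  constructor
  · intro h
    constructor
    · -- injectivity on stalks
      have hinj : Function.Injective ((TopCat.Presheaf.stalkFunctor AddCommGrpCat.{u} x).map
          (Scheme.Modules.Hom.mapPresheaf E.f)) :=
        TopCat.Presheaf.stalkFunctor_map_injective_of_app_injective
          (f := Scheme.Modules.Hom.mapPresheaf E.f) (fun U => injective_app_of_mono E.f U) x
      haveI : Subsingleton ((TopCat.Presheaf.stalkFunctor AddCommGrpCat.{u} x).obj E.X₂.presheaf) := h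
      exact hinj.subsingleton
    · refine ⟨fun a b => ?_⟩
      obtain ⟨a', rfl⟩ := exists_germ_eq_of_epi E.g x a
      obtain ⟨b', rfl⟩ := exists_germ_eq_of_epi E.g x b
      rw [Subsingleton.elim a' b']
  · rintro ⟨h1, h3⟩
    suffices h : ∀ a : E.X₂.presheaf.stalk x, a = 0 from ⟨fun a b => by rw [h a, h b]⟩
    intro a
    obtain ⟨U, hxU, t, rfl⟩ := E.X₂.presheaf.exists_germ_eq a
    -- g t has zero germ
    have hg : E.X₃.presheaf.germ U x hxU (Scheme.Modules.Hom.app E.g U t) =
        E.X₃.presheaf.germ U x hxU 0 := Subsingleton.elim _ _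
    obtain ⟨V, hxV, iU, _, e⟩ := E.X₃.presheaf.germ_eq x hxU hxU _ _ hg
    rw [map_zero] at e
    have e' : Scheme.Modules.Hom.app E.g V (E.X₂.presheaf.map iU.op t) = 0 := by
      rw [← e]
      exact congr($((Scheme.Modules.Hom.mapPresheaf E.g).naturality iU.op) t)
    obtain ⟨r, hr⟩ := exists_app_eq_of_exact E hE V _ e'
    have hr0 : E.X₁.presheaf.germ V x hxV r = E.X₁.presheaf.germ V x hxV 0 := Subsingleton.elim _ _
    obtain ⟨W, hxW, iV, _, e2⟩ := E.X₁.presheaf.germ_eq x hxV hxV _ _ hr0
    rw [map_zero] at e2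
    have e3 : E.X₂.presheaf.map iV.op (E.X₂.presheaf.map iU.op t) = 0 := by
      rw [← hr]
      have h5 := congr($((Scheme.Modules.Hom.mapPresheaf E.f).naturality iV.op) r)
      rw [ConcreteCategory.comp_apply, ConcreteCategory.comp_apply, e2, map_zero] at h5
      exact h5.symm
    rw [← E.X₂.presheaf.germ_res_apply iU x hxV t, ← E.X₂.presheaf.germ_res_apply iV x hxW, e3, map_zero]

end Groth.Agent.Lib.Helper20.StalkExact
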