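import Mathlib
import Groth.Prelude.Def_ModSite

/-!
# Helper21: `Hom(O, M) ≃+ M(T)` for a terminal object `T` of the site
-/

open CategoryTheory Opposite Limits

universe u v v₁ u₁

namespace Groth.Agent.Lib.Helper21.UnitHom

variable {D : Type u₁} [Category.{v₁} D] {K : GrothendieckTopology D}
  {R : Sheaf K RingCat.{u}} {T : D} (hT : IsTerminal T)

theorem map_id_apply' (M : PresheafOfModules.{v} R.obj) (Y : Dᵒᵖ) (s : M.obj Y) :
    M.map (𝟙 Y) s = s := by
  rw [M.map_id]; rfl

/-- the section of `M` determined by its value at the terminal object. -/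
noncomputable def secOf (M : SheafOfModules.{v} R) (s : M.val.obj (op T)) : M.sections :=
  PresheafOfModules.sectionsMk (fun Y => M.val.map (hT.from Y.unop).op s)
    (fun Y Z f => by
      have h : (hT.from Y.unop).op ≫ f = (hT.from Z.unop).op := by
        apply Quiver.Hom.unop_inj
        exact hT.hom_ext _ _
      rw [← h]
      exact (PresheafOfModules.map_comp_apply M.val (hT.from Y.unop).op f s).symm)

/-- `Hom(O, M) ≃+ M(T)`. -/
noncomputable def unitHomAddEquiv (M : SheafOfModules.{u} R) :
    (SheafOfModules.unit R ⟶ M) ≃+ M.val.obj (op T) where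
  toFun f := f.val.app (op T) (1 : R.obj.obj (op T))
  invFun s := M.unitHomEquiv.symm (secOf hT M s)
  left_inv f := by
    apply M.unitHomEquiv.injective
    rw [Equiv.apply_symm_apply]
    apply PresheafOfModules.sections_ext
    intro Y
    change M.val.map (hT.from Y.unop).op (f.val.app (op T) (1 : R.obj.obj (op T))) =
      f.val.app Y (1 : R.obj.obj Y)
    have h1 := PresheafOfModules.naturality_apply f.val (hT.from Y.unop).op
      (1 : R.obj.obj (op T))
    refine h1.symm.trans ?_
    exact congrArg (f.val.app Y) (PresheafOfModules.unit_map_one (R := R.obj) (hT.from Y.unop).op)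
  right_inv s := by
    change (M.unitHomEquiv (M.unitHomEquiv.symm (secOf hT M s))).val (op T) = s
    rw [Equiv.apply_symm_apply]
    change M.val.map (hT.from T).op s = s
    have h : (hT.from T).op = 𝟙 (op T) := by
      apply Quiver.Hom.unop_inj
      exact hT.hom_ext _ _
    rw [h]
    exact map_id_apply' _ _ _
  map_add' f g := by
    change ((f + g).val.app (op T)) (1 : R.obj.obj (op T)) = _
    rfl

end Groth.Agent.Lib.Helper21.UnitHom
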