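import Groth.Agent.Lib.Helper20InvGen
import Groth.Agent.Lib.Helper21UnitHom
import Groth.Agent.Lib.Helper20StalkExact

/-!
# Trivialising a module by a section (helper20)

`nonempty_iso_of_bijective`: a section `t` of `L` over `U` such that `r ↦ r • t|_V` is bijective `Γ(X,V) → Γ(L,V)` for all
`V ≤ U` gives `L.restrict U.ι ≅ O_U`.
-/
set_option autoImplicit false
universe u
open CategoryTheory CategoryTheory.Limits AlgebraicGeometry TopologicalSpace Opposite

namespace Groth.Agent.Lib.Helper20.Triv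

set_option linter.style.haveILetI false
open Groth.Agent.Lib.Helper2.QCoh Groth.Agent.Lib.Helper20.InvGen

variable {X : Scheme.{u}}

/-- `⊤` is terminal in the category of opens. -/
def isTerminalTop (Y : Scheme.{u}) : IsTerminal (⊤ : Y.Opens) :=
  IsTerminal.ofUniqueHom (fun V => homOfLE le_top) (fun _ _ => Subsingleton.elim _ _)

/-- a section which generates all modules of sections over smaller opens trivialises the module. -/
theorem nonempty_iso_of_bijective (L : X.Modules) (U : X.Opens) (t : Γ(L, U))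
    (hbij : ∀ (V : X.Opens) (h : V ≤ U),
      Function.Bijective (fun r : Γ(X, V) => r • L.presheaf.map (homOfLE h).op t)) :
    Nonempty (L.restrict U.ι ≅ Coh.structureModule (↑U : Scheme.{u})) := by
  have hle : ∀ V : (↑U : Scheme.{u}).Opens, U.ι ''ᵁ V ≤ U := fun V => by
    intro x hx
    obtain ⟨y, -, rfl⟩ := hx
    exact y.2
  let t' : (L.restrict U.ι).val.obj (op (⊤ : (↑U : Scheme.{u}).Opens)) :=
    L.presheaf.map (homOfLE (hle ⊤)).op t
  let σ := Groth.Agent.Lib.Helper21.UnitHom.secOf (isTerminalTop (↑U : Scheme.{u}))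
    (L.restrict U.ι) t'
  let ψ : Coh.structureModule (↑U : Scheme.{u}) ⟶ L.restrict U.ι :=
    (SheafOfModules.unitHomEquiv (L.restrict U.ι)).symm σ
  have hψ1 : ψ.app ⊤ (1 : Γ(↑U, ⊤)) = t' := by
    change ((SheafOfModules.unitHomEquiv (L.restrict U.ι)) ψ).val (op ⊤) = t'
    rw [Equiv.apply_symm_apply]
    change (L.restrict U.ι).val.map ((isTerminalTop (↑U : Scheme.{u})).from ⊤).op t' = t'
    have h : ((isTerminalTop (↑U : Scheme.{u})).from ⊤).op = 𝟙 (op ⊤) := by
      apply Quiver.Hom.unop_inj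
      exact Subsingleton.elim _ _
    rw [h]
    exact Groth.Agent.Lib.Helper21.UnitHom.map_id_apply' _ _ _
  have hgen : ∀ V : (↑U : Scheme.{u}).Opens, gen L U ψ V = L.presheaf.map (homOfLE (hle V)).op t := by
    intro V
    rw [← gen_res L U ψ (le_top : V ≤ ⊤)]
    have : gen L U ψ ⊤ = t' := hψ1
    rw [this]
    change L.presheaf.map _ (L.presheaf.map _ t) = _
    rw [← ConcreteCategory.comp_apply, ← L.presheaf.map_comp]
    rfl
  have happ : ∀ (V : (↑U : Scheme.{u}).Opens) (r : Γ(↑U, V)),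
      ψ.app V r = (((U.ι.appIso V).inv r) • gen L U ψ V : Γ(L, U.ι ''ᵁ V)) := by
    intro V r
    have h1 : ψ.app V (r • (1 : Γ(↑U, V))) = r • ψ.app V (1 : Γ(↑U, V)) :=
      Scheme.Modules.Hom.app_smul ψ r _
    have h2 : (r • (1 : Γ(↑U, V)) : Γ(↑U, V)) = r := mul_one r
    rw [h2] at h1
    exact h1
  have hiso : IsIso ψ := by
    rw [Scheme.Modules.Hom.isIso_iff_isIso_app]
    intro V
    rw [ConcreteCategory.isIso_iff_bijective]
    have hb := hbij (U.ι ''ᵁ V) (hle V)
    rw [← hgen V] at hb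
    have e1 : ∀ a : Γ(↑U, V), (U.ι.appIso V).hom ((U.ι.appIso V).inv a) = a :=
      fun a => Iso.inv_hom_id_apply _ _
    have e2 : ∀ a : Γ(X, U.ι ''ᵁ V), (U.ι.appIso V).inv ((U.ι.appIso V).hom a) = a :=
      fun a => Iso.hom_inv_id_apply _ _
    constructor
    · intro (r : Γ(↑U, V)) (r' : Γ(↑U, V)) h
      have h' : ψ.app V r = ψ.app V r' := h
      rw [happ, happ] at h'
      have := hb.1 h'
      rw [← e1 r, ← e1 r', this]
    · intro m
      obtain ⟨r, hr⟩ := hb.2 m
      refine ⟨(U.ι.appIso V).hom r, ?_⟩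
      change ψ.app V ((U.ι.appIso V).hom r) = m
      rw [happ, e2]
      exact hr
  exact ⟨(@asIso _ _ _ _ ψ hiso).symm⟩

end Groth.Agent.Lib.Helper20.Triv
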