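import Groth.Agent.Lib.Helper20WeakAss
import Groth.Agent.Lib.Helper20Triv

/-!
# Invertible modules are trivial near the fibres of a finite morphism (helper10)
-/
set_option autoImplicit false
universe u
open CategoryTheory CategoryTheory.Limits AlgebraicGeometry TopologicalSpace Opposite

namespace Groth.Agent.Lib.Helper10.FinTriv

set_option linter.style.haveILetI false
open Groth.Agent.Lib.Helper20.RegMero Groth.Agent.Lib.Helper20.WeakAss
open Groth.Agent.Lib.Helper2.QCoh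

variable {X : Scheme.{u}}

/-- the locus where a section of an invertible module generates the stalk is open. -/
theorem isOpen_setOf_isGen (L : X.Modules) (hL : PicF.IsInvertible L) {W : X.Opens} (m : Γ(L, W)) :
    IsOpen {x : X | ∃ hx : x ∈ W, IsGen L x (L.presheaf.germ W x hx m)} := by
  rw [isOpen_iff_forall_mem_open]
  rintro x ⟨hxW, hgen⟩
  obtain ⟨W₁, t, hxW₁, htgen, htbij⟩ := exists_local_generator' L hL x
  have hN₁ : W₁ ⊓ W ≤ W₁ := inf_le_left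
  have hN₂ : W₁ ⊓ W ≤ W := inf_le_right
  obtain ⟨r, hr⟩ := (htbij (W₁ ⊓ W) hN₁).2 (L.presheaf.map (homOfLE hN₂).op m)
  have hr' : r • L.presheaf.map (homOfLE hN₁).op t = L.presheaf.map (homOfLE hN₂).op m := hr
  have hgerm : ∀ (y : X) (hy : y ∈ W₁ ⊓ W),
      X.presheaf.germ (W₁ ⊓ W) y hy r • L.presheaf.germ W₁ y hy.1 t =
        L.presheaf.germ W y hy.2 m := by
    intro y hy
    have := congrArg (L.presheaf.germ (W₁ ⊓ W) y hy) hr'
    rw [germ_smul, TopCat.Presheaf.germ_res_apply, TopCat.Presheaf.germ_res_apply] at this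
    exact this
  have hxN : x ∈ W₁ ⊓ W := ⟨hxW₁, hxW⟩
  have hu : IsUnit (X.presheaf.germ (W₁ ⊓ W) x hxN r) :=
    isUnit_of_isGen hgen _ (hgerm x hxN)
  refine ⟨X.basicOpen r, ?_, (X.basicOpen r).isOpen, ?_⟩
  · intro y hy
    have hyN : y ∈ W₁ ⊓ W := X.basicOpen_le r hy
    refine ⟨hyN.2, ?_⟩
    rw [← hgerm y hyN]
    exact isGen_smul (htgen y hyN.1) _ ((X.mem_basicOpen r y hyN).mp hy)
  · exact (X.mem_basicOpen r x hxN).mpr hu

theorem map_map' (L : X.Modules) {U V W : X.Opens} (f : V ⟶ U) (g : W ⟶ V) (k : W ⟶ U)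
    (t : Γ(L, U)) :
    L.presheaf.map g.op (L.presheaf.map f.op t) = L.presheaf.map k.op t := by
  rw [← ConcreteCategory.comp_apply, ← Functor.map_comp, ← op_comp]
  rw [Subsingleton.elim (g ≫ f) k]

theorem smap_map' {U V W : X.Opens} (f : V ⟶ U) (g : W ⟶ V) (k : W ⟶ U)
    (t : Γ(X, U)) :
    X.presheaf.map g.op (X.presheaf.map f.op t) = X.presheaf.map k.op t := by
  rw [← ConcreteCategory.comp_apply, ← Functor.map_comp, ← op_comp]
  rw [Subsingleton.elim (g ≫ f) k]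

/-- a section generating all stalks over `U` generates all modules of sections over smaller opens. -/
theorem bijective_of_isGen (L : X.Modules) {U : X.Opens} (t : Γ(L, U))
    (ht : ∀ (x : X) (hx : x ∈ U), IsGen L x (L.presheaf.germ U x hx t)) (V : X.Opens) (h : V ≤ U) :
    Function.Bijective (fun r : Γ(X, V) => r • L.presheaf.map (homOfLE h).op t) := by
  let F : TopCat.Sheaf Ab X := ⟨L.presheaf, L.isSheaf⟩
  -- injectivity on every open below `U`
  have hinj : ∀ (V' : X.Opens) (h' : V' ≤ U),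
      Function.Injective (fun r : Γ(X, V') => r • L.presheaf.map (homOfLE h').op t) := by
    intro V' h' r r' hrr'
    have hrr'' : r • L.presheaf.map (homOfLE h').op t = r' • L.presheaf.map (homOfLE h').op t := hrr'
    apply TopCat.Presheaf.section_ext X.sheaf V'
    intro x hx
    apply (ht x (h' hx)).1
    have := congrArg (L.presheaf.germ V' x hx) hrr''
    rw [germ_smul, germ_smul, TopCat.Presheaf.germ_res_apply] at this
    exact this
  refine ⟨hinj V h, ?_⟩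
  intro s
  -- local solutions
  have hloc : ∀ x : V, ∃ (V₁ : X.Opens) (_ : x.1 ∈ V₁) (h₁ : V₁ ≤ V) (r₁ : Γ(X, V₁)),
      r₁ • L.presheaf.map (homOfLE (h₁.trans h)).op t = L.presheaf.map (homOfLE h₁).op s := by
    intro x
    obtain ⟨c, hc⟩ := (ht x.1 (h x.2)).2 (L.presheaf.germ V x.1 x.2 s)
    have hc' : c • L.presheaf.germ U x.1 (h x.2) t = L.presheaf.germ V x.1 x.2 s := hc
    obtain ⟨V₀, hxV₀, r₀, rfl⟩ := X.presheaf.exists_germ_eq c
    have hxN : x.1 ∈ V₀ ⊓ V := ⟨hxV₀, x.2⟩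
    have hN₁ : V₀ ⊓ V ≤ V₀ := inf_le_left
    have hN₂ : V₀ ⊓ V ≤ V := inf_le_right
    let a : Γ(L, V₀ ⊓ V) := X.presheaf.map (homOfLE hN₁).op r₀ •
      L.presheaf.map (homOfLE (hN₂.trans h)).op t
    let b : Γ(L, V₀ ⊓ V) := L.presheaf.map (homOfLE hN₂).op s
    have hab : L.presheaf.germ (V₀ ⊓ V) x.1 hxN a = L.presheaf.germ (V₀ ⊓ V) x.1 hxN b := by
      simp only [a, b]
      rw [germ_smul, TopCat.Presheaf.germ_res_apply, TopCat.Presheaf.germ_res_apply,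
        TopCat.Presheaf.germ_res_apply]
      exact hc'
    obtain ⟨V₁, hxV₁, i₁, i₂, h₃⟩ := L.presheaf.germ_eq x.1 hxN hxN a b hab
    refine ⟨V₁, hxV₁, i₁.le.trans hN₂, X.presheaf.map (homOfLE (i₁.le.trans hN₁)).op r₀, ?_⟩
    have h₄ : L.presheaf.map i₁.op a = L.presheaf.map i₁.op b := by
      rw [h₃, Subsingleton.elim i₂ i₁]
    simp only [a, b] at h₄
    rw [Scheme.Modules.map_smul, map_map' L _ _ (homOfLE ((i₁.le.trans hN₂).trans h)),
      map_map' L _ _ (homOfLE (i₁.le.trans hN₂)),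
      smap_map' _ _ (homOfLE (i₁.le.trans hN₁))] at h₄
    exact h₄
  choose V₁ hxV₁ hV₁ r₁ hr₁ using hloc
  have hcov : V ≤ ⨆ x : V, V₁ x := fun y hy => Opens.mem_iSup.2 ⟨⟨y, hy⟩, hxV₁ ⟨y, hy⟩⟩
  have hcompat : TopCat.Presheaf.IsCompatible X.presheaf V₁ r₁ := by
    intro x x'
    have hle : V₁ x ⊓ V₁ x' ≤ U := (inf_le_left.trans (hV₁ x)).trans h
    apply hinj (V₁ x ⊓ V₁ x') hle
    show X.presheaf.map (homOfLE inf_le_left).op (r₁ x) • L.presheaf.map (homOfLE hle).op t =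
      X.presheaf.map (homOfLE inf_le_right).op (r₁ x') • L.presheaf.map (homOfLE hle).op t
    have e1 := congrArg (L.presheaf.map (homOfLE (inf_le_left : V₁ x ⊓ V₁ x' ≤ V₁ x)).op) (hr₁ x)
    have e2 := congrArg (L.presheaf.map (homOfLE (inf_le_right : V₁ x ⊓ V₁ x' ≤ V₁ x')).op) (hr₁ x')
    rw [Scheme.Modules.map_smul, map_map' L _ _ (homOfLE hle),
      map_map' L _ _ (homOfLE (inf_le_left.trans (hV₁ x)))] at e1
    rw [Scheme.Modules.map_smul, map_map' L _ _ (homOfLE hle),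
      map_map' L _ _ (homOfLE (inf_le_left.trans (hV₁ x)))] at e2
    exact e1.trans e2.symm
  obtain ⟨r0, hr0, -⟩ := X.sheaf.existsUnique_gluing' V₁ V (fun x => homOfLE (hV₁ x)) hcov r₁ hcompat
  let r : Γ(X, V) := r0
  have hr : ∀ i : V, X.presheaf.map (homOfLE (hV₁ i)).op r = r₁ i := hr0
  refine ⟨r, ?_⟩
  show r • L.presheaf.map (homOfLE h).op t = s
  apply TopCat.Presheaf.section_ext F V
  intro x hx
  have e1 := congrArg (L.presheaf.germ (V₁ ⟨x, hx⟩) x (hxV₁ ⟨x, hx⟩)) (hr₁ ⟨x, hx⟩)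
  rw [germ_smul, TopCat.Presheaf.germ_res_apply, TopCat.Presheaf.germ_res_apply, ← hr ⟨x, hx⟩,
    TopCat.Presheaf.germ_res_apply] at e1
  show L.presheaf.germ V x hx (r • L.presheaf.map (homOfLE h).op t) = L.presheaf.germ V x hx s
  rw [germ_smul, TopCat.Presheaf.germ_res_apply]
  exact e1

/-- an invertible module is trivial on the preimage of a neighbourhood of any point under a finite morphism. -/
theorem main {X Y : Scheme.{u}} (π : X ⟶ Y) [IsFinite π]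
    (L : X.Modules) (hL : PicF.IsInvertible L) (y : Y) :
    ∃ V : Y.Opens, y ∈ V ∧
      Nonempty (L.restrict (π ⁻¹ᵁ V).ι ≅ Coh.structureModule (↑(π ⁻¹ᵁ V))) := by
  obtain ⟨V₀, hV₀, hyV₀, -⟩ := exists_isAffineOpen_mem_and_subset (X := Y) (x := y) (U := ⊤) trivial
  have hW : IsAffineOpen (π ⁻¹ᵁ V₀) := hV₀.preimage π
  have hfin : (π.base ⁻¹' {y}).Finite := π.finite_preimage_singleton y
  let S : Set ↥(π ⁻¹ᵁ V₀) := {z | π.base z.1 = y}
  have hS : S.Finite := by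
    refine Set.Finite.of_injOn (f := fun z : ↥(π ⁻¹ᵁ V₀) => z.1) (t := π.base ⁻¹' {y}) ?_ ?_ hfin
    · intro z hz; exact hz
    · intro z _ z' _ hzz'; exact Subtype.ext hzz'
  obtain ⟨m, hm⟩ := exists_section_isGen L hL hW S hS
  have hG : IsOpen {x : X | ∃ hx : x ∈ π ⁻¹ᵁ V₀, IsGen L x (L.presheaf.germ (π ⁻¹ᵁ V₀) x hx m)} :=
    isOpen_setOf_isGen L hL m
  have hcl : IsClosed (π.base ''
      {x : X | ∃ hx : x ∈ π ⁻¹ᵁ V₀, IsGen L x (L.presheaf.germ (π ⁻¹ᵁ V₀) x hx m)}ᶜ) :=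
    π.isClosedMap _ hG.isClosed_compl
  have hy : y ∉ π.base ''
      {x : X | ∃ hx : x ∈ π ⁻¹ᵁ V₀, IsGen L x (L.presheaf.germ (π ⁻¹ᵁ V₀) x hx m)}ᶜ := by
    rintro ⟨z, hz, rfl⟩
    exact hz ⟨hyV₀, hm ⟨z, hyV₀⟩ rfl⟩
  refine ⟨V₀ ⊓ ⟨_, hcl.isOpen_compl⟩, ⟨hyV₀, hy⟩, ?_⟩
  have hUW : π ⁻¹ᵁ (V₀ ⊓ ⟨_, hcl.isOpen_compl⟩) ≤ π ⁻¹ᵁ V₀ := π.preimage_mono inf_le_left
  refine Groth.Agent.Lib.Helper20.Triv.nonempty_iso_of_bijective L _
    (L.presheaf.map (homOfLE hUW).op m) ?_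
  apply bijective_of_isGen
  intro x hx
  rw [TopCat.Presheaf.germ_res_apply]
  have hxG : x ∈ {x : X | ∃ hx : x ∈ π ⁻¹ᵁ V₀,
      IsGen L x (L.presheaf.germ (π ⁻¹ᵁ V₀) x hx m)} := by
    by_contra hxG
    exact hx.2 ⟨x, hxG, rfl⟩
  exact hxG.2

end Groth.Agent.Lib.Helper10.FinTriv
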