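import Mathlib
import Groth.Agent.Lib.Helper10Spectral

/-!
# Powers of the Sierpiński space are spectral (helper10)
-/

set_option autoImplicit false
open Topology TopologicalSpace Set

namespace Groth.Agent.Lib.Helper10.Sierpinski

open Groth.Agent.Lib.Helper10.Spectral

universe u

variable {I : Type u}

/-- Basic opens of the Sierpiński power. -/
def basic (F : Finset I) : Set (I → Prop) := {p | ∀ i ∈ F, p i}

theorem isOpen_coord (i : I) : IsOpen {p : I → Prop | p i} :=
  continuous_Prop.mp (continuous_apply i)

theorem isOpen_basic (F : Finset I) : IsOpen (basic F) := by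
  have : basic F = ⋂ i ∈ F, {p : I → Prop | p i} := by
    ext p; simp [basic]
  rw [this]
  exact isOpen_biInter_finset fun i _ => isOpen_coord i

theorem eq_univ_of_isOpen_of_false_mem {u : Set Prop} (hu : IsOpen u) (h : False ∈ u) :
    u = Set.univ := by
  have := hu.mem_nhds h
  rw [nhds_false] at this
  exact Filter.mem_top.mp this

theorem exists_basic_subset {O : Set (I → Prop)} (hO : IsOpen O) {p : I → Prop} (hp : p ∈ O) :
    ∃ F : Finset I, p ∈ basic F ∧ basic F ⊆ O := by
  classical
  obtain ⟨I0, u, hu, hsub⟩ := isOpen_pi_iff.mp hO p hp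
  refine ⟨I0.filter (fun i => p i), ?_, ?_⟩
  · intro i hi
    exact (Finset.mem_filter.mp hi).2
  · intro q hq
    apply hsub
    intro i hi
    by_cases hpi : p i
    · have hqi : q i := hq i (Finset.mem_filter.mpr ⟨hi, hpi⟩)
      have h1 := (hu i hi).2
      have e1 : p i = True := eq_true hpi
      have e2 : q i = True := eq_true hqi
      rw [e2, ← e1]; exact h1
    · have h1 := (hu i hi)
      have e1 : p i = False := eq_false hpi
      rw [e1] at h1
      rw [eq_univ_of_isOpen_of_false_mem h1.1 h1.2]
      trivial

theorem isTopologicalBasis_basic :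
    IsTopologicalBasis (Set.range (basic : Finset I → Set (I → Prop))) := by
  apply isTopologicalBasis_of_isOpen_of_nhds
  · rintro _ ⟨F, rfl⟩; exact isOpen_basic F
  · intro p O hp hO
    obtain ⟨F, hpF, hFO⟩ := exists_basic_subset hO hp
    exact ⟨basic F, ⟨F, rfl⟩, hpF, hFO⟩

theorem basic_anti {F G : Finset I} (h : G ⊆ F) : basic F ⊆ basic G :=
  fun _ hp i hi => hp i (h hi)

theorem isCompact_basic (F : Finset I) : IsCompact (basic F) := by
  classical
  apply isCompact_of_finite_subcover
  intro ι U hU hcov
  let e : I → Prop := fun i => i ∈ F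
  have he : e ∈ basic F := fun i hi => hi
  obtain ⟨k, hk⟩ := Set.mem_iUnion.mp (hcov he)
  obtain ⟨G, heG, hGU⟩ := exists_basic_subset (hU k) hk
  refine ⟨{k}, ?_⟩
  have hGF : G ⊆ F := fun i hi => heG i hi
  intro q hq
  simp only [Finset.mem_singleton, Set.iUnion_iUnion_eq_left]
  exact hGU (basic_anti hGF hq)

theorem basic_inter [DecidableEq I] (F G : Finset I) : basic F ∩ basic G = basic (F ∪ G) := by
  ext p
  simp only [basic, Set.mem_inter_iff, Set.mem_setOf_eq, Finset.mem_union]
  constructor
  · rintro ⟨h1, h2⟩ i (hi | hi)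
    · exact h1 i hi
    · exact h2 i hi
  · intro h
    exact ⟨fun i hi => h i (Or.inl hi), fun i hi => h i (Or.inr hi)⟩

instance : T0Space Prop := by
  rw [t0Space_iff_inseparable]
  intro p q hpq
  have h := hpq.mem_open_iff isOpen_singleton_true
  simp only [Set.mem_singleton_iff, eq_iff_iff, iff_true] at h
  exact propext h

instance quasiSober_pi : QuasiSober (I → Prop) := by
  classical
  constructor
  intro S hS hScl
  let ξ : I → Prop := fun i => ∃ p ∈ S, p i
  have hξS : ξ ∈ S := by
    rw [← hScl.closure_eq, isTopologicalBasis_basic.mem_closure_iff]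
    rintro _ ⟨F, rfl⟩ hξF
    have := (isIrreducible_iff_sInter.mp hS) (F.image fun i => {p : I → Prop | p i})
      (by
        intro u hu
        obtain ⟨i, _, rfl⟩ := Finset.mem_image.mp hu
        exact isOpen_coord i)
      (by
        intro u hu
        obtain ⟨i, hi, rfl⟩ := Finset.mem_image.mp hu
        obtain ⟨p, hpS, hpi⟩ := hξF i hi
        exact ⟨p, hpS, hpi⟩)
    obtain ⟨p, hpS, hp⟩ := this
    refine ⟨p, ?_, hpS⟩
    intro i hi
    have := Set.mem_sInter.mp hp {p : I → Prop | p i}
      (by simpa using Finset.mem_image_of_mem (fun i => {p : I → Prop | p i}) hi)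
    exact this
  refine ⟨ξ, ?_⟩
  apply subset_antisymm
  · rw [hScl.closure_subset_iff, Set.singleton_subset_iff]; exact hξS
  · intro s hs
    rw [isTopologicalBasis_basic.mem_closure_iff]
    rintro _ ⟨F, rfl⟩ hsF
    exact ⟨ξ, fun i hi => ⟨s, hs, hsF i hi⟩, rfl⟩

instance spectralSpace_pi : SpectralSpace (I → Prop) := by
  classical
  have h1 : CompactSpace (I → Prop) := by
    rw [← isCompact_univ_iff]
    have : (Set.univ : Set (I → Prop)) = basic ∅ := by
      ext p; simp [basic]
    rw [this]
    exact isCompact_basic ∅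
  have h2 : PrespectralSpace (I → Prop) :=
    PrespectralSpace.of_isTopologicalBasis' isTopologicalBasis_basic isCompact_basic
  have h3 : QuasiSeparatedSpace (I → Prop) := by
    apply QuasiSeparatedSpace.of_isTopologicalBasis isTopologicalBasis_basic
    intro F G
    rw [basic_inter]
    exact isCompact_basic _
  exact { }

end Groth.Agent.Lib.Helper10.Sierpinski
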