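import Mathlib
import Groth.Agent.Lib.Helper10Spectral
import Groth.Agent.Lib.Helper10Sierpinski

/-!
# A spectral space is a directed limit of finite sober spaces (helper10)
-/

set_option autoImplicit false
open CategoryTheory CategoryTheory.Limits Topology TopologicalSpace Opposite

namespace Groth.Agent.Lib.Helper10.FiniteLim

open Groth.Agent.Lib.Helper10.Spectral

universe u

/-- Finite spaces are quasi-sober. -/
theorem quasiSober_of_finite (Y : Type u) [TopologicalSpace Y] [Finite Y] : QuasiSober Y := by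
  classical
  constructor
  intro S hS hScl
  have hfin : S.Finite := Set.toFinite S
  have hcov : S ⊆ ⋃₀ ((hfin.image (fun z => closure {z})).toFinset : Set (Set Y)) := by
    intro z hz
    refine Set.mem_sUnion.mpr ⟨closure {z}, ?_, subset_closure rfl⟩
    simp only [Set.Finite.coe_toFinset]
    exact ⟨z, hz, rfl⟩
  obtain ⟨Z, hZ, hSZ⟩ := isIrreducible_iff_sUnion_isClosed.mp hS _
    (by
      intro Z hZ
      simp only [Set.Finite.mem_toFinset] at hZ
      obtain ⟨z, _, rfl⟩ := hZ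
      exact isClosed_closure) hcov
  simp only [Set.Finite.mem_toFinset] at hZ
  obtain ⟨z, hz, rfl⟩ := hZ
  refine ⟨z, subset_antisymm ?_ hSZ⟩
  rw [hScl.closure_subset_iff]
  simpa using hz

variable (X : Type u) [TopologicalSpace X]

/-- The type of compact opens. -/
abbrev CO : Type u := {U : Set X // IsOpen U ∧ IsCompact U}

/-- The characteristic map of a finite family of compact opens. -/
def chi (𝒰 : Finset (CO X)) : X → (𝒰 → Prop) := fun x U => x ∈ U.1.1

theorem continuous_chi (𝒰 : Finset (CO X)) : Continuous (chi X 𝒰) :=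
  continuous_pi fun U => continuous_Prop.mpr U.1.2.1

/-- Restriction to a subfamily. -/
def res {𝒰 𝒱 : Finset (CO X)} (h : 𝒰 ≤ 𝒱) : (𝒱 → Prop) → (𝒰 → Prop) :=
  fun p U => p ⟨U.1, h U.2⟩

theorem continuous_res {𝒰 𝒱 : Finset (CO X)} (h : 𝒰 ≤ 𝒱) : Continuous (res X h) :=
  continuous_pi fun _ => continuous_apply _

theorem res_chi {𝒰 𝒱 : Finset (CO X)} (h : 𝒰 ≤ 𝒱) (x : X) : res X h (chi X 𝒱 x) = chi X 𝒰 x := rfl

theorem res_mem_range {𝒰 𝒱 : Finset (CO X)} (h : 𝒰 ≤ 𝒱) (p : Set.range (chi X 𝒱)) :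
    res X h p.1 ∈ Set.range (chi X 𝒰) := by
  obtain ⟨x, hx⟩ := p.2
  exact ⟨x, by rw [← hx]; rfl⟩

/-- Restriction between the finite quotients. -/
def resMap {𝒰 𝒱 : Finset (CO X)} (h : 𝒰 ≤ 𝒱) : Set.range (chi X 𝒱) → Set.range (chi X 𝒰) :=
  fun p => ⟨res X h p.1, res_mem_range X h p⟩

theorem continuous_resMap {𝒰 𝒱 : Finset (CO X)} (h : 𝒰 ≤ 𝒱) : Continuous (resMap X h) :=
  ((continuous_res X h).comp continuous_subtype_val).subtype_mk _

/-- The inverse system of finite quotients. -/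
def F : (Finset (CO X))ᵒᵖ ⥤ TopCat.{u} where
  obj 𝒰 := TopCat.of (Set.range (chi X 𝒰.unop))
  map {𝒱 𝒰} a := TopCat.ofHom ⟨resMap X (leOfHom a.unop), continuous_resMap X _⟩
  map_id 𝒰 := TopCat.hom_ext (ContinuousMap.ext fun p => Subtype.ext rfl)
  map_comp a b := TopCat.hom_ext (ContinuousMap.ext fun p => Subtype.ext rfl)

/-- The cone with vertex `X`. -/
def cone : Cone (F X) where
  pt := TopCat.of X
  π :=
    { app := fun 𝒰 => TopCat.ofHom
        ⟨fun x => ⟨chi X 𝒰.unop x, x, rfl⟩, (continuous_chi X _).subtype_mk _⟩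
      naturality := fun 𝒱 𝒰 a => TopCat.hom_ext (ContinuousMap.ext fun x => Subtype.ext rfl) }

theorem finite_obj (𝒰 : (Finset (CO X))ᵒᵖ) : Finite ((F X).obj 𝒰) := by
  classical
  have : Finite (𝒰.unop → Prop) := inferInstance
  exact inferInstanceAs (Finite (Set.range (chi X 𝒰.unop)))

theorem t0_obj (𝒰 : (Finset (CO X))ᵒᵖ) : T0Space ((F X).obj 𝒰) :=
  inferInstanceAs (T0Space (Set.range (chi X 𝒰.unop)))

theorem quasiSober_obj (𝒰 : (Finset (CO X))ᵒᵖ) : QuasiSober ((F X).obj 𝒰) := by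
  have := finite_obj X 𝒰
  exact quasiSober_of_finite _

variable [SpectralSpace X]

theorem isLimit_forget : Nonempty (IsLimit ((forget TopCat).mapCone (cone X))) := by
  classical
  rw [Types.isLimit_iff]
  intro s hs
  -- the value of the section at `𝒰` as a function
  let sv' : ∀ 𝒰 : Finset (CO X), Set.range (chi X 𝒰) := fun 𝒰 => s (op 𝒰)
  let sv : ∀ 𝒰 : Finset (CO X), (𝒰 → Prop) := fun 𝒰 => (sv' 𝒰).1
  have hsv_mem : ∀ 𝒰, sv 𝒰 ∈ Set.range (chi X 𝒰) := fun 𝒰 => (sv' 𝒰).2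
  have hcompat : ∀ {𝒰 𝒱 : Finset (CO X)} (h : 𝒰 ≤ 𝒱), res X h (sv 𝒱) = sv 𝒰 := by
    intro 𝒰 𝒱 h
    have := hs (homOfLE h).op
    have h2 : resMap X h (sv' 𝒱) = sv' 𝒰 := this
    exact congrArg Subtype.val h2
  let A : Finset (CO X) → Set X := fun 𝒰 => {x | chi X 𝒰 x = sv 𝒰}
  have hA : ∀ 𝒰, IsClosed[constructibleTopology X] (A 𝒰) := by
    intro 𝒰
    have : A 𝒰 = ⋂ U : 𝒰, {x | (x ∈ U.1.1) = sv 𝒰 U} := by
      ext x
      simp only [A, Set.mem_ofPred_eq, Set.mem_iInter]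
      constructor
      · intro h U; rw [← h]; rfl
      · intro h; funext U; exact h U
    rw [this]
    apply isClosed_constr_iInter
    intro U
    by_cases hU : sv 𝒰 U
    · have : {x | (x ∈ U.1.1) = sv 𝒰 U} = U.1.1 := by
        ext x; simp [hU]
      rw [this]
      exact isClosed_constr_of_isCompact_isOpen U.1.2.1 U.1.2.2
    · have : {x | (x ∈ U.1.1) = sv 𝒰 U} = (U.1.1)ᶜ := by
        ext x; simp [hU]
      rw [this]
      rw [@isClosed_compl_iff _ (constructibleTopology X)]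
      exact isOpen_constr_of_isCompact_isOpen U.1.2.1 U.1.2.2
  have hAmono : ∀ {𝒰 𝒱 : Finset (CO X)} (h : 𝒰 ≤ 𝒱), A 𝒱 ⊆ A 𝒰 := by
    intro 𝒰 𝒱 h x hx
    have hx' : chi X 𝒱 x = sv 𝒱 := hx
    change chi X 𝒰 x = sv 𝒰
    rw [← hcompat h, ← hx']
    rfl
  have hne : ∀ S : Finset (Finset (CO X)), (⋂ 𝒰 ∈ S, A 𝒰).Nonempty := by
    intro S
    obtain ⟨x, hx⟩ := hsv_mem (S.sup id)
    refine ⟨x, ?_⟩
    simp only [Set.mem_iInter]
    intro 𝒰 h𝒰
    exact hAmono (Finset.le_sup (f := id) h𝒰) hx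
  obtain ⟨x, hx⟩ := nonempty_iInter_of_isClosed_constr A hA hne
  rw [Set.mem_iInter] at hx
  have hpi : ∀ (j : (Finset (CO X))ᵒᵖ) (y : X),
      (((forget TopCat).mapCone (cone X)).π.app j y : Set.range (chi X j.unop)) =
        ⟨chi X j.unop y, y, rfl⟩ := fun j y => rfl
  refine ⟨x, fun j => ?_, fun y hy => ?_⟩
  · have : (⟨chi X j.unop x, x, rfl⟩ : Set.range (chi X j.unop)) = sv' j.unop :=
      Subtype.ext (hx j.unop)
    exact (hpi j x).trans this
  · have hy' : ∀ 𝒰 : Finset (CO X), chi X 𝒰 y = sv 𝒰 := by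
      intro 𝒰
      have h1 := hy (op 𝒰)
      have h2 : (⟨chi X 𝒰 y, y, rfl⟩ : Set.range (chi X 𝒰)) = sv' 𝒰 := (hpi (op 𝒰) y).symm.trans h1
      exact congrArg Subtype.val h2
    have hxy : (y : X) = x := by
      by_contra hne
      obtain ⟨U, hUo, hUc, hU⟩ := exists_isCompact_isOpen_separating (X := X) hne
      have h3 : chi X {⟨U, hUo, hUc⟩} y = chi X {⟨U, hUo, hUc⟩} x :=
        (hy' _).trans (hx {⟨U, hUo, hUc⟩}).symm
      have h4 := congrFun h3 ⟨⟨U, hUo, hUc⟩, Finset.mem_singleton_self _⟩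
      simp only [chi, eq_iff_iff] at h4
      rcases hU with ⟨hy'', hx'⟩ | ⟨hx', hy''⟩
      · exact hx' (h4.mp hy'')
      · exact hy'' (h4.mpr hx')
    exact hxy

theorem isLimit_cone : Nonempty (IsLimit (cone X)) := by
  obtain ⟨hc⟩ := isLimit_forget X
  rw [TopCat.nonempty_isLimit_iff_eq_induced (cone X) hc]
  have key : (inferInstance : TopologicalSpace X) =
      ⨅ j : (Finset (CO X))ᵒᵖ, TopologicalSpace.induced
        (fun x : X => (⟨chi X j.unop x, x, rfl⟩ : Set.range (chi X j.unop))) inferInstance := by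
    apply le_antisymm
    · exact le_iInf fun j => continuous_iff_le_induced.mp ((continuous_chi X _).subtype_mk _)
    · intro O hO
      change IsOpen O at hO
      rw [PrespectralSpace.isTopologicalBasis.open_eq_sUnion' hO]
      apply @isOpen_sUnion _ (⨅ j : (Finset (CO X))ᵒᵖ, TopologicalSpace.induced
        (fun x : X => (⟨chi X j.unop x, x, rfl⟩ : Set.range (chi X j.unop))) inferInstance)
      rintro V ⟨⟨hVo, hVc⟩, _⟩
      have hle := iInf_le (fun j : (Finset (CO X))ᵒᵖ => TopologicalSpace.induced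
        (fun x : X => (⟨chi X j.unop x, x, rfl⟩ : Set.range (chi X j.unop))) inferInstance)
        (op ({⟨V, hVo, hVc⟩} : Finset (CO X)))
      apply hle V
      rw [isOpen_induced_iff]
      refine ⟨Subtype.val ⁻¹' {q | q ⟨⟨V, hVo, hVc⟩, Finset.mem_singleton_self _⟩}, ?_, rfl⟩
      exact (Groth.Agent.Lib.Helper10.Sierpinski.isOpen_coord _).preimage continuous_subtype_val
  exact key

end Groth.Agent.Lib.Helper10.FiniteLim
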