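import Groth.Prelude.Def_WeilCoh
import Groth.Prelude.Def_P1
import Groth.Agent.S9705
import Groth.Agent.Lib.Helper10GaloisOrbit

/-!
# The point `Spec k` as an object of `WeilCoh.Var k`, and consequences of the axioms
-/

universe u v

open AlgebraicGeometry CategoryTheory CategoryTheory.Limits

namespace Groth.Agent.Lib.Helper10.WeilPt

variable (k : Type u) [Field k]

lemma natDim_eq_zero_of_le {T : Type*} [TopologicalSpace T] (h : topologicalKrullDim T ≤ 0) :
    WeilCoh.natDim T = 0 := by
  unfold WeilCoh.natDim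
  generalize topologicalKrullDim T = D at h
  induction D using WithBot.recBotCoe with
  | bot => rfl
  | coe d =>
    have hd : d ≤ 0 := WithBot.coe_le_coe.mp h
    have : d = 0 := le_antisymm hd bot_le
    subst this
    rfl

lemma sect_toBase (X : Scheme.{u}) (i : Fin (1 + 1)) :
    P1.sect X i ≫ CohB1.ProjSpaceOver.toBase 1 X = 𝟙 X := by
  unfold P1.sect CohB1.ProjSpaceOver.toBase
  exact pullback.lift_snd _ _ _

instance isClosedImmersion_sect (X : Scheme.{u}) (i : Fin (1 + 1)) :
    IsClosedImmersion (P1.sect X i) := by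
  haveI : IsProper (CohB1.ProjSpaceOver.toBase 1 X) := Groth.Agent.S9705.isProper_toBase 1 X
  haveI : IsClosedImmersion (P1.sect X i ≫ CohB1.ProjSpaceOver.toBase 1 X) := by
    rw [sect_toBase]; infer_instance
  exact IsClosedImmersion.of_comp (P1.sect X i) (CohB1.ProjSpaceOver.toBase 1 X)

lemma isVar_pt : WeilCoh.IsVar k (Over.mk (𝟙 (Spec (CommRingCat.of k)))) := by
  refine ⟨?_, ⟨1, P1.sect _ 0, inferInstance, sect_toBase _ 0⟩, ?_⟩
  · change Smooth (𝟙 (Spec (CommRingCat.of k)))
    infer_instance
  · change IrreducibleSpace (PrimeSpectrum k)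
    infer_instance

/-- The point. -/
noncomputable def pt : WeilCoh.Var k := ⟨Over.mk (𝟙 (Spec (CommRingCat.of k))), isVar_pt k⟩

lemma dim_pt : WeilCoh.dim (pt k).obj.left = 0 := by
  unfold WeilCoh.dim
  apply natDim_eq_zero_of_le
  change topologicalKrullDim (PrimeSpectrum k) ≤ 0
  exact topologicalKrullDim_zero_of_discreteTopology _

/-- The structure map to the point. -/
noncomputable def toPt (X : WeilCoh.Var k) : X ⟶ pt k :=
  ObjectProperty.homMk (Over.homMk X.obj.hom (by simp [pt]))

@[simp] lemma sm_toPt (X : WeilCoh.Var k) : WeilCoh.sm (toPt k X) = X.obj.hom := rfl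

lemma pdim_eq_zero_of_isClosed {X : Scheme.{u}} (x : X) (hx : IsClosed ({x} : Set X)) :
    WeilCoh.pdim X x = 0 := by
  unfold WeilCoh.pdim
  apply natDim_eq_zero_of_le
  rw [hx.closure_eq]
  haveI : Subsingleton ↥({x} : Set X) := inferInstance
  exact topologicalKrullDim_zero_of_discreteTopology _

section ResDeg

variable {k} [IsAlgClosed k] {X : Scheme.{u}} (f : X ⟶ Spec (CommRingCat.of k))
  [LocallyOfFiniteType f]

open Groth.Agent.Lib.Helper10.GaloisOrbit in
/-- For a closed point of a scheme locally of finite type over an algebraically closed field the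
structure map `k → κ(x)` is bijective. -/
lemma bijective_resHom (x : X) (hx : IsClosed ({x} : Set X)) :
    Function.Bijective (resHom k f x).hom := by
  have hfin : IsFinite (X.fromSpecResidueField x ≫ f) := by
    rw [isClosed_singleton_iff_isClosedImmersion] at hx
    rw [isFinite_iff_locallyOfFiniteType_of_jacobsonSpace]
    infer_instance
  have hφ := map_resHom k f x
  have hint : (resHom k f x).hom.IsIntegral := by
    rw [← IsIntegralHom.SpecMap_iff, hφ]; infer_instance
  algebraize [(resHom k f x).hom]
  have : Algebra.IsIntegral k (X.residueField x) := ⟨hint⟩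
  exact IsAlgClosed.algebraMap_bijective_of_isIntegral

open Groth.Agent.Lib.Helper10.GaloisOrbit in
lemma residueDegree_eq_one (x : X) (hx : IsClosed ({x} : Set X)) :
    f.residueDegree x = 1 := by
  have hb := bijective_resHom f x hx
  -- factor `resHom` through `κ(f x)`
  set ψ : CommRingCat.of k ⟶ (Spec (CommRingCat.of k)).residueField (f x) :=
    Spec.preimage ((Spec (CommRingCat.of k)).fromSpecResidueField (f x)) with hψ
  have hfac : resHom k f x = ψ ≫ f.residueFieldMap x := by
    apply Spec.map_injective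
    rw [map_resHom, Spec.map_comp, hψ, Spec.map_preimage,
      Scheme.Hom.SpecMap_residueFieldMap_fromSpecResidueField]
  have hsurj : Function.Surjective (f.residueFieldMap x).hom := by
    intro y
    obtain ⟨a, ha⟩ := hb.2 y
    refine ⟨ψ.hom a, ?_⟩
    rw [← ha, hfac]
    rfl
  unfold Scheme.Hom.residueDegree
  letI := (f.residueFieldMap x).hom.toAlgebra
  have hbij : Function.Bijective (Algebra.linearMap ((Spec (CommRingCat.of k)).residueField (f x))
      (X.residueField x)) :=
    ⟨(f.residueFieldMap x).hom.injective, hsurj⟩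
  rw [← (LinearEquiv.ofBijective _ hbij).finrank_eq]
  exact Module.finrank_self _

end ResDeg

section Trace

variable {k} [IsAlgClosed k] {K : Type v} [Field K] [CharZero K] (T : WeilCoh.Theory k K)

lemma cl_pt (ξ : (pt k).obj.left) : T.cl (pt k) ξ = 1 := (T.point (pt k) (dim_pt k)).1 ξ

lemma tr_pt_one : T.tr (pt k) 1 = 1 := (T.point (pt k) (dim_pt k)).2

instance (X : WeilCoh.Var k) : LocallyOfFiniteType X.obj.hom := by
  haveI : Smooth X.obj.hom := X.property.1
  infer_instance

/-- S15444. -/
theorem tr_cl_closedPoint (X : WeilCoh.Var k) (x : X.obj.left) (hx : IsClosed ({x} : Set X.obj.left)) :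
    T.tr X (T.cl X x) = 1 := by
  have h1 : (1 : T.H (pt k)) ∈ T.gr (pt k) (2 * (WeilCoh.pdim X.obj.left x : ℤ)) := by
    rw [pdim_eq_zero_of_isClosed x hx]
    simpa using (SetLike.GradedOne.one_mem : (1 : T.H (pt k)) ∈ T.gr (pt k) 0)
  have h := T.cl_push (toPt k X) x 1 h1
  have hrd : (WeilCoh.sm (toPt k X)).residueDegree x = 1 := residueDegree_eq_one X.obj.hom x hx
  rw [map_one, mul_one, cl_pt, mul_one, tr_pt_one, mul_one, hrd, Nat.cast_one] at h
  exact h

end Trace

end Groth.Agent.Lib.Helper10.WeilPt
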