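import Mathlib
import Groth.Agent.Lib.Helper10FixPts
import Groth.Prelude.Def_WeilCoh
import Groth.Agent.Lib.Helper10WeilPt

/-!
# Transversality of the graph of Frobenius and the diagonal: multiplicity one
-/

universe u

open AlgebraicGeometry CategoryTheory CategoryTheory.Limits

namespace Groth.Agent.Lib.Helper10.FixMult

section Sections

lemma appLE_of_eq {X Y : Scheme.{u}} {f f' : X ⟶ Y} (h : f = f') (U : Y.Opens) (V : X.Opens)
    (e : V ≤ f ⁻¹ᵁ U) : f.appLE U V e = f'.appLE U V (h ▸ e) := by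
  subst h; rfl

lemma id_appLE {X : Scheme.{u}} (U V : X.Opens) (e : V ≤ (𝟙 X) ⁻¹ᵁ U) :
    Scheme.Hom.appLE (𝟙 X) U V e = X.presheaf.map (homOfLE e).op := by
  simp only [Scheme.Hom.appLE, Scheme.Hom.id_app]
  exact Category.id_comp _

variable {Y P : Scheme.{u}} (p q : P ⟶ Y) (g : Y ⟶ Y)
  (d j : Y ⟶ P) (hdp : d ≫ p = 𝟙 Y) (hdq : d ≫ q = 𝟙 Y) (hjp : j ≫ p = 𝟙 Y) (hjq : j ≫ q = g)

include hdp hdq hjp hjq in
/-- The ideal of the graph of `g`, pulled back along the diagonal, contains the germs of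
`s - g^♯ s`. -/
lemma germ_sub_mem (w η : Y) (hspec : j η ⤳ d w) (U U' : Y.Opens) (e : U' ≤ g ⁻¹ᵁ U)
    (hwU : w ∈ U) (hwU' : w ∈ U') (s : Γ(Y, U)) :
    Y.presheaf.germ U w hwU s - Y.presheaf.germ U' w hwU' ((g.appLE U U' e).hom s) ∈
      Ideal.map (d.stalkMap w).hom (RingHom.ker (Cyc.specMap (d w) (j η) hspec)) := by
  have hqd : q (d w) = w := by rw [← Scheme.Hom.comp_apply, hdq]; rfl
  have hpd : p (d w) = w := by rw [← Scheme.Hom.comp_apply, hdp]; rfl
  set W : P.Opens := q ⁻¹ᵁ U ⊓ p ⁻¹ᵁ U' with hW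
  have hz : d w ∈ W := ⟨by change q (d w) ∈ U; rw [hqd]; exact hwU,
    by change p (d w) ∈ U'; rw [hpd]; exact hwU'⟩
  set σ : Γ(P, W) := (q.appLE U W inf_le_left).hom s -
    (p.appLE U' W inf_le_right).hom ((g.appLE U U' e).hom s) with hσ
  -- pulling `σ` back along a section of `p`
  have pull : ∀ (t : Y ⟶ P) (ht : t ≫ p = 𝟙 Y) (g' : Y ⟶ Y) (htq : t ≫ q = g')
      (V : Y.Opens) (hV : V ≤ t ⁻¹ᵁ W),
      (t.appLE W V hV).hom σ =
        (g'.appLE U V (by
          subst htq
          exact hV.trans (fun y hy => hy.1))).hom s -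
        Y.presheaf.map (homOfLE (show V ≤ U' from fun y hy => by
          have h1 : p (t y) ∈ U' := (hV hy).2
          have h2 : p (t y) = y := by rw [← Scheme.Hom.comp_apply, ht]; rfl
          rwa [h2] at h1)).op ((g.appLE U U' e).hom s) := by
    intro t ht g' htq V hV
    subst htq
    rw [hσ, map_sub]
    congr 1
    · rw [← CommRingCat.comp_apply, Scheme.Hom.appLE_comp_appLE]
    · rw [← CommRingCat.comp_apply, Scheme.Hom.appLE_comp_appLE, appLE_of_eq ht, id_appLE]
      rfl
  have hA : P.presheaf.germ W (d w) hz σ ∈ RingHom.ker (Cyc.specMap (d w) (j η) hspec) := by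
    rw [RingHom.mem_ker]
    have hξ : j η ∈ W := hspec.mem_open W.isOpen hz
    have h1 : Cyc.specMap (d w) (j η) hspec (P.presheaf.germ W (d w) hz σ) =
        P.evaluation W (j η) hξ σ := by
      change (P.residue (j η)) ((P.presheaf.stalkSpecializes hspec)
        (P.presheaf.germ W (d w) hz σ)) = _
      rw [TopCat.Presheaf.germ_stalkSpecializes_apply]
      rfl
    rw [h1]
    apply (j.residueFieldMap η).hom.injective
    rw [map_zero]
    have h2 := Scheme.evaluation_naturality_apply j η hξ σ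
    have h3 : (j.app W).hom σ = 0 := by
      rw [Scheme.Hom.app_eq_appLE, pull j hjp g hjq (j ⁻¹ᵁ W) le_rfl, sub_eq_zero,
        ← CommRingCat.comp_apply, Scheme.Hom.appLE_map]
    exact h2.trans (by rw [h3, map_zero])
  have hB : (d.stalkMap w).hom (P.presheaf.germ W (d w) hz σ) =
      Y.presheaf.germ U w hwU s - Y.presheaf.germ U' w hwU' ((g.appLE U U' e).hom s) := by
    change d.stalkMap w (P.presheaf.germ W (d w) hz σ) = _
    rw [Scheme.Hom.germ_stalkMap_apply]
    have := pull d hdp (𝟙 Y) hdq (d ⁻¹ᵁ W) le_rfl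
    rw [Scheme.Hom.app_eq_appLE, this, map_sub, id_appLE]
    congr 1 <;> exact TopCat.Presheaf.germ_res_apply _ _ _ _ _
  rw [← hB]
  exact Ideal.mem_map_of_mem _ hA

end Sections

section Alg

/-- local algebra: from `τ - τ^Q ∈ I` to `τ - c ∈ I` for a constant `c` congruent to `τ` -/
lemma sub_mem_of_sub_pow_mem {k₀ : Type*} [Field k₀] [Finite k₀] {A : Type*} [CommRing A]
    [IsLocalRing A] [Algebra k₀ A] (m : ℕ) (hm : m ≠ 0) (I : Ideal A)
    (hI : I ≤ IsLocalRing.maximalIdeal A) {k : Type*} [Field k] (φ : k →+* A) (c₀ : k) (τ : A)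
    (hτ : τ - τ ^ (Nat.card k₀ ^ m) ∈ I) (hτc : τ - φ c₀ ∈ IsLocalRing.maximalIdeal A) :
    τ - φ c₀ ∈ I := by
  haveI := Fintype.ofFinite k₀
  have hQ : 1 < Nat.card k₀ ^ m := by
    have h1 : 1 < Nat.card k₀ := by
      rw [Nat.card_eq_fintype_card]; exact Fintype.one_lt_card
    exact Nat.one_lt_pow hm h1
  set Q := Nat.card k₀ ^ m with hQdef
  have hadd : ∀ x y : A, (x - y) ^ Q = x ^ Q - y ^ Q := by
    intro x y
    have h := map_sub ((FiniteField.frobeniusAlgHom k₀ A) ^ m) x y
    simp only [AlgHom.coe_pow, FiniteField.coe_frobeniusAlgHom, pow_iterate] at h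
    rw [hQdef, Nat.card_eq_fintype_card]
    exact h
  set u := τ - φ c₀ with hu
  have huQ : u ^ Q ∈ IsLocalRing.maximalIdeal A := Ideal.pow_mem_of_mem _ hτc _ (by omega)
  -- the constant is Frobenius-fixed
  have hc : φ c₀ ^ Q = φ c₀ := by
    have h1 : φ (c₀ - c₀ ^ Q) ∈ IsLocalRing.maximalIdeal A := by
      have : φ (c₀ - c₀ ^ Q) = (τ - τ ^ Q) - (u - u ^ Q) := by
        rw [hu, hadd, map_sub, map_pow]; ring
      rw [this]
      exact sub_mem (hI hτ) (sub_mem hτc huQ)
    by_contra hne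
    have hne' : c₀ - c₀ ^ Q ≠ 0 := by
      intro h0
      apply hne
      have := congrArg φ h0
      rw [map_sub, map_pow, map_zero, sub_eq_zero] at this
      exact this.symm
    exact (IsLocalRing.mem_maximalIdeal _).mp h1 ((IsUnit.mk0 _ hne').map φ)
  have h1 : u - u ^ Q ∈ I := by
    rw [hu, hadd, hc]
    convert hτ using 1
    ring
  have h2 : u - u ^ Q = u * (1 - u ^ (Q - 1)) := by
    rw [mul_sub, mul_one, ← pow_succ', Nat.sub_add_cancel (by omega)]
  have hunit : IsUnit (1 - u ^ (Q - 1)) := by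
    have : u ^ (Q - 1) ∈ IsLocalRing.maximalIdeal A :=
      Ideal.pow_mem_of_mem _ hτc _ (by omega)
    exact IsLocalRing.isUnit_one_sub_self_of_mem_nonunits _ this
  rw [h2] at h1
  exact (Ideal.mul_unit_mem_iff_mem I hunit).mp h1

lemma subring_eq_top_of_isPushout {Z A B C : CommRingCat.{u}} {f₁ : Z ⟶ A} {f₂ : Z ⟶ B}
    {a : A ⟶ C} {b : B ⟶ C} (h : IsPushout f₁ f₂ a b) (R : Subring C) (ha : ∀ x, a x ∈ R)
    (hb : ∀ y, b y ∈ R) : R = ⊤ := by
  let ι : CommRingCat.of R ⟶ C := CommRingCat.ofHom R.subtype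
  let a' : A ⟶ CommRingCat.of R := CommRingCat.ofHom (a.hom.codRestrict R ha)
  let b' : B ⟶ CommRingCat.of R := CommRingCat.ofHom (b.hom.codRestrict R hb)
  have ha' : a' ≫ ι = a := by ext x; rfl
  have hb' : b' ≫ ι = b := by ext x; rfl
  have hw : f₁ ≫ a' = f₂ ≫ b' := by
    ext x
    exact congr($(h.w) x)
  let u := h.desc a' b' hw
  have hu : u ≫ ι = 𝟙 C := by
    apply h.hom_ext
    · rw [← Category.assoc, h.inl_desc, ha', Category.comp_id]
    · rw [← Category.assoc, h.inr_desc, hb', Category.comp_id]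
  rw [eq_top_iff]
  intro c _
  have := congr($hu c)
  change ((u c : R) : C) = c at this
  rw [← this]
  exact (u c).2

end Alg

section Mult

open Groth.Agent.Lib.Helper10.GaloisOrbit Groth.Agent.Lib.Helper10.FrobGeom

variable {k : Type u} [Field k] {Y : Scheme.{u}} (fY : Y ⟶ Spec (CommRingCat.of k))

/-- the constants in a local ring of a `k`-scheme -/
noncomputable def const (w : Y) : k →+* Y.presheaf.stalk w :=
  (Y.presheaf.germ ⊤ w trivial).hom.comp
    (fY.appTop.hom.comp (Scheme.ΓSpecIso (CommRingCat.of k)).inv.hom)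

/-- at a closed point of a scheme locally of finite type over an algebraically closed field,
every element of the local ring is congruent to a constant -/
lemma exists_const [IsAlgClosed k] [LocallyOfFiniteType fY] (w : Y) (hw : IsClosed ({w} : Set Y))
    (τ : Y.presheaf.stalk w) :
    ∃ c₀ : k, τ - const fY w c₀ ∈ IsLocalRing.maximalIdeal (Y.presheaf.stalk w) := by
  have hb := Groth.Agent.Lib.Helper10.WeilPt.bijective_resHom fY w hw
  obtain ⟨c, hc⟩ := hb.2 (Y.residue w τ)
  set ψ : CommRingCat.of k ⟶ (Spec (CommRingCat.of k)).residueField (fY w) :=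
    Spec.preimage ((Spec (CommRingCat.of k)).fromSpecResidueField (fY w)) with hψ
  have hfac : resHom k fY w = ψ ≫ fY.residueFieldMap w := by
    apply Spec.map_injective
    rw [map_resHom, Spec.map_comp, hψ, Spec.map_preimage,
      Scheme.Hom.SpecMap_residueFieldMap_fromSpecResidueField]
  obtain ⟨c', hc'⟩ := exists_Γevaluation_eq (fY w) (ψ c)
  refine ⟨c', ?_⟩
  have h1 : Y.residue w (const fY w c') = Y.residue w τ := by
    rw [← hc, hfac, CommRingCat.comp_apply, ← hc', Scheme.Γevaluation_naturality_apply]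
    rfl
  have h2 : Y.residue w (τ - const fY w c') = 0 := by
    rw [map_sub, h1, sub_self]
  exact (IsLocalRing.residue_eq_zero_iff _).mp h2

variable {k₀ : Type u} [Field k₀] [Finite k₀] [Algebra k₀ k]
  {X : Scheme.{u}} (f : X ⟶ Spec (CommRingCat.of k₀)) (m : ℕ) (hm : m ≠ 0)
  (FX : X ⟶ X) (hle : ∀ U : X.Opens, U ≤ FX ⁻¹ᵁ U)
  (hFapp : ∀ (U : X.Opens) (s : Γ(X, U)),
    (FX.appLE U U (hle U)).hom s = s ^ (Nat.card k₀ ^ m))
  (π : Y ⟶ X) (hπ : IsPullback π fY f (Spec.map (CommRingCat.ofHom (algebraMap k₀ k))))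
  (g : Y ⟶ Y) (hg : g ≫ π = π ≫ FX)
  {P : Scheme.{u}} (p q : P ⟶ Y)
  (d j : Y ⟶ P) (hdp : d ≫ p = 𝟙 Y) (hdq : d ≫ q = 𝟙 Y) (hjp : j ≫ p = 𝟙 Y) (hjq : j ≫ q = g)

set_option maxHeartbeats 1600000 in
include hm hFapp hπ hg hdp hdq hjp hjq in
/-- Transversality: at a (closed) point of the intersection of the graph of the `q^m`-Frobenius
with the diagonal, the ideal of the graph generates the maximal ideal of the diagonal. -/
theorem ideal_eq_maximalIdeal [IsAlgClosed k] [LocallyOfFiniteType fY] (w η : Y)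
    (hw : IsClosed ({w} : Set Y)) (hspec : j η ⤳ d w) :
    Ideal.map (d.stalkMap w).hom (RingHom.ker (Cyc.specMap (d w) (j η) hspec)) =
      IsLocalRing.maximalIdeal (Y.presheaf.stalk w) := by
  set I := Ideal.map (d.stalkMap w).hom (RingHom.ker (Cyc.specMap (d w) (j η) hspec)) with hIdef
  have hI : I ≤ IsLocalRing.maximalIdeal (Y.presheaf.stalk w) := by
    rw [hIdef, Ideal.map_le_iff_le_comap]
    intro t ht
    rw [Ideal.mem_comap]
    have h1 : t ∈ IsLocalRing.maximalIdeal (P.presheaf.stalk (d w)) :=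
      IsLocalRing.le_maximalIdeal (RingHom.ker_ne_top _) ht
    exact _root_.map_nonunit (d.stalkMap w).hom t h1
  refine le_antisymm hI ?_
  obtain ⟨V, hV, hxV, -⟩ := exists_isAffineOpen_mem_and_subset (x := π w) (U := ⊤) trivial
  set U : Y.Opens := π ⁻¹ᵁ V ⊓ fY ⁻¹ᵁ ⊤ with hU
  have hwU : w ∈ U := ⟨hxV, trivial⟩
  have hUST : (⊤ : (Spec (CommRingCat.of k)).Opens) ≤
      (Spec.map (CommRingCat.ofHom (algebraMap k₀ k))) ⁻¹ᵁ ⊤ := le_top
  have hUSX : V ≤ f ⁻¹ᵁ ⊤ := le_top
  haveI : IsAffine ((⊤ : (Spec (CommRingCat.of k₀)).Opens) : Scheme) := (isAffineOpen_top _)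
  haveI : IsAffine ((⊤ : (Spec (CommRingCat.of k)).Opens) : Scheme) := (isAffineOpen_top _)
  haveI : IsAffine (V : Scheme) := hV
  have hUaff : IsAffineOpen U :=
    .of_isIso (Scheme.Hom.isPullback_resLE hπ hUST hUSX hU).isoPullback.hom
  have hpo := (isIso_pushoutSection_iff hπ hUST hUSX hU).mp
    (isIso_pushoutSection_of_isAffineOpen hπ hUST hUSX hU (isAffineOpen_top _)
      (isAffineOpen_top _) hV)
  -- the Frobenius-stability of `U`
  have e : U ≤ g ⁻¹ᵁ U := by
    intro y hy
    refine ⟨?_, trivial⟩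
    change (g ≫ π) y ∈ V
    rw [hg]
    exact hle V hy.1
  -- the subring of sections congruent to a constant modulo `I`
  let R : Subring Γ(Y, U) :=
    { carrier := {s | ∃ c₀ : k, Y.presheaf.germ U w hwU s - const fY w c₀ ∈ I}
      mul_mem' := by
        rintro s s' ⟨c, hc⟩ ⟨c', hc'⟩
        refine ⟨c * c', ?_⟩
        have : Y.presheaf.germ U w hwU (s * s') - const fY w (c * c') =
            (Y.presheaf.germ U w hwU s - const fY w c) * Y.presheaf.germ U w hwU s' +
              const fY w c * (Y.presheaf.germ U w hwU s' - const fY w c') := by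
          rw [map_mul, map_mul]; ring
        rw [this]
        exact add_mem (I.mul_mem_right _ hc) (I.mul_mem_left _ hc')
      one_mem' := ⟨1, by rw [map_one, map_one, sub_self]; exact I.zero_mem⟩
      add_mem' := by
        rintro s s' ⟨c, hc⟩ ⟨c', hc'⟩
        refine ⟨c + c', ?_⟩
        have : Y.presheaf.germ U w hwU (s + s') - const fY w (c + c') =
            (Y.presheaf.germ U w hwU s - const fY w c) +
              (Y.presheaf.germ U w hwU s' - const fY w c') := by
          rw [map_add, map_add]; ring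
        rw [this]
        exact add_mem hc hc'
      zero_mem' := ⟨0, by rw [map_zero, map_zero, sub_self]; exact I.zero_mem⟩
      neg_mem' := by
        rintro s ⟨c, hc⟩
        refine ⟨-c, ?_⟩
        have : Y.presheaf.germ U w hwU (-s) - const fY w (-c) =
            -(Y.presheaf.germ U w hwU s - const fY w c) := by
          rw [map_neg, map_neg]; ring
        rw [this]
        exact neg_mem hc }
  have hR : R = ⊤ := by
    refine subring_eq_top_of_isPushout hpo R (fun a => ?_) (fun b => ?_)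
    · -- sections coming from `X`
      set s := (π.appLE V U (by simp [hU])).hom a with hs
      have hgs : (g.appLE U U e).hom s = s ^ (Nat.card k₀ ^ m) := by
        rw [hs, ← CommRingCat.comp_apply, Scheme.Hom.appLE_comp_appLE, appLE_of_eq hg,
          ← Scheme.Hom.appLE_comp_appLE π FX V V U (hle V) (by simp [hU]),
          CommRingCat.comp_apply, hFapp V a, map_pow]
      have h1 := germ_sub_mem p q g d j hdp hdq hjp hjq w η hspec U U e hwU hwU s
      rw [hgs, map_pow] at h1
      obtain ⟨c₀, hc₀⟩ := exists_const fY w hw (Y.presheaf.germ U w hwU s)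
      letI : Algebra k₀ (Y.presheaf.stalk w) :=
        ((const fY w).comp (algebraMap k₀ k)).toAlgebra
      exact ⟨c₀, sub_mem_of_sub_pow_mem m hm I hI (const fY w) c₀ _ h1 hc₀⟩
    · -- constants
      refine ⟨(Scheme.ΓSpecIso (CommRingCat.of k)).hom b, ?_⟩
      have : Y.presheaf.germ U w hwU ((fY.appLE ⊤ U (by simp [hU])).hom b) =
          const fY w ((Scheme.ΓSpecIso (CommRingCat.of k)).hom b) := by
        unfold const
        simp only [RingHom.comp_apply]
        have h2 : (Scheme.ΓSpecIso (CommRingCat.of k)).inv.hom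
            ((Scheme.ΓSpecIso (CommRingCat.of k)).hom.hom b) = b := by
          rw [← CommRingCat.comp_apply, Iso.hom_inv_id]; rfl
        rw [h2]
        exact TopCat.Presheaf.germ_res_apply _ _ _ _ _
      rw [this, sub_self]
      exact I.zero_mem
  letI := Y.presheaf.algebra_section_stalk ⟨w, hwU⟩
  haveI hloc := hUaff.isLocalization_stalk ⟨w, hwU⟩
  have hmax := IsLocalization.AtPrime.map_eq_maximalIdeal (hUaff.primeIdealOf ⟨w, hwU⟩).asIdeal
    (Y.presheaf.stalk w)
  rw [← hmax, Ideal.map_le_iff_le_comap]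
  intro s hs
  rw [Ideal.mem_comap]
  obtain ⟨c₀, hc₀⟩ : s ∈ R := by rw [hR]; trivial
  have hsm : Y.presheaf.germ U w hwU s ∈ IsLocalRing.maximalIdeal (Y.presheaf.stalk w) := by
    rw [← hmax]
    exact Ideal.mem_map_of_mem _ hs
  have hcm : const fY w c₀ ∈ IsLocalRing.maximalIdeal (Y.presheaf.stalk w) := by
    have := sub_mem hsm (hI hc₀)
    rwa [sub_sub_cancel] at this
  have hc0 : c₀ = 0 := by
    by_contra h
    exact (IsLocalRing.mem_maximalIdeal _).mp hcm ((IsUnit.mk0 _ h).map _)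
  rw [hc0, map_zero, sub_zero] at hc₀
  exact hc₀

include hm hFapp hπ hg hdp hdq hjp hjq in
/-- The multiplicity of a point of the intersection of the graph of the `q^m`-Frobenius with
the diagonal is one. -/
theorem preimMult_eq_one [IsAlgClosed k] [LocallyOfFiniteType fY] (w η : Y)
    (hw : IsClosed ({w} : Set Y)) (hmem : d w ∈ closure ({j η} : Set P)) :
    WeilCoh.preimMult d (j η) w hmem = 1 := by
  unfold WeilCoh.preimMult
  rw [ideal_eq_maximalIdeal fY f m hm FX hle hFapp π hπ g hg p q d j hdp hdq hjp hjq w η hw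
    (specializes_iff_mem_closure.mpr hmem)]
  have : Module.length (Y.presheaf.stalk w)
      (Y.presheaf.stalk w ⧸ IsLocalRing.maximalIdeal (Y.presheaf.stalk w)) = 1 := by
    rw [Module.length_eq_one_iff, isSimpleModule_iff_isCoatom]
    exact Ideal.isMaximal_def.mp (IsLocalRing.maximalIdeal.isMaximal _)
  rw [this]
  rfl

end Mult

end Groth.Agent.Lib.Helper10.FixMult
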