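import Mathlib
import Groth.Agent.Lib.Helper10FixMult
import Groth.Agent.Lib.Helper10PointCount
import Groth.Prelude.Def_FinFr

/-!
# The fixed-point scheme of `Frob × id` is reduced and finite
-/

universe u

open AlgebraicGeometry CategoryTheory CategoryTheory.Limits

namespace Groth.Agent.Lib.Helper10.FixSch

open Groth.Agent.Lib.Helper10.GaloisOrbit Groth.Agent.Lib.Helper10.FrobGeom
open Groth.Agent.Lib.Helper10.FixMult Groth.Agent.Lib.Helper10.FixPts

variable {k : Type u} [Field k] {Y : Scheme.{u}} (fY : Y ⟶ Spec (CommRingCat.of k))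

variable {k₀ : Type u} [Field k₀] [Finite k₀] [Algebra k₀ k]
  {X : Scheme.{u}} (f : X ⟶ Spec (CommRingCat.of k₀)) (m : ℕ) (hm : m ≠ 0)
  (FX : X ⟶ X) (hle : ∀ U : X.Opens, U ≤ FX ⁻¹ᵁ U)
  (hFapp : ∀ (U : X.Opens) (s : Γ(X, U)),
    (FX.appLE U U (hle U)).hom s = s ^ (Nat.card k₀ ^ m))
  (π : Y ⟶ X) (hπ : IsPullback π fY f (Spec.map (CommRingCat.ofHom (algebraMap k₀ k))))
  (g : Y ⟶ Y) (hg : g ≫ π = π ≫ FX)

set_option maxHeartbeats 1600000 in
include hm hFapp hπ hg in
/-- Abstract transversality: an ideal of the local ring at a closed point `w` of `X̄` contained in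
the maximal ideal and containing all `s - F^♯ s` is the maximal ideal. -/
theorem ideal_eq_maximalIdeal' [IsAlgClosed k] [LocallyOfFiniteType fY] (w : Y)
    (hw : IsClosed ({w} : Set Y)) (I : Ideal (Y.presheaf.stalk w))
    (hI : I ≤ IsLocalRing.maximalIdeal (Y.presheaf.stalk w))
    (hmem : ∀ (U : Y.Opens) (e : U ≤ g ⁻¹ᵁ U) (hwU : w ∈ U) (s : Γ(Y, U)),
      Y.presheaf.germ U w hwU s - Y.presheaf.germ U w hwU ((g.appLE U U e).hom s) ∈ I) :
    I = IsLocalRing.maximalIdeal (Y.presheaf.stalk w) := by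
  refine le_antisymm hI ?_
  obtain ⟨V, hV, hxV, -⟩ := exists_isAffineOpen_mem_and_subset (x := π w) (U := ⊤) trivial
  set U : Y.Opens := π ⁻¹ᵁ V ⊓ fY ⁻¹ᵁ ⊤ with hU
  have hwU : w ∈ U := ⟨hxV, trivial⟩
  have hUST : (⊤ : (Spec (CommRingCat.of k)).Opens) ≤
      (Spec.map (CommRingCat.ofHom (algebraMap k₀ k))) ⁻¹ᵁ ⊤ := le_top
  have hUSX : V ≤ f ⁻¹ᵁ ⊤ := le_top
  haveI : IsAffine ((⊤ : (Spec (CommRingCat.of k₀)).Opens) : Scheme) := (isAffineOpen_top _)
  haveI : IsAffine ((⊤ : (Spec (CommRingCat.of k)).Opens) : Scheme) := (isAffineOpen_top _)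
  haveI : IsAffine (V : Scheme) := hV
  have hUaff : IsAffineOpen U :=
    .of_isIso (Scheme.Hom.isPullback_resLE hπ hUST hUSX hU).isoPullback.hom
  have hpo := (isIso_pushoutSection_iff hπ hUST hUSX hU).mp
    (isIso_pushoutSection_of_isAffineOpen hπ hUST hUSX hU (isAffineOpen_top _)
      (isAffineOpen_top _) hV)
  -- the Frobenius-stability of `U`
  have e : U ≤ g ⁻¹ᵁ U := by
    intro y hy
    refine ⟨?_, trivial⟩
    change (g ≫ π) y ∈ V
    rw [hg]
    exact hle V hy.1
  -- the subring of sections congruent to a constant modulo `I`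
  let R : Subring Γ(Y, U) :=
    { carrier := {s | ∃ c₀ : k, Y.presheaf.germ U w hwU s - const fY w c₀ ∈ I}
      mul_mem' := by
        rintro s s' ⟨c, hc⟩ ⟨c', hc'⟩
        refine ⟨c * c', ?_⟩
        have : Y.presheaf.germ U w hwU (s * s') - const fY w (c * c') =
            (Y.presheaf.germ U w hwU s - const fY w c) * Y.presheaf.germ U w hwU s' +
              const fY w c * (Y.presheaf.germ U w hwU s' - const fY w c') := by
          rw [map_mul, map_mul]; ring
        rw [this]
        exact add_mem (I.mul_mem_right _ hc) (I.mul_mem_left _ hc')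
      one_mem' := ⟨1, by rw [map_one, map_one, sub_self]; exact I.zero_mem⟩
      add_mem' := by
        rintro s s' ⟨c, hc⟩ ⟨c', hc'⟩
        refine ⟨c + c', ?_⟩
        have : Y.presheaf.germ U w hwU (s + s') - const fY w (c + c') =
            (Y.presheaf.germ U w hwU s - const fY w c) +
              (Y.presheaf.germ U w hwU s' - const fY w c') := by
          rw [map_add, map_add]; ring
        rw [this]
        exact add_mem hc hc'
      zero_mem' := ⟨0, by rw [map_zero, map_zero, sub_self]; exact I.zero_mem⟩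
      neg_mem' := by
        rintro s ⟨c, hc⟩
        refine ⟨-c, ?_⟩
        have : Y.presheaf.germ U w hwU (-s) - const fY w (-c) =
            -(Y.presheaf.germ U w hwU s - const fY w c) := by
          rw [map_neg, map_neg]; ring
        rw [this]
        exact neg_mem hc }
  have hR : R = ⊤ := by
    refine subring_eq_top_of_isPushout hpo R (fun a => ?_) (fun b => ?_)
    · -- sections coming from `X`
      set s := (π.appLE V U (by simp [hU])).hom a with hs
      have hgs : (g.appLE U U e).hom s = s ^ (Nat.card k₀ ^ m) := by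
        rw [hs, ← CommRingCat.comp_apply, Scheme.Hom.appLE_comp_appLE, appLE_of_eq hg,
          ← Scheme.Hom.appLE_comp_appLE π FX V V U (hle V) (by simp [hU]),
          CommRingCat.comp_apply, hFapp V a, map_pow]
      have h1 := hmem U e hwU s
      rw [hgs, map_pow] at h1
      obtain ⟨c₀, hc₀⟩ := exists_const fY w hw (Y.presheaf.germ U w hwU s)
      letI : Algebra k₀ (Y.presheaf.stalk w) :=
        ((const fY w).comp (algebraMap k₀ k)).toAlgebra
      exact ⟨c₀, sub_mem_of_sub_pow_mem m hm I hI (const fY w) c₀ _ h1 hc₀⟩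
    · -- constants
      refine ⟨(Scheme.ΓSpecIso (CommRingCat.of k)).hom b, ?_⟩
      have : Y.presheaf.germ U w hwU ((fY.appLE ⊤ U (by simp [hU])).hom b) =
          const fY w ((Scheme.ΓSpecIso (CommRingCat.of k)).hom b) := by
        unfold const
        simp only [RingHom.comp_apply]
        have h2 : (Scheme.ΓSpecIso (CommRingCat.of k)).inv.hom
            ((Scheme.ΓSpecIso (CommRingCat.of k)).hom.hom b) = b := by
          rw [← CommRingCat.comp_apply, Iso.hom_inv_id]; rfl
        rw [h2]
        exact TopCat.Presheaf.germ_res_apply _ _ _ _ _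
      rw [this, sub_self]
      exact I.zero_mem
  letI := Y.presheaf.algebra_section_stalk ⟨w, hwU⟩
  haveI hloc := hUaff.isLocalization_stalk ⟨w, hwU⟩
  have hmax := IsLocalization.AtPrime.map_eq_maximalIdeal (hUaff.primeIdealOf ⟨w, hwU⟩).asIdeal
    (Y.presheaf.stalk w)
  rw [← hmax, Ideal.map_le_iff_le_comap]
  intro s hs
  rw [Ideal.mem_comap]
  obtain ⟨c₀, hc₀⟩ : s ∈ R := by rw [hR]; trivial
  have hsm : Y.presheaf.germ U w hwU s ∈ IsLocalRing.maximalIdeal (Y.presheaf.stalk w) := by
    rw [← hmax]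
    exact Ideal.mem_map_of_mem _ hs
  have hcm : const fY w c₀ ∈ IsLocalRing.maximalIdeal (Y.presheaf.stalk w) := by
    have := sub_mem hsm (hI hc₀)
    rwa [sub_sub_cancel] at this
  have hc0 : c₀ = 0 := by
    by_contra h
    exact (IsLocalRing.mem_maximalIdeal _).mp hcm ((IsUnit.mk0 _ h).map _)
  rw [hc0, map_zero, sub_zero] at hc₀
  exact hc₀

section Main

variable (hgk : g ≫ fY = fY)

/-- the graph of `g` -/
noncomputable abbrev gr : Y ⟶ pullback fY fY :=
  pullback.lift (𝟙 Y) g (by rw [hgk, Category.id_comp])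

/-- the diagonal -/
noncomputable abbrev dg : Y ⟶ pullback fY fY := pullback.lift (𝟙 Y) (𝟙 Y) rfl

/-- the inclusion of the fixed point scheme -/
noncomputable def ι : FinFr.fixScheme fY g hgk ⟶ Y := pullback.fst _ _

lemma ι_gr : ι fY g hgk ≫ gr fY g hgk = ι fY g hgk ≫ dg fY := by
  have h : pullback.fst (gr fY g hgk) (dg fY) ≫ gr fY g hgk =
      pullback.snd (gr fY g hgk) (dg fY) ≫ dg fY := pullback.condition
  have h1 := congr($h ≫ pullback.fst fY fY)
  simp only [Category.assoc, pullback.lift_fst, Category.comp_id] at h1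
  change pullback.fst (gr fY g hgk) (dg fY) ≫ gr fY g hgk =
    pullback.fst (gr fY g hgk) (dg fY) ≫ dg fY
  rw [h, h1]

lemma ι_comp : ι fY g hgk ≫ g = ι fY g hgk := by
  have h := congr($(ι_gr fY g hgk) ≫ pullback.snd fY fY)
  simpa only [Category.assoc, pullback.lift_snd, Category.comp_id] using h

instance : IsImmersion (ι fY g hgk) := by
  haveI : IsImmersion (dg fY) := inferInstanceAs (IsImmersion (pullback.diagonal fY))
  exact inferInstanceAs (IsImmersion (pullback.fst (gr fY g hgk) (dg fY)))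

lemma fixed_ι (z : FinFr.fixScheme fY g hgk) :
    dg fY (ι fY g hgk z) = gr fY g hgk (ι fY g hgk z) := by
  have := congr($(ι_gr fY g hgk) z)
  exact this.symm

variable (hFb : FX.base = 𝟙 _)

include hm hFapp hπ hg hFb in
/-- The fixed-point scheme of `Frob × id` is reduced. -/
theorem isReduced_fixScheme [IsAlgClosed k] [LocallyOfFiniteType fY] :
    IsReduced (FinFr.fixScheme fY g hgk) := by
  haveI : ∀ z : FinFr.fixScheme fY g hgk,
      _root_.IsReduced ((FinFr.fixScheme fY g hgk).presheaf.stalk z) := by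
    intro z
    set e := ι fY g hgk with he
    set w := e z with hwdef
    have hfix := fixed_ι fY g hgk z
    have hQ : 1 < Nat.card k₀ ^ m := one_lt_Q (k₀ := k₀) m hm
    have hw : IsClosed ({w} : Set Y) :=
      isClosed_of_fixed f FX _ hFb hle hFapp fY π hπ g hg (pullback.fst fY fY)
        (pullback.snd fY fY) (dg fY) (gr fY g hgk) (pullback.lift_fst _ _ _) (pullback.lift_snd _ _ _)
        (pullback.lift_fst _ _ _) (pullback.lift_snd _ _ _) hQ w hfix
    set φ := (e.stalkMap z).hom with hφ
    have hsurj : Function.Surjective φ := e.stalkMap_surjective z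
    set I := RingHom.ker φ with hIdef
    have hI : I ≤ IsLocalRing.maximalIdeal (Y.presheaf.stalk w) :=
      IsLocalRing.le_maximalIdeal (RingHom.ker_ne_top _)
    have hmem : ∀ (U : Y.Opens) (e' : U ≤ g ⁻¹ᵁ U) (hwU : w ∈ U) (s : Γ(Y, U)),
        Y.presheaf.germ U w hwU s - Y.presheaf.germ U w hwU ((g.appLE U U e').hom s) ∈ I := by
      intro U e' hwU s
      rw [hIdef, RingHom.mem_ker, map_sub, sub_eq_zero]
      change e.stalkMap z (Y.presheaf.germ U w hwU s) =
        e.stalkMap z (Y.presheaf.germ U w hwU ((g.appLE U U e').hom s))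
      rw [Scheme.Hom.germ_stalkMap_apply, Scheme.Hom.germ_stalkMap_apply]
      congr 1
      rw [← CommRingCat.comp_apply, Scheme.Hom.app_eq_appLE, Scheme.Hom.appLE_comp_appLE,
        appLE_of_eq (ι_comp fY g hgk)]
    have hmax := ideal_eq_maximalIdeal' fY f m hm FX hle hFapp π hπ g hg w hw I hI hmem
    refine ⟨fun t ht => ?_⟩
    obtain ⟨τ, rfl⟩ := hsurj t
    by_cases hτ : τ ∈ IsLocalRing.maximalIdeal (Y.presheaf.stalk w)
    · rw [← hmax] at hτ
      exact hτ
    · have hu : IsUnit τ := by
        by_contra h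
        exact hτ ((IsLocalRing.mem_maximalIdeal _).mpr h)
      obtain ⟨n, hn⟩ := ht
      have := (hu.map φ).pow n
      rw [hn] at this
      exact absurd this not_isUnit_zero
  exact isReduced_of_isReduced_stalk _

include hm hFapp hπ hg hFb in
/-- The fixed-point scheme of `Frob × id` has finitely many points. -/
theorem finite_fixScheme [IsAlgClosed k] [LocallyOfFiniteType fY] [LocallyOfFiniteType f]
    [QuasiCompact f] : Finite (FinFr.fixScheme fY g hgk) := by
  haveI := finite_pts f m hm k
  have hQ : 1 < Nat.card k₀ ^ m := one_lt_Q (k₀ := k₀) m hm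
  have hinj : Function.Injective (ι fY g hgk) := (ι fY g hgk).isEmbedding.injective
  have hex : ∀ z : FinFr.fixScheme fY g hgk, ∃ t, Ψ f fY π hπ _ t = ι fY g hgk z := fun z =>
    exists_Ψ_eq f fY π hπ FX _ hFb hle hFapp g hg (pullback.fst fY fY)
      (pullback.snd fY fY) (dg fY) (gr fY g hgk) (pullback.lift_fst _ _ _)
      (pullback.lift_snd _ _ _) (pullback.lift_fst _ _ _) (pullback.lift_snd _ _ _) hQ _
      (fixed_ι fY g hgk z)
  choose t ht using hex
  exact Finite.of_injective t (fun z z' h => hinj (by rw [← ht z, ← ht z', h]))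

end Main

end Groth.Agent.Lib.Helper10.FixSch
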