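import Mathlib

/-!
# Weakly étale algebras: the key flatness lemma (Stacks 092C)

If `B ⊗[A] B → B` is flat, a `B`-module flat over `A` is flat over `B`.
-/

open TensorProduct

namespace Groth.Agent.Lib.Helper10.WEtale

universe u

section
variable (A B : Type*) [CommRing A] [CommRing B] [Algebra A B]
variable (N : Type*) [AddCommGroup N] [Module B N] [Module A N] [IsScalarTower A B N]
variable (P : Type*) [AddCommGroup P] [Module B P] [Module A P] [IsScalarTower A B P]

/-- left action -/
noncomputable def ρL : B →ₐ[A] Module.End A (N ⊗[A] P) :=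
  (Module.End.rTensorAlgHom A N P).comp (Algebra.lsmul A A N)

/-- right action -/
noncomputable def ρR : B →ₐ[A] Module.End A (N ⊗[A] P) :=
  (Module.End.lTensorAlgHom A P N).comp (Algebra.lsmul A A P)

lemma ρL_apply (b : B) : ρL A B N P b = (Algebra.lsmul A A N b).rTensor P := rfl

lemma ρR_apply (b : B) : ρR A B N P b = (Algebra.lsmul A A P b).lTensor N := rfl

@[simp]
lemma ρL_tmul (b : B) (n : N) (p : P) : ρL A B N P b (n ⊗ₜ p) = (b • n) ⊗ₜ p := by
  rw [ρL_apply]; simp

@[simp]
lemma ρR_tmul (b : B) (n : N) (p : P) : ρR A B N P b (n ⊗ₜ p) = n ⊗ₜ (b • p) := by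
  rw [ρR_apply]; simp

lemma ρ_comm (b b' : B) : Commute (ρL A B N P b) (ρR A B N P b') := by
  show _ * _ = _ * _
  refine LinearMap.ext fun z => ?_
  induction z with
  | zero => simp
  | add x y hx hy => simp only [map_add, hx, hy]
  | tmul n p => simp [Module.End.mul_apply]

/-- The action of `B ⊗[A] B` on `N ⊗[A] P`. -/
noncomputable def ρ : B ⊗[A] B →ₐ[A] Module.End A (N ⊗[A] P) :=
  Algebra.TensorProduct.lift (ρL A B N P) (ρR A B N P) (ρ_comm A B N P)

@[simp]
lemma ρ_tmul (b b' : B) (n : N) (p : P) :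
    ρ A B N P (b ⊗ₜ b') (n ⊗ₜ p) = (b • n) ⊗ₜ (b' • p) := by
  rw [ρ, Algebra.TensorProduct.lift_tmul, Module.End.mul_apply, ρR_tmul, ρL_tmul]

/-- The canonical surjection `N ⊗[A] P → N ⊗[B] P`. -/
noncomputable abbrev π : N ⊗[A] P →ₗ[B] N ⊗[B] P := mapOfCompatibleSMul B A B N P

lemma π_ρ (y : B ⊗[A] B) (z : N ⊗[A] P) :
    π A B N P (ρ A B N P y z) = (Algebra.TensorProduct.lmul' A y) • π A B N P z := by
  induction y with
  | zero => simp
  | add y y' h h' => simp only [map_add, LinearMap.add_apply, h, h', add_smul]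
  | tmul b b' =>
    induction z with
    | zero => simp
    | add z z' h h' => simp only [map_add, smul_add, h, h']
    | tmul n p =>
      rw [ρ_tmul]
      simp only [mapOfCompatibleSMul_tmul, Algebra.TensorProduct.lmul'_apply_tmul]
      rw [mul_smul, ← TensorProduct.tmul_smul, TensorProduct.smul_tmul']

lemma smul_eq_ρ (b : B) (z : N ⊗[A] P) : b • z = ρ A B N P (b ⊗ₜ 1) z := by
  induction z with
  | zero => simp
  | add z z' h h' => simp only [map_add, smul_add, h, h']
  | tmul n p => rw [ρ_tmul, one_smul, smul_tmul']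

lemma exists_fix
    (hpure : ∀ x ∈ RingHom.ker (Algebra.TensorProduct.lmul' A (S := B)),
      ∃ y ∈ RingHom.ker (Algebra.TensorProduct.lmul' A (S := B)), x = x * y)
    (z : N ⊗[A] P) (hz : π A B N P z = 0) :
    ∃ y ∈ RingHom.ker (Algebra.TensorProduct.lmul' A (S := B)), ρ A B N P y z = z := by
  have hz' : z ∈ LinearMap.ker (π A B N P) := hz
  rw [TensorProduct.AlgebraTensorModule.ker_mapOfCompatibleSMul] at hz'
  clear hz
  induction hz' using Submodule.span_induction with
  | mem x hx =>
    obtain ⟨b, n, p, rfl⟩ := hx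
    have hx0 : (b ⊗ₜ[A] (1:B) - (1:B) ⊗ₜ[A] b) ∈
        RingHom.ker (Algebra.TensorProduct.lmul' A (S := B)) := by
      simp [RingHom.mem_ker]
    obtain ⟨y, hy, hxy⟩ := hpure _ hx0
    refine ⟨y, hy, ?_⟩
    have : (b • n) ⊗ₜ[A] p - n ⊗ₜ[A] (b • p) = ρ A B N P (b ⊗ₜ 1 - 1 ⊗ₜ b) (n ⊗ₜ p) := by
      simp
    rw [this, ← Module.End.mul_apply, ← map_mul, mul_comm, ← hxy]
  | zero => exact ⟨0, zero_mem _, by simp⟩
  | add x x' _ _ hx hx' =>
    obtain ⟨y, hy, e⟩ := hx
    obtain ⟨y', hy', e'⟩ := hx'
    refine ⟨y + y' - y * y', ?_, ?_⟩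
    · exact sub_mem (add_mem hy hy') (Ideal.mul_mem_left _ _ hy')
    · have c1 : ρ A B N P (y * y') x = ρ A B N P y' x := by
        rw [mul_comm, map_mul, Module.End.mul_apply, e]
      have c2 : ρ A B N P (y * y') x' = ρ A B N P y x' := by
        rw [map_mul, Module.End.mul_apply, e']
      simp only [map_sub, map_add, LinearMap.sub_apply, LinearMap.add_apply, c1, c2, e, e']
      abel
  | smul b x _ hx =>
    obtain ⟨y, hy, e⟩ := hx
    refine ⟨y, hy, ?_⟩
    rw [smul_eq_ρ, ← Module.End.mul_apply, ← map_mul, mul_comm, map_mul, Module.End.mul_apply, e]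

variable {P} (Q : Type*) [AddCommGroup Q] [Module B Q] [Module A Q] [IsScalarTower A B Q]
  (f : P →ₗ[B] Q)

lemma π_nat (z : N ⊗[A] P) :
    π A B N Q ((f.restrictScalars A).lTensor N z) = f.lTensor N (π A B N P z) := by
  induction z with
  | zero => simp
  | add z z' h h' => simp only [map_add, h, h']
  | tmul n p => simp

lemma ρ_nat (y : B ⊗[A] B) (z : N ⊗[A] P) :
    ρ A B N Q y ((f.restrictScalars A).lTensor N z) =
      (f.restrictScalars A).lTensor N (ρ A B N P y z) := by
  induction y with
  | zero => simp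
  | add y y' h h' => simp only [map_add, LinearMap.add_apply, h, h']
  | tmul b b' =>
    induction z with
    | zero => simp
    | add z z' h h' => simp only [map_add, h, h']
    | tmul n p => simp

end

/-- **Stacks 092C**: if `B ⊗[A] B → B` is flat, a `B`-module flat over `A` is flat over `B`. -/
theorem flat_of_flat_lmul' (A B : Type u) [CommRing A] [CommRing B] [Algebra A B]
    (h : (Algebra.TensorProduct.lmul' A (S := B)).Flat) (N : Type u) [AddCommGroup N]
    [Module B N] [Module A N] [IsScalarTower A B N] [Module.Flat A N] : Module.Flat B N := by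
  have hpure : ∀ x ∈ RingHom.ker (Algebra.TensorProduct.lmul' A (S := B)),
      ∃ y ∈ RingHom.ker (Algebra.TensorProduct.lmul' A (S := B)), x = x * y := by
    have hP : (RingHom.ker (Algebra.TensorProduct.lmul' A (S := B))).Pure := by
      letI : Algebra (B ⊗[A] B) B := (Algebra.TensorProduct.lmul' A (S := B)).toRingHom.toAlgebra
      haveI : Module.Flat (B ⊗[A] B) B := h
      have hsurj : Function.Surjective (Algebra.ofId (B ⊗[A] B) B) := fun b => ⟨b ⊗ₜ 1, by
        show Algebra.TensorProduct.lmul' A (b ⊗ₜ[A] (1 : B)) = b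
        simp⟩
      exact Module.Flat.of_linearEquiv
        (Ideal.quotientKerAlgEquivOfSurjective hsurj).toLinearEquiv
    intro x hx
    exact Ideal.exists_eq_mul_of_pure hx
  rw [Module.Flat.iff_lTensor_preserves_injective_linearMap]
  intro P Q _ _ _ _ f hf
  letI : Module A P := Module.compHom P (algebraMap A B)
  haveI : IsScalarTower A B P := IsScalarTower.of_compHom A B P
  letI : Module A Q := Module.compHom Q (algebraMap A B)
  haveI : IsScalarTower A B Q := IsScalarTower.of_compHom A B Q
  have hg : Function.Injective ((f.restrictScalars A).lTensor N) :=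
    Module.Flat.lTensor_preserves_injective_linearMap _ hf
  rw [injective_iff_map_eq_zero]
  intro x hx
  obtain ⟨z, rfl⟩ := mapOfCompatibleSMul_surjective B A B N P x
  have h1 : π A B N Q ((f.restrictScalars A).lTensor N z) = 0 := by
    rw [π_nat]; exact hx
  obtain ⟨y, hy, e⟩ := exists_fix A B N Q hpure _ h1
  rw [ρ_nat] at e
  have e' := hg e
  show π A B N P z = 0
  rw [← e', π_ρ, (RingHom.mem_ker).mp hy, zero_smul]

/-- If `φ : R →+* S` is surjective and `ψ ∘ φ` is flat then `ψ` is flat. -/
theorem flat_of_comp_surjective {R S T : Type u} [CommRing R] [CommRing S] [CommRing T]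
    (φ : R →+* S) (ψ : S →+* T) (hφ : Function.Surjective φ) (h : (ψ.comp φ).Flat) :
    ψ.Flat := by
  algebraize [φ, ψ, ψ.comp φ]
  have hbij : Function.Bijective (Algebra.TensorProduct.lmul' R (S := S)) :=
    LinearMap.mul'_bijective_of_surjective (R := R) (A := S) hφ
  have hflat : (Algebra.TensorProduct.lmul' R (S := S)).Flat := RingHom.Flat.of_bijective hbij
  exact flat_of_flat_lmul' R S hflat T

end Groth.Agent.Lib.Helper10.WEtale
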