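import Mathlib
import Groth.Agent.Lib.Helper10WEtale

/-!
# Modules flat over the base are flat when the diagonal is flat (S7177)
-/

set_option autoImplicit false
set_option linter.style.haveILetI false

universe u

open AlgebraicGeometry CategoryTheory Limits TensorProduct

namespace Groth.Agent.Lib.Helper10.FlatDiag

/-- pure algebra: localizing Stacks 092C. -/
theorem flat_of_local {A' B' A B N : Type u} [CommRing A'] [CommRing B'] [CommRing A] [CommRing B]
    [AddCommGroup N] [Module B N]
    (φ : A' →+* B') (α : A' →+* A) (β : B' →+* B) (σ : A →+* B)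
    (hcomm : σ.comp α = β.comp φ) (hα : α.Flat) (S : Submonoid B')
    (hβ : @IsLocalization _ _ S B _ β.toAlgebra)
    (h : letI := φ.toAlgebra; (Algebra.TensorProduct.lmul' A' (S := B')).Flat)
    (hN : @Module.Flat A N _ _ (Module.compHom N σ)) : Module.Flat B N := by
  letI := φ.toAlgebra
  letI := α.toAlgebra
  letI := β.toAlgebra
  letI := σ.toAlgebra
  letI : Algebra A' B := (β.comp φ).toAlgebra
  haveI : IsScalarTower A' B' B := IsScalarTower.of_algebraMap_eq (fun _ => rfl)
  haveI : IsScalarTower A' A B := IsScalarTower.of_algebraMap_eq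
    (fun a => (congrArg (fun g => g a) hcomm).symm)
  letI : Module A N := Module.compHom N σ
  letI : Module B' N := Module.compHom N β
  letI : Module A' N := Module.compHom N (β.comp φ)
  haveI : IsScalarTower A B N := ⟨fun a b n => by
    show (σ a * b) • n = σ a • (b • n)
    rw [mul_smul]⟩
  haveI : IsScalarTower B' B N := ⟨fun a b n => by
    show (β a * b) • n = β a • (b • n)
    rw [mul_smul]⟩
  haveI : IsScalarTower A' A N := ⟨fun a b n => by
    show σ (α a * b) • n = (β (φ a)) • (σ b • n)
    rw [map_mul, mul_smul]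
    congr 1
    exact congrArg (fun g => g a • (σ b • n)) hcomm |>.trans rfl |> fun h => by
      have h2 : σ (α a) = β (φ a) := congrArg (fun g => g a) hcomm
      rw [h2]⟩
  haveI : IsScalarTower A' B' N := ⟨fun a b n => by
    show β (φ a * b) • n = (β (φ a)) • (β b • n)
    rw [map_mul, mul_smul]⟩
  haveI : Module.Flat A' A := hα
  haveI : Module.Flat A N := hN
  haveI : Module.Flat A' N := Module.Flat.trans A' A N
  haveI : Module.Flat B' N := Groth.Agent.Lib.Helper10.WEtale.flat_of_flat_lmul' A' B' h N
  haveI : IsLocalization S B := hβ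
  haveI : IsLocalizedModule S (LinearMap.id : N →ₗ[B'] N) := isLocalizedModule_id S N B
  exact Module.Flat.of_isLocalizedModule (R := B') (M := N) (Rp := B) (Mp := N) S
    (LinearMap.id : N →ₗ[B'] N)

set_option backward.isDefEq.respectTransparency.types false in
/-- flat diagonal of `Spec.map φ` means `lmul'` flat. -/
theorem specMap_diag_iff {R S : CommRingCat.{u}} (φ : R ⟶ S) :
    Flat (pullback.diagonal (Spec.map φ)) ↔
      (letI := φ.hom.toAlgebra; (Algebra.TensorProduct.lmul' R (S := S)).Flat) := by
  algebraize [φ.hom]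
  have hφ : φ = CommRingCat.ofHom (algebraMap R S) := rfl
  rw [hφ, diagonal_SpecMap R S,
    MorphismProperty.cancel_right_of_respectsIso (P := @Flat),
    HasRingHomProperty.Spec_iff (P := @Flat)]
  rfl

set_option backward.isDefEq.respectTransparency.types false in
theorem flat_lmul'_of_flat_diagonal {X Y : Scheme.{u}} (f : X ⟶ Y) [Flat (pullback.diagonal f)]
    (U : X.Opens) (V : Y.Opens) (hU : IsAffineOpen U) (hV : IsAffineOpen V) (e : U ≤ f ⁻¹ᵁ V) :
    letI := (f.appLE V U e).hom.toAlgebra
    (Algebra.TensorProduct.lmul' Γ(Y, V) (S := Γ(X, U))).Flat := by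
  have hP : MorphismProperty.diagonal @Flat f := ‹Flat (pullback.diagonal f)›
  have h1 : MorphismProperty.diagonal @Flat (f ∣_ V) := IsZariskiLocalAtTarget.restrict hP V
  have h2 : MorphismProperty.diagonal @Flat (f.resLE V U e) := by
    delta Scheme.Hom.resLE
    exact IsZariskiLocalAtSource.comp h1 _
  haveI : IsIso U.toSpecΓ := by rw [← hU.isoSpec_hom]; infer_instance
  haveI : IsIso V.toSpecΓ := by rw [← hV.isoSpec_hom]; infer_instance
  have h3 : MorphismProperty.diagonal @Flat (Spec.map (f.appLE V U e)) := by
    rw [← MorphismProperty.cancel_left_of_respectsIso (P := MorphismProperty.diagonal @Flat)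
      U.toSpecΓ, Scheme.Opens.toSpecΓ_SpecMap_appLE,
      MorphismProperty.cancel_right_of_respectsIso (P := MorphismProperty.diagonal @Flat)]
    exact h2
  exact (specMap_diag_iff _).mp h3

end Groth.Agent.Lib.Helper10.FlatDiag
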