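import Mathlib
import Groth.Agent.Lib.Helper1PCTower
import Groth.Agent.Lib.Helper1Tor

/-!
# Tor-independent base change of finite modules over a Noetherian ring (helper10)

Setting: a pushout square of rings `A₀ → A`, `A₀ → P₀`, `P = A ⊗[A₀] P₀` with `P₀` Noetherian and
flat over `A₀`.  For a finite `P₀`-module `N` which is flat over `A₀`, the `P`-module
`P ⊗[P₀] N` is pseudo-coherent.
-/

set_option autoImplicit false
universe u
open CategoryTheory CategoryTheory.Limits TensorProduct
attribute [local instance] HasDerivedCategory.standard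

namespace Groth.Agent.Lib.Helper10.FlatPC

open Groth.Agent.Lib.Helper1.PC Groth.Agent.Lib.Helper1.PCTower DerivedCategory

section Inj

variable {A₀ A P₀ P : Type*} [CommRing A₀] [CommRing A] [CommRing P₀] [CommRing P]
  [Algebra A₀ A] [Algebra A₀ P₀] [Algebra A P] [Algebra P₀ P] [Algebra A₀ P]
  [IsScalarTower A₀ A P] [IsScalarTower A₀ P₀ P] [Algebra.IsPushout A₀ A P₀ P]

/-- naturality of `Algebra.IsPushout.cancelBaseChange`. -/
theorem cancelBaseChange_symm_natural {M M' : Type*} [AddCommGroup M] [Module P₀ M] [Module A₀ M]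
    [IsScalarTower A₀ P₀ M] [AddCommGroup M'] [Module P₀ M'] [Module A₀ M']
    [IsScalarTower A₀ P₀ M'] (f : M →ₗ[P₀] M') (x : A ⊗[A₀] M) :
    (f.baseChange P) ((Algebra.IsPushout.cancelBaseChange A₀ A P₀ P M).symm x) =
      (Algebra.IsPushout.cancelBaseChange A₀ A P₀ P M').symm
        ((f.restrictScalars A₀).lTensor A x) := by
  induction x using TensorProduct.induction_on with
  | zero => simp
  | tmul a m => simp
  | add x y hx hy => simp only [map_add, hx, hy]

/-- In the pushout situation, base change along `P₀ → P` of an injective map with `A₀`-flat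
cokernel is injective. -/
theorem baseChange_injective (A₀ A P₀ P : Type*) [CommRing A₀] [CommRing A] [CommRing P₀]
    [CommRing P] [Algebra A₀ A] [Algebra A₀ P₀] [Algebra A P] [Algebra P₀ P] [Algebra A₀ P]
    [IsScalarTower A₀ A P] [IsScalarTower A₀ P₀ P] [Algebra.IsPushout A₀ A P₀ P]
    {M M' N : Type*} [AddCommGroup M] [Module P₀ M] [Module A₀ M]
    [IsScalarTower A₀ P₀ M] [AddCommGroup M'] [Module P₀ M'] [Module A₀ M']
    [IsScalarTower A₀ P₀ M'] [AddCommGroup N] [Module P₀ N] [Module A₀ N]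
    [IsScalarTower A₀ P₀ N] [Module.Flat A₀ N]
    (f : M →ₗ[P₀] M') (g : M' →ₗ[P₀] N) (hf : Function.Injective f)
    (hg : Function.Surjective g) (hfg : Function.Exact f g) :
    Function.Injective (f.baseChange P) := by
  have h1 : Function.Injective ((f.restrictScalars A₀).lTensor A) :=
    LinearMap.lTensor_injective_of_exact_of_flat (g.restrictScalars A₀) hg
      (f.restrictScalars A₀) hf hfg A
  intro x y hxy
  obtain ⟨x', rfl⟩ := (Algebra.IsPushout.cancelBaseChange A₀ A P₀ P M).symm.surjective x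
  obtain ⟨y', rfl⟩ := (Algebra.IsPushout.cancelBaseChange A₀ A P₀ P M).symm.surjective y
  rw [cancelBaseChange_symm_natural, cancelBaseChange_symm_natural] at hxy
  rw [h1 ((Algebra.IsPushout.cancelBaseChange A₀ A P₀ P M').symm.injective hxy)]

end Inj

section PC

open Groth.Agent.S7017

theorem flat_pi_fin (R M : Type*) [CommRing R] [AddCommGroup M] [Module R M] [Module.Flat R M]
    (r : ℕ) : Module.Flat R (Fin r → M) :=
  Module.Flat.of_linearEquiv (DirectSum.linearEquivFunOnFintype R (Fin r) (fun _ => M)).symm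

/-- the base change of a finite `P₀`-module which is `A₀`-flat is `(-k)`-pseudo-coherent for
every `k`. -/
theorem isPC_tensor_aux (A₀ A P₀ P : Type u) [CommRing A₀] [CommRing A] [CommRing P₀] [CommRing P]
    [Algebra A₀ A] [Algebra A₀ P₀] [Algebra A P] [Algebra P₀ P] [Algebra A₀ P]
    [IsScalarTower A₀ A P] [IsScalarTower A₀ P₀ P] [Algebra.IsPushout A₀ A P₀ P]
    [IsNoetherianRing P₀] [Module.Flat A₀ P₀] (k : ℕ) : ∀ (N : Type u) [AddCommGroup N] [Module P₀ N] [Module A₀ N]
    [IsScalarTower A₀ P₀ N] [Module.Finite P₀ N] [Module.Flat A₀ N],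
    DRing.IsPseudoCoherent P (-(k : ℤ))
      ((singleFunctor (ModuleCat.{u} P) 0).obj (ModuleCat.of P (P ⊗[P₀] N))) := by
  induction k with
  | zero =>
    intro N _ _ _ _ _ _
    haveI : Module.Finite P (ModuleCat.of P (P ⊗[P₀] N)) :=
      inferInstanceAs (Module.Finite P (P ⊗[P₀] N))
    exact isPC_single_of_finite (ModuleCat.of P (P ⊗[P₀] N)) 0
  | succ k ih =>
    intro N _ _ _ _ _ _
    obtain ⟨r, π₀, hπ₀⟩ := Module.Finite.exists_fin' P₀ N
    -- the kernel
    let K₀ := LinearMap.ker π₀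
    haveI : Module.Flat A₀ (Fin r → P₀) := flat_pi_fin A₀ P₀ r
    haveI hK₀flat : Module.Flat A₀ K₀ :=
      Groth.Agent.Lib.Helper1.Tor.flat_ker (K₀.subtype.restrictScalars A₀)
        (π₀.restrictScalars A₀) K₀.subtype_injective hπ₀
        (LinearMap.exact_subtype_ker_map π₀)
    haveI hK₀fin : Module.Finite P₀ K₀ := inferInstance
    -- the base-changed surjection
    let π : P ⊗[P₀] (Fin r → P₀) →ₗ[P] P ⊗[P₀] N := π₀.baseChange P
    have hπ : Function.Surjective π := LinearMap.lTensor_surjective P hπ₀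
    let ψ : P ⊗[P₀] K₀ →ₗ[P] P ⊗[P₀] (Fin r → P₀) := K₀.subtype.baseChange P
    have hψinj : Function.Injective ψ :=
      baseChange_injective A₀ A P₀ P K₀.subtype π₀ K₀.subtype_injective hπ₀
        (LinearMap.exact_subtype_ker_map π₀)
    have hex : Function.Exact ψ π :=
      lTensor_exact P (LinearMap.exact_subtype_ker_map π₀) hπ₀
    have hmem : ∀ x, ψ x ∈ LinearMap.ker π := fun x => (hex (ψ x)).2 ⟨x, rfl⟩
    let e : (P ⊗[P₀] K₀) ≃ₗ[P] LinearMap.ker π :=
      LinearEquiv.ofBijective (ψ.codRestrict (LinearMap.ker π) hmem)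
        ⟨fun x y hxy => hψinj (congrArg Subtype.val hxy),
          fun ⟨y, hy⟩ => by
            obtain ⟨x, hx⟩ := (hex y).1 hy
            exact ⟨x, Subtype.ext hx⟩⟩
    have hF : FF (ModuleCat.of P (P ⊗[P₀] (Fin r → P₀))) :=
      ⟨inferInstanceAs (Module.Finite P (P ⊗[P₀] (Fin r → P₀))),
        inferInstanceAs (Module.Free P (P ⊗[P₀] (Fin r → P₀)))⟩
    have hS := LinearMap.shortExact_shortComplexKer hπ
    have hT := hS.singleTriangle_distinguished
    have hk := ih K₀
    have hk' : DRing.IsPseudoCoherent P (-(k : ℤ))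
        ((singleFunctor (ModuleCat.{u} P) 0).obj (ModuleCat.of P (LinearMap.ker π))) :=
      isPC_of_iso ((singleFunctor (ModuleCat.{u} P) 0).mapIso e.toModuleIso) hk
    have e' : -((k + 1 : ℕ) : ℤ) + 1 = -(k : ℤ) := by push_cast; ring
    have h3 : DRing.IsPseudoCoherent P (-((k + 1 : ℕ) : ℤ))
        ((singleFunctor (ModuleCat.{u} P) 0).obj (ModuleCat.of P (P ⊗[P₀] (Fin r → P₀)))) :=
      isPC_of_rep _ (rep_single _ hF 0)
    exact isPC_obj₃ _ hT (-((k + 1 : ℕ) : ℤ)) (by rw [e']; exact hk') h3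

/-- **Tor-independent base change**: the base change of a finite `P₀`-module which is
`A₀`-flat is a pseudo-coherent `P`-module. -/
theorem isPC'_tensor (A₀ A P₀ P : Type u) [CommRing A₀] [CommRing A] [CommRing P₀] [CommRing P]
    [Algebra A₀ A] [Algebra A₀ P₀] [Algebra A P] [Algebra P₀ P] [Algebra A₀ P]
    [IsScalarTower A₀ A P] [IsScalarTower A₀ P₀ P] [Algebra.IsPushout A₀ A P₀ P]
    [IsNoetherianRing P₀] [Module.Flat A₀ P₀] (N : Type u) [AddCommGroup N] [Module P₀ N] [Module A₀ N]
    [IsScalarTower A₀ P₀ N] [Module.Finite P₀ N] [Module.Flat A₀ N] :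
    DRing.IsPseudoCoherentModule' P (P ⊗[P₀] N) :=
  isPseudoCoherent'_of_forall _ (fun m =>
    isPC_mono (by lia) (isPC_tensor_aux A₀ A P₀ P (-m).toNat N))

end PC

end Groth.Agent.Lib.Helper10.FlatPC
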