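import Mathlib
import Groth.Agent.Lib.Helper3FlatDescE

set_option autoImplicit false
set_option linter.style.haveILetI false

universe u

namespace Groth.Agent.Lib.Helper3.FlatOpen

open TensorProduct MvPolynomial Groth.Agent.Lib.Helper3.FlatLoc Groth.Agent.Lib.Helper3.FlatDesc

attribute [local instance] MvPolynomial.algebraMvPolynomial

section CyclicModel

/-- The cyclic presented module is the quotient by the ideal of relations. -/
theorem nonempty_model_equiv_quotient {Λ T : Type*} [CommRing Λ] [CommRing T] [Algebra Λ T]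
    {σ κ : Type*} [Fintype κ] (w : κ → Unit → MvPolynomial σ Λ) (rel : κ → MvPolynomial σ T)
    (h : ∀ r, MvPolynomial.map (algebraMap Λ T) (w r ()) = rel r) :
    Nonempty (((Unit → MvPolynomial σ T) ⧸ KT w (MvPolynomial σ T)) ≃ₗ[MvPolynomial σ T]
      (MvPolynomial σ T ⧸ Ideal.span (Set.range rel))) := by
  refine ⟨Submodule.Quotient.equiv (KT w (MvPolynomial σ T)) (Ideal.span (Set.range rel))
    (LinearEquiv.funUnique Unit (MvPolynomial σ T) (MvPolynomial σ T)) ?_⟩
  rw [KT, WT, Fintype.range_linearCombination, Submodule.map_span, ← Set.range_comp]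
  congr 2
  funext r
  change wT w (MvPolynomial σ T) r () = rel r
  rw [← h r, wT, MvPolynomial.algebraMap_def]

end CyclicModel

section FlatModel

/-- **Noetherian approximation of a flat finitely presented algebra.** -/
theorem exists_flat_model (R B : Type u) [CommRing R] [CommRing B] [Algebra R B]
    [Algebra.FinitePresentation R B] [Module.Flat R B] :
    ∃ (R₀ B₀ : Type u) (_ : CommRing R₀) (_ : CommRing B₀) (_ : Algebra R₀ R)
      (_ : Algebra R₀ B₀), Algebra.FiniteType ℤ R₀ ∧ Algebra.FinitePresentation R₀ B₀ ∧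
        Module.Flat R₀ B₀ ∧ Nonempty (R ⊗[R₀] B₀ ≃ₐ[R] B) := by
  classical
  let P := Algebra.Presentation.ofFinitePresentation R B
  let Λ := P.Core
  haveI : IsNoetherianRing Λ := Algebra.FiniteType.isNoetherianRing ℤ Λ
  let w : Fin (Algebra.Presentation.ofFinitePresentationRels R B) → Unit →
      MvPolynomial (Fin (Algebra.Presentation.ofFinitePresentationVars R B)) Λ :=
    fun r _ => P.relationOfHasCoeffs Λ r
  -- the model over `R` is `B`
  obtain ⟨e₁⟩ := nonempty_model_equiv_quotient (T := R) w P.relation
    (fun r => P.map_relationOfHasCoeffs Λ r)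
  have hflatR : Module.Flat R
      ((Unit → MvPolynomial (Fin (Algebra.Presentation.ofFinitePresentationVars R B)) R) ⧸
        KT w (MvPolynomial (Fin (Algebra.Presentation.ofFinitePresentationVars R B)) R)) := by
    have e₂ : (MvPolynomial (Fin (Algebra.Presentation.ofFinitePresentationVars R B)) R ⧸
        Ideal.span (Set.range P.relation)) ≃ₗ[R] B :=
      ((Submodule.quotEquivOfEq _ _ P.span_range_relation_eq_ker).restrictScalars R) ≪≫ₗ
        (P.quotientEquiv.restrictScalars R).toLinearEquiv
    exact Module.Flat.of_linearEquiv ((e₁.restrictScalars R) ≪≫ₗ e₂)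
  obtain ⟨A, hAfg, -, hAflat⟩ := exists_fg_subalgebra_flat_global w hflatR ∅
  haveI : P.HasCoeffs A := Algebra.Presentation.HasCoeffs.of_isScalarTower Λ
  haveI : Algebra.FiniteType Λ A := (Subalgebra.fg_iff_finiteType A).mp hAfg
  refine ⟨A, P.ModelOfHasCoeffs A, inferInstance, inferInstance, inferInstance, inferInstance,
    Algebra.FiniteType.trans (S := Λ) inferInstance inferInstance, inferInstance, ?_,
    ⟨P.tensorModelOfHasCoeffsEquiv A⟩⟩
  obtain ⟨e₃⟩ := nonempty_model_equiv_quotient (T := A) w (P.relationOfHasCoeffs A) (by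
    intro r
    apply MvPolynomial.map_injective (algebraMap A R) Subtype.val_injective
    rw [MvPolynomial.map_map, P.map_relationOfHasCoeffs A r]
    exact P.map_relationOfHasCoeffs Λ r)
  exact Module.Flat.of_linearEquiv (e₃.restrictScalars A).symm

end FlatModel

end Groth.Agent.Lib.Helper3.FlatOpen
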