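import Groth.Agent.Lib.Helper5KzPres

/-!
# Local complete intersection ring maps are local on the target ring (helper5)

* `kr_at_of_away`: the Koszul-regular-ideal condition at a prime `p` can be checked after localizing away from
  some `g ∉ p`.
* `kr_map_adjoinRoot`: if `S_{α g}` is LCI over `R` for a presentation `α : R[x] → S`, then `ker α` becomes a
  Koszul-regular ideal of `R[x]_g`.
* `isLCI_of_span`: LCI is local on the target.
-/

set_option autoImplicit false
set_option linter.style.haveILetI false
universe u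

namespace Groth.Agent.Lib.Helper5.KzLocal

open Groth.Agent.Lib.Helper5.KzComp Groth.Agent.Lib.Helper5.KzPerm
open Groth.Agent.Lib.Helper5.KindFlat Groth.Agent.Lib.Helper5.KzIdeal
open Groth.Agent.Lib.Helper5.KzExch Groth.Agent.Lib.Helper5.KzPres
open Groth.Agent.Helper13Kz Groth.Agent.Helper13KzLift

section Away

variable {A : Type u} [CommRing A]

theorem kr_at_of_away (I p : Ideal A) [hp : p.IsPrime] (hIp : I ≤ p) (g : A) (hg : g ∉ p)
    (A' : Type u) [CommRing A'] [Algebra A A'] [IsLocalization.Away g A']
    (h : KR (I.map (algebraMap A A'))) :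
    ∃ g' : A, g' ∉ p ∧ ∃ (R' : Type u) (_ : CommRing R') (_ : Algebra A R')
      (_ : IsLocalization.Away g' R') (l : List R'),
      LCI.IsKoszulRegularSeq R' l ∧ I.map (algebraMap A R') = Ideal.ofList l := by
  have hdisj : Disjoint ((Submonoid.powers g : Submonoid A) : Set A) (p : Set A) := by
    rw [Set.disjoint_left]
    rintro _ ⟨n, rfl⟩ hn
    exact hg (hp.mem_of_pow_mem n hn)
  have hp' : (p.map (algebraMap A A')).IsPrime :=
    IsLocalization.isPrime_of_isPrime_disjoint (Submonoid.powers g) A' p hp hdisj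
  obtain ⟨h', hh', R', _, _, hloc, l, hl, hIl⟩ := h (p.map (algebraMap A A')) hp'
    (Ideal.map_mono hIp)
  haveI := hloc
  obtain ⟨n, a, ha⟩ := IsLocalization.Away.surj g h'
  have hunit : IsUnit (algebraMap A A' g ^ n) := (IsLocalization.Away.algebraMap_isUnit g).pow n
  have hap : a ∉ p := by
    intro hmem
    apply hh'
    have h1 : algebraMap A A' a ∈ p.map (algebraMap A A') := Ideal.mem_map_of_mem _ hmem
    rw [← ha] at h1
    exact (Ideal.mul_unit_mem_iff_mem _ hunit).mp h1
  letI : Algebra A R' := ((algebraMap A' R').comp (algebraMap A A')).toAlgebra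
  haveI : IsScalarTower A A' R' := IsScalarTower.of_algebraMap_eq (fun _ => rfl)
  have hassoc : Associated (algebraMap A A' a) h' := by
    obtain ⟨v, hv⟩ := hunit
    have h1 : Associated h' (algebraMap A A' a) := ⟨v, by rw [hv, ha]⟩
    exact h1.symm
  haveI : IsLocalization.Away (g * a) R' :=
    IsLocalization.Away.mul_of_associated (S := A') g a h' hassoc
  refine ⟨g * a, ?_, R', inferInstance, inferInstance, inferInstance, l, hl, ?_⟩
  · intro hmem
    rcases hp.mem_or_mem hmem with h1 | h1
    · exact hg h1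
    · exact hap h1
  · rw [IsScalarTower.algebraMap_eq A A' R', ← Ideal.map_map, hIl]

end Away

section Poly

open Polynomial

variable {P : Type u} [CommRing P]

theorem isSMulRegular_CX_sub_one (a : P) : IsSMulRegular (Polynomial P) (C a * X - 1) := by
  have key : ∀ q : Polynomial P, (C a * X - 1) * q = 0 → q = 0 := by
    intro q hq
    have hk : ∀ k, q.coeff k = 0 := by
      intro k
      induction k with
      | zero =>
        have := congrArg (fun r => r.coeff 0) hq
        simp only [sub_mul, mul_assoc, one_mul, coeff_sub, coeff_C_mul, coeff_X_mul_zero, mul_zero,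
          zero_sub, coeff_zero, neg_eq_zero] at this
        exact this
      | succ k ih =>
        have := congrArg (fun r => r.coeff (k + 1)) hq
        simp only [sub_mul, mul_assoc, one_mul, coeff_sub, coeff_C_mul, coeff_X_mul, ih, mul_zero,
          zero_sub, coeff_zero, neg_eq_zero] at this
        exact this
    exact Polynomial.ext (by simpa using hk)
  intro q₁ q₂ h
  have h0 : (C a * X - 1) * (q₁ - q₂) = 0 := by
    rw [mul_sub]
    exact sub_eq_zero.mpr h
  exact sub_eq_zero.mp (key _ h0)

theorem isKoszulRegularSeq_singleton {T : Type u} [CommRing T] (f : T) (hf : IsSMulRegular T f) :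
    LCI.IsKoszulRegularSeq T [f] := by
  rw [isKoszulRegularSeq_iff]
  intro i hi
  have hw : RingTheory.Sequence.IsWeaklyRegular T [f] :=
    (RingTheory.Sequence.isWeaklyRegular_cons_iff T f []).mpr
      ⟨hf, RingTheory.Sequence.IsWeaklyRegular.nil _ _⟩
  exact ModuleCat.subsingleton_of_isZero
    (isZero_KH_of_weaklyRegular _ (ModuleCat.of T T) hw i hi)

/-- `Q ↦ ρ(Q') · ρ(X)` on `P[X]`, for `ρ : P[X] → P[X]/(aX - 1)` -/
noncomputable def DA (a : P) : Polynomial P →+ AdjoinRoot (C a * X - 1 : Polynomial P) where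
  toFun Q := AdjoinRoot.mk (C a * X - 1) (derivative Q) * AdjoinRoot.mk (C a * X - 1) X
  map_zero' := by simp
  map_add' q₁ q₂ := by
    simp only [map_add]
    ring

theorem mk_Ca_mul_X (a : P) :
    AdjoinRoot.mk (C a * X - 1 : Polynomial P) (C a) * AdjoinRoot.mk (C a * X - 1) X = 1 := by
  have h : AdjoinRoot.mk (C a * X - 1 : Polynomial P) (C a * X - 1) = 0 := AdjoinRoot.mk_self
  rw [map_sub, map_mul, map_one, sub_eq_zero] at h
  exact h

/-- descent from `P[X]` to `P_a = P[X]/(aX - 1)` -/
theorem kr_of_kr_comap_adjoinRoot (a : P) (I : Ideal (AdjoinRoot (C a * X - 1 : Polynomial P)))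
    (hK : KR (I.comap (AdjoinRoot.mk (C a * X - 1 : Polynomial P)))) : KR I := by
  refine kr_of_kr_comap (AdjoinRoot.mk (C a * X - 1 : Polynomial P)) AdjoinRoot.mk_surjective
    (fun _ : Fin 1 => (C a * X - 1 : Polynomial P)) ?_ ?_ (fun _ => DA a) ?_ ?_ I hK
  · have : List.ofFn (fun _ : Fin 1 => (C a * X - 1 : Polynomial P)) = [C a * X - 1] := by
      simp
    rw [this]
    exact isKoszulRegularSeq_singleton _ (isSMulRegular_CX_sub_one a)
  · have : Set.range (fun _ : Fin 1 => (C a * X - 1 : Polynomial P)) = {C a * X - 1} := by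
      ext x
      simp
    rw [this]
    exact Ideal.mk_ker
  · intro _ q₁ q₂
    show AdjoinRoot.mk _ (derivative (q₁ * q₂)) * AdjoinRoot.mk _ X =
      AdjoinRoot.mk _ q₁ * (AdjoinRoot.mk _ (derivative q₂) * AdjoinRoot.mk _ X) +
        (AdjoinRoot.mk _ (derivative q₁) * AdjoinRoot.mk _ X) * AdjoinRoot.mk _ q₂
    rw [derivative_mul, map_add, map_mul, map_mul]
    ring
  · intro i j
    rw [if_pos (Subsingleton.elim i j)]
    show AdjoinRoot.mk _ (derivative (C a * X - 1 : Polynomial P)) * AdjoinRoot.mk _ X = 1
    rw [derivative_sub, derivative_one, sub_zero, derivative_C_mul, derivative_X, mul_one]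
    exact mk_Ca_mul_X a

end Poly

section Main

open MvPolynomial

variable (R S : Type u) [CommRing R] [CommRing S] [Algebra R S]

set_option maxHeartbeats 1600000 in
/-- if `S_{α g}` is LCI over `R`, the kernel of the presentation `α` becomes Koszul-regular in `R[x]_g`. -/
theorem kr_map_adjoinRoot {n : ℕ} (α : MvPolynomial (Fin n) R →ₐ[R] S)
    (hα : Function.Surjective α) (gt : MvPolynomial (Fin n) R)
    (S' : Type u) [CommRing S'] [Algebra S S'] [Algebra R S'] [IsScalarTower R S S']
    [IsLocalization.Away (α gt) S'] (hlci : LCI.IsLCI R S') :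
    KR ((RingHom.ker α.toRingHom).map (algebraMap (MvPolynomial (Fin n) R)
      (AdjoinRoot (Polynomial.C gt * Polynomial.X - 1 : Polynomial (MvPolynomial (Fin n) R))))) := by
  haveI : IsLocalization.Away gt
      (AdjoinRoot (Polynomial.C gt * Polynomial.X - 1 : Polynomial (MvPolynomial (Fin n) R))) :=
    IsLocalization.adjoin_inv gt
  haveI : IsLocalization.Away (α.toRingHom gt) S' := ‹IsLocalization.Away (α gt) S'›
  apply kr_of_kr_comap_adjoinRoot
  -- the localized presentation
  let P' := AdjoinRoot (Polynomial.C gt * Polynomial.X - 1 : Polynomial (MvPolynomial (Fin n) R))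
  let α' : P' →+* S' := IsLocalization.Away.map P' S' α.toRingHom gt
  have hα' : Function.Surjective α' := away_map_surjective α.toRingHom hα gt P' S'
  have hkα' : RingHom.ker α' = (RingHom.ker α.toRingHom).map
      (algebraMap (MvPolynomial (Fin n) R) P') := away_map_ker α.toRingHom gt P' S'
  let ρ : Polynomial (MvPolynomial (Fin n) R) →+* P' :=
    AdjoinRoot.mk (Polynomial.C gt * Polynomial.X - 1)
  let e := MvPolynomial.finSuccEquiv R n
  -- the presentation of `S'` over `R`
  let β : MvPolynomial (Fin (n + 1)) R →ₐ[R] S' :=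
    { toRingHom := (α'.comp ρ).comp (e : MvPolynomial (Fin (n + 1)) R →+* _)
      commutes' := by
        intro r
        show α' (ρ (e (algebraMap R _ r))) = _
        rw [AlgEquiv.commutes]
        show α' (ρ (Polynomial.C (MvPolynomial.C r))) = _
        have h1 : ρ (Polynomial.C (MvPolynomial.C r)) =
            algebraMap (MvPolynomial (Fin n) R) P' (MvPolynomial.C r) := rfl
        rw [h1, away_map_algebraMap]
        show algebraMap S S' (α (MvPolynomial.C r)) = _
        rw [MvPolynomial.algHom_C, ← IsScalarTower.algebraMap_apply] }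
  have hβ : Function.Surjective β := by
    intro z
    obtain ⟨y, rfl⟩ := hα' z
    obtain ⟨q, rfl⟩ := AdjoinRoot.mk_surjective y
    exact ⟨e.symm q, by
      show α' (ρ (e (e.symm q))) = _
      rw [AlgEquiv.apply_symm_apply]⟩
  obtain ⟨-, n', f', hf', hKf'⟩ := hlci
  have h1 := Groth.Agent.Lib.Helper5.KzPres.main R S' n' (n + 1) f' hf' β hβ hKf'
  rw [kr_iff] at h1
  have h2 := kr_comap_ringEquiv e.symm.toRingEquiv _ h1
  have h3 : (RingHom.ker β.toRingHom).comap (e.symm.toRingEquiv : _ →+* _) =
      ((RingHom.ker α.toRingHom).map (algebraMap (MvPolynomial (Fin n) R) P')).comap ρ := by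
    have hcomp : β.toRingHom.comp (e.symm.toRingEquiv : _ →+* _) = α'.comp ρ := by
      apply RingHom.ext
      intro q
      show α' (ρ (e (e.symm q))) = α' (ρ q)
      rw [AlgEquiv.apply_symm_apply]
    rw [← hkα', RingHom.comap_ker, RingHom.comap_ker, hcomp]
  rw [h3] at h2
  exact h2

theorem isLCI_of_span (m : ℕ) (g : Fin m → S) (hg : Ideal.span (Set.range g) = ⊤)
    (h : ∀ j, LCI.IsLCI R (Localization.Away (g j))) : LCI.IsLCI R S := by
  have hft : Algebra.FiniteType R S := by
    refine Algebra.FiniteType.of_span_eq_top_target (Set.range g) hg ?_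
    rintro _ ⟨j, rfl⟩
    exact (h j).1
  obtain ⟨n, α, hα⟩ := Algebra.FiniteType.iff_quotient_mvPolynomial''.mp hft
  refine ⟨hft, n, α, hα, ?_⟩
  rw [kr_iff]
  intro p hp hIp
  haveI := hp
  have hp' : (p.map α.toRingHom).IsPrime := Ideal.map_isPrime_of_surjective hα hIp
  have hex : ∃ j, g j ∉ p.map α.toRingHom := by
    by_contra hall
    push Not at hall
    have : Ideal.span (Set.range g) ≤ p.map α.toRingHom := by
      rw [Ideal.span_le]
      rintro _ ⟨j, rfl⟩
      exact hall j
    rw [hg] at this
    exact hp'.ne_top (top_le_iff.mp this)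
  obtain ⟨j, hj⟩ := hex
  obtain ⟨gt, hgt⟩ := hα (g j)
  have hgtp : gt ∉ p := by
    intro hmem
    apply hj
    rw [← hgt]
    exact Ideal.mem_map_of_mem α.toRingHom hmem
  haveI : IsLocalization.Away (α gt) (Localization.Away (g j)) := by
    rw [hgt]
    infer_instance
  haveI : IsLocalization.Away gt
      (AdjoinRoot (Polynomial.C gt * Polynomial.X - 1 : Polynomial (MvPolynomial (Fin n) R))) :=
    IsLocalization.adjoin_inv gt
  exact kr_at_of_away _ p hIp gt hgtp _
    (kr_map_adjoinRoot R S α hα gt (Localization.Away (g j)) (h j))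

end Main

end Groth.Agent.Lib.Helper5.KzLocal
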