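import Mathlib
import Groth.Prelude.Def_DerCA
import Groth.Agent.Lib.Helper1Restrict

set_option autoImplicit false
set_option maxHeartbeats 400000
universe u
open CategoryTheory CategoryTheory.Limits
attribute [local instance] HasDerivedCategory.standard

namespace Groth.Agent.Lib.Helper1.RelPC

open DerivedCategory Pretriangulated Groth.Agent.Lib.Helper1.Cone Groth.Agent.S7017
open Groth.Agent.S14388 ZeroObject Groth.Agent.Lib.Helper1.PC Groth.Agent.Lib.Helper1.PCTower
open Groth.Agent.Lib.Helper1.Restrict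

section Comp

variable {A B C : Type u} [CommRing A] [CommRing B] [CommRing C] (φ : A →+* B) (ψ : B →+* C)

/-- restriction of scalars of complexes is compatible with composition -/
noncomputable def restrictCxCompIso (E : DRing.Cx C) :
    (DRing.restrictCx φ).obj ((DRing.restrictCx ψ).obj E) ≅ (DRing.restrictCx (ψ.comp φ)).obj E :=
  HomologicalComplex.Hom.isoOfComponents
    (fun i => (ModuleCat.restrictScalarsComp'App φ ψ (ψ.comp φ) rfl (E.X i)).symm)
    (fun i j _ => by rfl)

/-- restriction of scalars on derived categories is compatible with composition (objectwise) -/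
noncomputable def restrictDCompIso (K : Dual.D C) :
    (DRing.restrictD φ).obj ((DRing.restrictD ψ).obj K) ≅ (DRing.restrictD (ψ.comp φ)).obj K :=
  let E : DRing.Cx C := Q.objPreimage K
  let e : Q.obj E ≅ K := Q.objObjPreimageIso K
  (DRing.restrictD φ).mapIso ((DRing.restrictD ψ).mapIso e.symm ≪≫ restrictQIso ψ E) ≪≫
    restrictQIso φ _ ≪≫ Q.mapIso (restrictCxCompIso φ ψ E) ≪≫ (restrictQIso (ψ.comp φ) E).symm ≪≫
    (DRing.restrictD (ψ.comp φ)).mapIso e

lemma isPC_restrictD_comp_iff (K : Dual.D C) (m : ℤ) :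
    DRing.IsPseudoCoherent A m ((DRing.restrictD φ).obj ((DRing.restrictD ψ).obj K)) ↔
      DRing.IsPseudoCoherent A m ((DRing.restrictD (ψ.comp φ)).obj K) :=
  ⟨fun h => isPC_of_iso (restrictDCompIso φ ψ K) h,
    fun h => isPC_of_iso (restrictDCompIso φ ψ K).symm h⟩

lemma bpc_comp (hφ : BPC φ) (hψ : BPC ψ) : BPC (ψ.comp φ) := by
  intro j
  have h1 : DRing.IsPseudoCoherent A j ((DRing.restrictD φ).obj ((G ψ).obj (ModuleCat.of C C))) :=
    isPC_restrictD φ hφ _ j (hψ j)
  refine isPC_of_iso ?_ h1
  exact restrictDSingleIso φ _ 0 ≪≫ (DerivedCategory.singleFunctor (ModuleCat.{u} A) 0).mapIso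
    (ModuleCat.restrictScalarsComp'App φ ψ (ψ.comp φ) rfl (ModuleCat.of C C)).symm

lemma bpc_of_bijective (hφ : Function.Bijective φ) : BPC φ := by
  intro j
  let e : A ≃ₗ[A] ((ModuleCat.restrictScalars.{u} φ).obj (ModuleCat.of B B)) :=
    { toFun := fun a => (φ a : B)
      map_add' := fun a b => map_add φ a b
      map_smul' := fun a b => by
        show φ (a * b) = φ a * φ b
        exact map_mul φ a b
      invFun := fun b => (Equiv.ofBijective φ hφ).symm b
      left_inv := fun a => (Equiv.ofBijective φ hφ).symm_apply_apply a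
      right_inv := fun b => (Equiv.ofBijective φ hφ).apply_symm_apply b }
  have hF : FF ((ModuleCat.restrictScalars.{u} φ).obj (ModuleCat.of B B)) :=
    ⟨Module.Finite.equiv e, Module.Free.of_equiv e⟩
  exact isPC_of_rep j (rep_single _ hF 0)

end Comp

section Eval

variable (P : Type u) [CommRing P]

lemma FF_self (A : Type u) [CommRing A] : FF (ModuleCat.of A A) :=
  ⟨inferInstanceAs (Module.Finite A A), inferInstanceAs (Module.Free A A)⟩

open Polynomial in
lemma bpc_eval (f : P) : BPC (Polynomial.evalRingHom f) := by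
  intro j
  let φ : P[X] →+* P := Polynomial.evalRingHom f
  let M : ModuleCat.{u} P[X] := (ModuleCat.restrictScalars.{u} φ).obj (ModuleCat.of P P)
  let ev : P[X] → P := fun p => Polynomial.eval f p
  let g₀ : P[X] →ₗ[P[X]] M :=
    { toFun := ev
      map_add' := fun p q => by
        show Polynomial.eval f (p + q) = Polynomial.eval f p + Polynomial.eval f q
        exact Polynomial.eval_add
      map_smul' := fun q p => by
        show Polynomial.eval f (q * p) = Polynomial.eval f q * Polynomial.eval f p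
        exact Polynomial.eval_mul }
  let f₀ : P[X] →ₗ[P[X]] P[X] := LinearMap.mulLeft P[X] (X - C f)
  have w : ModuleCat.ofHom f₀ ≫ ModuleCat.ofHom g₀ = 0 := by
    ext
    show Polynomial.eval f ((X - C f) * 1) = 0
    simp
  let S : ShortComplex (ModuleCat.{u} P[X]) := ShortComplex.mk (ModuleCat.ofHom f₀) (ModuleCat.ofHom g₀) w
  have hS : S.ShortExact := by
    refine ShortComplex.ShortExact.mk' ?_ ?_ ?_
    · rw [ShortComplex.moduleCat_exact_iff]
      intro (p : P[X]) hp
      have hp' : Polynomial.eval f p = 0 := hp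
      obtain ⟨q, hq⟩ := Polynomial.dvd_iff_isRoot.2 hp'
      exact ⟨q, hq.symm⟩
    · rw [ModuleCat.mono_iff_injective]
      intro (p : P[X]) (q : P[X]) hpq
      have hpq' : (X - C f) * p = (X - C f) * q := hpq
      have h0 : (X - C f) * (p - q) = 0 := by rw [mul_sub, hpq', sub_self]
      have := (Polynomial.monic_X_sub_C f).mul_right_eq_zero_iff.1 h0
      exact sub_eq_zero.1 this
    · rw [ModuleCat.epi_iff_surjective]
      intro (y : P)
      exact ⟨(C y : P[X]), (Polynomial.eval_C : Polynomial.eval f (C y) = y)⟩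
  have hT := hS.singleTriangle_distinguished
  have h1 : DRing.IsPseudoCoherent P[X] (j + 1)
      ((singleFunctor (ModuleCat.{u} P[X]) 0).obj (ModuleCat.of P[X] P[X])) :=
    isPC_of_rep _ (rep_single _ (FF_self P[X]) 0)
  have h2 : DRing.IsPseudoCoherent P[X] j
      ((singleFunctor (ModuleCat.{u} P[X]) 0).obj (ModuleCat.of P[X] P[X])) :=
    isPC_of_rep _ (rep_single _ (FF_self P[X]) 0)
  exact isPC_obj₃ _ hT j h1 h2

lemma bpc_mvEval : ∀ (k : ℕ) (P : Type u) [CommRing P] (f : Fin k → P),
    BPC (MvPolynomial.eval f : MvPolynomial (Fin k) P →+* P) := by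
  intro k
  induction k with
  | zero =>
    intro P _ f
    refine bpc_of_bijective _ ⟨?_, ?_⟩
    · intro p q hpq
      obtain ⟨a, rfl⟩ := MvPolynomial.C_surjective (R := P) (Fin 0) p
      obtain ⟨b, rfl⟩ := MvPolynomial.C_surjective (R := P) (Fin 0) q
      simp only [MvPolynomial.eval_C] at hpq
      rw [hpq]
    · intro y
      exact ⟨MvPolynomial.C y, MvPolynomial.eval_C _⟩
  | succ k ih =>
    intro P _ f
    let e : MvPolynomial (Fin (k + 1)) P →+* Polynomial (MvPolynomial (Fin k) P) :=
      (MvPolynomial.finSuccEquiv P k).toRingEquiv.toRingHom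
    let ev1 : Polynomial (MvPolynomial (Fin k) P) →+* MvPolynomial (Fin k) P :=
      Polynomial.evalRingHom (MvPolynomial.C (f 0))
    let ev2 : MvPolynomial (Fin k) P →+* P := MvPolynomial.eval (Fin.tail f)
    have hfac : (MvPolynomial.eval f : MvPolynomial (Fin (k + 1)) P →+* P) =
        ev2.comp (ev1.comp e) := by
      refine MvPolynomial.ringHom_ext (fun r => ?_) (fun i => ?_)
      · simp [e, ev1, ev2, MvPolynomial.finSuccEquiv_apply]
      · refine Fin.cases ?_ (fun i => ?_) i
        · simp [e, ev1, ev2, MvPolynomial.finSuccEquiv_X_zero]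
        · simp [e, ev1, ev2, MvPolynomial.finSuccEquiv_X_succ, Fin.tail]
    rw [hfac]
    refine bpc_comp _ _ (bpc_comp _ _ (bpc_of_bijective _ ?_) (bpc_eval _ _)) (ih P (Fin.tail f))
    exact (MvPolynomial.finSuccEquiv P k).toRingEquiv.bijective

end Eval

section Main

variable {R A : Type u} [CommRing R] [CommRing A]

lemma isPC_restrictD_eval₂_iff {P : Type u} [CommRing P] (α : P →+* A) (hα : Function.Surjective α)
    {k : ℕ} (b : Fin k → A) (K : Dual.D A) (m : ℤ) :
    DRing.IsPseudoCoherent P m ((DRing.restrictD α).obj K) ↔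
      DRing.IsPseudoCoherent (MvPolynomial (Fin k) P) m
        ((DRing.restrictD (MvPolynomial.eval₂Hom α b)).obj K) := by
  choose f hf using fun j => hα (b j)
  have hcomp : α.comp (MvPolynomial.eval f : MvPolynomial (Fin k) P →+* P) =
      MvPolynomial.eval₂Hom α b := by
    refine MvPolynomial.ringHom_ext (fun r => ?_) (fun i => ?_)
    · simp
    · simp [hf]
  rw [← hcomp, ← isPC_restrictD_comp_iff]
  exact isPC_restrictD_iff _ (bpc_mvEval k P f) _ m

variable [Algebra R A]

theorem via_iff {n k : ℕ} (α : MvPolynomial (Fin n) R →ₐ[R] A) (hα : Function.Surjective α)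
    (β : MvPolynomial (Fin k) R →ₐ[R] A) (hβ : Function.Surjective β) (K : Dual.D A) (m : ℤ) :
    DerCA.IsRelPseudoCoherentVia α m K ↔ DerCA.IsRelPseudoCoherentVia β m K := by
  unfold DerCA.IsRelPseudoCoherentVia
  let α' : MvPolynomial (Fin n) R →+* A := α
  let β' : MvPolynomial (Fin k) R →+* A := β
  let γ₁ : MvPolynomial (Fin k) (MvPolynomial (Fin n) R) →+* A :=
    MvPolynomial.eval₂Hom α' (fun j => β (MvPolynomial.X j))
  let γ₂ : MvPolynomial (Fin n) (MvPolynomial (Fin k) R) →+* A :=
    MvPolynomial.eval₂Hom β' (fun i => α (MvPolynomial.X i))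
  let σ : MvPolynomial (Fin k) (MvPolynomial (Fin n) R) →+*
      MvPolynomial (Fin n) (MvPolynomial (Fin k) R) :=
    (MvPolynomial.commAlgEquiv R (Fin k) (Fin n)).toRingEquiv.toRingHom
  have hσ : γ₂.comp σ = γ₁ := by
    refine MvPolynomial.ringHom_ext (fun p => ?_) (fun j => ?_)
    · have : (γ₂.comp σ).comp MvPolynomial.C = α' := by
        refine MvPolynomial.ringHom_ext (fun r => ?_) (fun i => ?_)
        · simp [γ₂, σ, α', β']
        · simp [γ₂, σ, α', β']
      have h2 := DFunLike.congr_fun this p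
      simpa [γ₁] using h2
    · simp [γ₂, σ, γ₁, β']
  have h1 := isPC_restrictD_eval₂_iff α' hα (fun j => β (MvPolynomial.X j)) K m
  have h2 := isPC_restrictD_eval₂_iff β' hβ (fun i => α (MvPolynomial.X i)) K m
  have h3 := isPC_restrictD_iff σ (bpc_of_bijective σ
    (MvPolynomial.commAlgEquiv R (Fin k) (Fin n)).toRingEquiv.bijective) ((DRing.restrictD γ₂).obj K) m
  rw [isPC_restrictD_comp_iff, hσ] at h3
  exact h1.trans (h3.symm.trans h2.symm)

end Main

end Groth.Agent.Lib.Helper1.RelPC

namespace Groth.Agent.Lib.Helper1.RelPC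

section Rel

variable {R A : Type u} [CommRing R] [CommRing A] [Algebra R A]

lemma rel_iff_via {n : ℕ} (α : MvPolynomial (Fin n) R →ₐ[R] A) (hα : Function.Surjective α)
    (K : Dual.D A) (m : ℤ) :
    DerCA.IsRelPseudoCoherent R A m K ↔ DerCA.IsRelPseudoCoherentVia α m K :=
  ⟨fun ⟨_, β, hβ, h⟩ => (via_iff β hβ α hα K m).1 h, fun h => ⟨n, α, hα, h⟩⟩

lemma exists_presentation (R A : Type u) [CommRing R] [CommRing A] [Algebra R A]
    [Algebra.FiniteType R A] :
    ∃ (n : ℕ) (α : MvPolynomial (Fin n) R →ₐ[R] A), Function.Surjective α :=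
  Algebra.FiniteType.iff_quotient_mvPolynomial''.1 inferInstance

end Rel

end Groth.Agent.Lib.Helper1.RelPC
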