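import Mathlib
import Groth.Agent.Lib.Helper1RelPC
import Groth.Agent.Lib.Helper1Extend

set_option autoImplicit false
set_option maxHeartbeats 400000
universe u
open CategoryTheory CategoryTheory.Limits
attribute [local instance] HasDerivedCategory.standard

namespace Groth.Agent.Lib.Helper1.RelPC

open DerivedCategory Pretriangulated Groth.Agent.Lib.Helper1.Cone Groth.Agent.S7017
open Groth.Agent.S14388 ZeroObject Groth.Agent.Lib.Helper1.PC Groth.Agent.Lib.Helper1.PCTower
open Groth.Agent.Lib.Helper1.Restrict Groth.Agent.Lib.Helper1.Extend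

section BaseChange

lemma pc'_of_iso {A : Type u} [CommRing A] {K K' : Dual.D A} (e : K ≅ K')
    (h : DRing.IsPseudoCoherent' A K) : DRing.IsPseudoCoherent' A K' := by
  obtain ⟨E, b, hE, hff, ⟨e'⟩⟩ := h
  exact ⟨E, b, hE, hff, ⟨e' ≪≫ e⟩⟩

/-- BPC is `IsPseudoCoherentModule'` for an algebra -/
lemma pcModule'_of_bpc {A B : Type u} [CommRing A] [CommRing B] [Algebra A B]
    (h : BPC (algebraMap A B)) : DRing.IsPseudoCoherentModule' A B := by
  refine isPseudoCoherent'_of_forall _ (fun j => ?_)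
  exact isPC_of_iso ((DerivedCategory.singleFunctor (ModuleCat.{u} A) 0).mapIso
    (restrictScalarsAlgebraIso (A := A) (B := B) B)) (h j)

attribute [local instance] MvPolynomial.algebraMvPolynomial in
lemma bpc_map {P A : Type u} [CommRing P] [CommRing A] (α : P →+* A) (hα : BPC α) (k : ℕ) :
    BPC (MvPolynomial.map α : MvPolynomial (Fin k) P →+* MvPolynomial (Fin k) A) := by
  let _ : Algebra P A := α.toAlgebra
  have h1 : DRing.IsPseudoCoherentModule' P A := pcModule'_of_bpc hα
  have h2 := isPC'_extD (A := P) (B := MvPolynomial (Fin k) P) (Dual.inD P A) h1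
  have h3 := pc'_of_iso (extDInDIso (A := P) (B := MvPolynomial (Fin k) P) A) h2
  have e : TensorProduct P (MvPolynomial (Fin k) P) A ≃ₗ[MvPolynomial (Fin k) P]
      MvPolynomial (Fin k) A :=
    (Algebra.IsPushout.equiv P (MvPolynomial (Fin k) P) A (MvPolynomial (Fin k) A)).toLinearEquiv
  have h4 : DRing.IsPseudoCoherentModule' (MvPolynomial (Fin k) P) (MvPolynomial (Fin k) A) :=
    pc'_of_iso ((DerivedCategory.singleFunctor (ModuleCat.{u} (MvPolynomial (Fin k) P)) 0).mapIso
      e.toModuleIso) h3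
  exact bpc_of_algebra h4

end BaseChange

section TwoStep

variable {R B : Type u} [CommRing R] [CommRing B] [Algebra R B]

/-- `R[z_1..z_{k+n}] ≃ R[x_1..x_n][y_1..y_k]` -/
noncomputable def sumEquiv (R : Type u) [CommRing R] (n k : ℕ) :
    MvPolynomial (Fin (k + n)) R ≃ₐ[R] MvPolynomial (Fin k) (MvPolynomial (Fin n) R) :=
  (MvPolynomial.renameEquiv R finSumFinEquiv.symm).trans (MvPolynomial.sumAlgEquiv R (Fin k) (Fin n))

theorem rel_iff_pc_twoStep {n k : ℕ}
    (γ : MvPolynomial (Fin k) (MvPolynomial (Fin n) R) →+* B)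
    (hγ : ∀ r : R, γ (MvPolynomial.C (MvPolynomial.C r)) = algebraMap R B r)
    (hsurj : Function.Surjective γ) (K : Dual.D B) (m : ℤ) :
    DerCA.IsRelPseudoCoherent R B m K ↔
      DRing.IsPseudoCoherent (MvPolynomial (Fin k) (MvPolynomial (Fin n) R)) m
        ((DRing.restrictD γ).obj K) := by
  let γa : MvPolynomial (Fin k) (MvPolynomial (Fin n) R) →ₐ[R] B :=
    { γ with commutes' := fun r => hγ r }
  let γ' : MvPolynomial (Fin (k + n)) R →ₐ[R] B := γa.comp (sumEquiv R n k).toAlgHom
  have hγ' : Function.Surjective γ' := hsurj.comp (sumEquiv R n k).surjective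
  let σ : MvPolynomial (Fin (k + n)) R →+* MvPolynomial (Fin k) (MvPolynomial (Fin n) R) :=
    (sumEquiv R n k).toRingEquiv.toRingHom
  have hcomp : (γ' : MvPolynomial (Fin (k + n)) R →+* B) = γ.comp σ := rfl
  rw [rel_iff_via γ' hγ']
  unfold DerCA.IsRelPseudoCoherentVia
  rw [hcomp, ← isPC_restrictD_comp_iff]
  exact (isPC_restrictD_iff σ (bpc_of_bijective σ (sumEquiv R n k).toRingEquiv.bijective) _ m).symm

end TwoStep

end Groth.Agent.Lib.Helper1.RelPC
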