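import Groth.Agent.Lib.Helper28SecFiniteB

/-!
# Sections outside codimension ≥ 2 (helper28), part C: quotients of Cohen–Macaulay rings
-/

set_option autoImplicit false
universe u v

namespace Groth.Agent.Lib.Helper28.SecFinite
open Groth.Agent.Lib.Helper28 RingTheory.Sequence
open scoped Pointwise

theorem isCohenMacaulayRing_of_isRegularRing (R : Type u) [CommRing R] [IsRegularRing R] :
    LocCoh.IsCohenMacaulayRing R where
  isCohenMacaulayLocalRing_localization := fun _ _ =>
    Groth.Agent.Lib.Helper5.isCohenMacaulayLocalRing_of_isRegularLocalRing _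

section CMQuot

variable {R : Type u} [CommRing R] [IsNoetherianRing R] (hR : LocCoh.IsCohenMacaulayRing R)
  (rs : List R) (hreg : IsWeaklyRegular R rs)

include hR hreg

/-- depth of the localized quotient by a regular sequence in a CM ring. -/
theorem depth_localization_quot_add_length (P : Ideal R) [P.IsPrime] (hmem : ∀ r ∈ rs, r ∈ P) :
    LocCoh.depth (Localization.AtPrime P)
        (LocalizedModule P.primeCompl (R ⧸ (Ideal.ofList rs • ⊤ : Submodule R R))) + rs.length =
      P.height := by
  have hnt : Nontrivial (LocalizedModule P.primeCompl R) :=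
    (localizedModuleSelfEquiv P).toEquiv.nontrivial
  obtain ⟨h1, -⟩ := localization_quot_ofList_add_length (M := R) P rs hreg hmem
  rw [h1, depth_localizedModule_self]
  have h := (hR.isCohenMacaulayLocalRing_localization P).supportDim_eq_depth
  rw [supportDim_localization_self] at h
  exact (WithBot.coe_injective h).symm

/-- associated primes of the quotient have height the length of the sequence. -/
theorem height_eq_of_mem_associatedPrimes (P : Ideal R)
    (hP : P ∈ associatedPrimes R (R ⧸ (Ideal.ofList rs • ⊤ : Submodule R R)))
    (hmem : ∀ r ∈ rs, r ∈ P) : P.height = rs.length := by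
  have hPp : P.IsPrime := hP.isPrime
  have h := depth_localization_quot_add_length hR rs hreg P hmem
  rw [(depth_localization_eq_zero_iff P).mpr hP, zero_add] at h
  exact h.symm

/-- a prime of height the length of the sequence containing it is associated. -/
theorem mem_associatedPrimes_of_height_eq (Q : Ideal R) [Q.IsPrime]
    (hmem : ∀ r ∈ rs, r ∈ Q) (hQ : Q.height = rs.length) :
    Q ∈ associatedPrimes R (R ⧸ (Ideal.ofList rs • ⊤ : Submodule R R)) := by
  have h := depth_localization_quot_add_length hR rs hreg Q hmem
  rw [hQ] at h
  have h0 : LocCoh.depth (Localization.AtPrime Q)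
      (LocalizedModule Q.primeCompl (R ⧸ (Ideal.ofList rs • ⊤ : Submodule R R))) = 0 := by
    have : LocCoh.depth (Localization.AtPrime Q)
      (LocalizedModule Q.primeCompl (R ⧸ (Ideal.ofList rs • ⊤ : Submodule R R))) + rs.length =
        0 + rs.length := by rw [h, zero_add]
    exact (ENat.add_left_injective_of_ne_top (ENat.natCast_ne_top _)) this
  exact (depth_localization_eq_zero_iff Q).mp h0

/-- depth of the quotient along an ideal of big height. -/
theorem two_le_idealDepth_quot (I : Ideal R) (hmem : ∀ r ∈ rs, r ∈ I)
    (hI : (rs.length : ℕ∞) + 2 ≤ I.height) :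
    2 ≤ LocCoh.idealDepth I (R ⧸ (Ideal.ofList rs • ⊤ : Submodule R R)) := by
  by_cases hItop : I = ⊤
  · rw [idealDepth_eq_top_of_smul_top_eq_top]
    · exact le_top
    · rw [hItop, Submodule.top_smul]
  have hIM : I • (⊤ : Submodule R R) ≠ ⊤ := by
    rw [smul_eq_mul, Ideal.mul_top]; exact hItop
  have h1 := idealDepth_quot_ofList_add_length I R hIM rs hmem hreg
  rw [idealDepth_self_eq_height_of_isCohenMacaulayRing hR I hItop] at h1
  rw [← h1, add_comm] at hI
  exact (ENat.add_le_add_iff_right (ENat.natCast_ne_top _)).mp hI

end CMQuot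

end Groth.Agent.Lib.Helper28.SecFinite
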