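import Mathlib
import Groth.Prelude.Def_Fitting

/-!
# The zeroth Fitting ideal commutes with localization (helper20)

Namespace `Groth.Agent.Lib.Helper20.FittLoc`.

For `S ⊆ A` a submonoid, `A' = S⁻¹A`, `N` a finite `A`-module and `r : N → N'` a localization at `S`:
`Fit_0(N) A' = Fit_0(N')` (`fitt_zero_map_eq`), for the prelude's `Fitt.ideal` (generated by determinants
of square relation matrices over ALL generating tuples).
-/

set_option autoImplicit false
universe u v

namespace Groth.Agent.Lib.Helper20.FittLoc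

section
variable {A : Type u} [CommRing A] (S : Submonoid A) {A' : Type u} [CommRing A'] [Algebra A A']
  [IsLocalization S A']
  {N : Type v} [AddCommGroup N] [Module A N]
  {N' : Type v} [AddCommGroup N'] [Module A N'] [Module A' N'] [IsScalarTower A A' N']
  (r : N →ₗ[A] N') [IsLocalizedModule S r]

/-- finitely many elements killed by the localization map are killed by a common denominator -/
theorem exists_smul_eq_zero_of_finite {ι : Type*} [Finite ι] (x : ι → N) (h : ∀ i, r (x i) = 0) :
    ∃ s : S, ∀ i, (s : A) • x i = 0 := by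
  classical
  cases nonempty_fintype ι
  have h1 : ∀ i, ∃ s : S, s • x i = 0 := fun i => (IsLocalizedModule.eq_zero_iff S r).mp (h i)
  choose t ht using h1
  refine ⟨∏ i, t i, fun i => ?_⟩
  have : ((∏ j, t j : S) : A) = (∏ j ∈ Finset.univ.erase i, (t j : A)) * (t i : A) := by
    rw [Submonoid.coe_finsetProd, Finset.prod_erase_mul _ _ (Finset.mem_univ i)]
  rw [this, mul_smul]
  have h2 : (t i : A) • x i = 0 := ht i
  rw [h2, smul_zero]

include S r in
/-- easy inclusion: `Fit_0(N) A' ⊆ Fit_0(N')` -/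
theorem map_fitt_zero_le :
    Ideal.map (algebraMap A A') (Fitt.ideal A N 0) ≤ Fitt.ideal A' N' 0 := by
  rw [Ideal.map_le_iff_le_comap, Fitt.ideal, Ideal.span_le]
  rintro d ⟨n, x, a, hx, hrel, rfl⟩
  rw [SetLike.mem_coe, Ideal.mem_comap]
  refine Ideal.subset_span ⟨n, r ∘ x, a.map (algebraMap A A'), ?_, ?_, ?_⟩
  · have := span_eq_top_of_isLocalizedModule A' S r hx
    rwa [← Set.range_comp] at this
  · intro i hi
    have h1 := hrel i hi
    have h2 : r (∑ j, a i j • x j) = 0 := by rw [h1, map_zero]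
    rw [map_sum] at h2
    rw [← h2]
    refine Finset.sum_congr rfl fun j _ => ?_
    rw [map_smul, Matrix.map_apply, Function.comp_apply, algebraMap_smul]
  · rw [RingHom.map_det]
    rfl


/-- a block-triangular system of relations gives an element of `Fit_0`. -/
theorem det_mem_fitt_zero_of_blocks {n k : ℕ} (m : Fin n → N) (z : Fin k → N)
    (hz : Submodule.span A (Set.range z) = ⊤)
    (B : Matrix (Fin n) (Fin n) A) (C : Matrix (Fin k) (Fin n) A) (t : A)
    (hB : ∀ i, ∑ j, B i j • m j = 0)
    (hC : ∀ l, t • z l = ∑ j, C l j • m j) :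
    B.det * t ^ k ∈ Fitt.ideal A N 0 := by
  classical
  let e : Fin n ⊕ Fin k ≃ Fin (n + k) := finSumFinEquiv
  let w : Fin n ⊕ Fin k → N := Sum.elim m z
  let Mx : Matrix (Fin n ⊕ Fin k) (Fin n ⊕ Fin k) A :=
    Matrix.fromBlocks B 0 (-C) (t • (1 : Matrix (Fin k) (Fin k) A))
  have hrows : ∀ p, ∑ q, Mx p q • w q = 0 := by
    rintro (i | l)
    · rw [Fintype.sum_sum_type]
      simp only [Mx, w, Matrix.fromBlocks_apply₁₁, Matrix.fromBlocks_apply₁₂, Sum.elim_inl,
        Sum.elim_inr, Matrix.zero_apply, zero_smul, Finset.sum_const_zero, add_zero]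
      exact hB i
    · rw [Fintype.sum_sum_type]
      simp only [Mx, w, Matrix.fromBlocks_apply₂₁, Matrix.fromBlocks_apply₂₂, Sum.elim_inl,
        Sum.elim_inr, Matrix.neg_apply, neg_smul, Finset.sum_neg_distrib, Matrix.smul_apply,
        Matrix.one_apply, smul_eq_mul, mul_ite, mul_one, mul_zero, ite_smul, zero_smul,
        Finset.sum_ite_eq, Finset.mem_univ, if_true]
      rw [hC l, neg_add_cancel]
  have hdet : Mx.det = B.det * t ^ k := by
    rw [Matrix.det_fromBlocks_zero₁₂, Matrix.det_smul, Matrix.det_one, mul_one, Fintype.card_fin]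
  rw [← hdet, ← Matrix.det_reindex_self e Mx]
  refine Ideal.subset_span ⟨n + k, w ∘ e.symm, Matrix.reindex e e Mx, ?_, ?_, rfl⟩
  · rw [Set.range_comp, Set.range_eq_univ.mpr e.symm.surjective, Set.image_univ, eq_top_iff, ← hz]
    apply Submodule.span_mono
    rintro _ ⟨l, rfl⟩
    exact ⟨Sum.inr l, rfl⟩
  · intro i _
    have := hrows (e.symm i)
    rw [← Equiv.sum_comp e.symm] at this
    exact this


include S r in
/-- hard inclusion: `Fit_0(N') ⊆ Fit_0(N) A'` -/
theorem fitt_zero_le_map [Module.Finite A N] :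
    Fitt.ideal A' N' 0 ≤ Ideal.map (algebraMap A A') (Fitt.ideal A N 0) := by
  classical
  rw [Fitt.ideal, Ideal.span_le]
  rintro d ⟨n, y, a', hy, hrel, rfl⟩
  have hrel' : ∀ i, ∑ j, a' i j • y j = 0 := fun i => hrel i (by have := i.2; omega)
  obtain ⟨s₁, hs₁⟩ := IsLocalizedModule.exist_integer_multiples_of_finite S r y
  choose m hm using hs₁
  obtain ⟨s₂, hs₂⟩ := IsLocalization.exist_integer_multiples_of_finite S
    (fun p : Fin n × Fin n => a' p.1 p.2)
  choose b hb using hs₂
  have hsm : ∀ (x : A) (w : N'), x • w = algebraMap A A' x • w := fun x w =>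
    (algebraMap_smul A' x w).symm
  have h3 : ∀ i, r (∑ j, b (i, j) • m j) = 0 := by
    intro i
    rw [map_sum]
    have : ∀ j, r (b (i, j) • m j) = ((s₂ : A) * (s₁ : A)) • (a' i j • y j) := by
      intro j
      rw [map_smul, hm j, hsm, hb (i, j), hsm (s₁ : A), hsm ((s₂ : A) * (s₁ : A)), map_mul,
        Algebra.smul_def]
      simp only [smul_smul]
      ring_nf
    simp only [this]
    rw [← Finset.smul_sum, hrel' i, smul_zero]
  obtain ⟨s₃, hs₃⟩ := exists_smul_eq_zero_of_finite S r _ h3
  obtain ⟨k, z, hz⟩ := Module.Finite.exists_fin (R := A) (M := N)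
  have h4 : ∀ l, ∃ c' : Fin n → A', r (z l) = ∑ i, c' i • y i := fun l => by
    have : r (z l) ∈ Submodule.span A' (Set.range y) := hy ▸ Submodule.mem_top
    obtain ⟨c', hc'⟩ := (Submodule.mem_span_range_iff_exists_fun A').mp this
    exact ⟨c', hc'.symm⟩
  choose c' hc' using h4
  obtain ⟨s₄, hs₄⟩ := IsLocalization.exist_integer_multiples_of_finite S
    (fun p : Fin k × Fin n => c' p.1 p.2)
  choose c hc using hs₄
  have h5 : ∀ l, r (((s₄ : A) * (s₁ : A)) • z l - ∑ i, c (l, i) • m i) = 0 := by
    intro l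
    rw [map_sub, map_smul, map_sum, hc' l, Finset.smul_sum, sub_eq_zero]
    refine Finset.sum_congr rfl fun i _ => ?_
    rw [map_smul, hm i, hsm (c (l, i)), hc (l, i), hsm (s₁ : A), hsm ((s₄ : A) * (s₁ : A)),
      map_mul, Algebra.smul_def]
    simp only [smul_smul]
    ring_nf
  obtain ⟨s₅, hs₅⟩ := exists_smul_eq_zero_of_finite S r _ h5
  have key := det_mem_fitt_zero_of_blocks m z hz (Matrix.of fun i j => (s₃ : A) * b (i, j))
    (Matrix.of fun l j => (s₅ : A) * c (l, j)) ((s₅ : A) * ((s₄ : A) * s₁)) ?_ ?_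
  · -- transfer
    have hmem := Ideal.mem_map_of_mem (algebraMap A A') key
    rw [map_mul, RingHom.map_det, map_pow] at hmem
    have hBmap : (algebraMap A A').mapMatrix (Matrix.of fun i j => (s₃ : A) * b (i, j)) =
        (algebraMap A A' ((s₃ : A) * (s₂ : A))) • a' := by
      ext i j
      simp only [RingHom.mapMatrix_apply, Matrix.map_apply, Matrix.of_apply, map_mul,
        Matrix.smul_apply, smul_eq_mul]
      rw [hb (i, j), Algebra.smul_def]
      ring
    rw [hBmap, Matrix.det_smul, Fintype.card_fin] at hmem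
    have hu : IsUnit ((algebraMap A A' ((s₃ : A) * (s₂ : A))) ^ n *
        (algebraMap A A' ((s₅ : A) * ((s₄ : A) * s₁))) ^ k) := by
      apply IsUnit.mul
      · apply IsUnit.pow
        rw [map_mul]
        exact (IsLocalization.map_units A' s₃).mul (IsLocalization.map_units A' s₂)
      · apply IsUnit.pow
        rw [map_mul, map_mul]
        exact (IsLocalization.map_units A' s₅).mul
          ((IsLocalization.map_units A' s₄).mul (IsLocalization.map_units A' s₁))
    obtain ⟨u, hu⟩ := hu
    have h6 : a'.det = (↑u⁻¹ : A') * ((algebraMap A A' ((s₃ : A) * (s₂ : A))) ^ n * a'.det *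
        (algebraMap A A' ((s₅ : A) * ((s₄ : A) * s₁))) ^ k) := by
      have : (algebraMap A A' ((s₃ : A) * (s₂ : A))) ^ n * a'.det *
        (algebraMap A A' ((s₅ : A) * ((s₄ : A) * s₁))) ^ k = (u : A') * a'.det := by
        rw [hu]; ring
      rw [this, ← mul_assoc, Units.inv_mul, one_mul]
    rw [SetLike.mem_coe, h6]
    exact Ideal.mul_mem_left _ _ hmem
  · intro i
    simp only [Matrix.of_apply, mul_smul]
    rw [← Finset.smul_sum]
    exact hs₃ i
  · intro l
    have := hs₅ l
    rw [smul_sub, sub_eq_zero, Finset.smul_sum] at this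
    simp only [Matrix.of_apply, mul_smul]
    simp only [mul_smul] at this
    exact this


include S r in
/-- **`Fit_0` commutes with localization.** -/
theorem fitt_zero_map_eq [Module.Finite A N] :
    Ideal.map (algebraMap A A') (Fitt.ideal A N 0) = Fitt.ideal A' N' 0 :=
  le_antisymm (map_fitt_zero_le S r) (fitt_zero_le_map S r)

end

end Groth.Agent.Lib.Helper20.FittLoc
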