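import Mathlib

/-!
# Divisors: generic points of locally principal closed subschemes (helper2)
-/

set_option autoImplicit false
universe u

open CategoryTheory Limits AlgebraicGeometry

namespace Groth.Agent.Lib.Helper2

/-- For an affine open `U`, a point `x ∈ U` lies in the basic open of `f` iff `f` is not in the
prime ideal of `x`. -/
lemma mem_basicOpen_iff_notMem_primeIdealOf {X : Scheme.{u}} {U : X.Opens} (hU : IsAffineOpen U)
    (x : X) (hx : x ∈ U) (f : Γ(X, U)) :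
    x ∈ X.basicOpen f ↔ f ∉ (hU.primeIdealOf ⟨x, hx⟩).asIdeal := by
  have h1 : hU.fromSpec (hU.primeIdealOf ⟨x, hx⟩) = x := hU.fromSpec_primeIdealOf ⟨x, hx⟩
  have h2 := hU.fromSpec_preimage_basicOpen f
  have h3 : hU.primeIdealOf ⟨x, hx⟩ ∈ hU.fromSpec ⁻¹ᵁ X.basicOpen f ↔ x ∈ X.basicOpen f := by
    change hU.fromSpec (hU.primeIdealOf ⟨x, hx⟩) ∈ X.basicOpen f ↔ _
    rw [h1]
  rw [← h3, h2]
  rfl

/-- If the ideal of `D` on the affine open `U` is generated by `f` and `ξ ∈ U` is a point of the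
support of `D` which is maximal under generisation in the support, then the prime of `ξ` is
minimal over `(f)`. -/
lemma primeIdealOf_mem_minimalPrimes {X : Scheme.{u}} (D : X.IdealSheafData) (ξ : X)
    (U : X.affineOpens) (hξU : ξ ∈ U.1) (f : Γ(X, U.1)) (hf : D.ideal U = Ideal.span {f})
    (hξ : ξ ∈ D.support) (hgen : ∀ y ∈ D.support, y ⤳ ξ → y = ξ) :
    (U.2.primeIdealOf ⟨ξ, hξU⟩).asIdeal ∈ (Ideal.span {f}).minimalPrimes := by
  have hsupp : ∀ y : X, ∀ hy : y ∈ U.1, y ∈ D.support ↔ f ∈ (U.2.primeIdealOf ⟨y, hy⟩).asIdeal := by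
    intro y hy
    rw [Scheme.IdealSheafData.mem_support_iff_of_mem hy, hf, Scheme.zeroLocus_span,
      Scheme.zeroLocus_singleton, Set.mem_compl_iff, SetLike.mem_coe,
      mem_basicOpen_iff_notMem_primeIdealOf U.2 y hy, not_not]
  refine ⟨⟨(U.2.primeIdealOf ⟨ξ, hξU⟩).isPrime, ?_⟩, ?_⟩
  · rw [Ideal.span_singleton_le_iff_mem]
    exact (hsupp ξ hξU).mp hξ
  · rintro q ⟨hq, hfq⟩ hqp
    let Q : PrimeSpectrum Γ(X, U.1) := ⟨q, hq⟩
    have hyU : U.2.fromSpec Q ∈ U.1 := by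
      have : U.2.fromSpec Q ∈ Set.range U.2.fromSpec := ⟨Q, rfl⟩
      rw [U.2.range_fromSpec] at this
      exact this
    have hQ : U.2.primeIdealOf ⟨U.2.fromSpec Q, hyU⟩ = Q := by
      apply U.2.fromSpec.isOpenEmbedding.injective
      exact U.2.fromSpec_primeIdealOf ⟨U.2.fromSpec Q, hyU⟩
    have hspec : U.2.fromSpec Q ⤳ ξ := by
      have h1 : Q ⤳ U.2.primeIdealOf ⟨ξ, hξU⟩ :=
        (PrimeSpectrum.le_iff_specializes _ _).mp hqp
      have h2 := h1.map U.2.fromSpec.continuous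
      rwa [U.2.fromSpec_primeIdealOf ⟨ξ, hξU⟩] at h2
    have hmem : U.2.fromSpec Q ∈ D.support := by
      rw [hsupp _ hyU, hQ]
      exact (Ideal.span_singleton_le_iff_mem _).mp hfq
    have heq := hgen _ hmem hspec
    have : Q = U.2.primeIdealOf ⟨ξ, hξU⟩ := by
      apply U.2.fromSpec.isOpenEmbedding.injective
      rw [heq, U.2.fromSpec_primeIdealOf ⟨ξ, hξU⟩]
    rw [← this]

/-- Krull's principal ideal theorem at a generic point of a locally principal closed subscheme. -/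
lemma ringKrullDim_stalk_le_one {X : Scheme.{u}} [IsLocallyNoetherian X] (D : X.IdealSheafData)
    (ξ : X) (U : X.affineOpens) (hξU : ξ ∈ U.1) (f : Γ(X, U.1)) (hf : D.ideal U = Ideal.span {f})
    (hξ : ξ ∈ D.support) (hgen : ∀ y ∈ D.support, y ⤳ ξ → y = ξ) :
    ringKrullDim (X.presheaf.stalk ξ) ≤ 1 := by
  have hmin := primeIdealOf_mem_minimalPrimes D ξ U hξU f hf hξ hgen
  have : IsNoetherianRing Γ(X, U.1) := IsLocallyNoetherian.component_noetherian U
  let _ : Algebra Γ(X, U.1) (X.presheaf.stalk ξ) :=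
    TopCat.Presheaf.algebra_section_stalk X.presheaf (⟨ξ, hξU⟩ : U.1)
  have : IsLocalization.AtPrime (X.presheaf.stalk ξ) (U.2.primeIdealOf ⟨ξ, hξU⟩).asIdeal :=
    U.2.isLocalization_stalk ⟨ξ, hξU⟩
  rw [IsLocalization.AtPrime.ringKrullDim_eq_height (U.2.primeIdealOf ⟨ξ, hξU⟩).asIdeal
    (X.presheaf.stalk ξ)]
  have h1 := Ideal.height_le_one_of_isPrincipal_of_mem_minimalPrimes (Ideal.span {f}) _ hmin
  exact_mod_cast h1

/-- If moreover `f` is a nonzerodivisor, the dimension is exactly one. -/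
lemma ringKrullDim_stalk_eq_one {X : Scheme.{u}} [IsLocallyNoetherian X] (D : X.IdealSheafData)
    (ξ : X) (U : X.affineOpens) (hξU : ξ ∈ U.1) (f : Γ(X, U.1)) (hf : D.ideal U = Ideal.span {f})
    (hfn : f ∈ nonZeroDivisors Γ(X, U.1))
    (hξ : ξ ∈ D.support) (hgen : ∀ y ∈ D.support, y ⤳ ξ → y = ξ) :
    ringKrullDim (X.presheaf.stalk ξ) = 1 := by
  have hmin := primeIdealOf_mem_minimalPrimes D ξ U hξU f hf hξ hgen
  have : IsNoetherianRing Γ(X, U.1) := IsLocallyNoetherian.component_noetherian U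
  let _ : Algebra Γ(X, U.1) (X.presheaf.stalk ξ) :=
    TopCat.Presheaf.algebra_section_stalk X.presheaf (⟨ξ, hξU⟩ : U.1)
  have : IsLocalization.AtPrime (X.presheaf.stalk ξ) (U.2.primeIdealOf ⟨ξ, hξU⟩).asIdeal :=
    U.2.isLocalization_stalk ⟨ξ, hξU⟩
  rw [IsLocalization.AtPrime.ringKrullDim_eq_height (U.2.primeIdealOf ⟨ξ, hξU⟩).asIdeal
    (X.presheaf.stalk ξ)]
  have h1 := Ideal.height_le_one_of_isPrincipal_of_mem_minimalPrimes (Ideal.span {f}) _ hmin
  have h2 : 1 ≤ (U.2.primeIdealOf ⟨ξ, hξU⟩).asIdeal.height :=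
    (Ideal.one_le_height_span_singleton_of_mem_nonZeroDivisors hfn).trans
      (Ideal.height_mono hmin.1.2)
  have h3 : (U.2.primeIdealOf ⟨ξ, hξU⟩).asIdeal.height = 1 := le_antisymm h1 h2
  rw [h3]
  rfl

end Groth.Agent.Lib.Helper2
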