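import Mathlib
import Groth.Prelude.Def_FlatMod2
import Groth.Agent.Lib.Helper2Div

/-!
# Quasi-coherent modules on schemes: sections over basic opens and stalks (helper2)

For a quasi-coherent `F : X.Modules`, an affine open `U` and `f : Γ(X,U)`:
* `exists_extension`: any `s : Γ(F, D(f))` satisfies `t|_{D(f)} = f^n • s` for some `t : Γ(F,U)`;
* `exists_pow_smul_eq_zero`: `t : Γ(F,U)` with `t|_{D(f)} = 0` is killed by a power of `f`;
* `exists_smul_eq_germ`, `exists_smul_eq_zero_of_germ_eq_zero`: the stalk `F_x` (`x ∈ U`) is the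
  localization of `Γ(F,U)` at the prime of `x`, in element form, for the prelude's
  `FlatMod.moduleStalk` structure;
* `germ_smul`: germs are semilinear.
-/
set_option autoImplicit false
universe u
open CategoryTheory Limits AlgebraicGeometry TopologicalSpace Opposite

namespace Groth.Agent.Lib.Helper2.QCoh

section Spec
variable {R : CommRingCat.{u}}

theorem isLocalizedModule_spec (M : (Spec R).Modules) [M.IsQuasicoherent] (f : R) :
    IsLocalizedModule (.powers f)
      ((modulesSpecToSheaf.obj M).obj.map (PrimeSpectrum.basicOpen f).leTop.op).hom := by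
  have h : IsIso M.fromTildeΓ := inferInstance
  rw [isIso_fromTildeΓ_iff_isLocalizing] at h
  exact h f

theorem spec_exists (M : (Spec R).Modules) [M.IsQuasicoherent] (f : R)
    (s : Γ(M, PrimeSpectrum.basicOpen f)) :
    ∃ (n : ℕ) (t : Γ(M, ⊤)), M.presheaf.map (PrimeSpectrum.basicOpen f).leTop.op t = f ^ n • s := by
  have h := isLocalizedModule_spec M f
  obtain ⟨⟨t, ⟨_, n, rfl⟩⟩, ht⟩ := h.surj s
  exact ⟨n, t, ht.symm⟩

theorem spec_unique (M : (Spec R).Modules) [M.IsQuasicoherent] (f : R)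
    (t : Γ(M, ⊤)) (ht : M.presheaf.map (PrimeSpectrum.basicOpen f).leTop.op t = 0) :
    ∃ n : ℕ, f ^ n • t = 0 := by
  have h := isLocalizedModule_spec M f
  have h0 : ((modulesSpecToSheaf.obj M).obj.map (PrimeSpectrum.basicOpen f).leTop.op).hom t =
      ((modulesSpecToSheaf.obj M).obj.map (PrimeSpectrum.basicOpen f).leTop.op).hom 0 := by
    rw [map_zero]; exact ht
  obtain ⟨⟨_, n, rfl⟩, hn⟩ := h.exists_of_eq h0
  refine ⟨n, ?_⟩
  have hn' : (f ^ n) • t = (f ^ n) • (0 : Γ(M, ⊤)) := hn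
  rw [smul_zero] at hn'
  exact hn'

end Spec

variable {X : Scheme.{u}} {U : X.Opens} (hU : IsAffineOpen U)

include hU in
theorem fromSpec_image_le (V : (Spec Γ(X, U)).Opens) : hU.fromSpec ''ᵁ V ≤ U := by
  intro x hx
  obtain ⟨y, -, rfl⟩ := hx
  have : hU.fromSpec y ∈ Set.range hU.fromSpec := ⟨y, rfl⟩
  rw [hU.range_fromSpec] at this
  exact this

theorem appIso_inv_ΓSpecIso_inv (V : (Spec Γ(X, U)).Opens) (r : Γ(X, U)) :
    (hU.fromSpec.appIso V).inv
        (((Spec Γ(X, U)).presheaf.map V.leTop.op) ((Scheme.ΓSpecIso Γ(X, U)).inv r)) =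
      X.presheaf.map (homOfLE (fromSpec_image_le hU V)).op r := by
  apply (ConcreteCategory.bijective_of_isIso (hU.fromSpec.appIso V).hom).injective
  rw [← ConcreteCategory.comp_apply, Iso.inv_hom_id, CommRingCat.id_apply]
  rw [Scheme.Hom.appIso_hom]
  rw [ConcreteCategory.comp_apply, ← ConcreteCategory.comp_apply (X.presheaf.map _),
    Scheme.Hom.naturality, ConcreteCategory.comp_apply, hU.fromSpec_app_self]
  simp only [← ConcreteCategory.comp_apply, Category.assoc, ← Functor.map_comp]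
  rfl

theorem restrict_fromSpec_smul (F : X.Modules) (V : (Spec Γ(X, U)).Opens) (r : Γ(X, U))
    (x : Γ(F.restrict hU.fromSpec, V)) :
    (F.restrictAppIso hU.fromSpec V).hom (r • x) =
      (X.presheaf.map (homOfLE (fromSpec_image_le hU V)).op r) •
        (F.restrictAppIso hU.fromSpec V).hom x := by
  rw [Scheme.Modules.smul_Spec_def, Scheme.Modules.smul_restrictAppIso_hom_apply,
    appIso_inv_ΓSpecIso_inv]

theorem exists_aux (F : X.Modules) [F.IsQuasicoherent] (f : Γ(X, U))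
    (W₂ : X.Opens) (h₂ : W₂ = hU.fromSpec ''ᵁ (PrimeSpectrum.basicOpen f))
    (W₁ : X.Opens) (h₁ : W₁ = hU.fromSpec ''ᵁ ⊤) (hle : W₂ ≤ W₁) (hW₁ : W₁ ≤ U)
    (s : Γ(F, W₂)) :
    ∃ (n : ℕ) (t : Γ(F, W₁)), F.presheaf.map (homOfLE hle).op t =
      (X.presheaf.map (homOfLE (hle.trans hW₁)).op f) ^ n • s := by
  subst h₂ h₁
  obtain ⟨n, t', ht'⟩ := spec_exists (F.restrict hU.fromSpec) f s
  refine ⟨n, t', ?_⟩
  have h1 := restrict_fromSpec_smul hU F (PrimeSpectrum.basicOpen f) (f ^ n) s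
  rw [map_pow] at h1
  exact ht'.trans h1

theorem unique_aux (F : X.Modules) [F.IsQuasicoherent] (f : Γ(X, U))
    (W₂ : X.Opens) (h₂ : W₂ = hU.fromSpec ''ᵁ (PrimeSpectrum.basicOpen f))
    (W₁ : X.Opens) (h₁ : W₁ = hU.fromSpec ''ᵁ ⊤) (hle : W₂ ≤ W₁) (hW₁ : W₁ ≤ U)
    (t : Γ(F, W₁)) (ht : F.presheaf.map (homOfLE hle).op t = 0) :
    ∃ n : ℕ, (X.presheaf.map (homOfLE hW₁).op f) ^ n • t = 0 := by
  subst h₂ h₁
  obtain ⟨n, hn⟩ := spec_unique (F.restrict hU.fromSpec) f t ht
  refine ⟨n, ?_⟩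
  have h1 := restrict_fromSpec_smul hU F ⊤ (f ^ n) t
  rw [map_pow] at h1
  exact h1.symm.trans hn

include hU in
/-- Existence: a section over `D(f)` of a quasi-coherent module, multiplied by a power of `f`,
extends to the affine open `U`. -/
theorem exists_extension (F : X.Modules) [F.IsQuasicoherent] (f : Γ(X, U))
    (s : Γ(F, X.basicOpen f)) :
    ∃ (n : ℕ) (t : Γ(F, U)), F.presheaf.map (homOfLE (X.basicOpen_le f)).op t =
      (X.presheaf.map (homOfLE (X.basicOpen_le f)).op f) ^ n • s := by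
  have h₁ : U = hU.fromSpec ''ᵁ ⊤ := by
    rw [Scheme.Hom.image_top_eq_opensRange, hU.opensRange_fromSpec]
  exact exists_aux hU F f (X.basicOpen f) (hU.fromSpec_image_basicOpen f).symm U h₁
    (X.basicOpen_le f) le_rfl s

include hU in
/-- Uniqueness: a section over the affine open `U` of a quasi-coherent module vanishing on `D(f)`
is killed by a power of `f`. -/
theorem exists_pow_smul_eq_zero (F : X.Modules) [F.IsQuasicoherent] (f : Γ(X, U))
    (t : Γ(F, U)) (ht : F.presheaf.map (homOfLE (X.basicOpen_le f)).op t = 0) :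
    ∃ n : ℕ, f ^ n • t = 0 := by
  have h₁ : U = hU.fromSpec ''ᵁ ⊤ := by
    rw [Scheme.Hom.image_top_eq_opensRange, hU.opensRange_fromSpec]
  obtain ⟨n, hn⟩ := unique_aux hU F f (X.basicOpen f) (hU.fromSpec_image_basicOpen f).symm U h₁
    (X.basicOpen_le f) le_rfl t ht
  refine ⟨n, ?_⟩
  have : X.presheaf.map (homOfLE (le_refl U)).op f = f := by
    have : (homOfLE (le_refl U)).op = 𝟙 (op U) := rfl
    rw [this, X.presheaf.map_id]; rfl
  rw [this] at hn
  exact hn


theorem germ_smul (F : X.Modules) (x : X) (V : X.Opens) (hx : x ∈ V) (r : Γ(X, V)) (m : Γ(F, V)) :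
    F.presheaf.germ V x hx (r • m) = X.presheaf.germ V x hx r • F.presheaf.germ V x hx m :=
  PresheafOfModules.germ_smul (R := X.presheaf) F.val x V hx r m

include hU in
/-- Every element of the stalk of a quasi-coherent module at `x ∈ U` (`U` affine) becomes the germ
of a section over `U` after multiplication by (the germ of) some `f ∈ Γ(X,U)` not vanishing at `x`. -/
theorem exists_smul_eq_germ (F : X.Modules) [F.IsQuasicoherent] (x : X) (hxU : x ∈ U)
    (y : F.presheaf.stalk x) :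
    ∃ (s : Γ(X, U)) (m : Γ(F, U)), x ∈ X.basicOpen s ∧
      X.presheaf.germ U x hxU s • y = F.presheaf.germ U x hxU m := by
  obtain ⟨V, hxV, t, rfl⟩ := F.presheaf.exists_germ_eq y
  obtain ⟨f, hfV, hxf⟩ := hU.exists_basicOpen_le ⟨x, hxV⟩ hxU
  obtain ⟨n, m, hm⟩ := exists_extension hU F f (F.presheaf.map (homOfLE hfV).op t)
  refine ⟨f ^ n, m, ?_, ?_⟩
  · by_cases hn : n = 0
    · subst hn
      rw [pow_zero, Scheme.basicOpen_of_isUnit _ isUnit_one]
      exact hxU
    · rw [Scheme.basicOpen_pow _ _ (Nat.pos_of_ne_zero hn)]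
      exact hxf
  · have h1 : F.presheaf.germ U x hxU m =
        F.presheaf.germ (X.basicOpen f) x hxf (F.presheaf.map (homOfLE (X.basicOpen_le f)).op m) :=
      (TopCat.Presheaf.germ_res_apply F.presheaf (homOfLE (X.basicOpen_le f)) x hxf m).symm
    have h2 : X.presheaf.germ (X.basicOpen f) x hxf
        ((X.presheaf.map (homOfLE (X.basicOpen_le f)).op f) ^ n) =
          (X.presheaf.germ U x hxU f) ^ n := by
      rw [map_pow, TopCat.Presheaf.germ_res_apply]
    rw [h1, hm, germ_smul, h2, TopCat.Presheaf.germ_res_apply, map_pow]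

include hU in
/-- A section over the affine open `U` of a quasi-coherent module whose germ at `x` vanishes is
killed by some `f ∈ Γ(X,U)` not vanishing at `x`. -/
theorem exists_smul_eq_zero_of_germ_eq_zero (F : X.Modules) [F.IsQuasicoherent] (x : X) (hxU : x ∈ U)
    (m : Γ(F, U)) (hm : F.presheaf.germ U x hxU m = 0) :
    ∃ s : Γ(X, U), x ∈ X.basicOpen s ∧ s • m = 0 := by
  have h0 : F.presheaf.germ U x hxU m = F.presheaf.germ U x hxU 0 := by rw [hm, map_zero]
  obtain ⟨W, hxW, i₁, i₂, hW⟩ := F.presheaf.germ_eq x hxU hxU m 0 h0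
  rw [map_zero] at hW
  obtain ⟨f, hfW, hxf⟩ := hU.exists_basicOpen_le ⟨x, hxW⟩ hxU
  have hres : F.presheaf.map (homOfLE (X.basicOpen_le f)).op m = 0 := by
    have : (homOfLE (X.basicOpen_le f)).op = i₁.op ≫ (homOfLE hfW).op := rfl
    rw [this, F.presheaf.map_comp, ConcreteCategory.comp_apply, hW, map_zero]
  obtain ⟨n, hn⟩ := exists_pow_smul_eq_zero hU F f m hres
  refine ⟨f ^ n, ?_, hn⟩
  by_cases hn0 : n = 0
  · subst hn0
    rw [pow_zero, Scheme.basicOpen_of_isUnit _ isUnit_one]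
    exact hxU
  · rw [Scheme.basicOpen_pow _ _ (Nat.pos_of_ne_zero hn0)]
    exact hxf


/-! ### Points of an affine open and primes of its ring of sections -/

include hU in
theorem fromSpec_mem (q : PrimeSpectrum Γ(X, U)) : hU.fromSpec q ∈ U := by
  have : hU.fromSpec q ∈ Set.range hU.fromSpec := ⟨q, rfl⟩
  rw [hU.range_fromSpec] at this
  exact this

theorem primeIdealOf_fromSpec (q : PrimeSpectrum Γ(X, U)) :
    hU.primeIdealOf ⟨hU.fromSpec q, fromSpec_mem hU q⟩ = q := by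
  apply hU.fromSpec.isOpenEmbedding.injective
  exact hU.fromSpec_primeIdealOf ⟨hU.fromSpec q, fromSpec_mem hU q⟩

theorem mem_basicOpen_fromSpec_iff (q : PrimeSpectrum Γ(X, U)) (s : Γ(X, U)) :
    hU.fromSpec q ∈ X.basicOpen s ↔ s ∉ q.asIdeal := by
  rw [Groth.Agent.Lib.Helper2.mem_basicOpen_iff_notMem_primeIdealOf hU _ (fromSpec_mem hU q),
    primeIdealOf_fromSpec]

theorem fromSpec_specializes (q : PrimeSpectrum Γ(X, U)) (x : X) (hxU : x ∈ U)
    (hle : q.asIdeal ≤ (hU.primeIdealOf ⟨x, hxU⟩).asIdeal) : hU.fromSpec q ⤳ x := by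
  have h1 : q ⤳ hU.primeIdealOf ⟨x, hxU⟩ := (PrimeSpectrum.le_iff_specializes _ _).mp hle
  have h2 := h1.map hU.fromSpec.continuous
  rwa [hU.fromSpec_primeIdealOf ⟨x, hxU⟩] at h2

theorem primeIdealOf_le_of_specializes (x y : X) (hxU : x ∈ U) (hyU : y ∈ U) (h : y ⤳ x) :
    (hU.primeIdealOf ⟨y, hyU⟩).asIdeal ≤ (hU.primeIdealOf ⟨x, hxU⟩).asIdeal := by
  rw [PrimeSpectrum.asIdeal_le_asIdeal, PrimeSpectrum.le_iff_specializes]
  have h1 : hU.fromSpec (hU.primeIdealOf ⟨y, hyU⟩) ⤳ hU.fromSpec (hU.primeIdealOf ⟨x, hxU⟩) := by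
    rw [hU.fromSpec_primeIdealOf ⟨x, hxU⟩, hU.fromSpec_primeIdealOf ⟨y, hyU⟩]
    exact h
  exact hU.fromSpec.isOpenEmbedding.isInducing.specializes_iff.1 h1

/-- The germ at `x` of `b ∈ Γ(X,U)` lies in the maximal ideal iff `b` lies in the prime of `x`. -/
theorem germ_mem_maximalIdeal_iff (x : X) (hxU : x ∈ U) (b : Γ(X, U)) :
    X.presheaf.germ U x hxU b ∈ IsLocalRing.maximalIdeal (X.presheaf.stalk x) ↔
      b ∈ (hU.primeIdealOf ⟨x, hxU⟩).asIdeal := by
  rw [IsLocalRing.mem_maximalIdeal, mem_nonunits_iff, ← Scheme.mem_basicOpen,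
    Groth.Agent.Lib.Helper2.mem_basicOpen_iff_notMem_primeIdealOf hU x hxU, not_not]

/-! ### Germs and annihilators -/

/-- The annihilator ideal in `Γ(X,U)` of a section `m`. -/
noncomputable def ann (F : X.Modules) (m : Γ(F, U)) : Ideal Γ(X, U) :=
  LinearMap.ker (LinearMap.toSpanSingleton Γ(X, U) Γ(F, U) m)

theorem mem_ann {F : X.Modules} {m : Γ(F, U)} {a : Γ(X, U)} : a ∈ ann F m ↔ a • m = 0 := by
  simp [ann, LinearMap.mem_ker, LinearMap.toSpanSingleton_apply]

include hU in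
/-- If the annihilator of `m` is contained in the prime `q`, then the germ of `m` at the point of
`q` is nonzero. -/
theorem germ_fromSpec_ne_zero (F : X.Modules) [F.IsQuasicoherent] (m : Γ(F, U))
    (q : PrimeSpectrum Γ(X, U)) (hq : ann F m ≤ q.asIdeal) :
    F.presheaf.germ U (hU.fromSpec q) (fromSpec_mem hU q) m ≠ 0 := by
  intro h0
  obtain ⟨s, hs, hsm⟩ := exists_smul_eq_zero_of_germ_eq_zero hU F _ (fromSpec_mem hU q) m h0
  rw [mem_basicOpen_fromSpec_iff] at hs
  exact hs (hq (mem_ann.2 hsm))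

theorem germ_smul_eq_zero_of_isUnit {F : X.Modules} {x : X} {r : X.presheaf.stalk x}
    (hr : IsUnit r) {y : F.presheaf.stalk x} (h : r • y = 0) : y = 0 := by
  obtain ⟨u, rfl⟩ := hr
  have : (u⁻¹ : (X.presheaf.stalk x)ˣ).1 • ((u : X.presheaf.stalk x) • y) = y := by
    rw [smul_smul, Units.inv_mul, one_smul]
  rw [← this, h, smul_zero]

include hU in
/-- If all germs at `x` of sections over `U` vanish, the stalk is trivial. -/
theorem exists_germ_ne_zero (F : X.Modules) [F.IsQuasicoherent] (x : X) (hxU : x ∈ U)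
    (y : F.presheaf.stalk x) (hy : y ≠ 0) :
    ∃ (s : Γ(X, U)) (m : Γ(F, U)), x ∈ X.basicOpen s ∧
      X.presheaf.germ U x hxU s • y = F.presheaf.germ U x hxU m ∧
      F.presheaf.germ U x hxU m ≠ 0 := by
  obtain ⟨s, m, hs, hsm⟩ := exists_smul_eq_germ hU F x hxU y
  refine ⟨s, m, hs, hsm, fun h0 => hy ?_⟩
  rw [h0] at hsm
  exact germ_smul_eq_zero_of_isUnit ((Scheme.mem_basicOpen X s x hxU).1 hs) hsm

end Groth.Agent.Lib.Helper2.QCoh
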