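import Mathlib
import Groth.Agent.Lib.Helper20FittLoc
import Groth.Agent.Lib.Helper2QCoh
import Groth.Agent.S6891

/-!
# The zeroth Fitting ideal sheaf of a quasi-coherent module of finite type (helper20)

Namespace `Groth.Agent.Lib.Helper20.FittSheaf`.

* `map_fitt_basicOpen` : `Fit_0 Γ(M,U)` localizes to `Fit_0 Γ(M,D(g))`.
* `fittSheaf M hfin`, `sheafIdeal_eq`, `sheafIdeal_ideal` : the prelude's `Fitt.sheafIdeal M 0` has affine values
  `Fitt.ideal Γ(X,U) Γ(M,U) 0`.
* `subsingleton_stalk_iff_notMem_support` : `M_x = 0 ↔ 𝔭_x ∉ Supp Γ(M,U)`.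
* `mem_support_sheafIdeal_iff` : `x ∈ V(Fit_0 M) ↔ M_x ≠ 0`.
-/

set_option autoImplicit false
set_option linter.style.haveILetI false
universe u
open CategoryTheory AlgebraicGeometry Limits Opposite
open Groth.Agent.Lib.Helper20.FittLoc Groth.Agent.Lib.Helper2.QCoh

namespace Groth.Agent.Lib.Helper20.FittSheaf

variable {X : Scheme.{u}} (M : X.Modules) [M.IsQuasicoherent] {U : X.Opens} (hU : IsAffineOpen U)

include hU in
/-- `Fit_0` of sections is compatible with passing to basic opens. -/
theorem map_fitt_basicOpen (g : Γ(X, U)) [Module.Finite Γ(X, U) Γ(M, U)] :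
    (Fitt.ideal Γ(X, U) Γ(M, U) 0).map (X.presheaf.map (homOfLE (X.basicOpen_le g)).op).hom =
      Fitt.ideal Γ(X, X.basicOpen g) Γ(M, X.basicOpen g) 0 := by
  have hloc : IsLocalization.Away g Γ(X, X.basicOpen g) := hU.isLocalization_basicOpen g
  letI : Module Γ(X, U) Γ(M, X.basicOpen g) :=
    Module.compHom _ (algebraMap Γ(X, U) Γ(X, X.basicOpen g))
  haveI : IsScalarTower Γ(X, U) Γ(X, X.basicOpen g) Γ(M, X.basicOpen g) := ⟨fun a b n => by
    show (a • b) • n = algebraMap Γ(X, U) Γ(X, X.basicOpen g) a • (b • n)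
    rw [Algebra.smul_def, mul_smul]⟩
  let r : Γ(M, U) →ₗ[Γ(X, U)] Γ(M, X.basicOpen g) :=
    { toFun := fun t => M.presheaf.map (homOfLE (X.basicOpen_le g)).op t
      map_add' := fun a b => map_add _ a b
      map_smul' := fun a t => Scheme.Modules.map_smul M (homOfLE (X.basicOpen_le g)) a t }
  haveI : IsLocalizedModule (Submonoid.powers g) r := by
    refine IsLocalizedModule.Away.mk_of_addCommGroup ?_ ?_ ?_
    · have hu : IsUnit (algebraMap Γ(X, U) Γ(X, X.basicOpen g) g) :=
        IsLocalization.Away.algebraMap_isUnit g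
      obtain ⟨u, hu⟩ := hu
      rw [Module.End.isUnit_iff]
      constructor
      · intro a b hab
        have h1 : (algebraMap Γ(X, U) Γ(X, X.basicOpen g) g) • a =
          (algebraMap Γ(X, U) Γ(X, X.basicOpen g) g) • b := hab
        rw [← hu] at h1
        have := congrArg (fun z => (↑u⁻¹ : Γ(X, X.basicOpen g)) • z) h1
        simpa [smul_smul] using this
      · intro b
        refine ⟨(↑u⁻¹ : Γ(X, X.basicOpen g)) • b, ?_⟩
        show (algebraMap Γ(X, U) Γ(X, X.basicOpen g) g) • ((↑u⁻¹ : Γ(X, X.basicOpen g)) • b) = b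
        rw [← hu, smul_smul, Units.mul_inv, one_smul]
    · intro s
      obtain ⟨n, t, ht⟩ := Groth.Agent.Lib.Helper2.QCoh.exists_extension hU M g s
      refine ⟨n, t, ?_⟩
      show (algebraMap Γ(X, U) Γ(X, X.basicOpen g) (g ^ n)) • s = _
      rw [map_pow]
      exact ht.symm
    · intro t ht
      exact Groth.Agent.Lib.Helper2.QCoh.exists_pow_smul_eq_zero hU M g t ht
  exact fitt_zero_map_eq (Submonoid.powers g) r


include hU in
/-- the stalk of a quasi-coherent module with finitely generated sections vanishes iff the prime of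
the point is outside the support of the module of sections. -/
theorem subsingleton_stalk_iff_notMem_support (x : X) (hxU : x ∈ U)
    [Module.Finite Γ(X, U) Γ(M, U)] :
    Subsingleton (M.presheaf.stalk x) ↔
      hU.primeIdealOf ⟨x, hxU⟩ ∉ Module.support Γ(X, U) Γ(M, U) := by
  classical
  rw [Module.mem_support_iff_of_finite]
  constructor
  · intro hsub hle
    obtain ⟨k, z, hz⟩ := Module.Finite.exists_fin (R := Γ(X, U)) (M := Γ(M, U))
    have h1 : ∀ l, ∃ s : Γ(X, U), x ∈ X.basicOpen s ∧ s • z l = 0 := fun l =>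
      exists_smul_eq_zero_of_germ_eq_zero hU M x hxU (z l) (Subsingleton.elim _ _)
    choose s hs hsz using h1
    have hann : (∏ l, s l) ∈ Module.annihilator Γ(X, U) Γ(M, U) := by
      rw [Module.mem_annihilator]
      intro m
      have hm : m ∈ Submodule.span Γ(X, U) (Set.range z) := hz ▸ Submodule.mem_top
      induction hm using Submodule.span_induction with
      | mem m hm =>
        obtain ⟨l, rfl⟩ := hm
        rw [← Finset.prod_erase_mul _ _ (Finset.mem_univ l), mul_smul, hsz l, smul_zero]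
      | zero => exact smul_zero _
      | add a b _ _ ha hb => rw [smul_add, ha, hb, add_zero]
      | smul a b _ hb => rw [smul_comm, hb, smul_zero]
    have hmem := hle hann
    obtain ⟨l, -, hl⟩ := (Ideal.IsPrime.prod_mem_iff (hp := inferInstance)).mp hmem
    exact (Groth.Agent.Lib.Helper2.mem_basicOpen_iff_notMem_primeIdealOf hU x hxU _).mp (hs l) hl
  · intro hnle
    obtain ⟨g, hg, hgp⟩ := SetLike.not_le_iff_exists.mp hnle
    have hxg : x ∈ X.basicOpen g :=
      (Groth.Agent.Lib.Helper2.mem_basicOpen_iff_notMem_primeIdealOf hU x hxU _).mpr hgp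
    have hall : ∀ y : M.presheaf.stalk x, y = 0 := by
      intro y
      obtain ⟨s, m, hs, hsm⟩ := exists_smul_eq_germ hU M x hxU y
      have h2 : X.presheaf.germ U x hxU g • M.presheaf.germ U x hxU m = 0 := by
        rw [← germ_smul, (Module.mem_annihilator.mp hg) m, map_zero]
      have h3 : (X.presheaf.germ U x hxU g * X.presheaf.germ U x hxU s) • y = 0 := by
        rw [mul_smul, hsm, h2]
      exact germ_smul_eq_zero_of_isUnit
        (((Scheme.mem_basicOpen X g x hxU).1 hxg).mul ((Scheme.mem_basicOpen X s x hxU).1 hs)) h3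
    exact ⟨fun a b => (hall a).trans (hall b).symm⟩


/-- the zeroth Fitting ideal sheaf of a quasi-coherent module of finite type. -/
noncomputable def fittSheaf (hfin : ∀ V : X.affineOpens, Module.Finite Γ(X, V.1) Γ(M, V.1)) :
    X.IdealSheafData where
  ideal V := Fitt.ideal Γ(X, V.1) Γ(M, V.1) 0
  map_ideal_basicOpen V g := by
    haveI := hfin V
    exact map_fitt_basicOpen M V.2 g

theorem sheafIdeal_eq (hfin : ∀ V : X.affineOpens, Module.Finite Γ(X, V.1) Γ(M, V.1)) :
    Fitt.sheafIdeal M 0 = fittSheaf M hfin :=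
  Scheme.IdealSheafData.ofIdeals_ideal (fittSheaf M hfin)

theorem sheafIdeal_ideal (hfin : ∀ V : X.affineOpens, Module.Finite Γ(X, V.1) Γ(M, V.1))
    (V : X.affineOpens) :
    (Fitt.sheafIdeal M 0).ideal V = Fitt.ideal Γ(X, V.1) Γ(M, V.1) 0 := by
  rw [sheafIdeal_eq M hfin]
  rfl

/-- **The support of the zeroth Fitting ideal sheaf is the support of the module.** -/
theorem mem_support_sheafIdeal_iff (hfin : ∀ V : X.affineOpens, Module.Finite Γ(X, V.1) Γ(M, V.1))
    (x : X) :
    x ∈ (Fitt.sheafIdeal M 0).support ↔ ¬ Subsingleton (M.presheaf.stalk x) := by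
  obtain ⟨V, hV, hxV, -⟩ := exists_isAffineOpen_mem_and_subset (x := x) (U := ⊤) trivial
  haveI := hfin ⟨V, hV⟩
  rw [Scheme.IdealSheafData.mem_support_iff_of_mem (U := ⟨V, hV⟩) hxV,
    sheafIdeal_ideal M hfin ⟨V, hV⟩, subsingleton_stalk_iff_notMem_support M hV x hxV, not_not,
    ← (Groth.Agent.S6891.result (R := Γ(X, V)) Γ(M, V) ⊥).2.1, PrimeSpectrum.mem_zeroLocus,
    Scheme.mem_zeroLocus_iff]
  constructor
  · intro h f hf
    by_contra hfp
    exact h f hf ((Groth.Agent.Lib.Helper2.mem_basicOpen_iff_notMem_primeIdealOf hV x hxV f).mpr hfp)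
  · intro h f hf hxf
    exact (Groth.Agent.Lib.Helper2.mem_basicOpen_iff_notMem_primeIdealOf hV x hxV f).mp hxf (h hf)

end Groth.Agent.Lib.Helper20.FittSheaf
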