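import Mathlib

/-!
# Precomposition on Ext (helper16)

`precomp_bijective`: if `u : M ⟶ N` induces bijections `Hom(N, R F) ≃ Hom(M, R F)` for all `F`, where `R` is an
exact functor preserving injectives from a category with enough injectives, then `u` induces bijections
`Ext^n(N, R F) ≃ Ext^n(M, R F)` for all `n`.
-/
set_option autoImplicit false
universe w v v' u u'
open CategoryTheory CategoryTheory.Limits Abelian

namespace Groth.Agent.Lib.Helper16.ExtPrecomp

variable {𝒞 : Type u} [Category.{v} 𝒞] [Abelian 𝒞] [EnoughInjectives 𝒞]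
variable {𝒟 : Type u'} [Category.{v'} 𝒟] [Abelian 𝒟] [HasExt.{w} 𝒟]
variable (R : 𝒞 ⥤ 𝒟) [R.Additive] [PreservesFiniteLimits R] [PreservesFiniteColimits R]
  [R.PreservesInjectiveObjects]

attribute [local instance] Ext.subsingleton_of_injective in
/-- If `u : M ⟶ N` induces bijections `Hom(N, R F) ≃ Hom(M, R F)` for all `F`, where `R` is exact and preserves
injectives, then it induces bijections on all `Ext^n(-, R F)`. -/
theorem precomp_bijective {M N : 𝒟} (u : M ⟶ N)
    (h0 : ∀ F : 𝒞, Function.Bijective (fun φ : N ⟶ R.obj F => u ≫ φ)) (n : ℕ) :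
    ∀ F : 𝒞, Function.Bijective ((Ext.mk₀ u).precomp (R.obj F) (zero_add n)) := by
  induction n with
  | zero =>
    intro F
    have h := h0 F
    constructor
    · intro x y hxy
      obtain ⟨φ, rfl⟩ := (Ext.mk₀_bijective N (R.obj F)).2 x
      obtain ⟨ψ, rfl⟩ := (Ext.mk₀_bijective N (R.obj F)).2 y
      have : Ext.mk₀ (u ≫ φ) = Ext.mk₀ (u ≫ ψ) := by
        simpa [Ext.mk₀_comp_mk₀] using hxy
      rw [h.1 ((Ext.mk₀_bijective _ _).1 this)]
    · intro y
      obtain ⟨ψ, rfl⟩ := (Ext.mk₀_bijective M (R.obj F)).2 y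
      obtain ⟨φ, hφ⟩ := h.2 ψ
      refine ⟨Ext.mk₀ φ, ?_⟩
      change (Ext.mk₀ u).comp (Ext.mk₀ φ) (zero_add 0) = _
      rw [Ext.mk₀_comp_mk₀]
      exact congrArg Ext.mk₀ hφ
  | succ n hn =>
    intro F
    let I : InjectivePresentation F := Classical.arbitrary _
    let S := ShortComplex.mk _ _ (cokernel.condition I.f)
    have : Injective (S.map R).X₂ := Functor.PreservesInjectiveObjects.injective_obj I.injective
    have hS : S.ShortExact := { exact := ShortComplex.exact_cokernel I.f }
    have hS' := hS.map R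
    exact AddMonoidHom.bijective_of_surjective_of_bijective_of_right_exact
      ((Ext.mk₀ (S.map R).g).postcomp N (add_zero n)) (hS'.extClass.postcomp N rfl)
      ((Ext.mk₀ (S.map R).g).postcomp M (add_zero n)) (hS'.extClass.postcomp M rfl)
      ((Ext.mk₀ u).precomp (R.obj S.X₂) (zero_add n)) ((Ext.mk₀ u).precomp (R.obj S.X₃) (zero_add n))
      ((Ext.mk₀ u).precomp (R.obj S.X₁) (zero_add (n + 1)))
      (by
        ext x
        change ((Ext.mk₀ u).comp x (zero_add n)).comp (Ext.mk₀ (S.map R).g) (add_zero n) =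
          (Ext.mk₀ u).comp (x.comp (Ext.mk₀ (S.map R).g) (add_zero n)) (zero_add n)
        exact Ext.comp_assoc _ _ _ _ _ (by omega))
      (by
        ext x
        change ((Ext.mk₀ u).comp x (zero_add n)).comp hS'.extClass rfl =
          (Ext.mk₀ u).comp (x.comp hS'.extClass rfl) (zero_add (n + 1))
        exact Ext.comp_assoc _ _ _ _ _ (by omega))
      ((ShortComplex.ab_exact_iff_function_exact _).mp
        (Ext.covariant_sequence_exact₃' N hS' n (n + 1) rfl))
      ((ShortComplex.ab_exact_iff_function_exact _).mp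
        (Ext.covariant_sequence_exact₃' M hS' n (n + 1) rfl))
      (hn _).surjective (hn _)
      (fun x₁ ↦ Ext.covariant_sequence_exact₁ _ hS' x₁ (by subsingleton) rfl)
      (fun y₁ ↦ Ext.covariant_sequence_exact₁ _ hS' y₁ (by subsingleton) rfl)

end Groth.Agent.Lib.Helper16.ExtPrecomp
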