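import Mathlib
import Groth.Prelude.Def_CohTop
import Groth.Prelude.Def_CohCx
import Groth.Prelude.Def_LocCohZ
import Groth.Agent.Lib.Helper16ExtPrecomp

/-!
# Closed embeddings and sheaves on topological spaces (helper16)

* `push_full`, `push_faithful`: `i_*` is fully faithful for a closed embedding `i`.
* for `U` open with closed complement `Z`, `i : Z → X`, `j : U → X`:
  `hom_push_push_eq_zero` (no maps `i_* G ⟶ j_* K`), `SZ` (sheaves vanishing on opens inside `U`),
  `sz_sectSupp`, `glueZ`, `toZ`, `θ : i_* (toZ H) ≅ H`, `isIso_unit_of_SZ`,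
  `nonempty_push_adj : Nonempty (i_* ⊣ Γ_Z ⋙ i⁻¹)`.
* `push_map_epi`, `push_preservesFiniteColimits`, `push_preservesInjectiveObjects` (closed embeddings),
  `nonempty_H_push : H^p(Z, F) ≃+ H^p(X, i_* F)`.
* `nonempty_adj`: the abstract statement behind it.
-/

set_option autoImplicit false
universe v₁ v₂ u₁ u₂ u
open CategoryTheory CategoryTheory.Limits Opposite TopologicalSpace

namespace Groth.Agent.Lib.Helper16.ClosedEmb

section AbstractAdj

variable {𝒳 : Type u₁} [Category.{v₁} 𝒳] {𝒵 : Type u₂} [Category.{v₂} 𝒵]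
  {Li : 𝒳 ⥤ 𝒵} {Ri : 𝒵 ⥤ 𝒳} (adj : Li ⊣ Ri) [Ri.Full] [Ri.Faithful]
  (Γ : 𝒳 ⥤ 𝒳) (ιΓ : ∀ F, Γ.obj F ⟶ F) [∀ F, Mono (ιΓ F)]
  (hnat : ∀ {F F' : 𝒳} (f : F ⟶ F'), Γ.map f ≫ ιΓ F' = ιΓ F ≫ f)
  (h3 : ∀ (G : 𝒵) (F : 𝒳) (φ : Ri.obj G ⟶ F), ∃ ψ : Ri.obj G ⟶ Γ.obj F, ψ ≫ ιΓ F = φ)
  (h4 : ∀ F, IsIso (adj.unit.app (Γ.obj F)))

include hnat h3 h4 in
/-- a fully faithful right adjoint `Ri` whose image is coreflective via `Γ` is left adjoint to `Γ ⋙ Li`. -/
theorem nonempty_adj : Nonempty (Ri ⊣ Γ ⋙ Li) := by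
  haveI := h4
  let lift : ∀ {G : 𝒵} {F : 𝒳} (φ : Ri.obj G ⟶ F), Ri.obj G ⟶ Γ.obj F := fun {G F} φ => (h3 G F φ).choose
  have lift_ι : ∀ {G : 𝒵} {F : 𝒳} (φ : Ri.obj G ⟶ F), lift φ ≫ ιΓ F = φ :=
    fun {G F} φ => (h3 G F φ).choose_spec
  refine ⟨Adjunction.mkOfHomEquiv
    { homEquiv := fun G F =>
        { toFun := fun φ => Ri.preimage (lift φ ≫ adj.unit.app (Γ.obj F))
          invFun := fun ψ => Ri.map ψ ≫ inv (adj.unit.app (Γ.obj F)) ≫ ιΓ F
          left_inv := fun φ => by
            simp only [Functor.map_preimage, Category.assoc, IsIso.hom_inv_id_assoc]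
            exact lift_ι φ
          right_inv := fun ψ => by
            apply Ri.map_injective
            simp only [Functor.map_preimage]
            have : lift (Ri.map ψ ≫ inv (adj.unit.app (Γ.obj F)) ≫ ιΓ F) =
                Ri.map ψ ≫ inv (adj.unit.app (Γ.obj F)) := by
              rw [← cancel_mono (ιΓ F), lift_ι, Category.assoc]
            rw [this, Category.assoc, IsIso.inv_hom_id, Category.comp_id] }
      homEquiv_naturality_left_symm := fun {G' G F} f ψ => by
        simp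
      homEquiv_naturality_right := fun {G F F'} φ g => by
        apply Ri.map_injective
        simp only [Equiv.coe_fn_mk, Functor.map_preimage, Functor.map_comp, Functor.comp_map]
        have e1 : lift (φ ≫ g) = lift φ ≫ Γ.map g := by
          rw [← cancel_mono (ιΓ F'), lift_ι, Category.assoc, hnat, ← Category.assoc, lift_ι]
        have e2 := adj.unit.naturality (Γ.map g)
        simp only [Functor.id_obj, Functor.id_map, Functor.comp_obj, Functor.comp_map] at e2
        rw [e1, Category.assoc, e2, Category.assoc] }⟩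

end AbstractAdj

section General

variable {Z X : TopCat.{u}} (i : Z ⟶ X) (hi : Topology.IsClosedEmbedding i)

/-- the largest open `V` of `X` with `i⁻¹ V = W`. -/
def vObj (W : Opens Z) : Opens X :=
  ⟨(i '' ((W : Set Z)ᶜ))ᶜ, (hi.isClosedMap _ W.isOpen.isClosed_compl).isOpen_compl⟩

lemma mem_vObj {W : Opens Z} {x : X} : x ∈ vObj i hi W ↔ ∀ z : Z, i z = x → z ∈ W := by
  change x ∉ i '' ((W : Set Z)ᶜ) ↔ _
  constructor
  · intro h z hz
    by_contra hzW
    exact h ⟨z, hzW, hz⟩
  · rintro h ⟨z, hzW, hz⟩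
    exact hzW (h z hz)

lemma vObj_mono {W W' : Opens Z} (h : W ≤ W') : vObj i hi W ≤ vObj i hi W' := by
  intro x hx
  rw [mem_vObj] at hx ⊢
  exact fun z hz => h (hx z hz)

lemma map_vObj (W : Opens Z) : (Opens.map i).obj (vObj i hi W) = W := by
  ext z
  change i z ∈ vObj i hi W ↔ z ∈ W
  rw [mem_vObj]
  constructor
  · intro h; exact h z rfl
  · intro h z' hz'
    rw [hi.injective hz']; exact h

lemma le_vObj_map (V : Opens X) : V ≤ vObj i hi ((Opens.map i).obj V) := by
  intro x hx
  rw [mem_vObj]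
  intro z hz
  change i z ∈ V
  rw [hz]; exact hx

include hi in
/-- `i_*` is faithful for a closed embedding. -/
lemma push_faithful : (CohTop.push i).Faithful := by
  constructor
  intro G G' ψ ψ' h
  apply Sheaf.hom_ext
  ext W : 2
  -- use V = vObj W
  have h1 : ((CohTop.push i).map ψ).hom.app (op (vObj i hi W.unop)) =
      ((CohTop.push i).map ψ').hom.app (op (vObj i hi W.unop)) := by rw [h]
  change ψ.hom.app (op ((Opens.map i).obj (vObj i hi W.unop))) =
    ψ'.hom.app (op ((Opens.map i).obj (vObj i hi W.unop))) at h1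
  have e : (Opens.map i).obj (vObj i hi W.unop) = W.unop := map_vObj i hi W.unop
  have hW : W = op ((Opens.map i).obj (vObj i hi W.unop)) := by rw [e]
  rw [hW]
  exact h1

/-- clean-typed components of a map `i_* G ⟶ i_* G'`. -/
def cmp {G G' : CohTop.Ab Z} (φ : (CohTop.push i).obj G ⟶ (CohTop.push i).obj G') (V : Opens X) :
    G.obj.obj (op ((Opens.map i).obj V)) ⟶ G'.obj.obj (op ((Opens.map i).obj V)) :=
  φ.hom.app (op V)

lemma cmp_nat {G G' : CohTop.Ab Z} (φ : (CohTop.push i).obj G ⟶ (CohTop.push i).obj G')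
    {V V' : Opens X} (h : V' ≤ V) :
    G.obj.map ((Opens.map i).map (homOfLE h)).op ≫ cmp i φ V' =
      cmp i φ V ≫ G'.obj.map ((Opens.map i).map (homOfLE h)).op :=
  φ.hom.naturality (homOfLE h).op

/-- the preimage of a map `i_* G ⟶ i_* G'`. -/
noncomputable def preimage {G G' : CohTop.Ab Z} (φ : (CohTop.push i).obj G ⟶ (CohTop.push i).obj G') :
    G ⟶ G' :=
  ⟨{ app := fun W =>
        G.obj.map (eqToHom (congrArg op (map_vObj i hi W.unop).symm)) ≫
          cmp i φ (vObj i hi W.unop) ≫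
          G'.obj.map (eqToHom (congrArg op (map_vObj i hi W.unop)))
     naturality := fun W W' f => by
        have hle : vObj i hi W'.unop ≤ vObj i hi W.unop := vObj_mono i hi f.unop.le
        have nat := cmp_nat i φ hle
        rw [← Category.assoc, ← G.obj.map_comp, Category.assoc, Category.assoc, ← G'.obj.map_comp]
        have e1 : f ≫ eqToHom (congrArg op (map_vObj i hi W'.unop).symm) =
            eqToHom (congrArg op (map_vObj i hi W.unop).symm) ≫
              ((Opens.map i).map (homOfLE hle)).op := Subsingleton.elim _ _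
        have e2 : eqToHom (congrArg op (map_vObj i hi W.unop)) ≫ f =
            ((Opens.map i).map (homOfLE hle)).op ≫
              eqToHom (congrArg op (map_vObj i hi W'.unop)) := Subsingleton.elim _ _
        rw [e1, e2, G.obj.map_comp, G'.obj.map_comp, Category.assoc, ← Category.assoc _ _ (G'.obj.map _),
          nat, Category.assoc] }⟩

lemma map_preimage {G G' : CohTop.Ab Z} (φ : (CohTop.push i).obj G ⟶ (CohTop.push i).obj G') :
    (CohTop.push i).map (preimage i hi φ) = φ := by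
  apply Sheaf.hom_ext
  ext V : 2
  have hle : V.unop ≤ vObj i hi ((Opens.map i).obj V.unop) := le_vObj_map i hi V.unop
  have nat := cmp_nat i φ hle
  change G.obj.map (eqToHom (congrArg op (map_vObj i hi ((Opens.map i).obj V.unop)).symm)) ≫
      cmp i φ (vObj i hi ((Opens.map i).obj V.unop)) ≫
      G'.obj.map (eqToHom (congrArg op (map_vObj i hi ((Opens.map i).obj V.unop)))) = cmp i φ V.unop
  have e2 : eqToHom (congrArg op (map_vObj i hi ((Opens.map i).obj V.unop))) =
      ((Opens.map i).map (homOfLE hle)).op := Subsingleton.elim _ _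
  rw [e2, ← nat, ← Category.assoc, ← G.obj.map_comp]
  have e3 : eqToHom (congrArg op (map_vObj i hi ((Opens.map i).obj V.unop)).symm) ≫
      ((Opens.map i).map (homOfLE hle)).op = 𝟙 _ := Subsingleton.elim _ _
  rw [e3, G.obj.map_id, Category.id_comp]

include hi in
lemma push_full : (CohTop.push i).Full := ⟨fun φ => ⟨preimage i hi φ, map_preimage i hi φ⟩⟩

end General

section Compl

variable {X : TopCat.{u}} (U : Opens X)

/-- the closed complement -/
abbrev iZ : TopCat.of ((U : Set X)ᶜ : Set X) ⟶ X := CohCx.inclCompl U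
/-- the open inclusion -/
abbrev jU : TopCat.of U ⟶ X := CohCx.incl U

lemma hiZ : Topology.IsClosedEmbedding (iZ U) := by
  change Topology.IsClosedEmbedding (Subtype.val : ((U : Set X)ᶜ : Set X) → X)
  exact (isClosed_compl_iff.2 U.isOpen).isClosedEmbedding_subtypeVal

lemma map_iZ_eq_bot {V : Opens X} (h : V ≤ U) : (Opens.map (iZ U)).obj V = ⊥ := by
  ext z
  simp only [Opens.coe_bot, Set.mem_empty_iff_false, iff_false]
  intro hz
  exact z.2 (h (show z.1 ∈ V from hz))

lemma subsingleton_of_eq_bot {Y : TopCat.{u}} (G : CohTop.Ab Y) {W : Opens Y} (h : W = ⊥) :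
    Subsingleton (ToType (G.obj.obj (op W))) := by
  have hT : IsTerminal (G.obj.obj (op W)) := TopCat.Sheaf.isTerminalOfEqEmpty G h
  have hZ : IsZero (G.obj.obj (op W)) :=
    IsZero.of_iso (isZero_zero _) (hT.uniqueUpToIso HasZeroObject.zeroIsTerminal)
  exact AddCommGrpCat.subsingleton_of_isZero hZ

/-- restriction along an equality of opens is injective -/
lemma map_injective_of_eq {Y : TopCat.{u}} (G : CohTop.Ab Y) {W W' : Opens Y} (f : W' ⟶ W) (h : W = W') :
    Function.Injective (G.obj.map f.op) := by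
  subst h
  have : f = 𝟙 _ := Subsingleton.elim _ _
  rw [this]
  intro a b hab
  simpa using hab

/-- any map `i_* G ⟶ j_* K` vanishes. -/
lemma hom_push_push_eq_zero (G : CohTop.Ab (TopCat.of ((U : Set X)ᶜ : Set X))) (K : CohTop.Ab (TopCat.of U))
    (φ : (CohTop.push (iZ U)).obj G ⟶ (CohTop.push (jU U)).obj K) : φ = 0 := by
  apply Sheaf.hom_ext
  ext V s
  change φ.hom.app V s = 0
  -- V' = V ⊓ U
  have hle : V.unop ⊓ U ≤ V.unop := inf_le_left
  have nat := ConcreteCategory.congr_hom (φ.hom.naturality (homOfLE hle).op) s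
  have hsub : Subsingleton (ToType (G.obj.obj (op ((Opens.map (iZ U)).obj (V.unop ⊓ U))))) :=
    subsingleton_of_eq_bot G (map_iZ_eq_bot U inf_le_right)
  have h0 : ((CohTop.push (iZ U)).obj G).obj.map (homOfLE hle).op s = 0 :=
    @Subsingleton.elim _ hsub _ _
  have nat' : ((CohTop.push (jU U)).obj K).obj.map (homOfLE hle).op (φ.hom.app V s) =
      φ.hom.app (op (V.unop ⊓ U)) (((CohTop.push (iZ U)).obj G).obj.map (homOfLE hle).op s) := nat.symm
  rw [h0, map_zero] at nat'
  have heq : (Opens.map (jU U)).obj V.unop = (Opens.map (jU U)).obj (V.unop ⊓ U) := by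
    ext x
    constructor
    · intro h
      exact ⟨show x.1 ∈ V.unop from h, x.2⟩
    · intro h
      exact (show x.1 ∈ V.unop ∧ x.1 ∈ U from h).1
  have inj := map_injective_of_eq K ((Opens.map (jU U)).map (homOfLE hle)) heq
  exact inj (nat'.trans (map_zero _).symm)

/-- image of an open of `U` in `X`. -/
abbrev img (W : Opens (TopCat.of U)) : Opens X :=
  (U.isOpenEmbedding.isOpenMap.functor).obj W

lemma img_map_le (V : Opens X) : img U ((Opens.map (jU U)).obj V) ≤ V := by
  rintro _ ⟨x, hx, rfl⟩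
  exact hx

lemma img_map_eq {V : Opens X} (h : V ≤ U) : V = img U ((Opens.map (jU U)).obj V) := by
  apply le_antisymm
  · intro x hx
    exact ⟨⟨x, h hx⟩, hx, rfl⟩
  · exact img_map_le U V

/-- restriction `F ⟶ j_* (F|_U)`. -/
noncomputable def ρ (F : CohTop.Ab X) : F ⟶ (CohTop.push (jU U)).obj ((CohTop.restrFunctor U).obj F) :=
  ⟨{ app := fun V => F.obj.map (homOfLE (img_map_le U V.unop)).op
     naturality := fun V V' f => by
        exact (F.obj.map_comp _ _).symm.trans
          ((congrArg F.obj.map (Subsingleton.elim _ _)).trans (F.obj.map_comp _ _)) }⟩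

/-- sheaves vanishing on opens contained in `U`. -/
def SZ (H : CohTop.Ab X) : Prop := ∀ V : Opens X, V ≤ U → Subsingleton (ToType (H.obj.obj (op V)))

/-- the adjunction `j⁻¹ ⊣ j_*` -/
noncomputable abbrev adjJ := TopCat.Sheaf.pullbackPushforwardAdjunction AddCommGrpCat.{u} (jU U)
/-- the adjunction `i⁻¹ ⊣ i_*` -/
noncomputable abbrev adjI := TopCat.Sheaf.pullbackPushforwardAdjunction AddCommGrpCat.{u} (iZ U)

lemma unit_injective_of_le (F : CohTop.Ab X) {V : Opens X} (h : V ≤ U) (s : F.obj.obj (op V))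
    (hs : ((adjJ U).unit.app F).hom.app (op V) s = 0) : s = 0 := by
  set ρt := ((adjJ U).homEquiv F _).symm (ρ U F) with hρt
  have h1 : (adjJ U).unit.app F ≫ (CohTop.push (jU U)).map ρt = ρ U F := by
    have := ((adjJ U).homEquiv F _).apply_symm_apply (ρ U F)
    exact (Adjunction.homEquiv_unit (adjJ U) F _ _).symm.trans this
  have h2 : (ρ U F).hom.app (op V) s = 0 := by
    rw [← h1]
    change ((CohTop.push (jU U)).map ρt).hom.app (op V) (((adjJ U).unit.app F).hom.app (op V) s) = 0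
    rw [hs, map_zero]
  have inj := map_injective_of_eq F (homOfLE (img_map_le U V)) (img_map_eq U h)
  exact inj (h2.trans (map_zero _).symm)

lemma injective_of_mono {Y : TopCat.{u}} {F G : CohTop.Ab Y} (f : F ⟶ G) [Mono f] (V : Opens Y) :
    Function.Injective (f.hom.app (op V)) := by
  haveI : Mono f.hom := (sheafToPresheaf _ _).map_mono f
  haveI : Mono (f.hom.app (op V)) := inferInstance
  exact (AddCommGrpCat.mono_iff_injective _).1 inferInstance

lemma sectSupp_ι_injective (F : CohTop.Ab X) (V : Opens X) :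
    Function.Injective ((kernel.ι ((adjJ U).unit.app F)).hom.app (op V)) := by
  haveI hm : Mono (kernel.ι ((adjJ U).unit.app F)) := inferInstance
  exact @injective_of_mono _ _ _ (kernel.ι ((adjJ U).unit.app F)) hm V

lemma sectSupp_condition (F : CohTop.Ab X) (V : Opens X) (t : (CohCx.sectSupp U F).obj.obj (op V)) :
    ((adjJ U).unit.app F).hom.app (op V) ((kernel.ι ((adjJ U).unit.app F)).hom.app (op V) t) = 0 := by
  have hc : kernel.ι ((adjJ U).unit.app F) ≫ (adjJ U).unit.app F = 0 := kernel.condition _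
  have := congrArg (fun m => m.hom.app (op V) t) hc
  exact this

lemma sz_sectSupp (F : CohTop.Ab X) : SZ U (CohCx.sectSupp U F) := by
  intro V hV
  refine subsingleton_of_forall_eq 0 (fun t => ?_)
  apply sectSupp_ι_injective U F V
  refine Eq.trans ?_ (map_zero _).symm
  exact unit_injective_of_le U F hV _ (sectSupp_condition U F V t)

/-- gluing for sheaves vanishing on `U`: `U` may be added to any cover for free. -/
lemma glueZ (H : CohTop.Ab X) (hH : SZ U H) {ι : Type u} (A : ι → Opens X) (B : Opens X)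
    (hUB : U ≤ B) (hAB : ∀ k, A k ≤ B) (hcov : B ≤ U ⊔ ⨆ k, A k)
    (sf : ∀ k, ToType (H.obj.obj (op (A k))))
    (hsf : ∀ k l, H.obj.map (homOfLE (inf_le_left : A k ⊓ A l ≤ A k)).op (sf k) =
      H.obj.map (homOfLE (inf_le_right : A k ⊓ A l ≤ A l)).op (sf l)) :
    ∃! s : ToType (H.obj.obj (op B)), ∀ k, H.obj.map (homOfLE (hAB k)).op s = sf k := by
  let cov : Option ι → Opens X := fun o => Option.rec U A o
  let sf' : ∀ o, ToType (H.obj.obj (op (cov o))) := fun o =>
    match o with
    | none => (0 : ToType (H.obj.obj (op U)))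
    | some k => sf k
  have iUV : ∀ o, cov o ⟶ B := fun o => homOfLE (by
    cases o with
    | none => exact hUB
    | some k => exact hAB k)
  have hcover : B ≤ iSup cov := by
    intro x hx
    rcases hcov hx with h | h
    · exact Opens.mem_iSup.mpr ⟨none, h⟩
    · obtain ⟨k, hk⟩ := Opens.mem_iSup.mp h
      exact Opens.mem_iSup.mpr ⟨some k, hk⟩
  have hcompat : TopCat.Presheaf.IsCompatible H.obj cov sf' := by
    intro o o'
    cases o with
    | none =>
      haveI := hH (cov none ⊓ cov o') inf_le_left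
      exact Subsingleton.elim _ _
    | some k =>
      cases o' with
      | none =>
        haveI := hH (cov (some k) ⊓ cov none) inf_le_right
        exact Subsingleton.elim _ _
      | some l => exact hsf k l
  obtain ⟨s, hs, huniq⟩ := TopCat.Sheaf.existsUnique_gluing' H cov B iUV hcover sf' hcompat
  refine ⟨s, fun k => hs (some k), fun s' hs' => huniq s' (fun o => ?_)⟩
  cases o with
  | none =>
    haveI := hH (cov none) le_rfl
    exact Subsingleton.elim _ _
  | some k => exact hs' k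

/-- `W ↦ U ∪ W` as a functor. -/
def vFun : Opens (TopCat.of ((U : Set X)ᶜ : Set X)) ⥤ Opens X where
  obj W := vObj (iZ U) (hiZ U) W
  map f := homOfLE (vObj_mono (iZ U) (hiZ U) f.le)

lemma le_vObj (W : Opens (TopCat.of ((U : Set X)ᶜ : Set X))) : U ≤ vObj (iZ U) (hiZ U) W := by
  intro x hx
  rw [mem_vObj]
  intro z hz
  exact absurd (show z.1 ∈ U by rw [show z.1 = x from hz]; exact hx) z.2

lemma vObj_iSup_le {ι : Type u} (W : ι → Opens (TopCat.of ((U : Set X)ᶜ : Set X))) :
    vObj (iZ U) (hiZ U) (iSup W) ≤ U ⊔ ⨆ k, vObj (iZ U) (hiZ U) (W k) := by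
  intro x hx
  by_cases hxU : x ∈ U
  · exact Or.inl hxU
  · right
    rw [mem_vObj] at hx
    have := hx ⟨x, hxU⟩ rfl
    obtain ⟨k, hk⟩ := Opens.mem_iSup.mp this
    refine Opens.mem_iSup.mpr ⟨k, ?_⟩
    rw [mem_vObj]
    intro z hz
    have : z = ⟨x, hxU⟩ := Subtype.ext hz
    rw [this]; exact hk

lemma vObj_inf (W W' : Opens (TopCat.of ((U : Set X)ᶜ : Set X))) :
    vObj (iZ U) (hiZ U) W ⊓ vObj (iZ U) (hiZ U) W' ≤ vObj (iZ U) (hiZ U) (W ⊓ W') := by
  intro x hx
  rw [mem_vObj]
  intro z hz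
  exact ⟨(mem_vObj _ _).1 hx.1 z hz, (mem_vObj _ _).1 hx.2 z hz⟩

/-- the presheaf on `Z` attached to a sheaf on `X`. -/
noncomputable def toZP (H : CohTop.Ab X) : (Opens (TopCat.of ((U : Set X)ᶜ : Set X)))ᵒᵖ ⥤ AddCommGrpCat.{u} :=
  (vFun U).op ⋙ H.obj

lemma map_map_apply {Y : TopCat.{u}} (H : CohTop.Ab Y) {A B C : Opens Y} (f : B ⟶ A) (g : C ⟶ B) (h : C ⟶ A)
    (s : ToType (H.obj.obj (op A))) : H.obj.map g.op (H.obj.map f.op s) = H.obj.map h.op s := by
  have : h = g ≫ f := Subsingleton.elim _ _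
  rw [this, op_comp, H.obj.map_comp]
  rfl

lemma toZP_isSheaf (H : CohTop.Ab X) (hH : SZ U H) : TopCat.Presheaf.IsSheaf (toZP U H) := by
  rw [TopCat.Presheaf.isSheaf_iff_isSheafUniqueGluing]
  intro ι W sf hsf
  have key := glueZ U H hH (fun k => vObj (iZ U) (hiZ U) (W k)) (vObj (iZ U) (hiZ U) (iSup W))
    (le_vObj U _) (fun k => vObj_mono _ _ (le_iSup W k)) (vObj_iSup_le U W) sf (fun k l => by
      have h1 : H.obj.map ((vFun U).map (Opens.infLELeft (W k) (W l))).op (sf k) =
          H.obj.map ((vFun U).map (Opens.infLERight (W k) (W l))).op (sf l) := hsf k l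
      have h2 := congrArg (H.obj.map (homOfLE (vObj_inf U (W k) (W l))).op) h1
      exact (map_map_apply H ((vFun U).map (Opens.infLELeft (W k) (W l)))
        (homOfLE (vObj_inf U (W k) (W l))) (homOfLE inf_le_left) (sf k)).symm.trans
        (h2.trans (map_map_apply H ((vFun U).map (Opens.infLERight (W k) (W l)))
        (homOfLE (vObj_inf U (W k) (W l))) (homOfLE inf_le_right) (sf l))))
  obtain ⟨s, hs, huniq⟩ := key
  refine ⟨s, fun k => hs k, fun s' hs' => huniq s' (fun k => hs' k)⟩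

/-- the sheaf on `Z` attached to a sheaf on `X` vanishing on `U`. -/
noncomputable def toZ (H : CohTop.Ab X) (hH : SZ U H) : CohTop.Ab (TopCat.of ((U : Set X)ᶜ : Set X)) :=
  ⟨toZP U H, toZP_isSheaf U H hH⟩

/-- the comparison `i_* (toZ H) ⟶ H`. -/
noncomputable def θ (H : CohTop.Ab X) (hH : SZ U H) : (CohTop.push (iZ U)).obj (toZ U H hH) ⟶ H :=
  ⟨{ app := fun V => H.obj.map (homOfLE (le_vObj_map (iZ U) (hiZ U) V.unop)).op
     naturality := fun V V' f => by
        exact (H.obj.map_comp _ _).symm.trans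
          ((congrArg H.obj.map (Subsingleton.elim _ _)).trans (H.obj.map_comp _ _)) }⟩

lemma θ_bijective (H : CohTop.Ab X) (hH : SZ U H) (V : Opens X) :
    Function.Bijective (H.obj.map (homOfLE (le_vObj_map (iZ U) (hiZ U) V)).op) := by
  have hcov : vObj (iZ U) (hiZ U) ((Opens.map (iZ U)).obj V) ≤ U ⊔ ⨆ _ : PUnit.{u+1}, V := by
    intro x hx
    by_cases hxU : x ∈ U
    · exact Or.inl hxU
    · right
      rw [mem_vObj] at hx
      exact Opens.mem_iSup.mpr ⟨PUnit.unit, hx ⟨x, hxU⟩ rfl⟩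
  constructor
  · intro s s' hss'
    obtain ⟨t, _, huniq⟩ := glueZ U H hH (fun _ : PUnit.{u+1} => V)
      (vObj (iZ U) (hiZ U) ((Opens.map (iZ U)).obj V)) (le_vObj U _)
      (fun _ => le_vObj_map (iZ U) (hiZ U) V) hcov
      (fun _ => H.obj.map (homOfLE (le_vObj_map (iZ U) (hiZ U) V)).op s) (fun _ _ => rfl)
    rw [huniq s (fun _ => rfl), huniq s' (fun _ => hss'.symm)]
  · intro t
    obtain ⟨s, hs, _⟩ := glueZ U H hH (fun _ : PUnit.{u+1} => V)
      (vObj (iZ U) (hiZ U) ((Opens.map (iZ U)).obj V)) (le_vObj U _)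
      (fun _ => le_vObj_map (iZ U) (hiZ U) V) hcov (fun _ => t) (fun _ _ => rfl)
    exact ⟨s, hs PUnit.unit⟩

instance θ_isIso (H : CohTop.Ab X) (hH : SZ U H) : IsIso (θ U H hH) := by
  haveI : ∀ V, IsIso ((θ U H hH).hom.app V) := fun V =>
    (ConcreteCategory.isIso_iff_bijective _).2 (θ_bijective U H hH V.unop)
  haveI : IsIso (θ U H hH).hom := NatIso.isIso_of_isIso_app _
  haveI : IsIso ((sheafToPresheaf _ _).map (θ U H hH)) := ‹IsIso (θ U H hH).hom›
  exact isIso_of_reflects_iso (θ U H hH) (sheafToPresheaf _ _)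

/-- for sheaves vanishing on `U`, the unit `H ⟶ i_* i⁻¹ H` is an isomorphism. -/
lemma isIso_unit_of_SZ (H : CohTop.Ab X) (hH : SZ U H) : IsIso ((adjI U).unit.app H) :=
  @Adjunction.isIso_unit_app_of_iso _ _ _ _ _ _ (adjI U) (push_faithful (iZ U) (hiZ U))
    (push_full (iZ U) (hiZ U)) (toZ U H hH) H (asIso (θ U H hH)).symm

end Compl


section Final

variable {X : TopCat.{u}} (U : Opens X)

/-- the unit `F ⟶ j_* j⁻¹ F`, typed in `CohTop.Ab X`. -/
noncomputable def ηJ (F : CohTop.Ab X) : F ⟶ (CohTop.push (jU U)).obj ((CohTop.pull (jU U)).obj F) :=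
  (adjJ U).unit.app F

/-- the inclusion `Γ_Z F ⟶ F`. -/
noncomputable def ιΓ (F : CohTop.Ab X) : (LocCohZ.sectSuppF U).obj F ⟶ F := kernel.ι (ηJ U F)

instance mono_ιΓ (F : CohTop.Ab X) : Mono (ιΓ U F) :=
  (inferInstance : Mono (kernel.ι (ηJ U F)))

lemma ιΓ_nat {F F' : CohTop.Ab X} (f : F ⟶ F') :
    (LocCohZ.sectSuppF U).map f ≫ ιΓ U F' = ιΓ U F ≫ f :=
  kernel.lift_ι _ _ _

lemma exists_lift (G : CohTop.Ab (TopCat.of ((U : Set X)ᶜ : Set X))) (F : CohTop.Ab X)
    (φ : (CohTop.push (iZ U)).obj G ⟶ F) :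
    ∃ ψ : (CohTop.push (iZ U)).obj G ⟶ (LocCohZ.sectSuppF U).obj F, ψ ≫ ιΓ U F = φ := by
  have h0 : φ ≫ ηJ U F = 0 := hom_push_push_eq_zero U G _ _
  exact ⟨kernel.lift _ φ h0, kernel.lift_ι _ _ _⟩

/-- **Adjunction `i_* ⊣ i⁻¹ Γ_Z`** for the closed complement of an open. -/
theorem nonempty_push_adj :
    Nonempty (CohTop.push (CohCx.inclCompl U) ⊣ LocCohZ.sectSuppF U ⋙ CohTop.pull (CohCx.inclCompl U)) :=
  @nonempty_adj _ _ _ _ _ _ (adjI U) (push_full (iZ U) (hiZ U)) (push_faithful (iZ U) (hiZ U))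
    (LocCohZ.sectSuppF U) (ιΓ U) (fun F => mono_ιΓ U F)
    (fun {F F'} f => ιΓ_nat U f) (fun G F φ => exists_lift U G F φ)
    (fun F => isIso_unit_of_SZ U _ (sz_sectSupp U F))

end Final

section General2

variable {Z X : TopCat.{u}} (i : Z ⟶ X) (hi : Topology.IsClosedEmbedding i)

lemma locSurj_iff {Y : TopCat.{u}} {A B : CohTop.Ab Y} (g : A ⟶ B) :
    Epi g ↔ ∀ (V : Opens Y) (t : ToType (B.obj.obj (op V))) (x : Y), x ∈ V →
      ∃ (V' : Opens Y) (h : V' ≤ V), (∃ s : ToType (A.obj.obj (op V')),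
        g.hom.app (op V') s = B.obj.map (homOfLE h).op t) ∧ x ∈ V' := by
  have h1 : TopCat.Presheaf.IsLocallySurjective g.hom ↔ Epi g :=
    TopCat.Sheaf.isLocallySurjective_iff_epi (F := A) (G := B) g
  exact h1.symm.trans (TopCat.Presheaf.isLocallySurjective_iff g.hom)

include hi in
lemma push_map_epi {A B : CohTop.Ab Z} (g : A ⟶ B) [Epi g] : Epi ((CohTop.push i).map g) := by
  have hg := (locSurj_iff g).1 inferInstance
  rw [locSurj_iff]
  intro V t x hx
  by_cases hxr : x ∈ Set.range i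
  · obtain ⟨z, rfl⟩ := hxr
    obtain ⟨W, hWle, ⟨s, hs⟩, hzW⟩ := hg ((Opens.map i).obj V) t z hx
    have hxv : i z ∈ vObj i hi W := (mem_vObj i hi).2 (fun z' hz' => by rw [hi.injective hz']; exact hzW)
    have hle : (Opens.map i).obj (vObj i hi W ⊓ V) ≤ W := by
      intro z' hz'
      exact (mem_vObj i hi).1 hz'.1 z' rfl
    refine ⟨vObj i hi W ⊓ V, inf_le_right, ⟨A.obj.map (homOfLE hle).op s, ?_⟩, ⟨hxv, hx⟩⟩
    have nat := ConcreteCategory.congr_hom (g.hom.naturality (homOfLE hle).op) s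
    change g.hom.app (op ((Opens.map i).obj (vObj i hi W ⊓ V))) (A.obj.map (homOfLE hle).op s) =
      B.obj.map ((Opens.map i).map (homOfLE (inf_le_right : vObj i hi W ⊓ V ≤ V))).op t
    refine nat.trans ?_
    change B.obj.map (homOfLE hle).op (g.hom.app (op W) s) = _
    rw [hs]
    exact map_map_apply B (homOfLE hWle) (homOfLE hle) _ t
  · let V' : Opens X := V ⊓ ⟨(Set.range i)ᶜ, hi.isClosed_range.isOpen_compl⟩
    have hbot : (Opens.map i).obj V' = ⊥ := by
      ext z
      simp only [Opens.coe_bot, Set.mem_empty_iff_false, iff_false]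
      intro hz
      exact hz.2 ⟨z, rfl⟩
    refine ⟨V', inf_le_left, ⟨0, ?_⟩, ⟨hx, hxr⟩⟩
    have hsub := subsingleton_of_eq_bot B hbot
    exact @Subsingleton.elim _ hsub _ _

include hi in
lemma push_preservesFiniteColimits : PreservesFiniteColimits (CohTop.push i) := by
  haveI : (CohTop.push i).PreservesEpimorphisms := ⟨fun g _ => push_map_epi i hi g⟩
  haveI : PreservesLimitsOfSize.{0, 0} (CohTop.push i) :=
    (TopCat.Sheaf.pullbackPushforwardAdjunction AddCommGrpCat.{u} i).rightAdjoint_preservesLimits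
  haveI : (CohTop.push i).PreservesHomology :=
    Functor.preservesHomology_of_preservesEpis_and_kernels _
  exact Functor.preservesFiniteColimits_of_preservesHomology _

lemma push_preservesFiniteLimits : PreservesFiniteLimits (CohTop.push i) := by
  haveI : PreservesLimitsOfSize.{0, 0} (CohTop.push i) :=
    (TopCat.Sheaf.pullbackPushforwardAdjunction AddCommGrpCat.{u} i).rightAdjoint_preservesLimits
  exact PreservesLimitsOfSize.preservesFiniteLimits _

lemma push_preservesInjectiveObjects : (CohTop.push i).PreservesInjectiveObjects := by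
  have : PreservesFiniteLimits (TopCat.Sheaf.pullback AddCommGrpCat.{u} i) :=
    CategoryTheory.Functor.SmallCategories.instPreservesFiniteLimitsSheafSheafPullbackOfRepresentablyFlat
      (Opens.map i) AddCommGrpCat.{u} (Opens.grothendieckTopology ↑X) (Opens.grothendieckTopology ↑Z)
  have h2 : PreservesLimitsOfShape WalkingCospan (TopCat.Sheaf.pullback AddCommGrpCat.{u} i) :=
    PreservesFiniteLimits.preservesFiniteLimits _
  have : (TopCat.Sheaf.pullback AddCommGrpCat.{u} i).PreservesMonomorphisms :=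
    preservesMonomorphisms_of_preservesLimitsOfShape _
  exact @Functor.preservesInjectiveObjects_of_adjunction_of_preservesMonomorphisms _ _ _ _ _ _
    (TopCat.Sheaf.pullbackPushforwardAdjunction AddCommGrpCat.{u} i) this

/-- the constant sheaf `ℤ` -/
noncomputable abbrev constZ (Y : TopCat.{u}) : CohTop.Ab Y :=
  (constantSheaf (Opens.grothendieckTopology Y) AddCommGrpCat.{u}).obj (AddCommGrpCat.of (ULift.{u} ℤ))

/-- the adjunction constant sheaf ⊣ global sections. -/
noncomputable abbrev adjC (Y : TopCat.{u}) :=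
  constantSheafAdj (Opens.grothendieckTopology Y) AddCommGrpCat.{u} (T := (⊤ : Opens Y)) isTerminalTop

/-- the canonical map `ℤ_X ⟶ i_* ℤ_Z`. -/
noncomputable def uZ : constZ X ⟶ (CohTop.push i).obj (constZ Z) :=
  ((adjC X).homEquiv _ _).symm ((adjC Z).unit.app (AddCommGrpCat.of (ULift.{u} ℤ)))

lemma homEquiv_uZ_comp {F : CohTop.Ab Z} (ψ : constZ Z ⟶ F) :
    (adjC X).homEquiv _ _ (uZ i ≫ (CohTop.push i).map ψ) = (adjC Z).homEquiv _ _ ψ := by
  rw [Adjunction.homEquiv_naturality_right]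
  have h1 : (adjC X).homEquiv _ _ (uZ i) = (adjC Z).unit.app (AddCommGrpCat.of (ULift.{u} ℤ)) :=
    ((adjC X).homEquiv _ _).apply_symm_apply _
  rw [h1]
  exact ((adjC Z).homEquiv_unit _ _ ψ).symm

include hi in
lemma uZ_precomp_bijective (F : CohTop.Ab Z) :
    Function.Bijective (fun φ : (CohTop.push i).obj (constZ Z) ⟶ (CohTop.push i).obj F => uZ i ≫ φ) := by
  haveI := push_full i hi
  haveI := push_faithful i hi
  constructor
  · intro φ φ' h
    obtain ⟨ψ, rfl⟩ := (CohTop.push i).map_surjective φ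
    obtain ⟨ψ', rfl⟩ := (CohTop.push i).map_surjective φ'
    have h' : uZ i ≫ (CohTop.push i).map ψ = uZ i ≫ (CohTop.push i).map ψ' := h
    have := congrArg ((adjC X).homEquiv _ _) h'
    rw [homEquiv_uZ_comp, homEquiv_uZ_comp] at this
    rw [((adjC Z).homEquiv _ _).injective this]
  · intro χ
    let a : AddCommGrpCat.of (ULift.{u} ℤ) ⟶
        ((sheafSections (Opens.grothendieckTopology Z) AddCommGrpCat.{u}).obj (op ⊤)).obj F :=
      (adjC X).homEquiv _ _ χ
    refine ⟨(CohTop.push i).map (((adjC Z).homEquiv _ _).symm a), ?_⟩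
    apply ((adjC X).homEquiv _ _).injective
    exact (homEquiv_uZ_comp i _).trans (((adjC Z).homEquiv _ _).apply_symm_apply a)

include hi in
/-- cohomology of `i_* F` agrees with the cohomology of `F` for a closed embedding. -/
theorem nonempty_H_push (F : CohTop.Ab Z) (p : ℕ) :
    Nonempty (CohTop.H F p ≃+ CohTop.H ((CohTop.push i).obj F) p) := by
  haveI := push_full i hi
  haveI := push_faithful i hi
  haveI := push_preservesFiniteColimits i hi
  haveI := push_preservesFiniteLimits i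
  haveI := push_preservesInjectiveObjects i
  have h1 := Functor.mapExt_bijective_of_preservesInjectiveObjects.{u, u} (CohTop.push i) (constZ Z) F p
  have h2 := Groth.Agent.Lib.Helper16.ExtPrecomp.precomp_bijective.{u} (CohTop.push i) (uZ i)
    (uZ_precomp_bijective i hi) p F
  exact ⟨(AddEquiv.ofBijective _ h1).trans (AddEquiv.ofBijective _ h2)⟩

end General2

end Groth.Agent.Lib.Helper16.ClosedEmb
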