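import Groth.Agent.Lib.Helper2QCoh

/-!
# Quasi-coherent modules on qcqs schemes: extending sections from `X_f` (helper6)
-/

set_option autoImplicit false
universe u
open CategoryTheory Limits AlgebraicGeometry TopologicalSpace Opposite

namespace Groth.Agent.Lib.Helper6

section glue

variable {X : TopCat.{u}} (F : X.Sheaf Ab.{u})

/-- Gluing two sections of a sheaf of abelian groups. -/
theorem exists_glue₂ {U₁ U₂ V W : Opens X} (i₁ : U₁ ⟶ V) (i₂ : U₂ ⟶ V)
    (hcover : V ≤ U₁ ⊔ U₂) (j₁ : W ⟶ U₁) (j₂ : W ⟶ U₂) (hW : U₁ ⊓ U₂ ≤ W)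
    (s₁ : F.1.obj (op U₁)) (s₂ : F.1.obj (op U₂))
    (h : F.1.map j₁.op s₁ = F.1.map j₂.op s₂) :
    ∃ s : F.1.obj (op V), F.1.map i₁.op s = s₁ ∧ F.1.map i₂.op s = s₂ := by
  let U : Bool → Opens X := fun b => Bool.rec U₂ U₁ b
  let sf : ∀ b : Bool, ToType (F.1.obj (op (U b))) := fun b =>
    Bool.rec (motive := fun b => ToType (F.1.obj (op (U b)))) s₂ s₁ b
  have hcompat : TopCat.Presheaf.IsCompatible F.1 U sf := by
    have key : F.1.map (homOfLE (inf_le_left : U₁ ⊓ U₂ ≤ U₁)).op s₁ =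
        F.1.map (homOfLE (inf_le_right : U₁ ⊓ U₂ ≤ U₂)).op s₂ := by
      have e₁ : (homOfLE (inf_le_left : U₁ ⊓ U₂ ≤ U₁)) = homOfLE hW ≫ j₁ := Subsingleton.elim _ _
      have e₂ : (homOfLE (inf_le_right : U₁ ⊓ U₂ ≤ U₂)) = homOfLE hW ≫ j₂ := Subsingleton.elim _ _
      rw [e₁, e₂, op_comp, op_comp, F.1.map_comp, F.1.map_comp, ConcreteCategory.comp_apply,
        ConcreteCategory.comp_apply, h]
    rintro (_ | _) (_ | _)
    · rfl
    · change F.1.map (homOfLE (inf_le_left : U₂ ⊓ U₁ ≤ U₂)).op s₂ =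
        F.1.map (homOfLE (inf_le_right : U₂ ⊓ U₁ ≤ U₁)).op s₁
      have e₁ : (homOfLE (inf_le_left : U₂ ⊓ U₁ ≤ U₂)) =
          homOfLE (le_of_eq (inf_comm U₂ U₁)) ≫ homOfLE (inf_le_right : U₁ ⊓ U₂ ≤ U₂) :=
        Subsingleton.elim _ _
      have e₂ : (homOfLE (inf_le_right : U₂ ⊓ U₁ ≤ U₁)) =
          homOfLE (le_of_eq (inf_comm U₂ U₁)) ≫ homOfLE (inf_le_left : U₁ ⊓ U₂ ≤ U₁) :=
        Subsingleton.elim _ _
      rw [e₁, e₂, op_comp, op_comp, F.1.map_comp, F.1.map_comp, ConcreteCategory.comp_apply,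
        ConcreteCategory.comp_apply, key]
    · exact key
    · rfl
  have hcov : V ≤ iSup U := by
    refine hcover.trans (sup_le ?_ ?_)
    · exact le_iSup U true
    · exact le_iSup U false
  obtain ⟨s, hs, -⟩ := F.existsUnique_gluing' U V
    (fun b => Bool.rec (motive := fun b => U b ⟶ V) i₂ i₁ b) hcov sf hcompat
  exact ⟨s, hs true, hs false⟩

end glue


section qcqs

variable {X : Scheme.{u}} (F : X.Modules)

/-- The underlying sheaf of abelian groups. -/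
noncomputable def modSheaf : TopCat.Sheaf Ab.{u} X.toTopCat := ⟨F.presheaf, F.isSheaf⟩

/-- Restriction of sections of a module. -/
noncomputable abbrev res {U V : X.Opens} (h : V ≤ U) (s : Γ(F, U)) : Γ(F, V) :=
  F.presheaf.map (homOfLE h).op s

/-- Restriction of functions. -/
noncomputable abbrev resf {U V : X.Opens} (h : V ≤ U) (r : Γ(X, U)) : Γ(X, V) :=
  X.presheaf.map (homOfLE h).op r

theorem res_res {U V W : X.Opens} (h₁ : V ≤ U) (h₂ : W ≤ V) (s : Γ(F, U)) :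
    res F h₂ (res F h₁ s) = res F (h₂.trans h₁) s := by
  simp only [res]
  rw [← ConcreteCategory.comp_apply, ← Functor.map_comp]
  rfl

theorem resf_resf {U V W : X.Opens} (h₁ : V ≤ U) (h₂ : W ≤ V) (r : Γ(X, U)) :
    resf h₂ (resf h₁ r) = resf (h₂.trans h₁) r := by
  simp only [resf]
  rw [← ConcreteCategory.comp_apply, ← Functor.map_comp]
  rfl

theorem res_smul {U V : X.Opens} (h : V ≤ U) (r : Γ(X, U)) (s : Γ(F, U)) :
    res F h (r • s) = resf h r • res F h s :=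
  Scheme.Modules.map_smul F (homOfLE h) r s

theorem resf_pow {U V : X.Opens} (h : V ≤ U) (r : Γ(X, U)) (n : ℕ) :
    resf h (r ^ n) = resf h r ^ n := map_pow _ _ _

theorem res_zero {U V : X.Opens} (h : V ≤ U) : res F h (0 : Γ(F, U)) = 0 := map_zero _

theorem res_sub {U V : X.Opens} (h : V ≤ U) (s t : Γ(F, U)) :
    res F h (s - t) = res F h s - res F h t := map_sub _ _ _

theorem eq_zero_of_le_bot {V : X.Opens} (hV : V ≤ ⊥) (s : Γ(F, V)) : s = 0 := by
  refine (modSheaf F).eq_of_locally_eq' (fun i : PEmpty.{1} => i.elim) V (fun i => i.elim) ?_ s 0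
    (fun i => i.elim)
  refine hV.trans bot_le

theorem eq_of_res_eq₂ {U₁ U₂ V : X.Opens} (h₁ : U₁ ≤ V) (h₂ : U₂ ≤ V) (hcover : V ≤ U₁ ⊔ U₂)
    (s t : Γ(F, V)) (e₁ : res F h₁ s = res F h₁ t) (e₂ : res F h₂ s = res F h₂ t) : s = t :=
  (modSheaf F).eq_of_locally_eq₂ (homOfLE h₁) (homOfLE h₂) hcover s t e₁ e₂

theorem exists_res_eq₂ {U₁ U₂ V W : X.Opens} (h₁ : U₁ ≤ V) (h₂ : U₂ ≤ V) (hcover : V ≤ U₁ ⊔ U₂)
    (j₁ : W ≤ U₁) (j₂ : W ≤ U₂) (hW : U₁ ⊓ U₂ ≤ W) (s₁ : Γ(F, U₁)) (s₂ : Γ(F, U₂))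
    (h : res F j₁ s₁ = res F j₂ s₂) :
    ∃ s : Γ(F, V), res F h₁ s = s₁ ∧ res F h₂ s = s₂ :=
  exists_glue₂ (modSheaf F) (homOfLE h₁) (homOfLE h₂) hcover (homOfLE j₁) (homOfLE j₂) hW s₁ s₂ h

variable [F.IsQuasicoherent]

theorem exists_pow_smul_eq_zero_of_isCompact {U : X.Opens} (hU : IsCompact U.1) (f : Γ(X, U))
    (s : Γ(F, U)) (H : res F (X.basicOpen_le f) s = 0) : ∃ n : ℕ, f ^ n • s = 0 := by
  revert f s
  refine compact_open_induction_on U hU ?_ ?_
  · intro f s _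
    exact ⟨0, eq_zero_of_le_bot F le_rfl _⟩
  · intro S hS U IH f s H
    have hb₁ : X.basicOpen (resf (le_sup_left : S ≤ S ⊔ U.1) f) ≤ X.basicOpen f := by
      rw [Scheme.basicOpen_res]; exact inf_le_right
    have hb₂ : X.basicOpen (resf (le_sup_right : U.1 ≤ S ⊔ U.1) f) ≤ X.basicOpen f := by
      rw [Scheme.basicOpen_res]; exact inf_le_right
    obtain ⟨n₁, hn₁⟩ := IH (resf le_sup_left f) (res F le_sup_left s) (by
      rw [res_res, ← res_res F (X.basicOpen_le f) hb₁, H, res_zero])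
    obtain ⟨n₂, hn₂⟩ := Groth.Agent.Lib.Helper2.QCoh.exists_pow_smul_eq_zero U.2 F
      (resf le_sup_right f) (res F le_sup_right s) (by
      change res F _ (res F _ s) = 0
      rw [res_res, ← res_res F (X.basicOpen_le f) hb₂, H, res_zero])
    refine ⟨n₁ + n₂, ?_⟩
    apply eq_of_res_eq₂ F (le_sup_left : S ≤ S ⊔ U.1) (le_sup_right : U.1 ≤ S ⊔ U.1) le_rfl
    · rw [res_smul, resf_pow, res_zero, pow_add, mul_comm, mul_smul, hn₁, smul_zero]
    · rw [res_smul, resf_pow, res_zero, pow_add, mul_smul, hn₂, smul_zero]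

theorem exists_extension_of_isCompact_of_isQuasiSeparated {U : X.Opens} (hU : IsCompact U.1)
    (hU' : IsQuasiSeparated U.1) (f : Γ(X, U)) (t : Γ(F, X.basicOpen f)) :
    ∃ (n : ℕ) (s : Γ(F, U)), res F (X.basicOpen_le f) s =
      (resf (X.basicOpen_le f) f) ^ n • t := by
  revert hU' f t
  refine compact_open_induction_on U hU ?_ ?_
  · intro _ f t
    refine ⟨0, 0, ?_⟩
    rw [res_zero, eq_zero_of_le_bot F (X.basicOpen_le f) t, smul_zero]
  · intro S hS U IH hSU f t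
    set f₁ := resf (le_sup_left : S ≤ S ⊔ U.1) f with hf₁
    set f₂ := resf (le_sup_right : U.1 ≤ S ⊔ U.1) f with hf₂
    have hb₁ : X.basicOpen f₁ ≤ X.basicOpen f := by
      rw [Scheme.basicOpen_res]; exact inf_le_right
    have hb₂ : X.basicOpen f₂ ≤ X.basicOpen f := by
      rw [Scheme.basicOpen_res]; exact inf_le_right
    obtain ⟨n₁, s₁, hs₁⟩ := IH (hSU.of_subset Set.subset_union_left) f₁ (res F hb₁ t)
    obtain ⟨n₂, s₂, hs₂⟩ := Groth.Agent.Lib.Helper2.QCoh.exists_extension U.2 F f₂ (res F hb₂ t)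
    change res F (X.basicOpen_le f₂) s₂ = (resf (X.basicOpen_le f₂) f₂) ^ n₂ • res F hb₂ t at hs₂
    -- the intersection
    have hWc : IsCompact (S ⊓ U.1).1 :=
      hSU _ _ Set.subset_union_left S.2 hS Set.subset_union_right U.1.2 U.2.isCompact
    set fW := resf ((inf_le_left : S ⊓ U.1 ≤ S).trans le_sup_left) f with hfW
    have hbW : X.basicOpen fW ≤ X.basicOpen f := by
      rw [Scheme.basicOpen_res]; exact inf_le_right
    have hbW₁ : X.basicOpen fW ≤ X.basicOpen f₁ := by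
      rw [Scheme.basicOpen_res, Scheme.basicOpen_res]
      exact inf_le_inf inf_le_left le_rfl
    have hbW₂ : X.basicOpen fW ≤ X.basicOpen f₂ := by
      rw [Scheme.basicOpen_res, Scheme.basicOpen_res]
      exact inf_le_inf inf_le_right le_rfl
    have hfW₁ : resf (inf_le_left : S ⊓ U.1 ≤ S) f₁ = fW := resf_resf _ _ _
    have hfW₂ : resf (inf_le_right : S ⊓ U.1 ≤ U.1) f₂ = fW := resf_resf _ _ _
    -- restriction of f to the basic open of fW
    set g := resf (hbW.trans (X.basicOpen_le f)) f with hg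
    have e₁ : res F (X.basicOpen_le fW) (res F (inf_le_left : S ⊓ U.1 ≤ S) (f₁ ^ n₂ • s₁)) =
        g ^ (n₁ + n₂) • res F hbW t := by
      rw [res_res, ← res_res F (X.basicOpen_le f₁) hbW₁, res_smul, hs₁, res_smul, res_smul, res_res,
        resf_pow, resf_pow, resf_pow, resf_resf, resf_resf, ← mul_smul, ← pow_add, add_comm]
    have e₂ : res F (X.basicOpen_le fW) (res F (inf_le_right : S ⊓ U.1 ≤ U.1) (f₂ ^ n₁ • s₂)) =
        g ^ (n₁ + n₂) • res F hbW t := by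
      rw [res_res, ← res_res F (X.basicOpen_le f₂) hbW₂, res_smul, hs₂, res_smul, res_smul, res_res,
        resf_pow, resf_pow, resf_pow, resf_resf, resf_resf, ← mul_smul, ← pow_add]
    obtain ⟨m, hm⟩ := exists_pow_smul_eq_zero_of_isCompact F hWc fW
      (res F (inf_le_left : S ⊓ U.1 ≤ S) (f₁ ^ n₂ • s₁) -
        res F (inf_le_right : S ⊓ U.1 ≤ U.1) (f₂ ^ n₁ • s₂)) (by
      rw [res_sub, e₁, e₂, sub_self])
    rw [smul_sub, sub_eq_zero] at hm
    have hglue : res F (inf_le_left : S ⊓ U.1 ≤ S) (f₁ ^ (m + n₂) • s₁) =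
        res F (inf_le_right : S ⊓ U.1 ≤ U.1) (f₂ ^ (m + n₁) • s₂) := by
      rw [pow_add, mul_smul, res_smul, resf_pow, hfW₁, pow_add, mul_smul, res_smul (h := inf_le_right),
        resf_pow, hfW₂]
      exact hm
    obtain ⟨s, hsS, hsU⟩ := exists_res_eq₂ F (le_sup_left : S ≤ S ⊔ U.1)
      (le_sup_right : U.1 ≤ S ⊔ U.1) le_rfl inf_le_left inf_le_right le_rfl _ _ hglue
    refine ⟨m + n₁ + n₂, s, ?_⟩
    have hcov : X.basicOpen f ≤ X.basicOpen f₁ ⊔ X.basicOpen f₂ := by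
      rw [Scheme.basicOpen_res, Scheme.basicOpen_res, ← inf_sup_right]
      exact le_inf (X.basicOpen_le f) le_rfl
    apply eq_of_res_eq₂ F hb₁ hb₂ hcov
    · rw [res_res, ← res_res F (le_sup_left : S ≤ S ⊔ U.1) (X.basicOpen_le f₁), hsS, res_smul,
        hs₁, resf_pow, ← mul_smul, ← pow_add, resf_resf]
      have : m + n₂ + n₁ = m + n₁ + n₂ := by omega
      rw [this]
      conv_rhs => rw [res_smul, resf_pow, resf_resf]
    · rw [res_res, ← res_res F (le_sup_right : U.1 ≤ S ⊔ U.1) (X.basicOpen_le f₂), hsU, res_smul,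
        hs₂, resf_pow, ← mul_smul, ← pow_add, resf_resf]
      conv_rhs => rw [res_smul, resf_pow, resf_resf]

end qcqs


/-- Sections over `X_f` of a quasi-coherent module on a qcqs scheme extend after multiplying by a
positive power of `f`. -/
theorem exists_extension_top_of_qcqs (X : Scheme.{u}) [CompactSpace X] [QuasiSeparatedSpace X]
    (f : Γ(X, ⊤)) (F : X.Modules) [F.IsQuasicoherent] (t : Γ(F, X.basicOpen f)) :
    ∃ n : ℕ, 0 < n ∧ ∃ s : Γ(F, ⊤), res F (le_top : X.basicOpen f ≤ ⊤) s =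
      (resf (le_top : X.basicOpen f ≤ ⊤) f) ^ n • t := by
  obtain ⟨n, s, hs⟩ := exists_extension_of_isCompact_of_isQuasiSeparated F (U := ⊤)
    CompactSpace.isCompact_univ isQuasiSeparated_univ f t
  refine ⟨n + 1, Nat.succ_pos n, f • s, ?_⟩
  rw [res_smul, hs, pow_succ', mul_smul]

/-- A global section of a quasi-coherent module on a quasi-compact scheme vanishing on `X_f`
is killed by a positive power of `f`. -/
theorem exists_pow_smul_eq_zero_top_of_compactSpace (X : Scheme.{u}) [CompactSpace X]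
    (f : Γ(X, ⊤)) (F : X.Modules) [F.IsQuasicoherent] (s : Γ(F, ⊤))
    (hs : res F (le_top : X.basicOpen f ≤ ⊤) s = 0) :
    ∃ n : ℕ, 0 < n ∧ f ^ n • s = 0 := by
  obtain ⟨n, hn⟩ := exists_pow_smul_eq_zero_of_isCompact F (U := ⊤)
    CompactSpace.isCompact_univ f s hs
  exact ⟨n + 1, Nat.succ_pos n, by rw [pow_succ', mul_smul, hn, smul_zero]⟩

end Groth.Agent.Lib.Helper6
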