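import Mathlib
import Groth.Agent.Lib.Helper2QCoh
import Groth.Agent.Lib.Helper6QCohQcqs

set_option autoImplicit false
universe u
open CategoryTheory CategoryTheory.Limits Opposite TopologicalSpace AlgebraicGeometry

namespace Groth.Agent.Lib.Helper23.AffVanish

open Groth.Agent.Lib.Helper6

variable {X : Scheme.{u}}

lemma resf_mul {U V : X.Opens} (h : V ≤ U) (a b : Γ(X, U)) : resf h (a * b) = resf h a * resf h b :=
  map_mul _ _ _

lemma resf_add {U V : X.Opens} (h : V ≤ U) (a b : Γ(X, U)) : resf h (a + b) = resf h a + resf h b :=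
  map_add _ _ _

lemma res_neg (F : X.Modules) {U V : X.Opens} (h : V ≤ U) (s : Γ(F, U)) : res F h (-s) = -res F h s :=
  map_neg _ _

/-- A global function restricts to a unit on any open inside its basic open. -/
lemma isUnit_resf (a : Γ(X, ⊤)) {V : X.Opens} (hV : V ≤ X.basicOpen a) :
    IsUnit (resf (le_top : V ≤ ⊤) a) := by
  have h1 : IsUnit (resf (X.basicOpen_le a) a) := X.toRingedSpace.isUnit_res_basicOpen a
  have h2 : resf (le_top : V ≤ ⊤) a = resf hV (resf (X.basicOpen_le a) a) := (resf_resf _ _ _).symm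
  rw [h2]
  exact h1.map _

lemma res_self (F : X.Modules) {U : X.Opens} (s : Γ(F, U)) : res F (le_refl U) s = s := by
  change F.presheaf.map (𝟙 (op U)) s = s
  rw [F.presheaf.map_id]
  rfl

lemma radical_pow_pair {A : Type*} [CommRing A] (u v h : A) (hh : h ∈ (Ideal.span {u, v}).radical) (k : ℕ) :
    ∃ (N : ℕ) (x y : A), h ^ N = x * u ^ k + y * v ^ k := by
  have h1 : Ideal.span {u, v} ≤ (Ideal.span {u ^ k, v ^ k}).radical := by
    rw [Ideal.span_le]
    rintro a (rfl | rfl)
    · exact ⟨k, Ideal.subset_span (Set.mem_insert _ _)⟩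
    · exact ⟨k, Ideal.subset_span (Set.mem_insert_of_mem _ rfl)⟩
  have h2 := Ideal.radical_mono h1 hh
  rw [Ideal.radical_idem] at h2
  obtain ⟨N, hN⟩ := h2
  obtain ⟨x, y, hxy⟩ := Ideal.mem_span_pair.1 hN
  exact ⟨N, x, y, hxy.symm⟩

variable [IsAffine X]

/-- The two-open Čech `H^1`-vanishing: on an affine scheme, for a quasi-coherent module, sections over
`D(u) ∩ D(v)` are differences of sections over `D(u)` and `D(v)`, provided `D(u) ∪ D(v)` is a basic open `D(h)`. -/
theorem exists_sub_of_pair (F : X.Modules) [F.IsQuasicoherent] (u v h : Γ(X, ⊤))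
    (hh : h ∈ (Ideal.span {u, v}).radical)
    (hu : X.basicOpen u ≤ X.basicOpen h) (hv : X.basicOpen v ≤ X.basicOpen h)
    (s : Γ(F, X.basicOpen u ⊓ X.basicOpen v)) :
    ∃ (t₁ : Γ(F, X.basicOpen u)) (t₂ : Γ(F, X.basicOpen v)),
      s = res F inf_le_left t₁ - res F inf_le_right t₂ := by
  have e : X.basicOpen (u * v) = X.basicOpen u ⊓ X.basicOpen v := X.basicOpen_mul u v
  obtain ⟨k, m, hm⟩ := Groth.Agent.Lib.Helper2.QCoh.exists_extension (isAffineOpen_top X) F (u * v)
    (res F e.le s)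
  obtain ⟨N, x, y, hN⟩ := radical_pow_pair u v h hh k
  -- (1) on W
  have hWt : X.basicOpen u ⊓ X.basicOpen v ≤ ⊤ := le_top
  have h1 : res F hWt m = (resf hWt (u * v)) ^ k • s := by
    have := congrArg (res F e.ge) hm
    change res F e.ge (res F _ m) = res F e.ge ((resf _ (u * v)) ^ k • res F e.le s) at this
    rw [res_res, res_smul, resf_pow, resf_resf, res_res, res_self] at this
    exact this
  -- units
  have hWu : X.basicOpen u ⊓ X.basicOpen v ≤ X.basicOpen u := inf_le_left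
  have hWv : X.basicOpen u ⊓ X.basicOpen v ≤ X.basicOpen v := inf_le_right
  have uu : IsUnit (resf (le_top : X.basicOpen u ≤ ⊤) (u ^ k * h ^ N)) := by
    rw [resf_mul, resf_pow, resf_pow]
    exact ((isUnit_resf u le_rfl).pow k).mul ((isUnit_resf h hu).pow N)
  have uv : IsUnit (resf (le_top : X.basicOpen v ≤ ⊤) (v ^ k * h ^ N)) := by
    rw [resf_mul, resf_pow, resf_pow]
    exact ((isUnit_resf v le_rfl).pow k).mul ((isUnit_resf h hv).pow N)
  have uW : IsUnit (resf hWt ((u * v) ^ k * h ^ N)) := by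
    rw [resf_mul, resf_pow, resf_pow, resf_mul]
    exact (((isUnit_resf u hWu).mul (isUnit_resf v hWv)).pow k).mul ((isUnit_resf h (hWu.trans hu)).pow N)
  obtain ⟨wu, hwu⟩ := isUnit_iff_exists_inv.1 uu
  obtain ⟨wv, hwv⟩ := isUnit_iff_exists_inv.1 uv
  -- t₂' on D(u), t₁' on D(v)
  have hut : X.basicOpen u ≤ ⊤ := le_top
  have hvt : X.basicOpen v ≤ ⊤ := le_top
  obtain ⟨tu, htu⟩ : ∃ tu : Γ(F, X.basicOpen u),
      resf hut (u ^ k * h ^ N) • tu = resf hut y • res F hut m :=
    ⟨wu • (resf hut y • res F hut m), by rw [← mul_smul, hwu, one_smul]⟩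
  obtain ⟨tv, htv⟩ : ∃ tv : Γ(F, X.basicOpen v),
      resf hvt (v ^ k * h ^ N) • tv = resf hvt x • res F hvt m :=
    ⟨wv • (resf hvt x • res F hvt m), by rw [← mul_smul, hwv, one_smul]⟩
  refine ⟨tu, -tv, ?_⟩
  apply uW.smul_left_cancel.1
  have hu' := congrArg (res F hWu) htu
  have hv' := congrArg (res F hWv) htv
  rw [res_smul, res_smul, resf_resf, resf_resf, res_res] at hu' hv'
  have key : resf hWt ((u * v) ^ k * h ^ N) • s = resf hWt (h ^ N) • res F hWt m := by
    rw [h1, ← mul_smul, ← resf_pow, ← resf_mul, mul_comm]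
  rw [key, res_neg, sub_neg_eq_add, smul_add]
  have c1 : resf hWt ((u * v) ^ k * h ^ N) = resf hWt (v ^ k) * resf hWt (u ^ k * h ^ N) := by
    rw [← resf_mul]; congr 1; ring
  have c2 : resf hWt ((u * v) ^ k * h ^ N) = resf hWt (u ^ k) * resf hWt (v ^ k * h ^ N) := by
    rw [← resf_mul]; congr 1; ring
  have e1 : resf hWt ((u * v) ^ k * h ^ N) • res F hWu tu = resf hWt (v ^ k * y) • res F hWt m := by
    rw [c1, mul_smul, hu', ← mul_smul, ← resf_mul]
  have e2 : resf hWt ((u * v) ^ k * h ^ N) • res F hWv tv = resf hWt (u ^ k * x) • res F hWt m := by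
    rw [c2, mul_smul, hv', ← mul_smul, ← resf_mul]
  rw [e1, e2, ← add_smul, ← resf_add, hN]
  congr 2
  ring

end Groth.Agent.Lib.Helper23.AffVanish
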