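import Mathlib
import Groth.Agent.Lib.Helper2QCoh
import Groth.Agent.Lib.Helper6QCohQcqs
import Groth.Agent.Lib.Helper23AffVanish3

/-!
# Affine vanishing on affine opens of arbitrary schemes, part 1 (helper23)

Generalisation of `Helper23AffVanish3/4` from an affine scheme to an affine open `U` of any scheme:
`exists_sub_of_pair'` (two-open Čech `H^1` vanishing on `D(u) ∩ D(v)`, `u v : Γ(X,U)`),
`mem_radical_of_cover'`, `basicOpen_le_sup_of_pow_eq'`, `basicOpen_eq_bot_of_mem_radical_bot'`.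
-/

set_option autoImplicit false
universe u
open CategoryTheory CategoryTheory.Limits Opposite TopologicalSpace AlgebraicGeometry

namespace Groth.Agent.Lib.Helper23.AffVanish

open Groth.Agent.Lib.Helper6

variable {X : Scheme.{u}} {U : X.Opens}

/-- A function on `U` restricts to a unit on any open inside its basic open. -/
lemma isUnit_resf' (a : Γ(X, U)) {V : X.Opens} (hV : V ≤ X.basicOpen a) (hVU : V ≤ U) :
    IsUnit (resf hVU a) := by
  have h1 : IsUnit (resf (X.basicOpen_le a) a) := X.toRingedSpace.isUnit_res_basicOpen a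
  have h2 : resf hVU a = resf hV (resf (X.basicOpen_le a) a) := (resf_resf _ _ _).symm
  rw [h2]
  exact h1.map _

variable (hU : IsAffineOpen U)

include hU in
/-- The two-open Čech `H^1`-vanishing on an affine open. -/
theorem exists_sub_of_pair' (F : X.Modules) [F.IsQuasicoherent] (u v h : Γ(X, U))
    (hh : h ∈ (Ideal.span {u, v}).radical)
    (hu : X.basicOpen u ≤ X.basicOpen h) (hv : X.basicOpen v ≤ X.basicOpen h)
    (s : Γ(F, X.basicOpen u ⊓ X.basicOpen v)) :
    ∃ (t₁ : Γ(F, X.basicOpen u)) (t₂ : Γ(F, X.basicOpen v)),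
      s = res F inf_le_left t₁ - res F inf_le_right t₂ := by
  have e : X.basicOpen (u * v) = X.basicOpen u ⊓ X.basicOpen v := X.basicOpen_mul u v
  obtain ⟨k, m, hm⟩ := Groth.Agent.Lib.Helper2.QCoh.exists_extension hU F (u * v) (res F e.le s)
  obtain ⟨N, x, y, hN⟩ := radical_pow_pair u v h hh k
  have hut : X.basicOpen u ≤ U := X.basicOpen_le u
  have hvt : X.basicOpen v ≤ U := X.basicOpen_le v
  have hWt : X.basicOpen u ⊓ X.basicOpen v ≤ U := inf_le_left.trans hut
  have h1 : res F hWt m = (resf hWt (u * v)) ^ k • s := by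
    have := congrArg (res F e.ge) hm
    change res F e.ge (res F _ m) = res F e.ge ((resf _ (u * v)) ^ k • res F e.le s) at this
    rw [res_res, res_smul, resf_pow, resf_resf, res_res, res_self] at this
    exact this
  have hWu : X.basicOpen u ⊓ X.basicOpen v ≤ X.basicOpen u := inf_le_left
  have hWv : X.basicOpen u ⊓ X.basicOpen v ≤ X.basicOpen v := inf_le_right
  have uu : IsUnit (resf hut (u ^ k * h ^ N)) := by
    rw [resf_mul, resf_pow, resf_pow]
    exact ((isUnit_resf' u le_rfl hut).pow k).mul ((isUnit_resf' h hu hut).pow N)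
  have uv : IsUnit (resf hvt (v ^ k * h ^ N)) := by
    rw [resf_mul, resf_pow, resf_pow]
    exact ((isUnit_resf' v le_rfl hvt).pow k).mul ((isUnit_resf' h hv hvt).pow N)
  have uW : IsUnit (resf hWt ((u * v) ^ k * h ^ N)) := by
    rw [resf_mul, resf_pow, resf_pow, resf_mul]
    exact (((isUnit_resf' u hWu hWt).mul (isUnit_resf' v hWv hWt)).pow k).mul
      ((isUnit_resf' h (hWu.trans hu) hWt).pow N)
  obtain ⟨wu, hwu⟩ := isUnit_iff_exists_inv.1 uu
  obtain ⟨wv, hwv⟩ := isUnit_iff_exists_inv.1 uv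
  obtain ⟨tu, htu⟩ : ∃ tu : Γ(F, X.basicOpen u),
      resf hut (u ^ k * h ^ N) • tu = resf hut y • res F hut m :=
    ⟨wu • (resf hut y • res F hut m), by rw [← mul_smul, hwu, one_smul]⟩
  obtain ⟨tv, htv⟩ : ∃ tv : Γ(F, X.basicOpen v),
      resf hvt (v ^ k * h ^ N) • tv = resf hvt x • res F hvt m :=
    ⟨wv • (resf hvt x • res F hvt m), by rw [← mul_smul, hwv, one_smul]⟩
  refine ⟨tu, -tv, ?_⟩
  apply uW.smul_left_cancel.1
  have hu' := congrArg (res F hWu) htu
  have hv' := congrArg (res F hWv) htv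
  rw [res_smul, res_smul, resf_resf, resf_resf, res_res] at hu' hv'
  have key : resf hWt ((u * v) ^ k * h ^ N) • s = resf hWt (h ^ N) • res F hWt m := by
    rw [h1, ← mul_smul, ← resf_pow, ← resf_mul, mul_comm]
  rw [key, res_neg, sub_neg_eq_add, smul_add]
  have c1 : resf hWt ((u * v) ^ k * h ^ N) = resf hWt (v ^ k) * resf hWt (u ^ k * h ^ N) := by
    rw [← resf_mul]; congr 1; ring
  have c2 : resf hWt ((u * v) ^ k * h ^ N) = resf hWt (u ^ k) * resf hWt (v ^ k * h ^ N) := by
    rw [← resf_mul]; congr 1; ring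
  have e1 : resf hWt ((u * v) ^ k * h ^ N) • res F hWu tu = resf hWt (v ^ k * y) • res F hWt m := by
    rw [c1, mul_smul, hu', ← mul_smul, ← resf_mul]
  have e2 : resf hWt ((u * v) ^ k * h ^ N) • res F hWv tv = resf hWt (u ^ k * x) • res F hWt m := by
    rw [c2, mul_smul, hv', ← mul_smul, ← resf_mul]
  rw [e1, e2, ← add_smul, ← resf_add, hN]
  congr 2
  ring

lemma mem_basicOpen_iff' (x : X) (hx : x ∈ U) (f : Γ(X, U)) :
    x ∈ X.basicOpen f ↔ f ∉ (hU.primeIdealOf ⟨x, hx⟩).asIdeal :=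
  Groth.Agent.Lib.Helper2.mem_basicOpen_iff_notMem_primeIdealOf hU x hx f

include hU in
/-- If `D(h)` is covered by the `D(f)`, `f ∈ S`, then `h` is in the radical of the span of `S`. -/
lemma mem_radical_of_cover' (h : Γ(X, U)) (S : Set Γ(X, U))
    (hc : ∀ x ∈ X.basicOpen h, ∃ f ∈ S, x ∈ X.basicOpen f) : h ∈ (Ideal.span S).radical := by
  rw [Ideal.radical_eq_sInf, Ideal.mem_sInf]
  rintro p ⟨hp, hprime⟩
  by_contra hh
  let q : PrimeSpectrum Γ(X, U) := ⟨p, hprime⟩
  have hx : hU.fromSpec q ∈ X.basicOpen h :=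
    (Groth.Agent.Lib.Helper2.QCoh.mem_basicOpen_fromSpec_iff hU q h).2 hh
  obtain ⟨f, hfS, hf⟩ := hc _ hx
  exact (Groth.Agent.Lib.Helper2.QCoh.mem_basicOpen_fromSpec_iff hU q f).1 hf
    (hp (Ideal.subset_span hfS))

include hU in
lemma basicOpen_le_sup_of_pow_eq' (h a f g : Γ(X, U)) (N : ℕ) (hN : h ^ N = a * f + g) :
    X.basicOpen h ≤ X.basicOpen (h * f) ⊔ X.basicOpen (h * g) := by
  intro x hx
  have hxU : x ∈ U := X.basicOpen_le h hx
  rw [mem_basicOpen_iff' hU x hxU] at hx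
  set p := (hU.primeIdealOf ⟨x, hxU⟩) with hp
  have hpr : p.asIdeal.IsPrime := p.2
  have h1 : h ^ N ∉ p.asIdeal := fun hh => hx (hpr.mem_of_pow_mem N hh)
  by_cases hf : f ∈ p.asIdeal
  · have hg : g ∉ p.asIdeal := by
      intro hg
      apply h1
      rw [hN]
      exact p.asIdeal.add_mem (p.asIdeal.mul_mem_left a hf) hg
    right
    change x ∈ X.basicOpen (h * g)
    rw [mem_basicOpen_iff' hU x hxU]
    intro hhg
    rcases hpr.mem_or_mem hhg with h' | h'
    · exact hx h'
    · exact hg h'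
  · left
    change x ∈ X.basicOpen (h * f)
    rw [mem_basicOpen_iff' hU x hxU]
    intro hhf
    rcases hpr.mem_or_mem hhf with h' | h'
    · exact hx h'
    · exact hf h'

include hU in
lemma basicOpen_eq_bot_of_mem_radical_bot' (h : Γ(X, U)) (hh : h ∈ (⊥ : Ideal Γ(X, U)).radical) :
    X.basicOpen h = ⊥ := by
  rw [eq_bot_iff]
  intro x hx
  exfalso
  have hxU : x ∈ U := X.basicOpen_le h hx
  rw [mem_basicOpen_iff' hU x hxU] at hx
  obtain ⟨N, hN⟩ := hh
  have hpr : (hU.primeIdealOf ⟨x, hxU⟩).asIdeal.IsPrime := (hU.primeIdealOf ⟨x, hxU⟩).2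
  apply hx
  apply hpr.mem_of_pow_mem N
  rw [Ideal.mem_bot.1 hN]
  exact Ideal.zero_mem _

end Groth.Agent.Lib.Helper23.AffVanish
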