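import Mathlib
import Groth.Prelude.Def_LocCohZ
import Groth.Agent.Lib.Helper16ClosedEmb

set_option autoImplicit false
universe u
open CategoryTheory CategoryTheory.Limits Opposite TopologicalSpace Abelian

namespace Groth.Agent.Lib.Helper23.AffVanish

variable {X : TopCat.{u}}

abbrev J (X : TopCat.{u}) := Opens.grothendieckTopology X

noncomputable abbrev ZU (U : Opens X) : CohTop.Ab X := CohCx.freeSheaf (J X) U

/-- `H^n(U, F)` as an Ext group (defeq to `CohTop.HU F n U`). -/
abbrev HE (F : CohTop.Ab X) (n : ℕ) (U : Opens X) : Type u := Ext.{u} (ZU U) F n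

/-- restriction (defeq to `CohTop.res`) -/
noncomputable def resE (F : CohTop.Ab X) (n : ℕ) {U V : Opens X} (h : V ≤ U) : HE F n U →+ HE F n V :=
  (Ext.mk₀ (CohCx.freeSheafMap (J X) (homOfLE h))).precomp F (zero_add n)

lemma res_eq (F : CohTop.Ab X) (n : ℕ) {U V : Opens X} (h : V ≤ U) : CohTop.res F n h = resE F n h := rfl

lemma resE_apply (F : CohTop.Ab X) (n : ℕ) {U V : Opens X} (h : V ≤ U) (x : HE F n U) :
    resE F n h x = (Ext.mk₀ (CohCx.freeSheafMap (J X) (homOfLE h))).comp x (zero_add n) := rfl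

lemma resE_resE (F : CohTop.Ab X) (n : ℕ) {U V W : Opens X} (h : V ≤ U) (h' : W ≤ V) (x : HE F n U) :
    resE F n h' (resE F n h x) = resE F n (h'.trans h) x := by
  rw [resE_apply, resE_apply, resE_apply, Ext.mk₀_comp_mk₀_assoc, ← CohFree.freeSheafMap_comp]
  rfl

lemma resE_self (F : CohTop.Ab X) (n : ℕ) {U : Opens X} (x : HE F n U) :
    resE F n (le_refl U) x = x := by
  rw [resE_apply]
  have : CohCx.freeSheafMap (J X) (homOfLE (le_refl U)) = 𝟙 _ := CohFree.freeSheafMap_id (J X) U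
  rw [this, Ext.mk₀_id_comp]

lemma addEquiv₀_mk₀ {C : Type*} [Category C] [Abelian C] [HasExt.{u} C] {A B : C} (φ : A ⟶ B) :
    Ext.addEquiv₀ (Ext.mk₀ φ) = φ := by
  rw [← Ext.addEquiv₀_symm_apply, AddEquiv.apply_symm_apply]

/-- Degree-zero classes are sections. -/
noncomputable def h0Equiv (F : CohTop.Ab X) (U : Opens X) : HE F 0 U ≃+ F.obj.obj (op U) :=
  (Ext.addEquiv₀ (X := ZU U) (Y := F)).trans (CohFree.homEquivSect (J X) U F)

lemma h0Equiv_res (F : CohTop.Ab X) {U V : Opens X} (h : V ≤ U) (x : HE F 0 U) :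
    h0Equiv F V (resE F 0 h x) = (F.obj.map (homOfLE h).op).hom (h0Equiv F U x) := by
  obtain ⟨φ, rfl⟩ := (Ext.mk₀_bijective _ _).2 x
  rw [resE_apply, Ext.mk₀_comp_mk₀]
  change CohFree.evalGen (J X) V F (Ext.addEquiv₀ (Ext.mk₀ _)) =
    (F.obj.map (homOfLE h).op).hom (CohFree.evalGen (J X) U F (Ext.addEquiv₀ (Ext.mk₀ φ)))
  rw [addEquiv₀_mk₀, addEquiv₀_mk₀]
  exact CohFree.evalGen_freeSheafMap_comp (J X) (homOfLE h) F φ

attribute [local instance] Ext.subsingleton_of_injective in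
/-- Cohomology classes of positive degree vanish locally. -/
theorem exists_res_eq_zero (i : ℕ) : ∀ (F : CohTop.Ab X) (U : Opens X) (α : HE F (i + 1) U)
    (x : X), x ∈ U → ∃ (V : Opens X) (hV : V ≤ U), x ∈ V ∧ resE F (i + 1) hV α = 0 := by
  induction i with
  | zero =>
    intro F U α x hx
    let I : InjectivePresentation F := Classical.arbitrary _
    let S := ShortComplex.mk _ _ (cokernel.condition I.f)
    haveI : Injective S.X₂ := I.injective
    have hS : S.ShortExact := { exact := ShortComplex.exact_cokernel I.f }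
    obtain ⟨β, hβ⟩ := Ext.covariant_sequence_exact₁ (ZU U) hS α (Subsingleton.elim _ _) (zero_add 1)
    obtain ⟨b, rfl⟩ := (Ext.mk₀_bijective _ _).2 β
    haveI : Epi S.g := hS.epi_g
    obtain ⟨V, hV, ⟨t, ht⟩, hxV⟩ := (Groth.Agent.Lib.Helper16.ClosedEmb.locSurj_iff S.g).1 inferInstance U
      (CohFree.evalGen (J X) U S.X₃ b) x hx
    refine ⟨V, hV, hxV, ?_⟩
    rw [← hβ, resE_apply, ← Ext.comp_assoc _ _ _ (zero_add 0) (zero_add 1) (by omega),
      Ext.mk₀_comp_mk₀]
    have e : CohCx.freeSheafMap (J X) (homOfLE hV) ≫ b = CohFree.ofSect (J X) V S.X₂ t ≫ S.g := by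
      apply (CohFree.homEquivSect (J X) V S.X₃).injective
      rw [CohFree.homEquivSect_apply, CohFree.homEquivSect_apply, CohFree.evalGen_freeSheafMap_comp]
      refine Eq.trans ?_ (?_ : (S.g.hom.app (op V)).hom (CohFree.evalGen (J X) V S.X₂
        (CohFree.ofSect (J X) V S.X₂ t)) = _)
      · rw [CohFree.evalGen_ofSect]
        exact ht.symm
      · rfl
    rw [e, ← Ext.mk₀_comp_mk₀, Ext.comp_assoc _ _ _ (zero_add 0) (zero_add 1) (by omega),
      hS.comp_extClass, Ext.comp_zero]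
  | succ i ih =>
    intro F U α x hx
    let I : InjectivePresentation F := Classical.arbitrary _
    let S := ShortComplex.mk _ _ (cokernel.condition I.f)
    haveI : Injective S.X₂ := I.injective
    have hS : S.ShortExact := { exact := ShortComplex.exact_cokernel I.f }
    obtain ⟨β, hβ⟩ := Ext.covariant_sequence_exact₁ (ZU U) hS α (Subsingleton.elim _ _) rfl
    obtain ⟨V, hV, hxV, hz⟩ := ih S.X₃ U β x hx
    refine ⟨V, hV, hxV, ?_⟩
    rw [← hβ, resE_apply, ← Ext.comp_assoc _ _ _ (zero_add (i+1)) rfl (by omega)]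
    rw [resE_apply] at hz
    rw [hz, Ext.zero_comp]

end Groth.Agent.Lib.Helper23.AffVanish
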