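import Mathlib
import Groth.Prelude.Def_LocCohZ
import Groth.Agent.Lib.Helper23AffVanish1

set_option autoImplicit false
universe u
open CategoryTheory CategoryTheory.Limits Opposite TopologicalSpace Abelian

namespace Groth.Agent.Lib.Helper23.AffVanish

section Abstract

universe w v' u'
variable {C : Type u'} [Category.{v'} C] [Abelian C] [HasExt.{w} C]

/-- abstract Mayer–Vietoris vanishing. -/
theorem eq_zero_of_mv_abstract {A₁ A₂ A₃ A₄ : C} (a : A₁ ⟶ A₂) (b : A₁ ⟶ A₃) (c : A₂ ⟶ A₄) (d : A₃ ⟶ A₄)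
    (w : biprod.lift a (-b) ≫ biprod.desc c d = 0)
    (hT : (ShortComplex.mk (biprod.lift a (-b)) (biprod.desc c d) w).ShortExact)
    (F : C) (n : ℕ) (α : Ext.{w} A₄ F (n + 1))
    (hα₁ : (Ext.mk₀ c).comp α (zero_add (n + 1)) = 0) (hα₂ : (Ext.mk₀ d).comp α (zero_add (n + 1)) = 0)
    (hsurj : ∀ γ : Ext.{w} A₁ F n, ∃ (β₁ : Ext.{w} A₂ F n) (β₂ : Ext.{w} A₃ F n),
      γ = (Ext.mk₀ a).comp β₁ (zero_add n) - (Ext.mk₀ b).comp β₂ (zero_add n)) :
    α = 0 := by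
  have hg : (Ext.mk₀ (ShortComplex.mk (biprod.lift a (-b)) (biprod.desc c d) w).g).comp α
      (zero_add (n + 1)) = 0 := by
    apply Ext.biprodAddEquiv.injective
    ext
    · rw [Ext.biprodAddEquiv_apply_fst, Ext.mk₀_comp_mk₀_assoc, map_zero]
      dsimp
      rw [biprod.inl_desc]
      exact hα₁
    · rw [Ext.biprodAddEquiv_apply_snd, Ext.mk₀_comp_mk₀_assoc, map_zero]
      dsimp
      rw [biprod.inr_desc]
      exact hα₂
  obtain ⟨γ, hγ⟩ := Ext.contravariant_sequence_exact₃ hT F α hg (add_comm 1 n)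
  obtain ⟨β₁, β₂, hβ⟩ := hsurj γ
  have hf : γ = (Ext.mk₀ (ShortComplex.mk (biprod.lift a (-b)) (biprod.desc c d) w).f).comp
      ((Ext.mk₀ biprod.fst).comp β₁ (zero_add n) + (Ext.mk₀ biprod.snd).comp β₂ (zero_add n)) (zero_add n) := by
    rw [Ext.comp_add, Ext.mk₀_comp_mk₀_assoc, Ext.mk₀_comp_mk₀_assoc, hβ]
    dsimp
    rw [biprod.lift_fst, biprod.lift_snd, Ext.mk₀_neg, Ext.neg_comp, sub_eq_add_neg]
  rw [← hγ, hf, ← Ext.comp_assoc _ _ _ (add_zero 1) (zero_add n) (by omega), hT.extClass_comp, Ext.zero_comp]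

end Abstract

variable {X : TopCat.{u}}

/-- The Mayer–Vietoris square of two opens covering `W`. -/
noncomputable def mvSquare (U₁ U₂ W : Opens X) (h₁ : U₁ ≤ W) (h₂ : U₂ ≤ W) (hW : W ≤ U₁ ⊔ U₂) :
    (Opens.grothendieckTopology X).MayerVietorisSquare :=
  GrothendieckTopology.MayerVietorisSquare.mk_of_isPullback
    { X₁ := U₁ ⊓ U₂, X₂ := U₁, X₃ := U₂, X₄ := W
      f₁₂ := homOfLE inf_le_left, f₁₃ := homOfLE inf_le_right
      f₂₄ := homOfLE h₁, f₃₄ := homOfLE h₂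
      fac := Subsingleton.elim _ _ }
    (by
      refine ⟨⟨Subsingleton.elim _ _⟩, ⟨PullbackCone.IsLimit.mk _
        (fun s => homOfLE (le_inf (leOfHom s.fst) (leOfHom s.snd)))
        (fun s => Subsingleton.elim _ _) (fun s => Subsingleton.elim _ _)
        (fun s m _ _ => Subsingleton.elim _ _)⟩⟩)
    (by
      intro x hx
      rcases hW hx with hx1 | hx2
      · exact ⟨U₁, homOfLE h₁, Sieve.ofArrows_mk _ _ WalkingPair.left, hx1⟩
      · exact ⟨U₂, homOfLE h₂, Sieve.ofArrows_mk _ _ WalkingPair.right, hx2⟩)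

/-- Mayer–Vietoris: a class on `W = U₁ ∪ U₂` vanishing on `U₁` and `U₂` is zero as soon as every class of
one degree less on `U₁ ∩ U₂` is a difference of restrictions. -/
theorem eq_zero_of_mv (F : CohTop.Ab X) (n : ℕ) (U₁ U₂ W : Opens X) (h₁ : U₁ ≤ W) (h₂ : U₂ ≤ W)
    (hW : W ≤ U₁ ⊔ U₂) (α : HE F (n + 1) W)
    (hα₁ : resE F (n + 1) h₁ α = 0) (hα₂ : resE F (n + 1) h₂ α = 0)
    (hsurj : ∀ γ : HE F n (U₁ ⊓ U₂), ∃ (β₁ : HE F n U₁) (β₂ : HE F n U₂),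
      γ = resE F n inf_le_left β₁ - resE F n inf_le_right β₂) :
    α = 0 :=
  eq_zero_of_mv_abstract (CohCx.freeSheafMap (J X) (homOfLE (inf_le_left : U₁ ⊓ U₂ ≤ U₁)))
    (CohCx.freeSheafMap (J X) (homOfLE (inf_le_right : U₁ ⊓ U₂ ≤ U₂)))
    (CohCx.freeSheafMap (J X) (homOfLE h₁)) (CohCx.freeSheafMap (J X) (homOfLE h₂))
    (mvSquare U₁ U₂ W h₁ h₂ hW).shortComplex.zero
    (mvSquare U₁ U₂ W h₁ h₂ hW).shortComplex_shortExact F n α hα₁ hα₂ hsurj

end Groth.Agent.Lib.Helper23.AffVanish
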