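import Mathlib
import Groth.Agent.Lib.Helper2QCoh

set_option autoImplicit false
universe u
open CategoryTheory CategoryTheory.Limits Opposite TopologicalSpace AlgebraicGeometry

namespace Groth.Agent.Lib.Helper23.AffVanish

variable {X : Scheme.{u}} [IsAffine X]

lemma mem_basicOpen_iff (x : X) (f : Γ(X, ⊤)) :
    x ∈ X.basicOpen f ↔ f ∉ ((isAffineOpen_top X).primeIdealOf ⟨x, trivial⟩).asIdeal :=
  Groth.Agent.Lib.Helper2.mem_basicOpen_iff_notMem_primeIdealOf (isAffineOpen_top X) x trivial f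

/-- If `D(h)` is covered by the `D(f)`, `f ∈ S`, then `h` is in the radical of the span of `S`. -/
lemma mem_radical_of_cover (h : Γ(X, ⊤)) (S : Set Γ(X, ⊤))
    (hc : ∀ x ∈ X.basicOpen h, ∃ f ∈ S, x ∈ X.basicOpen f) : h ∈ (Ideal.span S).radical := by
  rw [Ideal.radical_eq_sInf, Ideal.mem_sInf]
  rintro p ⟨hp, hprime⟩
  by_contra hh
  let q : PrimeSpectrum Γ(X, ⊤) := ⟨p, hprime⟩
  have hx : (isAffineOpen_top X).fromSpec q ∈ X.basicOpen h :=
    (Groth.Agent.Lib.Helper2.QCoh.mem_basicOpen_fromSpec_iff (isAffineOpen_top X) q h).2 hh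
  obtain ⟨f, hfS, hf⟩ := hc _ hx
  exact (Groth.Agent.Lib.Helper2.QCoh.mem_basicOpen_fromSpec_iff (isAffineOpen_top X) q f).1 hf
    (hp (Ideal.subset_span hfS))

lemma basicOpen_le_sup_of_pow_eq (h a f g : Γ(X, ⊤)) (N : ℕ) (hN : h ^ N = a * f + g) :
    X.basicOpen h ≤ X.basicOpen (h * f) ⊔ X.basicOpen (h * g) := by
  intro x hx
  rw [mem_basicOpen_iff] at hx
  set p := ((isAffineOpen_top X).primeIdealOf ⟨x, trivial⟩) with hp
  have hpr : p.asIdeal.IsPrime := p.2
  have h1 : h ^ N ∉ p.asIdeal := fun hh => hx (hpr.mem_of_pow_mem N hh)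
  by_cases hf : f ∈ p.asIdeal
  · have hg : g ∉ p.asIdeal := by
      intro hg
      apply h1
      rw [hN]
      exact p.asIdeal.add_mem (p.asIdeal.mul_mem_left a hf) hg
    right
    change x ∈ X.basicOpen (h * g)
    rw [mem_basicOpen_iff]
    intro hhg
    rcases hpr.mem_or_mem hhg with h' | h'
    · exact hx h'
    · exact hg h'
  · left
    change x ∈ X.basicOpen (h * f)
    rw [mem_basicOpen_iff]
    intro hhf
    rcases hpr.mem_or_mem hhf with h' | h'
    · exact hx h'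
    · exact hf h'

lemma basicOpen_eq_bot_of_mem_radical_bot (h : Γ(X, ⊤)) (hh : h ∈ (⊥ : Ideal Γ(X, ⊤)).radical) :
    X.basicOpen h = ⊥ := by
  rw [eq_bot_iff]
  intro x hx
  exfalso
  rw [mem_basicOpen_iff] at hx
  obtain ⟨N, hN⟩ := hh
  have hpr : ((isAffineOpen_top X).primeIdealOf ⟨x, trivial⟩).asIdeal.IsPrime :=
    ((isAffineOpen_top X).primeIdealOf ⟨x, trivial⟩).2
  apply hx
  apply hpr.mem_of_pow_mem N
  rw [Ideal.mem_bot.1 hN]
  exact Ideal.zero_mem _

end Groth.Agent.Lib.Helper23.AffVanish
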