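import Mathlib
import Groth.Prelude.Def_LocCohZ
import Groth.Agent.Lib.Helper23AffVanish1
import Groth.Agent.Lib.Helper23AffVanish2
import Groth.Agent.Lib.Helper23AffVanish3
import Groth.Agent.Lib.Helper23AffVanish4

set_option autoImplicit false
universe u
open CategoryTheory CategoryTheory.Limits Opposite TopologicalSpace AlgebraicGeometry Abelian

namespace Groth.Agent.Lib.Helper23.AffVanish

open Groth.Agent.Lib.Helper6

section Top
variable {Y : TopCat.{u}}

lemma isZero_ZU_of_eq_bot {U : Opens Y} (hU : U = ⊥) : IsZero (ZU U) := by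
  rw [IsZero.iff_id_eq_zero]
  apply (CohFree.homEquivSect (J Y) U (ZU U)).injective
  haveI := Groth.Agent.Lib.Helper16.ClosedEmb.subsingleton_of_eq_bot (ZU U) hU
  exact Subsingleton.elim _ _

lemma HE_eq_zero_of_eq_bot (G : CohTop.Ab Y) (n : ℕ) {U : Opens Y} (hU : U = ⊥) (α : HE G n U) : α = 0 := by
  have h1 : α = (Ext.mk₀ (𝟙 (ZU U))).comp α (zero_add n) := (Ext.mk₀_id_comp α).symm
  rw [h1, (isZero_ZU_of_eq_bot hU).eq_of_src (𝟙 _) 0, Ext.mk₀_zero, Ext.zero_comp]

end Top

variable {X : Scheme.{u}} [IsAffine X]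

/-- The underlying abelian sheaf, as a sheaf on the underlying space. -/
noncomputable abbrev ab (F : X.Modules) : CohTop.Ab X.carrier := Coh.toAb F

/-- degree-zero classes are sections of the module -/
noncomputable def h0F (F : X.Modules) (U : X.Opens) : HE (ab F) 0 U ≃+ Γ(F, U) := h0Equiv (ab F) U

lemma h0F_res (F : X.Modules) {U V : X.Opens} (h : V ≤ U) (x : HE (ab F) 0 U) :
    h0F F V (resE (ab F) 0 h x) = res F h (h0F F U x) := h0Equiv_res (ab F) h x

lemma mul_le_left (h f : Γ(X, ⊤)) : X.basicOpen (h * f) ≤ X.basicOpen h := by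
  rw [X.basicOpen_mul]; exact inf_le_left

lemma mul_le_right (h f : Γ(X, ⊤)) : X.basicOpen (h * f) ≤ X.basicOpen f := by
  rw [X.basicOpen_mul]; exact inf_le_right

theorem eq_zero_of_list (F : X.Modules) [F.IsQuasicoherent] (i : ℕ)
    (Hi : 0 < i → ∀ h : Γ(X, ⊤), Subsingleton (HE (ab F) i (X.basicOpen h))) :
    ∀ (l : List Γ(X, ⊤)) (h : Γ(X, ⊤)), h ∈ (Ideal.span {a | a ∈ l}).radical →
      ∀ α : HE (ab F) (i + 1) (X.basicOpen h),
      (∀ f ∈ l, resE (ab F) (i + 1) (mul_le_left h f) α = 0) → α = 0 := by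
  intro l
  induction l with
  | nil =>
    intro h hh α _
    have : {a : Γ(X, ⊤) | a ∈ ([] : List Γ(X, ⊤))} = ∅ := by ext; simp
    rw [this, Ideal.span_empty] at hh
    exact HE_eq_zero_of_eq_bot _ _ (basicOpen_eq_bot_of_mem_radical_bot h hh) α
  | cons f l' ih =>
    intro h hh α hα
    obtain ⟨N, hN⟩ := hh
    have : {a : Γ(X, ⊤) | a ∈ f :: l'} = insert f {a | a ∈ l'} := by ext; simp
    rw [this, Ideal.mem_span_insert] at hN
    obtain ⟨a, g, hg, hN⟩ := hN
    have hα₁ := hα f (List.mem_cons_self)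
    have hα₂ : resE (ab F) (i + 1) (mul_le_left h g) α = 0 := by
      apply ih (h * g) (Ideal.le_radical (Ideal.mul_mem_left _ h hg))
      intro f' hf'
      have hle : X.basicOpen (h * g * f') ≤ X.basicOpen (h * f') := by
        rw [X.basicOpen_mul, X.basicOpen_mul, X.basicOpen_mul]
        exact inf_le_inf_right _ inf_le_left
      rw [resE_resE, ← resE_resE (ab F) (i + 1) (mul_le_left h f') hle, hα f' (List.mem_cons_of_mem _ hf'),
        map_zero]
    refine eq_zero_of_mv (ab F) i _ _ _ (mul_le_left h f) (mul_le_left h g)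
      (basicOpen_le_sup_of_pow_eq h a f g N hN) α hα₁ hα₂ ?_
    intro γ
    rcases Nat.eq_zero_or_pos i with hi | hi
    · subst hi
      have hrad : h ∈ (Ideal.span {h * f, h * g}).radical := by
        refine ⟨N + 1, ?_⟩
        rw [Ideal.mem_span_pair]
        refine ⟨a, 1, ?_⟩
        rw [pow_succ, hN]
        ring
      obtain ⟨t₁, t₂, ht⟩ := exists_sub_of_pair F (h * f) (h * g) h hrad (mul_le_left h f) (mul_le_left h g)
        (h0F F _ γ)
      refine ⟨(h0F F _).symm t₁, (h0F F _).symm t₂, ?_⟩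
      apply (h0F F _).injective
      rw [map_sub, h0F_res, h0F_res, AddEquiv.apply_symm_apply, AddEquiv.apply_symm_apply]
      exact ht
    · have hsub : Subsingleton (HE (ab F) i (X.basicOpen (h * f) ⊓ X.basicOpen (h * g))) := by
        rw [← X.basicOpen_mul]
        exact Hi hi _
      exact ⟨0, 0, Subsingleton.elim _ _⟩

end Groth.Agent.Lib.Helper23.AffVanish
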