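import Mathlib
import Groth.Prelude.Def_LocCohZ
import Groth.Agent.Lib.Helper23AffVanish5
import Groth.Agent.Lib.Helper23AffOpen1

/-!
# Affine vanishing on affine opens of arbitrary schemes, part 2 (helper23)

`subsingleton_HE_basicOpen'`: for `U` an affine open of a scheme `X`, `F` quasi-coherent, `h : Γ(X,U)`:
`H^{i+1}(D(h), F) = Ext^{i+1}(ℤ_{D(h)}, F) = 0`.  `subsingleton_HE_of_isAffineOpen`: `H^{i+1}(U, F) = 0`.
-/

set_option autoImplicit false
universe u
open CategoryTheory CategoryTheory.Limits Opposite TopologicalSpace AlgebraicGeometry Abelian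

namespace Groth.Agent.Lib.Helper23.AffVanish

open Groth.Agent.Lib.Helper6

variable {X : Scheme.{u}} {U : X.Opens}

/-- The underlying abelian sheaf, as a sheaf on the underlying space (no affineness assumption). -/
noncomputable abbrev ab' (F : X.Modules) : CohTop.Ab X.carrier := Coh.toAb F

/-- degree-zero classes are sections of the module -/
noncomputable def h0F' (F : X.Modules) (V : X.Opens) : HE (ab' F) 0 V ≃+ Γ(F, V) := h0Equiv (ab' F) V

lemma h0F'_res (F : X.Modules) {V W : X.Opens} (h : W ≤ V) (x : HE (ab' F) 0 V) :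
    h0F' F W (resE (ab' F) 0 h x) = res F h (h0F' F V x) := h0Equiv_res (ab' F) h x

lemma mul_le_left' (h f : Γ(X, U)) : X.basicOpen (h * f) ≤ X.basicOpen h := by
  rw [X.basicOpen_mul]; exact inf_le_left

lemma mul_le_right' (h f : Γ(X, U)) : X.basicOpen (h * f) ≤ X.basicOpen f := by
  rw [X.basicOpen_mul]; exact inf_le_right

variable (hU : IsAffineOpen U)

include hU in
theorem eq_zero_of_list' (F : X.Modules) [F.IsQuasicoherent] (i : ℕ)
    (Hi : 0 < i → ∀ h : Γ(X, U), Subsingleton (HE (ab' F) i (X.basicOpen h))) :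
    ∀ (l : List Γ(X, U)) (h : Γ(X, U)), h ∈ (Ideal.span {a | a ∈ l}).radical →
      ∀ α : HE (ab' F) (i + 1) (X.basicOpen h),
      (∀ f ∈ l, resE (ab' F) (i + 1) (mul_le_left' h f) α = 0) → α = 0 := by
  intro l
  induction l with
  | nil =>
    intro h hh α _
    have : {a : Γ(X, U) | a ∈ ([] : List Γ(X, U))} = ∅ := by ext; simp
    rw [this, Ideal.span_empty] at hh
    exact HE_eq_zero_of_eq_bot _ _ (basicOpen_eq_bot_of_mem_radical_bot' hU h hh) α
  | cons f l' ih =>
    intro h hh α hα
    obtain ⟨N, hN⟩ := hh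
    have : {a : Γ(X, U) | a ∈ f :: l'} = insert f {a | a ∈ l'} := by ext; simp
    rw [this, Ideal.mem_span_insert] at hN
    obtain ⟨a, g, hg, hN⟩ := hN
    have hα₁ := hα f (List.mem_cons_self)
    have hα₂ : resE (ab' F) (i + 1) (mul_le_left' h g) α = 0 := by
      apply ih (h * g) (Ideal.le_radical (Ideal.mul_mem_left _ h hg))
      intro f' hf'
      have hle : X.basicOpen (h * g * f') ≤ X.basicOpen (h * f') := by
        rw [X.basicOpen_mul, X.basicOpen_mul, X.basicOpen_mul]
        exact inf_le_inf_right _ inf_le_left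
      rw [resE_resE, ← resE_resE (ab' F) (i + 1) (mul_le_left' h f') hle, hα f' (List.mem_cons_of_mem _ hf'),
        map_zero]
    refine eq_zero_of_mv (ab' F) i _ _ _ (mul_le_left' h f) (mul_le_left' h g)
      (basicOpen_le_sup_of_pow_eq' hU h a f g N hN) α hα₁ hα₂ ?_
    intro γ
    rcases Nat.eq_zero_or_pos i with hi | hi
    · subst hi
      have hrad : h ∈ (Ideal.span {h * f, h * g}).radical := by
        refine ⟨N + 1, ?_⟩
        rw [Ideal.mem_span_pair]
        refine ⟨a, 1, ?_⟩
        rw [pow_succ, hN]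
        ring
      obtain ⟨t₁, t₂, ht⟩ := exists_sub_of_pair' hU F (h * f) (h * g) h hrad (mul_le_left' h f)
        (mul_le_left' h g) (h0F' F _ γ)
      refine ⟨(h0F' F _).symm t₁, (h0F' F _).symm t₂, ?_⟩
      apply (h0F' F _).injective
      rw [map_sub, h0F'_res, h0F'_res, AddEquiv.apply_symm_apply, AddEquiv.apply_symm_apply]
      exact ht
    · have hsub : Subsingleton (HE (ab' F) i (X.basicOpen (h * f) ⊓ X.basicOpen (h * g))) := by
        rw [← X.basicOpen_mul]
        exact Hi hi _
      exact ⟨0, 0, Subsingleton.elim _ _⟩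

include hU in
/-- **Affine vanishing** on basic opens of an affine open. -/
theorem subsingleton_HE_basicOpen' (F : X.Modules) [F.IsQuasicoherent] (i : ℕ) :
    ∀ h : Γ(X, U), Subsingleton (HE (ab' F) (i + 1) (X.basicOpen h)) := by
  induction i using Nat.strong_induction_on with
  | _ i IH =>
    intro h
    have Hi : 0 < i → ∀ h : Γ(X, U), Subsingleton (HE (ab' F) i (X.basicOpen h)) := by
      intro hi
      obtain ⟨j, rfl⟩ := Nat.exists_eq_succ_of_ne_zero hi.ne'
      exact IH j (Nat.lt_succ_self j)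
    suffices H : ∀ α : HE (ab' F) (i + 1) (X.basicOpen h), α = 0 from
      ⟨fun a b => (H a).trans (H b).symm⟩
    intro α
    have hloc : ∀ x : X.basicOpen h, ∃ f : Γ(X, U), (x : X) ∈ X.basicOpen f ∧
        resE (ab' F) (i + 1) (mul_le_left' h f) α = 0 := by
      intro x
      obtain ⟨V, hV, hxV, hz⟩ := exists_res_eq_zero i (ab' F) (X.basicOpen h) α x.1 x.2
      obtain ⟨f, hfV, hxf⟩ := hU.exists_basicOpen_le (V := V) ⟨x.1, hxV⟩ (X.basicOpen_le h x.2)
      refine ⟨f, hxf, ?_⟩
      have hle : X.basicOpen (h * f) ≤ V := (mul_le_right' h f).trans hfV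
      rw [← resE_resE (ab' F) (i + 1) hV hle, hz, map_zero]
    choose f hxf hf using hloc
    have hcomp : IsCompact (X.basicOpen h : Set X) := (hU.basicOpen h).isCompact
    obtain ⟨t, ht⟩ := hcomp.elim_finite_subcover (fun x : X.basicOpen h => (X.basicOpen (f x) : Set X))
      (fun x => (X.basicOpen (f x)).2) (fun y hy => Set.mem_iUnion.2 ⟨⟨y, hy⟩, hxf ⟨y, hy⟩⟩)
    refine eq_zero_of_list' hU F i Hi (t.toList.map f) h ?_ α ?_
    · apply mem_radical_of_cover' hU
      intro y hy
      obtain ⟨x, hx⟩ := Set.mem_iUnion.1 (ht hy)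
      obtain ⟨hxt, hyx⟩ := Set.mem_iUnion.1 hx
      exact ⟨f x, List.mem_map.2 ⟨x, Finset.mem_toList.2 hxt, rfl⟩, hyx⟩
    · intro f' hf'
      obtain ⟨x, _, rfl⟩ := List.mem_map.1 hf'
      exact hf x

include hU in
/-- **Affine vanishing**: `H^{i+1}(U, F) = 0` for `U` an affine open of a scheme and `F` quasi-coherent. -/
theorem subsingleton_HE_of_isAffineOpen (F : X.Modules) [F.IsQuasicoherent] (i : ℕ) :
    Subsingleton (HE (ab' F) (i + 1) U) := by
  have h1 := subsingleton_HE_basicOpen' hU F i (1 : Γ(X, U))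
  have e : X.basicOpen (1 : Γ(X, U)) = U := X.basicOpen_of_isUnit isUnit_one
  rw [e] at h1
  exact h1

end Groth.Agent.Lib.Helper23.AffVanish
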