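import Mathlib
import Groth.Prelude.Def_CurvBase
import Groth.Agent.Lib.Helper2QCoh

/-!
# Weakly associated / associated points of quasi-coherent modules (helper2)

* `isWeakAssPoint_of`: criterion for `Curv2.IsWeakAssPoint F x` in terms of a section `m` over an
  affine open `U ∋ x` whose germ is nonzero and killed by powers of every `b` in the prime of `x`.
* `exists_pow_smul_germ_eq_zero_of_minimalPrimes`: at the point of a minimal prime `q` over `Ann m`,
  every `b ∈ q` has a power killing the germ of `m`.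
* `exists_isWeakAssPoint_of_ne_zero`: a nonzero section over an affine open has nonzero germ at some
  weakly associated point.
-/
set_option autoImplicit false
universe u
open CategoryTheory Limits AlgebraicGeometry TopologicalSpace Opposite

namespace Groth.Agent.Lib.Helper2.Ass

open Groth.Agent.Lib.Helper2.QCoh

variable {X : Scheme.{u}} {U : X.Opens} (hU : IsAffineOpen U)

theorem mem_kerSpan_iff {F : X.Modules} {x : X} (y : F.presheaf.stalk x) (a : X.presheaf.stalk x) :
    a ∈ LinearMap.ker (LinearMap.toSpanSingleton (X.presheaf.stalk x) (F.presheaf.stalk x) y) ↔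
      a • y = 0 := by
  simp [LinearMap.mem_ker, LinearMap.toSpanSingleton_apply]

include hU in
/-- Every element of the stalk `O_{X,x}` is a unit times the germ of a section over `U`; if it lies
in the maximal ideal, the section lies in the prime of `x`. -/
theorem exists_germ_mul_eq (x : X) (hxU : x ∈ U) (a : X.presheaf.stalk x) :
    ∃ (b s : Γ(X, U)), IsUnit (X.presheaf.germ U x hxU s) ∧
      a * X.presheaf.germ U x hxU s = X.presheaf.germ U x hxU b := by
  let _ : Algebra Γ(X, U) (X.presheaf.stalk x) :=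
    TopCat.Presheaf.algebra_section_stalk X.presheaf (⟨x, hxU⟩ : U)
  have hloc : IsLocalization.AtPrime (X.presheaf.stalk x) (hU.primeIdealOf ⟨x, hxU⟩).asIdeal :=
    hU.isLocalization_stalk ⟨x, hxU⟩
  obtain ⟨⟨b, s'⟩, hbs⟩ := IsLocalization.surj (hU.primeIdealOf ⟨x, hxU⟩).asIdeal.primeCompl a
  exact ⟨b, s'.1, IsLocalization.map_units (X.presheaf.stalk x) s', hbs⟩

include hU in
/-- Criterion for weak associatedness. -/
theorem isWeakAssPoint_of (F : X.Modules) (x : X) (hxU : x ∈ U) (m : Γ(F, U))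
    (hm0 : F.presheaf.germ U x hxU m ≠ 0)
    (hpow : ∀ b ∈ (hU.primeIdealOf ⟨x, hxU⟩).asIdeal,
      ∃ k : ℕ, (X.presheaf.germ U x hxU b) ^ k • F.presheaf.germ U x hxU m = 0) :
    Curv2.IsWeakAssPoint F x := by
  refine ⟨F.presheaf.germ U x hxU m, ?_⟩
  apply le_antisymm
  · have hIne : LinearMap.ker (LinearMap.toSpanSingleton (X.presheaf.stalk x) (F.presheaf.stalk x)
        (F.presheaf.germ U x hxU m)) ≠ ⊤ := by
      intro htop
      have : (1 : X.presheaf.stalk x) ∈ LinearMap.ker (LinearMap.toSpanSingleton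
          (X.presheaf.stalk x) (F.presheaf.stalk x) (F.presheaf.germ U x hxU m)) := by
        rw [htop]; trivial
      rw [mem_kerSpan_iff, one_smul] at this
      exact hm0 this
    exact (Ideal.IsPrime.radical_le_iff (IsLocalRing.maximalIdeal.isMaximal _).isPrime).2
      (IsLocalRing.le_maximalIdeal hIne)
  · intro a ha
    obtain ⟨b, s, hsu, hbs⟩ := exists_germ_mul_eq hU x hxU a
    have hbp : b ∈ (hU.primeIdealOf ⟨x, hxU⟩).asIdeal := by
      rw [← germ_mem_maximalIdeal_iff hU x hxU, ← hbs]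
      exact Ideal.mul_mem_right _ _ ha
    obtain ⟨k, hk⟩ := hpow b hbp
    refine ⟨k, ?_⟩
    rw [mem_kerSpan_iff]
    rw [← hbs, mul_pow, mul_comm, mul_smul] at hk
    exact germ_smul_eq_zero_of_isUnit (hsu.pow k) hk

/-- Ring lemma: if `q` is a minimal prime over `I` and `b ∈ q` then `s * b ^ k ∈ I` for some
`s ∉ q` and `k`. -/
theorem exists_mul_pow_mem_of_mem_minimalPrimes {A : Type*} [CommRing A] {I q : Ideal A}
    (hq : q ∈ I.minimalPrimes) {b : A} (hb : b ∈ q) :
    ∃ (s : A) (k : ℕ), s ∉ q ∧ s * b ^ k ∈ I := by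
  classical
  have hqprime : q.IsPrime := hq.1.1
  by_contra hcon
  let T : Submonoid A := q.primeCompl ⊔ Submonoid.powers b
  have hdisj : Disjoint (I : Set A) (T : Set A) := by
    rw [Set.disjoint_left]
    intro a haI haT
    obtain ⟨s, hs, z, hz, rfl⟩ := Submonoid.mem_sup.1 haT
    obtain ⟨k, rfl⟩ := hz
    exact hcon ⟨s, k, hs, haI⟩
  obtain ⟨q', hq'prime, hIq', hq'T⟩ := Ideal.exists_le_prime_disjoint I T hdisj
  have hq'q : q' ≤ q := by
    intro a ha
    by_contra hap
    exact (Set.disjoint_left.1 hq'T) ha (Submonoid.mem_sup_left (S := q.primeCompl) hap)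
  have hbq' : b ∉ q' := by
    intro hbq
    exact (Set.disjoint_left.1 hq'T) hbq (Submonoid.mem_sup_right (Submonoid.mem_powers b))
  exact hbq' (hq.2 ⟨hq'prime, hIq'⟩ hq'q hb)

include hU in
/-- At the point of a minimal prime `q` over `Ann m`, every `b ∈ q` has a power killing the germ
of `m`. -/
theorem exists_pow_smul_germ_eq_zero_of_minimalPrimes (F : X.Modules) (m : Γ(F, U))
    (q : PrimeSpectrum Γ(X, U)) (hq : q.asIdeal ∈ (ann F m).minimalPrimes)
    (b : Γ(X, U)) (hb : b ∈ q.asIdeal) :
    ∃ k : ℕ, (X.presheaf.germ U (hU.fromSpec q) (fromSpec_mem hU q) b) ^ k •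
      F.presheaf.germ U (hU.fromSpec q) (fromSpec_mem hU q) m = 0 := by
  obtain ⟨s, k, hs, hsk⟩ := exists_mul_pow_mem_of_mem_minimalPrimes hq hb
  refine ⟨k, ?_⟩
  have h1 : (s * b ^ k) • m = 0 := mem_ann.1 hsk
  have h2 := congrArg (F.presheaf.germ U (hU.fromSpec q) (fromSpec_mem hU q)) h1
  rw [map_zero, germ_smul, map_mul, mul_smul, map_pow] at h2
  have hsu : IsUnit (X.presheaf.germ U (hU.fromSpec q) (fromSpec_mem hU q) s) := by
    rw [← Scheme.mem_basicOpen, mem_basicOpen_fromSpec_iff]
    exact hs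
  exact germ_smul_eq_zero_of_isUnit hsu h2

include hU in
/-- The point of a minimal prime over the annihilator of a section of a quasi-coherent module is
weakly associated. -/
theorem isWeakAssPoint_fromSpec_of_minimalPrimes (F : X.Modules) [F.IsQuasicoherent] (m : Γ(F, U))
    (q : PrimeSpectrum Γ(X, U)) (hq : q.asIdeal ∈ (ann F m).minimalPrimes) :
    Curv2.IsWeakAssPoint F (hU.fromSpec q) := by
  refine isWeakAssPoint_of hU F _ (fromSpec_mem hU q) m
    (germ_fromSpec_ne_zero hU F m q hq.1.2) ?_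
  intro b hb
  rw [primeIdealOf_fromSpec] at hb
  exact exists_pow_smul_germ_eq_zero_of_minimalPrimes hU F m q hq b hb

include hU in
/-- A nonzero section of a quasi-coherent module over an affine open has nonzero germ at some
weakly associated point in `U`. -/
theorem exists_isWeakAssPoint_of_ne_zero (F : X.Modules) [F.IsQuasicoherent] (m : Γ(F, U))
    (hm : m ≠ 0) :
    ∃ (y : X) (hyU : y ∈ U), Curv2.IsWeakAssPoint F y ∧ F.presheaf.germ U y hyU m ≠ 0 := by
  have hI : ann F m ≠ ⊤ := by
    intro htop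
    have : (1 : Γ(X, U)) ∈ ann F m := by rw [htop]; trivial
    rw [mem_ann, one_smul] at this
    exact hm this
  obtain ⟨q, hq⟩ := Ideal.nonempty_minimalPrimes hI
  let Q : PrimeSpectrum Γ(X, U) := ⟨q, hq.1.1⟩
  exact ⟨hU.fromSpec Q, fromSpec_mem hU Q,
    isWeakAssPoint_fromSpec_of_minimalPrimes hU F m Q hq,
    germ_fromSpec_ne_zero hU F m Q hq.1.2⟩

/-- With Mathlib's (radical) definition of `IsAssociatedPrime`, associated points and weakly
associated points coincide. -/
theorem isAssPoint_iff_isWeakAssPoint (F : X.Modules) (x : X) :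
    Curv2.IsAssPoint F x ↔ Curv2.IsWeakAssPoint F x := by
  have hcolon : ∀ m : F.presheaf.stalk x,
      (⊥ : Submodule (X.presheaf.stalk x) (F.presheaf.stalk x)).colon {m} =
        LinearMap.ker (LinearMap.toSpanSingleton (X.presheaf.stalk x) (F.presheaf.stalk x) m) := by
    intro m
    ext a
    rw [Submodule.mem_colon_singleton, Submodule.mem_bot, mem_kerSpan_iff]
  constructor
  · rintro ⟨-, m, hm⟩
    exact ⟨m, by rw [← hcolon]; exact hm.symm⟩
  · rintro ⟨m, hm⟩
    exact ⟨(IsLocalRing.maximalIdeal.isMaximal _).isPrime, m, by rw [hcolon]; exact hm.symm⟩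

/-- A nonzero section of a quasi-coherent module over any open has nonzero germ at some
weakly associated point. -/
theorem exists_isWeakAssPoint_of_ne_zero_open (F : X.Modules) [F.IsQuasicoherent] (W : X.Opens)
    (m : Γ(F, W)) (hm : m ≠ 0) :
    ∃ (y : X) (hyW : y ∈ W), Curv2.IsWeakAssPoint F y ∧ F.presheaf.germ W y hyW m ≠ 0 := by
  have hex : ∃ (x : X) (hx : x ∈ W), F.presheaf.germ W x hx m ≠ 0 := by
    by_contra hno
    apply hm
    apply TopCat.Presheaf.section_ext (⟨F.presheaf, F.isSheaf⟩ : TopCat.Sheaf _ _) W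
    intro x hx
    rw [map_zero]
    by_contra h
    exact hno ⟨x, hx, h⟩
  obtain ⟨x, hxW, hx⟩ := hex
  obtain ⟨_, ⟨V, hV, rfl⟩, hxV, hVW⟩ :=
    X.isBasis_affineOpens.exists_subset_of_mem_open hxW W.2
  have hVW' : V ≤ W := hVW
  have hm0 : F.presheaf.map (homOfLE hVW').op m ≠ 0 := by
    intro h0
    apply hx
    have h1 : F.presheaf.germ V x hxV (F.presheaf.map (homOfLE hVW').op m) =
        F.presheaf.germ W x hxW m :=
      TopCat.Presheaf.germ_res_apply F.presheaf (homOfLE hVW') x hxV m
    rw [← h1, h0, map_zero]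
  obtain ⟨y, hyV, hyA, hgy⟩ := exists_isWeakAssPoint_of_ne_zero hV F _ hm0
  refine ⟨y, hVW' hyV, hyA, ?_⟩
  have h1 : F.presheaf.germ V y hyV (F.presheaf.map (homOfLE hVW').op m) =
      F.presheaf.germ W y (hVW' hyV) m :=
    TopCat.Presheaf.germ_res_apply F.presheaf (homOfLE hVW') y hyV m
  rw [← h1]
  exact hgy

end Groth.Agent.Lib.Helper2.Ass
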