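import Mathlib
import Groth.Prelude.Def_CurvBase
import Groth.Agent.Lib.Helper2Ass

/-!
# Modules "localizing on an affine open"; pushforward along affine morphisms (helper2)

`IsLocOn F U`: sections of `F` over `D(f)`, `f ∈ Γ(X,U)`, are the localization of `Γ(F,U)` at `f`
(in element form). Quasi-coherent modules are localizing on affine opens, and so are pushforwards
of quasi-coherent modules along affine morphisms. The stalk dictionary of `Helper2QCoh` holds for
modules localizing on `U`.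
-/
set_option autoImplicit false
universe u
open CategoryTheory Limits AlgebraicGeometry TopologicalSpace Opposite

namespace Groth.Agent.Lib.Helper2.Push

open Groth.Agent.Lib.Helper2.QCoh Groth.Agent.Lib.Helper2.Ass

variable {X : Scheme.{u}}

/-- Sections of `F` over basic opens `D(f) ⊆ U` are localizations of `Γ(F,U)`. -/
structure IsLocOn (F : X.Modules) (U : X.Opens) : Prop where
  exists_extension : ∀ (f : Γ(X, U)) (s : Γ(F, X.basicOpen f)),
    ∃ (n : ℕ) (t : Γ(F, U)), F.presheaf.map (homOfLE (X.basicOpen_le f)).op t =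
      (X.presheaf.map (homOfLE (X.basicOpen_le f)).op f) ^ n • s
  exists_pow_smul_eq_zero : ∀ (f : Γ(X, U)) (t : Γ(F, U)),
    F.presheaf.map (homOfLE (X.basicOpen_le f)).op t = 0 → ∃ n : ℕ, f ^ n • t = 0

theorem IsLocOn.of_isQuasicoherent {U : X.Opens} (hU : IsAffineOpen U) (F : X.Modules)
    [F.IsQuasicoherent] : IsLocOn F U :=
  ⟨fun f s => QCoh.exists_extension hU F f s, fun f t ht => QCoh.exists_pow_smul_eq_zero hU F f t ht⟩

section stalks

variable {U : X.Opens} (hU : IsAffineOpen U) {F : X.Modules} (hF : IsLocOn F U)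

include hU hF in
theorem IsLocOn.exists_smul_eq_germ (x : X) (hxU : x ∈ U) (y : F.presheaf.stalk x) :
    ∃ (s : Γ(X, U)) (m : Γ(F, U)), x ∈ X.basicOpen s ∧
      X.presheaf.germ U x hxU s • y = F.presheaf.germ U x hxU m := by
  obtain ⟨V, hxV, t, rfl⟩ := F.presheaf.exists_germ_eq y
  obtain ⟨f, hfV, hxf⟩ := hU.exists_basicOpen_le ⟨x, hxV⟩ hxU
  obtain ⟨n, m, hm⟩ := hF.exists_extension f (F.presheaf.map (homOfLE hfV).op t)
  refine ⟨f ^ n, m, ?_, ?_⟩
  · by_cases hn : n = 0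
    · subst hn
      rw [pow_zero, Scheme.basicOpen_of_isUnit _ isUnit_one]
      exact hxU
    · rw [Scheme.basicOpen_pow _ _ (Nat.pos_of_ne_zero hn)]
      exact hxf
  · have h1 : F.presheaf.germ U x hxU m =
        F.presheaf.germ (X.basicOpen f) x hxf (F.presheaf.map (homOfLE (X.basicOpen_le f)).op m) :=
      (TopCat.Presheaf.germ_res_apply F.presheaf (homOfLE (X.basicOpen_le f)) x hxf m).symm
    have h2 : X.presheaf.germ (X.basicOpen f) x hxf
        ((X.presheaf.map (homOfLE (X.basicOpen_le f)).op f) ^ n) =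
          (X.presheaf.germ U x hxU f) ^ n := by
      rw [map_pow, TopCat.Presheaf.germ_res_apply]
    rw [h1, hm, germ_smul, h2, TopCat.Presheaf.germ_res_apply, map_pow]

include hU hF in
theorem IsLocOn.exists_smul_eq_zero_of_germ_eq_zero (x : X) (hxU : x ∈ U)
    (m : Γ(F, U)) (hm : F.presheaf.germ U x hxU m = 0) :
    ∃ s : Γ(X, U), x ∈ X.basicOpen s ∧ s • m = 0 := by
  have h0 : F.presheaf.germ U x hxU m = F.presheaf.germ U x hxU 0 := by rw [hm, map_zero]
  obtain ⟨W, hxW, i₁, i₂, hW⟩ := F.presheaf.germ_eq x hxU hxU m 0 h0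
  rw [map_zero] at hW
  obtain ⟨f, hfW, hxf⟩ := hU.exists_basicOpen_le ⟨x, hxW⟩ hxU
  have hres : F.presheaf.map (homOfLE (X.basicOpen_le f)).op m = 0 := by
    have : (homOfLE (X.basicOpen_le f)).op = i₁.op ≫ (homOfLE hfW).op := rfl
    rw [this, F.presheaf.map_comp, ConcreteCategory.comp_apply, hW, map_zero]
  obtain ⟨n, hn⟩ := hF.exists_pow_smul_eq_zero f m hres
  refine ⟨f ^ n, ?_, hn⟩
  by_cases hn0 : n = 0
  · subst hn0
    rw [pow_zero, Scheme.basicOpen_of_isUnit _ isUnit_one]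
    exact hxU
  · rw [Scheme.basicOpen_pow _ _ (Nat.pos_of_ne_zero hn0)]
    exact hxf

end stalks

section pushforward

variable {S : Scheme.{u}} (f : X ⟶ S)

theorem exists_extension' {U : X.Opens} (hU : IsAffineOpen U) (F : X.Modules) [F.IsQuasicoherent]
    (a : Γ(X, U)) (W : X.Opens) (hW : W = X.basicOpen a) (hle : W ≤ U) (s : Γ(F, W)) :
    ∃ (n : ℕ) (t : Γ(F, U)), F.presheaf.map (homOfLE hle).op t =
      (X.presheaf.map (homOfLE hle).op a) ^ n • s := by
  subst hW
  exact QCoh.exists_extension hU F a s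

theorem exists_pow_smul_eq_zero' {U : X.Opens} (hU : IsAffineOpen U) (F : X.Modules)
    [F.IsQuasicoherent] (a : Γ(X, U)) (W : X.Opens) (hW : W = X.basicOpen a) (hle : W ≤ U)
    (t : Γ(F, U)) (ht : F.presheaf.map (homOfLE hle).op t = 0) : ∃ n : ℕ, a ^ n • t = 0 := by
  subst hW
  exact QCoh.exists_pow_smul_eq_zero hU F a t ht

theorem pushforward_smul (F : X.Modules) (V : S.Opens) (b : Γ(S, V))
    (t : Γ((Scheme.Modules.pushforward f).obj F, V)) :
    b • t = ((f.app V b) • (show Γ(F, f ⁻¹ᵁ V) from t) : Γ(F, f ⁻¹ᵁ V)) := rfl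

/-- The pushforward of a quasi-coherent module along an affine morphism is localizing on every
affine open of the target. -/
theorem isLocOn_pushforward [IsAffineHom f] (F : X.Modules) [F.IsQuasicoherent] {V : S.Opens}
    (hV : IsAffineOpen V) : IsLocOn ((Scheme.Modules.pushforward f).obj F) V := by
  have hU : IsAffineOpen (f ⁻¹ᵁ V) := hV.preimage f
  constructor
  · intro g s
    have hW : f ⁻¹ᵁ (S.basicOpen g) = X.basicOpen (f.app V g) := Scheme.preimage_basicOpen f g
    have hle : f ⁻¹ᵁ (S.basicOpen g) ≤ f ⁻¹ᵁ V := fun x hx => S.basicOpen_le g hx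
    obtain ⟨n, t, ht⟩ := exists_extension' hU F (f.app V g) _ hW hle s
    refine ⟨n, t, ?_⟩
    rw [pushforward_smul]
    refine ht.trans ?_
    congr 1
    rw [map_pow]
    congr 1
    have hnat := Scheme.Hom.naturality f (homOfLE (S.basicOpen_le g)).op
    have := congrArg (fun φ => φ g) hnat
    simp only [ConcreteCategory.comp_apply] at this
    exact this.symm
  · intro g t ht
    have hW : f ⁻¹ᵁ (S.basicOpen g) = X.basicOpen (f.app V g) := Scheme.preimage_basicOpen f g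
    have hle : f ⁻¹ᵁ (S.basicOpen g) ≤ f ⁻¹ᵁ V := fun x hx => S.basicOpen_le g hx
    obtain ⟨n, hn⟩ := exists_pow_smul_eq_zero' hU F (f.app V g) _ hW hle t ht
    refine ⟨n, ?_⟩
    rw [pushforward_smul, map_pow]
    exact hn

end pushforward

section points

variable {S : Scheme.{u}} (f : X ⟶ S)


/-- The image under `f` of the point of the prime `Q` of `Γ(X, f⁻¹V)` is the point of the
contraction of `Q` to `Γ(S,V)`. -/
theorem map_fromSpec_preimage {V : S.Opens} (hV : IsAffineOpen V) (hU : IsAffineOpen (f ⁻¹ᵁ V))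
    (Q : PrimeSpectrum Γ(X, f ⁻¹ᵁ V)) :
    f (hU.fromSpec Q) = hV.fromSpec (Q.comap (f.app V).hom) := by
  have h1 := IsAffineOpen.SpecMap_appLE_fromSpec f hV hU le_rfl
  have h2 : (hU.fromSpec ≫ f) Q = (Spec.map (f.appLE V (f ⁻¹ᵁ V) le_rfl) ≫ hV.fromSpec) Q := by
    rw [h1]
  rw [Scheme.Hom.comp_apply, Scheme.Hom.comp_apply] at h2
  rw [h2, Scheme.Hom.appLE_eq_app]
  rfl

theorem exists_isWeakAssPoint_of_pushforward [IsAffineHom f] (F : X.Modules) [F.IsQuasicoherent]
    (s : S) (hs : Curv2.IsWeakAssPoint ((Scheme.Modules.pushforward f).obj F) s) :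
    ∃ x : X, f x = s ∧ Curv2.IsWeakAssPoint F x := by
  classical
  obtain ⟨_, ⟨V, hV, rfl⟩, hsV, -⟩ :=
    S.isBasis_affineOpens.exists_subset_of_mem_open (Set.mem_univ s) isOpen_univ
  have hU : IsAffineOpen (f ⁻¹ᵁ V) := hV.preimage f
  have hG : IsLocOn ((Scheme.Modules.pushforward f).obj F) V := isLocOn_pushforward f F hV
  obtain ⟨n, hn⟩ := hs
  have hn0 : n ≠ 0 := by
    rintro rfl
    have h1 : (1 : S.presheaf.stalk s) ∈ IsLocalRing.maximalIdeal (S.presheaf.stalk s) := by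
      rw [← hn]
      apply Ideal.le_radical
      rw [mem_kerSpan_iff, smul_zero]
    exact (Ideal.ne_top_iff_one _).1 (IsLocalRing.maximalIdeal.isMaximal _).ne_top h1
  obtain ⟨c, m, hsc, hcm⟩ := hG.exists_smul_eq_germ hV s hsV n
  have hcu : IsUnit (S.presheaf.germ V s hsV c) := (Scheme.mem_basicOpen S c s hsV).1 hsc
  have hm0 : ((Scheme.Modules.pushforward f).obj F).presheaf.germ V s hsV m ≠ 0 := by
    intro h0
    rw [h0] at hcm
    exact hn0 (germ_smul_eq_zero_of_isUnit hcu hcm)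
  have hpow : ∀ b ∈ (hV.primeIdealOf ⟨s, hsV⟩).asIdeal, ∃ k : ℕ,
      (S.presheaf.germ V s hsV b) ^ k •
        ((Scheme.Modules.pushforward f).obj F).presheaf.germ V s hsV m = 0 := by
    intro b hb
    have hbm : S.presheaf.germ V s hsV b ∈ IsLocalRing.maximalIdeal (S.presheaf.stalk s) :=
      (germ_mem_maximalIdeal_iff hV s hsV b).2 hb
    rw [← hn] at hbm
    obtain ⟨k, hk⟩ := hbm
    rw [mem_kerSpan_iff] at hk
    refine ⟨k, ?_⟩
    rw [← hcm, smul_comm, hk, smul_zero]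
  -- now the algebra
  let m' : Γ(F, f ⁻¹ᵁ V) := m
  let φ : Γ(S, V) →+* Γ(X, f ⁻¹ᵁ V) := (f.app V).hom
  let T : Submonoid Γ(X, f ⁻¹ᵁ V) := Submonoid.map φ (hV.primeIdealOf ⟨s, hsV⟩).asIdeal.primeCompl
  have hkill : ∀ t : Γ(S, V), t ∉ (hV.primeIdealOf ⟨s, hsV⟩).asIdeal → φ t ∉ ann F m' := by
    intro t ht haI
    have h1 : φ t • m' = 0 := mem_ann.1 haI
    have h2 : t • m = 0 := h1
    have h3 := congrArg (((Scheme.Modules.pushforward f).obj F).presheaf.germ V s hsV) h2
    rw [map_zero, germ_smul] at h3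
    have htu : IsUnit (S.presheaf.germ V s hsV t) := by
      rw [← Scheme.mem_basicOpen, Groth.Agent.Lib.Helper2.mem_basicOpen_iff_notMem_primeIdealOf hV s hsV]
      exact ht
    exact hm0 (germ_smul_eq_zero_of_isUnit htu h3)
  have hdisj : Disjoint (ann F m' : Set Γ(X, f ⁻¹ᵁ V)) (T : Set Γ(X, f ⁻¹ᵁ V)) := by
    rw [Set.disjoint_left]
    rintro a haI ⟨t, ht, rfl⟩
    exact hkill t ht haI
  obtain ⟨q₀, hq₀prime, hIq₀, hq₀T⟩ := Ideal.exists_le_prime_disjoint (ann F m') T hdisj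
  obtain ⟨q, hq, hqq₀⟩ := Ideal.exists_minimalPrimes_le hIq₀
  let Q : PrimeSpectrum Γ(X, f ⁻¹ᵁ V) := ⟨q, hq.1.1⟩
  have hnotT : ∀ t : Γ(S, V), t ∉ (hV.primeIdealOf ⟨s, hsV⟩).asIdeal → φ t ∉ q := by
    intro t ht htq
    exact (Set.disjoint_left.1 hq₀T) (hqq₀ htq) ⟨t, ht, rfl⟩
  refine ⟨hU.fromSpec Q, ?_, isWeakAssPoint_fromSpec_of_minimalPrimes hU F m' Q hq⟩
  have hcomap : Q.comap φ = hV.primeIdealOf ⟨s, hsV⟩ := by
    ext b
    constructor
    · intro hb
      by_contra hbp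
      exact hnotT b hbp hb
    · intro hb
      obtain ⟨k, hk⟩ := hpow b hb
      rw [← map_pow, ← germ_smul] at hk
      obtain ⟨t, hst, htm⟩ := hG.exists_smul_eq_zero_of_germ_eq_zero hV s hsV _ hk
      rw [Groth.Agent.Lib.Helper2.mem_basicOpen_iff_notMem_primeIdealOf hV s hsV] at hst
      have h1 : (φ t * φ b ^ k) • m' = 0 := by
        rw [mul_smul]
        have h0 : φ b ^ k • m' = b ^ k • m := by
          rw [pushforward_smul f F V (b ^ k) m, map_pow]
        rw [h0]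
        exact htm
      have h2 : φ t * φ b ^ k ∈ q := hq.1.2 (mem_ann.2 h1)
      rcases hq.1.1.mem_or_mem h2 with h3 | h3
      · exact absurd h3 (hnotT t hst)
      · exact hq.1.1.mem_of_pow_mem k h3
  rw [map_fromSpec_preimage f hV hU Q]
  have : Q.comap (f.app V).hom = hV.primeIdealOf ⟨s, hsV⟩ := hcomap
  rw [this, hV.fromSpec_primeIdealOf ⟨s, hsV⟩]



/-- The prime of `f x` in `Γ(S,V)` is the contraction of the prime of `x` in `Γ(X,f⁻¹V)`. -/
theorem primeIdealOf_map {V : S.Opens} (hV : IsAffineOpen V) (hU : IsAffineOpen (f ⁻¹ᵁ V))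
    (x : X) (hxV : f x ∈ V) :
    hV.primeIdealOf ⟨f x, hxV⟩ = (hU.primeIdealOf ⟨x, hxV⟩).comap (f.app V).hom := by
  have h1 := map_fromSpec_preimage f hV hU (hU.primeIdealOf ⟨x, hxV⟩)
  rw [hU.fromSpec_primeIdealOf ⟨x, hxV⟩] at h1
  have h2 := primeIdealOf_fromSpec hV ((hU.primeIdealOf ⟨x, hxV⟩).comap (f.app V).hom)
  rw [← h2]
  congr 1
  exact Subtype.ext h1

/-- On a locally Noetherian scheme, a weakly associated point `x ∈ U` (affine) of a quasi-coherent
module is the point of the exact annihilator of some section over `U`. -/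
theorem exists_ann_eq_of_isWeakAssPoint [IsLocallyNoetherian X] (F : X.Modules) [F.IsQuasicoherent]
    {U : X.Opens} (hU : IsAffineOpen U) (x : X) (hxU : x ∈ U) (hx : Curv2.IsWeakAssPoint F x) :
    ∃ m : Γ(F, U), ann F m = (hU.primeIdealOf ⟨x, hxU⟩).asIdeal := by
  classical
  have hA : IsNoetherianRing Γ(X, U) := IsLocallyNoetherian.component_noetherian ⟨U, hU⟩
  have hx' := (isAssPoint_iff_isWeakAssPoint F x).2 hx
  obtain ⟨-, n, hn⟩ := isAssociatedPrime_iff.1 hx'
  have hmemn : ∀ a : X.presheaf.stalk x, a ∈ IsLocalRing.maximalIdeal (X.presheaf.stalk x) ↔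
      a • n = 0 := by
    intro a
    rw [hn, Submodule.mem_colon_singleton, Submodule.mem_bot]
  obtain ⟨c, m, hxc, hcm⟩ := QCoh.exists_smul_eq_germ hU F x hxU n
  have hcu : IsUnit (X.presheaf.germ U x hxU c) := (Scheme.mem_basicOpen X c x hxU).1 hxc
  set q := (hU.primeIdealOf ⟨x, hxU⟩).asIdeal with hq
  have hqprime : q.IsPrime := (hU.primeIdealOf ⟨x, hxU⟩).2
  obtain ⟨gens, hgens⟩ : q.FG := IsNoetherian.noetherian q
  have hex : ∀ b ∈ gens, ∃ t : Γ(X, U), t ∉ q ∧ t • b • m = 0 := by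
    intro b hb
    have hbq : b ∈ q := by rw [← hgens]; exact Submodule.subset_span hb
    have h1 : X.presheaf.germ U x hxU b • n = 0 :=
      (hmemn _).1 ((germ_mem_maximalIdeal_iff hU x hxU b).2 hbq)
    have h2 : F.presheaf.germ U x hxU (b • m) = 0 := by
      rw [germ_smul, ← hcm, smul_comm, h1, smul_zero]
    obtain ⟨t, hxt, ht⟩ := QCoh.exists_smul_eq_zero_of_germ_eq_zero hU F x hxU _ h2
    rw [Groth.Agent.Lib.Helper2.mem_basicOpen_iff_notMem_primeIdealOf hU x hxU] at hxt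
    exact ⟨t, hxt, ht⟩
  choose! t ht using hex
  set T := ∏ b ∈ gens, t b with hT
  have hTq : T ∉ q := by
    intro hmem
    rw [hT, Ideal.IsPrime.prod_mem_iff] at hmem
    obtain ⟨b, hb, hbq⟩ := hmem
    exact (ht b hb).1 hbq
  refine ⟨T • m, le_antisymm ?_ ?_⟩
  · intro a ha
    rw [mem_ann] at ha
    have h1 := congrArg (F.presheaf.germ U x hxU) ha
    rw [map_zero, germ_smul, germ_smul, ← hcm] at h1
    have hTu : IsUnit (X.presheaf.germ U x hxU T) := by
      rw [← Scheme.mem_basicOpen, Groth.Agent.Lib.Helper2.mem_basicOpen_iff_notMem_primeIdealOf hU x hxU]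
      exact hTq
    rw [smul_comm, smul_comm (X.presheaf.germ U x hxU a)] at h1
    have h2 := germ_smul_eq_zero_of_isUnit hcu (germ_smul_eq_zero_of_isUnit hTu h1)
    exact (germ_mem_maximalIdeal_iff hU x hxU a).1 ((hmemn _).2 h2)
  · rw [← hgens, Ideal.span_le]
    intro b hb
    have hb' : b ∈ gens := hb
    obtain ⟨r, hr⟩ := Finset.dvd_prod_of_mem t hb'
    show b ∈ ann F (T • m)
    rw [mem_ann, hT, hr, smul_smul, mul_comm, mul_assoc, mul_smul, mul_smul,
      smul_comm (t b) r, (ht b hb').2, smul_zero]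

theorem isWeakAssPoint_pushforward [IsAffineHom f] [IsLocallyNoetherian X] (F : X.Modules)
    [F.IsQuasicoherent] (x : X) (hx : Curv2.IsWeakAssPoint F x) :
    Curv2.IsWeakAssPoint ((Scheme.Modules.pushforward f).obj F) (f x) := by
  obtain ⟨_, ⟨V, hV, rfl⟩, hsV, -⟩ :=
    S.isBasis_affineOpens.exists_subset_of_mem_open (Set.mem_univ (f x)) isOpen_univ
  have hU : IsAffineOpen (f ⁻¹ᵁ V) := hV.preimage f
  have hG : IsLocOn ((Scheme.Modules.pushforward f).obj F) V := isLocOn_pushforward f F hV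
  have hxU : x ∈ f ⁻¹ᵁ V := hsV
  obtain ⟨m', hm'⟩ := exists_ann_eq_of_isWeakAssPoint F hU x hxU hx
  let m : Γ((Scheme.Modules.pushforward f).obj F, V) := m'
  have hp := primeIdealOf_map f hV hU x hsV
  have hmem : ∀ b : Γ(S, V), b ∈ (hV.primeIdealOf ⟨f x, hsV⟩).asIdeal ↔ b • m = 0 := by
    intro b
    rw [hp, pushforward_smul]
    change (f.app V).hom b ∈ (hU.primeIdealOf ⟨x, hxU⟩).asIdeal ↔ _
    rw [← hm', mem_ann]
    rfl
  refine isWeakAssPoint_of hV _ (f x) hsV m ?_ ?_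
  · intro h0
    obtain ⟨t, hst, htm⟩ := hG.exists_smul_eq_zero_of_germ_eq_zero hV (f x) hsV m h0
    rw [Groth.Agent.Lib.Helper2.mem_basicOpen_iff_notMem_primeIdealOf hV _ hsV] at hst
    exact hst ((hmem t).2 htm)
  · intro b hb
    refine ⟨1, ?_⟩
    rw [pow_one, ← germ_smul, (hmem b).1 hb, map_zero]

end points

end Groth.Agent.Lib.Helper2.Push
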