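import Mathlib
import Groth.Agent.Lib.Helper2Push
import Groth.Agent.Lib.Helper6QCohQcqs

/-!
# Quasi-coherence is local; criterion by localization on affine opens; direct images (helper23)

* `isQuasicoherent_of_presentation`: `M` is quasi-coherent if the restrictions `M.restrict (V i).ι` to the members
  of an open cover have global presentations.
* `isQuasicoherent_of_affine_cover`: `M` is quasi-coherent if `M.restrict (hV i).fromSpec` is quasi-coherent for an
  affine open cover.
* `isQuasicoherent_restrict_fromSpec_of_isLocOn`: helper2's `IsLocOn F U` (sections over `D(f) ⊆ U` are the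
  localization, in element form) implies that `F.restrict hU.fromSpec` is quasi-coherent.
* `isQuasicoherent_of_isLocOn`: **criterion**: `IsLocOn G V` for all affine opens `V` implies `G` quasi-coherent.
* `isLocOn_pushforward_of_qcqs`, `isQuasicoherent_pushforward`: direct images of quasi-coherent modules along
  quasi-compact quasi-separated morphisms are quasi-coherent.
-/

set_option autoImplicit false
universe u
open CategoryTheory Limits AlgebraicGeometry TopologicalSpace Opposite

namespace Groth.Agent.Lib.Helper23.QCohLocal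

open Groth.Agent.Lib.Helper2.Push Groth.Agent.Lib.Helper2.QCoh

variable {X : Scheme.{u}}

/-- presentation of `M.over V` from a presentation of `M.restrict V.ι` -/
noncomputable def presentationOver (M : X.Modules) (V : X.Opens) (P : (M.restrict V.ι).Presentation) :
    (M.over V).Presentation := by
  let F : SheafOfModules.{u} (V : Scheme.{u}).ringCatSheaf ⥤ SheafOfModules.{u} (X.ringCatSheaf.over V) :=
    (Scheme.Modules.overEquiv V).inverse
  have hF : F.IsEquivalence := inferInstanceAs ((Scheme.Modules.overEquiv V).inverse.IsEquivalence)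
  have : PreservesColimitsOfSize.{u, u} F := inferInstance
  let Q := P.map F (V.sheafOfModulesEquivOverInverseUnit X.ringCatSheaf).symm
  exact SheafOfModules.Presentation.ofIsIso
    ((Scheme.Modules.overEquiv V).inverse.mapIso ((Scheme.Modules.overFunctorEquiv V).app M).symm ≪≫
    ((Scheme.Modules.overEquiv V).unitIso.app (M.over V)).symm).hom Q

/-- Quasi-coherence from presentations of the restrictions to the members of an open cover. -/
theorem isQuasicoherent_of_presentation (M : X.Modules) {ι : Type u} (V : ι → X.Opens) (hV : IsOpenCover V)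
    (P : ∀ i, Nonempty (M.restrict (V i).ι).Presentation) : M.IsQuasicoherent := by
  let q : SheafOfModules.QuasicoherentData.{u, u, u, u} M :=
    { I := ι
      X := V
      coversTop := (Opens.coversTop_iff _ V).2 hV
      presentation := fun i => presentationOver M (V i) (P i).some }
  exact q.isQuasicoherent

set_option backward.isDefEq.respectTransparency false in
/-- transporting presentations along a factorization of open immersions -/
noncomputable def presentationOfComp (M : X.Modules) {W W' : Scheme.{u}} (g : W' ⟶ W) (j : W ⟶ X) (k : W' ⟶ X)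
    [IsOpenImmersion g] [IsOpenImmersion j] [IsOpenImmersion k] (h : g ≫ j = k)
    (P : (M.restrict j).Presentation) : (M.restrict k).Presentation := by
  let e : (M.restrict j).restrict g ≅ M.restrict k :=
    ((Scheme.Modules.restrictFunctorComp g j).app M).symm ≪≫ (Scheme.Modules.restrictFunctorCongr h).app M
  exact SheafOfModules.Presentation.ofIsIso.{u, u, u} e.hom (Scheme.Modules.presentationRestrict g P)

theorem isIso_fromTildeΓ {R : CommRingCat.{u}} (N : (Spec R).Modules) [N.IsQuasicoherent] :
    IsIso N.fromTildeΓ := by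
  infer_instance

set_option backward.isDefEq.respectTransparency false in
/-- a quasi-coherent module on an affine scheme `Spec R` has a global presentation -/
theorem nonempty_presentation_spec {R : CommRingCat.{u}} (N : (Spec R).Modules) [N.IsQuasicoherent] :
    Nonempty N.Presentation := by
  have := isIso_fromTildeΓ N
  exact ⟨SheafOfModules.Presentation.ofIsIso.{u, u, u} N.fromTildeΓ
    (presentationTilde.{u} _ .univ (by simp) _ (Submodule.span_eq _))⟩

/-- Quasi-coherence from quasi-coherence of the restrictions to the members of an affine open cover. -/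
theorem isQuasicoherent_of_affine_cover (M : X.Modules) {ι : Type u} (V : ι → X.Opens) (hV : IsOpenCover V)
    (hVa : ∀ i, IsAffineOpen (V i)) (h : ∀ i, (M.restrict (hVa i).fromSpec).IsQuasicoherent) :
    M.IsQuasicoherent := by
  refine isQuasicoherent_of_presentation M V hV fun i => ?_
  have := h i
  obtain ⟨P⟩ := nonempty_presentation_spec (M.restrict (hVa i).fromSpec)
  exact ⟨presentationOfComp M (hVa i).isoSpec.hom (hVa i).fromSpec (V i).ι (hVa i).isoSpec_hom_fromSpec P⟩


variable {U : X.Opens}

theorem IsLocOn.exists_aux' {F : X.Modules} (hF : IsLocOn F U) (f : Γ(X, U)) (W₂ : X.Opens)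
    (h₂ : W₂ = X.basicOpen f) (W₁ : X.Opens) (h₁ : W₁ = U) (hle : W₂ ≤ W₁) (s : Γ(F, W₂)) :
    ∃ (n : ℕ) (t : Γ(F, W₁)), F.presheaf.map (homOfLE hle).op t =
      (X.presheaf.map (homOfLE (hle.trans h₁.le)).op f) ^ n • s := by
  subst h₂ h₁
  exact hF.exists_extension f s

theorem IsLocOn.unique_aux' {F : X.Modules} (hF : IsLocOn F U) (f : Γ(X, U)) (W₂ : X.Opens)
    (h₂ : W₂ = X.basicOpen f) (W₁ : X.Opens) (h₁ : W₁ = U) (hle : W₂ ≤ W₁) (t : Γ(F, W₁))
    (ht : F.presheaf.map (homOfLE hle).op t = 0) :
    ∃ n : ℕ, (X.presheaf.map (homOfLE h₁.le).op f) ^ n • t = 0 := by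
  subst h₂ h₁
  obtain ⟨n, hn⟩ := hF.exists_pow_smul_eq_zero f t ht
  refine ⟨n, ?_⟩
  have : X.presheaf.map (homOfLE (le_refl W₁)).op f = f := by
    have : (homOfLE (le_refl W₁)).op = 𝟙 (op W₁) := rfl
    rw [this, X.presheaf.map_id]; rfl
  rw [this]
  exact hn

set_option backward.isDefEq.respectTransparency false in
theorem isQuasicoherent_restrict_fromSpec_of_isLocOn (hU : IsAffineOpen U) (F : X.Modules)
    (hF : IsLocOn F U) : (F.restrict hU.fromSpec).IsQuasicoherent := by
  rw [isQuasicoherent_iff_isIso_fromTildeΓ, isIso_fromTildeΓ_iff_isLocalizing]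
  intro f
  have h₁ : hU.fromSpec ''ᵁ ⊤ = U := by
    rw [Scheme.Hom.image_top_eq_opensRange, hU.opensRange_fromSpec]
  have h₂ : hU.fromSpec ''ᵁ (PrimeSpectrum.basicOpen f) = X.basicOpen f := hU.fromSpec_image_basicOpen f
  have hle : hU.fromSpec ''ᵁ (PrimeSpectrum.basicOpen f) ≤ hU.fromSpec ''ᵁ ⊤ := by
    rw [h₁, h₂]; exact X.basicOpen_le f
  refine IsLocalizedModule.Away.mk_of_addCommGroup ?_ ?_ ?_
  · exact Scheme.Modules.isUnit_algebraMap_end_of_le_basicOpen f le_rfl
  · intro x
    obtain ⟨n, t, ht⟩ := IsLocOn.exists_aux' hF f _ h₂ _ h₁ hle x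
    refine ⟨n, t, ?_⟩
    have h1 := restrict_fromSpec_smul hU F (PrimeSpectrum.basicOpen f) (f ^ n) x
    rw [map_pow] at h1
    exact h1.trans ht.symm
  · intro t ht
    obtain ⟨n, hn⟩ := IsLocOn.unique_aux' hF f _ h₂ _ h₁ hle t ht
    refine ⟨n, ?_⟩
    have h1 := restrict_fromSpec_smul hU F ⊤ (f ^ n) t
    rw [map_pow] at h1
    exact h1.trans hn


/-- **Criterion**: a module localizing on all affine opens is quasi-coherent. -/
theorem isQuasicoherent_of_isLocOn (G : X.Modules) (h : ∀ V : X.Opens, IsAffineOpen V → IsLocOn G V) :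
    G.IsQuasicoherent :=
  isQuasicoherent_of_affine_cover G (fun V : X.affineOpens => (V : X.Opens)) (iSup_affineOpens_eq_top X)
    (fun V => V.2) (fun V => isQuasicoherent_restrict_fromSpec_of_isLocOn V.2 G (h V.1 V.2))

section pushforward

variable {S : Scheme.{u}} (f : X ⟶ S)

theorem exists_extension_qcqs' {U : X.Opens} (hU : IsCompact (U : Set X)) (hU' : IsQuasiSeparated (U : Set X))
    (F : X.Modules) [F.IsQuasicoherent]
    (a : Γ(X, U)) (W : X.Opens) (hW : W = X.basicOpen a) (hle : W ≤ U) (s : Γ(F, W)) :
    ∃ (n : ℕ) (t : Γ(F, U)), F.presheaf.map (homOfLE hle).op t =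
      (X.presheaf.map (homOfLE hle).op a) ^ n • s := by
  subst hW
  exact Groth.Agent.Lib.Helper6.exists_extension_of_isCompact_of_isQuasiSeparated F hU hU' a s

theorem exists_pow_smul_eq_zero_qc' {U : X.Opens} (hU : IsCompact (U : Set X)) (F : X.Modules)
    [F.IsQuasicoherent] (a : Γ(X, U)) (W : X.Opens) (hW : W = X.basicOpen a) (hle : W ≤ U)
    (t : Γ(F, U)) (ht : F.presheaf.map (homOfLE hle).op t = 0) : ∃ n : ℕ, a ^ n • t = 0 := by
  subst hW
  exact Groth.Agent.Lib.Helper6.exists_pow_smul_eq_zero_of_isCompact F hU a t ht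

/-- The pushforward of a quasi-coherent module along a quasi-compact quasi-separated morphism is localizing on
every affine open of the target. -/
theorem isLocOn_pushforward_of_qcqs [QuasiCompact f] [QuasiSeparated f] (F : X.Modules) [F.IsQuasicoherent]
    {V : S.Opens} (hV : IsAffineOpen V) : IsLocOn ((Scheme.Modules.pushforward f).obj F) V := by
  have hU : IsCompact ((f ⁻¹ᵁ V : X.Opens) : Set X) := f.isCompact_preimage hV.isCompact
  have hU' : IsQuasiSeparated ((f ⁻¹ᵁ V : X.Opens) : Set X) := f.isQuasiSeparated_preimage hV.isQuasiSeparated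
  constructor
  · intro g s
    have hW : f ⁻¹ᵁ (S.basicOpen g) = X.basicOpen (f.app V g) := Scheme.preimage_basicOpen f g
    have hle : f ⁻¹ᵁ (S.basicOpen g) ≤ f ⁻¹ᵁ V := fun x hx => S.basicOpen_le g hx
    obtain ⟨n, t, ht⟩ := exists_extension_qcqs' hU hU' F (f.app V g) _ hW hle s
    refine ⟨n, t, ?_⟩
    rw [pushforward_smul]
    refine ht.trans ?_
    congr 1
    rw [map_pow]
    congr 1
    have hnat := Scheme.Hom.naturality f (homOfLE (S.basicOpen_le g)).op
    have := congrArg (fun φ => φ g) hnat
    simp only [ConcreteCategory.comp_apply] at this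
    exact this.symm
  · intro g t ht
    have hW : f ⁻¹ᵁ (S.basicOpen g) = X.basicOpen (f.app V g) := Scheme.preimage_basicOpen f g
    have hle : f ⁻¹ᵁ (S.basicOpen g) ≤ f ⁻¹ᵁ V := fun x hx => S.basicOpen_le g hx
    obtain ⟨n, hn⟩ := exists_pow_smul_eq_zero_qc' hU F (f.app V g) _ hW hle t ht
    refine ⟨n, ?_⟩
    rw [pushforward_smul, map_pow]
    exact hn

/-- Direct images of quasi-coherent modules along quasi-compact quasi-separated morphisms are quasi-coherent. -/
theorem isQuasicoherent_pushforward [QuasiCompact f] [QuasiSeparated f] (F : X.Modules) [F.IsQuasicoherent] :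
    ((Scheme.Modules.pushforward f).obj F).IsQuasicoherent :=
  isQuasicoherent_of_isLocOn _ fun _ hV => isLocOn_pushforward_of_qcqs f F hV

end pushforward

end Groth.Agent.Lib.Helper23.QCohLocal
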