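import Mathlib
import Groth.Prelude.Def_CurvBase
import Groth.Agent.Lib.Helper2Push

/-!
# Sections of short exact sequences of O_X-modules; germs under morphisms (helper2)

* `app_injective_of_mono`: a monomorphism of `X.Modules` is injective on sections over every open.
* `exists_app_eq_of_shortExact`: left exactness of sections for a short exact sequence.
* `germ_app_eq_zero`, `germ_eq_zero_of_app`: behaviour of vanishing of germs under a morphism.
* `exists_section_of_isWeakAssPoint`: a weakly associated point `x ∈ U` (`U` affine, `F` localizing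
  on `U`) has a witness which is the germ of a section over `U`.
-/
set_option autoImplicit false
universe u
open CategoryTheory Limits AlgebraicGeometry TopologicalSpace Opposite

namespace Groth.Agent.Lib.Helper2.ModExact

open Groth.Agent.Lib.Helper2.QCoh Groth.Agent.Lib.Helper2.Ass Groth.Agent.Lib.Helper2.Push

variable {X : Scheme.{u}}

theorem app_injective_of_mono {F G : X.Modules} (φ : F ⟶ G) [Mono φ] (U : X.Opens) :
    Function.Injective (Scheme.Modules.Hom.app φ U) := by
  have h1 : Mono ((Scheme.Modules.toPresheaf X).map φ) := inferInstance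
  rw [Scheme.Modules.toPresheaf_map] at h1
  have h2 : Mono ((Scheme.Modules.Hom.mapPresheaf φ).app (op U)) := by
    rw [NatTrans.mono_iff_mono_app] at h1
    exact h1 (op U)
  rw [Scheme.Modules.mapPresheaf_app] at h2
  exact (AddCommGrpCat.mono_iff_injective _).1 h2

/-- sections over `U` as a functor to modules over `Γ(X,U)` -/
noncomputable abbrev secFunctor (U : X.Opens) :
    X.Modules ⥤ ModuleCat (X.ringCatSheaf.obj.obj (op U)) :=
  Scheme.Modules.toPresheafOfModules X ⋙ PresheafOfModules.evaluation X.ringCatSheaf.obj (op U)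

theorem exists_app_eq_of_shortExact (S : ShortComplex X.Modules) (hS : S.ShortExact) (U : X.Opens)
    (t : Γ(S.X₂, U)) (ht : Scheme.Modules.Hom.app S.g U t = 0) :
    ∃ t₁ : Γ(S.X₁, U), Scheme.Modules.Hom.app S.f U t₁ = t := by
  have := hS.mono_f
  have h1 : (S.map (secFunctor U)).Exact :=
    hS.exact.map_of_mono_of_preservesKernel (secFunctor U) inferInstance inferInstance
  rw [ShortComplex.moduleCat_exact_iff] at h1
  obtain ⟨t₁, ht₁⟩ := h1 t ht
  exact ⟨t₁, ht₁⟩

theorem app_smul {F G : X.Modules} (φ : F ⟶ G) (U : X.Opens) (r : Γ(X, U)) (m : Γ(F, U)) :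
    Scheme.Modules.Hom.app φ U (r • m) = r • Scheme.Modules.Hom.app φ U m :=
  Scheme.Modules.Hom.app_smul φ r m

theorem app_map {F G : X.Modules} (φ : F ⟶ G) {U V : X.Opens} (i : V ⟶ U) (m : Γ(F, U)) :
    Scheme.Modules.Hom.app φ V (F.presheaf.map i.op m) =
      G.presheaf.map i.op (Scheme.Modules.Hom.app φ U m) := by
  have h := (Scheme.Modules.Hom.mapPresheaf φ).naturality i.op
  have h2 := congrArg (fun ψ => ψ m) h
  simp only [ConcreteCategory.comp_apply] at h2
  exact h2

theorem germ_app {F G : X.Modules} (φ : F ⟶ G) (U : X.Opens) (x : X) (hx : x ∈ U) (m : Γ(F, U)) :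
    G.presheaf.germ U x hx (Scheme.Modules.Hom.app φ U m) =
      (TopCat.Presheaf.stalkFunctor AddCommGrpCat.{u} x).map (Scheme.Modules.Hom.mapPresheaf φ)
        (F.presheaf.germ U x hx m) :=
  (TopCat.Presheaf.stalkFunctor_map_germ_apply U x hx (Scheme.Modules.Hom.mapPresheaf φ) m).symm

theorem germ_app_eq_zero {F G : X.Modules} (φ : F ⟶ G) (U : X.Opens) (x : X) (hx : x ∈ U)
    (m : Γ(F, U)) (h : F.presheaf.germ U x hx m = 0) :
    G.presheaf.germ U x hx (Scheme.Modules.Hom.app φ U m) = 0 := by
  rw [germ_app, h]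
  exact map_zero _

theorem germ_eq_zero_of_app {F G : X.Modules} (φ : F ⟶ G)
    (hφ : ∀ V : X.Opens, Function.Injective (Scheme.Modules.Hom.app φ V))
    (U : X.Opens) (x : X) (hx : x ∈ U) (m : Γ(F, U))
    (h : G.presheaf.germ U x hx (Scheme.Modules.Hom.app φ U m) = 0) :
    F.presheaf.germ U x hx m = 0 := by
  have h0 : G.presheaf.germ U x hx (Scheme.Modules.Hom.app φ U m) = G.presheaf.germ U x hx 0 := by
    rw [h, map_zero]
  obtain ⟨W, hxW, i₁, i₂, hW⟩ := G.presheaf.germ_eq x hx hx _ 0 h0
  rw [map_zero, ← app_map] at hW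
  have h1 : F.presheaf.map i₁.op m = 0 := hφ W (by rw [hW, map_zero])
  have h2 : F.presheaf.germ W x hxW (F.presheaf.map i₁.op m) = F.presheaf.germ U x hx m :=
    TopCat.Presheaf.germ_res_apply F.presheaf i₁ x hxW m
  rw [← h2, h1, map_zero]

/-- A weakly associated point has a witness which is a germ of a section over a given affine open
on which the module is localizing. -/
theorem exists_section_of_isWeakAssPoint {U : X.Opens} (hU : IsAffineOpen U) {F : X.Modules}
    (hF : IsLocOn F U) (x : X) (hxU : x ∈ U) (hx : Curv2.IsWeakAssPoint F x) :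
    ∃ m : Γ(F, U), F.presheaf.germ U x hxU m ≠ 0 ∧
      ∀ b ∈ (hU.primeIdealOf ⟨x, hxU⟩).asIdeal, ∃ k : ℕ,
        (X.presheaf.germ U x hxU b) ^ k • F.presheaf.germ U x hxU m = 0 := by
  obtain ⟨n, hn⟩ := hx
  have hn0 : n ≠ 0 := by
    rintro rfl
    have h1 : (1 : X.presheaf.stalk x) ∈ IsLocalRing.maximalIdeal (X.presheaf.stalk x) := by
      rw [← hn]
      apply Ideal.le_radical
      rw [mem_kerSpan_iff, smul_zero]
    exact (Ideal.ne_top_iff_one _).1 (IsLocalRing.maximalIdeal.isMaximal _).ne_top h1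
  obtain ⟨c, m, hsc, hcm⟩ := hF.exists_smul_eq_germ hU x hxU n
  have hcu : IsUnit (X.presheaf.germ U x hxU c) := (Scheme.mem_basicOpen X c x hxU).1 hsc
  refine ⟨m, ?_, ?_⟩
  · intro h0
    rw [h0] at hcm
    exact hn0 (germ_smul_eq_zero_of_isUnit hcu hcm)
  · intro b hb
    have hbm : X.presheaf.germ U x hxU b ∈ IsLocalRing.maximalIdeal (X.presheaf.stalk x) :=
      (germ_mem_maximalIdeal_iff hU x hxU b).2 hb
    rw [← hn] at hbm
    obtain ⟨k, hk⟩ := hbm
    rw [mem_kerSpan_iff] at hk
    refine ⟨k, ?_⟩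
    rw [← hcm, smul_comm, hk, smul_zero]

end Groth.Agent.Lib.Helper2.ModExact
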