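import Mathlib
import Groth.Prelude.Def_CurvBase
import Groth.Agent.Lib.Helper2ModExact

/-!
# Weakly associated points and pushforward along finite morphisms (helper2)

Stacks 10.66.13 / 31.6.3: for `f` finite and `F` quasi-coherent, the image of a weakly associated
point of `F` is weakly associated to `f_* F`.
-/
set_option autoImplicit false
universe u
open CategoryTheory Limits AlgebraicGeometry TopologicalSpace Opposite

namespace Groth.Agent.Lib.Helper2.FinPush
open Groth.Agent.Lib.Helper2.QCoh Groth.Agent.Lib.Helper2.Ass Groth.Agent.Lib.Helper2.Push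

/-- Stacks 10.66.13 (hard direction), element form. -/
theorem exists_smul_weakAss_of_finite {B A M : Type*} [CommRing B] [CommRing A] [Algebra B A]
    [Module.Finite B A] [AddCommGroup M] [Module A M] (m : M) (q : Ideal A)
    (hq : q ∈ Ideal.minimalPrimes (LinearMap.ker (LinearMap.toSpanSingleton A M m))) :
    ∃ y : A, y ∉ q ∧
      (∀ b : B, algebraMap B A b • y • m = 0 → b ∈ q.comap (algebraMap B A)) ∧
      ∀ b ∈ q.comap (algebraMap B A), ∃ (k : ℕ) (t : B), t ∉ q.comap (algebraMap B A) ∧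
        algebraMap B A t • (algebraMap B A b) ^ k • y • m = 0 := by
  classical
  have hqp : q.IsPrime := hq.1.1
  have memAnn : ∀ (z : M) (a : A), a ∈ LinearMap.ker (LinearMap.toSpanSingleton A M z) ↔
      a • z = 0 := by
    intro z a
    simp [LinearMap.mem_ker, LinearMap.toSpanSingleton_apply]
  set p := q.comap (algebraMap B A) with hp
  have hpprime : p.IsPrime := Ideal.comap_isPrime _ q
  have hfin : (p.primesOver A).Finite := Algebra.QuasiFinite.finite_primesOver p
  let others : Finset (Ideal A) := hfin.toFinset.erase q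
  have hothers : ∀ Q ∈ others, Q ≠ q ∧ Q.IsPrime ∧ Q.comap (algebraMap B A) = p := by
    intro Q hQ
    rw [Finset.mem_erase, Set.Finite.mem_toFinset] at hQ
    obtain ⟨hne, hQprime, hQover⟩ := hQ
    exact ⟨hne, hQprime, hQover.over.symm⟩
  have hav : ∃ a₀ ∈ q, ∀ Q ∈ others, a₀ ∉ Q := by
    by_contra hcon
    have hsub : (q : Set A) ⊆ ⋃ Q ∈ (others : Set (Ideal A)), ((id Q : Ideal A) : Set A) := by
      intro a ha
      by_contra hna
      apply hcon
      refine ⟨a, ha, fun Q hQ haQ => hna ?_⟩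
      exact Set.mem_biUnion (Finset.mem_coe.2 hQ) haQ
    rw [Ideal.subset_union_prime (f := id) q q (fun Q hQ _ _ => (hothers Q hQ).2.1)] at hsub
    obtain ⟨Q, hQ, hqQ⟩ := hsub
    obtain ⟨hne, hQprime, hQover⟩ := hothers Q hQ
    have hlt : q < Q := lt_of_le_of_ne hqQ (Ne.symm hne)
    have := Ideal.IsIntegral.comap_lt_comap (R := B) hlt
    rw [hQover] at this
    exact lt_irrefl _ this
  obtain ⟨a₀, ha₀q, ha₀⟩ := hav
  obtain ⟨y, k₀, hyq, hyk₀⟩ := exists_mul_pow_mem_of_mem_minimalPrimes hq ha₀q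
  rw [memAnn] at hyk₀
  refine ⟨y, hyq, ?_, ?_⟩
  · intro b hb
    rw [← mul_smul] at hb
    have h1 : algebraMap B A b * y ∈ q := hq.1.2 ((memAnn _ _).2 hb)
    rcases hqp.mem_or_mem h1 with h2 | h2
    · exact h2
    · exact absurd h2 hyq
  · intro b hb
    have hbq : algebraMap B A b ∈ q := hb
    obtain ⟨c, k, hcq, hck⟩ := exists_mul_pow_mem_of_mem_minimalPrimes hq hbq
    rw [memAnn] at hck
    refine ⟨k, ?_⟩
    set z : M := (algebraMap B A b) ^ k • y • m with hz
    have hcz : c • z = 0 := by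
      rw [hz, smul_comm ((algebraMap B A b) ^ k) y, smul_comm c y, ← mul_smul c, hck, smul_zero]
    have ha₀z : a₀ ^ k₀ • z = 0 := by
      rw [hz, smul_comm (a₀ ^ k₀), ← mul_smul (a₀ ^ k₀), mul_comm, hyk₀, smul_zero]
    by_contra hno
    let T : Submonoid A := Submonoid.map (algebraMap B A) p.primeCompl
    have hdisj : Disjoint ((LinearMap.ker (LinearMap.toSpanSingleton A M z) : Ideal A) : Set A)
        (T : Set A) := by
      rw [Set.disjoint_left]
      rintro _ haI ⟨t, ht, rfl⟩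
      exact hno ⟨t, ht, (memAnn _ _).1 haI⟩
    obtain ⟨Q, hQprime, hIQ, hQT⟩ := Ideal.exists_le_prime_disjoint _ T hdisj
    have hQp : Q.comap (algebraMap B A) ≤ p := by
      intro t ht
      by_contra htp
      exact (Set.disjoint_left.1 hQT) ht ⟨t, htp, rfl⟩
    obtain ⟨Q', hQQ', hQ'prime, hQ'over⟩ :=
      Ideal.exists_ideal_over_prime_of_isIntegral_of_isPrime p Q hQp
    by_cases hQ'q : Q' = q
    · apply hcq
      rw [← hQ'q]
      exact hQQ' (hIQ ((memAnn _ _).2 hcz))
    · have hmem : Q' ∈ others := by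
        rw [Finset.mem_erase, Set.Finite.mem_toFinset]
        exact ⟨hQ'q, hQ'prime, ⟨hQ'over.symm⟩⟩
      apply ha₀ Q' hmem
      exact hQ'prime.mem_of_pow_mem k₀ (hQQ' (hIQ ((memAnn _ _).2 ha₀z)))

variable {X : Scheme.{u}}

/-- The prime of a weakly associated point (with a section witness) is minimal over the
annihilator of the witness. -/
theorem primeIdealOf_mem_minimalPrimes_ann {U : X.Opens} (hU : IsAffineOpen U) (F : X.Modules)
    [F.IsQuasicoherent] (x : X) (hxU : x ∈ U) (m : Γ(F, U))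
    (hm0 : F.presheaf.germ U x hxU m ≠ 0)
    (hpow : ∀ b ∈ (hU.primeIdealOf ⟨x, hxU⟩).asIdeal, ∃ k : ℕ,
      (X.presheaf.germ U x hxU b) ^ k • F.presheaf.germ U x hxU m = 0) :
    (hU.primeIdealOf ⟨x, hxU⟩).asIdeal ∈ (ann F m).minimalPrimes := by
  refine ⟨⟨(hU.primeIdealOf ⟨x, hxU⟩).2, ?_⟩, ?_⟩
  · intro a ha
    by_contra haq
    have hau : IsUnit (X.presheaf.germ U x hxU a) := by
      rw [← Scheme.mem_basicOpen, Groth.Agent.Lib.Helper2.mem_basicOpen_iff_notMem_primeIdealOf hU x hxU]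
      exact haq
    have h1 := congrArg (F.presheaf.germ U x hxU) (mem_ann.1 ha)
    rw [map_zero, germ_smul] at h1
    exact hm0 (germ_smul_eq_zero_of_isUnit hau h1)
  · rintro q' ⟨hq'prime, hq'ann⟩ hq'le a ha
    obtain ⟨k, hk⟩ := hpow a ha
    rw [← map_pow, ← germ_smul] at hk
    obtain ⟨c, hxc, hc⟩ := QCoh.exists_smul_eq_zero_of_germ_eq_zero hU F x hxU _ hk
    rw [Groth.Agent.Lib.Helper2.mem_basicOpen_iff_notMem_primeIdealOf hU x hxU] at hxc
    rw [← mul_smul] at hc
    have h1 : c * a ^ k ∈ q' := hq'ann (mem_ann.2 hc)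
    rcases hq'prime.mem_or_mem h1 with h2 | h2
    · exact absurd (hq'le h2) hxc
    · exact hq'prime.mem_of_pow_mem k h2

theorem isWeakAssPoint_pushforward_of_isFinite {S : Scheme.{u}} (f : X ⟶ S) [IsFinite f]
    (F : X.Modules) [F.IsQuasicoherent] (x : X) (hx : Curv2.IsWeakAssPoint F x) :
    Curv2.IsWeakAssPoint ((Scheme.Modules.pushforward f).obj F) (f x) := by
  obtain ⟨_, ⟨V, hV, rfl⟩, hsV, -⟩ :=
    S.isBasis_affineOpens.exists_subset_of_mem_open (Set.mem_univ (f x)) isOpen_univ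
  have hU : IsAffineOpen (f ⁻¹ᵁ V) := hV.preimage f
  have hG : IsLocOn ((Scheme.Modules.pushforward f).obj F) V := isLocOn_pushforward f F hV
  have hxU : x ∈ f ⁻¹ᵁ V := hsV
  obtain ⟨m, hm0, hpow⟩ := Groth.Agent.Lib.Helper2.ModExact.exists_section_of_isWeakAssPoint hU
    (IsLocOn.of_isQuasicoherent hU F) x hxU hx
  have hmin := primeIdealOf_mem_minimalPrimes_ann hU F x hxU m hm0 hpow
  let _ : Algebra Γ(S, V) Γ(X, f ⁻¹ᵁ V) := (f.app V).hom.toAlgebra
  have hfin : Module.Finite Γ(S, V) Γ(X, f ⁻¹ᵁ V) := f.finite_app V hV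
  obtain ⟨y, hyq, h1, h2⟩ := exists_smul_weakAss_of_finite (B := Γ(S, V)) m _ hmin
  have hp := primeIdealOf_map f hV hU x hsV
  let m' : Γ((Scheme.Modules.pushforward f).obj F, V) := y • m
  have hmemp : ∀ b : Γ(S, V), b ∈ (hV.primeIdealOf ⟨f x, hsV⟩).asIdeal ↔
      b ∈ (hU.primeIdealOf ⟨x, hxU⟩).asIdeal.comap (algebraMap Γ(S, V) Γ(X, f ⁻¹ᵁ V)) := by
    intro b
    rw [hp]
    rfl
  refine isWeakAssPoint_of hV _ (f x) hsV m' ?_ ?_
  · intro h0
    obtain ⟨t, hst, htm⟩ := hG.exists_smul_eq_zero_of_germ_eq_zero hV (f x) hsV m' h0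
    rw [Groth.Agent.Lib.Helper2.mem_basicOpen_iff_notMem_primeIdealOf hV _ hsV] at hst
    exact hst ((hmemp t).2 (h1 t htm))
  · intro b hb
    obtain ⟨k, t, htp, htk⟩ := h2 b ((hmemp b).1 hb)
    refine ⟨k, ?_⟩
    have h3 : t • b ^ k • m' = 0 := by
      rw [pushforward_smul f F V t, pushforward_smul f F V (b ^ k), map_pow]
      exact htk
    have h4 := congrArg (((Scheme.Modules.pushforward f).obj F).presheaf.germ V (f x) hsV) h3
    rw [map_zero, germ_smul, germ_smul, map_pow] at h4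
    have htu : IsUnit (S.presheaf.germ V (f x) hsV t) := by
      rw [← Scheme.mem_basicOpen, Groth.Agent.Lib.Helper2.mem_basicOpen_iff_notMem_primeIdealOf hV _ hsV]
      exact fun h => htp ((hmemp t).1 h)
    exact germ_smul_eq_zero_of_isUnit htu h4

end Groth.Agent.Lib.Helper2.FinPush
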