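import Mathlib
import Groth.Prelude.Def_CurvBase
import Groth.Agent.Lib.Helper2FinPush

/-!
# Pushforward of quasi-coherent modules along quasi-compact morphisms (helper2)

* `exists_pow_smul_eq_zero_pushforward`: uniqueness half of "f_* F is localizing on affine opens"
  for quasi-compact `f` (no quasi-separatedness needed).
* `not_isWeakAssPoint_pushforward_of_notMem_range`: points outside the image are not weakly
  associated to `f_* F`.
* `section_eq_zero_of_germ`, `section_eq_zero_of_cover`, `map_fromSpec_le`, `map_pushforward_smul`.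
-/
set_option autoImplicit false
universe u
open CategoryTheory Limits AlgebraicGeometry TopologicalSpace Opposite

namespace Groth.Agent.Lib.Helper2.QcPush
open Groth.Agent.Lib.Helper2.QCoh Groth.Agent.Lib.Helper2.Ass Groth.Agent.Lib.Helper2.Push

variable {X : Scheme.{u}}

theorem section_eq_zero_of_germ (F : X.Modules) (W : X.Opens) (m : Γ(F, W))
    (h : ∀ (x : X) (hx : x ∈ W), F.presheaf.germ W x hx m = 0) : m = 0 := by
  apply TopCat.Presheaf.section_ext (⟨F.presheaf, F.isSheaf⟩ : TopCat.Sheaf _ _) W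
  intro x hx
  rw [map_zero]
  exact h x hx

/-- A section vanishing on each member of a cover vanishes. -/
theorem section_eq_zero_of_cover (F : X.Modules) (W : X.Opens) (m : Γ(F, W))
    (h : ∀ x ∈ W, ∃ (U : X.Opens) (hUW : U ≤ W), x ∈ U ∧ F.presheaf.map (homOfLE hUW).op m = 0) :
    m = 0 := by
  apply section_eq_zero_of_germ
  intro x hx
  obtain ⟨U, hUW, hxU, hU0⟩ := h x hx
  have h1 : F.presheaf.germ U x hxU (F.presheaf.map (homOfLE hUW).op m) = F.presheaf.germ W x hx m :=
    TopCat.Presheaf.germ_res_apply F.presheaf (homOfLE hUW) x hxU m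
  rw [← h1, hU0, map_zero]

variable {S : Scheme.{u}} (f : X ⟶ S)

theorem map_fromSpec_le {V : S.Opens} (hV : IsAffineOpen V) {U : X.Opens} (hU : IsAffineOpen U)
    (e : U ≤ f ⁻¹ᵁ V) (Q : PrimeSpectrum Γ(X, U)) :
    f (hU.fromSpec Q) = hV.fromSpec (Q.comap (f.appLE V U e).hom) := by
  have h1 := IsAffineOpen.SpecMap_appLE_fromSpec f hV hU e
  have h2 : (hU.fromSpec ≫ f) Q = (Spec.map (f.appLE V U e) ≫ hV.fromSpec) Q := by
    rw [h1]
  rw [Scheme.Hom.comp_apply, Scheme.Hom.comp_apply] at h2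
  rw [h2]
  rfl

/-- restriction of the pushforward scalar action to an open of the preimage -/
theorem map_pushforward_smul (F : X.Modules) (V : S.Opens) {U : X.Opens} (e : U ≤ f ⁻¹ᵁ V)
    (b : Γ(S, V)) (t : Γ((Scheme.Modules.pushforward f).obj F, V)) :
    F.presheaf.map (homOfLE e).op (show Γ(F, f ⁻¹ᵁ V) from b • t) =
      (f.appLE V U e b) • F.presheaf.map (homOfLE e).op (show Γ(F, f ⁻¹ᵁ V) from t) := by
  rw [pushforward_smul]
  exact Scheme.Modules.map_smul F (homOfLE e) (f.app V b) _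

/-- Uniqueness part of localization for the pushforward of a quasi-coherent module along a
quasi-compact morphism. -/
theorem exists_pow_smul_eq_zero_pushforward [QuasiCompact f] (F : X.Modules) [F.IsQuasicoherent]
    {V : S.Opens} (hV : IsAffineOpen V) (g : Γ(S, V))
    (t : Γ((Scheme.Modules.pushforward f).obj F, V))
    (ht : ((Scheme.Modules.pushforward f).obj F).presheaf.map (homOfLE (S.basicOpen_le g)).op t = 0) :
    ∃ n : ℕ, g ^ n • t = 0 := by
  classical
  have hcomp : IsCompact ((f ⁻¹ᵁ V : X.Opens) : Set X) := f.isCompact_preimage hV.isCompact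
  obtain ⟨s, hsfin, hs⟩ := isCompact_iff_finite_and_eq_biUnion_affineOpens.mp hcomp
  have hle : ∀ U ∈ s, (U : X.Opens) ≤ f ⁻¹ᵁ V := by
    intro U hU
    rw [hs]
    exact le_iSup₂ (f := fun (i : X.affineOpens) (_ : i ∈ s) => (i : X.Opens)) U hU
  -- for each member, an exponent
  have hex : ∀ U : X.affineOpens, ∃ n : ℕ, ∀ (hU : U ∈ s),
      (f.appLE V U (hle U hU) g) ^ n •
        F.presheaf.map (homOfLE (hle U hU)).op (show Γ(F, f ⁻¹ᵁ V) from t) = 0 := by
    intro U
    by_cases hU : U ∈ s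
    · have hUaff : IsAffineOpen (U : X.Opens) := U.2
      have hres : F.presheaf.map (homOfLE (X.basicOpen_le (f.appLE V U (hle U hU) g))).op
          (F.presheaf.map (homOfLE (hle U hU)).op (show Γ(F, f ⁻¹ᵁ V) from t)) = 0 := by
        have hW : X.basicOpen (f.appLE V U (hle U hU) g) ≤ f ⁻¹ᵁ (S.basicOpen g) := by
          rw [Scheme.preimage_basicOpen]
          have : f.appLE V U (hle U hU) g =
              X.presheaf.map (homOfLE (hle U hU)).op (f.app V g) := rfl
          rw [this, Scheme.basicOpen_res]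
          exact inf_le_right
        have h1 : F.presheaf.map (homOfLE hW).op
            (F.presheaf.map ((Opens.map f.base).map (homOfLE (S.basicOpen_le g))).op
              (show Γ(F, f ⁻¹ᵁ V) from t)) = 0 := by
          have : F.presheaf.map ((Opens.map f.base).map (homOfLE (S.basicOpen_le g))).op
              (show Γ(F, f ⁻¹ᵁ V) from t) = 0 := ht
          rw [this, map_zero]
        rw [← ConcreteCategory.comp_apply, ← Functor.map_comp] at h1 ⊢
        exact h1
      obtain ⟨n, hn⟩ := QCoh.exists_pow_smul_eq_zero hUaff F _ _ hres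
      exact ⟨n, fun _ => hn⟩
    · exact ⟨0, fun h => absurd h hU⟩
  choose n hn using hex
  refine ⟨hsfin.toFinset.sup n, ?_⟩
  apply section_eq_zero_of_cover F (f ⁻¹ᵁ V)
  intro x hx
  have hx' : x ∈ (⨆ i ∈ s, (i : X.Opens) : X.Opens) := by rw [← hs]; exact hx
  simp only [Opens.mem_iSup] at hx'
  obtain ⟨U, hU, hxU⟩ := hx'
  refine ⟨U, hle U hU, hxU, ?_⟩
  rw [map_pushforward_smul f F V (hle U hU), map_pow]
  have hle' : n U ≤ hsfin.toFinset.sup n := Finset.le_sup (hsfin.mem_toFinset.2 hU)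
  obtain ⟨d, hd⟩ := Nat.exists_eq_add_of_le hle'
  rw [hd, pow_add, mul_comm, mul_smul, hn U hU, smul_zero]

/-- From the uniqueness part of localization: a section over the affine open `U` whose germ at `x`
vanishes is killed by a function not vanishing at `x`. -/
theorem exists_smul_eq_zero_of_germ_eq_zero_of_unique {Y : Scheme.{u}} {U : Y.Opens}
    (hU : IsAffineOpen U) (G : Y.Modules)
    (huniq : ∀ (g : Γ(Y, U)) (t : Γ(G, U)),
      G.presheaf.map (homOfLE (Y.basicOpen_le g)).op t = 0 → ∃ n : ℕ, g ^ n • t = 0)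
    (x : Y) (hxU : x ∈ U) (m : Γ(G, U)) (hm : G.presheaf.germ U x hxU m = 0) :
    ∃ s : Γ(Y, U), x ∈ Y.basicOpen s ∧ s • m = 0 := by
  have h0 : G.presheaf.germ U x hxU m = G.presheaf.germ U x hxU 0 := by rw [hm, map_zero]
  obtain ⟨W, hxW, i₁, i₂, hW⟩ := G.presheaf.germ_eq x hxU hxU m 0 h0
  rw [map_zero] at hW
  obtain ⟨g, hgW, hxg⟩ := hU.exists_basicOpen_le ⟨x, hxW⟩ hxU
  have hres : G.presheaf.map (homOfLE (Y.basicOpen_le g)).op m = 0 := by
    have : (homOfLE (Y.basicOpen_le g)).op = i₁.op ≫ (homOfLE hgW).op := rfl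
    rw [this, G.presheaf.map_comp, ConcreteCategory.comp_apply, hW, map_zero]
  obtain ⟨n, hn⟩ := huniq g m hres
  refine ⟨g ^ n, ?_, hn⟩
  by_cases hn0 : n = 0
  · subst hn0
    rw [pow_zero, Scheme.basicOpen_of_isUnit _ isUnit_one]
    exact hxU
  · rw [Scheme.basicOpen_pow _ _ (Nat.pos_of_ne_zero hn0)]
    exact hxg

/-- Stacks 31.5.? : a point outside the image of a quasi-compact morphism is not weakly associated
to the pushforward of a quasi-coherent module. -/
theorem not_isWeakAssPoint_pushforward_of_notMem_range [QuasiCompact f] (F : X.Modules)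
    [F.IsQuasicoherent] (s : S) (hs : s ∉ Set.range f) :
    ¬ Curv2.IsWeakAssPoint ((Scheme.Modules.pushforward f).obj F) s := by
  classical
  set G := (Scheme.Modules.pushforward f).obj F with hG
  intro hW
  obtain ⟨n, hn⟩ := hW
  obtain ⟨V', hsV', t, rfl⟩ := TopCat.Presheaf.exists_germ_eq G.presheaf n
  obtain ⟨_, ⟨V, hV, rfl⟩, hsV, hVV'⟩ :=
    S.isBasis_affineOpens.exists_subset_of_mem_open hsV' V'.2
  have hVV'' : V ≤ V' := hVV'
  set m : Γ(G, V) := G.presheaf.map (homOfLE hVV'').op t with hm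
  have hgm : G.presheaf.germ V s hsV m = G.presheaf.germ V' s hsV' t :=
    TopCat.Presheaf.germ_res_apply G.presheaf (homOfLE hVV'') s hsV t
  rw [← hgm] at hn
  have hm0 : G.presheaf.germ V s hsV m ≠ 0 := by
    intro h0
    have h1 : (1 : S.presheaf.stalk s) ∈ IsLocalRing.maximalIdeal (S.presheaf.stalk s) := by
      rw [← hn]
      apply Ideal.le_radical
      rw [mem_kerSpan_iff, h0, smul_zero]
    exact (Ideal.ne_top_iff_one _).1 (IsLocalRing.maximalIdeal.isMaximal _).ne_top h1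
  have hpow : ∀ b ∈ (hV.primeIdealOf ⟨s, hsV⟩).asIdeal, ∃ k : ℕ,
      (S.presheaf.germ V s hsV b) ^ k • G.presheaf.germ V s hsV m = 0 := by
    intro b hb
    have hbm : S.presheaf.germ V s hsV b ∈ IsLocalRing.maximalIdeal (S.presheaf.stalk s) :=
      (germ_mem_maximalIdeal_iff hV s hsV b).2 hb
    rw [← hn] at hbm
    obtain ⟨k, hk⟩ := hbm
    rw [mem_kerSpan_iff] at hk
    exact ⟨k, hk⟩
  have huniq := fun g t ht => exists_pow_smul_eq_zero_pushforward f F hV g t ht
  -- finite affine cover of the preimage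
  have hcomp : IsCompact ((f ⁻¹ᵁ V : X.Opens) : Set X) := f.isCompact_preimage hV.isCompact
  obtain ⟨c, hcfin, hc⟩ := isCompact_iff_finite_and_eq_biUnion_affineOpens.mp hcomp
  have hle : ∀ U ∈ c, (U : X.Opens) ≤ f ⁻¹ᵁ V := by
    intro U hU
    rw [hc]
    exact le_iSup₂ (f := fun (i : X.affineOpens) (_ : i ∈ c) => (i : X.Opens)) U hU
  -- the ideals J_U
  let mU : ∀ U : X.affineOpens, U ∈ c → Γ(F, U) := fun U hU =>
    F.presheaf.map (homOfLE (hle U hU)).op (show Γ(F, f ⁻¹ᵁ V) from m)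
  have hkey : ∃ U : X.affineOpens, ∃ hU : U ∈ c,
      (ann F (mU U hU)).comap (f.appLE V U (hle U hU)).hom ≤
        (hV.primeIdealOf ⟨s, hsV⟩).asIdeal := by
    by_contra hcon
    have hex : ∀ U : X.affineOpens, ∃ b : Γ(S, V), b ∉ (hV.primeIdealOf ⟨s, hsV⟩).asIdeal ∧
        ∀ hU : U ∈ c, (f.appLE V U (hle U hU) b) • mU U hU = 0 := by
      intro U
      by_cases hU : U ∈ c
      · have h1 : ¬ (ann F (mU U hU)).comap (f.appLE V U (hle U hU)).hom ≤
            (hV.primeIdealOf ⟨s, hsV⟩).asIdeal := fun h => hcon ⟨U, hU, h⟩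
        rw [SetLike.not_le_iff_exists] at h1
        obtain ⟨b, hb, hbp⟩ := h1
        exact ⟨b, hbp, fun _ => mem_ann.1 hb⟩
      · exact ⟨1, (Ideal.ne_top_iff_one _).1 (hV.primeIdealOf ⟨s, hsV⟩).2.ne_top,
          fun h => absurd h hU⟩
    choose b hbp hbm using hex
    set B := ∏ U ∈ hcfin.toFinset, b U with hB
    have hBp : B ∉ (hV.primeIdealOf ⟨s, hsV⟩).asIdeal := by
      intro hmem
      rw [hB, Ideal.IsPrime.prod_mem_iff] at hmem
      obtain ⟨U, -, hU⟩ := hmem
      exact hbp U hU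
    have hBm : B • m = 0 := by
      apply section_eq_zero_of_cover F (f ⁻¹ᵁ V)
      intro x hx
      have hx' : x ∈ (⨆ i ∈ c, (i : X.Opens) : X.Opens) := by rw [← hc]; exact hx
      simp only [Opens.mem_iSup] at hx'
      obtain ⟨U, hU, hxU⟩ := hx'
      refine ⟨U, hle U hU, hxU, ?_⟩
      rw [map_pushforward_smul f F V (hle U hU)]
      obtain ⟨r, hr⟩ := Finset.dvd_prod_of_mem b (hcfin.mem_toFinset.2 hU)
      rw [hB, hr, map_mul, mul_comm, mul_smul]
      have := hbm U hU
      rw [this, smul_zero]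
    have h2 := congrArg (G.presheaf.germ V s hsV) hBm
    rw [map_zero, germ_smul] at h2
    have hBu : IsUnit (S.presheaf.germ V s hsV B) := by
      rw [← Scheme.mem_basicOpen, Groth.Agent.Lib.Helper2.mem_basicOpen_iff_notMem_primeIdealOf hV s hsV]
      exact hBp
    exact hm0 (germ_smul_eq_zero_of_isUnit hBu h2)
  obtain ⟨U, hU, hJle⟩ := hkey
  have hUaff : IsAffineOpen (U : X.Opens) := U.2
  have hmin : (hV.primeIdealOf ⟨s, hsV⟩).asIdeal ∈
      ((ann F (mU U hU)).comap (f.appLE V U (hle U hU)).hom).minimalPrimes := by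
    refine ⟨⟨(hV.primeIdealOf ⟨s, hsV⟩).2, hJle⟩, ?_⟩
    rintro P' ⟨hP'prime, hP'J⟩ hP'le b hb
    obtain ⟨k, hk⟩ := hpow b hb
    rw [← map_pow, ← germ_smul] at hk
    obtain ⟨d, hsd, hd⟩ := exists_smul_eq_zero_of_germ_eq_zero_of_unique hV G huniq s hsV _ hk
    rw [Groth.Agent.Lib.Helper2.mem_basicOpen_iff_notMem_primeIdealOf hV s hsV] at hsd
    rw [← mul_smul] at hd
    have h1 : d * b ^ k ∈ (ann F (mU U hU)).comap (f.appLE V U (hle U hU)).hom := by
      rw [Ideal.mem_comap, mem_ann]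
      have h3 : F.presheaf.map (homOfLE (hle U hU)).op
          (show Γ(F, f ⁻¹ᵁ V) from (d * b ^ k) • m) = 0 := by
        rw [hd]
        exact map_zero _
      rw [← h3]
      exact (map_pushforward_smul f F V (hle U hU) (d * b ^ k) m).symm
    rcases hP'prime.mem_or_mem (hP'J h1) with h2 | h2
    · exact absurd (hP'le h2) hsd
    · exact hP'prime.mem_of_pow_mem k h2
  obtain ⟨q, hqprime, hIq, hqcomap⟩ := Ideal.exists_comap_eq_of_mem_minimalPrimes
    (f.appLE V U (hle U hU)).hom _ hmin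
  apply hs
  refine ⟨hUaff.fromSpec ⟨q, hqprime⟩, ?_⟩
  rw [map_fromSpec_le f hV hUaff (hle U hU)]
  have : (⟨q, hqprime⟩ : PrimeSpectrum Γ(X, U)).comap (f.appLE V U (hle U hU)).hom =
      hV.primeIdealOf ⟨s, hsV⟩ := by
    ext1
    exact hqcomap
  rw [this, hV.fromSpec_primeIdealOf ⟨s, hsV⟩]

end Groth.Agent.Lib.Helper2.QcPush
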