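import Mathlib
import Groth.Agent.Lib.Helper23QCohLocal
import Groth.Agent.Lib.Helper2QcPush

/-!
# Finite biproducts of quasi-coherent modules; joint injectivity of restriction units (helper23)

* `isQuasicoherent_biproduct`: a finite biproduct (indexed by `Fin n`) of quasi-coherent modules is quasi-coherent.
* `eq_zero_of_comp_units`: a morphism `g : T ⟶ M` killed by all units `M ⟶ j_* j^* M` of an open cover is zero.
* `subsingleton_ext_biproduct`: `Ext Z (T.obj (⨁ N)) p` vanishes if all `Ext Z (T.obj (N k)) p` do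
  (`T` additive functor).
-/

set_option autoImplicit false
universe w v v' u u'
open CategoryTheory Limits AlgebraicGeometry TopologicalSpace Opposite Abelian

namespace Groth.Agent.Lib.Helper23.QCohLocal

attribute [local instance] Abelian.hasFiniteBiproducts

set_option backward.isDefEq.respectTransparency false in
theorem isQuasicoherent_biproduct_spec {R : CommRingCat.{u}} {n : ℕ} (B : Fin n → (Spec R).Modules)
    (hB : ∀ k, (B k).IsQuasicoherent) : (⨁ B).IsQuasicoherent := by
  let Γk : Fin n → ModuleCat R := fun k => (modulesSpecToSheaf.obj (B k)).presheaf.obj (op ⊤)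
  have hiso : ∀ k, IsIso (B k).fromTildeΓ := fun k => by
    haveI := hB k
    infer_instance
  let e2 : (⨁ fun k => (tilde.functor R).obj (Γk k)) ≅ ⨁ B :=
    biproduct.mapIso (fun k => @asIso _ _ _ _ ((B k).fromTildeΓ) (hiso k))
  let e3 := (tilde.functor R).mapBiproduct Γk
  have h3 : ((tilde.functor R).obj (⨁ Γk)).IsQuasicoherent := inferInstance
  exact (SheafOfModules.isQuasicoherent (Spec R).ringCatSheaf).prop_of_iso (e3 ≪≫ e2) h3

variable {X : Scheme.{u}}

set_option backward.isDefEq.respectTransparency false in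
/-- finite biproducts of quasi-coherent modules are quasi-coherent -/
theorem isQuasicoherent_biproduct {n : ℕ} (A : Fin n → X.Modules) (hA : ∀ k, (A k).IsQuasicoherent) :
    (⨁ A).IsQuasicoherent := by
  refine isQuasicoherent_of_affine_cover (⨁ A) (fun V : X.affineOpens => (V : X.Opens))
    (iSup_affineOpens_eq_top X) (fun V => V.2) (fun V => ?_)
  haveI : (Scheme.Modules.restrictFunctor V.2.fromSpec).Additive :=
    (Scheme.Modules.restrictAdjunction V.2.fromSpec).left_adjoint_additive
  let e1 := (Scheme.Modules.restrictFunctor V.2.fromSpec).mapBiproduct A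
  have h2 : (⨁ ((Scheme.Modules.restrictFunctor V.2.fromSpec).obj ∘ A)).IsQuasicoherent :=
    isQuasicoherent_biproduct_spec _ (fun k => by
      haveI := hA k
      exact Scheme.Modules.isQuasicoherent_restrictFunctor V.2.fromSpec (A k))
  exact (SheafOfModules.isQuasicoherent (Spec Γ(X, V.1)).ringCatSheaf).prop_of_iso e1.symm h2


/-- a morphism killed by all the units `M ⟶ j_* j^* M` of an open cover is zero -/
theorem eq_zero_of_comp_units {n : ℕ} (U : Fin n → X.Opens) (hU : ∀ x : X, ∃ k, x ∈ U k)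
    {T M : X.Modules} (g : T ⟶ M)
    (h : ∀ k, g ≫ (Scheme.Modules.restrictAdjunction (U k).ι).unit.app M = 0) : g = 0 := by
  apply Scheme.Modules.hom_ext
  intro W
  ext s
  change g.app W s = 0
  apply Groth.Agent.Lib.Helper2.QcPush.section_eq_zero_of_cover
  intro x hx
  obtain ⟨k, hk⟩ := hU x
  refine ⟨(U k).ι ''ᵁ ((U k).ι ⁻¹ᵁ W), (U k).ι.image_preimage_le W, ?_, ?_⟩
  · rw [Scheme.Hom.image_preimage_eq_opensRange_inf]
    exact ⟨by simpa using hk, hx⟩
  · have := congr(($(h k)).app W s)
    rw [Scheme.Modules.Hom.comp_app, Scheme.Modules.restrictAdjunction_unit_app_app] at this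
    exact this


section ExtBiproduct

variable {𝒜 : Type u} [Category.{v} 𝒜] [Preadditive 𝒜] [HasFiniteBiproducts 𝒜]
  {ℬ : Type u'} [Category.{v'} ℬ] [Abelian ℬ] [HasExt.{w} ℬ]

/-- `Ext Z (T (⨁ N)) p` vanishes if all `Ext Z (T (N k)) p` vanish, for an additive functor `T`. -/
theorem subsingleton_ext_biproduct (T : 𝒜 ⥤ ℬ) [T.Additive] {n : ℕ} (N : Fin n → 𝒜) (Z : ℬ) (p : ℕ)
    (h : ∀ k, Subsingleton (Ext.{w} Z (T.obj (N k)) p)) : Subsingleton (Ext.{w} Z (T.obj (⨁ N)) p) := by
  refine ⟨fun a b => ?_⟩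
  have key : ∀ x : Ext.{w} Z (T.obj (⨁ N)) p, x = 0 := by
    intro x
    let F : (T.obj (⨁ N) ⟶ T.obj (⨁ N)) →+ Ext.{w} Z (T.obj (⨁ N)) p :=
      { toFun := fun φ => x.comp (Ext.mk₀ φ) (add_zero p)
        map_zero' := by rw [Ext.mk₀_zero, Ext.comp_zero]
        map_add' := fun φ ψ => by rw [Ext.mk₀_add, Ext.comp_add] }
    have h1 : x = F (𝟙 _) := (Ext.comp_mk₀_id x).symm
    have h2 : (𝟙 (T.obj (⨁ N))) = ∑ k, T.map (biproduct.π N k) ≫ T.map (biproduct.ι N k) := by
      rw [← T.map_id, ← biproduct.total, T.map_sum]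
      simp only [T.map_comp]
    rw [h1, h2, map_sum]
    refine Finset.sum_eq_zero fun k _ => ?_
    change x.comp (Ext.mk₀ (T.map (biproduct.π N k) ≫ T.map (biproduct.ι N k))) (add_zero p) = 0
    rw [← Ext.mk₀_comp_mk₀, ← Ext.comp_assoc x _ _ (add_zero p) (zero_add 0) (by omega)]
    have : x.comp (Ext.mk₀ (T.map (biproduct.π N k))) (add_zero p) = 0 :=
      @Subsingleton.elim _ (h k) _ _
    rw [this, Ext.zero_comp]
  exact (key a).trans (key b).symm

end ExtBiproduct


end Groth.Agent.Lib.Helper23.QCohLocal
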