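import Mathlib
import Groth.Agent.Lib.Helper23QCohLocal
import Groth.Agent.Lib.Helper23QCohSum
import Groth.Agent.S9496
import Groth.Agent.S9497

/-!
# Closure properties of quasi-coherent modules on arbitrary schemes (helper23)

Globalizes helper14's affine results (`S9496.aux`, `S9497.aux`) using locality of quasi-coherence
(`Helper23QCohLocal.isQuasicoherent_of_affine_cover`) and exactness of restriction along open immersions.

* `restrictFunctor_isRightAdjoint`: `Scheme.Modules.restrictFunctor f` is a right adjoint (hence preserves limits).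
* `isQuasicoherent_kernel`, `isQuasicoherent_cokernel`, `isQuasicoherent_colimit`, `isQuasicoherent_biprod`,
  `isQuasicoherent_pullback`.
-/

set_option autoImplicit false
universe u
open CategoryTheory Limits AlgebraicGeometry TopologicalSpace Opposite

namespace Groth.Agent.Lib.Helper23.QCohLocal

variable {X Y : Scheme.{u}}

set_option backward.isDefEq.respectTransparency false in
theorem restrictFunctor_isRightAdjoint (f : X ⟶ Y) [IsOpenImmersion f] :
    (Scheme.Modules.restrictFunctor f).IsRightAdjoint :=
  letI α : X.presheaf ⟶ f.opensFunctor.op ⋙ Y.presheaf := { app U := (f.appIso U.unop).inv }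
  (SheafOfModules.pullbackPushforwardAdjunction.{u} (F := f.opensFunctor)
    (S := X.ringCatSheaf) (R := Y.ringCatSheaf)
    ⟨Functor.whiskerRight α (forget₂ CommRingCat RingCat)⟩).isRightAdjoint

attribute [local instance] restrictFunctor_isRightAdjoint

/-- quasi-coherence can be checked after restriction to all affine opens -/
theorem isQuasicoherent_of_forall_affine (M : X.Modules)
    (h : ∀ (V : X.Opens) (hV : IsAffineOpen V), (M.restrict hV.fromSpec).IsQuasicoherent) :
    M.IsQuasicoherent :=
  isQuasicoherent_of_affine_cover M (fun V : X.affineOpens => (V : X.Opens))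
    (iSup_affineOpens_eq_top X) (fun V => V.2) (fun V => h V.1 V.2)

/-- kernels of morphisms of quasi-coherent modules are quasi-coherent -/
theorem isQuasicoherent_kernel {M N : X.Modules} [M.IsQuasicoherent] [N.IsQuasicoherent] (φ : M ⟶ N) :
    (kernel φ).IsQuasicoherent := by
  refine isQuasicoherent_of_forall_affine (kernel φ) (fun V hV => ?_)
  have h := (Groth.Agent.S9496.aux Γ(X, V) ((Scheme.Modules.restrictFunctor hV.fromSpec).map φ)).1
  exact (SheafOfModules.isQuasicoherent (Spec Γ(X, V)).ringCatSheaf).prop_of_iso
    (PreservesKernel.iso (Scheme.Modules.restrictFunctor hV.fromSpec) φ).symm h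

/-- cokernels of morphisms of quasi-coherent modules are quasi-coherent -/
theorem isQuasicoherent_cokernel {M N : X.Modules} [M.IsQuasicoherent] [N.IsQuasicoherent] (φ : M ⟶ N) :
    (cokernel φ).IsQuasicoherent := by
  refine isQuasicoherent_of_forall_affine (cokernel φ) (fun V hV => ?_)
  have h := (Groth.Agent.S9496.aux Γ(X, V) ((Scheme.Modules.restrictFunctor hV.fromSpec).map φ)).2
  exact (SheafOfModules.isQuasicoherent (Spec Γ(X, V)).ringCatSheaf).prop_of_iso
    (PreservesCokernel.iso (Scheme.Modules.restrictFunctor hV.fromSpec) φ).symm h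

/-- small colimits of quasi-coherent modules are quasi-coherent -/
theorem isQuasicoherent_colimit {J : Type u} [SmallCategory J] (F : J ⥤ X.Modules)
    (hF : ∀ j, (F.obj j).IsQuasicoherent) : (colimit F).IsQuasicoherent := by
  refine isQuasicoherent_of_forall_affine (colimit F) (fun V hV => ?_)
  have h := Groth.Agent.S9497.aux Γ(X, V) (F ⋙ Scheme.Modules.restrictFunctor hV.fromSpec)
    (fun j => by
      haveI := hF j
      exact Scheme.Modules.isQuasicoherent_restrictFunctor hV.fromSpec (F.obj j))
  exact (SheafOfModules.isQuasicoherent (Spec Γ(X, V)).ringCatSheaf).prop_of_iso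
    (preservesColimitIso (Scheme.Modules.restrictFunctor hV.fromSpec) F).symm h


set_option backward.isDefEq.respectTransparency false in
theorem isQuasicoherent_biprod_spec {R : CommRingCat.{u}} (A B : (Spec R).Modules)
    [hA : A.IsQuasicoherent] [hB : B.IsQuasicoherent] : (A ⊞ B).IsQuasicoherent := by
  have hiA : IsIso A.fromTildeΓ := isIso_fromTildeΓ A
  have hiB : IsIso B.fromTildeΓ := isIso_fromTildeΓ B
  let e2 : ((tilde.functor R).obj ((modulesSpecToSheaf.obj A).presheaf.obj (op ⊤)) ⊞
      (tilde.functor R).obj ((modulesSpecToSheaf.obj B).presheaf.obj (op ⊤))) ≅ A ⊞ B :=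
    biprod.mapIso (asIso A.fromTildeΓ) (asIso B.fromTildeΓ)
  haveI : PreservesBinaryBiproducts (tilde.functor R) :=
    preservesBinaryBiproducts_of_preservesBiproducts _
  let e3 := (tilde.functor R).mapBiprod ((modulesSpecToSheaf.obj A).presheaf.obj (op ⊤))
    ((modulesSpecToSheaf.obj B).presheaf.obj (op ⊤))
  have h3 : ((tilde.functor R).obj ((modulesSpecToSheaf.obj A).presheaf.obj (op ⊤) ⊞
      (modulesSpecToSheaf.obj B).presheaf.obj (op ⊤))).IsQuasicoherent := inferInstance
  exact (SheafOfModules.isQuasicoherent (Spec R).ringCatSheaf).prop_of_iso (e3 ≪≫ e2) h3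

set_option backward.isDefEq.respectTransparency false in
/-- binary biproducts of quasi-coherent modules are quasi-coherent -/
theorem isQuasicoherent_biprod (A B : X.Modules) [hA : A.IsQuasicoherent] [hB : B.IsQuasicoherent] :
    (A ⊞ B).IsQuasicoherent := by
  refine isQuasicoherent_of_forall_affine (A ⊞ B) (fun V hV => ?_)
  haveI : (Scheme.Modules.restrictFunctor hV.fromSpec).Additive :=
    (Scheme.Modules.restrictAdjunction hV.fromSpec).left_adjoint_additive
  haveI : PreservesBinaryBiproducts (Scheme.Modules.restrictFunctor hV.fromSpec) :=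
    preservesBinaryBiproducts_of_preservesBiproducts _
  let e1 := (Scheme.Modules.restrictFunctor hV.fromSpec).mapBiprod A B
  have h2 : ((Scheme.Modules.restrictFunctor hV.fromSpec).obj A ⊞
      (Scheme.Modules.restrictFunctor hV.fromSpec).obj B).IsQuasicoherent :=
    isQuasicoherent_biprod_spec _ _
  exact (SheafOfModules.isQuasicoherent (Spec Γ(X, V)).ringCatSheaf).prop_of_iso e1.symm h2

/-- fibre products of quasi-coherent modules are quasi-coherent -/
theorem isQuasicoherent_pullback {A B C : X.Modules} [hA : A.IsQuasicoherent] [hB : B.IsQuasicoherent]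
    [hC : C.IsQuasicoherent] (f : A ⟶ C) (g : B ⟶ C) : (pullback f g).IsQuasicoherent := by
  haveI := isQuasicoherent_biprod A B
  have h := isQuasicoherent_kernel (biprod.desc f (-g))
  let e : pullback f g ≅ kernel (biprod.desc f (-g)) :=
    IsLimit.conePointUniqueUpToIso
      (Abelian.PullbackToBiproductIsKernel.isLimitPullbackToBiproduct f g) (limit.isLimit _)
  exact (SheafOfModules.isQuasicoherent X.ringCatSheaf).prop_of_iso e.symm h

end Groth.Agent.Lib.Helper23.QCohLocal
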