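import Mathlib
import Groth.Prelude.Def_LocCohZ
import Groth.Agent.Lib.Helper4ModEpi
import Groth.Agent.Lib.Helper16ClosedEmb
import Groth.Agent.Lib.Helper23AffOpen2
import Groth.Agent.Lib.Helper23QCohAbelian
import Groth.Agent.S9498

/-!
# Extensions of quasi-coherent modules are quasi-coherent (helper23)

* `toAbF X`: the underlying abelian sheaf functor typed on `X.Modules`; `shortExact_toAbF`.
* `surjective_app_of_subsingleton_HE`: sections of a short exact sequence are surjective over opens `W` with
  `H¹(W, kernel) = 0`.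
* `ΓF R`, `tildeΓAdj R`, `εΓ R`: retyped global sections functor on `Spec R`, tilde-Γ adjunction and counit.
* `shortExact_Γ_of_isQuasicoherent`: `Γ(Spec R, -)` is exact on short exact sequences with quasi-coherent kernel.
* `isQuasicoherent_of_shortExact_spec`, `isQuasicoherent_of_shortExact`.
-/

set_option autoImplicit false
universe u
open CategoryTheory Limits AlgebraicGeometry TopologicalSpace Opposite Abelian

namespace Groth.Agent.Lib.Helper23.QCohLocal

open Groth.Agent.Lib.Helper23.AffVanish

section QE1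
variable (X : Scheme.{u})

/-- the underlying abelian sheaf functor, typed on `X.Modules` -/
noncomputable def toAbF : X.Modules ⥤ CohTop.Ab X.carrier := SheafOfModules.toSheaf X.ringCatSheaf

noncomputable instance : (toAbF X).Additive :=
  inferInstanceAs (SheafOfModules.toSheaf X.ringCatSheaf).Additive

noncomputable instance : PreservesFiniteLimits (toAbF X) :=
  inferInstanceAs (PreservesFiniteLimits (SheafOfModules.toSheaf X.ringCatSheaf))

variable {X}

/-- the underlying short complex of abelian sheaves of a short exact sequence of modules is short exact -/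
theorem shortExact_toAbF (S : ShortComplex X.Modules) (hS : S.ShortExact) :
    (S.map (toAbF X)).ShortExact := by
  have h1 := (Functor.preservesFiniteLimits_iff_forall_exact_map_and_mono (toAbF X)).1 inferInstance S hS
  haveI := h1.2
  haveI : Epi (S.map (toAbF X)).g := by
    change Epi ((toAbF X).map S.g)
    rw [Groth.Agent.Lib.Helper16.ClosedEmb.locSurj_iff]
    intro V t x hx
    haveI := hS.epi_g
    obtain ⟨V', hV'V, hxV', g, hg⟩ := Groth.Agent.Lib.Helper4.ModEpi.exists_app_eq_of_epi S.g V t x hx
    exact ⟨V', hV'V, ⟨g, hg⟩, hxV'⟩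
  exact { exact := h1.1, mono_f := h1.2, epi_g := inferInstance }

/-- sections of a short exact sequence of modules are surjective over opens with vanishing `H¹` of the kernel -/
theorem surjective_app_of_subsingleton_HE (S : ShortComplex X.Modules) (hS : S.ShortExact) (W : X.Opens)
    (h : Subsingleton (HE (ab' S.X₁) 1 W)) : Function.Surjective (S.g.app W) := by
  intro t
  have hS' := shortExact_toAbF S hS
  obtain ⟨x₂, hx₂⟩ := Ext.covariant_sequence_exact₃ (ZU W) hS'
    (Ext.mk₀ (CohFree.ofSect (J X.carrier) W (ab' S.X₃) t)) (zero_add 1)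
    (@Subsingleton.elim _ h _ _)
  obtain ⟨c, rfl⟩ := (Ext.mk₀_bijective _ _).2 x₂
  rw [Ext.mk₀_comp_mk₀] at hx₂
  have hc : c ≫ (toAbF X).map S.g =
      CohFree.ofSect (J X.carrier) W (ab' S.X₃) t := (Ext.mk₀_bijective _ _).1 hx₂
  refine ⟨CohFree.evalGen (J X.carrier) W (ab' S.X₂) c, ?_⟩
  have h3 : (S.g.app W) (CohFree.evalGen (J X.carrier) W (ab' S.X₂) c) =
      CohFree.evalGen (J X.carrier) W (ab' S.X₃) (c ≫ (toAbF X).map S.g) := rfl
  exact h3.trans ((congrArg (CohFree.evalGen (J X.carrier) W (ab' S.X₃)) hc).trans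
    (CohFree.evalGen_ofSect (J X.carrier) W (ab' S.X₃) t))

end QE1

section QE2
variable (R : CommRingCat.{u})

/-- the global sections functor on `Spec R`, retyped -/
noncomputable def ΓF : (Spec R).Modules ⥤ ModuleCat.{u} R := moduleSpecΓFunctor (R := R)

/-- the tilde-Γ adjunction, retyped -/
noncomputable def tildeΓAdj : tilde.functor R ⊣ ΓF R := tilde.adjunction

instance ΓF_additive : (ΓF R).Additive := (tildeΓAdj R).right_adjoint_additive

instance ΓF_isRightAdjoint : (ΓF R).IsRightAdjoint := ⟨_, ⟨tildeΓAdj R⟩⟩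

theorem shortExact_Γ_of_isQuasicoherent (S : ShortComplex (Spec R).Modules) (hS : S.ShortExact)
    (h1 : S.X₁.IsQuasicoherent) : (S.map (ΓF R)).ShortExact := by
  haveI : PreservesFiniteLimits (ΓF R) := inferInstance
  have h1' := (Functor.preservesFiniteLimits_iff_forall_exact_map_and_mono (ΓF R)).1 inferInstance S hS
  haveI := h1'.2
  haveI : Epi (S.map (ΓF R)).g := by
    rw [ModuleCat.epi_iff_surjective]
    have hsub : Subsingleton (HE (ab' S.X₁) 1 (⊤ : (Spec R).Opens)) :=
      subsingleton_HE_of_isAffineOpen (isAffineOpen_top (Spec R)) S.X₁ 0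
    exact surjective_app_of_subsingleton_HE S hS ⊤ hsub
  exact { exact := h1'.1, mono_f := h1'.2, epi_g := inferInstance }

end QE2

section QE3
variable (R : CommRingCat.{u})

/-- the counit of the tilde-Γ adjunction, retyped -/
noncomputable def εΓ : ΓF R ⋙ tilde.functor R ⟶ 𝟭 (Spec R).Modules := Scheme.Modules.fromTildeΓNatTrans

theorem εΓ_app (M : (Spec R).Modules) : (εΓ R).app M = M.fromTildeΓ := rfl

set_option backward.isDefEq.respectTransparency false in
theorem isQuasicoherent_of_shortExact_spec (S : ShortComplex (Spec R).Modules) (hS : S.ShortExact)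
    (h1 : S.X₁.IsQuasicoherent) (h3 : S.X₃.IsQuasicoherent) : S.X₂.IsQuasicoherent := by
  have hΓ := shortExact_Γ_of_isQuasicoherent R S hS h1
  haveI := (Groth.Agent.S9498.aux R).1
  haveI := (Groth.Agent.S9498.aux R).2
  have hT : ((S.map (ΓF R)).map (tilde.functor R)).ShortExact := hΓ.map_of_exact (tilde.functor R)
  let φ : (S.map (ΓF R)).map (tilde.functor R) ⟶ S :=
    ShortComplex.homMk ((εΓ R).app S.X₁) ((εΓ R).app S.X₂) ((εΓ R).app S.X₃)
      ((εΓ R).naturality S.f).symm ((εΓ R).naturality S.g).symm
  haveI : IsIso φ.τ₁ := by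
    change IsIso S.X₁.fromTildeΓ
    exact (AlgebraicGeometry.isQuasicoherent_iff_isIso_fromTildeΓ S.X₁).1 h1
  haveI : IsIso φ.τ₃ := by
    change IsIso S.X₃.fromTildeΓ
    exact (AlgebraicGeometry.isQuasicoherent_iff_isIso_fromTildeΓ S.X₃).1 h3
  have h2 : IsIso φ.τ₂ := ShortComplex.isIso₂_of_shortExact_of_isIso₁₃ φ hT hS
  exact (AlgebraicGeometry.isQuasicoherent_iff_isIso_fromTildeΓ S.X₂).2 h2

end QE3

section QE4
variable {X : Scheme.{u}}

attribute [local instance] restrictFunctor_isRightAdjoint

/-- an extension of quasi-coherent modules is quasi-coherent -/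
theorem isQuasicoherent_of_shortExact (S : ShortComplex X.Modules) (hS : S.ShortExact)
    (h1 : S.X₁.IsQuasicoherent) (h3 : S.X₃.IsQuasicoherent) : S.X₂.IsQuasicoherent := by
  refine isQuasicoherent_of_forall_affine S.X₂ (fun V hV => ?_)
  haveI : (Scheme.Modules.restrictFunctor hV.fromSpec).Additive := inferInstance
  have hS' : (S.map (Scheme.Modules.restrictFunctor hV.fromSpec)).ShortExact :=
    hS.map_of_exact (Scheme.Modules.restrictFunctor hV.fromSpec)
  exact isQuasicoherent_of_shortExact_spec Γ(X, V) _ hS'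
    (Scheme.Modules.isQuasicoherent_restrictFunctor hV.fromSpec S.X₁)
    (Scheme.Modules.isQuasicoherent_restrictFunctor hV.fromSpec S.X₃)

end QE4

end Groth.Agent.Lib.Helper23.QCohLocal
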