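import Mathlib
import Groth.Agent.Lib.Helper23QCohLocal
import Groth.Agent.Lib.Helper23QCohExt

/-!
# Finite type quasi-coherent modules and finiteness of sections over affine opens (helper23)

Dictionary between Mathlib's `SheafOfModules.IsFiniteType` (locally generated by finitely many sections, phrased with
`M.over U`) and finiteness of modules of sections.

* `generatingSectionsRestrict`, `generatingSectionsOver`, `generatingSectionsOfComp`: transport of
  `GeneratingSections` along open immersions / to `M.over V`.
* `isFiniteType_of_generatingSections`: finite type from finite generating sections of `M.restrict (V i).ι` for an open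
  cover.
* `exists_isOpenCover_generatingSections`: a finite type module has finite generating sections of `M.restrict (U i).ι` on
  an affine open cover.
* `finite_Γ_of_generatingSections`, `exists_generatingSections_of_finite_Γ`: on `Spec R`, a quasi-coherent module
  has finitely many global generators iff its module of global sections `(ΓF R).obj N` is finite.
* `ΓU M hU`: sections over an affine open `U` as a `Γ(X, U)`-module; `finite_ΓU_of_generatingSections`,
  `exists_generatingSections_of_finite_ΓU`, `isFiniteType_of_finite_ΓU`, `injective_ΓU_map`.
* `isFiniteType_of_mono`: on a locally Noetherian scheme, quasi-coherent submodules of finite type quasi-coherent modules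
  are of finite type.
-/

set_option autoImplicit false
universe u
open CategoryTheory Limits AlgebraicGeometry TopologicalSpace Opposite

namespace Groth.Agent.Lib.Helper23.FinType

section FT1_0

variable {X : Scheme.{u}}

set_option backward.isDefEq.respectTransparency false in
/-- restriction of generating sections along an open immersion -/
noncomputable def generatingSectionsRestrict {Y : Scheme.{u}} (f : Y ⟶ X) [IsOpenImmersion f]
    {M : X.Modules} (G : M.GeneratingSections) : (M.restrict f).GeneratingSections :=
  have : PreservesColimitsOfSize.{u, u} (Scheme.Modules.restrictFunctor f) := inferInstance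
  G.map (Scheme.Modules.restrictFunctor.{u} f) (Scheme.Modules.restrictUnitIso _).symm

set_option backward.isDefEq.respectTransparency false in
instance {Y : Scheme.{u}} (f : Y ⟶ X) [IsOpenImmersion f]
    {M : X.Modules} (G : M.GeneratingSections) [hG : G.IsFiniteType] :
    (generatingSectionsRestrict f G).IsFiniteType where
  finite := hG.finite

/-- generating sections of `M.over V` from generating sections of `M.restrict V.ι` -/
noncomputable def generatingSectionsOver (M : X.Modules) (V : X.Opens) (G : (M.restrict V.ι).GeneratingSections) :
    (M.over V).GeneratingSections := by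
  let F : SheafOfModules.{u} (V : Scheme.{u}).ringCatSheaf ⥤ SheafOfModules.{u} (X.ringCatSheaf.over V) :=
    (Scheme.Modules.overEquiv V).inverse
  have hF : F.IsEquivalence := inferInstanceAs ((Scheme.Modules.overEquiv V).inverse.IsEquivalence)
  have : PreservesColimitsOfSize.{u, u} F := inferInstance
  let Q := G.map F (V.sheafOfModulesEquivOverInverseUnit X.ringCatSheaf).symm
  exact Q.ofEpi
    ((Scheme.Modules.overEquiv V).inverse.mapIso ((Scheme.Modules.overFunctorEquiv V).app M).symm ≪≫
    ((Scheme.Modules.overEquiv V).unitIso.app (M.over V)).symm).hom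

theorem generatingSectionsOver_I (M : X.Modules) (V : X.Opens) (G : (M.restrict V.ι).GeneratingSections) :
    (generatingSectionsOver M V G).I = G.I := rfl

instance (M : X.Modules) (V : X.Opens) (G : (M.restrict V.ι).GeneratingSections) [hG : G.IsFiniteType] :
    (generatingSectionsOver M V G).IsFiniteType where
  finite := hG.finite

/-- finite type from finite generating sections of the restrictions to the members of an open cover -/
theorem isFiniteType_of_generatingSections (M : X.Modules) {ι : Type u} (V : ι → X.Opens) (hV : IsOpenCover V)
    (G : ∀ i, ∃ G : (M.restrict (V i).ι).GeneratingSections, G.IsFiniteType) :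
    SheafOfModules.IsFiniteType (R := X.ringCatSheaf) M := by
  choose G hG using G
  let q : SheafOfModules.LocalGeneratorsData.{u} M :=
    { I := ι
      X := V
      coversTop := (Opens.coversTop_iff _ V).2 hV
      generators := fun i => generatingSectionsOver M (V i) (G i) }
  have : q.IsFiniteType :=
    { isFiniteType := fun (i : ι) => by
        have := hG i
        exact inferInstanceAs (generatingSectionsOver M (V i) (G i)).IsFiniteType }
  exact { exists_localGeneratorsData := ⟨q, this⟩ }

set_option backward.isDefEq.respectTransparency false in
/-- transporting generating sections along a factorization of open immersions -/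
noncomputable def generatingSectionsOfComp (M : X.Modules) {W W' : Scheme.{u}} (g : W' ⟶ W) (j : W ⟶ X) (k : W' ⟶ X)
    [IsOpenImmersion g] [IsOpenImmersion j] [IsOpenImmersion k] (h : g ≫ j = k)
    (G : (M.restrict j).GeneratingSections) : (M.restrict k).GeneratingSections := by
  let e : (M.restrict j).restrict g ≅ M.restrict k :=
    ((Scheme.Modules.restrictFunctorComp g j).app M).symm ≪≫ (Scheme.Modules.restrictFunctorCongr h).app M
  exact (generatingSectionsRestrict g G).ofEpi e.hom

instance (M : X.Modules) {W W' : Scheme.{u}} (g : W' ⟶ W) (j : W ⟶ X) (k : W' ⟶ X)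
    [IsOpenImmersion g] [IsOpenImmersion j] [IsOpenImmersion k] (h : g ≫ j = k)
    (G : (M.restrict j).GeneratingSections) [hG : G.IsFiniteType] :
    (generatingSectionsOfComp M g j k h G).IsFiniteType where
  finite := hG.finite

end FT1_0

section FT2_0

variable {X : Scheme.{u}}

open Scheme.Modules in
set_option backward.isDefEq.respectTransparency false in
/-- a module of finite type has finite generating sections over the members of an affine open cover -/
theorem exists_isOpenCover_generatingSections (M : X.Modules)
    [hM : SheafOfModules.IsFiniteType (R := X.ringCatSheaf) M] :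
    ∃ (ι : Type u) (U : ι → X.Opens) (G : ∀ i, (M.restrict (U i).ι).GeneratingSections),
      (∀ i, (G i).IsFiniteType) ∧ IsOpenCover U ∧ (∀ i, IsAffineOpen (U i)) := by
  obtain ⟨⟨I, W, cov, gen⟩, hfin⟩ := hM.exists_localGeneratorsData
  choose κ hsub heq using fun i ↦ Opens.isBasis_iff_cover.mp X.isBasis_affineOpens (W i)
  refine ⟨Σ (i : I), κ i, fun j ↦ j.2, fun i ↦ ?_, ?_, ?_, ?_⟩
  · let u := X.homOfLE (U := i.2) (V := W i.1) (by simp [heq, le_sSup])
    have : PreservesColimitsOfSize.{u, u} (restrictFunctor u) := inferInstance
    let F := (overEquiv (W i.1)).functor ⋙ restrictFunctor u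
    let iso : SheafOfModules.overFunctor X.ringCatSheaf _ ⋙ F ≅ restrictFunctor
      (Scheme.Opens.ι i.2.1) := (Functor.associator _ _ _).symm ≪≫
        Functor.isoWhiskerRight (Scheme.Modules.overFunctorEquiv _) _ ≪≫
        (restrictFunctorComp _ _).symm ≪≫ (restrictFunctorCongr (by simp [u]))
    exact ((gen i.1).map F (Scheme.Modules.restrictUnitIso _).symm).ofEpi (iso.app M).hom
  · intro i
    have := hfin.isFiniteType i.1
    exact ⟨this.finite⟩
  · rw [Opens.coversTop_iff, IsOpenCover] at cov
    rw [IsOpenCover, iSup_sigma, ← cov]
    refine iSup_congr fun i ↦ ?_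
    rw [heq i, sSup_eq_iSup']
  · intro j
    exact hsub _ j.2.2

end FT2_0

section FT3_0

open Groth.Agent.Lib.Helper23.QCohLocal

variable (R : CommRingCat.{u})

set_option backward.isDefEq.respectTransparency false in
/-- global sections of a quasi-coherent module on `Spec R` with finitely many global generators are finite -/
theorem finite_Γ_of_generatingSections (N : (Spec R).Modules) [N.IsQuasicoherent]
    (G : N.GeneratingSections) [hG : G.IsFiniteType] : Module.Finite R ((ΓF R).obj N) := by
  haveI := hG.finite
  haveI : IsIso N.fromTildeΓ := inferInstance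
  let p : (tilde.functor R).obj (ModuleCat.of R (G.I →₀ R)) ⟶ (tilde.functor R).obj ((ΓF R).obj N) :=
    (tildeFinsupp G.I).hom ≫ G.π ≫ inv N.fromTildeΓ
  haveI : Epi p := by
    haveI : Epi G.π := G.epi
    haveI : Epi (G.π ≫ inv N.fromTildeΓ) := epi_comp _ _
    exact epi_comp _ _
  let g : ModuleCat.of R (G.I →₀ R) ⟶ (ΓF R).obj N := (tilde.functor R).preimage p
  have hg : (tilde.functor R).map g = p := (tilde.functor R).map_preimage p
  haveI : Epi ((tilde.functor R).map g) := by rw [hg]; infer_instance
  haveI : Epi g := (tilde.functor R).epi_of_epi_map inferInstance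
  have hsurj : Function.Surjective g.hom := (ModuleCat.epi_iff_surjective g).1 inferInstance
  exact Module.Finite.of_surjective g.hom hsurj

end FT3_0

section FT3_1

open Groth.Agent.Lib.Helper23.QCohLocal

variable (R : CommRingCat.{u})

set_option backward.isDefEq.respectTransparency false in
theorem exists_epi_free_tilde (P : ModuleCat.{u} R) [hfin : Module.Finite R P] :
    ∃ (I : Type u) (_ : Finite I) (π : SheafOfModules.free I ⟶ (tilde.functor R).obj P), Epi π := by
  obtain ⟨s, hs⟩ := hfin.fg_top
  let I : Type u := (s : Set P)
  let g : ModuleCat.of R (I →₀ R) ⟶ P :=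
    ModuleCat.ofHom (Finsupp.linearCombination R ((↑) : I → P))
  haveI : Epi g := by
    rw [ModuleCat.epi_iff_surjective]
    rw [← LinearMap.range_eq_top]
    change LinearMap.range (Finsupp.linearCombination R ((↑) : I → P)) = ⊤
    rw [Finsupp.range_linearCombination]
    simpa [I] using hs
  haveI : Epi ((tilde.functor R).map g) := inferInstance
  refine ⟨I, inferInstanceAs (Finite (s : Set P)), (tildeFinsupp I).inv ≫ (tilde.functor R).map g, ?_⟩
  exact epi_comp _ _

set_option backward.isDefEq.respectTransparency false in
/-- a quasi-coherent module on `Spec R` with finite module of global sections has finitely many global generators -/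
theorem exists_generatingSections_of_finite_Γ (N : (Spec R).Modules) [N.IsQuasicoherent]
    [hfin : Module.Finite R ((ΓF R).obj N)] : ∃ G : N.GeneratingSections, G.IsFiniteType := by
  haveI : IsIso N.fromTildeΓ := inferInstance
  obtain ⟨I, hI, π₀, hπ₀⟩ := exists_epi_free_tilde R ((ΓF R).obj N)
  let π : SheafOfModules.free I ⟶ N := π₀ ≫ N.fromTildeΓ
  haveI : Epi π := epi_comp _ _
  refine ⟨{ I := I, s := N.freeHomEquiv π, epi := ?_ }, ⟨hI⟩⟩
  rw [Equiv.symm_apply_apply]; infer_instance

end FT3_1

section FT4_0

open Groth.Agent.Lib.Helper23.QCohLocal

variable {X : Scheme.{u}}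

/-- sections (as a module over `Γ(X, U)`) of `M` over an affine open `U`, via `Spec Γ(X, U)` -/
noncomputable abbrev ΓU (M : X.Modules) {U : X.Opens} (hU : IsAffineOpen U) : ModuleCat.{u} Γ(X, U) :=
  (ΓF Γ(X, U)).obj (M.restrict hU.fromSpec)

/-- finitely many generators over an affine open `U` give finiteness of the module of sections -/
theorem finite_ΓU_of_generatingSections (M : X.Modules) [M.IsQuasicoherent] {U : X.Opens} (hU : IsAffineOpen U)
    (G : (M.restrict U.ι).GeneratingSections) [G.IsFiniteType] : Module.Finite Γ(X, U) (ΓU M hU) := by
  let G' := generatingSectionsOfComp M hU.isoSpec.inv U.ι hU.fromSpec hU.isoSpec_inv_ι G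
  haveI : G'.IsFiniteType := inferInstance
  exact finite_Γ_of_generatingSections Γ(X, U) (M.restrict hU.fromSpec) G'

/-- finiteness of the module of sections over an affine open gives finitely many generators -/
theorem exists_generatingSections_of_finite_ΓU (M : X.Modules) [M.IsQuasicoherent] {U : X.Opens}
    (hU : IsAffineOpen U) [Module.Finite Γ(X, U) (ΓU M hU)] :
    ∃ G : (M.restrict U.ι).GeneratingSections, G.IsFiniteType := by
  obtain ⟨G, hG⟩ := exists_generatingSections_of_finite_Γ Γ(X, U) (M.restrict hU.fromSpec)
  exact ⟨generatingSectionsOfComp M hU.isoSpec.hom hU.fromSpec U.ι hU.isoSpec_hom_fromSpec G, inferInstance⟩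

/-- a quasi-coherent module with finite modules of sections over an affine open cover is of finite type -/
theorem isFiniteType_of_finite_ΓU (M : X.Modules) [M.IsQuasicoherent] {ι : Type u} (V : ι → X.Opens)
    (hV : IsOpenCover V) (hVa : ∀ i, IsAffineOpen (V i))
    (h : ∀ i, Module.Finite Γ(X, V i) (ΓU M (hVa i))) :
    SheafOfModules.IsFiniteType (R := X.ringCatSheaf) M :=
  isFiniteType_of_generatingSections M V hV fun i =>
    haveI := h i
    exists_generatingSections_of_finite_ΓU M (hVa i)

attribute [local instance] restrictFunctor_isRightAdjoint

/-- the map on sections over an affine open induced by a monomorphism is injective -/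
theorem injective_ΓU_map {N M : X.Modules} (i : N ⟶ M) [Mono i] {U : X.Opens} (hU : IsAffineOpen U) :
    Function.Injective ((ΓF Γ(X, U)).map ((Scheme.Modules.restrictFunctor hU.fromSpec).map i)).hom := by
  haveI : Mono ((Scheme.Modules.restrictFunctor hU.fromSpec).map i) := inferInstance
  haveI : Mono ((ΓF Γ(X, U)).map ((Scheme.Modules.restrictFunctor hU.fromSpec).map i)) := inferInstance
  exact (ModuleCat.mono_iff_injective _).1 inferInstance

/-- on a locally Noetherian scheme, a quasi-coherent submodule of a quasi-coherent module of finite type is of
finite type -/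
theorem isFiniteType_of_mono [IsLocallyNoetherian X] {N M : X.Modules} (i : N ⟶ M) [Mono i]
    [M.IsQuasicoherent] [hM : SheafOfModules.IsFiniteType (R := X.ringCatSheaf) M] [N.IsQuasicoherent] :
    SheafOfModules.IsFiniteType (R := X.ringCatSheaf) N := by
  obtain ⟨ι, U, G, hG, hU, hUa⟩ := exists_isOpenCover_generatingSections M
  refine isFiniteType_of_finite_ΓU N U hU hUa fun j => ?_
  haveI := hG j
  haveI := finite_ΓU_of_generatingSections M (hUa j) (G j)
  haveI : IsNoetherianRing Γ(X, U j) := IsLocallyNoetherian.component_noetherian ⟨U j, hUa j⟩
  exact Module.Finite.of_injective _ (injective_ΓU_map i (hUa j))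

end FT4_0

end Groth.Agent.Lib.Helper23.FinType
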