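import Mathlib
import Groth.Agent.Lib.Helper23FinType

/-!
# Finite type quasi-coherent modules: the full dictionary (helper23)

* `exists_finset_smul_pow_mem`, `finite_of_basicOpen_cover`: for `M` localizing on an affine open `U` (helper2's
  `IsLocOn`, e.g. `M` quasi-coherent), finiteness of `Γ(M, U)` over `Γ(X, U)` can be checked on a cover of `U` by basic
  opens.
* `finite_iff_of_semilinear`: finiteness transfers along semilinear additive equivalences over surjective ring maps.
* `finite_ΓU_iff`: `Module.Finite Γ(X, U) (ΓU M hU) ↔ Module.Finite Γ(X, U) Γ(M, U)`.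
* `finite_of_generatingSections`, **`finite_of_isFiniteType`**, **`isFiniteType_of_finite`**,
  **`isFiniteType_iff_forall_affine`**: a quasi-coherent module is of finite type iff `Γ(M, U)` is a finite
  `Γ(X, U)`-module for all affine opens `U` (iff for the members of an affine open cover).
* `finite_Γtop_iff`, `isFiniteType_tilde_iff`: `M^~` is of finite type iff `M` is finite.
-/

set_option autoImplicit false
universe u
open CategoryTheory Limits AlgebraicGeometry TopologicalSpace Opposite

namespace Groth.Agent.Lib.Helper23.FinType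

section FT5_0

open Groth.Agent.Lib.Helper23.QCohLocal Groth.Agent.Lib.Helper2.Push

variable {X : Scheme.{u}}

/-- key step: if `Γ(M, D(f))` is finite over `Γ(X, D(f))`, there is a finite set of sections over `U` whose span
contains a multiple `f ^ N • x` of every section `x`. -/
theorem exists_finset_smul_pow_mem {U : X.Opens} (hU : IsAffineOpen U) (M : X.Modules) (hM : IsLocOn M U)
    (f : Γ(X, U)) [hfin : Module.Finite Γ(X, X.basicOpen f) Γ(M, X.basicOpen f)] :
    ∃ T : Finset Γ(M, U), ∀ x : Γ(M, U), ∃ N : ℕ, f ^ N • x ∈ Submodule.span Γ(X, U) (T : Set Γ(M, U)) := by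
  classical
  obtain ⟨S, hS⟩ := hfin.fg_top
  have hloc := hU.isLocalization_basicOpen f
  set i : X.basicOpen f ⟶ U := homOfLE (X.basicOpen_le f) with hi
  set fD : Γ(X, X.basicOpen f) := X.presheaf.map i.op f with hfD
  choose n t ht using fun y : Γ(M, X.basicOpen f) => hM.exists_extension f y
  let T : Finset Γ(M, U) := S.image t
  refine ⟨T, fun x => ?_⟩
  -- the predicate
  have key : ∀ z ∈ Submodule.span Γ(X, X.basicOpen f) (S : Set Γ(M, X.basicOpen f)),
      ∃ (N : ℕ) (w : Γ(M, U)), w ∈ Submodule.span Γ(X, U) (T : Set Γ(M, U)) ∧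
        M.presheaf.map i.op w = fD ^ N • z := by
    intro z hz
    induction hz using Submodule.span_induction with
    | mem y hy =>
      exact ⟨n y, t y, Submodule.subset_span (Finset.mem_image_of_mem t hy), ht y⟩
    | zero => exact ⟨0, 0, Submodule.zero_mem _, by simp⟩
    | add z₁ z₂ _ _ h₁ h₂ =>
      obtain ⟨N₁, w₁, hw₁, e₁⟩ := h₁
      obtain ⟨N₂, w₂, hw₂, e₂⟩ := h₂
      refine ⟨N₁ + N₂, f ^ N₂ • w₁ + f ^ N₁ • w₂,
        Submodule.add_mem _ (Submodule.smul_mem _ _ hw₁) (Submodule.smul_mem _ _ hw₂), ?_⟩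
      rw [map_add, Scheme.Modules.map_smul, Scheme.Modules.map_smul, e₁, e₂, map_pow, map_pow, smul_add,
        smul_smul, smul_smul, ← pow_add, ← pow_add, add_comm N₂ N₁]
    | smul a z _ h =>
      obtain ⟨N, w, hw, e⟩ := h
      obtain ⟨k, r, hr⟩ := IsLocalization.Away.surj (x := f) a
      refine ⟨N + k, r • w, Submodule.smul_mem _ _ hw, ?_⟩
      have hr' : a * fD ^ k = X.presheaf.map i.op r := hr
      rw [Scheme.Modules.map_smul, e, ← hr', smul_smul, smul_smul]
      congr 1
      rw [pow_add]; ring
  obtain ⟨N, w, hw, e⟩ := key (M.presheaf.map i.op x) (by rw [hS]; trivial)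
  have h0 : M.presheaf.map i.op (f ^ N • x - w) = 0 := by
    rw [map_sub, Scheme.Modules.map_smul, map_pow, e, sub_self]
  obtain ⟨n', hn'⟩ := hM.exists_pow_smul_eq_zero f _ h0
  refine ⟨n' + N, ?_⟩
  rw [smul_sub, sub_eq_zero, smul_smul, ← pow_add] at hn'
  rw [hn']
  exact Submodule.smul_mem _ _ hw

end FT5_0

section FT5_1

open Groth.Agent.Lib.Helper23.QCohLocal Groth.Agent.Lib.Helper2.Push

variable {X : Scheme.{u}}

/-- finiteness of the module of sections over an affine open can be checked on a cover by basic opens -/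
theorem finite_of_basicOpen_cover {U : X.Opens} (hU : IsAffineOpen U) (M : X.Modules) (hM : IsLocOn M U)
    (s : Set Γ(X, U)) (hs : Ideal.span s = ⊤)
    (H : ∀ f ∈ s, Module.Finite Γ(X, X.basicOpen f) Γ(M, X.basicOpen f)) :
    Module.Finite Γ(X, U) Γ(M, U) := by
  classical
  obtain ⟨t, hts, ht⟩ := (Ideal.span_eq_top_iff_finite s).1 hs
  have H' : ∀ f : Γ(X, U), ∃ T : Finset Γ(M, U), f ∈ t → ∀ x : Γ(M, U), ∃ N : ℕ,
      f ^ N • x ∈ Submodule.span Γ(X, U) (T : Set Γ(M, U)) := by
    intro f
    by_cases hf : f ∈ t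
    · haveI := H f (hts hf)
      obtain ⟨T, hT⟩ := exists_finset_smul_pow_mem hU M hM f
      exact ⟨T, fun _ => hT⟩
    · exact ⟨∅, fun h => absurd h hf⟩
  choose T hT using H'
  refine ⟨⟨t.biUnion T, ?_⟩⟩
  rw [eq_top_iff]
  rintro x -
  refine Submodule.mem_of_span_eq_top_of_smul_pow_mem _ (t : Set Γ(X, U)) ht x ?_
  rintro ⟨f, hf⟩
  obtain ⟨N, hN⟩ := hT f hf x
  refine ⟨N, Submodule.span_mono ?_ hN⟩
  intro y hy
  exact Finset.mem_biUnion.2 ⟨f, hf, hy⟩

end FT5_1

section FT6_0

open Groth.Agent.Lib.Helper23.QCohLocal Groth.Agent.Lib.Helper2.Push Groth.Agent.Lib.Helper2.QCoh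

theorem finite_iff_of_semilinear {R R' N N' : Type*} [CommRing R] [CommRing R'] [AddCommGroup N] [AddCommGroup N']
    [Module R N] [Module R' N'] (ρ : R →+* R') (hρ : Function.Surjective ρ) (e : N ≃+ N')
    (he : ∀ r x, e (r • x) = ρ r • e x) : Module.Finite R N ↔ Module.Finite R' N' := by
  classical
  constructor
  · intro h
    obtain ⟨S, hS⟩ := h.fg_top
    refine ⟨⟨S.image e, ?_⟩⟩
    rw [eq_top_iff]
    rintro y -
    obtain ⟨x, rfl⟩ := e.surjective y
    have hx : x ∈ Submodule.span R (S : Set N) := by rw [hS]; trivial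
    induction hx using Submodule.span_induction with
    | mem y hy => exact Submodule.subset_span (Finset.mem_image_of_mem e hy)
    | zero => rw [map_zero]; exact Submodule.zero_mem _
    | add a b _ _ ha hb => rw [map_add]; exact Submodule.add_mem _ ha hb
    | smul r a _ ha => rw [he]; exact Submodule.smul_mem _ _ ha
  · intro h
    obtain ⟨S, hS⟩ := h.fg_top
    refine ⟨⟨S.image e.symm, ?_⟩⟩
    rw [eq_top_iff]
    rintro x -
    obtain ⟨y, rfl⟩ := e.symm.surjective x
    have hy : y ∈ Submodule.span R' (S : Set N') := by rw [hS]; trivial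
    induction hy using Submodule.span_induction with
    | mem z hz => exact Submodule.subset_span (Finset.mem_image_of_mem e.symm hz)
    | zero => rw [map_zero]; exact Submodule.zero_mem _
    | add a b _ _ ha hb => rw [map_add]; exact Submodule.add_mem _ ha hb
    | smul r' a _ ha =>
      obtain ⟨r, rfl⟩ := hρ r'
      have : e.symm (ρ r • a) = r • e.symm a := by
        apply e.injective
        rw [he, e.apply_symm_apply, e.apply_symm_apply]
      rw [this]; exact Submodule.smul_mem _ _ ha

variable {X : Scheme.{u}}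

theorem surjective_map_of_eq {U W : X.Opens} (h : W = U) (hle : W ≤ U) :
    Function.Surjective (X.presheaf.map (homOfLE hle).op).hom := by
  subst h
  intro x
  refine ⟨x, ?_⟩
  have : (homOfLE hle).op = 𝟙 (op W) := rfl
  rw [this, X.presheaf.map_id]; rfl

theorem finite_iff_of_eq (M : X.Modules) {U W : X.Opens} (h : W = U) :
    Module.Finite Γ(X, W) Γ(M, W) ↔ Module.Finite Γ(X, U) Γ(M, U) := by
  subst h; rfl

/-- bridge between the two descriptions of sections over an affine open -/
theorem finite_ΓU_iff (M : X.Modules) {U : X.Opens} (hU : IsAffineOpen U) :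
    Module.Finite Γ(X, U) (ΓU M hU) ↔ Module.Finite Γ(X, U) Γ(M, U) := by
  have h₁ : hU.fromSpec ''ᵁ ⊤ = U := by
    rw [Scheme.Hom.image_top_eq_opensRange, hU.opensRange_fromSpec]
  rw [← finite_iff_of_eq M h₁]
  exact finite_iff_of_semilinear (X.presheaf.map (homOfLE (fromSpec_image_le hU ⊤)).op).hom
    (surjective_map_of_eq h₁ _)
    ((M.restrictAppIso hU.fromSpec ⊤).addCommGroupIsoToAddEquiv)
    (fun r x => restrict_fromSpec_smul hU M ⊤ r x)

end FT6_0

section FT7_0

open Groth.Agent.Lib.Helper23.QCohLocal Groth.Agent.Lib.Helper2.Push Groth.Agent.Lib.Helper2.QCoh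

variable {X : Scheme.{u}}

/-- finitely many generators over an affine open give finiteness of the module of sections (native form) -/
theorem finite_of_generatingSections (M : X.Modules) [M.IsQuasicoherent] {U : X.Opens} (hU : IsAffineOpen U)
    (G : (M.restrict U.ι).GeneratingSections) [G.IsFiniteType] : Module.Finite Γ(X, U) Γ(M, U) :=
  (finite_ΓU_iff M hU).1 (finite_ΓU_of_generatingSections M hU G)

/-- **Finite type ⇒ finite sections**: a quasi-coherent module of finite type has finite modules of sections over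
all affine opens. -/
theorem finite_of_isFiniteType (M : X.Modules) [M.IsQuasicoherent]
    [hM : SheafOfModules.IsFiniteType (R := X.ringCatSheaf) M] {U : X.Opens} (hU : IsAffineOpen U) :
    Module.Finite Γ(X, U) Γ(M, U) := by
  obtain ⟨ι, V, G, hG, hV, hVa⟩ := exists_isOpenCover_generatingSections M
  let s : Set Γ(X, U) := {f | ∃ i, X.basicOpen f ≤ V i}
  have hs : Ideal.span s = ⊤ := by
    rw [← hU.self_le_iSup_basicOpen_iff]
    intro x hxU
    have hx : x ∈ (⨆ i, V i : X.Opens) := by rw [hV.iSup_eq_top]; trivial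
    obtain ⟨i, hxi⟩ := Opens.mem_iSup.1 hx
    obtain ⟨f, hf, hxf⟩ := hU.exists_basicOpen_le (V := V i) ⟨x, hxi⟩ hxU
    exact Opens.mem_iSup.2 ⟨⟨f, ⟨i, hf⟩⟩, hxf⟩
  refine finite_of_basicOpen_cover hU M (IsLocOn.of_isQuasicoherent hU M) s hs ?_
  rintro f ⟨i, hf⟩
  haveI := hG i
  let G' := generatingSectionsOfComp M (X.homOfLE hf) (V i).ι (X.basicOpen f).ι (by simp) (G i)
  haveI : G'.IsFiniteType := inferInstance
  exact finite_of_generatingSections M (hU.basicOpen f) G'

/-- **Finite sections ⇒ finite type**, for an affine open cover. -/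
theorem isFiniteType_of_finite (M : X.Modules) [M.IsQuasicoherent] {ι : Type u} (V : ι → X.Opens)
    (hV : IsOpenCover V) (hVa : ∀ i, IsAffineOpen (V i))
    (h : ∀ i, Module.Finite Γ(X, V i) Γ(M, V i)) :
    SheafOfModules.IsFiniteType (R := X.ringCatSheaf) M :=
  isFiniteType_of_finite_ΓU M V hV hVa fun i => (finite_ΓU_iff M (hVa i)).2 (h i)

/-- a quasi-coherent module is of finite type iff its sections over all affine opens are finite modules -/
theorem isFiniteType_iff_forall_affine (M : X.Modules) [M.IsQuasicoherent] :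
    SheafOfModules.IsFiniteType (R := X.ringCatSheaf) M ↔
      ∀ (U : X.Opens), IsAffineOpen U → Module.Finite Γ(X, U) Γ(M, U) := by
  constructor
  · intro h U hU
    exact finite_of_isFiniteType M hU
  · intro h
    exact isFiniteType_of_finite M (fun V : X.affineOpens => (V : X.Opens)) (iSup_affineOpens_eq_top X)
      (fun V => V.2) (fun V => h V.1 V.2)

end FT7_0

section FT8

open Groth.Agent.Lib.Helper23.QCohLocal Groth.Agent.Lib.Helper2.Push Groth.Agent.Lib.Helper2.QCoh

variable (R : CommRingCat.{u})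

/-- on `Spec R`: global sections as a module over `Γ(Spec R, ⊤)` versus as a module over `R` -/
theorem finite_Γtop_iff (N : (Spec R).Modules) :
    Module.Finite Γ(Spec R, ⊤) Γ(N, ⊤) ↔ Module.Finite R ((ΓF R).obj N) := by
  symm
  refine finite_iff_of_semilinear
    (((Scheme.ΓSpecIso R).inv ≫ (Spec R).presheaf.map (⊤ : (Spec R).Opens).leTop.op).hom) ?_
    (AddEquiv.refl _) (fun r x => ?_)
  · have : IsIso ((Scheme.ΓSpecIso R).inv ≫ (Spec R).presheaf.map (⊤ : (Spec R).Opens).leTop.op) := by
      have h : (⊤ : (Spec R).Opens).leTop.op = 𝟙 _ := rfl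
      rw [h, (Spec R).presheaf.map_id]; infer_instance
    exact (ConcreteCategory.bijective_of_isIso _).2
  · exact Scheme.Modules.smul_Spec_def r x

/-- `M^~` is of finite type iff `M` is a finite module -/
theorem isFiniteType_tilde_iff (M : ModuleCat.{u} R) :
    SheafOfModules.IsFiniteType (R := (Spec R).ringCatSheaf) (tilde M) ↔ Module.Finite R M := by
  have e : M ≅ (ΓF R).obj (tilde M) := (tilde.toTildeΓNatIso (R := R)).app M
  constructor
  · intro h
    have h1 : Module.Finite Γ(Spec R, ⊤) Γ(tilde M, ⊤) :=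
      finite_of_isFiniteType (tilde M) (isAffineOpen_top (Spec R))
    have h2 := (finite_Γtop_iff R (tilde M)).1 h1
    exact Module.Finite.equiv e.toLinearEquiv.symm
  · intro h
    haveI : Module.Finite R ((ΓF R).obj (tilde M)) := Module.Finite.equiv e.toLinearEquiv
    obtain ⟨G, hG⟩ := exists_generatingSections_of_finite_Γ R (tilde M)
    have hq : G.localGeneratorsData.IsFiniteType :=
      { isFiniteType := fun x => by
          exact ⟨hG.finite⟩ }
    exact { exists_localGeneratorsData := ⟨G.localGeneratorsData, hq⟩ }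

end FT8

end Groth.Agent.Lib.Helper23.FinType
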