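import Groth.Agent.Lib.Helper28DepthLoc
import Mathlib.RingTheory.TensorProduct.IsBaseChangePi
import Mathlib.LinearAlgebra.Dual.Lemmas

/-!
# Depth library, part 3 (helper28): supports of localizations, Serre's conditions (S_k),
kernels, Hom modules and reflexive modules
-/

set_option autoImplicit false
universe u v w u' v'

namespace Groth.Agent.Lib.Helper28
open RingTheory.Sequence CategoryTheory Abelian

section SupportLoc

variable {R : Type u} [CommRing R] (T : Submonoid R) (R' : Type u') [CommRing R'] [Algebra R R']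
  [IsLocalization T R'] {M : Type v} [AddCommGroup M] [Module R M] {M' : Type v'}
  [AddCommGroup M'] [Module R M'] [Module R' M'] [IsScalarTower R R' M']
  (f : M →ₗ[R] M') [IsLocalizedModule T f]

include T f in
theorem mem_support_isLocalizedModule_iff (q' : PrimeSpectrum R') :
    q' ∈ Module.support R' M' ↔ PrimeSpectrum.comap (algebraMap R R') q' ∈ Module.support R M := by
  simp only [Module.mem_support_iff', PrimeSpectrum.comap_asIdeal, Ideal.mem_comap]
  constructor
  · rintro ⟨m', hm'⟩
    obtain ⟨⟨m, s⟩, rfl⟩ := IsLocalizedModule.mk'_surjective T f m'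
    refine ⟨m, fun r hr h0 => ?_⟩
    have hs : algebraMap R R' s ∉ q'.asIdeal := fun hs =>
      q'.2.ne_top (Ideal.eq_top_of_isUnit_mem _ hs (IsLocalization.map_units R' s))
    have hrs : algebraMap R R' (r * s) ∉ q'.asIdeal := by
      rw [map_mul]
      exact fun h => (q'.2.mem_or_mem h).elim hr hs
    apply hm' _ hrs
    simp only [Function.uncurry_apply_pair]
    rw [algebraMap_smul, mul_smul]
    have : (s : R) • IsLocalizedModule.mk' f m s = f m := IsLocalizedModule.mk'_cancel' f m s
    rw [this, ← map_smul, h0, map_zero]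
  · rintro ⟨m, hm⟩
    refine ⟨f m, fun r' hr' h0 => ?_⟩
    obtain ⟨a, t, rfl⟩ := IsLocalization.exists_mk'_eq T r'
    have ha : algebraMap R R' a ∉ q'.asIdeal := by
      intro ha
      apply hr'
      have : IsLocalization.mk' R' a t = IsLocalization.mk' R' 1 t * algebraMap R R' a := by
        rw [mul_comm, ← IsLocalization.mk'_eq_mul_mk'_one]
      rw [this]
      exact Ideal.mul_mem_left _ _ ha
    have h1 : algebraMap R R' a • f m = 0 := by
      have : algebraMap R R' a = algebraMap R R' t * IsLocalization.mk' R' a t := by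
        rw [mul_comm, IsLocalization.mk'_spec]
      rw [this, mul_smul, h0, smul_zero]
    rw [algebraMap_smul, ← map_smul] at h1
    obtain ⟨u, hu⟩ := (IsLocalizedModule.eq_zero_iff T f).mp h1
    have hu' : (u * a : R) • m = 0 := by rw [mul_smul]; exact hu
    refine hm (u * a) ?_ hu'
    rw [map_mul]
    have hu2 : algebraMap R R' u ∉ q'.asIdeal := fun hs =>
      q'.2.ne_top (Ideal.eq_top_of_isUnit_mem _ hs (IsLocalization.map_units R' u))
    exact fun h => (q'.2.mem_or_mem h).elim hu2 ha

include T f in
theorem support_isLocalizedModule :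
    Module.support R' M' =
      PrimeSpectrum.comap (algebraMap R R') ⁻¹' Module.support R M := by
  ext q'
  exact mem_support_isLocalizedModule_iff T R' f q'

end SupportLoc

section SupportDimMono

variable {R : Type u} [CommRing R] {M : Type v} [AddCommGroup M] [Module R M]
  {N : Type w} [AddCommGroup N] [Module R N]

theorem supportDim_le_of_support_subset (h : Module.support R N ⊆ Module.support R M) :
    Module.supportDim R N ≤ Module.supportDim R M :=
  Order.krullDim_le_of_strictMono (fun a ↦ ⟨a.1, h a.2⟩) (fun {_ _} lt ↦ lt)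

theorem supportDim_localization_le_of_support_subset
    (h : Module.support R N ⊆ Module.support R M) (p : Ideal R) [p.IsPrime] :
    Module.supportDim (Localization.AtPrime p) (LocalizedModule p.primeCompl N) ≤
      Module.supportDim (Localization.AtPrime p) (LocalizedModule p.primeCompl M) := by
  apply supportDim_le_of_support_subset
  rw [support_isLocalizedModule p.primeCompl (Localization.AtPrime p)
      (LocalizedModule.mkLinearMap p.primeCompl N),
    support_isLocalizedModule p.primeCompl (Localization.AtPrime p)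
      (LocalizedModule.mkLinearMap p.primeCompl M)]
  exact Set.preimage_mono h

end SupportDimMono


section KerLoc

variable {R : Type u} [CommRing R] (T : Submonoid R) {E0 : Type v} {E1 : Type w}
  [AddCommGroup E0] [Module R E0] [AddCommGroup E1] [Module R E1] (u : E0 →ₗ[R] E1)

/-- The localization of `u` as a map of modules over the localized ring. -/
noncomputable def locMap : LocalizedModule T E0 →ₗ[Localization T] LocalizedModule T E1 :=
  (IsLocalizedModule.map T (LocalizedModule.mkLinearMap T E0) (LocalizedModule.mkLinearMap T E1)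
    u).extendScalarsOfIsLocalization T (Localization T)

/-- Localization commutes with kernels. -/
noncomputable def localizedKerEquiv :
    LocalizedModule T (LinearMap.ker u) ≃ₗ[Localization T] LinearMap.ker (locMap T u) :=
  (Submodule.localizedEquiv T (LinearMap.ker u)).symm ≪≫ₗ
    LinearEquiv.ofEq _ _ (LinearMap.localized'_ker_eq_ker_localizedMap (Localization T) T
      (LocalizedModule.mkLinearMap T E0) (LocalizedModule.mkLinearMap T E1) u)

end KerLoc

section SkHelpers

theorem min_le_of_forall_nat {k : ℕ} {d : WithBot ℕ∞} {t : ℕ∞}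
    (h : ∀ j : ℕ, j ≤ k → (j : WithBot ℕ∞) ≤ d → (j : ℕ∞) ≤ t) :
    min (k : WithBot ℕ∞) d ≤ ((t : ℕ∞) : WithBot ℕ∞) := by
  rcases d with _ | e
  · exact (min_le_right _ _).trans bot_le
  · by_cases hke : (k : ℕ∞) ≤ e
    · have h1 : (k : WithBot ℕ∞) ≤ ((e : ℕ∞) : WithBot ℕ∞) := by exact_mod_cast hke
      refine (min_le_left _ _).trans ?_
      have := h k le_rfl h1
      exact_mod_cast this
    · rw [not_le] at hke
      obtain ⟨j, rfl⟩ := ENat.ne_top_iff_exists.mp (ne_top_of_lt hke)
      have hjk : j ≤ k := by exact_mod_cast hke.le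
      refine (min_le_right _ _).trans ?_
      have := h j hjk le_rfl
      exact WithBot.coe_le_coe.mpr this

theorem le_of_min_le {k j : ℕ} {d : WithBot ℕ∞} {t : ℕ∞}
    (h : min (k : WithBot ℕ∞) d ≤ ((t : ℕ∞) : WithBot ℕ∞)) (hjk : j ≤ k)
    (hjd : (j : WithBot ℕ∞) ≤ d) : (j : ℕ∞) ≤ t := by
  have h1 : (j : WithBot ℕ∞) ≤ min (k : WithBot ℕ∞) d :=
    le_min (by exact_mod_cast hjk) hjd
  have := h1.trans h
  exact_mod_cast this

end SkHelpers

section KerSk

variable {R : Type u} [CommRing R] [IsNoetherianRing R]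
  {E0 E1 : Type v} [AddCommGroup E0] [Module R E0] [Module.Finite R E0] [AddCommGroup E1]
  [Module R E1] [Module.Finite R E1] (u : E0 →ₗ[R] E1)

theorem hasSk_one_ker (h : LocCoh.HasSk 1 R E0) : LocCoh.HasSk 1 R (LinearMap.ker u) := by
  intro p _
  apply min_le_of_forall_nat
  intro j hj hjd
  interval_cases j
  · simp
  · have hdim : Module.supportDim (Localization.AtPrime p)
        (LocalizedModule p.primeCompl (LinearMap.ker u)) ≤
        Module.supportDim (Localization.AtPrime p) (LocalizedModule p.primeCompl E0) :=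
      supportDim_localization_le_of_support_subset
        (Module.support_subset_of_injective _ (Submodule.injective_subtype _)) p
    have h0 : ((1 : ℕ) : ℕ∞) ≤ LocCoh.depth (Localization.AtPrime p)
        (LocalizedModule p.primeCompl E0) := le_of_min_le (h p) le_rfl (hjd.trans hdim)
    unfold LocCoh.depth
    rw [idealDepth_congr (localizedKerEquiv p.primeCompl u)]
    have := (idealDepth_ker (IsLocalRing.maximalIdeal (Localization.AtPrime p))
      (locMap p.primeCompl u)).1 (by simpa [LocCoh.depth] using h0)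
    simpa using this

theorem hasSk_two_ker (hsupp : Module.support R (LinearMap.ker u) ⊆ Module.support R E1)
    (h1 : LocCoh.HasSk 1 R E1) (h0 : LocCoh.HasSk 2 R E0) :
    LocCoh.HasSk 2 R (LinearMap.ker u) := by
  intro p _
  apply min_le_of_forall_nat
  intro j hj hjd
  have hdim0 : Module.supportDim (Localization.AtPrime p)
      (LocalizedModule p.primeCompl (LinearMap.ker u)) ≤
      Module.supportDim (Localization.AtPrime p) (LocalizedModule p.primeCompl E0) :=
    supportDim_localization_le_of_support_subset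
      (Module.support_subset_of_injective _ (Submodule.injective_subtype _)) p
  have hdim1 : Module.supportDim (Localization.AtPrime p)
      (LocalizedModule p.primeCompl (LinearMap.ker u)) ≤
      Module.supportDim (Localization.AtPrime p) (LocalizedModule p.primeCompl E1) :=
    supportDim_localization_le_of_support_subset hsupp p
  unfold LocCoh.depth
  rw [idealDepth_congr (localizedKerEquiv p.primeCompl u)]
  interval_cases j
  · simp
  · have hE0 : ((1 : ℕ) : ℕ∞) ≤ LocCoh.depth (Localization.AtPrime p)
        (LocalizedModule p.primeCompl E0) :=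
      le_of_min_le (h0 p) (by norm_num) (hjd.trans hdim0)
    have := (idealDepth_ker (IsLocalRing.maximalIdeal (Localization.AtPrime p))
      (locMap p.primeCompl u)).1 (by simpa [LocCoh.depth] using hE0)
    simpa using this
  · have hE0 : ((2 : ℕ) : ℕ∞) ≤ LocCoh.depth (Localization.AtPrime p)
        (LocalizedModule p.primeCompl E0) :=
      le_of_min_le (h0 p) le_rfl (hjd.trans hdim0)
    have hE1 : ((1 : ℕ) : ℕ∞) ≤ LocCoh.depth (Localization.AtPrime p)
        (LocalizedModule p.primeCompl E1) :=
      le_of_min_le (h1 p) le_rfl (le_trans (by norm_num) (hjd.trans hdim1))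
    have := (idealDepth_ker (IsLocalRing.maximalIdeal (Localization.AtPrime p))
      (locMap p.primeCompl u)).2 (by simpa [LocCoh.depth] using hE0) (by simpa [LocCoh.depth] using hE1)
    simpa using this

end KerSk


section SkLocal

/-- The local form of Serre's condition: `min(k, dim M) ≤ depth M` over a local ring. -/
def SkLocal (k : ℕ) (R : Type u) [CommRing R] [IsLocalRing R] (M : Type v) [AddCommGroup M]
    [Module R M] : Prop :=
  min (k : WithBot ℕ∞) (Module.supportDim R M) ≤ ((LocCoh.depth R M : ℕ∞) : WithBot ℕ∞)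

theorem hasSk_iff_skLocal (k : ℕ) (R : Type u) [CommRing R] (M : Type v) [AddCommGroup M]
    [Module R M] : LocCoh.HasSk k R M ↔ ∀ (p : Ideal R) [p.IsPrime],
      SkLocal k (Localization.AtPrime p) (LocalizedModule p.primeCompl M) := Iff.rfl

variable {R : Type u} [CommRing R]

theorem SkLocal.of_linearEquiv [IsLocalRing R] {k : ℕ} {M : Type v} {N : Type w} [AddCommGroup M]
    [Module R M] [AddCommGroup N] [Module R N] (e : M ≃ₗ[R] N) (h : SkLocal k R M) :
    SkLocal k R N := by
  unfold SkLocal at h ⊢
  unfold LocCoh.depth at h ⊢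
  rwa [← Module.supportDim_eq_of_equiv e, ← idealDepth_congr e]

theorem hasSk_of_linearEquiv {k : ℕ} {M : Type v} {N : Type w} [AddCommGroup M]
    [Module R M] [AddCommGroup N] [Module R N] (e : M ≃ₗ[R] N) (h : LocCoh.HasSk k R M) :
    LocCoh.HasSk k R N := by
  intro p _
  exact SkLocal.of_linearEquiv (IsLocalizedModule.mapEquiv p.primeCompl
    (LocalizedModule.mkLinearMap p.primeCompl M) (LocalizedModule.mkLinearMap p.primeCompl N)
    (Localization.AtPrime p) e) (h p)

theorem hasSk_congr {k : ℕ} {M : Type v} {N : Type w} [AddCommGroup M]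
    [Module R M] [AddCommGroup N] [Module R N] (e : M ≃ₗ[R] N) :
    LocCoh.HasSk k R M ↔ LocCoh.HasSk k R N :=
  ⟨hasSk_of_linearEquiv e, hasSk_of_linearEquiv e.symm⟩

/-- A criterion to transfer the local Serre condition. -/
theorem SkLocal.of_le [IsLocalRing R] {k : ℕ} {M : Type v} {N : Type w} [AddCommGroup M]
    [Module R M] [AddCommGroup N] [Module R N] (h : SkLocal k R M)
    (hdim : Module.supportDim R N ≤ Module.supportDim R M)
    (hdepth : LocCoh.depth R M ≤ LocCoh.depth R N) : SkLocal k R N := by
  unfold SkLocal at h ⊢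
  exact (min_le_min le_rfl hdim).trans (h.trans (WithBot.coe_le_coe.mpr hdepth))

end SkLocal

section PiSk

variable {R : Type u} [CommRing R]

theorem support_pi_fin_subset (N : Type v) [AddCommGroup N] [Module R N] (n : ℕ) :
    Module.support R (Fin n → N) ⊆ Module.support R N := by
  intro p hp
  rw [Module.mem_support_iff'] at hp ⊢
  obtain ⟨v, hv⟩ := hp
  by_contra hcon
  push Not at hcon
  choose r hr hr0 using fun i => hcon (v i)
  refine hv (∏ i, r i) ?_ ?_
  · intro hmem
    obtain ⟨i, -, hi⟩ := (Ideal.IsPrime.prod_mem_iff).mp hmem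
    exact hr i hi
  · ext i
    rw [Pi.smul_apply, Pi.zero_apply, ← Finset.mul_prod_erase Finset.univ r (Finset.mem_univ i),
      mul_comm, mul_smul, hr0, smul_zero]

/-- Localization commutes with finite powers. -/
noncomputable def localizedPiFinEquiv (p : Ideal R) [p.IsPrime] (N : Type v) [AddCommGroup N]
    [Module R N] (n : ℕ) :
    LocalizedModule p.primeCompl (Fin n → N) ≃ₗ[Localization.AtPrime p]
      (Fin n → LocalizedModule p.primeCompl N) :=
  (IsLocalizedModule.linearEquiv p.primeCompl
    (LocalizedModule.mkLinearMap p.primeCompl (Fin n → N))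
    (LinearMap.pi fun i : Fin n => LocalizedModule.mkLinearMap p.primeCompl N ∘ₗ
      LinearMap.proj i)).extendScalarsOfIsLocalization p.primeCompl (Localization.AtPrime p)

theorem hasSk_pi_fin [IsNoetherianRing R] {k : ℕ} (N : Type v) [AddCommGroup N] [Module R N]
    [Module.Finite R N] (h : LocCoh.HasSk k R N) (n : ℕ) : LocCoh.HasSk k R (Fin n → N) := by
  intro p _
  refine SkLocal.of_le (h p) ?_ ?_
  · exact supportDim_localization_le_of_support_subset (support_pi_fin_subset N n) p
  · unfold LocCoh.depth
    rw [idealDepth_congr (localizedPiFinEquiv p N n)]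
    exact idealDepth_le_idealDepth_pi_fin _ _ n

end PiSk


section HomKer

variable {R : Type u} [CommRing R] [IsNoetherianRing R] (M : Type v) [AddCommGroup M]
  [Module R M] [Module.Finite R M] (N : Type w) [AddCommGroup N] [Module R N]

/-- `Hom(M, N)` is the kernel of a map `Hom(R^n, N) → Hom(R^(m+1), N)`. -/
theorem exists_hom_equiv_ker :
    ∃ (n m : ℕ) (u : ((Fin n → R) →ₗ[R] N) →ₗ[R] ((Fin (m + 1) → R) →ₗ[R] N)),
      Nonempty ((M →ₗ[R] N) ≃ₗ[R] LinearMap.ker u) := by
  obtain ⟨n, π, hπ⟩ := Module.Finite.exists_fin' R M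
  obtain ⟨m, ρ0, hρ0⟩ := Module.Finite.exists_fin' R (LinearMap.ker π)
  let ρ : (Fin (m + 1) → R) →ₗ[R] LinearMap.ker π :=
    ρ0 ∘ₗ LinearMap.funLeft R R (Fin.castSucc : Fin m → Fin (m + 1))
  have hρ : Function.Surjective ρ :=
    hρ0.comp (LinearMap.funLeft_surjective_of_injective R R _ (Fin.castSucc_injective m))
  let φ : (Fin (m + 1) → R) →ₗ[R] (Fin n → R) := (LinearMap.ker π).subtype ∘ₗ ρ
  have hφ : LinearMap.range φ = LinearMap.ker π := by
    rw [LinearMap.range_comp, LinearMap.range_eq_top.mpr hρ, Submodule.map_top,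
      Submodule.range_subtype]
  let u : ((Fin n → R) →ₗ[R] N) →ₗ[R] ((Fin (m + 1) → R) →ₗ[R] N) := LinearMap.lcomp R N φ
  let π' : (M →ₗ[R] N) →ₗ[R] ((Fin n → R) →ₗ[R] N) := LinearMap.lcomp R N π
  have hx : ∀ y, π (φ y) = 0 := by
    intro y
    have : φ y ∈ LinearMap.ker π := hφ ▸ LinearMap.mem_range_self φ y
    exact this
  have hmem : ∀ f : M →ₗ[R] N, π' f ∈ LinearMap.ker u := by
    intro f
    rw [LinearMap.mem_ker]
    apply LinearMap.ext
    intro y
    simp [u, π', hx]
  let e0 : (M →ₗ[R] N) →ₗ[R] LinearMap.ker u := LinearMap.codRestrict _ π' hmem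
  have he0 : Function.Bijective e0 := by
    constructor
    · intro f g hfg
      have h1 : π' f = π' g := congrArg Subtype.val hfg
      ext x
      obtain ⟨y, rfl⟩ := hπ x
      exact LinearMap.congr_fun h1 y
    · rintro ⟨g, hg⟩
      have hle : LinearMap.ker π ≤ LinearMap.ker g := by
        rw [← hφ]
        rintro _ ⟨x, rfl⟩
        rw [LinearMap.mem_ker] at hg ⊢
        exact LinearMap.congr_fun hg x
      let f : M →ₗ[R] N :=
        ((LinearMap.ker π).liftQ g hle) ∘ₗ (π.quotKerEquivOfSurjective hπ).symm.toLinearMap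
      refine ⟨f, Subtype.ext ?_⟩
      apply LinearMap.ext
      intro x
      change f (π x) = g x
      simp only [f, LinearMap.comp_apply, LinearEquiv.coe_coe]
      have : (π.quotKerEquivOfSurjective hπ).symm (π x) = Submodule.Quotient.mk x := by
        rw [LinearEquiv.symm_apply_eq]
        rfl
      rw [this, Submodule.liftQ_apply]
  exact ⟨n, m, u, ⟨LinearEquiv.ofBijective e0 he0⟩⟩

end HomKer

section HomPi

variable {R : Type u} [CommRing R] (N : Type w) [AddCommGroup N] [Module R N]

/-- `Hom(R^n, N) ≃ N^n`. -/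
noncomputable def homPiFinEquiv (n : ℕ) : ((Fin n → R) →ₗ[R] N) ≃ₗ[R] (Fin n → N) :=
  ((Pi.basisFun R (Fin n)).constr R).symm

end HomPi

section HomDepth

variable {R : Type u} [CommRing R] [IsNoetherianRing R] (I : Ideal R) (M : Type v)
  [AddCommGroup M] [Module R M] [Module.Finite R M] (N : Type w) [AddCommGroup N] [Module R N]
  [Module.Finite R N] [Small.{w} R]

theorem one_le_idealDepth_hom (h : 1 ≤ LocCoh.idealDepth I N) :
    1 ≤ LocCoh.idealDepth I (M →ₗ[R] N) := by
  obtain ⟨n, m, u, ⟨e⟩⟩ := exists_hom_equiv_ker (R := R) M N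
  have he : LocCoh.idealDepth I (M →ₗ[R] N) = LocCoh.idealDepth I (LinearMap.ker u) :=
    idealDepth_congr e I
  rw [he]
  refine (idealDepth_ker I u).1 ?_
  rw [idealDepth_congr (homPiFinEquiv N n) I]
  exact h.trans (idealDepth_le_idealDepth_pi_fin I N n)

theorem two_le_idealDepth_hom (h : 2 ≤ LocCoh.idealDepth I N) :
    2 ≤ LocCoh.idealDepth I (M →ₗ[R] N) := by
  obtain ⟨n, m, u, ⟨e⟩⟩ := exists_hom_equiv_ker (R := R) M N
  have he : LocCoh.idealDepth I (M →ₗ[R] N) = LocCoh.idealDepth I (LinearMap.ker u) :=
    idealDepth_congr e I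
  rw [he]
  refine (idealDepth_ker I u).2 ?_ ?_
  · rw [idealDepth_congr (homPiFinEquiv N n) I]
    exact h.trans (idealDepth_le_idealDepth_pi_fin I N n)
  · rw [idealDepth_congr (homPiFinEquiv N (m + 1)) I]
    exact (le_trans (by norm_num) h).trans (idealDepth_le_idealDepth_pi_fin I N (m + 1))

omit [Small.{w} R] in
theorem hasSk_one_hom (h : LocCoh.HasSk 1 R N) : LocCoh.HasSk 1 R (M →ₗ[R] N) := by
  obtain ⟨n, m, u, ⟨e⟩⟩ := exists_hom_equiv_ker (R := R) M N
  refine hasSk_of_linearEquiv e.symm ?_
  apply hasSk_one_ker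
  exact hasSk_of_linearEquiv (homPiFinEquiv N n).symm (hasSk_pi_fin N h n)

omit [Small.{w} R] in
theorem hasSk_two_hom (h1 : LocCoh.HasSk 1 R N) (h : LocCoh.HasSk 2 R N) :
    LocCoh.HasSk 2 R (M →ₗ[R] N) := by
  obtain ⟨n, m, u, ⟨e⟩⟩ := exists_hom_equiv_ker (R := R) M N
  refine hasSk_of_linearEquiv e.symm ?_
  apply hasSk_two_ker
  · refine (Module.support_subset_of_injective _ (Submodule.injective_subtype _)).trans ?_
    rw [(homPiFinEquiv N n).support_eq, (homPiFinEquiv N (m + 1)).support_eq]
    refine (support_pi_fin_subset N n).trans ?_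
    exact Module.support_subset_of_injective (LinearMap.single R (fun _ : Fin (m + 1) => N) 0)
      (Pi.single_injective (M := fun _ : Fin (m + 1) => N) 0)
  · exact hasSk_of_linearEquiv (homPiFinEquiv N (m + 1)).symm (hasSk_pi_fin N h1 (m + 1))
  · exact hasSk_of_linearEquiv (homPiFinEquiv N n).symm (hasSk_pi_fin N h n)

end HomDepth


section SkMono

variable {R : Type u} [CommRing R] {M : Type v} [AddCommGroup M] [Module R M]

theorem hasSk_mono {k k' : ℕ} (hk : k' ≤ k) (h : LocCoh.HasSk k R M) : LocCoh.HasSk k' R M := by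
  intro p _
  refine le_trans (min_le_min ?_ le_rfl) (h p)
  exact_mod_cast hk

end SkMono

section Reflexive

variable {R : Type u} [CommRing R] [IsNoetherianRing R] (I : Ideal R)
  (G : Type u) [AddCommGroup G] [Module R G] [Module.Finite R G] [Module.IsReflexive R G]

theorem one_le_idealDepth_of_isReflexive (h : 1 ≤ LocCoh.idealDepth I R) :
    1 ≤ LocCoh.idealDepth I G := by
  rw [idealDepth_congr (Module.evalEquiv R G) I]
  exact one_le_idealDepth_hom I (Module.Dual R G) R h

theorem two_le_idealDepth_of_isReflexive (h : 2 ≤ LocCoh.idealDepth I R) :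
    2 ≤ LocCoh.idealDepth I G := by
  rw [idealDepth_congr (Module.evalEquiv R G) I]
  exact two_le_idealDepth_hom I (Module.Dual R G) R h

theorem hasSk_one_of_isReflexive (h : LocCoh.HasSk 1 R R) : LocCoh.HasSk 1 R G :=
  hasSk_of_linearEquiv (Module.evalEquiv R G).symm (hasSk_one_hom (Module.Dual R G) R h)

theorem hasSk_two_of_isReflexive (h : LocCoh.HasSk 2 R R) : LocCoh.HasSk 2 R G :=
  hasSk_of_linearEquiv (Module.evalEquiv R G).symm
    (hasSk_two_hom (Module.Dual R G) R (hasSk_mono (by norm_num) h) h)

end Reflexive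

end Groth.Agent.Lib.Helper28
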