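import Mathlib
import Groth.Prelude.Def_FlatMod2
import Groth.Agent.Lib.Helper2QCoh

/-!
# Flatness of a quasi-coherent module over a base scheme: bridge to commutative algebra (helper2)

* `flat_of_isLocalizedModule_tower`: `R → B`, `M` a `B`-module flat over `R`; any localization of `M`
  at a submonoid of `B` is `R`-flat.
* `isLocalizedModule_germ`: for quasi-coherent `F`, affine `U ∋ x`, the germ map `Γ(F,U) → F_x` is the
  localization at the prime of `x` (`IsLocalizedModule`, for the `Γ(X,U)`-structure on the stalk).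
* `isFlatOverAt_iff_flat_base`: `FlatMod.IsFlatOverAt f F x` iff `F_x` is flat over `Γ(S,V)` (`V ∋ f x`
  affine).
* `isFlatOverAt_of_flat_sections` / `flat_sections_of_isFlatOverAt`: `F` is flat over `S` at all points
  of an affine `U ≤ f⁻¹V` iff `Γ(F,U)` is flat over `Γ(S,V)` (through `f.appLE`).
-/
set_option autoImplicit false
universe u
open CategoryTheory Limits AlgebraicGeometry TopologicalSpace Opposite TensorProduct

namespace Groth.Agent.Lib.Helper2.FlatOver

section Algebra
variable {R B : Type*} [CommRing R] [CommRing B] [Algebra R B]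
  {M M' : Type*} [AddCommGroup M] [Module R M] [Module B M] [IsScalarTower R B M]
  [AddCommGroup M'] [Module R M'] [Module B M'] [IsScalarTower R B M']

/-- Tower version: a localization (at a submonoid of `B`) of an `R`-flat `B`-module is `R`-flat. -/
theorem flat_of_isLocalizedModule_tower (T : Submonoid B) (g : M →ₗ[B] M') [IsLocalizedModule T g]
    [H : Module.Flat R M] : Module.Flat R M' := by
  simp_rw [Module.Flat.iff_lTensor_injectiveₛ] at H ⊢
  simp_rw [← AlgebraTensorModule.coe_lTensor (A := B)]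
  intro P _ _ N
  have h1 := IsLocalizedModule.map_injective T (AlgebraTensorModule.rTensor R N g)
    (AlgebraTensorModule.rTensor R P g) (AlgebraTensorModule.lTensor B M N.subtype) (by
      simpa using H N)
  rw [IsLocalizedModule.map_lTensor] at h1
  simpa using h1

end Algebra

theorem flat_of_semilinear_equiv {R R' M M' : Type*} [CommRing R] [CommRing R'] [AddCommGroup M]
    [AddCommGroup M'] [Module R M] [Module R' M'] (σ : R ≃+* R') (e : M ≃+ M')
    (he : ∀ (r : R) (m : M), e (r • m) = σ r • e m) [Module.Flat R M] : Module.Flat R' M' := by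
  letI : Algebra R R' := σ.toRingHom.toAlgebra
  letI : Module R M' := Module.compHom M' σ.toRingHom
  haveI : IsScalarTower R R' M' :=
    ⟨fun a b y => by change (σ a * b) • y = σ a • (b • y); rw [mul_smul]⟩
  let e' : M ≃ₗ[R] M' := { e with map_smul' := fun r m => he r m }
  haveI : Module.Flat R M' := Module.Flat.of_linearEquiv e'.symm
  haveI : IsLocalization (⊥ : Submonoid R) R := IsLocalization.self (by
    intro x hx
    rw [Submonoid.mem_bot] at hx
    subst hx
    exact isUnit_one)
  haveI : IsLocalization (⊥ : Submonoid R) R' :=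
    IsLocalization.isLocalization_of_algEquiv (M := (⊥ : Submonoid R)) (S := R) (P := R')
      (AlgEquiv.ofRingEquiv (f := σ) (fun x => rfl))
  exact (Module.flat_iff_of_isLocalization R' (⊥ : Submonoid R) M').2 inferInstance

theorem flat_iff_of_semilinear_equiv {R R' M M' : Type*} [CommRing R] [CommRing R']
    [AddCommGroup M] [AddCommGroup M'] [Module R M] [Module R' M'] (σ : R ≃+* R') (e : M ≃+ M')
    (he : ∀ (r : R) (m : M), e (r • m) = σ r • e m) : Module.Flat R M ↔ Module.Flat R' M' := by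
  refine ⟨fun _ => flat_of_semilinear_equiv σ e he, fun _ => flat_of_semilinear_equiv σ.symm e.symm ?_⟩
  intro r m
  apply e.injective
  rw [he, AddEquiv.apply_symm_apply, RingEquiv.apply_symm_apply, AddEquiv.apply_symm_apply]


section Geom
variable {X S : Scheme.{u}}

/-- `Γ(X,U)`-module structure on the stalk `F_x` (`x ∈ U`) through the germ map. -/
noncomputable abbrev moduleStalkSections (F : X.Modules) (U : X.Opens) (x : X) (hx : x ∈ U) :
    Module Γ(X, U) (F.presheaf.stalk x) :=
  Module.compHom (F.presheaf.stalk x) (X.presheaf.germ U x hx).hom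

/-- The germ map as a `Γ(X,U)`-linear map. -/
noncomputable def germₗ (F : X.Modules) (U : X.Opens) (x : X) (hx : x ∈ U) :
    letI := moduleStalkSections F U x hx
    Γ(F, U) →ₗ[Γ(X, U)] F.presheaf.stalk x :=
  letI := moduleStalkSections F U x hx
  { toFun := fun m => F.presheaf.germ U x hx m
    map_add' := fun a b => map_add _ a b
    map_smul' := fun r m => QCoh.germ_smul F x U hx r m }

theorem germₗ_apply (F : X.Modules) (U : X.Opens) (x : X) (hx : x ∈ U) (m : Γ(F, U)) :
    germₗ F U x hx m = F.presheaf.germ U x hx m := rfl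

theorem sections_smul_stalk (F : X.Modules) (U : X.Opens) (x : X) (hx : x ∈ U) (r : Γ(X, U))
    (y : F.presheaf.stalk x) :
    letI := moduleStalkSections F U x hx
    r • y = X.presheaf.germ U x hx r • y := rfl

/-- For a quasi-coherent module `F`, an affine open `U` and `x ∈ U`, the stalk `F_x` is the
localization of `Γ(F,U)` at the prime of `x`. -/
theorem isLocalizedModule_germ {U : X.Opens} (hU : IsAffineOpen U) (F : X.Modules)
    [F.IsQuasicoherent] (x : X) (hx : x ∈ U) :
    letI := moduleStalkSections F U x hx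
    IsLocalizedModule (hU.primeIdealOf ⟨x, hx⟩).asIdeal.primeCompl (germₗ F U x hx) := by
  letI := moduleStalkSections F U x hx
  refine ⟨?_, ?_, ?_⟩
  · rintro ⟨s, hs⟩
    have hs' : IsUnit (X.presheaf.germ U x hx s) := by
      rw [← Scheme.mem_basicOpen X s x hx,
        Groth.Agent.Lib.Helper2.mem_basicOpen_iff_notMem_primeIdealOf hU x hx]
      exact hs
    obtain ⟨u, hu⟩ := hs'
    rw [Module.End.isUnit_iff]
    constructor
    · intro y y' h
      have h' : (u : X.presheaf.stalk x) • y = (u : X.presheaf.stalk x) • y' := by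
        rw [hu]; exact h
      have := congrArg (fun z => (u⁻¹ : (X.presheaf.stalk x)ˣ).1 • z) h'
      simpa [smul_smul] using this
    · intro y
      refine ⟨(u⁻¹ : (X.presheaf.stalk x)ˣ).1 • y, ?_⟩
      change X.presheaf.germ U x hx s • ((u⁻¹ : (X.presheaf.stalk x)ˣ).1 • y) = y
      rw [← hu, smul_smul, Units.mul_inv, one_smul]
  · intro y
    obtain ⟨s, m, hs, hsm⟩ := QCoh.exists_smul_eq_germ hU F x hx y
    rw [Groth.Agent.Lib.Helper2.mem_basicOpen_iff_notMem_primeIdealOf hU x hx] at hs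
    exact ⟨(m, ⟨s, hs⟩), hsm⟩
  · intro m₁ m₂ h
    have h0 : F.presheaf.germ U x hx (m₁ - m₂) = 0 := by
      rw [map_sub]; exact sub_eq_zero.2 h
    obtain ⟨s, hs, hsm⟩ := QCoh.exists_smul_eq_zero_of_germ_eq_zero hU F x hx _ h0
    rw [Groth.Agent.Lib.Helper2.mem_basicOpen_iff_notMem_primeIdealOf hU x hx] at hs
    refine ⟨⟨s, hs⟩, ?_⟩
    change s • m₁ = s • m₂
    rw [smul_sub, sub_eq_zero] at hsm
    exact hsm

/-- `Γ(S,V)`-module structure on the stalk `F_x` (`f x ∈ V`) through germ and the stalk map. -/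
noncomputable abbrev moduleStalkBase (f : X ⟶ S) (F : X.Modules) (V : S.Opens) (x : X)
    (hx : f.base x ∈ V) : Module Γ(S, V) (F.presheaf.stalk x) :=
  Module.compHom (F.presheaf.stalk x)
    ((f.stalkMap x).hom.comp (S.presheaf.germ V (f.base x) hx).hom)

/-- Flatness over the local ring of the base at `f x` is flatness over the sections on any affine
open neighbourhood of `f x`. -/
theorem isFlatOverAt_iff_flat_base (f : X ⟶ S) (F : X.Modules) {V : S.Opens} (hV : IsAffineOpen V)
    (x : X) (hx : f.base x ∈ V) :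
    FlatMod.IsFlatOverAt f F x ↔
      @Module.Flat Γ(S, V) (F.presheaf.stalk x) _ _ (moduleStalkBase f F V x hx) := by
  unfold FlatMod.IsFlatOverAt
  letI := S.presheaf.algebra_section_stalk ⟨f.base x, hx⟩
  haveI := hV.isLocalization_stalk ⟨f.base x, hx⟩
  letI := FlatMod.moduleStalkOver f F x
  letI := moduleStalkBase f F V x hx
  haveI : IsScalarTower Γ(S, V) (S.presheaf.stalk (f.base x)) (F.presheaf.stalk x) := by
    refine ⟨fun a b y => ?_⟩
    change (f.stalkMap x).hom (S.presheaf.germ V (f.base x) hx a * b) • y =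
      (f.stalkMap x).hom (S.presheaf.germ V (f.base x) hx a) • ((f.stalkMap x).hom b • y)
    rw [map_mul, mul_smul]
  exact Module.flat_iff_of_isLocalization (S.presheaf.stalk (f.base x))
    (hV.primeIdealOf ⟨f.base x, hx⟩).asIdeal.primeCompl (F.presheaf.stalk x)


theorem stalkMap_germ_eq (f : X ⟶ S) {U : X.Opens} {V : S.Opens} (e : U ≤ f ⁻¹ᵁ V) (x : X)
    (hx : x ∈ U) (a : Γ(S, V)) :
    (f.stalkMap x).hom (S.presheaf.germ V (f.base x) (e hx) a) =
      X.presheaf.germ U x hx ((f.appLE V U e).hom a) := by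
  have h1 := Scheme.Hom.germ_stalkMap_apply f V x (e hx) a
  refine h1.trans ?_
  simp only [Scheme.Hom.appLE, CommRingCat.hom_comp, RingHom.coe_comp, Function.comp_apply]
  exact (X.presheaf.germ_res_apply (homOfLE e) x hx _).symm

/-- If the sections `Γ(F,U)` over an affine open `U ≤ f⁻¹V` (`V` affine) are flat over `Γ(S,V)`,
then `F` is flat over `S` at every point of `U`. -/
theorem isFlatOverAt_of_flat_sections (f : X ⟶ S) (F : X.Modules) [F.IsQuasicoherent]
    {U : X.Opens} (hU : IsAffineOpen U) {V : S.Opens} (hV : IsAffineOpen V) (e : U ≤ f ⁻¹ᵁ V)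
    (H : @Module.Flat Γ(S, V) Γ(F, U) _ _ (Module.compHom Γ(F, U) (f.appLE V U e).hom))
    (x : X) (hx : x ∈ U) : FlatMod.IsFlatOverAt f F x := by
  rw [isFlatOverAt_iff_flat_base f F hV x (e hx)]
  letI : Algebra Γ(S, V) Γ(X, U) := (f.appLE V U e).hom.toAlgebra
  letI : Module Γ(S, V) Γ(F, U) := Module.compHom Γ(F, U) (f.appLE V U e).hom
  haveI : IsScalarTower Γ(S, V) Γ(X, U) Γ(F, U) := by
    refine ⟨fun a b m => ?_⟩
    change ((f.appLE V U e).hom a * b) • m = (f.appLE V U e).hom a • (b • m)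
    rw [mul_smul]
  letI := moduleStalkSections F U x hx
  letI := moduleStalkBase f F V x (e hx)
  haveI : IsScalarTower Γ(S, V) Γ(X, U) (F.presheaf.stalk x) := by
    refine ⟨fun a b y => ?_⟩
    change X.presheaf.germ U x hx ((f.appLE V U e).hom a * b) • y =
      (f.stalkMap x).hom (S.presheaf.germ V (f.base x) (e hx) a) • (X.presheaf.germ U x hx b • y)
    rw [map_mul, mul_smul, stalkMap_germ_eq f e x hx a]
  haveI := isLocalizedModule_germ hU F x hx
  haveI : Module.Flat Γ(S, V) Γ(F, U) := H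
  exact flat_of_isLocalizedModule_tower (R := Γ(S, V)) (B := Γ(X, U))
    (hU.primeIdealOf ⟨x, hx⟩).asIdeal.primeCompl (germₗ F U x hx)

/-- If `F` is flat over `S` at every point of the affine open `U ≤ f⁻¹V` (`V` affine), then the
sections `Γ(F,U)` are flat over `Γ(S,V)`. -/
theorem flat_sections_of_isFlatOverAt (f : X ⟶ S) (F : X.Modules) [F.IsQuasicoherent]
    {U : X.Opens} (hU : IsAffineOpen U) {V : S.Opens} (hV : IsAffineOpen V) (e : U ≤ f ⁻¹ᵁ V)
    (H : ∀ x : X, x ∈ U → FlatMod.IsFlatOverAt f F x) :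
    @Module.Flat Γ(S, V) Γ(F, U) _ _ (Module.compHom Γ(F, U) (f.appLE V U e).hom) := by
  letI : Algebra Γ(S, V) Γ(X, U) := (f.appLE V U e).hom.toAlgebra
  letI : Module Γ(S, V) Γ(F, U) := Module.compHom Γ(F, U) (f.appLE V U e).hom
  haveI : IsScalarTower Γ(S, V) Γ(X, U) Γ(F, U) := by
    refine ⟨fun a b m => ?_⟩
    change ((f.appLE V U e).hom a * b) • m = (f.appLE V U e).hom a • (b • m)
    rw [mul_smul]
  let pt : ∀ (P : Ideal Γ(X, U)) [P.IsMaximal], X := fun P hP => hU.fromSpec ⟨P, hP.isPrime⟩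
  have hpt : ∀ (P : Ideal Γ(X, U)) [P.IsMaximal], pt P ∈ U := fun P _ => QCoh.fromSpec_mem hU _
  letI i1 : ∀ (P : Ideal Γ(X, U)) [P.IsMaximal], Module Γ(X, U) (F.presheaf.stalk (pt P)) :=
    fun P _ => moduleStalkSections F U (pt P) (hpt P)
  letI i2 : ∀ (P : Ideal Γ(X, U)) [P.IsMaximal], Module Γ(S, V) (F.presheaf.stalk (pt P)) :=
    fun P _ => moduleStalkBase f F V (pt P) (e (hpt P))
  haveI i3 : ∀ (P : Ideal Γ(X, U)) [P.IsMaximal],
      IsScalarTower Γ(S, V) Γ(X, U) (F.presheaf.stalk (pt P)) := by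
    intro P _
    refine ⟨fun a b y => ?_⟩
    change X.presheaf.germ U (pt P) (hpt P) ((f.appLE V U e).hom a * b) • y =
      (f.stalkMap (pt P)).hom (S.presheaf.germ V (f.base (pt P)) (e (hpt P)) a) •
        (X.presheaf.germ U (pt P) (hpt P) b • y)
    rw [map_mul, mul_smul, stalkMap_germ_eq f e (pt P) (hpt P) a]
  haveI i4 : ∀ (P : Ideal Γ(X, U)) [P.IsMaximal],
      IsLocalizedModule.AtPrime P (germₗ F U (pt P) (hpt P)) := by
    intro P hP
    have h := isLocalizedModule_germ hU F (pt P) (hpt P)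
    have h2 : hU.primeIdealOf ⟨pt P, hpt P⟩ = ⟨P, hP.isPrime⟩ := QCoh.primeIdealOf_fromSpec hU _
    rw [h2] at h
    exact h
  exact @Module.flat_of_isLocalized_maximal Γ(S, V) Γ(X, U) _ _ _ Γ(F, U) _ _ _ _
    (fun P _ => F.presheaf.stalk (pt P)) (fun P _ => inferInstance) i2 i1 i3
    (fun P _ => germₗ F U (pt P) (hpt P)) i4
    (fun P _ => (isFlatOverAt_iff_flat_base f F hV (pt P) (e (hpt P))).1 (H _ (hpt P)))

/-- The tilde of an `S`-module `M` is flat over `Spec R` (along `Spec φ`) iff `M` is flat over `R`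
(in semilinear form: `N` any `R`-module with an additive equivalence to `M` compatible with `φ`). -/
theorem tilde_isFlatOver_iff {R S : CommRingCat.{u}} (φ : R ⟶ S) (M : ModuleCat.{u} S)
    {N : Type*} [AddCommGroup N] [Module R N] (ν : N ≃+ M)
    (hν : ∀ (r : R) (n : N), ν (r • n) = φ.hom r • ν n) :
    FlatMod.IsFlatOver (Spec.map φ) (tilde M) ↔ Module.Flat R N := by
  set f := Spec.map φ with hf
  set F : (Spec S).Modules := tilde M with hFdef
  have hU : IsAffineOpen (⊤ : (Spec S).Opens) := isAffineOpen_top _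
  have hV : IsAffineOpen (⊤ : (Spec R).Opens) := isAffineOpen_top _
  have e : (⊤ : (Spec S).Opens) ≤ f ⁻¹ᵁ ⊤ := le_of_eq rfl
  let σ : R ≃+* Γ(Spec R, ⊤) := (Scheme.ΓSpecIso R).symm.commRingCatIsoToRingEquiv
  let ε : N ≃+ Γ(F, ⊤) := ν.trans (tilde.isoTop M).toLinearEquiv.toAddEquiv
  letI : Module Γ(Spec R, ⊤) Γ(F, ⊤) := Module.compHom Γ(F, ⊤) (f.appLE ⊤ ⊤ e).hom
  have hε : ∀ (a : R) (n : N), ε (a • n) = σ a • ε n := by
    intro a n
    have h2 : ε (a • n) = (φ.hom a : S) • (ε n : Γ(F, ⊤)) := by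
      change (tilde.isoTop M).toLinearEquiv (ν (a • n)) = _
      rw [hν]
      exact LinearEquiv.map_smul (tilde.isoTop M).toLinearEquiv _ _
    rw [h2, Scheme.Modules.smul_Spec_def]
    change _ = (f.appLE ⊤ ⊤ e).hom (σ a) • ε n
    congr 1
    have h3 := Scheme.ΓSpecIso_inv_naturality φ
    have h4 := congrArg (fun g => g.hom a) h3
    simp only [CommRingCat.hom_comp, RingHom.coe_comp, Function.comp_apply] at h4
    have h5 : (Spec S).presheaf.map (⊤ : (Spec S).Opens).leTop.op = 𝟙 _ := by
      have : (⊤ : (Spec S).Opens).leTop.op = 𝟙 (op ⊤) := rfl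
      rw [this, (Spec S).presheaf.map_id]
    have h6 : f.appLE ⊤ ⊤ e = f.appTop := Scheme.Hom.appLE_eq_app f
    rw [h5, h6]
    exact h4
  have key : Module.Flat R N ↔ Module.Flat Γ(Spec R, ⊤) Γ(F, ⊤) :=
    flat_iff_of_semilinear_equiv σ ε hε
  rw [key]
  constructor
  · intro H
    exact flat_sections_of_isFlatOverAt f F hU hV e (fun x _ => H x)
  · intro H x
    exact isFlatOverAt_of_flat_sections f F hU hV e H x (Set.mem_univ x)


end Geom

end Groth.Agent.Lib.Helper2.FlatOver
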