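import Groth.Agent.Lib.Helper4FibDimJ
import Groth.Agent.Lib.Helper4WithBotENat

/-!
# Fibre dimension (part K): the loci `{s | j ≤ dim X_s}`

* `isClosed_setOf_natCast_le_fibreDimAt`: `{c | j ≤ fibreDimAt f c}` is closed.
* `natCast_le_topologicalKrullDim_fiber_iff`: `j ≤ dim X_s ↔ ∃ c over s, j ≤ fibreDimAt f c`.
* `setOf_natCast_le_dim_fiber_eq_image`.
* `exists_specializes_of_mem_closure_image`: in a Noetherian quasi-sober space, points of the closure
  of the image of a closed set are specializations of images of points of the set.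
* `exists_fiber_point_trdegNat_ge`: if `j ≤ dim X_s`, some point of the fibre has `trdeg ≥ j`.
-/

set_option autoImplicit false
set_option linter.style.haveILetI false
universe u

open TopologicalSpace Topology AlgebraicGeometry CategoryTheory

namespace Groth.Agent.Lib.Helper4.FibDim

open Groth.Agent.Lib.Helper4.VarDim

section top

theorem exists_specializes_of_mem_closure_image {α β : Type*} [TopologicalSpace α]
    [TopologicalSpace β] [NoetherianSpace α] [QuasiSober α] (g : α → β) (hg : Continuous g)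
    (A : Set α) (hA : IsClosed A) (y : β) (hy : y ∈ closure (g '' A)) : ∃ a ∈ A, g a ⤳ y := by
  obtain ⟨S, hSf, hSc, hSi, rfl⟩ := NoetherianSpace.exists_finite_set_isClosed_irreducible hA
  have hgen : ∀ t : S, ∃ w : α, IsGenericPoint w (t : Set α) := fun t =>
    QuasiSober.sober (hSi t.1 t.2) (hSc t.1 t.2)
  choose w hw using hgen
  haveI : Finite S := hSf
  have hclosed : IsClosed (⋃ t : S, closure ({g (w t)} : Set β)) :=
    isClosed_iUnion_of_finite fun t => isClosed_closure
  have hsub : g '' (⋃₀ S) ⊆ ⋃ t : S, closure ({g (w t)} : Set β) := by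
    rintro _ ⟨x, ⟨t, ht, hxt⟩, rfl⟩
    refine Set.mem_iUnion.mpr ⟨⟨t, ht⟩, ?_⟩
    have h1 : w ⟨t, ht⟩ ⤳ x := (hw ⟨t, ht⟩).specializes hxt
    exact specializes_iff_mem_closure.mp (h1.map hg)
  obtain ⟨t, ht⟩ := Set.mem_iUnion.mp ((closure_minimal hsub hclosed) hy)
  exact ⟨w t, ⟨t.1, t.2, (hw t).mem⟩, specializes_iff_mem_closure.mpr ht⟩

end top

variable {X S : Scheme.{u}} (f : X ⟶ S)

theorem isClosed_setOf_natCast_le_fibreDimAt [LocallyOfFiniteType f] (j : ℕ) :
    IsClosed {c : X | ((j : ℕ) : WithBot ℕ∞) ≤ FlatMor.fibreDimAt f c} := by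
  rcases Nat.eq_zero_or_pos j with rfl | hpos
  · convert isClosed_univ
    ext c
    simp only [Set.mem_ofPred_eq, Set.mem_univ, iff_true]
    exact Groth.Agent.Lib.Helper7.TopDim.localDim_nonneg (f.asFiber c)
  · obtain ⟨m, rfl⟩ : ∃ m, j = m + 1 := ⟨j - 1, by omega⟩
    rw [← isOpen_compl_iff]
    convert isOpen_setOf_fibreDimAt_le f m using 1
    ext c
    simp only [Set.mem_compl_iff, Set.mem_ofPred_eq, not_le]
    constructor
    · exact fun h => le_of_lt_natCast_succ _ m h
    · intro h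
      refine lt_of_le_of_lt h ?_
      exact_mod_cast Nat.lt_succ_self m

theorem natCast_le_topologicalKrullDim_fiber_iff (s : S) (j : ℕ) :
    ((j : ℕ) : WithBot ℕ∞) ≤ topologicalKrullDim (f.fiber s) ↔
      ∃ c : X, f c = s ∧ ((j : ℕ) : WithBot ℕ∞) ≤ FlatMor.fibreDimAt f c := by
  constructor
  · intro h
    rw [Groth.Agent.Lib.Helper7.TopDim.topologicalKrullDim_eq_iSup_localDim] at h
    obtain ⟨z, hz⟩ := Groth.Agent.Lib.Helper4.WithBotENat.exists_le_of_natCast_le_iSup _ j h
    refine ⟨f.fiberι s z, (f.fiberHomeo s z).2, ?_⟩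
    rwa [fibreDimAt_eq_fibLD, ← localDim_fiber_eq]
  · rintro ⟨c, rfl, hc⟩
    exact hc.trans (Groth.Agent.Lib.Helper7.TopDim.localDim_le_dim (f.asFiber c))

theorem setOf_natCast_le_dim_fiber_eq_image (j : ℕ) :
    {s : S | ((j : ℕ) : WithBot ℕ∞) ≤ topologicalKrullDim (f.fiber s)} =
      f '' {c : X | ((j : ℕ) : WithBot ℕ∞) ≤ FlatMor.fibreDimAt f c} := by
  ext s
  simp only [Set.mem_ofPred_eq, Set.mem_image, natCast_le_topologicalKrullDim_fiber_iff]
  constructor
  · rintro ⟨c, hc, h⟩; exact ⟨c, h, hc⟩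
  · rintro ⟨c, h, hc⟩; exact ⟨c, hc, h⟩

attribute [local instance] sectionsAlgebra Curv2.resAlgebra

theorem exists_fiber_point_trdegNat_ge [LocallyOfFiniteType f] (s : S) (j : ℕ)
    (h : ((j : ℕ) : WithBot ℕ∞) ≤ topologicalKrullDim (f.fiber s)) :
    letI : (f.fiber s).Over (Spec (CommRingCat.of (S.residueField s))) :=
      ⟨f.fiberToSpecResidueField s⟩
    ∃ z : f.fiber s, j ≤ trdegNat (S.residueField s) (f.fiber s) z := by
  letI : (f.fiber s).Over (Spec (CommRingCat.of (S.residueField s))) :=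
    ⟨f.fiberToSpecResidueField s⟩
  haveI : LocallyOfFiniteType ((f.fiber s) ↘ Spec (CommRingCat.of (S.residueField s))) :=
    locallyOfFiniteType_fiberToSpecResidueField f s
  exact exists_le_rank_of_le_topologicalKrullDim
    (fun z => trdegNat (S.residueField s) (f.fiber s) z)
    (fun t t' hsp hne => trdegNat_lt_of_specializes _ _ t t' hsp hne) j h

end Groth.Agent.Lib.Helper4.FibDim
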