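import Mathlib
import Groth.Prelude.Def_Cyc
import Groth.Agent.Lib.Helper4DimFormulaH
import Groth.Agent.Lib.Helper4DimFormulaP
import Groth.Agent.Lib.Helper28Catenary

/-!
# The induced dimension function on a scheme locally of finite type (helper4)

* `rank_head_eq_last_add_length`: order lemma.
* `isDimFun_eq_add_height`: for a dimension function `δ` on a scheme, `s ⤳ s'` in an affine open
  with Noetherian coordinate ring, `δ s = δ s' + ht (p/P₀)`.
* `isDimFun_of_deltaCompat`: Stacks 02JW-type statement: `δ_X(x) = δ(f x) + trdeg κ(x)/κ(f x)` is a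
  dimension function.
-/

set_option autoImplicit false
set_option linter.style.haveILetI false

universe u

open AlgebraicGeometry CategoryTheory TopologicalSpace

namespace Groth.Agent.Lib.Helper4.DimFormula

open Groth.Agent.Lib.Helper4.VarDim

section Order

theorem rank_head_eq_last_add_length {α : Type*} [PartialOrder α] (g : α → ℤ)
    (hg : ∀ a b : α, a ⋖ b → g a = g b + 1) (k : ℕ) :
    ∀ t : LTSeries α, t.length = k → (∀ i : Fin t.length, t i.castSucc ⋖ t i.succ) →
      g t.head = g t.last + k := by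
  induction k with
  | zero =>
    intro t hlen _
    have : t.head = t.last := by
      change t.toFun 0 = t.toFun (Fin.last _)
      congr 1
      ext
      simp [hlen]
    rw [this]; simp
  | succ k ih =>
    intro t hlen hsat
    have hpos : t.length ≠ 0 := by omega
    have h1 := ih t.eraseLast (by simp [hlen]) (fun i => by
      have := hsat ⟨i.1, by have := i.2; simp at this; omega⟩
      exact this)
    have h2 : t.eraseLast.last ⋖ t.last := by
      have := hsat ⟨t.length - 1, by omega⟩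
      convert this using 1
      · simp [RelSeries.last_eraseLast, Fin.castSucc]
      · change t.toFun (Fin.last _) = t.toFun _
        congr 1
        ext
        simp
        omega
    rw [RelSeries.head_eraseLast] at h1
    rw [h1, hg _ _ h2]
    push_cast
    ring

end Order

section DimFun

variable {S : Scheme.{u}} {V : S.Opens} (hV : IsAffineOpen V)

theorem isDimFun_covBy (δ : S → ℤ) (hδ : Cyc.IsDimFun S δ) (Q Q' : PrimeSpectrum Γ(S, V))
    (h : Q ⋖ Q') : δ (hV.fromSpec Q) = δ (hV.fromSpec Q') + 1 := by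
  have hQV := fromSpec_mem hV Q
  have hQ'V := fromSpec_mem hV Q'
  have hsp : hV.fromSpec Q ⤳ hV.fromSpec Q' := by
    rw [← primeIdealOf_le_iff hV _ _ hQV hQ'V, primeIdealOf_fromSpec hV Q hQV,
      primeIdealOf_fromSpec hV Q' hQ'V]
    exact h.1.le
  have hne : hV.fromSpec Q ≠ hV.fromSpec Q' := fun heq =>
    h.1.ne (hV.fromSpec.isOpenEmbedding.injective heq)
  refine (hδ _ _ hsp hne).2 fun z hz1 hz2 => ?_
  have hzV : z ∈ V := hz2.mem_open V.2 hQ'V
  have h1 := (primeIdealOf_le_iff hV _ z hQV hzV).mpr hz1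
  have h2 := (primeIdealOf_le_iff hV z _ hzV hQ'V).mpr hz2
  rw [primeIdealOf_fromSpec hV Q hQV] at h1
  rw [primeIdealOf_fromSpec hV Q' hQ'V] at h2
  have h1' : Q ≤ hV.primeIdealOf ⟨z, hzV⟩ := h1
  have h2' : hV.primeIdealOf ⟨z, hzV⟩ ≤ Q' := h2
  have hz : hV.fromSpec (hV.primeIdealOf ⟨z, hzV⟩) = z := hV.fromSpec_primeIdealOf ⟨z, hzV⟩
  rcases eq_or_lt_of_le h1' with h3 | h3
  · left
    exact hz.symm.trans (congrArg (fun W => hV.fromSpec W) h3.symm)
  · right
    rcases eq_or_lt_of_le h2' with h4 | h4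
    · exact hz.symm.trans (congrArg (fun W => hV.fromSpec W) h4)
    · exact absurd h4 (h.2 h3)

/-- A dimension function drops by the relative height along a specialization inside an affine
open with Noetherian coordinate ring. -/
theorem isDimFun_eq_add_height [IsNoetherianRing Γ(S, V)] (δ : S → ℤ) (hδ : Cyc.IsDimFun S δ)
    (s s' : S) (hs : s ∈ V) (hs' : s' ∈ V) (P₀ p : Ideal Γ(S, V))
    (hP₀ : P₀ = (hV.primeIdealOf ⟨s, hs⟩).asIdeal) (hp : p = (hV.primeIdealOf ⟨s', hs'⟩).asIdeal)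
    (hle : P₀ ≤ p) :
    ∃ k : ℕ, (k : ℕ∞) = (p.map (Ideal.Quotient.mk P₀)).height ∧ δ s = δ s' + k := by
  haveI : P₀.IsPrime := hP₀ ▸ (hV.primeIdealOf ⟨s, hs⟩).2
  haveI : p.IsPrime := hp ▸ (hV.primeIdealOf ⟨s', hs'⟩).2
  haveI : (p.map (Ideal.Quotient.mk P₀)).IsPrime := Ideal.isPrime_map_quotientMk_of_isPrime hle
  obtain ⟨l, hl, hlen⟩ :=
    Ideal.exists_ltSeries_length_eq_height (p.map (Ideal.Quotient.mk P₀))
  have e₂ : (l.length : ℕ∞) = Order.height l.last := by
    rw [hlen, hl]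
    exact PrimeSpectrum.height_eq_orderHeight ⟨p.map (Ideal.Quotient.mk P₀), inferInstance⟩
  let e := Groth.Agent.Helper13Cat.embOfIsEmbedding (Ideal.Quotient.mk P₀)
    (PrimeSpectrum.isClosedEmbedding_comap_of_surjective _ (Ideal.Quotient.mk P₀)
      Ideal.Quotient.mk_surjective).isEmbedding
  have hconv := Groth.Agent.Helper13Cat.ordConnected_range_surjective (Ideal.Quotient.mk P₀)
    Ideal.Quotient.mk_surjective
  have h := rank_head_eq_last_add_length (fun Q : PrimeSpectrum Γ(S, V) => δ (hV.fromSpec Q))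
    (fun Q Q' hQ => isDimFun_covBy hV δ hδ Q Q' hQ) l.length (l.map e e.strictMono) rfl
    (fun i => (hconv.apply_covBy_apply_iff e).mpr (covBy_of_length_eq_height l e₂ i))
  rw [LTSeries.head_map, LTSeries.last_map, hl, head_eq_bot_of_length_eq_height l e₂] at h
  have h1 : e ⟨⊥, Ideal.isPrime_bot⟩ = hV.primeIdealOf ⟨s, hs⟩ := by
    apply PrimeSpectrum.ext
    change Ideal.comap (Ideal.Quotient.mk P₀) ⊥ = _
    rw [← RingHom.ker_eq_comap_bot, Ideal.mk_ker, hP₀]
  have h2 : e ⟨p.map (Ideal.Quotient.mk P₀), inferInstance⟩ = hV.primeIdealOf ⟨s', hs'⟩ := by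
    apply PrimeSpectrum.ext
    change Ideal.comap (Ideal.Quotient.mk P₀) (p.map (Ideal.Quotient.mk P₀)) = _
    rw [Ideal.comap_map_of_surjective _ Ideal.Quotient.mk_surjective, ← RingHom.ker_eq_comap_bot,
      Ideal.mk_ker, sup_eq_left.mpr hle, hp]
  simp only [] at h
  rw [h1, h2, hV.fromSpec_primeIdealOf ⟨s, hs⟩, hV.fromSpec_primeIdealOf ⟨s', hs'⟩] at h
  exact ⟨l.length, hlen, h⟩

end DimFun

section Main

/-- Stacks 02JW: the function `δ_X(x) = δ(f x) + trdeg κ(x)/κ(f x)` is a dimension function. -/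
theorem isDimFun_of_deltaCompat {X S : Scheme.{u}} (f : X ⟶ S)
    [LocallyOfFiniteType f] (δ : ↥S → ℤ) (hS : Cyc.IsSetup S δ) (δX : ↥X → ℤ)
    (hδ : Cyc.DeltaCompat f δX δ) : Cyc.IsDimFun X δX := by
  obtain ⟨hNoeth, hcatS, hdim⟩ := hS
  haveI := hNoeth
  intro x y hxy hne
  obtain ⟨V, hV, hsV, -⟩ := exists_isAffineOpen_mem_and_subset (U := ⊤) (x := f.base y) (by simp)
  obtain ⟨U, hU, hyU, hUV⟩ := exists_isAffineOpen_mem_and_subset (U := f ⁻¹ᵁ V) (x := y) hsV
  have e : U ≤ f ⁻¹ᵁ V := hUV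
  have hxU : x ∈ U := hxy.mem_open U.2 hyU
  haveI : IsNoetherianRing Γ(S, V) := IsLocallyNoetherian.component_noetherian ⟨V, hV⟩
  letI : Algebra Γ(S, V) Γ(X, U) := (f.appLE V U e).hom.toAlgebra
  haveI : Algebra.FiniteType Γ(S, V) Γ(X, U) := f.finiteType_appLE hV hU e
  haveI : IsNoetherianRing Γ(X, U) := Algebra.FiniteType.isNoetherianRing Γ(S, V) Γ(X, U)
  set q : Ideal Γ(X, U) := (hU.primeIdealOf ⟨y, hyU⟩).asIdeal with hq
  set P : Ideal Γ(X, U) := (hU.primeIdealOf ⟨x, hxU⟩).asIdeal with hP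
  set p : Ideal Γ(S, V) := (hV.primeIdealOf ⟨f.base y, e hyU⟩).asIdeal with hp
  haveI : q.LiesOver p := ⟨(primeIdealOf_comap_appLE f hU hV e y hyU).symm⟩
  have hPq : P ≤ q := (primeIdealOf_le_iff hU x y hxU hyU).mpr hxy
  have hPne : P ≠ q := fun h =>
    hne (primeIdealOf_injective hU x y hxU hyU (PrimeSpectrum.ext h))
  have hP₀ : P.under Γ(S, V) = (hV.primeIdealOf ⟨f.base x, e hxU⟩).asIdeal := by
    rw [← primeIdealOf_comap_appLE f hU hV e x hxU]
    rfl
  have hP₀p : P.under Γ(S, V) ≤ p := by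
    rw [Ideal.LiesOver.over (p := p) (P := q)]
    exact Ideal.comap_mono hPq
  have hcat : CAlg.IsUniversallyCatenary (Localization.AtPrime p) := by
    have := hV.isLocalization_stalk ⟨f.base y, e hyU⟩
    let _ := S.presheaf.algebra_section_stalk (U := V) ⟨f.base y, e hyU⟩
    exact isUniversallyCatenary_of_ringEquiv
      (IsLocalization.algEquiv p.primeCompl (S.presheaf.stalk (f.base y))
        (Localization.AtPrime p)).toRingEquiv (hcatS (f.base y))
  obtain ⟨ny, hny, hδy⟩ := hδ y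
  obtain ⟨nx, hnx, hδx⟩ := hδ x
  have h1 := height_map_add_eq Γ(S, V) Γ(X, U) p q P hPq hcat ny nx
    (by rw [← trdeg_residueFieldMap_eq_trdeg_quotient f hU hV e y hyU p q hq hp]; exact hny)
    (by
      rw [← trdeg_residueFieldMap_eq_trdeg_quotient f hU hV e x hxU (P.under Γ(S, V)) P hP hP₀]
      exact hnx)
  obtain ⟨k, hk, hδk⟩ := isDimFun_eq_add_height hV δ hdim (f.base x) (f.base y) (e hxU) (e hyU)
    (P.under Γ(S, V)) p hP₀ hp hP₀p
  haveI : (q.map (Ideal.Quotient.mk P)).IsPrime := Ideal.isPrime_map_quotientMk_of_isPrime hPq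
  obtain ⟨h, hh⟩ : ∃ h : ℕ, (h : ℕ∞) = (q.map (Ideal.Quotient.mk P)).height :=
    ENat.ne_top_iff_exists.mp (Ideal.height_ne_top_of_isPrime)
  rw [← hh, ← hk] at h1
  have h2 : h + ny = k + nx := by exact_mod_cast h1
  have h2' : (h : ℤ) + ny = k + nx := by exact_mod_cast h2
  have hδeq : δX x = δX y + h := by
    rw [hδx, hδy]
    change δ (f.base x) + (nx : ℤ) = δ (f.base y) + (ny : ℤ) + h
    rw [hδk]
    linarith
  have hpos : 1 ≤ h := by
    have hne' : q.map (Ideal.Quotient.mk P) ≠ ⊥ := by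
      intro hbot
      rw [Ideal.map_eq_bot_iff_le_ker, Ideal.mk_ker] at hbot
      exact hPne (le_antisymm hPq hbot)
    have := one_le_height_of_ne_bot _ hne'
    rw [← hh] at this
    exact_mod_cast this
  have hpos' : (1 : ℤ) ≤ h := by exact_mod_cast hpos
  refine ⟨by rw [hδeq]; linarith, fun himm => ?_⟩
  have hcov : (hU.primeIdealOf ⟨x, hxU⟩) ⋖ (hU.primeIdealOf ⟨y, hyU⟩) := by
    refine ⟨lt_of_le_of_ne hPq (fun h => hPne (congrArg PrimeSpectrum.asIdeal h)), ?_⟩
    intro c hc1 hc2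
    have hcU := fromSpec_mem hU c
    have hc := primeIdealOf_fromSpec hU c hcU
    have hz1 : x ⤳ hU.fromSpec c := by
      rw [← primeIdealOf_le_iff hU x _ hxU hcU, hc]
      exact hc1.le
    have hz2 : hU.fromSpec c ⤳ y := by
      rw [← primeIdealOf_le_iff hU _ y hcU hyU, hc]
      exact hc2.le
    rcases himm _ hz1 hz2 with h3 | h3
    · apply hc1.ne
      rw [← hc]
      congr 1
      exact Subtype.ext h3.symm
    · apply hc2.ne
      rw [← hc]
      congr 1
      exact Subtype.ext h3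
  have h3 := Groth.Agent.Lib.Helper28.height_map_mk_eq_one_of_covBy hcov
  change (q.map (Ideal.Quotient.mk P)).height = 1 at h3
  rw [← hh] at h3
  have h4 : h = 1 := by exact_mod_cast h3
  rw [hδeq, h4]
  rfl

end Main

end Groth.Agent.Lib.Helper4.DimFormula
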