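import Groth.Agent.Lib.Helper4VarDim8

/-!
# Dominant maps, generic points and fibres

* `mem_range_of_denseRange`: a continuous map with dense range from a quasi-sober space with
  finitely many irreducible components hits every maximal point;
* `exists_le_rank_of_le_topologicalKrullDim`: a chain of length `r` gives a point of rank `≥ r`;
* `exists_trdegNat_eq_topologicalKrullDim`: in a nonempty scheme of finite type over a field
  the dimension is attained by a maximal point.
-/

set_option autoImplicit false
set_option linter.style.haveILetI false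
universe u

open AlgebraicGeometry CategoryTheory TopologicalSpace Topology

namespace Groth.Agent.Lib.Helper4.VarDim

section Top

theorem mem_range_of_denseRange {α β : Type*} [TopologicalSpace α] [TopologicalSpace β]
    [QuasiSober α] (hfin : (irreducibleComponents α).Finite) (g : α → β) (hg : Continuous g)
    (hd : DenseRange g) (ζ : β) (hζ : ∀ y : β, y ⤳ ζ → y = ζ) : ζ ∈ Set.range g := by
  have hgen : ∀ W : irreducibleComponents α, ∃ ξ : α, IsGenericPoint ξ (W : Set α) := fun W =>
    QuasiSober.sober W.2.1 (isClosed_of_mem_irreducibleComponents _ W.2)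
  choose ξ hξ using hgen
  haveI : Finite (irreducibleComponents α) := hfin
  have hclosed : IsClosed (⋃ W : irreducibleComponents α, closure ({g (ξ W)} : Set β)) :=
    isClosed_iUnion_of_finite fun W => isClosed_closure
  have hsub : Set.range g ⊆ ⋃ W : irreducibleComponents α, closure ({g (ξ W)} : Set β) := by
    rintro _ ⟨x, rfl⟩
    refine Set.mem_iUnion.mpr ⟨⟨irreducibleComponent x,
      irreducibleComponent_mem_irreducibleComponents x⟩, ?_⟩
    have h1 : ξ ⟨irreducibleComponent x, irreducibleComponent_mem_irreducibleComponents x⟩ ⤳ x :=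
      (hξ _).specializes mem_irreducibleComponent
    exact specializes_iff_mem_closure.mp (h1.map hg)
  have h2 : ζ ∈ ⋃ W : irreducibleComponents α, closure ({g (ξ W)} : Set β) :=
    (closure_minimal hsub hclosed) (hd ζ)
  obtain ⟨W, hW⟩ := Set.mem_iUnion.mp h2
  exact ⟨ξ W, hζ _ (specializes_iff_mem_closure.mpr hW)⟩

/-- If a quasi-sober space has dimension at least `r` and `h` is a rank function strictly
decreasing under proper specialization, some point has rank at least `r`. -/
theorem exists_le_rank_of_le_topologicalKrullDim {T : Type*} [TopologicalSpace T] [QuasiSober T]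
    (h : T → ℕ) (hstrict : ∀ t t' : T, t ⤳ t' → t ≠ t' → h t' < h t) (r : ℕ)
    (hr : ((r : ℕ) : WithBot ℕ∞) ≤ topologicalKrullDim T) : ∃ t : T, r ≤ h t := by
  by_contra hcon
  push Not at hcon
  rcases Nat.eq_zero_or_pos r with rfl | hpos
  · by_cases hT : Nonempty T
    · obtain ⟨t⟩ := hT
      exact absurd (hcon t) (by omega)
    · rw [not_nonempty_iff] at hT
      rw [topologicalKrullDim_eq_bot_of_isEmpty] at hr
      simp at hr
  · have h1 : topologicalKrullDim T ≤ ((r - 1 : ℕ) : WithBot ℕ∞) := by
      refine topologicalKrullDim_le_of_rank h hstrict _ fun t => ?_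
      have := hcon t
      have h3 : h t ≤ r - 1 := by omega
      exact_mod_cast h3
    have h2 := hr.trans h1
    have h3 : r ≤ r - 1 := by exact_mod_cast h2
    omega

end Top

section Field

variable (k : Type u) [Field k] (X : Scheme.{u}) [X.Over (Spec (CommRingCat.of k))]
  [LocallyOfFiniteType (X ↘ Spec (CommRingCat.of k))]

attribute [local instance] sectionsAlgebra Curv2.resAlgebra

/-- On a quasi-compact scheme locally of finite type over a field, transcendence degrees of
residue fields are bounded. -/
theorem exists_trdegNat_le [CompactSpace X] : ∃ N : ℕ, ∀ x : X, trdegNat k X x ≤ N := by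
  have hcov : ∀ x : X, ∃ U : X.Opens, IsAffineOpen U ∧ x ∈ U := fun x => by
    obtain ⟨U, hU, hx, -⟩ := exists_isAffineOpen_mem_and_subset (U := ⊤) (x := x) trivial
    exact ⟨U, hU, hx⟩
  choose U hU hxU using hcov
  obtain ⟨s, hs⟩ := isCompact_univ.elim_finite_subcover (fun x => (U x : Set X))
    (fun x => (U x).isOpen) (fun x _ => Set.mem_iUnion.mpr ⟨x, hxU x⟩)
  have hb : ∀ x : X, ∃ N : ℕ, ∀ y ∈ U x, trdegNat k X y ≤ N := by
    intro x
    haveI := finiteType_sections k X (hU x)
    obtain ⟨ξ, hξ⟩ : ∃ N : ℕ, ringKrullDim Γ(X, U x) ≤ N := by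
      by_cases hsub : Subsingleton Γ(X, U x)
      · exact ⟨0, by rw [ringKrullDim_eq_bot_of_subsingleton]; exact bot_le⟩
      · rw [not_subsingleton_iff_nontrivial] at hsub
        obtain ⟨N, g, hginj, hgint⟩ := exists_integral_inj_algHom_of_fg k Γ(X, U x)
        refine ⟨N, ?_⟩
        letI := g.toRingHom.toAlgebra
        haveI : Algebra.IsIntegral (MvPolynomial (Fin N) k) Γ(X, U x) := ⟨hgint⟩
        have h1 := Groth.Agent.Lib.Helper5.ringKrullDim_le_of_isIntegral
          (MvPolynomial (Fin N) k) Γ(X, U x)
        refine h1.trans (le_of_eq ?_)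
        rw [MvPolynomial.ringKrullDim_of_isNoetherianRing, ringKrullDim_eq_zero_of_field]
        simp
    refine ⟨ξ, fun y hy => ?_⟩
    obtain ⟨n, hn, hdim⟩ := exists_trdeg_eq_dim k X (hU x) y hy
    rw [trdegNat_eq_of_trdeg_eq k X y n hn]
    have h2 : ringKrullDim (Γ(X, U x) ⧸ ((hU x).primeIdealOf ⟨y, hy⟩).asIdeal) ≤
        ringKrullDim Γ(X, U x) :=
      ringKrullDim_le_of_surjective _ Ideal.Quotient.mk_surjective
    rw [hdim] at h2
    exact_mod_cast h2.trans hξ
  choose N hN using hb
  refine ⟨s.sup N, fun y => ?_⟩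
  obtain ⟨x, hxs, hyx⟩ := Set.mem_iUnion₂.mp (hs (Set.mem_univ y))
  exact (hN x y hyx).trans (Finset.le_sup hxs)

/-- In a nonempty quasi-compact scheme locally of finite type over a field, the dimension is the
transcendence degree of the residue field at some maximal point. -/
theorem exists_trdegNat_eq_topologicalKrullDim [CompactSpace X] [Nonempty X] :
    ∃ η : X, closure ({η} : Set X) ∈ irreducibleComponents X ∧
      topologicalKrullDim X = ((trdegNat k X η : ℕ) : WithBot ℕ∞) := by
  obtain ⟨N, hN⟩ := exists_trdegNat_le k X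
  obtain ⟨x₀⟩ := ‹Nonempty X›
  have hbdd : BddAbove (Set.range (trdegNat k X)) := ⟨N, by rintro _ ⟨x, rfl⟩; exact hN x⟩
  have hne : (Set.range (trdegNat k X)).Nonempty := ⟨_, ⟨x₀, rfl⟩⟩
  obtain ⟨y, hy⟩ := Nat.sSup_mem hne hbdd
  have hmax : ∀ x : X, trdegNat k X x ≤ trdegNat k X y := fun x => by
    rw [hy]
    exact le_csSup hbdd ⟨x, rfl⟩
  obtain ⟨η, hη, hηy⟩ := exists_generic_specializes y
  refine ⟨η, hη, le_antisymm ?_ (trdegNat_le_topologicalKrullDim k X η)⟩
  refine topologicalKrullDim_le_of_forall_trdegNat_le' k X _ fun t => ?_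
  have := (hmax t).trans (trdegNat_le_of_specializes k X η y hηy)
  exact_mod_cast this

end Field

end Groth.Agent.Lib.Helper4.VarDim
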