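import Groth.Agent.Lib.Helper4FibDimI
import Groth.Agent.Lib.Helper4VarDim9

/-!
# Fibre dimension (part J): closed points of fibres

* `exists_isClosed_singleton_fiber`: a nonempty fibre of a morphism locally of finite type has a
  closed point.
* `exists_trdegNat_eq_of_mem_range`: for a `k`-morphism `f : X ⟶ Y` of schemes locally of finite type
  over `k` and `y` in the range of `f`, some point `x` over `y` has `trdeg κ(x) = trdeg κ(y)`.
-/

set_option autoImplicit false
set_option linter.style.haveILetI false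
universe u

open TopologicalSpace Topology AlgebraicGeometry CategoryTheory

namespace Groth.Agent.Lib.Helper4.FibDim

open Groth.Agent.Lib.Helper4.VarDim

theorem exists_isClosed_singleton_fiber {X S : Scheme.{u}} (f : X ⟶ S) [LocallyOfFiniteType f]
    (s : S) (hs : s ∈ Set.range f) : ∃ z : f.fiber s, IsClosed ({z} : Set (f.fiber s)) := by
  haveI : JacobsonSpace (f.fiber s) :=
    LocallyOfFiniteType.jacobsonSpace (f.fiberToSpecResidueField s)
  obtain ⟨x, rfl⟩ := hs
  obtain ⟨z, -, hz⟩ := nonempty_inter_closedPoints (X := f.fiber (f x)) (Z := Set.univ)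
    ⟨f.asFiber x, trivial⟩ isOpen_univ.isLocallyClosed
  exact ⟨z, hz⟩

attribute [local instance] sectionsAlgebra Curv2.resAlgebra

theorem exists_trdegNat_eq_of_mem_range (k : Type u) [Field k] {X Y : Scheme.{u}}
    [X.Over (Spec (CommRingCat.of k))] [Y.Over (Spec (CommRingCat.of k))]
    [LocallyOfFiniteType (X ↘ Spec (CommRingCat.of k))]
    [LocallyOfFiniteType (Y ↘ Spec (CommRingCat.of k))] (f : X ⟶ Y)
    (hf : f ≫ (Y ↘ Spec (CommRingCat.of k)) = (X ↘ Spec (CommRingCat.of k))) (y : Y)
    (hy : y ∈ Set.range f) : ∃ x : X, f x = y ∧ trdegNat k X x = trdegNat k Y y := by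
  haveI : LocallyOfFiniteType (f ≫ (Y ↘ (Spec (CommRingCat.of k)))) := by rw [hf]; infer_instance
  haveI : LocallyOfFiniteType f := locallyOfFiniteType_of_comp f (Y ↘ (Spec (CommRingCat.of k)))
  obtain ⟨z, hz⟩ := exists_isClosed_singleton_fiber f y hy
  letI : (f.fiber y).Over (Spec (CommRingCat.of (Y.residueField y))) :=
    ⟨f.fiberToSpecResidueField y⟩
  haveI : LocallyOfFiniteType ((f.fiber y) ↘ Spec (CommRingCat.of (Y.residueField y))) :=
    locallyOfFiniteType_fiberToSpecResidueField f y
  have h0 : trdegNat (Y.residueField y) (f.fiber y) z = 0 :=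
    trdegNat_eq_of_trdeg_eq _ _ z 0 (by
      rw [trdeg_eq_zero_of_isClosed (Y.residueField y) (f.fiber y) z hz]; simp)
  have hfz : f (f.fiberι y z) = y := (f.fiberHomeo y z).2
  refine ⟨f.fiberι y z, hfz, ?_⟩
  have h1 := trdegNat_eq_add_fiber k f hf y z (f.fiberι y z) rfl
  rw [h0, add_zero, hfz] at h1
  exact h1

end Groth.Agent.Lib.Helper4.FibDim
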