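import Mathlib
import Groth.Agent.Lib.Helper4DimFormulaQ
import Groth.Agent.Lib.Helper4DimFormulaK
import Groth.Agent.Lib.Helper4FibDimJ

set_option autoImplicit false
set_option linter.style.haveILetI false

universe u

open AlgebraicGeometry CategoryTheory TopologicalSpace

namespace Groth.Agent.Lib.Helper6.DimEq

open Groth.Agent.Lib.Helper4.VarDim Groth.Agent.Lib.Helper4.FibDim
  Groth.Agent.Lib.Helper4.DimFormula

theorem height_map_mk_eq_of_forall_le {B : Type*} [CommRing B] [IsNoetherianRing B] (P : Ideal B)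
    [P.IsPrime] (hP : ∀ Q : Ideal B, Q.IsPrime → P ≤ Q) (q : Ideal B) [q.IsPrime] :
    (q.map (Ideal.Quotient.mk P)).height = q.height := by
  have hPq : P ≤ q := hP q inferInstance
  haveI : (q.map (Ideal.Quotient.mk P)).IsPrime := Ideal.isPrime_map_quotientMk_of_isPrime hPq
  apply le_antisymm
  · have h := height_ker_add_height_le (Ideal.Quotient.mk P) Ideal.Quotient.mk_surjective
      (q.map (Ideal.Quotient.mk P))
    rw [Ideal.comap_map_of_surjective _ Ideal.Quotient.mk_surjective, ← RingHom.ker_eq_comap_bot,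
      Ideal.mk_ker, sup_eq_left.mpr hPq] at h
    exact le_trans le_add_self h
  · obtain ⟨P', hP'min, hP'q, hht⟩ := exists_minimalPrimes_height_le q
    have h1 : P ≤ P' := hP P' hP'min.1.1
    have h2 : P' ≤ P := hP'min.2 ⟨inferInstance, bot_le⟩ h1
    obtain rfl : P' = P := le_antisymm h2 h1
    exact hht

/-- In an irreducible scheme, the prime of the generic point in an affine chart lies below all
primes. -/
theorem primeIdealOf_genericPoint_le {X : Scheme.{u}} [IrreducibleSpace X] {U : X.Opens}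
    (hU : IsAffineOpen U) (hξ : genericPoint ↥X ∈ U) (Q : Ideal Γ(X, U)) (hQ : Q.IsPrime) :
    (hU.primeIdealOf ⟨genericPoint ↥X, hξ⟩).asIdeal ≤ Q := by
  have hyU := fromSpec_mem hU ⟨Q, hQ⟩
  have h := primeIdealOf_fromSpec hU ⟨Q, hQ⟩ hyU
  have h2 := (primeIdealOf_le_iff hU (genericPoint ↥X) (hU.fromSpec ⟨Q, hQ⟩) hξ hyU).mpr
    (genericPoint_specializes _)
  rw [h] at h2
  exact h2

attribute [local instance] Curv2.resAlgebra

/-- **Dimension formula with equality** for a dominant morphism locally of finite type between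
irreducible schemes, at a point whose image has universally catenary local ring. -/
theorem ringKrullDim_stalk_add_eq {X Y : Scheme.{u}} [IrreducibleSpace X] [IrreducibleSpace Y]
    [IsLocallyNoetherian Y] (f : X ⟶ Y) [LocallyOfFiniteType f] [IsDominant f] (x : X) (n : ℕ)
    (hcatY : CAlg.IsUniversallyCatenary (Y.presheaf.stalk (f.base x)))
    (hn : @Algebra.trdeg (Y.residueField (f.base x)) (X.residueField x) _ _
      (f.residueFieldMap x).hom.toAlgebra = n) :
    ringKrullDim (X.presheaf.stalk x) + n =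
      ringKrullDim (Y.presheaf.stalk (f.base x)) + genTrdeg f := by
  obtain ⟨V, hV, hsV, -⟩ := exists_isAffineOpen_mem_and_subset (U := ⊤) (x := f.base x) (by simp)
  obtain ⟨U, hU, hxU, hUV⟩ := exists_isAffineOpen_mem_and_subset (U := f ⁻¹ᵁ V) (x := x) hsV
  have e : U ≤ f ⁻¹ᵁ V := hUV
  have hξU : genericPoint ↥X ∈ U := (genericPoint_specializes x).mem_open U.2 hxU
  haveI : IsNoetherianRing Γ(Y, V) := IsLocallyNoetherian.component_noetherian ⟨V, hV⟩
  letI : Algebra Γ(Y, V) Γ(X, U) := (f.appLE V U e).hom.toAlgebra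
  haveI : Algebra.FiniteType Γ(Y, V) Γ(X, U) := f.finiteType_appLE hV hU e
  haveI : IsNoetherianRing Γ(X, U) := Algebra.FiniteType.isNoetherianRing Γ(Y, V) Γ(X, U)
  set q : Ideal Γ(X, U) := (hU.primeIdealOf ⟨x, hxU⟩).asIdeal with hq
  set P : Ideal Γ(X, U) := (hU.primeIdealOf ⟨genericPoint ↥X, hξU⟩).asIdeal with hP
  set p : Ideal Γ(Y, V) := (hV.primeIdealOf ⟨f.base x, e hxU⟩).asIdeal with hp
  haveI : q.LiesOver p := ⟨(primeIdealOf_comap_appLE f hU hV e x hxU).symm⟩
  have hPle : ∀ Q : Ideal Γ(X, U), Q.IsPrime → P ≤ Q := primeIdealOf_genericPoint_le hU hξU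
  have hPq : P ≤ q := hPle q inferInstance
  have hP₀ : P.under Γ(Y, V) = (hV.primeIdealOf ⟨f.base (genericPoint ↥X), e hξU⟩).asIdeal := by
    rw [← primeIdealOf_comap_appLE f hU hV e (genericPoint ↥X) hξU]
    rfl
  have hηV : genericPoint ↥Y ∈ V := by
    rw [← base_genericPoint_eq' f]; exact e hξU
  have hP₀' : P.under Γ(Y, V) = (hV.primeIdealOf ⟨genericPoint ↥Y, hηV⟩).asIdeal := by
    rw [hP₀]
    congr 2
    exact Subtype.ext (base_genericPoint_eq' f)
  have hP₀le : ∀ Q : Ideal Γ(Y, V), Q.IsPrime → P.under Γ(Y, V) ≤ Q := by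
    rw [hP₀']
    exact primeIdealOf_genericPoint_le hV hηV
  have hcat : CAlg.IsUniversallyCatenary (Localization.AtPrime p) := by
    have := hV.isLocalization_stalk ⟨f.base x, e hxU⟩
    let _ := Y.presheaf.algebra_section_stalk (U := V) ⟨f.base x, e hxU⟩
    exact isUniversallyCatenary_of_ringEquiv
      (IsLocalization.algEquiv p.primeCompl (Y.presheaf.stalk (f.base x))
        (Localization.AtPrime p)).toRingEquiv hcatY
  have h1 := height_map_add_eq Γ(Y, V) Γ(X, U) p q P hPq hcat n (genTrdeg f)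
    (by rw [← trdeg_residueFieldMap_eq_trdeg_quotient f hU hV e x hxU p q hq hp]; exact hn)
    (by
      rw [← trdeg_residueFieldMap_eq_trdeg_quotient f hU hV e (genericPoint ↥X) hξU
        (P.under Γ(Y, V)) P hP hP₀]
      exact trdeg_genericPoint_eq f)
  haveI : (P.under Γ(Y, V)).IsPrime := by
    rw [hP₀]; exact (hV.primeIdealOf _).2
  rw [height_map_mk_eq_of_forall_le P hPle q,
    height_map_mk_eq_of_forall_le (P.under Γ(Y, V)) hP₀le p] at h1
  rw [ringKrullDim_stalk_eq_height hU x hxU, ringKrullDim_stalk_eq_height hV (f.base x) (e hxU)]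
  exact_mod_cast h1

section Main

variable {X Y : Scheme.{u}} [IrreducibleSpace X] [IrreducibleSpace Y] [IsLocallyNoetherian Y]
  (f : X ⟶ Y) [LocallyOfFiniteType f] [IsDominant f]

theorem topologicalKrullDim_fiber_genericPoint :
    topologicalKrullDim ↥(f.fiber (genericPoint ↥Y)) = (genTrdeg f : WithBot ℕ∞) := by
  rw [← base_genericPoint_eq' f, topologicalKrullDim_fiber_base_genericPoint]

/-- `dim X ≤ dim Y + e`. -/
theorem topologicalKrullDim_le_add_genTrdeg :
    topologicalKrullDim ↥X ≤ topologicalKrullDim ↥Y + (genTrdeg f : WithBot ℕ∞) := by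
  refine topologicalKrullDim_le_add_of_trdeg_le f (genTrdeg f) fun ξ hξ => ?_
  obtain rfl := eq_genericPoint_of_mem_irreducibleComponents ξ hξ
  exact (trdeg_genericPoint_eq f).le

theorem ringKrullDim_stalk_le_add_genTrdeg (x : X) :
    ringKrullDim (X.presheaf.stalk x) ≤
      ringKrullDim (Y.presheaf.stalk (f.base x)) + (genTrdeg f : WithBot ℕ∞) := by
  obtain ⟨n, hn⟩ := exists_trdeg_residueFieldMap_eq_nat f x
  have h1 := ringKrullDim_stalk_add_le f x n (genTrdeg f) hn (fun ξ hξ _ => by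
    obtain rfl := eq_genericPoint_of_mem_irreducibleComponents ξ hξ
    exact (trdeg_genericPoint_eq f).le)
  have h0 : (0 : WithBot ℕ∞) ≤ (n : WithBot ℕ∞) := by exact_mod_cast Nat.zero_le n
  exact (le_add_of_nonneg_right h0).trans h1

/-- Over a point `y` in the image with universally catenary local ring there is a point `x` with
`dim O_{X,x} = dim O_{Y,y} + e`. -/
theorem exists_ringKrullDim_stalk_eq_add (y : Y) (hy : y ∈ Set.range f.base)
    (hcat : CAlg.IsUniversallyCatenary (Y.presheaf.stalk y)) :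
    ∃ x : X, f.base x = y ∧ ringKrullDim (X.presheaf.stalk x) =
      ringKrullDim (Y.presheaf.stalk y) + (genTrdeg f : WithBot ℕ∞) := by
  obtain ⟨z, hz⟩ := exists_isClosed_singleton_fiber f y hy
  letI : (f.fiber y).Over (Spec (CommRingCat.of (Y.residueField y))) :=
    ⟨f.fiberToSpecResidueField y⟩
  haveI : LocallyOfFiniteType ((f.fiber y) ↘ Spec (CommRingCat.of (Y.residueField y))) :=
    locallyOfFiniteType_fiberToSpecResidueField f y
  have h0 : trdegNat (Y.residueField y) (f.fiber y) z = 0 :=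
    trdegNat_eq_of_trdeg_eq _ _ z 0 (by
      rw [trdeg_eq_zero_of_isClosed (Y.residueField y) (f.fiber y) z hz]; simp)
  have hfz : f.base (f.fiberι y z) = y := (f.fiberHomeo y z).2
  refine ⟨f.fiberι y z, hfz, ?_⟩
  have h1 := trdeg_residueFieldMap_eq_trdegNat_fiber f y z (f.fiberι y z) rfl
  rw [h0] at h1
  have h2 := ringKrullDim_stalk_add_eq f (f.fiberι y z) 0 (by rw [hfz]; exact hcat) h1
  rw [hfz] at h2
  simpa using h2

theorem add_le_add_right_cancel (a b : WithBot ℕ∞) (e : ℕ)
    (h : a + (e : WithBot ℕ∞) ≤ b + (e : WithBot ℕ∞)) : a ≤ b := by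
  induction a using WithBot.recBotCoe with
  | bot => exact bot_le
  | coe a =>
    induction b using WithBot.recBotCoe with
    | bot =>
      rw [WithBot.bot_add] at h
      exact absurd h (by
        rw [le_bot_iff]
        exact WithBot.coe_ne_bot (a := a + (e : ℕ∞)))
    | coe b =>
      have h' : a + (e : ℕ∞) ≤ b + (e : ℕ∞) := by exact_mod_cast h
      rw [ENat.add_le_add_iff_right (ENat.coe_ne_top e)] at h'
      exact_mod_cast h'

/-- EGA IV 5.6.5. -/
theorem dim_eq_iff (hY : ∀ y : Y, CAlg.IsUniversallyCatenary (Y.presheaf.stalk y)) :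
    topologicalKrullDim ↥X = topologicalKrullDim ↥Y + (genTrdeg f : WithBot ℕ∞) ↔
      topologicalKrullDim ↥Y = ⨆ y ∈ Set.range f.base, ringKrullDim (Y.presheaf.stalk y) := by
  constructor
  · intro h
    apply le_antisymm
    · apply add_le_add_right_cancel _ _ (genTrdeg f)
      rw [← h, topologicalKrullDim_eq_iSup_ringKrullDim_stalk X]
      refine iSup_le fun x => ?_
      refine (ringKrullDim_stalk_le_add_genTrdeg f x).trans ?_
      gcongr
      exact le_iSup₂_of_le (f.base x) ⟨x, rfl⟩ le_rfl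
    · exact iSup₂_le fun y _ => ringKrullDim_stalk_le_topologicalKrullDim Y y
  · intro h
    refine le_antisymm (topologicalKrullDim_le_add_genTrdeg f) ?_
    refine Groth.Agent.Lib.Helper4.WithBotENat.add_le_of_forall_nat _ _ _ fun d m hd hm => ?_
    rw [h] at hd
    obtain ⟨y, hy⟩ := Groth.Agent.Lib.Helper4.WithBotENat.exists_le_of_natCast_le_iSup _ d hd
    obtain ⟨hyr, hy⟩ := Groth.Agent.Lib.Helper4.WithBotENat.exists_le_of_natCast_le_iSup _ d hy
    obtain ⟨x, -, hx⟩ := exists_ringKrullDim_stalk_eq_add f y hyr (hY y)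
    refine le_trans ?_ (ringKrullDim_stalk_le_topologicalKrullDim X x)
    rw [hx]
    push_cast
    exact add_le_add hy hm

end Main

section Fibres

theorem surjective_of_le_dim_fiber {X Y : Scheme.{u}} (f : X ⟶ Y) (n : ℕ)
    (h : ∀ y : Y, (n : WithBot ℕ∞) ≤ topologicalKrullDim ↥(f.fiber y)) :
    Function.Surjective f.base := by
  intro y
  by_contra hcon
  haveI : IsEmpty ↥(f.fiber y) := ⟨fun z => hcon ⟨f.fiberι y z, (f.fiberHomeo y z).2⟩⟩
  have h1 := h y
  rw [topologicalKrullDim_eq_bot_of_isEmpty, le_bot_iff] at h1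
  exact WithBot.coe_ne_bot h1

theorem irreducibleSpace_of_surjective {X Y : Scheme.{u}} [IrreducibleSpace X] (f : X ⟶ Y)
    (hf : Function.Surjective f.base) : IrreducibleSpace Y := by
  have h1 : IsIrreducible (f.base '' Set.univ) :=
    (IrreducibleSpace.isIrreducible_univ X).image _ f.continuous.continuousOn
  rw [Set.image_univ, hf.range_eq] at h1
  exact (irreducibleSpace_def Y).mpr h1

variable {X Y : Scheme.{u}} [IrreducibleSpace X] [IrreducibleSpace Y] [IsLocallyNoetherian Y]
  (f : X ⟶ Y) [LocallyOfFiniteType f] [IsDominant f]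

theorem add_le_of_le_dim_fiber (hY : ∀ y : Y, CAlg.IsUniversallyCatenary (Y.presheaf.stalk y))
    (n : ℕ) (h : ∀ y : Y, (n : WithBot ℕ∞) ≤ topologicalKrullDim ↥(f.fiber y)) :
    topologicalKrullDim ↥Y + (n : WithBot ℕ∞) ≤ topologicalKrullDim ↥X := by
  have hsurj := surjective_of_le_dim_fiber f n h
  have hne : (n : WithBot ℕ∞) ≤ (genTrdeg f : WithBot ℕ∞) := by
    rw [← topologicalKrullDim_fiber_genericPoint f]
    exact h _
  refine Groth.Agent.Lib.Helper4.WithBotENat.add_le_of_forall_nat _ _ _ fun d m hd hm => ?_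
  rw [topologicalKrullDim_eq_iSup_ringKrullDim_stalk Y] at hd
  obtain ⟨y, hy⟩ := Groth.Agent.Lib.Helper4.WithBotENat.exists_le_of_natCast_le_iSup _ d hd
  obtain ⟨x, -, hx⟩ := exists_ringKrullDim_stalk_eq_add f y (hsurj y) (hY y)
  refine le_trans ?_ (ringKrullDim_stalk_le_topologicalKrullDim X x)
  rw [hx]
  push_cast
  exact add_le_add hy (hm.trans hne)

theorem eq_add_of_dim_fiber_eq (hY : ∀ y : Y, CAlg.IsUniversallyCatenary (Y.presheaf.stalk y))
    (n : ℕ) (h : ∀ y : Y, topologicalKrullDim ↥(f.fiber y) = (n : WithBot ℕ∞)) :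
    topologicalKrullDim ↥X = topologicalKrullDim ↥Y + (n : WithBot ℕ∞) := by
  refine le_antisymm ?_ (add_le_of_le_dim_fiber f hY n fun y => (h y).ge)
  have h1 := topologicalKrullDim_le_add_genTrdeg f
  rw [← topologicalKrullDim_fiber_genericPoint f, h] at h1
  exact h1

end Fibres

end Groth.Agent.Lib.Helper6.DimEq
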