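import Mathlib
import Groth.Agent.Lib.Helper4DimFormulaT
import Groth.Agent.Lib.Helper4DimFormulaS
import Groth.Agent.Lib.Helper6DimEq

set_option autoImplicit false
set_option linter.style.haveILetI false

universe u

open AlgebraicGeometry CategoryTheory TopologicalSpace Topology

namespace Groth.Agent.Lib.Helper6.GenFib

open Groth.Agent.Lib.Helper4.VarDim Groth.Agent.Lib.Helper4.FibDim
  Groth.Agent.Lib.Helper4.DimFormula

section Top

/-- A constructible set is a neighbourhood of a "generic" point or its complement is. -/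
theorem exists_open_subset_or_of_isConstructible {S : Type*} [TopologicalSpace S] (η : S)
    (hη : ∀ U : Set S, IsOpen U → U.Nonempty → η ∈ U) {C : Set S} (hC : IsConstructible C) :
    ∃ U : Set S, IsOpen U ∧ η ∈ U ∧ (U ⊆ C ∨ U ⊆ Cᶜ) := by
  induction hC using IsConstructible.empty_union_induction with
  | open_retrocompact U hUo _ =>
    by_cases hU : U.Nonempty
    · exact ⟨U, hUo, hη U hUo hU, Or.inl le_rfl⟩
    · refine ⟨Set.univ, isOpen_univ, trivial, Or.inr ?_⟩
      rw [Set.not_nonempty_iff_eq_empty.mp hU]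
      simp
  | union s _ t _ hs ht =>
    obtain ⟨U, hUo, hηU, hU⟩ := hs
    obtain ⟨V, hVo, hηV, hV⟩ := ht
    rcases hU with hU | hU
    · exact ⟨U, hUo, hηU, Or.inl (hU.trans Set.subset_union_left)⟩
    · rcases hV with hV | hV
      · exact ⟨V, hVo, hηV, Or.inl (hV.trans Set.subset_union_right)⟩
      · refine ⟨U ∩ V, hUo.inter hVo, ⟨hηU, hηV⟩, Or.inr ?_⟩
        rw [Set.compl_union]
        exact Set.inter_subset_inter hU hV
  | compl s _ hs =>
    obtain ⟨U, hUo, hηU, hU⟩ := hs
    refine ⟨U, hUo, hηU, ?_⟩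
    rcases hU with hU | hU
    · exact Or.inr (by rwa [compl_compl])
    · exact Or.inl hU

theorem preimage_mem_irreducibleComponents {A B : Type*} [TopologicalSpace A] [TopologicalSpace B]
    (h : A ≃ₜ B) (T : Set B) (hT : T ∈ irreducibleComponents B) :
    h ⁻¹' T ∈ irreducibleComponents A := by
  refine ⟨?_, fun S hS hTS => ?_⟩
  · have h0 : h ⁻¹' T = h.symm '' T := by
      ext a
      simp only [Set.mem_preimage, Set.mem_image]
      constructor
      · intro ha
        exact ⟨h a, ha, by simp⟩
      · rintro ⟨b, hb, rfl⟩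
        simpa using hb
    rw [h0]
    exact hT.1.image _ h.symm.continuous.continuousOn
  · have h1 : IsIrreducible (h '' S) := hS.image _ h.continuous.continuousOn
    have h2 : T ≤ h '' S := by
      intro t ht
      exact ⟨h.symm t, hTS (by simpa using ht), by simp⟩
    have h3 := hT.2 h1 h2
    intro a ha
    exact h3 ⟨a, ha, rfl⟩

theorem topologicalKrullDim_preimage_homeomorph {A B : Type*} [TopologicalSpace A]
    [TopologicalSpace B] (h : A ≃ₜ B) (T : Set B) :
    topologicalKrullDim ↥(h ⁻¹' T) = topologicalKrullDim ↥T :=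
  IsHomeomorph.topologicalKrullDim_eq _
    (h.subtype (p := fun a => a ∈ h ⁻¹' T) (q := fun b => b ∈ T) (fun _ => Iff.rfl)).isHomeomorph

end Top

section Main

variable {X S : Scheme.{u}} (f : X ⟶ S) [IsNoetherian S] [IrreducibleSpace S] [IrreducibleSpace X]
  [IsDominant f] [LocallyOfFiniteType f] [QuasiCompact f]

/-- EGA IV 9.5.6-type statement: generically, all irreducible components of the fibres have the
dimension of the generic fibre. -/
theorem exists_nhd_forall_irreducibleComponents_fibre_dim_eq :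
    ∃ U : S.Opens, genericPoint S ∈ U ∧ ∀ s ∈ U, ∀ T ∈ irreducibleComponents ↥(⇑f ⁻¹' {s}),
      topologicalKrullDim ↥T = topologicalKrullDim ↥(⇑f ⁻¹' {genericPoint S}) := by
  have hWo : IsOpen {x : X | FlatMor.fibreDimAt f x ≤ (genTrdeg f : WithBot ℕ∞)} :=
    isOpen_setOf_fibreDimAt_le' f _
  set W : Set X := {x : X | FlatMor.fibreDimAt f x ≤ (genTrdeg f : WithBot ℕ∞)} with hW
  haveI : IsLocallyNoetherian X := LocallyOfFiniteType.isLocallyNoetherian f
  haveI : CompactSpace X := QuasiCompact.compactSpace_of_compactSpace f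
  haveI : IsNoetherian X := {}
  have hZc : IsConstructible Wᶜ := by
    rw [isConstructible_compl]
    exact IsCompact.isConstructible (NoetherianSpace.isCompact _) hWo
  have hC : IsConstructible (f '' Wᶜ) := f.isConstructible_image hZc
  have hdimη : topologicalKrullDim ↥(⇑f ⁻¹' {genericPoint S}) = (genTrdeg f : WithBot ℕ∞) := by
    rw [← IsHomeomorph.topologicalKrullDim_eq _ (f.fiberHomeo (genericPoint S)).isHomeomorph]
    exact Groth.Agent.Lib.Helper6.DimEq.topologicalKrullDim_fiber_genericPoint f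
  have hη : genericPoint S ∉ f '' Wᶜ := by
    rintro ⟨x, hxZ, hx⟩
    apply hxZ
    change FlatMor.fibreDimAt f x ≤ (genTrdeg f : WithBot ℕ∞)
    refine (Groth.Agent.Lib.Helper7.TopDim.localDim_le_dim (f.asFiber x)).trans ?_
    rw [hx, Groth.Agent.Lib.Helper6.DimEq.topologicalKrullDim_fiber_genericPoint f]
  obtain ⟨U, hUo, hηU, hU⟩ := exists_open_subset_or_of_isConstructible (genericPoint S)
    (fun U hU hne => by
      rw [(genericPoint_spec S).mem_open_set_iff hU]
      simpa using hne) hC
  have hUC : U ⊆ (f '' Wᶜ)ᶜ := hU.resolve_left (fun h => hη (h hηU))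
  refine ⟨⟨U, hUo⟩, hηU, fun s hs T hT => ?_⟩
  rw [hdimη]
  have hT' := preimage_mem_irreducibleComponents (f.fiberHomeo s) T hT
  rw [← topologicalKrullDim_preimage_homeomorph (f.fiberHomeo s) T]
  obtain ⟨x, hxs, hmax, hdim⟩ := exists_point_of_mem_irreducibleComponents f s _ hT'
  rw [hdim, ← fibreDimAt_eq_ptTrdeg_of_maximal f x hmax]
  apply le_antisymm
  · by_contra hcon
    exact hUC hs ⟨x, hcon, hxs⟩
  · exact le_fibreDimAt f x

end Main

end Groth.Agent.Lib.Helper6.GenFib
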