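import Mathlib
import Groth.Agent.Lib.Helper6GenFib

set_option autoImplicit false
set_option linter.style.haveILetI false

universe u

open AlgebraicGeometry CategoryTheory TopologicalSpace Topology

namespace Groth.Agent.Lib.Helper6.ConsNhd

open Groth.Agent.Lib.Helper6.GenFib

section Top

variable {α : Type*} [TopologicalSpace α]

/-- In a Noetherian quasi-sober space, a constructible set containing all generizations of a point
is a neighbourhood of that point (EGA 0_III 9.2.5). -/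
theorem mem_nhds_of_isConstructible [NoetherianSpace α] [QuasiSober α] {C : Set α}
    (hC : IsConstructible C) (y : α) (hy : ∀ y' : α, y' ⤳ y → y' ∈ C) : C ∈ nhds y := by
  have key : ∀ K : Closeds α, y ∈ K → ∃ U : Set α, IsOpen U ∧ y ∈ U ∧ U ∩ (K : Set α) ⊆ C := by
    intro K
    induction K using WellFoundedLT.induction with
    | ind K ih =>
    intro hyK
    by_cases hirr : IsPreirreducible (K : Set α)
    · have hKirr : IsIrreducible (K : Set α) := ⟨⟨y, hyK⟩, hirr⟩
      obtain ⟨k, hk⟩ := QuasiSober.sober hKirr K.2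
      have hkcl : closure ({k} : Set α) = K := hk.def
      have hkK : k ∈ (K : Set α) := hkcl ▸ subset_closure rfl
      have hky : k ⤳ y := specializes_iff_mem_closure.mpr (hkcl ▸ hyK)
      have hkC : k ∈ C := hy k hky
      -- restrict to the subspace `K`
      have hCK : IsConstructible ((Subtype.val : ↥(K : Set α) → α) ⁻¹' C) :=
        hC.preimage_of_isClosedEmbedding K.2.isClosedEmbedding_subtypeVal
          (NoetherianSpace.isCompact _)
      obtain ⟨Ũ, hŨo, hkŨ, hŨ⟩ := exists_open_subset_or_of_isConstructible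
        (⟨k, hkK⟩ : ↥(K : Set α)) (fun O hO hne => by
          obtain ⟨O', hO', rfl⟩ := isOpen_induced_iff.mp hO
          obtain ⟨⟨a, haK⟩, haO⟩ := hne
          have hka : k ⤳ a := specializes_iff_mem_closure.mpr (hkcl ▸ haK)
          exact hka.mem_open hO' haO) hCK
      have hŨC : Ũ ⊆ (Subtype.val : ↥(K : Set α) → α) ⁻¹' C :=
        hŨ.resolve_right (fun h => h hkŨ hkC)
      obtain ⟨U₀, hU₀o, rfl⟩ := isOpen_induced_iff.mp hŨo
      have hU₀K : U₀ ∩ (K : Set α) ⊆ C := fun a ⟨haU, haK⟩ => hŨC (show (⟨a, haK⟩ : ↥(K : Set α)) ∈ _ from haU)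
      by_cases hyU₀ : y ∈ U₀
      · exact ⟨U₀, hU₀o, hyU₀, hU₀K⟩
      · let K' : Closeds α := ⟨(K : Set α) ∩ U₀ᶜ, K.2.inter hU₀o.isClosed_compl⟩
        have hK'lt : K' < K := by
          refine lt_of_le_of_ne (fun a ha => ha.1) fun heq => ?_
          have : k ∈ (K' : Set α) := heq ▸ hkK
          exact this.2 hkŨ
        obtain ⟨U', hU'o, hyU', hU'K'⟩ := ih K' hK'lt ⟨hyK, hyU₀⟩
        refine ⟨U', hU'o, hyU', fun a ⟨haU', haK⟩ => ?_⟩
        by_cases haU₀ : a ∈ U₀
        · exact hU₀K ⟨haU₀, haK⟩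
        · exact hU'K' ⟨haU', haK, haU₀⟩
    · rw [isPreirreducible_iff_isClosed_union_isClosed] at hirr
      push Not at hirr
      obtain ⟨z₁, z₂, hz₁, hz₂, hcov, hn₁, hn₂⟩ := hirr
      let K₁ : Closeds α := ⟨(K : Set α) ∩ z₁, K.2.inter hz₁⟩
      let K₂ : Closeds α := ⟨(K : Set α) ∩ z₂, K.2.inter hz₂⟩
      have hK₁ : K₁ < K := lt_of_le_of_ne (fun a ha => ha.1) fun heq =>
        hn₁ (fun a ha => ((heq ▸ ha : a ∈ (K₁ : Set α))).2)
      have hK₂ : K₂ < K := lt_of_le_of_ne (fun a ha => ha.1) fun heq =>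
        hn₂ (fun a ha => ((heq ▸ ha : a ∈ (K₂ : Set α))).2)
      have aux : ∀ K' : Closeds α, K' < K →
          ∃ U : Set α, IsOpen U ∧ y ∈ U ∧ U ∩ (K' : Set α) ⊆ C := by
        intro K' hK'
        by_cases hyK' : y ∈ K'
        · exact ih K' hK' hyK'
        · exact ⟨(K' : Set α)ᶜ, K'.2.isOpen_compl, hyK', fun a ⟨h1, h2⟩ => absurd h2 h1⟩
      obtain ⟨U₁, hU₁o, hyU₁, hU₁⟩ := aux K₁ hK₁
      obtain ⟨U₂, hU₂o, hyU₂, hU₂⟩ := aux K₂ hK₂
      refine ⟨U₁ ∩ U₂, hU₁o.inter hU₂o, ⟨hyU₁, hyU₂⟩, fun a ⟨⟨ha1, ha2⟩, haK⟩ => ?_⟩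
      rcases hcov haK with h | h
      · exact hU₁ ⟨ha1, haK, h⟩
      · exact hU₂ ⟨ha2, haK, h⟩
  obtain ⟨U, hUo, hyU, hU⟩ := key ⊤ trivial
  refine Filter.mem_of_superset (hUo.mem_nhds hyU) fun a ha => hU ⟨ha, trivial⟩

end Top

section Sch

theorem isLocallyConstructible_compl {α : Type*} [TopologicalSpace α] {s : Set α}
    (hs : IsLocallyConstructible s) : IsLocallyConstructible sᶜ := by
  intro x
  obtain ⟨U, hU, hUo, h⟩ := hs x
  refine ⟨U, hU, hUo, ?_⟩
  rw [Set.preimage_compl]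
  exact h.compl

variable {Y : Scheme.{u}} [IsLocallyNoetherian Y]

/-- In a locally Noetherian scheme, a locally constructible set containing all generizations of a
point is a neighbourhood of it. -/
theorem mem_nhds_of_isLocallyConstructible {C : Set Y} (hC : IsLocallyConstructible C) (y : Y)
    (hy : ∀ y' : Y, y' ⤳ y → y' ∈ C) : C ∈ nhds y := by
  obtain ⟨V, hV, hyV, -⟩ := exists_isAffineOpen_mem_and_subset (U := ⊤) (x := y) trivial
  haveI : IsNoetherianRing Γ(Y, V) := IsLocallyNoetherian.component_noetherian ⟨V, hV⟩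
  haveI : NoetherianSpace ((V : Set Y) : Type u) := noetherianSpace_of_isAffineOpen V hV
  haveI : QuasiSeparatedSpace ((V : Set Y) : Type u) :=
    ⟨fun _ _ _ _ _ _ => NoetherianSpace.isCompact _⟩
  haveI : QuasiSober ((V : Set Y) : Type u) := V.2.isOpenEmbedding_subtypeVal.quasiSober
  have h1 : IsLocallyConstructible ((Subtype.val : ((V : Set Y) : Type u) → Y) ⁻¹' C) :=
    hC.preimage_of_isOpenEmbedding V.2.isOpenEmbedding_subtypeVal
  have h2 : IsConstructible ((Subtype.val : ((V : Set Y) : Type u) → Y) ⁻¹' C) :=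
    h1.isConstructible
  have h3 := mem_nhds_of_isConstructible h2 (⟨y, hyV⟩ : ((V : Set Y) : Type u)) (fun y' hy' =>
    hy y'.1 (hy'.map continuous_subtype_val))
  have h4 := (V.2.isOpenEmbedding_subtypeVal.image_mem_nhds (x := (⟨y, hyV⟩ : (V : Set Y)))).mpr h3
  exact Filter.mem_of_superset h4 (Set.image_preimage_subset _ _)

theorem isLocallyConstructible_of_isClosed {F : Set Y} (hF : IsClosed F) :
    IsLocallyConstructible F := by
  intro x
  obtain ⟨V, hV, hxV, -⟩ := exists_isAffineOpen_mem_and_subset (U := ⊤) (x := x) trivial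
  haveI : IsNoetherianRing Γ(Y, V) := IsLocallyNoetherian.component_noetherian ⟨V, hV⟩
  haveI : NoetherianSpace ((V : Set Y) : Type u) := noetherianSpace_of_isAffineOpen V hV
  refine ⟨V, V.2.mem_nhds hxV, V.2, ?_⟩
  rw [← isConstructible_compl]
  exact IsCompact.isConstructible (NoetherianSpace.isCompact _)
    (hF.preimage continuous_subtype_val).isOpen_compl

end Sch

end Groth.Agent.Lib.Helper6.ConsNhd
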