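import Groth.Prelude.Def_EGA43
import Mathlib.AlgebraicGeometry.PullbackCarrier

/-!
# Helper lemmas on `EGA43.IsOpenAt` and `EGA43.IsUnivOpenAt`
-/

set_option autoImplicit false
open CategoryTheory AlgebraicGeometry Limits
universe u

namespace Groth.Agent.Lib.Helper7

open EGA43

theorem isOpenAt_comp {α β γ : Type*} [TopologicalSpace α] [TopologicalSpace β]
    [TopologicalSpace γ] (f : α → β) (g : β → γ) (x : α) (hf : IsOpenAt f x)
    (hg : IsOpenAt g (f x)) : IsOpenAt (g ∘ f) x := by
  intro U hU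
  rw [Set.image_comp]
  exact hg _ (hf U hU)

theorem isOpenAt_of_isOpenMap {α β : Type*} [TopologicalSpace α] [TopologicalSpace β]
    {f : α → β} (hf : IsOpenMap f) (x : α) : IsOpenAt f x :=
  fun _ hU => hf.image_mem_nhds hU

theorem isOpenAt_of_isOpenAt_comp {α β γ : Type*} [TopologicalSpace α] [TopologicalSpace β]
    [TopologicalSpace γ] (f : α → β) (hf : Continuous f) (g : β → γ) (x : α)
    (h : IsOpenAt (g ∘ f) x) : IsOpenAt g (f x) := by
  intro U hU
  have h1 : f ⁻¹' U ∈ nhds x := hf.continuousAt.preimage_mem_nhds hU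
  refine Filter.mem_of_superset (h _ h1) ?_
  rintro _ ⟨a, ha, rfl⟩
  exact ⟨f a, ha, rfl⟩

/-- Universal openness at a point can be tested on any pullback square. -/
theorem isOpenAt_of_isPullback {P X Y Y' : Scheme.{u}} {a : P ⟶ X} {b : P ⟶ Y'} {f : X ⟶ Y}
    {g : Y' ⟶ Y} (sq : IsPullback a b f g) (x : X) (h : IsUnivOpenAt f x) (p : P)
    (hp : a.base p = x) : IsOpenAt b.base p := by
  have h1 : IsOpenAt (pullback.snd f g).base (sq.isoPullback.hom.base p) := by
    refine h Y' g _ ?_
    rw [← Scheme.Hom.comp_apply, sq.isoPullback_hom_fst, hp]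
  have h2 : IsOpenAt sq.isoPullback.hom.base p :=
    isOpenAt_of_isOpenMap (sq.isoPullback.hom.homeomorph.isOpenMap) p
  have h3 := isOpenAt_comp _ _ p h2 h1
  have h4 : (pullback.snd f g).base ∘ sq.isoPullback.hom.base = b.base := by
    have := congrArg (fun φ : P ⟶ Y' => (φ.base : P → Y')) sq.isoPullback_hom_snd
    exact this
  rw [← h4]; exact h3

/-- Universal openness at a point is stable under base change. -/
theorem isUnivOpenAt_of_isPullback {P X Y Y' : Scheme.{u}} {a : P ⟶ X} {b : P ⟶ Y'} {f : X ⟶ Y}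
    {g : Y' ⟶ Y} (sq : IsPullback a b f g) (x : X) (h : IsUnivOpenAt f x) (p : P)
    (hp : a.base p = x) : IsUnivOpenAt b p := by
  intro T t z hz
  have sq2 : IsPullback (pullback.fst b t ≫ a) (pullback.snd b t) f (t ≫ g) :=
    (IsPullback.of_hasPullback b t).paste_horiz sq
  refine isOpenAt_of_isPullback sq2 x h z ?_
  rw [Scheme.Hom.comp_apply, hz, hp]

/-- If the base change of `f` along `v` is universally open at the points over `x`, then for every
`t : Y' ⟶ Y` the base change of `f' = snd f t` along `snd v t` is open at the points over a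
point `x'` over `x`. -/
theorem isOpenAt_snd_snd_of_isUnivOpenAt_snd {X Y Y₁ Y' : Scheme.{u}} (v : Y₁ ⟶ Y) (f : X ⟶ Y)
    (x : X)
    (h : ∀ x₁ : ↥(pullback f v), (pullback.fst f v).base x₁ = x →
      IsUnivOpenAt (pullback.snd f v) x₁)
    (t : Y' ⟶ Y) (x' : ↥(pullback f t)) (hx' : (pullback.fst f t).base x' = x)
    (x₁ : ↥(pullback (pullback.snd f t) (pullback.snd v t)))
    (hx₁ : (pullback.fst (pullback.snd f t) (pullback.snd v t)).base x₁ = x') :
    IsOpenAt (pullback.snd (pullback.snd f t) (pullback.snd v t)).base x₁ := by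
  have sqL : IsPullback (pullback.fst (pullback.snd f t) (pullback.snd v t))
      (pullback.snd (pullback.snd f t) (pullback.snd v t)) (pullback.snd f t) (pullback.snd v t) :=
    IsPullback.of_hasPullback _ _
  have sqR : IsPullback (pullback.fst f t) (pullback.snd f t) f t := IsPullback.of_hasPullback _ _
  have sqOuter : IsPullback
      (pullback.fst (pullback.snd f t) (pullback.snd v t) ≫ pullback.fst f t)
      (pullback.snd (pullback.snd f t) (pullback.snd v t)) f (pullback.snd v t ≫ t) :=
    sqL.paste_horiz sqR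
  let a : pullback (pullback.snd f t) (pullback.snd v t) ⟶ pullback f v :=
    pullback.lift (pullback.fst (pullback.snd f t) (pullback.snd v t) ≫ pullback.fst f t)
      (pullback.snd (pullback.snd f t) (pullback.snd v t) ≫ pullback.fst v t)
      (by rw [Category.assoc, Category.assoc, pullback.condition (f := v) (g := t)]
          exact sqOuter.w)
  have ha1 : a ≫ pullback.fst f v =
      pullback.fst (pullback.snd f t) (pullback.snd v t) ≫ pullback.fst f t :=
    pullback.lift_fst _ _ _
  have ha2 : a ≫ pullback.snd f v =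
      pullback.snd (pullback.snd f t) (pullback.snd v t) ≫ pullback.fst v t :=
    pullback.lift_snd _ _ _
  have sqOuter' : IsPullback (a ≫ pullback.fst f v)
      (pullback.snd (pullback.snd f t) (pullback.snd v t)) f (pullback.fst v t ≫ v) := by
    rw [ha1, pullback.condition (f := v) (g := t)]
    exact sqOuter
  have sq : IsPullback a (pullback.snd (pullback.snd f t) (pullback.snd v t))
      (pullback.snd f v) (pullback.fst v t) :=
    IsPullback.of_right sqOuter' ha2 (IsPullback.of_hasPullback f v)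
  have hax : (pullback.fst f v).base (a.base x₁) = x := by
    rw [← Scheme.Hom.comp_apply, ha1, Scheme.Hom.comp_apply, hx₁, hx']
  exact isOpenAt_of_isPullback sq (a.base x₁) (h _ hax) x₁ rfl

/-- Topological transfer: openness at a point of one side of a commutative square over an
inducing map gives openness of the restriction to the preimage of its range. -/
theorem isOpenAt_restrictPreimage_of_square {A B B₁ W : Type*} [TopologicalSpace A]
    [TopologicalSpace B] [TopologicalSpace B₁] [TopologicalSpace W] (f' : A → B) (j : B₁ → B)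
    (hj : Topology.IsInducing j) (p₁ : W → A) (hp₁ : Continuous p₁) (p₂ : W → B₁)
    (hsq : ∀ w, f' (p₁ w) = j (p₂ w)) (w : W) (hw : IsOpenAt p₂ w)
    (hmem : f' (p₁ w) ∈ Set.range j) :
    IsOpenAt ((Set.range j).restrictPreimage f') ⟨p₁ w, hmem⟩ := by
  intro N hN
  rw [nhds_subtype_eq_comap] at hN
  obtain ⟨U, hU, hUN⟩ := hN
  have h1 : p₁ ⁻¹' U ∈ nhds w := hp₁.continuousAt.preimage_mem_nhds hU
  have h2 : p₂ '' (p₁ ⁻¹' U) ∈ nhds (p₂ w) := hw _ h1
  rw [hj.nhds_eq_comap] at h2
  obtain ⟨V, hV, hVs⟩ := h2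
  have h3 : (Subtype.val ⁻¹' V : Set ↥(Set.range j)) ∈
      nhds ((Set.range j).restrictPreimage f' ⟨p₁ w, hmem⟩) := by
    rw [nhds_subtype_eq_comap]
    refine ⟨V, ?_, subset_rfl⟩
    have : ((Set.range j).restrictPreimage f' ⟨p₁ w, hmem⟩ : B) = j (p₂ w) := hsq w
    rw [this]; exact hV
  refine Filter.mem_of_superset h3 ?_
  rintro ⟨b, b₁, rfl⟩ hb
  have hb₁ : b₁ ∈ j ⁻¹' V := hb
  obtain ⟨w', hw'U, rfl⟩ := hVs hb₁
  refine ⟨⟨p₁ w', ?_⟩, hUN hw'U, ?_⟩
  · exact ⟨p₂ w', (hsq w').symm⟩
  · exact Subtype.ext (hsq w')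

end Groth.Agent.Lib.Helper7
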