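import Mathlib
import Groth.Agent.Lib.Helper6ConsNhd
import Groth.Agent.Lib.Helper6OpenDimE
import Groth.Agent.Lib.Helper4FibDimK
import Groth.Agent.Lib.Helper7UnivOpen

set_option autoImplicit false
set_option linter.style.haveILetI false

universe u

open AlgebraicGeometry CategoryTheory TopologicalSpace Topology

namespace Groth.Agent.Lib.Helper6.OpenDim

open Groth.Agent.Lib.Helper4.VarDim Groth.Agent.Lib.Helper4.FibDim
  Groth.Agent.Lib.Helper4.DimFormula Groth.Agent.Lib.Helper6.ConsNhd

section Cons

variable {X Y : Scheme.{u}} [IsLocallyNoetherian Y] (f : X ⟶ Y) [LocallyOfFiniteType f]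
  [QuasiCompact f]

theorem isLocallyConstructible_image_of_isClosed {F : Set X} (hF : IsClosed F) :
    IsLocallyConstructible (f.base '' F) := by
  haveI : IsLocallyNoetherian X := LocallyOfFiniteType.isLocallyNoetherian f
  exact f.isLocallyConstructible_image (isLocallyConstructible_of_isClosed hF)

theorem isLocallyConstructible_setOf_dim_fiber_le (c : WithBot ℕ∞) :
    IsLocallyConstructible {s : Y | topologicalKrullDim ↥(f.fiber s) ≤ c} := by
  have h : {s : Y | topologicalKrullDim ↥(f.fiber s) ≤ c}ᶜ =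
      f.base '' {x : X | FlatMor.fibreDimAt f x ≤ c}ᶜ := by
    ext s
    simp only [Set.mem_compl_iff, Set.mem_ofPred_eq, Set.mem_image,
      topologicalKrullDim_fiber_le_iff, not_forall]
    constructor
    · rintro ⟨x, hx, h⟩
      exact ⟨x, h, hx⟩
    · rintro ⟨x, h, hx⟩
      exact ⟨x, hx, h⟩
  have h2 := isLocallyConstructible_compl (isLocallyConstructible_image_of_isClosed f
    (isOpen_setOf_fibreDimAt_le' f c).isClosed_compl)
  rw [← h, compl_compl] at h2
  exact h2

theorem isLocallyConstructible_setOf_natCast_le_dim_fiber (m : ℕ) :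
    IsLocallyConstructible {s : Y | ((m : ℕ) : WithBot ℕ∞) ≤ topologicalKrullDim ↥(f.fiber s)} := by
  rw [setOf_natCast_le_dim_fiber_eq_image]
  exact isLocallyConstructible_image_of_isClosed f (isClosed_setOf_natCast_le_fibreDimAt f m)

attribute [local instance] Curv2.resAlgebra

omit [IsLocallyNoetherian Y] in
theorem topologicalKrullDim_fiber_ne_top (y : Y) : topologicalKrullDim ↥(f.fiber y) ≠ ⊤ := by
  letI : (f.fiber y).Over (Spec (CommRingCat.of (Y.residueField y))) :=
    ⟨f.fiberToSpecResidueField y⟩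
  haveI : LocallyOfFiniteType ((f.fiber y) ↘ Spec (CommRingCat.of (Y.residueField y))) :=
    locallyOfFiniteType_fiberToSpecResidueField f _
  obtain ⟨N, hN⟩ := exists_trdegNat_le (Y.residueField y) (f.fiber y)
  have h1 : topologicalKrullDim ↥(f.fiber y) ≤ (N : WithBot ℕ∞) := by
    rw [topologicalKrullDim_eq_iSup_trdegNat (Y.residueField y)]
    exact iSup_le fun z => by exact_mod_cast hN z
  intro htop
  rw [htop] at h1
  have h2 : ((⊤ : ℕ∞) : WithBot ℕ∞) ≤ ((N : ℕ∞) : WithBot ℕ∞) := h1
  rw [WithBot.coe_le_coe, top_le_iff] at h2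
  exact ENat.coe_ne_top N h2

/-- If all generizations of `y` have fibre dimension `dim X_y`, then the fibre dimension is constant
near `y`. -/
theorem exists_nhds_dim_fiber_eq (y : Y)
    (hgen : ∀ y' : Y, y' ⤳ y →
      topologicalKrullDim ↥(f.fiber y') = topologicalKrullDim ↥(f.fiber y)) :
    ∃ V ∈ nhds y, ∀ z ∈ V,
      topologicalKrullDim ↥(f.fiber z) = topologicalKrullDim ↥(f.fiber y) := by
  have h2 : {s : Y | topologicalKrullDim ↥(f.fiber s) ≤ topologicalKrullDim ↥(f.fiber y)} ∈ nhds y :=
    mem_nhds_of_isLocallyConstructible (isLocallyConstructible_setOf_dim_fiber_le f _) y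
      (fun y' hy' => (hgen y' hy').le)
  have h1 : {s : Y | topologicalKrullDim ↥(f.fiber y) ≤ topologicalKrullDim ↥(f.fiber s)} ∈ nhds y := by
    have hne := topologicalKrullDim_fiber_ne_top f y
    induction hn : topologicalKrullDim ↥(f.fiber y) using WithBot.recBotCoe with
    | bot => simp
    | coe n =>
      induction n using ENat.recTopCoe with
      | top => exact absurd hn hne
      | coe m =>
        refine mem_nhds_of_isLocallyConstructible
          (isLocallyConstructible_setOf_natCast_le_dim_fiber f m) y (fun y' hy' => ?_)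
        change ((m : ℕ) : WithBot ℕ∞) ≤ _
        rw [hgen y' hy', hn]
        rfl
  exact ⟨_, Filter.inter_mem h1 h2, fun z hz => le_antisymm hz.2 hz.1⟩

end Cons

section Const

variable {X Y : Scheme.{u}} [IsLocallyNoetherian Y] (f : X ⟶ Y)

/-- EGA IV 14.2.4: `f` proper, open at all points of `X_y` ⇒ fibre dimension constant near `y`. -/
theorem exists_nhds_dim_fiber_eq_of_isProper [IsProper f] (y : Y)
    (h : ∀ x : X, f.base x = y → EGA43.IsOpenAt f.base x) :
    ∃ V ∈ nhds y, ∀ z ∈ V,
      topologicalKrullDim ↥(f.fiber z) = topologicalKrullDim ↥(f.fiber y) := by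
  refine exists_nhds_dim_fiber_eq f y fun y' hy' => le_antisymm ?_ ?_
  · have hopen := isOpen_setOf_dim_fiber_le f f.isClosedMap (topologicalKrullDim ↥(f.fiber y))
    have hy : y ∈ {s : Y | topologicalKrullDim ↥(f.fiber s) ≤ topologicalKrullDim ↥(f.fiber y)} := by
      rw [Set.mem_ofPred_eq]
    exact hy'.mem_open hopen hy
  · exact topologicalKrullDim_fiber_le_of_isOpenAt f y y' hy' h

/-- EGA IV 14.2.5: `f` open of finite type, `dim X_y = dim X_η` for the generic points `η` of the
components of `Y` through `y` ⇒ fibre dimension constant near `y`. -/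
theorem exists_nhds_dim_fiber_eq_of_isOpenMap [LocallyOfFiniteType f] [QuasiCompact f]
    (hf : IsOpenMap f.base) (y : Y)
    (h : ∀ η : Y, y ∈ closure {η} → closure {η} ∈ irreducibleComponents (Y : Type u) →
      topologicalKrullDim ↥(f.fiber y) = topologicalKrullDim ↥(f.fiber η)) :
    ∃ V ∈ nhds y, ∀ z ∈ V,
      topologicalKrullDim ↥(f.fiber z) = topologicalKrullDim ↥(f.fiber y) := by
  have hop : ∀ x : X, EGA43.IsOpenAt f.base x := fun x =>
    Groth.Agent.Lib.Helper7.isOpenAt_of_isOpenMap hf x
  refine exists_nhds_dim_fiber_eq f y fun y' hy' => le_antisymm ?_ ?_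
  · obtain ⟨η, hη, hηy'⟩ := exists_generic_specializes y'
    have h1 := topologicalKrullDim_fiber_le_of_isOpenAt f y' η hηy' (fun x _ => hop x)
    rw [h η (specializes_iff_mem_closure.mp (hηy'.trans hy')) hη]
    exact h1
  · exact topologicalKrullDim_fiber_le_of_isOpenAt f y y' hy' (fun x _ => hop x)

end Const

end Groth.Agent.Lib.Helper6.OpenDim
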