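import Mathlib
import Groth.Agent.Lib.Helper6OpenDimG

set_option autoImplicit false
set_option linter.style.haveILetI false

universe u

open AlgebraicGeometry CategoryTheory TopologicalSpace Topology

namespace Groth.Agent.Lib.Helper6.OpenDim

open Groth.Agent.Lib.Helper4.VarDim Groth.Agent.Lib.Helper4.FibDim
  Groth.Agent.Lib.Helper4.DimFormula Groth.Agent.Lib.Helper6.ConsNhd

section InterFibre

variable {X Y : Scheme.{u}} (f : X ⟶ Y)

theorem localDim_inter_fibre (U : Set X) (hU : IsOpen U) (x : X) (hxU : x ∈ U) :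
    FlatMor.localDim ↥(U ∩ f.base ⁻¹' {f.base x}) ⟨x, hxU, rfl⟩ = FlatMor.fibreDimAt f x := by
  have e2 : IsOpenEmbedding (Set.inclusion (Set.inter_subset_right :
      U ∩ f.base ⁻¹' {f.base x} ⊆ f.base ⁻¹' {f.base x})) :=
    isOpenEmbedding_inclusion_of_eq_inter _ U hU rfl
  have h2 := localDim_eq_of_isOpenEmbedding e2 ⟨x, hxU, rfl⟩
  rw [h2, fibreDimAt_eq_fibLD]
  rfl

theorem topologicalKrullDim_inter_fibre_le (U : Set X) (hU : IsOpen U) (z : Y) (c : WithBot ℕ∞)
    (h : ∀ x ∈ U, f.base x = z → FlatMor.fibreDimAt f x ≤ c) :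
    topologicalKrullDim ↥(U ∩ f.base ⁻¹' {z}) ≤ c := by
  rw [Groth.Agent.Lib.Helper7.TopDim.topologicalKrullDim_eq_iSup_localDim]
  refine iSup_le fun a => ?_
  obtain ⟨x, hxU, hxz⟩ := a
  have hxz' : f.base x = z := hxz
  subst hxz'
  rw [localDim_inter_fibre f U hU x hxU]
  exact h x hxU rfl

theorem le_topologicalKrullDim_inter_fibre (U : Set X) (hU : IsOpen U) (x : X) (hxU : x ∈ U) :
    FlatMor.fibreDimAt f x ≤ topologicalKrullDim ↥(U ∩ f.base ⁻¹' {f.base x}) := by
  rw [← localDim_inter_fibre f U hU x hxU]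
  exact Groth.Agent.Lib.Helper7.TopDim.localDim_le_dim _

end InterFibre

section Level

variable {X Y : Scheme.{u}} [IsLocallyNoetherian Y] (f : X ⟶ Y) [LocallyOfFiniteType f]
  [QuasiCompact f]

theorem setOf_fibreDimAt_eq (m : ℕ) :
    {x : X | FlatMor.fibreDimAt f x = ((m : ℕ) : WithBot ℕ∞)} =
      {x : X | ((m : ℕ) : WithBot ℕ∞) ≤ FlatMor.fibreDimAt f x} ∩
        {x : X | ((m + 1 : ℕ) : WithBot ℕ∞) ≤ FlatMor.fibreDimAt f x}ᶜ := by
  ext x
  simp only [Set.mem_ofPred_eq, Set.mem_inter_iff, Set.mem_compl_iff, not_le]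
  constructor
  · intro h
    rw [h]
    exact ⟨le_rfl, by exact_mod_cast Nat.lt_succ_self m⟩
  · rintro ⟨h1, h2⟩
    exact le_antisymm (le_of_lt_natCast_succ _ m h2) h1

theorem isLocallyConstructible_image_setOf_fibreDimAt_eq (m : ℕ) :
    IsLocallyConstructible (f.base '' {x : X | FlatMor.fibreDimAt f x = ((m : ℕ) : WithBot ℕ∞)}) := by
  haveI : IsLocallyNoetherian X := LocallyOfFiniteType.isLocallyNoetherian f
  rw [setOf_fibreDimAt_eq]
  exact f.isLocallyConstructible_image
    ((isLocallyConstructible_of_isClosed (isClosed_setOf_natCast_le_fibreDimAt f m)).inter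
      (isLocallyConstructible_compl
        (isLocallyConstructible_of_isClosed (isClosed_setOf_natCast_le_fibreDimAt f (m + 1)))))

attribute [local instance] Curv2.resAlgebra

omit [IsLocallyNoetherian Y] [QuasiCompact f] in
theorem exists_maximal_ptTrdeg_eq_of_dim_fiber_eq (y : Y) (m : ℕ)
    (hm : topologicalKrullDim ↥(f.fiber y) = ((m : ℕ) : WithBot ℕ∞)) :
    ∃ x : X, f.base x = y ∧ (∀ x' : X, f.base x' = f.base x → x' ⤳ x → x' = x) ∧
      ptTrdeg f x = m := by
  letI : (f.fiber y).Over (Spec (CommRingCat.of (Y.residueField y))) :=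
    ⟨f.fiberToSpecResidueField y⟩
  haveI : LocallyOfFiniteType ((f.fiber y) ↘ Spec (CommRingCat.of (Y.residueField y))) :=
    locallyOfFiniteType_fiberToSpecResidueField f _
  obtain ⟨z, hz⟩ := exists_fiber_point_trdegNat_ge f y m hm.ge
  obtain ⟨η, hηmax, hηz⟩ := exists_maximal_specializes (f.fiber y) z
  have h1 := trdegNat_le_of_specializes (Y.residueField y) (f.fiber y) η z hηz
  have h2 := trdegNat_le_topologicalKrullDim (Y.residueField y) (f.fiber y) η
  rw [hm] at h2
  have h3 : trdegNat (Y.residueField y) (f.fiber y) η ≤ m := by exact_mod_cast h2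
  have h4 : trdegNat (Y.residueField y) (f.fiber y) η = m := by omega
  have hfx : f.base (f.fiberι y η) = y := by
    have : f.fiberι y η ∈ Set.range (f.fiberι y) := ⟨η, rfl⟩
    rw [f.range_fiberι] at this
    exact this
  refine ⟨f.fiberι y η, hfx, ?_, ?_⟩
  · intro x' hx' hsp
    have hx's : f.base x' = y := hx'.trans hfx
    have : x' ∈ Set.range (f.fiberι y) := by rw [f.range_fiberι]; exact hx's
    obtain ⟨w, rfl⟩ := this
    have hw : w ⤳ η := (f.fiberι y).isEmbedding.isInducing.specializes_iff.mp hsp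
    rw [hηmax w hw]
  · rw [← trdegNat_eq_ptTrdeg f y η, h4]

/-- EGA IV 14.2.6-type: for `f` open of finite type there is an open neighbourhood `U` of the fibre
`f⁻¹(y)` such that `z ↦ dim (U ∩ f⁻¹(z))` is constant near `y`. -/
theorem exists_opens_nhds_dim_inter_fibre_eq (hf : IsOpenMap f.base) (y : Y) :
    ∃ U : X.Opens, f.base ⁻¹' {y} ⊆ (U : Set X) ∧ ∃ V ∈ nhds y, ∀ z ∈ V,
      topologicalKrullDim ↥((U : Set X) ∩ f.base ⁻¹' {z}) =
        topologicalKrullDim ↥((U : Set X) ∩ f.base ⁻¹' {y}) := by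
  set n := topologicalKrullDim ↥(f.fiber y) with hn
  set U : X.Opens := ⟨{x : X | FlatMor.fibreDimAt f x ≤ n}, isOpen_setOf_fibreDimAt_le' f n⟩
    with hU
  have hsub : f.base ⁻¹' {y} ⊆ (U : Set X) := fun x hx =>
    (topologicalKrullDim_fiber_le_iff f y n).mp le_rfl x hx
  have hle : ∀ z : Y, topologicalKrullDim ↥((U : Set X) ∩ f.base ⁻¹' {z}) ≤ n := fun z =>
    topologicalKrullDim_inter_fibre_le f U U.2 z n (fun x hx _ => hx)
  have hy : topologicalKrullDim ↥((U : Set X) ∩ f.base ⁻¹' {y}) = n := by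
    rw [topologicalKrullDim_congr_set (Set.inter_eq_right.mpr hsub), hn]
    exact (IsHomeomorph.topologicalKrullDim_eq _ (f.fiberHomeo y).isHomeomorph).symm
  refine ⟨U, hsub, ?_⟩
  have hne := topologicalKrullDim_fiber_ne_top f y
  induction hn' : n using WithBot.recBotCoe with
  | bot =>
    refine ⟨Set.univ, Filter.univ_mem, fun z _ => ?_⟩
    rw [hy, hn']
    have := hle z
    rw [hn'] at this
    exact le_bot_iff.mp this
  | coe n' =>
    induction n' using ENat.recTopCoe with
    | top => exact absurd (hn.symm.trans hn') hne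
    | coe m =>
      have hm : topologicalKrullDim ↥(f.fiber y) = ((m : ℕ) : WithBot ℕ∞) := hn.symm.trans hn'
      refine ⟨f.base '' {x : X | FlatMor.fibreDimAt f x = ((m : ℕ) : WithBot ℕ∞)},
        mem_nhds_of_isLocallyConstructible (isLocallyConstructible_image_setOf_fibreDimAt_eq f m) y
          (fun y' hy' => ?_), ?_⟩
      · obtain ⟨x, hxy, hmax, htr⟩ := exists_maximal_ptTrdeg_eq_of_dim_fiber_eq f y m hm
        subst hxy
        obtain ⟨ξ, -, hfξ, hξmax, htξ⟩ := exists_maximal_over_of_isOpenAt f x hmax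
          (Groth.Agent.Lib.Helper7.isOpenAt_of_isOpenMap hf x) y' hy'
        refine ⟨ξ, ?_, hfξ⟩
        change FlatMor.fibreDimAt f ξ = _
        rw [fibreDimAt_eq_ptTrdeg_of_maximal f ξ hξmax, htξ, htr]
      · rintro z ⟨x, hx, rfl⟩
        have hx' : FlatMor.fibreDimAt f x = ((m : ℕ) : WithBot ℕ∞) := hx
        rw [hy, hn']
        refine le_antisymm (hn' ▸ hle (f.base x)) ?_
        have hxU : x ∈ (U : Set X) := by
          change FlatMor.fibreDimAt f x ≤ n
          rw [hx', hn']
          rfl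
        have := le_topologicalKrullDim_inter_fibre f U U.2 x hxU
        rw [hx'] at this
        exact this

end Level

end Groth.Agent.Lib.Helper6.OpenDim
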