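import Mathlib
import Groth.Agent.Lib.Helper6OpenDimH

set_option autoImplicit false
set_option linter.style.haveILetI false

universe u

open AlgebraicGeometry CategoryTheory TopologicalSpace Topology

namespace Groth.Agent.Lib.Helper6.OpenDim

open Groth.Agent.Lib.Helper4.VarDim Groth.Agent.Lib.Helper4.FibDim
  Groth.Agent.Lib.Helper4.DimFormula Groth.Agent.Lib.Helper6.ConsNhd

section Dims

variable {X Y : Scheme.{u}} (f : X ⟶ Y)

/-- The set of dimensions of the irreducible components of the fibre over `z`. -/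
noncomputable def fibDims (z : Y) : Set (WithBot ℕ∞) :=
  (fun Z : Set ↥(f.fiber z) => topologicalKrullDim ↥Z) '' irreducibleComponents ↥(f.fiber z)

variable [LocallyOfFiniteType f]

attribute [local instance] Curv2.resAlgebra

/-- Elements of `fibDims` are `fibreDimAt` of maximal points of the fibre. -/
theorem exists_of_mem_fibDims (z : Y) (v : WithBot ℕ∞) (hv : v ∈ fibDims f z) :
    ∃ x : X, f.base x = z ∧ FlatMor.fibreDimAt f x = v ∧ v = ((ptTrdeg f x : ℕ) : WithBot ℕ∞) := by
  obtain ⟨Z, hZ, rfl⟩ := hv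
  obtain ⟨x, hxz, hmax, hdim⟩ := exists_point_of_mem_irreducibleComponents f z Z hZ
  refine ⟨x, hxz, ?_, hdim⟩
  simp only
  rw [hdim, fibreDimAt_eq_ptTrdeg_of_maximal f x hmax]

theorem mem_fibDims_of_fibreDimAt_eq (x : X) (m : ℕ)
    (hx : FlatMor.fibreDimAt f x = ((m : ℕ) : WithBot ℕ∞)) :
    ((m : ℕ) : WithBot ℕ∞) ∈ fibDims f (f.base x) := by
  letI : (f.fiber (f.base x)).Over (Spec (CommRingCat.of (Y.residueField (f.base x)))) :=
    ⟨f.fiberToSpecResidueField (f.base x)⟩
  haveI : LocallyOfFiniteType ((f.fiber (f.base x)) ↘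
      Spec (CommRingCat.of (Y.residueField (f.base x)))) :=
    locallyOfFiniteType_fiberToSpecResidueField f _
  -- every maximal generization has `trdegNat ≤ m`
  have hle : ∀ ζ : ↥(f.fiber (f.base x)), ζ ⤳ f.asFiber x → (∀ w, w ⤳ ζ → w = ζ) →
      trdegNat (Y.residueField (f.base x)) (f.fiber (f.base x)) ζ ≤ m := by
    intro ζ hζ hζmax
    have hopen := isOpen_setOf_fibreDimAt_le' f (FlatMor.fibreDimAt f x)
    have hx' : x ∈ {x' : X | FlatMor.fibreDimAt f x' ≤ FlatMor.fibreDimAt f x} := by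
      rw [Set.mem_ofPred_eq]
    have hsp : f.fiberι (f.base x) ζ ⤳ x := by
      have := (f.fiberι (f.base x)).isEmbedding.isInducing.specializes_iff.mpr hζ
      rwa [f.fiberι_asFiber] at this
    have h1 := hsp.mem_open hopen hx'
    rw [Set.mem_ofPred_eq, hx, fibreDimAt_eq_fibLD, ← localDim_fiber_eq f (f.base x) ζ,
      localDim_eq_trdegNat_of_maximal (Y.residueField (f.base x)) (f.fiber (f.base x)) ζ hζmax]
      at h1
    exact_mod_cast h1
  -- some maximal generization has `trdegNat = m`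
  have hex : ∃ ζ : ↥(f.fiber (f.base x)), ζ ⤳ f.asFiber x ∧ (∀ w, w ⤳ ζ → w = ζ) ∧
      trdegNat (Y.residueField (f.base x)) (f.fiber (f.base x)) ζ = m := by
    by_contra hcon
    push Not at hcon
    rcases Nat.eq_zero_or_pos m with rfl | hpos
    · obtain ⟨η, hηmax, hηz⟩ := exists_maximal_specializes (f.fiber (f.base x)) (f.asFiber x)
      have := hle η hηz hηmax
      exact hcon η hηz hηmax (by omega)
    · have h2 := localDim_le_of_forall_maximal (Y.residueField (f.base x)) (f.fiber (f.base x))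
        (f.asFiber x) (m - 1) (fun ζ hζ hζmax => by
          have h3 := hle ζ hζ hζmax
          have h4 := hcon ζ hζ hζmax
          omega)
      have h5 : FlatMor.fibreDimAt f x ≤ ((m - 1 : ℕ) : WithBot ℕ∞) := h2
      rw [hx] at h5
      have h6 : m ≤ m - 1 := by exact_mod_cast h5
      omega
  obtain ⟨ζ, hζ, hζmax, htr⟩ := hex
  have hfx₁ : f.base (f.fiberι (f.base x) ζ) = f.base x := by
    have : f.fiberι (f.base x) ζ ∈ Set.range (f.fiberι (f.base x)) := ⟨ζ, rfl⟩
    rw [f.range_fiberι] at this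
    exact this
  have hmax₁ : ∀ x' : X, f.base x' = f.base (f.fiberι (f.base x) ζ) → x' ⤳ f.fiberι (f.base x) ζ →
      x' = f.fiberι (f.base x) ζ := by
    intro x' hx' hsp
    have hx's : f.base x' = f.base x := hx'.trans hfx₁
    have : x' ∈ Set.range (f.fiberι (f.base x)) := by rw [f.range_fiberι]; exact hx's
    obtain ⟨w, rfl⟩ := this
    have hw : w ⤳ ζ := (f.fiberι (f.base x)).isEmbedding.isInducing.specializes_iff.mp hsp
    rw [hζmax w hw]
  obtain ⟨Z', hZ', hdimZ'⟩ := exists_mem_irreducibleComponents_of_maximal f (f.base x)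
    (f.fiberι (f.base x) ζ) hfx₁ hmax₁
  refine ⟨Z', hZ', ?_⟩
  simp only
  rw [hdimZ', ← trdegNat_eq_ptTrdeg f (f.base x) ζ, htr]

theorem mem_fibDims_iff (z : Y) (m : ℕ) :
    ((m : ℕ) : WithBot ℕ∞) ∈ fibDims f z ↔
      z ∈ f.base '' {x : X | FlatMor.fibreDimAt f x = ((m : ℕ) : WithBot ℕ∞)} := by
  constructor
  · intro h
    obtain ⟨x, hxz, hfd, -⟩ := exists_of_mem_fibDims f z _ h
    exact ⟨x, hfd, hxz⟩
  · rintro ⟨x, hx, rfl⟩
    exact mem_fibDims_of_fibreDimAt_eq f x m hx

omit [LocallyOfFiniteType f] in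
theorem le_dim_fiber_of_mem_fibDims (z : Y) (v : WithBot ℕ∞) (hv : v ∈ fibDims f z) :
    v ≤ topologicalKrullDim ↥(f.fiber z) := by
  obtain ⟨Z, -, rfl⟩ := hv
  exact topologicalKrullDim_subspace_le _ Z

theorem dim_fiber_le_of_forall_fibDims_le (y : Y) (c : WithBot ℕ∞)
    (h : ∀ v ∈ fibDims f y, v ≤ c) : topologicalKrullDim ↥(f.fiber y) ≤ c := by
  letI : (f.fiber y).Over (Spec (CommRingCat.of (Y.residueField y))) :=
    ⟨f.fiberToSpecResidueField y⟩
  haveI : LocallyOfFiniteType ((f.fiber y) ↘ Spec (CommRingCat.of (Y.residueField y))) :=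
    locallyOfFiniteType_fiberToSpecResidueField f _
  rw [topologicalKrullDim_eq_iSup_trdegNat (Y.residueField y)]
  refine iSup_le fun z => ?_
  have hZ := irreducibleComponent_mem_irreducibleComponents z
  obtain ⟨z₀, hz₀⟩ := QuasiSober.sober hZ.1 (isClosed_of_mem_irreducibleComponents _ hZ)
  have hz₀cl : closure ({z₀} : Set ↥(f.fiber y)) = irreducibleComponent z := hz₀.def
  have hsp : z₀ ⤳ z := by
    rw [specializes_iff_mem_closure, hz₀cl]
    exact mem_irreducibleComponent
  have h2 := trdegNat_le_of_specializes (Y.residueField y) (f.fiber y) z₀ z hsp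
  have h3 := h _ ⟨irreducibleComponent z, hZ, rfl⟩
  simp only at h3
  rw [← hz₀cl, topologicalKrullDim_closure_singleton (Y.residueField y) (f.fiber y) z₀] at h3
  calc ((trdegNat (Y.residueField y) (f.fiber y) z : ℕ) : WithBot ℕ∞)
      ≤ ((trdegNat (Y.residueField y) (f.fiber y) z₀ : ℕ) : WithBot ℕ∞) := by exact_mod_cast h2
    _ ≤ c := h3

end Dims

section Const

variable {X Y : Scheme.{u}} [IsLocallyNoetherian Y] (f : X ⟶ Y) [LocallyOfFiniteType f]
  [QuasiCompact f]

omit [IsLocallyNoetherian Y] [QuasiCompact f] in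
theorem exists_nat_of_mem_fibDims (z : Y) (v : WithBot ℕ∞) (hv : v ∈ fibDims f z) :
    ∃ m : ℕ, v = ((m : ℕ) : WithBot ℕ∞) := by
  obtain ⟨x, -, -, h⟩ := exists_of_mem_fibDims f z v hv
  exact ⟨_, h⟩

omit [QuasiCompact f] in
theorem fibDims_eq_of_specializes (hf : IsOpenMap f.base) (y : Y)
    (hE : ∀ η : Y, y ∈ closure {η} → closure {η} ∈ irreducibleComponents (Y : Type u) →
      fibDims f y = fibDims f η)
    (y' : Y) (hy' : y' ⤳ y) : fibDims f y' = fibDims f y := by
  have hop : ∀ x : X, EGA43.IsOpenAt f.base x := fun x =>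
    Groth.Agent.Lib.Helper7.isOpenAt_of_isOpenMap hf x
  refine Set.Subset.antisymm ?_ ?_
  · obtain ⟨η, hη, hηy'⟩ := exists_generic_specializes y'
    rw [hE η (specializes_iff_mem_closure.mp (hηy'.trans hy')) hη]
    exact fibre_dims_subset_of_isOpenAt f y' η hηy' (fun x _ => hop x)
  · exact fibre_dims_subset_of_isOpenAt f y y' hy' (fun x _ => hop x)

/-- EGA IV 14.2.5 (refined): `f` open of finite type, `E(y) = E(η)` for the generic points `η` of
the components of `Y` through `y` ⇒ the set `E` of dimensions of the irreducible components of the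
fibres is constant near `y`. -/
theorem exists_nhds_fibDims_eq (hf : IsOpenMap f.base) (y : Y)
    (hE : ∀ η : Y, y ∈ closure {η} → closure {η} ∈ irreducibleComponents (Y : Type u) →
      fibDims f y = fibDims f η) :
    ∃ V ∈ nhds y, ∀ z ∈ V, fibDims f z = fibDims f y := by
  classical
  have hgen := fibDims_eq_of_specializes f hf y hE
  obtain ⟨N, hN⟩ : ∃ N : ℕ, topologicalKrullDim ↥(f.fiber y) ≤ ((N : ℕ) : WithBot ℕ∞) := by
    have hne := topologicalKrullDim_fiber_ne_top f y
    induction hn : topologicalKrullDim ↥(f.fiber y) using WithBot.recBotCoe with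
    | bot => exact ⟨0, bot_le⟩
    | coe n =>
      induction n using ENat.recTopCoe with
      | top => exact absurd hn hne
      | coe m => exact ⟨m, le_rfl⟩
  have hV0 : {z : Y | topologicalKrullDim ↥(f.fiber z) ≤ ((N : ℕ) : WithBot ℕ∞)} ∈ nhds y :=
    mem_nhds_of_isLocallyConstructible (isLocallyConstructible_setOf_dim_fiber_le f _) y
      (fun y' hy' => by
        refine dim_fiber_le_of_forall_fibDims_le f y' _ (fun v hv => ?_)
        rw [hgen y' hy'] at hv
        exact (le_dim_fiber_of_mem_fibDims f y v hv).trans hN)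
  have hVm : ∀ m ∈ Finset.range (N + 1),
      (if ((m : ℕ) : WithBot ℕ∞) ∈ fibDims f y then
        f.base '' {x : X | FlatMor.fibreDimAt f x = ((m : ℕ) : WithBot ℕ∞)}
      else (f.base '' {x : X | FlatMor.fibreDimAt f x = ((m : ℕ) : WithBot ℕ∞)})ᶜ) ∈ nhds y := by
    intro m _
    split_ifs with hm
    · refine mem_nhds_of_isLocallyConstructible
        (isLocallyConstructible_image_setOf_fibreDimAt_eq f m) y (fun y' hy' => ?_)
      rw [← mem_fibDims_iff, hgen y' hy']
      exact hm
    · refine mem_nhds_of_isLocallyConstructible (isLocallyConstructible_compl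
        (isLocallyConstructible_image_setOf_fibreDimAt_eq f m)) y (fun y' hy' => ?_)
      rw [Set.mem_compl_iff, ← mem_fibDims_iff, hgen y' hy']
      exact hm
  refine ⟨_, Filter.inter_mem hV0 ((Filter.biInter_finset_mem _).mpr hVm), ?_⟩
  rintro z ⟨hz0, hzm⟩
  rw [Set.mem_iInter₂] at hzm
  ext v
  constructor
  · intro hv
    obtain ⟨m, rfl⟩ := exists_nat_of_mem_fibDims f z v hv
    have hmN : m ≤ N := by
      have := (le_dim_fiber_of_mem_fibDims f z _ hv).trans hz0
      exact_mod_cast this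
    have := hzm m (Finset.mem_range.mpr (by omega))
    by_contra hcon
    rw [if_neg hcon, Set.mem_compl_iff, ← mem_fibDims_iff] at this
    exact this hv
  · intro hv
    obtain ⟨m, rfl⟩ := exists_nat_of_mem_fibDims f y v hv
    have hmN : m ≤ N := by
      have := (le_dim_fiber_of_mem_fibDims f y _ hv).trans hN
      exact_mod_cast this
    have := hzm m (Finset.mem_range.mpr (by omega))
    rw [if_pos hv, ← mem_fibDims_iff] at this
    exact this

end Const

end Groth.Agent.Lib.Helper6.OpenDim
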