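import Mathlib
import Groth.Agent.Lib.Helper6OpenDimI

set_option autoImplicit false
set_option linter.style.haveILetI false

universe u

open AlgebraicGeometry CategoryTheory TopologicalSpace Topology

namespace Groth.Agent.Lib.Helper6.EquiSub

open Groth.Agent.Lib.Helper4.VarDim Groth.Agent.Lib.Helper4.FibDim
  Groth.Agent.Lib.Helper4.DimFormula Groth.Agent.Lib.Helper6.OpenDim

section Order

theorem strictMono_of_isEmbedding {X Y : Scheme.{u}} (j : X ⟶ Y) (hj : Topology.IsEmbedding j.base) :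
    StrictMono j.base := by
  intro a b hab
  rw [lt_iff_le_not_ge] at hab ⊢
  refine ⟨?_, fun h => hab.2 ?_⟩
  · have h1 : b ⤳ a := Scheme.le_iff_specializes.mp hab.1
    exact Scheme.le_iff_specializes.mpr (hj.isInducing.specializes_iff.mpr h1)
  · have h1 : j.base a ⤳ j.base b := Scheme.le_iff_specializes.mp h
    exact Scheme.le_iff_specializes.mpr (hj.isInducing.specializes_iff.mp h1)

theorem coheight_add_one_le_of_strictMono {α β : Type*} [Preorder α] [Preorder β] (j : α → β)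
    (hj : StrictMono j) (z : α) (hfin : Order.coheight z ≠ ⊤)
    (h : ∀ w : α, z ≤ w → ∃ b : β, j w < b) :
    Order.coheight z + 1 ≤ Order.coheight (j z) := by
  obtain ⟨n, hn⟩ := ENat.ne_top_iff_exists.mp hfin
  obtain ⟨p, hp1, hp2⟩ := Order.exists_series_of_coheight_eq_coe z hn.symm
  have hle : z ≤ p.last := by
    rw [← hp1]
    exact LTSeries.head_le_last p
  obtain ⟨b, hb⟩ := h p.last hle
  let q : LTSeries β := (p.map j hj).snoc b (by rw [LTSeries.last_map]; exact hb)
  have hq1 : q.head = j z := by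
    simp [q, hp1]
  have hq2 : q.length = n + 1 := by
    simp [q, hp2]
  have := Order.length_le_coheight_head (p := q)
  rw [hq1, hq2] at this
  rw [← hn]
  exact_mod_cast this

end Order

section Pt

variable {W X Y : Scheme.{u}}

attribute [local instance] Curv2.resAlgebra

theorem ptTrdeg_comp_of_isPreimmersion (j : W ⟶ X) [IsPreimmersion j] (f : X ⟶ Y)
    [LocallyOfFiniteType f] [LocallyOfFiniteType (j ≫ f)] (w : W) :
    ptTrdeg (j ≫ f) w = ptTrdeg f (j.base w) := by
  have h1 := trdeg_eq_ptTrdeg (j ≫ f) w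
  have h2 := trdeg_eq_ptTrdeg f (j.base w)
  have h3 := trdeg_eq_of_bijective (f.residueFieldMap (j.base w)).hom (j.residueFieldMap w).hom
    (residueFieldMap_bijective_of_isPreimmersion j w)
  have h4 : (j.residueFieldMap w).hom.comp (f.residueFieldMap (j.base w)).hom =
      ((j ≫ f).residueFieldMap w).hom := by
    rw [Scheme.residueFieldMap_comp]
    rfl
  rw [h4] at h3
  have h5 : (ptTrdeg f (j.base w) : Cardinal.{u}) = (ptTrdeg (j ≫ f) w : Cardinal.{u}) :=
    h2.symm.trans (h3.trans h1)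
  exact_mod_cast h5.symm

end Pt

section Equi

variable {X Y : Scheme.{u}} (f : X ⟶ Y) [LocallyOfFiniteType f]

attribute [local instance] Curv2.resAlgebra

/-- Under condition (ii) of `IsEquidimAt`, maximal points of fibres lying in `U` have
`ptTrdeg = e`. -/
theorem ptTrdeg_eq_of_equidim (e : ℕ) (U : X.Opens)
    (h2 : ∀ x' : (↥U : Type u),
      ∀ Z ∈ irreducibleComponents (↥((U.ι ≫ f).fiber ((U.ι ≫ f).base x')) : Type u),
      topologicalKrullDim (↥Z : Type u) = e)
    (u : X) (hu : u ∈ U) (hmax : ∀ x'' : X, f.base x'' = f.base u → x'' ⤳ u → x'' = u) :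
    ptTrdeg f u = e := by
  set u' : ↥U := ⟨u, hu⟩ with hu'
  have hmax' : ∀ w : ↥U, (U.ι ≫ f).base w = (U.ι ≫ f).base u' → w ⤳ u' → w = u' := by
    intro w hw hsp
    have h1 : U.ι.base w ⤳ U.ι.base u' := hsp.map U.ι.continuous
    have h3 := hmax (U.ι.base w) hw h1
    exact U.ι.isOpenEmbedding.injective h3
  obtain ⟨Z, hZ, hdim⟩ := exists_mem_irreducibleComponents_of_maximal (U.ι ≫ f) _ u' rfl hmax'
  have h3 := h2 u' Z hZ
  rw [hdim] at h3
  have h4 := ptTrdeg_comp_of_isPreimmersion U.ι f u'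
  have h5 : ptTrdeg (U.ι ≫ f) u' = e := by exact_mod_cast h3
  rw [← h5, h4]
  rfl

omit [LocallyOfFiniteType f] in
theorem base_fiberι (s : Y) (ζ : ↥(f.fiber s)) : f.base (f.fiberι s ζ) = s := by
  have : f.fiberι s ζ ∈ Set.range (f.fiberι s) := ⟨ζ, rfl⟩
  rw [f.range_fiberι] at this
  exact this

omit [LocallyOfFiniteType f] in
theorem maximal_fiberι (s : Y) (ζ : ↥(f.fiber s)) (hζ : ∀ w : ↥(f.fiber s), w ⤳ ζ → w = ζ) :
    ∀ x'' : X, f.base x'' = f.base (f.fiberι s ζ) → x'' ⤳ f.fiberι s ζ → x'' = f.fiberι s ζ := by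
  intro x'' hx'' hsp
  have hx's : f.base x'' = s := hx''.trans (base_fiberι f s ζ)
  have : x'' ∈ Set.range (f.fiberι s) := by rw [f.range_fiberι]; exact hx's
  obtain ⟨w, rfl⟩ := this
  have hw : w ⤳ ζ := (f.fiberι s).isEmbedding.isInducing.specializes_iff.mp hsp
  rw [hζ w hw]

omit [LocallyOfFiniteType f] in
theorem fiberι_specializes (u : X) (ζ : ↥(f.fiber (f.base u))) (hζ : ζ ⤳ f.asFiber u) :
    f.fiberι (f.base u) ζ ⤳ u := by
  have := (f.fiberι (f.base u)).isEmbedding.isInducing.specializes_iff.mpr hζ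
  rwa [f.fiberι_asFiber] at this

/-- Under condition (ii) of `IsEquidimAt`, the fibre dimension is `e` at all points of `U`. -/
theorem fibreDimAt_eq_of_equidim (e : ℕ) (U : X.Opens)
    (h2 : ∀ x' : (↥U : Type u),
      ∀ Z ∈ irreducibleComponents (↥((U.ι ≫ f).fiber ((U.ι ≫ f).base x')) : Type u),
      topologicalKrullDim (↥Z : Type u) = e)
    (u : X) (hu : u ∈ U) : FlatMor.fibreDimAt f u = (e : WithBot ℕ∞) := by
  letI : (f.fiber (f.base u)).Over (Spec (CommRingCat.of (Y.residueField (f.base u)))) :=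
    ⟨f.fiberToSpecResidueField (f.base u)⟩
  haveI : LocallyOfFiniteType ((f.fiber (f.base u)) ↘
      Spec (CommRingCat.of (Y.residueField (f.base u)))) :=
    locallyOfFiniteType_fiberToSpecResidueField f _
  have key : ∀ ζ : ↥(f.fiber (f.base u)), ζ ⤳ f.asFiber u → (∀ w, w ⤳ ζ → w = ζ) →
      ptTrdeg f (f.fiberι (f.base u) ζ) = e := by
    intro ζ hζ hζmax
    exact ptTrdeg_eq_of_equidim f e U h2 _ ((fiberι_specializes f u ζ hζ).mem_open U.2 hu)
      (maximal_fiberι f _ ζ hζmax)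
  apply le_antisymm
  · refine localDim_le_of_forall_maximal (Y.residueField (f.base u)) (f.fiber (f.base u))
      (f.asFiber u) e (fun ζ hζ hζmax => ?_)
    rw [trdegNat_eq_ptTrdeg f (f.base u) ζ, key ζ hζ hζmax]
  · obtain ⟨η, hηmax, hηz⟩ := exists_maximal_specializes (f.fiber (f.base u)) (f.asFiber u)
    have hopen := isOpen_setOf_fibreDimAt_le' f (FlatMor.fibreDimAt f u)
    have hu' : u ∈ {x' : X | FlatMor.fibreDimAt f x' ≤ FlatMor.fibreDimAt f u} := by
      rw [Set.mem_ofPred_eq]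
    have h1 := (fiberι_specializes f u η hηz).mem_open hopen hu'
    rw [Set.mem_ofPred_eq, fibreDimAt_eq_ptTrdeg_of_maximal f _ (maximal_fiberι f _ η hηmax),
      key η hηz hηmax] at h1
    exact h1

attribute [local instance] sectionsAlgebra

/-- Core computation: `e = t + coheight` in the fibre. -/
theorem coheight_asFiber_of_equidim (e : ℕ) (U : X.Opens)
    (h2 : ∀ x' : (↥U : Type u),
      ∀ Z ∈ irreducibleComponents (↥((U.ι ≫ f).fiber ((U.ι ≫ f).base x')) : Type u),
      topologicalKrullDim (↥Z : Type u) = e)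
    (x' : X) (hx' : x' ∈ U) :
    ∃ b : ℕ, Order.coheight (f.asFiber x') = (b : ℕ∞) ∧ e = ptTrdeg f x' + b := by
  letI : (f.fiber (f.base x')).Over (Spec (CommRingCat.of (Y.residueField (f.base x')))) :=
    ⟨f.fiberToSpecResidueField (f.base x')⟩
  haveI : LocallyOfFiniteType ((f.fiber (f.base x')) ↘
      Spec (CommRingCat.of (Y.residueField (f.base x')))) :=
    locallyOfFiniteType_fiberToSpecResidueField f _
  obtain ⟨b, hb⟩ := exists_ringKrullDim_stalk_eq (Y.residueField (f.base x')) (f.fiber (f.base x'))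
    (f.asFiber x')
  have ha := trdeg_eq_trdegNat (Y.residueField (f.base x')) (f.fiber (f.base x')) (f.asFiber x')
  have h3 := localDim_eq_add (Y.residueField (f.base x')) (f.fiber (f.base x')) (f.asFiber x')
    _ b ha hb
  have h4 : FlatMor.fibreDimAt f x' = (e : WithBot ℕ∞) := fibreDimAt_eq_of_equidim f e U h2 x' hx'
  have h5 : FlatMor.fibreDimAt f x' = FlatMor.localDim (f.fiber (f.base x')) (f.asFiber x') := rfl
  rw [h5, h3] at h4
  refine ⟨b, ?_, ?_⟩
  · have h6 := ringKrullDim_stalk_eq_coheight (f.asFiber x')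
    rw [hb] at h6
    have h7 : ((b : ℕ∞) : WithBot ℕ∞) = ((Order.coheight (f.asFiber x') : ℕ∞) : WithBot ℕ∞) := h6
    exact (WithBot.coe_injective h7).symm
  · have h8 : ((trdegNat (Y.residueField (f.base x')) (f.fiber (f.base x')) (f.asFiber x') + b : ℕ) :
        WithBot ℕ∞) = ((e : ℕ) : WithBot ℕ∞) := h4
    have h9 : trdegNat (Y.residueField (f.base x')) (f.fiber (f.base x')) (f.asFiber x') + b = e := by
      exact_mod_cast h8
    rw [← h9]
    rfl

theorem le_ringKrullDim_stalk_add_of_equidim (e : ℕ) (U : X.Opens)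
    (h2 : ∀ x' : (↥U : Type u),
      ∀ Z ∈ irreducibleComponents (↥((U.ι ≫ f).fiber ((U.ι ≫ f).base x')) : Type u),
      topologicalKrullDim (↥Z : Type u) = e)
    (x' : X) (hx' : x' ∈ U) :
    (e : WithBot ℕ∞) ≤ ringKrullDim (X.presheaf.stalk x') + (ptTrdeg f x' : WithBot ℕ∞) := by
  obtain ⟨b, hb, he⟩ := coheight_asFiber_of_equidim f e U h2 x' hx'
  have h1 := Order.coheight_le_coheight_apply_of_strictMono (f.fiberι (f.base x')).base
    (strictMono_of_isEmbedding _ (f.fiberι (f.base x')).isEmbedding) (f.asFiber x')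
  rw [f.fiberι_asFiber, hb] at h1
  rw [ringKrullDim_stalk_eq_coheight x', he]
  have h2' : ((b : ℕ∞) : WithBot ℕ∞) ≤ ((Order.coheight x' : ℕ∞) : WithBot ℕ∞) :=
    WithBot.coe_le_coe.mpr h1
  calc ((ptTrdeg f x' + b : ℕ) : WithBot ℕ∞)
      = ((b : ℕ∞) : WithBot ℕ∞) + (ptTrdeg f x' : WithBot ℕ∞) := by push_cast; rw [add_comm]
    _ ≤ _ := add_le_add_left h2' _

theorem add_one_le_ringKrullDim_stalk_add_of_equidim (e : ℕ) (U : X.Opens)
    (h2 : ∀ x' : (↥U : Type u),
      ∀ Z ∈ irreducibleComponents (↥((U.ι ≫ f).fiber ((U.ι ≫ f).base x')) : Type u),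
      topologicalKrullDim (↥Z : Type u) = e)
    (x' : X) (hx' : x' ∈ U)
    (hnm : ∀ a : X, f.base a = f.base x' → a ⤳ x' → ∃ b : X, b ⤳ a ∧ ¬ a ⤳ b) :
    (e : WithBot ℕ∞) + 1 ≤ ringKrullDim (X.presheaf.stalk x') + (ptTrdeg f x' : WithBot ℕ∞) := by
  obtain ⟨b, hb, he⟩ := coheight_asFiber_of_equidim f e U h2 x' hx'
  have h1 := coheight_add_one_le_of_strictMono (f.fiberι (f.base x')).base
    (strictMono_of_isEmbedding _ (f.fiberι (f.base x')).isEmbedding) (f.asFiber x')
    (by rw [hb]; exact ENat.coe_ne_top b) (fun w hw => by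
      have hw' : w ⤳ f.asFiber x' := Scheme.le_iff_specializes.mp hw
      obtain ⟨c, hc1, hc2⟩ := hnm (f.fiberι (f.base x') w) (base_fiberι f _ w)
        (fiberι_specializes f x' w hw')
      refine ⟨c, ?_⟩
      rw [lt_iff_le_not_ge]
      exact ⟨Scheme.le_iff_specializes.mpr hc1, fun h => hc2 (Scheme.le_iff_specializes.mp h)⟩)
  rw [f.fiberι_asFiber, hb] at h1
  rw [ringKrullDim_stalk_eq_coheight x', he]
  have h2' : (((b : ℕ∞) + 1 : ℕ∞) : WithBot ℕ∞) ≤ ((Order.coheight x' : ℕ∞) : WithBot ℕ∞) :=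
    WithBot.coe_le_coe.mpr h1
  calc ((ptTrdeg f x' + b : ℕ) : WithBot ℕ∞) + 1
      = (((b : ℕ∞) + 1 : ℕ∞) : WithBot ℕ∞) + (ptTrdeg f x' : WithBot ℕ∞) := by
        push_cast; ring
    _ ≤ _ := add_le_add_left h2' _

end Equi

end Groth.Agent.Lib.Helper6.EquiSub
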