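import Mathlib
import Groth.Agent.Lib.Helper6EquiSubA
import Groth.Agent.Lib.Helper3LocDimBC

set_option autoImplicit false
set_option linter.style.haveILetI false

universe u

open AlgebraicGeometry CategoryTheory TopologicalSpace Topology

namespace Groth.Agent.Lib.Helper3.RelDim

open Groth.Agent.Lib.Helper4.VarDim Groth.Agent.Lib.Helper4.FibDim
  Groth.Agent.Lib.Helper4.DimFormula Groth.Agent.Lib.Helper6.OpenDim Groth.Agent.Lib.Helper6.EquiSub

variable {X Y : Scheme.{u}} (f : X ⟶ Y) [LocallyOfFiniteType f]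

attribute [local instance] Curv2.resAlgebra

/-- relative dimension `d` (all irreducible components of all fibres have dimension `d`) is the
same as all local fibre dimensions being `d`. -/
theorem hasRelDim_iff_forall_fibreDimAt_eq (d : ℕ) :
    Cyc.HasRelDim f d ↔ ∀ x : X, FlatMor.fibreDimAt f x = (d : WithBot ℕ∞) := by
  constructor
  · intro h u
    letI : (f.fiber (f.base u)).Over (Spec (CommRingCat.of (Y.residueField (f.base u)))) :=
      ⟨f.fiberToSpecResidueField (f.base u)⟩
    haveI : LocallyOfFiniteType ((f.fiber (f.base u)) ↘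
        Spec (CommRingCat.of (Y.residueField (f.base u)))) :=
      locallyOfFiniteType_fiberToSpecResidueField f _
    have key : ∀ ζ : ↥(f.fiber (f.base u)), (∀ w, w ⤳ ζ → w = ζ) →
        ptTrdeg f (f.fiberι (f.base u) ζ) = d := by
      intro ζ hζmax
      have hmax := maximal_fiberι f _ ζ hζmax
      obtain ⟨Z, hZ, hdim⟩ := exists_mem_irreducibleComponents_of_maximal f _
        (f.fiberι (f.base u) ζ) rfl hmax
      have h3 := h _ Z hZ
      rw [hdim] at h3
      exact_mod_cast h3
    apply le_antisymm
    · refine localDim_le_of_forall_maximal (Y.residueField (f.base u)) (f.fiber (f.base u))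
        (f.asFiber u) d (fun ζ hζ hζmax => ?_)
      rw [trdegNat_eq_ptTrdeg f (f.base u) ζ, key ζ hζmax]
    · obtain ⟨η, hηmax, hηz⟩ := exists_maximal_specializes (f.fiber (f.base u)) (f.asFiber u)
      have hopen := isOpen_setOf_fibreDimAt_le' f (FlatMor.fibreDimAt f u)
      have hu' : u ∈ {x' : X | FlatMor.fibreDimAt f x' ≤ FlatMor.fibreDimAt f u} := by
        rw [Set.mem_ofPred_eq]
      have h1 := (fiberι_specializes f u η hηz).mem_open hopen hu'
      rw [Set.mem_ofPred_eq, fibreDimAt_eq_ptTrdeg_of_maximal f _ (maximal_fiberι f _ η hηmax),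
        key η hηmax] at h1
      exact h1
  · intro h s Z hZ
    obtain ⟨x, -, hmax, hdim⟩ := exists_point_of_mem_irreducibleComponents f s Z hZ
    rw [hdim, ← fibreDimAt_eq_ptTrdeg_of_maximal f x hmax, h x]

/-- relative dimension is stable under base change. -/
theorem hasRelDim_of_isPullback {X S X' S' : Scheme.{u}} (f : X ⟶ S) [LocallyOfFiniteType f]
    (g : S' ⟶ S) (g' : X' ⟶ X) (f' : X' ⟶ S') (hsq : IsPullback g' f' f g) (d : ℕ)
    (h : Cyc.HasRelDim f d) : Cyc.HasRelDim f' d := by
  haveI : LocallyOfFiniteType f' := MorphismProperty.of_isPullback hsq inferInstance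
  rw [hasRelDim_iff_forall_fibreDimAt_eq] at h ⊢
  intro x'
  rw [Groth.Agent.Lib.Helper3.LocDimBC.fibreDimAt_eq_of_isPullback f g g' f' hsq x']
  exact h _

/-- relative dimension descends along surjective base change. -/
theorem hasRelDim_of_isPullback_of_surjective {X S X' S' : Scheme.{u}} (f : X ⟶ S)
    [LocallyOfFiniteType f]
    (g : S' ⟶ S) [Surjective g] (g' : X' ⟶ X) (f' : X' ⟶ S') (hsq : IsPullback g' f' f g) (d : ℕ)
    (h : Cyc.HasRelDim f' d) : Cyc.HasRelDim f d := by
  haveI : LocallyOfFiniteType f' := MorphismProperty.of_isPullback hsq inferInstance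
  haveI : Surjective g' := MorphismProperty.of_isPullback (P := @Surjective) hsq.flip inferInstance
  rw [hasRelDim_iff_forall_fibreDimAt_eq] at h ⊢
  intro x
  obtain ⟨x', rfl⟩ := g'.surjective x
  rw [← Groth.Agent.Lib.Helper3.LocDimBC.fibreDimAt_eq_of_isPullback f g g' f' hsq x']
  exact h _

end Groth.Agent.Lib.Helper3.RelDim
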