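import Mathlib
import Groth.Agent.Lib.Helper4DimFormulaAA

/-!
# `dim A ≤ dim B` for a local homomorphism surjective on spectra with zero-dimensional fibre (helper4)

* `ringKrullDim_quotient_span_singleton_succ_le_of_notMem_minimalPrimes`.
* `ringKrullDim_le_of_comap_surjective`: `A → B` Noetherian local rings, `Spec B → Spec A` surjective,
  `m_B` the only prime over `m_A B`  ⟹  `dim A ≤ dim B`.
-/

set_option autoImplicit false
set_option linter.style.haveILetI false

universe u

open IsLocalRing Pointwise

namespace Groth.Agent.Lib.Helper4.DimFormula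

theorem ringKrullDim_quotient_span_singleton_succ_le_of_notMem_minimalPrimes {R : Type*}
    [CommRing R] {x : R} (hn : ∀ p ∈ minimalPrimes R, x ∉ p) :
    ringKrullDim (R ⧸ Ideal.span {x}) + 1 ≤ ringKrullDim R := by
  have h : Ideal.span {x} = x • (⊤ : Ideal R) := by
    simp [← Submodule.ideal_span_singleton_smul]
  rw [ringKrullDim_eq_of_ringEquiv (Ideal.quotientEquivAlgOfEq R h).toRingEquiv]
  have h1 := Module.supportDim_quotSMulTop_succ_le_of_notMem_minimalPrimes (R := R) (M := R)
    (x := x) (by
      intro p hp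
      have : Module.annihilator R R = ⊥ := Module.annihilator_eq_bot.mpr inferInstance
      rw [this] at hp
      exact hn p hp)
  rw [Module.supportDim_self_eq_ringKrullDim] at h1
  rw [← Module.supportDim_quotient_eq_ringKrullDim]
  exact h1


theorem ringKrullDim_le_zero_of_forall_eq_closedPoint {A : Type*} [CommRing A] [IsLocalRing A]
    (h : ∀ p : PrimeSpectrum A, p = closedPoint A) : ringKrullDim A ≤ 0 := by
  rw [← IsLocalRing.maximalIdeal_height_eq_ringKrullDim]
  have : (maximalIdeal A).height = 0 := by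
    rw [Ideal.height_eq_zero_iff]
    refine ⟨⟨inferInstance, bot_le⟩, fun P hP _ => ?_⟩
    have := h ⟨P, hP.1⟩
    have h2 : P = maximalIdeal A := congrArg PrimeSpectrum.asIdeal this
    rw [h2]
  rw [this]
  rfl

theorem ringKrullDim_le_of_comap_surjective_aux (n : ℕ) :
    ∀ (A B : Type u) [CommRing A] [CommRing B] [IsLocalRing A] [IsLocalRing B]
      [IsNoetherianRing A] [IsNoetherianRing B] (φ : A →+* B),
      Function.Surjective (PrimeSpectrum.comap φ) →
      (∀ q : Ideal B, q.IsPrime → (maximalIdeal A).map φ ≤ q → q = maximalIdeal B) →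
      ringKrullDim A ≤ n → ringKrullDim A ≤ ringKrullDim B := by
  induction n with
  | zero =>
    intro A B _ _ _ _ _ _ φ _ _ hA
    exact hA.trans (by exact_mod_cast ringKrullDim_nonneg_of_nontrivial)
  | succ n ih =>
    intro A B _ _ _ _ _ _ φ hsurj hfib hA
    classical
    by_cases h0 : ringKrullDim A ≤ 0
    · exact h0.trans ringKrullDim_nonneg_of_nontrivial
    have hloc : (maximalIdeal B).comap φ = maximalIdeal A := by
      obtain ⟨q, hq⟩ := hsurj (closedPoint A)
      have h1 : maximalIdeal A ≤ (maximalIdeal B).comap φ := by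
        have : q.asIdeal.comap φ = maximalIdeal A := congrArg PrimeSpectrum.asIdeal hq
        rw [← this]
        exact Ideal.comap_mono (le_maximalIdeal q.2.ne_top)
      exact ((maximalIdeal.isMaximal A).eq_of_le
        (Ideal.comap_ne_top _ (maximalIdeal.isMaximal B).ne_top) h1).symm
    have hminA : ∀ P ∈ minimalPrimes A, ¬ maximalIdeal A ≤ P := by
      intro P hP hle
      apply h0
      have hPeq : maximalIdeal A = P := (maximalIdeal.isMaximal A).eq_of_le hP.1.1.ne_top hle
      rw [← IsLocalRing.maximalIdeal_height_eq_ringKrullDim, hPeq]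
      haveI := hP.1.1
      have : P.height = 0 := Ideal.height_eq_zero_iff.mpr hP
      rw [this]
      rfl
    have hminB : ∀ Q ∈ minimalPrimes B, ¬ maximalIdeal A ≤ Q.comap φ := by
      intro Q hQ hle
      have hQeq : Q = maximalIdeal B := hfib Q hQ.1.1 (Ideal.map_le_iff_le_comap.mpr hle)
      apply h0
      apply ringKrullDim_le_zero_of_forall_eq_closedPoint
      intro p
      obtain ⟨q, rfl⟩ := hsurj p
      have hq : q.asIdeal = maximalIdeal B := by
        have hle : q.asIdeal ≤ maximalIdeal B := le_maximalIdeal q.2.ne_top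
        rw [← hQeq] at hle ⊢
        exact le_antisymm hle (hQ.2 ⟨q.2, bot_le⟩ hle)
      apply PrimeSpectrum.ext
      change q.asIdeal.comap φ = maximalIdeal A
      rw [hq, hloc]
    -- prime avoidance
    set F : Finset (Ideal A) := (minimalPrimes.finite_of_isNoetherianRing A).toFinset ∪
      ((minimalPrimes.finite_of_isNoetherianRing B).toFinset.image (Ideal.comap φ)) with hF
    have hFprime : ∀ P ∈ F, P.IsPrime := by
      intro P hP
      rcases Finset.mem_union.mp hP with h | h
      · exact ((minimalPrimes.finite_of_isNoetherianRing A).mem_toFinset.mp h).1.1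
      · obtain ⟨Q, hQ, rfl⟩ := Finset.mem_image.mp h
        haveI := ((minimalPrimes.finite_of_isNoetherianRing B).mem_toFinset.mp hQ).1.1
        exact Ideal.comap_isPrime _ _
    have hFnle : ∀ P ∈ F, ¬ maximalIdeal A ≤ P := by
      intro P hP
      rcases Finset.mem_union.mp hP with h | h
      · exact hminA P ((minimalPrimes.finite_of_isNoetherianRing A).mem_toFinset.mp h)
      · obtain ⟨Q, hQ, rfl⟩ := Finset.mem_image.mp h
        exact hminB Q ((minimalPrimes.finite_of_isNoetherianRing B).mem_toFinset.mp hQ)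
    obtain ⟨a, ham, haF⟩ : ∃ a ∈ maximalIdeal A, ∀ P ∈ F, a ∉ P := by
      by_contra hcon
      push Not at hcon
      have hsub : ((maximalIdeal A : Ideal A) : Set A) ⊆ ⋃ q ∈ (F : Set (Ideal A)), (q : Set A) := by
        intro a ha
        obtain ⟨q, hq, haq⟩ := hcon a ha
        exact Set.mem_biUnion (Finset.mem_coe.mpr hq) haq
      obtain ⟨q, hq, hle⟩ := (Ideal.subset_union_prime (s := F) (f := fun q => q) ⊥ ⊥
        (fun q hq _ _ => hFprime q hq)).mp hsub
      exact hFnle q hq hle
    have haA : ∀ P ∈ minimalPrimes A, a ∉ P := fun P hP =>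
      haF P (Finset.mem_union_left _ ((minimalPrimes.finite_of_isNoetherianRing A).mem_toFinset.mpr hP))
    have haB : ∀ Q ∈ minimalPrimes B, φ a ∉ Q := fun Q hQ h =>
      haF (Q.comap φ) (Finset.mem_union_right _ (Finset.mem_image.mpr
        ⟨Q, (minimalPrimes.finite_of_isNoetherianRing B).mem_toFinset.mpr hQ, rfl⟩)) h
    have hφam : φ a ∈ maximalIdeal B := by
      have : a ∈ (maximalIdeal B).comap φ := by rw [hloc]; exact ham
      exact this
    set I : Ideal A := Ideal.span {a} with hI
    set J : Ideal B := Ideal.span {φ a} with hJ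
    have hIm : I ≤ maximalIdeal A := (Ideal.span_singleton_le_iff_mem _).mpr ham
    have hJm : J ≤ maximalIdeal B := (Ideal.span_singleton_le_iff_mem _).mpr hφam
    have hIne : I ≠ ⊤ := fun h => (maximalIdeal.isMaximal A).ne_top (top_le_iff.mp (h ▸ hIm))
    have hJne : J ≠ ⊤ := fun h => (maximalIdeal.isMaximal B).ne_top (top_le_iff.mp (h ▸ hJm))
    haveI : IsLocalRing (A ⧸ I) := Groth.Agent.Lib.Helper5.isLocalRing_quotient hIne
    haveI : IsLocalRing (B ⧸ J) := Groth.Agent.Lib.Helper5.isLocalRing_quotient hJne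
    have hIJ : I ≤ J.comap φ := by
      rw [hI, Ideal.span_singleton_le_iff_mem]
      exact Ideal.subset_span rfl
    set φ' : A ⧸ I →+* B ⧸ J := Ideal.quotientMap J φ hIJ with hφ'
    have hcomm : φ'.comp (Ideal.Quotient.mk I) = (Ideal.Quotient.mk J).comp φ := by
      ext x
      simp [hφ']
    -- surjectivity on spectra
    have hsurj' : Function.Surjective (PrimeSpectrum.comap φ') := by
      intro p'
      obtain ⟨q, hq⟩ := hsurj (PrimeSpectrum.comap (Ideal.Quotient.mk I) p')
      have hq' : q.asIdeal.comap φ = p'.asIdeal.comap (Ideal.Quotient.mk I) :=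
        congrArg PrimeSpectrum.asIdeal hq
      have hJq : J ≤ q.asIdeal := by
        rw [hJ, Ideal.span_singleton_le_iff_mem]
        have : a ∈ q.asIdeal.comap φ := by
          rw [hq', Ideal.mem_comap]
          have h0 : Ideal.Quotient.mk I a = 0 :=
            Ideal.Quotient.eq_zero_iff_mem.mpr (Ideal.subset_span rfl)
          rw [h0]
          exact zero_mem _
        exact this
      have hcm : (q.asIdeal.map (Ideal.Quotient.mk J)).comap (Ideal.Quotient.mk J) = q.asIdeal := by
        rw [Ideal.comap_map_of_surjective _ Ideal.Quotient.mk_surjective,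
          ← RingHom.ker_eq_comap_bot, Ideal.mk_ker, sup_eq_left.mpr hJq]
      haveI : (q.asIdeal.map (Ideal.Quotient.mk J)).IsPrime :=
        Ideal.map_isPrime_of_surjective Ideal.Quotient.mk_surjective
          (by rw [Ideal.mk_ker]; exact hJq)
      refine ⟨⟨q.asIdeal.map (Ideal.Quotient.mk J), inferInstance⟩, ?_⟩
      apply PrimeSpectrum.ext
      change (q.asIdeal.map (Ideal.Quotient.mk J)).comap φ' = p'.asIdeal
      apply Ideal.comap_injective_of_surjective (Ideal.Quotient.mk I) Ideal.Quotient.mk_surjective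
      rw [Ideal.comap_comap, hcomm, ← Ideal.comap_comap, hcm, hq']
    -- fibre condition
    have hfib' : ∀ q' : Ideal (B ⧸ J), q'.IsPrime → (maximalIdeal (A ⧸ I)).map φ' ≤ q' →
        q' = maximalIdeal (B ⧸ J) := by
      intro q' hq' hle
      have h1 : (maximalIdeal A).map φ ≤ q'.comap (Ideal.Quotient.mk J) := by
        rw [Ideal.map_le_iff_le_comap, Ideal.comap_comap, ← hcomm, ← Ideal.comap_comap,
          ← Ideal.map_le_iff_le_comap, ← Groth.Agent.Lib.Helper5.maximalIdeal_quotient_eq_map,
          ← Ideal.map_le_iff_le_comap]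
        exact hle
      have h2 := hfib _ (Ideal.comap_isPrime _ _) h1
      rw [Groth.Agent.Lib.Helper5.maximalIdeal_quotient_eq_map, ← h2,
        Ideal.map_comap_of_surjective _ Ideal.Quotient.mk_surjective]
    -- dimensions
    have hK1 : ringKrullDim A ≤ ringKrullDim (A ⧸ I) + 1 := by
      have := ringKrullDim_le_ringKrullDim_quotient_add_encard ({a} : Set A) (by
        rw [Set.singleton_subset_iff, IsLocalRing.ringJacobson_eq_maximalIdeal]
        exact ham)
      simpa using this
    have hK2A : ringKrullDim (A ⧸ I) + 1 ≤ ringKrullDim A :=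
      ringKrullDim_quotient_span_singleton_succ_le_of_notMem_minimalPrimes haA
    have hK2B : ringKrullDim (B ⧸ J) + 1 ≤ ringKrullDim B :=
      ringKrullDim_quotient_span_singleton_succ_le_of_notMem_minimalPrimes haB
    have hA' : ringKrullDim (A ⧸ I) ≤ n := by
      have h3 : ringKrullDim (A ⧸ I) + 1 ≤ ((n : ℕ) : WithBot ℕ∞) + 1 := hK2A.trans (by
        exact_mod_cast hA)
      obtain ⟨c, hc⟩ : ∃ c : ℕ∞, ringKrullDim (A ⧸ I) = c := by
        have hne : ringKrullDim (A ⧸ I) ≠ ⊥ := ringKrullDim_ne_bot
        exact ⟨(ringKrullDim (A ⧸ I)).unbot hne, (WithBot.coe_unbot _ hne).symm⟩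
      rw [hc] at h3 ⊢
      have h4 : c + 1 ≤ (n : ℕ∞) + 1 := by exact_mod_cast h3
      have h5 : c ≤ n := (ENat.add_le_add_iff_right (by simp)).mp h4
      exact_mod_cast h5
    have hIH := ih (A ⧸ I) (B ⧸ J) φ' hsurj' hfib' hA'
    calc ringKrullDim A ≤ ringKrullDim (A ⧸ I) + 1 := hK1
      _ ≤ ringKrullDim (B ⧸ J) + 1 := add_le_add_left hIH 1
      _ ≤ ringKrullDim B := hK2B

/-- `A → B` a homomorphism of Noetherian local rings which is surjective on spectra and such that
`m_B` is the only prime of `B` containing `m_A B`. Then `dim A ≤ dim B`. -/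
theorem ringKrullDim_le_of_comap_surjective (A B : Type u) [CommRing A] [CommRing B] [IsLocalRing A]
    [IsLocalRing B] [IsNoetherianRing A] [IsNoetherianRing B] (φ : A →+* B)
    (hsurj : Function.Surjective (PrimeSpectrum.comap φ))
    (hfib : ∀ q : Ideal B, q.IsPrime → (maximalIdeal A).map φ ≤ q → q = maximalIdeal B) :
    ringKrullDim A ≤ ringKrullDim B := by
  have hfin : ringKrullDim A < ⊤ := ringKrullDim_lt_top
  obtain ⟨n, hn⟩ : ∃ n : ℕ, ringKrullDim A ≤ n := by
    have hne : ringKrullDim A ≠ ⊥ := ringKrullDim_ne_bot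
    obtain ⟨c, hc⟩ : ∃ c : ℕ∞, ringKrullDim A = c :=
      ⟨(ringKrullDim A).unbot hne, (WithBot.coe_unbot _ hne).symm⟩
    rw [hc] at hfin ⊢
    have hc' : c ≠ ⊤ := by
      intro h
      rw [h] at hfin
      exact lt_irrefl _ hfin
    exact ⟨c.toNat, by exact_mod_cast (ENat.natCast_toNat hc').ge⟩
  exact ringKrullDim_le_of_comap_surjective_aux n A B φ hsurj hfib hn

end Groth.Agent.Lib.Helper4.DimFormula
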