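import Mathlib
import Groth.Agent.Lib.Helper4DimFormulaAB
import Groth.Agent.Lib.Helper6OpenDimB

/-!
# Dimension formula at points where the morphism is open (helper4)

* `ringKrullDim_stalk_le_add_fiber'`: `dim O_{X,x} ≤ dim O_{Y,y} + dim O_{X_y,x}` for `X` locally Noetherian.
* `ringKrullDim_stalk_le_of_isOpenAt`: `f` open at `z`, `dim O_{X_y,z} = 0` ⟹ `dim O_{Y,f z} ≤ dim O_{X,z}`.
* `ringKrullDim_stalk_eq_add_of_isOpenAt`: EGA IV 14.2.1-type dimension formula.
-/

set_option autoImplicit false
set_option linter.style.haveILetI false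

universe u

open AlgebraicGeometry CategoryTheory TopologicalSpace IsLocalRing

namespace Groth.Agent.Lib.Helper4.DimFormula

open Groth.Agent.Lib.Helper4.FibDim

variable {X Y : Scheme.{u}} (f : X ⟶ Y)

theorem ringKrullDim_stalk_le_add_fiber' [IsLocallyNoetherian X] [IsLocallyNoetherian Y] (s : Y) (z : f.fiber s) :
    ringKrullDim (X.presheaf.stalk (f.fiberι s z)) ≤
      ringKrullDim (Y.presheaf.stalk (f (f.fiberι s z))) +
        ringKrullDim ((f.fiber s).presheaf.stalk z) := by
  rw [ringKrullDim_stalk_fiber_eq]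
  set x := f.fiberι s z with hx
  set R := Y.presheaf.stalk (f x)
  set S := X.presheaf.stalk x
  set φ : R →+* S := (f.stalkMap x).hom with hφ
  letI : Algebra R S := φ.toAlgebra
  have hlocal : IsLocalHom φ := inferInstanceAs (IsLocalHom (f.stalkMap x).hom)
  have hcomap : (maximalIdeal S).comap φ = maximalIdeal R :=
    ((IsLocalRing.local_hom_TFAE φ).out 0 4).mp hlocal
  haveI : (maximalIdeal S).LiesOver (maximalIdeal R) := ⟨hcomap.symm⟩
  have h1 := Ideal.height_le_height_add_of_liesOver (maximalIdeal R) (maximalIdeal S)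
  set I : Ideal S := (maximalIdeal R).map (algebraMap R S) with hI
  have hIle : I ≤ maximalIdeal S := by
    rw [hI, Ideal.map_le_iff_le_comap]
    exact hcomap.ge
  have hne : I ≠ ⊤ := fun h => (maximalIdeal.isMaximal S).ne_top (top_le_iff.mp (h ▸ hIle))
  haveI : IsLocalRing (S ⧸ I) := Groth.Agent.Lib.Helper5.isLocalRing_quotient hne
  rw [← IsLocalRing.maximalIdeal_height_eq_ringKrullDim (R := S),
    ← IsLocalRing.maximalIdeal_height_eq_ringKrullDim (R := R)]
  have h2 : ringKrullDim (S ⧸ I) = ((maximalIdeal S).map (Ideal.Quotient.mk I)).height := by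
    rw [← IsLocalRing.maximalIdeal_height_eq_ringKrullDim (R := S ⧸ I),
      Groth.Agent.Lib.Helper5.maximalIdeal_quotient_eq_map]
  show ((maximalIdeal S).height : WithBot ℕ∞) ≤ (maximalIdeal R).height + ringKrullDim (S ⧸ I)
  rw [h2]
  exact_mod_cast h1

theorem ringKrullDim_stalk_le_of_isOpenAt [IsLocallyNoetherian X] [IsLocallyNoetherian Y] (z : X)
    (hopen : EGA43.IsOpenAt f.base z) (hfib : fibStalkDim f z ≤ 0) :
    ringKrullDim (Y.presheaf.stalk (f.base z)) ≤ ringKrullDim (X.presheaf.stalk z) := by
  refine ringKrullDim_le_of_comap_surjective (Y.presheaf.stalk (f.base z)) (X.presheaf.stalk z)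
    (f.stalkMap z).hom ?_ ?_
  · intro p
    have hy' : Y.fromSpecStalk (f.base z) p ⤳ f.base z := by
      have : Y.fromSpecStalk (f.base z) p ∈ Set.range (Y.fromSpecStalk (f.base z)) := ⟨p, rfl⟩
      rw [Scheme.range_fromSpecStalk] at this
      exact this
    obtain ⟨z', hz'z, hfz'⟩ := Groth.Agent.Lib.Helper6.OpenDim.exists_specializes_of_isOpenAt f z
      hopen _ hy'
    have hz'r : z' ∈ Set.range (X.fromSpecStalk z) := by
      rw [Scheme.range_fromSpecStalk]
      exact hz'z
    obtain ⟨q, rfl⟩ := hz'r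
    refine ⟨q, ?_⟩
    have h1 : f.base (X.fromSpecStalk z q) =
        Y.fromSpecStalk (f.base z) (Spec.map (f.stalkMap z) q) := by
      rw [← Scheme.Hom.comp_apply, ← Scheme.Hom.comp_apply, Scheme.SpecMap_stalkMap_fromSpecStalk]
    rw [h1] at hfz'
    exact (Y.fromSpecStalk (f.base z)).isEmbedding.injective hfz'
  · intro q hq hle
    set I : Ideal (X.presheaf.stalk z) :=
      (maximalIdeal (Y.presheaf.stalk (f.base z))).map (f.stalkMap z).hom with hI
    haveI : Ring.KrullDimLE 0 (X.presheaf.stalk z ⧸ I) := Ring.krullDimLE_iff.mpr hfib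
    have hprime : (q.map (Ideal.Quotient.mk I)).IsPrime :=
      Ideal.map_isPrime_of_surjective Ideal.Quotient.mk_surjective (by rw [Ideal.mk_ker]; exact hle)
    have hmax : (q.map (Ideal.Quotient.mk I)).IsMaximal := Ideal.isMaximal_of_isPrime _
    have hcm : (q.map (Ideal.Quotient.mk I)).comap (Ideal.Quotient.mk I) = q := by
      rw [Ideal.comap_map_of_surjective _ Ideal.Quotient.mk_surjective,
        ← RingHom.ker_eq_comap_bot, Ideal.mk_ker, sup_eq_left.mpr hle]
    have hqmax : q.IsMaximal := by
      rw [← hcm]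
      exact Ideal.comap_isMaximal_of_surjective _ Ideal.Quotient.mk_surjective
    exact IsLocalRing.eq_maximalIdeal hqmax

/-- EGA IV 14.2.1-type: if `f` is open at the generic points of the irreducible components of the fibre
through `x`, then `dim O_{X,x} = dim O_{Y,y} + dim O_{X_y,x}`. -/
theorem ringKrullDim_stalk_eq_add_of_isOpenAt [IsLocallyNoetherian X] [IsLocallyNoetherian Y] (x : X)
    (h : ∀ z : ↥(f.fiber (f.base x)), z ⤳ f.asFiber x →
      (∀ z' : ↥(f.fiber (f.base x)), z' ⤳ z → z' = z) →
      EGA43.IsOpenAt f.base ((f.fiberι (f.base x)).base z)) :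
    ringKrullDim (X.presheaf.stalk x) =
      ringKrullDim (Y.presheaf.stalk (f.base x)) +
        ringKrullDim ((f.fiber (f.base x)).presheaf.stalk (f.asFiber x)) := by
  apply le_antisymm
  · have h1 := ringKrullDim_stalk_le_add_fiber' f (f.base x) (f.asFiber x)
    rw [f.fiberι_asFiber x] at h1
    exact h1
  · have key := add_le_ringKrullDim_stalk_of_forall_maximal f
      (f.base x) (ringKrullDim (Y.presheaf.stalk (f.base x))) (f.asFiber x) ?_
    · rw [f.fiberι_asFiber x] at key
      exact key
    · intro w' hw' hmax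
      have hz : f.base (f.fiberι (f.base x) w') = f.base x := by
        have : f.fiberι (f.base x) w' ∈ Set.range (f.fiberι (f.base x)) := ⟨w', rfl⟩
        rw [f.range_fiberι] at this
        exact this
      have hz0 : fibStalkDim f (f.fiberι (f.base x) w') ≤ 0 := by
        rw [← ringKrullDim_stalk_fiber_eq_fibStalkDim, ringKrullDim_stalk_eq_coheight]
        have : Order.coheight w' = 0 := by
          rw [Order.coheight_eq_zero]
          intro b hb
          have : b = w' := hmax b hb
          rw [this]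
        rw [this]
        rfl
      have h1 := ringKrullDim_stalk_le_of_isOpenAt f _ (h w' hw' hmax) hz0
      rw [hz] at h1
      exact h1

end Groth.Agent.Lib.Helper4.DimFormula
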