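import Mathlib
import Groth.Agent.Lib.Helper3RelDim
import Groth.Agent.Lib.Helper4DimFormulaAD
import Groth.Agent.Lib.Helper4DimFormulaAC
import Groth.Agent.Lib.Helper4WithBotENat

set_option autoImplicit false
set_option linter.style.haveILetI false

universe u

open AlgebraicGeometry CategoryTheory TopologicalSpace Topology

namespace Groth.Agent.Lib.Helper3.RelDimFlat

open Groth.Agent.Lib.Helper4.VarDim Groth.Agent.Lib.Helper4.FibDim
  Groth.Agent.Lib.Helper4.DimFormula Groth.Agent.Lib.Helper7.TopDim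

attribute [local instance] Curv2.resAlgebra

/-- the dimension of an open subset of a scheme is the supremum of the dimensions of the local
rings of its points. -/
theorem dim_opens_eq_iSup (X : Scheme.{u}) (U : X.Opens) :
    topologicalKrullDim ↥(U : Set X) = ⨆ z : U, ringKrullDim (X.presheaf.stalk z.1) := by
  have h := topologicalKrullDim_eq_iSup_ringKrullDim_stalk (U : Scheme.{u})
  refine h.trans ?_
  refine iSup_congr fun z => ?_
  exact ringKrullDim_eq_of_ringEquiv (asIso (U.ι.stalkMap z)).commRingCatIsoToRingEquiv.symm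

variable {X Y : Scheme.{u}} [IsLocallyNoetherian X] [IsLocallyNoetherian Y] (f : X ⟶ Y) [Flat f]
  [LocallyOfFiniteType f]

/-- the dimension formula for flat morphisms of locally Noetherian schemes. -/
theorem stalk_dim_formula (z : X) :
    ringKrullDim (X.presheaf.stalk z) = ringKrullDim (Y.presheaf.stalk (f z)) +
      ringKrullDim ((f.fiber (f z)).presheaf.stalk (f.asFiber z)) := by
  refine ringKrullDim_stalk_eq_add_of_isOpenAt f z (fun w _ _ U hU => ?_)
  obtain ⟨U', hU'U, hU'o, hwU'⟩ := mem_nhds_iff.mp hU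
  exact Filter.mem_of_superset ((f.isOpenMap U' hU'o).mem_nhds ⟨_, hwU', rfl⟩)
    (Set.image_mono hU'U)

theorem stalk_add_ptTrdeg (d : ℕ) (hd : ∀ z : X, FlatMor.fibreDimAt f z = (d : WithBot ℕ∞))
    (z : X) :
    ringKrullDim (X.presheaf.stalk z) + (ptTrdeg f z : WithBot ℕ∞) =
      ringKrullDim (Y.presheaf.stalk (f z)) + (d : WithBot ℕ∞) := by
  rw [stalk_dim_formula f z, add_assoc, ← fibreDimAt_eq_stalk_add_ptTrdeg, hd z]

/-- every nonempty open part of a fibre contains a point with `ptTrdeg = 0`. -/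
theorem exists_ptTrdeg_eq_zero (U : X.Opens) (z₀ : X) (hz₀ : z₀ ∈ U) :
    ∃ z : X, z ∈ U ∧ f z = f z₀ ∧ ptTrdeg f z = 0 := by
  set y := f z₀ with hy
  letI : (f.fiber y).Over (Spec (CommRingCat.of (Y.residueField y))) :=
    ⟨f.fiberToSpecResidueField y⟩
  haveI : LocallyOfFiniteType ((f.fiber y) ↘ Spec (CommRingCat.of (Y.residueField y))) :=
    locallyOfFiniteType_fiberToSpecResidueField f _
  have hne : ((f.fiberι y) ⁻¹' (U : Set X)).Nonempty :=
    ⟨f.asFiber z₀, by show f.fiberι _ (f.asFiber z₀) ∈ U; rw [f.fiberι_asFiber]; exact hz₀⟩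
  have hop : IsOpen ((f.fiberι y) ⁻¹' (U : Set X)) := U.isOpen.preimage (f.fiberι y).continuous
  obtain ⟨w, hwU, hwc⟩ := nonempty_inter_closedPoints hne hop.isLocallyClosed
  refine ⟨f.fiberι y w, hwU, ?_, ?_⟩
  · have : f.fiberι y w ∈ Set.range (f.fiberι y) := ⟨w, rfl⟩
    rw [f.range_fiberι] at this
    exact this
  · rw [← trdegNat_eq_ptTrdeg f y w]
    exact trdegNat_eq_of_trdeg_eq _ _ w 0
      (by exact_mod_cast trdeg_eq_zero_of_isClosed (Y.residueField y) (f.fiber y) w hwc)

/-- a flat morphism of relative dimension `d` raises the dimension of every nonempty open by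
`d`. -/
theorem dim_opens_eq_add (d : ℕ) (hd : ∀ z : X, FlatMor.fibreDimAt f z = (d : WithBot ℕ∞))
    (U : X.Opens) :
    topologicalKrullDim ↥(U : Set X) = topologicalKrullDim ↥(f '' (U : Set X)) +
      (d : WithBot ℕ∞) := by
  let V : Y.Opens := ⟨f '' (U : Set X), f.isOpenMap _ U.isOpen⟩
  show _ = topologicalKrullDim ↥(V : Set Y) + _
  rw [dim_opens_eq_iSup X U, dim_opens_eq_iSup Y V]
  apply le_antisymm
  · refine iSup_le fun z => ?_
    have h1 := stalk_add_ptTrdeg f d hd z.1
    have h2 : ringKrullDim (X.presheaf.stalk z.1) ≤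
        ringKrullDim (X.presheaf.stalk z.1) + (ptTrdeg f z.1 : WithBot ℕ∞) := by
      conv_lhs => rw [← add_zero (ringKrullDim (X.presheaf.stalk z.1))]
      exact add_le_add_right (by exact_mod_cast Nat.zero_le _) _
    rw [h1] at h2
    refine h2.trans (add_le_add_left ?_ _)
    exact le_iSup (fun y : V => ringKrullDim (Y.presheaf.stalk y.1)) ⟨f z.1, z.1, z.2, rfl⟩
  · apply Groth.Agent.Lib.Helper4.WithBotENat.add_le_of_forall_nat
    intro n m hn hm
    obtain ⟨⟨y, z₀, hz₀, rfl⟩, hy⟩ :=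
      Groth.Agent.Lib.Helper4.WithBotENat.exists_le_of_natCast_le_iSup _ n hn
    obtain ⟨z, hzU, hfz, hz0⟩ := exists_ptTrdeg_eq_zero f U z₀ hz₀
    have h1 := stalk_add_ptTrdeg f d hd z
    rw [hz0, Nat.cast_zero, add_zero, hfz] at h1
    refine le_trans ?_ (le_iSup (fun z : U => ringKrullDim (X.presheaf.stalk z.1)) ⟨z, hzU⟩)
    show ((n + m : ℕ) : WithBot ℕ∞) ≤ ringKrullDim (X.presheaf.stalk z)
    rw [h1]
    push_cast
    exact add_le_add hy hm

/-- **`dim_x X = dim_{f x} Y + d`** for a flat morphism of relative dimension `d` between locally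
Noetherian schemes. -/
theorem localDim_eq_add (d : ℕ) (hd : Cyc.HasRelDim f d) (x : X) :
    FlatMor.localDim ↑X x = FlatMor.localDim ↑Y (f x) + (d : WithBot ℕ∞) := by
  rw [Groth.Agent.Lib.Helper3.RelDim.hasRelDim_iff_forall_fibreDimAt_eq] at hd
  apply le_antisymm
  · obtain ⟨V₀, hxV₀, hV₀⟩ := exists_opens_dim_eq_localDim (f x)
    rw [← hV₀]
    refine (localDim_le x (f ⁻¹ᵁ V₀) hxV₀).trans ?_
    rw [dim_opens_eq_add f d hd]
    refine add_le_add_left ?_ _
    have hsub : f '' ((f ⁻¹ᵁ V₀ : X.Opens) : Set X) ⊆ (V₀ : Set Y) := by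
      rintro _ ⟨z, hz, rfl⟩
      exact hz
    exact (IsEmbedding.inclusion hsub).isInducing.topologicalKrullDim_le
  · rw [le_localDim_iff]
    intro U hxU
    rw [dim_opens_eq_add f d hd]
    refine add_le_add_left ?_ _
    exact localDim_le (f x) ⟨f '' (U : Set X), f.isOpenMap _ U.isOpen⟩ ⟨x, hxU, rfl⟩

end Groth.Agent.Lib.Helper3.RelDimFlat
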