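import Mathlib

set_option autoImplicit false
universe u
open CategoryTheory CategoryTheory.Limits AlgebraicGeometry TopologicalSpace

namespace Groth.Agent.Lib.Helper10.RedInd

open Scheme.IdealSheafData in
theorem isReduced_subscheme_vanishingIdeal {X : Scheme.{u}} (Z : Closeds X) :
    IsReduced (vanishingIdeal Z).subscheme := by
  have : ∀ U : (vanishingIdeal Z).subschemeCover.openCover.I₀,
      IsReduced ((vanishingIdeal Z).subschemeCover.openCover.X U) := by
    intro (U : X.affineOpens)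
    have : _root_.IsReduced (Γ(X, U) ⧸ (vanishingIdeal Z).ideal U) := by
      rw [← Ideal.isRadical_iff_quotient_reduced]
      exact PrimeSpectrum.isRadical_vanishingIdeal _
    change IsReduced (Spec (CommRingCat.of (Γ(X, U) ⧸ (vanishingIdeal Z).ideal U)))
    infer_instance
  exact IsReduced.of_openCover _ (vanishingIdeal Z).subschemeCover.openCover

open Scheme.IdealSheafData in
theorem ker_eq_vanishingIdeal_of_isReduced {Y U : Scheme.{u}} (k : Y ⟶ U) [IsReduced Y] :
    k.ker = vanishingIdeal (.closure (Set.range k)) := by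
  rw [← map_bot, ← Scheme.nilradical_eq_bot, ← vanishingIdeal_top, map_vanishingIdeal]
  simp

theorem exists_iso_of_isClosedImmersion {Y Y' U : Scheme.{u}} (k : Y ⟶ U) (k' : Y' ⟶ U)
    [IsClosedImmersion k] [IsClosedImmersion k'] [IsReduced Y] [IsReduced Y']
    (h : Set.range k = Set.range k') : ∃ e : Y ≅ Y', e.hom ≫ k' = k := by
  have hker : k.ker = k'.ker := by
    rw [ker_eq_vanishingIdeal_of_isReduced, ker_eq_vanishingIdeal_of_isReduced, h]
  let g : Y ⟶ Y' := IsClosedImmersion.lift k' k hker.ge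
  have hg : g ≫ k' = k := IsClosedImmersion.lift_fac _ _ _
  have : IsIso g := IsClosedImmersion.isIso_of_ker_eq k k' g hg hker
  exact ⟨asIso g, hg⟩

theorem range_eq_preimage_range_comp_ι {X Y : Scheme.{u}} (W : X.Opens) (k : Y ⟶ W) :
    Set.range k = W.ι ⁻¹' (Set.range (k ≫ W.ι)) := by
  ext x
  constructor
  · rintro ⟨y, rfl⟩
    exact ⟨y, rfl⟩
  · rintro ⟨y, hy⟩
    exact ⟨y, W.ι.injective hy⟩

open Scheme.IdealSheafData in
theorem main (X : Scheme.{u}) (Z : Set X) (hZ : IsLocallyClosed Z) :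
    (∃ (Y : Scheme.{u}) (i : Y ⟶ X), IsImmersion i ∧ IsReduced Y ∧ Set.range i = Z) ∧
      ∀ (Y Y' : Scheme.{u}) (i : Y ⟶ X) (i' : Y' ⟶ X), IsImmersion i → IsReduced Y → IsImmersion i' →
        IsReduced Y' → Set.range i = Z → Set.range i' = Z →
          ∃ e : Y ≅ Y', e.hom ≫ i' = i := by
  let U : X.Opens := ⟨coborder Z, hZ.isOpen_coborder⟩
  have hZU : Z ⊆ U := subset_coborder
  have hcl : IsClosed (U.ι ⁻¹' Z) := isClosed_preimage_val_coborder
  constructor
  · let Z' : Closeds U := ⟨U.ι ⁻¹' Z, hcl⟩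
    refine ⟨(vanishingIdeal Z').subscheme, (vanishingIdeal Z').subschemeι ≫ U.ι, inferInstance,
      isReduced_subscheme_vanishingIdeal Z', ?_⟩
    rw [Scheme.Hom.comp_base, TopCat.coe_comp, Set.range_comp, range_subschemeι,
      coe_support_vanishingIdeal]
    change U.ι '' (U.ι ⁻¹' Z) = Z
    rw [Set.image_preimage_eq_inter_range, Scheme.Opens.range_ι]
    exact Set.inter_eq_left.mpr hZU
  · intro Y Y' i i' _ _ _ _ hi hi'
    have key : ∀ (Y : Scheme.{u}) (i : Y ⟶ X), IsImmersion i → Set.range i = Z →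
        ∃ k : Y ⟶ U, k ≫ U.ι = i ∧ IsClosedImmersion k ∧ Set.range k = U.ι ⁻¹' Z := by
      intro Y i _ hi
      have h1 : Set.range i ⊆ Set.range U.ι := by
        rw [Scheme.Opens.range_ι, hi]; exact hZU
      let k := IsOpenImmersion.lift U.ι i h1
      have hk : k ≫ U.ι = i := IsOpenImmersion.lift_fac _ _ _
      have hr : Set.range k = U.ι ⁻¹' Z := by
        rw [range_eq_preimage_range_comp_ι, hk, hi]
      have : IsPreimmersion (k ≫ U.ι) := hk ▸ inferInstance
      have : IsPreimmersion k := .of_comp k U.ι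
      exact ⟨k, hk, .of_isPreimmersion _ (hr ▸ hcl), hr⟩
    obtain ⟨k, hk, _, hr⟩ := key Y i ‹_› hi
    obtain ⟨k', hk', _, hr'⟩ := key Y' i' ‹_› hi'
    obtain ⟨e, he⟩ := exists_iso_of_isClosedImmersion k k' (hr.trans hr'.symm)
    exact ⟨e, by rw [← hk', ← hk, reassoc_of% he]⟩

end Groth.Agent.Lib.Helper10.RedInd
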