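import Mathlib
import Groth.Prelude.Def_Cyc
import Groth.Agent.Lib.Helper4DimFormulaU
import Groth.Agent.Lib.Helper4DimFormulaQ
import Groth.Agent.Lib.Helper28Catenary

/-!
# Dimension functions: maximal points near a point, local quotients, CM local rings (helper4)

* `exists_maximal_specializes`: every point has a maximal generization.
* `exists_opens_forall_maximal_specializes`: on a locally Noetherian scheme every point `x` has an
  open neighbourhood all of whose maximal points specialize to `x`.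
* `ker_specMap_under`: the chart prime of `ξ` is the contraction of `ker (Cyc.specMap x ξ h)`.
* `isDimFun_eq_add_locQuotDim`: `δ ξ = δ x + dim (O_{X,x}/𝔭_ξ)`.
* `isDimFun_maximal_eq_add_stalkDim_of_CM`: for `O_{X,x}` Cohen–Macaulay and `ξ ⤳ x` maximal,
  `δ ξ = δ x + dim O_{X,x}`.
-/

set_option autoImplicit false
set_option linter.style.haveILetI false

universe u

open AlgebraicGeometry CategoryTheory TopologicalSpace

namespace Groth.Agent.Lib.Helper4.DimFormula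

open Groth.Agent.Lib.Helper4.VarDim

theorem exists_maximal_specializes (X : Scheme.{u}) (x : X) :
    ∃ ξ : X, ξ ⤳ x ∧ ∀ ξ' : X, ξ' ⤳ ξ → ξ' = ξ := by
  have hZ := irreducibleComponent_mem_irreducibleComponents x
  obtain ⟨ξ, hξ⟩ := QuasiSober.sober hZ.1 (isClosed_of_mem_irreducibleComponents _ hZ)
  have hξcl : closure ({ξ} : Set X) = irreducibleComponent x := hξ.def
  refine ⟨ξ, ?_, fun ξ' hξ' => ?_⟩
  · rw [specializes_iff_mem_closure, hξcl]
    exact mem_irreducibleComponent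
  · exact eq_of_specializes_generic ξ ξ' (by rw [hξcl]; exact hZ) hξ'

theorem exists_opens_forall_maximal_specializes (X : Scheme.{u}) [IsLocallyNoetherian X] (x : X) :
    ∃ U : X.Opens, x ∈ U ∧ ∀ ξ : X, ξ ∈ U → (∀ ξ' : X, ξ' ⤳ ξ → ξ' = ξ) → ξ ⤳ x := by
  classical
  obtain ⟨V, hV, hxV, -⟩ := exists_isAffineOpen_mem_and_subset (U := ⊤) (x := x) (by simp)
  haveI : IsNoetherianRing Γ(X, V) := IsLocallyNoetherian.component_noetherian ⟨V, hV⟩
  set px : Ideal Γ(X, V) := (hV.primeIdealOf ⟨x, hxV⟩).asIdeal with hpx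
  haveI : px.IsPrime := (hV.primeIdealOf ⟨x, hxV⟩).2
  have hfin := minimalPrimes.finite_of_isNoetherianRing Γ(X, V)
  let g : Ideal Γ(X, V) → Γ(X, V) := fun P =>
    if h : ∃ a, a ∈ P ∧ a ∉ px then h.choose else 1
  have hg1 : ∀ P, g P ∉ px := by
    intro P
    by_cases h : ∃ a, a ∈ P ∧ a ∉ px
    · simp only [g, dif_pos h]
      exact h.choose_spec.2
    · simp only [g, dif_neg h]
      exact fun h1 => ‹px.IsPrime›.ne_top ((Ideal.eq_top_iff_one _).mpr h1)
  have hg2 : ∀ P : Ideal Γ(X, V), ¬ P ≤ px → g P ∈ P := by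
    intro P hP
    have h : ∃ a, a ∈ P ∧ a ∉ px := by
      rw [SetLike.not_le_iff_exists] at hP
      exact hP
    simp only [g, dif_pos h]
    exact h.choose_spec.1
  set a : Γ(X, V) := ∏ P ∈ hfin.toFinset, g P with ha
  have hapx : a ∉ px := by
    rw [ha, Ideal.IsPrime.prod_mem_iff]
    rintro ⟨P, -, hP⟩
    exact hg1 P hP
  refine ⟨⟨hV.fromSpec '' (PrimeSpectrum.basicOpen a : Set (PrimeSpectrum Γ(X, V))),
    hV.fromSpec.isOpenEmbedding.isOpenMap _ (PrimeSpectrum.basicOpen a).2⟩, ?_, ?_⟩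
  · exact ⟨hV.primeIdealOf ⟨x, hxV⟩, hapx, hV.fromSpec_primeIdealOf ⟨x, hxV⟩⟩
  · rintro ξ ⟨q, hq, rfl⟩ hmax
    have hqV := fromSpec_mem hV q
    have hqmin : q.asIdeal ∈ minimalPrimes Γ(X, V) := by
      refine ⟨⟨q.2, bot_le⟩, fun Q hQ hQq => ?_⟩
      have hQV := fromSpec_mem hV ⟨Q, hQ.1⟩
      have h1 : hV.fromSpec ⟨Q, hQ.1⟩ ⤳ hV.fromSpec q := by
        rw [← primeIdealOf_le_iff hV _ _ hQV hqV, primeIdealOf_fromSpec hV _ hQV,
          primeIdealOf_fromSpec hV _ hqV]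
        exact hQq
      have h2 := hV.fromSpec.isOpenEmbedding.injective (hmax _ h1)
      rw [← h2]
    have hle : q.asIdeal ≤ px := by
      by_contra hnot
      have h1 := hg2 q.asIdeal hnot
      have h2 : a ∈ q.asIdeal := by
        rw [ha]
        exact Ideal.prod_mem q.asIdeal (hfin.mem_toFinset.mpr hqmin) h1
      exact hq h2
    rw [← primeIdealOf_le_iff hV _ _ hqV hxV, primeIdealOf_fromSpec hV _ hqV]
    exact hle

section LocQuot

variable {X : Scheme.{u}} {V : X.Opens} (hV : IsAffineOpen V)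

theorem ker_specMap_under (x ξ : X) (h : ξ ⤳ x) (hxV : x ∈ V) (hξV : ξ ∈ V) :
    letI := X.presheaf.algebra_section_stalk (U := V) ⟨x, hxV⟩
    (RingHom.ker (Cyc.specMap x ξ h)).under Γ(X, V) = (hV.primeIdealOf ⟨ξ, hξV⟩).asIdeal := by
  letI := X.presheaf.algebra_section_stalk (U := V) ⟨x, hxV⟩
  ext a
  rw [Ideal.under_def, Ideal.mem_comap, RingHom.mem_ker, mem_primeIdealOf_iff hV ξ hξV]
  change (X.presheaf.stalkSpecializes h ≫ X.residue ξ).hom ((X.presheaf.germ V x hxV).hom a) = 0 ↔ _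
  have : (X.presheaf.stalkSpecializes h ≫ X.residue ξ).hom ((X.presheaf.germ V x hxV).hom a) =
      (X.presheaf.germ V ξ hξV ≫ X.residue ξ).hom a := by
    have h1 := TopCat.Presheaf.germ_stalkSpecializes X.presheaf hxV h
    simp only [CommRingCat.hom_comp, RingHom.coe_comp, Function.comp_apply]
    rw [← h1]
    rfl
  rw [this]

theorem isDimFun_eq_add_locQuotDim (X : Scheme.{u}) [IsLocallyNoetherian X] (δ : X → ℤ)
    (hδ : Cyc.IsDimFun X δ) (x ξ : X) (h : ξ ⤳ x) :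
    ∃ k : ℕ, ringKrullDim (Cyc.LocQuot x ξ h) = k ∧ δ ξ = δ x + k := by
  obtain ⟨V, hV, hxV, -⟩ := exists_isAffineOpen_mem_and_subset (U := ⊤) (x := x) (by simp)
  have hξV : ξ ∈ V := h.mem_open V.2 hxV
  haveI : IsNoetherianRing Γ(X, V) := IsLocallyNoetherian.component_noetherian ⟨V, hV⟩
  haveI := hV.isLocalization_stalk ⟨x, hxV⟩
  letI := X.presheaf.algebra_section_stalk (U := V) ⟨x, hxV⟩
  have hle : (hV.primeIdealOf ⟨ξ, hξV⟩).asIdeal ≤ (hV.primeIdealOf ⟨x, hxV⟩).asIdeal :=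
    (primeIdealOf_le_iff hV ξ x hξV hxV).mpr h
  obtain ⟨k, hk, hδk⟩ := isDimFun_eq_add_height hV δ hδ ξ x hξV hxV _ _ rfl rfl hle
  refine ⟨k, ?_, hδk⟩
  haveI : (RingHom.ker (Cyc.specMap x ξ h)).IsPrime := RingHom.ker_isPrime _
  obtain ⟨-, h2⟩ := ringKrullDim_quotient_eq_height_map Γ(X, V)
    (hV.primeIdealOf ⟨x, hxV⟩).asIdeal (X.presheaf.stalk x) (RingHom.ker (Cyc.specMap x ξ h))
  rw [ker_specMap_under hV x ξ h hxV hξV] at h2
  change ringKrullDim (X.presheaf.stalk x ⧸ RingHom.ker (Cyc.specMap x ξ h)) = _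
  rw [h2, ← hk]
  rfl

end LocQuot

theorem isDimFun_maximal_eq_add_stalkDim_of_CM (X : Scheme.{u}) [IsLocallyNoetherian X] (δ : X → ℤ)
    (hδ : Cyc.IsDimFun X δ) (x ξ : X) (h : ξ ⤳ x) (hξ : ∀ ξ' : X, ξ' ⤳ ξ → ξ' = ξ)
    [hCM : LocCoh.IsCohenMacaulayLocalRing (X.presheaf.stalk x)] :
    ∃ c : ℕ, ringKrullDim (X.presheaf.stalk x) = c ∧ δ ξ = δ x + c := by
  obtain ⟨V, hV, hxV, -⟩ := exists_isAffineOpen_mem_and_subset (U := ⊤) (x := x) (by simp)
  have hξV : ξ ∈ V := h.mem_open V.2 hxV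
  haveI : IsNoetherianRing Γ(X, V) := IsLocallyNoetherian.component_noetherian ⟨V, hV⟩
  haveI := hV.isLocalization_stalk ⟨x, hxV⟩
  letI := X.presheaf.algebra_section_stalk (U := V) ⟨x, hxV⟩
  set px : Ideal Γ(X, V) := (hV.primeIdealOf ⟨x, hxV⟩).asIdeal with hpx
  set Pξ : Ideal Γ(X, V) := (hV.primeIdealOf ⟨ξ, hξV⟩).asIdeal with hPξ
  haveI : px.IsPrime := (hV.primeIdealOf ⟨x, hxV⟩).2
  haveI : Pξ.IsPrime := (hV.primeIdealOf ⟨ξ, hξV⟩).2
  have hle : Pξ ≤ px := (primeIdealOf_le_iff hV ξ x hξV hxV).mpr h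
  obtain ⟨k, hk, hδk⟩ := isDimFun_eq_add_height hV δ hδ ξ x hξV hxV Pξ px rfl rfl hle
  refine ⟨k, ?_, hδk⟩
  -- `Pξ` is a minimal prime
  have hPmin : Pξ ∈ minimalPrimes Γ(X, V) := by
    refine ⟨⟨inferInstance, bot_le⟩, fun Q hQ hQq => ?_⟩
    have hQV := fromSpec_mem hV ⟨Q, hQ.1⟩
    have h1 : hV.fromSpec ⟨Q, hQ.1⟩ ⤳ ξ := by
      rw [← primeIdealOf_le_iff hV _ _ hQV hξV, primeIdealOf_fromSpec hV _ hQV]
      exact hQq
    have h2 := hξ _ h1
    have h3 : hV.primeIdealOf ⟨ξ, hξV⟩ = ⟨Q, hQ.1⟩ := by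
      rw [← primeIdealOf_fromSpec hV ⟨Q, hQ.1⟩ hQV]
      congr 1
      exact Subtype.ext h2.symm
    rw [hPξ, h3]
  have hdisj : Disjoint (px.primeCompl : Set Γ(X, V)) (Pξ : Set Γ(X, V)) := by
    rw [Set.disjoint_left]
    intro a ha ha'
    exact ha (hle ha')
  haveI hprime : (Pξ.map (algebraMap Γ(X, V) (X.presheaf.stalk x))).IsPrime :=
    IsLocalization.isPrime_of_isPrime_disjoint px.primeCompl (X.presheaf.stalk x) Pξ inferInstance
      hdisj
  have hunder := IsLocalization.under_map_of_isPrime_disjoint px.primeCompl (X.presheaf.stalk x)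
    (inferInstance : Pξ.IsPrime) hdisj
  have hht : (Pξ.map (algebraMap Γ(X, V) (X.presheaf.stalk x))).height = 0 := by
    rw [IsLocalization.height_map_of_disjoint px.primeCompl Pξ hdisj]
    exact Ideal.height_eq_zero_iff.mpr hPmin
  obtain ⟨-, h2⟩ := ringKrullDim_quotient_eq_height_map Γ(X, V) px (X.presheaf.stalk x)
    (Pξ.map (algebraMap Γ(X, V) (X.presheaf.stalk x)))
  rw [hunder] at h2
  have h3 := Groth.Agent.Lib.Helper28.ringKrullDim_eq_quotient_add_height_of_isCohenMacaulayModule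
    (M := X.presheaf.stalk x) hCM.supportDim_eq_depth Groth.Agent.Lib.Helper28.support_self_eq_univ
    (Pξ.map (algebraMap Γ(X, V) (X.presheaf.stalk x)))
  rw [hht, h2, ← hk] at h3
  rw [h3]
  simp

end Groth.Agent.Lib.Helper4.DimFormula
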