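import Mathlib
import Groth.Agent.Lib.Helper4DimFormulaAL
import Groth.Agent.Lib.Helper4DimFormulaY

/-!
# Equidimensionality at a point from the dimension formula (helper4)

EGA IV 13.3.6-type converse (S3397): `O_{X,x}` equidimensional and
`dim O_{X,x} = dim O_{Y,y} + dim O_{X_y,x}` imply that `f` is equidimensional at `x`.

* `isEquidimAt_of_forall_maximal`: a general criterion for `EGA43.IsEquidimAt`.
* `isEquidimAt_of_isEquidim_stalk_of_dim_formula`.
-/

set_option autoImplicit false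
set_option linter.style.haveILetI false

universe u

open AlgebraicGeometry CategoryTheory TopologicalSpace IsLocalRing

namespace Groth.Agent.Lib.Helper4.DimFormula

open Groth.Agent.Lib.Helper4.VarDim Groth.Agent.Lib.Helper4.FibDim

attribute [local instance] Curv2.resAlgebra

variable {X Y : Scheme.{u}} (f : X ⟶ Y) [LocallyOfFiniteType f]

/-- Criterion: if every maximal point `ξ ⤳ x` of `X` has relative transcendence degree `e` and maps to a
maximal point of `Y`, then `f` is equidimensional at `x` (`X` locally Noetherian). -/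
theorem isEquidimAt_of_forall_maximal [IsLocallyNoetherian X] (x : X) (e : ℕ)
    (hfd : FlatMor.fibreDimAt f x = e)
    (hA : ∀ ξ : X, (∀ ξ' : X, ξ' ⤳ ξ → ξ' = ξ) → ξ ⤳ x →
      ptTrdeg f ξ = e ∧ ∀ y' : Y, y' ⤳ f.base ξ → y' = f.base ξ) :
    EGA43.IsEquidimAt f x := by
  obtain ⟨U₁, hxU₁, hU₁⟩ := exists_opens_forall_maximal_specializes X x
  set U₂ : X.Opens := ⟨{x' : X | FlatMor.fibreDimAt f x' ≤ e}, isOpen_setOf_fibreDimAt_le' f e⟩
    with hU₂
  have hxU₂ : x ∈ U₂ := by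
    change FlatMor.fibreDimAt f x ≤ e
    rw [hfd]
  set U : X.Opens := U₁ ⊓ U₂ with hU
  refine ⟨e, U, ⟨hxU₁, hxU₂⟩, ?_, ?_⟩
  · -- (i)
    show ∀ Z ∈ irreducibleComponents (↥U.toScheme), ∃ W ∈ irreducibleComponents (Y : Type u),
      f.base x ∈ W ∧ closure ((U.ι ≫ f).base '' Z) = W
    intro Z hZ
    obtain ⟨u, hu⟩ := QuasiSober.sober hZ.1 (isClosed_of_mem_irreducibleComponents _ hZ)
    have hucl : closure ({u} : Set ↥U.toScheme) = Z := hu.def
    have humax : ∀ u' : ↥U.toScheme, u' ⤳ u → u' = u := fun u' hu' =>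
      eq_of_specializes_generic u u' (by rw [hucl]; exact hZ) hu'
    have hξU : U.ι u ∈ U := u.2
    have hξmax : ∀ ξ' : X, ξ' ⤳ U.ι u → ξ' = U.ι u := by
      intro ξ' hξ'
      have hξ'U : ξ' ∈ U := hξ'.mem_open U.2 hξU
      have h1 : (⟨ξ', hξ'U⟩ : ↥U.toScheme) ⤳ u :=
        U.ι.isOpenEmbedding.isInducing.specializes_iff.mp hξ'
      have h2 := humax _ h1
      rw [← h2]
      rfl
    have hξx : U.ι u ⤳ x := hU₁ _ hξU.1 hξmax
    obtain ⟨-, hfξmax⟩ := hA _ hξmax hξx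
    refine ⟨closure {f.base (U.ι u)}, mem_irreducibleComponents_of_forall_specializes _ hfξmax,
      specializes_iff_mem_closure.mp (hξx.map f.continuous), ?_⟩
    rw [← hucl, closure_image_closure (U.ι ≫ f).continuous, Set.image_singleton]
    rfl
  · -- (ii)
    show ∀ x' : ↥U.toScheme,
      ∀ Z ∈ irreducibleComponents ↥((U.ι ≫ f).fiber ((U.ι ≫ f).base x')),
        topologicalKrullDim ↥Z = e
    intro x' Z hZ
    obtain ⟨u, -, humax, hdim⟩ := exists_point_of_mem_irreducibleComponents (U.ι ≫ f) _ Z hZ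
    rw [hdim]
    have h1 := fibreDimAt_eq_ptTrdeg_of_maximal (U.ι ≫ f) u humax
    have h2 := fibreDimAt_opens_ι_comp f U u
    have hzU : U.ι u ∈ U := u.2
    have hle : FlatMor.fibreDimAt f (U.ι u) ≤ e := hzU.2
    have hge : (e : WithBot ℕ∞) ≤ FlatMor.fibreDimAt f (U.ι u) := by
      obtain ⟨ξ, hξmax, hξz⟩ :=
        Groth.Agent.Lib.Helper4.VarDim.exists_maximal_specializes (X := X) (U.ι u)
      have hξU : ξ ∈ U := hξz.mem_open U.2 hzU
      have hξx : ξ ⤳ x := hU₁ ξ hξU.1 hξmax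
      obtain ⟨htξ, -⟩ := hA ξ hξmax hξx
      have h3 := fibreDimAt_eq_ptTrdeg_of_maximal f ξ (fun y _ hy => hξmax y hy)
      have h4 := fibreDimAt_le_of_specializes f ξ (U.ι u) hξz
      rw [h3, htξ] at h4
      exact h4
    have h5 : FlatMor.fibreDimAt f (U.ι u) = e := le_antisymm hle hge
    rw [← h1, h2, h5]

variable [IsLocallyNoetherian Y]

theorem isEquidimAt_of_isEquidim_stalk_of_dim_formula (x : X)
    (hX : EGA4.IsEquidim (X.presheaf.stalk x))
    (h : ringKrullDim (X.presheaf.stalk x) =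
      ringKrullDim (Y.presheaf.stalk (f.base x)) +
        ringKrullDim ((f.fiber (f.base x)).presheaf.stalk (f.asFiber x))) :
    EGA43.IsEquidimAt f x := by
  haveI : IsLocallyNoetherian X := LocallyOfFiniteType.isLocallyNoetherian f
  obtain ⟨c, hc⟩ := exists_ringKrullDim_stalk_eq_nat' (Y := Y) (f.base x)
  obtain ⟨b, hb⟩ := exists_ringKrullDim_stalk_asFiber_eq_nat f x
  have hfdx : FlatMor.fibreDimAt f x = ((b + ptTrdeg f x : ℕ) : WithBot ℕ∞) := by
    rw [fibreDimAt_eq_stalk_add_ptTrdeg f x, hb]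
    push_cast
    rfl
  refine isEquidimAt_of_forall_maximal f x (b + ptTrdeg f x) hfdx ?_
  intro ξ hξmax hξx
  obtain ⟨𝔭, h𝔭, h𝔭ξ⟩ := exists_prime_fromSpecStalk_eq hξx
  have h𝔭min : 𝔭 ∈ minimalPrimes (X.presheaf.stalk x) :=
    (mem_minimalPrimes_iff_fromSpecStalk_maximal x 𝔭).mpr (by rw [h𝔭ξ]; exact hξmax)
  have h3 := ringKrullDim_quotient_add_ptTrdeg_le f x 𝔭
  haveI : (𝔭.comap (f.stalkMap x).hom).IsPrime := Ideal.comap_isPrime _ _
  have h6 := height_add_ringKrullDim_quotient_le' (𝔭.comap (f.stalkMap x).hom)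
  set r := ringKrullDim (Y.presheaf.stalk (f.base x) ⧸ 𝔭.comap (f.stalkMap x).hom) with hr
  have hrc : r ≤ c := hc ▸ ringKrullDim_quotient_le _
  obtain ⟨r', hr', hr'c⟩ := exists_nat_eq_of_le_of_nonneg hrc ringKrullDim_nonneg_of_nontrivial
  rw [hX 𝔭 h𝔭min, h, hc, hb, hr', h𝔭ξ] at h3
  have h4 : ptTrdeg f ξ ≤ b + ptTrdeg f x := by
    have h31 := fibreDimAt_eq_ptTrdeg_of_maximal f ξ (fun y _ hy => hξmax y hy)
    have h32 := fibreDimAt_le_of_specializes f ξ x hξx
    rw [h31, hfdx] at h32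
    exact_mod_cast h32
  have h3' : c + b + ptTrdeg f x ≤ r' + ptTrdeg f ξ := by exact_mod_cast h3
  have hr'eq : r' = c := by omega
  have htξ : ptTrdeg f ξ = b + ptTrdeg f x := by omega
  refine ⟨htξ, ?_⟩
  -- `f ξ` is a maximal point
  rw [hr', hr'eq, hc] at h6
  have hht : (𝔭.comap (f.stalkMap x).hom).height = 0 := by
    have h7 : (((𝔭.comap (f.stalkMap x).hom).height + c : ℕ∞) : WithBot ℕ∞) ≤ ((c : ℕ∞) : WithBot ℕ∞) := by
      exact_mod_cast h6
    have h8 : (𝔭.comap (f.stalkMap x).hom).height + c ≤ (c : ℕ∞) := WithBot.coe_le_coe.mp h7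
    have h9 : (𝔭.comap (f.stalkMap x).hom).height + c ≤ 0 + (c : ℕ∞) := by rwa [zero_add]
    exact le_antisymm ((ENat.add_le_add_iff_right (by simp)).mp h9) (by simp)
  have hmin : 𝔭.comap (f.stalkMap x).hom ∈ minimalPrimes (Y.presheaf.stalk (f.base x)) :=
    Ideal.height_eq_zero_iff.mp hht
  have h10 := (mem_minimalPrimes_iff_fromSpecStalk_maximal (f.base x)
    (𝔭.comap (f.stalkMap x).hom)).mp hmin
  rw [fromSpecStalk_comap_stalkMap, h𝔭ξ] at h10
  exact h10

end Groth.Agent.Lib.Helper4.DimFormula
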