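import Mathlib
import Groth.Agent.Lib.Helper4DimFormulaAM
import Groth.Agent.Lib.Helper6OpenDimD
import Groth.Agent.Lib.Helper6OpenDimE

/-!
# Local dimension of `closure {ξ} ∩ f⁻¹(f x)` via the reduced closed subscheme (helper4)

* `fibLD_comp_isEmbedding`, `exists_isClosedImmersion_range_eq`, `ptTrdeg_comp_of_isPreimmersion`,
  `fibreDimAt_le_of_forall_maximal`.
* `localDim_closure_inter_fibre`: bounds for `dim_x (closure {ξ} ∩ f⁻¹(f x))`.
-/

set_option autoImplicit false
set_option linter.style.haveILetI false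

universe u

open AlgebraicGeometry CategoryTheory TopologicalSpace IsLocalRing

namespace Groth.Agent.Lib.Helper4.DimFormula

open Groth.Agent.Lib.Helper4.VarDim Groth.Agent.Lib.Helper4.FibDim

section Top

variable {A B C : Type*} [TopologicalSpace A] [TopologicalSpace C]

theorem fibLD_comp_isEmbedding (φ : A → B) (j : C → A) (hj : Topology.IsEmbedding j) (z : C) :
    fibLD (φ ∘ j) z =
      FlatMor.localDim ↥(Set.range j ∩ φ ⁻¹' {φ (j z)}) ⟨j z, ⟨z, rfl⟩, rfl⟩ := by
  unfold fibLD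
  have h : (φ ∘ j) ⁻¹' {(φ ∘ j) z} = j ⁻¹' (φ ⁻¹' {φ (j z)}) := rfl
  rw [localDim_congr_set h z rfl]
  rw [localDim_eq_of_homeomorph (hj.homeomorphImage (j ⁻¹' (φ ⁻¹' {φ (j z)}))) ⟨z, rfl⟩]
  have h2 : j '' (j ⁻¹' (φ ⁻¹' {φ (j z)})) = Set.range j ∩ φ ⁻¹' {φ (j z)} :=
    Set.image_preimage_eq_range_inter
  exact localDim_congr_set h2 (j z) ⟨z, rfl, rfl⟩

end Top

section Sch

attribute [local instance] Curv2.resAlgebra

variable {X Y : Scheme.{u}}

open Scheme.IdealSheafData in
theorem exists_isClosedImmersion_range_eq (X : Scheme.{u}) (T : Set X) (hT : IsClosed T) :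
    ∃ (Z : Scheme.{u}) (ι : Z ⟶ X), IsClosedImmersion ι ∧ Set.range ι.base = T := by
  refine ⟨(vanishingIdeal ⟨T, hT⟩).subscheme, (vanishingIdeal ⟨T, hT⟩).subschemeι, inferInstance, ?_⟩
  rw [range_subschemeι, coe_support_vanishingIdeal]
  rfl

theorem ptTrdeg_comp_of_isPreimmersion {Z : Scheme.{u}} (ι : Z ⟶ X) [IsPreimmersion ι]
    [LocallyOfFiniteType ι] (f : X ⟶ Y) [LocallyOfFiniteType f] (z : Z) :
    ptTrdeg (ι ≫ f) z = ptTrdeg f (ι.base z) := by
  rw [ptTrdeg_comp ι f z]
  have h0 : ptTrdeg ι z = 0 := by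
    have h1 := trdeg_eq_ptTrdeg ι z
    letI : Algebra (X.residueField (ι.base z)) (Z.residueField z) := (ι.residueFieldMap z).hom.toAlgebra
    haveI : Algebra.IsAlgebraic (X.residueField (ι.base z)) (Z.residueField z) := by
      have hs : Function.Surjective (algebraMap (X.residueField (ι.base z)) (Z.residueField z)) :=
        (residueFieldMap_bijective_of_isPreimmersion ι z).2
      haveI := Algebra.isIntegral_of_surjective hs
      exact Algebra.IsIntegral.isAlgebraic
    have h2 : Algebra.trdeg (X.residueField (ι.base z)) (Z.residueField z) = 0 :=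
      trdeg_eq_zero
    rw [h2] at h1
    exact_mod_cast h1.symm
  rw [h0, add_zero]

theorem fibreDimAt_le_of_forall_maximal {W : Scheme.{u}} (g : W ⟶ Y) [LocallyOfFiniteType g] (w : W)
    (N : ℕ)
    (h : ∀ w' : W, g.base w' = g.base w → w' ⤳ w →
      (∀ w'' : W, g.base w'' = g.base w' → w'' ⤳ w' → w'' = w') → ptTrdeg g w' ≤ N) :
    FlatMor.fibreDimAt g w ≤ N := by
  letI : (g.fiber (g.base w)).Over (Spec (CommRingCat.of (Y.residueField (g.base w)))) :=
    ⟨g.fiberToSpecResidueField (g.base w)⟩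
  haveI : LocallyOfFiniteType ((g.fiber (g.base w)) ↘
      Spec (CommRingCat.of (Y.residueField (g.base w)))) :=
    locallyOfFiniteType_fiberToSpecResidueField g _
  refine Groth.Agent.Lib.Helper6.OpenDim.localDim_le_of_forall_maximal (Y.residueField (g.base w))
    (g.fiber (g.base w)) (g.asFiber w) N ?_
  intro ζ hζ hζmax
  rw [trdegNat_eq_ptTrdeg]
  have hgζ : g.base (g.fiberι (g.base w) ζ) = g.base w := by
    have : g.fiberι (g.base w) ζ ∈ Set.range (g.fiberι (g.base w)) := ⟨ζ, rfl⟩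
    rw [g.range_fiberι] at this
    exact this
  refine h _ hgζ ?_ ?_
  · have := hζ.map (g.fiberι (g.base w)).continuous
    rwa [g.fiberι_asFiber] at this
  · intro w'' hw'' hsp
    have : w'' ∈ Set.range (g.fiberι (g.base w)) := by
      rw [g.range_fiberι]
      exact hw''.trans hgζ
    obtain ⟨ζ', rfl⟩ := this
    have : ζ' ⤳ ζ := (g.fiberι (g.base w)).isEmbedding.isInducing.specializes_iff.mp hsp
    rw [hζmax ζ' this]

theorem localDim_closure_inter_fibre_bounds (f : X ⟶ Y) [LocallyOfFiniteType f] (ξ x : X)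
    (h : ξ ⤳ x) :
    (∀ z : X, ξ ⤳ z → z ⤳ x → (ptTrdeg f z : WithBot ℕ∞) ≤
      FlatMor.localDim ↥(closure {ξ} ∩ f.base ⁻¹' {f.base x}) ⟨x, h.mem_closure, rfl⟩) ∧
    (∀ N : ℕ, FlatMor.fibreDimAt f x ≤ N →
      FlatMor.localDim ↥(closure {ξ} ∩ f.base ⁻¹' {f.base x}) ⟨x, h.mem_closure, rfl⟩ ≤ N) := by
  obtain ⟨Z, ι, hι, hrange⟩ := exists_isClosedImmersion_range_eq X (closure {ξ}) isClosed_closure
  have hx : x ∈ Set.range ι.base := by rw [hrange]; exact h.mem_closure
  obtain ⟨tx, rfl⟩ := hx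
  have hL : FlatMor.localDim ↥(closure {ξ} ∩ f.base ⁻¹' {f.base (ι.base tx)})
      ⟨ι.base tx, h.mem_closure, rfl⟩ = FlatMor.fibreDimAt (ι ≫ f) tx := by
    rw [fibreDimAt_eq_fibLD (ι ≫ f) tx]
    have h1 := fibLD_comp_isEmbedding f ι ι.isEmbedding tx
    refine Eq.trans ?_ h1.symm
    have hset : closure {ξ} ∩ f.base ⁻¹' {f.base (ι.base tx)} =
        Set.range ι.base ∩ f.base ⁻¹' {f.base (ι.base tx)} := by rw [hrange]
    exact localDim_congr_set hset (ι.base tx) ⟨h.mem_closure, rfl⟩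
  rw [hL]
  constructor
  · intro z hξz hzx
    have hz : z ∈ Set.range ι.base := by rw [hrange]; exact hξz.mem_closure
    obtain ⟨tz, rfl⟩ := hz
    have hsp : tz ⤳ tx := ι.isEmbedding.isInducing.specializes_iff.mp hzx
    have h1 := fibreDimAt_le_of_specializes (ι ≫ f) tz tx hsp
    have h2 := ptTrdeg_le_fibreDimAt (ι ≫ f) tz
    rw [ptTrdeg_comp_of_isPreimmersion ι f tz] at h2
    exact h2.trans h1
  · intro N hN
    refine fibreDimAt_le_of_forall_maximal (ι ≫ f) tx N ?_
    intro w' _ hsp _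
    rw [ptTrdeg_comp_of_isPreimmersion ι f w']
    have h1 := ptTrdeg_le_fibreDimAt f (ι.base w')
    have h2 := fibreDimAt_le_of_specializes f (ι.base w') (ι.base tx) (hsp.map ι.continuous)
    exact_mod_cast (h1.trans h2).trans hN

theorem isEquidimAt_iff_irreducibleComponents_criterion [IsLocallyNoetherian Y] (f : X ⟶ Y)
    [LocallyOfFiniteType f] (x : X) :
    EGA43.IsEquidimAt f x ↔
      ∃ e : ℕ, ∀ Xj ∈ irreducibleComponents (X : Type u), ∀ hx : x ∈ Xj,
        closure (f.base '' Xj) ∈ irreducibleComponents (Y : Type u) ∧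
        (∀ η : Y, closure ({η} : Set Y) = closure (f.base '' Xj) →
          topologicalKrullDim ↥(Xj ∩ f.base ⁻¹' {η}) = e) ∧
        FlatMor.localDim ↥(Xj ∩ f.base ⁻¹' {f.base x})
          ⟨x, ⟨hx, Set.mem_singleton (f.base x)⟩⟩ = e := by
  haveI : IsLocallyNoetherian X := LocallyOfFiniteType.isLocallyNoetherian f
  have himg : ∀ ξ : X, closure (f.base '' closure {ξ}) = closure {f.base ξ} := by
    intro ξ
    rw [closure_image_closure f.continuous, Set.image_singleton]
  constructor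
  · rintro ⟨e, U, hxU, hi, hii⟩
    refine ⟨e, ?_⟩
    intro Xj hXj hx
    obtain ⟨ξ, hξ⟩ := QuasiSober.sober hXj.1 (isClosed_of_mem_irreducibleComponents _ hXj)
    have hξcl : closure ({ξ} : Set X) = Xj := hξ.def
    subst hξcl
    have hξx : ξ ⤳ x := specializes_iff_mem_closure.mpr hx
    have hξmax : ∀ y : X, y ⤳ ξ → y = ξ := fun y hy => eq_of_specializes_generic ξ y hXj hy
    have hξU : ξ ∈ U := hξx.mem_open U.2 hxU
    set u : U.toScheme := ⟨ξ, hξU⟩ with hu
    have humax : ∀ y : U.toScheme, y ⤳ u → y = u := by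
      intro y hy
      have := hξmax (U.ι y) (hy.map U.ι.continuous)
      exact U.ι.isOpenEmbedding.injective this
    have hZ := mem_irreducibleComponents_of_forall_specializes u humax
    obtain ⟨W, hW, -, hcl⟩ := hi _ hZ
    have hcl' : closure ({f.base ξ} : Set Y) = W := by
      rw [← hcl, closure_image_closure (U.ι ≫ f).continuous, Set.image_singleton]
      rfl
    have hfd : ∀ x' : X, ∀ hx' : x' ∈ U, FlatMor.fibreDimAt f x' = e := by
      intro x' hx'
      have h1 := fibreDimAt_opens_ι_comp f U ⟨x', hx'⟩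
      have h2 := fibreDimAt_eq_of_forall_irreducibleComponents (U.ι ≫ f) ⟨x', hx'⟩ e
        (hii ⟨x', hx'⟩)
      rw [h1] at h2
      exact h2
    have hpt : (ptTrdeg f ξ : WithBot ℕ∞) = e := by
      rw [← fibreDimAt_eq_ptTrdeg_of_maximal f ξ (fun y _ hy => hξmax y hy)]
      exact hfd ξ hξU
    refine ⟨?_, ?_, ?_⟩
    · rw [himg, hcl']
      exact hW
    · intro η hη
      rw [himg] at hη
      have hηeq : η = f.base ξ := (inseparable_iff_closure_eq.mpr hη).eq
      rw [hηeq, Groth.Agent.Lib.Helper6.OpenDim.topologicalKrullDim_closure_inter_fibre f ξ, hpt]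
    · obtain ⟨ha, hb⟩ := localDim_closure_inter_fibre_bounds f ξ x hξx
      apply le_antisymm
      · exact hb e (hfd x hxU).le
      · have := ha ξ specializes_rfl hξx
        rwa [hpt] at this
  · rintro ⟨e, he⟩
    have key : ∀ ξ : X, (∀ ξ' : X, ξ' ⤳ ξ → ξ' = ξ) → ∀ hξx : ξ ⤳ x,
        (ptTrdeg f ξ : WithBot ℕ∞) = e ∧ (∀ y' : Y, y' ⤳ f.base ξ → y' = f.base ξ) ∧
          FlatMor.localDim ↥(closure {ξ} ∩ f.base ⁻¹' {f.base x}) ⟨x, hξx.mem_closure, rfl⟩ = e := by
      intro ξ hξmax hξx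
      have hXj := mem_irreducibleComponents_of_forall_specializes ξ hξmax
      obtain ⟨h1, h2, h3⟩ := he _ hXj hξx.mem_closure
      rw [himg] at h1 h2
      refine ⟨?_, fun y' hy' => eq_of_specializes_generic _ _ h1 hy', h3⟩
      have := h2 (f.base ξ) rfl
      rw [Groth.Agent.Lib.Helper6.OpenDim.topologicalKrullDim_closure_inter_fibre f ξ] at this
      exact this
    have hfd : FlatMor.fibreDimAt f x = e := by
      apply le_antisymm
      · refine fibreDimAt_le_of_forall_maximal f x e ?_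
        intro w' _ hsp _
        obtain ⟨ξ, hξw, hξmax⟩ :=
          Groth.Agent.Lib.Helper4.DimFormula.exists_maximal_specializes X w'
        obtain ⟨-, -, h3⟩ := key ξ hξmax (hξw.trans hsp)
        have := (localDim_closure_inter_fibre_bounds f ξ x (hξw.trans hsp)).1 w' hξw hsp
        rw [h3] at this
        exact_mod_cast this
      · obtain ⟨ξ, hξx, hξmax⟩ :=
          Groth.Agent.Lib.Helper4.DimFormula.exists_maximal_specializes X x
        obtain ⟨h1, -, -⟩ := key ξ hξmax hξx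
        have h2 := ptTrdeg_le_fibreDimAt f ξ
        have h3 := fibreDimAt_le_of_specializes f ξ x hξx
        rw [h1] at h2
        exact h2.trans h3
    refine isEquidimAt_of_forall_maximal f x e hfd (fun ξ hξmax hξx => ⟨?_, (key ξ hξmax hξx).2.1⟩)
    exact_mod_cast (key ξ hξmax hξx).1

end Sch

end Groth.Agent.Lib.Helper4.DimFormula
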