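import Mathlib
import Groth.Agent.Lib.Helper6EquiSubA

set_option autoImplicit false
set_option linter.style.haveILetI false

universe u

open AlgebraicGeometry CategoryTheory TopologicalSpace Topology

namespace Groth.Agent.Lib.Helper6.EquiSub

open Groth.Agent.Lib.Helper4.VarDim Groth.Agent.Lib.Helper4.FibDim
  Groth.Agent.Lib.Helper4.DimFormula Groth.Agent.Lib.Helper6.OpenDim

section Top

variable {A B C : Type*} [TopologicalSpace A] [TopologicalSpace B] [TopologicalSpace C]

omit [TopologicalSpace C] in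
theorem fibLD_comp_isEmbedding (φ : B → C) (j : A → B) (hj : IsEmbedding j) (a : A)
    (ha : j a ∈ Set.range j ∩ φ ⁻¹' {φ (j a)}) :
    fibLD (φ ∘ j) a = FlatMor.localDim ↥(Set.range j ∩ φ ⁻¹' {φ (j a)}) ⟨j a, ha⟩ := by
  unfold fibLD
  have himg : j '' ((φ ∘ j) ⁻¹' {(φ ∘ j) a}) = Set.range j ∩ φ ⁻¹' {φ (j a)} := by
    ext b
    constructor
    · rintro ⟨a', ha', rfl⟩
      exact ⟨⟨a', rfl⟩, ha'⟩
    · rintro ⟨⟨a', rfl⟩, hb⟩
      exact ⟨a', hb, rfl⟩
  rw [localDim_eq_of_homeomorph (hj.homeomorphImage ((φ ∘ j) ⁻¹' {(φ ∘ j) a})) ⟨a, rfl⟩]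
  exact localDim_congr_set himg (j a) ⟨a, rfl, rfl⟩

end Top

section Sub

variable {X Y : Scheme.{u}} (f : X ⟶ Y) (X' : TopologicalSpace.Closeds X)

theorem range_subschemeι_vanishingIdeal :
    Set.range (Scheme.IdealSheafData.vanishingIdeal X').subschemeι.base = (X' : Set X) := by
  rw [Scheme.IdealSheafData.range_subschemeι, Scheme.IdealSheafData.coe_support_vanishingIdeal]

/-- The fibre dimension of the reduced closed subscheme on `X'` at `w` is the local dimension of
`X' ∩ f⁻¹(f x)` at `x = ι w`. -/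
theorem fibreDimAt_subscheme (w : ↥(Scheme.IdealSheafData.vanishingIdeal X').subscheme)
    (hx : (Scheme.IdealSheafData.vanishingIdeal X').subschemeι.base w ∈ (X' : Set X) ∩
      f.base ⁻¹' {f.base ((Scheme.IdealSheafData.vanishingIdeal X').subschemeι.base w)}) :
    FlatMor.fibreDimAt ((Scheme.IdealSheafData.vanishingIdeal X').subschemeι ≫ f) w =
      FlatMor.localDim ↥((X' : Set X) ∩
        f.base ⁻¹' {f.base ((Scheme.IdealSheafData.vanishingIdeal X').subschemeι.base w)})
        ⟨(Scheme.IdealSheafData.vanishingIdeal X').subschemeι.base w, hx⟩ := by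
  rw [fibreDimAt_eq_fibLD]
  have h1 := fibLD_comp_isEmbedding f.base (Scheme.IdealSheafData.vanishingIdeal X').subschemeι.base
    (Scheme.IdealSheafData.vanishingIdeal X').subschemeι.isEmbedding w
    (by rw [range_subschemeι_vanishingIdeal]; exact hx)
  refine h1.trans ?_
  exact localDim_congr_set (by rw [range_subschemeι_vanishingIdeal]) _ _

theorem irreducibleSpace_subscheme (x' : X) (hx' : closure ({x'} : Set X) = (X' : Set X)) :
    IrreducibleSpace ↥(Scheme.IdealSheafData.vanishingIdeal X').subscheme := by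
  have hirr : IsIrreducible (Set.range (Scheme.IdealSheafData.vanishingIdeal X').subschemeι.base) := by
    rw [range_subschemeι_vanishingIdeal, ← hx']
    exact isIrreducible_singleton.closure
  haveI : IrreducibleSpace ↥(Set.range (Scheme.IdealSheafData.vanishingIdeal X').subschemeι.base) :=
    Subtype.irreducibleSpace hirr
  exact ((Scheme.IdealSheafData.vanishingIdeal X').subschemeι.isEmbedding.toHomeomorph).irreducibleSpace_iff.mpr
    inferInstance

theorem subschemeι_genericPoint (x' : X) (hx' : closure ({x'} : Set X) = (X' : Set X))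
    [IrreducibleSpace ↥(Scheme.IdealSheafData.vanishingIdeal X').subscheme] :
    (Scheme.IdealSheafData.vanishingIdeal X').subschemeι.base
      (genericPoint ↥(Scheme.IdealSheafData.vanishingIdeal X').subscheme) = x' := by
  have h1 : IsGenericPoint ((Scheme.IdealSheafData.vanishingIdeal X').subschemeι.base
      (genericPoint ↥(Scheme.IdealSheafData.vanishingIdeal X').subscheme))
      (closure ((Scheme.IdealSheafData.vanishingIdeal X').subschemeι.base '' Set.univ)) :=
    (genericPoint_spec _).image (Scheme.IdealSheafData.vanishingIdeal X').subschemeι.continuous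
  rw [Set.image_univ, range_subschemeι_vanishingIdeal, X'.isClosed.closure_eq, ← hx'] at h1
  have h2 : IsGenericPoint x' (closure ({x'} : Set X)) := isGenericPoint_closure
  exact h1.eq h2

end Sub

section Main

variable {X Y : Scheme.{u}} [IrreducibleSpace Y] [IsLocallyNoetherian Y] (f : X ⟶ Y)
  [LocallyOfFiniteType f]

attribute [local instance] Curv2.resAlgebra

omit [IsLocallyNoetherian Y] [LocallyOfFiniteType f] in
/-- Under condition (i) of `IsEquidimAt` (with `Y` irreducible), a point of `U` not lying over the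
generic point of `Y` is not a maximal point of `X`. -/
theorem exists_generization_of_equidim (U : X.Opens)
    (h1 : ∀ Z ∈ irreducibleComponents (↥U : Type u),
      ∃ W ∈ irreducibleComponents (Y : Type u), closure ((U.ι ≫ f).base '' Z) = W)
    (a : X) (ha : a ∈ U) (hne : f.base a ≠ genericPoint Y) :
    ∃ b : X, b ⤳ a ∧ ¬ a ⤳ b := by
  obtain ⟨ζ, hζ, hζa⟩ := exists_generic_specializes (⟨a, ha⟩ : ↥U)
  obtain ⟨W, hW, hcl⟩ := h1 _ hζ
  have hWu : W = Set.univ := eq_univ_of_mem_irreducibleComponents _ W hW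
  have hgen : IsGenericPoint ((U.ι ≫ f).base ζ) (closure ((U.ι ≫ f).base '' closure {ζ})) :=
    (isGenericPoint_closure (x := ζ)).image (U.ι ≫ f).continuous
  have hgen' : IsGenericPoint ((U.ι ≫ f).base ζ) (Set.univ : Set Y) := by
    rw [← hWu, ← hcl]
    exact hgen
  have hfζ : (U.ι ≫ f).base ζ = genericPoint Y := hgen'.eq (genericPoint_spec Y)
  refine ⟨U.ι.base ζ, hζa.map U.ι.continuous, fun hsp => hne ?_⟩
  have heq : a = U.ι.base ζ := (hsp.antisymm (hζa.map U.ι.continuous)).eq
  rw [heq]
  exact hfζ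

/-- Numerical core of EGA IV 13.3.x. -/
theorem numeric_core (e n t : ℕ) (L D : WithBot ℕ∞)
    (h1 : L + (n : WithBot ℕ∞) ≤ (e : WithBot ℕ∞)) (h2 : (t : WithBot ℕ∞) ≤ L)
    (h3 : (e : WithBot ℕ∞) ≤ D + (t : WithBot ℕ∞)) (h4 : D ≤ (n : WithBot ℕ∞)) :
    D = (n : WithBot ℕ∞) ∧ L = (t : WithBot ℕ∞) ∧ e = n + t := by
  -- `D` is a natural number
  induction D using WithBot.recBotCoe with
  | bot => simp at h3
  | coe D =>
    induction D using ENat.recTopCoe with
    | top =>
      exfalso
      have : ((⊤ : ℕ∞) : WithBot ℕ∞) ≤ ((n : ℕ∞) : WithBot ℕ∞) := h4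
      rw [WithBot.coe_le_coe, top_le_iff] at this
      exact ENat.natCast_ne_top n this
    | coe d =>
      induction L using WithBot.recBotCoe with
      | bot => simp at h2
      | coe L =>
        induction L using ENat.recTopCoe with
        | top =>
          exfalso
          have : ((⊤ : ℕ∞) : WithBot ℕ∞) ≤ ((e : ℕ∞) : WithBot ℕ∞) := by
            refine le_trans ?_ h1
            exact le_add_of_nonneg_right (by exact_mod_cast (Nat.zero_le n))
          rw [WithBot.coe_le_coe, top_le_iff] at this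
          exact ENat.natCast_ne_top e this
        | coe l =>
          have h1' : l + n ≤ e := by exact_mod_cast h1
          have h2' : t ≤ l := by exact_mod_cast h2
          have h3' : e ≤ d + t := by exact_mod_cast h3
          have h4' : d ≤ n := by exact_mod_cast h4
          have hd : d = n := by omega
          have hl : l = t := by omega
          refine ⟨?_, ?_, by omega⟩
          · rw [hd]; rfl
          · rw [hl]; rfl

omit [IsLocallyNoetherian Y] in
set_option maxHeartbeats 800000 in
/-- EGA IV 13.3.x: `f` equidimensional at `x` (dimension `e`), `X'` irreducible closed through `x`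
with `codim(X', X) ≤ n` and `dim_x(X' ∩ X_y) ≤ e - n`: then equalities hold and `X'_red → Y` is
equidimensional at `x`. -/
theorem isEquidimAt_subscheme (x : X) (hf : EGA43.IsEquidimAt f x)
    (X' : TopologicalSpace.Closeds X) (x' : X) (hx' : closure ({x'} : Set X) = (X' : Set X))
    (hx : x ∈ X') (n : ℕ)
    (hcodim : ringKrullDim (X.presheaf.stalk x') ≤ n)
    (hdim : FlatMor.localDim ↥((X' : Set X) ∩ f.base ⁻¹' {f.base x}) ⟨x, ⟨hx, rfl⟩⟩ + n ≤
      FlatMor.fibreDimAt f x) :
    ringKrullDim (X.presheaf.stalk x') = n ∧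
      FlatMor.localDim ↥((X' : Set X) ∩ f.base ⁻¹' {f.base x}) ⟨x, ⟨hx, rfl⟩⟩ + n =
        FlatMor.fibreDimAt f x ∧
      ∀ w : ↥(Scheme.IdealSheafData.vanishingIdeal X').subscheme,
        (Scheme.IdealSheafData.vanishingIdeal X').subschemeι.base w = x →
        EGA43.IsEquidimAt ((Scheme.IdealSheafData.vanishingIdeal X').subschemeι ≫ f) w := by
  obtain ⟨e, U, hxU, h1, h2⟩ := hf
  have hspx : x' ⤳ x := specializes_iff_mem_closure.mpr (by rw [hx']; exact hx)
  have hx'U : x' ∈ U := hspx.mem_open U.2 hxU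
  have hFx : FlatMor.fibreDimAt f x = (e : WithBot ℕ∞) := fibreDimAt_eq_of_equidim f e U h2 x hxU
  haveI : IrreducibleSpace ↥(Scheme.IdealSheafData.vanishingIdeal X').subscheme :=
    irreducibleSpace_subscheme X' x' hx'
  set ι := (Scheme.IdealSheafData.vanishingIdeal X').subschemeι with hι
  set g := ι ≫ f with hg
  have hιξ : ι.base (genericPoint ↥(Scheme.IdealSheafData.vanishingIdeal X').subscheme) = x' :=
    subschemeι_genericPoint X' x' hx'
  -- a point over `x`
  have hxr : x ∈ Set.range ι.base := by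
    rw [hι, range_subschemeι_vanishingIdeal]; exact hx
  obtain ⟨w₀, hw₀⟩ := hxr
  -- the generic transcendence degree
  have hgt : genTrdeg g = ptTrdeg f x' := by
    have h3 : genTrdeg g = ptTrdeg g (genericPoint _) := rfl
    rw [h3, hg, ptTrdeg_comp_of_isPreimmersion ι f, hιξ]
  -- fibre dimension of `g` at points over `x`
  have hfd : ∀ w : ↥(Scheme.IdealSheafData.vanishingIdeal X').subscheme, ι.base w = x →
      FlatMor.fibreDimAt g w =
        FlatMor.localDim ↥((X' : Set X) ∩ f.base ⁻¹' {f.base x}) ⟨x, ⟨hx, rfl⟩⟩ := by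
    intro w hw
    subst hw
    exact fibreDimAt_subscheme f X' w ⟨hx, rfl⟩
  -- numerical facts
  have hL : (ptTrdeg f x' : WithBot ℕ∞) ≤
      FlatMor.localDim ↥((X' : Set X) ∩ f.base ⁻¹' {f.base x}) ⟨x, ⟨hx, rfl⟩⟩ := by
    rw [← hfd w₀ hw₀, ← hgt]
    exact le_fibreDimAt g w₀
  have h4a := le_ringKrullDim_stalk_add_of_equidim f e U h2 x' hx'U
  rw [hFx] at hdim
  obtain ⟨hD, hLt, he⟩ := numeric_core e n (ptTrdeg f x') _ _ hdim hL h4a hcodim
  -- `x'` lies over the generic point
  have hη : f.base x' = genericPoint Y := by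
    by_contra hne
    have h4b := add_one_le_ringKrullDim_stalk_add_of_equidim f e U h2 x' hx'U (fun a ha hsp =>
      exists_generization_of_equidim f U (fun Z hZ => by
        obtain ⟨W, hW, -, hcl⟩ := h1 Z hZ
        exact ⟨W, hW, hcl⟩) a (hsp.mem_open U.2 hx'U) (by rw [ha]; exact hne))
    rw [hD, he] at h4b
    have h5 : (n + ptTrdeg f x' : ℕ) + 1 ≤ n + ptTrdeg f x' := by exact_mod_cast h4b
    omega
  refine ⟨hD, ?_, ?_⟩
  · rw [hFx, hLt, he]
    push_cast
    rw [add_comm]
  · intro w hw
    have hWo := isOpen_setOf_fibreDimAt_le' g (genTrdeg g : WithBot ℕ∞)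
    set U' : (Scheme.IdealSheafData.vanishingIdeal X').subscheme.Opens :=
      ⟨{w' | FlatMor.fibreDimAt g w' ≤ (genTrdeg g : WithBot ℕ∞)}, hWo⟩ with hU'
    have hwU' : w ∈ U' := by
      show FlatMor.fibreDimAt g w ≤ (genTrdeg g : WithBot ℕ∞)
      rw [hfd w hw, hLt, hgt]
    have hUirr : IsIrreducible (U' : Set ↥(Scheme.IdealSheafData.vanishingIdeal X').subscheme) :=
      ⟨⟨w, hwU'⟩, (IrreducibleSpace.isIrreducible_univ _).isPreirreducible.open_subset U'.2
        (Set.subset_univ _)⟩
    haveI : IrreducibleSpace ↥U' := Subtype.irreducibleSpace hUirr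
    refine ⟨genTrdeg g, U', hwU', ?_, ?_⟩
    · intro Z hZ
      refine ⟨Set.univ, univ_mem_irreducibleComponents _, trivial, ?_⟩
      rw [eq_univ_of_mem_irreducibleComponents _ Z hZ]
      -- the generic point lies in `U'` and maps to the generic point of `Y`
      have hξU' : genericPoint ↥(Scheme.IdealSheafData.vanishingIdeal X').subscheme ∈ U' := by
        show FlatMor.fibreDimAt g _ ≤ (genTrdeg g : WithBot ℕ∞)
        rw [fibreDimAt_genericPoint g]
      have hgξ : g.base (genericPoint ↥(Scheme.IdealSheafData.vanishingIdeal X').subscheme) =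
          genericPoint Y := by
        rw [hg, Scheme.Hom.comp_apply, hιξ, hη]
      have hmem : genericPoint Y ∈ (U'.ι ≫ g).base '' (Set.univ : Set ↥(U' : Scheme.{u})) :=
        ⟨⟨_, hξU'⟩, trivial, hgξ⟩
      apply Set.eq_univ_of_univ_subset
      rw [← (genericPoint_spec Y).def]
      exact closure_mono (Set.singleton_subset_iff.mpr hmem)
    · intro x'' Z hZ
      obtain ⟨u, hus, hmax, hdimZ⟩ :=
        exists_point_of_mem_irreducibleComponents (U'.ι ≫ g) ((U'.ι ≫ g).base x'') Z hZ
      rw [hdimZ, ← fibreDimAt_eq_ptTrdeg_of_maximal (U'.ι ≫ g) u hmax]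
      have h6 : FlatMor.fibreDimAt (U'.ι ≫ g) u = FlatMor.fibreDimAt g (U'.ι.base u) := by
        rw [fibreDimAt_eq_fibLD, fibreDimAt_eq_fibLD]
        exact fibLD_comp_isOpenEmbedding g.base U'.ι.base U'.ι.isOpenEmbedding u
      rw [h6]
      exact le_antisymm u.2 (le_fibreDimAt g _)

end Main

end Groth.Agent.Lib.Helper6.EquiSub
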