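import Mathlib
import Groth.Agent.Lib.Helper6EquiSubB

set_option autoImplicit false
set_option linter.style.haveILetI false

universe u

open AlgebraicGeometry CategoryTheory TopologicalSpace Topology

namespace Groth.Agent.Lib.Helper6.EquiSub

open Groth.Agent.Lib.Helper4.VarDim Groth.Agent.Lib.Helper4.FibDim
  Groth.Agent.Lib.Helper4.DimFormula Groth.Agent.Lib.Helper6.OpenDim

section Aux

variable {X Y : Scheme.{u}} (f : X ⟶ Y) [LocallyOfFiniteType f]

attribute [local instance] Curv2.resAlgebra sectionsAlgebra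

theorem ptTrdeg_le_fibreDimAt (x : X) : (ptTrdeg f x : WithBot ℕ∞) ≤ FlatMor.fibreDimAt f x := by
  letI : (f.fiber (f.base x)).Over (Spec (CommRingCat.of (Y.residueField (f.base x)))) :=
    ⟨f.fiberToSpecResidueField (f.base x)⟩
  haveI : LocallyOfFiniteType ((f.fiber (f.base x)) ↘
      Spec (CommRingCat.of (Y.residueField (f.base x)))) :=
    locallyOfFiniteType_fiberToSpecResidueField f _
  obtain ⟨b, hb⟩ := exists_ringKrullDim_stalk_eq (Y.residueField (f.base x)) (f.fiber (f.base x))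
    (f.asFiber x)
  have ha := trdeg_eq_trdegNat (Y.residueField (f.base x)) (f.fiber (f.base x)) (f.asFiber x)
  have h3 := localDim_eq_add (Y.residueField (f.base x)) (f.fiber (f.base x)) (f.asFiber x)
    _ b ha hb
  have h5 : FlatMor.fibreDimAt f x = FlatMor.localDim (f.fiber (f.base x)) (f.asFiber x) := rfl
  rw [h5, h3]
  have : ptTrdeg f x ≤ trdegNat (Y.residueField (f.base x)) (f.fiber (f.base x)) (f.asFiber x) + b :=
    Nat.le_add_right _ _
  exact_mod_cast this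

theorem fibreDimAt_le_of_specializes (u u' : X) (h : u' ⤳ u) :
    FlatMor.fibreDimAt f u' ≤ FlatMor.fibreDimAt f u := by
  have hopen := isOpen_setOf_fibreDimAt_le' f (FlatMor.fibreDimAt f u)
  have hu : u ∈ {x' : X | FlatMor.fibreDimAt f x' ≤ FlatMor.fibreDimAt f u} := by
    rw [Set.mem_ofPred_eq]
  exact h.mem_open hopen hu

theorem ptTrdeg_lt_of_specializes (z' v : X) (hfz : f.base z' = f.base v) (h : z' ⤳ v)
    (hne : z' ≠ v) : ptTrdeg f v < ptTrdeg f z' := by
  letI : (f.fiber (f.base v)).Over (Spec (CommRingCat.of (Y.residueField (f.base v)))) :=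
    ⟨f.fiberToSpecResidueField (f.base v)⟩
  haveI : LocallyOfFiniteType ((f.fiber (f.base v)) ↘
      Spec (CommRingCat.of (Y.residueField (f.base v)))) :=
    locallyOfFiniteType_fiberToSpecResidueField f _
  have hz' : z' ∈ Set.range (f.fiberι (f.base v)) := by rw [f.range_fiberι]; exact hfz
  obtain ⟨a, rfl⟩ := hz'
  have hv : f.fiberι (f.base v) (f.asFiber v) = v := f.fiberι_asFiber v
  have hsp : a ⤳ f.asFiber v := by
    rw [← (f.fiberι (f.base v)).isEmbedding.isInducing.specializes_iff, hv]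
    exact h
  have hne' : a ≠ f.asFiber v := by
    intro h1
    apply hne
    rw [h1, hv]
  have := trdegNat_lt_of_specializes (Y.residueField (f.base v)) (f.fiber (f.base v)) a
    (f.asFiber v) hsp hne'
  rw [trdegNat_eq_ptTrdeg f (f.base v) a, trdegNat_eq_ptTrdeg f (f.base v) (f.asFiber v), hv] at this
  exact this

end Aux

section Krull

/-- Krull's principal ideal theorem at a maximal point of the zero locus of a global section. -/
theorem ringKrullDim_stalk_le_one_of_maximal_zeroLocus {X : Scheme.{u}} [IsLocallyNoetherian X]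
    (g : Γ(X, ⊤)) (ξ : X) (hξ : ξ ∈ X.zeroLocus ({g} : Set Γ(X, ⊤)))
    (hgen : ∀ y ∈ X.zeroLocus ({g} : Set Γ(X, ⊤)), y ⤳ ξ → y = ξ) :
    ringKrullDim (X.presheaf.stalk ξ) ≤ 1 := by
  obtain ⟨W, hW, hξW, -⟩ := exists_isAffineOpen_mem_and_subset (U := ⊤) (x := ξ) trivial
  haveI : IsNoetherianRing Γ(X, W) := IsLocallyNoetherian.component_noetherian ⟨W, hW⟩
  set g' : Γ(X, W) := X.presheaf.map (homOfLE (le_top : W ≤ ⊤)).op g with hg'
  have hbo : X.basicOpen g' = W ⊓ X.basicOpen g := Scheme.basicOpen_res _ _ _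
  have hmemV : ∀ y : X, y ∈ W → (y ∈ X.zeroLocus ({g} : Set Γ(X, ⊤)) ↔ y ∉ X.basicOpen g') := by
    intro y hy
    rw [Scheme.zeroLocus_singleton, hbo]
    constructor
    · intro h1 h2
      exact h1 h2.2
    · intro h1 h2
      exact h1 ⟨hy, h2⟩
  have hmin : (hW.primeIdealOf ⟨ξ, hξW⟩).asIdeal ∈ (Ideal.span {g'}).minimalPrimes := by
    refine ⟨⟨inferInstance, ?_⟩, ?_⟩
    · rw [Ideal.span_singleton_le_iff_mem, mem_primeIdealOf_iff_notMem_basicOpen hW ξ hξW g']
      exact (hmemV ξ hξW).mp hξ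
    · rintro q ⟨hq, hgq⟩ hqp
      let Q : PrimeSpectrum Γ(X, W) := ⟨q, hq⟩
      have hyW : hW.fromSpec Q ∈ W := fromSpec_mem hW Q
      have hQ : hW.primeIdealOf ⟨hW.fromSpec Q, hyW⟩ = Q := primeIdealOf_fromSpec hW Q hyW
      have hsp : hW.fromSpec Q ⤳ ξ := by
        rw [← primeIdealOf_le_iff hW _ _ hyW hξW, hQ]
        exact hqp
      have hmem : hW.fromSpec Q ∈ X.zeroLocus ({g} : Set Γ(X, ⊤)) := by
        rw [hmemV _ hyW, ← mem_primeIdealOf_iff_notMem_basicOpen hW _ hyW g', hQ]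
        exact (Ideal.span_singleton_le_iff_mem _).mp hgq
      have heq := hgen _ hmem hsp
      have h3 : Q = hW.primeIdealOf ⟨ξ, hξW⟩ := by
        rw [← hQ]
        congr 1
        exact Subtype.ext heq
      rw [← h3]
  letI : Algebra Γ(X, W) (X.presheaf.stalk ξ) :=
    TopCat.Presheaf.algebra_section_stalk X.presheaf (⟨ξ, hξW⟩ : W)
  haveI : IsLocalization.AtPrime (X.presheaf.stalk ξ) (hW.primeIdealOf ⟨ξ, hξW⟩).asIdeal :=
    hW.isLocalization_stalk ⟨ξ, hξW⟩
  rw [IsLocalization.AtPrime.ringKrullDim_eq_height (hW.primeIdealOf ⟨ξ, hξW⟩).asIdeal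
    (X.presheaf.stalk ξ)]
  have h1 := Ideal.height_le_one_of_isPrincipal_of_mem_minimalPrimes (Ideal.span {g'}) _ hmin
  exact_mod_cast h1

end Krull

section Codim1

variable {X Y : Scheme.{u}} (f : X ⟶ Y) [LocallyOfFiniteType f]

attribute [local instance] Curv2.resAlgebra

/-- If the closed set `X'` contains no maximal point of the fibre through `ι w`, the fibre dimension
of `X'_red` at `w` is at most `e - 1`. -/
theorem fibreDimAt_subscheme_le (e : ℕ) (U : X.Opens)
    (h2 : ∀ x' : (↥U : Type u),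
      ∀ Z ∈ irreducibleComponents (↥((U.ι ≫ f).fiber ((U.ι ≫ f).base x')) : Type u),
      topologicalKrullDim (↥Z : Type u) = e)
    (X' : TopologicalSpace.Closeds X) (w : ↥(Scheme.IdealSheafData.vanishingIdeal X').subscheme)
    (hwU : (Scheme.IdealSheafData.vanishingIdeal X').subschemeι.base w ∈ U)
    (hmax : ∀ z : X,
      f.base z = f.base ((Scheme.IdealSheafData.vanishingIdeal X').subschemeι.base w) →
      z ∈ (X' : Set X) → ∃ z' : X,
        f.base z' = f.base ((Scheme.IdealSheafData.vanishingIdeal X').subschemeι.base w) ∧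
        z' ⤳ z ∧ z' ≠ z) :
    1 ≤ e ∧ FlatMor.fibreDimAt ((Scheme.IdealSheafData.vanishingIdeal X').subschemeι ≫ f) w ≤
      ((e - 1 : ℕ) : WithBot ℕ∞) := by
  set ι := (Scheme.IdealSheafData.vanishingIdeal X').subschemeι with hι
  set gZ := ι ≫ f with hgZ
  have key : ∀ v' : ↥(Scheme.IdealSheafData.vanishingIdeal X').subscheme,
      gZ.base v' = gZ.base w → v' ⤳ w → ptTrdeg gZ v' + 1 ≤ e := by
    intro v' hv' hsp
    have hfv : f.base (ι.base v') = f.base (ι.base w) := hv'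
    have hvX' : ι.base v' ∈ (X' : Set X) := by
      rw [← range_subschemeι_vanishingIdeal X']
      exact ⟨v', rfl⟩
    obtain ⟨z', hz'1, hz'2, hz'3⟩ := hmax _ hfv hvX'
    have h3 := ptTrdeg_lt_of_specializes f z' (ι.base v') (hz'1.trans hfv.symm) hz'2 hz'3
    have hz'U : z' ∈ U := (hz'2.trans (hsp.map ι.continuous)).mem_open U.2 hwU
    have h4 := ptTrdeg_le_fibreDimAt f z'
    rw [fibreDimAt_eq_of_equidim f e U h2 z' hz'U] at h4
    have h5 : ptTrdeg f z' ≤ e := by exact_mod_cast h4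
    have h6 : ptTrdeg gZ v' = ptTrdeg f (ι.base v') := ptTrdeg_comp_of_isPreimmersion ι f v'
    omega
  have he1 : 1 ≤ e := by
    have := key w rfl specializes_rfl
    omega
  refine ⟨he1, ?_⟩
  letI : (gZ.fiber (gZ.base w)).Over (Spec (CommRingCat.of (Y.residueField (gZ.base w)))) :=
    ⟨gZ.fiberToSpecResidueField (gZ.base w)⟩
  haveI : LocallyOfFiniteType ((gZ.fiber (gZ.base w)) ↘
      Spec (CommRingCat.of (Y.residueField (gZ.base w)))) :=
    locallyOfFiniteType_fiberToSpecResidueField gZ _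
  refine localDim_le_of_forall_maximal (Y.residueField (gZ.base w)) (gZ.fiber (gZ.base w))
    (gZ.asFiber w) (e - 1) (fun ζ hζ _ => ?_)
  rw [trdegNat_eq_ptTrdeg gZ (gZ.base w) ζ]
  have := key (gZ.fiberι (gZ.base w) ζ) (base_fiberι gZ _ ζ) (fiberι_specializes gZ w ζ hζ)
  omega

theorem numeric_one (e t : ℕ) (D : WithBot ℕ∞) (hD : D ≤ 1)
    (h : (e : WithBot ℕ∞) ≤ D + (t : WithBot ℕ∞)) (ht : t + 1 ≤ e) : D = 1 := by
  induction D using WithBot.recBotCoe with
  | bot => simp at h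
  | coe D =>
    induction D using ENat.recTopCoe with
    | top =>
      exfalso
      have : ((⊤ : ℕ∞) : WithBot ℕ∞) ≤ (((1 : ℕ) : ℕ∞) : WithBot ℕ∞) := by exact_mod_cast hD
      rw [WithBot.coe_le_coe, top_le_iff] at this
      exact ENat.natCast_ne_top 1 this
    | coe d =>
      have h1 : d ≤ 1 := by exact_mod_cast hD
      have h2 : e ≤ d + t := by exact_mod_cast h
      have : d = 1 := by omega
      rw [this]
      rfl

variable [IrreducibleSpace Y]

set_option maxHeartbeats 1600000 in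
/-- EGA IV 13.3.x (hypersurface sections): `f` equidimensional at `x` (`Y` irreducible), `X'` a
closed subset through `x` whose maximal points have codimension `≤ 1` in `X` and which contains no
maximal point of the fibre through `x`. Then `X'_red → Y` is equidimensional at `x`,
`dim_x(X' ∩ X_y) = e - 1` and the components of `X'` through `x` have codimension exactly `1`. -/
theorem isEquidimAt_subscheme_of_codim_one (x : X) (hf : EGA43.IsEquidimAt f x)
    (X' : TopologicalSpace.Closeds X) (hx : x ∈ X')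
    (hK : ∀ ξ ∈ (X' : Set X), (∀ y ∈ (X' : Set X), y ⤳ ξ → y = ξ) →
      ringKrullDim (X.presheaf.stalk ξ) ≤ 1)
    (hmax : ∀ z : X, f.base z = f.base x → z ∈ (X' : Set X) →
      ∃ z' : X, f.base z' = f.base x ∧ z' ⤳ z ∧ z' ≠ z) :
    (∀ w : ↥(Scheme.IdealSheafData.vanishingIdeal X').subscheme,
        (Scheme.IdealSheafData.vanishingIdeal X').subschemeι.base w = x →
        EGA43.IsEquidimAt ((Scheme.IdealSheafData.vanishingIdeal X').subschemeι ≫ f) w) ∧
      FlatMor.localDim ↥((X' : Set X) ∩ f.base ⁻¹' {f.base x}) ⟨x, ⟨hx, rfl⟩⟩ + 1 =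
        FlatMor.fibreDimAt f x ∧
      ∀ ξ ∈ (X' : Set X), ξ ⤳ x → (∀ y ∈ (X' : Set X), y ⤳ ξ → y = ξ) →
        ringKrullDim (X.presheaf.stalk ξ) = 1 := by
  obtain ⟨e, U, hxU, h1, h2⟩ := hf
  have hFx : FlatMor.fibreDimAt f x = (e : WithBot ℕ∞) := fibreDimAt_eq_of_equidim f e U h2 x hxU
  have h1' : ∀ Z ∈ irreducibleComponents (↥U : Type u),
      ∃ W ∈ irreducibleComponents (Y : Type u), closure ((U.ι ≫ f).base '' Z) = W := by
    intro Z hZ
    obtain ⟨W, hW, -, hcl⟩ := h1 Z hZ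
    exact ⟨W, hW, hcl⟩
  set ι := (Scheme.IdealSheafData.vanishingIdeal X').subschemeι with hι
  set gZ := ι ≫ f with hgZ
  have hrange : Set.range ι.base = (X' : Set X) := range_subschemeι_vanishingIdeal X'
  have hxr : x ∈ Set.range ι.base := by rw [hrange]; exact hx
  obtain ⟨w₀, hw₀⟩ := hxr
  have hpt : ∀ u : ↥(Scheme.IdealSheafData.vanishingIdeal X').subscheme,
      ptTrdeg gZ u = ptTrdeg f (ι.base u) := fun u => ptTrdeg_comp_of_isPreimmersion ι f u
  -- maximal points of the subscheme are maximal points of `X'`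
  have hmaxpt : ∀ ζ : ↥(Scheme.IdealSheafData.vanishingIdeal X').subscheme,
      (∀ a : ↥(Scheme.IdealSheafData.vanishingIdeal X').subscheme, a ⤳ ζ → a = ζ) →
      ∀ y ∈ (X' : Set X), y ⤳ ι.base ζ → y = ι.base ζ := by
    intro ζ hζ y hy hsp
    rw [← hrange] at hy
    obtain ⟨y', rfl⟩ := hy
    have : y' ⤳ ζ := ι.isEmbedding.isInducing.specializes_iff.mp hsp
    rw [hζ y' this]
  have hmemX' : ∀ u : ↥(Scheme.IdealSheafData.vanishingIdeal X').subscheme,
      ι.base u ∈ (X' : Set X) := fun u => by rw [← hrange]; exact ⟨u, rfl⟩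
  have hgenpt : ∀ ζ : ↥(Scheme.IdealSheafData.vanishingIdeal X').subscheme,
      (∀ a : ↥(Scheme.IdealSheafData.vanishingIdeal X').subscheme, a ⤳ ζ → a = ζ) →
      ι.base ζ ∈ U → e ≤ 1 + ptTrdeg f (ι.base ζ) := by
    intro ζ hζ hζU
    have hD := hK (ι.base ζ) (hmemX' ζ) (hmaxpt ζ hζ)
    have h4a := le_ringKrullDim_stalk_add_of_equidim f e U h2 (ι.base ζ) hζU
    have : (e : WithBot ℕ∞) ≤ 1 + (ptTrdeg f (ι.base ζ) : WithBot ℕ∞) :=
      h4a.trans (add_le_add_left hD _)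
    exact_mod_cast this
  have hge : ∀ u : ↥(Scheme.IdealSheafData.vanishingIdeal X').subscheme, ι.base u ∈ U →
      ((e - 1 : ℕ) : WithBot ℕ∞) ≤ FlatMor.fibreDimAt gZ u := by
    intro u hu
    obtain ⟨ζ, hζ, hζu⟩ := exists_generic_specializes u
    have hζU : ι.base ζ ∈ U := (hζu.map ι.continuous).mem_open U.2 hu
    have h5 := hgenpt ζ (fun a ha => eq_of_specializes_generic ζ a hζ ha) hζU
    have h6 := ptTrdeg_le_fibreDimAt gZ ζ
    rw [hpt ζ] at h6
    have h7 := fibreDimAt_le_of_specializes gZ u ζ hζu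
    have h8 : ((e - 1 : ℕ) : WithBot ℕ∞) ≤ (ptTrdeg f (ι.base ζ) : WithBot ℕ∞) := by
      have : e - 1 ≤ ptTrdeg f (ι.base ζ) := by omega
      exact_mod_cast this
    exact h8.trans (h6.trans h7)
  have hle : ∀ w : ↥(Scheme.IdealSheafData.vanishingIdeal X').subscheme, ι.base w = x →
      1 ≤ e ∧ FlatMor.fibreDimAt gZ w ≤ ((e - 1 : ℕ) : WithBot ℕ∞) := by
    intro w hw
    exact fibreDimAt_subscheme_le f e U h2 X' w (by rw [← hι, hw]; exact hxU)
      (by rw [← hι, hw]; exact hmax)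
  have he1 : 1 ≤ e := (hle w₀ hw₀).1
  have hfd : ∀ w : ↥(Scheme.IdealSheafData.vanishingIdeal X').subscheme, ι.base w = x →
      FlatMor.fibreDimAt gZ w =
        FlatMor.localDim ↥((X' : Set X) ∩ f.base ⁻¹' {f.base x}) ⟨x, ⟨hx, rfl⟩⟩ := by
    intro w hw
    subst hw
    exact fibreDimAt_subscheme f X' w ⟨hx, rfl⟩
  have hdimw : ∀ w : ↥(Scheme.IdealSheafData.vanishingIdeal X').subscheme, ι.base w = x →
      FlatMor.fibreDimAt gZ w = ((e - 1 : ℕ) : WithBot ℕ∞) := fun w hw =>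
    le_antisymm (hle w hw).2 (hge w (by rw [hw]; exact hxU))
  refine ⟨?_, ?_, ?_⟩
  · intro w hw
    have hWo := isOpen_setOf_fibreDimAt_le' gZ ((e - 1 : ℕ) : WithBot ℕ∞)
    set U' : (Scheme.IdealSheafData.vanishingIdeal X').subscheme.Opens :=
      (ι ⁻¹ᵁ U) ⊓ ⟨{w' | FlatMor.fibreDimAt gZ w' ≤ ((e - 1 : ℕ) : WithBot ℕ∞)}, hWo⟩ with hU'
    have hwU' : w ∈ U' := ⟨by show ι.base w ∈ U; rw [hw]; exact hxU, (hle w hw).2⟩
    have hU'eq : ∀ u : ↥(Scheme.IdealSheafData.vanishingIdeal X').subscheme, u ∈ U' →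
        FlatMor.fibreDimAt gZ u = ((e - 1 : ℕ) : WithBot ℕ∞) := fun u hu =>
      le_antisymm hu.2 (hge u hu.1)
    refine ⟨e - 1, U', hwU', ?_, ?_⟩
    · intro Z hZ
      refine ⟨Set.univ, univ_mem_irreducibleComponents _, trivial, ?_⟩
      obtain ⟨ζ', hζ'⟩ := QuasiSober.sober hZ.1 (isClosed_of_mem_irreducibleComponents _ hZ)
      have hζ'cl : closure ({ζ'} : Set ↥U') ∈ irreducibleComponents ↥U' := by
        rw [hζ'.def]; exact hZ
      -- `ζ'` is a maximal point of the subscheme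
      have hζmax : ∀ a : ↥(Scheme.IdealSheafData.vanishingIdeal X').subscheme,
          a ⤳ (ζ' : ↥(Scheme.IdealSheafData.vanishingIdeal X').subscheme) →
          a = (ζ' : ↥(Scheme.IdealSheafData.vanishingIdeal X').subscheme) := by
        intro a ha
        have haU' : a ∈ U' := ha.mem_open U'.2 ζ'.2
        have h3 : (⟨a, haU'⟩ : ↥U') ⤳ ζ' := (subtype_specializes_iff (⟨a, haU'⟩ : ↥U') ζ').mpr ha
        have h4 := eq_of_specializes_generic ζ' ⟨a, haU'⟩ hζ'cl h3
        exact congrArg Subtype.val h4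
      have hζU : ι.base (ζ' : ↥(Scheme.IdealSheafData.vanishingIdeal X').subscheme) ∈ U := ζ'.2.1
      have hgη : gZ.base (ζ' : ↥(Scheme.IdealSheafData.vanishingIdeal X').subscheme) =
          genericPoint Y := by
        by_contra hne
        have hD := hK _ (hmemX' _) (hmaxpt _ hζmax)
        have h4b := add_one_le_ringKrullDim_stalk_add_of_equidim f e U h2 _ hζU (fun a ha hsp =>
          exists_generization_of_equidim f U h1' a (hsp.mem_open U.2 hζU) (by
            rw [ha]; exact hne))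
        have h5 : (e : WithBot ℕ∞) + 1 ≤ 1 + (ptTrdeg f (ι.base
            (ζ' : ↥(Scheme.IdealSheafData.vanishingIdeal X').subscheme)) : WithBot ℕ∞) :=
          h4b.trans (add_le_add_left hD _)
        have h6 := ptTrdeg_le_fibreDimAt gZ (ζ' : ↥(Scheme.IdealSheafData.vanishingIdeal X').subscheme)
        rw [hpt, hU'eq _ ζ'.2] at h6
        have h7 : ptTrdeg f (ι.base (ζ' : ↥(Scheme.IdealSheafData.vanishingIdeal X').subscheme)) ≤
            e - 1 := by exact_mod_cast h6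
        have h8 : e + 1 ≤ 1 + ptTrdeg f (ι.base
            (ζ' : ↥(Scheme.IdealSheafData.vanishingIdeal X').subscheme)) := by exact_mod_cast h5
        omega
      have hgen : IsGenericPoint ((U'.ι ≫ gZ).base ζ') (closure ((U'.ι ≫ gZ).base '' Z)) :=
        hζ'.image (U'.ι ≫ gZ).continuous
      have h9 : (U'.ι ≫ gZ).base ζ' = genericPoint Y := hgη
      rw [← hgen.def, h9]
      exact (genericPoint_spec Y).def
    · intro x'' Z hZ
      obtain ⟨u, hus, hmaxu, hdimZ⟩ :=
        exists_point_of_mem_irreducibleComponents (U'.ι ≫ gZ) ((U'.ι ≫ gZ).base x'') Z hZ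
      rw [hdimZ, ← fibreDimAt_eq_ptTrdeg_of_maximal (U'.ι ≫ gZ) u hmaxu]
      have h6 : FlatMor.fibreDimAt (U'.ι ≫ gZ) u = FlatMor.fibreDimAt gZ (U'.ι.base u) := by
        rw [fibreDimAt_eq_fibLD, fibreDimAt_eq_fibLD]
        exact fibLD_comp_isOpenEmbedding gZ.base U'.ι.base U'.ι.isOpenEmbedding u
      rw [h6]
      exact hU'eq _ u.2
  · rw [← hfd w₀ hw₀, hdimw w₀ hw₀, hFx]
    have : e - 1 + 1 = e := Nat.sub_add_cancel he1
    exact_mod_cast this
  · intro ξ hξ hξx hξmax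
    have hξr : ξ ∈ Set.range ι.base := by rw [hrange]; exact hξ
    obtain ⟨ξ', rfl⟩ := hξr
    have hξ'w : ξ' ⤳ w₀ := by
      rw [← ι.isEmbedding.isInducing.specializes_iff, hw₀]
      exact hξx
    have hξU : ι.base ξ' ∈ U := hξx.mem_open U.2 hxU
    have hD := hK _ hξ hξmax
    have h4a := le_ringKrullDim_stalk_add_of_equidim f e U h2 _ hξU
    have h6 := ptTrdeg_le_fibreDimAt gZ ξ'
    rw [hpt] at h6
    have h7 := (h6.trans (fibreDimAt_le_of_specializes gZ w₀ ξ' hξ'w)).trans (hle w₀ hw₀).2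
    have h8 : ptTrdeg f (ι.base ξ') ≤ e - 1 := by exact_mod_cast h7
    exact numeric_one e (ptTrdeg f (ι.base ξ')) _ hD h4a (by omega)

/-- EGA IV 13.3.x for the zero locus of a global section. -/
theorem isEquidimAt_zeroLocus [IsLocallyNoetherian Y] (x : X) (hf : EGA43.IsEquidimAt f x)
    (g : Γ(X, ⊤)) (hgx : x ∈ X.zeroLocus ({g} : Set Γ(X, ⊤)))
    (hmax : ∀ z : X, f.base z = f.base x →
      (∀ z' : X, f.base z' = f.base x → z ∈ closure ({z'} : Set X) → z' = z) →
      z ∉ X.zeroLocus ({g} : Set Γ(X, ⊤))) :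
    (∀ w : ↥(Scheme.IdealSheafData.vanishingIdeal
        ⟨X.zeroLocus ({g} : Set Γ(X, ⊤)), X.zeroLocus_isClosed _⟩).subscheme,
        (Scheme.IdealSheafData.vanishingIdeal
          ⟨X.zeroLocus ({g} : Set Γ(X, ⊤)), X.zeroLocus_isClosed _⟩).subschemeι.base w = x →
        EGA43.IsEquidimAt ((Scheme.IdealSheafData.vanishingIdeal
          ⟨X.zeroLocus ({g} : Set Γ(X, ⊤)), X.zeroLocus_isClosed _⟩).subschemeι ≫ f) w) ∧
      FlatMor.localDim ↥(X.zeroLocus ({g} : Set Γ(X, ⊤)) ∩ f.base ⁻¹' {f.base x})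
        ⟨x, ⟨hgx, rfl⟩⟩ + 1 = FlatMor.fibreDimAt f x ∧
      ∀ Z ∈ irreducibleComponents ↥(X.zeroLocus ({g} : Set Γ(X, ⊤))),
        (⟨x, hgx⟩ : ↥(X.zeroLocus ({g} : Set Γ(X, ⊤)))) ∈ Z →
        ∀ ξ : ↥(X.zeroLocus ({g} : Set Γ(X, ⊤))),
          closure ({ξ} : Set ↥(X.zeroLocus ({g} : Set Γ(X, ⊤)))) = Z →
          ringKrullDim (X.presheaf.stalk (ξ : X)) = 1 := by
  haveI : IsLocallyNoetherian X := LocallyOfFiniteType.isLocallyNoetherian f
  obtain ⟨h1, h2, h3⟩ := isEquidimAt_subscheme_of_codim_one f x hf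
    ⟨X.zeroLocus ({g} : Set Γ(X, ⊤)), X.zeroLocus_isClosed _⟩ hgx
    (fun ξ hξ hξmax => ringKrullDim_stalk_le_one_of_maximal_zeroLocus g ξ hξ hξmax)
    (fun z hz hzV => by
      by_contra hcon
      push Not at hcon
      exact hmax z hz (fun z' hz' hcl => hcon z' hz' (specializes_iff_mem_closure.mpr hcl)) hzV)
  refine ⟨h1, h2, ?_⟩
  intro Z hZ hxZ ξ hξ
  refine h3 ξ.1 ξ.2 ?_ ?_
  · have h4 : ξ ⤳ (⟨x, hgx⟩ : ↥(X.zeroLocus ({g} : Set Γ(X, ⊤)))) := by
      rw [specializes_iff_mem_closure, hξ]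
      exact hxZ
    exact (subtype_specializes_iff ξ _).mp h4
  · intro y hy hsp
    have h5 : (⟨y, hy⟩ : ↥(X.zeroLocus ({g} : Set Γ(X, ⊤)))) ⤳ ξ :=
      (subtype_specializes_iff _ ξ).mpr hsp
    have h6 := eq_of_specializes_generic ξ ⟨y, hy⟩ (by rw [hξ]; exact hZ) h5
    exact congrArg Subtype.val h6

end Codim1

end Groth.Agent.Lib.Helper6.EquiSub
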