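import Mathlib
import Groth.Agent.Lib.Helper6EquiSubC

set_option autoImplicit false
set_option linter.style.haveILetI false

universe u

open AlgebraicGeometry CategoryTheory TopologicalSpace Topology

namespace Groth.Agent.Lib.Helper6.EquiSub

open Groth.Agent.Lib.Helper4.VarDim Groth.Agent.Lib.Helper4.FibDim
  Groth.Agent.Lib.Helper4.DimFormula Groth.Agent.Lib.Helper6.OpenDim

section Avoid

/-- In a Noetherian quasi-sober T0 space the set of maximal points is finite. -/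
theorem finite_setOf_maximal (T : Type*) [TopologicalSpace T] [NoetherianSpace T] [T0Space T] [QuasiSober T] :
    {ζ : T | ∀ w : T, w ⤳ ζ → w = ζ}.Finite := by
  have hT : (irreducibleComponents T).Finite := NoetherianSpace.finite_irreducibleComponents
  refine Set.Finite.of_finite_image (f := fun ζ : T => closure ({ζ} : Set T)) (hT.subset ?_) ?_
  · rintro _ ⟨ζ, hζ, rfl⟩
    exact mem_irreducibleComponents_of_forall_specializes ζ hζ
  · intro a _ b _ hab
    have h1 : IsGenericPoint a (closure ({b} : Set T)) := hab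
    exact h1.eq isGenericPoint_closure

variable {X Y : Scheme.{u}} [IsLocallyNoetherian Y] (f : X ⟶ Y) [LocallyOfFiniteType f]

theorem exists_section_avoiding_maximal (x : X)
    (hx : ∃ x' : X, f.base x' = f.base x ∧ x' ≠ x ∧ x ∈ closure ({x'} : Set X)) :
    ∃ U : X.Opens, IsAffineOpen U ∧ x ∈ U ∧ ∃ g : Γ(X, U), x ∉ X.basicOpen g ∧
      ∀ z : X, f.base z = f.base x →
        (∀ z' : X, f.base z' = f.base x → z ∈ closure ({z'} : Set X) → z' = z) →
        z ∈ U → z ∈ X.basicOpen g := by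
  obtain ⟨U, hU, hxU, -⟩ := exists_isAffineOpen_mem_and_subset (U := ⊤) (x := x) trivial
  refine ⟨U, hU, hxU, ?_⟩
  set h : (U : Scheme.{u}) ⟶ Y := U.ι ≫ f with hh
  set xU : ↥U := ⟨x, hxU⟩ with hxU'
  haveI : CompactSpace ↥(U : Scheme.{u}) := isCompact_iff_compactSpace.mp hU.isCompact
  haveI : QuasiCompact h := inferInstance
  haveI : IsLocallyNoetherian (h.fiber (h.base xU)) :=
    LocallyOfFiniteType.isLocallyNoetherian (h.fiberToSpecResidueField (h.base xU))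
  haveI : IsNoetherian (h.fiber (h.base xU)) := {}
  have hM := finite_setOf_maximal ↥(h.fiber (h.base xU))
  -- the prime of a point of the fibre
  have hmemU : ∀ ζ : ↥(h.fiber (h.base xU)), U.ι.base (h.fiberι (h.base xU) ζ) ∈ U :=
    fun ζ => (h.fiberι (h.base xU) ζ).2
  set P : ↥(h.fiber (h.base xU)) → Ideal Γ(X, U) := fun ζ =>
    (hU.primeIdealOf ⟨U.ι.base (h.fiberι (h.base xU) ζ), hmemU ζ⟩).asIdeal with hP
  -- points of `U` over `f x` come from the fibre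
  have hlift : ∀ z : X, f.base z = f.base x → z ∈ U →
      ∃ ζ : ↥(h.fiber (h.base xU)), U.ι.base (h.fiberι (h.base xU) ζ) = z := by
    intro z hz hzU
    have h1 : (⟨z, hzU⟩ : ↥U) ∈ Set.range (h.fiberι (h.base xU)) := by
      rw [h.range_fiberι]
      exact hz
    obtain ⟨ζ, hζ⟩ := h1
    exact ⟨ζ, by rw [hζ]; rfl⟩
  have hspec : ∀ ζ ζ' : ↥(h.fiber (h.base xU)),
      U.ι.base (h.fiberι (h.base xU) ζ) ⤳ U.ι.base (h.fiberι (h.base xU) ζ') ↔ ζ ⤳ ζ' := by
    intro ζ ζ'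
    rw [U.ι.isEmbedding.isInducing.specializes_iff,
      (h.fiberι (h.base xU)).isEmbedding.isInducing.specializes_iff]
  have hbase : ∀ ζ : ↥(h.fiber (h.base xU)),
      f.base (U.ι.base (h.fiberι (h.base xU) ζ)) = f.base x := fun ζ => base_fiberι h _ ζ
  obtain ⟨z₀, hz₀⟩ := hlift x rfl hxU
  -- `x` is not a maximal point of the fibre
  have hz₀max : z₀ ∉ {ζ : ↥(h.fiber (h.base xU)) | ∀ w, w ⤳ ζ → w = ζ} := by
    intro hmax
    obtain ⟨x', hx'1, hx'2, hx'3⟩ := hx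
    have hsp : x' ⤳ x := specializes_iff_mem_closure.mpr hx'3
    obtain ⟨ζ', hζ'⟩ := hlift x' hx'1 (hsp.mem_open U.2 hxU)
    have h2 : ζ' ⤳ z₀ := by rw [← hspec, hζ', hz₀]; exact hsp
    have h3 := hmax ζ' h2
    apply hx'2
    rw [← hζ', h3, hz₀]
  -- prime avoidance
  have hex : ∃ g : Γ(X, U), g ∈ (hU.primeIdealOf ⟨x, hxU⟩).asIdeal ∧
      ∀ ζ ∈ {ζ : ↥(h.fiber (h.base xU)) | ∀ w, w ⤳ ζ → w = ζ}, g ∉ P ζ := by
    by_contra hcon
    push Not at hcon
    have hsub : ((hU.primeIdealOf ⟨x, hxU⟩).asIdeal : Set Γ(X, U)) ⊆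
        ⋃ i ∈ (↑hM.toFinset : Set ↥(h.fiber (h.base xU))), (P i : Set Γ(X, U)) := by
      intro g hg
      obtain ⟨ζ, hζ, hgζ⟩ := hcon g hg
      simp only [Set.mem_iUnion]
      exact ⟨ζ, by simpa using hζ, hgζ⟩
    obtain ⟨ζ, hζ, hle⟩ := (Ideal.subset_union_prime (f := P) z₀ z₀
      (fun i _ _ _ => (hU.primeIdealOf _).isPrime)).mp hsub
    have hζM : ∀ w, w ⤳ ζ → w = ζ := by simpa using hζ
    have h1 : x ⤳ U.ι.base (h.fiberι (h.base xU) ζ) :=
      (primeIdealOf_le_iff hU x _ hxU (hmemU ζ)).mp hle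
    rw [← hz₀, hspec] at h1
    have h2 := hζM z₀ h1
    exact hz₀max (h2 ▸ hζM)
  obtain ⟨g, hgx, hgM⟩ := hex
  refine ⟨g, (mem_primeIdealOf_iff_notMem_basicOpen hU x hxU g).mp hgx, ?_⟩
  intro z hz hzmax hzU
  obtain ⟨ζ, hζ⟩ := hlift z hz hzU
  have hζM : ∀ w, w ⤳ ζ → w = ζ := by
    intro w hw
    have h1 : U.ι.base (h.fiberι (h.base xU) w) ⤳ z := by rw [← hζ, hspec]; exact hw
    have h2 := hzmax _ (hbase w) (specializes_iff_mem_closure.mp h1)
    rw [← hζ] at h2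
    exact (h.fiberι (h.base xU)).isEmbedding.injective (U.ι.isEmbedding.injective h2)
  have h3 := hgM ζ hζM
  by_contra hzg
  apply h3
  have h4 := (mem_primeIdealOf_iff_notMem_basicOpen hU z hzU g).mpr hzg
  show g ∈ (hU.primeIdealOf ⟨U.ι.base (h.fiberι (h.base xU) ζ), hmemU ζ⟩).asIdeal
  have h5 : (⟨U.ι.base (h.fiberι (h.base xU) ζ), hmemU ζ⟩ : ↥U) = ⟨z, hzU⟩ := Subtype.ext hζ
  rw [h5]
  exact h4

end Avoid

end Groth.Agent.Lib.Helper6.EquiSub
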