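import Mathlib
import Groth.Agent.Lib.Helper6EquiSubD

set_option autoImplicit false
set_option linter.style.haveILetI false

universe u

open AlgebraicGeometry CategoryTheory TopologicalSpace Topology

namespace Groth.Agent.Lib.Helper6.EquiSub

open Groth.Agent.Lib.Helper4.VarDim Groth.Agent.Lib.Helper4.FibDim
  Groth.Agent.Lib.Helper4.DimFormula Groth.Agent.Lib.Helper6.OpenDim

section Codim1'

variable {X Y : Scheme.{u}} (f : X ⟶ Y) [LocallyOfFiniteType f]

attribute [local instance] Curv2.resAlgebra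

/-- If the closed set `X'` contains no maximal point of the fibre through `ι w`, the fibre dimension
of `X'_red` at `w` is at most `e - 1`. -/
theorem fibreDimAt_subscheme_le' (e : ℕ) (U : X.Opens)
    (h2 : ∀ x' : (↥U : Type u),
      ∀ Z ∈ irreducibleComponents (↥((U.ι ≫ f).fiber ((U.ι ≫ f).base x')) : Type u),
      topologicalKrullDim (↥Z : Type u) = e)
    (X' : TopologicalSpace.Closeds X) (w : ↥(Scheme.IdealSheafData.vanishingIdeal X').subscheme)
    (hwU : (Scheme.IdealSheafData.vanishingIdeal X').subschemeι.base w ∈ U)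
    (hmax : ∀ z : X,
      f.base z = f.base ((Scheme.IdealSheafData.vanishingIdeal X').subschemeι.base w) →
      z ∈ (X' : Set X) → z ⤳ (Scheme.IdealSheafData.vanishingIdeal X').subschemeι.base w →
      ∃ z' : X,
        f.base z' = f.base ((Scheme.IdealSheafData.vanishingIdeal X').subschemeι.base w) ∧
        z' ⤳ z ∧ z' ≠ z) :
    1 ≤ e ∧ FlatMor.fibreDimAt ((Scheme.IdealSheafData.vanishingIdeal X').subschemeι ≫ f) w ≤
      ((e - 1 : ℕ) : WithBot ℕ∞) := by
  set ι := (Scheme.IdealSheafData.vanishingIdeal X').subschemeι with hι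
  set gZ := ι ≫ f with hgZ
  have key : ∀ v' : ↥(Scheme.IdealSheafData.vanishingIdeal X').subscheme,
      gZ.base v' = gZ.base w → v' ⤳ w → ptTrdeg gZ v' + 1 ≤ e := by
    intro v' hv' hsp
    have hfv : f.base (ι.base v') = f.base (ι.base w) := hv'
    have hvX' : ι.base v' ∈ (X' : Set X) := by
      rw [← range_subschemeι_vanishingIdeal X']
      exact ⟨v', rfl⟩
    obtain ⟨z', hz'1, hz'2, hz'3⟩ := hmax _ hfv hvX' (hsp.map ι.continuous)
    have h3 := ptTrdeg_lt_of_specializes f z' (ι.base v') (hz'1.trans hfv.symm) hz'2 hz'3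
    have hz'U : z' ∈ U := (hz'2.trans (hsp.map ι.continuous)).mem_open U.2 hwU
    have h4 := ptTrdeg_le_fibreDimAt f z'
    rw [fibreDimAt_eq_of_equidim f e U h2 z' hz'U] at h4
    have h5 : ptTrdeg f z' ≤ e := by exact_mod_cast h4
    have h6 : ptTrdeg gZ v' = ptTrdeg f (ι.base v') := ptTrdeg_comp_of_isPreimmersion ι f v'
    omega
  have he1 : 1 ≤ e := by
    have := key w rfl specializes_rfl
    omega
  refine ⟨he1, ?_⟩
  letI : (gZ.fiber (gZ.base w)).Over (Spec (CommRingCat.of (Y.residueField (gZ.base w)))) :=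
    ⟨gZ.fiberToSpecResidueField (gZ.base w)⟩
  haveI : LocallyOfFiniteType ((gZ.fiber (gZ.base w)) ↘
      Spec (CommRingCat.of (Y.residueField (gZ.base w)))) :=
    locallyOfFiniteType_fiberToSpecResidueField gZ _
  refine localDim_le_of_forall_maximal (Y.residueField (gZ.base w)) (gZ.fiber (gZ.base w))
    (gZ.asFiber w) (e - 1) (fun ζ hζ _ => ?_)
  rw [trdegNat_eq_ptTrdeg gZ (gZ.base w) ζ]
  have := key (gZ.fiberι (gZ.base w) ζ) (base_fiberι gZ _ ζ) (fiberι_specializes gZ w ζ hζ)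
  omega

variable [IrreducibleSpace Y]

set_option maxHeartbeats 1600000 in
/-- EGA IV 13.3.x (hypersurface sections): `f` equidimensional at `x` (`Y` irreducible), `X'` a
closed subset through `x` whose maximal points have codimension `≤ 1` in `X` and which contains no
maximal point of the fibre through `x`. Then `X'_red → Y` is equidimensional at `x`,
`dim_x(X' ∩ X_y) = e - 1` and the components of `X'` through `x` have codimension exactly `1`. -/
theorem isEquidimAt_subscheme_of_codim_one' (x : X) (hf : EGA43.IsEquidimAt f x)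
    (X' : TopologicalSpace.Closeds X) (hx : x ∈ X') (N : X.Opens) (hxN : x ∈ N)
    (hK : ∀ ξ ∈ (X' : Set X), ξ ∈ N → (∀ y ∈ (X' : Set X), y ⤳ ξ → y = ξ) →
      ringKrullDim (X.presheaf.stalk ξ) ≤ 1)
    (hmax : ∀ z : X, f.base z = f.base x → z ∈ (X' : Set X) → z ⤳ x →
      ∃ z' : X, f.base z' = f.base x ∧ z' ⤳ z ∧ z' ≠ z) :
    (∀ w : ↥(Scheme.IdealSheafData.vanishingIdeal X').subscheme,
        (Scheme.IdealSheafData.vanishingIdeal X').subschemeι.base w = x →
        EGA43.IsEquidimAt ((Scheme.IdealSheafData.vanishingIdeal X').subschemeι ≫ f) w) ∧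
      FlatMor.localDim ↥((X' : Set X) ∩ f.base ⁻¹' {f.base x}) ⟨x, ⟨hx, rfl⟩⟩ + 1 =
        FlatMor.fibreDimAt f x ∧
      ∀ ξ ∈ (X' : Set X), ξ ⤳ x → (∀ y ∈ (X' : Set X), y ⤳ ξ → y = ξ) →
        ringKrullDim (X.presheaf.stalk ξ) = 1 := by
  obtain ⟨e, U, hxU, h1, h2⟩ := hf
  have hFx : FlatMor.fibreDimAt f x = (e : WithBot ℕ∞) := fibreDimAt_eq_of_equidim f e U h2 x hxU
  have h1' : ∀ Z ∈ irreducibleComponents (↥U : Type u),
      ∃ W ∈ irreducibleComponents (Y : Type u), closure ((U.ι ≫ f).base '' Z) = W := by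
    intro Z hZ
    obtain ⟨W, hW, -, hcl⟩ := h1 Z hZ
    exact ⟨W, hW, hcl⟩
  set ι := (Scheme.IdealSheafData.vanishingIdeal X').subschemeι with hι
  set gZ := ι ≫ f with hgZ
  have hrange : Set.range ι.base = (X' : Set X) := range_subschemeι_vanishingIdeal X'
  have hxr : x ∈ Set.range ι.base := by rw [hrange]; exact hx
  obtain ⟨w₀, hw₀⟩ := hxr
  have hpt : ∀ u : ↥(Scheme.IdealSheafData.vanishingIdeal X').subscheme,
      ptTrdeg gZ u = ptTrdeg f (ι.base u) := fun u => ptTrdeg_comp_of_isPreimmersion ι f u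
  -- maximal points of the subscheme are maximal points of `X'`
  have hmaxpt : ∀ ζ : ↥(Scheme.IdealSheafData.vanishingIdeal X').subscheme,
      (∀ a : ↥(Scheme.IdealSheafData.vanishingIdeal X').subscheme, a ⤳ ζ → a = ζ) →
      ∀ y ∈ (X' : Set X), y ⤳ ι.base ζ → y = ι.base ζ := by
    intro ζ hζ y hy hsp
    rw [← hrange] at hy
    obtain ⟨y', rfl⟩ := hy
    have : y' ⤳ ζ := ι.isEmbedding.isInducing.specializes_iff.mp hsp
    rw [hζ y' this]
  have hmemX' : ∀ u : ↥(Scheme.IdealSheafData.vanishingIdeal X').subscheme,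
      ι.base u ∈ (X' : Set X) := fun u => by rw [← hrange]; exact ⟨u, rfl⟩
  have hgenpt : ∀ ζ : ↥(Scheme.IdealSheafData.vanishingIdeal X').subscheme,
      (∀ a : ↥(Scheme.IdealSheafData.vanishingIdeal X').subscheme, a ⤳ ζ → a = ζ) →
      ι.base ζ ∈ U → ι.base ζ ∈ N → e ≤ 1 + ptTrdeg f (ι.base ζ) := by
    intro ζ hζ hζU hζN
    have hD := hK (ι.base ζ) (hmemX' ζ) hζN (hmaxpt ζ hζ)
    have h4a := le_ringKrullDim_stalk_add_of_equidim f e U h2 (ι.base ζ) hζU
    have : (e : WithBot ℕ∞) ≤ 1 + (ptTrdeg f (ι.base ζ) : WithBot ℕ∞) :=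
      h4a.trans (add_le_add_left hD _)
    exact_mod_cast this
  have hge : ∀ u : ↥(Scheme.IdealSheafData.vanishingIdeal X').subscheme, ι.base u ∈ U →
      ι.base u ∈ N → ((e - 1 : ℕ) : WithBot ℕ∞) ≤ FlatMor.fibreDimAt gZ u := by
    intro u hu huN
    obtain ⟨ζ, hζ, hζu⟩ := exists_generic_specializes u
    have hζU : ι.base ζ ∈ U := (hζu.map ι.continuous).mem_open U.2 hu
    have hζN : ι.base ζ ∈ N := (hζu.map ι.continuous).mem_open N.2 huN
    have h5 := hgenpt ζ (fun a ha => eq_of_specializes_generic ζ a hζ ha) hζU hζN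
    have h6 := ptTrdeg_le_fibreDimAt gZ ζ
    rw [hpt ζ] at h6
    have h7 := fibreDimAt_le_of_specializes gZ u ζ hζu
    have h8 : ((e - 1 : ℕ) : WithBot ℕ∞) ≤ (ptTrdeg f (ι.base ζ) : WithBot ℕ∞) := by
      have : e - 1 ≤ ptTrdeg f (ι.base ζ) := by omega
      exact_mod_cast this
    exact h8.trans (h6.trans h7)
  have hle : ∀ w : ↥(Scheme.IdealSheafData.vanishingIdeal X').subscheme, ι.base w = x →
      1 ≤ e ∧ FlatMor.fibreDimAt gZ w ≤ ((e - 1 : ℕ) : WithBot ℕ∞) := by
    intro w hw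
    exact fibreDimAt_subscheme_le' f e U h2 X' w (by rw [← hι, hw]; exact hxU)
      (by rw [← hι, hw]; exact hmax)
  have he1 : 1 ≤ e := (hle w₀ hw₀).1
  have hfd : ∀ w : ↥(Scheme.IdealSheafData.vanishingIdeal X').subscheme, ι.base w = x →
      FlatMor.fibreDimAt gZ w =
        FlatMor.localDim ↥((X' : Set X) ∩ f.base ⁻¹' {f.base x}) ⟨x, ⟨hx, rfl⟩⟩ := by
    intro w hw
    subst hw
    exact fibreDimAt_subscheme f X' w ⟨hx, rfl⟩
  have hdimw : ∀ w : ↥(Scheme.IdealSheafData.vanishingIdeal X').subscheme, ι.base w = x →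
      FlatMor.fibreDimAt gZ w = ((e - 1 : ℕ) : WithBot ℕ∞) := fun w hw =>
    le_antisymm (hle w hw).2 (hge w (by rw [hw]; exact hxU) (by rw [hw]; exact hxN))
  refine ⟨?_, ?_, ?_⟩
  · intro w hw
    have hWo := isOpen_setOf_fibreDimAt_le' gZ ((e - 1 : ℕ) : WithBot ℕ∞)
    set U' : (Scheme.IdealSheafData.vanishingIdeal X').subscheme.Opens :=
      ((ι ⁻¹ᵁ U) ⊓ (ι ⁻¹ᵁ N)) ⊓
        ⟨{w' | FlatMor.fibreDimAt gZ w' ≤ ((e - 1 : ℕ) : WithBot ℕ∞)}, hWo⟩ with hU'
    have hwU' : w ∈ U' := ⟨⟨by show ι.base w ∈ U; rw [hw]; exact hxU,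
      by show ι.base w ∈ N; rw [hw]; exact hxN⟩, (hle w hw).2⟩
    have hU'eq : ∀ u : ↥(Scheme.IdealSheafData.vanishingIdeal X').subscheme, u ∈ U' →
        FlatMor.fibreDimAt gZ u = ((e - 1 : ℕ) : WithBot ℕ∞) := fun u hu =>
      le_antisymm hu.2 (hge u hu.1.1 hu.1.2)
    refine ⟨e - 1, U', hwU', ?_, ?_⟩
    · intro Z hZ
      refine ⟨Set.univ, univ_mem_irreducibleComponents _, trivial, ?_⟩
      obtain ⟨ζ', hζ'⟩ := QuasiSober.sober hZ.1 (isClosed_of_mem_irreducibleComponents _ hZ)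
      have hζ'cl : closure ({ζ'} : Set ↥U') ∈ irreducibleComponents ↥U' := by
        rw [hζ'.def]; exact hZ
      -- `ζ'` is a maximal point of the subscheme
      have hζmax : ∀ a : ↥(Scheme.IdealSheafData.vanishingIdeal X').subscheme,
          a ⤳ (ζ' : ↥(Scheme.IdealSheafData.vanishingIdeal X').subscheme) →
          a = (ζ' : ↥(Scheme.IdealSheafData.vanishingIdeal X').subscheme) := by
        intro a ha
        have haU' : a ∈ U' := ha.mem_open U'.2 ζ'.2
        have h3 : (⟨a, haU'⟩ : ↥U') ⤳ ζ' := (subtype_specializes_iff (⟨a, haU'⟩ : ↥U') ζ').mpr ha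
        have h4 := eq_of_specializes_generic ζ' ⟨a, haU'⟩ hζ'cl h3
        exact congrArg Subtype.val h4
      have hζU : ι.base (ζ' : ↥(Scheme.IdealSheafData.vanishingIdeal X').subscheme) ∈ U :=
        ζ'.2.1.1
      have hζN : ι.base (ζ' : ↥(Scheme.IdealSheafData.vanishingIdeal X').subscheme) ∈ N :=
        ζ'.2.1.2
      have hgη : gZ.base (ζ' : ↥(Scheme.IdealSheafData.vanishingIdeal X').subscheme) =
          genericPoint Y := by
        by_contra hne
        have hD := hK _ (hmemX' _) hζN (hmaxpt _ hζmax)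
        have h4b := add_one_le_ringKrullDim_stalk_add_of_equidim f e U h2 _ hζU (fun a ha hsp =>
          exists_generization_of_equidim f U h1' a (hsp.mem_open U.2 hζU) (by
            rw [ha]; exact hne))
        have h5 : (e : WithBot ℕ∞) + 1 ≤ 1 + (ptTrdeg f (ι.base
            (ζ' : ↥(Scheme.IdealSheafData.vanishingIdeal X').subscheme)) : WithBot ℕ∞) :=
          h4b.trans (add_le_add_left hD _)
        have h6 := ptTrdeg_le_fibreDimAt gZ (ζ' : ↥(Scheme.IdealSheafData.vanishingIdeal X').subscheme)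
        rw [hpt, hU'eq _ ζ'.2] at h6
        have h7 : ptTrdeg f (ι.base (ζ' : ↥(Scheme.IdealSheafData.vanishingIdeal X').subscheme)) ≤
            e - 1 := by exact_mod_cast h6
        have h8 : e + 1 ≤ 1 + ptTrdeg f (ι.base
            (ζ' : ↥(Scheme.IdealSheafData.vanishingIdeal X').subscheme)) := by exact_mod_cast h5
        omega
      have hgen : IsGenericPoint ((U'.ι ≫ gZ).base ζ') (closure ((U'.ι ≫ gZ).base '' Z)) :=
        hζ'.image (U'.ι ≫ gZ).continuous
      have h9 : (U'.ι ≫ gZ).base ζ' = genericPoint Y := hgη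
      rw [← hgen.def, h9]
      exact (genericPoint_spec Y).def
    · intro x'' Z hZ
      obtain ⟨u, hus, hmaxu, hdimZ⟩ :=
        exists_point_of_mem_irreducibleComponents (U'.ι ≫ gZ) ((U'.ι ≫ gZ).base x'') Z hZ
      rw [hdimZ, ← fibreDimAt_eq_ptTrdeg_of_maximal (U'.ι ≫ gZ) u hmaxu]
      have h6 : FlatMor.fibreDimAt (U'.ι ≫ gZ) u = FlatMor.fibreDimAt gZ (U'.ι.base u) := by
        rw [fibreDimAt_eq_fibLD, fibreDimAt_eq_fibLD]
        exact fibLD_comp_isOpenEmbedding gZ.base U'.ι.base U'.ι.isOpenEmbedding u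
      rw [h6]
      exact hU'eq _ u.2
  · rw [← hfd w₀ hw₀, hdimw w₀ hw₀, hFx]
    have : e - 1 + 1 = e := Nat.sub_add_cancel he1
    exact_mod_cast this
  · intro ξ hξ hξx hξmax
    have hξr : ξ ∈ Set.range ι.base := by rw [hrange]; exact hξ
    obtain ⟨ξ', rfl⟩ := hξr
    have hξ'w : ξ' ⤳ w₀ := by
      rw [← ι.isEmbedding.isInducing.specializes_iff, hw₀]
      exact hξx
    have hξU : ι.base ξ' ∈ U := hξx.mem_open U.2 hxU
    have hD := hK _ hξ (hξx.mem_open N.2 hxN) hξmax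
    have h4a := le_ringKrullDim_stalk_add_of_equidim f e U h2 _ hξU
    have h6 := ptTrdeg_le_fibreDimAt gZ ξ'
    rw [hpt] at h6
    have h7 := (h6.trans (fibreDimAt_le_of_specializes gZ w₀ ξ' hξ'w)).trans (hle w₀ hw₀).2
    have h8 : ptTrdeg f (ι.base ξ') ≤ e - 1 := by exact_mod_cast h7
    exact numeric_one e (ptTrdeg f (ι.base ξ')) _ hD h4a (by omega)

end Codim1'

section Tools

/-- Krull's principal ideal theorem at a maximal point of the zero locus of a section over an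
affine open. -/
theorem ringKrullDim_stalk_le_one_of_maximal_notMem_basicOpen {X : Scheme.{u}}
    [IsLocallyNoetherian X] {W : X.Opens} (hW : IsAffineOpen W) (g : Γ(X, W)) (ξ : X)
    (hξW : ξ ∈ W) (hξ : ξ ∉ X.basicOpen g)
    (hgen : ∀ y ∈ W, y ∉ X.basicOpen g → y ⤳ ξ → y = ξ) :
    ringKrullDim (X.presheaf.stalk ξ) ≤ 1 := by
  haveI : IsNoetherianRing Γ(X, W) := IsLocallyNoetherian.component_noetherian ⟨W, hW⟩
  have hmin : (hW.primeIdealOf ⟨ξ, hξW⟩).asIdeal ∈ (Ideal.span {g}).minimalPrimes := by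
    refine ⟨⟨inferInstance, ?_⟩, ?_⟩
    · rw [Ideal.span_singleton_le_iff_mem, mem_primeIdealOf_iff_notMem_basicOpen hW ξ hξW g]
      exact hξ
    · rintro q ⟨hq, hgq⟩ hqp
      let Q : PrimeSpectrum Γ(X, W) := ⟨q, hq⟩
      have hyW : hW.fromSpec Q ∈ W := fromSpec_mem hW Q
      have hQ : hW.primeIdealOf ⟨hW.fromSpec Q, hyW⟩ = Q := primeIdealOf_fromSpec hW Q hyW
      have hsp : hW.fromSpec Q ⤳ ξ := by
        rw [← primeIdealOf_le_iff hW _ _ hyW hξW, hQ]
        exact hqp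
      have hmem : hW.fromSpec Q ∉ X.basicOpen g := by
        rw [← mem_primeIdealOf_iff_notMem_basicOpen hW _ hyW g, hQ]
        exact (Ideal.span_singleton_le_iff_mem _).mp hgq
      have heq := hgen _ hyW hmem hsp
      have h3 : Q = hW.primeIdealOf ⟨ξ, hξW⟩ := by
        rw [← hQ]
        congr 1
        exact Subtype.ext heq
      rw [← h3]
  letI : Algebra Γ(X, W) (X.presheaf.stalk ξ) :=
    TopCat.Presheaf.algebra_section_stalk X.presheaf (⟨ξ, hξW⟩ : W)
  haveI : IsLocalization.AtPrime (X.presheaf.stalk ξ) (hW.primeIdealOf ⟨ξ, hξW⟩).asIdeal :=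
    hW.isLocalization_stalk ⟨ξ, hξW⟩
  rw [IsLocalization.AtPrime.ringKrullDim_eq_height (hW.primeIdealOf ⟨ξ, hξW⟩).asIdeal
    (X.presheaf.stalk ξ)]
  have h1 := Ideal.height_le_one_of_isPrincipal_of_mem_minimalPrimes (Ideal.span {g}) _ hmin
  exact_mod_cast h1

theorem localDim_mono_subset {B : Type*} [TopologicalSpace B] {S S' : Set B} (h : S ⊆ S') (b : B)
    (hb : b ∈ S) :
    FlatMor.localDim ↥S ⟨b, hb⟩ ≤ FlatMor.localDim ↥S' ⟨b, h hb⟩ := by
  rw [Groth.Agent.Lib.Helper7.TopDim.le_localDim_iff]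
  intro N' hN'
  have hcont : Continuous (Set.inclusion h) := continuous_inclusion h
  let N : Opens ↥S := ⟨Set.inclusion h ⁻¹' (N' : Set ↥S'), N'.2.preimage hcont⟩
  have hbN : (⟨b, hb⟩ : ↥S) ∈ N := hN'
  refine (Groth.Agent.Lib.Helper7.TopDim.localDim_le _ N hbN).trans ?_
  let φ : ↥(N : Set ↥S) → ↥(N' : Set ↥S') := fun a => ⟨Set.inclusion h a.1, a.2⟩
  have hφ : Topology.IsInducing φ := by
    have h1 : Topology.IsInducing (Subtype.val ∘ φ) := by
      have : (Subtype.val ∘ φ) = Set.inclusion h ∘ Subtype.val := rfl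
      rw [this]
      exact (Topology.IsEmbedding.inclusion h).isInducing.comp Topology.IsInducing.subtypeVal
    exact Topology.IsInducing.of_comp (by fun_prop) continuous_subtype_val h1
  exact hφ.topologicalKrullDim_le

end Tools

section QF

variable {T Y : Scheme.{u}} (h : T ⟶ Y) [LocallyOfFiniteType h]

/-- A morphism locally of finite type all of whose fibres have local dimension `≤ 0` everywhere is
locally quasi-finite. -/
theorem locallyQuasiFinite_of_fibreDimAt_le_zero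
    (h0 : ∀ t : T, FlatMor.fibreDimAt h t ≤ 0) : LocallyQuasiFinite h := by
  rw [locallyQuasiFinite_iff_isDiscrete_preimage_singleton]
  intro s
  haveI : IsLocallyNoetherian (h.fiber s) :=
    LocallyOfFiniteType.isLocallyNoetherian (h.fiberToSpecResidueField s)
  have hdim : topologicalKrullDim ↥(h.fiber s) ≤ 0 := by
    rw [Groth.Agent.Lib.Helper7.TopDim.topologicalKrullDim_eq_iSup_localDim]
    refine iSup_le fun z => ?_
    rw [localDim_fiber_eq h s z, ← fibreDimAt_eq_fibLD]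
    exact h0 _
  haveI : IsLocallyArtinian (h.fiber s) := .of_topologicalKrullDim_le_zero hdim
  haveI : DiscreteTopology ↥(h.fiber s) := inferInstance
  rw [isDiscrete_iff_discreteTopology]
  exact (h.fiberHomeo s).symm.isEmbedding.discreteTopology

end QF

end Groth.Agent.Lib.Helper6.EquiSub
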