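import Mathlib
import Groth.Agent.Lib.Helper6EquiSubE
import Groth.Agent.Lib.Helper10RedInd

set_option autoImplicit false
set_option linter.style.haveILetI false

universe u

open AlgebraicGeometry CategoryTheory TopologicalSpace Topology

namespace Groth.Agent.Lib.Helper6.EquiSub

open Groth.Agent.Lib.Helper4.VarDim Groth.Agent.Lib.Helper4.FibDim
  Groth.Agent.Lib.Helper4.DimFormula Groth.Agent.Lib.Helper6.OpenDim

section QS

/-- Existence of a quasi-section of `f` through `x`. -/
def HasQuasiSection {X Y : Scheme.{u}} (f : X ⟶ Y) (x : X) : Prop :=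
  ∃ (T : Scheme.{u}) (i : T ⟶ X), IsImmersion i ∧ IrreducibleSpace ↥T ∧ IsReduced T ∧
    x ∈ Set.range i.base ∧ LocallyOfFiniteType (i ≫ f) ∧ LocallyQuasiFinite (i ≫ f) ∧
    QuasiCompact (i ≫ f) ∧ IsDominant (i ≫ f)

theorem HasQuasiSection.of_immersion {X₁ X Y : Scheme.{u}} (j : X₁ ⟶ X) [IsImmersion j]
    (f : X ⟶ Y) (w : X₁) (h : HasQuasiSection (j ≫ f) w) : HasQuasiSection f (j.base w) := by
  obtain ⟨T, i, h1, h2, h3, ⟨t, ht⟩, h5, h6, h7, h8⟩ := h
  refine ⟨T, i ≫ j, inferInstance, h2, h3, ⟨t, by rw [Scheme.Hom.comp_apply, ht]⟩, ?_, ?_, ?_, ?_⟩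
  · rw [Category.assoc]; exact h5
  · rw [Category.assoc]; exact h6
  · rw [Category.assoc]; exact h7
  · rw [Category.assoc]; exact h8

variable {X Y : Scheme.{u}} [IrreducibleSpace Y] [IsLocallyNoetherian Y] (f : X ⟶ Y)
  [LocallyOfFiniteType f]

set_option maxHeartbeats 800000 in
theorem hasQuasiSection_of_fibreDimAt_eq_zero (x : X) (hf : EGA43.IsEquidimAt f x)
    (h0 : FlatMor.fibreDimAt f x = 0) : HasQuasiSection f x := by
  obtain ⟨e, U, hxU, h1, h2⟩ := hf
  have he : e = 0 := by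
    have := fibreDimAt_eq_of_equidim f e U h2 x hxU
    rw [h0] at this
    exact_mod_cast this.symm
  subst he
  have h1' : ∀ Z ∈ irreducibleComponents (↥U : Type u),
      ∃ W ∈ irreducibleComponents (Y : Type u), closure ((U.ι ≫ f).base '' Z) = W := by
    intro Z hZ
    obtain ⟨W, hW, -, hcl⟩ := h1 Z hZ
    exact ⟨W, hW, hcl⟩
  obtain ⟨U₀, hU₀, hxU₀, hU₀U⟩ := exists_isAffineOpen_mem_and_subset (U := U) (x := x) hxU
  set x₀ : ↥(U₀ : Scheme.{u}) := ⟨x, hxU₀⟩ with hx₀
  set C' : TopologicalSpace.Closeds ↥(U₀ : Scheme.{u}) :=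
    ⟨irreducibleComponent x₀, isClosed_irreducibleComponent⟩ with hC'
  obtain ⟨ξ₀, hξ₀⟩ := QuasiSober.sober (isIrreducible_irreducibleComponent (x := x₀))
    isClosed_irreducibleComponent
  have hξ₀cl : closure ({ξ₀} : Set ↥(U₀ : Scheme.{u})) = (C' : Set ↥(U₀ : Scheme.{u})) := hξ₀.def
  haveI : IrreducibleSpace ↥(Scheme.IdealSheafData.vanishingIdeal C').subscheme :=
    irreducibleSpace_subscheme C' ξ₀ hξ₀cl
  haveI : IsReduced (Scheme.IdealSheafData.vanishingIdeal C').subscheme :=
    Groth.Agent.Lib.Helper10.RedInd.isReduced_subscheme_vanishingIdeal C'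
  set ι₀ := (Scheme.IdealSheafData.vanishingIdeal C').subschemeι with hι₀
  have hrange : Set.range ι₀.base = (C' : Set ↥(U₀ : Scheme.{u})) :=
    range_subschemeι_vanishingIdeal C'
  set i : (Scheme.IdealSheafData.vanishingIdeal C').subscheme ⟶ X := ι₀ ≫ U₀.ι with hi
  have hx₀C : x₀ ∈ (C' : Set ↥(U₀ : Scheme.{u})) := mem_irreducibleComponent
  obtain ⟨t₀, ht₀⟩ : x₀ ∈ Set.range ι₀.base := by rw [hrange]; exact hx₀C
  have hiU : ∀ t, i.base t ∈ U := fun t => hU₀U (ι₀.base t).2
  have hfd0 : ∀ t, FlatMor.fibreDimAt (i ≫ f) t ≤ 0 := by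
    intro t
    rw [fibreDimAt_eq_fibLD]
    have h3 : fibLD (i ≫ f).base t = _ :=
      fibLD_comp_isEmbedding f.base i.base i.isEmbedding t ⟨⟨t, rfl⟩, rfl⟩
    rw [h3]
    refine (localDim_mono_subset Set.inter_subset_right _ _).trans ?_
    have h4 := fibreDimAt_eq_of_equidim f 0 U h2 (i.base t) (hiU t)
    rw [fibreDimAt_eq_fibLD] at h4
    exact h4.le
  have hηξ : f.base (U₀.ι.base ξ₀) = genericPoint Y := by
    by_contra hne
    obtain ⟨b, hb1, hb2⟩ := exists_generization_of_equidim f U h1' (U₀.ι.base ξ₀) (hU₀U ξ₀.2) hne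
    have hbU₀ : b ∈ U₀ := hb1.mem_open U₀.2 ξ₀.2
    have h5 : (⟨b, hbU₀⟩ : ↥(U₀ : Scheme.{u})) ⤳ ξ₀ :=
      U₀.ι.isEmbedding.isInducing.specializes_iff.mp hb1
    have h6 := eq_of_specializes_generic ξ₀ ⟨b, hbU₀⟩
      (by rw [hξ₀cl]; exact irreducibleComponent_mem_irreducibleComponents x₀) h5
    apply hb2
    have : b = U₀.ι.base ξ₀ := congrArg (fun z => U₀.ι.base z) h6
    rw [this]
  haveI : CompactSpace ↥(U₀ : Scheme.{u}) := isCompact_iff_compactSpace.mp hU₀.isCompact
  haveI : CompactSpace ↥(Scheme.IdealSheafData.vanishingIdeal C').subscheme :=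
    QuasiCompact.compactSpace_of_compactSpace ι₀
  refine ⟨_, i, inferInstance, inferInstance, inferInstance, ?_, inferInstance,
    locallyQuasiFinite_of_fibreDimAt_le_zero (i ≫ f) hfd0, inferInstance, ?_⟩
  · refine ⟨t₀, ?_⟩
    rw [hi, Scheme.Hom.comp_apply, ht₀]
    rfl
  · refine ⟨?_⟩
    have hgen : (i ≫ f).base (genericPoint ↥(Scheme.IdealSheafData.vanishingIdeal C').subscheme) =
        genericPoint Y := by
      rw [hi, Category.assoc, Scheme.Hom.comp_apply, subschemeι_genericPoint C' ξ₀ hξ₀cl,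
        Scheme.Hom.comp_apply]
      exact hηξ
    rw [DenseRange, dense_iff_closure_eq]
    apply Set.eq_univ_of_univ_subset
    rw [← (genericPoint_spec Y).def]
    exact closure_mono (Set.singleton_subset_iff.mpr ⟨_, hgen⟩)

attribute [local instance] Curv2.resAlgebra in
omit [IrreducibleSpace Y] [IsLocallyNoetherian Y] in
theorem ptTrdeg_eq_zero_of_closed (x : X)
    (hcl : ∀ x' : X, f.base x' = f.base x → x ⤳ x' → x' = x) : ptTrdeg f x = 0 := by
  letI : (f.fiber (f.base x)).Over (Spec (CommRingCat.of (Y.residueField (f.base x)))) :=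
    ⟨f.fiberToSpecResidueField (f.base x)⟩
  haveI : LocallyOfFiniteType ((f.fiber (f.base x)) ↘
      Spec (CommRingCat.of (Y.residueField (f.base x)))) :=
    locallyOfFiniteType_fiberToSpecResidueField f _
  have hz : IsClosed ({f.asFiber x} : Set ↥(f.fiber (f.base x))) := by
    apply isClosed_of_closure_subset
    intro w hw
    have h1 : f.asFiber x ⤳ w := specializes_iff_mem_closure.mpr hw
    have h2 : f.fiberι (f.base x) (f.asFiber x) ⤳ f.fiberι (f.base x) w :=
      h1.map (f.fiberι (f.base x)).continuous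
    rw [f.fiberι_asFiber] at h2
    have h3 := hcl _ (base_fiberι f _ w) h2
    rw [Set.mem_singleton_iff]
    apply (f.fiberι (f.base x)).isEmbedding.injective
    rw [h3, f.fiberι_asFiber]
  have h4 := trdeg_eq_zero_of_isClosed (Y.residueField (f.base x)) (f.fiber (f.base x))
    (f.asFiber x) hz
  rw [trdeg_eq_trdegNat (Y.residueField (f.base x)) (f.fiber (f.base x)) (f.asFiber x)] at h4
  have h5 : trdegNat (Y.residueField (f.base x)) (f.fiber (f.base x)) (f.asFiber x) = 0 := by
    exact_mod_cast h4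
  exact h5

omit [IrreducibleSpace Y] [IsLocallyNoetherian Y] [LocallyOfFiniteType f] in
theorem fibreDimAt_subscheme' (X' : TopologicalSpace.Closeds X) (x : X) (hx : x ∈ X')
    (w : ↥(Scheme.IdealSheafData.vanishingIdeal X').subscheme)
    (hw : (Scheme.IdealSheafData.vanishingIdeal X').subschemeι.base w = x) :
    FlatMor.fibreDimAt ((Scheme.IdealSheafData.vanishingIdeal X').subschemeι ≫ f) w =
      FlatMor.localDim ↥((X' : Set X) ∩ f.base ⁻¹' {f.base x}) ⟨x, ⟨hx, rfl⟩⟩ := by
  subst hw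
  exact fibreDimAt_subscheme f X' w ⟨hx, rfl⟩

theorem withBotENat_add_one_cancel (D : WithBot ℕ∞) (n : ℕ)
    (h : D + 1 = ((n + 1 : ℕ) : WithBot ℕ∞)) : D = (n : WithBot ℕ∞) := by
  induction D using WithBot.recBotCoe with
  | bot =>
    rw [WithBot.bot_add] at h
    exact absurd h.symm (WithBot.natCast_ne_bot _)
  | coe D =>
    induction D using ENat.recTopCoe with
    | top =>
      exfalso
      have h1 : ((⊤ : ℕ∞) : WithBot ℕ∞) + 1 = (((⊤ : ℕ∞) + 1 : ℕ∞) : WithBot ℕ∞) := rfl
      rw [h1, top_add] at h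
      have h2 : ((⊤ : ℕ∞) : WithBot ℕ∞) = (((n + 1 : ℕ) : ℕ∞) : WithBot ℕ∞) := h
      exact ENat.natCast_ne_top (n + 1) (WithBot.coe_injective h2).symm
    | coe d =>
      have : d + 1 = n + 1 := by exact_mod_cast h
      have hd : d = n := by omega
      rw [hd]
      rfl

set_option maxHeartbeats 800000 in
/-- EGA IV 14.5.3: quasi-sections of equidimensional morphisms through points closed in their
fibre. -/
theorem hasQuasiSection_of_isEquidimAt : ∀ (n : ℕ) (X : Scheme.{u}) (f : X ⟶ Y)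
    [LocallyOfFiniteType f] (x : X), EGA43.IsEquidimAt f x →
    FlatMor.fibreDimAt f x = (n : WithBot ℕ∞) →
    (∀ x' : X, f.base x' = f.base x → x ⤳ x' → x' = x) → HasQuasiSection f x := by
  intro n
  induction n with
  | zero =>
    intro X f _ x hf h0 _
    exact hasQuasiSection_of_fibreDimAt_eq_zero f x hf (by simpa using h0)
  | succ n ih =>
    intro X f _ x hf hn hcl
    haveI : IsLocallyNoetherian X := LocallyOfFiniteType.isLocallyNoetherian f
    have hx : ∃ x' : X, f.base x' = f.base x ∧ x' ≠ x ∧ x ∈ closure ({x'} : Set X) := by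
      by_contra hcon
      push Not at hcon
      have hmax : ∀ y : X, f.base y = f.base x → y ⤳ x → y = x := fun y hy hsp => by
        by_contra hne
        exact hcon y hy hne (specializes_iff_mem_closure.mp hsp)
      have h3 := fibreDimAt_eq_ptTrdeg_of_maximal f x hmax
      rw [hn, ptTrdeg_eq_zero_of_closed f x hcl] at h3
      have : n + 1 = 0 := by exact_mod_cast h3
      omega
    obtain ⟨U₁, hU₁, hxU₁, g, hgx, hgmax⟩ := exists_section_avoiding_maximal f x hx
    set X' : TopologicalSpace.Closeds X :=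
      ⟨closure ((U₁ : Set X) \ (X.basicOpen g : Set X)), isClosed_closure⟩ with hX'
    have hxX' : x ∈ X' := subset_closure ⟨hxU₁, hgx⟩
    have hX'U : ∀ z ∈ (X' : Set X), z ∈ U₁ → z ∉ X.basicOpen g := by
      intro z hz _ hzg
      obtain ⟨a, ha1, ha2⟩ := mem_closure_iff.mp hz (X.basicOpen g) (X.basicOpen g).2 hzg
      exact ha2.2 ha1
    obtain ⟨h1, h2, -⟩ := isEquidimAt_subscheme_of_codim_one' f x hf X' hxX' U₁ hxU₁
      (fun ξ hξ hξU hmaxξ => ringKrullDim_stalk_le_one_of_maximal_notMem_basicOpen hU₁ g ξ hξU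
        (hX'U ξ hξ hξU) (fun y hyU hyg hsp => hmaxξ y (subset_closure ⟨hyU, hyg⟩) hsp))
      (fun z hz hzX' hzx => by
        have hzU : z ∈ U₁ := hzx.mem_open U₁.2 hxU₁
        have hzg := hX'U z hzX' hzU
        by_contra hcon
        push Not at hcon
        exact hzg (hgmax z hz (fun z' hz' hcl' =>
          hcon z' hz' (specializes_iff_mem_closure.mpr hcl')) hzU))
    have hxr : x ∈ Set.range (Scheme.IdealSheafData.vanishingIdeal X').subschemeι.base := by
      rw [range_subschemeι_vanishingIdeal]; exact hxX'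
    obtain ⟨w₀, hw₀⟩ := hxr
    have hE := h1 w₀ hw₀
    have hfd : FlatMor.fibreDimAt ((Scheme.IdealSheafData.vanishingIdeal X').subschemeι ≫ f) w₀ =
        (n : WithBot ℕ∞) := by
      rw [fibreDimAt_subscheme' f X' x hxX' w₀ hw₀]
      rw [hn] at h2
      exact withBotENat_add_one_cancel _ n h2
    have hcl' : ∀ w' : ↥(Scheme.IdealSheafData.vanishingIdeal X').subscheme,
        ((Scheme.IdealSheafData.vanishingIdeal X').subschemeι ≫ f).base w' =
          ((Scheme.IdealSheafData.vanishingIdeal X').subschemeι ≫ f).base w₀ →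
        w₀ ⤳ w' → w' = w₀ := by
      intro w' hw' hsp
      have h5 := hcl ((Scheme.IdealSheafData.vanishingIdeal X').subschemeι.base w')
        (by rw [← hw₀]; exact hw')
        (by rw [← hw₀]; exact hsp.map (Scheme.IdealSheafData.vanishingIdeal X').subschemeι.continuous)
      apply (Scheme.IdealSheafData.vanishingIdeal X').subschemeι.isEmbedding.injective
      rw [h5, hw₀]
    have h6 := ih _ ((Scheme.IdealSheafData.vanishingIdeal X').subschemeι ≫ f) w₀ hE hfd hcl'
    have h7 := HasQuasiSection.of_immersion (Scheme.IdealSheafData.vanishingIdeal X').subschemeι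
      f w₀ h6
    rwa [hw₀] at h7

theorem exists_quasiSection (x : X) (hf : EGA43.IsEquidimAt f x)
    (hcl : ∀ x' : X, f.base x' = f.base x → x ⤳ x' → x' = x) : HasQuasiSection f x := by
  obtain ⟨e, U, hxU, h1, h2⟩ := hf
  exact hasQuasiSection_of_isEquidimAt e X f x ⟨e, U, hxU, h1, h2⟩
    (fibreDimAt_eq_of_equidim f e U h2 x hxU) hcl

end QS

end Groth.Agent.Lib.Helper6.EquiSub
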