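import Mathlib
import Groth.Agent.Lib.Helper4DimFormulaAN
import Groth.Agent.Lib.Helper6EquiSubF
import Groth.Agent.Lib.Helper10RedInd

/-!
# Local rings of reduced closed subschemes and EGA IV 13.3.6-type criteria (helper4)

* `ringKrullDim_le_add_quotient_map_maximalIdeal`, `ringKrullDim_le_add_quotient_map_of_le_ker`:
  `dim S ≤ dim R/𝔮 + dim S/m_R S` for a local homomorphism `R → S` killing `𝔮`.
* `ringKrullDim_stalk_eq_of_stalkMap_surjective`: the local ring of a closed subscheme with domain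
  stalk has the dimension of the space of generizations inside the closure of its generic point.
-/

set_option autoImplicit false
set_option linter.style.haveILetI false

universe u

open AlgebraicGeometry CategoryTheory TopologicalSpace IsLocalRing

namespace Groth.Agent.Lib.Helper4.DimFormula

open Groth.Agent.Lib.Helper4.VarDim Groth.Agent.Lib.Helper4.FibDim

section Ring

theorem ringKrullDim_le_add_quotient_map_maximalIdeal {R S : Type*} [CommRing R] [CommRing S]
    [IsLocalRing R] [IsLocalRing S] [IsNoetherianRing R] [IsNoetherianRing S] (φ : R →+* S)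
    [hlocal : IsLocalHom φ] :
    ringKrullDim S ≤ ringKrullDim R + ringKrullDim (S ⧸ (maximalIdeal R).map φ) := by
  letI : Algebra R S := φ.toAlgebra
  have hcomap : (maximalIdeal S).comap φ = maximalIdeal R :=
    ((IsLocalRing.local_hom_TFAE φ).out 0 4).mp hlocal
  haveI : (maximalIdeal S).LiesOver (maximalIdeal R) := ⟨hcomap.symm⟩
  have h1 := Ideal.height_le_height_add_of_liesOver (maximalIdeal R) (maximalIdeal S)
  set I : Ideal S := (maximalIdeal R).map (algebraMap R S) with hI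
  have hIle : I ≤ maximalIdeal S := by
    rw [hI, Ideal.map_le_iff_le_comap]
    exact hcomap.ge
  have hne : I ≠ ⊤ := fun h => (maximalIdeal.isMaximal S).ne_top (top_le_iff.mp (h ▸ hIle))
  haveI : IsLocalRing (S ⧸ I) := Groth.Agent.Lib.Helper5.isLocalRing_quotient hne
  rw [← IsLocalRing.maximalIdeal_height_eq_ringKrullDim (R := S),
    ← IsLocalRing.maximalIdeal_height_eq_ringKrullDim (R := R)]
  have h2 : ringKrullDim (S ⧸ I) = ((maximalIdeal S).map (Ideal.Quotient.mk I)).height := by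
    rw [← IsLocalRing.maximalIdeal_height_eq_ringKrullDim (R := S ⧸ I),
      Groth.Agent.Lib.Helper5.maximalIdeal_quotient_eq_map]
  show ((maximalIdeal S).height : WithBot ℕ∞) ≤ (maximalIdeal R).height + ringKrullDim (S ⧸ I)
  rw [h2]
  exact_mod_cast h1

theorem ringKrullDim_le_add_quotient_map_of_le_ker {R S : Type*} [CommRing R] [CommRing S]
    [IsLocalRing R] [IsLocalRing S] [IsNoetherianRing R] [IsNoetherianRing S] (φ : R →+* S)
    [hlocal : IsLocalHom φ] (𝔮 : Ideal R) (h𝔮 : 𝔮 ≤ RingHom.ker φ) :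
    ringKrullDim S ≤ ringKrullDim (R ⧸ 𝔮) + ringKrullDim (S ⧸ (maximalIdeal R).map φ) := by
  have hne : 𝔮 ≠ ⊤ := by
    intro h
    have : (1 : R) ∈ RingHom.ker φ := h𝔮 (h ▸ Submodule.mem_top)
    rw [RingHom.mem_ker, map_one] at this
    exact one_ne_zero this
  haveI : IsLocalRing (R ⧸ 𝔮) := Groth.Agent.Lib.Helper5.isLocalRing_quotient hne
  have hH : ∀ a ∈ 𝔮, φ a = 0 := fun a ha => h𝔮 ha
  set φ' : R ⧸ 𝔮 →+* S := Ideal.Quotient.lift 𝔮 φ hH with hφ'
  have hcomp : φ'.comp (Ideal.Quotient.mk 𝔮) = φ := by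
    ext a
    exact Ideal.Quotient.lift_mk 𝔮 φ hH
  haveI : IsLocalHom φ' := by
    refine ⟨fun a ha => ?_⟩
    obtain ⟨r, rfl⟩ := Ideal.Quotient.mk_surjective a
    have h1 : IsUnit (φ r) := by
      have : φ' (Ideal.Quotient.mk 𝔮 r) = φ r := Ideal.Quotient.lift_mk 𝔮 φ hH
      rwa [this] at ha
    exact (isUnit_of_map_unit φ r h1).map _
  have hmap : (maximalIdeal (R ⧸ 𝔮)).map φ' = (maximalIdeal R).map φ := by
    rw [Groth.Agent.Lib.Helper5.maximalIdeal_quotient_eq_map, Ideal.map_map, hcomp]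
  have := ringKrullDim_le_add_quotient_map_maximalIdeal φ'
  rw [hmap] at this
  exact this

theorem exists_nat_ringKrullDim_eq (R : Type*) [CommRing R] [IsLocalRing R] [IsNoetherianRing R] :
    ∃ n : ℕ, ringKrullDim R = n := by
  rw [← IsLocalRing.maximalIdeal_height_eq_ringKrullDim]
  obtain ⟨n, hn⟩ := ENat.ne_top_iff_exists.mp
    (Ideal.height_ne_top_of_isPrime (I := maximalIdeal R))
  exact ⟨n, by rw [← hn]; rfl⟩

end Ring

section Sch

variable {X Y : Scheme.{u}}

theorem ringKrullDim_stalk_eq_of_stalkMap_surjective {W : Scheme.{u}} (j : W ⟶ Y) (v : W)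
    (hs : Function.Surjective (j.stalkMap v).hom) [IsDomain (W.presheaf.stalk v)] :
    ringKrullDim (W.presheaf.stalk v) =
      topologicalKrullDim ↥{t : Y | t ∈ closure {j.base (W.fromSpecStalk v ⟨⊥, Ideal.isPrime_bot⟩)} ∧
        t ⤳ j.base v} := by
  haveI : ((⊥ : Ideal (W.presheaf.stalk v)).comap (j.stalkMap v).hom).IsPrime :=
    Ideal.comap_isPrime _ _
  rw [topologicalKrullDim_setOf_mem_closure_specializes (j.base v)
    ((⊥ : Ideal (W.presheaf.stalk v)).comap (j.stalkMap v).hom) _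
    (by rw [fromSpecStalk_comap_stalkMap])]
  exact (ringKrullDim_eq_of_ringEquiv (RingHom.quotientKerEquivOfSurjective hs)).symm

/-- For a preimmersion `ι : Z ⟶ X`, the local ring of the fibre of `ι ≫ f` is a quotient of that of
the fibre of `f`. -/
theorem fibStalkDim_comp_le {Z : Scheme.{u}} (ι : Z ⟶ X) [IsPreimmersion ι] (f : X ⟶ Y) (w : Z) :
    fibStalkDim (ι ≫ f) w ≤ fibStalkDim f (ι.base w) := by
  unfold fibStalkDim
  have hs : Function.Surjective (ι.stalkMap w).hom := ι.stalkMap_surjective w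
  have hcomp : ((ι ≫ f).stalkMap w).hom = (ι.stalkMap w).hom.comp (f.stalkMap (ι.base w)).hom := by
    rw [Scheme.Hom.stalkMap_comp]
    rfl
  set I : Ideal (X.presheaf.stalk (ι.base w)) :=
    (maximalIdeal (Y.presheaf.stalk (f.base (ι.base w)))).map (f.stalkMap (ι.base w)).hom with hI
  have hmap : (maximalIdeal (Y.presheaf.stalk ((ι ≫ f).base w))).map ((ι ≫ f).stalkMap w).hom =
      I.map (ι.stalkMap w).hom := by
    exact (congrArg (fun φ => Ideal.map φ (maximalIdeal (Y.presheaf.stalk ((ι ≫ f).base w)))) hcomp).trans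
      (Ideal.map_map (f.stalkMap (ι.base w)).hom (ι.stalkMap w).hom).symm
  rw [hmap]
  refine ringKrullDim_le_of_surjective
    (Ideal.quotientMap (I.map (ι.stalkMap w).hom) (ι.stalkMap w).hom Ideal.le_comap_map) ?_
  exact Ideal.quotientMap_surjective hs

theorem bot_fromSpecStalk_maximal {Z : Scheme.{u}} (w : Z) [IsDomain (Z.presheaf.stalk w)] :
    ∀ z : Z, z ⤳ Z.fromSpecStalk w ⟨⊥, Ideal.isPrime_bot⟩ →
      z = Z.fromSpecStalk w ⟨⊥, Ideal.isPrime_bot⟩ := by
  haveI : (⊥ : Ideal (Z.presheaf.stalk w)).IsPrime := Ideal.isPrime_bot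
  refine (mem_minimalPrimes_iff_fromSpecStalk_maximal w (⊥ : Ideal (Z.presheaf.stalk w))).mp ?_
  rw [IsDomain.minimalPrimes_eq_singleton_bot]
  rfl

/-- For a closed immersion `ι : Z ⟶ X` with `Z` irreducible, the image of a maximal point has
closure the range of `ι`. -/
theorem closure_base_eq_range_of_maximal {Z : Scheme.{u}} [IrreducibleSpace Z] (ι : Z ⟶ X)
    [IsClosedImmersion ι] (ζ : Z) (hζ : ∀ z : Z, z ⤳ ζ → z = ζ) :
    closure ({ι.base ζ} : Set X) = Set.range ι.base := by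
  have h1 : genericPoint Z = ζ := hζ _ (genericPoint_specializes ζ)
  have h2 : closure ({ζ} : Set Z) = Set.univ := by
    rw [← h1]
    exact (genericPoint_spec Z).def
  have h3 := closure_image_closure (s := ({ζ} : Set Z)) ι.continuous
  rw [h2, Set.image_univ, Set.image_singleton] at h3
  rw [← h3]
  exact ι.isClosedEmbedding.isClosed_range.closure_eq

section P2

variable [IsLocallyNoetherian Y] {Z : Scheme.{u}} (g : Z ⟶ Y) [LocallyOfFiniteType g] (w : Z)
  [IsDomain (Z.presheaf.stalk w)]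

/-- `dim O_{Z,w} ≤ dim O_{Y',y} + dim O_{Z_y,w}` where `Y'` is the closure of the image of the
generic point. -/
theorem ringKrullDim_stalk_le_genDim_add_asFiber :
    ringKrullDim (Z.presheaf.stalk w) ≤
      topologicalKrullDim ↥{t : Y | t ∈ closure {g.base (Z.fromSpecStalk w ⟨⊥, Ideal.isPrime_bot⟩)} ∧
        t ⤳ g.base w} +
      ringKrullDim ((g.fiber (g.base w)).presheaf.stalk (g.asFiber w)) := by
  haveI : IsLocallyNoetherian Z := LocallyOfFiniteType.isLocallyNoetherian g
  haveI : ((⊥ : Ideal (Z.presheaf.stalk w)).comap (g.stalkMap w).hom).IsPrime :=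
    Ideal.comap_isPrime _ _
  rw [topologicalKrullDim_setOf_mem_closure_specializes (g.base w)
    ((⊥ : Ideal (Z.presheaf.stalk w)).comap (g.stalkMap w).hom) _
    (by rw [fromSpecStalk_comap_stalkMap]), ringKrullDim_stalk_asFiber]
  unfold fibStalkDim
  exact ringKrullDim_le_add_quotient_map_of_le_ker (g.stalkMap w).hom _
    (le_of_eq (RingHom.ker_eq_comap_bot _).symm).ge

theorem ringKrullDim_stalk_add_ptTrdeg_le_genDim_add :
    ringKrullDim (Z.presheaf.stalk w) + (ptTrdeg g w : WithBot ℕ∞) ≤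
      topologicalKrullDim ↥{t : Y | t ∈ closure {g.base (Z.fromSpecStalk w ⟨⊥, Ideal.isPrime_bot⟩)} ∧
        t ⤳ g.base w} +
      (ptTrdeg g (Z.fromSpecStalk w ⟨⊥, Ideal.isPrime_bot⟩) : WithBot ℕ∞) := by
  haveI : (⊥ : Ideal (Z.presheaf.stalk w)).IsPrime := Ideal.isPrime_bot
  haveI : ((⊥ : Ideal (Z.presheaf.stalk w)).comap (g.stalkMap w).hom).IsPrime :=
    Ideal.comap_isPrime _ _
  rw [topologicalKrullDim_setOf_mem_closure_specializes (g.base w)
    ((⊥ : Ideal (Z.presheaf.stalk w)).comap (g.stalkMap w).hom) _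
    (by rw [fromSpecStalk_comap_stalkMap])]
  have h := ringKrullDim_quotient_add_ptTrdeg_le g w (⊥ : Ideal (Z.presheaf.stalk w))
  rwa [ringKrullDim_eq_of_ringEquiv (RingEquiv.quotientBot (Z.presheaf.stalk w))] at h

end P2

section Main

attribute [local instance] Curv2.resAlgebra

/-- Numerical data for an integral closed subscheme `Z ↪ X` lying over the integral closed subscheme
`Y' ↪ Y` with generic point `η'` (EGA IV 13.3.6-type criteria). -/
theorem dim_subscheme_facts [IsLocallyNoetherian Y] (f : X ⟶ Y) [LocallyOfFiniteType f]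
    {Z Y' : Scheme.{u}} (ιX : Z ⟶ X) [IsClosedImmersion ιX] (ιY : Y' ⟶ Y) [IsClosedImmersion ιY]
    [IsIntegral Z] [IsIntegral Y'] (w : Z) (v : Y') (hv : ιY.base v = f.base (ιX.base w)) (η' : Y)
    (hη' : closure ({η'} : Set Y) = closure (f.base '' Set.range ιX.base))
    (hrange : Set.range ιY.base = closure (f.base '' Set.range ιX.base)) :
    ∃ a a' k k' b' tw tζ : ℕ,
      ringKrullDim (Y.presheaf.stalk (f.base (ιX.base w))) = a ∧
      ringKrullDim (Y'.presheaf.stalk v) = a' ∧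
      ringKrullDim ((f.fiber (f.base (ιX.base w))).presheaf.stalk (f.asFiber (ιX.base w))) = k ∧
      ringKrullDim (((ιX ≫ f).fiber ((ιX ≫ f).base w)).presheaf.stalk ((ιX ≫ f).asFiber w)) = k' ∧
      ringKrullDim (Z.presheaf.stalk w) = b' ∧
      FlatMor.fibreDimAt (ιX ≫ f) w = ((k' + tw : ℕ) : WithBot ℕ∞) ∧
      FlatMor.fibreDimAt f (ιX.base w) = ((k + tw : ℕ) : WithBot ℕ∞) ∧
      topologicalKrullDim ↥(Set.range ιX.base ∩ f.base ⁻¹' {η'}) = tζ ∧
      a' ≤ a ∧ k' ≤ k ∧ b' ≤ a' + k' ∧ b' + tw ≤ a' + tζ ∧ tζ ≤ k' + tw := by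
  haveI : IsLocallyNoetherian X := LocallyOfFiniteType.isLocallyNoetherian f
  haveI : IsLocallyNoetherian Z := LocallyOfFiniteType.isLocallyNoetherian ιX
  haveI : IsLocallyNoetherian Y' := LocallyOfFiniteType.isLocallyNoetherian ιY
  obtain ⟨g, hg⟩ : ∃ g : Z ⟶ Y, g = ιX ≫ f := ⟨_, rfl⟩
  haveI : LocallyOfFiniteType g := by rw [hg]; infer_instance
  obtain ⟨a, ha⟩ := exists_nat_ringKrullDim_eq (Y.presheaf.stalk (f.base (ιX.base w)))
  obtain ⟨a', ha'⟩ := exists_nat_ringKrullDim_eq (Y'.presheaf.stalk v)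
  obtain ⟨k, hk⟩ := exists_ringKrullDim_stalk_asFiber_eq_nat f (ιX.base w)
  obtain ⟨k', hk'⟩ := exists_ringKrullDim_stalk_asFiber_eq_nat (ιX ≫ f) w
  obtain ⟨b', hb'⟩ := exists_nat_ringKrullDim_eq (Z.presheaf.stalk w)
  obtain ⟨ζ, hζdef⟩ : ∃ ζ : Z, ζ = Z.fromSpecStalk w ⟨⊥, Ideal.isPrime_bot⟩ := ⟨_, rfl⟩
  have hζmax : ∀ z : Z, z ⤳ ζ → z = ζ := by rw [hζdef]; exact bot_fromSpecStalk_maximal w
  have hζw : ζ ⤳ w := by rw [hζdef]; exact fromSpecStalk_specializes w _
  have hζcl : closure {ιX.base ζ} = Set.range ιX.base :=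
    closure_base_eq_range_of_maximal ιX ζ hζmax
  have hgζ : f.base (ιX.base ζ) = η' := by
    have : closure ({f.base (ιX.base ζ)} : Set Y) = closure {η'} := by
      rw [hη', ← hζcl, closure_image_closure f.continuous, Set.image_singleton]
    exact (inseparable_iff_closure_eq.mpr this).eq
  obtain ⟨ζY, hζYdef⟩ : ∃ ζY : Y', ζY = Y'.fromSpecStalk v ⟨⊥, Ideal.isPrime_bot⟩ := ⟨_, rfl⟩
  have hζY : ιY.base ζY = η' := by
    have h1 := closure_base_eq_range_of_maximal ιY ζY
      (by rw [hζYdef]; exact bot_fromSpecStalk_maximal v)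
    rw [hrange, ← hη'] at h1
    exact (inseparable_iff_closure_eq.mpr h1).eq
  -- the dimension `D` of the generizations of `y` in `closure {η'}`
  have hD : ringKrullDim (Y'.presheaf.stalk v) =
      topologicalKrullDim ↥{t : Y | t ∈ closure {η'} ∧ t ⤳ f.base (ιX.base w)} := by
    have := ringKrullDim_stalk_eq_of_stalkMap_surjective ιY v (ιY.stalkMap_surjective v)
    rw [← hζYdef, hζY, hv] at this
    exact this
  have hη'y : η' ⤳ f.base (ιX.base w) := by
    rw [specializes_iff_mem_closure, hη']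
    exact subset_closure ⟨ιX.base w, ⟨w, rfl⟩, rfl⟩
  obtain ⟨𝔮, h𝔮, h𝔮η⟩ := exists_prime_fromSpecStalk_eq hη'y
  have hDq := topologicalKrullDim_setOf_mem_closure_specializes (f.base (ιX.base w)) 𝔮
    (closure {η'}) (by rw [h𝔮η])
  have i1 : (a' : WithBot ℕ∞) ≤ a := by
    rw [← ha', ← ha, hD, hDq]
    exact ringKrullDim_quotient_le _
  have i2 : (k' : WithBot ℕ∞) ≤ k := by
    rw [← hk', ← hk, ringKrullDim_stalk_asFiber, ringKrullDim_stalk_asFiber]
    exact fibStalkDim_comp_le ιX f w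
  have i3 := ringKrullDim_stalk_le_genDim_add_asFiber (ιX ≫ f) w
  have i4 := ringKrullDim_stalk_add_ptTrdeg_le_genDim_add (ιX ≫ f) w
  rw [← hζdef] at i3 i4
  have hgζ' : (ιX ≫ f).base ζ = η' := hgζ
  rw [hgζ'] at i3 i4
  have hD' : topologicalKrullDim ↥{t : Y | t ∈ closure {η'} ∧ t ⤳ (ιX ≫ f).base w} = (a' : WithBot ℕ∞) := by
    rw [← ha', hD]
    rfl
  rw [hD', hk', hb'] at i3
  rw [hD', hb'] at i4
  have i5 : (ptTrdeg (ιX ≫ f) ζ : WithBot ℕ∞) ≤ k' + (ptTrdeg (ιX ≫ f) w : WithBot ℕ∞) := by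
    have h1 := ptTrdeg_le_fibreDimAt (ιX ≫ f) ζ
    have h2 := fibreDimAt_le_of_specializes (ιX ≫ f) ζ w hζw
    rw [fibreDimAt_eq_stalk_add_ptTrdeg (ιX ≫ f) w, hk'] at h2
    exact h1.trans h2
  have he' : topologicalKrullDim ↥(Set.range ιX.base ∩ f.base ⁻¹' {η'}) =
      (ptTrdeg (ιX ≫ f) ζ : WithBot ℕ∞) := by
    rw [← hζcl, ← hgζ, ptTrdeg_comp_of_isPreimmersion ιX f ζ]
    exact Groth.Agent.Lib.Helper6.OpenDim.topologicalKrullDim_closure_inter_fibre f (ιX.base ζ)
  have hfg : FlatMor.fibreDimAt (ιX ≫ f) w = ((k' + ptTrdeg (ιX ≫ f) w : ℕ) : WithBot ℕ∞) := by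
    rw [fibreDimAt_eq_stalk_add_ptTrdeg (ιX ≫ f) w, hk']
    push_cast
    rfl
  have hff : FlatMor.fibreDimAt f (ιX.base w) = ((k + ptTrdeg (ιX ≫ f) w : ℕ) : WithBot ℕ∞) := by
    rw [fibreDimAt_eq_stalk_add_ptTrdeg f (ιX.base w), hk, ptTrdeg_comp_of_isPreimmersion ιX f w]
    push_cast
    rfl
  refine ⟨a, a', k, k', b', ptTrdeg (ιX ≫ f) w, ptTrdeg (ιX ≫ f) ζ, ha, ha', hk, hk', hb', hfg, hff,
    he', ?_, ?_, ?_, ?_, ?_⟩
  · exact_mod_cast i1
  · exact_mod_cast i2
  · exact_mod_cast i3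
  · exact_mod_cast i4
  · exact_mod_cast i5

end Main

section Inst

open Groth.Agent.Lib.Helper6.EquiSub

/-- The data of `dim_subscheme_facts` for the reduced induced structures on an irreducible closed
`X'` and on the closure of its image. -/
theorem dim_subscheme_facts_vanishingIdeal [IsLocallyNoetherian Y] (f : X ⟶ Y)
    [LocallyOfFiniteType f] (X' : TopologicalSpace.Closeds X) (hirr : IsIrreducible (X' : Set X))
    (w : ↥(Scheme.IdealSheafData.vanishingIdeal X').subscheme)
    (v : ↥(Scheme.IdealSheafData.vanishingIdeal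
      (⟨closure (f.base '' (X' : Set X)), isClosed_closure⟩ : TopologicalSpace.Closeds Y)).subscheme)
    (hv : (Scheme.IdealSheafData.vanishingIdeal
      (⟨closure (f.base '' (X' : Set X)), isClosed_closure⟩ : TopologicalSpace.Closeds Y)).subschemeι.base v =
        f.base ((Scheme.IdealSheafData.vanishingIdeal X').subschemeι.base w))
    (η' : Y) (hη' : closure ({η'} : Set Y) = closure (f.base '' (X' : Set X))) :
    ∃ a a' k k' b' tw tζ : ℕ,
      ringKrullDim (Y.presheaf.stalk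
        (f.base ((Scheme.IdealSheafData.vanishingIdeal X').subschemeι.base w))) = a ∧
      ringKrullDim ((Scheme.IdealSheafData.vanishingIdeal
        (⟨closure (f.base '' (X' : Set X)), isClosed_closure⟩ :
          TopologicalSpace.Closeds Y)).subscheme.presheaf.stalk v) = a' ∧
      ringKrullDim ((f.fiber (f.base ((Scheme.IdealSheafData.vanishingIdeal X').subschemeι.base w))).presheaf.stalk
        (f.asFiber ((Scheme.IdealSheafData.vanishingIdeal X').subschemeι.base w))) = k ∧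
      ringKrullDim ((((Scheme.IdealSheafData.vanishingIdeal X').subschemeι ≫ f).fiber
        (((Scheme.IdealSheafData.vanishingIdeal X').subschemeι ≫ f).base w)).presheaf.stalk
        (((Scheme.IdealSheafData.vanishingIdeal X').subschemeι ≫ f).asFiber w)) = k' ∧
      ringKrullDim ((Scheme.IdealSheafData.vanishingIdeal X').subscheme.presheaf.stalk w) = b' ∧
      FlatMor.fibreDimAt ((Scheme.IdealSheafData.vanishingIdeal X').subschemeι ≫ f) w =
        ((k' + tw : ℕ) : WithBot ℕ∞) ∧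
      FlatMor.fibreDimAt f ((Scheme.IdealSheafData.vanishingIdeal X').subschemeι.base w) =
        ((k + tw : ℕ) : WithBot ℕ∞) ∧
      topologicalKrullDim ↥((X' : Set X) ∩ f.base ⁻¹' {η'}) = tζ ∧
      a' ≤ a ∧ k' ≤ k ∧ b' ≤ a' + k' ∧ b' + tw ≤ a' + tζ ∧ tζ ≤ k' + tw := by
  obtain ⟨ξ', hξ'⟩ := QuasiSober.sober hirr X'.isClosed
  have hξ'cl : closure ({ξ'} : Set X) = (X' : Set X) := hξ'.def
  haveI : IrreducibleSpace ↥(Scheme.IdealSheafData.vanishingIdeal X').subscheme :=
    irreducibleSpace_subscheme X' ξ' hξ'cl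
  haveI : IsReduced (Scheme.IdealSheafData.vanishingIdeal X').subscheme :=
    Groth.Agent.Lib.Helper10.RedInd.isReduced_subscheme_vanishingIdeal X'
  haveI : IsIntegral (Scheme.IdealSheafData.vanishingIdeal X').subscheme :=
    isIntegral_of_irreducibleSpace_of_isReduced _
  haveI : IrreducibleSpace ↥(Scheme.IdealSheafData.vanishingIdeal
      (⟨closure (f.base '' (X' : Set X)), isClosed_closure⟩ : TopologicalSpace.Closeds Y)).subscheme :=
    irreducibleSpace_subscheme _ η' hη'
  haveI : IsReduced (Scheme.IdealSheafData.vanishingIdeal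
      (⟨closure (f.base '' (X' : Set X)), isClosed_closure⟩ : TopologicalSpace.Closeds Y)).subscheme :=
    Groth.Agent.Lib.Helper10.RedInd.isReduced_subscheme_vanishingIdeal _
  haveI : IsIntegral (Scheme.IdealSheafData.vanishingIdeal
      (⟨closure (f.base '' (X' : Set X)), isClosed_closure⟩ : TopologicalSpace.Closeds Y)).subscheme :=
    isIntegral_of_irreducibleSpace_of_isReduced _
  have hrX : Set.range (Scheme.IdealSheafData.vanishingIdeal X').subschemeι.base = (X' : Set X) :=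
    range_subschemeι_vanishingIdeal X'
  have hrY : Set.range (Scheme.IdealSheafData.vanishingIdeal
      (⟨closure (f.base '' (X' : Set X)), isClosed_closure⟩ : TopologicalSpace.Closeds Y)).subschemeι.base =
      closure (f.base '' (X' : Set X)) := range_subschemeι_vanishingIdeal _
  have := dim_subscheme_facts f (Scheme.IdealSheafData.vanishingIdeal X').subschemeι
    (Scheme.IdealSheafData.vanishingIdeal
      (⟨closure (f.base '' (X' : Set X)), isClosed_closure⟩ : TopologicalSpace.Closeds Y)).subschemeι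
    w v hv η' (by rw [hrX]; exact hη') (by rw [hrX]; exact hrY)
  rw [hrX] at this
  exact this

end Inst

end Sch

end Groth.Agent.Lib.Helper4.DimFormula
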