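import Mathlib
import Groth.Agent.Lib.Helper4DimFormulaAO

/-!
# Connected components of fibres along a section (helper4)

* `exists_generic_of_maximal_irreducible_subset_fibre`: a maximal irreducible subset of a fibre
  `f⁻¹(t)` is `closure {ζ} ∩ f⁻¹(t)` for a point `ζ` of the fibre, of dimension `trdeg κ(ζ)/κ(t)`.
* `fibreDimAt_le_dim_connectedComponentIn`, `exists_maximal_ptTrdeg_eq_fibreDimAt`,
  `exists_point_closure_inter_fibre`, `sectionComponent_main` (EGA IV 15.6.x (i), (ii)).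
-/

set_option autoImplicit false
set_option linter.style.haveILetI false

universe u

open AlgebraicGeometry CategoryTheory TopologicalSpace IsLocalRing

namespace Groth.Agent.Lib.Helper4.DimFormula

open Groth.Agent.Lib.Helper4.VarDim Groth.Agent.Lib.Helper4.FibDim

section Top

variable {α : Type*} [TopologicalSpace α]

theorem isIrreducible_of_subset_closure {s t : Set α} (hs : IsIrreducible s) (h1 : s ⊆ t)
    (h2 : t ⊆ closure s) : IsIrreducible t := by
  have : closure t = closure s :=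
    le_antisymm (closure_minimal h2 isClosed_closure) (closure_mono h1)
  rw [← isIrreducible_iff_closure, this]
  exact hs.closure

theorem topologicalKrullDim_mono_subset {s t : Set α} (h : s ⊆ t) :
    topologicalKrullDim ↥s ≤ topologicalKrullDim ↥t :=
  (Topology.IsEmbedding.inclusion h).isInducing.topologicalKrullDim_le

theorem le_of_forall_natCast_le {a D : WithBot ℕ∞} (h0 : 0 ≤ D)
    (h : ∀ N : ℕ, D ≤ N → a ≤ N) : a ≤ D := by
  induction D using WithBot.recBotCoe with
  | bot => exact absurd h0 (by simp)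
  | coe D =>
    induction D using ENat.recTopCoe with
    | top => exact le_top
    | coe n => exact h n le_rfl

end Top

section Sch

attribute [local instance] Curv2.resAlgebra

variable {X Y : Scheme.{u}} (f : X ⟶ Y) [LocallyOfFiniteType f]

omit [LocallyOfFiniteType f] in
theorem isIrreducible_closure_inter_fibre (ζ : X) (t : Y) (hζ : f.base ζ = t) :
    IsIrreducible (closure ({ζ} : Set X) ∩ f.base ⁻¹' {t}) :=
  isIrreducible_of_subset_closure isIrreducible_singleton
    (Set.singleton_subset_iff.mpr ⟨subset_closure rfl, hζ⟩) Set.inter_subset_left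

theorem exists_generic_of_maximal_irreducible_subset_fibre (t : Y) (Z : Set X)
    (hZt : Z ⊆ f.base ⁻¹' {t}) (hZ : IsIrreducible Z)
    (hmax : ∀ Z' : Set X, IsIrreducible Z' → Z' ⊆ f.base ⁻¹' {t} → Z ⊆ Z' → Z' = Z) :
    ∃ ζ : X, f.base ζ = t ∧ Z = closure {ζ} ∩ f.base ⁻¹' {t} ∧
      topologicalKrullDim ↥Z = (ptTrdeg f ζ : WithBot ℕ∞) := by
  obtain ⟨ζ, hζ⟩ := QuasiSober.sober hZ.closure isClosed_closure
  have hζcl : closure ({ζ} : Set X) = closure Z := hζ.def
  obtain ⟨z, hz⟩ := hZ.nonempty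
  have hfz : f.base z = t := hZt hz
  have h1 : ζ ⤳ z := by
    rw [specializes_iff_mem_closure, hζcl]
    exact subset_closure hz
  have h2 : t ⤳ f.base ζ := by
    rw [specializes_iff_mem_closure]
    have : ζ ∈ closure Z := by rw [← hζcl]; exact subset_closure rfl
    exact f.continuous.closure_preimage_subset _ (closure_mono hZt this)
  have hfζ : f.base ζ = t := by
    have h3 : f.base ζ ⤳ t := hfz ▸ h1.map f.continuous
    exact (h3.antisymm h2).eq
  have hZ' := isIrreducible_closure_inter_fibre f ζ t hfζ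
  have hsub : Z ⊆ closure {ζ} ∩ f.base ⁻¹' {t} := fun a ha =>
    ⟨by rw [hζcl]; exact subset_closure ha, hZt ha⟩
  have heq := hmax _ hZ' Set.inter_subset_right hsub
  refine ⟨ζ, hfζ, heq.symm, ?_⟩
  rw [← heq, ← hfζ]
  exact Groth.Agent.Lib.Helper6.OpenDim.topologicalKrullDim_closure_inter_fibre f ζ

theorem fibreDimAt_le_dim_connectedComponentIn (x : X) (y : Y) (hxy : f.base x = y) :
    FlatMor.fibreDimAt f x ≤ topologicalKrullDim ↥(connectedComponentIn (f.base ⁻¹' {y}) x) := by
  subst hxy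
  have hxF : x ∈ f.base ⁻¹' {f.base x} := rfl
  have hne : Nonempty ↥(connectedComponentIn (f.base ⁻¹' {f.base x}) x) :=
    ⟨⟨x, mem_connectedComponentIn hxF⟩⟩
  refine le_of_forall_natCast_le ?_ ?_
  · exact Groth.Agent.Lib.Helper7.TopDim.topologicalKrullDim_nonneg
  · intro N hN
    refine fibreDimAt_le_of_forall_maximal f x N ?_
    intro w' hw' hsp _
    have hT := isIrreducible_closure_inter_fibre f w' (f.base x) hw'
    have hTC : closure ({w'} : Set X) ∩ f.base ⁻¹' {f.base x} ⊆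
        connectedComponentIn (f.base ⁻¹' {f.base x}) x :=
      hT.isPreirreducible.isPreconnected.subset_connectedComponentIn
        ⟨hsp.mem_closure, rfl⟩ Set.inter_subset_right
    have h1 := topologicalKrullDim_mono_subset hTC
    have h2 := Groth.Agent.Lib.Helper6.OpenDim.topologicalKrullDim_closure_inter_fibre f w'
    rw [hw'] at h2
    rw [h2] at h1
    exact_mod_cast h1.trans hN

theorem exists_ptTrdeg_eq_fibreDimAt {W : Scheme.{u}} (g : W ⟶ Y) [LocallyOfFiniteType g] (w : W) :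
    ∃ w' : W, g.base w' = g.base w ∧ w' ⤳ w ∧
      FlatMor.fibreDimAt g w = (ptTrdeg g w' : WithBot ℕ∞) := by
  obtain ⟨b, hb⟩ := exists_ringKrullDim_stalk_asFiber_eq_nat g w
  have hn : FlatMor.fibreDimAt g w = ((b + ptTrdeg g w : ℕ) : WithBot ℕ∞) := by
    rw [fibreDimAt_eq_stalk_add_ptTrdeg g w, hb]
    push_cast
    rfl
  by_contra hcon
  push Not at hcon
  have hle : ∀ w' : W, g.base w' = g.base w → w' ⤳ w → ptTrdeg g w' + 1 ≤ b + ptTrdeg g w := by
    intro w' hw' hsp
    have h1 := (ptTrdeg_le_fibreDimAt g w').trans (fibreDimAt_le_of_specializes g w' w hsp)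
    have h2 := hcon w' hw' hsp
    rw [hn] at h1 h2
    have h1' : ptTrdeg g w' ≤ b + ptTrdeg g w := by exact_mod_cast h1
    have h2' : b + ptTrdeg g w ≠ ptTrdeg g w' := by
      intro h
      apply h2
      rw [h]
    omega
  have hpos := hle w rfl specializes_rfl
  have h3 := fibreDimAt_le_of_forall_maximal g w (b + ptTrdeg g w - 1) (by
    intro w' hw' hsp _
    have := hle w' hw' hsp
    omega)
  rw [hn] at h3
  have h3' : b + ptTrdeg g w ≤ b + ptTrdeg g w - 1 := by exact_mod_cast h3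
  omega

theorem exists_point_closure_inter_fibre (ξ x : X) (h : ξ ⤳ x) :
    ∃ ζ₂ : X, ξ ⤳ ζ₂ ∧ ζ₂ ⤳ x ∧ f.base ζ₂ = f.base x ∧
      FlatMor.localDim ↥(closure {ξ} ∩ f.base ⁻¹' {f.base x}) ⟨x, h.mem_closure, rfl⟩ =
        (ptTrdeg f ζ₂ : WithBot ℕ∞) := by
  obtain ⟨Z, ι, hι, hrange⟩ := exists_isClosedImmersion_range_eq X (closure {ξ}) isClosed_closure
  have hx : x ∈ Set.range ι.base := by rw [hrange]; exact h.mem_closure
  obtain ⟨tx, rfl⟩ := hx
  have hL : FlatMor.localDim ↥(closure {ξ} ∩ f.base ⁻¹' {f.base (ι.base tx)})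
      ⟨ι.base tx, h.mem_closure, rfl⟩ = FlatMor.fibreDimAt (ι ≫ f) tx := by
    rw [fibreDimAt_eq_fibLD (ι ≫ f) tx]
    have h1 := fibLD_comp_isEmbedding f ι ι.isEmbedding tx
    refine Eq.trans ?_ h1.symm
    have hset : closure {ξ} ∩ f.base ⁻¹' {f.base (ι.base tx)} =
        Set.range ι.base ∩ f.base ⁻¹' {f.base (ι.base tx)} := by rw [hrange]
    exact localDim_congr_set hset (ι.base tx) ⟨h.mem_closure, rfl⟩
  obtain ⟨w', hw', hsp, hfd⟩ := exists_ptTrdeg_eq_fibreDimAt (ι ≫ f) tx
  refine ⟨ι.base w', ?_, hsp.map ι.continuous, hw', ?_⟩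
  · rw [specializes_iff_mem_closure, ← hrange]
    exact ⟨w', rfl⟩
  · rw [hL, hfd, ptTrdeg_comp_of_isPreimmersion ι f w']

omit [LocallyOfFiniteType f] in
theorem base_section_apply (g : Y ⟶ X) (hg : g ≫ f = 𝟙 Y) (t : Y) : f.base (g.base t) = t := by
  have := congrArg (fun h : Y ⟶ Y => h.base t) hg
  simpa using this

/-- EGA IV 15.6.x (i), (ii) for the connected components of the fibres along a section. -/
theorem sectionComponent_main (g : Y ⟶ X) (hg : g ≫ f = 𝟙 Y) (y y' : Y) (hy : y' ⤳ y)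
    (hZ : ∃ Z : Set X, Z ⊆ f.base ⁻¹' {y'} ∧ IsIrreducible Z ∧
      (∀ Z' : Set X, IsIrreducible Z' → Z' ⊆ f.base ⁻¹' {y'} → Z ⊆ Z' → Z' = Z) ∧ g.base y' ∈ Z ∧
      topologicalKrullDim ↥Z =
        topologicalKrullDim ↥(connectedComponentIn (f.base ⁻¹' {y'}) (g.base y'))) :
    topologicalKrullDim ↥(connectedComponentIn (f.base ⁻¹' {y'}) (g.base y')) ≤
        topologicalKrullDim ↥(connectedComponentIn (f.base ⁻¹' {y}) (g.base y)) ∧
      (IsIrreducible (connectedComponentIn (f.base ⁻¹' {y}) (g.base y)) →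
        topologicalKrullDim ↥(connectedComponentIn (f.base ⁻¹' {y}) (g.base y)) =
          topologicalKrullDim ↥(connectedComponentIn (f.base ⁻¹' {y'}) (g.base y')) →
        connectedComponentIn (f.base ⁻¹' {y}) (g.base y) ⊆
          closure (connectedComponentIn (f.base ⁻¹' {y'}) (g.base y'))) := by
  have hfg : ∀ t : Y, f.base (g.base t) = t := base_section_apply f g hg
  obtain ⟨Z, hZsub, hZirr, hZmax, hgZ, hZdim⟩ := hZ
  obtain ⟨ζ, hfζ, hZeq, hZpt⟩ :=
    exists_generic_of_maximal_irreducible_subset_fibre f y' Z hZsub hZirr hZmax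
  have hζgy' : ζ ⤳ g.base y' := by
    rw [specializes_iff_mem_closure]
    rw [hZeq] at hgZ
    exact hgZ.1
  have hgyy : g.base y' ⤳ g.base y := hy.map g.continuous
  have hζgy : ζ ⤳ g.base y := hζgy'.trans hgyy
  have hZC : Z ⊆ connectedComponentIn (f.base ⁻¹' {y'}) (g.base y') :=
    hZirr.isPreirreducible.isPreconnected.subset_connectedComponentIn hgZ hZsub
  have h1 : (ptTrdeg f ζ : WithBot ℕ∞) ≤ FlatMor.fibreDimAt f (g.base y) :=
    (ptTrdeg_le_fibreDimAt f ζ).trans (fibreDimAt_le_of_specializes f ζ (g.base y) hζgy)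
  have h2 := fibreDimAt_le_dim_connectedComponentIn f (g.base y) y (hfg y)
  refine ⟨by rw [← hZdim, hZpt]; exact h1.trans h2, ?_⟩
  intro hCirr hdimeq
  have hgyF : g.base y ∈ f.base ⁻¹' {y} := hfg y
  have hCmax : ∀ Z' : Set X, IsIrreducible Z' → Z' ⊆ f.base ⁻¹' {y} →
      connectedComponentIn (f.base ⁻¹' {y}) (g.base y) ⊆ Z' →
      Z' = connectedComponentIn (f.base ⁻¹' {y}) (g.base y) := by
    intro Z' hZ' hZ'F hCZ'
    exact le_antisymm (hZ'.isPreirreducible.isPreconnected.subset_connectedComponentIn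
      (hCZ' (mem_connectedComponentIn hgyF)) hZ'F) hCZ'
  obtain ⟨c, hfc, hCeq, hCpt⟩ := exists_generic_of_maximal_irreducible_subset_fibre f y
    (connectedComponentIn (f.base ⁻¹' {y}) (g.base y)) (connectedComponentIn_subset _ _) hCirr hCmax
  obtain ⟨ζ₂, hζζ₂, hζ₂gy, hfζ₂, hL⟩ := exists_point_closure_inter_fibre f ζ (g.base y) hζgy
  have hLge := (localDim_closure_inter_fibre_bounds f ζ (g.base y) hζgy).1 ζ specializes_rfl hζgy
  rw [hL] at hLge
  have hfζ₂' : f.base ζ₂ = y := hfζ₂.trans (hfg y)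
  -- `ζ₂ ∈ C_y`
  have hT := isIrreducible_closure_inter_fibre f ζ₂ y hfζ₂'
  have hTC : closure ({ζ₂} : Set X) ∩ f.base ⁻¹' {y} ⊆
      connectedComponentIn (f.base ⁻¹' {y}) (g.base y) :=
    hT.isPreirreducible.isPreconnected.subset_connectedComponentIn
      ⟨hζ₂gy.mem_closure, hgyF⟩ Set.inter_subset_right
  have hζ₂C : ζ₂ ∈ connectedComponentIn (f.base ⁻¹' {y}) (g.base y) :=
    hTC ⟨subset_closure rfl, hfζ₂'⟩
  have hcζ₂ : c ⤳ ζ₂ := by
    rw [specializes_iff_mem_closure]
    rw [hCeq] at hζ₂C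
    exact hζ₂C.1
  have hceq : c = ζ₂ := by
    by_contra hne
    have h3 := Groth.Agent.Lib.Helper6.EquiSub.ptTrdeg_lt_of_specializes f c ζ₂
      (hfc.trans hfζ₂'.symm) hcζ₂ hne
    have h4 : (ptTrdeg f c : WithBot ℕ∞) = ptTrdeg f ζ := by
      rw [← hCpt, hdimeq, ← hZdim, hZpt]
    have h4' : ptTrdeg f c = ptTrdeg f ζ := by exact_mod_cast h4
    have h5 : ptTrdeg f ζ ≤ ptTrdeg f ζ₂ := by exact_mod_cast hLge
    omega
  have hζc : ζ ⤳ c := hceq ▸ hζζ₂
  have hζZ : ζ ∈ Z := by
    rw [hZeq]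
    exact ⟨subset_closure rfl, hfζ⟩
  intro a ha
  rw [hCeq] at ha
  have h6 : a ∈ closure ({ζ} : Set X) :=
    (specializes_iff_closure_subset.mp hζc) ha.1
  exact closure_mono (Set.singleton_subset_iff.mpr (hZC hζZ)) h6

theorem dim_sectionComponent_eq_fibreDimAt (g : Y ⟶ X) (hg : g ≫ f = 𝟙 Y) (y : Y)
    (hCirr : IsIrreducible (connectedComponentIn (f.base ⁻¹' {y}) (g.base y))) :
    topologicalKrullDim ↥(connectedComponentIn (f.base ⁻¹' {y}) (g.base y)) =
      FlatMor.fibreDimAt f (g.base y) := by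
  have hfg : ∀ t : Y, f.base (g.base t) = t := base_section_apply f g hg
  have hgyF : g.base y ∈ f.base ⁻¹' {y} := hfg y
  apply le_antisymm
  · have hCmax : ∀ Z' : Set X, IsIrreducible Z' → Z' ⊆ f.base ⁻¹' {y} →
        connectedComponentIn (f.base ⁻¹' {y}) (g.base y) ⊆ Z' →
        Z' = connectedComponentIn (f.base ⁻¹' {y}) (g.base y) := by
      intro Z' hZ' hZ'F hCZ'
      exact le_antisymm (hZ'.isPreirreducible.isPreconnected.subset_connectedComponentIn
        (hCZ' (mem_connectedComponentIn hgyF)) hZ'F) hCZ'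
    obtain ⟨c, hfc, hCeq, hCpt⟩ := exists_generic_of_maximal_irreducible_subset_fibre f y
      (connectedComponentIn (f.base ⁻¹' {y}) (g.base y)) (connectedComponentIn_subset _ _) hCirr hCmax
    have hcgy : c ⤳ g.base y := by
      rw [specializes_iff_mem_closure]
      have := mem_connectedComponentIn hgyF
      rw [hCeq] at this
      exact this.1
    rw [hCpt]
    exact (ptTrdeg_le_fibreDimAt f c).trans (fibreDimAt_le_of_specializes f c (g.base y) hcgy)
  · exact fibreDimAt_le_dim_connectedComponentIn f (g.base y) y (hfg y)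

/-- EGA IV 15.6.x: upper semicontinuity of `y ↦ dim X⁰_y` when all `X⁰_y` are irreducible. -/
theorem upperSemicontinuous_dim_sectionComponent (g : Y ⟶ X) (hg : g ≫ f = 𝟙 Y)
    (hirr : ∀ y : Y, IsIrreducible (connectedComponentIn (f.base ⁻¹' {y}) (g.base y))) :
    UpperSemicontinuous (fun y : Y =>
        topologicalKrullDim ↥(connectedComponentIn (f.base ⁻¹' {y}) (g.base y))) ∧
      ∀ y : Y, (∃ V ∈ nhds y, ∀ z ∈ V,
          topologicalKrullDim ↥(connectedComponentIn (f.base ⁻¹' {z}) (g.base z)) =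
            topologicalKrullDim ↥(connectedComponentIn (f.base ⁻¹' {y}) (g.base y))) →
        ∀ y' : Y, y' ⤳ y → connectedComponentIn (f.base ⁻¹' {y}) (g.base y) ⊆
          closure (connectedComponentIn (f.base ⁻¹' {y'}) (g.base y')) := by
  have hfg : ∀ t : Y, f.base (g.base t) = t := base_section_apply f g hg
  constructor
  · rw [upperSemicontinuous_iff]
    intro y
    rw [upperSemicontinuousAt_iff]
    intro b hb
    have hopen : IsOpen (g.base ⁻¹' {x' : X | FlatMor.fibreDimAt f x' ≤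
        FlatMor.fibreDimAt f (g.base y)}) :=
      (isOpen_setOf_fibreDimAt_le' f (FlatMor.fibreDimAt f (g.base y))).preimage g.continuous
    have hy : y ∈ g.base ⁻¹' {x' : X | FlatMor.fibreDimAt f x' ≤
        FlatMor.fibreDimAt f (g.base y)} := by
      show FlatMor.fibreDimAt f (g.base y) ≤ FlatMor.fibreDimAt f (g.base y)
      exact le_rfl
    filter_upwards [hopen.mem_nhds hy] with z hz
    have hz' : FlatMor.fibreDimAt f (g.base z) ≤ FlatMor.fibreDimAt f (g.base y) := hz
    show topologicalKrullDim ↥(connectedComponentIn (f.base ⁻¹' {z}) (g.base z)) < b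
    rw [dim_sectionComponent_eq_fibreDimAt f g hg z (hirr z)]
    rw [dim_sectionComponent_eq_fibreDimAt f g hg y (hirr y)] at hb
    exact lt_of_le_of_lt hz' hb
  · rintro y ⟨V, hV, hVeq⟩ y' hy'
    have hy'V : y' ∈ V := mem_of_mem_nhds (hy' hV)
    have hgy'F : g.base y' ∈ f.base ⁻¹' {y'} := hfg y'
    have hmain := sectionComponent_main f g hg y y' hy'
      ⟨connectedComponentIn (f.base ⁻¹' {y'}) (g.base y'), connectedComponentIn_subset _ _, hirr y',
        (fun Z' hZ' hZ'F hCZ' =>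
          le_antisymm (hZ'.isPreirreducible.isPreconnected.subset_connectedComponentIn
            (hCZ' (mem_connectedComponentIn hgy'F)) hZ'F) hCZ'),
        mem_connectedComponentIn hgy'F, rfl⟩
    exact hmain.2 (hirr y) (hVeq y' hy'V).symm

end Sch

end Groth.Agent.Lib.Helper4.DimFormula
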