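import Mathlib
import Groth.Agent.Lib.Helper4DimFormulaAP
import Groth.Agent.Lib.Helper3LocDimBC

/-!
# Fibre dimension bounds from the generic fibre dimensions (helper4)

* `ptTrdeg_bounds_of_specializes`: for `η ⤳ ξ` over a locally Noetherian base,
  `trdeg κ(ξ)/κ(f ξ) + 1 ≤ dim O_{Y,f ξ} + trdeg κ(η)/κ(f η)` if `f η ≠ f ξ`, and
  `trdeg κ(ξ)/κ(f ξ) ≤ trdeg κ(η)/κ(f η)` if `dim O_{Y,f ξ} ≤ 1`.
* `fibreDimAt_add_one_le_of_generic`, `fibreDimAt_eq_of_generic_of_dim_le_one`: Stacks-type bounds with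
  only the local ring of the base at `f x` Noetherian (by base change to `Spec O_{Y,f x}`).
-/

set_option autoImplicit false
set_option linter.style.haveILetI false

universe u

open AlgebraicGeometry CategoryTheory TopologicalSpace IsLocalRing Limits

namespace Groth.Agent.Lib.Helper4.DimFormula

open Groth.Agent.Lib.Helper4.VarDim Groth.Agent.Lib.Helper4.FibDim

variable {X Y : Scheme.{u}} (f : X ⟶ Y) [LocallyOfFiniteType f]

theorem ptTrdeg_bounds_of_specializes [IsLocallyNoetherian Y] (ξ η : X) (hηξ : η ⤳ ξ) :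
    (f.base η ≠ f.base ξ → ((ptTrdeg f ξ + 1 : ℕ) : WithBot ℕ∞) ≤
      ringKrullDim (Y.presheaf.stalk (f.base ξ)) + (ptTrdeg f η : WithBot ℕ∞)) ∧
    (ringKrullDim (Y.presheaf.stalk (f.base ξ)) ≤ 1 → ptTrdeg f ξ ≤ ptTrdeg f η) := by
  obtain ⟨𝔭, h𝔭, rfl⟩ := exists_prime_fromSpecStalk_eq hηξ
  haveI : (𝔭.comap (f.stalkMap ξ).hom).IsPrime := Ideal.comap_isPrime _ _
  have hAD := ringKrullDim_quotient_add_ptTrdeg_le f ξ 𝔭
  obtain ⟨A, hA⟩ := exists_nat_ringKrullDim_eq (Y.presheaf.stalk (f.base ξ))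
  have hDYle : ringKrullDim (Y.presheaf.stalk (f.base ξ) ⧸ 𝔭.comap (f.stalkMap ξ).hom) ≤ (A : WithBot ℕ∞) := by
    rw [← hA]
    exact ringKrullDim_quotient_le _
  obtain ⟨DY, hDY, hDYA⟩ := exists_nat_eq_of_le_of_nonneg hDYle ringKrullDim_nonneg_of_nontrivial
  rw [hDY] at hAD
  have hDXle : ringKrullDim (X.presheaf.stalk ξ ⧸ 𝔭) ≤ ((DY + ptTrdeg f (X.fromSpecStalk ξ ⟨𝔭, h𝔭⟩) : ℕ) : WithBot ℕ∞) := by
    refine le_trans ?_ (le_of_le_of_eq hAD (by push_cast; rfl))
    exact le_add_of_nonneg_right (by exact_mod_cast (Nat.zero_le _))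
  obtain ⟨DX, hDX, -⟩ := exists_nat_eq_of_le_of_nonneg hDXle ringKrullDim_nonneg_of_nontrivial
  rw [hDX] at hAD
  have hAD' : DX + ptTrdeg f ξ ≤ DY + ptTrdeg f (X.fromSpecStalk ξ ⟨𝔭, h𝔭⟩) := by exact_mod_cast hAD
  have hne1 : f.base (X.fromSpecStalk ξ ⟨𝔭, h𝔭⟩) ≠ f.base ξ → 1 ≤ DX := by
    intro hne
    have h11 : 𝔭 ≠ maximalIdeal (X.presheaf.stalk ξ) := by
      intro h
      apply hne
      have h2 : X.fromSpecStalk ξ (closedPoint (X.presheaf.stalk ξ)) = ξ :=
        Scheme.fromSpecStalk_closedPoint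
      have h3 : X.fromSpecStalk ξ ⟨𝔭, h𝔭⟩ = ξ := by
        refine Eq.trans ?_ h2
        exact congrArg (fun q => X.fromSpecStalk ξ q) (PrimeSpectrum.ext h)
      exact congrArg f.base h3
    have h12 := one_le_ringKrullDim_quotient_of_ne_maximalIdeal 𝔭 h11
    rw [hDX] at h12
    exact_mod_cast h12
  have part1 : f.base (X.fromSpecStalk ξ ⟨𝔭, h𝔭⟩) ≠ f.base ξ →
      ptTrdeg f ξ + 1 ≤ A + ptTrdeg f (X.fromSpecStalk ξ ⟨𝔭, h𝔭⟩) := by
    intro hne
    have := hne1 hne
    omega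
  refine ⟨fun hne => ?_, fun hle1 => ?_⟩
  · rw [hA]
    exact_mod_cast part1 hne
  · rw [hA] at hle1
    have hA1 : A ≤ 1 := by exact_mod_cast hle1
    by_cases hfe : f.base (X.fromSpecStalk ξ ⟨𝔭, h𝔭⟩) = f.base ξ
    · -- `𝔮` is the maximal ideal, so `DY = 0`
      have h𝔮 : 𝔭.comap (f.stalkMap ξ).hom = maximalIdeal (Y.presheaf.stalk (f.base ξ)) := by
        refine eq_maximalIdeal_of_fromSpecStalk_eq (f.base ξ) _ ?_
        rw [fromSpecStalk_comap_stalkMap]
        exact hfe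
      have hDY0 : DY = 0 := by
        have hfield : IsField (Y.presheaf.stalk (f.base ξ) ⧸ 𝔭.comap (f.stalkMap ξ).hom) := by
          rw [← Ideal.Quotient.maximal_ideal_iff_isField_quotient, h𝔮]
          exact maximalIdeal.isMaximal _
        have := ringKrullDim_eq_zero_of_isField hfield
        rw [hDY] at this
        exact_mod_cast this
      omega
    · have := part1 hfe
      omega

theorem fibreDimAt_add_one_le_of_generic_LN [IsLocallyNoetherian Y] (x : X) (d : ℕ)
    (N : WithBot ℕ∞) (hN : ringKrullDim (Y.presheaf.stalk (f.base x)) ≤ N)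
    (hgen : ∀ η : X, (∀ τ : X, τ ⤳ η → τ = η) → η ⤳ x →
      f.base η ≠ f.base x ∧ FlatMor.fibreDimAt f η = d) :
    FlatMor.fibreDimAt f x + 1 ≤ (d : WithBot ℕ∞) + N := by
  obtain ⟨ξ, hfξ, hξx, hfd⟩ := exists_ptTrdeg_eq_fibreDimAt f x
  obtain ⟨η, hηξ, hηmax⟩ := Groth.Agent.Lib.Helper4.DimFormula.exists_maximal_specializes X ξ
  obtain ⟨hne, hdη⟩ := hgen η hηmax (hηξ.trans hξx)
  have hpt : (ptTrdeg f η : WithBot ℕ∞) = d := by
    rw [← fibreDimAt_eq_ptTrdeg_of_maximal f η (fun y _ hy => hηmax y hy)]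
    exact hdη
  have h1 := (ptTrdeg_bounds_of_specializes f ξ η hηξ).1 (by rw [hfξ]; exact hne)
  have hstalk : ringKrullDim (Y.presheaf.stalk (f.base ξ)) =
      ringKrullDim (Y.presheaf.stalk (f.base x)) := by rw [hfξ]
  rw [hstalk, hpt] at h1
  rw [hfd]
  calc ((ptTrdeg f ξ : ℕ) : WithBot ℕ∞) + 1 = ((ptTrdeg f ξ + 1 : ℕ) : WithBot ℕ∞) := by
        push_cast; rfl
    _ ≤ ringKrullDim (Y.presheaf.stalk (f.base x)) + (d : WithBot ℕ∞) := h1
    _ ≤ N + (d : WithBot ℕ∞) := by gcongr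
    _ = (d : WithBot ℕ∞) + N := add_comm _ _

theorem fibreDimAt_eq_of_generic_LN [IsLocallyNoetherian Y] (x : X) (d : ℕ)
    (hdim : ringKrullDim (Y.presheaf.stalk (f.base x)) ≤ 1)
    (hgen : ∀ η : X, (∀ τ : X, τ ⤳ η → τ = η) → η ⤳ x → FlatMor.fibreDimAt f η = d) :
    FlatMor.fibreDimAt f x = d := by
  apply le_antisymm
  · obtain ⟨ξ, hfξ, hξx, hfd⟩ := exists_ptTrdeg_eq_fibreDimAt f x
    obtain ⟨η, hηξ, hηmax⟩ := Groth.Agent.Lib.Helper4.DimFormula.exists_maximal_specializes X ξ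
    have hdη := hgen η hηmax (hηξ.trans hξx)
    have hpt : (ptTrdeg f η : WithBot ℕ∞) = d := by
      rw [← fibreDimAt_eq_ptTrdeg_of_maximal f η (fun y _ hy => hηmax y hy)]
      exact hdη
    have h1 := (ptTrdeg_bounds_of_specializes f ξ η hηξ).2 (by rw [hfξ]; exact hdim)
    rw [hfd, ← hpt]
    exact_mod_cast h1
  · obtain ⟨η, hηx, hηmax⟩ := Groth.Agent.Lib.Helper4.DimFormula.exists_maximal_specializes X x
    rw [← hgen η hηmax hηx]
    exact fibreDimAt_le_of_specializes f η x hηx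

/-- Base change to the spectrum of the local ring of the base at `f x`. -/
theorem exists_baseChange_to_stalk (x : X) :
    ∃ (X' : Scheme.{u}) (j : X' ⟶ X) (f' : X' ⟶ Spec (Y.presheaf.stalk (f.base x))) (x' : X'),
      LocallyOfFiniteType f' ∧ j.base x' = x ∧
      (∀ z : X', FlatMor.fibreDimAt f' z = FlatMor.fibreDimAt f (j.base z)) ∧
      (∀ z : X', f.base (j.base z) = (Y.fromSpecStalk (f.base x)).base (f'.base z)) ∧
      (∀ η' : X', (∀ τ' : X', τ' ⤳ η' → τ' = η') → η' ⤳ x' →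
        (∀ τ : X, τ ⤳ j.base η' → τ = j.base η') ∧ j.base η' ⤳ x) := by
  set h := Y.fromSpecStalk (f.base x) with hh
  have hsq : IsPullback (pullback.fst f h) (pullback.snd f h) f h := IsPullback.of_hasPullback f h
  obtain ⟨x', hx'1, hx'2⟩ := Scheme.Pullback.exists_preimage_pullback (f := f) (g := h) x
    (closedPoint (Y.presheaf.stalk (f.base x))) Scheme.fromSpecStalk_closedPoint.symm
  have hcomm : ∀ z : ↥(pullback f h), f.base ((pullback.fst f h).base z) =
      h.base ((pullback.snd f h).base z) := by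
    intro z
    have := congrArg (fun φ : pullback f h ⟶ Y => φ.base z) (pullback.condition (f := f) (g := h))
    simpa using this
  refine ⟨pullback f h, pullback.fst f h, pullback.snd f h, x', inferInstance, hx'1, ?_, hcomm, ?_⟩
  · intro z
    exact Groth.Agent.Lib.Helper3.LocDimBC.fibreDimAt_eq_of_isPullback f h _ _ hsq z
  · intro η' hη'max hη'x'
    have hjsp : (pullback.fst f h).base η' ⤳ x :=
      Eq.subst (motive := fun t => (pullback.fst f h).base η' ⤳ t) hx'1
        (hη'x'.map (pullback.fst f h).continuous)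
    refine ⟨?_, hjsp⟩
    intro τ hτ
    have h1 : f.base τ ⤳ f.base x := (hτ.trans hjsp).map f.continuous
    have h2 : f.base τ ∈ Set.range h.base := by
      rw [hh, Scheme.range_fromSpecStalk]
      exact h1
    have h3 : τ ∈ Set.range (pullback.fst f h).base := by
      rw [Scheme.Pullback.range_fst]
      exact h2
    obtain ⟨τ', rfl⟩ := h3
    have h4 : τ' ⤳ η' := (pullback.fst f h).isEmbedding.isInducing.specializes_iff.mp hτ
    rw [hη'max τ' h4]

theorem ringKrullDim_stalk_spec_le (R : CommRingCat.{u}) (p : Spec R) :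
    ringKrullDim ((Spec R).presheaf.stalk p) ≤ ringKrullDim R := by
  refine (ringKrullDim_stalk_le_topologicalKrullDim (Spec R) p).trans ?_
  exact le_of_eq (PrimeSpectrum.topologicalKrullDim_eq_ringKrullDim R)

/-- Stacks-type bound: if the generic points `η` of the irreducible components of `X` through `x`
do not map to `y = f x` and have fibre dimension `d`, then `dim_x X_y + 1 ≤ d + dim O_{Y,y}`. -/
theorem fibreDimAt_add_one_le_of_generic (x : X)
    [IsNoetherianRing (Y.presheaf.stalk (f.base x))] (d : ℕ)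
    (hgen : ∀ Z ∈ irreducibleComponents (X : Type u), x ∈ Z → ∀ η : X, IsGenericPoint η Z →
      f.base η ≠ f.base x ∧ FlatMor.fibreDimAt f η = d) :
    FlatMor.fibreDimAt f x + 1 ≤
      (d : WithBot ℕ∞) + ringKrullDim (Y.presheaf.stalk (f.base x)) := by
  obtain ⟨X', j, f', x', hlft, hjx', hfd, hcomm, hmax⟩ := exists_baseChange_to_stalk f x
  haveI := hlft
  have key := fibreDimAt_add_one_le_of_generic_LN f' x' d
    (ringKrullDim (Y.presheaf.stalk (f.base x)))
    (ringKrullDim_stalk_spec_le (Y.presheaf.stalk (f.base x)) (f'.base x')) (by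
      intro η' hη'max hη'x'
      obtain ⟨hjmax, hjsp⟩ := hmax η' hη'max hη'x'
      obtain ⟨hne, hd⟩ := hgen _ (mem_irreducibleComponents_of_forall_specializes (j.base η') hjmax)
        hjsp.mem_closure (j.base η') isGenericPoint_closure
      refine ⟨fun heq => hne ?_, (hfd η').trans hd⟩
      rw [hcomm η', heq, ← hcomm x']
      exact congrArg f.base hjx')
  rw [hfd x'] at key
  exact (congrArg (fun t => FlatMor.fibreDimAt f t + 1 ≤
    (d : WithBot ℕ∞) + ringKrullDim (Y.presheaf.stalk (f.base x))) hjx').mp key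

/-- If `dim O_{Y,y} ≤ 1` and the fibre dimension is `d` at the generic points of the irreducible
components of `X` through `x`, then `dim_x X_y = d`. -/
theorem fibreDimAt_eq_of_generic_of_dim_le_one (x : X)
    [IsNoetherianRing (Y.presheaf.stalk (f.base x))]
    (hdimY : ringKrullDim (Y.presheaf.stalk (f.base x)) ≤ 1) (d : ℕ)
    (hgen : ∀ Z ∈ irreducibleComponents (X : Type u), x ∈ Z → ∀ η : X, IsGenericPoint η Z →
      FlatMor.fibreDimAt f η = d) :
    FlatMor.fibreDimAt f x = d := by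
  obtain ⟨X', j, f', x', hlft, hjx', hfd, hcomm, hmax⟩ := exists_baseChange_to_stalk f x
  haveI := hlft
  have key := fibreDimAt_eq_of_generic_LN f' x' d
    ((ringKrullDim_stalk_spec_le (Y.presheaf.stalk (f.base x)) (f'.base x')).trans hdimY) (by
      intro η' hη'max hη'x'
      obtain ⟨hjmax, hjsp⟩ := hmax η' hη'max hη'x'
      have hd := hgen _ (mem_irreducibleComponents_of_forall_specializes (j.base η') hjmax)
        hjsp.mem_closure (j.base η') isGenericPoint_closure
      exact (hfd η').trans hd)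
  rw [hfd x'] at key
  exact (congrArg (fun t => FlatMor.fibreDimAt f t = (d : WithBot ℕ∞)) hjx').mp key

end Groth.Agent.Lib.Helper4.DimFormula
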