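import Mathlib
import Groth.Agent.Lib.Helper4DimFormulaAQ
import Groth.Agent.Lib.Helper3RelDimFlat

/-!
# Local dimension of closed subsets of Jacobson universally catenary equicodimensional schemes (helper4)

* `exists_delta`: on a locally Noetherian Jacobson scheme with universally catenary local rings and
  equidimensional components there is `δ : X → ℕ` with `dim closure {σ} = δ σ` and
  `dim O_{X,x}/𝔭 + δ x = δ σ` whenever `𝔭` is the prime of `σ` in `O_{X,x}`.
-/

set_option autoImplicit false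
set_option linter.style.haveILetI false

universe u

open AlgebraicGeometry CategoryTheory TopologicalSpace IsLocalRing

namespace Groth.Agent.Lib.Helper4.DimFormula

open Groth.Agent.Lib.Helper4.VarDim Groth.Agent.Lib.Helper4.FibDim

attribute [local instance] Curv2.resAlgebra

theorem ptTrdeg_eq_zero_of_isPreimmersion {Z X : Scheme.{u}} (ι : Z ⟶ X) [IsPreimmersion ι]
    [LocallyOfFiniteType ι] (z : Z) : ptTrdeg ι z = 0 := by
  have h1 := trdeg_eq_ptTrdeg ι z
  letI : Algebra (X.residueField (ι.base z)) (Z.residueField z) := (ι.residueFieldMap z).hom.toAlgebra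
  haveI : Algebra.IsAlgebraic (X.residueField (ι.base z)) (Z.residueField z) := by
    have hs : Function.Surjective (algebraMap (X.residueField (ι.base z)) (Z.residueField z)) :=
      (residueFieldMap_bijective_of_isPreimmersion ι z).2
    haveI := Algebra.isIntegral_of_surjective hs
    exact Algebra.IsIntegral.isAlgebraic
  have h2 : Algebra.trdeg (X.residueField (ι.base z)) (Z.residueField z) = 0 :=
    trdeg_eq_zero
  rw [h2] at h1
  exact_mod_cast h1.symm

section Delta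

variable (X : Scheme.{u}) [IsLocallyNoetherian X] [JacobsonSpace X]

theorem exists_delta (h2 : ∀ x : X, CAlg.IsUniversallyCatenary (X.presheaf.stalk x))
    (h3 : ∀ X' ∈ irreducibleComponents (X : Type u), ∀ x ∈ X', IsClosed ({x} : Set X) →
      topologicalKrullDim (↥X' : Type u) = topologicalKrullDim ↥{t : X | t ∈ X' ∧ t ⤳ x}) :
    ∃ δ : X → ℕ,
      (∀ σ : X, topologicalKrullDim ↥(closure ({σ} : Set X)) = δ σ) ∧
      (∀ (σ x : X) (𝔭 : Ideal (X.presheaf.stalk x)) (h𝔭 : 𝔭.IsPrime),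
        X.fromSpecStalk x ⟨𝔭, h𝔭⟩ = σ →
          ringKrullDim (X.presheaf.stalk x ⧸ 𝔭) + (δ x : WithBot ℕ∞) = δ σ) := by
  choose δ hδ using exists_nat_forall_closed_ringKrullDim_quotient_eq X h2 h3
  refine ⟨δ, ?_, ?_⟩
  · intro σ
    obtain ⟨Z, ι, hι, hrange⟩ := exists_isClosedImmersion_range_eq X (closure {σ}) isClosed_closure
    have hirr : IsIrreducible (Set.range ι.base) := by
      rw [hrange]
      exact isIrreducible_singleton.closure
    haveI : IrreducibleSpace ↥(Set.range ι.base) := Subtype.irreducibleSpace hirr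
    haveI : IrreducibleSpace Z :=
      (ι.isEmbedding.toHomeomorph).irreducibleSpace_iff.mpr inferInstance
    have hgen : ι.base (genericPoint Z) = σ := by
      have h1 : IsGenericPoint (ι.base (genericPoint Z)) (closure (ι.base '' Set.univ)) :=
        (genericPoint_spec Z).image ι.continuous
      rw [Set.image_univ, hrange, isClosed_closure.closure_eq] at h1
      exact h1.eq isGenericPoint_closure
    have h1 := topologicalKrullDim_eq_add_ptTrdeg_genericPoint h2 ι (δ σ) (fun s hs 𝔭 h𝔭 hpt =>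
      hδ σ s hs 𝔭 h𝔭 (hpt.trans hgen))
    rw [ptTrdeg_eq_zero_of_isPreimmersion ι, add_zero] at h1
    rw [← h1]
    have e : Z ≃ₜ ↥(closure ({σ} : Set X)) :=
      (ι.isEmbedding.toHomeomorph).trans (Homeomorph.setCongr hrange)
    exact (IsHomeomorph.topologicalKrullDim_eq e e.isHomeomorph).symm
  · intro σ x 𝔭 h𝔭 hσ
    have hσx : σ ⤳ x := hσ ▸ fromSpecStalk_specializes x ⟨𝔭, h𝔭⟩
    obtain ⟨s, hs1, hs2⟩ := nonempty_inter_closedPoints (X := X) (Z := closure ({x} : Set X))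
      ⟨x, subset_closure rfl⟩ isClosed_closure.isLocallyClosed
    have hxs : x ⤳ s := specializes_iff_mem_closure.mpr hs1
    obtain ⟨𝔭x, h𝔭x, hptx⟩ := exists_prime_fromSpecStalk_eq hxs
    obtain ⟨𝔭σ, h𝔭σ, hptσ⟩ := exists_prime_fromSpecStalk_eq (hσx.trans hxs)
    have hle : 𝔭σ ≤ 𝔭x := by
      rw [← fromSpecStalk_specializes_iff s 𝔭σ 𝔭x]
      have h1 : X.fromSpecStalk s ⟨𝔭σ, h𝔭σ⟩ = σ := hptσ
      have h2' : X.fromSpecStalk s ⟨𝔭x, h𝔭x⟩ = x := hptx
      exact (congrArg₂ (· ⤳ ·) h1 h2').mpr hσx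
    have key := ringKrullDim_quotient_eq_add_of_isUniversallyCatenary s (h2 s) 𝔭σ 𝔭x hle x hptx 𝔭
      (hσ.trans hptσ.symm)
    rw [hδ σ s hs2 𝔭σ h𝔭σ hptσ, hδ x s hs2 𝔭x h𝔭x hptx] at key
    exact key.symm

end Delta

section Closed

theorem ringKrullDim_quotient_comap_of_surjective {R S : Type*} [CommRing R] [CommRing S]
    (φ : R →+* S) (hφ : Function.Surjective φ) (𝔭 : Ideal S) :
    ringKrullDim (R ⧸ 𝔭.comap φ) = ringKrullDim (S ⧸ 𝔭) := by
  set ψ : R →+* S ⧸ 𝔭 := (Ideal.Quotient.mk 𝔭).comp φ with hψ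
  have hψs : Function.Surjective ψ := Ideal.Quotient.mk_surjective.comp hφ
  have hker : 𝔭.comap φ = RingHom.ker ψ := by
    rw [hψ, ← RingHom.comap_ker, Ideal.mk_ker]
  exact ringKrullDim_eq_of_ringEquiv
    ((Ideal.quotEquivOfEq hker).trans (RingHom.quotientKerEquivOfSurjective hψs))

variable {X : Scheme.{u}} [IsLocallyNoetherian X] (δ : X → ℕ)
  (hδ2 : ∀ (σ x : X) (𝔭 : Ideal (X.presheaf.stalk x)) (h𝔭 : 𝔭.IsPrime),
    X.fromSpecStalk x ⟨𝔭, h𝔭⟩ = σ →
      ringKrullDim (X.presheaf.stalk x ⧸ 𝔭) + (δ x : WithBot ℕ∞) = δ σ)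
  {Z : Scheme.{u}} (ι : Z ⟶ X) [IsClosedImmersion ι]

include hδ2

omit [IsLocallyNoetherian X] in
theorem ringKrullDim_quotient_add_delta (z : Z) (𝔭 : Ideal (Z.presheaf.stalk z))
    [h𝔭 : 𝔭.IsPrime] :
    ringKrullDim (Z.presheaf.stalk z ⧸ 𝔭) + (δ (ι.base z) : WithBot ℕ∞) =
      δ (ι.base (Z.fromSpecStalk z ⟨𝔭, h𝔭⟩)) := by
  rw [← ringKrullDim_quotient_comap_of_surjective (ι.stalkMap z).hom (ι.stalkMap_surjective z) 𝔭]
  exact hδ2 _ (ι.base z) (𝔭.comap (ι.stalkMap z).hom) (Ideal.comap_isPrime _ _)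
    (fromSpecStalk_comap_stalkMap ι z 𝔭)

theorem exists_maximal_delta_eq (z : Z) :
    ∃ σ : Z, σ ⤳ z ∧ (∀ τ : Z, τ ⤳ σ → τ = σ) ∧
      ringKrullDim (Z.presheaf.stalk z) + (δ (ι.base z) : WithBot ℕ∞) = δ (ι.base σ) := by
  haveI : IsLocallyNoetherian Z := LocallyOfFiniteType.isLocallyNoetherian ι
  obtain ⟨𝔭, h𝔭, hdim⟩ := exists_minimalPrimes_ringKrullDim_quotient_eq (R := Z.presheaf.stalk z)
  haveI : 𝔭.IsPrime := h𝔭.1.1
  refine ⟨Z.fromSpecStalk z ⟨𝔭, h𝔭.1.1⟩, fromSpecStalk_specializes z _,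
    (mem_minimalPrimes_iff_fromSpecStalk_maximal z 𝔭).mp h𝔭, ?_⟩
  rw [← hdim]
  exact ringKrullDim_quotient_add_delta δ hδ2 ι z 𝔭

omit [IsLocallyNoetherian X] in
theorem delta_le_of_specializes (z σ : Z) (h : σ ⤳ z) :
    (δ (ι.base σ) : WithBot ℕ∞) ≤ ringKrullDim (Z.presheaf.stalk z) + (δ (ι.base z) : WithBot ℕ∞) := by
  obtain ⟨𝔭, h𝔭, rfl⟩ := exists_prime_fromSpecStalk_eq h
  rw [← ringKrullDim_quotient_add_delta δ hδ2 ι z 𝔭]
  gcongr
  exact ringKrullDim_quotient_le _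

theorem dim_opens_le (U : Z.Opens) (N : WithBot ℕ∞)
    (h : ∀ σ : Z, σ ∈ U → (∀ τ : Z, τ ⤳ σ → τ = σ) → (δ (ι.base σ) : WithBot ℕ∞) ≤ N) :
    topologicalKrullDim ↥(U : Set Z) ≤ N := by
  rw [Groth.Agent.Lib.Helper3.RelDimFlat.dim_opens_eq_iSup Z U]
  refine iSup_le fun z => ?_
  obtain ⟨σ, hσz, hσmax, hσ⟩ := exists_maximal_delta_eq δ hδ2 ι z.1
  have hσU : σ ∈ U := hσz.mem_open U.2 z.2
  refine le_trans ?_ (h σ hσU hσmax)
  rw [← hσ]
  exact le_add_of_nonneg_right (by exact_mod_cast (Nat.zero_le _))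

omit [IsLocallyNoetherian X] in
theorem delta_le_dim_opens [JacobsonSpace X]
    (hδ1 : ∀ σ : X, topologicalKrullDim ↥(closure ({σ} : Set X)) = δ σ) (U : Z.Opens) (σ : Z)
    (hσ : σ ∈ U) : (δ (ι.base σ) : WithBot ℕ∞) ≤ topologicalKrullDim ↥(U : Set Z) := by
  haveI : JacobsonSpace Z := JacobsonSpace.of_isClosedEmbedding ι.isClosedEmbedding
  obtain ⟨z, ⟨hzU, hzσ⟩, hzcl⟩ := nonempty_inter_closedPoints (X := Z)
    (Z := (U : Set Z) ∩ closure {σ}) ⟨σ, hσ, subset_closure rfl⟩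
    (U.2.isLocallyClosed.inter isClosed_closure.isLocallyClosed)
  have hσz : σ ⤳ z := specializes_iff_mem_closure.mpr hzσ
  have hcl : IsClosed ({ι.base z} : Set X) := by
    have := ι.isClosedEmbedding.isClosedMap _ hzcl
    rwa [Set.image_singleton] at this
  have hδ0 : δ (ι.base z) = 0 := by
    have h1 := hδ1 (ι.base z)
    rw [hcl.closure_eq] at h1
    have h2 : topologicalKrullDim ↥({ι.base z} : Set X) = 0 :=
      le_antisymm (topologicalKrullDim_zero_of_discreteTopology _)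
        (haveI : Nonempty ↥({ι.base z} : Set X) := ⟨⟨_, rfl⟩⟩
         Groth.Agent.Lib.Helper7.TopDim.topologicalKrullDim_nonneg)
    rw [h2] at h1
    exact_mod_cast h1.symm
  have h3 := delta_le_of_specializes δ hδ2 ι z σ hσz
  rw [hδ0, Nat.cast_zero, add_zero] at h3
  refine h3.trans ?_
  rw [Groth.Agent.Lib.Helper3.RelDimFlat.dim_opens_eq_iSup Z U]
  exact le_iSup (fun z : U => ringKrullDim (Z.presheaf.stalk z.1)) ⟨z, hzU⟩

theorem localDim_closedSubscheme [JacobsonSpace X]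
    (hδ1 : ∀ σ : X, topologicalKrullDim ↥(closure ({σ} : Set X)) = δ σ) (z : Z) :
    FlatMor.localDim Z z = ringKrullDim (Z.presheaf.stalk z) + (δ (ι.base z) : WithBot ℕ∞) ∧
    (∀ U : Z.Opens, z ∈ U → (∀ σ : Z, σ ∈ U → (∀ τ : Z, τ ⤳ σ → τ = σ) → σ ⤳ z) →
      topologicalKrullDim ↥(U : Set Z) =
        ringKrullDim (Z.presheaf.stalk z) + (δ (ι.base z) : WithBot ℕ∞)) := by
  haveI : IsLocallyNoetherian Z := LocallyOfFiniteType.isLocallyNoetherian ι
  obtain ⟨σ₀, hσ₀z, hσ₀max, hσ₀⟩ := exists_maximal_delta_eq δ hδ2 ι z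
  have hgood : ∀ U : Z.Opens, z ∈ U → (∀ σ : Z, σ ∈ U → (∀ τ : Z, τ ⤳ σ → τ = σ) → σ ⤳ z) →
      topologicalKrullDim ↥(U : Set Z) =
        ringKrullDim (Z.presheaf.stalk z) + (δ (ι.base z) : WithBot ℕ∞) := by
    intro U hzU hU
    apply le_antisymm
    · exact dim_opens_le δ hδ2 ι U _ (fun σ hσU hσmax =>
        delta_le_of_specializes δ hδ2 ι z σ (hU σ hσU hσmax))
    · rw [hσ₀]
      exact delta_le_dim_opens δ hδ2 ι hδ1 U σ₀ (hσ₀z.mem_open U.2 hzU)
  refine ⟨?_, hgood⟩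
  apply le_antisymm
  · obtain ⟨U, hzU, hU⟩ := exists_opens_forall_maximal_specializes Z z
    rw [← hgood U hzU hU]
    exact Groth.Agent.Lib.Helper7.TopDim.localDim_le z U hzU
  · rw [Groth.Agent.Lib.Helper7.TopDim.le_localDim_iff]
    intro U hzU
    rw [hσ₀]
    exact delta_le_dim_opens δ hδ2 ι hδ1 U σ₀ (hσ₀z.mem_open U.2 hzU)

end Closed

section Final

theorem dim_homeomorph {A B : Type*} [TopologicalSpace A] [TopologicalSpace B] (e : A ≃ₜ B) :
    topologicalKrullDim A = topologicalKrullDim B :=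
  IsHomeomorph.topologicalKrullDim_eq e e.isHomeomorph

/-- `dim {t ∈ range ι | t ⤳ ι z} = dim O_{Z,z}` for an embedding `ι`. -/
theorem topologicalKrullDim_setOf_range_specializes {X Z : Scheme.{u}} (ι : Z ⟶ X)
    (hι : Topology.IsEmbedding ι.base) (z : Z) (Y : Set X) (hY : Set.range ι.base = Y) :
    topologicalKrullDim ↥{t : X | t ∈ Y ∧ t ⤳ ι.base z} =
      ringKrullDim (Z.presheaf.stalk z) := by
  set ψ : ↥(Spec (Z.presheaf.stalk z)) → X := fun q => ι.base (Z.fromSpecStalk z q) with hψdef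
  have hψ : Topology.IsEmbedding ψ := hι.comp (Z.fromSpecStalk z).isEmbedding
  have hrange : Set.range ψ = {t : X | t ∈ Y ∧ t ⤳ ι.base z} := by
    ext t
    constructor
    · rintro ⟨q, rfl⟩
      refine ⟨hY ▸ ⟨_, rfl⟩, ?_⟩
      exact (fromSpecStalk_specializes z q).map ι.continuous
    · rintro ⟨htY, htz⟩
      rw [← hY] at htY
      obtain ⟨t', rfl⟩ := htY
      have h1 : t' ⤳ z := hι.isInducing.specializes_iff.mp htz
      have h2 : t' ∈ Set.range (Z.fromSpecStalk z) := by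
        rw [Scheme.range_fromSpecStalk]
        exact h1
      obtain ⟨q, rfl⟩ := h2
      exact ⟨q, rfl⟩
  rw [← PrimeSpectrum.topologicalKrullDim_eq_ringKrullDim]
  exact (dim_homeomorph ((hψ.toHomeomorph).trans (Homeomorph.setCongr hrange))).symm

/-- EGA IV 10.6.x: local dimension of a closed subset of a Jacobson universally catenary scheme with
equidimensional components. -/
theorem localDim_closed_eq_of_jacobson_univCatenary (X : Scheme.{u}) [IsLocallyNoetherian X]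
    [JacobsonSpace X]
    (h2 : ∀ x : X, CAlg.IsUniversallyCatenary (X.presheaf.stalk x))
    (h3 : ∀ X' ∈ irreducibleComponents (X : Type u), ∀ x ∈ X', IsClosed ({x} : Set X) →
      topologicalKrullDim (↥X' : Type u) = topologicalKrullDim ↥{t : X | t ∈ X' ∧ t ⤳ x})
    (Y : Set X) (hY : IsClosed Y) (x : X) (hx : x ∈ Y) :
    FlatMor.localDim ↥Y ⟨x, hx⟩ =
        topologicalKrullDim ↥(closure ({x} : Set X)) +
          topologicalKrullDim ↥{t : X | t ∈ Y ∧ t ⤳ x} ∧
      FlatMor.localDim ↥Y ⟨x, hx⟩ =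
        ⨆ C ∈ {C : Set ↥Y | C ∈ irreducibleComponents ↥Y ∧ (⟨x, hx⟩ : ↥Y) ∈ C},
          topologicalKrullDim ↥C ∧
      ∀ U : Set X, IsOpen U → x ∈ U →
        (∀ C ∈ irreducibleComponents ↥Y, (⟨x, hx⟩ : ↥Y) ∉ C →
          Disjoint (Subtype.val ⁻¹' U) C) →
        topologicalKrullDim ↥(U ∩ Y) = FlatMor.localDim ↥Y ⟨x, hx⟩ := by
  obtain ⟨δ, hδ1, hδ2⟩ := exists_delta X h2 h3
  obtain ⟨Z, ι, hι, hrange⟩ := exists_isClosedImmersion_range_eq X Y hY
  have hxr : x ∈ Set.range ι.base := by rw [hrange]; exact hx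
  obtain ⟨z, rfl⟩ := hxr
  haveI : IsLocallyNoetherian Z := LocallyOfFiniteType.isLocallyNoetherian ι
  set e : Z ≃ₜ ↥Y := (ι.isEmbedding.toHomeomorph).trans (Homeomorph.setCongr hrange) with he
  have hez : e z = ⟨ι.base z, hx⟩ := Subtype.ext rfl
  have hesymm : e.symm ⟨ι.base z, hx⟩ = z := by rw [← hez, Homeomorph.symm_apply_apply]
  have heval : ∀ t : Z, (e t : X) = ι.base t := fun t => rfl
  have hLD : FlatMor.localDim ↥Y ⟨ι.base z, hx⟩ = FlatMor.localDim Z z := by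
    rw [← hez]
    exact (localDim_eq_of_homeomorph e z).symm
  obtain ⟨hloc, hgood⟩ := localDim_closedSubscheme δ hδ2 ι hδ1 z
  have hMδ : ∀ σ : Z, σ ⤳ z → (δ (ι.base σ) : WithBot ℕ∞) ≤ FlatMor.localDim Z z := by
    intro σ hσ
    rw [hloc]
    exact delta_le_of_specializes δ hδ2 ι z σ hσ
  -- dimension of the closure of a point of `Z`
  have hclZ : ∀ σ : Z, topologicalKrullDim ↥(closure ({σ} : Set Z)) = δ (ι.base σ) := by
    intro σ
    rw [← hδ1 (ι.base σ)]
    have hset : ι.base '' closure ({σ} : Set Z) = closure ({ι.base σ} : Set X) := by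
      rw [← ι.isClosedEmbedding.closure_image_eq, Set.image_singleton]
    exact dim_homeomorph ((ι.isEmbedding.homeomorphImage (closure {σ})).trans
      (Homeomorph.setCongr hset))
  refine ⟨?_, ?_, ?_⟩
  · rw [hLD, hloc, hδ1 (ι.base z),
      topologicalKrullDim_setOf_range_specializes ι ι.isEmbedding z Y hrange, add_comm]
  · rw [hLD]
    apply le_antisymm
    · obtain ⟨σ₀, hσ₀z, hσ₀max, hσ₀⟩ := exists_maximal_delta_eq δ hδ2 ι z
      rw [hloc, hσ₀, ← hclZ σ₀]
      have hC₀ : e.symm ⁻¹' closure ({σ₀} : Set Z) ∈ irreducibleComponents ↥Y :=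
        preimage_mem_irreducibleComponents
          (mem_irreducibleComponents_of_forall_specializes σ₀ hσ₀max) e.symm.isOpenEmbedding
          ⟨σ₀, subset_closure rfl, ⟨e σ₀, e.symm_apply_apply σ₀⟩⟩
      have hxC₀ : (⟨ι.base z, hx⟩ : ↥Y) ∈ e.symm ⁻¹' closure ({σ₀} : Set Z) := by
        show e.symm ⟨ι.base z, hx⟩ ∈ closure ({σ₀} : Set Z)
        rw [hesymm]
        exact hσ₀z.mem_closure
      have hdim : topologicalKrullDim ↥(closure ({σ₀} : Set Z)) =
          topologicalKrullDim ↥(e.symm ⁻¹' closure ({σ₀} : Set Z)) :=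
        (dim_homeomorph (e.symm.subtype (p := fun y => y ∈ e.symm ⁻¹' closure ({σ₀} : Set Z))
          (q := fun t => t ∈ closure ({σ₀} : Set Z)) (fun _ => Iff.rfl))).symm
      rw [hdim]
      exact le_iSup₂ (f := fun (C : Set ↥Y)
        (_ : C ∈ {C : Set ↥Y | C ∈ irreducibleComponents ↥Y ∧ (⟨ι.base z, hx⟩ : ↥Y) ∈ C}) =>
          topologicalKrullDim ↥C) _ ⟨hC₀, hxC₀⟩
    · refine iSup₂_le fun C hC => ?_
      obtain ⟨hCirr, hxC⟩ := hC
      have hT : e ⁻¹' C ∈ irreducibleComponents Z :=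
        preimage_mem_irreducibleComponents hCirr e.isOpenEmbedding
          ⟨⟨ι.base z, hx⟩, hxC, ⟨z, hez⟩⟩
      obtain ⟨σ, hσ⟩ := QuasiSober.sober hT.1 (isClosed_of_mem_irreducibleComponents _ hT)
      have hσcl : closure ({σ} : Set Z) = e ⁻¹' C := hσ.def
      have hzT : z ∈ e ⁻¹' C := by
        show e z ∈ C
        rw [hez]
        exact hxC
      have hσz : σ ⤳ z := by
        rw [specializes_iff_mem_closure, hσcl]
        exact hzT
      have hdim : topologicalKrullDim ↥C = topologicalKrullDim ↥(e ⁻¹' C) :=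
        (dim_homeomorph (e.subtype (p := fun t => t ∈ e ⁻¹' C) (q := fun y => y ∈ C)
          (fun _ => Iff.rfl))).symm
      rw [hdim, ← hσcl, hclZ σ]
      exact hMδ σ hσz
  · intro U hU hxU hdisj
    rw [hLD, hloc]
    have hgoodU := hgood (ι ⁻¹ᵁ ⟨U, hU⟩) hxU (by
      intro σ hσU hσmax
      have hC : e.symm ⁻¹' closure ({σ} : Set Z) ∈ irreducibleComponents ↥Y :=
        preimage_mem_irreducibleComponents
          (mem_irreducibleComponents_of_forall_specializes σ hσmax) e.symm.isOpenEmbedding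
          ⟨σ, subset_closure rfl, ⟨e σ, e.symm_apply_apply σ⟩⟩
      by_contra hnot
      have hxC : (⟨ι.base z, hx⟩ : ↥Y) ∉ e.symm ⁻¹' closure ({σ} : Set Z) := by
        intro h
        apply hnot
        have h' : e.symm ⟨ι.base z, hx⟩ ∈ closure ({σ} : Set Z) := h
        rw [hesymm] at h'
        exact specializes_iff_mem_closure.mpr h'
      have hd := hdisj _ hC hxC
      rw [Set.disjoint_left] at hd
      refine hd (a := e σ) ?_ ?_
      · show (e σ : X) ∈ U
        rw [heval]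
        exact hσU
      · show e.symm (e σ) ∈ closure ({σ} : Set Z)
        rw [Homeomorph.symm_apply_apply]
        exact subset_closure rfl)
    rw [← hgoodU]
    have hset : ι.base '' ((ι ⁻¹ᵁ ⟨U, hU⟩ : Z.Opens) : Set Z) = U ∩ Y := by
      rw [← hrange]
      exact Set.image_preimage_eq_inter_range
    exact (dim_homeomorph ((ι.isEmbedding.homeomorphImage _).trans (Homeomorph.setCongr hset))).symm

end Final

end Groth.Agent.Lib.Helper4.DimFormula
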