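import Mathlib
import Groth.Agent.Lib.Helper23FinType

/-!
# The support of a module of finite type is closed (helper20)

Namespace `Groth.Agent.Lib.Helper20.SuppClosed`.

* `map_eq_zero_of_forall_ιFree` : a colimit preserving functor kills a map out of a free module as soon as it kills its
  components.
* `unit_hom_app_apply` : a morphism `O_X ⟶ N` is `r ↦ r • (image of 1)`.
* `exists_opens_subsingleton_stalk` : for `M` of finite type (no quasi-coherence needed) the locus `M_x = 0` is open.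
-/

set_option autoImplicit false
set_option linter.style.haveILetI false
universe w u v' u' u₁ v₁
open CategoryTheory AlgebraicGeometry Limits Opposite TopologicalSpace
open Groth.Agent.Lib.Helper23.FinType

namespace Groth.Agent.Lib.Helper20.SuppClosed

section gen
variable {C : Type u'} [Category.{v'} C] {J : GrothendieckTopology C} {R : Sheaf J RingCat.{u}}
  [HasSheafify J AddCommGrpCat.{u}] [J.WEqualsLocallyBijective AddCommGrpCat.{u}]
variable {C' : Type u₁} [Category.{v₁} C'] {J' : GrothendieckTopology C'} {S : Sheaf J' RingCat.{u}}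
  [HasSheafify J' AddCommGrpCat.{u}] [J'.WEqualsLocallyBijective AddCommGrpCat.{u}]


theorem map_eq_zero_of_forall_ιFree
    (F : SheafOfModules.{u} R ⥤ SheafOfModules.{u} S) (hF : PreservesColimitsOfSize.{u, u} F)
    (η : SheafOfModules.unit S ≅ F.obj (SheafOfModules.unit R)) {I : Type u} {N : SheafOfModules.{u} R}
    (π : SheafOfModules.free I ⟶ N) (h : ∀ k, F.map (SheafOfModules.ιFree k ≫ π) = 0) :
    F.map π = 0 := by
  haveI : PreservesColimitsOfSize.{0, 0} F := preservesColimitsOfSize_shrink _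
  haveI : PreservesColimitsOfShape (Discrete I) F := inferInstance
  rw [← cancel_epi (SheafOfModules.mapFreeIso F I η).hom, comp_zero]
  refine Cofan.IsColimit.hom_ext (SheafOfModules.isColimitFreeCofan I) _ _ fun k => ?_
  show SheafOfModules.ιFree k ≫ (SheafOfModules.mapFreeIso F I η).hom ≫ F.map π =
    SheafOfModules.ιFree k ≫ 0
  rw [comp_zero, SheafOfModules.ιFree_mapFreeIso_hom_assoc, ← F.map_comp, h, comp_zero]

end gen

variable {X : Scheme.{u}}

/-- the structure sheaf as a module -/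
noncomputable abbrev OO (X : Scheme.{u}) : X.Modules := SheafOfModules.unit X.ringCatSheaf

/-- a function as a section of the structure module -/
def unitSec (W : X.Opens) (r : Γ(X, W)) : Γ(OO X, W) := r

theorem hom_app_map {M N : X.Modules} (φ : M ⟶ N) {W W' : X.Opens} (h : W ≤ W') (s : Γ(M, W')) :
    (Scheme.Modules.Hom.app φ W) (M.presheaf.map (homOfLE h).op s) =
      N.presheaf.map (homOfLE h).op ((Scheme.Modules.Hom.app φ W') s) := by
  have := φ.mapPresheaf.naturality (homOfLE h).op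
  exact congr($this s)

/-- a morphism out of the structure sheaf is determined by the image of `1`. -/
theorem unit_hom_app_apply {N : X.Modules} (φ : OO X ⟶ N) (W : X.Opens) (r : Γ(X, W)) :
    (Scheme.Modules.Hom.app φ W) (unitSec W r) =
      r • N.presheaf.map (homOfLE (le_top : W ≤ ⊤)).op
        ((Scheme.Modules.Hom.app φ ⊤) (unitSec ⊤ 1)) := by
  rw [← hom_app_map, ← Scheme.Modules.Hom.app_smul]
  congr 1
  show r = r * (X.presheaf.map (homOfLE (le_top : W ≤ ⊤)).op).hom 1
  rw [map_one, mul_one]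

theorem subsingleton_sections_of_isZero {M : X.Modules} (hz : IsZero M) (U : X.Opens) :
    Subsingleton Γ(M, U) := by
  refine ⟨fun s t => ?_⟩
  have h0 : 𝟙 M = 0 := hz.eq_of_src _ _
  have hs : ∀ s : Γ(M, U), s = 0 := by
    intro s
    have h1 : (𝟙 M : M ⟶ M).app U s = s := rfl
    rw [← h1, h0]
    rfl
  rw [hs s, hs t]

/-- the locus where the stalk of a module of finite type vanishes is open. -/
theorem exists_opens_subsingleton_stalk (M : X.Modules)
    [hM : SheafOfModules.IsFiniteType (R := X.ringCatSheaf) M] (x : X)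
    (hx : Subsingleton (M.presheaf.stalk x)) :
    ∃ V : X.Opens, x ∈ V ∧ ∀ y ∈ V, Subsingleton (M.presheaf.stalk y) := by
  obtain ⟨ι, U, gen, hgen, hU, hUa⟩ := exists_isOpenCover_generatingSections M
  obtain ⟨i, hxi⟩ : ∃ i, x ∈ U i := by
    have : x ∈ (⨆ i, U i : X.Opens) := by rw [hU.iSup_eq_top]; trivial
    exact Opens.mem_iSup.1 this
  let N : (U i : Scheme.{u}).Modules := M.restrict (U i).ι
  let σ := gen i
  haveI : Finite σ.I := (hgen i).finite
  let φ : σ.I → (OO (U i : Scheme.{u}) ⟶ N) := fun k => SheafOfModules.ιFree k ≫ σ.π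
  let t : σ.I → Γ(M, (U i).ι ''ᵁ ⊤) := fun k => (Scheme.Modules.Hom.app (φ k) ⊤) (unitSec ⊤ 1)
  have hUtop : (U i).ι ''ᵁ ⊤ = U i := by
    rw [Scheme.Hom.image_top_eq_opensRange, Scheme.Opens.opensRange_ι]
  have hxt : x ∈ (U i).ι ''ᵁ ⊤ := by rw [hUtop]; exact hxi
  have h1 : ∀ k, ∃ (V : X.Opens) (hV : V ≤ (U i).ι ''ᵁ ⊤), x ∈ V ∧
      M.presheaf.map (homOfLE hV).op (t k) = 0 := by
    intro k
    have hg : M.presheaf.germ _ x hxt (t k) = M.presheaf.germ _ x hxt 0 := Subsingleton.elim _ _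
    obtain ⟨V, hxV, iU, iV, e⟩ := M.presheaf.germ_eq x hxt hxt _ _ hg
    refine ⟨V, iU.le, hxV, ?_⟩
    rw [map_zero] at e
    exact e
  choose V hV hxV hVt using h1
  let V₀ : X.Opens := ⟨(U i : Set X) ∩ ⋂ k, (V k : Set X),
    (U i).2.inter (isOpen_iInter_of_finite fun k => (V k).2)⟩
  have hxV₀ : x ∈ V₀ := ⟨hxi, Set.mem_iInter.2 hxV⟩
  have hV₀U : V₀ ≤ U i := fun y hy => hy.1
  have hV₀V : ∀ k, V₀ ≤ V k := fun k y hy => Set.mem_iInter.1 hy.2 k
  refine ⟨V₀, hxV₀, ?_⟩
  let j : (V₀ : Scheme.{u}) ⟶ (U i : Scheme.{u}) := X.homOfLE hV₀U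
  let R := Scheme.Modules.restrictFunctor j
  have hz : IsZero (R.obj N) := by
    let F : (U i : Scheme.{u}).Modules := SheafOfModules.free σ.I
    let π : F ⟶ N := σ.π
    haveI : Epi π := σ.epi
    have hepi : Epi (R.map π) := inferInstance
    refine IsZero.of_epi_eq_zero (R.map π) ?_
    have hpres : PreservesColimitsOfSize.{u, u} (Scheme.Modules.restrictFunctor j) := inferInstance
    refine map_eq_zero_of_forall_ιFree (Scheme.Modules.restrictFunctor.{u} j) hpres
      (Scheme.Modules.restrictUnitIso j).symm σ.π fun k => ?_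
    show R.map (φ k) = 0
    apply Scheme.Modules.hom_ext
    intro W
    ext r
    have key : ∀ r' : Γ((U i : Scheme.{u}), j ''ᵁ W),
        (Scheme.Modules.Hom.app (φ k) (j ''ᵁ W)) (unitSec (j ''ᵁ W) r') = 0 := by
      intro r'
      rw [unit_hom_app_apply]
      have h0 : N.presheaf.map (homOfLE (le_top : j ''ᵁ W ≤ ⊤)).op
          ((Scheme.Modules.Hom.app (φ k) ⊤) (unitSec ⊤ 1)) = 0 := by
        have hle : (U i).ι ''ᵁ (j ''ᵁ W) ≤ V k := by
          rintro _ ⟨y, ⟨z, -, rfl⟩, rfl⟩
          apply hV₀V k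
          have hz : (U i).ι (j z) = V₀.ι z := by
            rw [← Scheme.Hom.comp_apply, Scheme.homOfLE_ι]
          show (U i).ι (j z) ∈ V₀
          rw [hz]; exact z.2
        have h3 := hVt k
        have h4 : M.presheaf.map (homOfLE hle).op (M.presheaf.map (homOfLE (hV k)).op (t k)) = 0 := by
          rw [h3, map_zero]
        rw [← ConcreteCategory.comp_apply, ← Functor.map_comp] at h4
        exact h4
      rw [h0, smul_zero]
    exact key r
  intro y hy
  suffices h : ∀ a : M.presheaf.stalk y, a = 0 from ⟨fun a b => by rw [h a, h b]⟩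
  intro a
  obtain ⟨W₀, hyW₀, s, rfl⟩ := M.presheaf.exists_germ_eq a
  let W : (V₀ : Scheme.{u}).Opens := V₀.ι ⁻¹ᵁ W₀
  have hW₁ : (U i).ι ''ᵁ (j ''ᵁ W) ≤ W₀ := by
    rintro _ ⟨y', ⟨z, hz, rfl⟩, rfl⟩
    have hz' : (U i).ι (j z) = V₀.ι z := by
      rw [← Scheme.Hom.comp_apply, Scheme.homOfLE_ι]
    show (U i).ι (j z) ∈ W₀
    rw [hz']; exact hz
  have hyW₁ : y ∈ (U i).ι ''ᵁ (j ''ᵁ W) := by
    let y' : (V₀ : Scheme.{u}) := ⟨y, hy⟩
    have hy' : (U i).ι (j y') = V₀.ι y' := by
      rw [← Scheme.Hom.comp_apply, Scheme.homOfLE_ι]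
    exact ⟨j y', ⟨y', hyW₀, rfl⟩, hy'⟩
  have hs : M.presheaf.map (homOfLE hW₁).op s = 0 := by
    have : Subsingleton Γ(R.obj N, W) := subsingleton_sections_of_isZero hz W
    exact Subsingleton.elim (α := Γ(R.obj N, W)) _ _
  rw [← M.presheaf.germ_res_apply (homOfLE hW₁) y hyW₁ s, hs, map_zero]

end Groth.Agent.Lib.Helper20.SuppClosed
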