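import Mathlib
import Groth.Agent.Lib.Helper4DimFormulaAR
import Groth.Agent.Lib.Helper2FlatOver
import Groth.Agent.Lib.Helper20FittSheaf
import Groth.Agent.Lib.Helper28DepthSk
import Groth.Agent.S0020
import Groth.Agent.Lib.Helper23FinType2

/-!
# Rectified depth formula: `dim closure {x} + dim F_x = dim_x Supp F` (helper4)

* `delta_eq_zero_of_isClosed`, `exists_delta_of_locallyOfFiniteType`: the dimension function `δ` on a
  scheme locally of finite type over a Jacobson universally catenary equicodimensional base.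
* `mem_support_stalk_iff`: `𝔮 ∈ Supp F_x ↔ (the point of 𝔮) ∈ Supp F` for coherent `F`.
-/

set_option autoImplicit false
set_option linter.style.haveILetI false

universe u

open AlgebraicGeometry CategoryTheory TopologicalSpace IsLocalRing

namespace Groth.Agent.Lib.Helper4.DimFormula

open Groth.Agent.Lib.Helper4.VarDim Groth.Agent.Lib.Helper4.FibDim

attribute [local instance] Curv2.resAlgebra

theorem delta_eq_zero_of_isClosed {X : Scheme.{u}} (δ : X → ℕ)
    (hδ1 : ∀ σ : X, topologicalKrullDim ↥(closure ({σ} : Set X)) = δ σ) (s : X)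
    (hcl : IsClosed ({s} : Set X)) : δ s = 0 := by
  have h1 := hδ1 s
  rw [hcl.closure_eq] at h1
  have h2 : topologicalKrullDim ↥({s} : Set X) = 0 :=
    le_antisymm (topologicalKrullDim_zero_of_discreteTopology _)
      (haveI : Nonempty ↥({s} : Set X) := ⟨⟨_, rfl⟩⟩
       Groth.Agent.Lib.Helper7.TopDim.topologicalKrullDim_nonneg)
  rw [h2] at h1
  exact_mod_cast h1.symm

theorem exists_delta_of_locallyOfFiniteType {X S : Scheme.{u}} [IsLocallyNoetherian S]
    [JacobsonSpace S]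
    (h2 : ∀ s : S, CAlg.IsUniversallyCatenary (S.presheaf.stalk s))
    (h3 : ∀ S' ∈ irreducibleComponents (S : Type u), ∀ s ∈ S', IsClosed ({s} : Set S) →
      topologicalKrullDim (↥S' : Type u) = topologicalKrullDim ↥{t : S | t ∈ S' ∧ t ⤳ s})
    (g : X ⟶ S) [LocallyOfFiniteType g] :
    ∃ δ : X → ℕ,
      (∀ σ : X, topologicalKrullDim ↥(closure ({σ} : Set X)) = δ σ) ∧
      (∀ (σ x : X) (𝔭 : Ideal (X.presheaf.stalk x)) (h𝔭 : 𝔭.IsPrime),
        X.fromSpecStalk x ⟨𝔭, h𝔭⟩ = σ →
          ringKrullDim (X.presheaf.stalk x ⧸ 𝔭) + (δ x : WithBot ℕ∞) = δ σ) := by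
  obtain ⟨δS, hS1, hS2⟩ := exists_delta S h2 h3
  refine ⟨fun σ => δS (g.base σ) + ptTrdeg g σ, ?_, ?_⟩
  · intro σ
    obtain ⟨Z, ι, hι, hrange⟩ := exists_isClosedImmersion_range_eq X (closure {σ}) isClosed_closure
    have hirr : IsIrreducible (Set.range ι.base) := by
      rw [hrange]
      exact isIrreducible_singleton.closure
    haveI : IrreducibleSpace ↥(Set.range ι.base) := Subtype.irreducibleSpace hirr
    haveI : IrreducibleSpace Z :=
      (ι.isEmbedding.toHomeomorph).irreducibleSpace_iff.mpr inferInstance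
    have hgen : ι.base (genericPoint Z) = σ := by
      have h1 : IsGenericPoint (ι.base (genericPoint Z)) (closure (ι.base '' Set.univ)) :=
        (genericPoint_spec Z).image ι.continuous
      rw [Set.image_univ, hrange, isClosed_closure.closure_eq] at h1
      exact h1.eq isGenericPoint_closure
    have hpgen : (ι ≫ g).base (genericPoint Z) = g.base σ := congrArg g.base hgen
    have h1 := topologicalKrullDim_eq_add_ptTrdeg_genericPoint h2 (ι ≫ g) (δS (g.base σ))
      (fun s hs 𝔭 h𝔭 hpt => by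
        have := hS2 (g.base σ) s 𝔭 h𝔭 (hpt.trans hpgen)
        rw [delta_eq_zero_of_isClosed δS hS1 s hs, Nat.cast_zero, add_zero] at this
        exact this)
    rw [ptTrdeg_comp_of_isPreimmersion ι g, hgen] at h1
    rw [← h1]
    exact (dim_homeomorph ((ι.isEmbedding.toHomeomorph).trans (Homeomorph.setCongr hrange))).symm
  · intro σ x 𝔭 h𝔭 hσ
    subst hσ
    haveI : (𝔭.comap (g.stalkMap x).hom).IsPrime := Ideal.comap_isPrime _ _
    have h1 := ringKrullDim_quotient_add_ptTrdeg_eq g x (h2 (g.base x)) 𝔭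
    have h2' := hS2 (g.base (X.fromSpecStalk x ⟨𝔭, h𝔭⟩)) (g.base x) (𝔭.comap (g.stalkMap x).hom)
      (Ideal.comap_isPrime _ _) (fromSpecStalk_comap_stalkMap g x 𝔭)
    push_cast
    calc ringKrullDim (X.presheaf.stalk x ⧸ 𝔭) + ((δS (g.base x) : WithBot ℕ∞) + (ptTrdeg g x : WithBot ℕ∞))
        = (ringKrullDim (X.presheaf.stalk x ⧸ 𝔭) + (ptTrdeg g x : WithBot ℕ∞)) +
            (δS (g.base x) : WithBot ℕ∞) := by abel
      _ = (ringKrullDim (S.presheaf.stalk (g.base x) ⧸ 𝔭.comap (g.stalkMap x).hom) +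
            (δS (g.base x) : WithBot ℕ∞)) +
            (ptTrdeg g (X.fromSpecStalk x ⟨𝔭, h𝔭⟩) : WithBot ℕ∞) := by rw [h1]; abel
      _ = _ := by rw [h2']

open Groth.Agent.Lib.Helper2.FlatOver in
theorem stalk_facts_of_isCoh {X : Scheme.{u}} (F : X.Modules) (hF : Coh.IsCoh F) (x : X) :
    Module.Finite (X.presheaf.stalk x) (F.presheaf.stalk x) ∧
    ∀ (𝔮 : Ideal (X.presheaf.stalk x)) (h𝔮 : 𝔮.IsPrime),
      ((⟨𝔮, h𝔮⟩ : PrimeSpectrum (X.presheaf.stalk x)) ∈
        Module.support (X.presheaf.stalk x) (F.presheaf.stalk x) ↔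
      X.fromSpecStalk x ⟨𝔮, h𝔮⟩ ∈ CohB1.support F) := by
  haveI : F.IsQuasicoherent := hF.1
  haveI : SheafOfModules.IsFiniteType (R := X.ringCatSheaf) F := hF.2
  obtain ⟨U, hU, hxU, -⟩ := exists_isAffineOpen_mem_and_subset (x := x) (U := ⊤) trivial
  haveI := hU.isLocalization_stalk ⟨x, hxU⟩
  letI algX := X.presheaf.algebra_section_stalk (U := U) ⟨x, hxU⟩
  letI := moduleStalkSections F U x hxU
  haveI : IsScalarTower Γ(X, U) (X.presheaf.stalk x) (F.presheaf.stalk x) := ⟨fun a b y => by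
    change ((X.presheaf.germ U x hxU).hom a * b) • y = (X.presheaf.germ U x hxU).hom a • (b • y)
    exact mul_smul _ _ _⟩
  haveI := isLocalizedModule_germ hU F x hxU
  haveI : Module.Finite Γ(X, U) Γ(F, U) :=
    Groth.Agent.Lib.Helper23.FinType.finite_of_isFiniteType F hU
  refine ⟨?_, ?_⟩
  · exact Module.Finite.of_isLocalizedModule (hU.primeIdealOf ⟨x, hxU⟩).asIdeal.primeCompl
      (Rₚ := X.presheaf.stalk x) (germₗ F U x hxU)
  intro 𝔮 h𝔮
  rw [Groth.Agent.Lib.Helper28.mem_support_isLocalizedModule_iff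
    (hU.primeIdealOf ⟨x, hxU⟩).asIdeal.primeCompl (X.presheaf.stalk x) (germₗ F U x hxU) ⟨𝔮, h𝔮⟩]
  set P : Ideal Γ(X, U) := 𝔮.under Γ(X, U) with hPdef
  haveI : P.IsPrime := Ideal.comap_isPrime _ _
  have hξeq : X.fromSpecStalk x ⟨𝔮, h𝔮⟩ = hU.fromSpec ⟨P, inferInstance⟩ := by
    rw [← hU.fromSpecStalk_eq_fromSpecStalk hxU]
    rfl
  rw [hξeq]
  have hξU : hU.fromSpec ⟨P, inferInstance⟩ ∈ U := fromSpec_mem hU _
  have hPξ : hU.primeIdealOf ⟨hU.fromSpec ⟨P, inferInstance⟩, hξU⟩ = ⟨P, inferInstance⟩ :=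
    primeIdealOf_fromSpec hU _ hξU
  change _ ↔ ¬ Subsingleton (F.presheaf.stalk (hU.fromSpec ⟨P, inferInstance⟩))
  rw [Groth.Agent.Lib.Helper20.FittSheaf.subsingleton_stalk_iff_notMem_support F hU _ hξU, not_not,
    hPξ]
  rfl

/-- `dim_x Y = dim closure {x} + dim {t ∈ Y | t ⤳ x}` for a closed subset `Y` of a scheme locally of
finite type over a Jacobson universally catenary base with equidimensional components. -/
theorem localDim_closed_eq_of_locallyOfFiniteType {X S : Scheme.{u}} [IsLocallyNoetherian S]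
    [JacobsonSpace S]
    (h2 : ∀ s : S, CAlg.IsUniversallyCatenary (S.presheaf.stalk s))
    (h3 : ∀ S' ∈ irreducibleComponents (S : Type u), ∀ s ∈ S', IsClosed ({s} : Set S) →
      topologicalKrullDim (↥S' : Type u) = topologicalKrullDim ↥{t : S | t ∈ S' ∧ t ⤳ s})
    (g : X ⟶ S) [LocallyOfFiniteType g]
    (Y : Set X) (hY : IsClosed Y) (x : X) (hx : x ∈ Y) :
    FlatMor.localDim ↥Y ⟨x, hx⟩ =
        topologicalKrullDim ↥(closure ({x} : Set X)) +
          topologicalKrullDim ↥{t : X | t ∈ Y ∧ t ⤳ x} := by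
  obtain ⟨δ, hδ1, hδ2⟩ := exists_delta_of_locallyOfFiniteType h2 h3 g
  haveI : IsLocallyNoetherian X := LocallyOfFiniteType.isLocallyNoetherian g
  haveI : JacobsonSpace X := LocallyOfFiniteType.jacobsonSpace g
  obtain ⟨Z, ι, hι, hrange⟩ := exists_isClosedImmersion_range_eq X Y hY
  have hxr : x ∈ Set.range ι.base := by rw [hrange]; exact hx
  obtain ⟨z, rfl⟩ := hxr
  set e : Z ≃ₜ ↥Y := (ι.isEmbedding.toHomeomorph).trans (Homeomorph.setCongr hrange) with he
  have hez : e z = ⟨ι.base z, hx⟩ := Subtype.ext rfl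
  have hLD : FlatMor.localDim ↥Y ⟨ι.base z, hx⟩ = FlatMor.localDim Z z := by
    rw [← hez]
    exact (localDim_eq_of_homeomorph e z).symm
  obtain ⟨hloc, -⟩ := localDim_closedSubscheme δ hδ2 ι hδ1 z
  rw [hLD, hloc, hδ1 (ι.base z),
    topologicalKrullDim_setOf_range_specializes ι ι.isEmbedding z Y hrange, add_comm]

/-- `dim {t ∈ Supp F | t ⤳ x} = dim F_x` for a coherent module. -/
theorem topologicalKrullDim_setOf_support_specializes {X : Scheme.{u}} (F : X.Modules)
    (hF : Coh.IsCoh F) (x : X) :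
    topologicalKrullDim ↥{t : X | t ∈ CohB1.support F ∧ t ⤳ x} =
      Module.supportDim (X.presheaf.stalk x) (F.presheaf.stalk x) := by
  obtain ⟨hfin, hsupp⟩ := stalk_facts_of_isCoh F hF x
  haveI := hfin
  set R := X.presheaf.stalk x
  set I : Ideal R := Module.annihilator R (F.presheaf.stalk x) with hI
  rw [Module.supportDim_eq_ringKrullDim_quotient_annihilator,
    ← PrimeSpectrum.topologicalKrullDim_eq_ringKrullDim]
  set ψ : PrimeSpectrum (R ⧸ I) → X := fun q =>
    X.fromSpecStalk x (PrimeSpectrum.comap (Ideal.Quotient.mk I) q) with hψdef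
  have hψ : Topology.IsEmbedding ψ :=
    (X.fromSpecStalk x).isEmbedding.comp
      (PrimeSpectrum.isClosedEmbedding_comap_of_surjective _ _
        Ideal.Quotient.mk_surjective).isEmbedding
  have hrange : Set.range ψ = {t : X | t ∈ CohB1.support F ∧ t ⤳ x} := by
    ext t
    constructor
    · rintro ⟨q, rfl⟩
      refine ⟨?_, fromSpecStalk_specializes x _⟩
      have hq : PrimeSpectrum.comap (Ideal.Quotient.mk I) q ∈
          Set.range (PrimeSpectrum.comap (Ideal.Quotient.mk I)) := ⟨q, rfl⟩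
      rw [_root_.range_comap_of_surjective _ _ Ideal.Quotient.mk_surjective, Ideal.mk_ker,
        ← Module.support_eq_zeroLocus] at hq
      exact (hsupp _ _).mp hq
    · rintro ⟨htY, htx⟩
      have h2 : t ∈ Set.range (X.fromSpecStalk x) := by
        rw [Scheme.range_fromSpecStalk]
        exact htx
      obtain ⟨⟨𝔮, h𝔮⟩, rfl⟩ := h2
      have hq : (⟨𝔮, h𝔮⟩ : PrimeSpectrum R) ∈ Module.support R (F.presheaf.stalk x) :=
        (hsupp 𝔮 h𝔮).mpr htY
      rw [Module.support_eq_zeroLocus, ← hI, ← Ideal.mk_ker (I := I),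
        ← _root_.range_comap_of_surjective _ _ Ideal.Quotient.mk_surjective] at hq
      obtain ⟨q, hq⟩ := hq
      exact ⟨q, congrArg (fun p => X.fromSpecStalk x p) hq⟩
  exact (dim_homeomorph ((hψ.toHomeomorph).trans (Homeomorph.setCongr hrange))).symm

/-- EGA IV 10.8.x: `dim closure {x} + dim F_x = dim_x Supp F`. -/
theorem krullDim_closure_add_supportDim_stalk {X S : Scheme.{u}} [IsLocallyNoetherian S]
    [JacobsonSpace S]
    (h2 : ∀ s : S, CAlg.IsUniversallyCatenary (S.presheaf.stalk s))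
    (h3 : ∀ S' ∈ irreducibleComponents (S : Type u), ∀ s ∈ S', IsClosed ({s} : Set S) →
      topologicalKrullDim (↥S' : Type u) = topologicalKrullDim ↥{t : S | t ∈ S' ∧ t ⤳ s})
    (g : X ⟶ S) [LocallyOfFiniteType g] (F : X.Modules) (hF : Coh.IsCoh F) (x : X)
    (hx : x ∈ CohB1.support F) :
    topologicalKrullDim ↥(closure ({x} : Set X)) +
        Module.supportDim (X.presheaf.stalk x) (F.presheaf.stalk x) =
      FlatMor.localDim ↥(CohB1.support F) ⟨x, hx⟩ := by
  rw [localDim_closed_eq_of_locallyOfFiniteType h2 h3 g (CohB1.support F)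
    (Groth.Agent.S0020.result X F hF.2) x hx, topologicalKrullDim_setOf_support_specializes F hF x]

end Groth.Agent.Lib.Helper4.DimFormula
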