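import Mathlib
import Groth.Agent.Lib.Helper13Tor
import Groth.Agent.Lib.Helper13TorNat
import Groth.Agent.Lib.Helper13TorMore

/-!
# `R`-linearity of `Tor` in the second variable, and a vanishing criterion
-/

set_option autoImplicit false
universe u
open CategoryTheory CategoryTheory.Limits MonoidalCategory

namespace Groth.Agent.Helper13TorLin

open Groth.Agent.Helper13Tor

variable {R : Type u} [CommRing R]

/-- If `r` kills `X` then `Tor_n(X, r • id_N) = 0`. -/
theorem tor_map_smul_eq_zero (X N : ModuleCat.{u} R) (r : R) (hr : ∀ x : X, r • x = 0) (n : ℕ) :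
    ((Tor (ModuleCat.{u} R) n).obj X).map (r • 𝟙 N) = 0 := by
  let P := projectiveResolution N
  have w : (r • 𝟙 P.complex) ≫ P.π = P.π ≫ (ChainComplex.single₀ (ModuleCat.{u} R)).map (r • 𝟙 N) := by
    ext
    simp
    rfl
  have h := Functor.leftDerived_map_eq (tL X) n (r • 𝟙 N) (P := P) (Q := P) (r • 𝟙 P.complex) w
  show ((tL X).leftDerived n).map (r • 𝟙 N) = 0
  rw [h]
  have hz : ((tL X).mapHomologicalComplex (ComplexShape.down ℕ)).map (r • 𝟙 P.complex) = 0 := by
    ext j : 1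
    show (tL X).map ((r • 𝟙 P.complex : P.complex ⟶ P.complex).f j) = 0
    rw [HomologicalComplex.smul_f_apply, HomologicalComplex.id_f]
    apply ModuleCat.hom_ext
    apply TensorProduct.ext'
    intro x p
    show x ⊗ₜ[R] (r • p) = 0
    rw [TensorProduct.tmul_smul, TensorProduct.smul_tmul', hr x, TensorProduct.zero_tmul]
  rw [Functor.comp_map, hz, Functor.map_zero, zero_comp, comp_zero]


/-- If `r` kills `X`, `r` is a nonzerodivisor on `N` and `Tor_{n+1}(X, N/rN) = 0`, then
`Tor_n(X, N) = 0`. -/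
theorem isZero_tor_of_nzd (X N : ModuleCat.{u} R) (r : R) (hX : ∀ x : X, r • x = 0)
    (hN : ∀ y : N, r • y = 0 → y = 0) (n : ℕ)
    (hQ : ∀ Q : ModuleCat.{u} R, IsZero (((Tor (ModuleCat.{u} R) (n + 1)).obj X).obj Q)) :
    IsZero (((Tor (ModuleCat.{u} R) n).obj X).obj N) := by
  have hmono : Mono (r • 𝟙 N : N ⟶ N) := by
    rw [ModuleCat.mono_iff_injective]
    intro y y' hyy
    have h1 : r • y = r • y' := hyy
    have h2 : r • (y - y') = 0 := by rw [smul_sub, h1, sub_self]
    exact sub_eq_zero.1 (hN _ h2)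
  let S : ShortComplex (ModuleCat.{u} R) :=
    ShortComplex.mk (r • 𝟙 N : N ⟶ N) (cokernel.π (r • 𝟙 N : N ⟶ N)) (cokernel.condition _)
  have hS : S.ShortExact :=
    { exact := ShortComplex.exact_cokernel _
      mono_f := hmono
      epi_g := inferInstanceAs (Epi (cokernel.π (r • 𝟙 N : N ⟶ N))) }
  obtain ⟨δ, w₁, w₂, hex₁, hex₂⟩ := tor₂_exists_δ X S hS n
  have : Mono (((Tor (ModuleCat.{u} R) n).obj X).map (r • 𝟙 N : N ⟶ N)) :=
    hex₂.mono_g ((hQ _).eq_of_src _ _)
  exact IsZero.of_mono_eq_zero _ (tor_map_smul_eq_zero X N r hX n)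

end Groth.Agent.Helper13TorLin
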