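import Mathlib
import Groth.Agent.Lib.Helper13Tor
import Groth.Agent.Lib.Helper13TorNat
import Groth.Agent.Lib.Helper13TorMore
import Groth.Agent.Lib.Helper13TorLin

/-!
# Tor and regular sequences: the Auslander–Buchsbaum mechanism

For `X` killed by `r` and `r` regular on `N`, the long exact `Tor(X, -)` sequence of
`0 → N → N → N/rN → 0` breaks into short exact pieces
`0 → Tor_{i+1}(X,N) → Tor_{i+1}(X,N/rN) → Tor_i(X,N) → 0`.
-/

set_option autoImplicit false
universe u
open CategoryTheory CategoryTheory.Limits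
open scoped Pointwise

namespace Groth.Agent.Helper13AB

open Groth.Agent.Helper13Tor Groth.Agent.Helper13TorLin

variable {R : Type u} [CommRing R]

/-- The short complex `N --r--> N --> N/rN`. -/
noncomputable def sesQ (N : Type u) [AddCommGroup N] [Module R N] (r : R) :
    ShortComplex (ModuleCat.{u} R) :=
  ShortComplex.mk (r • 𝟙 (ModuleCat.of R N) : ModuleCat.of R N ⟶ ModuleCat.of R N)
    (ModuleCat.ofHom (Submodule.mkQ (r • (⊤ : Submodule R N))) :
      ModuleCat.of R N ⟶ ModuleCat.of R (QuotSMulTop r N)) (by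
    apply ModuleCat.hom_ext
    apply LinearMap.ext
    intro y
    show Submodule.mkQ (r • (⊤ : Submodule R N)) (r • y) = 0
    rw [Submodule.mkQ_apply, Submodule.Quotient.mk_eq_zero]
    exact Submodule.smul_mem_pointwise_smul y r ⊤ Submodule.mem_top)

theorem sesQ_shortExact (N : Type u) [AddCommGroup N] [Module R N] (r : R)
    (hr : IsSMulRegular N r) : (sesQ N r).ShortExact where
  exact := by
    rw [ShortComplex.ShortExact.moduleCat_exact_iff_function_exact]
    intro y
    show Submodule.mkQ (r • (⊤ : Submodule R N)) y = 0 ↔ y ∈ Set.range fun z : N => r • z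
    rw [Submodule.mkQ_apply, Submodule.Quotient.mk_eq_zero,
      Submodule.mem_smul_pointwise_iff_exists]
    constructor
    · rintro ⟨z, -, rfl⟩
      exact ⟨z, rfl⟩
    · rintro ⟨z, rfl⟩
      exact ⟨z, Submodule.mem_top, rfl⟩
  mono_f := by
    rw [ModuleCat.mono_iff_injective]
    intro y y' hyy
    exact hr hyy
  epi_g := by
    rw [ModuleCat.epi_iff_surjective]
    exact Submodule.mkQ_surjective _

variable (X : ModuleCat.{u} R)

/-- If `r` kills `X`, is regular on `N` and `Tor_i(X,N) ≠ 0` then `Tor_{i+1}(X,N/rN) ≠ 0`. -/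
theorem not_isZero_tor_succ_quot (N : Type u) [AddCommGroup N] [Module R N] (r : R)
    (hX : ∀ x : X, r • x = 0) (hr : IsSMulRegular N r) (i : ℕ)
    (h : ¬ IsZero (((Tor (ModuleCat.{u} R) i).obj X).obj (ModuleCat.of R N))) :
    ¬ IsZero (((Tor (ModuleCat.{u} R) (i + 1)).obj X).obj (ModuleCat.of R (QuotSMulTop r N))) := by
  intro hz
  obtain ⟨δ, w₁, w₂, hex₁, hex₂⟩ := tor₂_exists_δ X (sesQ N r) (sesQ_shortExact N r hr) i
  have h0 : ((Tor (ModuleCat.{u} R) i).obj X).map (sesQ N r).f = 0 :=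
    tor_map_smul_eq_zero X (ModuleCat.of R N) r hX i
  have hepi : Epi δ := hex₂.epi_f h0
  have hδ : δ = 0 := hz.eq_of_src _ _
  exact h (@IsZero.of_epi_eq_zero _ _ _ _ _ δ hepi hδ)

/-- If `r` is regular on `N` and `Tor_{i+1}(X,N) = 0 = Tor_i(X,N)` then `Tor_{i+1}(X,N/rN) = 0`. -/
theorem isZero_tor_succ_quot (N : Type u) [AddCommGroup N] [Module R N] (r : R)
    (hr : IsSMulRegular N r) (i : ℕ)
    (h1 : IsZero (((Tor (ModuleCat.{u} R) (i + 1)).obj X).obj (ModuleCat.of R N)))
    (h0 : IsZero (((Tor (ModuleCat.{u} R) i).obj X).obj (ModuleCat.of R N))) :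
    IsZero (((Tor (ModuleCat.{u} R) (i + 1)).obj X).obj (ModuleCat.of R (QuotSMulTop r N))) :=
  isZero_tor₂_X₃ X (sesQ N r) (sesQ_shortExact N r hr) i h1 h0

/-- Iterated form: along a weakly regular sequence killing `X`, nonvanishing of `Tor` moves up by
the length of the sequence. -/
theorem not_isZero_tor_add_length {M : Type u} [AddCommGroup M] [Module R M] {rs : List R}
    (hrs : RingTheory.Sequence.IsWeaklyRegular M rs) (hX : ∀ r ∈ rs, ∀ x : X, r • x = 0) (i : ℕ)
    (h : ¬ IsZero (((Tor (ModuleCat.{u} R) i).obj X).obj (ModuleCat.of R M))) :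
    ¬ IsZero (((Tor (ModuleCat.{u} R) (i + rs.length)).obj X).obj
      (ModuleCat.of R (M ⧸ (Ideal.ofList rs • (⊤ : Submodule R M))))) := by
  induction hrs generalizing i with
  | nil M =>
    intro hz
    apply h
    have e : (M ⧸ (Ideal.ofList ([] : List R) • (⊤ : Submodule R M))) ≃ₗ[R] M :=
      Submodule.quotEquivOfEqBot _ (by simp)
    exact hz.of_iso ((((Tor (ModuleCat.{u} R) i).obj X).mapIso e.toModuleIso).symm)
  | @cons M _ _ r rs h1 h2 ih =>
    intro hz
    have hstep := not_isZero_tor_succ_quot X M r (hX r (List.mem_cons_self)) h1 i h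
    have := ih (fun r' hr' => hX r' (List.mem_cons_of_mem _ hr')) (i + 1) hstep
    apply this
    have e := Submodule.quotOfListConsSMulTopEquivQuotSMulTopInner M r rs
    have hi : i + 1 + rs.length = i + (r :: rs).length := by
      rw [List.length_cons]; omega
    rw [hi]
    exact hz.of_iso ((((Tor (ModuleCat.{u} R) (i + (r :: rs).length)).obj X).mapIso
      e.toModuleIso).symm)


/-- The short complex `A --f--> M --> M/range f` of an injective linear map. -/
noncomputable def sesInj {A M : Type u} [AddCommGroup A] [Module R A] [AddCommGroup M] [Module R M]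
    (f : A →ₗ[R] M) : ShortComplex (ModuleCat.{u} R) :=
  ShortComplex.mk (ModuleCat.ofHom f : ModuleCat.of R A ⟶ ModuleCat.of R M)
    (ModuleCat.ofHom (Submodule.mkQ (LinearMap.range f)) :
      ModuleCat.of R M ⟶ ModuleCat.of R (M ⧸ LinearMap.range f)) (by
    apply ModuleCat.hom_ext
    apply LinearMap.ext
    intro y
    show Submodule.mkQ (LinearMap.range f) (f y) = 0
    rw [Submodule.mkQ_apply, Submodule.Quotient.mk_eq_zero]
    exact LinearMap.mem_range_self f y)

theorem sesInj_shortExact {A M : Type u} [AddCommGroup A] [Module R A] [AddCommGroup M]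
    [Module R M] (f : A →ₗ[R] M) (hf : Function.Injective f) : (sesInj f).ShortExact where
  exact := by
    rw [ShortComplex.ShortExact.moduleCat_exact_iff_function_exact]
    intro y
    show Submodule.mkQ (LinearMap.range f) y = 0 ↔ y ∈ Set.range f
    rw [Submodule.mkQ_apply, Submodule.Quotient.mk_eq_zero]
    rfl
  mono_f := by
    rw [ModuleCat.mono_iff_injective]
    exact hf
  epi_g := by
    rw [ModuleCat.epi_iff_surjective]
    exact Submodule.mkQ_surjective _

/-- Over a Noetherian ring, if no element of the maximal ideal `𝔪` is regular on the finite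
module `M`, then `R/𝔪` embeds into `M`. -/
theorem exists_injective_of_forall_not_regular [IsNoetherianRing R] (𝔪 : Ideal R) [h𝔪 : 𝔪.IsMaximal]
    (M : Type u) [AddCommGroup M] [Module R M] [Module.Finite R M]
    (h : ∀ x ∈ 𝔪, ¬ IsSMulRegular M x) :
    ∃ f : (R ⧸ 𝔪) →ₗ[R] M, Function.Injective f := by
  classical
  have hfin := associatedPrimes.finite R M
  have hsub : (𝔪 : Set R) ⊆ ⋃ p ∈ (↑hfin.toFinset : Set (Ideal R)), (id p : Ideal R) := by
    intro x hx
    have hx' : x ∈ ⋃ p ∈ associatedPrimes R M, (p : Set R) := by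
      rw [biUnion_associatedPrimes_eq_compl_regular]
      exact h x hx
    simpa using hx'
  rw [Ideal.subset_union_prime (⊥ : Ideal R) ⊥] at hsub
  · obtain ⟨P, hP, hle⟩ := hsub
    rw [Set.Finite.mem_toFinset] at hP
    have hP' : IsAssociatedPrime P M := hP
    rw [isAssociatedPrime_iff] at hP'
    obtain ⟨hprime, x, hx⟩ := hP'
    have hPm : 𝔪 = P := h𝔪.eq_of_le hprime.ne_top hle
    have hker : LinearMap.ker (LinearMap.toSpanSingleton R M x) = 𝔪 := by
      rw [hPm, hx]
      ext r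
      rw [LinearMap.mem_ker, LinearMap.toSpanSingleton_apply, Submodule.mem_colon_singleton,
        Submodule.mem_bot]
    refine ⟨Submodule.liftQ 𝔪 (LinearMap.toSpanSingleton R M x) hker.ge, ?_⟩
    rw [← LinearMap.ker_eq_bot, Submodule.ker_liftQ, hker]
    exact Submodule.mkQ_map_self 𝔪
  · intro P hP _ _
    rw [Set.Finite.mem_toFinset] at hP
    exact hP.1

/-- Nakayama: if `𝔪 M = M` for a finite module `M`, then `Tor_i(R/𝔪, M) = 0` for all `i`. -/
theorem isZero_tor_of_smul_top_eq_top (𝔪 : Ideal R) (M : Type u) [AddCommGroup M] [Module R M]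
    [Module.Finite R M] (h : 𝔪 • (⊤ : Submodule R M) = ⊤) (i : ℕ) :
    IsZero (((Tor (ModuleCat.{u} R) i).obj (ModuleCat.of R (R ⧸ 𝔪))).obj (ModuleCat.of R M)) := by
  obtain ⟨r, hr, hrM⟩ := Submodule.exists_sub_one_mem_and_smul_eq_zero_of_fg_of_le_smul 𝔪
    (⊤ : Submodule R M) Module.Finite.fg_top h.ge
  rw [IsZero.iff_id_eq_zero, ← CategoryTheory.Functor.map_id]
  have h2 : (r • 𝟙 (ModuleCat.of R M) : ModuleCat.of R M ⟶ ModuleCat.of R M) = 0 := by
    apply ModuleCat.hom_ext
    apply LinearMap.ext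
    intro y
    exact hrM y Submodule.mem_top
  have h1 : (𝟙 (ModuleCat.of R M) : ModuleCat.of R M ⟶ ModuleCat.of R M) =
      (1 - r) • 𝟙 (ModuleCat.of R M) := by
    rw [sub_smul, one_smul, h2, sub_zero]
  rw [h1]
  apply tor_map_smul_eq_zero (ModuleCat.of R (R ⧸ 𝔪)) (ModuleCat.of R M) (1 - r) _ i
  intro x
  obtain ⟨s, rfl⟩ := Submodule.Quotient.mk_surjective _ x
  rw [← Submodule.Quotient.mk_smul, Submodule.Quotient.mk_eq_zero]
  have : 1 - r ∈ 𝔪 := by
    have := 𝔪.neg_mem hr
    rwa [neg_sub] at this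
  exact 𝔪.mul_mem_right s this

/-- Elements of `𝔪` kill `R/𝔪`. -/
theorem smul_quot_eq_zero (𝔪 : Ideal R) (r : R) (hr : r ∈ 𝔪)
    (x : (ModuleCat.of R (R ⧸ 𝔪) : ModuleCat.{u} R)) : r • x = 0 := by
  obtain ⟨s, rfl⟩ := Submodule.Quotient.mk_surjective _ x
  rw [← Submodule.Quotient.mk_smul, Submodule.Quotient.mk_eq_zero]
  exact 𝔪.mul_mem_right s hr

/-- Existence of regular sequences from vanishing of `Tor(R/𝔪, -)`, for a ring of
"global dimension `N` at `𝔪`". -/
theorem exists_regular_seq [IsNoetherianRing R] (𝔪 : Ideal R) [h𝔪 : 𝔪.IsMaximal] (N : ℕ)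
    (hN : ∀ (Y : ModuleCat.{u} R) (i : ℕ), N < i →
      IsZero (((Tor (ModuleCat.{u} R) i).obj (ModuleCat.of R (R ⧸ 𝔪))).obj Y))
    (hN' : ¬ IsZero (((Tor (ModuleCat.{u} R) N).obj (ModuleCat.of R (R ⧸ 𝔪))).obj
      (ModuleCat.of R (R ⧸ 𝔪))))
    (d : ℕ) : ∀ (M : Type u) [AddCommGroup M] [Module R M] [Module.Finite R M] (t : ℕ),
      t + d = N →
      (∀ i, t < i →
        IsZero (((Tor (ModuleCat.{u} R) i).obj (ModuleCat.of R (R ⧸ 𝔪))).obj (ModuleCat.of R M))) →
      ∃ rs : List R, RingTheory.Sequence.IsWeaklyRegular M rs ∧ (∀ r ∈ rs, r ∈ 𝔪) ∧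
        rs.length = d := by
  induction d with
  | zero =>
    intro M _ _ _ t _ _
    exact ⟨[], RingTheory.Sequence.IsWeaklyRegular.nil R M, by simp, rfl⟩
  | succ d ih =>
    intro M _ _ _ t ht hM
    have hNM := hM N (by omega)
    obtain ⟨x, hx𝔪, hx⟩ : ∃ x ∈ 𝔪, IsSMulRegular M x := by
      by_contra hcon
      push Not at hcon
      obtain ⟨f, hf⟩ := exists_injective_of_forall_not_regular 𝔪 M hcon
      exact hN' (isZero_tor₂_X₁ _ (sesInj f) (sesInj_shortExact f hf) N
        (hN _ (N + 1) (by omega)) hNM)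
    obtain ⟨rs, hrs, hmem, hlen⟩ := ih (QuotSMulTop x M) (t + 1) (by omega) (by
      intro i hi
      obtain ⟨i', rfl⟩ : ∃ i', i = i' + 1 := ⟨i - 1, by omega⟩
      exact isZero_tor_succ_quot _ M x hx i' (hM _ (by omega)) (hM _ (by omega)))
    refine ⟨x :: rs, RingTheory.Sequence.IsWeaklyRegular.cons hx hrs, ?_, by simp [hlen]⟩
    intro r hr
    rcases List.mem_cons.1 hr with rfl | hr
    · exact hx𝔪
    · exact hmem r hr

end Groth.Agent.Helper13AB
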