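import Mathlib

/-!
# Standard short exact sequences in `ModuleCat` (helper13)
-/

set_option autoImplicit false
universe u
open CategoryTheory

namespace Groth.Agent.Helper13Ses

variable {R : Type u} [CommRing R]

/-- The short complex `ker g --> L --g--> N`. -/
noncomputable def sesKer {L N : Type u} [AddCommGroup L] [Module R L]
    [AddCommGroup N] [Module R N] (g : L →ₗ[R] N) : ShortComplex (ModuleCat.{u} R) :=
  ShortComplex.mk (ModuleCat.ofHom (LinearMap.ker g).subtype :
      ModuleCat.of R (LinearMap.ker g) ⟶ ModuleCat.of R L)
    (ModuleCat.ofHom g : ModuleCat.of R L ⟶ ModuleCat.of R N) (by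
    apply ModuleCat.hom_ext
    apply LinearMap.ext
    intro y
    exact y.2)

theorem sesKer_shortExact {L N : Type u} [AddCommGroup L] [Module R L]
    [AddCommGroup N] [Module R N] (g : L →ₗ[R] N) (hg : Function.Surjective g) :
    (sesKer g).ShortExact where
  exact := by
    rw [ShortComplex.ShortExact.moduleCat_exact_iff_function_exact]
    intro y
    show g y = 0 ↔ y ∈ Set.range (LinearMap.ker g).subtype
    constructor
    · intro hy
      exact ⟨⟨y, hy⟩, rfl⟩
    · rintro ⟨z, rfl⟩
      exact z.2
  mono_f := by
    rw [ModuleCat.mono_iff_injective]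
    exact Submodule.injective_subtype _
  epi_g := by
    rw [ModuleCat.epi_iff_surjective]
    exact hg

/-- The short complex `K → M → M/K` of a submodule. -/
noncomputable def sesSub {M : Type u} [AddCommGroup M] [Module R M] (K : Submodule R M) :
    ShortComplex (ModuleCat.{u} R) :=
  ShortComplex.mk (ModuleCat.ofHom K.subtype : ModuleCat.of R K ⟶ ModuleCat.of R M)
    (ModuleCat.ofHom K.mkQ : ModuleCat.of R M ⟶ ModuleCat.of R (M ⧸ K)) (by
    apply ModuleCat.hom_ext
    apply LinearMap.ext
    intro y
    show K.mkQ (K.subtype y) = 0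
    rw [Submodule.mkQ_apply, Submodule.Quotient.mk_eq_zero]
    exact y.2)

theorem sesSub_shortExact {M : Type u} [AddCommGroup M] [Module R M] (K : Submodule R M) :
    (sesSub K).ShortExact where
  exact := by
    rw [ShortComplex.moduleCat_exact_iff]
    intro y hy
    have hy' : K.mkQ y = 0 := hy
    rw [Submodule.mkQ_apply, Submodule.Quotient.mk_eq_zero] at hy'
    exact ⟨⟨y, hy'⟩, rfl⟩
  mono_f := by
    rw [ModuleCat.mono_iff_injective]
    exact K.injective_subtype
  epi_g := by
    rw [ModuleCat.epi_iff_surjective]
    exact K.mkQ_surjective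

/-- The kernel of a surjection from a projective module onto a module of projective dimension
`< n + 2` has projective dimension `< n + 1`. -/
theorem pdLT_ker {L N : Type u} [AddCommGroup L] [Module R L] [Module.Projective R L]
    [AddCommGroup N] [Module R N] (g : L →ₗ[R] N) (hg : Function.Surjective g) (n : ℕ)
    (h : HasProjectiveDimensionLT (ModuleCat.of R N) (n + 2)) :
    HasProjectiveDimensionLT (ModuleCat.of R (LinearMap.ker g)) (n + 1) :=
  ((sesKer_shortExact g hg).hasProjectiveDimensionLT_X₃_iff n
    ((IsProjective.iff_projective L).1 inferInstance)).1 h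

/-- A submodule `K` of a projective module `M` with `pd (M/K) < n + 2` has `pd K < n + 1`. -/
theorem pdLT_sub {M : Type u} [AddCommGroup M] [Module R M] [Module.Projective R M]
    (K : Submodule R M) (n : ℕ)
    (h : HasProjectiveDimensionLT (ModuleCat.of R (M ⧸ K)) (n + 2)) :
    HasProjectiveDimensionLT (ModuleCat.of R K) (n + 1) :=
  ((sesSub_shortExact K).hasProjectiveDimensionLT_X₃_iff n
    ((IsProjective.iff_projective M).1 inferInstance)).1 h

/-- `pd < 1` means projective. -/
theorem projective_of_pdLT_one {M : Type u} [AddCommGroup M] [Module R M]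
    (h : HasProjectiveDimensionLT (ModuleCat.of R M) 1) : Module.Projective R M :=
  (IsProjective.iff_projective M).2 (projective_iff_hasProjectiveDimensionLT_one.2 h)

end Groth.Agent.Helper13Ses
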