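import Mathlib
import Groth.Agent.Lib.Helper13TorNat

/-!
# Naturality (in the short exact sequence) of the connecting maps of `Tor` in the first variable
(helper13)
-/

set_option autoImplicit false
universe u
open CategoryTheory CategoryTheory.Limits MonoidalCategory

namespace Groth.Agent.Helper13Tor

variable {R : Type u} [CommRing R]

theorem tCmap_comp {X X' X'' : ModuleCat.{u} R} (f : X ⟶ X') (g : X' ⟶ X'')
    (Q : ChainComplex (ModuleCat.{u} R) ℕ) : tCmap (f ≫ g) Q = tCmap f Q ≫ tCmap g Q := by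
  refine HomologicalComplex.hom_ext _ _ fun j => ?_
  show ((tensoringLeft (ModuleCat.{u} R)).map (f ≫ g)).app (Q.X j) =
    ((tensoringLeft (ModuleCat.{u} R)).map f).app (Q.X j) ≫
      ((tensoringLeft (ModuleCat.{u} R)).map g).app (Q.X j)
  rw [Functor.map_comp, NatTrans.comp_app]

/-- morphism `S ⊗ Q ⟶ S' ⊗ Q` induced by `φ : S ⟶ S'`. -/
noncomputable def tSCmap₁ {S S' : ShortComplex (ModuleCat.{u} R)} (φ : S ⟶ S')
    (Q : ChainComplex (ModuleCat.{u} R) ℕ) : tSC S Q ⟶ tSC S' Q where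
  τ₁ := tCmap φ.τ₁ Q
  τ₂ := tCmap φ.τ₂ Q
  τ₃ := tCmap φ.τ₃ Q
  comm₁₂ := by
    show tCmap φ.τ₁ Q ≫ tCmap S'.f Q = tCmap S.f Q ≫ tCmap φ.τ₂ Q
    rw [← tCmap_comp, ← tCmap_comp, φ.comm₁₂]
  comm₂₃ := by
    show tCmap φ.τ₂ Q ≫ tCmap S'.g Q = tCmap S.g Q ≫ tCmap φ.τ₃ Q
    rw [← tCmap_comp, ← tCmap_comp, φ.comm₂₃]

/-- naturality of the connecting map in the short exact sequence. -/
theorem δQ_naturality₁ {S S' : ShortComplex (ModuleCat.{u} R)} (φ : S ⟶ S')
    (hS : S.ShortExact) (hS' : S'.ShortExact) {Y : ModuleCat.{u} R} (Q : ProjectiveResolution Y)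
    (n : ℕ) :
    δQ S hS Q n ≫ ((Tor (ModuleCat.{u} R) n).map φ.τ₁).app Y =
      ((Tor (ModuleCat.{u} R) (n + 1)).map φ.τ₃).app Y ≫ δQ S' hS' Q n := by
  have h3 : (tSC_shortExact S hS Q.complex (fun j => Q.projective j)).δ (n + 1) n rfl ≫
      HomologicalComplex.homologyMap (tCmap φ.τ₁ Q.complex) n =
      HomologicalComplex.homologyMap (tCmap φ.τ₃ Q.complex) (n + 1) ≫
        (tSC_shortExact S' hS' Q.complex (fun j => Q.projective j)).δ (n + 1) n rfl :=
    Helper13DeltaNat.δ_naturality (tSCmap₁ φ Q.complex)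
      (tSC_shortExact S hS Q.complex (fun j => Q.projective j))
      (tSC_shortExact S' hS' Q.complex (fun j => Q.projective j)) (n + 1) n rfl
  rw [tor_map_app_eq Q φ.τ₁ n, tor_map_app_eq Q φ.τ₃ (n + 1)]
  unfold δQ
  simp only [Category.assoc, Iso.inv_hom_id_assoc]
  rw [reassoc_of% h3]

/-- `Tor_0(f, Y)` is a monomorphism iff `f ⊗ Y` is injective. -/
theorem mono_tor_zero_map₁_iff {X X' : ModuleCat.{u} R} (f : X ⟶ X') (Y : ModuleCat.{u} R) :
    Mono (((Tor (ModuleCat.{u} R) 0).map f).app Y) ↔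
      Function.Injective (LinearMap.rTensor Y f.hom) := by
  let e₁ := (torZeroIso.app X).app Y
  let e₂ := (torZeroIso.app X').app Y
  have hn : ((Tor (ModuleCat.{u} R) 0).map f).app Y ≫ e₂.hom =
      e₁.hom ≫ ((tensoringLeft (ModuleCat.{u} R)).map f).app Y := by
    have := congr_arg (fun t => t.app Y) (torZeroIso.hom.naturality f)
    exact this
  have key : Mono (((tensoringLeft (ModuleCat.{u} R)).map f).app Y) ↔
      Function.Injective (LinearMap.rTensor Y f.hom) :=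
    ModuleCat.mono_iff_injective _
  rw [← key]
  have h' : ((tensoringLeft (ModuleCat.{u} R)).map f).app Y =
      e₁.inv ≫ ((Tor (ModuleCat.{u} R) 0).map f).app Y ≫ e₂.hom := by
    rw [hn, Iso.inv_hom_id_assoc]
  have h'' : ((Tor (ModuleCat.{u} R) 0).map f).app Y =
      e₁.hom ≫ ((tensoringLeft (ModuleCat.{u} R)).map f).app Y ≫ e₂.inv := by
    rw [← Category.assoc, ← hn, Category.assoc, Iso.hom_inv_id, Category.comp_id]
  constructor
  · intro h
    rw [h']
    exact mono_comp _ _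
  · intro h
    rw [h'']
    exact mono_comp _ _

/-- For a morphism of short exact sequences `φ : S ⟶ S'` with `φ.τ₁` an isomorphism and
`Tor_1(φ.τ₃, Y) = 0`, the map `S.f ⊗ Y` is injective. -/
theorem rTensor_injective_of_tor_one_map_eq_zero {S S' : ShortComplex (ModuleCat.{u} R)}
    (φ : S ⟶ S') (hS : S.ShortExact) (hS' : S'.ShortExact) [IsIso φ.τ₁] (Y : ModuleCat.{u} R)
    (h : ((Tor (ModuleCat.{u} R) 1).map φ.τ₃).app Y = 0) :
    Function.Injective (LinearMap.rTensor Y S.f.hom) := by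
  rw [← mono_tor_zero_map₁_iff]
  obtain ⟨Q⟩ : Nonempty (ProjectiveResolution Y) := ⟨projectiveResolution Y⟩
  have hnat := δQ_naturality₁ φ hS hS' Q 0
  have h' : ((Tor (ModuleCat.{u} R) (0 + 1)).map φ.τ₃).app Y = 0 := h
  rw [h', zero_comp] at hnat
  have h1 : IsIso ((Tor (ModuleCat.{u} R) 0).map φ.τ₁) := Functor.map_isIso _ _
  have hiso : IsIso (((Tor (ModuleCat.{u} R) 0).map φ.τ₁).app Y) :=
    NatIso.isIso_app_of_isIso _ Y
  have hδ : δQ S hS Q 0 = 0 := (Preadditive.IsIso.comp_right_eq_zero _ _).1 hnat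
  exact (δQ_exact₁ S hS Q 0).mono_g hδ

end Groth.Agent.Helper13Tor
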