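import Mathlib
import Groth.Agent.Lib.Helper13AB
import Groth.Agent.Lib.Helper13TorD1
import Groth.Agent.Lib.Helper13Ses

/-!
# Projective dimension and `Tor` against the residue field over a Noetherian local ring (helper13)

* `isZero_tor_of_pdLT₁`, `isZero_tor_of_pdLT₂` : `Tor_i(M,N) = 0` for `i > pd M` resp. `i > pd N`.
* `free_of_isZero_tor_one` : a finite module with `Tor_1(M,k) = 0` is free.
* `pdLT_of_isZero_tor` : if `pd M ≤ q` and `Tor_q(M,k) = 0` then `pd M < q`.
-/

set_option autoImplicit false
universe u
open CategoryTheory CategoryTheory.Limits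

namespace Groth.Agent.Helper13ABLocal

open Groth.Agent.Helper13Tor Groth.Agent.Helper13Ses

variable {R : Type u} [CommRing R]

/-- `Tor_i(M, N) = 0` for `i > q` when `pd M ≤ q` (first variable). -/
theorem isZero_tor_of_pdLT₁ (N : ModuleCat.{u} R) (q : ℕ) :
    ∀ (M : ModuleCat.{u} R), HasProjectiveDimensionLT M (q + 1) → ∀ (i : ℕ), q < i →
      IsZero (((Tor (ModuleCat.{u} R) i).obj M).obj N) := by
  induction q with
  | zero =>
    intro M hM i hi
    have : Projective M := projective_iff_hasProjectiveDimensionLT_one.2 hM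
    exact isZero_tor_of_flat N M i hi
  | succ q ih =>
    intro M hM i hi
    obtain ⟨j, rfl⟩ : ∃ j, i = j + 1 := ⟨i - 1, by omega⟩
    let π := Projective.π M
    let S : ShortComplex (ModuleCat.{u} R) := ShortComplex.mk (kernel.ι π) π (kernel.condition π)
    have hS : S.ShortExact := by
      have hex : S.Exact := ShortComplex.exact_of_f_is_kernel _ (kernelIsKernel π)
      have : Mono S.f := inferInstanceAs (Mono (kernel.ι π))
      have : Epi S.g := inferInstanceAs (Epi (Projective.π M))
      exact ShortComplex.ShortExact.mk hex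
    have hP : Projective S.X₂ := inferInstanceAs (Projective (Projective.over M))
    have hM' : HasProjectiveDimensionLT S.X₃ (q + 2) := hM
    have hK : HasProjectiveDimensionLT S.X₁ (q + 1) :=
      (hS.hasProjectiveDimensionLT_X₃_iff q hP).1 hM'
    refine isZero_tor_X₃ S hS N j ?_ ?_
    · exact isZero_tor_of_flat N S.X₂ (j + 1) (by omega)
    · exact ih S.X₁ hK j (by omega)

/-- `Tor_i(M, N) = 0` for `i > q` when `pd N ≤ q` (second variable). -/
theorem isZero_tor_of_pdLT₂ (M : ModuleCat.{u} R) (q : ℕ) :
    ∀ (N : ModuleCat.{u} R), HasProjectiveDimensionLT N (q + 1) → ∀ (i : ℕ), q < i →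
      IsZero (((Tor (ModuleCat.{u} R) i).obj M).obj N) := by
  induction q with
  | zero =>
    intro N hN i hi
    obtain ⟨j, rfl⟩ : ∃ j, i = j + 1 := ⟨i - 1, by omega⟩
    have : Projective N := projective_iff_hasProjectiveDimensionLT_one.2 hN
    exact Functor.isZero_leftDerived_obj_projective_succ _ j _
  | succ q ih =>
    intro N hN i hi
    obtain ⟨j, rfl⟩ : ∃ j, i = j + 1 := ⟨i - 1, by omega⟩
    let π := Projective.π N
    let S : ShortComplex (ModuleCat.{u} R) := ShortComplex.mk (kernel.ι π) π (kernel.condition π)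
    have hS : S.ShortExact := by
      have hex : S.Exact := ShortComplex.exact_of_f_is_kernel _ (kernelIsKernel π)
      have : Mono S.f := inferInstanceAs (Mono (kernel.ι π))
      have : Epi S.g := inferInstanceAs (Epi (Projective.π N))
      exact ShortComplex.ShortExact.mk hex
    have hP : Projective S.X₂ := inferInstanceAs (Projective (Projective.over N))
    have hN' : HasProjectiveDimensionLT S.X₃ (q + 2) := hN
    have hK : HasProjectiveDimensionLT S.X₁ (q + 1) :=
      (hS.hasProjectiveDimensionLT_X₃_iff q hP).1 hN'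
    refine isZero_tor₂_X₃ M S hS j ?_ ?_
    · exact Functor.isZero_leftDerived_obj_projective_succ _ j _
    · exact ih S.X₁ hK j (by omega)

section local_

variable [IsLocalRing R] [IsNoetherianRing R]

/-- the residue field as an object of `ModuleCat R`. -/
noncomputable abbrev kk (R : Type u) [CommRing R] [IsLocalRing R] : ModuleCat.{u} R :=
  ModuleCat.of R (R ⧸ IsLocalRing.maximalIdeal R)

/-- A finite module over a Noetherian local ring with `Tor_1(M, k) = 0` is free. -/
theorem free_of_isZero_tor_one (M : Type u) [AddCommGroup M] [Module R M] [Module.Finite R M]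
    (h : IsZero (((Tor (ModuleCat.{u} R) 1).obj (ModuleCat.of R M)).obj (kk R))) :
    Module.Free R M := by
  obtain ⟨n, π, hπ⟩ := Module.Finite.exists_fin' R M
  obtain ⟨Q⟩ : Nonempty (ProjectiveResolution (kk R)) := ⟨projectiveResolution (kk R)⟩
  have hS := sesKer_shortExact π hπ
  have hδ : δQ (sesKer π) hS Q 0 = 0 := h.eq_of_src _ _
  have hmono : Mono (((Tor (ModuleCat.{u} R) 0).map (sesKer π).f).app (kk R)) :=
    (δQ_exact₁ (sesKer π) hS Q 0).mono_g hδ
  rw [mono_tor_zero_map₁_iff] at hmono
  have hmono' : Function.Injective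
      (LinearMap.rTensor (R ⧸ IsLocalRing.maximalIdeal R) (LinearMap.ker π).subtype) := hmono
  rw [← LinearMap.lTensor_inj_iff_rTensor_inj] at hmono'
  exact Module.free_of_lTensor_residueField_injective (LinearMap.ker π).subtype π hπ
    (LinearMap.exact_subtype_ker_map π) hmono'

/-- `M ⊗ k ≠ 0` for a nontrivial finite module. -/
theorem not_isZero_tor_zero_residue (M : Type u) [AddCommGroup M] [Module R M] [Module.Finite R M]
    [Nontrivial M] :
    ¬ IsZero (((Tor (ModuleCat.{u} R) 0).obj (ModuleCat.of R M)).obj (kk R)) := by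
  intro hz
  have e1 : ((Tor (ModuleCat.{u} R) 0).obj (ModuleCat.of R M)).obj (kk R) ≅
      MonoidalCategory.tensorObj (ModuleCat.of R M) (kk R) :=
    (torZeroIso.app (ModuleCat.of R M)).app (kk R)
  have hz' : IsZero (MonoidalCategory.tensorObj (ModuleCat.of R M) (kk R)) := hz.of_iso e1.symm
  have hsub : Subsingleton (TensorProduct R M (R ⧸ IsLocalRing.maximalIdeal R)) :=
    ModuleCat.subsingleton_of_isZero hz'
  have e2 := TensorProduct.tensorQuotEquivQuotSMul M (IsLocalRing.maximalIdeal R)
  have hsub' : Subsingleton (M ⧸ IsLocalRing.maximalIdeal R • (⊤ : Submodule R M)) :=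
    e2.symm.injective.subsingleton
  have htop : IsLocalRing.maximalIdeal R • (⊤ : Submodule R M) = ⊤ :=
    Submodule.Quotient.subsingleton_iff.1 hsub'
  exact (Submodule.top_ne_ideal_smul_of_le_jacobson_annihilator
    (IsLocalRing.maximalIdeal_le_jacobson _)).symm htop

/-- If `pd M ≤ q` and `Tor_q(M, k) = 0` then `pd M < q`. -/
theorem pdLT_of_isZero_tor (q : ℕ) : ∀ (M : Type u) [AddCommGroup M] [Module R M]
    [Module.Finite R M], HasProjectiveDimensionLT (ModuleCat.of R M) (q + 1) →
    IsZero (((Tor (ModuleCat.{u} R) q).obj (ModuleCat.of R M)).obj (kk R)) →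
    HasProjectiveDimensionLT (ModuleCat.of R M) q := by
  induction q with
  | zero =>
    intro M _ _ _ _ hz
    by_cases hM : Subsingleton M
    · exact (ModuleCat.isZero_of_subsingleton _).hasProjectiveDimensionLT_zero
    · rw [not_subsingleton_iff_nontrivial] at hM
      exact absurd hz (not_isZero_tor_zero_residue M)
  | succ q ih =>
    intro M _ _ _ hpd hz
    rcases Nat.eq_zero_or_pos q with rfl | hq
    · have : Module.Free R M := free_of_isZero_tor_one M hz
      exact projective_iff_hasProjectiveDimensionLT_one.1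
        ((IsProjective.iff_projective M).1 inferInstance)
    · obtain ⟨q', rfl⟩ : ∃ q', q = q' + 1 := ⟨q - 1, by omega⟩
      obtain ⟨n, π, hπ⟩ := Module.Finite.exists_fin' R M
      have hS := sesKer_shortExact π hπ
      have hK : HasProjectiveDimensionLT (ModuleCat.of R (LinearMap.ker π)) (q' + 1 + 1) :=
        pdLT_ker π hπ (q' + 1) hpd
      have hzK : IsZero (((Tor (ModuleCat.{u} R) (q' + 1)).obj
          (ModuleCat.of R (LinearMap.ker π))).obj (kk R)) := by
        refine isZero_tor_X₁ (sesKer π) hS (kk R) (q' + 1) hz ?_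
        exact isZero_tor_of_flat (kk R) (ModuleCat.of R (Fin n → R)) (q' + 1) (by omega)
      have hK' := ih (LinearMap.ker π) hK hzK
      exact (hS.hasProjectiveDimensionLT_X₃_iff q'
        ((IsProjective.iff_projective (Fin n → R)).1 inferInstance)).2 hK'

end local_

end Groth.Agent.Helper13ABLocal
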