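import Mathlib
import Groth.Agent.Lib.Helper4DimFormulaAS
import Groth.Agent.Lib.Helper5RLR3
import Groth.Agent.S0563
import Groth.Agent.S0604

/-!
# Rectified depth on regular biequidimensional schemes (helper4)

* `depth_add_projectiveDimension_eq_ringKrullDim`: Auslander–Buchsbaum over a regular local ring.
* `ringKrullDim_stalk_add_dim_closure_eq`: `dim O_{X,x} + dim closure{x} = dim X` on a
  biequidimensional scheme at a point whose local ring is a domain.
-/

set_option autoImplicit false
set_option linter.style.haveILetI false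

universe u

open AlgebraicGeometry CategoryTheory TopologicalSpace IsLocalRing

namespace Groth.Agent.Lib.Helper4.DimFormula

section Ring

variable (R : Type u) [CommRing R] [IsRegularLocalRing R] (M : Type u) [AddCommGroup M] [Module R M]
  [Module.Finite R M] [Nontrivial M]

omit [Module.Finite R M] in
theorem exists_nat_projectiveDimension_eq :
    ∃ e : ℕ, projectiveDimension (ModuleCat.of R M) = e := by
  obtain ⟨n, hn⟩ := exists_nat_ringKrullDim_eq R
  have h1 := Groth.Agent.S0563.result R n hn M
  have h2 : projectiveDimension (ModuleCat.of R M) < ((n + 1 : ℕ) : WithBot ℕ∞) :=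
    projectiveDimension_lt_iff.mpr h1
  have h3 : projectiveDimension (ModuleCat.of R M) ≠ ⊥ := by
    rw [Ne, projectiveDimension_eq_bot_iff, ModuleCat.isZero_iff_subsingleton]
    exact not_subsingleton M
  generalize projectiveDimension (ModuleCat.of R M) = a at h2 h3
  induction a using WithBot.recBotCoe with
  | bot => exact absurd rfl h3
  | coe m =>
    induction m using ENat.recTopCoe with
    | top => exact absurd h2 (by simp)
    | coe k => exact ⟨k, rfl⟩

theorem depth_add_projectiveDimension_eq_ringKrullDim :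
    ((LocCoh.depth R M : ℕ∞) : WithBot ℕ∞) + projectiveDimension (ModuleCat.of R M) =
      ringKrullDim R := by
  obtain ⟨e, he⟩ := exists_nat_projectiveDimension_eq R M
  have hAB := Groth.Agent.S0604.result R M e he
  have hCM : Module.supportDim R R = ((LocCoh.depth R R : ℕ∞) : WithBot ℕ∞) :=
    (Groth.Agent.Lib.Helper5.isCohenMacaulayLocalRing_of_isRegularLocalRing
      (R := R)).supportDim_eq_depth
  rw [Module.supportDim_self_eq_ringKrullDim] at hCM
  rw [hCM, he, hAB]
  push_cast
  exact add_comm _ _

end Ring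

section Sch

/-- On a biequidimensional scheme, `dim closure{x} + dim O_{X,x} = dim X` at every point whose local
ring is a domain. -/
theorem dim_closure_add_ringKrullDim_stalk_eq (X : Scheme.{u})
    (hcomp : ∀ C ∈ irreducibleComponents (X : Type u),
      topologicalKrullDim ↥C = topologicalKrullDim X)
    (hchain : ∀ (y : X) (T : Set X), IsClosed T → IsIrreducible T → y ∈ T →
      topologicalKrullDim ↥T = topologicalKrullDim ↥(closure ({y} : Set X)) +
        topologicalKrullDim ↥{t : X | t ∈ T ∧ t ⤳ y})
    (x : X) [IsDomain (X.presheaf.stalk x)] :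
    topologicalKrullDim ↥(closure ({x} : Set X)) + ringKrullDim (X.presheaf.stalk x) =
      topologicalKrullDim X := by
  haveI : (⊥ : Ideal (X.presheaf.stalk x)).IsPrime := Ideal.isPrime_bot
  obtain ⟨ξ, hξdef⟩ : ∃ ξ : X, ξ = X.fromSpecStalk x ⟨⊥, Ideal.isPrime_bot⟩ := ⟨_, rfl⟩
  have hξmax : ∀ z : X, z ⤳ ξ → z = ξ := by
    rw [hξdef]
    exact bot_fromSpecStalk_maximal x
  have hT : closure ({ξ} : Set X) ∈ irreducibleComponents (X : Type u) :=
    mem_irreducibleComponents_of_forall_specializes ξ hξmax
  have hξx : ξ ⤳ x := by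
    rw [hξdef]
    exact fromSpecStalk_specializes x _
  have h1 := hchain x (closure {ξ}) isClosed_closure isIrreducible_singleton.closure
    hξx.mem_closure
  rw [hcomp _ hT] at h1
  have hset : {t : X | t ∈ closure ({ξ} : Set X) ∧ t ⤳ x} =
      {t : X | t ∈ (Set.univ : Set X) ∧ t ⤳ (𝟙 X : X ⟶ X).base x} := by
    ext t
    constructor
    · rintro ⟨-, h⟩
      exact ⟨trivial, h⟩
    · rintro ⟨-, h⟩
      have h' : t ⤳ x := h
      refine ⟨?_, h'⟩
      have h2 : t ∈ Set.range (X.fromSpecStalk x) := by
        rw [Scheme.range_fromSpecStalk]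
        exact h'
      obtain ⟨⟨𝔭, h𝔭⟩, rfl⟩ := h2
      rw [hξdef]
      exact ((fromSpecStalk_specializes_iff x ⊥ 𝔭).mpr bot_le).mem_closure
  have h3 := topologicalKrullDim_setOf_range_specializes (𝟙 X) Topology.IsEmbedding.id x Set.univ
    (by rw [Set.range_eq_univ]; exact Function.surjective_id)
  rw [h1, hset, h3]

/-- EGA IV 10.8.x: `prof F_x + dim closure{x} + pd F_x = dim X` on a regular biequidimensional
scheme. -/
theorem rectifiedDepth_add_projectiveDimension_eq (X : Scheme.{u})
    (hreg : ∀ x : X, IsRegularLocalRing ↑(X.presheaf.stalk x))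
    (hcomp : ∀ C ∈ irreducibleComponents (X : Type u),
      topologicalKrullDim ↥C = topologicalKrullDim X)
    (hchain : ∀ (y : X) (T : Set X), IsClosed T → IsIrreducible T → y ∈ T →
      topologicalKrullDim ↥T = topologicalKrullDim ↥(closure ({y} : Set X)) +
        topologicalKrullDim ↥{t : X | t ∈ T ∧ t ⤳ y})
    (F : X.Modules) (hF : Coh.IsCoh F) (x : X) (hx : x ∈ CohB1.support F) :
    ((LocCoh.depth ↑(X.presheaf.stalk x) ↑(F.presheaf.stalk x) : ℕ∞) : WithBot ℕ∞) +
        topologicalKrullDim ↥(closure ({x} : Set X)) +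
        projectiveDimension (ModuleCat.of ↑(X.presheaf.stalk x) ↑(F.presheaf.stalk x)) =
      topologicalKrullDim X := by
  haveI := hreg x
  haveI : IsDomain (X.presheaf.stalk x) :=
    Groth.Agent.Lib.Helper5.isDomain_of_isRegularLocalRing (X.presheaf.stalk x)
  obtain ⟨hfinM, -⟩ := stalk_facts_of_isCoh F hF x
  haveI := hfinM
  haveI : Nontrivial (F.presheaf.stalk x) := not_subsingleton_iff_nontrivial.mp hx
  have h1 := depth_add_projectiveDimension_eq_ringKrullDim (X.presheaf.stalk x)
    (F.presheaf.stalk x)
  have h2 := dim_closure_add_ringKrullDim_stalk_eq X hcomp hchain x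
  rw [← h2, ← h1]
  abel

end Sch

end Groth.Agent.Lib.Helper4.DimFormula
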