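import Mathlib
import Groth.Agent.Lib.Helper4DimFormulaAV
import Groth.Agent.Lib.Helper28DepthBC
import Groth.Agent.S2677
import Groth.Agent.Lib.Helper28DepthLoc

/-!
# Lower semicontinuity of the rectified depth on regular biequidimensional schemes (helper4)
-/

set_option autoImplicit false
set_option linter.style.haveILetI false

universe u

open AlgebraicGeometry CategoryTheory TopologicalSpace IsLocalRing

namespace Groth.Agent.Lib.Helper4.DimFormula

section Ring

variable {A : Type u} [CommRing A] [IsNoetherianRing A] (p : Ideal A) [p.IsPrime]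
  (R' : Type u) [CommRing R'] [Algebra A R'] [IsLocalization.AtPrime R' p] [IsLocalRing R']
  {M M' : Type u} [AddCommGroup M] [Module A M] [Module.Finite A M] [AddCommGroup M']
  [Module A M'] [Module R' M'] [IsScalarTower A R' M']
  (f : M →ₗ[A] M') [IsLocalizedModule p.primeCompl f]

include f in
theorem depth_eq_depth_localization :
    LocCoh.depth R' M' =
      LocCoh.depth (Localization.AtPrime p) (LocalizedModule p.primeCompl M) := by
  let e₁ : Localization.AtPrime p ≃ₐ[A] R' := IsLocalization.algEquiv p.primeCompl _ _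
  letI : Algebra (Localization.AtPrime p) R' := (e₁ : Localization.AtPrime p →+* R').toAlgebra
  letI : Module (Localization.AtPrime p) M' :=
    Module.compHom M' (e₁ : Localization.AtPrime p →+* R')
  haveI : IsScalarTower (Localization.AtPrime p) R' M' := ⟨fun a b m => by
    change (e₁ a * b) • m = e₁ a • (b • m)
    exact mul_smul _ _ _⟩
  haveI : IsScalarTower A (Localization.AtPrime p) M' := ⟨fun a b m => by
    change e₁ (a • b) • m = a • (e₁ b • m)
    rw [map_smul, smul_assoc]⟩
  haveI : IsLocalHom (algebraMap (Localization.AtPrime p) R') := by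
    change IsLocalHom ((e₁ : Localization.AtPrime p ≃+* R') : Localization.AtPrime p →+* R')
    exact isLocalHom_toRingHom _
  haveI : IsNoetherianRing R' := isNoetherianRing_of_ringEquiv _ (e₁ : Localization.AtPrime p ≃+* R')
  haveI : Module.Finite (Localization.AtPrime p) M' :=
    Module.Finite.of_isLocalizedModule p.primeCompl (Rₚ := Localization.AtPrime p) f
  let e₂ : LocalizedModule p.primeCompl M ≃ₗ[A] M' := IsLocalizedModule.iso p.primeCompl f
  let e₂' : LocalizedModule p.primeCompl M ≃ₗ[Localization.AtPrime p] M' :=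
    e₂.extendScalarsOfIsLocalization p.primeCompl (Localization.AtPrime p)
  have h1 : LocCoh.depth (Localization.AtPrime p) (LocalizedModule p.primeCompl M) =
      LocCoh.depth (Localization.AtPrime p) M' :=
    Groth.Agent.Lib.Helper28.idealDepth_congr e₂' _
  rw [h1]
  exact (Groth.Agent.Lib.Helper28.depth_eq_depth_of_isLocalHom_of_finite
    (A := Localization.AtPrime p) (B := R') (M := M')).symm

end Ring

section Sch

open Groth.Agent.Lib.Helper2.FlatOver

variable {X : Scheme.{u}} {U : X.Opens} (hU : IsAffineOpen U) (F : X.Modules) [F.IsQuasicoherent]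

include hU in
theorem stalk_vs_localization [IsNoetherianRing Γ(X, U)] [Module.Finite Γ(X, U) Γ(F, U)] (y : X)
    (hyU : y ∈ U) :
    Nonempty (Localization.AtPrime (hU.primeIdealOf ⟨y, hyU⟩).asIdeal ≃+* X.presheaf.stalk y) ∧
    LocCoh.depth (X.presheaf.stalk y) (F.presheaf.stalk y) =
      LocCoh.depth (Localization.AtPrime (hU.primeIdealOf ⟨y, hyU⟩).asIdeal)
        (LocalizedModule (hU.primeIdealOf ⟨y, hyU⟩).asIdeal.primeCompl Γ(F, U)) ∧
    (Nontrivial (F.presheaf.stalk y) →
      Nontrivial (LocalizedModule (hU.primeIdealOf ⟨y, hyU⟩).asIdeal.primeCompl Γ(F, U))) := by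
  haveI := hU.isLocalization_stalk ⟨y, hyU⟩
  letI algX := X.presheaf.algebra_section_stalk (U := U) ⟨y, hyU⟩
  letI := moduleStalkSections F U y hyU
  haveI : IsScalarTower Γ(X, U) (X.presheaf.stalk y) (F.presheaf.stalk y) := ⟨fun a b z => by
    change ((X.presheaf.germ U y hyU).hom a * b) • z = (X.presheaf.germ U y hyU).hom a • (b • z)
    exact mul_smul _ _ _⟩
  haveI := isLocalizedModule_germ hU F y hyU
  refine ⟨⟨(IsLocalization.algEquiv (hU.primeIdealOf ⟨y, hyU⟩).asIdeal.primeCompl _ _).toRingEquiv⟩,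
    depth_eq_depth_localization (hU.primeIdealOf ⟨y, hyU⟩).asIdeal (X.presheaf.stalk y)
      (germₗ F U y hyU), fun h => ?_⟩
  exact (IsLocalizedModule.iso (hU.primeIdealOf ⟨y, hyU⟩).asIdeal.primeCompl
    (germₗ F U y hyU)).toEquiv.nontrivial

/-- EGA IV 10.8.x: on a regular biequidimensional scheme the rectified depth
`x ↦ prof F_x + dim closure{x}` is lower semicontinuous. -/
theorem isOpen_setOf_le_rectifiedDepth_of_regular (X : Scheme.{u}) [IsNoetherian X]
    (hreg : ∀ x : X, IsRegularLocalRing ↑(X.presheaf.stalk x))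
    (hfin : topologicalKrullDim X < ⊤)
    (hcomp : ∀ C ∈ irreducibleComponents (X : Type u),
      topologicalKrullDim ↥C = topologicalKrullDim X)
    (hchain : ∀ (y : X) (T : Set X), IsClosed T → IsIrreducible T → y ∈ T →
      topologicalKrullDim ↥T = topologicalKrullDim ↥(closure ({y} : Set X)) +
        topologicalKrullDim ↥{t : X | t ∈ T ∧ t ⤳ y})
    (F : X.Modules) (hF : Coh.IsCoh F) (n : ℕ) :
    IsOpen {x : X | (n : WithBot ℕ∞) ≤
      ((LocCoh.depth ↑(X.presheaf.stalk x) ↑(F.presheaf.stalk x) : ℕ∞) : WithBot ℕ∞) +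
        topologicalKrullDim ↥(closure ({x} : Set X))} := by
  haveI : F.IsQuasicoherent := hF.1
  haveI : SheafOfModules.IsFiniteType (R := X.ringCatSheaf) F := hF.2
  rw [isOpen_iff_forall_mem_open]
  intro x hx
  by_cases hxS : x ∈ CohB1.support F
  swap
  · refine ⟨(CohB1.support F)ᶜ, ?_, (Groth.Agent.S0020.result X F hF.2).isOpen_compl, hxS⟩
    intro y hy
    haveI hsub : Subsingleton (F.presheaf.stalk y) := not_not.mp hy
    haveI := hreg y
    show (n : WithBot ℕ∞) ≤
      ((LocCoh.depth ↑(X.presheaf.stalk y) ↑(F.presheaf.stalk y) : ℕ∞) : WithBot ℕ∞) +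
        topologicalKrullDim ↥(closure ({y} : Set X))
    rw [Groth.Agent.Lib.Helper28.depth_eq_top_of_subsingleton]
    haveI : Nonempty ↥(closure ({y} : Set X)) := ⟨⟨y, subset_closure rfl⟩⟩
    have h0 : (0 : WithBot ℕ∞) ≤ topologicalKrullDim ↥(closure ({y} : Set X)) :=
      Groth.Agent.Lib.Helper7.TopDim.topologicalKrullDim_nonneg
    calc (n : WithBot ℕ∞) ≤ ((⊤ : ℕ∞) : WithBot ℕ∞) + 0 := by
          rw [add_zero]
          exact_mod_cast (le_top : (n : ℕ∞) ≤ ⊤)
      _ ≤ _ := by gcongr
  -- the dimension of `X`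
  haveI : Nonempty X := ⟨x⟩
  obtain ⟨D, hD⟩ : ∃ D : ℕ, topologicalKrullDim X = D := by
    have h0 : (0 : WithBot ℕ∞) ≤ topologicalKrullDim X :=
      Groth.Agent.Lib.Helper7.TopDim.topologicalKrullDim_nonneg
    generalize topologicalKrullDim X = a at hfin h0
    induction a using WithBot.recBotCoe with
    | bot => exact absurd h0 (by simp)
    | coe m =>
      induction m using ENat.recTopCoe with
      | top => exact absurd hfin (by simp)
      | coe k => exact ⟨k, rfl⟩
  obtain ⟨U, hU, hxU, -⟩ := exists_isAffineOpen_mem_and_subset (x := x) (U := ⊤) trivial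
  haveI : IsNoetherianRing Γ(X, U) := IsLocallyNoetherian.component_noetherian ⟨U, hU⟩
  haveI : Module.Finite Γ(X, U) Γ(F, U) :=
    Groth.Agent.Lib.Helper23.FinType.finite_of_isFiniteType F hU
  -- key formula
  have key : ∀ (y : X) (hyU : y ∈ U), y ∈ CohB1.support F → ∃ e : ℕ,
      projectiveDimension (ModuleCat.of (Localization.AtPrime (hU.primeIdealOf ⟨y, hyU⟩).asIdeal)
        (LocalizedModule (hU.primeIdealOf ⟨y, hyU⟩).asIdeal.primeCompl Γ(F, U))) = e ∧
      ((LocCoh.depth ↑(X.presheaf.stalk y) ↑(F.presheaf.stalk y) : ℕ∞) : WithBot ℕ∞) +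
        topologicalKrullDim ↥(closure ({y} : Set X)) + (e : WithBot ℕ∞) = D := by
    intro y hyU hyS
    obtain ⟨⟨σ⟩, hdep, hnt⟩ := stalk_vs_localization hU F y hyU
    haveI := hreg y
    haveI : IsRegularLocalRing (Localization.AtPrime (hU.primeIdealOf ⟨y, hyU⟩).asIdeal) :=
      IsRegularLocalRing.of_ringEquiv σ.symm
    haveI : Nontrivial (LocalizedModule (hU.primeIdealOf ⟨y, hyU⟩).asIdeal.primeCompl Γ(F, U)) :=
      hnt (not_subsingleton_iff_nontrivial.mp hyS)
    haveI : IsDomain (X.presheaf.stalk y) :=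
      Groth.Agent.Lib.Helper5.isDomain_of_isRegularLocalRing (X.presheaf.stalk y)
    obtain ⟨e, he⟩ := exists_nat_projectiveDimension_eq
      (Localization.AtPrime (hU.primeIdealOf ⟨y, hyU⟩).asIdeal)
      (LocalizedModule (hU.primeIdealOf ⟨y, hyU⟩).asIdeal.primeCompl Γ(F, U))
    have h1 := depth_add_projectiveDimension_eq_ringKrullDim
      (Localization.AtPrime (hU.primeIdealOf ⟨y, hyU⟩).asIdeal)
      (LocalizedModule (hU.primeIdealOf ⟨y, hyU⟩).asIdeal.primeCompl Γ(F, U))
    have h2 := dim_closure_add_ringKrullDim_stalk_eq X hcomp hchain y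
    have h3 : ringKrullDim (Localization.AtPrime (hU.primeIdealOf ⟨y, hyU⟩).asIdeal) =
        ringKrullDim (X.presheaf.stalk y) := ringKrullDim_eq_of_ringEquiv σ
    refine ⟨e, he, ?_⟩
    rw [hdep, ← hD, ← h2, ← h3, ← h1, he]
    abel
  obtain ⟨e₀, he₀, hform₀⟩ := key x hxU hxS
  have hx' : (n : WithBot ℕ∞) ≤
      ((LocCoh.depth ↑(X.presheaf.stalk x) ↑(F.presheaf.stalk x) : ℕ∞) : WithBot ℕ∞) +
        topologicalKrullDim ↥(closure ({x} : Set X)) := hx
  have hle : n + e₀ ≤ D := by
    have h := add_le_add_left hx' (e₀ : WithBot ℕ∞)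
    rw [hform₀] at h
    exact_mod_cast h
  -- the open neighbourhood
  set W' : Set ↥U := {y : ↥U | projectiveDimension
      (ModuleCat.of (Localization.AtPrime (hU.primeIdealOf y).asIdeal)
        (LocalizedModule (hU.primeIdealOf y).asIdeal.primeCompl Γ(F, U))) ≤ ((D - n : ℕ) : ℕ)}
    with hW'
  have hW'open : IsOpen W' :=
    (Groth.Agent.S2677.result Γ(X, U) Γ(F, U) (D - n)).preimage hU.isoSpec.hom.continuous
  refine ⟨Subtype.val '' W', ?_, U.isOpen.isOpenMap_subtype_val _ hW'open, ⟨⟨x, hxU⟩, ?_, rfl⟩⟩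
  · rintro _ ⟨⟨y, hyU⟩, hyW, rfl⟩
    show (n : WithBot ℕ∞) ≤
      ((LocCoh.depth ↑(X.presheaf.stalk y) ↑(F.presheaf.stalk y) : ℕ∞) : WithBot ℕ∞) +
        topologicalKrullDim ↥(closure ({y} : Set X))
    by_cases hyS : y ∈ CohB1.support F
    · obtain ⟨e, he, hform⟩ := key y hyU hyS
      have hyW' : projectiveDimension
          (ModuleCat.of (Localization.AtPrime (hU.primeIdealOf ⟨y, hyU⟩).asIdeal)
            (LocalizedModule (hU.primeIdealOf ⟨y, hyU⟩).asIdeal.primeCompl Γ(F, U))) ≤
          ((D - n : ℕ) : ℕ) := hyW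
      rw [he] at hyW'
      have hem : e ≤ D - n := by exact_mod_cast hyW'
      generalize ((LocCoh.depth ↑(X.presheaf.stalk y) ↑(F.presheaf.stalk y) : ℕ∞) : WithBot ℕ∞) +
        topologicalKrullDim ↥(closure ({y} : Set X)) = z at hform ⊢
      induction z using WithBot.recBotCoe with
      | bot => simp at hform
      | coe m =>
        induction m using ENat.recTopCoe with
        | top =>
          exact_mod_cast (le_top : (n : ℕ∞) ≤ ⊤)
        | coe k =>
          have hk : k + e = D := by exact_mod_cast hform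
          have : n ≤ k := by omega
          exact_mod_cast this
    · haveI hsub : Subsingleton (F.presheaf.stalk y) := not_not.mp hyS
      haveI := hreg y
      rw [Groth.Agent.Lib.Helper28.depth_eq_top_of_subsingleton]
      haveI : Nonempty ↥(closure ({y} : Set X)) := ⟨⟨y, subset_closure rfl⟩⟩
      have h0 : (0 : WithBot ℕ∞) ≤ topologicalKrullDim ↥(closure ({y} : Set X)) :=
        Groth.Agent.Lib.Helper7.TopDim.topologicalKrullDim_nonneg
      calc (n : WithBot ℕ∞) ≤ ((⊤ : ℕ∞) : WithBot ℕ∞) + 0 := by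
            rw [add_zero]
            exact_mod_cast (le_top : (n : ℕ∞) ≤ ⊤)
        _ ≤ _ := by gcongr
  · show projectiveDimension
        (ModuleCat.of (Localization.AtPrime (hU.primeIdealOf ⟨x, hxU⟩).asIdeal)
          (LocalizedModule (hU.primeIdealOf ⟨x, hxU⟩).asIdeal.primeCompl Γ(F, U))) ≤
        ((D - n : ℕ) : ℕ)
    rw [he₀]
    have : e₀ ≤ D - n := by omega
    exact_mod_cast this

end Sch

end Groth.Agent.Lib.Helper4.DimFormula
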