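import Mathlib
import Groth.Agent.Lib.Helper4DimFormulaAW
import Groth.Agent.Lib.Helper4DimFormulaAS
import Groth.Agent.Lib.Helper6SepBC
import Groth.Agent.Lib.Helper28FGDim
import Groth.Agent.Lib.Helper5RLR3
import Groth.Agent.Lib.Helper28SecFiniteC
import Groth.Agent.S0603

/-!
# Rectified depth on schemes locally of finite type over a regular Jacobson base (helper4)

Ring-theoretic part: depth and projective dimension through a surjection from a regular ring.
-/

set_option autoImplicit false
set_option linter.style.haveILetI false

universe u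

open AlgebraicGeometry CategoryTheory TopologicalSpace IsLocalRing

namespace Groth.Agent.Lib.Helper4.RectDepth

open Groth.Agent.Lib.Helper4.DimFormula

section Ring

variable {P B : Type u} [CommRing P] [CommRing B] [Algebra P B]
  (hπ : Function.Surjective (algebraMap P B))
  {M : Type u} [AddCommGroup M] [Module B M] [Module P M] [IsScalarTower P B M]
  (q : Ideal B) [q.IsPrime]

/-- The localization map as a `P`-linear map. -/
noncomputable def mkP : M →ₗ[P] LocalizedModule q.primeCompl M :=
  (LocalizedModule.mkLinearMap q.primeCompl M).restrictScalars P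

include hπ in
theorem isLocalizedModule_mkP :
    IsLocalizedModule (q.comap (algebraMap P B)).primeCompl (mkP (P := P) (M := M) q) := by
  have hB : IsLocalizedModule q.primeCompl (LocalizedModule.mkLinearMap q.primeCompl M) :=
    inferInstance
  refine ⟨fun s => ?_, fun y => ?_, fun {x₁ x₂} h => ?_⟩
  · have hs : algebraMap P B s.1 ∈ q.primeCompl := s.2
    have hu := hB.map_units ⟨algebraMap P B s.1, hs⟩
    rw [Module.End.isUnit_iff] at hu ⊢
    convert hu using 1
    ext m
    change s.1 • m = algebraMap P B s.1 • m
    rw [algebraMap_smul]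
  · obtain ⟨⟨x, t⟩, hxt⟩ := hB.surj y
    obtain ⟨s, hs⟩ := hπ t.1
    have hsq : s ∈ (q.comap (algebraMap P B)).primeCompl := by
      change algebraMap P B s ∉ q
      rw [hs]
      exact t.2
    refine ⟨⟨x, ⟨s, hsq⟩⟩, ?_⟩
    change s • y = LocalizedModule.mkLinearMap q.primeCompl M x
    rw [← algebraMap_smul B s y, hs]
    exact hxt
  · obtain ⟨t, ht⟩ := hB.exists_of_eq (x₁ := x₁) (x₂ := x₂) h
    obtain ⟨s, hs⟩ := hπ t.1
    have hsq : s ∈ (q.comap (algebraMap P B)).primeCompl := by
      change algebraMap P B s ∉ q
      rw [hs]
      exact t.2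
    refine ⟨⟨s, hsq⟩, ?_⟩
    change s • x₁ = s • x₂
    rw [← algebraMap_smul B s x₁, ← algebraMap_smul B s x₂, hs]
    exact ht

end Ring

section Ring2

variable {P B : Type u} [CommRing P] [CommRing B] [Algebra P B] [IsRegularRing P]
  (hπ : Function.Surjective (algebraMap P B))
  {M : Type u} [AddCommGroup M] [Module B M] [Module P M] [IsScalarTower P B M]
  [Module.Finite B M] (q : Ideal B) [q.IsPrime]

include hπ in
/-- Auslander–Buchsbaum through a surjection from a regular ring: for `Q = π⁻¹ q`,
`depth_{B_q} M_q + pd_{P_Q} M_Q = dim P_Q`. -/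
theorem depth_add_projectiveDimension_eq [Nontrivial (LocalizedModule q.primeCompl M)] :
    ∃ e : ℕ,
      projectiveDimension (ModuleCat.of (Localization.AtPrime (q.comap (algebraMap P B)))
        (LocalizedModule (q.comap (algebraMap P B)).primeCompl M)) = e ∧
      ((LocCoh.depth (Localization.AtPrime q) (LocalizedModule q.primeCompl M) : ℕ∞) :
          WithBot ℕ∞) + (e : WithBot ℕ∞) =
        ringKrullDim (Localization.AtPrime (q.comap (algebraMap P B))) := by
  set Q : Ideal P := q.comap (algebraMap P B) with hQ
  haveI : Q.IsPrime := Ideal.comap_isPrime _ _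
  haveI : IsNoetherianRing B := isNoetherianRing_of_surjective P B (algebraMap P B) hπ
  haveI : Module.Finite P B := Module.Finite.of_surjective (Algebra.linearMap P B) hπ
  haveI : Module.Finite P M := Module.Finite.trans B M
  set φ : Localization.AtPrime Q →+* Localization.AtPrime q :=
    Localization.localRingHom Q q (algebraMap P B) rfl with hφ
  letI : Algebra (Localization.AtPrime Q) (Localization.AtPrime q) := φ.toAlgebra
  haveI : IsLocalHom (algebraMap (Localization.AtPrime Q) (Localization.AtPrime q)) :=
    Localization.isLocalHom_localRingHom Q q (algebraMap P B) rfl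
  letI : Module (Localization.AtPrime Q) (LocalizedModule q.primeCompl M) :=
    Module.compHom _ φ
  haveI : IsScalarTower (Localization.AtPrime Q) (Localization.AtPrime q)
      (LocalizedModule q.primeCompl M) := ⟨fun a b m => by
    change (φ a * b) • m = φ a • (b • m)
    exact mul_smul _ _ _⟩
  haveI : IsScalarTower P (Localization.AtPrime Q) (LocalizedModule q.primeCompl M) :=
    ⟨fun a b m => by
      change φ (a • b) • m = a • (φ b • m)
      rw [Algebra.smul_def, map_mul, mul_smul, hφ, Localization.localRingHom_to_map,
        algebraMap_smul, algebraMap_smul]⟩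
  haveI := isLocalizedModule_mkP hπ (M := M) q
  haveI : Module.Finite (Localization.AtPrime Q) (LocalizedModule q.primeCompl M) :=
    Module.Finite.of_isLocalizedModule Q.primeCompl (Rₚ := Localization.AtPrime Q) (mkP q)
  have h1 : LocCoh.depth (Localization.AtPrime Q) (LocalizedModule q.primeCompl M) =
      LocCoh.depth (Localization.AtPrime Q) (LocalizedModule Q.primeCompl M) :=
    depth_eq_depth_localization Q (Localization.AtPrime Q) (mkP q)
  have h2 : LocCoh.depth (Localization.AtPrime Q) (LocalizedModule q.primeCompl M) =
      LocCoh.depth (Localization.AtPrime q) (LocalizedModule q.primeCompl M) :=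
    Groth.Agent.Lib.Helper28.depth_eq_depth_of_isLocalHom_of_finite
      (A := Localization.AtPrime Q) (B := Localization.AtPrime q)
      (M := LocalizedModule q.primeCompl M)
  haveI : Nontrivial (LocalizedModule Q.primeCompl M) :=
    (IsLocalizedModule.iso Q.primeCompl (mkP (P := P) (M := M) q)).toEquiv.nontrivial
  obtain ⟨e, he⟩ := exists_nat_projectiveDimension_eq (Localization.AtPrime Q)
    (LocalizedModule Q.primeCompl M)
  have h3 := depth_add_projectiveDimension_eq_ringKrullDim (Localization.AtPrime Q)
    (LocalizedModule Q.primeCompl M)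
  refine ⟨e, he, ?_⟩
  rw [← h2, h1, ← h3, he]

end Ring2

end Groth.Agent.Lib.Helper4.RectDepth
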