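import Mathlib
import Groth.Agent.Lib.Helper4RectDepthA

/-!
# Rectified depth, scheme-theoretic lemmas (helper4)

* `delta_eq_ringKrullDim_quotient`: a dimension function `δ` (with `δ σ = dim closure{σ}`) evaluated
  through a morphism surjective on stalks, at a point specializing to a point with closed image.
* `stalkDim_add_delta_eq_of_specializes`: on a scheme with regular local rings,
  `dim O_x + δ x` is invariant under generization.
* `exists_open_stalkDim_add_delta_eq`: and locally constant on a Noetherian scheme.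
-/

set_option autoImplicit false
set_option linter.style.haveILetI false

universe u

open AlgebraicGeometry CategoryTheory TopologicalSpace IsLocalRing

namespace Groth.Agent.Lib.Helper4.RectDepth

open Groth.Agent.Lib.Helper4.DimFormula

section G

variable {W : Scheme.{u}} (δ : W → ℕ)
  (hδ1 : ∀ σ : W, topologicalKrullDim ↥(closure ({σ} : Set W)) = δ σ)
  (hδ2 : ∀ (σ x : W) (𝔭 : Ideal (W.presheaf.stalk x)) (h𝔭 : 𝔭.IsPrime),
    W.fromSpecStalk x ⟨𝔭, h𝔭⟩ = σ →
      ringKrullDim (W.presheaf.stalk x ⧸ 𝔭) + (δ x : WithBot ℕ∞) = δ σ)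

include hδ1 hδ2 in
theorem delta_eq_ringKrullDim_quotient {Z : Scheme.{u}} (ι : Z ⟶ W) [SurjectiveOnStalks ι] (s : Z)
    (𝔭 : Ideal (Z.presheaf.stalk s)) [h𝔭 : 𝔭.IsPrime]
    (hcl : IsClosed ({ι.base s} : Set W)) :
    (δ (ι.base (Z.fromSpecStalk s ⟨𝔭, h𝔭⟩)) : WithBot ℕ∞) =
      ringKrullDim (Z.presheaf.stalk s ⧸ 𝔭) := by
  have h0 := delta_eq_zero_of_isClosed δ hδ1 (ι.base s) hcl
  have h1 := hδ2 _ (ι.base s) (𝔭.comap (ι.stalkMap s).hom) (Ideal.comap_isPrime _ _)
    (fromSpecStalk_comap_stalkMap ι s 𝔭)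
  rw [h0, Nat.cast_zero, add_zero,
    ringKrullDim_quotient_comap_of_surjective (ι.stalkMap s).hom (ι.stalkMap_surjective s) 𝔭] at h1
  exact h1.symm

include hδ2 in
/-- On a scheme with regular local rings, `dim O_x + δ x` is invariant under generization. -/
theorem stalkDim_add_delta_eq_of_specializes
    (hreg : ∀ x : W, IsRegularLocalRing ↑(W.presheaf.stalk x)) {x' x : W} (h : x' ⤳ x) :
    ringKrullDim (W.presheaf.stalk x') + (δ x' : WithBot ℕ∞) =
      ringKrullDim (W.presheaf.stalk x) + (δ x : WithBot ℕ∞) := by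
  obtain ⟨𝔭, h𝔭, rfl⟩ := exists_prime_fromSpecStalk_eq h
  haveI := hreg x
  haveI : LocCoh.IsCohenMacaulayLocalRing (W.presheaf.stalk x) :=
    Groth.Agent.Lib.Helper5.isCohenMacaulayLocalRing_of_isRegularLocalRing _
  have h1 := hδ2 _ x 𝔭 h𝔭 rfl
  have h2 := height_eq_ringKrullDim_stalk_fromSpecStalk x 𝔭
  have h3 := Groth.Agent.Lib.Helper28.height_add_ringKrullDim_quotient_eq_of_isCohenMacaulayLocalRing
    𝔭 h𝔭.ne_top
  rw [← h1, ← h2, ← h3, add_assoc]

include hδ2 in
/-- On a Noetherian scheme with regular local rings, `dim O_x + δ x` is locally constant. -/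
theorem exists_open_stalkDim_add_delta_eq [IsNoetherian W]
    (hreg : ∀ x : W, IsRegularLocalRing ↑(W.presheaf.stalk x)) (x₀ : W) :
    ∃ N : Set W, IsOpen N ∧ x₀ ∈ N ∧ ∀ x ∈ N,
      ringKrullDim (W.presheaf.stalk x) + (δ x : WithBot ℕ∞) =
        ringKrullDim (W.presheaf.stalk x₀) + (δ x₀ : WithBot ℕ∞) := by
  have hfin : (irreducibleComponents (W : Type u)).Finite :=
    NoetherianSpace.finite_irreducibleComponents
  set 𝒞 : Set (Set W) := {C ∈ irreducibleComponents (W : Type u) | x₀ ∉ C} with h𝒞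
  have h𝒞fin : 𝒞.Finite := hfin.subset (fun C hC => hC.1)
  have hclosed : IsClosed (⋃₀ 𝒞) := by
    rw [Set.sUnion_eq_biUnion]
    exact h𝒞fin.isClosed_biUnion (fun C hC => isClosed_of_mem_irreducibleComponents C hC.1)
  refine ⟨(⋃₀ 𝒞)ᶜ, hclosed.isOpen_compl, ?_, ?_⟩
  · rintro ⟨C, hC, hx₀C⟩
    exact hC.2 hx₀C
  · intro x hx
    have hCx : irreducibleComponent x ∈ irreducibleComponents (W : Type u) :=
      irreducibleComponent_mem_irreducibleComponents x
    have hx₀C : x₀ ∈ irreducibleComponent x := by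
      by_contra hcon
      exact hx ⟨irreducibleComponent x, ⟨hCx, hcon⟩, mem_irreducibleComponent⟩
    obtain ⟨η, hη⟩ := QuasiSober.sober (isIrreducible_irreducibleComponent (x := x))
      isClosed_irreducibleComponent
    have hηx : η ⤳ x := hη.specializes mem_irreducibleComponent
    have hηx₀ : η ⤳ x₀ := hη.specializes hx₀C
    rw [← stalkDim_add_delta_eq_of_specializes δ hδ2 hreg hηx,
      ← stalkDim_add_delta_eq_of_specializes δ hδ2 hreg hηx₀]

end G

/-- Comparison of two dimension functions through an open immersion and a closed immersion. -/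
theorem delta_eq_delta {X X' Z : Scheme.{u}} [JacobsonSpace X] (δ : X → ℕ)
    (hδ1 : ∀ σ : X, topologicalKrullDim ↥(closure ({σ} : Set X)) = δ σ)
    (hδ2 : ∀ (σ x : X) (𝔭 : Ideal (X.presheaf.stalk x)) (h𝔭 : 𝔭.IsPrime),
      X.fromSpecStalk x ⟨𝔭, h𝔭⟩ = σ →
        ringKrullDim (X.presheaf.stalk x ⧸ 𝔭) + (δ x : WithBot ℕ∞) = δ σ)
    (δ' : X' → ℕ)
    (hδ1' : ∀ σ : X', topologicalKrullDim ↥(closure ({σ} : Set X')) = δ' σ)
    (hδ2' : ∀ (σ x : X') (𝔭 : Ideal (X'.presheaf.stalk x)) (h𝔭 : 𝔭.IsPrime),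
      X'.fromSpecStalk x ⟨𝔭, h𝔭⟩ = σ →
        ringKrullDim (X'.presheaf.stalk x ⧸ 𝔭) + (δ' x : WithBot ℕ∞) = δ' σ)
    (ι₁ : Z ⟶ X) [IsOpenImmersion ι₁] (ι₂ : Z ⟶ X') [IsClosedImmersion ι₂] (z : Z) :
    δ (ι₁.base z) = δ' (ι₂.base z) := by
  obtain ⟨s', ⟨hs'r, hs'cl⟩, hs'closed⟩ := nonempty_inter_closedPoints (X := X)
    (Z := Set.range ι₁.base ∩ closure {ι₁.base z}) ⟨ι₁.base z, ⟨z, rfl⟩, subset_closure rfl⟩
    (ι₁.isOpenEmbedding.isOpen_range.isLocallyClosed.inter isClosed_closure.isLocallyClosed)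
  obtain ⟨s, rfl⟩ := hs'r
  have hzs : z ⤳ s :=
    ι₁.isOpenEmbedding.isInducing.specializes_iff.mp (specializes_iff_mem_closure.mpr hs'cl)
  have hcl1 : IsClosed ({ι₁.base s} : Set X) := hs'closed
  have hcls : IsClosed ({s} : Set Z) := by
    have := hcl1.preimage ι₁.continuous
    rwa [← Set.image_singleton, Set.preimage_image_eq _ ι₁.isOpenEmbedding.injective] at this
  have hcl2 : IsClosed ({ι₂.base s} : Set X') := by
    have := ι₂.isClosedEmbedding.isClosedMap _ hcls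
    rwa [Set.image_singleton] at this
  obtain ⟨𝔭, h𝔭, h𝔭z⟩ := exists_prime_fromSpecStalk_eq hzs
  have e1 := delta_eq_ringKrullDim_quotient δ hδ1 hδ2 ι₁ s 𝔭 hcl1
  have e2 := delta_eq_ringKrullDim_quotient δ' hδ1' hδ2' ι₂ s 𝔭 hcl2
  rw [h𝔭z] at e1 e2
  exact_mod_cast e1.trans e2.symm

/-- The ring of sections on an affine open of a locally Noetherian scheme with regular local rings
is a regular ring. -/
theorem isRegularRing_sections {S : Scheme.{u}} [IsLocallyNoetherian S]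
    (hreg : ∀ s : S, IsRegularLocalRing ↑(S.presheaf.stalk s)) {V : S.Opens}
    (hV : IsAffineOpen V) : IsRegularRing Γ(S, V) := by
  haveI : IsNoetherianRing Γ(S, V) := IsLocallyNoetherian.component_noetherian ⟨V, hV⟩
  rw [isRegularRing_iff]
  intro p hp
  have hs : hV.fromSpec ⟨p, hp⟩ ∈ V := Groth.Agent.Lib.Helper4.VarDim.fromSpec_mem hV _
  letI := S.presheaf.algebra_section_stalk (U := V) ⟨hV.fromSpec ⟨p, hp⟩, hs⟩
  haveI : IsLocalization.AtPrime (S.presheaf.stalk (hV.fromSpec ⟨p, hp⟩)) p :=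
    hV.isLocalization_stalk' ⟨p, hp⟩ hs
  let e : Localization.AtPrime p ≃ₐ[Γ(S, V)] S.presheaf.stalk (hV.fromSpec ⟨p, hp⟩) :=
    IsLocalization.algEquiv p.primeCompl _ _
  haveI := hreg (hV.fromSpec ⟨p, hp⟩)
  exact IsRegularLocalRing.of_ringEquiv e.symm.toRingEquiv

/-- Stalks of `Spec P` for a regular ring `P`. -/
theorem stalk_spec_facts (P : Type u) [CommRing P] [IsRegularRing P] (Q : PrimeSpectrum P) :
    IsRegularLocalRing ((Spec (CommRingCat.of P)).presheaf.stalk Q) ∧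
    ringKrullDim ((Spec (CommRingCat.of P)).presheaf.stalk Q) =
      ringKrullDim (Localization.AtPrime Q.asIdeal) := by
  letI : Algebra P ((Spec (CommRingCat.of P)).presheaf.stalk Q) :=
    AlgebraicGeometry.StructureSheaf.stalkAlgebra P Q
  haveI : IsLocalization.AtPrime ((Spec (CommRingCat.of P)).presheaf.stalk Q) Q.asIdeal :=
    AlgebraicGeometry.StructureSheaf.IsLocalization.to_stalk P Q
  let e : Localization.AtPrime Q.asIdeal ≃ₐ[P] (Spec (CommRingCat.of P)).presheaf.stalk Q :=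
    IsLocalization.algEquiv Q.asIdeal.primeCompl _ _
  exact ⟨IsRegularLocalRing.of_ringEquiv e.toRingEquiv,
    (ringKrullDim_eq_of_ringEquiv e.toRingEquiv).symm⟩

end Groth.Agent.Lib.Helper4.RectDepth
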