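import Groth.Agent.Lib.Helper5KindFlat

/-!
# Concatenation of Koszul-regular sequences; composition of Koszul-regular immersions (helper13)

* `nonempty_iso_cone`, `nonempty_iso_append`, `nonempty_iso_single`: in the derived category, the
  Koszul complex `K(g ++ f; M)` is isomorphic to `K(g; N)` as soon as `K(f; M)` is isomorphic to `N`
  placed in degree `0`.
* `exists_surj_KH0`: `H^0 K(l; M) = M/(l)M`.
* `isKoszulRegularSeq_append`: `f` Koszul-regular in `A`, `g` Koszul-regular in `A/(f)` ⇒ `g ++ f`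
  Koszul-regular in `A`.
* `exists_koszul_ker_comp`, `comp_at`: composition of Koszul-regular immersions at a point.
-/

set_option autoImplicit false
set_option linter.style.haveILetI false
universe u

namespace Groth.Agent.Helper13KzConcat
open CategoryTheory CochainComplex CohIII DerivedCategory Pretriangulated Limits
open Groth.Agent.Helper13Kz Groth.Agent.Helper13KzLift

variable {A : Type u} [CommRing A]

attribute [local instance] HasDerivedCategory.standard

/-- an isomorphism in the derived category induces one between the cones of multiplication by `x` -/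
theorem nonempty_iso_cone {K L : CochainComplex (ModuleCat.{u} A) ℤ}
    (e : (Q.obj K : DerivedCategory (ModuleCat.{u} A)) ≅ Q.obj L) (x : A) :
    Nonempty ((Q.obj (mappingCone (x • 𝟙 K)) : DerivedCategory (ModuleCat.{u} A)) ≅
      Q.obj (mappingCone (x • 𝟙 L))) := by
  let T₁ := (Q (C := ModuleCat.{u} A)).mapTriangle.obj (mappingCone.triangle (x • 𝟙 K))
  let T₂ := (Q (C := ModuleCat.{u} A)).mapTriangle.obj (mappingCone.triangle (x • 𝟙 L))
  have h₁ : T₁ ∈ distTriang _ := mappingCone_triangle_distinguished _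
  have h₂ : T₂ ∈ distTriang _ := mappingCone_triangle_distinguished _
  have comm : T₁.mor₁ ≫ e.hom = e.hom ≫ T₂.mor₁ := by
    change Q.map (x • 𝟙 K) ≫ e.hom = e.hom ≫ Q.map (x • 𝟙 L)
    rw [Functor.map_smul, Functor.map_smul, CategoryTheory.Functor.map_id,
      CategoryTheory.Functor.map_id, Linear.smul_comp, Linear.comp_smul, Category.id_comp,
      Category.comp_id]
  exact ⟨Triangle.π₃.mapIso (isoTriangleOfIso₁₂ T₁ T₂ h₁ h₂ e e comm)⟩

/-- concatenation in the derived category -/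
theorem nonempty_iso_append (M N : ModuleCat.{u} A) (f : List A)
    (e : (Q.obj (koszulCx M f) : DerivedCategory (ModuleCat.{u} A)) ≅ Q.obj (koszulCx N [])) :
    ∀ g : List A, Nonempty ((Q.obj (koszulCx M (g ++ f)) : DerivedCategory (ModuleCat.{u} A)) ≅
      Q.obj (koszulCx N g))
  | [] => ⟨e⟩
  | x :: g => by
    obtain ⟨e'⟩ := nonempty_iso_append M N f e g
    exact nonempty_iso_cone e' x

/-- a complex with cohomology only in degree `0` is a module placed in degree `0` in the derived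
category -/
theorem nonempty_iso_single (K : CochainComplex (ModuleCat.{u} A) ℤ) (N : ModuleCat.{u} A)
    (hK : ∀ i : ℤ, i ≠ 0 → IsZero (K.homology i)) (e0 : K.homology 0 ≅ N) :
    Nonempty ((Q.obj K : DerivedCategory (ModuleCat.{u} A)) ≅ Q.obj (koszulCx N [])) := by
  let X : DerivedCategory (ModuleCat.{u} A) := Q.obj K
  have hfac : ∀ i : ℤ, (homologyFunctor (ModuleCat.{u} A) i).obj X ≅ K.homology i := fun i =>
    (homologyFunctorFactors (ModuleCat.{u} A) i).app K
  have hGE : X.IsGE 0 := by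
    rw [DerivedCategory.isGE_iff]
    intro i hi
    exact IsZero.of_iso (hK i (ne_of_lt hi)) (hfac i)
  have hLE : X.IsLE 0 := by
    rw [DerivedCategory.isLE_iff]
    intro i hi
    exact IsZero.of_iso (hK i (ne_of_gt hi)) (hfac i)
  obtain ⟨Y, ⟨e⟩⟩ := exists_iso_singleFunctor_obj_of_isGE_of_isLE X 0
  have eY : Y ≅ N :=
    ((singleFunctorCompHomologyFunctorIso (ModuleCat.{u} A) 0).app Y).symm ≪≫
      (homologyFunctor (ModuleCat.{u} A) 0).mapIso e.symm ≪≫ hfac 0 ≪≫ e0
  exact ⟨e ≪≫ (DerivedCategory.singleFunctor (ModuleCat.{u} A) 0).mapIso eY ≪≫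
    (singleFunctorIsoCompQ (ModuleCat.{u} A) 0).app N⟩

end Groth.Agent.Helper13KzConcat

namespace Groth.Agent.Helper13KzConcat
open CategoryTheory CochainComplex CohIII Limits Pointwise
open Groth.Agent.Helper13Kz Groth.Agent.Helper13KzLift

variable {A : Type u} [CommRing A]

/-- `H^0` of the Koszul complex is `M/(l)M` -/
theorem exists_surj_KH0 (M : Type u) [AddCommGroup M] [Module A M] : ∀ l : List A,
    ∃ π : M →ₗ[A] KH l M 0, Function.Surjective π ∧
      LinearMap.ker π = (Ideal.ofList l) • (⊤ : Submodule A M)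
  | [] => by
    refine ⟨(KHnilEquiv M).symm.toLinearMap, (KHnilEquiv M).symm.surjective, ?_⟩
    rw [LinearEquiv.ker, Ideal.ofList_nil, Submodule.bot_smul]
  | x :: l => by
    obtain ⟨π, hπ, hker⟩ := exists_surj_KH0 M l
    obtain ⟨g, δ, h1, h2, h3⟩ := cone_les (koszulCx (ModuleCat.of A M) l) x 0
    have hsub : Subsingleton (KH l M (0 + 1)) := subsingleton_KH_of_pos M l (0 + 1) (by norm_num)
    have hg : Function.Surjective g := by
      intro z
      have : δ z = 0 := Subsingleton.elim _ _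
      exact (h2 z).1 this
    let g' : KH l M 0 →ₗ[A] KH (x :: l) M 0 := g
    refine ⟨g' ∘ₗ π, hg.comp hπ, ?_⟩
    ext m
    rw [LinearMap.mem_ker, LinearMap.comp_apply, Ideal.ofList_cons, Submodule.sup_smul,
      Submodule.ideal_span_singleton_smul, Submodule.mem_sup]
    constructor
    · intro hm
      obtain ⟨y, hy⟩ := (h1 (π m)).1 hm
      obtain ⟨m', rfl⟩ := hπ y
      have h4 : π (m - x • m') = 0 := by
        rw [map_sub, map_smul, sub_eq_zero]
        exact hy.symm
      refine ⟨x • m', Submodule.smul_mem_pointwise_smul m' x ⊤ trivial, m - x • m', ?_, by abel⟩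
      rw [← hker]
      exact h4
    · rintro ⟨a, ha, b, hb, rfl⟩
      rw [Submodule.mem_smul_pointwise_iff_exists] at ha
      obtain ⟨m', -, rfl⟩ := ha
      rw [← hker] at hb
      rw [map_add, map_smul, LinearMap.mem_ker.1 hb, add_zero]
      exact (h1 (x • π m')).2 ⟨π m', rfl⟩

open DerivedCategory in
attribute [local instance] HasDerivedCategory.standard in
/-- **Concatenation of Koszul-regular sequences**: if `f` is Koszul-regular in `A` and the image of
`g` is Koszul-regular in `A/(f)`, then `g ++ f` is Koszul-regular in `A`. -/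
theorem isKoszulRegularSeq_append (f g : List A) (hf : LCI.IsKoszulRegularSeq A f)
    (hg : LCI.IsKoszulRegularSeq (A ⧸ Ideal.ofList f)
      (g.map (Ideal.Quotient.mk (Ideal.ofList f)))) :
    LCI.IsKoszulRegularSeq A (g ++ f) := by
  rw [isKoszulRegularSeq_iff] at hf hg ⊢
  let φ : A →+* A ⧸ Ideal.ofList f := Ideal.Quotient.mk (Ideal.ofList f)
  let N : ModuleCat.{u} A := (ModuleCat.restrictScalars φ).obj
    (ModuleCat.of (A ⧸ Ideal.ofList f) (A ⧸ Ideal.ofList f))
  obtain ⟨π, hπ, hker⟩ := exists_surj_KH0 A f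
  have hker' : LinearMap.ker π = Ideal.ofList f := by
    rw [hker, smul_eq_mul, Ideal.mul_top]
  let e1 : (A ⧸ LinearMap.ker π) ≃ₗ[A] KH f A 0 := π.quotKerEquivOfSurjective hπ
  let e2 : (A ⧸ Ideal.ofList f) ≃ₗ[A] N :=
    { toFun := fun z => z
      invFun := fun z => z
      left_inv := fun _ => rfl
      right_inv := fun _ => rfl
      map_add' := fun _ _ => rfl
      map_smul' := fun a z => by
        induction z using Quotient.inductionOn with
        | h b => rfl }
  let e0 : (koszulCx (ModuleCat.of A A) f).homology 0 ≅ N :=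
    (e1.symm ≪≫ₗ Submodule.quotEquivOfEq _ _ hker' ≪≫ₗ e2).toModuleIso
  have hf' : ∀ i : ℤ, i ≠ 0 → IsZero ((koszulCx (ModuleCat.of A A) f).homology i) :=
    fun i hi => by
      have := hf i hi
      exact ModuleCat.isZero_of_subsingleton _
  obtain ⟨eD⟩ := nonempty_iso_single (koszulCx (ModuleCat.of A A) f) N hf' e0
  obtain ⟨eG⟩ := nonempty_iso_append (ModuleCat.of A A) N f eD g
  intro i hi
  have hN : IsZero ((koszulCx N g).homology i) := by
    have := hg i hi
    exact isZero_homology_restrict φ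
      (ModuleCat.of (A ⧸ Ideal.ofList f) (A ⧸ Ideal.ofList f)) g i
      (ModuleCat.isZero_of_subsingleton _)
  have hiso : (koszulCx (ModuleCat.of A A) (g ++ f)).homology i ≅ (koszulCx N g).homology i :=
    ((homologyFunctorFactors (ModuleCat.{u} A) i).app _).symm ≪≫
      (homologyFunctor (ModuleCat.{u} A) i).mapIso eG ≪≫
      (homologyFunctorFactors (ModuleCat.{u} A) i).app _
  exact ModuleCat.subsingleton_of_isZero (IsZero.of_iso hN hiso)

end Groth.Agent.Helper13KzConcat

namespace Groth.Agent.Helper13KzConcat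
open CategoryTheory AlgebraicGeometry TopologicalSpace
open Groth.Agent.Lib.Helper5.KindFlat Groth.Agent.Lib.Helper5.ImmBC

/-- kernel of a composite of surjections with Koszul-regular kernels -/
theorem exists_koszul_ker_comp {R S T : Type u} [CommRing R] [CommRing S] [CommRing T]
    (π : R →+* S) (hπ : Function.Surjective π) (ρ : S →+* T)
    (is : List R) (his : LCI.IsKoszulRegularSeq R is) (hI : RingHom.ker π = Ideal.ofList is)
    (js : List S) (hjs : LCI.IsKoszulRegularSeq S js) (hJ : RingHom.ker ρ = Ideal.ofList js) :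
    ∃ ks : List R, ks.length = js.length + is.length ∧ LCI.IsKoszulRegularSeq R ks ∧
      RingHom.ker (ρ.comp π) = Ideal.ofList ks := by
  obtain ⟨bs, rfl⟩ := List.map_surjective_iff.mpr hπ js
  have hK : RingHom.ker (ρ.comp π) = Ideal.ofList (bs ++ is) := by
    rw [← RingHom.comap_ker, hJ, ← Ideal.map_ofList, Ideal.comap_map_of_surjective π hπ,
      ← RingHom.ker_eq_comap_bot, hI, Ideal.ofList_append]
  refine ⟨bs ++ is, by rw [List.length_append, List.length_map], ?_, hK⟩
  refine isKoszulRegularSeq_append is bs his ?_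
  -- transport along the isomorphism `S ≃ R/(is)`
  let ψ : (R ⧸ Ideal.ofList is) ≃+* S :=
    (Ideal.quotEquivOfEq hI.symm).trans (RingHom.quotientKerEquivOfSurjective hπ)
  have hψ : ∀ b : R, ψ.symm (π b) = Ideal.Quotient.mk (Ideal.ofList is) b := by
    intro b
    rw [RingEquiv.symm_apply_eq]
    rfl
  have hflat : (ψ.symm : S →+* R ⧸ Ideal.ofList is).Flat :=
    RingHom.Flat.of_bijective ψ.symm.bijective
  have h1 := isKoszulRegularSeq_map_of_flat (ψ.symm : S →+* R ⧸ Ideal.ofList is) hflat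
    (bs.map π) hjs
  rw [List.map_map] at h1
  have h2 : ((ψ.symm : S →+* R ⧸ Ideal.ofList is) ∘ π) = Ideal.Quotient.mk (Ideal.ofList is) := by
    funext b
    exact hψ b
  rw [h2] at h1
  exact h1

set_option maxHeartbeats 1600000 in
/-- composition of Koszul-regular immersions, at a point, with control of the lengths -/
theorem comp_at {X Y Z : Scheme.{u}} (i : Y ⟶ X) [IsImmersion i] (j : Z ⟶ Y) (z : Z) (n m : ℕ)
    (hi : ∃ U : X.affineOpens, i (j z) ∈ U.1 ∧ IsClosedImmersion (i ∣_ U.1) ∧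
      ∃ rs : List Γ(X, U.1), rs.length = n ∧ LCI.IsKoszulRegularSeq Γ(X, U.1) rs ∧
        RingHom.ker (i.app U.1).hom = Ideal.ofList rs)
    (hj : ∃ V : Y.affineOpens, j z ∈ V.1 ∧ IsClosedImmersion (j ∣_ V.1) ∧
      ∃ rs : List Γ(Y, V.1), rs.length = m ∧ LCI.IsKoszulRegularSeq Γ(Y, V.1) rs ∧
        RingHom.ker (j.app V.1).hom = Ideal.ofList rs) :
    ∃ U : X.affineOpens, (j ≫ i) z ∈ U.1 ∧ IsClosedImmersion ((j ≫ i) ∣_ U.1) ∧
      ∃ rs : List Γ(X, U.1), rs.length = m + n ∧ LCI.IsKoszulRegularSeq Γ(X, U.1) rs ∧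
        RingHom.ker ((j ≫ i).app U.1).hom = Ideal.ofList rs := by
  obtain ⟨⟨U, hU⟩, hyU, hclU, as, hasl, has, hkerU⟩ := hi
  obtain ⟨⟨V, hV⟩, hzV, hclV, bs, hbsl, hbs, hkerV⟩ := hj
  simp only at hyU hclU hkerU has hzV hclV hkerV hbs
  haveI := hclU
  haveI := hclV
  -- an open of `X` whose preimage is `V`
  obtain ⟨t, ht, htV⟩ := (Scheme.Hom.isEmbedding i).isInducing.isOpen_iff.mp V.2
  have hmem : i (j z) ∈ t ∩ (U : Set X) := by
    refine ⟨?_, hyU⟩
    have : j z ∈ i ⁻¹' t := by
      rw [htV]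
      exact hzV
    exact this
  obtain ⟨_, ⟨U' : X.Opens, hU', rfl⟩, hxU', hU'le⟩ :=
    X.isBasis_affineOpens.exists_subset_of_mem_open hmem (ht.inter U.2)
  have hU'U : U' ≤ U := fun x hx => (hU'le hx).2
  have hWV : i ⁻¹ᵁ U' ≤ V := by
    intro y hy
    have h1 : y ∈ i ⁻¹' t := (hU'le hy).1
    rw [htV] at h1
    exact h1
  -- restrict `i` to `U'`
  obtain ⟨hcl₁, hker₁⟩ := restrict_baseChange (IsPullback.id_horiz i) hU hU'
    (show U' ≤ (𝟙 X) ⁻¹ᵁ U from hU'U)
  haveI := hcl₁
  have hfl₁ : ((𝟙 X : X ⟶ X).appLE U U' hU'U).hom.Flat := Scheme.Hom.flat_appLE (𝟙 X) hU hU' _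
  have hk₁ : RingHom.ker (i.app U').hom =
      Ideal.ofList (as.map ((𝟙 X : X ⟶ X).appLE U U' hU'U).hom) := by
    rw [hker₁, hkerU, Ideal.map_ofList]
  have hreg₁ := isKoszulRegularSeq_map_of_flat _ hfl₁ as has
  -- restrict `j` to `W = i⁻¹ U'`
  have hW : IsAffineOpen (i ⁻¹ᵁ U') := isAffineOpen_preimage_of_isClosedImmersion_restrict i hU'
  obtain ⟨hcl₂, hker₂⟩ := restrict_baseChange (IsPullback.id_horiz j) hV hW
    (show i ⁻¹ᵁ U' ≤ (𝟙 Y) ⁻¹ᵁ V from hWV)
  haveI := hcl₂
  have hfl₂ : ((𝟙 Y : Y ⟶ Y).appLE V (i ⁻¹ᵁ U') hWV).hom.Flat :=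
    Scheme.Hom.flat_appLE (𝟙 Y) hV hW _
  have hk₂ : RingHom.ker (j.app (i ⁻¹ᵁ U')).hom =
      Ideal.ofList (bs.map ((𝟙 Y : Y ⟶ Y).appLE V (i ⁻¹ᵁ U') hWV).hom) := by
    rw [hker₂, hkerV, Ideal.map_ofList]
  have hreg₂ := isKoszulRegularSeq_map_of_flat _ hfl₂ bs hbs
  -- the ring-level statement
  obtain ⟨ks, hlen, hks, hK⟩ := exists_koszul_ker_comp (i.app U').hom
    (app_surjective_of_isClosedImmersion_restrict i hU') (j.app (i ⁻¹ᵁ U')).hom
    _ hreg₁ hk₁ _ hreg₂ hk₂
  refine ⟨⟨U', hU'⟩, hxU', ?_, ks, ?_, hks, ?_⟩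
  · change IsClosedImmersion ((j ≫ i) ∣_ U')
    rw [morphismRestrict_comp]
    exact @IsClosedImmersion.comp _ _ _ _ _ hcl₂ hcl₁
  · rw [hlen, List.length_map, List.length_map, hasl, hbsl]
  · change RingHom.ker ((j ≫ i).app U').hom = _
    rw [Scheme.Hom.comp_app]
    exact hK

end Groth.Agent.Helper13KzConcat

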