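import Mathlib
import Groth.Prelude.Def_PBC

/-!
# Ind-étale algebras: elementary description and consequences (helper1)

* `flat_of_family`: a module is flat as soon as each of its finite relations comes from a relation
  in a flat module over some other ring (equational criterion).
* `exists_common_stage`: finite families in a filtered union live in a common stage.
* `weaklyEtale_of_directed`: a "filtered union" of weakly étale algebras is weakly étale.
* `exists_directed_of_isIndEtale`: elementary description of an ind-étale algebra.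
-/

set_option autoImplicit false

open CategoryTheory CategoryTheory.Limits TensorProduct

universe u v w

namespace Groth.Agent.Lib.Helper1.IndEtale

/-- A module is flat if every finite relation is the image of a relation in a flat module over
some other ring. -/
theorem flat_of_family {R M : Type*} [CommRing R] [AddCommGroup M] [Module R M]
    {ι : Type*} (R' : ι → Type*) (M' : ι → Type*) [∀ i, CommRing (R' i)]
    [∀ i, AddCommGroup (M' i)] [∀ i, Module (R' i) (M' i)] [∀ i, Module.Flat (R' i) (M' i)]
    (φ : ∀ i, R' i →+* R) (ψ : ∀ i, M' i →+ M)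
    (hψ : ∀ i (r : R' i) (m : M' i), ψ i (r • m) = φ i r • ψ i m)
    (H : ∀ {l : ℕ} (f : Fin l → R) (x : Fin l → M), ∑ i, f i • x i = 0 →
      ∃ (j : ι) (f' : Fin l → R' j) (x' : Fin l → M' j),
        (∀ i, φ j (f' i) = f i) ∧ (∀ i, ψ j (x' i) = x i) ∧ ∑ i, f' i • x' i = 0) :
    Module.Flat R M := by
  refine Module.Flat.of_forall_isTrivialRelation fun {l f x} h => ?_
  obtain ⟨j, f', x', hf, hx, h0⟩ := H f x h
  obtain ⟨k, a, y, hxy, hfa⟩ := Module.Flat.isTrivialRelation_of_sum_smul_eq_zero h0
  refine ⟨k, fun i m => φ j (a i m), fun m => ψ j (y m), fun i => ?_, fun m => ?_⟩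
  · rw [← hx, hxy, map_sum]
    simp [hψ]
  · simp_rw [← hf, ← map_mul, ← map_sum, hfa, map_zero]

/-- Finite families in a filtered union live in a common stage. -/
theorem exists_common_stage {J : Type*} [Category J] [IsFiltered J] {X : Type*} (S : J → Set X)
    (hmono : ∀ {j k : J} (_ : j ⟶ k), S j ⊆ S k) (hcov : ∀ x, ∃ j, x ∈ S j) {l : ℕ}
    (x : Fin l → X) : ∃ j, ∀ i, x i ∈ S j := by
  induction l with
  | zero => exact ⟨IsFiltered.nonempty.some, fun i => i.elim0⟩
  | succ n ih =>
    obtain ⟨j, hj⟩ := ih (fun i => x i.succ)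
    obtain ⟨j0, h0⟩ := hcov (x 0)
    refine ⟨IsFiltered.max j j0, fun i => ?_⟩
    refine Fin.cases ?_ (fun i => ?_) i
    · exact hmono (IsFiltered.rightToMax _ _) h0
    · exact hmono (IsFiltered.leftToMax _ _) (hj i)

section Directed

variable {A B : Type u} [CommRing A] [CommRing B] [Algebra A B]
  {J : Type v} [Category.{w} J] [IsFiltered J]
  (R : J → Type u) [∀ j, CommRing (R j)] [∀ j, Algebra A (R j)]
  (t : ∀ {j k : J}, (j ⟶ k) → (R j →ₐ[A] R k)) (ι : ∀ j, R j →ₐ[A] B)
  (compat : ∀ {j k : J} (g : j ⟶ k) (x : R j), ι k (t g x) = ι j x)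
  (surj : ∀ b : B, ∃ j x, ι j x = b)
  (inj : ∀ j (x : R j), ι j x = 0 → ∃ k, ∃ g : j ⟶ k, t g x = 0)

include compat surj inj in
theorem flat_of_directed [∀ j, Module.Flat A (R j)] : Module.Flat A B := by
  refine flat_of_family (fun _ : J => A) R (fun _ => RingHom.id A)
    (fun j => (ι j).toLinearMap.toAddMonoidHom) (fun j r m => by simp) ?_
  intro l f x h
  obtain ⟨j, hj⟩ := exists_common_stage (fun j => Set.range (ι j))
    (fun {j k} g => by rintro _ ⟨y, rfl⟩; exact ⟨t g y, compat g y⟩) surj x
  choose x' hx' using hj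
  have h0 : ι j (∑ i, f i • x' i) = 0 := by
    simp only [map_sum, map_smul, hx', h]
  obtain ⟨k, g, hk⟩ := inj j _ h0
  refine ⟨k, f, fun i => t g (x' i), fun _ => rfl, fun i => by simp [compat, hx'], ?_⟩
  simpa only [map_sum, map_smul] using hk

include compat surj in
theorem exists_tensor_rep (r : B ⊗[A] B) :
    ∃ j, r ∈ Set.range (Algebra.TensorProduct.map (ι j) (ι j)) := by
  have mono : ∀ {j k : J} (g : j ⟶ k),
      Set.range (Algebra.TensorProduct.map (ι j) (ι j)) ⊆
        Set.range (Algebra.TensorProduct.map (ι k) (ι k)) := by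
    intro j k g
    rintro _ ⟨y, rfl⟩
    refine ⟨Algebra.TensorProduct.map (t g) (t g) y, ?_⟩
    rw [← AlgHom.comp_apply, ← Algebra.TensorProduct.map_comp]
    congr 2 <;> exact AlgHom.ext (compat g)
  induction r using TensorProduct.induction_on with
  | zero => exact ⟨IsFiltered.nonempty.some, 0, map_zero _⟩
  | tmul b b' =>
    obtain ⟨j, x, rfl⟩ := surj b
    obtain ⟨j', x', rfl⟩ := surj b'
    refine ⟨IsFiltered.max j j', t (IsFiltered.leftToMax j j') x ⊗ₜ t (IsFiltered.rightToMax j j') x',
      ?_⟩
    simp [compat]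
  | add r r' hr hr' =>
    obtain ⟨j, hj⟩ := hr
    obtain ⟨j', hj'⟩ := hr'
    obtain ⟨y, rfl⟩ := mono (IsFiltered.leftToMax j j') hj
    obtain ⟨y', rfl⟩ := mono (IsFiltered.rightToMax j j') hj'
    exact ⟨IsFiltered.max j j', y + y', map_add _ _ _⟩

include compat surj inj in
theorem flat_lmul'_of_directed [∀ j, Algebra.WeaklyEtale A (R j)] :
    (Algebra.TensorProduct.lmul' A (S := B)).Flat := by
  let algB : Algebra (B ⊗[A] B) B := (Algebra.TensorProduct.lmul' A (S := B)).toRingHom.toAlgebra
  let algR : ∀ j, Algebra (R j ⊗[A] R j) (R j) := fun j =>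
    (Algebra.TensorProduct.lmul' A (S := R j)).toRingHom.toAlgebra
  have : ∀ j, Module.Flat (R j ⊗[A] R j) (R j) := fun j =>
    Algebra.WeaklyEtale.flat_lmul' A (R j)
  have hsmulB : ∀ (r : B ⊗[A] B) (b : B), r • b = Algebra.TensorProduct.lmul' A r * b :=
    fun r b => rfl
  have hsmulR : ∀ j (r : R j ⊗[A] R j) (b : R j),
      r • b = Algebra.TensorProduct.lmul' A r * b := fun j r b => rfl
  have hlm : ∀ j (r : R j ⊗[A] R j), ι j (Algebra.TensorProduct.lmul' A r) =
      Algebra.TensorProduct.lmul' A (Algebra.TensorProduct.map (ι j) (ι j) r) := by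
    intro j r
    induction r using TensorProduct.induction_on with
    | zero => simp
    | tmul a b => simp
    | add a b ha hb => simp only [map_add, ha, hb]
  have htm : ∀ {j k : J} (g : j ⟶ k) (r : R j ⊗[A] R j),
      t g (Algebra.TensorProduct.lmul' A r) =
        Algebra.TensorProduct.lmul' A (Algebra.TensorProduct.map (t g) (t g) r) := by
    intro j k g r
    induction r using TensorProduct.induction_on with
    | zero => simp
    | tmul a b => simp
    | add a b ha hb => simp only [map_add, ha, hb]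
  show Module.Flat (B ⊗[A] B) B
  refine flat_of_family (fun j : J => R j ⊗[A] R j) R
    (fun j => (Algebra.TensorProduct.map (ι j) (ι j)).toRingHom)
    (fun j => (ι j).toLinearMap.toAddMonoidHom) (fun j r m => ?_) ?_
  · simp only [hsmulR, hsmulB]
    simp [hlm]
  intro l f x h
  have mono : ∀ {j k : J} (g : j ⟶ k),
      Set.range (Algebra.TensorProduct.map (ι j) (ι j)) ⊆
        Set.range (Algebra.TensorProduct.map (ι k) (ι k)) := by
    intro j k g
    rintro _ ⟨y, rfl⟩
    refine ⟨Algebra.TensorProduct.map (t g) (t g) y, ?_⟩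
    rw [← AlgHom.comp_apply, ← Algebra.TensorProduct.map_comp]
    congr 2 <;> exact AlgHom.ext (compat g)
  obtain ⟨j₁, hj₁⟩ := exists_common_stage (fun j => Set.range (ι j))
    (fun {j k} g => by rintro _ ⟨y, rfl⟩; exact ⟨t g y, compat g y⟩) surj x
  obtain ⟨j₂, hj₂⟩ := exists_common_stage
    (fun j => Set.range (Algebra.TensorProduct.map (ι j) (ι j))) mono
    (exists_tensor_rep R t ι compat surj) f
  choose x₁ hx₁ using hj₁
  choose f₂ hf₂ using hj₂
  let j := IsFiltered.max j₁ j₂
  let x' : Fin l → R j := fun i => t (IsFiltered.leftToMax j₁ j₂) (x₁ i)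
  let f' : Fin l → R j ⊗[A] R j := fun i =>
    Algebra.TensorProduct.map (t (IsFiltered.rightToMax j₁ j₂)) (t (IsFiltered.rightToMax j₁ j₂))
      (f₂ i)
  have hx' : ∀ i, ι j (x' i) = x i := fun i => by simp [x', compat, hx₁]
  have hf' : ∀ i, Algebra.TensorProduct.map (ι j) (ι j) (f' i) = f i := fun i => by
    rw [← hf₂ i]
    simp only [f']
    rw [← AlgHom.comp_apply, ← Algebra.TensorProduct.map_comp]
    congr 2 <;> exact AlgHom.ext (compat _)
  have h0 : ι j (∑ i, f' i • x' i) = 0 := by
    simp only [hsmulR, map_sum, map_mul, hlm, hf', hx']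
    simpa only [hsmulB] using h
  obtain ⟨k, g, hk⟩ := inj j _ h0
  refine ⟨k, fun i => Algebra.TensorProduct.map (t g) (t g) (f' i), fun i => t g (x' i),
    fun i => ?_, fun i => by simp [compat, hx'], ?_⟩
  · rw [← hf' i]
    show Algebra.TensorProduct.map (ι k) (ι k) _ = _
    rw [← AlgHom.comp_apply, ← Algebra.TensorProduct.map_comp]
    congr 2 <;> exact AlgHom.ext (compat _)
  · simp only [hsmulR, map_sum, map_mul, htm] at hk
    simpa only [hsmulR] using hk

include compat surj inj in
/-- A filtered union of weakly étale algebras is weakly étale. -/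
theorem weaklyEtale_of_directed [∀ j, Algebra.WeaklyEtale A (R j)] : Algebra.WeaklyEtale A B where
  flat := flat_of_directed R t ι compat surj inj
  flat_lmul' := flat_lmul'_of_directed R t ι compat surj inj

end Directed

/-- Elementary description of an ind-étale algebra. -/
theorem exists_directed_of_isIndEtale {A B : Type u} [CommRing A] [CommRing B] [Algebra A B]
    (h : EtPBC.IsIndEtale A B) :
    ∃ (J : Type u) (_ : SmallCategory J) (_ : IsFiltered J) (R : J → Type u)
      (_ : ∀ j, CommRing (R j)) (_ : ∀ j, Algebra A (R j)) (_ : ∀ j, Algebra.Etale A (R j))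
      (t : ∀ {j k : J}, (j ⟶ k) → (R j →ₐ[A] R k)) (ι : ∀ j, R j →ₐ[A] B),
      (∀ {j k : J} (g : j ⟶ k) (x : R j), ι k (t g x) = ι j x) ∧
      (∀ b : B, ∃ j x, ι j x = b) ∧
      (∀ j (x : R j), ι j x = 0 → ∃ k, ∃ g : j ⟶ k, t g x = 0) := by
  obtain ⟨J, _, _, D, c, hc, hD, ⟨e⟩⟩ := h
  let _ : ∀ j, Algebra A (D.obj j).right := fun j => (D.obj j).hom.hom.toAlgebra
  let c' : Cocone (D ⋙ Under.forget _) := (Under.forget _).mapCocone c
  have hc' : IsColimit c' := isColimitOfPreserves _ hc
  have hι : ∀ j (x : (D.obj j).right), c'.ι.app j x = (c.ι.app j).right x := fun j x => rfl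
  have hinv : ∀ y : c.pt.right, e.inv.right.hom (e.hom.right.hom y) = y := fun y => by
    have := congr($(e.hom_inv_id).right.hom y)
    exact this
  have hinv' : ∀ b : B, e.hom.right.hom (e.inv.right.hom b) = b := fun b => by
    have := congr($(e.inv_hom_id).right.hom b)
    exact this
  refine ⟨J, inferInstance, inferInstance, fun j => (D.obj j).right, inferInstance, inferInstance,
    hD, fun {j k} g => ⟨(D.map g).right.hom, fun a => ?_⟩,
    fun j => ⟨(c.ι.app j ≫ e.hom).right.hom, fun a => ?_⟩, ?_, ?_, ?_⟩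
  · exact congr($(Under.w (D.map g)).hom a)
  · exact congr($(Under.w (c.ι.app j ≫ e.hom)).hom a)
  · intro j k g x
    have := congr($(c.w g).right x)
    simp only [Under.comp_right, CommRingCat.comp_apply] at this
    simp [this]
  · intro b
    obtain ⟨j, y, hy⟩ := Concrete.isColimit_exists_rep _ hc' (e.inv.right b)
    refine ⟨j, y, ?_⟩
    have hy' : (c.ι.app j).right.hom y = e.inv.right.hom b := hy
    show e.hom.right.hom ((c.ι.app j).right.hom y) = b
    rw [hy', hinv']
  · intro j x hx
    have hx' : (c.ι.app j).right.hom x = 0 := by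
      have := congr(e.inv.right.hom $hx)
      rw [map_zero] at this
      rw [← this]
      exact (hinv _).symm
    have h2 : c'.ι.app j x = c'.ι.app j 0 := by
      show (c.ι.app j).right.hom x = (c.ι.app j).right.hom 0
      rw [map_zero]
      exact hx'
    obtain ⟨k, g, hk⟩ := (IsColimit.eq_iff' hc' x 0).1 h2
    exact ⟨k, g, hk.trans (map_zero (D.map g).right.hom)⟩

end Groth.Agent.Lib.Helper1.IndEtale
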