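import Mathlib
import Groth.Agent.S0426
import Groth.Agent.Lib.Helper1IndEtale

/-!
# Weakly étale algebras over a field (helper14)

Main results, for a field `K` and a `K`-algebra `B` (Stacks 092Q):
* `exists_separable_aeval_eq_zero`: if `B` is weakly étale over `K`, every element of `B` is a root of a
  separable polynomial (`IsSepAlg K B`).
* `IsSepAlg.weaklyEtale`, `IsSepAlg.etale_of_fg`: conversely such an algebra is weakly étale and its
  finitely generated subalgebras are étale.
* `exists_not_mem_mul_eq_zero`: a weakly étale algebra over a field is absolutely flat, in the form: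
  `x ∈ I ≠ ⊤` is killed by an element outside `I`.
* `weaklyEtale_of_isLocalization`, `isEpi_of_isLocalization`.
-/

set_option autoImplicit false
universe u
open TensorProduct Polynomial CategoryTheory

namespace Groth.Agent.Lib.Helper14.WEField


/-- If `A ⧸ I` is flat over `A` and `t ∈ I`, then `t = e * t` for some `e ∈ I`. -/
theorem exists_mul_eq_of_flat_quotient {A : Type*} [CommRing A] (I : Ideal A)
    [Module.Flat A (A ⧸ I)] {t : A} (ht : t ∈ I) : ∃ e ∈ I, e * t = t := by
  let J : Ideal A := Ideal.span {t}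
  have htJ : t ∈ J := Ideal.subset_span rfl
  have hinj : Function.Injective (J.subtype.rTensor (A ⧸ I)) :=
    Module.Flat.rTensor_preserves_injective_linearMap _ Subtype.val_injective
  have h1 : (⟨t, htJ⟩ : J) ⊗ₜ[A] (1 : A ⧸ I) = 0 := by
    apply hinj
    rw [LinearMap.rTensor_tmul, map_zero]
    change t ⊗ₜ[A] (1 : A ⧸ I) = 0
    have h2 : t ⊗ₜ[A] (1 : A ⧸ I) = (1 : A) ⊗ₜ[A] (t • (1 : A ⧸ I)) := by
      rw [← TensorProduct.smul_tmul, smul_eq_mul, mul_one]
    rw [h2]
    have h3 : t • (1 : A ⧸ I) = 0 := by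
      rw [Algebra.smul_def, mul_one, Ideal.Quotient.algebraMap_eq,
        Ideal.Quotient.eq_zero_iff_mem]
      exact ht
    rw [h3, TensorProduct.tmul_zero]
  have h2 := congrArg (TensorProduct.tensorQuotEquivQuotSMul J I) h1
  rw [← map_one (Ideal.Quotient.mk I), TensorProduct.tensorQuotEquivQuotSMul_tmul_mk, one_smul,
    map_zero, Submodule.Quotient.mk_eq_zero, Submodule.mem_smul_top_iff] at h2
  have h3 : t ∈ I * Ideal.span {t} := by simpa using h2
  rw [Ideal.mem_mul_span_singleton] at h3
  exact h3




/-- The diagonal element trick: if `B ⊗[R] B → B` is flat, for every `x : B` there is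
`u : B ⊗[R] B` with `μ u = 1` and `u * (x ⊗ 1 - 1 ⊗ x) = 0`. -/
theorem exists_diag_unit (R B : Type*) [CommRing R] [CommRing B] [Algebra R B]
    [Algebra.WeaklyEtale R B] (x : B) :
    ∃ u : B ⊗[R] B, Algebra.TensorProduct.lmul' R (S := B) u = 1 ∧
      u * (x ⊗ₜ[R] 1 - 1 ⊗ₜ[R] x) = 0 := by
  have hμ := Algebra.WeaklyEtale.flat_lmul' R B
  letI : Algebra (B ⊗[R] B) B := (Algebra.TensorProduct.lmul' R (S := B)).toRingHom.toAlgebra
  have hflat : Module.Flat (B ⊗[R] B) B := hμ
  have hsurj : Function.Surjective (Algebra.linearMap (B ⊗[R] B) B) := by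
    intro s
    exact ⟨s ⊗ₜ 1, by
      change Algebra.TensorProduct.lmul' R (S := B) (s ⊗ₜ 1) = s
      simp⟩
  let I : Ideal (B ⊗[R] B) := RingHom.ker (Algebra.TensorProduct.lmul' R (S := B))
  have hker : I = LinearMap.ker (Algebra.linearMap (B ⊗[R] B) B) := by
    ext t
    rfl
  haveI : Module.Flat (B ⊗[R] B) ((B ⊗[R] B) ⧸ I) :=
    Module.Flat.of_linearEquiv
      ((Submodule.quotEquivOfEq _ _ hker).trans
        (LinearMap.quotKerEquivOfSurjective (Algebra.linearMap (B ⊗[R] B) B) hsurj))
  have ht : (x ⊗ₜ[R] 1 - 1 ⊗ₜ[R] x : B ⊗[R] B) ∈ I := by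
    change Algebra.TensorProduct.lmul' R (S := B) _ = 0
    simp
  obtain ⟨e, he, het⟩ := exists_mul_eq_of_flat_quotient I ht
  refine ⟨1 - e, ?_, ?_⟩
  · have : Algebra.TensorProduct.lmul' R (S := B) e = 0 := he
    rw [map_sub, map_one, this, sub_zero]
  · rw [sub_mul, one_mul, het, sub_self]

/-- Over a field `K`, if `B` is weakly étale, `I` a proper ideal and `x ∈ I`, then `x` is killed by some
element outside `I`. -/
theorem exists_not_mem_mul_eq_zero (K B : Type*) [Field K] [CommRing B] [Algebra K B]
    [Algebra.WeaklyEtale K B] (I : Ideal B) (hI : I ≠ ⊤) {x : B} (hx : x ∈ I) :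
    ∃ b : B, b ∉ I ∧ b * x = 0 := by
  obtain ⟨u, hu1, hu2⟩ := exists_diag_unit K B x
  let D := B ⧸ I
  haveI : Nontrivial D := Ideal.Quotient.nontrivial_iff.mpr hI
  let θ : B ⊗[K] B →ₐ[K] B ⊗[K] D :=
    Algebra.TensorProduct.map (AlgHom.id K B) (Ideal.Quotient.mkₐ K I)
  let μD : B ⊗[K] D →ₐ[K] D :=
    Algebra.TensorProduct.productMap (Ideal.Quotient.mkₐ K I) (AlgHom.id K D)
  have hmk : ∀ a : B, (Ideal.Quotient.mkₐ K I) a = Ideal.Quotient.mk I a := fun _ => rfl
  have hμθ : ∀ t, μD (θ t) = Ideal.Quotient.mk I (Algebra.TensorProduct.lmul' K (S := B) t) := by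
    intro t
    induction t using TensorProduct.induction_on with
    | zero => simp
    | tmul a b => simp [θ, μD, hmk]
    | add a b ha hb => simp only [map_add, ha, hb]
  have h1 : μD (θ u) = 1 := by rw [hμθ, hu1, map_one]
  have h2 : θ u * (x ⊗ₜ[K] (1 : D)) = 0 := by
    have := congrArg θ hu2
    rw [map_mul, map_sub, map_zero] at this
    have hx0 : (Ideal.Quotient.mk I) x = 0 := Ideal.Quotient.eq_zero_iff_mem.mpr hx
    simpa [θ, hx0, hmk] using this
  let bD := Module.Free.chooseBasis K D
  let bb := Algebra.TensorProduct.basis B bD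
  have hsm : ∀ t : B ⊗[K] D, x • t = t * (x ⊗ₜ[K] (1 : D)) := by
    intro t
    induction t using TensorProduct.induction_on with
    | zero => simp
    | tmul a b => simp [TensorProduct.smul_tmul', mul_comm]
    | add a b ha hb => rw [smul_add, ha, hb, add_mul]
  have h3 : x • bb.repr (θ u) = 0 := by
    rw [← map_smul, hsm, h2, map_zero]
  by_contra hcon
  push Not at hcon
  have h4 : ∀ i, bb.repr (θ u) i ∈ I := by
    intro i
    by_contra hi
    apply hcon _ hi
    have := DFunLike.congr_fun h3 i
    simpa [mul_comm] using this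
  have h5 : μD (θ u) = 0 := by
    conv_lhs => rw [← bb.linearCombination_repr (θ u)]
    rw [Finsupp.linearCombination_apply, Finsupp.sum, map_sum]
    apply Finset.sum_eq_zero
    intro i _
    rw [Algebra.TensorProduct.basis_apply, TensorProduct.smul_tmul', smul_eq_mul, mul_one]
    simp only [μD, Algebra.TensorProduct.productMap_apply_tmul, AlgHom.coe_id, id_eq]
    rw [hmk, Ideal.Quotient.eq_zero_iff_mem.mpr (h4 i), zero_mul]
  rw [h5] at h1
  exact zero_ne_one h1




/-- A localization is an epimorphism. -/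
theorem isEpi_of_isLocalization {R : Type*} [CommRing R] (M : Submonoid R) (S : Type*) [CommRing S]
    [Algebra R S] [IsLocalization M S] : Algebra.IsEpi R S := by
  refine (Algebra.isEpi_iff_forall_one_tmul_eq R S).mpr fun a => ?_
  obtain ⟨⟨b, s⟩, hbs⟩ := IsLocalization.surj M a
  simp only at hbs
  obtain ⟨c, hc⟩ := (IsLocalization.map_units S s).exists_left_inv
  -- c * algebraMap s = 1
  have ha : a = b • c := by
    rw [Algebra.smul_def, ← hbs, mul_assoc, mul_comm _ c, hc, mul_one]
  calc (1 : S) ⊗ₜ[R] a = ((s : R) • c) ⊗ₜ[R] a := by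
        rw [Algebra.smul_def, mul_comm, hc]
    _ = c ⊗ₜ[R] ((s : R) • a) := by rw [TensorProduct.smul_tmul]
    _ = c ⊗ₜ[R] (b • (1 : S)) := by
        rw [Algebra.smul_def, Algebra.smul_def, mul_one, mul_comm, hbs]
    _ = (b • c) ⊗ₜ[R] (1 : S) := by rw [← TensorProduct.smul_tmul]
    _ = a ⊗ₜ[R] 1 := by rw [ha]

/-- A localization is weakly étale. -/
theorem weaklyEtale_of_isLocalization {R : Type*} [CommRing R] (M : Submonoid R) (S : Type*)
    [CommRing S] [Algebra R S] [IsLocalization M S] : Algebra.WeaklyEtale R S where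
  flat := IsLocalization.flat S M
  flat_lmul' := by
    haveI := isEpi_of_isLocalization M S
    apply RingHom.Flat.of_bijective
    constructor
    · exact Algebra.IsEpi.injective_lift_mul (R := R) (A := S)
    · intro s
      exact ⟨s ⊗ₜ 1, by simp⟩

/-- Over a field, the localization of a weakly étale algebra at a maximal ideal is a field. -/
theorem isField_localization (K B : Type*) [Field K] [CommRing B] [Algebra K B]
    [Algebra.WeaklyEtale K B] (m : Ideal B) [hm : m.IsPrime] :
    IsField (Localization.AtPrime m) := by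
  rw [IsLocalRing.isField_iff_maximalIdeal_eq]
  rw [eq_bot_iff]
  intro y hy
  obtain ⟨x, s, rfl⟩ := IsLocalization.exists_mk'_eq m.primeCompl y
  have hx : x ∈ m := by
    by_contra hx
    have : IsUnit (IsLocalization.mk' (Localization.AtPrime m) x s) := by
      rw [IsLocalization.AtPrime.isUnit_mk'_iff]
      exact hx
    exact hy this
  obtain ⟨b, hb, hbx⟩ := exists_not_mem_mul_eq_zero K B m hm.ne_top hx
  rw [Ideal.mem_bot, IsLocalization.mk'_eq_zero_iff]
  exact ⟨⟨b, hb⟩, hbx⟩





/-- A weakly étale algebra over a field which is a field has separable minimal polynomials. -/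
theorem minpoly_separable_of_isField (K L : Type u) [Field K] [CommRing L] [Algebra K L]
    [Algebra.WeaklyEtale K L] (hL : IsField L) (x : L) :
    (minpoly K x).Separable ∧ IsIntegral K x := by
  letI := hL.toField
  have := Groth.Agent.S0426.result (K := K) (L := L)
  exact ⟨Algebra.IsSeparable.isSeparable K x, Algebra.IsSeparable.isIntegral K x⟩

/-- Distinct monic irreducible polynomials are coprime. -/
theorem isCoprime_of_irreducible_of_ne {K : Type*} [Field K] {p q : K[X]} (hp : Irreducible p)
    (hq : Irreducible q) (hpm : p.Monic) (hqm : q.Monic) (hne : p ≠ q) : IsCoprime p q := by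
  rw [hp.coprime_iff_not_dvd]
  intro hdvd
  exact hne (Polynomial.eq_of_monic_of_associated hpm hqm (hp.associated_of_dvd hq hdvd))

/-- Every element of a weakly étale algebra over a field is a root of a separable polynomial. -/
theorem exists_separable_aeval_eq_zero (K B : Type u) [Field K] [CommRing B] [Algebra K B]
    [Algebra.WeaklyEtale K B] (x : B) :
    ∃ f : K[X], f.Separable ∧ aeval x f = 0 := by
  classical
  -- for each maximal ideal, a local witness
  have key : ∀ m : MaximalSpectrum B, ∃ b : B, b ∉ m.asIdeal ∧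
      ∃ p : K[X], p.Monic ∧ Irreducible p ∧ p.Separable ∧ b * aeval x p = 0 := by
    intro m
    haveI := m.isMaximal.isPrime
    let L := Localization.AtPrime m.asIdeal
    haveI : Algebra.WeaklyEtale B L := weaklyEtale_of_isLocalization m.asIdeal.primeCompl L
    haveI : Algebra.WeaklyEtale K L := Algebra.WeaklyEtale.trans K B L
    have hL : IsField L := isField_localization K B m.asIdeal
    obtain ⟨hsep, hint⟩ := minpoly_separable_of_isField K L hL (algebraMap B L x)
    have h0 : algebraMap B L (aeval x (minpoly K (algebraMap B L x))) = 0 := by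
      rw [← Polynomial.aeval_algebraMap_apply, minpoly.aeval]
    rw [IsLocalization.map_eq_zero_iff m.asIdeal.primeCompl] at h0
    obtain ⟨⟨b, hb⟩, hb0⟩ := h0
    letI := hL.toField
    exact ⟨b, hb, _, minpoly.monic hint, minpoly.irreducible hint, hsep, hb0⟩
  choose b hb p hpm hpi hps hbp using key
  have hspan : Ideal.span (Set.range b) = ⊤ := by
    by_contra hne
    obtain ⟨m, hm, hle⟩ := Ideal.exists_le_maximal _ hne
    exact hb ⟨m, hm⟩ (hle (Ideal.subset_span ⟨⟨m, hm⟩, rfl⟩))
  have h1 : (1 : B) ∈ Ideal.span (Set.range b) := by rw [hspan]; trivial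
  rw [Ideal.span, Finsupp.mem_span_range_iff_exists_finsupp] at h1
  obtain ⟨c, hc⟩ := h1
  let P : Finset K[X] := c.support.image p
  refine ⟨∏ g ∈ P, g, ?_, ?_⟩
  · apply Polynomial.separable_prod' (f := fun g : K[X] => g)
    · intro g hg g' hg' hne
      obtain ⟨m, _, rfl⟩ := Finset.mem_image.mp hg
      obtain ⟨m', _, rfl⟩ := Finset.mem_image.mp hg'
      exact isCoprime_of_irreducible_of_ne (hpi m) (hpi m') (hpm m) (hpm m') hne
    · intro g hg
      obtain ⟨m, _, rfl⟩ := Finset.mem_image.mp hg
      exact hps m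
  · have hkill : ∀ m ∈ c.support, b m * aeval x (∏ g ∈ P, g) = 0 := by
      intro m hm
      have hmem : p m ∈ P := Finset.mem_image_of_mem p hm
      rw [← Finset.mul_prod_erase P _ hmem, map_mul, ← mul_assoc, hbp m, zero_mul]
    calc aeval x (∏ g ∈ P, g) = (1 : B) * aeval x (∏ g ∈ P, g) := (one_mul _).symm
      _ = (c.sum fun i a => a • b i) * aeval x (∏ g ∈ P, g) := by rw [hc]
      _ = 0 := by
        rw [Finsupp.sum, Finset.sum_mul]
        apply Finset.sum_eq_zero
        intro m hm
        rw [smul_eq_mul, mul_assoc, hkill m hm, mul_zero]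



/-- A root of a separable polynomial has vanishing differential. -/
theorem D_eq_zero_of_separable (K S : Type*) [Field K] [CommRing S] [Algebra K S] (x : S)
    (f : K[X]) (hf : f.Separable) (hx : aeval x f = 0) : KaehlerDifferential.D K S x = 0 := by
  obtain ⟨a, b, hab⟩ := hf
  have h1 : KaehlerDifferential.D K S (aeval x f) = aeval x (derivative f) • KaehlerDifferential.D K S x :=
    Derivation.map_aeval _ f x
  rw [hx, map_zero] at h1
  have h2 : aeval x b * aeval x (derivative f) = 1 := by
    have := congrArg (aeval x) hab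
    simpa [hx] using this
  calc KaehlerDifferential.D K S x = (aeval x b * aeval x (derivative f)) • KaehlerDifferential.D K S x := by
        rw [h2, one_smul]
    _ = 0 := by rw [mul_smul, ← h1, smul_zero]

/-- A finitely generated algebra over a field generated by roots of separable polynomials is étale. -/
theorem etale_of_adjoin_eq_top (K : Type*) (S : Type u) [Field K] [CommRing S] [Algebra K S] (s : Set S)
    (hfin : s.Finite) (hs : Algebra.adjoin K s = ⊤)
    (hsep : ∀ x ∈ s, ∃ f : K[X], f.Separable ∧ aeval x f = 0) : Algebra.Etale K S := by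
  haveI : Algebra.FiniteType K S := ⟨⟨hfin.toFinset, by simpa using hs⟩⟩
  haveI : Algebra.FormallyUnramified K S := by
    constructor
    have hD : ∀ y : S, KaehlerDifferential.D K S y = 0 := by
      intro y
      have hy : y ∈ Algebra.adjoin K s := by rw [hs]; trivial
      have := Derivation.eqOn_adjoin (D1 := KaehlerDifferential.D K S) (D2 := 0) (s := s)
        (fun x hx => by
          obtain ⟨f, hf, hfx⟩ := hsep x hx
          simpa using D_eq_zero_of_separable K S x f hf hfx) hy
      simpa using this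
    have htop : (⊤ : Submodule S (Ω[S⁄K])) = ⊥ := by
      rw [← KaehlerDifferential.span_range_derivation, Submodule.span_eq_bot]
      rintro _ ⟨y, rfl⟩
      exact hD y
    refine subsingleton_of_forall_eq 0 (fun y => ?_)
    have hy : y ∈ (⊤ : Submodule S (Ω[S⁄K])) := trivial
    rw [htop] at hy
    exact hy
  haveI : Algebra.FormallyEtale K S := Algebra.FormallyEtale.of_formallyUnramified_of_field K S
  haveI : Algebra.FinitePresentation K S := Algebra.FinitePresentation.of_finiteType.mp inferInstance
  exact ⟨inferInstance, inferInstance⟩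




/-- `B` is a separable algebraic `K`-algebra: every element is a root of a separable polynomial. -/
def IsSepAlg (K B : Type*) [Field K] [CommRing B] [Algebra K B] : Prop :=
  ∀ x : B, ∃ f : K[X], f.Separable ∧ aeval x f = 0

theorem IsSepAlg.of_injective {K B C : Type*} [Field K] [CommRing B] [Algebra K B] [CommRing C]
    [Algebra K C] (h : IsSepAlg K B) (φ : C →ₐ[K] B) (hφ : Function.Injective φ) : IsSepAlg K C := by
  intro x
  obtain ⟨f, hf, hx⟩ := h (φ x)
  refine ⟨f, hf, hφ ?_⟩
  rw [← Polynomial.aeval_algHom_apply, hx, map_zero]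

theorem IsSepAlg.of_surjective {K B C : Type*} [Field K] [CommRing B] [Algebra K B] [CommRing C]
    [Algebra K C] (h : IsSepAlg K B) (φ : B →ₐ[K] C) (hφ : Function.Surjective φ) : IsSepAlg K C := by
  intro y
  obtain ⟨x, rfl⟩ := hφ y
  obtain ⟨f, hf, hx⟩ := h x
  refine ⟨f, hf, ?_⟩
  rw [Polynomial.aeval_algHom_apply, hx, map_zero]

/-- Finitely generated subalgebras of a separable algebraic algebra are étale. -/
theorem IsSepAlg.etale_of_fg {K : Type*} {B : Type u} [Field K] [CommRing B] [Algebra K B]
    (h : IsSepAlg K B) (S : Subalgebra K B) (hS : S.FG) : Algebra.Etale K S := by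
  obtain ⟨t, ht⟩ := (Subalgebra.fg_top S).mpr hS
  exact etale_of_adjoin_eq_top K S (↑t) t.finite_toSet ht
    (fun x _ => h.of_injective S.val Subtype.val_injective x)

/-- A separable algebraic algebra over a field is weakly étale. -/
theorem IsSepAlg.weaklyEtale {K : Type u} {B : Type u} [Field K] [CommRing B] [Algebra K B]
    (h : IsSepAlg K B) : Algebra.WeaklyEtale K B := by
  let J := {S : Subalgebra K B // S.FG}
  haveI : Nonempty J := ⟨⟨⊥, Subalgebra.fg_bot⟩⟩
  haveI : IsDirected J (· ≤ ·) := ⟨fun S T => ⟨⟨S.1 ⊔ T.1, S.2.sup T.2⟩,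
    (le_sup_left : S.1 ≤ S.1 ⊔ T.1), (le_sup_right : T.1 ≤ S.1 ⊔ T.1)⟩⟩
  haveI : IsFiltered J := isFiltered_of_directed_le_nonempty J
  haveI : ∀ j : J, Algebra.WeaklyEtale K (j.1 : Subalgebra K B) := fun j =>
    haveI := h.etale_of_fg j.1 j.2
    inferInstance
  refine Groth.Agent.Lib.Helper1.IndEtale.weaklyEtale_of_directed (A := K) (B := B) (J := J)
    (fun j => (j.1 : Subalgebra K B))
    (fun {j k} g => Subalgebra.inclusion (leOfHom g)) (fun j => j.1.val) ?_ ?_ ?_
  · intro j k g x
    rfl
  · intro b
    have hfg : (Algebra.adjoin K ({b} : Set B)).FG := by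
      simpa using Subalgebra.fg_adjoin_finset (R := K) ({b} : Finset B)
    exact ⟨⟨Algebra.adjoin K {b}, hfg⟩, ⟨b, Algebra.subset_adjoin rfl⟩, rfl⟩
  · intro j x hx
    refine ⟨j, 𝟙 j, ?_⟩
    have : x = 0 := Subtype.val_injective hx
    rw [this, map_zero]


/-- Stacks 092Q: weakly étale over a field iff every element is a root of a separable polynomial. -/
theorem weaklyEtale_iff_isSepAlg (K B : Type u) [Field K] [CommRing B] [Algebra K B] :
    Algebra.WeaklyEtale K B ↔ IsSepAlg K B :=
  ⟨fun _ => exists_separable_aeval_eq_zero K B, fun h => h.weaklyEtale⟩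

end Groth.Agent.Lib.Helper14.WEField
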