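import Mathlib
import Groth.Agent.Lib.Helper14WEField

set_option autoImplicit false
universe u
open TensorProduct

namespace Groth.Agent.Lib.Helper14.WEFlat

section
variable (A B : Type*) [CommRing A] [CommRing B] [Algebra A B]
variable (M X : Type*) [AddCommGroup M] [Module A M] [Module B M] [IsScalarTower A B M]
  [AddCommGroup X] [Module A X] [Module B X] [IsScalarTower A B X]

/-- left action -/
noncomputable def rhoL : B →ₐ[A] Module.End A (M ⊗[A] X) :=
  (Module.End.rTensorAlgHom A M X).comp (Algebra.lsmul A A M)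

/-- right action -/
noncomputable def rhoR : B →ₐ[A] Module.End A (M ⊗[A] X) :=
  (Module.End.lTensorAlgHom A X M).comp (Algebra.lsmul A A X)

lemma rhoL_tmul (b : B) (m : M) (x : X) : rhoL A B M X b (m ⊗ₜ x) = (b • m) ⊗ₜ x := rfl

lemma rhoR_tmul (b : B) (m : M) (x : X) : rhoR A B M X b (m ⊗ₜ x) = m ⊗ₜ (b • x) := rfl

/-- the action of `B ⊗[A] B` on `M ⊗[A] X` -/
noncomputable def rho : B ⊗[A] B →ₐ[A] Module.End A (M ⊗[A] X) :=
  Algebra.TensorProduct.lift (rhoL A B M X) (rhoR A B M X)
    (fun b b' => by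
      change _ * _ = _ * _
      ext m x
      change rhoL A B M X b (rhoR A B M X b' (m ⊗ₜ x)) = rhoR A B M X b' (rhoL A B M X b (m ⊗ₜ x))
      rw [rhoL_tmul, rhoR_tmul, rhoL_tmul, rhoR_tmul])

lemma rho_tmul (b b' : B) (m : M) (x : X) :
    rho A B M X (b ⊗ₜ b') (m ⊗ₜ x) = (b • m) ⊗ₜ (b' • x) := by
  rw [rho, Algebra.TensorProduct.lift_tmul]
  change rhoL A B M X b (rhoR A B M X b' (m ⊗ₜ x)) = _
  rw [rhoR_tmul, rhoL_tmul]

lemma rho_mul (c c' : B ⊗[A] B) (t : M ⊗[A] X) :
    rho A B M X (c * c') t = rho A B M X c (rho A B M X c' t) := by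
  rw [map_mul]
  rfl

lemma rho_one (t : M ⊗[A] X) : rho A B M X 1 t = t := by
  rw [map_one]
  rfl

/-- the left `B`-action is `rho (β ⊗ 1)` -/
lemma rho_tmul_one (β : B) (t : M ⊗[A] X) : rho A B M X (β ⊗ₜ 1) t = β • t := by
  induction t using TensorProduct.induction_on with
  | zero => simp
  | add x y hx hy => rw [map_add, hx, hy, smul_add]
  | tmul m x => rw [rho_tmul, one_smul, TensorProduct.smul_tmul']

/-- `rho c` commutes with the left action -/
lemma rho_smul (c : B ⊗[A] B) (β : B) (t : M ⊗[A] X) :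
    rho A B M X c (β • t) = β • rho A B M X c t := by
  rw [← rho_tmul_one, ← rho_mul, mul_comm, rho_mul, rho_tmul_one]

/-- the canonical surjection `M ⊗[A] X → M ⊗[B] X` -/
noncomputable abbrev pi : M ⊗[A] X →ₗ[B] M ⊗[B] X := TensorProduct.mapOfCompatibleSMul B A B M X

lemma pi_rho (c : B ⊗[A] B) (t : M ⊗[A] X) :
    pi A B M X (rho A B M X c t) = Algebra.TensorProduct.lmul' A (S := B) c • pi A B M X t := by
  induction c using TensorProduct.induction_on with
  | zero => simp
  | add c c' hc hc' => rw [map_add, LinearMap.add_apply, map_add, hc, hc', map_add, add_smul]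
  | tmul b b' =>
    induction t using TensorProduct.induction_on with
    | zero => simp
    | add x y hx hy => rw [map_add, map_add, hx, hy, map_add, smul_add]
    | tmul m x =>
      rw [rho_tmul, Algebra.TensorProduct.lmul'_apply_tmul]
      change (b • m) ⊗ₜ[B] (b' • x) = (b * b') • (m ⊗ₜ[B] x)
      rw [TensorProduct.tmul_smul, TensorProduct.smul_tmul', TensorProduct.smul_tmul', mul_comm,
        mul_smul]

variable {M} in
/-- naturality of `rho` -/
lemma rTensor_rho {M' : Type*} [AddCommGroup M'] [Module A M'] [Module B M'] [IsScalarTower A B M']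
    (f : M →ₗ[B] M') (c : B ⊗[A] B) (t : M ⊗[A] X) :
    (f.restrictScalars A).rTensor X (rho A B M X c t) =
      rho A B M' X c ((f.restrictScalars A).rTensor X t) := by
  induction c using TensorProduct.induction_on with
  | zero => simp
  | add c c' hc hc' =>
    rw [map_add, LinearMap.add_apply, map_add, hc, hc', map_add, LinearMap.add_apply]
  | tmul b b' =>
    induction t using TensorProduct.induction_on with
    | zero => simp
    | add x y hx hy => rw [map_add, map_add, hx, hy, map_add, map_add]
    | tmul m x =>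
      rw [rho_tmul, LinearMap.rTensor_tmul, LinearMap.rTensor_tmul, rho_tmul]
      simp

/-- elements of the kernel of `M ⊗[A] X → M ⊗[B] X` are killed by some `u` with `μ u = 1` -/
lemma exists_rho_eq_zero [Algebra.WeaklyEtale A B] (t : M ⊗[A] X) (ht : pi A B M X t = 0) :
    ∃ u : B ⊗[A] B, Algebra.TensorProduct.lmul' A (S := B) u = 1 ∧ rho A B M X u t = 0 := by
  have hmem : t ∈ (pi A B M X).ker := ht
  rw [pi, TensorProduct.AlgebraTensorModule.ker_mapOfCompatibleSMul] at hmem
  clear ht
  induction hmem using Submodule.span_induction with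
  | mem t' h =>
    obtain ⟨b, m, x, rfl⟩ := h
    obtain ⟨u, hu1, hu2⟩ := Groth.Agent.Lib.Helper14.WEField.exists_diag_unit A B b
    refine ⟨u, hu1, ?_⟩
    have : (b • m) ⊗ₜ[A] x - m ⊗ₜ[A] (b • x) =
        rho A B M X (b ⊗ₜ[A] 1 - 1 ⊗ₜ[A] b) (m ⊗ₜ x) := by
      rw [map_sub, LinearMap.sub_apply, rho_tmul, rho_tmul, one_smul, one_smul]
    rw [this, ← rho_mul, hu2, map_zero, LinearMap.zero_apply]
  | zero => exact ⟨1, map_one _, map_zero _⟩
  | add x y _ _ hx hy =>
    obtain ⟨u, hu1, hu2⟩ := hx
    obtain ⟨v, hv1, hv2⟩ := hy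
    refine ⟨u * v, by rw [map_mul, hu1, hv1, one_mul], ?_⟩
    have h1 : rho A B M X (u * v) x = 0 := by rw [mul_comm, rho_mul, hu2, map_zero]
    have h2 : rho A B M X (u * v) y = 0 := by rw [rho_mul, hv2, map_zero]
    rw [map_add, h1, h2, add_zero]
  | smul β x _ hx =>
    obtain ⟨u, hu1, hu2⟩ := hx
    exact ⟨u, hu1, by rw [rho_smul, hu2, smul_zero]⟩

end

/-- **Weakly étale maps detect flatness**: a `B`-module that is flat over `A` is flat over `B`
when `A → B` is weakly étale. -/
theorem flat_of_flat_of_weaklyEtale (A B : Type u) [CommRing A] [CommRing B] [Algebra A B]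
    [Algebra.WeaklyEtale A B] (X : Type u) [AddCommGroup X] [Module A X] [Module B X]
    [IsScalarTower A B X] [Module.Flat A X] : Module.Flat B X := by
  rw [Module.Flat.iff_rTensor_preserves_injective_linearMap]
  intro M M' _ _ _ _ f hf
  letI : Module A M := Module.compHom M (algebraMap A B)
  haveI : IsScalarTower A B M := IsScalarTower.of_algebraMap_smul (fun r m => rfl)
  letI : Module A M' := Module.compHom M' (algebraMap A B)
  haveI : IsScalarTower A B M' := IsScalarTower.of_algebraMap_smul (fun r m => rfl)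
  rw [injective_iff_map_eq_zero]
  intro s hs
  obtain ⟨t, rfl⟩ := TensorProduct.mapOfCompatibleSMul_surjective B A B M X s
  have hcomm : ∀ t : M ⊗[A] X, f.rTensor X (pi A B M X t) =
      pi A B M' X ((f.restrictScalars A).rTensor X t) := by
    intro t
    induction t using TensorProduct.induction_on with
    | zero => simp
    | add x y hx hy => simp only [map_add, hx, hy]
    | tmul m x => rfl
  have h1 : pi A B M' X ((f.restrictScalars A).rTensor X t) = 0 := by
    rw [← hcomm]
    exact hs
  obtain ⟨u, hu1, hu2⟩ := exists_rho_eq_zero A B M' X _ h1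
  rw [← rTensor_rho] at hu2
  have hinj : Function.Injective ((f.restrictScalars A).rTensor X) :=
    Module.Flat.rTensor_preserves_injective_linearMap _ hf
  have h2 : rho A B M X u t = 0 := hinj (by rw [hu2, map_zero])
  have h3 := pi_rho A B M X u t
  rw [h2, map_zero, hu1, one_smul] at h3
  exact h3.symm

end Groth.Agent.Lib.Helper14.WEFlat
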