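import Mathlib
import Groth.Agent.Lib.Helper1TorDim
import Groth.Agent.Lib.Helper14WEFlat

set_option autoImplicit false
universe u
open CategoryTheory CategoryTheory.Limits
attribute [local instance] HasDerivedCategory.standard

namespace Groth.Agent.Lib.Helper14.TorSyz

open DerivedCategory Pretriangulated Groth.Agent.Lib.Helper1.Tor Groth.Agent.Lib.Helper1.TorDim

variable {R : Type u} [CommRing R]

/-- tor amplitude in `[-d, b]` for a module gives tor dimension `≤ d` -/
theorem hasTorDimLE_of_hasTorAmp (M : Type u) [AddCommGroup M] [Module R M] (d : ℕ) (b : ℤ)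
    (h : DRing.HasTorAmplitudeIn R (-(d : ℤ)) b (Dual.inD R M)) : DRing.HasTorDimLE R d M := by
  let P := ProjectiveResolution.of (ModuleCat.of R M)
  set G := P.cochainComplex with hG
  have e : Q.obj G ≅ Dual.inD R M := resIso M P
  have hGb : DRing.VanishesAbove G 0 := fun i hi => G.isZero_of_isStrictlyLE 0 i hi
  have hGf : DRing.TermwiseFlat G := termwiseFlat_of_projective G (fun k => inferInstance)
  obtain ⟨E, hE, hEf, ⟨e'⟩⟩ := h
  intro N _ _ p hp
  have htv : TorVan G (-(d : ℤ)) b := torVan_of_iso G E 0 hGb hGf _ b hE hEf (e' ≪≫ e.symm)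
  obtain ⟨q, rfl⟩ : ∃ q, p = q + 1 := ⟨p - 1, by omega⟩
  exact (exactAt_TC_iff_subsingleton_tor M N P q).1
      (htv (ModuleCat.of R N) _ (Or.inl (by push_cast; omega)))

section
variable {K P N : Type u} [AddCommGroup K] [Module R K] [AddCommGroup P] [Module R P]
  [AddCommGroup N] [Module R N] (f : K →ₗ[R] P) (g : P →ₗ[R] N)

lemma exists_triangle (hf : Function.Injective f) (hg : Function.Surjective g)
    (hfg : Function.Exact f g) :
    ∃ Tr : Triangle (Dual.D R), Tr ∈ distTriang (Dual.D R) ∧ Tr.obj₁ = Dual.inD R K ∧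
      Tr.obj₂ = Dual.inD R P ∧ Tr.obj₃ = Dual.inD R N := by
  let S : ShortComplex (ModuleCat.{u} R) :=
    ShortComplex.mk (ModuleCat.ofHom f) (ModuleCat.ofHom g)
      (by ext x; exact hfg.apply_apply_eq_zero x)
  have hS : S.ShortExact := ModuleCat.shortComplex_shortExact S hfg hf hg
  exact ⟨hS.singleTriangle, hS.singleTriangle_distinguished, rfl, rfl, rfl⟩

/-- syzygies lower the tor dimension -/
theorem hasTorDimLE_ker (hf : Function.Injective f) (hg : Function.Surjective g)
    (hfg : Function.Exact f g) [Module.Flat R P] (d : ℕ) (h : DRing.HasTorDimLE R (d + 1) N) :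
    DRing.HasTorDimLE R d K := by
  obtain ⟨Tr, hT, h1, h2, h3⟩ := exists_triangle f g hf hg hfg
  have hP : DRing.HasTorAmplitudeIn R (-((0 : ℕ) : ℤ)) 0 (Dual.inD R P) :=
    (hasTorDimLE_iff_hasTorAmp P 0).1 ((hasTorDimLE_zero_iff_flat P).2 inferInstance)
  have hN : DRing.HasTorAmplitudeIn R (-((d + 1 : ℕ) : ℤ)) 0 (Dual.inD R N) :=
    (hasTorDimLE_iff_hasTorAmp N (d + 1)).1 h
  have := (hasTorAmp_two_out_of_three (-((d + 1 : ℕ) : ℤ)) 0 Tr hT).2.2
    (h2 ▸ hasTorAmp_mono (by push_cast; omega) (by omega) hP) (h3 ▸ hN)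
  rw [h1] at this
  exact hasTorDimLE_of_hasTorAmp K d (0 + 1) (hasTorAmp_mono (by push_cast; omega) le_rfl this)

/-- a quotient of a flat module by a module of tor dimension `≤ d` has tor dimension `≤ d + 1` -/
theorem hasTorDimLE_coker (hf : Function.Injective f) (hg : Function.Surjective g)
    (hfg : Function.Exact f g) [Module.Flat R P] (d : ℕ) (h : DRing.HasTorDimLE R d K) :
    DRing.HasTorDimLE R (d + 1) N := by
  obtain ⟨Tr, hT, h1, h2, h3⟩ := exists_triangle f g hf hg hfg
  have hP : DRing.HasTorAmplitudeIn R (-((0 : ℕ) : ℤ)) 0 (Dual.inD R P) :=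
    (hasTorDimLE_iff_hasTorAmp P 0).1 ((hasTorDimLE_zero_iff_flat P).2 inferInstance)
  have hK : DRing.HasTorAmplitudeIn R (-(d : ℤ)) 0 (Dual.inD R K) :=
    (hasTorDimLE_iff_hasTorAmp K d).1 h
  have := (hasTorAmp_two_out_of_three (-((d + 1 : ℕ) : ℤ)) 0 Tr hT).1
    (h1 ▸ hasTorAmp_mono (by push_cast; omega) (by omega) hK)
    (h2 ▸ hasTorAmp_mono (by push_cast; omega) le_rfl hP)
  rw [h3] at this
  exact (hasTorDimLE_iff_hasTorAmp N (d + 1)).2 this

end

/-- **Tor dimension ascends along weakly étale maps**: a `B`-module of tor dimension `≤ k` over `A`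
has tor dimension `≤ k` over `B`. -/
theorem hasTorDimLE_of_weaklyEtale (A B : Type u) [CommRing A] [CommRing B] [Algebra A B]
    [Algebra.WeaklyEtale A B] (k : ℕ) :
    ∀ (N : Type u) [AddCommGroup N] [Module A N] [Module B N] [IsScalarTower A B N],
      DRing.HasTorDimLE A k N → DRing.HasTorDimLE B k N := by
  induction k with
  | zero =>
    intro N _ _ _ _ h
    rw [hasTorDimLE_zero_iff_flat] at h ⊢
    exact Groth.Agent.Lib.Helper14.WEFlat.flat_of_flat_of_weaklyEtale A B N
  | succ k ih =>
    intro N _ _ _ _ h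
    let g : (N →₀ B) →ₗ[B] N := Finsupp.linearCombination B id
    have hg : Function.Surjective g := Finsupp.linearCombination_id_surjective B N
    have hflatB : Module.Flat A B := Algebra.WeaklyEtale.flat
    have hflat : Module.Flat A (N →₀ B) := by
      classical exact Module.Flat.of_linearEquiv (finsuppLEquivDirectSum A B N)
    have hK : DRing.HasTorDimLE A k (LinearMap.ker g) := by
      refine hasTorDimLE_ker ((LinearMap.ker g).subtype.restrictScalars A) (g.restrictScalars A)
        (LinearMap.ker g).injective_subtype hg ?_ k h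
      exact (LinearMap.exact_subtype_ker_map g)
    have hK' := ih (LinearMap.ker g) hK
    exact hasTorDimLE_coker (LinearMap.ker g).subtype g (LinearMap.ker g).injective_subtype hg
      (LinearMap.exact_subtype_ker_map g) k hK'

end Groth.Agent.Lib.Helper14.TorSyz
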