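import Mathlib
import Groth.Agent.Lib.Helper1TorH
import Groth.Agent.Lib.Helper1Extend

/-!
# Tor amplitude descends along faithfully flat ring maps (helper1)
-/
set_option autoImplicit false
universe u
open CategoryTheory CategoryTheory.Limits MonoidalCategory
attribute [local instance] HasDerivedCategory.standard

namespace Groth.Agent.Lib.Helper1.Tor

open DerivedCategory Pretriangulated Groth.Agent.Lib.Helper21.DTrunc Groth.Agent.S14388
open Groth.Agent.Lib.Helper1.Cone Groth.Agent.Lib.Helper1.ProjRes ZeroObject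
open Groth.Agent.Lib.Helper1.Extend

variable {R R' : Type u} [CommRing R] [CommRing R'] [Algebra R R'] [Module.FaithfullyFlat R R']

/-- tor amplitude descends along faithfully flat ring maps -/
theorem hasTorAmp_of_extD (X : Dual.D R) (a b : ℤ)
    (h : DRing.HasTorAmplitudeIn R' a b ((extD R R').obj X)) : DRing.HasTorAmplitudeIn R a b X := by
  obtain ⟨E', hE', hE'f, ⟨e'⟩⟩ := h
  have hE'le : E'.IsStrictlyLE b := by
    rw [CochainComplex.isStrictlyLE_iff]
    exact fun i hi => hE' i (Or.inr hi)
  have hle' : ((extD R R').obj X).IsLE b := by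
    have : (Q.obj E').IsLE b := inferInstance
    exact tt.isLE_of_iso e' b
  have hle : X.IsLE b := isLE_of_extD X b hle'
  obtain ⟨P, hPle, hPproj, ⟨eP⟩⟩ := exists_iso_Q_proj X b
  set P' := (extCx R R').obj P with hP'
  have eP' : Q.obj E' ≅ Q.obj P' :=
    e' ≪≫ (extD R R').mapIso eP.symm ≪≫ mapQIso (ext R R') P
  have hPb : DRing.VanishesAbove P b := fun i hi => P.isZero_of_isStrictlyLE b i hi
  have hPf : DRing.TermwiseFlat P := termwiseFlat_of_projective P hPproj
  have hP'b : DRing.VanishesAbove P' b := fun i hi => (ext R R').map_isZero (hPb i hi)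
  have hP'f : DRing.TermwiseFlat P' := fun i => by
    have := hPf i
    exact Module.Flat.of_linearEquiv (extEquiv (A := R) (B := R') (P.X i))
  have htv : TorVan P' a b := torVan_of_iso P' E' b hP'b hP'f a b hE' hE'f eP'
  have hex : ∀ i : ℤ, (i < a ∨ b < i) → P.ExactAt i := by
    intro i hi
    have h1 := htv.exactAt i hi
    rw [HomologicalComplex.exactAt_iff_isZero_homology] at h1 ⊢
    exact isZero_of_isZero_ext _ (h1.of_iso (homologyMapCxIso (ext R R') P i).symm)
  have hflat' : Module.Flat R' (P'.opcycles a) :=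
    flat_of_torVan P' hP'f a b htv (P'.pOpcycles a).hom
      ((ModuleCat.epi_iff_surjective _).1 inferInstance) (fexact_d_pOpcycles P' a)
  have eop : P'.opcycles a ≅ (ext R R').obj (P.opcycles a) :=
    ShortComplex.mapOpcyclesIso (P.sc a) (ext R R')
  have : Module.Flat R' (TensorProduct R R' (P.opcycles a)) :=
    Module.Flat.of_linearEquiv
      ((extEquiv (A := R) (B := R') (P.opcycles a)).symm ≪≫ₗ eop.symm.toLinearEquiv)
  have hflat : Module.Flat R (P.opcycles a) := Module.Flat.of_flat_tensorProduct R _ R'
  exact hasTorAmp_of_iso eP (hasTorAmp_of_flat_opcycles P b hPb hPf a b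
    (fun i hi => hex i (Or.inl hi)) (fun i hi => hex i (Or.inr hi)) hflat)

end Groth.Agent.Lib.Helper1.Tor
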