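import Mathlib
import Groth.Agent.Lib.Helper1TorI

/-!
# Descent of tor amplitude and pseudo-coherence along descent families of flat algebras (helper1)
-/
set_option autoImplicit false
universe u
open CategoryTheory CategoryTheory.Limits MonoidalCategory
attribute [local instance] HasDerivedCategory.standard

namespace Groth.Agent.Lib.Helper1.Tor

open DerivedCategory Pretriangulated Groth.Agent.Lib.Helper21.DTrunc Groth.Agent.S14388
open Groth.Agent.Lib.Helper1.Cone Groth.Agent.Lib.Helper1.ProjRes ZeroObject
open Groth.Agent.Lib.Helper1.Extend Groth.Agent.Lib.Helper1.PC Groth.Agent.Lib.Helper1.PCTower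
open Groth.Agent.Lib.Helper1.Restrict Groth.Agent.S7017

section General

variable {R : Type u} [CommRing R] {J : Type} (B : J → Type u) [∀ j, CommRing (B j)]
  [∀ j, Algebra R (B j)]

/-- a family of `R`-algebras along which vanishing, flatness and finiteness of modules descend -/
structure DescFam : Prop where
  zero : ∀ (H : Type u) [AddCommGroup H] [Module R H],
    (∀ j, Subsingleton (TensorProduct R (B j) H)) → Subsingleton H
  flatD : ∀ (C : Type u) [AddCommGroup C] [Module R C],
    (∀ j, Module.Flat (B j) (TensorProduct R (B j) C)) → Module.Flat R C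
  fin : ∀ (H : Type u) [AddCommGroup H] [Module R H],
    (∀ j, Module.Finite (B j) (TensorProduct R (B j) H)) → Module.Finite R H

variable {B} [∀ j, Module.Flat R (B j)] (hB : DescFam (R := R) B)

include hB

omit [∀ j, Module.Flat R (B j)] in
lemma DescFam.isZero (H : ModuleCat.{u} R) (hz : ∀ j, IsZero ((ext R (B j)).obj H)) : IsZero H := by
  have : Subsingleton H := hB.zero H (fun j => by
    have h1 : Subsingleton ((ext R (B j)).obj H) := ModuleCat.subsingleton_of_isZero (hz j)
    exact (extEquiv (A := R) (B := B j) H).symm.injective.subsingleton)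
  exact ModuleCat.isZero_of_subsingleton H

omit [∀ j, Module.Flat R (B j)] in
lemma DescFam.finite (H : ModuleCat.{u} R) (hz : ∀ j, Module.Finite (B j) ((ext R (B j)).obj H)) :
    Module.Finite R H :=
  hB.fin H (fun j => by
    have := hz j
    exact Module.Finite.equiv (extEquiv (A := R) (B := B j) H))

lemma DescFam.isLE (X : Dual.D R) (n : ℤ) (h : ∀ j, ((extD R (B j)).obj X).IsLE n) : X.IsLE n := by
  rw [DerivedCategory.isLE_iff]
  intro i hi
  refine hB.isZero _ (fun j => ?_)
  exact ((DerivedCategory.isLE_iff _ n).1 (h j) i hi).of_iso (homologyMapDIso (ext R (B j)) X i).symm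

/-- tor amplitude descends along a descent family -/
theorem DescFam.hasTorAmp (X : Dual.D R) (a b : ℤ)
    (h : ∀ j, DRing.HasTorAmplitudeIn (B j) a b ((extD R (B j)).obj X)) :
    DRing.HasTorAmplitudeIn R a b X := by
  have hle : X.IsLE b := by
    refine hB.isLE X b (fun j => ?_)
    obtain ⟨E', hE', hE'f, ⟨e'⟩⟩ := h j
    have hE'le : E'.IsStrictlyLE b := by
      rw [CochainComplex.isStrictlyLE_iff]
      exact fun i hi => hE' i (Or.inr hi)
    have : (Q.obj E').IsLE b := inferInstance
    exact tt.isLE_of_iso e' b
  obtain ⟨P, hPle, hPproj, ⟨eP⟩⟩ := exists_iso_Q_proj X b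
  have hPb : DRing.VanishesAbove P b := fun i hi => P.isZero_of_isStrictlyLE b i hi
  have hPf : DRing.TermwiseFlat P := termwiseFlat_of_projective P hPproj
  have key : ∀ j, TorVan ((extCx R (B j)).obj P) a b ∧
      DRing.TermwiseFlat ((extCx R (B j)).obj P) := by
    intro j
    obtain ⟨E', hE', hE'f, ⟨e'⟩⟩ := h j
    have eP' : Q.obj E' ≅ Q.obj ((extCx R (B j)).obj P) :=
      e' ≪≫ (extD R (B j)).mapIso eP.symm ≪≫ mapQIso (ext R (B j)) P
    have hP'b : DRing.VanishesAbove ((extCx R (B j)).obj P) b :=
      fun i hi => (ext R (B j)).map_isZero (hPb i hi)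
    have hP'f : DRing.TermwiseFlat ((extCx R (B j)).obj P) := fun i => by
      have := hPf i
      exact Module.Flat.of_linearEquiv (extEquiv (A := R) (B := B j) (P.X i))
    exact ⟨torVan_of_iso _ E' b hP'b hP'f a b hE' hE'f eP', hP'f⟩
  have hex : ∀ i : ℤ, (i < a ∨ b < i) → P.ExactAt i := by
    intro i hi
    rw [HomologicalComplex.exactAt_iff_isZero_homology]
    refine hB.isZero _ (fun j => ?_)
    have h1 := (key j).1.exactAt i hi
    rw [HomologicalComplex.exactAt_iff_isZero_homology] at h1
    exact h1.of_iso (homologyMapCxIso (ext R (B j)) P i).symm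
  have hflat : Module.Flat R (P.opcycles a) := by
    refine hB.flatD _ (fun j => ?_)
    have hflat' : Module.Flat (B j) (((extCx R (B j)).obj P).opcycles a) :=
      flat_of_torVan _ (key j).2 a b (key j).1 (((extCx R (B j)).obj P).pOpcycles a).hom
        ((ModuleCat.epi_iff_surjective _).1 inferInstance) (fexact_d_pOpcycles _ a)
    have eop : ((extCx R (B j)).obj P).opcycles a ≅ (ext R (B j)).obj (P.opcycles a) :=
      ShortComplex.mapOpcyclesIso (P.sc a) (ext R (B j))
    exact Module.Flat.of_linearEquiv
      ((extEquiv (A := R) (B := B j) (P.opcycles a)).symm ≪≫ₗ eop.symm.toLinearEquiv)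
  exact hasTorAmp_of_iso eP (hasTorAmp_of_flat_opcycles P b hPb hPf a b
    (fun i hi => hex i (Or.inl hi)) (fun i hi => hex i (Or.inr hi)) hflat)

lemma DescFam.isPC_aux (m : ℤ) (k : ℕ) : ∀ (K : Dual.D R) (n : ℤ),
    n < m + k → K.IsLE n → (∀ j, DRing.IsPseudoCoherent (B j) m ((extD R (B j)).obj K)) →
    DRing.IsPseudoCoherent R m K := by
  induction k with
  | zero =>
    intro K n hn hK _
    have : K.IsLE (m - 1) := tt.isLE_of_le K n (m - 1) (by push_cast at hn; lia)
    exact isPC_of_isLE m K
  | succ k ih =>
    intro K n hn hK h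
    by_cases hn' : n < m + k
    · exact ih K n hn' hK h
    have hmn : m ≤ n := by lia
    have hfinA : Module.Finite R ((homologyFunctor (ModuleCat.{u} R) n).obj K) := by
      refine hB.finite _ (fun j => ?_)
      have hKB : ((extD R (B j)).obj K).IsLE n := isLE_map (ext R (B j)) K n hK
      have hfinB := (Groth.Agent.S2068.result ((extD R (B j)).obj K) n (isPC_mono hmn (h j))).1
        (fun i hi => (DerivedCategory.isLE_iff _ n).1 hKB i hi)
      exact Module.Finite.equiv (homologyMapDIso (ext R (B j)) K n).toLinearEquiv
    obtain ⟨F, ψ, hF, hψ⟩ := exists_single_conn K n hfinA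
    obtain ⟨K', v, w, hT⟩ := distinguished_cocone_triangle ψ
    have hK' : K'.IsLE (n - 1) := (conn_iff_of_distTriang _ hT n).1 hψ
    have h' : ∀ j, DRing.IsPseudoCoherent (B j) m ((extD R (B j)).obj K') := by
      intro j
      have hT' := (extD R (B j)).map_distinguished _ hT
      have h1 : DRing.IsPseudoCoherent (B j) (m + 1)
          ((extD R (B j)).obj ((DerivedCategory.singleFunctor (ModuleCat.{u} R) n).obj F)) :=
        isPC_of_iso (mapSingleIso (ext R (B j)) F n).symm
          (isPC_of_rep (m + 1) (rep_single _ (FF_ext F hF) n))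
      exact isPC_obj₃ _ hT' m h1 (h j)
    have hK'pc := ih K' (n - 1) (by push_cast at hn; lia) hK' h'
    exact isPC_obj₂ _ hT m (isPC_of_rep m (rep_single F hF n)) hK'pc

theorem DescFam.isPC [Finite J] (K : Dual.D R) (m : ℤ)
    (h : ∀ j, DRing.IsPseudoCoherent (B j) m ((extD R (B j)).obj K)) :
    DRing.IsPseudoCoherent R m K := by
  have : Fintype J := Fintype.ofFinite J
  choose n hn using fun j => exists_isLE_of_isPC m _ (h j)
  set N : ℤ := ((Finset.univ.sup (fun j => (n j).toNat) : ℕ) : ℤ) with hN
  have hle : ∀ j, n j ≤ N := by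
    intro j
    have h1 : (n j).toNat ≤ Finset.univ.sup (fun j => (n j).toNat) :=
      Finset.le_sup (f := fun j => (n j).toNat) (Finset.mem_univ j)
    have h2 : n j ≤ ((n j).toNat : ℤ) := Int.self_le_toNat (n j)
    have h3 : ((n j).toNat : ℤ) ≤ N := by
      rw [hN]
      exact_mod_cast h1
    lia
  have hK : K.IsLE N := hB.isLE K N (fun j => by
    have := hn j
    exact tt.isLE_of_le _ (n j) N (hle j))
  exact hB.isPC_aux m (N - m + 1).toNat K N (by lia) hK h

theorem DescFam.isPC' [Finite J] (K : Dual.D R)
    (h : ∀ j, DRing.IsPseudoCoherent' (B j) ((extD R (B j)).obj K)) :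
    DRing.IsPseudoCoherent' R K :=
  isPseudoCoherent'_of_forall _ (fun m => hB.isPC K m
    (fun j => Groth.Agent.S6938.isPC_of_pc' _ (h j) m))


end General

section Away

variable {R : Type u} [CommRing R]

instance isLocalizedModule_mk (r : R) (H : Type u) [AddCommGroup H] [Module R H] :
    IsLocalizedModule (Submonoid.powers r)
      (TensorProduct.mk R (Localization.Away r) H 1) :=
  (isLocalizedModule_iff_isBaseChange (Submonoid.powers r) (Localization.Away r) _).2
    (TensorProduct.isBaseChange R H (Localization.Away r))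

/-- the localizations at a family of elements generating the unit ideal form a descent family -/
theorem descFam_away {r : ℕ} (f : Fin r → R) (hf : Ideal.span (Set.range f) = ⊤) :
    DescFam (R := R) (fun j : Fin r => Localization.Away (f j)) where
  zero H _ _ hz := by
    have hz' : ∀ g : Set.range f, Subsingleton (TensorProduct R (Localization.Away g.1) H) := by
      rintro ⟨_, j, rfl⟩
      exact hz j
    refine ⟨fun x y => ?_⟩
    refine Module.eq_of_isLocalized_span (Set.range f) hf
      (Mₚ := fun g => TensorProduct R (Localization.Away g.1) H)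
      (f := fun g => TensorProduct.mk R (Localization.Away g.1) H 1) x y (fun g => ?_)
    have := hz' g
    exact Subsingleton.elim _ _
  flatD C _ _ hz := by
    have hz' : ∀ g : Set.range f, Module.Flat R (TensorProduct R (Localization.Away g.1) C) := by
      rintro ⟨_, j, rfl⟩
      have := hz j
      exact Module.Flat.trans R (Localization.Away (f j)) _
    exact Module.flat_of_isLocalized_span (R := R) (S := R) (M := C) (s := Set.range f) hf
      (Mₛ := fun g => TensorProduct R (Localization.Away g.1) C)
      (g := fun g => TensorProduct.mk R (Localization.Away g.1) C 1) hz'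
  fin H _ _ hz := by
    have hz' : ∀ g : Set.range f, Module.Finite (Localization.Away g.1)
        (TensorProduct R (Localization.Away g.1) H) := by
      rintro ⟨_, j, rfl⟩
      exact hz j
    exact Module.Finite.of_localizationSpan' (Set.range f) hf
      (Rₚ := fun g => Localization.Away g.1)
      (fun g => TensorProduct.mk R (Localization.Away g.1) H 1) hz'


end Away

end Groth.Agent.Lib.Helper1.Tor
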