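import Mathlib
import Groth.Prelude.Def_MoreMor
import Groth.Agent.Lib.Helper13KzConcat
import Groth.Agent.Lib.Helper13KzDescA
import Groth.Agent.Lib.Helper13KzDescB
import Groth.Agent.Lib.Helper1TorJ
import Groth.Agent.Lib.Helper1TorDim
import Groth.Agent.Lib.Helper1Restrict
import Groth.Agent.Lib.Helper14TorSyz
import Groth.Agent.S6960
import Groth.Agent.S6954
import Groth.Agent.S7030
import Groth.Agent.Lib.Helper5LciLocal

/-!
# Local complete intersection ring maps are perfect (helper5)

For a Koszul-regular ideal `I` of a ring `P`, the quotient `P ⧸ I` is a perfect `P`-module: locally on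
`Spec P` the Koszul complex is a finite free resolution, and perfectness is local (helper1, S6960).
Consequently an lci ring map `A → B` is pseudo-coherent and `B` has finite tor dimension over `A`.
-/

set_option autoImplicit false
universe u
open CategoryTheory CategoryTheory.Limits
attribute [local instance] HasDerivedCategory.standard

namespace Groth.Agent.Lib.Helper5.LciPerf

open DerivedCategory CohIII
open Groth.Agent.S7017 Groth.Agent.Helper13Kz Groth.Agent.Helper13KzLift
open Groth.Agent.Helper13KzConcat Groth.Agent.Helper13KzDesc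
open Groth.Agent.Lib.Helper21 Groth.Agent.Lib.Helper1.PC
open Groth.Agent.Lib.Helper1.Extend Groth.Agent.Lib.Helper1.Tor Groth.Agent.Lib.Helper1.TorDim
open Groth.Agent.Lib.Helper1.Restrict Groth.Agent.Lib.Helper14.TorSyz
open Groth.Agent.Lib.Helper5.LciComp Groth.Agent.Lib.Helper5.LciLocal

section Koszul

variable {A : Type u} [CommRing A]

/-- the terms of the Koszul complex on a finite free module are finite free -/
theorem FF_koszulCx_X (M : ModuleCat.{u} A) (hM : FF M) :
    ∀ (l : List A) (i : ℤ), FF ((koszulCx M l).X i)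
  | [], i => by
    by_cases hi : i = 0
    · subst hi
      exact FF_iso _ _ (HomologicalComplex.singleObjXSelf (ComplexShape.up ℤ) 0 M).symm hM
    · have hz : IsZero ((koszulCx M []).X i) :=
        HomologicalComplex.isZero_single_obj_X (ComplexShape.up ℤ) 0 M i hi
      haveI : Subsingleton ((koszulCx M []).X i) := ModuleCat.subsingleton_of_isZero hz
      exact FF_of_subsingleton _
  | f :: fs, i => by
    have e : (CochainComplex.mappingCone (f • 𝟙 (koszulCx M fs))).X i ≅
        (koszulCx M fs).X (i + 1) ⊞ (koszulCx M fs).X i :=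
      HomologicalComplex.homotopyCofiber.XIsoBiprod (f • 𝟙 (koszulCx M fs)) i (i + 1) rfl
    exact FF_iso _ _ e.symm
      (FF_sum _ _ (FF_koszulCx_X M hM fs (i + 1)) (FF_koszulCx_X M hM fs i))

/-- the quotient by a Koszul-regular sequence is a perfect module -/
theorem isPerfect_quot_ofList (l : List A) (hl : LCI.IsKoszulRegularSeq A l) :
    DRing.IsPerfect A (Dual.inD A (A ⧸ Ideal.ofList l)) := by
  have hFF : FF (ModuleCat.of A A) :=
    ⟨inferInstanceAs (Module.Finite A A), inferInstanceAs (Module.Free A A)⟩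
  have hK : ∀ i : ℤ, i ≠ 0 → IsZero ((koszulCx (ModuleCat.of A A) l).homology i) := by
    intro i hi
    exact (isZero_congr (koszul_eq A l) i).mp (hl i hi)
  obtain ⟨π, hπ, hker⟩ := exists_surj_KH0 A l
  have hker' : LinearMap.ker π = Ideal.ofList l := by
    rw [hker]
    exact Ideal.mul_top _
  let e0 : (koszulCx (ModuleCat.of A A) l).homology 0 ≅ ModuleCat.of A (A ⧸ Ideal.ofList l) :=
    ((Submodule.quotEquivOfEq (Ideal.ofList l) (LinearMap.ker π) hker'.symm).trans
      (LinearMap.quotKerEquivOfSurjective π hπ)).symm.toModuleIso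
  obtain ⟨e⟩ := nonempty_iso_single (koszulCx (ModuleCat.of A A) l) _ hK e0
  refine ⟨koszulCx (ModuleCat.of A A) l, -(l.length : ℤ), 0, ?_, ?_,
    ⟨e ≪≫ ((singleFunctorIsoCompQ (ModuleCat.{u} A) 0).app _).symm⟩⟩
  · intro i hi
    rcases hi with hi | hi
    · exact isZero_koszulCx_X_neg _ l i hi
    · exact isZero_koszulCx_X_pos _ l i hi
  · intro i
    have h := FF_koszulCx_X _ hFF l i
    exact ⟨h.1, FF_proj _ h⟩

end Koszul

section Local

/-- perfectness is local on the spectrum (derived form of helper1's S6960) -/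
theorem isPerfect_of_away {R : Type u} [CommRing R] {r : ℕ} (f : Fin r → R)
    (hf : Ideal.span (Set.range f) = ⊤) (X : Dual.D R)
    (h : ∀ j, DRing.IsPerfect (Localization.Away (f j))
      ((extD R (Localization.Away (f j))).obj X)) :
    DRing.IsPerfect R X := by
  have e : Q.obj (Q.objPreimage X) ≅ X := Q.objObjPreimageIso X
  refine Groth.Agent.S7030.isPerfect_of_iso e
    (Groth.Agent.S6960.result f hf (Q.objPreimage X) (fun j => ?_))
  exact Groth.Agent.S7030.isPerfect_of_iso
    ((extD R (Localization.Away (f j))).mapIso e.symm ≪≫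
      mapQIso (ext R (Localization.Away (f j))) (Q.objPreimage X)) (h j)

/-- **The quotient by a Koszul-regular ideal is a perfect module.** -/
theorem isPerfect_quot_of_isKoszulRegularIdeal {P : Type u} [CommRing P] (I : Ideal P)
    (hI : LCI.IsKoszulRegularIdeal I) : DRing.IsPerfect P (Dual.inD P (P ⧸ I)) := by
  classical
  let S : Set P := {g | ∃ l : List (Localization.Away g),
    LCI.IsKoszulRegularSeq (Localization.Away g) l ∧
      I.map (algebraMap P (Localization.Away g)) = Ideal.ofList l}
  have hS : Ideal.span S = ⊤ := by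
    by_contra hne
    obtain ⟨m, hm, hle⟩ := Ideal.exists_le_maximal _ hne
    by_cases hIm : I ≤ m
    · obtain ⟨g, hg, l, hl, hIl⟩ := hI ⟨m, hm.isPrime⟩ hIm
      exact hg (hle (Ideal.subset_span ⟨l, hl, hIl⟩))
    · obtain ⟨g, hgI, hgm⟩ := SetLike.not_le_iff_exists.mp hIm
      refine hgm (hle (Ideal.subset_span ⟨[1], ?_, ?_⟩))
      · refine isKoszulRegularSeq_of_ofList_eq_top _ ?_
        rw [Ideal.ofList_singleton, Ideal.span_singleton_one]
      · rw [Ideal.ofList_singleton, Ideal.span_singleton_one]
        exact Ideal.eq_top_of_isUnit_mem _ (Ideal.mem_map_of_mem _ hgI)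
          (IsLocalization.Away.algebraMap_isUnit g)
  obtain ⟨s, hsS, hs⟩ := (Ideal.span_eq_top_iff_finite S).mp hS
  let f : Fin s.card → P := fun j => ((s.equivFin.symm j : s) : P)
  have hrange : Set.range f = (s : Set P) := by
    ext x
    constructor
    · rintro ⟨j, rfl⟩
      exact (s.equivFin.symm j).2
    · intro hx
      exact ⟨s.equivFin ⟨x, hx⟩, by simp [f]⟩
  have hf : Ideal.span (Set.range f) = ⊤ := by
    rw [hrange]
    exact hs
  refine isPerfect_of_away f hf _ (fun j => ?_)
  obtain ⟨l, hl, hIl⟩ := hsS (Finset.mem_coe.mpr (s.equivFin.symm j).2)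
  have h1 := isPerfect_quot_ofList l hl
  refine Groth.Agent.S7030.isPerfect_of_iso ?_ h1
  exact (DerivedCategory.singleFunctor (ModuleCat.{u} (Localization.Away (f j))) 0).mapIso
      (LinearEquiv.toModuleIso
        ((Submodule.quotEquivOfEq (Ideal.ofList l)
          (I.map (algebraMap P (Localization.Away (f j)))) hIl.symm).trans
          (Ideal.qoutMapEquivTensorQout (Localization.Away (f j))))) ≪≫
    (extDInDIso (A := P) (B := Localization.Away (f j)) (P ⧸ I)).symm

end Local

section Hom

/-- an lci ring map has finitely generated presentation kernel, hence is of finite presentation -/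
theorem finitePresentation_of_isLCI (A B : Type u) [CommRing A] [CommRing B] [Algebra A B]
    (h : LCI.IsLCI A B) : Algebra.FinitePresentation A B := by
  obtain ⟨_, n, φ, hφ, hker⟩ := h
  exact Algebra.FinitePresentation.of_surjective hφ (fg_of_isKoszulRegularIdeal hker)

/-- **An lci ring map is perfect.** -/
theorem isPerfectHom_of_isLCI (A B : Type u) [CommRing A] [CommRing B] [Algebra A B]
    (h : LCI.IsLCI A B) : MoreMor.IsPerfectHom A B := by
  obtain ⟨_, n, φ, hφ, hker⟩ := h
  letI algPB : Algebra (MvPolynomial (Fin n) A) B := φ.toRingHom.toAlgebra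
  haveI : IsScalarTower A (MvPolynomial (Fin n) A) B :=
    IsScalarTower.of_algebraMap_eq (fun a => (φ.commutes a).symm)
  have hsurj : Function.Surjective (Algebra.linearMap (MvPolynomial (Fin n) A) B) := hφ
  have hk : LinearMap.ker (Algebra.linearMap (MvPolynomial (Fin n) A) B) =
      RingHom.ker φ.toRingHom := by
    ext x
    rfl
  let eq : (MvPolynomial (Fin n) A ⧸ RingHom.ker φ.toRingHom) ≃ₗ[MvPolynomial (Fin n) A] B :=
    (Submodule.quotEquivOfEq (RingHom.ker φ.toRingHom)
      (LinearMap.ker (Algebra.linearMap (MvPolynomial (Fin n) A) B)) hk.symm).trans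
      (LinearMap.quotKerEquivOfSurjective _ hsurj)
  have hperf : DRing.IsPerfect (MvPolynomial (Fin n) A) (Dual.inD (MvPolynomial (Fin n) A) B) :=
    Groth.Agent.S7030.isPerfect_of_iso
      ((DerivedCategory.singleFunctor (ModuleCat.{u} (MvPolynomial (Fin n) A)) 0).mapIso
        eq.toModuleIso)
      (isPerfect_quot_of_isKoszulRegularIdeal _ hker)
  obtain ⟨hpc, a, b, hab⟩ := (Groth.Agent.S6954.result (MvPolynomial (Fin n) A) _).mp hperf
  refine ⟨⟨n, φ, hφ, hpc⟩, ?_⟩
  have hflat : DRing.HasTorAmplitudeIn A (-((0 : ℕ) : ℤ)) 0 (Dual.inD A (MvPolynomial (Fin n) A)) :=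
    (hasTorDimLE_iff_hasTorAmp (MvPolynomial (Fin n) A) 0).mp
      ((hasTorDimLE_zero_iff_flat (MvPolynomial (Fin n) A)).mpr inferInstance)
  have h1 := hasTorAmp_restrictD 0 hflat (Dual.inD (MvPolynomial (Fin n) A) B) a b hab
  have e : (DRing.restrictD (algebraMap A (MvPolynomial (Fin n) A))).obj
      (Dual.inD (MvPolynomial (Fin n) A) B) ≅ Dual.inD A B :=
    restrictDSingleIso (algebraMap A (MvPolynomial (Fin n) A))
        (ModuleCat.of (MvPolynomial (Fin n) A) B) 0 ≪≫
      (DerivedCategory.singleFunctor (ModuleCat.{u} A) 0).mapIso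
        (restrictScalarsAlgebraIso (A := A) (B := MvPolynomial (Fin n) A) B)
  have h2 := hasTorAmp_of_iso e h1
  refine ⟨(-a).toNat, hasTorDimLE_of_hasTorAmp B _ b (hasTorAmp_mono ?_ le_rfl h2)⟩
  have := Int.self_le_toNat (-a)
  push_cast
  omega

end Hom

end Groth.Agent.Lib.Helper5.LciPerf
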