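import Mathlib
import Groth.Prelude.Def_MoreMor
import Groth.Agent.Lib.Helper5LciPerf
import Groth.Agent.S6962
import Groth.Agent.S6935
import Groth.Agent.S6938
import Groth.Agent.Lib.Helper4RectDepthB

/-!
# Perfect and pseudo-coherent ring maps: basic criteria (helper5)
-/

set_option autoImplicit false
universe u
open CategoryTheory CategoryTheory.Limits
attribute [local instance] HasDerivedCategory.standard

namespace Groth.Agent.Lib.Helper5.PerfHom

open DerivedCategory
open Groth.Agent.Lib.Helper1.Extend Groth.Agent.Lib.Helper1.Tor Groth.Agent.Lib.Helper1.TorDim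
open Groth.Agent.Lib.Helper1.Restrict Groth.Agent.Lib.Helper14.TorSyz

section Ring

variable {A B : Type u} [CommRing A] [CommRing B] [Algebra A B]

/-- a presentation over which `B` is a perfect module exhibits `A → B` as a perfect ring map -/
theorem isPerfectHom_of_isPerfect_pres (n : ℕ) (φ : MvPolynomial (Fin n) A →ₐ[A] B)
    (hφ : Function.Surjective φ)
    (hperf : letI := φ.toRingHom.toAlgebra
      DRing.IsPerfect (MvPolynomial (Fin n) A) (Dual.inD (MvPolynomial (Fin n) A) B)) :
    MoreMor.IsPerfectHom A B := by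
  letI algPB : Algebra (MvPolynomial (Fin n) A) B := φ.toRingHom.toAlgebra
  haveI : IsScalarTower A (MvPolynomial (Fin n) A) B :=
    IsScalarTower.of_algebraMap_eq (fun a => (φ.commutes a).symm)
  have hperf' : DRing.IsPerfect (MvPolynomial (Fin n) A)
      (Dual.inD (MvPolynomial (Fin n) A) B) := hperf
  obtain ⟨hpc, a, b, hab⟩ := (Groth.Agent.S6954.result (MvPolynomial (Fin n) A) _).mp hperf'
  refine ⟨⟨n, φ, hφ, hpc⟩, ?_⟩
  have hflat : DRing.HasTorAmplitudeIn A (-((0 : ℕ) : ℤ)) 0 (Dual.inD A (MvPolynomial (Fin n) A)) :=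
    (hasTorDimLE_iff_hasTorAmp (MvPolynomial (Fin n) A) 0).mp
      ((hasTorDimLE_zero_iff_flat (MvPolynomial (Fin n) A)).mpr inferInstance)
  have h1 := hasTorAmp_restrictD 0 hflat (Dual.inD (MvPolynomial (Fin n) A) B) a b hab
  have e : (DRing.restrictD (algebraMap A (MvPolynomial (Fin n) A))).obj
      (Dual.inD (MvPolynomial (Fin n) A) B) ≅ Dual.inD A B :=
    restrictDSingleIso (algebraMap A (MvPolynomial (Fin n) A))
        (ModuleCat.of (MvPolynomial (Fin n) A) B) 0 ≪≫
      (DerivedCategory.singleFunctor (ModuleCat.{u} A) 0).mapIso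
        (restrictScalarsAlgebraIso (A := A) (B := MvPolynomial (Fin n) A) B)
  have h2 := hasTorAmp_of_iso e h1
  refine ⟨(-a).toNat, hasTorDimLE_of_hasTorAmp B _ b (hasTorAmp_mono ?_ le_rfl h2)⟩
  have := Int.self_le_toNat (-a)
  push_cast
  omega

/-- a finite type algebra over a regular ring is a perfect ring map -/
theorem isPerfectHom_of_isRegularRing [IsRegularRing A] [Algebra.FiniteType A B] :
    MoreMor.IsPerfectHom A B := by
  obtain ⟨n, φ, hφ⟩ := Algebra.FiniteType.iff_quotient_mvPolynomial''.mp
    (inferInstance : Algebra.FiniteType A B)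
  refine isPerfectHom_of_isPerfect_pres n φ hφ ?_
  letI algPB : Algebra (MvPolynomial (Fin n) A) B := φ.toRingHom.toAlgebra
  haveI : Module.Finite (MvPolynomial (Fin n) A) B :=
    Module.Finite.of_surjective (Algebra.linearMap (MvPolynomial (Fin n) A) B) hφ
  exact (Groth.Agent.S6962.result (MvPolynomial (Fin n) A)
    (fun p => IsRegularRing.isRegularLocalRing_localization p.asIdeal) B).mpr inferInstance

/-- a pseudo-coherent ring map is of finite presentation -/
theorem finitePresentation_of_isPseudoCoherentHom (h : MoreMor.IsPseudoCoherentHom A B) :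
    Algebra.FinitePresentation A B := by
  obtain ⟨n, φ, hφ, hpc⟩ := h
  letI algPB : Algebra (MvPolynomial (Fin n) A) B := φ.toRingHom.toAlgebra
  have hpc' : DRing.IsPseudoCoherent' (MvPolynomial (Fin n) A)
      (Dual.inD (MvPolynomial (Fin n) A) B) := hpc
  have h1 : DRing.IsPseudoCoherentModule (MvPolynomial (Fin n) A) (-1) B :=
    Groth.Agent.S6938.isPC_of_pc' _ hpc' (-1)
  haveI hfp : Module.FinitePresentation (MvPolynomial (Fin n) A) B :=
    (Groth.Agent.S6935.result (MvPolynomial (Fin n) A) B).2.mp h1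
  have hsurj : Function.Surjective (Algebra.linearMap (MvPolynomial (Fin n) A) B) := hφ
  have hfg := Module.FinitePresentation.fg_ker (Algebra.linearMap (MvPolynomial (Fin n) A) B) hsurj
  have hk : LinearMap.ker (Algebra.linearMap (MvPolynomial (Fin n) A) B) =
      RingHom.ker φ.toRingHom := by
    ext x
    rfl
  rw [hk] at hfg
  exact Algebra.FinitePresentation.of_surjective hφ hfg

end Ring

section Sch

open AlgebraicGeometry

theorem locallyOfFinitePresentation_of_isPseudoCoherentMor {X S : Scheme.{u}} (f : X ⟶ S)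
    (hf : MoreMor.IsPseudoCoherentMor f) : LocallyOfFinitePresentation f := by
  rw [HasRingHomProperty.iff_appLE (P := @LocallyOfFinitePresentation)]
  intro V U e
  letI := (f.appLE V.1 U.1 e).hom.toAlgebra
  exact finitePresentation_of_isPseudoCoherentHom (hf U.1 V.1 U.2 V.2 e)

theorem isPerfectMor_of_regular {X S : Scheme.{u}} (f : X ⟶ S) [LocallyOfFiniteType f]
    [IsLocallyNoetherian S] (hreg : ∀ s : S, IsRegularLocalRing (S.presheaf.stalk s)) :
    MoreMor.IsPerfectMor f := by
  intro U V hU hV hUV
  letI := (f.appLE V U hUV).hom.toAlgebra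
  haveI : IsRegularRing Γ(S, V) :=
    Groth.Agent.Lib.Helper4.RectDepth.isRegularRing_sections hreg hV
  haveI : Algebra.FiniteType Γ(S, V) Γ(X, U) :=
    (HasRingHomProperty.iff_appLE (P := @LocallyOfFiniteType)).mp inferInstance ⟨V, hV⟩ ⟨U, hU⟩ hUV
  exact isPerfectHom_of_isRegularRing

end Sch

end Groth.Agent.Lib.Helper5.PerfHom
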