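import Mathlib
import Groth.Prelude.Def_MoreMor
import Groth.Agent.Lib.Helper5PerfHom
import Groth.Agent.Lib.Helper1RelPC2
import Groth.Agent.S6940
import Groth.Agent.S7000
import Groth.Agent.S7019

/-!
# Pseudo-coherent ring maps: change of rings, independence of the presentation, composition (helper5)
-/

set_option autoImplicit false
universe u
open CategoryTheory CategoryTheory.Limits
attribute [local instance] HasDerivedCategory.standard

namespace Groth.Agent.Lib.Helper5.PCHom

open DerivedCategory MvPolynomial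
open Groth.Agent.Lib.Helper1.Extend Groth.Agent.Lib.Helper1.Restrict Groth.Agent.Lib.Helper1.RelPC
open Groth.Agent.Lib.Helper5.KzIdeal Groth.Agent.Lib.Helper5.KzPres Groth.Agent.Lib.Helper5.KzExch
open Groth.Agent.Lib.Helper5.LciLocal Groth.Agent.Lib.Helper5.LciPerf

/-- `B` is a pseudo-coherent `R`-module through the ring map `γ` -/
def PCMod {R B : Type u} [CommRing R] [CommRing B] (γ : R →+* B) : Prop :=
  letI := γ.toAlgebra
  DRing.IsPseudoCoherentModule' R B

/-- the ring map `φ` is pseudo-coherent -/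
def PCHom {A B : Type u} [CommRing A] [CommRing B] (φ : A →+* B) : Prop :=
  @MoreMor.IsPseudoCoherentHom A B _ _ φ.toAlgebra

section CR

/-- pseudo-coherence of a module over `R'` and over `R`, when `R'` is a pseudo-coherent `R`-module -/
theorem isPC'_iff_of_tower {R R' : Type u} [CommRing R] [CommRing R'] [Algebra R R']
    (hR' : DRing.IsPseudoCoherentModule' R R') (M : Type u) [AddCommGroup M] [Module R M]
    [Module R' M] [IsScalarTower R R' M] :
    DRing.IsPseudoCoherentModule' R' M ↔ DRing.IsPseudoCoherentModule' R M := by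
  have h := (Groth.Agent.S6940.result hR' (Dual.inD R' M) 0).2
  have e : (DRing.restrictD (algebraMap R R')).obj (Dual.inD R' M) ≅ Dual.inD R M :=
    restrictDSingleIso (algebraMap R R') (ModuleCat.of R' M) 0 ≪≫
      (DerivedCategory.singleFunctor (ModuleCat.{u} R) 0).mapIso
        (restrictScalarsAlgebraIso (A := R) (B := R') M)
  exact h.trans ⟨pc'_of_iso e, pc'_of_iso e.symm⟩

theorem pcMod_comp_iff {R R' B : Type u} [CommRing R] [CommRing R'] [CommRing B]
    (ρ : R →+* R') (γ : R' →+* B) (hρ : PCMod ρ) : PCMod γ ↔ PCMod (γ.comp ρ) := by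
  letI := ρ.toAlgebra
  letI := γ.toAlgebra
  letI algRB : Algebra R B := (γ.comp ρ).toAlgebra
  haveI : IsScalarTower R R' B := IsScalarTower.of_algebraMap_eq (fun r => rfl)
  exact isPC'_iff_of_tower hρ B

/-- a surjection with Koszul-regular kernel makes the target a perfect module -/
theorem isPerfect_of_surjective_of_kr {T S : Type u} [CommRing T] [CommRing S] (ρ : T →+* S)
    (hρ : Function.Surjective ρ) (hker : LCI.IsKoszulRegularIdeal (RingHom.ker ρ)) :
    letI := ρ.toAlgebra
    DRing.IsPerfect T (Dual.inD T S) := by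
  letI := ρ.toAlgebra
  have hsurj : Function.Surjective (Algebra.linearMap T S) := hρ
  have hk : LinearMap.ker (Algebra.linearMap T S) = RingHom.ker ρ := by
    ext x
    rfl
  let eq : (T ⧸ RingHom.ker ρ) ≃ₗ[T] S :=
    (Submodule.quotEquivOfEq (RingHom.ker ρ) (LinearMap.ker (Algebra.linearMap T S)) hk.symm).trans
      (LinearMap.quotKerEquivOfSurjective _ hsurj)
  exact Groth.Agent.S7030.isPerfect_of_iso
    ((DerivedCategory.singleFunctor (ModuleCat.{u} T) 0).mapIso eq.toModuleIso)
    (isPerfect_quot_of_isKoszulRegularIdeal _ hker)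

theorem pcMod_of_surjective_of_kr {T S : Type u} [CommRing T] [CommRing S] (ρ : T →+* S)
    (hρ : Function.Surjective ρ) (hker : LCI.IsKoszulRegularIdeal (RingHom.ker ρ)) : PCMod ρ :=
  Groth.Agent.S7019.isPC'_of_isPerfect _ (isPerfect_of_surjective_of_kr ρ hρ hker)

theorem isKoszulRegularIdeal_bot (R : Type u) [CommRing R] :
    LCI.IsKoszulRegularIdeal (⊥ : Ideal R) := by
  rw [kr_iff, ← Ideal.ofList_nil]
  exact kr_ofList [] (isKoszulRegularSeq_nil R)

theorem pcMod_ringEquiv {R R' : Type u} [CommRing R] [CommRing R'] (e : R ≃+* R') :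
    PCMod (e : R →+* R') :=
  pcMod_of_surjective_of_kr _ e.surjective (by
    rw [RingHom.ker_coe_equiv]
    exact isKoszulRegularIdeal_bot R)

theorem pcMod_eval {S : Type u} [CommRing S] {m : ℕ} (s : Fin m → S) :
    PCMod (eval s : MvPolynomial (Fin m) S →+* S) :=
  pcMod_of_surjective_of_kr _ (eval_surjective s) (by
    rw [kr_iff, ker_eval, ← ofList_ofFn]
    exact kr_ofList _ (isKoszulRegularSeq_uu s))

end CR

section IP

variable {A B : Type u} [CommRing A] [CommRing B] [Algebra A B]

/-- **independence of the presentation** -/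
theorem pcMod_pres_indep {n m : ℕ} (α : MvPolynomial (Fin n) A →ₐ[A] B)
    (hα : Function.Surjective α) (β : MvPolynomial (Fin m) A →ₐ[A] B)
    (hβ : Function.Surjective β) (h : PCMod α.toRingHom) : PCMod β.toRingHom := by
  choose s hs using fun j : Fin m => hα (β (X j))
  choose t ht using fun i : Fin n => hβ (α (X i))
  let e : MvPolynomial (Fin m) (MvPolynomial (Fin n) A) ≃ₐ[A]
      MvPolynomial (Fin n) (MvPolynomial (Fin m) A) := commAlgEquiv A (Fin m) (Fin n)
  have hcomp : (β.toRingHom.comp (eval t)).comp (e.toRingEquiv : _ →+* _) =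
      α.toRingHom.comp (eval s) := by
    apply MvPolynomial.ringHom_ext'
    · apply MvPolynomial.ringHom_ext
      · intro a
        simp [e]
      · intro i
        simp [e, ht]
    · intro j
      simp [e, hs]
  have h1 : PCMod (α.toRingHom.comp (eval s)) :=
    (pcMod_comp_iff (eval s) α.toRingHom (pcMod_eval s)).mp h
  rw [← hcomp] at h1
  have h2 : PCMod (β.toRingHom.comp (eval t)) :=
    (pcMod_comp_iff _ _ (pcMod_ringEquiv e.toRingEquiv)).mpr h1
  exact (pcMod_comp_iff (eval t) β.toRingHom (pcMod_eval t)).mpr h2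

/-- a pseudo-coherent ring map is pseudo-coherent through every presentation -/
theorem pcMod_of_isPseudoCoherentHom (h : MoreMor.IsPseudoCoherentHom A B) {m : ℕ}
    (β : MvPolynomial (Fin m) A →ₐ[A] B) (hβ : Function.Surjective β) : PCMod β.toRingHom := by
  obtain ⟨n, α, hα, hpc⟩ := h
  exact pcMod_pres_indep α hα β hβ hpc

end IP

section BC

attribute [local instance] MvPolynomial.algebraMvPolynomial

/-- polynomial base change -/
theorem pcMod_map {S₀ B : Type u} [CommRing S₀] [CommRing B] (α : S₀ →+* B) (h : PCMod α)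
    (m : ℕ) : PCMod (MvPolynomial.map α :
      MvPolynomial (Fin m) S₀ →+* MvPolynomial (Fin m) B) := by
  letI := α.toAlgebra
  have h' : DRing.IsPseudoCoherentModule' (MvPolynomial (Fin m) S₀)
      (TensorProduct S₀ (MvPolynomial (Fin m) S₀) B) :=
    (Groth.Agent.S7000.result (A := S₀) (B := MvPolynomial (Fin m) S₀) 0 B).2 h
  have hbc : IsBaseChange (MvPolynomial (Fin m) S₀)
      (IsScalarTower.toAlgHom S₀ B (MvPolynomial (Fin m) B)).toLinearMap :=
    (inferInstance : Algebra.IsPushout S₀ (MvPolynomial (Fin m) S₀) B (MvPolynomial (Fin m) B)).out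
  exact pc'_of_iso ((DerivedCategory.singleFunctor
    (ModuleCat.{u} (MvPolynomial (Fin m) S₀)) 0).mapIso hbc.equiv.toModuleIso) h'

end BC

section Comp

variable {A B C : Type u} [CommRing A] [CommRing B] [CommRing C]

theorem isPseudoCoherentHom_comp [Algebra A B] [Algebra B C] [Algebra A C] [IsScalarTower A B C]
    (h1 : MoreMor.IsPseudoCoherentHom A B) (h2 : MoreMor.IsPseudoCoherentHom B C) :
    MoreMor.IsPseudoCoherentHom A C := by
  obtain ⟨n, α, hα, hpcα⟩ := h1
  obtain ⟨m, β, hβ, hpcβ⟩ := h2
  let αm : MvPolynomial (Fin m) (MvPolynomial (Fin n) A) →+* MvPolynomial (Fin m) B :=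
    MvPolynomial.map α.toRingHom
  have hαm : Function.Surjective αm := MvPolynomial.map_surjective _ hα
  have hpc1 : PCMod αm := pcMod_map α.toRingHom hpcα m
  have hpc2 : PCMod (β.toRingHom.comp αm) := (pcMod_comp_iff αm β.toRingHom hpc1).mp hpcβ
  let e : MvPolynomial (Fin (m + n)) A ≃ₐ[A] MvPolynomial (Fin m) (MvPolynomial (Fin n) A) :=
    (MvPolynomial.renameEquiv A finSumFinEquiv.symm).trans
      (MvPolynomial.sumAlgEquiv A (Fin m) (Fin n))
  let γr : MvPolynomial (Fin (m + n)) A →+* C :=
    (β.toRingHom.comp αm).comp (e.toRingEquiv : _ →+* _)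
  have hγalg : ∀ a : A, γr (algebraMap A _ a) = algebraMap A C a := by
    intro a
    show β (αm (e (algebraMap A _ a))) = _
    rw [e.commutes, MvPolynomial.algebraMap_apply, MvPolynomial.map_C]
    have h1 : α.toRingHom (algebraMap A (MvPolynomial (Fin n) A) a) = algebraMap A B a :=
      α.commutes a
    rw [h1]
    have h2 : (MvPolynomial.C (algebraMap A B a) : MvPolynomial (Fin m) B) =
        algebraMap B (MvPolynomial (Fin m) B) (algebraMap A B a) := rfl
    rw [h2, β.commutes, ← IsScalarTower.algebraMap_apply]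
  let γ : MvPolynomial (Fin (m + n)) A →ₐ[A] C := { γr with commutes' := hγalg }
  refine ⟨m + n, γ, (hβ.comp hαm).comp e.surjective, ?_⟩
  exact (pcMod_comp_iff _ _ (pcMod_ringEquiv e.toRingEquiv)).mp hpc2

theorem pcHom_comp (φ : A →+* B) (ψ : B →+* C) (hφ : PCHom φ) (hψ : PCHom ψ) :
    PCHom (ψ.comp φ) := by
  letI := φ.toAlgebra
  letI := ψ.toAlgebra
  letI : Algebra A C := (ψ.comp φ).toAlgebra
  haveI : IsScalarTower A B C := IsScalarTower.of_algebraMap_eq (fun r => rfl)
  exact isPseudoCoherentHom_comp hφ hψ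

theorem stableUnderComposition : RingHom.StableUnderComposition (@PCHom) :=
  fun _ _ _ _ _ _ f g hf hg => pcHom_comp f g hf hg

/-- lci ring maps are pseudo-coherent -/
theorem pcHom_of_isLCIHom (φ : A →+* B) (h : Groth.Agent.Lib.Helper5.LciComp.IsLCIHom φ) :
    PCHom φ := by
  letI := φ.toAlgebra
  exact (isPerfectHom_of_isLCI A B h).1

theorem holdsForLocalizationAway : RingHom.HoldsForLocalizationAway (@PCHom) :=
  fun _ _ _ _ _ r _ => pcHom_of_isLCIHom _
    (Groth.Agent.Lib.Helper5.LciLocal.holdsForLocalizationAway _ r)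

end Comp

end Groth.Agent.Lib.Helper5.PCHom
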