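import Mathlib
import Groth.Agent.Lib.Helper5PCHom
import Groth.Agent.Lib.Helper5KzLocal

/-!
# Pseudo-coherent ring maps are local on the target (helper5)
-/

set_option autoImplicit false
universe u
open CategoryTheory CategoryTheory.Limits
attribute [local instance] HasDerivedCategory.standard

namespace Groth.Agent.Lib.Helper5.PCLocal

open DerivedCategory
open Groth.Agent.Lib.Helper1.Extend Groth.Agent.Lib.Helper1.Restrict Groth.Agent.Lib.Helper1.RelPC
open Groth.Agent.Lib.Helper1.Tor
open Groth.Agent.Lib.Helper5.KzIdeal Groth.Agent.Lib.Helper5.KzPres Groth.Agent.Lib.Helper5.KzExch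
open Groth.Agent.Lib.Helper5.KzLocal
open Groth.Agent.Lib.Helper5.LciLocal Groth.Agent.Lib.Helper5.LciPerf
open Groth.Agent.Lib.Helper5.PCHom Groth.Agent.Lib.Helper5.PerfHom

section Desc

variable {R : Type u} [CommRing R]

/-- helper1's `descFam_away` for an arbitrary index type -/
theorem descFam_away' {J : Type} (f : J → R) (hf : Ideal.span (Set.range f) = ⊤) :
    DescFam (R := R) (fun j : J => Localization.Away (f j)) where
  zero H _ _ hz := by
    have hz' : ∀ g : Set.range f, Subsingleton (TensorProduct R (Localization.Away g.1) H) := by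
      rintro ⟨_, j, rfl⟩
      exact hz j
    refine ⟨fun x y => ?_⟩
    refine Module.eq_of_isLocalized_span (Set.range f) hf
      (Mₚ := fun g => TensorProduct R (Localization.Away g.1) H)
      (f := fun g => TensorProduct.mk R (Localization.Away g.1) H 1) x y (fun g => ?_)
    have := hz' g
    exact Subsingleton.elim _ _
  flatD C _ _ hz := by
    have hz' : ∀ g : Set.range f, Module.Flat R (TensorProduct R (Localization.Away g.1) C) := by
      rintro ⟨_, j, rfl⟩
      have := hz j
      exact Module.Flat.trans R (Localization.Away (f j)) _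
    exact Module.flat_of_isLocalized_span (R := R) (S := R) (M := C) (s := Set.range f) hf
      (Mₛ := fun g => TensorProduct R (Localization.Away g.1) C)
      (g := fun g => TensorProduct.mk R (Localization.Away g.1) C 1) hz'
  fin H _ _ hz := by
    have hz' : ∀ g : Set.range f, Module.Finite (Localization.Away g.1)
        (TensorProduct R (Localization.Away g.1) H) := by
      rintro ⟨_, j, rfl⟩
      exact hz j
    exact Module.Finite.of_localizationSpan' (Set.range f) hf
      (Rₚ := fun g => Localization.Away g.1)
      (fun g => TensorProduct.mk R (Localization.Away g.1) H 1) hz'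

/-- pseudo-coherence of a module is local on the spectrum -/
theorem isPC'_of_away {J : Type} [Finite J] (f : J → R) (hf : Ideal.span (Set.range f) = ⊤)
    (M : Type u) [AddCommGroup M] [Module R M]
    (h : ∀ j, DRing.IsPseudoCoherentModule' (Localization.Away (f j))
      (TensorProduct R (Localization.Away (f j)) M)) :
    DRing.IsPseudoCoherentModule' R M :=
  (descFam_away' f hf).isPC' (Dual.inD R M) (fun j =>
    pc'_of_iso (extDInDIso (A := R) (B := Localization.Away (f j)) M).symm (h j))

theorem isPC'_of_subsingleton (M : Type u) [AddCommGroup M] [Module R M] [Subsingleton M] :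
    DRing.IsPseudoCoherentModule' R M :=
  Groth.Agent.S7019.isPC'_of_isPerfect _ (Groth.Agent.S7030.isPerfect_of_isZero
    ((DerivedCategory.singleFunctor (ModuleCat.{u} R) 0).map_isZero
      (ModuleCat.isZero_of_subsingleton (ModuleCat.of R M))))

end Desc

section Adjoin

open Polynomial

variable {P : Type u} [CommRing P]

/-- `P[X] → P_G`, `X ↦ 1/G` -/
noncomputable def rho (G : P) : Polynomial P →+* Localization.Away G :=
  ((Localization.awayEquivAdjoin G).symm.toRingEquiv.toRingHom).comp
    (AdjoinRoot.mk (C G * X - 1))

theorem rho_surjective (G : P) : Function.Surjective (rho G) :=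
  (Localization.awayEquivAdjoin G).symm.surjective.comp AdjoinRoot.mk_surjective

theorem rho_C (G : P) (p : P) : rho G (C p) = algebraMap P (Localization.Away G) p := by
  show (Localization.awayEquivAdjoin G).symm (AdjoinRoot.mk _ (C p)) = _
  have h : AdjoinRoot.mk (C G * X - 1) (C p) = algebraMap P (AdjoinRoot (C G * X - 1)) p := rfl
  rw [h, AlgEquiv.commutes]

theorem ker_rho (G : P) : RingHom.ker (rho G) = Ideal.span {C G * X - 1} := by
  unfold rho
  rw [RingHom.ker_equiv_comp]
  exact Ideal.mk_ker

theorem pcMod_rho (G : P) : PCMod (rho G) :=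
  pcMod_of_surjective_of_kr _ (rho_surjective G) (by
    rw [kr_iff, ker_rho, ← Ideal.ofList_singleton]
    exact kr_ofList _ (isKoszulRegularSeq_singleton _ (isSMulRegular_CX_sub_one G)))

end Adjoin

section Chart

variable {R S : Type u} [CommRing R] [CommRing S] [Algebra R S] {n : ℕ}
  (α : MvPolynomial (Fin n) R →ₐ[R] S) (hα : Function.Surjective α)

include hα in
/-- the chart at `G`: if `R → S_r` is pseudo-coherent, `S_r` is a pseudo-coherent `P_G`-module -/
theorem pcMod_awayMap (G : MvPolynomial (Fin n) R) (S' : Type u) [CommRing S'] [Algebra S S']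
    [IsLocalization.Away (α.toRingHom G) S']
    (H : PCHom ((algebraMap S S').comp (algebraMap R S))) :
    PCMod (IsLocalization.Away.map (Localization.Away G) S' α.toRingHom G) := by
  have hαr_surj : Function.Surjective
      (IsLocalization.Away.map (Localization.Away G) S' α.toRingHom G) :=
    away_map_surjective α.toRingHom hα G (Localization.Away G) S'
  let ε : MvPolynomial (Fin (n + 1)) R ≃ₐ[R] Polynomial (MvPolynomial (Fin n) R) :=
    MvPolynomial.finSuccEquiv R n
  letI algRSr : Algebra R S' := ((algebraMap S S').comp (algebraMap R S)).toAlgebra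
  let βr : MvPolynomial (Fin (n + 1)) R →+* S' :=
    ((IsLocalization.Away.map (Localization.Away G) S' α.toRingHom G).comp (rho G)).comp
      (ε.toRingEquiv : _ →+* _)
  have hβalg : ∀ a : R, βr (algebraMap R _ a) = algebraMap R S' a := by
    intro a
    show (IsLocalization.Away.map (Localization.Away G) S' α.toRingHom G)
      (rho G (ε (algebraMap R _ a))) = _
    rw [ε.commutes]
    have h1 : algebraMap R (Polynomial (MvPolynomial (Fin n) R)) a =
        Polynomial.C (algebraMap R (MvPolynomial (Fin n) R) a) :=
      (Polynomial.algebraMap_apply _).trans rfl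
    rw [h1, rho_C, away_map_algebraMap α.toRingHom G (Localization.Away G) S']
    have h2 : α.toRingHom (algebraMap R (MvPolynomial (Fin n) R) a) = algebraMap R S a :=
      α.commutes a
    rw [h2]
    rfl
  let β : MvPolynomial (Fin (n + 1)) R →ₐ[R] S' :=
    { βr with commutes' := hβalg }
  have hβ : Function.Surjective β :=
    (hαr_surj.comp (rho_surjective G)).comp ε.surjective
  have h1 : PCMod βr := pcMod_of_isPseudoCoherentHom H β hβ
  set αr : Localization.Away G →+* S' :=
    IsLocalization.Away.map (Localization.Away G) S' α.toRingHom G with hαr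
  have hε : PCMod (ε.toRingEquiv :
      MvPolynomial (Fin (n + 1)) R →+* Polynomial (MvPolynomial (Fin n) R)) :=
    pcMod_ringEquiv ε.toRingEquiv
  have h2 : PCMod (αr.comp (rho G)) :=
    (pcMod_comp_iff (ε.toRingEquiv :
      MvPolynomial (Fin (n + 1)) R →+* Polynomial (MvPolynomial (Fin n) R))
      (αr.comp (rho G)) hε).mpr h1
  exact (pcMod_comp_iff (rho G) αr (pcMod_rho G)).mpr h2

end Chart

section Main

/-- transfer from the localization `S'` of `S` to the tensor product `P_G ⊗ S` -/
theorem isPC'_tensor_away_of_pcMod {P S S' : Type u} [CommRing P] [CommRing S] [CommRing S']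
    (α : P →+* S) (G : P) [Algebra S S'] [IsLocalization.Away (α G) S']
    (h : PCMod (IsLocalization.Away.map (Localization.Away G) S' α G)) :
    letI := α.toAlgebra
    DRing.IsPseudoCoherentModule' (Localization.Away G)
      (TensorProduct P (Localization.Away G) S) := by
  letI algPS : Algebra P S := α.toAlgebra
  letI algPGS' : Algebra (Localization.Away G) S' :=
    (IsLocalization.Away.map (Localization.Away G) S' α G).toAlgebra
  letI algPS' : Algebra P S' := ((algebraMap S S').comp α).toAlgebra
  haveI : IsScalarTower P S S' := IsScalarTower.of_algebraMap_eq (fun _ => rfl)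
  haveI : IsScalarTower P (Localization.Away G) S' := IsScalarTower.of_algebraMap_eq
    (fun p => (away_map_algebraMap α G (Localization.Away G) S' p).symm)
  haveI : IsLocalization (Algebra.algebraMapSubmonoid S (Submonoid.powers G)) S' := by
    rw [Algebra.algebraMapSubmonoid_powers]
    exact ‹IsLocalization.Away (α G) S'›
  haveI : IsLocalizedModule (Submonoid.powers G) (IsScalarTower.toAlgHom P S S').toLinearMap :=
    isLocalizedModule_iff_isLocalization.mpr inferInstance
  have hbc : IsBaseChange (Localization.Away G) (IsScalarTower.toAlgHom P S S').toLinearMap :=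
    IsLocalizedModule.isBaseChange (Submonoid.powers G) (Localization.Away G) _
  exact pc'_of_iso ((DerivedCategory.singleFunctor (ModuleCat.{u} (Localization.Away G)) 0).mapIso
    hbc.equiv.symm.toModuleIso) h

theorem subsingleton_tensor_away {P S : Type u} [CommRing P] [CommRing S] [Algebra P S] (h : P)
    (hh : algebraMap P S h = 0) : Subsingleton (TensorProduct P (Localization.Away h) S) := by
  have hz : ∀ z : TensorProduct P (Localization.Away h) S, z = 0 := by
    intro z
    induction z using TensorProduct.induction_on with
    | zero => rfl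
    | tmul a b =>
      have ha : a = h • (a * IsLocalization.Away.invSelf h) := by
        rw [Algebra.smul_def, mul_comm a, ← mul_assoc, IsLocalization.Away.mul_invSelf, one_mul]
      rw [ha, TensorProduct.smul_tmul, Algebra.smul_def, hh, zero_mul, TensorProduct.tmul_zero]
    | add x y hx hy => rw [hx, hy, add_zero]
  exact ⟨fun x y => by rw [hz x, hz y]⟩

theorem ofLocalizationFiniteSpanTarget : RingHom.OfLocalizationFiniteSpanTarget (@PCHom) := by
  intro R S _ _ f s hs H
  classical
  letI algRS : Algebra R S := f.toAlgebra
  have hft : Algebra.FiniteType R S := by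
    have h0 := RingHom.finiteType_ofLocalizationSpanTarget f (s : Set S) hs (fun r => ?_)
    · exact h0
    · letI := ((algebraMap S (Localization.Away (r : S))).comp f).toAlgebra
      haveI := finitePresentation_of_isPseudoCoherentHom (H ⟨r.1, r.2⟩)
      exact (inferInstance : Algebra.FiniteType R (Localization.Away (r : S)))
  obtain ⟨n, α, hα⟩ := Algebra.FiniteType.iff_quotient_mvPolynomial''.mp hft
  refine ⟨n, α, hα, ?_⟩
  letI algPS : Algebra (MvPolynomial (Fin n) R) S := α.toRingHom.toAlgebra
  choose G hG using fun r : s => hα (r : S)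
  have h1 : (1 : S) ∈ Ideal.span (s : Set S) := by
    rw [hs]
    exact Submodule.mem_top
  obtain ⟨c, hc⟩ := Submodule.mem_span_finset'.mp h1
  choose Cc hCc using fun r : s => hα (c r)
  let h : MvPolynomial (Fin n) R := 1 - ∑ r : s, Cc r * G r
  have hh : α h = 0 := by
    simp only [h, map_sub, map_one, map_sum, map_mul, hCc, hG]
    rw [sub_eq_zero]
    exact hc.symm
  let g : Option (Fin s.card) → MvPolynomial (Fin n) R :=
    fun o => o.elim h (fun j => G (s.equivFin.symm j))
  have hg : Ideal.span (Set.range g) = ⊤ := by
    rw [Ideal.eq_top_iff_one]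
    have h2 : (1 : MvPolynomial (Fin n) R) = h + ∑ r : s, Cc r * G r := by simp [h]
    rw [h2]
    refine Ideal.add_mem _ (Ideal.subset_span ⟨none, rfl⟩)
      (Ideal.sum_mem _ (fun r _ => Ideal.mul_mem_left _ _ (Ideal.subset_span
        ⟨some (s.equivFin r), ?_⟩)))
    show G (s.equivFin.symm (s.equivFin r)) = G r
    rw [Equiv.symm_apply_apply]
  refine isPC'_of_away g hg S (fun o => ?_)
  cases o with
  | none =>
    haveI : Subsingleton (TensorProduct (MvPolynomial (Fin n) R)
        (Localization.Away (g none)) S) := subsingleton_tensor_away h hh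
    exact isPC'_of_subsingleton _
  | some j =>
    haveI : IsLocalization.Away (α.toRingHom (G (s.equivFin.symm j)))
        (Localization.Away ((s.equivFin.symm j : s) : S)) := by
      rw [show α.toRingHom (G (s.equivFin.symm j)) = ((s.equivFin.symm j : s) : S) from hG _]
      infer_instance
    have hpc := pcMod_awayMap α hα (G (s.equivFin.symm j))
      (Localization.Away ((s.equivFin.symm j : s) : S)) (H (s.equivFin.symm j))
    exact isPC'_tensor_away_of_pcMod α.toRingHom (G (s.equivFin.symm j)) hpc

theorem ofLocalizationSpanTarget : RingHom.OfLocalizationSpanTarget (@PCHom) :=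
  (RingHom.ofLocalizationSpanTarget_iff_finite (P := @PCHom)).mpr ofLocalizationFiniteSpanTarget

end Main

end Groth.Agent.Lib.Helper5.PCLocal
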