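import Mathlib
import Groth.Agent.Lib.Helper5PCLocal

/-!
# Pseudo-coherent ring maps form a local property; pseudo-coherent morphisms of schemes (helper5)
-/

set_option autoImplicit false
universe u
open CategoryTheory CategoryTheory.Limits
attribute [local instance] HasDerivedCategory.standard

namespace Groth.Agent.Lib.Helper5.PCProp

open DerivedCategory MvPolynomial
open Groth.Agent.Lib.Helper1.Extend Groth.Agent.Lib.Helper1.Restrict Groth.Agent.Lib.Helper1.RelPC
open Groth.Agent.Lib.Helper5.PCHom Groth.Agent.Lib.Helper5.PCLocal Groth.Agent.Lib.Helper5.PerfHom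

section Away

attribute [local instance] MvPolynomial.algebraMvPolynomial

/-- if `R → R' → T` is pseudo-coherent with `R'` a localization of `R`, then so is `R' → T` -/
theorem isPseudoCoherentHom_of_isLocalization {R R' T : Type u} [CommRing R] [CommRing R']
    [CommRing T] [Algebra R R'] [Algebra R' T] [Algebra R T] [IsScalarTower R R' T]
    (M : Submonoid R) [IsLocalization M R'] (H : MoreMor.IsPseudoCoherentHom R T) :
    MoreMor.IsPseudoCoherentHom R' T := by
  obtain ⟨n, α, hα, hpc⟩ := H
  let α' : MvPolynomial (Fin n) R' →ₐ[R'] T := MvPolynomial.aeval (fun i => α (X i))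
  have hcomp : α'.toRingHom.comp (MvPolynomial.map (algebraMap R R')) = α.toRingHom := by
    apply MvPolynomial.ringHom_ext
    · intro a
      show α' (MvPolynomial.map (algebraMap R R') (C a)) = α (C a)
      rw [MvPolynomial.map_C]
      have h1 : α' (C (algebraMap R R' a)) = algebraMap R' T (algebraMap R R' a) :=
        α'.commutes (algebraMap R R' a)
      have h2 : α (C a) = algebraMap R T a := α.commutes a
      rw [h1, h2, ← IsScalarTower.algebraMap_apply]
    · intro i
      show α' (MvPolynomial.map (algebraMap R R') (X i)) = α (X i)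
      rw [MvPolynomial.map_X]
      exact MvPolynomial.aeval_X _ i
  have hα' : Function.Surjective α' := by
    intro t
    obtain ⟨p, rfl⟩ := hα t
    exact ⟨MvPolynomial.map (algebraMap R R') p,
      congrArg (fun φ : MvPolynomial (Fin n) R →+* T => φ p) hcomp⟩
  refine ⟨n, α', hα', ?_⟩
  letI algPT : Algebra (MvPolynomial (Fin n) R) T := α.toRingHom.toAlgebra
  letI algP'T : Algebra (MvPolynomial (Fin n) R') T := α'.toRingHom.toAlgebra
  haveI : IsScalarTower (MvPolynomial (Fin n) R) (MvPolynomial (Fin n) R') T :=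
    IsScalarTower.of_algebraMap_eq (fun p =>
      (congrArg (fun φ : MvPolynomial (Fin n) R →+* T => φ p) hcomp).symm)
  haveI : IsLocalizedModule (M.map (C (σ := Fin n)))
      (LinearMap.id : T →ₗ[MvPolynomial (Fin n) R] T) :=
    isLocalizedModule_id _ T (MvPolynomial (Fin n) R')
  have hbc : IsBaseChange (MvPolynomial (Fin n) R')
      (LinearMap.id : T →ₗ[MvPolynomial (Fin n) R] T) :=
    IsLocalizedModule.isBaseChange (M.map (C (σ := Fin n))) (MvPolynomial (Fin n) R') _
  haveI : Module.Flat (MvPolynomial (Fin n) R) (MvPolynomial (Fin n) R') :=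
    IsLocalization.flat _ (M.map (C (σ := Fin n)))
  have h' : DRing.IsPseudoCoherentModule' (MvPolynomial (Fin n) R')
      (TensorProduct (MvPolynomial (Fin n) R) (MvPolynomial (Fin n) R') T) :=
    (Groth.Agent.S7000.result (A := MvPolynomial (Fin n) R) (B := MvPolynomial (Fin n) R') 0 T).2
      hpc
  exact pc'_of_iso ((DerivedCategory.singleFunctor
    (ModuleCat.{u} (MvPolynomial (Fin n) R')) 0).mapIso hbc.equiv.toModuleIso) h'

theorem pcHom_of_comp_away {R R' T : Type u} [CommRing R] [CommRing R'] [CommRing T]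
    [Algebra R R'] (r : R) [IsLocalization.Away r R'] (g : R' →+* T)
    (H : PCHom (g.comp (algebraMap R R'))) : PCHom g := by
  letI := g.toAlgebra
  letI : Algebra R T := (g.comp (algebraMap R R')).toAlgebra
  haveI : IsScalarTower R R' T := IsScalarTower.of_algebraMap_eq (fun _ => rfl)
  exact isPseudoCoherentHom_of_isLocalization (Submonoid.powers r) H

end Away

section Local

theorem localizationAwayPreserves : RingHom.LocalizationAwayPreserves (@PCHom) := by
  intro R S _ _ f r R' S' _ _ _ _ _ _ hf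
  apply pcHom_of_comp_away r
  have h1 : (IsLocalization.Away.map R' S' f r).comp (algebraMap R R') =
      (algebraMap S S').comp f := IsLocalization.map_comp _
  rw [h1]
  exact pcHom_comp _ _ hf (Groth.Agent.Lib.Helper5.PCHom.holdsForLocalizationAway S' (f r))

theorem propertyIsLocal : RingHom.PropertyIsLocal (@PCHom) where
  localizationAwayPreserves := localizationAwayPreserves
  ofLocalizationSpanTarget := ofLocalizationSpanTarget
  ofLocalizationSpan := ofLocalizationSpanTarget.ofLocalizationSpan
    (Groth.Agent.Lib.Helper5.PCHom.stableUnderComposition.stableUnderCompositionWithLocalizationAway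
      Groth.Agent.Lib.Helper5.PCHom.holdsForLocalizationAway).left
  StableUnderCompositionWithLocalizationAwayTarget :=
    (Groth.Agent.Lib.Helper5.PCHom.stableUnderComposition.stableUnderCompositionWithLocalizationAway
      Groth.Agent.Lib.Helper5.PCHom.holdsForLocalizationAway).right

theorem stableUnderCompositionWithLocalizationAwaySource :
    RingHom.StableUnderCompositionWithLocalizationAwaySource (@PCHom) :=
  (Groth.Agent.Lib.Helper5.PCHom.stableUnderComposition.stableUnderCompositionWithLocalizationAway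
    Groth.Agent.Lib.Helper5.PCHom.holdsForLocalizationAway).1

end Local

section Cancel

variable {A B C : Type u} [CommRing A] [CommRing B] [CommRing C]

/-- cancellation: if `A → B` and `A → C` are pseudo-coherent, so is `B → C` -/
theorem isPseudoCoherentHom_of_comp [Algebra A B] [Algebra B C] [Algebra A C]
    [IsScalarTower A B C] (h1 : MoreMor.IsPseudoCoherentHom A B)
    (h2 : MoreMor.IsPseudoCoherentHom A C) : MoreMor.IsPseudoCoherentHom B C := by
  obtain ⟨n, α, hα, hpcα⟩ := h1
  obtain ⟨m, γ, hγ, -⟩ := id h2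
  let β : MvPolynomial (Fin m) B →ₐ[B] C := MvPolynomial.aeval (fun j => γ (X j))
  let αm : MvPolynomial (Fin m) (MvPolynomial (Fin n) A) →+* MvPolynomial (Fin m) B :=
    MvPolynomial.map α.toRingHom
  have hαm : Function.Surjective αm := MvPolynomial.map_surjective _ hα
  have hpc1 : PCMod αm := pcMod_map α.toRingHom hpcα m
  -- `β` is surjective
  have hβ : Function.Surjective β := by
    intro c
    obtain ⟨p, rfl⟩ := hγ c
    refine ⟨MvPolynomial.map (algebraMap A B) p, ?_⟩
    have hh : (β.toRingHom.comp (MvPolynomial.map (algebraMap A B))) = γ.toRingHom := by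
      apply MvPolynomial.ringHom_ext
      · intro a
        show β (MvPolynomial.map (algebraMap A B) (MvPolynomial.C a)) = γ (MvPolynomial.C a)
        rw [MvPolynomial.map_C]
        have e1 : β (MvPolynomial.C (algebraMap A B a)) = algebraMap B C (algebraMap A B a) :=
          β.commutes (algebraMap A B a)
        have e2 : γ (MvPolynomial.C a) = algebraMap A C a := γ.commutes a
        rw [e1, e2, ← IsScalarTower.algebraMap_apply]
      · intro j
        show β (MvPolynomial.map (algebraMap A B) (X j)) = γ (X j)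
        rw [MvPolynomial.map_X]
        exact MvPolynomial.aeval_X _ j
    exact congrArg (fun φ : MvPolynomial (Fin m) A →+* C => φ p) hh
  refine ⟨m, β, hβ, ?_⟩
  show PCMod β.toRingHom
  rw [pcMod_comp_iff αm β.toRingHom hpc1]
  -- `β ∘ αm` is a presentation of `C` over `A`
  let e : MvPolynomial (Fin (m + n)) A ≃ₐ[A] MvPolynomial (Fin m) (MvPolynomial (Fin n) A) :=
    (MvPolynomial.renameEquiv A finSumFinEquiv.symm).trans
      (MvPolynomial.sumAlgEquiv A (Fin m) (Fin n))
  let δr : MvPolynomial (Fin (m + n)) A →+* C :=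
    (β.toRingHom.comp αm).comp (e.toRingEquiv : _ →+* _)
  have hδalg : ∀ a : A, δr (algebraMap A _ a) = algebraMap A C a := by
    intro a
    show β (αm (e (algebraMap A _ a))) = _
    rw [e.commutes, MvPolynomial.algebraMap_apply, MvPolynomial.map_C]
    have e1 : α.toRingHom (algebraMap A (MvPolynomial (Fin n) A) a) = algebraMap A B a :=
      α.commutes a
    rw [e1]
    have e2 : (MvPolynomial.C (algebraMap A B a) : MvPolynomial (Fin m) B) =
        algebraMap B (MvPolynomial (Fin m) B) (algebraMap A B a) := rfl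
    rw [e2, β.commutes, ← IsScalarTower.algebraMap_apply]
  let δ : MvPolynomial (Fin (m + n)) A →ₐ[A] C := { δr with commutes' := hδalg }
  have hδ : Function.Surjective δ := (hβ.comp hαm).comp e.surjective
  have h3 : PCMod δr := pcMod_of_isPseudoCoherentHom h2 δ hδ
  exact (pcMod_comp_iff (e.toRingEquiv :
    MvPolynomial (Fin (m + n)) A →+* MvPolynomial (Fin m) (MvPolynomial (Fin n) A))
    (β.toRingHom.comp αm) (pcMod_ringEquiv e.toRingEquiv)).mpr h3

theorem pcHom_of_comp (φ : A →+* B) (ψ : B →+* C) (hφ : PCHom φ) (hψφ : PCHom (ψ.comp φ)) :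
    PCHom ψ := by
  letI := φ.toAlgebra
  letI := ψ.toAlgebra
  letI : Algebra A C := (ψ.comp φ).toAlgebra
  haveI : IsScalarTower A B C := IsScalarTower.of_algebraMap_eq (fun r => rfl)
  exact isPseudoCoherentHom_of_comp hφ hψφ

end Cancel

section Sch

open AlgebraicGeometry

/-- affine-locally pseudo-coherent morphisms -/
def PCMor : MorphismProperty Scheme.{u} := affineLocally (@PCHom)

instance : HasRingHomProperty PCMor (@PCHom) where
  isLocal_ringHomProperty := propertyIsLocal
  eq_affineLocally' := rfl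

theorem pcMor_iff {X Y : Scheme.{u}} (f : X ⟶ Y) :
    PCMor f ↔ MoreMor.IsPseudoCoherentMor f := by
  rw [HasRingHomProperty.iff_appLE (P := PCMor)]
  constructor
  · intro h U V hU hV hUV
    exact h ⟨V, hV⟩ ⟨U, hU⟩ hUV
  · intro h V U e
    exact h U.1 V.1 U.2 V.2 e

instance : PCMor.IsStableUnderComposition :=
  HasRingHomProperty.stableUnderComposition (P := PCMor)
    Groth.Agent.Lib.Helper5.PCHom.stableUnderComposition

theorem isPseudoCoherentMor_comp {X Y Z : Scheme.{u}} (f : X ⟶ Y) (g : Y ⟶ Z)
    (hf : MoreMor.IsPseudoCoherentMor f) (hg : MoreMor.IsPseudoCoherentMor g) :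
    MoreMor.IsPseudoCoherentMor (f ≫ g) :=
  (pcMor_iff _).mp (PCMor.comp_mem f g ((pcMor_iff f).mpr hf) ((pcMor_iff g).mpr hg))

theorem isPseudoCoherentMor_iff_exists {X S : Scheme.{u}} (f : X ⟶ S) :
    MoreMor.IsPseudoCoherentMor f ↔ ∀ x : X, ∃ (U : X.Opens) (V : S.Opens) (hUV : U ≤ f ⁻¹ᵁ V),
      IsAffineOpen U ∧ IsAffineOpen V ∧ x ∈ U ∧
      (letI := (f.appLE V U hUV).hom.toAlgebra
       MoreMor.IsPseudoCoherentHom Γ(S, V) Γ(X, U)) := by
  rw [← pcMor_iff, HasRingHomProperty.iff_exists_appLE (P := PCMor)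
    stableUnderCompositionWithLocalizationAwaySource]
  constructor
  · intro h x
    obtain ⟨V, U, hx, e, hQ⟩ := h x
    exact ⟨U.1, V.1, e, U.2, V.2, hx, hQ⟩
  · intro h x
    obtain ⟨U, V, hUV, hU, hV, hx, hQ⟩ := h x
    exact ⟨⟨V, hV⟩, ⟨U, hU⟩, hx, hUV, hQ⟩

theorem isPseudoCoherentMor_of_comp {X Y S : Scheme.{u}} (f : X ⟶ Y) (g : Y ⟶ S)
    (hX : MoreMor.IsPseudoCoherentMor (f ≫ g)) (hY : MoreMor.IsPseudoCoherentMor g) :
    MoreMor.IsPseudoCoherentMor f := by
  rw [isPseudoCoherentMor_iff_exists]
  intro x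
  obtain ⟨W, hW, hxW, -⟩ := TopologicalSpace.Opens.isBasis_iff_nbhd.mp S.isBasis_affineOpens
    (TopologicalSpace.Opens.mem_top (g (f x)))
  obtain ⟨V, hV, hxV, hVW⟩ := TopologicalSpace.Opens.isBasis_iff_nbhd.mp Y.isBasis_affineOpens
    (show f x ∈ g ⁻¹ᵁ W from hxW)
  obtain ⟨U, hU, hxU, hUV⟩ := TopologicalSpace.Opens.isBasis_iff_nbhd.mp X.isBasis_affineOpens
    (show x ∈ f ⁻¹ᵁ V from hxV)
  refine ⟨U, V, hUV, hU, hV, hxU, ?_⟩
  have hUW : U ≤ (f ≫ g) ⁻¹ᵁ W := fun y hy => hVW (hUV hy)
  have h1 : PCHom (g.appLE W V hVW).hom := hY V W hV hW hVW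
  have h2 : PCHom ((f ≫ g).appLE W U hUW).hom := hX U W hU hW hUW
  have h3 : ((f ≫ g).appLE W U hUW).hom = (f.appLE V U hUV).hom.comp (g.appLE W V hVW).hom := by
    rw [← CommRingCat.hom_comp, Scheme.Hom.appLE_comp_appLE]
  rw [h3] at h2
  exact pcHom_of_comp _ _ h1 h2

end Sch

end Groth.Agent.Lib.Helper5.PCProp
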