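import Mathlib
import Groth.Agent.Lib.Helper5PCProp
import Groth.Agent.Lib.Helper5LciDesc

/-!
# Flat base change and faithfully flat descent for pseudo-coherent ring maps / morphisms (helper5)

* `of_isPullback_of_flat`: a generic flat-base-change lemma for `HasRingHomProperty`.
* `descendsAlong_of_codescendsAlong`: generic fpqc descent for `HasRingHomProperty`.
* `pres_baseChange`: base change of a polynomial presentation along a pushout square.
* `isPseudoCoherentHom_of_isPushout`, `flatBC_pcHom`, `pcMor_flat_baseChange`.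
* `codescendsAlong_pcHom`, `pcMor_descendsAlong`.
-/

set_option autoImplicit false
universe u
open CategoryTheory CategoryTheory.Limits
attribute [local instance] HasDerivedCategory.standard

namespace Groth.Agent.Lib.Helper5.PCBC

open DerivedCategory
open Groth.Agent.Lib.Helper1.Extend Groth.Agent.Lib.Helper1.Restrict Groth.Agent.Lib.Helper1.RelPC
open Groth.Agent.Lib.Helper5.PCHom Groth.Agent.Lib.Helper5.PCLocal Groth.Agent.Lib.Helper5.PerfHom
open Groth.Agent.Lib.Helper5.PCProp

section Generic

open AlgebraicGeometry TopologicalSpace MorphismProperty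

/-- A ring-hom property is stable under flat base change (pushout form). -/
def FlatBC (Q : ∀ {R S : Type u} [CommRing R] [CommRing S], (R →+* S) → Prop) : Prop :=
  ∀ {A B A' B' : CommRingCat.{u}} (φ : A ⟶ B) (ψ : A ⟶ A') (ψ' : B ⟶ B') (φ' : A' ⟶ B'),
    IsPushout φ ψ ψ' φ' → ψ.hom.Flat → Q φ.hom → Q φ'.hom

variable {P : MorphismProperty Scheme.{u}}
  {Q : ∀ {R S : Type u} [CommRing R] [CommRing S], (R →+* S) → Prop} [HasRingHomProperty P Q]

/-- flat base change for a morphism property induced by a local ring-hom property -/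
theorem of_isPullback_of_flat (hQs : RingHom.StableUnderCompositionWithLocalizationAwaySource Q)
    (hQ : FlatBC Q) {X S X' S' : Scheme.{u}} (f : X ⟶ S) (f' : X' ⟶ S') (g' : X' ⟶ X)
    (g : S' ⟶ S) [Flat g] (hc : IsPullback g' f' f g) (hf : P f) : P f' := by
  rw [HasRingHomProperty.iff_exists_appLE (P := P) hQs]
  intro x'
  have hw : g (f' x') = f (g' x') := by
    rw [← Scheme.Hom.comp_apply, ← Scheme.Hom.comp_apply, hc.w]
  obtain ⟨US, hUS, hxS, -⟩ := Opens.isBasis_iff_nbhd.mp S.isBasis_affineOpens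
    (Opens.mem_top (f (g' x')))
  obtain ⟨UX, hUX, hxX, hUXle⟩ := Opens.isBasis_iff_nbhd.mp X.isBasis_affineOpens
    (show g' x' ∈ f ⁻¹ᵁ US from hxS)
  obtain ⟨UT, hUT, hxT, hUTle⟩ := Opens.isBasis_iff_nbhd.mp S'.isBasis_affineOpens
    (show f' x' ∈ g ⁻¹ᵁ US by
      show g (f' x') ∈ US
      rw [hw]
      exact hxS)
  have hUY : (g' ⁻¹ᵁ UX ⊓ f' ⁻¹ᵁ UT : X'.Opens) = g' ⁻¹ᵁ UX ⊓ f' ⁻¹ᵁ UT := rfl
  have hiso := isIso_pushoutSection_of_isAffineOpen hc hUTle hUXle hUY hUS hUT hUX
  have hpo := (isIso_pushoutSection_iff hc hUTle hUXle hUY).1 hiso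
  have hUYaff : IsAffineOpen (g' ⁻¹ᵁ UX ⊓ f' ⁻¹ᵁ UT) := by
    have h1 : IsAffine _ := hUS
    have h2 : IsAffine _ := hUT
    have h3 : IsAffine _ := hUX
    exact .of_isIso (Scheme.Hom.isPullback_resLE hc hUTle hUXle hUY).isoPullback.hom
  refine ⟨⟨UT, hUT⟩, ⟨_, hUYaff⟩, ⟨hxX, hxT⟩, inf_le_right, ?_⟩
  exact hQ _ _ _ _ hpo (g.flat_appLE hUS hUT hUTle)
    (HasRingHomProperty.appLE P f hf ⟨US, hUS⟩ ⟨UX, hUX⟩ hUXle)

open Groth.Agent.Lib.Helper5.LciDesc Groth.Agent.Lib.Helper5.LciLocal in
/-- fpqc descent for a morphism property induced by a local ring-hom property -/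
theorem descendsAlong_of_codescendsAlong
    (hQ : RingHom.CodescendsAlong Q RingHom.FaithfullyFlat) :
    P.DescendsAlong SFQ.{u} := by
  apply IsZariskiLocalAtTarget.descendsAlong
  intro R X Y f g hf h
  wlog hX : ∃ T, X = Spec T generalizing X
  · have _ : CompactSpace X := by simpa [← quasiCompact_iff_compactSpace f] using hf.2
    obtain ⟨W, p, hsurj, hP', hW⟩ := X.exists_hom_isAffine_of_isZariskiLocalAtSource @IsLocalIso
    have H₁ : (@IsLocalIso ⊓ @Surjective : MorphismProperty Scheme.{u}) ≤ SF.{u} := by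
      intro X' Y' f' hf'
      have hle := IsLocalIso.le_of_isZariskiLocalAtSource (@Flat : MorphismProperty Scheme.{u})
      exact ⟨hf'.2, hle _ _ f' hf'.1⟩
    refine this (f := (W.isoSpec.inv ≫ p) ≫ f) ?_ ?_ ⟨_, rfl⟩
    · rw [Category.assoc, SFQ.{u}.cancel_left_of_respectsIso]
      exact ⟨SF.{u}.comp_mem _ _ (H₁ _ ⟨hP', hsurj⟩) hf.1, inferInstance⟩
    · rw [← pullbackRightPullbackFstIso_inv_fst f g _, P.cancel_left_of_respectsIso]
      haveI : IsLocalIso p := hP'
      haveI : IsLocalIso (W.isoSpec.inv ≫ p) :=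
        MorphismProperty.comp_mem (@IsLocalIso : MorphismProperty Scheme.{u}) _ _
          (⟨fun x => ⟨⊤, trivial, inferInstance⟩⟩ : IsLocalIso W.isoSpec.inv) hP'
      exact pullback_fst_of_isLocalIso P _ _ h
  obtain ⟨T, rfl⟩ := hX
  obtain ⟨φ, rfl⟩ := Spec.map_surjective f
  wlog hY : ∃ S, Y = Spec S generalizing Y
  · rw [IsZariskiLocalAtSource.iff_of_openCover (P := P) Y.affineCover]
    intro i
    have heq : pullback.fst (Spec.map φ) (Y.affineCover.f i ≫ g) =
        pullback.map _ _ _ _ (𝟙 _) (Y.affineCover.f i) (𝟙 _) (by simp) (by simp) ≫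
          pullback.fst (Spec.map φ) g := (pullback.lift_fst _ _ _).symm
    exact this _ (heq ▸ AlgebraicGeometry.IsZariskiLocalAtSource.comp h _) ⟨_, rfl⟩
  obtain ⟨S, rfl⟩ := hY
  apply of_pullback_fst_Spec_of_codescendsAlong (P := P)
    (P' := SFQ.{u}) (Q' := RingHom.FaithfullyFlat) (Q := Q)
    hQ ?_ ?_ hf h
  · intro R S f ⟨⟨hf₁, hf₂⟩, _⟩
    rw [RingHom.FaithfullyFlat.iff_flat_and_comap_surjective]
    refine ⟨?_, (Spec.map f).surjective⟩
    rwa [HasRingHomProperty.Spec_iff (P := @Flat)] at hf₂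
  · simp [HasRingHomProperty.Spec_iff (P := P)]

end Generic

section Ring

open TensorProduct MvPolynomial

/-- pseudo-coherence of a module transports along linear equivalences -/
theorem isPC'_of_linearEquiv {R M N : Type u} [CommRing R] [AddCommGroup M] [Module R M]
    [AddCommGroup N] [Module R N] (e : M ≃ₗ[R] N) (h : DRing.IsPseudoCoherentModule' R M) :
    DRing.IsPseudoCoherentModule' R N :=
  pc'_of_iso ((DerivedCategory.singleFunctor (ModuleCat.{u} R) 0).mapIso e.toModuleIso) h

theorem pcHom_algebraMap_iff {R S : Type u} [CommRing R] [CommRing S] [Algebra R S] :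
    PCHom (algebraMap R S) ↔ MoreMor.IsPseudoCoherentHom R S := by
  unfold PCHom
  have hinst : (algebraMap R S).toAlgebra = (inferInstance : Algebra R S) :=
    Algebra.algebra_ext _ _ (fun _ => rfl)
  rw [hinst]

attribute [local instance] MvPolynomial.algebraMvPolynomial

/-- base change of a polynomial presentation along a pushout square of rings with `A → A'` flat:
the base-changed presentation is surjective, pseudo-coherence of the target as a module over the
polynomial ring passes to the base change, and descends when `A → A'` is faithfully flat. -/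
theorem pres_baseChange (A B A' B' : Type u) [CommRing A] [CommRing B]
    [CommRing A'] [CommRing B'] [Algebra A B] [Algebra A A'] [Algebra A B'] [Algebra B B']
    [Algebra A' B'] [IsScalarTower A B B'] [IsScalarTower A A' B'] [Algebra.IsPushout A B A' B']
    [Module.Flat A A'] {n : ℕ} (α : MvPolynomial (Fin n) A →ₐ[A] B)
    (hα : Function.Surjective α) :
    ∃ α' : MvPolynomial (Fin n) A' →ₐ[A'] B', Function.Surjective α' ∧
      (PCMod α.toRingHom → PCMod α'.toRingHom) ∧
      (Module.FaithfullyFlat A A' → PCMod α'.toRingHom → PCMod α.toRingHom) := by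
  let P := MvPolynomial (Fin n) A
  let P' := MvPolynomial (Fin n) A'
  let α' : P' →ₐ[A'] B' := MvPolynomial.aeval (fun i => algebraMap B B' (α (X i)))
  letI algPB : Algebra P B := α.toRingHom.toAlgebra
  letI algP'B' : Algebra P' B' := α'.toRingHom.toAlgebra
  letI algPB' : Algebra P B' := ((algebraMap B B').comp α.toRingHom).toAlgebra
  haveI t0 : IsScalarTower A P B := IsScalarTower.of_algebraMap_eq (fun a => (α.commutes a).symm)
  haveI t1 : IsScalarTower P B B' := IsScalarTower.of_algebraMap_eq (fun _ => rfl)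
  have hcomp : ∀ p : P, algebraMap B B' (α p) = α' (MvPolynomial.map (algebraMap A A') p) := by
    intro p
    induction p using MvPolynomial.induction_on with
    | C a =>
      rw [MvPolynomial.map_C, ← MvPolynomial.algebraMap_eq, ← MvPolynomial.algebraMap_eq,
        α.commutes, α'.commutes, ← IsScalarTower.algebraMap_apply,
        ← IsScalarTower.algebraMap_apply]
    | add p q hp hq => rw [map_add, map_add, map_add, map_add, hp, hq]
    | mul_X p i hp =>
      rw [map_mul, map_mul, map_mul, map_mul, hp, MvPolynomial.map_X, MvPolynomial.aeval_X]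
  haveI t2 : IsScalarTower P P' B' := IsScalarTower.of_algebraMap_eq (fun p => hcomp p)
  haveI t3 : IsScalarTower A P' B' := IsScalarTower.of_algebraMap_eq (fun a => by
    show algebraMap A B' a = α' (algebraMap A P' a)
    rw [IsScalarTower.algebraMap_apply A A' P', α'.commutes, ← IsScalarTower.algebraMap_apply])
  haveI t4 : IsScalarTower A' P' B' :=
    IsScalarTower.of_algebraMap_eq (fun a => (α'.commutes a).symm)
  have hPO : Algebra.IsPushout P B P' B' :=
    (Algebra.IsPushout.comp_iff A P A' P').1 inferInstance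
  have hPO' : Algebra.IsPushout P P' B B' := hPO.symm
  have hbc : IsBaseChange P' (IsScalarTower.toAlgHom P B B').toLinearMap := hPO'.out
  haveI hflat : Module.Flat P P' :=
    Module.Flat.isBaseChange A P A' P' (inferInstance : Algebra.IsPushout A P A' P').out
  let e : TensorProduct P P' B ≃ₗ[P'] B' := hbc.equiv
  have hsurj : Function.Surjective α' := by
    have hbcA : IsBaseChange A' (IsScalarTower.toAlgHom A B B').toLinearMap :=
      (Algebra.IsPushout.symm (inferInstance : Algebra.IsPushout A B A' B')).out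
    intro b'
    refine hbcA.inductionOn b' (fun y => ∃ p, α' p = y) ⟨0, map_zero _⟩ ?_ ?_ ?_
    · intro b
      obtain ⟨p, rfl⟩ := hα b
      exact ⟨MvPolynomial.map (algebraMap A A') p, (hcomp p).symm⟩
    · rintro a' y ⟨p, rfl⟩
      refine ⟨MvPolynomial.C a' * p, ?_⟩
      rw [map_mul, Algebra.smul_def, ← MvPolynomial.algebraMap_eq, α'.commutes]
    · rintro y z ⟨p, rfl⟩ ⟨q, rfl⟩
      exact ⟨p + q, map_add _ _ _⟩
  refine ⟨α', hsurj, fun hpc => ?_, fun hff hpc' => ?_⟩
  · have h1 : DRing.IsPseudoCoherentModule' P' (TensorProduct P P' B) :=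
      (Groth.Agent.S7000.result (A := P) (B := P') 0 B).2 hpc
    exact isPC'_of_linearEquiv e h1
  · haveI := hff
    haveI : Module.FaithfullyFlat P P' :=
      .of_linearEquiv _ _ (Algebra.IsPushout.equiv A P A' P').symm.toLinearEquiv
    have h1 : DRing.IsPseudoCoherentModule' P' (TensorProduct P P' B) :=
      isPC'_of_linearEquiv e.symm hpc'
    have h2 : DRing.IsPseudoCoherent' P' ((extD P P').obj (Dual.inD P B)) :=
      pc'_of_iso (extDInDIso (A := P) (B := P') B).symm h1
    exact isPC'_of_extD (A := P) (B := P') (Dual.inD P B) h2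

/-- **Flat base change of pseudo-coherent ring maps** (pushout form). -/
theorem isPseudoCoherentHom_of_isPushout (A B A' B' : Type u) [CommRing A] [CommRing B]
    [CommRing A'] [CommRing B'] [Algebra A B] [Algebra A A'] [Algebra A B'] [Algebra B B']
    [Algebra A' B'] [IsScalarTower A B B'] [IsScalarTower A A' B'] [Algebra.IsPushout A B A' B']
    [Module.Flat A A'] (h : MoreMor.IsPseudoCoherentHom A B) :
    MoreMor.IsPseudoCoherentHom A' B' := by
  obtain ⟨n, α, hα, hpc⟩ := h
  obtain ⟨α', hα', hbc, -⟩ := pres_baseChange A B A' B' α hα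
  exact ⟨n, α', hα', hbc hpc⟩

attribute [local instance] Algebra.TensorProduct.rightAlgebra in
/-- **Faithfully flat descent of pseudo-coherent ring maps**. -/
theorem isPseudoCoherentHom_of_faithfullyFlat_tensor (R S T : Type u) [CommRing R]
    [CommRing S] [CommRing T] [Algebra R S] [Algebra R T] [Module.FaithfullyFlat R S]
    (h : MoreMor.IsPseudoCoherentHom S (S ⊗[R] T)) : MoreMor.IsPseudoCoherentHom R T := by
  haveI hfp : Algebra.FinitePresentation S (S ⊗[R] T) := finitePresentation_of_isPseudoCoherentHom h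
  haveI : Algebra.FiniteType S (S ⊗[R] T) := inferInstance
  have hft : Algebra.FiniteType R T := .of_finiteType_tensorProduct_of_faithfullyFlat S
  obtain ⟨n, f, hf⟩ := Algebra.FiniteType.iff_quotient_mvPolynomial''.mp hft
  obtain ⟨α', hα', -, hdesc⟩ := pres_baseChange R T S (S ⊗[R] T) f hf
  exact ⟨n, f, hf, hdesc inferInstance (pcMod_of_isPseudoCoherentHom h α' hα')⟩

theorem flatBC_pcHom : FlatBC (@PCHom.{u}) := by
  intro A B A' B' φ ψ ψ' φ' hpo hψ hφ
  algebraize [φ.hom, ψ.hom, ψ'.hom, φ'.hom, ψ'.hom.comp φ.hom]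
  haveI : IsScalarTower A A' B' := .of_algebraMap_eq' <| congr($(hpo.1.1).hom)
  haveI : Algebra.IsPushout A B A' B' := CommRingCat.isPushout_iff_isPushout.mp hpo
  haveI : Module.Flat A A' := hψ
  exact isPseudoCoherentHom_of_isPushout A B A' B' hφ

theorem codescendsAlong_pcHom :
    RingHom.CodescendsAlong (@PCHom.{u}) RingHom.FaithfullyFlat := by
  refine RingHom.CodescendsAlong.mk _ propertyIsLocal.respectsIso ?_
  intro R S T _ _ _ _ _ hS hT
  rw [RingHom.faithfullyFlat_algebraMap_iff] at hS
  haveI := hS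
  rw [pcHom_algebraMap_iff] at hT ⊢
  exact isPseudoCoherentHom_of_faithfullyFlat_tensor R S T hT

end Ring

section Sch

open AlgebraicGeometry MorphismProperty

/-- **Flat base change of pseudo-coherent morphisms.** -/
theorem pcMor_flat_baseChange {X S X' S' : Scheme.{u}} (f : X ⟶ S) (f' : X' ⟶ S') (g' : X' ⟶ X)
    (g : S' ⟶ S) [Flat g] (hc : IsPullback g' f' f g) (hf : PCMor f) : PCMor f' :=
  of_isPullback_of_flat (P := PCMor) stableUnderCompositionWithLocalizationAwaySource
    flatBC_pcHom f f' g' g hc hf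

theorem isPseudoCoherentMor_flat_baseChange {X S X' S' : Scheme.{u}} (f : X ⟶ S) (f' : X' ⟶ S')
    (g' : X' ⟶ X) (g : S' ⟶ S) [Flat g] (hc : IsPullback g' f' f g)
    (hf : MoreMor.IsPseudoCoherentMor f) : MoreMor.IsPseudoCoherentMor f' :=
  (pcMor_iff f').mp (pcMor_flat_baseChange f f' g' g hc ((pcMor_iff f).mpr hf))

instance pcMor_descendsAlong : PCMor.{u}.DescendsAlong Groth.Agent.Lib.Helper5.LciDesc.SFQ.{u} :=
  descendsAlong_of_codescendsAlong codescendsAlong_pcHom

/-- **fpqc descent of pseudo-coherent morphisms.** -/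
theorem isPseudoCoherentMor_of_fpqc_baseChange {X S X' S' : Scheme.{u}} (f : X ⟶ S)
    (f' : X' ⟶ S') (g' : X' ⟶ X) (g : S' ⟶ S) [Flat g] [Surjective g] [QuasiCompact g]
    (hc : IsPullback g' f' f g) (hf' : MoreMor.IsPseudoCoherentMor f') :
    MoreMor.IsPseudoCoherentMor f := by
  have hf0 : PCMor f :=
    CategoryTheory.MorphismProperty.of_isPullback_of_descendsAlong
      (P := PCMor) (Q := Groth.Agent.Lib.Helper5.LciDesc.SFQ) hc.flip
      ⟨⟨inferInstance, inferInstance⟩, inferInstance⟩ ((pcMor_iff f').mpr hf')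
  exact (pcMor_iff f).mp hf0

end Sch

end Groth.Agent.Lib.Helper5.PCBC
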