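import Mathlib
import Groth.Prelude.Def_MoreMor
import Groth.Agent.Lib.Helper1TorI
import Groth.Agent.Lib.Helper1TorDim
import Groth.Agent.Lib.Helper1TorJ
import Groth.Agent.Lib.Helper1Restrict
import Groth.Agent.Lib.Helper14TorSyz

/-!
# Tor amplitude of modules under change of rings; tor dimension over polynomial rings (helper5)

* `hasTorAmp_restrict_module`: restriction along a ring map of finite tor dimension.
* `hasTorAmp_baseChange_module`, `hasTorAmp_of_baseChange_module`: flat base change / faithfully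
  flat descent.
* `hasTorAmp_of_isLocalization`: a module over a localization `P'` of `P` with tor amplitude over
  `P` has the same tor amplitude over `P'`.
* `hasTorAmp_polynomial`: an `A[X]`-module with tor amplitude `[-d, 0]` over `A` has tor amplitude
  `[-(d+1), 0]` over `A[X]`.
* `hasTorAmp_mvPolynomial`: the same for `A[x_1..x_n]` with `d + n`.
-/

set_option autoImplicit false
universe u
open CategoryTheory CategoryTheory.Limits
attribute [local instance] HasDerivedCategory.standard

namespace Groth.Agent.Lib.Helper5.FTD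

open DerivedCategory
open Groth.Agent.Lib.Helper1.Extend Groth.Agent.Lib.Helper1.Tor Groth.Agent.Lib.Helper1.TorDim
open Groth.Agent.Lib.Helper1.Restrict Groth.Agent.Lib.Helper14.TorSyz

section Basic

theorem hasTorAmp_of_linearEquiv {R M N : Type u} [CommRing R] [AddCommGroup M] [Module R M]
    [AddCommGroup N] [Module R N] (e : M ≃ₗ[R] N) {a b : ℤ}
    (h : DRing.HasTorAmplitudeIn R a b (Dual.inD R M)) :
    DRing.HasTorAmplitudeIn R a b (Dual.inD R N) :=
  hasTorAmp_of_iso ((DerivedCategory.singleFunctor (ModuleCat.{u} R) 0).mapIso e.toModuleIso) h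

/-- restriction of tor amplitude of a module along a ring map of finite tor dimension -/
theorem hasTorAmp_restrict_module {A B : Type u} [CommRing A] [CommRing B] [Algebra A B] (d : ℕ)
    (hB : DRing.HasTorAmplitudeIn A (-(d : ℤ)) 0 (Dual.inD A B)) (M : Type u) [AddCommGroup M]
    [Module B M] [Module A M] [IsScalarTower A B M] (a b : ℤ)
    (h : DRing.HasTorAmplitudeIn B a b (Dual.inD B M)) :
    DRing.HasTorAmplitudeIn A (a - d) b (Dual.inD A M) := by
  have h1 := hasTorAmp_restrictD d hB (Dual.inD B M) a b h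
  have e : (DRing.restrictD (algebraMap A B)).obj (Dual.inD B M) ≅ Dual.inD A M :=
    restrictDSingleIso (algebraMap A B) (ModuleCat.of B M) 0 ≪≫
      (DerivedCategory.singleFunctor (ModuleCat.{u} A) 0).mapIso
        (restrictScalarsAlgebraIso (A := A) (B := B) M)
  exact hasTorAmp_of_iso e h1

theorem hasTorAmp_flat (A B : Type u) [CommRing A] [CommRing B] [Algebra A B] [Module.Flat A B] :
    DRing.HasTorAmplitudeIn A (-((0 : ℕ) : ℤ)) 0 (Dual.inD A B) :=
  (hasTorDimLE_iff_hasTorAmp B 0).mp ((hasTorDimLE_zero_iff_flat B).mpr inferInstance)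

theorem hasTorAmp_restrict_flat_module {A B : Type u} [CommRing A] [CommRing B] [Algebra A B]
    [Module.Flat A B] (M : Type u) [AddCommGroup M]
    [Module B M] [Module A M] [IsScalarTower A B M] (a b : ℤ)
    (h : DRing.HasTorAmplitudeIn B a b (Dual.inD B M)) :
    DRing.HasTorAmplitudeIn A a b (Dual.inD A M) := by
  have := hasTorAmp_restrict_module 0 (hasTorAmp_flat A B) M a b h
  simpa using this

theorem hasTorAmp_baseChange_module {A A' : Type u} [CommRing A] [CommRing A'] [Algebra A A']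
    [Module.Flat A A'] (M : Type u) [AddCommGroup M] [Module A M] (a b : ℤ)
    (h : DRing.HasTorAmplitudeIn A a b (Dual.inD A M)) :
    DRing.HasTorAmplitudeIn A' a b (Dual.inD A' (TensorProduct A A' M)) :=
  hasTorAmp_of_iso (extDInDIso (A := A) (B := A') M) (hasTorAmp_extD (B := A') _ a b h)

theorem hasTorAmp_of_baseChange_module {A A' : Type u} [CommRing A] [CommRing A'] [Algebra A A']
    [Module.FaithfullyFlat A A'] (M : Type u) [AddCommGroup M] [Module A M] (a b : ℤ)
    (h : DRing.HasTorAmplitudeIn A' a b (Dual.inD A' (TensorProduct A A' M))) :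
    DRing.HasTorAmplitudeIn A a b (Dual.inD A M) :=
  hasTorAmp_of_extD (R' := A') _ a b
    (hasTorAmp_of_iso (extDInDIso (A := A) (B := A') M).symm h)

/-- a module over a localization `P'` of `P`: tor amplitude over `P` gives tor amplitude over `P'` -/
theorem hasTorAmp_of_isLocalization {P P' : Type u} [CommRing P] [CommRing P'] [Algebra P P']
    (Mo : Submonoid P) [IsLocalization Mo P'] (M : Type u) [AddCommGroup M] [Module P M]
    [Module P' M] [IsScalarTower P P' M] (a b : ℤ)
    (h : DRing.HasTorAmplitudeIn P a b (Dual.inD P M)) :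
    DRing.HasTorAmplitudeIn P' a b (Dual.inD P' M) := by
  haveI : Module.Flat P P' := IsLocalization.flat P' Mo
  haveI : IsLocalizedModule Mo (LinearMap.id : M →ₗ[P] M) := isLocalizedModule_id (S := Mo) M P'
  have hbc : IsBaseChange P' (LinearMap.id : M →ₗ[P] M) := IsLocalizedModule.isBaseChange Mo P' _
  exact hasTorAmp_of_linearEquiv hbc.equiv (hasTorAmp_baseChange_module M a b h)

/-- transport of tor amplitude along a ring isomorphism -/
theorem hasTorAmp_of_ringEquiv {S S' : Type u} [CommRing S] [CommRing S'] (e : S' ≃+* S)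
    (M : Type u) [AddCommGroup M] [Module S M] [Module S' M]
    (hsm : ∀ (s' : S') (m : M), s' • m = e s' • m) (a b : ℤ)
    (h : DRing.HasTorAmplitudeIn S a b (Dual.inD S M)) :
    DRing.HasTorAmplitudeIn S' a b (Dual.inD S' M) := by
  letI : Algebra S' S := (e : S' →+* S).toAlgebra
  haveI : IsScalarTower S' S M := ⟨fun s' s m => by
    show (e s' * s) • m = s' • (s • m)
    rw [mul_smul, hsm]⟩
  haveI : Module.Flat S' S := RingHom.Flat.of_bijective (f := (e : S' →+* S)) e.bijective
  exact hasTorAmp_restrict_flat_module M a b h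

end Basic

section OneVar

open Polynomial TensorProduct

variable (Q : Type u) [CommRing Q] (M : Type u) [AddCommGroup M] [Module Q M] [Module Q[X] M]
  [IsScalarTower Q Q[X] M]

/-- multiplication by `X` as a `Q`-linear endomorphism -/
noncomputable def TX : M →ₗ[Q] M := (LinearMap.lsmul Q[X] M (X : Q[X])).restrictScalars Q

lemma TX_apply (m : M) : TX Q M m = (X : Q[X]) • m := rfl

/-- `X ⊗ 1 - 1 ⊗ X` on `Q[X] ⊗ M` -/
noncomputable def phi : Q[X] ⊗[Q] M →ₗ[Q[X]] Q[X] ⊗[Q] M :=
  (X : Q[X]) • LinearMap.id - (TX Q M).baseChange Q[X]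

lemma phi_tmul (r : Q[X]) (m : M) :
    phi Q M (r ⊗ₜ m) = (X * r) ⊗ₜ m - r ⊗ₜ ((X : Q[X]) • m) := by
  simp [phi, TX_apply, TensorProduct.smul_tmul']

/-- the action map `Q[X] ⊗ M → M` -/
noncomputable def eps : Q[X] ⊗[Q] M →ₗ[Q[X]] M :=
  LinearMap.liftBaseChange Q[X] (LinearMap.id : M →ₗ[Q] M)

lemma eps_tmul (r : Q[X]) (m : M) : eps Q M (r ⊗ₜ m) = r • m := rfl

lemma eps_phi (v : Q[X] ⊗[Q] M) : eps Q M (phi Q M v) = 0 := by
  induction v using TensorProduct.induction_on with
  | zero => simp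
  | tmul r m =>
    rw [phi_tmul, map_sub, eps_tmul, eps_tmul, mul_smul, smul_comm, sub_self]
  | add x y hx hy => rw [map_add, map_add, hx, hy, add_zero]

lemma eps_surjective : Function.Surjective (eps Q M) :=
  fun m => ⟨1 ⊗ₜ m, by rw [eps_tmul, one_smul]⟩

lemma exists_phi_add_pow (k : ℕ) : ∀ m : M, ∃ u, (X ^ k : Q[X]) ⊗ₜ[Q] m =
    phi Q M u + (1 : Q[X]) ⊗ₜ[Q] (eps Q M ((X ^ k : Q[X]) ⊗ₜ[Q] m)) := by
  induction k with
  | zero =>
    intro m
    exact ⟨0, by rw [pow_zero, map_zero, zero_add, eps_tmul, one_smul]⟩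
  | succ k ih =>
    intro m
    obtain ⟨u, hu⟩ := ih ((X : Q[X]) • m)
    refine ⟨(X ^ k : Q[X]) ⊗ₜ m + u, ?_⟩
    have h1 : (X ^ (k + 1) : Q[X]) ⊗ₜ[Q] m =
        phi Q M ((X ^ k : Q[X]) ⊗ₜ m) + (X ^ k : Q[X]) ⊗ₜ[Q] ((X : Q[X]) • m) := by
      rw [phi_tmul, pow_succ', sub_add_cancel]
    have h2 : eps Q M ((X ^ k : Q[X]) ⊗ₜ[Q] ((X : Q[X]) • m)) =
        eps Q M ((X ^ (k + 1) : Q[X]) ⊗ₜ[Q] m) := by
      rw [eps_tmul, eps_tmul, pow_succ, mul_smul]
    rw [map_add, add_assoc, ← h2, ← hu]
    exact h1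

lemma exists_phi_add (w : Q[X] ⊗[Q] M) :
    ∃ u, w = phi Q M u + (1 : Q[X]) ⊗ₜ[Q] (eps Q M w) := by
  induction w using TensorProduct.induction_on with
  | zero => exact ⟨0, by simp⟩
  | add x y hx hy =>
    obtain ⟨u, hu⟩ := hx
    obtain ⟨u', hu'⟩ := hy
    refine ⟨u + u', ?_⟩
    rw [map_add, map_add, TensorProduct.tmul_add]
    conv_lhs => rw [hu, hu']
    abel
  | tmul r m =>
    induction r using Polynomial.induction_on' generalizing m with
    | add p q hp hq =>
      obtain ⟨u, hu⟩ := hp m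
      obtain ⟨u', hu'⟩ := hq m
      refine ⟨u + u', ?_⟩
      rw [TensorProduct.add_tmul, map_add, map_add, TensorProduct.tmul_add]
      conv_lhs => rw [hu, hu']
      abel
    | monomial k a =>
      obtain ⟨u, hu⟩ := exists_phi_add_pow Q M k (a • m)
      refine ⟨u, ?_⟩
      have h : (monomial k a : Q[X]) ⊗ₜ[Q] m = (X ^ k : Q[X]) ⊗ₜ[Q] (a • m) := by
        rw [← Polynomial.C_mul_X_pow_eq_monomial, ← Polynomial.smul_eq_C_mul,
          TensorProduct.smul_tmul]
      rw [h]
      exact hu

lemma exact_phi_eps : Function.Exact (phi Q M) (eps Q M) := by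
  intro w
  constructor
  · intro hw
    obtain ⟨u, hu⟩ := exists_phi_add Q M w
    rw [hw, TensorProduct.tmul_zero, add_zero] at hu
    exact ⟨u, hu.symm⟩
  · rintro ⟨u, rfl⟩
    exact eps_phi Q M u

/-- coefficients of an element of `Q[X] ⊗ M` -/
noncomputable def cf : Q[X] ⊗[Q] M ≃ₗ[Q] ℕ →₀ M :=
  TensorProduct.equivFinsuppOfBasisLeft (Polynomial.basisMonomials Q)

lemma cf_tmul (r : Q[X]) (m : M) (k : ℕ) : cf Q M (r ⊗ₜ m) k = r.coeff k • m := by
  rw [cf, TensorProduct.equivFinsuppOfBasisLeft_apply_tmul_apply]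
  rfl

lemma cf_phi (v : Q[X] ⊗[Q] M) (k : ℕ) :
    cf Q M (phi Q M v) (k + 1) = cf Q M v k - (X : Q[X]) • cf Q M v (k + 1) := by
  induction v using TensorProduct.induction_on with
  | zero => simp
  | tmul r m =>
    rw [phi_tmul, map_sub, Finsupp.sub_apply, cf_tmul, cf_tmul, cf_tmul, cf_tmul,
      Polynomial.coeff_X_mul, smul_comm]
  | add x y hx hy =>
    rw [map_add (phi Q M), map_add (cf Q M), map_add (cf Q M), Finsupp.add_apply,
      Finsupp.add_apply, Finsupp.add_apply, hx, hy, smul_add]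
    abel

lemma phi_injective : Function.Injective (phi Q M) := by
  rw [injective_iff_map_eq_zero]
  intro v hv
  by_contra hne
  have hc : cf Q M v ≠ 0 := fun h => hne ((cf Q M).map_eq_zero_iff.mp h)
  have hsupp : (cf Q M v).support.Nonempty := Finsupp.support_nonempty_iff.mpr hc
  have h1 : cf Q M v ((cf Q M v).support.max' hsupp) ≠ 0 :=
    Finsupp.mem_support_iff.mp (Finset.max'_mem _ hsupp)
  have h2 : cf Q M v ((cf Q M v).support.max' hsupp + 1) = 0 := by
    by_contra h
    have := Finset.le_max' _ _ (Finsupp.mem_support_iff.mpr h)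
    omega
  have h3 := cf_phi Q M v ((cf Q M v).support.max' hsupp)
  rw [hv, map_zero, Finsupp.zero_apply, h2, smul_zero, sub_zero] at h3
  exact h1 h3.symm

/-- **Tor dimension over `Q[X]`**: an `Q[X]`-module with tor amplitude `[-d, 0]` over `Q` has tor
amplitude `[-(d+1), 0]` over `Q[X]`. -/
theorem hasTorAmp_polynomial (d : ℕ)
    (h : DRing.HasTorAmplitudeIn Q (-(d : ℤ)) 0 (Dual.inD Q M)) :
    DRing.HasTorAmplitudeIn Q[X] (-((d + 1 : ℕ) : ℤ)) 0 (Dual.inD Q[X] M) := by
  have hE : DRing.HasTorAmplitudeIn Q[X] (-(d : ℤ)) 0 (Dual.inD Q[X] (Q[X] ⊗[Q] M)) :=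
    hasTorAmp_baseChange_module M _ _ h
  obtain ⟨Tr, hT, h1, h2, h3⟩ := exists_triangle (phi Q M) (eps Q M) (phi_injective Q M)
    (eps_surjective Q M) (exact_phi_eps Q M)
  have := (hasTorAmp_two_out_of_three (-((d + 1 : ℕ) : ℤ)) 0 Tr hT).1
    (h1 ▸ hasTorAmp_mono (by push_cast; omega) (by omega) hE)
    (h2 ▸ hasTorAmp_mono (by push_cast; omega) le_rfl hE)
  rw [h3] at this
  exact this

end OneVar

section MvPoly

open MvPolynomial

/-- **Tor dimension over `A[x_1..x_n]`**. -/
theorem hasTorAmp_mvPolynomial : ∀ (n : ℕ) (A : Type u) [CommRing A] (M : Type u)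
    [AddCommGroup M] [Module A M] [Module (MvPolynomial (Fin n) A) M]
    [IsScalarTower A (MvPolynomial (Fin n) A) M] (d : ℕ),
    DRing.HasTorAmplitudeIn A (-(d : ℤ)) 0 (Dual.inD A M) →
    DRing.HasTorAmplitudeIn (MvPolynomial (Fin n) A) (-((d + n : ℕ) : ℤ)) 0
      (Dual.inD (MvPolynomial (Fin n) A) M) := by
  intro n
  induction n with
  | zero =>
    intro A _ M _ _ _ _ d h
    let e : MvPolynomial (Fin 0) A ≃ₐ[A] A := MvPolynomial.isEmptyAlgEquiv A (Fin 0)
    have hsm : ∀ (s : MvPolynomial (Fin 0) A) (m : M), s • m = e.toRingEquiv s • m := by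
      intro s m
      have hs : s = algebraMap A _ (e s) := by
        conv_lhs => rw [← e.symm_apply_apply s]
        exact e.symm.commutes (e s)
      conv_lhs => rw [hs, algebraMap_smul]
      rfl
    have := hasTorAmp_of_ringEquiv e.toRingEquiv M hsm _ _ h
    simpa using this
  | succ n ih =>
    intro A _ M _ _ _ _ d h
    let e : MvPolynomial (Fin (n + 1)) A ≃ₐ[A] Polynomial (MvPolynomial (Fin n) A) :=
      MvPolynomial.finSuccEquiv A n
    let es : Polynomial (MvPolynomial (Fin n) A) →+* MvPolynomial (Fin (n + 1)) A :=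
      (e.symm : Polynomial (MvPolynomial (Fin n) A) →ₐ[A] MvPolynomial (Fin (n + 1)) A).toRingHom
    letI modR : Module (Polynomial (MvPolynomial (Fin n) A)) M := Module.compHom M es
    letI modS₀ : Module (MvPolynomial (Fin n) A) M := Module.compHom M (es.comp Polynomial.C)
    haveI : IsScalarTower (MvPolynomial (Fin n) A) (Polynomial (MvPolynomial (Fin n) A)) M :=
      ⟨fun s₀ r m => by
        show es (s₀ • r) • m = es (Polynomial.C s₀) • (es r • m)
        rw [Polynomial.smul_eq_C_mul, map_mul, mul_smul]⟩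
    haveI : IsScalarTower A (MvPolynomial (Fin n) A) M := ⟨fun a s₀ m => by
      show es (Polynomial.C (a • s₀)) • m = a • (es (Polynomial.C s₀) • m)
      have h1 : es (Polynomial.C (algebraMap A (MvPolynomial (Fin n) A) a)) =
          algebraMap A (MvPolynomial (Fin (n + 1)) A) a := by
        have := e.symm.commutes a
        rwa [Polynomial.algebraMap_apply] at this
      rw [Algebra.smul_def, map_mul, map_mul, mul_smul, h1, algebraMap_smul]⟩
    have h2 := ih A M d h
    have h3 := hasTorAmp_polynomial (MvPolynomial (Fin n) A) M (d + n) h2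
    have hsm : ∀ (s : MvPolynomial (Fin (n + 1)) A) (m : M), s • m = e.toRingEquiv s • m := by
      intro s m
      show s • m = e.symm (e s) • m
      rw [e.symm_apply_apply]
    have := hasTorAmp_of_ringEquiv e.toRingEquiv M hsm _ _ h3
    have hcast : (-((d + n + 1 : ℕ) : ℤ)) = -((d + (n + 1) : ℕ) : ℤ) := by push_cast; ring
    rw [← hcast]
    exact this

/-- tor amplitude of an algebra over a polynomial ring presenting it -/
theorem hasTorAmp_pres {A B : Type u} [CommRing A] [CommRing B] [Algebra A B] {n : ℕ}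
    (φ : MvPolynomial (Fin n) A →ₐ[A] B) (d : ℕ) (h : DRing.HasTorDimLE A d B) :
    letI := φ.toRingHom.toAlgebra
    DRing.HasTorAmplitudeIn (MvPolynomial (Fin n) A) (-((d + n : ℕ) : ℤ)) 0
      (Dual.inD (MvPolynomial (Fin n) A) B) := by
  letI algPB : Algebra (MvPolynomial (Fin n) A) B := φ.toRingHom.toAlgebra
  haveI : IsScalarTower A (MvPolynomial (Fin n) A) B :=
    IsScalarTower.of_algebraMap_eq (fun a => (φ.commutes a).symm)
  exact hasTorAmp_mvPolynomial n A B d ((hasTorDimLE_iff_hasTorAmp B d).1 h)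

end MvPoly

end Groth.Agent.Lib.Helper5.FTD
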