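import Mathlib
import Groth.Agent.Lib.Helper5PCBC
import Groth.Agent.Lib.Helper5FTD

/-!
# Perfect ring maps form a local property; perfect morphisms of schemes (helper5)

* `PerfHom`, `FTDHom`, `propertyIsLocal : RingHom.PropertyIsLocal (@PerfHom.{u})`.
* `PerfMor := affineLocally PerfHom`, `perfMor_iff : PerfMor f ↔ MoreMor.IsPerfectMor f`.
* composition, flat base change, fpqc descent of perfect morphisms.
-/

set_option autoImplicit false
universe u
open CategoryTheory CategoryTheory.Limits
attribute [local instance] HasDerivedCategory.standard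

namespace Groth.Agent.Lib.Helper5.PerfProp

open DerivedCategory
open Groth.Agent.Lib.Helper1.Extend Groth.Agent.Lib.Helper1.Restrict Groth.Agent.Lib.Helper1.RelPC
open Groth.Agent.Lib.Helper1.Tor Groth.Agent.Lib.Helper1.TorDim Groth.Agent.Lib.Helper14.TorSyz
open Groth.Agent.Lib.Helper5.KzIdeal
open Groth.Agent.Lib.Helper5.PCHom Groth.Agent.Lib.Helper5.PCLocal Groth.Agent.Lib.Helper5.PerfHom
open Groth.Agent.Lib.Helper5.PCProp Groth.Agent.Lib.Helper5.PCBC Groth.Agent.Lib.Helper5.FTD

/-- the ring map `φ` has finite tor dimension -/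
def FTDHom {A B : Type u} [CommRing A] [CommRing B] (φ : A →+* B) : Prop :=
  letI := φ.toAlgebra
  DRing.HasFiniteTorDim A B

/-- the ring map `φ` is perfect -/
def PerfHom {A B : Type u} [CommRing A] [CommRing B] (φ : A →+* B) : Prop :=
  @MoreMor.IsPerfectHom A B _ _ φ.toAlgebra

theorem perfHom_iff {A B : Type u} [CommRing A] [CommRing B] (φ : A →+* B) :
    PerfHom φ ↔ PCHom φ ∧ FTDHom φ := Iff.rfl

section Mod

variable {A B C : Type u} [CommRing A] [CommRing B] [CommRing C]

theorem hasFiniteTorDim_comp [Algebra A B] [Algebra B C] [Algebra A C] [IsScalarTower A B C]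
    (h1 : DRing.HasFiniteTorDim A B) (h2 : DRing.HasFiniteTorDim B C) :
    DRing.HasFiniteTorDim A C := by
  obtain ⟨d1, h1⟩ := h1
  obtain ⟨d2, h2⟩ := h2
  rw [hasTorDimLE_iff_hasTorAmp] at h1 h2
  have := hasTorAmp_restrict_module d1 h1 C _ _ h2
  exact ⟨d2 + d1, (hasTorDimLE_iff_hasTorAmp C (d2 + d1)).2
    (hasTorAmp_mono (by push_cast; omega) le_rfl this)⟩

theorem hasFiniteTorDim_of_flat [Algebra A B] [Module.Flat A B] : DRing.HasFiniteTorDim A B :=
  ⟨0, (hasTorDimLE_zero_iff_flat B).2 inferInstance⟩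

theorem ftdHom_comp (φ : A →+* B) (ψ : B →+* C) (h1 : FTDHom φ) (h2 : FTDHom ψ) :
    FTDHom (ψ.comp φ) := by
  letI := φ.toAlgebra
  letI := ψ.toAlgebra
  letI : Algebra A C := (ψ.comp φ).toAlgebra
  haveI : IsScalarTower A B C := IsScalarTower.of_algebraMap_eq (fun r => rfl)
  exact hasFiniteTorDim_comp h1 h2

theorem ftdHom_of_flat (φ : A →+* B) (h : φ.Flat) : FTDHom φ := by
  letI := φ.toAlgebra
  haveI : Module.Flat A B := h
  exact hasFiniteTorDim_of_flat

theorem perfHom_comp (φ : A →+* B) (ψ : B →+* C) (hφ : PerfHom φ) (hψ : PerfHom ψ) :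
    PerfHom (ψ.comp φ) := by
  obtain ⟨h1, h2⟩ := (perfHom_iff φ).mp hφ
  obtain ⟨h3, h4⟩ := (perfHom_iff ψ).mp hψ
  exact (perfHom_iff _).mpr ⟨pcHom_comp φ ψ h1 h3, ftdHom_comp φ ψ h2 h4⟩

theorem stableUnderComposition : RingHom.StableUnderComposition (@PerfHom.{u}) :=
  fun _ _ _ _ _ _ f g hf hg => perfHom_comp f g hf hg

theorem holdsForLocalizationAway : RingHom.HoldsForLocalizationAway (@PerfHom.{u}) :=
  fun _ S _ _ _ r _ => (perfHom_iff _).mpr
    ⟨Groth.Agent.Lib.Helper5.PCHom.holdsForLocalizationAway S r,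
      ftdHom_of_flat _ (RingHom.flat_algebraMap_iff.mpr
        (IsLocalization.flat S (Submonoid.powers r)))⟩

theorem hasFiniteTorDim_of_isLocalization {R R' T : Type u} [CommRing R] [CommRing R']
    [CommRing T] [Algebra R R'] [Algebra R' T] [Algebra R T] [IsScalarTower R R' T]
    (M : Submonoid R) [IsLocalization M R'] (H : DRing.HasFiniteTorDim R T) :
    DRing.HasFiniteTorDim R' T := by
  obtain ⟨d, hd⟩ := H
  rw [hasTorDimLE_iff_hasTorAmp] at hd
  exact ⟨d, (hasTorDimLE_iff_hasTorAmp T d).2 (hasTorAmp_of_isLocalization M T _ _ hd)⟩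

theorem ftdHom_of_comp_away {R R' T : Type u} [CommRing R] [CommRing R'] [CommRing T]
    [Algebra R R'] (r : R) [IsLocalization.Away r R'] (g : R' →+* T)
    (H : FTDHom (g.comp (algebraMap R R'))) : FTDHom g := by
  letI := g.toAlgebra
  letI : Algebra R T := (g.comp (algebraMap R R')).toAlgebra
  haveI : IsScalarTower R R' T := IsScalarTower.of_algebraMap_eq (fun _ => rfl)
  exact hasFiniteTorDim_of_isLocalization (Submonoid.powers r) H

theorem localizationAwayPreserves : RingHom.LocalizationAwayPreserves (@PerfHom.{u}) := by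
  intro R S _ _ f r R' S' _ _ _ _ _ _ hf
  obtain ⟨h1, h2⟩ := (perfHom_iff f).mp hf
  refine (perfHom_iff _).mpr
    ⟨Groth.Agent.Lib.Helper5.PCProp.localizationAwayPreserves f r R' S' h1, ?_⟩
  apply ftdHom_of_comp_away r
  have h3 : (IsLocalization.Away.map R' S' f r).comp (algebraMap R R') =
      (algebraMap S S').comp f := IsLocalization.map_comp _
  rw [h3]
  exact ftdHom_comp f (algebraMap S S') h2 (ftdHom_of_flat _ (RingHom.flat_algebraMap_iff.mpr
    (IsLocalization.flat S' (Submonoid.powers (f r)))))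

end Mod

section Chart

variable {R S : Type u} [CommRing R] [CommRing S] [Algebra R S] {n : ℕ}
  (α : MvPolynomial (Fin n) R →ₐ[R] S)

/-- the chart at `G`: if `S_r` has tor dimension `≤ d` over `R`, then `P_G ⊗_P S` has tor amplitude
`[-(d+n), 0]` over `P_G`, where `P = R[x_1..x_n] → S` and `G ↦ r` -/
theorem hasTorAmp_tensor_away (G : MvPolynomial (Fin n) R) (S' : Type u) [CommRing S']
    [Algebra S S'] [IsLocalization.Away (α.toRingHom G) S'] (d : ℕ)
    (H : letI := ((algebraMap S S').comp (algebraMap R S)).toAlgebra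
      DRing.HasTorDimLE R d S') :
    letI := α.toRingHom.toAlgebra
    DRing.HasTorAmplitudeIn (Localization.Away G) (-((d + n : ℕ) : ℤ)) 0
      (Dual.inD (Localization.Away G)
        (TensorProduct (MvPolynomial (Fin n) R) (Localization.Away G) S)) := by
  letI algPS : Algebra (MvPolynomial (Fin n) R) S := α.toRingHom.toAlgebra
  letI algRS' : Algebra R S' := ((algebraMap S S').comp (algebraMap R S)).toAlgebra
  letI algPS' : Algebra (MvPolynomial (Fin n) R) S' :=
    ((algebraMap S S').comp α.toRingHom).toAlgebra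
  letI algPGS' : Algebra (Localization.Away G) S' :=
    (IsLocalization.Away.map (Localization.Away G) S' α.toRingHom G).toAlgebra
  haveI : IsScalarTower R (MvPolynomial (Fin n) R) S' := IsScalarTower.of_algebraMap_eq (fun a => by
    show algebraMap S S' (algebraMap R S a) =
      algebraMap S S' (α (algebraMap R (MvPolynomial (Fin n) R) a))
    rw [α.commutes])
  haveI : IsScalarTower (MvPolynomial (Fin n) R) S S' :=
    IsScalarTower.of_algebraMap_eq (fun _ => rfl)
  haveI : IsScalarTower (MvPolynomial (Fin n) R) (Localization.Away G) S' :=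
    IsScalarTower.of_algebraMap_eq
      (fun p => (away_map_algebraMap α.toRingHom G (Localization.Away G) S' p).symm)
  have h1 : DRing.HasTorAmplitudeIn R (-(d : ℤ)) 0 (Dual.inD R S') :=
    (hasTorDimLE_iff_hasTorAmp S' d).1 H
  have h2 := hasTorAmp_mvPolynomial n R S' d h1
  have h3 := hasTorAmp_of_isLocalization (P' := Localization.Away G) (Submonoid.powers G) S' _ _ h2
  haveI : IsLocalization (Algebra.algebraMapSubmonoid S (Submonoid.powers G)) S' := by
    rw [Algebra.algebraMapSubmonoid_powers]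
    exact ‹IsLocalization.Away (α.toRingHom G) S'›
  haveI : IsLocalizedModule (Submonoid.powers G)
      (IsScalarTower.toAlgHom (MvPolynomial (Fin n) R) S S').toLinearMap :=
    isLocalizedModule_iff_isLocalization.mpr inferInstance
  have hbc : IsBaseChange (Localization.Away G)
      (IsScalarTower.toAlgHom (MvPolynomial (Fin n) R) S S').toLinearMap :=
    IsLocalizedModule.isBaseChange (Submonoid.powers G) (Localization.Away G) _
  exact hasTorAmp_of_linearEquiv hbc.equiv.symm h3

end Chart

section Local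

theorem ofLocalizationFiniteSpanTarget : RingHom.OfLocalizationFiniteSpanTarget (@PerfHom.{u}) := by
  intro R S _ _ f s hs H
  classical
  have hpcf : PCHom f := Groth.Agent.Lib.Helper5.PCLocal.ofLocalizationFiniteSpanTarget f s hs
    (fun r => ((perfHom_iff _).mp (H r)).1)
  refine (perfHom_iff f).mpr ⟨hpcf, ?_⟩
  letI algRS : Algebra R S := f.toAlgebra
  obtain ⟨n, α, hα, -⟩ := hpcf
  letI algPS : Algebra (MvPolynomial (Fin n) R) S := α.toRingHom.toAlgebra
  haveI : IsScalarTower R (MvPolynomial (Fin n) R) S :=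
    IsScalarTower.of_algebraMap_eq (fun a => (α.commutes a).symm)
  choose dd hdd using fun r : s => ((perfHom_iff _).mp (H r)).2
  let d : ℕ := Finset.univ.sup dd
  choose G hG using fun r : s => hα (r : S)
  have h1 : (1 : S) ∈ Ideal.span (s : Set S) := by
    rw [hs]
    exact Submodule.mem_top
  obtain ⟨c, hc⟩ := Submodule.mem_span_finset'.mp h1
  choose Cc hCc using fun r : s => hα (c r)
  let h : MvPolynomial (Fin n) R := 1 - ∑ r : s, Cc r * G r
  have hh : α h = 0 := by
    simp only [h, map_sub, map_one, map_sum, map_mul, hCc, hG]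
    rw [sub_eq_zero]
    exact hc.symm
  let g : Option (Fin s.card) → MvPolynomial (Fin n) R :=
    fun o => o.elim h (fun j => G (s.equivFin.symm j))
  have hg : Ideal.span (Set.range g) = ⊤ := by
    rw [Ideal.eq_top_iff_one]
    have h2 : (1 : MvPolynomial (Fin n) R) = h + ∑ r : s, Cc r * G r := by simp [h]
    rw [h2]
    refine Ideal.add_mem _ (Ideal.subset_span ⟨none, rfl⟩)
      (Ideal.sum_mem _ (fun r _ => Ideal.mul_mem_left _ _ (Ideal.subset_span
        ⟨some (s.equivFin r), ?_⟩)))
    show G (s.equivFin.symm (s.equivFin r)) = G r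
    rw [Equiv.symm_apply_apply]
  have hP : DRing.HasTorAmplitudeIn (MvPolynomial (Fin n) R) (-((d + n : ℕ) : ℤ)) 0
      (Dual.inD (MvPolynomial (Fin n) R) S) := by
    refine (descFam_away' g hg).hasTorAmp (Dual.inD (MvPolynomial (Fin n) R) S) _ _ (fun o => ?_)
    cases o with
    | none =>
      haveI : Subsingleton (TensorProduct (MvPolynomial (Fin n) R)
          (Localization.Away (g none)) S) := subsingleton_tensor_away h hh
      refine hasTorAmp_of_iso (extDInDIso (A := MvPolynomial (Fin n) R)
        (B := Localization.Away (g none)) S).symm (hasTorAmp_of_isZero _ ?_ _ _)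
      exact (DerivedCategory.singleFunctor (ModuleCat.{u} (Localization.Away (g none))) 0).map_isZero
        (ModuleCat.isZero_of_subsingleton (ModuleCat.of (Localization.Away (g none))
          (TensorProduct (MvPolynomial (Fin n) R) (Localization.Away (g none)) S)))
    | some j =>
      haveI : IsLocalization.Away (α.toRingHom (G (s.equivFin.symm j)))
          (Localization.Away ((s.equivFin.symm j : s) : S)) := by
        rw [show α.toRingHom (G (s.equivFin.symm j)) = ((s.equivFin.symm j : s) : S) from hG _]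
        infer_instance
      have := hasTorAmp_tensor_away α (G (s.equivFin.symm j))
        (Localization.Away ((s.equivFin.symm j : s) : S)) d
        (fun N _ _ p hp => hdd (s.equivFin.symm j) N p
          (lt_of_le_of_lt (Finset.le_sup (f := dd) (Finset.mem_univ (s.equivFin.symm j))) hp))
      exact hasTorAmp_of_iso (extDInDIso (A := MvPolynomial (Fin n) R)
        (B := Localization.Away (G (s.equivFin.symm j))) S).symm this
  have hR := hasTorAmp_restrict_flat_module (A := R) (B := MvPolynomial (Fin n) R) S _ _ hP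
  exact ⟨d + n, (hasTorDimLE_iff_hasTorAmp S (d + n)).2 hR⟩

theorem ofLocalizationSpanTarget : RingHom.OfLocalizationSpanTarget (@PerfHom.{u}) :=
  (RingHom.ofLocalizationSpanTarget_iff_finite (P := @PerfHom.{u})).mpr ofLocalizationFiniteSpanTarget

theorem propertyIsLocal : RingHom.PropertyIsLocal (@PerfHom.{u}) where
  localizationAwayPreserves := localizationAwayPreserves
  ofLocalizationSpanTarget := ofLocalizationSpanTarget
  ofLocalizationSpan := ofLocalizationSpanTarget.ofLocalizationSpan
    (stableUnderComposition.stableUnderCompositionWithLocalizationAway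
      holdsForLocalizationAway).left
  StableUnderCompositionWithLocalizationAwayTarget :=
    (stableUnderComposition.stableUnderCompositionWithLocalizationAway
      holdsForLocalizationAway).right

theorem stableUnderCompositionWithLocalizationAwaySource :
    RingHom.StableUnderCompositionWithLocalizationAwaySource (@PerfHom.{u}) :=
  (stableUnderComposition.stableUnderCompositionWithLocalizationAway
    holdsForLocalizationAway).1

end Local

section BC

open TensorProduct

theorem perfHom_algebraMap_iff {R S : Type u} [CommRing R] [CommRing S] [Algebra R S] :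
    PerfHom (algebraMap R S) ↔ MoreMor.IsPerfectHom R S := by
  unfold PerfHom
  have hinst : (algebraMap R S).toAlgebra = (inferInstance : Algebra R S) :=
    Algebra.algebra_ext _ _ (fun _ => rfl)
  rw [hinst]

theorem hasFiniteTorDim_of_isPushout (A B A' B' : Type u) [CommRing A] [CommRing B]
    [CommRing A'] [CommRing B'] [Algebra A B] [Algebra A A'] [Algebra A B'] [Algebra B B']
    [Algebra A' B'] [IsScalarTower A B B'] [IsScalarTower A A' B'] [Algebra.IsPushout A B A' B']
    [Module.Flat A A'] (h : DRing.HasFiniteTorDim A B) : DRing.HasFiniteTorDim A' B' := by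
  obtain ⟨d, hd⟩ := h
  have h1 := hasTorAmp_baseChange_module (A' := A') B _ _ ((hasTorDimLE_iff_hasTorAmp B d).1 hd)
  have hbc : IsBaseChange A' (IsScalarTower.toAlgHom A B B').toLinearMap :=
    (Algebra.IsPushout.symm (inferInstance : Algebra.IsPushout A B A' B')).out
  exact ⟨d, (hasTorDimLE_iff_hasTorAmp B' d).2 (hasTorAmp_of_linearEquiv hbc.equiv h1)⟩

theorem isPerfectHom_of_isPushout (A B A' B' : Type u) [CommRing A] [CommRing B]
    [CommRing A'] [CommRing B'] [Algebra A B] [Algebra A A'] [Algebra A B'] [Algebra B B']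
    [Algebra A' B'] [IsScalarTower A B B'] [IsScalarTower A A' B'] [Algebra.IsPushout A B A' B']
    [Module.Flat A A'] (h : MoreMor.IsPerfectHom A B) : MoreMor.IsPerfectHom A' B' :=
  ⟨isPseudoCoherentHom_of_isPushout A B A' B' h.1, hasFiniteTorDim_of_isPushout A B A' B' h.2⟩

theorem flatBC_perfHom : FlatBC (@PerfHom.{u}) := by
  intro A B A' B' φ ψ ψ' φ' hpo hψ hφ
  algebraize [φ.hom, ψ.hom, ψ'.hom, φ'.hom, ψ'.hom.comp φ.hom]
  haveI : IsScalarTower A A' B' := .of_algebraMap_eq' <| congr($(hpo.1.1).hom)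
  haveI : Algebra.IsPushout A B A' B' := CommRingCat.isPushout_iff_isPushout.mp hpo
  haveI : Module.Flat A A' := hψ
  exact isPerfectHom_of_isPushout A B A' B' hφ

theorem isPerfectHom_of_faithfullyFlat_tensor (R S T : Type u) [CommRing R]
    [CommRing S] [CommRing T] [Algebra R S] [Algebra R T] [Module.FaithfullyFlat R S]
    (h : MoreMor.IsPerfectHom S (S ⊗[R] T)) : MoreMor.IsPerfectHom R T := by
  refine ⟨isPseudoCoherentHom_of_faithfullyFlat_tensor R S T h.1, ?_⟩
  obtain ⟨d, hd⟩ := h.2
  exact ⟨d, (hasTorDimLE_iff_hasTorAmp T d).2 (hasTorAmp_of_baseChange_module (A' := S) T _ _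
    ((hasTorDimLE_iff_hasTorAmp (S ⊗[R] T) d).1 hd))⟩

theorem codescendsAlong_perfHom :
    RingHom.CodescendsAlong (@PerfHom.{u}) RingHom.FaithfullyFlat := by
  refine RingHom.CodescendsAlong.mk _ propertyIsLocal.respectsIso ?_
  intro R S T _ _ _ _ _ hS hT
  rw [RingHom.faithfullyFlat_algebraMap_iff] at hS
  haveI := hS
  rw [perfHom_algebraMap_iff] at hT ⊢
  exact isPerfectHom_of_faithfullyFlat_tensor R S T hT

end BC

section Sch

open AlgebraicGeometry MorphismProperty

/-- perfect morphisms of schemes -/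
def PerfMor : MorphismProperty Scheme.{u} := affineLocally (@PerfHom.{u})

instance : HasRingHomProperty PerfMor (@PerfHom.{u}) where
  isLocal_ringHomProperty := propertyIsLocal
  eq_affineLocally' := rfl

theorem perfMor_iff {X Y : Scheme.{u}} (f : X ⟶ Y) :
    PerfMor f ↔ MoreMor.IsPerfectMor f := by
  rw [HasRingHomProperty.iff_appLE (P := PerfMor)]
  constructor
  · intro h U V hU hV hUV
    exact h ⟨V, hV⟩ ⟨U, hU⟩ hUV
  · intro h V U e
    exact h U.1 V.1 U.2 V.2 e

instance : PerfMor.IsStableUnderComposition :=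
  HasRingHomProperty.stableUnderComposition (P := PerfMor) stableUnderComposition

theorem isPerfectMor_comp {X Y Z : Scheme.{u}} (f : X ⟶ Y) (g : Y ⟶ Z)
    (hf : MoreMor.IsPerfectMor f) (hg : MoreMor.IsPerfectMor g) :
    MoreMor.IsPerfectMor (f ≫ g) :=
  (perfMor_iff _).mp (PerfMor.comp_mem f g ((perfMor_iff f).mpr hf) ((perfMor_iff g).mpr hg))

theorem isPerfectMor_iff_exists {X S : Scheme.{u}} (f : X ⟶ S) :
    MoreMor.IsPerfectMor f ↔ ∀ x : X, ∃ (U : X.Opens) (V : S.Opens) (hUV : U ≤ f ⁻¹ᵁ V),
      IsAffineOpen U ∧ IsAffineOpen V ∧ x ∈ U ∧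
      (letI := (f.appLE V U hUV).hom.toAlgebra
       MoreMor.IsPerfectHom Γ(S, V) Γ(X, U)) := by
  rw [← perfMor_iff, HasRingHomProperty.iff_exists_appLE (P := PerfMor)
    stableUnderCompositionWithLocalizationAwaySource]
  constructor
  · intro h x
    obtain ⟨V, U, hxU, e, hQ⟩ := h x
    exact ⟨U.1, V.1, e, U.2, V.2, hxU, hQ⟩
  · intro h x
    obtain ⟨U, V, e, hU, hV, hxU, hQ⟩ := h x
    exact ⟨⟨V, hV⟩, ⟨U, hU⟩, hxU, e, hQ⟩

/-- **Flat base change of perfect morphisms.** -/
theorem isPerfectMor_flat_baseChange {X S X' S' : Scheme.{u}} (f : X ⟶ S) (f' : X' ⟶ S')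
    (g' : X' ⟶ X) (g : S' ⟶ S) [Flat g] (hc : IsPullback g' f' f g)
    (hf : MoreMor.IsPerfectMor f) : MoreMor.IsPerfectMor f' :=
  (perfMor_iff f').mp (of_isPullback_of_flat (P := PerfMor)
    stableUnderCompositionWithLocalizationAwaySource flatBC_perfHom f f' g' g hc
    ((perfMor_iff f).mpr hf))

instance perfMor_descendsAlong :
    PerfMor.{u}.DescendsAlong Groth.Agent.Lib.Helper5.LciDesc.SFQ.{u} :=
  descendsAlong_of_codescendsAlong codescendsAlong_perfHom

/-- **fpqc descent of perfect morphisms.** -/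
theorem isPerfectMor_of_fpqc_baseChange {X S X' S' : Scheme.{u}} (f : X ⟶ S)
    (f' : X' ⟶ S') (g' : X' ⟶ X) (g : S' ⟶ S) [Flat g] [Surjective g] [QuasiCompact g]
    (hc : IsPullback g' f' f g) (hf' : MoreMor.IsPerfectMor f') :
    MoreMor.IsPerfectMor f := by
  have hf0 : PerfMor f :=
    CategoryTheory.MorphismProperty.of_isPullback_of_descendsAlong
      (P := PerfMor) (Q := Groth.Agent.Lib.Helper5.LciDesc.SFQ) hc.flip
      ⟨⟨inferInstance, inferInstance⟩, inferInstance⟩ ((perfMor_iff f').mpr hf')
  exact (perfMor_iff f).mp hf0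

end Sch

end Groth.Agent.Lib.Helper5.PerfProp
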