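import Mathlib
import Groth.Agent.Lib.Helper10FlatPC
import Groth.Agent.Lib.Helper3FlatModel
import Groth.Agent.Lib.Helper5PCBC
import Groth.Agent.Lib.Helper5PerfProp

/-!
# A flat ring map of finite presentation is pseudo-coherent / perfect (helper10)
-/

set_option autoImplicit false
universe u
open CategoryTheory CategoryTheory.Limits TensorProduct MvPolynomial
attribute [local instance] HasDerivedCategory.standard

namespace Groth.Agent.Lib.Helper10.FlatPC

open Groth.Agent.Lib.Helper5.PCHom

attribute [local instance] MvPolynomial.algebraMvPolynomial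

/-- **Tor-independent base change of pseudo-coherent ring maps** from a Noetherian base:
if `A` is Noetherian, `A → B` of finite type and flat, then for every pushout `B' = A' ⊗[A] B`
the ring map `A' → B'` is pseudo-coherent. -/
theorem isPseudoCoherentHom_of_isPushout_of_flat (A B A' B' : Type u) [CommRing A] [CommRing B]
    [CommRing A'] [CommRing B'] [Algebra A B] [Algebra A A'] [Algebra A B'] [Algebra B B']
    [Algebra A' B'] [IsScalarTower A B B'] [IsScalarTower A A' B'] [Algebra.IsPushout A B A' B']
    [IsNoetherianRing A] [Algebra.FiniteType A B] [Module.Flat A B] :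
    MoreMor.IsPseudoCoherentHom A' B' := by
  obtain ⟨n, α, hα⟩ := Algebra.FiniteType.iff_quotient_mvPolynomial''.mp
    (inferInstance : Algebra.FiniteType A B)
  let P := MvPolynomial (Fin n) A
  let P' := MvPolynomial (Fin n) A'
  let α' : P' →ₐ[A'] B' := MvPolynomial.aeval (fun i => algebraMap B B' (α (X i)))
  letI algPB : Algebra P B := α.toRingHom.toAlgebra
  letI algP'B' : Algebra P' B' := α'.toRingHom.toAlgebra
  letI algPB' : Algebra P B' := ((algebraMap B B').comp α.toRingHom).toAlgebra
  haveI t0 : IsScalarTower A P B := IsScalarTower.of_algebraMap_eq (fun a => (α.commutes a).symm)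
  haveI t1 : IsScalarTower P B B' := IsScalarTower.of_algebraMap_eq (fun _ => rfl)
  have hcomp : ∀ p : P, algebraMap B B' (α p) = α' (MvPolynomial.map (algebraMap A A') p) := by
    intro p
    induction p using MvPolynomial.induction_on with
    | C a =>
      rw [MvPolynomial.map_C, ← MvPolynomial.algebraMap_eq, ← MvPolynomial.algebraMap_eq,
        α.commutes, α'.commutes, ← IsScalarTower.algebraMap_apply,
        ← IsScalarTower.algebraMap_apply]
    | add p q hp hq => rw [map_add, map_add, map_add, map_add, hp, hq]
    | mul_X p i hp =>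
      rw [map_mul, map_mul, map_mul, map_mul, hp, MvPolynomial.map_X, MvPolynomial.aeval_X]
  haveI t2 : IsScalarTower P P' B' := IsScalarTower.of_algebraMap_eq (fun p => hcomp p)
  haveI t3 : IsScalarTower A P' B' := IsScalarTower.of_algebraMap_eq (fun a => by
    show algebraMap A B' a = α' (algebraMap A P' a)
    rw [IsScalarTower.algebraMap_apply A A' P', α'.commutes, ← IsScalarTower.algebraMap_apply])
  haveI t4 : IsScalarTower A' P' B' :=
    IsScalarTower.of_algebraMap_eq (fun a => (α'.commutes a).symm)
  have hPO : Algebra.IsPushout P B P' B' :=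
    (Algebra.IsPushout.comp_iff A P A' P').1 inferInstance
  have hPO' : Algebra.IsPushout P P' B B' := hPO.symm
  have hbc : IsBaseChange P' (IsScalarTower.toAlgHom P B B').toLinearMap := hPO'.out
  let e : TensorProduct P P' B ≃ₗ[P'] B' := hbc.equiv
  have hsurj : Function.Surjective α' := by
    have hbcA : IsBaseChange A' (IsScalarTower.toAlgHom A B B').toLinearMap :=
      (Algebra.IsPushout.symm (inferInstance : Algebra.IsPushout A B A' B')).out
    intro b'
    refine hbcA.inductionOn b' (fun y => ∃ p, α' p = y) ⟨0, map_zero _⟩ ?_ ?_ ?_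
    · intro b
      obtain ⟨p, rfl⟩ := hα b
      exact ⟨MvPolynomial.map (algebraMap A A') p, (hcomp p).symm⟩
    · rintro a' y ⟨p, rfl⟩
      refine ⟨MvPolynomial.C a' * p, ?_⟩
      rw [map_mul, Algebra.smul_def, ← MvPolynomial.algebraMap_eq, α'.commutes]
    · rintro y z ⟨p, rfl⟩ ⟨q, rfl⟩
      exact ⟨p + q, map_add _ _ _⟩
  -- the Tor-independent base change
  haveI : IsNoetherianRing P := inferInstance
  haveI : Module.Flat A P := inferInstance
  haveI hPOA : Algebra.IsPushout A A' P P' :=
    (inferInstance : Algebra.IsPushout A P A' P').symm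
  haveI : Module.Finite P B := Module.Finite.of_surjective (Algebra.linearMap P B) hα
  have h1 : DRing.IsPseudoCoherentModule' P' (TensorProduct P P' B) :=
    isPC'_tensor A A' P P' B
  exact ⟨n, α', hsurj, Groth.Agent.Lib.Helper5.PCBC.isPC'_of_linearEquiv e h1⟩

/-- pseudo-coherent ring maps transport along algebra isomorphisms of the target. -/
theorem isPseudoCoherentHom_of_algEquiv {A B B' : Type u} [CommRing A] [CommRing B]
    [CommRing B'] [Algebra A B] [Algebra A B'] (e : B ≃ₐ[A] B')
    (h : MoreMor.IsPseudoCoherentHom A B) : MoreMor.IsPseudoCoherentHom A B' := by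
  obtain ⟨n, φ, hφ, hpc⟩ := h
  refine ⟨n, e.toAlgHom.comp φ, e.surjective.comp hφ, ?_⟩
  letI algB : Algebra (MvPolynomial (Fin n) A) B := φ.toRingHom.toAlgebra
  letI algB' : Algebra (MvPolynomial (Fin n) A) B' := (e.toAlgHom.comp φ).toRingHom.toAlgebra
  let eL : B ≃ₗ[MvPolynomial (Fin n) A] B' :=
    { e.toLinearEquiv with
      map_smul' := fun p b => by
        change e (φ p * b) = e (φ p) * e b
        exact map_mul e _ _ }
  exact Groth.Agent.Lib.Helper5.PCBC.isPC'_of_linearEquiv eL hpc

attribute [local instance] Algebra.TensorProduct.rightAlgebra in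
/-- **A flat ring map of finite presentation is pseudo-coherent.** -/
theorem isPseudoCoherentHom_of_flat (A B : Type u) [CommRing A] [CommRing B] [Algebra A B]
    [Module.Flat A B] [Algebra.FinitePresentation A B] : MoreMor.IsPseudoCoherentHom A B := by
  obtain ⟨A₀, B₀, _, _, _, _, hft, hfp, hflat, ⟨e⟩⟩ :=
    Groth.Agent.Lib.Helper3.FlatOpen.exists_flat_model A B
  haveI : IsNoetherianRing A₀ := Algebra.FiniteType.isNoetherianRing ℤ A₀
  haveI : Algebra.FiniteType A₀ B₀ := inferInstance
  have h := isPseudoCoherentHom_of_isPushout_of_flat A₀ B₀ A (A ⊗[A₀] B₀)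
  exact isPseudoCoherentHom_of_algEquiv e h

/-- **A flat ring map of finite presentation is perfect.** -/
theorem isPerfectHom_of_flat (A B : Type u) [CommRing A] [CommRing B] [Algebra A B]
    [Module.Flat A B] [Algebra.FinitePresentation A B] : MoreMor.IsPerfectHom A B :=
  ⟨isPseudoCoherentHom_of_flat A B, Groth.Agent.Lib.Helper5.PerfProp.hasFiniteTorDim_of_flat⟩

end Groth.Agent.Lib.Helper10.FlatPC
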