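import Mathlib
import Groth.Agent.Lib.Helper3FlatModel

set_option autoImplicit false
set_option linter.style.haveILetI false

universe u

namespace Groth.Agent.Lib.Helper3.FlatModelMod


open TensorProduct

/-- Base change along `S₀ → S` can be checked after restricting scalars along a pushout square
`R₀ → R`, `R₀ → S₀`, `S = R ⊗[R₀] S₀`. -/
theorem isBaseChange_of_isPushout {R₀ R S₀ S M₀ M : Type u} [CommRing R₀] [CommRing R]
    [CommRing S₀] [CommRing S] [Algebra R₀ R] [Algebra R₀ S₀] [Algebra R S] [Algebra S₀ S]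
    [Algebra R₀ S] [IsScalarTower R₀ R S] [IsScalarTower R₀ S₀ S] [Algebra.IsPushout R₀ R S₀ S]
    [AddCommGroup M₀] [Module S₀ M₀] [Module R₀ M₀] [IsScalarTower R₀ S₀ M₀]
    [AddCommGroup M] [Module S M] [Module R M] [IsScalarTower R S M] [Module S₀ M]
    [IsScalarTower S₀ S M] [Module R₀ M] [IsScalarTower R₀ R M] [IsScalarTower R₀ S₀ M]
    (f : M₀ →ₗ[S₀] M) (h : IsBaseChange R (f.restrictScalars R₀)) : IsBaseChange S f := by
  apply IsBaseChange.of_lift_unique
  intro Q _ _ _ _ g
  letI : Module R Q := Module.compHom Q (algebraMap R S)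
  letI : Module R₀ Q := Module.compHom Q (algebraMap R₀ S)
  haveI : IsScalarTower R S Q := ⟨fun r s q => by
    change (r • s) • q = algebraMap R S r • (s • q)
    rw [Algebra.smul_def, mul_smul]⟩
  haveI : IsScalarTower R₀ R Q := ⟨fun r₀ r q => by
    change algebraMap R S (r₀ • r) • q = algebraMap R₀ S r₀ • (algebraMap R S r • q)
    rw [Algebra.smul_def, map_mul, mul_smul, ← IsScalarTower.algebraMap_apply]⟩
  haveI : IsScalarTower R₀ S₀ Q := ⟨fun r₀ s₀ q => by
    change (r₀ • s₀) • q = algebraMap R₀ S r₀ • (s₀ • q)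
    rw [← algebraMap_smul S (r₀ • s₀) q, ← algebraMap_smul S s₀ q, Algebra.smul_def, map_mul,
      mul_smul, ← IsScalarTower.algebraMap_apply]⟩
  have hcommM : ∀ (r : R) (s₀ : S₀) (m : M), s₀ • (r • m) = r • (s₀ • m) := by
    intro r s₀ m
    rw [← algebraMap_smul S s₀ (r • m), ← algebraMap_smul S r m, ← algebraMap_smul S s₀ m,
      ← algebraMap_smul S r, smul_smul, smul_smul, mul_comm]
  have hcommQ : ∀ (r : R) (s₀ : S₀) (q : Q), s₀ • (r • q) = r • (s₀ • q) := by
    intro r s₀ q
    rw [← algebraMap_smul S s₀ (r • q), ← algebraMap_smul S r q, ← algebraMap_smul S s₀ q,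
      ← algebraMap_smul S r, smul_smul, smul_smul, mul_comm]
  let g₀ : M₀ →ₗ[R₀] Q := g.restrictScalars R₀
  let g' : M →ₗ[R] Q := h.lift g₀
  have hg' : ∀ m₀, g' (f m₀) = g m₀ := fun m₀ => h.lift_eq g₀ m₀
  -- compatibility with `S₀`
  have h1 : ∀ (s₀ : S₀) (m : M), g' (s₀ • m) = s₀ • g' m := by
    intro s₀ m
    refine h.inductionOn m (fun m => g' (s₀ • m) = s₀ • g' m) ?_ ?_ ?_ ?_
    · simp
    · intro m₀
      change g' (s₀ • f m₀) = s₀ • g' (f m₀)
      rw [← f.map_smul, hg', hg', g.map_smul]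
    · intro r n hn
      change g' (s₀ • (r • n)) = s₀ • g' (r • n)
      rw [hcommM, g'.map_smul, hn, g'.map_smul, hcommQ]
    · intro n₁ n₂ h₁ h₂
      change g' (s₀ • (n₁ + n₂)) = s₀ • g' (n₁ + n₂)
      rw [smul_add, map_add, h₁, h₂, map_add, smul_add]
  have h2 : ∀ (s : S) (m : M), g' (s • m) = s • g' m := by
    intro s m
    have hP : IsBaseChange R (IsScalarTower.toAlgHom R₀ S₀ S).toLinearMap :=
      Algebra.IsPushout.out
    refine hP.inductionOn s (fun s => g' (s • m) = s • g' m) ?_ ?_ ?_ ?_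
    · simp
    · intro s₀
      change g' (algebraMap S₀ S s₀ • m) = algebraMap S₀ S s₀ • g' m
      rw [algebraMap_smul, algebraMap_smul, h1]
    · intro r s' hs'
      change g' ((r • s') • m) = (r • s') • g' m
      rw [smul_assoc, g'.map_smul, hs', smul_assoc]
    · intro s₁ s₂ h₁ h₂
      change g' ((s₁ + s₂) • m) = (s₁ + s₂) • g' m
      rw [add_smul, map_add, h₁, h₂, add_smul]
  let g'S : M →ₗ[S] Q := { g' with map_smul' := h2 }
  refine ⟨g'S, ?_, ?_⟩
  · ext m₀
    exact hg' m₀
  · intro g'' hg''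
    ext m
    have : (g''.restrictScalars R) = g' := by
      apply h.algHom_ext
      intro m₀
      change g'' (f m₀) = g' (f m₀)
      rw [hg']
      exact LinearMap.congr_fun hg'' m₀
    exact LinearMap.congr_fun this m



open TensorProduct MvPolynomial

section Pushout

attribute [local instance] Algebra.TensorProduct.rightAlgebra

theorem isPushout_modelOfHasCoeffs {R S : Type u} [CommRing R] [CommRing S] [Algebra R S]
    {ι σ : Type*} (P : Algebra.Presentation R S ι σ) (A : Type u) [CommRing A] [Algebra A R]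
    [Algebra A S] [IsScalarTower A R S] [P.HasCoeffs A]
    [Algebra (P.ModelOfHasCoeffs A) S] [IsScalarTower A (P.ModelOfHasCoeffs A) S]
    (hcompat : ∀ y : MvPolynomial ι A,
      algebraMap (P.ModelOfHasCoeffs A) S (Ideal.Quotient.mk _ y) = MvPolynomial.aeval P.val y) :
    Algebra.IsPushout A R (P.ModelOfHasCoeffs A) S := by
  have h : Algebra.IsPushout A R (P.ModelOfHasCoeffs A) (R ⊗[A] P.ModelOfHasCoeffs A) :=
    inferInstance
  refine Algebra.IsPushout.of_equiv (h := h) (P.tensorModelOfHasCoeffsEquiv A)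
    (RingHom.ext fun y => ?_)
  obtain ⟨y, rfl⟩ := Ideal.Quotient.mk_surjective y
  rw [hcompat]
  change P.tensorModelOfHasCoeffsEquiv A ((1 : R) ⊗ₜ[A] (Ideal.Quotient.mk _ y)) = _
  rw [Algebra.Presentation.tensorModelOfHasCoeffsEquiv_tmul, map_one, one_mul]

end Pushout



open TensorProduct MvPolynomial Groth.Agent.Lib.Helper3.FlatLoc Groth.Agent.Lib.Helper3.FlatDesc
  Groth.Agent.Lib.Helper3.FlatOpen

section Aug

variable {T₀ : Type*} [CommRing T₀] {ι κ ρ : Type*} [Fintype κ] [Fintype ρ] [Fintype ι]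
  [DecidableEq ι] (w : κ → ι → T₀) (rel : ρ → T₀)

/-- The presentation matrix augmented by the relations `rel j • e_i`. -/
def wAug : (κ ⊕ (ρ × ι)) → ι → T₀ := Sum.elim w (fun p => Pi.single p.2 (rel p.1))

variable (T : Type*) [CommRing T] [Algebra T₀ T]

theorem KT_eq_span : KT w T = Submodule.span T (Set.range (wT w T)) := by
  rw [KT, WT, Fintype.range_linearCombination]

theorem KT_le_KT_wAug : KT w T ≤ KT (wAug w rel) T := by
  rw [KT_eq_span, KT_eq_span]
  apply Submodule.span_mono
  rintro _ ⟨j, rfl⟩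
  exact ⟨Sum.inl j, rfl⟩

theorem smul_mem_KT_wAug (j : ρ) (x : ι → T) :
    algebraMap T₀ T (rel j) • x ∈ KT (wAug w rel) T := by
  have hx : algebraMap T₀ T (rel j) • x =
      ∑ i, x i • wT (wAug w rel) T (Sum.inr (j, i)) := by
    funext i'
    simp only [Pi.smul_apply, smul_eq_mul, Finset.sum_apply, wT, wAug, Sum.elim_inr]
    rw [Finset.sum_eq_single i']
    · simp [mul_comm]
    · intro b _ hb
      simp [hb.symm]
    · intro h
      exact absurd (Finset.mem_univ i') h
  rw [hx, KT_eq_span]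
  exact Submodule.sum_mem _ fun i _ => Submodule.smul_mem _ _ (Submodule.subset_span ⟨_, rfl⟩)

theorem KT_wAug_eq (h : ∀ (j : ρ) (x : ι → T), algebraMap T₀ T (rel j) • x ∈ KT w T) :
    KT (wAug w rel) T = KT w T := by
  apply le_antisymm _ (KT_le_KT_wAug w rel T)
  rw [KT_eq_span (wAug w rel), Submodule.span_le]
  rintro _ ⟨p | ⟨j, i⟩, rfl⟩
  · rw [KT_eq_span]
    exact Submodule.subset_span ⟨p, rfl⟩
  · have := h j (Pi.single i 1)
    have heq : wT (wAug w rel) T (Sum.inr (j, i)) =
        algebraMap T₀ T (rel j) • (Pi.single i 1 : ι → T) := by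
      funext i'
      by_cases hi : i' = i
      · subst hi; simp [wT, wAug]
      · simp [wT, wAug, Pi.single_apply, hi]
    rw [SetLike.mem_coe, heq]
    exact this

end Aug



open TensorProduct MvPolynomial Groth.Agent.Lib.Helper3.FlatLoc Groth.Agent.Lib.Helper3.FlatDesc
  Groth.Agent.Lib.Helper3.FlatOpen

attribute [local instance] MvPolynomial.algebraMvPolynomial

/-- Variant of `exists_model_equiv` where the coefficient ring also contains the coefficients of a
given finite family of polynomials. -/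
theorem exists_model_equiv' {R : Type u} [CommRing R] {n r : ℕ} {M : Type u}
    [AddCommGroup M] [Module (MvPolynomial (Fin n) R) M]
    [Module.FinitePresentation (MvPolynomial (Fin n) R) M]
    (rel : Fin r → MvPolynomial (Fin n) R) :
    ∃ (k m : ℕ) (Λ : Subalgebra ℤ R) (_ : Λ.FG) (w : Fin m → Fin k → MvPolynomial (Fin n) Λ)
      (relΛ : Fin r → MvPolynomial (Fin n) Λ),
      (∀ j, MvPolynomial.map (algebraMap Λ R) (relΛ j) = rel j) ∧
      Nonempty (((Fin k → MvPolynomial (Fin n) R) ⧸ KT w (MvPolynomial (Fin n) R)) ≃ₗ[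
        MvPolynomial (Fin n) R] M) := by
  classical
  obtain ⟨k, m, π, g, hπ, hex⟩ :=
    Module.FinitePresentation.exists_fin' (MvPolynomial (Fin n) R) M
  let v : Fin m → Fin k → MvPolynomial (Fin n) R := fun j => g (Pi.single j 1)
  let cs : Finset R := (Finset.univ.biUnion fun j => Finset.univ.biUnion fun i => (v j i).coeffs) ∪
    (Finset.univ.biUnion fun j => (rel j).coeffs)
  let Λ : Subalgebra ℤ R := Algebra.adjoin ℤ (cs : Set R)
  have hw : ∀ j i, ∃ f : MvPolynomial (Fin n) Λ,
      MvPolynomial.map (algebraMap Λ R) f = v j i := by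
    intro j i
    apply MvPolynomial.mem_range_map_iff_coeffs_subset.mpr
    intro c hc
    refine ⟨⟨c, Algebra.subset_adjoin ?_⟩, rfl⟩
    exact Finset.mem_coe.2 (Finset.mem_union_left _ (Finset.mem_biUnion.mpr ⟨j, Finset.mem_univ j,
      Finset.mem_biUnion.mpr ⟨i, Finset.mem_univ i, hc⟩⟩))
  have hrel : ∀ j, ∃ f : MvPolynomial (Fin n) Λ,
      MvPolynomial.map (algebraMap Λ R) f = rel j := by
    intro j
    apply MvPolynomial.mem_range_map_iff_coeffs_subset.mpr
    intro c hc
    refine ⟨⟨c, Algebra.subset_adjoin ?_⟩, rfl⟩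
    exact Finset.mem_coe.2 (Finset.mem_union_right _ (Finset.mem_biUnion.mpr
      ⟨j, Finset.mem_univ j, hc⟩))
  choose w hw using hw
  choose relΛ hrelΛ using hrel
  have hwT : wT w (MvPolynomial (Fin n) R) = v := by
    ext j i : 2
    exact hw j i
  have hg : WT w (MvPolynomial (Fin n) R) = g := by
    apply LinearMap.ext
    intro a
    rw [WT_apply, hwT, LinearMap.pi_apply_eq_sum_univ g a]
    refine Finset.sum_congr rfl fun j _ => ?_
    have hsingle : (Pi.single j 1 : Fin m → MvPolynomial (Fin n) R) =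
        fun j' => if j = j' then 1 else 0 := by
      funext j'
      simp [Pi.single_apply, eq_comm]
    change a j • g (Pi.single j 1) = _
    rw [hsingle]
  have hK : KT w (MvPolynomial (Fin n) R) = LinearMap.ker π := by
    rw [KT, hg]
    exact (LinearMap.exact_iff.mp hex).symm
  exact ⟨k, m, Λ, Subalgebra.fg_adjoin_finset cs, w, relΛ, hrelΛ,
    ⟨(Submodule.quotEquivOfEq _ _ hK) ≪≫ₗ (LinearMap.quotKerEquivOfSurjective π hπ)⟩⟩



section Assemble

attribute [local instance] MvPolynomial.algebraMvPolynomial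

variable {Λ A R S : Type u} [CommRing Λ] [CommRing A] [CommRing R] [CommRing S]
  [Algebra Λ A] [Algebra Λ R] [Algebra A R] [IsScalarTower Λ A R] [Algebra R S] [Algebra A S]
  [IsScalarTower A R S]
  {n r : ℕ} (P : Algebra.Presentation R S (Fin n) (Fin r)) [P.HasCoeffs A]
  {ι κ : Type} [Fintype ι] [DecidableEq ι] [Fintype κ] (w : κ → ι → MvPolynomial (Fin n) Λ)
  (M : Type u) [AddCommGroup M] [Module S M] [Module R M] [IsScalarTower R S M]

theorem exists_of_model
    (htors : ∀ (j : Fin r) (x : ι → MvPolynomial (Fin n) A),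
      P.relationOfHasCoeffs A j • x ∈ KT w (MvPolynomial (Fin n) A))
    (e : ((ι → MvPolynomial (Fin n) R) ⧸ KT w (MvPolynomial (Fin n) R)) ≃ₗ[R] M)
    (he : ∀ (p : MvPolynomial (Fin n) R) x, e (p • x) = (MvPolynomial.aeval P.val p : S) • e x)
    (hflat : Module.Flat A ((ι → MvPolynomial (Fin n) A) ⧸ KT w (MvPolynomial (Fin n) A))) :
    ∃ (S₀ : Type u) (_ : CommRing S₀) (_ : Algebra A S₀) (_ : Algebra S₀ S)
      (_ : IsScalarTower A S₀ S) (M₀ : Type u) (_ : AddCommGroup M₀) (_ : Module S₀ M₀)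
      (_ : Module A M₀) (_ : IsScalarTower A S₀ M₀) (_ : Module S₀ M) (_ : IsScalarTower S₀ S M)
      (f : M₀ →ₗ[S₀] M),
      Algebra.FiniteType A S₀ ∧ Module.Finite S₀ M₀ ∧ Module.Flat A M₀ ∧
        Algebra.IsPushout A R S₀ S ∧ IsBaseChange S f := by
  classical
  let PA := MvPolynomial (Fin n) A
  let PR := MvPolynomial (Fin n) R
  let I : Ideal PA := Ideal.span (Set.range (P.relationOfHasCoeffs A))
  let M₀ := (ι → PA) ⧸ KT w PA
  have hM : Module.IsTorsionBySet PA M₀ (I : Set PA) := by
    rw [← Module.isTorsionBySet_iff_is_torsion_by_span]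
    rintro x ⟨_, ⟨j, rfl⟩⟩
    obtain ⟨x, rfl⟩ := Submodule.Quotient.mk_surjective _ x
    change P.relationOfHasCoeffs A j • Submodule.Quotient.mk x = 0
    rw [← Submodule.Quotient.mk_smul, Submodule.Quotient.mk_eq_zero]
    exact htors j x
  letI modS₀M₀ : Module (P.ModelOfHasCoeffs A) M₀ := hM.module
  have hmk_smul : ∀ (p : PA) (x : M₀), (Ideal.Quotient.mk I p : P.ModelOfHasCoeffs A) • x = p • x :=
    fun p x => rfl
  haveI towPA : IsScalarTower PA (P.ModelOfHasCoeffs A) M₀ := hM.isScalarTower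
  haveI towA : IsScalarTower A (P.ModelOfHasCoeffs A) M₀ := hM.isScalarTower
  -- the algebra structure `S₀ → S`
  let ψ : PA →ₐ[A] S := MvPolynomial.aeval P.val
  have hkill : ∀ a ∈ I, ψ.toRingHom a = 0 := by
    intro a ha
    have hle : I ≤ RingHom.ker ψ.toRingHom := by
      rw [Ideal.span_le]
      rintro _ ⟨j, rfl⟩
      exact P.aeval_val_relationOfHasCoeffs A j
    exact hle ha
  letI algS₀S : Algebra (P.ModelOfHasCoeffs A) S := (Ideal.Quotient.lift I ψ.toRingHom hkill).toAlgebra
  have hcompat : ∀ y : PA, algebraMap (P.ModelOfHasCoeffs A) S (Ideal.Quotient.mk _ y) =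
      MvPolynomial.aeval P.val y := fun y => rfl
  haveI towS : IsScalarTower A (P.ModelOfHasCoeffs A) S := by
    refine ⟨fun a s₀ s => ?_⟩
    obtain ⟨p, rfl⟩ := Ideal.Quotient.mk_surjective s₀
    change algebraMap (P.ModelOfHasCoeffs A) S (Ideal.Quotient.mk I (a • p)) * s =
      a • (algebraMap (P.ModelOfHasCoeffs A) S (Ideal.Quotient.mk I p) * s)
    rw [hcompat, hcompat, map_smul, smul_mul_assoc]
  haveI hpush : Algebra.IsPushout A R (P.ModelOfHasCoeffs A) S :=
    isPushout_modelOfHasCoeffs P A hcompat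
  -- module structures on `M`
  letI modS₀M : Module (P.ModelOfHasCoeffs A) M :=
    Module.compHom M (algebraMap (P.ModelOfHasCoeffs A) S)
  haveI towS₀SM : IsScalarTower (P.ModelOfHasCoeffs A) S M := ⟨fun s₀ s m => by
    change (algebraMap (P.ModelOfHasCoeffs A) S s₀ * s) • m =
      algebraMap (P.ModelOfHasCoeffs A) S s₀ • (s • m)
    rw [mul_smul]⟩
  letI modAM : Module A M := Module.compHom M (algebraMap A R)
  haveI towARM : IsScalarTower A R M := ⟨fun a r m => by
    change (a • r) • m = algebraMap A R a • (r • m)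
    rw [Algebra.smul_def, mul_smul]⟩
  haveI towAS₀M : IsScalarTower A (P.ModelOfHasCoeffs A) M := ⟨fun a s₀ m => by
    obtain ⟨p, rfl⟩ := Ideal.Quotient.mk_surjective s₀
    change algebraMap (P.ModelOfHasCoeffs A) S (Ideal.Quotient.mk I (a • p)) • m =
      algebraMap A R a • (algebraMap (P.ModelOfHasCoeffs A) S (Ideal.Quotient.mk I p) • m)
    rw [hcompat, hcompat, map_smul, Algebra.smul_def, mul_smul,
      IsScalarTower.algebraMap_apply A R S, algebraMap_smul]⟩
  -- the comparison map
  haveI := isScalarTower_mvPolynomial (σ := Fin n) Λ A R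
  have hb : IsBaseChange R ((Mmap w PA PR).restrictScalars A) :=
    isBaseChange_restrictScalars_of_isPushout _ (isBaseChange_Mmap w _ _)
  let f₀ : M₀ →ₗ[A] M := (e.restrictScalars A).toLinearMap ∘ₗ (Mmap w PA PR).restrictScalars A
  have hf₀ : ∀ (p : PA) (x : M₀), f₀ (p • x) = (MvPolynomial.aeval P.val p : S) • f₀ x := by
    intro p x
    change e (Mmap w PA PR (p • x)) = _ • e (Mmap w PA PR x)
    rw [map_smul, ← algebraMap_smul PR p (Mmap w PA PR x), he, MvPolynomial.algebraMap_def,
      MvPolynomial.aeval_map_algebraMap]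
  let f : M₀ →ₗ[P.ModelOfHasCoeffs A] M :=
    { toFun := f₀
      map_add' := f₀.map_add
      map_smul' := by
        intro s₀ x
        obtain ⟨p, rfl⟩ := Ideal.Quotient.mk_surjective s₀
        rw [hmk_smul, hf₀]
        rfl }
  have hfb : IsBaseChange R (f.restrictScalars A) := by
    refine IsBaseChange.of_equiv (hb.equiv ≪≫ₗ e) fun x => ?_
    rw [LinearEquiv.trans_apply, IsBaseChange.equiv_tmul, one_smul]
    rfl
  have hbc : IsBaseChange S f := isBaseChange_of_isPushout f hfb
  haveI : Module.Finite PA M₀ := inferInstance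
  haveI : Module.Finite (P.ModelOfHasCoeffs A) M₀ :=
    Module.Finite.of_restrictScalars_finite PA (P.ModelOfHasCoeffs A) M₀
  exact ⟨P.ModelOfHasCoeffs A, inferInstance, inferInstance, algS₀S, towS, M₀, inferInstance,
    modS₀M₀, inferInstance, towA, modS₀M, towS₀SM, f, inferInstance, inferInstance, hflat, hpush, hbc⟩

end Assemble

section Main

attribute [local instance] MvPolynomial.algebraMvPolynomial

/-- **Noetherian approximation of a flat finitely presented module over a finitely presented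
algebra**, for a given presentation. -/
theorem exists_flat_module_model_aux (R : Type u) [CommRing R]
    (S : Type u) [CommRing S] [Algebra R S] {n r : ℕ} (P : Algebra.Presentation R S (Fin n) (Fin r))
    (M : Type u) [AddCommGroup M] [Module S M] [Module R M] [IsScalarTower R S M]
    [Module.FinitePresentation S M] [Module.Flat R M] :
    ∃ (R₀ : Type u) (_ : CommRing R₀) (_ : Algebra R₀ R) (S₀ : Type u) (_ : CommRing S₀)
      (_ : Algebra R₀ S₀) (_ : Algebra S₀ S) (_ : Algebra R₀ S) (_ : IsScalarTower R₀ R S)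
      (_ : IsScalarTower R₀ S₀ S) (M₀ : Type u) (_ : AddCommGroup M₀) (_ : Module S₀ M₀)
      (_ : Module R₀ M₀) (_ : IsScalarTower R₀ S₀ M₀) (_ : Module S₀ M) (_ : IsScalarTower S₀ S M)
      (f : M₀ →ₗ[S₀] M),
      Algebra.FiniteType ℤ R₀ ∧ Algebra.FiniteType R₀ S₀ ∧ Module.Finite S₀ M₀ ∧ Module.Flat R₀ M₀ ∧
        Algebra.IsPushout R₀ R S₀ S ∧ IsBaseChange S f := by
  classical
  let φ : MvPolynomial (Fin n) R →ₐ[R] S := MvPolynomial.aeval P.val
  have hφsurj : Function.Surjective φ := P.aeval_val_surjective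
  have hφker : RingHom.ker φ.toRingHom = Ideal.span (Set.range P.relation) := by
    rw [P.span_range_relation_eq_ker]
    ext x
    rw [RingHom.mem_ker]
    change _ ↔ algebraMap P.Ring S x = 0
    rw [Algebra.Generators.algebraMap_apply]
    rfl
  letI algPS : Algebra (MvPolynomial (Fin n) R) S := φ.toRingHom.toAlgebra
  haveI : IsScalarTower R (MvPolynomial (Fin n) R) S :=
    .of_algebraMap_eq' φ.comp_algebraMap.symm
  letI modPM : Module (MvPolynomial (Fin n) R) M := Module.compHom M φ.toRingHom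
  haveI : IsScalarTower (MvPolynomial (Fin n) R) S M :=
    ⟨fun p s m => by
      change (φ p * s) • m = φ p • (s • m)
      rw [mul_smul]⟩
  haveI : IsScalarTower R (MvPolynomial (Fin n) R) M :=
    ⟨fun r p m => by
      change φ (r • p) • m = r • (φ p • m)
      rw [map_smul, smul_assoc]⟩
  haveI : Module.FinitePresentation (MvPolynomial (Fin n) R) S := by
    refine Module.finitePresentation_of_surjective
      (Algebra.linearMap (MvPolynomial (Fin n) R) S) hφsurj ?_
    have : LinearMap.ker (Algebra.linearMap (MvPolynomial (Fin n) R) S) =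
        (RingHom.ker φ.toRingHom).restrictScalars _ := by
      ext x; rfl
    rw [this, hφker]
    exact ⟨Finset.univ.image P.relation, by simp⟩
  haveI : Module.FinitePresentation (MvPolynomial (Fin n) R) M :=
    Module.FinitePresentation.trans (MvPolynomial (Fin n) R) M S
  obtain ⟨k, m, Λ, hΛ, w, relΛ, hrelΛ, ⟨e⟩⟩ := exists_model_equiv' (M := M) P.relation
  haveI : Algebra.FiniteType ℤ Λ := (Subalgebra.fg_iff_finiteType Λ).1 hΛ
  haveI : IsNoetherianRing Λ := Algebra.FiniteType.isNoetherianRing ℤ Λ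
  -- the relations act by zero on the model over `R`
  have hzero : ∀ (j : Fin r) (x : Fin k → MvPolynomial (Fin n) R),
      algebraMap (MvPolynomial (Fin n) Λ) (MvPolynomial (Fin n) R) (relΛ j) • x ∈
        KT w (MvPolynomial (Fin n) R) := by
    intro j x
    rw [← Submodule.Quotient.mk_eq_zero, Submodule.Quotient.mk_smul]
    apply e.injective
    rw [map_smul, map_zero, MvPolynomial.algebraMap_def]
    change φ (MvPolynomial.map (algebraMap Λ R) (relΛ j)) • e (Submodule.Quotient.mk x) = (0 : M)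
    rw [hrelΛ]
    have : φ (P.relation j) = 0 := P.aeval_val_relation j
    rw [this, zero_smul]
  have hKT : KT (wAug w relΛ) (MvPolynomial (Fin n) R) = KT w (MvPolynomial (Fin n) R) :=
    KT_wAug_eq w relΛ _ hzero
  let e₂ : ((Fin k → MvPolynomial (Fin n) R) ⧸ KT (wAug w relΛ) (MvPolynomial (Fin n) R)) ≃ₗ[
      MvPolynomial (Fin n) R] M := (Submodule.quotEquivOfEq _ _ hKT) ≪≫ₗ e
  have hflat : Module.Flat R
      ((Fin k → MvPolynomial (Fin n) R) ⧸ KT (wAug w relΛ) (MvPolynomial (Fin n) R)) :=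
    Module.Flat.of_linearEquiv (e₂.restrictScalars R)
  obtain ⟨A, hAfg, -, hAflat⟩ := exists_fg_subalgebra_flat_global (wAug w relΛ) hflat ∅
  haveI hcΛ : P.HasCoeffs Λ := by
    refine ⟨?_⟩
    intro c hc
    rw [Algebra.Presentation.coeffs, Set.mem_iUnion] at hc
    obtain ⟨j, hj⟩ := hc
    have hmem : P.relation j ∈ Set.range (MvPolynomial.map (algebraMap Λ R)) := ⟨relΛ j, hrelΛ j⟩
    rw [MvPolynomial.mem_range_map_iff_coeffs_subset] at hmem
    exact hmem hj
  haveI hcA : P.HasCoeffs A := Algebra.Presentation.HasCoeffs.of_isScalarTower Λ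
  haveI : Algebra.FiniteType Λ A := (Subalgebra.fg_iff_finiteType A).mp hAfg
  have hrelA : ∀ j, MvPolynomial.map (algebraMap Λ A) (relΛ j) = P.relationOfHasCoeffs A j := by
    intro j
    apply MvPolynomial.map_injective (algebraMap A R) Subtype.val_injective
    rw [MvPolynomial.map_map, P.map_relationOfHasCoeffs A j]
    exact hrelΛ j
  have htors : ∀ (j : Fin r) (x : Fin k → MvPolynomial (Fin n) A),
      P.relationOfHasCoeffs A j • x ∈ KT (wAug w relΛ) (MvPolynomial (Fin n) A) := by
    intro j x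
    rw [← hrelA j]
    exact smul_mem_KT_wAug w relΛ (MvPolynomial (Fin n) A) j x
  obtain ⟨S₀, i1, i2, i3, i4, M₀, i5, i6, i7, i8, i9, i10, f, h1, h2, h3, h4, h5⟩ :=
    exists_of_model P (wAug w relΛ) M htors (e₂.restrictScalars R)
      (fun p x => e₂.map_smul p x) hAflat
  exact ⟨A, inferInstance, inferInstance, S₀, i1, i2, i3, inferInstance, inferInstance, i4, M₀, i5,
    i6, i7, i8, i9, i10, f, Algebra.FiniteType.trans (S := Λ) inferInstance inferInstance, h1, h2,
    h3, h4, h5⟩

/-- **Noetherian approximation of a flat finitely presented module over a finitely presented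
algebra.** -/
theorem exists_flat_module_model (R : Type u) [CommRing R]
    (S : Type u) [CommRing S] [Algebra R S] [Algebra.FinitePresentation R S]
    (M : Type u) [AddCommGroup M] [Module S M] [Module R M] [IsScalarTower R S M]
    [Module.FinitePresentation S M] [Module.Flat R M] :
    ∃ (R₀ : Type u) (_ : CommRing R₀) (_ : Algebra R₀ R) (S₀ : Type u) (_ : CommRing S₀)
      (_ : Algebra R₀ S₀) (_ : Algebra S₀ S) (_ : Algebra R₀ S) (_ : IsScalarTower R₀ R S)
      (_ : IsScalarTower R₀ S₀ S) (M₀ : Type u) (_ : AddCommGroup M₀) (_ : Module S₀ M₀)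
      (_ : Module R₀ M₀) (_ : IsScalarTower R₀ S₀ M₀) (_ : Module S₀ M) (_ : IsScalarTower S₀ S M)
      (f : M₀ →ₗ[S₀] M),
      Algebra.FiniteType ℤ R₀ ∧ Algebra.FiniteType R₀ S₀ ∧ Module.Finite S₀ M₀ ∧ Module.Flat R₀ M₀ ∧
        Algebra.IsPushout R₀ R S₀ S ∧ IsBaseChange S f :=
  exists_flat_module_model_aux R S (Algebra.Presentation.ofFinitePresentation R S) M

end Main

end Groth.Agent.Lib.Helper3.FlatModelMod
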