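import Mathlib
import Groth.Agent.Lib.Helper10FlatPC2
import Groth.Agent.Lib.Helper3FlatModelMod
import Groth.Agent.Lib.Helper5PCHom

/-!
# Finitely presented modules over a flat f.p. algebra which are flat over the base are
pseudo-coherent (helper10)
-/

set_option autoImplicit false
universe u
open CategoryTheory CategoryTheory.Limits TensorProduct MvPolynomial
attribute [local instance] HasDerivedCategory.standard

namespace Groth.Agent.Lib.Helper10.FlatPC

open Groth.Agent.Lib.Helper5.PCHom

attribute [local instance] MvPolynomial.algebraMvPolynomial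

/-- Let `R → S` be flat of finite presentation and `M` a finitely presented `S`-module which is
flat over `R`. Then `M` is a pseudo-coherent `S`-module. -/
theorem isPC'_of_fp_of_flat (R S : Type u) [CommRing R] [CommRing S] [Algebra R S]
    [Module.Flat R S] [Algebra.FinitePresentation R S]
    (M : Type u) [AddCommGroup M] [Module S M] [Module R M] [IsScalarTower R S M]
    [Module.FinitePresentation S M] [Module.Flat R M] :
    DRing.IsPseudoCoherentModule' S M := by
  obtain ⟨R₀, _, _, S₀, _, _, _, _, _, _, M₀, _, _, _, _, _, _, f, hftR₀, hftS₀, hfinM₀, hflatM₀,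
    hPO, hbc⟩ := Groth.Agent.Lib.Helper3.FlatModelMod.exists_flat_module_model R S M
  haveI : IsNoetherianRing R₀ := Algebra.FiniteType.isNoetherianRing ℤ R₀
  obtain ⟨n, α, hα⟩ := Algebra.FiniteType.iff_quotient_mvPolynomial''.mp hftS₀
  let P₀ := MvPolynomial (Fin n) R₀
  let P := MvPolynomial (Fin n) R
  let α' : P →ₐ[R] S := MvPolynomial.aeval (fun i => algebraMap S₀ S (α (X i)))
  letI algP₀S₀ : Algebra P₀ S₀ := α.toRingHom.toAlgebra
  letI algPS : Algebra P S := α'.toRingHom.toAlgebra
  letI algP₀S : Algebra P₀ S := ((algebraMap S₀ S).comp α.toRingHom).toAlgebra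
  haveI t0 : IsScalarTower R₀ P₀ S₀ := IsScalarTower.of_algebraMap_eq (fun a => (α.commutes a).symm)
  haveI t1 : IsScalarTower P₀ S₀ S := IsScalarTower.of_algebraMap_eq (fun _ => rfl)
  have hcomp : ∀ p : P₀, algebraMap S₀ S (α p) = α' (MvPolynomial.map (algebraMap R₀ R) p) := by
    intro p
    induction p using MvPolynomial.induction_on with
    | C a =>
      rw [MvPolynomial.map_C, ← MvPolynomial.algebraMap_eq, ← MvPolynomial.algebraMap_eq,
        α.commutes, α'.commutes, ← IsScalarTower.algebraMap_apply,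
        ← IsScalarTower.algebraMap_apply]
    | add p q hp hq => rw [map_add, map_add, map_add, map_add, hp, hq]
    | mul_X p i hp =>
      rw [map_mul, map_mul, map_mul, map_mul, hp, MvPolynomial.map_X, MvPolynomial.aeval_X]
  haveI t2 : IsScalarTower P₀ P S := IsScalarTower.of_algebraMap_eq (fun p => hcomp p)
  haveI t3 : IsScalarTower R₀ P S := IsScalarTower.of_algebraMap_eq (fun a => by
    show algebraMap R₀ S a = α' (algebraMap R₀ P a)
    rw [IsScalarTower.algebraMap_apply R₀ R P, α'.commutes, ← IsScalarTower.algebraMap_apply])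
  haveI t4 : IsScalarTower R P S :=
    IsScalarTower.of_algebraMap_eq (fun a => (α'.commutes a).symm)
  haveI hPO0 : Algebra.IsPushout R₀ S₀ R S := hPO.symm
  have hPO1 : Algebra.IsPushout P₀ S₀ P S :=
    (Algebra.IsPushout.comp_iff R₀ P₀ R P).1 inferInstance
  haveI hPO2 : Algebra.IsPushout P₀ P S₀ S := hPO1.symm
  have hsurj : Function.Surjective α' := by
    have hbcA : IsBaseChange R (IsScalarTower.toAlgHom R₀ S₀ S).toLinearMap := hPO.out
    intro b'
    refine hbcA.inductionOn b' (fun y => ∃ p, α' p = y) ⟨0, map_zero _⟩ ?_ ?_ ?_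
    · intro b
      obtain ⟨p, rfl⟩ := hα b
      exact ⟨MvPolynomial.map (algebraMap R₀ R) p, (hcomp p).symm⟩
    · rintro a' y ⟨p, rfl⟩
      refine ⟨MvPolynomial.C a' * p, ?_⟩
      rw [map_mul, Algebra.smul_def, ← MvPolynomial.algebraMap_eq, α'.commutes]
    · rintro y z ⟨p, rfl⟩ ⟨q, rfl⟩
      exact ⟨p + q, map_add _ _ _⟩
  -- module structures over the polynomial rings
  letI modP₀M₀ : Module P₀ M₀ := Module.compHom M₀ (algebraMap P₀ S₀)
  haveI t5 : IsScalarTower P₀ S₀ M₀ := ⟨fun p s m => by
    change (algebraMap P₀ S₀ p * s) • m = algebraMap P₀ S₀ p • (s • m)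
    rw [mul_smul]⟩
  haveI t6 : IsScalarTower R₀ P₀ M₀ := ⟨fun a p m => by
    change algebraMap P₀ S₀ (a • p) • m = a • (algebraMap P₀ S₀ p • m)
    rw [Algebra.smul_def, map_mul, ← IsScalarTower.algebraMap_apply, mul_smul,
      algebraMap_smul]⟩
  letI modPM : Module P M := Module.compHom M (algebraMap P S)
  haveI t7 : IsScalarTower P S M := ⟨fun p s m => by
    change (algebraMap P S p * s) • m = algebraMap P S p • (s • m)
    rw [mul_smul]⟩
  haveI : Module.Finite P₀ S₀ := Module.Finite.of_surjective (Algebra.linearMap P₀ S₀) hα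
  haveI : Module.Finite P₀ M₀ := Module.Finite.trans S₀ M₀
  haveI : Module.Flat R₀ P₀ := inferInstance
  haveI hPOA : Algebra.IsPushout R₀ R P₀ P :=
    (inferInstance : Algebra.IsPushout R₀ P₀ R P).symm
  have h1 : DRing.IsPseudoCoherentModule' P (TensorProduct P₀ P M₀) :=
    isPC'_tensor R₀ R P₀ P M₀
  -- identify `P ⊗[P₀] M₀` with `M`
  let e1 : TensorProduct S₀ S M₀ ≃ₗ[S] M := hbc.equiv
  let e2 : TensorProduct S₀ S M₀ ≃ₗ[P] TensorProduct P₀ P M₀ :=
    Algebra.IsPushout.cancelBaseChange P₀ P S₀ S M₀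
  let e : TensorProduct P₀ P M₀ ≃ₗ[P] M := e2.symm ≪≫ₗ (e1.restrictScalars P)
  have h2 : DRing.IsPseudoCoherentModule' P M :=
    Groth.Agent.Lib.Helper5.PCBC.isPC'_of_linearEquiv e h1
  have hS : PCMod α'.toRingHom :=
    pcMod_of_isPseudoCoherentHom (isPseudoCoherentHom_of_flat R S) α' hsurj
  exact (isPC'_iff_of_tower hS M).2 h2

end Groth.Agent.Lib.Helper10.FlatPC
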