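import Mathlib

/-!
# Colimits can be checked locally for a subcanonical precoverage (helper10)

`isColimit_of_cover`: for a precoverage `K` (stable under base change) whose Grothendieck topology
is subcanonical, a cocone `c` is a colimit as soon as its base changes to the members `X a` of a
`K`-cover of `c.pt` and to the pairwise fibre products are colimits.
-/

open CategoryTheory Limits Opposite

universe w v u

namespace Groth.Agent.Lib.Helper10.FpqcColim

variable {C : Type u} [Category.{v} C] [HasPullbacks C]

omit [HasPullbacks C] in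
/-- Representables satisfy the sheaf condition for covering families of a precoverage whose
topology is subcanonical. -/
theorem yoneda_sheafFor (K : Precoverage C) [K.HasPullbacks] [K.IsStableUnderBaseChange]
    [K.toGrothendieck.Subcanonical] (T : C) {B : C} {I : Type w} (X : I → C) (π : ∀ i, X i ⟶ B)
    (h : Presieve.ofArrows X π ∈ K B) :
    (Presieve.ofArrows X π).IsSheafFor (yoneda.obj T) := by
  have hs : Presieve.IsSheaf K.toGrothendieck (yoneda.obj T) :=
    GrothendieckTopology.Subcanonical.isSheaf_of_isRepresentable _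
  rw [Precoverage.isSheaf_toGrothendieck_iff_of_isStableUnderBaseChange] at hs
  exact hs _ h

/-- Gluing of morphisms along a cover. -/
theorem exists_glue (K : Precoverage C) [K.HasPullbacks] [K.IsStableUnderBaseChange]
    [K.toGrothendieck.Subcanonical] (T : C) {B : C} {I : Type w} (X : I → C) (π : ∀ i, X i ⟶ B)
    (h : Presieve.ofArrows X π ∈ K B) (x : ∀ i, X i ⟶ T)
    (hx : ∀ i j, pullback.fst (π i) (π j) ≫ x i = pullback.snd (π i) (π j) ≫ x j) :
    ∃ t : B ⟶ T, ∀ i, π i ≫ t = x i := by
  have hs := yoneda_sheafFor K T X π h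
  rw [Presieve.isSheafFor_arrows_iff_pullbacks] at hs
  obtain ⟨t, ht, -⟩ := hs x (fun i j => by simpa using hx i j)
  exact ⟨t, fun i => by simpa using ht i⟩

omit [HasPullbacks C] in
/-- Separatedness of representables along a cover. -/
theorem hom_ext_of_cover (K : Precoverage C) [K.HasPullbacks] [K.IsStableUnderBaseChange]
    [K.toGrothendieck.Subcanonical] {T B : C} {I : Type w} (X : I → C) (π : ∀ i, X i ⟶ B)
    (h : Presieve.ofArrows X π ∈ K B) (t₁ t₂ : B ⟶ T) (ht : ∀ i, π i ≫ t₁ = π i ≫ t₂) :
    t₁ = t₂ := by
  have hs := yoneda_sheafFor K T X π h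
  rw [Presieve.isSheafFor_arrows_iff] at hs
  obtain ⟨t, -, hu⟩ := hs (fun i => π i ≫ t₂) (fun i j Z gi gj hg => by
    change gi ≫ π i ≫ t₂ = gj ≫ π j ≫ t₂
    rw [← Category.assoc, ← Category.assoc, hg])
  rw [hu t₁ (fun i => by simpa using ht i), hu t₂ (fun i => by simp)]

section main

variable {J : Type*} [Category J] (D : J ⥤ C) (c : Cocone D)

/-- The base-changed diagram. -/
noncomputable abbrev bc {Y : C} (g : Y ⟶ c.pt) : J ⥤ Over Y :=
  D.toOver c.pt (fun j => c.ι.app j) (fun g => c.w g) ⋙ Over.pullback g

/-- The cocone on the base-changed diagram with point `Y`. -/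
noncomputable abbrev bcCocone {Y : C} (g : Y ⟶ c.pt) : Cocone (bc D c g ⋙ Over.forget Y) :=
  (Over.forgetCocone Y).whisker (bc D c g)

set_option backward.isDefEq.respectTransparency false in
lemma pullback_map_left_fst {X Y : C} (g : X ⟶ Y) {A B : Over Y} (k : A ⟶ B) :
    ((Over.pullback g).map k).left ≫ pullback.fst B.hom g = pullback.fst A.hom g ≫ k.left := by
  simp

set_option backward.isDefEq.respectTransparency false in
/-- A cocone `s` on `D` induces a cocone on each base-changed diagram. -/
noncomputable def pullCocone (s : Cocone D) {Y : C} (g : Y ⟶ c.pt) :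
    Cocone (bc D c g ⋙ Over.forget Y) where
  pt := s.pt
  ι :=
    { app := fun j => pullback.fst (c.ι.app j) g ≫ s.ι.app j
      naturality := fun j j' u => by
        have := pullback_map_left_fst g
          ((D.toOver c.pt (fun j => c.ι.app j) (fun g => c.w g)).map u)
        simp only [Functor.comp_map, Over.forget_map, Functor.const_obj_obj, Functor.const_obj_map,
          Category.comp_id]
        rw [← Category.assoc]
        erw [this]
        simp
        rfl }

set_option backward.isDefEq.respectTransparency false in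
theorem colim_desc {Y : C} (g : Y ⟶ c.pt) (h : IsColimit (bcCocone D c g)) (s : Cocone D) :
    ∃ m : Y ⟶ s.pt, ∀ j, pullback.snd (c.ι.app j) g ≫ m = pullback.fst (c.ι.app j) g ≫ s.ι.app j :=
  ⟨h.desc (pullCocone D c s g), fun j => h.fac (pullCocone D c s g) j⟩

set_option backward.isDefEq.respectTransparency false in
theorem colim_hom_ext {Y : C} (g : Y ⟶ c.pt) (h : IsColimit (bcCocone D c g)) {T : C}
    (m m' : Y ⟶ T)
    (hm : ∀ j, pullback.snd (c.ι.app j) g ≫ m = pullback.snd (c.ι.app j) g ≫ m') : m = m' :=
  h.hom_ext (fun j => hm j)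

theorem isColimit_of_cover (K : Precoverage C) [K.HasPullbacks] [K.IsStableUnderBaseChange]
    [K.toGrothendieck.Subcanonical] {I₀ : Type w} (X : I₀ → C) (f : ∀ a, X a ⟶ c.pt)
    (hF : Presieve.ofArrows X f ∈ K c.pt)
    (h1 : ∀ a, Nonempty (IsColimit (bcCocone D c (f a))))
    (h2 : ∀ a b, Nonempty (IsColimit (bcCocone D c (pullback.fst (f a) (f b) ≫ f a)))) :
    Nonempty (IsColimit c) := by
  have key : ∀ s : Cocone D, ∃ m : c.pt ⟶ s.pt, (∀ j, c.ι.app j ≫ m = s.ι.app j) ∧
      ∀ m', (∀ j, c.ι.app j ≫ m' = s.ι.app j) → m' = m := by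
    intro s
    choose ma hma using fun a => colim_desc D c (f a) (h1 a).some s
    have hcompat : ∀ a b, pullback.fst (f a) (f b) ≫ ma a = pullback.snd (f a) (f b) ≫ ma b := by
      intro a b
      refine colim_hom_ext D c _ (h2 a b).some _ _ (fun j => ?_)
      have hc1 : pullback.fst (c.ι.app j) (pullback.fst (f a) (f b) ≫ f a) ≫ c.ι.app j =
          (pullback.snd (c.ι.app j) (pullback.fst (f a) (f b) ≫ f a) ≫
            pullback.fst (f a) (f b)) ≫ f a := by
        rw [Category.assoc]; exact pullback.condition
      have hc2 : pullback.fst (c.ι.app j) (pullback.fst (f a) (f b) ≫ f a) ≫ c.ι.app j =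
          (pullback.snd (c.ι.app j) (pullback.fst (f a) (f b) ≫ f a) ≫
            pullback.snd (f a) (f b)) ≫ f b := by
        rw [Category.assoc, ← pullback.condition (f := f a) (g := f b)]
        exact pullback.condition
      have e1 : pullback.snd (c.ι.app j) (pullback.fst (f a) (f b) ≫ f a) ≫
          pullback.fst (f a) (f b) =
          pullback.lift (pullback.fst (c.ι.app j) (pullback.fst (f a) (f b) ≫ f a))
            (pullback.snd (c.ι.app j) (pullback.fst (f a) (f b) ≫ f a) ≫
              pullback.fst (f a) (f b)) hc1 ≫ pullback.snd (c.ι.app j) (f a) := by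
        rw [pullback.lift_snd]
      have e2 : pullback.snd (c.ι.app j) (pullback.fst (f a) (f b) ≫ f a) ≫
          pullback.snd (f a) (f b) =
          pullback.lift (pullback.fst (c.ι.app j) (pullback.fst (f a) (f b) ≫ f a))
            (pullback.snd (c.ι.app j) (pullback.fst (f a) (f b) ≫ f a) ≫
              pullback.snd (f a) (f b)) hc2 ≫ pullback.snd (c.ι.app j) (f b) := by
        rw [pullback.lift_snd]
      rw [← Category.assoc, e1, Category.assoc, hma, ← Category.assoc, pullback.lift_fst,
        ← Category.assoc, e2, Category.assoc, hma, ← Category.assoc, pullback.lift_fst]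
    obtain ⟨m, hm⟩ := exists_glue K s.pt X f hF ma hcompat
    refine ⟨m, fun j => ?_, fun m' hm' => ?_⟩
    · have hcov : Presieve.ofArrows (fun a => pullback (c.ι.app j) (f a))
          (fun a => pullback.fst (c.ι.app j) (f a)) ∈ K (D.obj j) :=
        Precoverage.mem_coverings_of_isPullback f hF (c.ι.app j) _
          (fun a => pullback.snd (c.ι.app j) (f a)) (fun a => IsPullback.of_hasPullback _ _)
      refine hom_ext_of_cover K _ _ hcov _ _ (fun a => ?_)
      rw [← Category.assoc, pullback.condition, Category.assoc, hm, hma]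
    · refine hom_ext_of_cover K X f hF _ _ (fun a => ?_)
      rw [hm]
      refine colim_hom_ext D c (f a) (h1 a).some _ _ (fun j => ?_)
      rw [hma, ← Category.assoc, ← pullback.condition, Category.assoc, hm']
  choose desc hfac huniq using key
  exact ⟨{ desc := desc, fac := fun s j => hfac s j, uniq := fun s m hm => huniq s m hm }⟩

end main

end Groth.Agent.Lib.Helper10.FpqcColim
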