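import Mathlib

/-!
# Helper10FpqcSections: descent of sections of the structure sheaf along fpqc morphisms

Pure Mathlib.  For `f : X ⟶ Y` flat, surjective and quasi-compact (more generally an effective
epimorphism of schemes), global sections of `O_Y` are the global sections of `O_X` with equal
pullbacks to `X ×_Y X`; the same over an open `U ⊆ Y`.
-/

universe u

open CategoryTheory Limits AlgebraicGeometry

namespace Groth.Agent.Lib.Helper10.FpqcSections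

/-- The affine line over `ℤ` (in universe `u`). -/
noncomputable abbrev A1 : Scheme.{u} :=
  Spec (CommRingCat.of (MvPolynomial PUnit.{u + 1} (ULift.{u} ℤ)))

/-- The morphism to the affine line given by a global section. -/
noncomputable def toA1 {X : Scheme.{u}} (s : Γ(X, ⊤)) : X ⟶ A1.{u} :=
  (AffineSpace.toSpecMvPolyIntEquiv PUnit.{u + 1}).symm (fun _ => s)

lemma toA1_comp {X Y : Scheme.{u}} (f : X ⟶ Y) (t : Γ(Y, ⊤)) :
    f ≫ toA1 t = toA1 (f.appTop t) := by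
  apply (AffineSpace.toSpecMvPolyIntEquiv PUnit.{u + 1}).injective
  ext i
  rw [AffineSpace.toSpecMvPolyIntEquiv_comp]
  simp [toA1]

lemma toA1_injective {X : Scheme.{u}} : Function.Injective (toA1 (X := X)) := by
  intro s t h
  have := congrArg (fun m => AffineSpace.toSpecMvPolyIntEquiv PUnit.{u + 1} m PUnit.unit) h
  simpa [toA1] using this

lemma toA1_surjective {X : Scheme.{u}} (d : X ⟶ A1.{u}) : ∃ t : Γ(X, ⊤), toA1 t = d := by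
  refine ⟨AffineSpace.toSpecMvPolyIntEquiv PUnit.{u + 1} d PUnit.unit, ?_⟩
  apply (AffineSpace.toSpecMvPolyIntEquiv PUnit.{u + 1}).injective
  ext i
  simp [toA1]

section global

variable {X Y : Scheme.{u}} (f : X ⟶ Y)

lemma appTop_injective_of_epi [Epi f] : Function.Injective f.appTop := by
  intro s t h
  apply toA1_injective
  rw [← cancel_epi f, toA1_comp, toA1_comp, h]

lemma exists_appTop_eq [EffectiveEpi f] (s : Γ(X, ⊤))
    (hs : (pullback.fst f f).appTop s = (pullback.snd f f).appTop s) :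
    ∃ t : Γ(Y, ⊤), f.appTop t = s := by
  have hcoeq : ∀ {Z : Scheme.{u}} (g₁ g₂ : Z ⟶ X), g₁ ≫ f = g₂ ≫ f →
      g₁ ≫ toA1 s = g₂ ≫ toA1 s := by
    intro Z g₁ g₂ h
    rw [toA1_comp, toA1_comp]
    have e1 : g₁ = pullback.lift g₁ g₂ h ≫ pullback.fst f f := (pullback.lift_fst _ _ _).symm
    have e2 : g₂ = pullback.lift g₁ g₂ h ≫ pullback.snd f f := (pullback.lift_snd _ _ _).symm
    have h1 : g₁.appTop s = (pullback.lift g₁ g₂ h).appTop ((pullback.fst f f).appTop s) := by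
      conv_lhs => rw [e1]
      rw [Scheme.Hom.comp_appTop]; rfl
    have h2 : g₂.appTop s = (pullback.lift g₁ g₂ h).appTop ((pullback.snd f f).appTop s) := by
      conv_lhs => rw [e2]
      rw [Scheme.Hom.comp_appTop]; rfl
    rw [h1, h2, hs]
  obtain ⟨t, ht⟩ := toA1_surjective (EffectiveEpi.desc f (toA1 s) hcoeq)
  refine ⟨t, toA1_injective ?_⟩
  rw [← toA1_comp, ht, EffectiveEpi.fac]

end global

section opens

variable {X Y : Scheme.{u}} (f : X ⟶ Y)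

lemma appLE_congr_hom {X Z : Scheme.{u}} {f g : X ⟶ Z} (hfg : f = g) (U : Z.Opens) (V : X.Opens)
    (e : V ≤ f ⁻¹ᵁ U) (e' : V ≤ g ⁻¹ᵁ U) : f.appLE U V e = g.appLE U V e' := by
  subst hfg; rfl

lemma appLE_top_top_eq {X Y : Scheme.{u}} (f : X ⟶ Y) (e : (⊤ : X.Opens) ≤ f ⁻¹ᵁ ⊤) :
    f.appLE ⊤ ⊤ e = f.appTop :=
  Scheme.Hom.appLE_eq_app (f := f) (U := ⊤)

lemma ι_appLE_bijective (U : X.Opens) (e : (⊤ : U.toScheme.Opens) ≤ U.ι ⁻¹ᵁ U) :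
    Function.Bijective (U.ι.appLE U ⊤ e) := by
  have : U.ι.appLE U ⊤ e = U.topIso.inv := by
    rw [Scheme.Opens.ι_appLE]
    rfl
  rw [this]
  exact ConcreteCategory.bijective_of_isIso _

/-- Compatibility of restriction to an open with sections. -/
lemma restrict_appLE (U : Y.Opens) (e : (⊤ : U.toScheme.Opens) ≤ U.ι ⁻¹ᵁ U)
    (e' : (⊤ : (f ⁻¹ᵁ U).toScheme.Opens) ≤ (f ⁻¹ᵁ U).ι ⁻¹ᵁ (f ⁻¹ᵁ U)) (t : Γ(Y, U)) :
    (f ∣_ U).appTop (U.ι.appLE U ⊤ e t) = (f ⁻¹ᵁ U).ι.appLE (f ⁻¹ᵁ U) ⊤ e' (f.app U t) := by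
  have e₀ : (⊤ : (f ⁻¹ᵁ U).toScheme.Opens) ≤ (f ∣_ U) ⁻¹ᵁ ⊤ := fun _ _ => trivial
  have key : U.ι.appLE U ⊤ e ≫ (f ∣_ U).appTop =
      f.app U ≫ (f ⁻¹ᵁ U).ι.appLE (f ⁻¹ᵁ U) ⊤ e' := by
    rw [← appLE_top_top_eq (f ∣_ U) e₀, Scheme.Hom.app_eq_appLE (f := f),
      Scheme.Hom.appLE_comp_appLE, Scheme.Hom.appLE_comp_appLE]
    exact appLE_congr_hom (morphismRestrict_ι f U) ..
  exact congrArg (fun m : Γ(Y, U) ⟶ _ => m t) key

variable [Flat f] [Surjective f] [QuasiCompact f]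

/-- Sections of `O_Y` inject into sections of `O_X` along an fpqc morphism. -/
theorem app_injective (U : Y.Opens) : Function.Injective (f.app U) := by
  haveI : Flat (f ∣_ U) := MorphismProperty.of_isPullback (isPullback_morphismRestrict f U).flip ‹_›
  haveI : Surjective (f ∣_ U) :=
    MorphismProperty.of_isPullback (isPullback_morphismRestrict f U).flip ‹_›
  haveI : QuasiCompact (f ∣_ U) :=
    MorphismProperty.of_isPullback (isPullback_morphismRestrict f U).flip ‹_›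
  intro t₁ t₂ h
  have e : (⊤ : U.toScheme.Opens) ≤ U.ι ⁻¹ᵁ U := by simp
  have e' : (⊤ : (f ⁻¹ᵁ U).toScheme.Opens) ≤ (f ⁻¹ᵁ U).ι ⁻¹ᵁ (f ⁻¹ᵁ U) := by simp
  apply (ι_appLE_bijective U e).1
  apply appTop_injective_of_epi (f ∣_ U)
  rw [restrict_appLE f U e e', restrict_appLE f U e e', h]

set_option backward.isDefEq.respectTransparency false in
/-- Descent of sections of the structure sheaf along an fpqc morphism. -/
theorem exists_app_eq (U : Y.Opens) (s : Γ(X, f ⁻¹ᵁ U)) (W : (pullback f f).Opens)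
    (h1 : W ≤ pullback.fst f f ⁻¹ᵁ f ⁻¹ᵁ U) (h2 : W ≤ pullback.snd f f ⁻¹ᵁ f ⁻¹ᵁ U)
    (hW : pullback.fst f f ⁻¹ᵁ f ⁻¹ᵁ U ≤ W)
    (hs : (pullback.fst f f).appLE (f ⁻¹ᵁ U) W h1 s = (pullback.snd f f).appLE (f ⁻¹ᵁ U) W h2 s) :
    ∃ t : Γ(Y, U), f.app U t = s := by
  haveI : Flat (f ∣_ U) := MorphismProperty.of_isPullback (isPullback_morphismRestrict f U).flip ‹_›
  haveI : Surjective (f ∣_ U) :=
    MorphismProperty.of_isPullback (isPullback_morphismRestrict f U).flip ‹_›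
  haveI : QuasiCompact (f ∣_ U) :=
    MorphismProperty.of_isPullback (isPullback_morphismRestrict f U).flip ‹_›
  have e : (⊤ : U.toScheme.Opens) ≤ U.ι ⁻¹ᵁ U := by simp
  have e' : (⊤ : (f ⁻¹ᵁ U).toScheme.Opens) ≤ (f ⁻¹ᵁ U).ι ⁻¹ᵁ (f ⁻¹ᵁ U) := by simp
  let k : pullback (f ∣_ U) (f ∣_ U) ⟶ pullback f f :=
    pullback.map (f ∣_ U) (f ∣_ U) f f (f ⁻¹ᵁ U).ι (f ⁻¹ᵁ U).ι U.ι (morphismRestrict_ι f U)
      (morphismRestrict_ι f U)
  have hk1 : k ≫ pullback.fst f f = pullback.fst (f ∣_ U) (f ∣_ U) ≫ (f ⁻¹ᵁ U).ι := pullback.lift_fst _ _ _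
  have hk2 : k ≫ pullback.snd f f = pullback.snd (f ∣_ U) (f ∣_ U) ≫ (f ⁻¹ᵁ U).ι := pullback.lift_snd _ _ _
  have hkW : (⊤ : (pullback (f ∣_ U) (f ∣_ U)).Opens) ≤ k ⁻¹ᵁ W := by
    intro x _
    apply hW
    change (k ≫ pullback.fst f f) x ∈ f ⁻¹ᵁ U
    rw [hk1]
    exact ((pullback.fst (f ∣_ U) (f ∣_ U)) x).2
  have e₁ : (⊤ : (pullback (f ∣_ U) (f ∣_ U)).Opens) ≤ pullback.fst (f ∣_ U) (f ∣_ U) ⁻¹ᵁ ⊤ :=
    fun _ _ => trivial
  have e₂ : (⊤ : (pullback (f ∣_ U) (f ∣_ U)).Opens) ≤ pullback.snd (f ∣_ U) (f ∣_ U) ⁻¹ᵁ ⊤ :=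
    fun _ _ => trivial
  have key1 : (f ⁻¹ᵁ U).ι.appLE (f ⁻¹ᵁ U) ⊤ e' ≫ (pullback.fst (f ∣_ U) (f ∣_ U)).appTop =
      (pullback.fst f f).appLE (f ⁻¹ᵁ U) W h1 ≫ k.appLE W ⊤ hkW := by
    rw [← appLE_top_top_eq _ e₁, Scheme.Hom.appLE_comp_appLE, Scheme.Hom.appLE_comp_appLE]
    exact appLE_congr_hom hk1.symm ..
  have key2 : (f ⁻¹ᵁ U).ι.appLE (f ⁻¹ᵁ U) ⊤ e' ≫ (pullback.snd (f ∣_ U) (f ∣_ U)).appTop =
      (pullback.snd f f).appLE (f ⁻¹ᵁ U) W h2 ≫ k.appLE W ⊤ hkW := by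
    rw [← appLE_top_top_eq _ e₂, Scheme.Hom.appLE_comp_appLE, Scheme.Hom.appLE_comp_appLE]
    exact appLE_congr_hom hk2.symm ..
  have hs' : (pullback.fst (f ∣_ U) (f ∣_ U)).appTop ((f ⁻¹ᵁ U).ι.appLE (f ⁻¹ᵁ U) ⊤ e' s) =
      (pullback.snd (f ∣_ U) (f ∣_ U)).appTop ((f ⁻¹ᵁ U).ι.appLE (f ⁻¹ᵁ U) ⊤ e' s) := by
    have a1 := congrArg (fun m : Γ(X, f ⁻¹ᵁ U) ⟶ _ => m s) key1
    have a2 := congrArg (fun m : Γ(X, f ⁻¹ᵁ U) ⟶ _ => m s) key2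
    simp only [CommRingCat.comp_apply] at a1 a2
    rw [a1, a2, hs]
  obtain ⟨t', ht'⟩ := exists_appTop_eq (f ∣_ U) ((f ⁻¹ᵁ U).ι.appLE (f ⁻¹ᵁ U) ⊤ e' s) hs'
  obtain ⟨t, rfl⟩ := (ι_appLE_bijective U e).2 t'
  refine ⟨t, (ι_appLE_bijective (f ⁻¹ᵁ U) e').1 ?_⟩
  rw [← restrict_appLE f U e e', ht']

end opens

end Groth.Agent.Lib.Helper10.FpqcSections
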