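import Mathlib

/-!
# Helper10GeomQuot: descending morphisms along a surjective morphism with injective comorphism

* `epi_of_surjective_of_app_injective`: a surjective morphism of schemes all of whose section
  maps are injective is an epimorphism.
* `epi_pullback_snd`: so is every base change of it along an open immersion.
* `exists_desc_of_cover`: the local-to-global construction of a factorisation.
-/

universe u

open CategoryTheory CategoryTheory.Limits AlgebraicGeometry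

namespace Groth.Agent.Lib.Helper10.GeomQuot

variable {X Y Z : Scheme.{u}}

lemma appLE_congr_hom {X Z : Scheme.{u}} {f g : X ⟶ Z} (hfg : f = g) (U : Z.Opens) (V : X.Opens)
    (e : V ≤ f ⁻¹ᵁ U) (e' : V ≤ g ⁻¹ᵁ U) : f.appLE U V e = g.appLE U V e' := by
  subst hfg; rfl

lemma epi_of_surjective_of_app_injective (φ : X ⟶ Y) (hs : Function.Surjective φ.base)
    (hinj : ∀ U : Y.Opens, Function.Injective (φ.app U)) : Epi φ := by
  constructor
  intro Z α β h
  have hb : α.base = β.base := by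
    ext y
    obtain ⟨x, rfl⟩ := hs y
    have := congrArg (fun f : X ⟶ Z => f.base x) h
    simpa using this
  refine Scheme.Hom.ext hb (fun U => ?_)
  have : Mono (φ.app (β ⁻¹ᵁ U)) := ConcreteCategory.mono_of_injective _ (hinj _)
  rw [← cancel_mono (φ.app (β ⁻¹ᵁ U))]
  have hle : β ⁻¹ᵁ U ≤ α ⁻¹ᵁ U := by
    intro y hy
    change α.base y ∈ U
    rw [hb]; exact hy
  calc (α.app U ≫ Y.presheaf.map (eqToHom _).op) ≫ φ.app (β ⁻¹ᵁ U)
      = α.appLE U (β ⁻¹ᵁ U) hle ≫ φ.appLE (β ⁻¹ᵁ U) (φ ⁻¹ᵁ β ⁻¹ᵁ U) le_rfl := by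
        rw [Scheme.Hom.appLE_eq_app]; rfl
    _ = (φ ≫ α).appLE U (φ ⁻¹ᵁ β ⁻¹ᵁ U) _ := Scheme.Hom.appLE_comp_appLE ..
    _ = (φ ≫ β).appLE U (φ ⁻¹ᵁ β ⁻¹ᵁ U) le_rfl := appLE_congr_hom h ..
    _ = β.appLE U (β ⁻¹ᵁ U) le_rfl ≫ φ.appLE (β ⁻¹ᵁ U) (φ ⁻¹ᵁ β ⁻¹ᵁ U) le_rfl :=
        (Scheme.Hom.appLE_comp_appLE ..).symm
    _ = β.app U ≫ φ.app (β ⁻¹ᵁ U) := by rw [Scheme.Hom.appLE_eq_app, Scheme.Hom.appLE_eq_app]

lemma app_injective_pullback_snd (φ : X ⟶ Y)
    (hinj : ∀ U : Y.Opens, Function.Injective (φ.app U))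
    {T : Scheme.{u}} (j : T ⟶ Y) [IsOpenImmersion j] (U' : T.Opens) :
    Function.Injective ((pullback.snd φ j).app U') := by
  have H : IsPullback (pullback.snd φ j) (pullback.fst φ j) j φ :=
    (IsPullback.of_hasPullback φ j).flip
  have himg : pullback.fst φ j ''ᵁ pullback.snd φ j ⁻¹ᵁ U' = φ ⁻¹ᵁ j ''ᵁ U' :=
    IsOpenImmersion.image_preimage_eq_preimage_image_of_isPullback H U'
  have key : (j.appIso U').hom ≫ (pullback.snd φ j).app U' =
      φ.app (j ''ᵁ U') ≫ X.presheaf.map (eqToHom himg).op ≫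
        ((pullback.fst φ j).appIso (pullback.snd φ j ⁻¹ᵁ U')).hom := by
    rw [Scheme.Hom.appIso_hom', Scheme.Hom.appIso_hom', ← Scheme.Hom.appLE_eq_app,
      ← Scheme.Hom.appLE_eq_app, Scheme.Hom.appLE_comp_appLE, Scheme.Hom.appLE_map_assoc,
      Scheme.Hom.appLE_comp_appLE]
    exact appLE_congr_hom pullback.condition.symm ..
  have h1 : Function.Injective ((j.appIso U').hom ≫ (pullback.snd φ j).app U') := by
    rw [key]
    simp only [CommRingCat.hom_comp, RingHom.coe_comp]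
    refine Function.Injective.comp ?_ (hinj _)
    refine Function.Injective.comp ?_ ?_
    · exact ((ConcreteCategory.bijective_of_isIso _)).1
    · exact ((ConcreteCategory.bijective_of_isIso _)).1
  simp only [CommRingCat.hom_comp, RingHom.coe_comp] at h1
  exact (Function.Injective.of_comp_iff' _ (ConcreteCategory.bijective_of_isIso _)).mp h1

lemma epi_pullback_snd (φ : X ⟶ Y) (hs : Function.Surjective φ.base)
    (hinj : ∀ U : Y.Opens, Function.Injective (φ.app U))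
    {T : Scheme.{u}} (j : T ⟶ Y) [IsOpenImmersion j] : Epi (pullback.snd φ j) := by
  have : Surjective φ := ⟨hs⟩
  exact epi_of_surjective_of_app_injective _ (pullback.snd φ j).surjective
    (app_injective_pullback_snd φ hinj j)

lemma rangeRestrict_bijective {B C : Type*} [CommRing B] [CommRing C] (f : B →+* C)
    (hf : Function.Injective f) : Function.Bijective f.rangeRestrict :=
  ⟨fun _ _ h => hf (congrArg Subtype.val h), f.rangeRestrict_surjective⟩

/-- Lift a ring map through an injective ring map containing its image. -/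
noncomputable def liftHom {A B C : CommRingCat.{u}} (f : B ⟶ C) (g : A ⟶ C)
    (hf : Function.Injective f) (hg : ∀ a, g a ∈ Set.range f) : A ⟶ B :=
  CommRingCat.ofHom ((RingEquiv.ofBijective f.hom.rangeRestrict
    (rangeRestrict_bijective f.hom hf)).symm.toRingHom.comp
    (g.hom.codRestrict f.hom.range (fun a => hg a)))

lemma liftHom_comp {A B C : CommRingCat.{u}} (f : B ⟶ C) (g : A ⟶ C)
    (hf : Function.Injective f) (hg : ∀ a, g a ∈ Set.range f) : liftHom f g hf hg ≫ f = g := by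
  ext a
  have h1 : (f.hom.rangeRestrict ((RingEquiv.ofBijective f.hom.rangeRestrict
    (rangeRestrict_bijective f.hom hf)).symm
      (g.hom.codRestrict f.hom.range (fun a => hg a) a))) =
      g.hom.codRestrict f.hom.range (fun a => hg a) a :=
    (RingEquiv.ofBijective f.hom.rangeRestrict _).apply_symm_apply _
  have h2 := congrArg Subtype.val h1
  have h3 : ((g.hom.codRestrict f.hom.range (fun a => hg a) a : f.hom.range) : C) = g.hom a := rfl
  rw [h3] at h2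
  simpa [liftHom] using h2

/-- For any morphism `ψ : X ⟶ Z`, an affine open `V` of `Z` and an open `W ≤ ψ⁻¹V`, the
restriction of `ψ` to `W` is recovered from the ring map `Γ(Z, V) ⟶ Γ(X, W)`. -/
lemma toSpecΓ_appLE_fromSpec (ψ : X ⟶ Z) {V : Z.Opens} (hV : IsAffineOpen V) (W : X.Opens)
    (e : W ≤ ψ ⁻¹ᵁ V) :
    W.toSpecΓ ≫ Spec.map (ψ.appLE V W e) ≫ hV.fromSpec = W.ι ≫ ψ := by
  rw [Scheme.Opens.toSpecΓ_SpecMap_appLE_assoc, IsAffineOpen.toSpecΓ_fromSpec,
    Scheme.Hom.resLE_comp_ι]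

section desc

variable (φ : X ⟶ Y) (ψ : X ⟶ Z) (hinj : ∀ U : Y.Opens, Function.Injective (φ.app U))
  {U : Y.Opens} {V : Z.Opens} (hV : IsAffineOpen V) (hle : φ ⁻¹ᵁ U ≤ ψ ⁻¹ᵁ V)
  (hrange : ∀ h : Γ(Z, V), ψ.appLE V (φ ⁻¹ᵁ U) hle h ∈ Set.range (φ.app U))

/-- The local factorisation. -/
noncomputable def localDesc : U.toScheme ⟶ Z :=
  U.toSpecΓ ≫ Spec.map (liftHom (φ.app U) (ψ.appLE V (φ ⁻¹ᵁ U) hle) (hinj U) hrange) ≫
    hV.fromSpec

lemma morphismRestrict_localDesc :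
    φ ∣_ U ≫ localDesc φ ψ hinj hV hle hrange = (φ ⁻¹ᵁ U).ι ≫ ψ := by
  rw [localDesc, ← Scheme.Opens.toSpecΓ_naturality_assoc, ← Spec.map_comp_assoc, liftHom_comp,
    toSpecΓ_appLE_fromSpec]

lemma pullback_fst_comp :
    pullback.fst φ U.ι ≫ ψ = pullback.snd φ U.ι ≫ localDesc φ ψ hinj hV hle hrange := by
  rw [← pullbackRestrictIsoRestrict_hom_morphismRestrict, Category.assoc,
    morphismRestrict_localDesc, pullbackRestrictIsoRestrict_hom_ι_assoc]

end desc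

set_option backward.isDefEq.respectTransparency false in
theorem exists_desc_of_cover (φ : X ⟶ Y) (ψ : X ⟶ Z) (hs : Function.Surjective φ.base)
    (hinj : ∀ U : Y.Opens, Function.Injective (φ.app U))
    {ι : Type*} (U : ι → Y.Opens) (hU : TopologicalSpace.IsOpenCover U) (V : ι → Z.Opens)
    (hV : ∀ i, IsAffineOpen (V i)) (hle : ∀ i, φ ⁻¹ᵁ U i ≤ ψ ⁻¹ᵁ V i)
    (hrange : ∀ i (h : Γ(Z, V i)),
      ψ.appLE (V i) (φ ⁻¹ᵁ U i) (hle i) h ∈ Set.range (φ.app (U i))) :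
    ∃ χ : Y ⟶ Z, φ ≫ χ = ψ := by
  let 𝒰 := Y.openCoverOfIsOpenCover U hU
  let u : ∀ i, 𝒰.X i ⟶ Z := fun i => localDesc φ ψ hinj (hV i) (hle i) (hrange i)
  have hfac : ∀ i, pullback.fst φ (𝒰.f i) ≫ ψ = pullback.snd φ (𝒰.f i) ≫ u i :=
    fun i => pullback_fst_comp φ ψ hinj (hV i) (hle i) (hrange i)
  refine ⟨𝒰.glueMorphisms u ?_, ?_⟩
  · intro i j
    have : Epi (pullback.snd φ (pullback.fst (𝒰.f i) (𝒰.f j) ≫ 𝒰.f i)) :=
      epi_pullback_snd φ hs hinj _
    rw [← cancel_epi (pullback.snd φ (pullback.fst (𝒰.f i) (𝒰.f j) ≫ 𝒰.f i))]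
    have hi : pullback.snd φ (pullback.fst (𝒰.f i) (𝒰.f j) ≫ 𝒰.f i) ≫
        pullback.fst (𝒰.f i) (𝒰.f j) ≫ u i =
        pullback.fst φ (pullback.fst (𝒰.f i) (𝒰.f j) ≫ 𝒰.f i) ≫ ψ := by
      have e1 : pullback.lift (pullback.fst φ (pullback.fst (𝒰.f i) (𝒰.f j) ≫ 𝒰.f i))
          (pullback.snd φ (pullback.fst (𝒰.f i) (𝒰.f j) ≫ 𝒰.f i) ≫ pullback.fst (𝒰.f i) (𝒰.f j))
          (pullback.condition.trans (Category.assoc _ _ _).symm) ≫ pullback.snd φ (𝒰.f i) =
          pullback.snd φ (pullback.fst (𝒰.f i) (𝒰.f j) ≫ 𝒰.f i) ≫ pullback.fst (𝒰.f i) (𝒰.f j) :=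
        pullback.lift_snd _ _ _
      rw [← Category.assoc, ← e1, Category.assoc, ← hfac i, pullback.lift_fst_assoc]
    have hj : pullback.snd φ (pullback.fst (𝒰.f i) (𝒰.f j) ≫ 𝒰.f i) ≫
        pullback.snd (𝒰.f i) (𝒰.f j) ≫ u j =
        pullback.fst φ (pullback.fst (𝒰.f i) (𝒰.f j) ≫ 𝒰.f i) ≫ ψ := by
      have e1 : pullback.lift (pullback.fst φ (pullback.fst (𝒰.f i) (𝒰.f j) ≫ 𝒰.f i))
          (pullback.snd φ (pullback.fst (𝒰.f i) (𝒰.f j) ≫ 𝒰.f i) ≫ pullback.snd (𝒰.f i) (𝒰.f j))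
          (by
            simp only [Category.assoc]
            rw [← pullback.condition (f := 𝒰.f i) (g := 𝒰.f j)]
            exact pullback.condition) ≫
            pullback.snd φ (𝒰.f j) =
          pullback.snd φ (pullback.fst (𝒰.f i) (𝒰.f j) ≫ 𝒰.f i) ≫ pullback.snd (𝒰.f i) (𝒰.f j) :=
        pullback.lift_snd _ _ _
      rw [← Category.assoc, ← e1, Category.assoc, ← hfac j, pullback.lift_fst_assoc]
    rw [hi, hj]
  · apply Scheme.Cover.hom_ext (𝒰.pullback₁ φ)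
    intro i
    change pullback.fst φ (𝒰.f i) ≫ φ ≫ _ = pullback.fst φ (𝒰.f i) ≫ ψ
    rw [pullback.condition_assoc, Scheme.Cover.ι_glueMorphisms, hfac]

end Groth.Agent.Lib.Helper10.GeomQuot
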