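import Mathlib
import Groth.Prelude.Def_W4bk4git07Quot
import Groth.Agent.Lib.Helper10GeomQuot

/-!
# Helper10GeomQuotGIT: categorical quotients from local factorisations (GIT bookkeeping)
-/

universe u

open CategoryTheory MonoidalCategory CartesianMonoidalCategory MonObj GrpObj AlgebraicGeometry Topology

namespace Groth.Agent.Lib.Helper10.GeomQuotGIT

open GIT Groth.Agent.Lib.Helper10.GeomQuot

variable {S : Scheme.{u}} {G : Over S} [GrpObj G]

/-- The pullback of a function along an invariant morphism is an invariant section. -/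
lemma isInvSection_appLE {X Y Z : Over S} (a : AlgGrp.Action G X) (φ : X ⟶ Y) (ψ : X ⟶ Z)
    (hψ : IsInvariant a ψ) (U : Y.left.Opens) (V : Z.left.Opens)
    (hle : φ.left ⁻¹ᵁ U ≤ ψ.left ⁻¹ᵁ V) (h : Γ(Z.left, V)) :
    IsInvSection a φ U (ψ.left.appLE V (φ.left ⁻¹ᵁ U) hle h) := by
  unfold IsInvSection
  rw [← CommRingCat.comp_apply, ← CommRingCat.comp_apply, Scheme.Hom.appLE_comp_appLE,
    Scheme.Hom.appLE_comp_appLE]
  exact congrArg (fun f : Γ(Z.left, V) ⟶ _ => f h) (appLE_congr_hom hψ.left ..)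

/-- Categorical quotient from surjectivity, the sheaf of invariants, and local factorisations
through affine opens. -/
theorem isCatQuot_of_cover {X Y : Over S} (a : AlgGrp.Action G X) (φ : X ⟶ Y)
    (hinv : IsInvariant a φ) (hs : Function.Surjective φ.left.base)
    (hsec : ∀ U : Y.left.Opens,
      Function.Injective (φ.left.app U) ∧ Set.range (φ.left.app U) = {f | IsInvSection a φ U f})
    (hcov : ∀ (Z : Over S) (ψ : X ⟶ Z), IsInvariant a ψ →
      ∃ (J : Type u) (U : J → Y.left.Opens) (V : J → Z.left.Opens),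
        TopologicalSpace.IsOpenCover U ∧ (∀ i, IsAffineOpen (V i)) ∧
          ∀ i, φ.left ⁻¹ᵁ U i ≤ ψ.left ⁻¹ᵁ V i) :
    IsCatQuot a φ := by
  have hepi : Epi φ.left := epi_of_surjective_of_app_injective _ hs (fun U => (hsec U).1)
  refine ⟨hinv, fun Z ψ hψ => ?_⟩
  obtain ⟨J, U, V, hU, hV, hle⟩ := hcov Z ψ hψ
  obtain ⟨χ₀, hχ₀⟩ := exists_desc_of_cover φ.left ψ.left hs (fun U => (hsec U).1) U hU V hV hle
    (fun i h => by
      rw [(hsec (U i)).2]
      exact isInvSection_appLE a φ ψ hψ (U i) (V i) (hle i) h)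
  have hw : χ₀ ≫ Z.hom = Y.hom := by
    rw [← cancel_epi φ.left, ← Category.assoc, hχ₀, Over.w ψ, Over.w φ]
  refine ⟨Over.homMk χ₀ hw, ?_, ?_⟩
  · ext
    simpa using hχ₀
  · intro χ' hχ'
    ext
    rw [← cancel_epi φ.left]
    have := congrArg CommaMorphism.left hχ'
    simpa [hχ₀] using this

/-- A geometric quotient is a categorical quotient. -/
theorem isCatQuot_of_isGeomQuot {X Y : Over S} (a : AlgGrp.Action G X) (φ : X ⟶ Y)
    (h : IsGeomQuot a φ) : IsCatQuot a φ := by
  refine isCatQuot_of_cover a φ h.inv h.surj h.sections (fun Z ψ hψ => ?_)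
  have hq : IsQuotientMap φ.left.base := MorphismProperty.universally_le _ _ h.subm
  have hsat : ∀ x x' : X.left, φ.left.base x = φ.left.base x' →
      ψ.left.base x = ψ.left.base x' := by
    intro x x' hxx
    obtain ⟨z, hz1, hz2⟩ := Scheme.Pullback.exists_preimage_pullback x x' hxx
    obtain ⟨w, rfl⟩ := h.orbit z
    have e1 : a.act.left.base w = x := by
      rw [← hz1, ← Scheme.Hom.comp_apply, PsiY, Limits.pullback.lift_fst]
    have e2 : (snd G X).left.base w = x' := by
      rw [← hz2, ← Scheme.Hom.comp_apply, PsiY, Limits.pullback.lift_snd]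
    have e3 := congrArg (fun f : (G ⊗ X).left ⟶ Z.left => f.base w) hψ.left
    simp only [Scheme.Hom.comp_base, TopCat.hom_comp, ContinuousMap.comp_apply] at e3
    rw [← e1, ← e2]
    exact e3
  have hpre : ∀ V : Z.left.Opens, φ.left.base ⁻¹' (φ.left.base '' (ψ.left ⁻¹ᵁ V : Set X.left)) =
      (ψ.left ⁻¹ᵁ V : Set X.left) := by
    intro V
    apply Set.Subset.antisymm
    · rintro x ⟨x', hx', hxx⟩
      change ψ.left.base x ∈ V
      rw [hsat x x' hxx.symm]
      exact hx'
    · exact Set.subset_preimage_image _ _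
  refine ⟨Z.left.affineOpens, fun V => ⟨φ.left.base '' (ψ.left ⁻¹ᵁ V.1 : Set X.left), ?_⟩,
    fun V => V.1, ?_, fun V => V.2, ?_⟩
  · rw [← hq.isOpen_preimage, hpre]
    exact (ψ.left ⁻¹ᵁ V.1).isOpen
  · rw [TopologicalSpace.IsOpenCover, eq_top_iff]
    intro y _
    obtain ⟨x, rfl⟩ := h.surj y
    obtain ⟨_, ⟨V, hV, rfl⟩, hxV, -⟩ :=
      Z.left.isBasis_affineOpens.exists_subset_of_mem_open (Set.mem_univ (ψ.left.base x))
        isOpen_univ
    exact TopologicalSpace.Opens.mem_iSup.mpr ⟨⟨V, hV⟩, x, hxV, rfl⟩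
  · intro V x hx
    have : x ∈ φ.left.base ⁻¹' (φ.left.base '' (ψ.left ⁻¹ᵁ V.1 : Set X.left)) := hx
    rw [hpre] at this
    exact this

/-- Preimages under an invariant morphism are invariant subsets. -/
lemma invariant_preimage {X Z : Over S} (a : AlgGrp.Action G X) (ψ : X ⟶ Z)
    (hψ : IsInvariant a ψ) (T : Set Z.left) :
    a.act.left.base '' ((snd G X).left.base ⁻¹' (ψ.left.base ⁻¹' T)) ⊆ ψ.left.base ⁻¹' T := by
  rintro _ ⟨w, hw, rfl⟩
  have e3 := congrArg (fun f : (G ⊗ X).left ⟶ Z.left => f.base w) hψ.left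
  simp only [Scheme.Hom.comp_base, TopCat.hom_comp, ContinuousMap.comp_apply] at e3
  change ψ.left.base (a.act.left.base w) ∈ T
  rw [e3]
  exact hw

/-- Mumford's criterion: invariant functions and closed images of closed invariant subsets give a
categorical quotient and a submersive quotient map. -/
theorem isCatQuot_of_closed_images {X Y : Over S} (a : AlgGrp.Action G X) (φ : X ⟶ Y)
    (hi : IsInvariant a φ)
    (hii : ∀ U : Y.left.Opens,
      Function.Injective (φ.left.app U) ∧ Set.range (φ.left.app U) = {f | IsInvSection a φ U f})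
    (hiii : ∀ W : Set X.left, IsClosed W →
      a.act.left.base '' ((snd G X).left.base ⁻¹' W) ⊆ W → IsClosed (φ.left.base '' W))
    (hiii' : ∀ (J : Type u) (W : J → Set X.left),
      (∀ i, IsClosed (W i) ∧ a.act.left.base '' ((snd G X).left.base ⁻¹' W i) ⊆ W i) →
      φ.left.base '' (⋂ i, W i) = ⋂ i, φ.left.base '' W i) :
    IsCatQuot a φ ∧ IsQuotientMap φ.left.base := by
  have hs : Function.Surjective φ.left.base := by
    have h0 := hiii' PEmpty (fun i => i.elim) (fun i => i.elim)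
    simp only [Set.iInter_of_empty, Set.image_univ] at h0
    exact Set.range_eq_univ.mp h0
  refine ⟨isCatQuot_of_cover a φ hi hs hii (fun Z ψ hψ => ?_), ?_⟩
  · have hW : ∀ V : Z.left.Opens, IsClosed ((ψ.left.base ⁻¹' (V : Set Z.left))ᶜ) ∧
        a.act.left.base '' ((snd G X).left.base ⁻¹' ((ψ.left.base ⁻¹' (V : Set Z.left))ᶜ)) ⊆
          (ψ.left.base ⁻¹' (V : Set Z.left))ᶜ := by
      intro V
      refine ⟨(V.isOpen.preimage ψ.left.base.hom.continuous).isClosed_compl, ?_⟩
      rw [← Set.preimage_compl]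
      exact invariant_preimage a ψ hψ _
    refine ⟨Z.left.affineOpens,
      fun V => ⟨(φ.left.base '' ((ψ.left.base ⁻¹' (V.1 : Set Z.left))ᶜ))ᶜ,
        (hiii _ (hW V.1).1 (hW V.1).2).isOpen_compl⟩,
      fun V => V.1, ?_, fun V => V.2, ?_⟩
    · rw [TopologicalSpace.IsOpenCover, eq_top_iff]
      intro y _
      have h1 := hiii' Z.left.affineOpens
        (fun V => (ψ.left.base ⁻¹' (V.1 : Set Z.left))ᶜ) (fun V => hW V.1)
      have h2 : (⋂ V : Z.left.affineOpens, (ψ.left.base ⁻¹' (V.1 : Set Z.left))ᶜ) = ∅ := by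
        rw [Set.eq_empty_iff_forall_notMem]
        intro x hx
        obtain ⟨_, ⟨V, hV, rfl⟩, hxV, -⟩ :=
          Z.left.isBasis_affineOpens.exists_subset_of_mem_open (Set.mem_univ (ψ.left.base x))
            isOpen_univ
        exact (Set.mem_iInter.mp hx ⟨V, hV⟩) hxV
      rw [h2, Set.image_empty] at h1
      have h3 : y ∉ ⋂ V : Z.left.affineOpens,
          φ.left.base '' ((ψ.left.base ⁻¹' (V.1 : Set Z.left))ᶜ) := by
        rw [← h1]; exact Set.notMem_empty y
      rw [Set.mem_iInter, not_forall] at h3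
      obtain ⟨V, hV⟩ := h3
      exact TopologicalSpace.Opens.mem_iSup.mpr ⟨V, hV⟩
    · intro V x hx
      by_contra hxV
      exact hx ⟨x, hxV, rfl⟩
  · rw [isQuotientMap_iff_isClosed]
    refine ⟨hs, fun s => ⟨fun h => h.preimage φ.left.base.hom.continuous, fun h => ?_⟩⟩
    have := hiii _ h (invariant_preimage a φ hi s)
    rwa [Set.image_preimage_eq _ hs] at this

end Groth.Agent.Lib.Helper10.GeomQuotGIT
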