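import Mathlib

/-!
# Helper10GeomQuotSep: separatedness of a quotient and closedness of the graph of the relation
-/

universe u

open CategoryTheory CategoryTheory.Limits AlgebraicGeometry

namespace Groth.Agent.Lib.Helper10.GeomQuotSep

instance : (topologically @Topology.IsQuotientMap : MorphismProperty Scheme.{u}).IsStableUnderComposition :=
  topologically_isStableUnderComposition _ (fun _ _ hf hg => hg.comp hf)

instance : (topologically @Topology.IsQuotientMap : MorphismProperty Scheme.{u}).RespectsIso :=
  topologically_respectsIso _ (fun f => f.isQuotientMap) (fun _ _ hf hg => hg.comp hf)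

variable {P X Y S : Scheme.{u}}

set_option backward.isDefEq.respectTransparency false in
theorem isSeparated_iff_isClosed_range (σ p₂ : P ⟶ X) (φ : X ⟶ Y) (q : Y ⟶ S) (p : X ⟶ S)
    (hp : φ ≫ q = p) (hinv : σ ≫ φ = p₂ ≫ φ)
    (horb : Function.Surjective (pullback.lift σ p₂ hinv : P ⟶ pullback φ φ).base)
    (hsub : MorphismProperty.universally (topologically @Topology.IsQuotientMap) φ)
    (hΨ : σ ≫ p = p₂ ≫ p) :
    IsSeparated q ↔ IsClosed (Set.range (pullback.lift σ p₂ hΨ : P ⟶ pullback p p).base) := by
  subst hp
  have H := pullback_map_diagonal_isPullback φ φ q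
  set m := pullback.map φ φ (φ ≫ q) (φ ≫ q) (𝟙 _) (𝟙 _) q (Category.id_comp _).symm
    (Category.id_comp _).symm with hm
  set n := pullback.map (φ ≫ q) (φ ≫ q) q q φ φ (𝟙 _) (Category.comp_id _) (Category.comp_id _)
    with hn
  have hΨm : (pullback.lift σ p₂ hΨ : P ⟶ pullback (φ ≫ q) (φ ≫ q)) =
      (pullback.lift σ p₂ hinv : P ⟶ pullback φ φ) ≫ m := by
    apply pullback.hom_ext <;> simp [hm]
  have hrange : Set.range (pullback.lift σ p₂ hΨ : P ⟶ pullback (φ ≫ q) (φ ≫ q)).base =
      n.base ⁻¹' Set.range (pullback.diagonal q).base := by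
    rw [hΨm, Scheme.Hom.comp_base, TopCat.coe_comp, Set.range_comp, Set.range_eq_univ.mpr horb,
      Set.image_univ]
    have e1 : m = H.isoPullback.hom ≫ pullback.snd _ _ := by simp
    have e2 : Set.range H.isoPullback.hom.base = Set.univ :=
      Set.range_eq_univ.mpr (H.isoPullback.hom.homeomorph.surjective)
    rw [e1, Scheme.Hom.comp_base, TopCat.coe_comp, Set.range_comp, e2, Set.image_univ]
    exact Scheme.Pullback.range_snd _ _
  rw [hrange]
  have hn' : MorphismProperty.universally (topologically @Topology.IsQuotientMap) n :=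
    MorphismProperty.pullbackMap hsub hsub rfl rfl
  have hnq : Topology.IsQuotientMap n.base := MorphismProperty.universally_le _ _ hn'
  constructor
  · intro hsep
    exact (pullback.diagonal q).isClosedEmbedding.isClosed_range.preimage n.base.hom.continuous
  · intro hcl
    rw [hnq.isClosed_preimage] at hcl
    exact ⟨IsClosedImmersion.of_isPreimmersion _ hcl⟩

end Groth.Agent.Lib.Helper10.GeomQuotSep
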