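import Mathlib
import Groth.Prelude.Def_W4bk4git07Quot
import Groth.Agent.Lib.Helper10GeomQuotGIT
import Groth.Agent.Lib.Helper10GeomQuotSep
import Groth.Agent.Lib.Helper10FpqcSections

/-!
# Helper10FpqcGeomQuot: geometric quotients descend along fpqc base change
-/

universe u

open CategoryTheory Limits MonoidalCategory CartesianMonoidalCategory MonObj GrpObj
  AlgebraicGeometry Topology

namespace Groth.Agent.Lib.Helper10.FpqcGeomQuot

open GIT Groth.Agent.Lib.Helper10.GeomQuot Groth.Agent.Lib.Helper10.GeomQuotGIT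
  Groth.Agent.Lib.Helper10.FpqcSections

section scheme

variable {X Y X' Y' : Scheme.{u}} {φ : X ⟶ Y} {α : Y' ⟶ Y} {pr : X' ⟶ X} {φ' : X' ⟶ Y'}

lemma appLE_injective_of_eq' {A B : Scheme.{u}} (ψ : A ⟶ B) (V : B.Opens)
    (hinj : Function.Injective (ψ.app V)) (V' : A.Opens) (hV' : V' = ψ ⁻¹ᵁ V)
    (e : V' ≤ ψ ⁻¹ᵁ V) : Function.Injective (ψ.appLE V V' e) := by
  subst hV'
  rw [Scheme.Hom.appLE_eq_app]
  exact hinj

/-- Universally submersive morphisms descend along fpqc base change. -/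
theorem univSubmersive_of_isPullback (hpb : IsPullback pr φ' φ α)
    [Flat α] [Surjective α] [QuasiCompact α]
    (h' : MorphismProperty.universally (topologically @IsQuotientMap) φ') :
    MorphismProperty.universally (topologically @IsQuotientMap) φ := by
  have hα : MorphismProperty.universally (topologically @IsQuotientMap) α := by
    intro A B i₁ i₂ f' H
    haveI : Flat f' := MorphismProperty.of_isPullback H.flip ‹_›
    haveI : Surjective f' := MorphismProperty.of_isPullback H.flip ‹_›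
    haveI : QuasiCompact f' := MorphismProperty.of_isPullback H.flip ‹_›
    exact Flat.isQuotientMap_of_surjective f'
  have hcomp : MorphismProperty.universally (topologically @IsQuotientMap) (pr ≫ φ) := by
    rw [hpb.w]
    exact MorphismProperty.comp_mem _ _ _ h' hα
  intro A B i₁ i₂ f' H
  -- `f' : A ⟶ B` is the base change of `φ` along `i₂ : B ⟶ Y`
  have H2 : IsPullback (pullback.fst i₁ pr ≫ f') (pullback.snd i₁ pr) i₂ (pr ≫ φ) :=
    (IsPullback.of_hasPullback i₁ pr).paste_horiz H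
  have hq : IsQuotientMap (pullback.fst i₁ pr ≫ f').base := hcomp _ _ _ H2
  rw [Scheme.Hom.comp_base, TopCat.coe_comp] at hq
  exact hq.of_comp (pullback.fst i₁ pr).continuous f'.continuous

lemma isSchemeTheoreticallyDominant_of_app_injective {A B : Scheme.{u}} (ψ : A ⟶ B) [QuasiCompact ψ]
    (hinj : ∀ V : B.Opens, Function.Injective (ψ.app V)) : IsSchemeTheoreticallyDominant ψ := by
  rw [isSchemeTheoreticallyDominant_iff]
  apply Scheme.IdealSheafData.ext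
  funext V
  rw [Scheme.Hom.ker_apply, Scheme.IdealSheafData.ideal_bot]
  exact (RingHom.injective_iff_ker_eq_bot _).1 (hinj V.1)

set_option backward.isDefEq.respectTransparency false in
/-- Injectivity on sections descends along fpqc base change. -/
theorem app_injective_of_isPullback (hpb : IsPullback pr φ' φ α)
    [Flat α] [Surjective α] [QuasiCompact α]
    (hinj' : ∀ U' : Y'.Opens, Function.Injective (φ'.app U')) (U : Y.Opens) :
    Function.Injective (φ.app U) := by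
  intro g₁ g₂ h
  apply FpqcSections.app_injective α U
  apply hinj' (α ⁻¹ᵁ U)
  have hle : φ' ⁻¹ᵁ α ⁻¹ᵁ U ≤ pr ⁻¹ᵁ φ ⁻¹ᵁ U := by
    rw [← Scheme.Hom.comp_preimage, ← Scheme.Hom.comp_preimage, hpb.w]
  have key : α.app U ≫ φ'.app (α ⁻¹ᵁ U) =
      φ.app U ≫ pr.appLE (φ ⁻¹ᵁ U) (φ' ⁻¹ᵁ α ⁻¹ᵁ U) hle := by
    rw [Scheme.Hom.app_eq_appLE (f := α), Scheme.Hom.app_eq_appLE (f := φ'),
      Scheme.Hom.app_eq_appLE (f := φ), Scheme.Hom.appLE_comp_appLE, Scheme.Hom.appLE_comp_appLE]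
    exact FpqcSections.appLE_congr_hom hpb.w.symm ..
  have a1 := congrArg (fun m : Γ(Y, U) ⟶ _ => m g₁) key
  have a2 := congrArg (fun m : Γ(Y, U) ⟶ _ => m g₂) key
  simp only [CommRingCat.comp_apply] at a1 a2
  rw [a1, a2, h]

set_option backward.isDefEq.respectTransparency false in
/-- Descent of sections along fpqc base change: if the pullback of `f` to `X'` comes from `Y'`,
then `f` comes from `Y`. -/
theorem exists_app_eq_of_isPullback (hpb : IsPullback pr φ' φ α)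
    [Flat α] [Surjective α] [QuasiCompact α] [QuasiCompact φ']
    (hinj' : ∀ U' : Y'.Opens, Function.Injective (φ'.app U')) (U : Y.Opens)
    (hle : φ' ⁻¹ᵁ α ⁻¹ᵁ U ≤ pr ⁻¹ᵁ φ ⁻¹ᵁ U)
    (f : Γ(X, φ ⁻¹ᵁ U)) (g' : Γ(Y', α ⁻¹ᵁ U))
    (hg' : φ'.app (α ⁻¹ᵁ U) g' = pr.appLE (φ ⁻¹ᵁ U) (φ' ⁻¹ᵁ α ⁻¹ᵁ U) hle f) :
    ∃ g : Γ(Y, U), φ.app U g = f := by
  have h2 : pullback.fst α α ⁻¹ᵁ α ⁻¹ᵁ U ≤ pullback.snd α α ⁻¹ᵁ α ⁻¹ᵁ U := by
    rw [← Scheme.Hom.comp_preimage, ← Scheme.Hom.comp_preimage, pullback.condition]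
  haveI : IsSchemeTheoreticallyDominant φ' :=
    isSchemeTheoreticallyDominant_of_app_injective φ' hinj'
  have hinj'' := Scheme.Hom.app_injective (pullback.snd φ' (pullback.fst α α))
    (pullback.fst α α ⁻¹ᵁ α ⁻¹ᵁ U)
  have hq : (pullback.fst φ' (pullback.fst α α) ≫ pr) ≫ φ =
      (pullback.snd φ' (pullback.fst α α) ≫ pullback.snd α α) ≫ α := by
    rw [Category.assoc, hpb.w, ← Category.assoc, pullback.condition (f := φ'), Category.assoc,
      Category.assoc, pullback.condition (f := α)]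
  have hq2pr : hpb.lift _ _ hq ≫ pr = pullback.fst φ' (pullback.fst α α) ≫ pr :=
    hpb.lift_fst _ _ _
  have hq2φ : hpb.lift _ _ hq ≫ φ' = pullback.snd φ' (pullback.fst α α) ≫ pullback.snd α α :=
    hpb.lift_snd _ _ _
  have hs : (pullback.fst α α).appLE (α ⁻¹ᵁ U) (pullback.fst α α ⁻¹ᵁ α ⁻¹ᵁ U) le_rfl g' =
      (pullback.snd α α).appLE (α ⁻¹ᵁ U) (pullback.fst α α ⁻¹ᵁ α ⁻¹ᵁ U) h2 g' := by
    apply hinj''
    have hleq1 : pullback.snd φ' (pullback.fst α α) ⁻¹ᵁ (pullback.fst α α ⁻¹ᵁ α ⁻¹ᵁ U) ≤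
        pullback.fst φ' (pullback.fst α α) ⁻¹ᵁ φ' ⁻¹ᵁ α ⁻¹ᵁ U := by
      rw [← Scheme.Hom.comp_preimage, ← Scheme.Hom.comp_preimage (pullback.fst φ' _) φ',
        pullback.condition]
    have hleq2 : pullback.snd φ' (pullback.fst α α) ⁻¹ᵁ (pullback.fst α α ⁻¹ᵁ α ⁻¹ᵁ U) ≤
        hpb.lift _ _ hq ⁻¹ᵁ φ' ⁻¹ᵁ α ⁻¹ᵁ U := by
      rw [← Scheme.Hom.comp_preimage (hpb.lift _ _ hq) φ', hq2φ, Scheme.Hom.comp_preimage]
      exact fun x hx => h2 hx
    have k1 : (pullback.fst α α).appLE (α ⁻¹ᵁ U) (pullback.fst α α ⁻¹ᵁ α ⁻¹ᵁ U) le_rfl ≫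
        (pullback.snd φ' (pullback.fst α α)).app _ =
        φ'.app (α ⁻¹ᵁ U) ≫ (pullback.fst φ' (pullback.fst α α)).appLE (φ' ⁻¹ᵁ α ⁻¹ᵁ U) _ hleq1 := by
      rw [Scheme.Hom.app_eq_appLE (f := pullback.snd φ' (pullback.fst α α)),
        Scheme.Hom.app_eq_appLE (f := φ'), Scheme.Hom.appLE_comp_appLE,
        Scheme.Hom.appLE_comp_appLE]
      exact FpqcSections.appLE_congr_hom pullback.condition.symm ..
    have k2 : (pullback.snd α α).appLE (α ⁻¹ᵁ U) (pullback.fst α α ⁻¹ᵁ α ⁻¹ᵁ U) h2 ≫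
        (pullback.snd φ' (pullback.fst α α)).app _ =
        φ'.app (α ⁻¹ᵁ U) ≫ (hpb.lift _ _ hq).appLE (φ' ⁻¹ᵁ α ⁻¹ᵁ U) _ hleq2 := by
      rw [Scheme.Hom.app_eq_appLE (f := pullback.snd φ' (pullback.fst α α)),
        Scheme.Hom.app_eq_appLE (f := φ'), Scheme.Hom.appLE_comp_appLE,
        Scheme.Hom.appLE_comp_appLE]
      exact FpqcSections.appLE_congr_hom hq2φ.symm ..
    have k3 : pr.appLE (φ ⁻¹ᵁ U) (φ' ⁻¹ᵁ α ⁻¹ᵁ U) hle ≫
        (pullback.fst φ' (pullback.fst α α)).appLE (φ' ⁻¹ᵁ α ⁻¹ᵁ U) _ hleq1 =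
        pr.appLE (φ ⁻¹ᵁ U) (φ' ⁻¹ᵁ α ⁻¹ᵁ U) hle ≫
          (hpb.lift _ _ hq).appLE (φ' ⁻¹ᵁ α ⁻¹ᵁ U) _ hleq2 := by
      rw [Scheme.Hom.appLE_comp_appLE, Scheme.Hom.appLE_comp_appLE]
      exact FpqcSections.appLE_congr_hom hq2pr.symm ..
    have a1 := congrArg (fun m : Γ(Y', α ⁻¹ᵁ U) ⟶ _ => m g') k1
    have a2 := congrArg (fun m : Γ(Y', α ⁻¹ᵁ U) ⟶ _ => m g') k2
    have a3 := congrArg (fun m : Γ(X, φ ⁻¹ᵁ U) ⟶ _ => m f) k3
    simp only [CommRingCat.comp_apply] at a1 a2 a3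
    rw [a1, a2, hg', a3]
  obtain ⟨g, hg⟩ := FpqcSections.exists_app_eq α U g' _ le_rfl h2 le_rfl hs
  refine ⟨g, ?_⟩
  haveI : Flat pr := MorphismProperty.of_isPullback hpb.flip ‹_›
  haveI : Surjective pr := MorphismProperty.of_isPullback hpb.flip ‹_›
  haveI : QuasiCompact pr := MorphismProperty.of_isPullback hpb.flip ‹_›
  have hprinj : Function.Injective (pr.appLE (φ ⁻¹ᵁ U) (φ' ⁻¹ᵁ α ⁻¹ᵁ U) hle) := by
    apply appLE_injective_of_eq' pr _ (FpqcSections.app_injective pr (φ ⁻¹ᵁ U))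
    rw [← Scheme.Hom.comp_preimage, ← Scheme.Hom.comp_preimage, hpb.w]
  apply hprinj
  have key : α.app U ≫ φ'.app (α ⁻¹ᵁ U) =
      φ.app U ≫ pr.appLE (φ ⁻¹ᵁ U) (φ' ⁻¹ᵁ α ⁻¹ᵁ U) hle := by
    rw [Scheme.Hom.app_eq_appLE (f := α), Scheme.Hom.app_eq_appLE (f := φ'),
      Scheme.Hom.app_eq_appLE (f := φ), Scheme.Hom.appLE_comp_appLE, Scheme.Hom.appLE_comp_appLE]
    exact FpqcSections.appLE_congr_hom hpb.w.symm ..
  have a := congrArg (fun m : Γ(Y, U) ⟶ _ => m g) key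
  simp only [CommRingCat.comp_apply] at a
  rw [← a, hg, hg']

end scheme

section git

variable {S : Scheme.{u}} {G : Over S} [GrpObj G]

lemma isPullback_left {X Y X' Y' : Over S} {pr : X' ⟶ X} {φ' : X' ⟶ Y'} {φ : X ⟶ Y} {α : Y' ⟶ Y}
    (hpb : IsPullback pr φ' φ α) : IsPullback pr.left φ'.left φ.left α.left :=
  hpb.map (Over.forget S)

set_option backward.isDefEq.respectTransparency false in
/-- The pullback of an invariant section along an equivariant morphism is invariant. -/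
lemma isInvSection_pullback {X Y X' Y' : Over S} (a : AlgGrp.Action G X) (a' : AlgGrp.Action G X')
    (φ : X ⟶ Y) (φ' : X' ⟶ Y') (α : Y' ⟶ Y) (pr : X' ⟶ X) (hw : pr ≫ φ = φ' ≫ α)
    (heq : a'.act ≫ pr = (G ◁ pr) ≫ a.act) (U : Y.left.Opens)
    (hle : φ'.left ⁻¹ᵁ α.left ⁻¹ᵁ U ≤ pr.left ⁻¹ᵁ φ.left ⁻¹ᵁ U)
    (f : Γ(X.left, φ.left ⁻¹ᵁ U)) (hf : IsInvSection a φ U f) :
    IsInvSection a' φ' (α.left ⁻¹ᵁ U)
      (pr.left.appLE (φ.left ⁻¹ᵁ U) (φ'.left ⁻¹ᵁ α.left ⁻¹ᵁ U) hle f) := by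
  have hwl : pr.left ≫ φ.left = φ'.left ≫ α.left := by
    rw [← Over.comp_left, ← Over.comp_left, hw]
  have heql : a'.act.left ≫ pr.left = (G ◁ pr).left ≫ a.act.left := by
    rw [← Over.comp_left, ← Over.comp_left, heq]
  have hsndl : (snd G X').left ≫ pr.left = (G ◁ pr).left ≫ (snd G X).left := by
    rw [← Over.comp_left, ← Over.comp_left, whiskerLeft_snd]
  have hO : a'.act.left ⁻¹ᵁ (φ'.left ⁻¹ᵁ α.left ⁻¹ᵁ U) ⊓ (snd G X').left ⁻¹ᵁ (φ'.left ⁻¹ᵁ α.left ⁻¹ᵁ U) ≤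
      (G ◁ pr).left ⁻¹ᵁ (a.act.left ⁻¹ᵁ (φ.left ⁻¹ᵁ U) ⊓ (snd G X).left ⁻¹ᵁ (φ.left ⁻¹ᵁ U)) := by
    rintro x ⟨h1, h2⟩
    refine ⟨?_, ?_⟩
    · change φ.left (a.act.left ((G ◁ pr).left x)) ∈ U
      rw [← Scheme.Hom.comp_apply, ← Scheme.Hom.comp_apply, ← Category.assoc, ← heql,
        Category.assoc, hwl]
      exact h1
    · change φ.left ((snd G X).left ((G ◁ pr).left x)) ∈ U
      rw [← Scheme.Hom.comp_apply, ← Scheme.Hom.comp_apply, ← Category.assoc, ← hsndl,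
        Category.assoc, hwl]
      exact h2
  unfold IsInvSection at hf ⊢
  have k1 : pr.left.appLE (φ.left ⁻¹ᵁ U) (φ'.left ⁻¹ᵁ α.left ⁻¹ᵁ U) hle ≫
      a'.act.left.appLE (φ'.left ⁻¹ᵁ α.left ⁻¹ᵁ U) _ inf_le_left =
      a.act.left.appLE (φ.left ⁻¹ᵁ U) _ inf_le_left ≫ (G ◁ pr).left.appLE _ _ hO := by
    rw [Scheme.Hom.appLE_comp_appLE, Scheme.Hom.appLE_comp_appLE]
    exact FpqcSections.appLE_congr_hom heql ..
  have k2 : pr.left.appLE (φ.left ⁻¹ᵁ U) (φ'.left ⁻¹ᵁ α.left ⁻¹ᵁ U) hle ≫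
      (snd G X').left.appLE (φ'.left ⁻¹ᵁ α.left ⁻¹ᵁ U) _ inf_le_right =
      (snd G X).left.appLE (φ.left ⁻¹ᵁ U) _ inf_le_right ≫ (G ◁ pr).left.appLE _ _ hO := by
    rw [Scheme.Hom.appLE_comp_appLE, Scheme.Hom.appLE_comp_appLE]
    exact FpqcSections.appLE_congr_hom hsndl ..
  have a1 := congrArg (fun m : Γ(X.left, φ.left ⁻¹ᵁ U) ⟶ _ => m f) k1
  have a2 := congrArg (fun m : Γ(X.left, φ.left ⁻¹ᵁ U) ⟶ _ => m f) k2
  simp only [CommRingCat.comp_apply] at a1 a2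
  rw [a1, a2, hf]

set_option backward.isDefEq.respectTransparency false in
/-- Geometric quotients descend along fpqc base change of the quotient. -/
theorem isGeomQuot_of_isPullback {X Y X' Y' : Over S} (a : AlgGrp.Action G X) (φ : X ⟶ Y)
    (hinv : IsInvariant a φ) (α : Y' ⟶ Y) [Flat α.left] [Surjective α.left] [QuasiCompact α.left]
    (pr : X' ⟶ X) (φ' : X' ⟶ Y') (hpb : IsPullback pr φ' φ α) [QuasiCompact φ'.left]
    (a' : AlgGrp.Action G X') (heq : a'.act ≫ pr = (G ◁ pr) ≫ a.act)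
    (h : IsGeomQuot a' φ') : IsGeomQuot a φ := by
  have hpbS : IsPullback pr.left φ'.left φ.left α.left := isPullback_left hpb
  have heql : a'.act.left ≫ pr.left = (G ◁ pr).left ≫ a.act.left := by
    rw [← Over.comp_left, ← Over.comp_left, heq]
  have hsndl : (snd G X').left ≫ pr.left = (G ◁ pr).left ≫ (snd G X).left := by
    rw [← Over.comp_left, ← Over.comp_left, whiskerLeft_snd]
  refine ⟨hinv, ?_, ?_, univSubmersive_of_isPullback hpbS h.subm, ?_⟩
  · -- surjectivity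
    intro y
    obtain ⟨y', rfl⟩ := α.left.surjective y
    obtain ⟨x', rfl⟩ := h.surj y'
    refine ⟨pr.left x', ?_⟩
    rw [← Scheme.Hom.comp_apply, hpbS.w, Scheme.Hom.comp_apply]
  · -- orbits
    intro z
    obtain ⟨y', hy'⟩ := α.left.surjective ((pullback.fst φ.left φ.left ≫ φ.left) z)
    obtain ⟨w, hw1, -⟩ := Scheme.Pullback.exists_preimage_pullback
      (f := pullback.fst φ.left φ.left ≫ φ.left) (g := α.left) z y' hy'.symm
    have c1 : (pullback.fst (pullback.fst φ.left φ.left ≫ φ.left) α.left ≫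
        pullback.fst φ.left φ.left) ≫ φ.left =
        pullback.snd (pullback.fst φ.left φ.left ≫ φ.left) α.left ≫ α.left := by
      rw [Category.assoc]
      exact pullback.condition
    have c2 : (pullback.fst (pullback.fst φ.left φ.left ≫ φ.left) α.left ≫
        pullback.snd φ.left φ.left) ≫ φ.left =
        pullback.snd (pullback.fst φ.left φ.left ≫ φ.left) α.left ≫ α.left := by
      rw [Category.assoc]
      have e : pullback.snd φ.left φ.left ≫ φ.left = pullback.fst φ.left φ.left ≫ φ.left :=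
        pullback.condition.symm
      exact (congrArg (fun m =>
        pullback.fst (pullback.fst φ.left φ.left ≫ φ.left) α.left ≫ m) e).trans pullback.condition
    let ρ : pullback (pullback.fst φ.left φ.left ≫ φ.left) α.left ⟶ pullback φ'.left φ'.left :=
      pullback.lift (hpbS.lift _ _ c1) (hpbS.lift _ _ c2) (by rw [hpbS.lift_snd, hpbS.lift_snd])
    let κ : pullback φ'.left φ'.left ⟶ pullback φ.left φ.left :=
      pullback.map φ'.left φ'.left φ.left φ.left pr.left pr.left α.left hpbS.w.symm hpbS.w.symm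
    have hρκ : ρ ≫ κ = pullback.fst (pullback.fst φ.left φ.left ≫ φ.left) α.left := by
      apply pullback.hom_ext
      · simp only [ρ, κ, Category.assoc, pullback.lift_fst, pullback.lift_fst_assoc,
          IsPullback.lift_fst]
      · simp only [ρ, κ, Category.assoc, pullback.lift_snd, pullback.lift_snd_assoc,
          IsPullback.lift_fst]
    have hΨ : (G ◁ pr).left ≫ PsiY a φ hinv = PsiY a' φ' h.inv ≫ κ := by
      apply pullback.hom_ext
      · simp only [PsiY, κ, Category.assoc, pullback.lift_fst, pullback.lift_fst_assoc, heql]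
      · simp only [PsiY, κ, Category.assoc, pullback.lift_snd, pullback.lift_snd_assoc, hsndl]
    obtain ⟨v, hv⟩ := h.orbit (ρ w)
    refine ⟨(G ◁ pr).left v, ?_⟩
    rw [← Scheme.Hom.comp_apply, hΨ, Scheme.Hom.comp_apply, hv, ← Scheme.Hom.comp_apply, hρκ, hw1]
  · -- sections
    intro U
    have hle : φ'.left ⁻¹ᵁ α.left ⁻¹ᵁ U ≤ pr.left ⁻¹ᵁ φ.left ⁻¹ᵁ U := by
      rw [← Scheme.Hom.comp_preimage, ← Scheme.Hom.comp_preimage, hpbS.w]
    refine ⟨app_injective_of_isPullback hpbS (fun U' => (h.sections U').1) U, ?_⟩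
    ext f
    constructor
    · rintro ⟨g, rfl⟩
      have := isInvSection_appLE a φ φ hinv U U le_rfl g
      rwa [Scheme.Hom.appLE_eq_app] at this
    · intro hf
      have hf' := isInvSection_pullback a a' φ φ' α pr hpb.w heq U hle f hf
      have hr := (h.sections (α.left ⁻¹ᵁ U)).2
      rw [Set.ext_iff] at hr
      obtain ⟨g', hg'⟩ := (hr _).2 hf'
      exact exists_app_eq_of_isPullback hpbS (fun U' => (h.sections U').1) U hle f g' hg'

end git

end Groth.Agent.Lib.Helper10.FpqcGeomQuot
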