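import Mathlib
import Groth.Prelude.Def_W4bk4git07Quot
import Groth.Agent.Lib.Helper10FpqcGeomQuot

/-!
# Helper10FpqcGeomQuot2: base change of actions, universal geometric quotients descend along fpqc
-/

universe u

open CategoryTheory Limits MonoidalCategory CartesianMonoidalCategory MonObj GrpObj
  AlgebraicGeometry Topology

namespace Groth.Agent.Lib.Helper10.FpqcGeomQuot

open GIT

variable {S : Scheme.{u}} {G : Over S} [GrpObj G]

/-- The base change of an action along a morphism to the target of an invariant morphism. -/
noncomputable def pullbackAction {X T T' : Over S} (a : AlgGrp.Action G X) (φ : X ⟶ T)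
    (hinv : IsInvariant a φ) (β : T' ⟶ T) : AlgGrp.Action G (pullback φ β) where
  act := pullback.lift ((G ◁ pullback.fst φ β) ≫ a.act) (snd G _ ≫ pullback.snd φ β) (by
    rw [Category.assoc, hinv, Category.assoc, ← pullback.condition, ← Category.assoc,
      whiskerLeft_snd, Category.assoc])
  one_act := by
    apply pullback.hom_ext
    · rw [Category.assoc, pullback.lift_fst, ← Category.assoc, ← whisker_exchange, Category.assoc,
        a.one_act, leftUnitor_hom, leftUnitor_hom, whiskerLeft_snd]
    · rw [Category.assoc, pullback.lift_snd, ← Category.assoc, whiskerRight_snd, leftUnitor_hom]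
  mul_act := by
    apply pullback.hom_ext
    · simp only [Category.assoc, pullback.lift_fst]
      rw [← whisker_exchange_assoc, a.mul_act, ← whiskerLeft_comp_assoc, pullback.lift_fst,
        whiskerLeft_comp, Category.assoc, associator_naturality_right_assoc]
    · simp only [Category.assoc, pullback.lift_snd]
      rw [whiskerRight_snd_assoc, whiskerLeft_snd_assoc, pullback.lift_snd,
        associator_hom_snd_snd_assoc]

lemma pullbackAction_act_fst {X T T' : Over S} (a : AlgGrp.Action G X) (φ : X ⟶ T)
    (hinv : IsInvariant a φ) (β : T' ⟶ T) :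
    (pullbackAction a φ hinv β).act ≫ pullback.fst φ β = (G ◁ pullback.fst φ β) ≫ a.act :=
  pullback.lift_fst _ _ _

lemma pullbackAction_act_snd {X T T' : Over S} (a : AlgGrp.Action G X) (φ : X ⟶ T)
    (hinv : IsInvariant a φ) (β : T' ⟶ T) :
    (pullbackAction a φ hinv β).act ≫ pullback.snd φ β = snd G _ ≫ pullback.snd φ β :=
  pullback.lift_snd _ _ _

lemma pullbackAction_isInvariant {X T T' : Over S} (a : AlgGrp.Action G X) (φ : X ⟶ T)
    (hinv : IsInvariant a φ) (β : T' ⟶ T) :
    IsInvariant (pullbackAction a φ hinv β) (pullback.snd φ β) :=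
  pullbackAction_act_snd a φ hinv β

set_option backward.isDefEq.respectTransparency false in
/-- Universal geometric quotients descend along fpqc base change of the quotient. -/
theorem isUnivGeomQuot_of_isPullback {X Y X' Y' : Over S} (a : AlgGrp.Action G X) (φ : X ⟶ Y)
    (hinv : IsInvariant a φ) (α : Y' ⟶ Y) [Flat α.left] [Surjective α.left] [QuasiCompact α.left]
    (pr : X' ⟶ X) (φ' : X' ⟶ Y') (hpb : IsPullback pr φ' φ α) [QuasiCompact φ.left]
    (a' : AlgGrp.Action G X') (heq : a'.act ≫ pr = (G ◁ pr) ≫ a.act)
    (hinv' : IsInvariant a' φ') (h : IsUnivGeomQuot a' φ') : IsUnivGeomQuot a φ := by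
  haveI : QuasiCompact φ'.left := MorphismProperty.of_isPullback (isPullback_left hpb) ‹_›
  refine ⟨isGeomQuot_of_isPullback a φ hinv α pr φ' hpb a' heq h.1, ?_⟩
  intro XT T prT φT g _ hT aT heqT hinvT
  have hθ : (pullback.fst φT (pullback.fst g α) ≫ prT) ≫ φ =
      (pullback.snd φT (pullback.fst g α) ≫ pullback.snd g α) ≫ α := by
    rw [Category.assoc, hT.w, ← Category.assoc, pullback.condition, Category.assoc, Category.assoc,
      pullback.condition]
  have hbig : IsPullback (pullback.fst φT (pullback.fst g α) ≫ prT)
      (pullback.snd φT (pullback.fst g α)) φ (pullback.fst g α ≫ g) :=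
    (IsPullback.of_hasPullback φT (pullback.fst g α)).paste_horiz hT
  have hθpb : IsPullback (hpb.lift _ _ hθ) (pullback.snd φT (pullback.fst g α)) φ'
      (pullback.snd g α) := by
    refine IsPullback.of_right ?_ (hpb.lift_snd _ _ _) hpb
    rw [hpb.lift_fst, ← pullback.condition]
    exact hbig
  have hθeq : (pullbackAction aT φT hinvT (pullback.fst g α)).act ≫ hpb.lift _ _ hθ =
      (G ◁ hpb.lift _ _ hθ) ≫ a'.act := by
    apply hpb.hom_ext
    · rw [Category.assoc, hpb.lift_fst, Category.assoc, heq, ← whiskerLeft_comp_assoc,
        hpb.lift_fst, ← Category.assoc, pullbackAction_act_fst, Category.assoc, heqT,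
        whiskerLeft_comp, Category.assoc]
    · rw [Category.assoc, hpb.lift_snd, Category.assoc, hinv', ← Category.assoc,
        pullbackAction_act_snd, ← Category.assoc (G ◁ _), whiskerLeft_snd, Category.assoc,
        Category.assoc, hpb.lift_snd]
  have hgq' : IsGeomQuot (pullbackAction aT φT hinvT (pullback.fst g α))
      (pullback.snd φT (pullback.fst g α)) :=
    h.2 _ _ _ trivial hθpb _ hθeq (pullbackAction_isInvariant aT φT hinvT _)
  have hS := isPullback_left (IsPullback.of_hasPullback g α)
  haveI : Flat (pullback.fst g α).left := MorphismProperty.of_isPullback hS.flip ‹_›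
  haveI : Surjective (pullback.fst g α).left := MorphismProperty.of_isPullback hS.flip ‹_›
  haveI : QuasiCompact (pullback.fst g α).left := MorphismProperty.of_isPullback hS.flip ‹_›
  haveI : QuasiCompact φT.left := MorphismProperty.of_isPullback (isPullback_left hT) ‹_›
  haveI : QuasiCompact (pullback.snd φT (pullback.fst g α)).left :=
    MorphismProperty.of_isPullback (isPullback_left (IsPullback.of_hasPullback φT _)) ‹_›
  exact isGeomQuot_of_isPullback aT φT hinvT (pullback.fst g α) (pullback.fst φT _)
    (pullback.snd φT _) (IsPullback.of_hasPullback φT _) _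
    (pullbackAction_act_fst aT φT hinvT _) hgq'

end Groth.Agent.Lib.Helper10.FpqcGeomQuot
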