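import Mathlib

/-!
# Linear algebra for the functional equation: endomorphisms adjoint up to a scalar
-/

namespace Groth.Agent.Lib.Helper10.FrobLA

open Polynomial Matrix

section Mat

variable {K : Type*} [Field K] {n : Type*} [Fintype n] [DecidableEq n]

lemma matrix_key (M N : Matrix n n K) (c : K) (h : N * M = c • (1 : Matrix n n K)) :
    C M.det * N.charpoly.reverse = (-1) ^ Fintype.card n * M.charpoly.comp (C c * X) := by
  rw [Matrix.reverse_charpoly, Matrix.charpolyRev]
  have h1 : C M.det = (M.map C).det := by
    rw [← RingHom.mapMatrix_apply, ← RingHom.map_det]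
  have h2 : (1 - (X : K[X]) • N.map C) * M.map C = - ((scalar n (C c * X)) - M.map C) := by
    rw [sub_mul, one_mul, smul_mul_assoc, ← Matrix.map_mul, h, neg_sub]
    congr 1
    refine Matrix.ext fun i j => ?_
    rw [Matrix.smul_apply, Matrix.map_apply, Matrix.smul_apply, Matrix.scalar_apply,
      Matrix.diagonal_apply, Matrix.one_apply]
    split_ifs
    · rw [smul_eq_mul, smul_eq_mul, mul_one, mul_comm]
    · rw [smul_eq_mul, smul_eq_mul, mul_zero, map_zero, mul_zero]
  have h3 : M.charpoly.comp (C c * X) = (scalar n (C c * X) - M.map C).det := by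
    rw [Matrix.charpoly, ← Polynomial.coe_compRingHom_apply, RingHom.map_det]
    congr 1
    refine Matrix.ext fun i j => ?_
    rw [RingHom.mapMatrix_apply, Matrix.map_apply, Polynomial.coe_compRingHom_apply,
      charmatrix_apply, Matrix.sub_apply, Matrix.scalar_apply, Matrix.diagonal_apply,
      Matrix.diagonal_apply, Matrix.map_apply]
    split_ifs <;> simp
  rw [h1, mul_comm, ← Matrix.det_mul, h2, Matrix.det_neg, h3]

end Mat

section Lin

variable {K V W : Type*} [Field K] [AddCommGroup V] [Module K V] [FiniteDimensional K V]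
  [AddCommGroup W] [Module K W] [FiniteDimensional K W]
  (p : V →ₗ[K] W →ₗ[K] K) [p.IsPerfPair] (A : V →ₗ[K] V) (B : W →ₗ[K] W) (c : K)

/-- The adjoint of `B` with respect to the perfect pairing `p`, as an endomorphism of `V`. -/
noncomputable def adj : V →ₗ[K] V := p.toPerfPair.symm.conj B.dualMap

omit [FiniteDimensional K V] [FiniteDimensional K W] in
lemma adj_comp (h : ∀ v w, p (A v) (B w) = c * p v w) :
    adj p B ∘ₗ A = c • LinearMap.id := by
  ext v
  apply p.toPerfPair.injective
  ext w
  simp only [adj, LinearEquiv.conj_apply, LinearMap.coe_comp, LinearEquiv.coe_coe,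
    Function.comp_apply, LinearEquiv.symm_symm, LinearEquiv.apply_symm_apply,
    LinearMap.dualMap_apply, LinearMap.smul_apply, LinearMap.id_coe, id_eq, map_smul,
    LinearMap.toPerfPair_apply, smul_eq_mul]
  exact h v w

lemma det_adj : LinearMap.det (adj p B) = LinearMap.det B := by
  unfold adj
  rw [LinearEquiv.conj_apply, LinearMap.comp_assoc, LinearMap.det_conj, LinearMap.det_dualMap]

lemma charpoly_dualMap : B.dualMap.charpoly = B.charpoly := by
  classical
  set b := Module.finBasis K W
  rw [← LinearMap.charpoly_toMatrix B.dualMap b.dualBasis, ← LinearMap.charpoly_toMatrix B b,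
    LinearMap.dualMap_def, LinearMap.toMatrix_transpose, Matrix.charpoly_transpose]

lemma charpoly_adj : (adj p B).charpoly = B.charpoly := by
  unfold adj
  rw [LinearEquiv.charpoly_conj, charpoly_dualMap]

theorem det_mul_det (h : ∀ v w, p (A v) (B w) = c * p v w) :
    LinearMap.det B * LinearMap.det A = c ^ Module.finrank K V := by
  rw [← det_adj p B, ← LinearMap.det_comp, adj_comp p A B c h, LinearMap.det_smul,
    LinearMap.det_id, mul_one]

theorem det_smul_reverse_charpoly (h : ∀ v w, p (A v) (B w) = c * p v w) :
    LinearMap.det A • B.charpoly.reverse =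
      (-1) ^ Module.finrank K V * A.charpoly.comp (C c * X) := by
  classical
  set b := Module.finBasis K V
  have hNM : LinearMap.toMatrix b b (adj p B) * LinearMap.toMatrix b b A =
      c • (1 : Matrix _ _ K) := by
    rw [← LinearMap.toMatrix_comp, adj_comp p A B c h, map_smul, LinearMap.toMatrix_id]
  have key := matrix_key _ _ c hNM
  rw [LinearMap.det_toMatrix, LinearMap.charpoly_toMatrix, LinearMap.charpoly_toMatrix,
    charpoly_adj, Fintype.card_fin] at key
  rw [Polynomial.smul_eq_C_mul]
  exact key

include p in
lemma finrank_eq_of_isPerfPair : Module.finrank K V = Module.finrank K W := by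
  rw [LinearEquiv.finrank_eq p.toPerfPair, Subspace.dual_finrank_eq]

end Lin

end Groth.Agent.Lib.Helper10.FrobLA
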