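import Mathlib
import Groth.Agent.Lib.Helper10LDC
import Groth.Agent.Lib.Helper1LBC
import Groth.Agent.Lib.Helper10PTC
import Groth.Agent.S12898
set_option backward.isDefEq.respectTransparency.types false

/-!
# Derived base change of `RΓ_I(A)` along a ring map (helper10)
-/

set_option autoImplicit false
set_option maxHeartbeats 400000
universe u
open CategoryTheory CategoryTheory.Limits HomologicalComplex CochainComplex MonoidalCategory
attribute [local instance] HasDerivedCategory.standard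

namespace Groth.Agent.Lib.Helper10.FrobRG

open DerivedCategory Groth.Agent.Lib.Helper1.KF Groth.Agent.Lib.Helper1.DT
  Groth.Agent.Lib.Helper10.TensHom Groth.Agent.Lib.Helper10.TensHomD
  Groth.Agent.Lib.Helper10.DCAdj Groth.Agent.Lib.Helper10.DCLoc
  Groth.Agent.Lib.Helper10.DCCech Groth.Agent.Lib.Helper10.DCMain
  Groth.Agent.Lib.Helper10.RHomCx Groth.Agent.Lib.Helper10.DistPair
  Groth.Agent.Lib.Helper10.RGamA Groth.Agent.Lib.Helper10.RGamB Groth.Agent.Lib.Helper10.RGamC
  Groth.Agent.Lib.Helper10.RGamD Groth.Agent.Lib.Helper1.ExtCech Groth.Agent.Lib.Helper1.ExtCech4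
  Groth.Agent.Lib.Helper10.LDC Groth.Agent.Lib.Helper1.LDer

variable {A : Type u} [CommRing A]

section DerivedLevel

/-- `f` acts bijectively on the cohomology of a complex on which it acts invertibly in `D(A)` -/
lemma bijective_smul_homology (f : A) (Y : Cx A) (h : IsIso (f • 𝟙 (Q.obj Y))) (q : ℤ) :
    Function.Bijective (fun x : Y.homology q => f • x) := by
  have e : f • 𝟙 (Q.obj Y) = Q.map (f • 𝟙 Y) := by
    rw [Functor.map_smul, CategoryTheory.Functor.map_id]
  rw [e] at h
  have hq : QuasiIso (f • 𝟙 Y) := (isIso_Q_map_iff_quasiIso _ _).1 h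
  have h1 : IsIso (HomologicalComplex.homologyMap (f • 𝟙 Y) q) := inferInstance
  have h2 : HomologicalComplex.homologyMap (f • 𝟙 Y) q = f • 𝟙 (Y.homology q) := by
    change ShortComplex.homologyMap (f • 𝟙 (Y.sc q)) = _
    rw [ShortComplex.homologyMap_smul, ShortComplex.homologyMap_id]
    rfl
  rw [h2] at h1
  exact (ConcreteCategory.isIso_iff_bijective _).1 h1

/-- **no maps from `f`-power torsion objects to objects on which `f` is invertible** (derived
level) -/
theorem subsingleton_hom_of_PT_of_isIso (f : A) (T Z : Dual.D A)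
    (hT : ∀ q, PT f (Dual.HD A T q)) (hZ : IsIso (f • 𝟙 Z)) : Subsingleton (T ⟶ Z) := by
  let Y := Q.objPreimage Z
  let e : Q.obj Y ≅ Z := Q.objObjPreimageIso Z
  have hY : IsIso (f • 𝟙 (Q.obj Y)) := by
    have : f • 𝟙 (Q.obj Y) = e.hom ≫ (f • 𝟙 Z) ≫ e.inv := by
      rw [Linear.smul_comp, Linear.comp_smul, Category.id_comp, Iso.hom_inv_id]
    rw [this]
    infer_instance
  have hu : QuasiIso (DerCA.locCxUnit (Submonoid.powers f) Y) := by
    rw [quasiIso_iff]
    intro q
    rw [quasiIsoAt_iff_isIso_homologyMap]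
    haveI := isLocalizedModule_homologyMap (Submonoid.powers f) Y q
    apply (ConcreteCategory.isIso_iff_bijective _).2
    exact bijective_of_isLocalizedModule_powers f
      (HomologicalComplex.homologyMap (DerCA.locCxUnit (Submonoid.powers f) Y) q).hom
      (bijective_smul_homology f Y hY q)
  haveI : IsIso (Q.map (DerCA.locCxUnit (Submonoid.powers f) Y)) :=
    (isIso_Q_map_iff_quasiIso _ _).2 hu
  haveI := subsingleton_hom_of_PT' f T ((DerCA.locCx (Submonoid.powers f)).obj Y) hT
    (isIso_smul_locCx f Y)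
  exact ((e.symm ≪≫ asIso (Q.map (DerCA.locCxUnit (Submonoid.powers f) Y))).homToEquiv
    (Z := T)).subsingleton

end DerivedLevel

section Twisted

variable {B : Type u} [CommRing B] (φ : A →+* B)

/-- restriction of scalars is `φ`-semilinear (on multiples of identities) -/
lemma restrictD_map_smul_id (a : A) (Z : Dual.D B) :
    (DRing.restrictD φ).map (φ a • 𝟙 Z) = a • 𝟙 ((DRing.restrictD φ).obj Z) := by
  have key : ∀ Y : Cx B, (DRing.restrictD φ).map (φ a • 𝟙 (Q.obj Y)) =
      a • 𝟙 ((DRing.restrictD φ).obj (Q.obj Y)) := by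
    intro Y
    have h1 : φ a • 𝟙 (Q.obj Y) = Q.map (φ a • 𝟙 Y) := by
      rw [Functor.map_smul, CategoryTheory.Functor.map_id]
    have h2 : ((ModuleCat.restrictScalars.{u} φ).mapHomologicalComplex (ComplexShape.up ℤ)).map
        (φ a • 𝟙 Y) = a • 𝟙 _ := by
      ext n x
      rfl
    have nat := ((ModuleCat.restrictScalars.{u} φ).mapDerivedCategoryFactors).hom.naturality
      (φ a • 𝟙 Y)
    rw [h1]
    rw [← cancel_mono (((ModuleCat.restrictScalars.{u} φ).mapDerivedCategoryFactors).hom.app Y)]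
    refine nat.trans ?_
    change _ ≫ Q.map (((ModuleCat.restrictScalars.{u} φ).mapHomologicalComplex
      (ComplexShape.up ℤ)).map (φ a • 𝟙 Y)) = _
    rw [h2, Functor.map_smul, CategoryTheory.Functor.map_id, Linear.comp_smul, Linear.smul_comp,
      Category.comp_id, Category.id_comp]
  let e : Q.obj (Q.objPreimage Z) ≅ Z := Q.objObjPreimageIso Z
  have h3 : φ a • 𝟙 Z = e.inv ≫ (φ a • 𝟙 (Q.obj (Q.objPreimage Z))) ≫ e.hom := by
    rw [Linear.smul_comp, Linear.comp_smul, Category.id_comp, Iso.inv_hom_id]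
  rw [h3, Functor.map_comp, Functor.map_comp, key, Linear.smul_comp, Linear.comp_smul,
    Category.id_comp, ← Functor.map_comp, Iso.inv_hom_id, CategoryTheory.Functor.map_id]

variable [DRing.HasLBaseChange φ]

/-- derived base change is `φ`-semilinear (on multiples of identities) -/
lemma LBaseChange_map_smul_id (a : A) (X : Dual.D A) :
    (DRing.LBaseChange φ).map (a • 𝟙 X) = φ a • 𝟙 ((DRing.LBaseChange φ).obj X) := by
  obtain ⟨adj⟩ := Groth.Agent.S12898.result φ
  apply (adj.homEquiv _ _).injective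
  rw [adj.homEquiv_unit, adj.homEquiv_unit, restrictD_map_smul_id]
  have nat := adj.unit.naturality (a • 𝟙 X)
  refine nat.symm.trans ?_
  change (a • 𝟙 X) ≫ adj.unit.app X = _
  rw [Linear.smul_comp, Linear.comp_smul, Category.id_comp]
  exact congrArg (fun t => a • t) (Category.comp_id _).symm

lemma isIso_smul_LBaseChange (f : A) (X : Dual.D A) (h : IsIso (f • 𝟙 X)) :
    IsIso (φ f • 𝟙 ((DRing.LBaseChange φ).obj X)) := by
  rw [← LBaseChange_map_smul_id]
  infer_instance

omit [DRing.HasLBaseChange φ] in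
lemma isIso_smul_restrictD (f : A) (Z : Dual.D B) (h : IsIso (φ f • 𝟙 Z)) :
    IsIso (f • 𝟙 ((DRing.restrictD φ).obj Z)) := by
  rw [← restrictD_map_smul_id]
  infer_instance

/-- derived base change preserves objects with `g`-power torsion cohomology -/
theorem pt_LBaseChange (g : A) (X : Dual.D A) (hX : ∀ q, PT g (Dual.HD A X q)) (q : ℤ) :
    PT (φ g) (Dual.HD B ((DRing.LBaseChange φ).obj X) q) := by
  obtain ⟨adj⟩ := Groth.Agent.S12898.result φ
  let W := Q.objPreimage ((DRing.LBaseChange φ).obj X)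
  let e : Q.obj W ≅ (DRing.LBaseChange φ).obj X := Q.objObjPreimageIso _
  have hloc : IsIso (φ g • 𝟙 (Q.obj ((DerCA.locCx (Submonoid.powers (φ g))).obj W))) := by
    have e' : φ g • 𝟙 (Q.obj ((DerCA.locCx (Submonoid.powers (φ g))).obj W)) =
        Q.map (φ g • 𝟙 ((DerCA.locCx (Submonoid.powers (φ g))).obj W)) := by
      rw [Functor.map_smul, CategoryTheory.Functor.map_id]
    rw [e']
    haveI := isIso_smul_locCx (φ g) W
    infer_instance
  haveI : Subsingleton (X ⟶ (DRing.restrictD φ).obj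
      (Q.obj ((DerCA.locCx (Submonoid.powers (φ g))).obj W))) :=
    subsingleton_hom_of_PT_of_isIso g X _ hX (isIso_smul_restrictD φ g _ hloc)
  haveI : Subsingleton ((DRing.LBaseChange φ).obj X ⟶
      Q.obj ((DerCA.locCx (Submonoid.powers (φ g))).obj W)) :=
    (adj.homEquiv _ _).subsingleton
  have hz : Q.map (DerCA.locCxUnit (Submonoid.powers (φ g)) W) = 0 := by
    rw [← cancel_epi e.inv]
    exact Subsingleton.elim _ _
  have hz' : HomologicalComplex.homologyMap (DerCA.locCxUnit (Submonoid.powers (φ g)) W) q = 0 := by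
    have nat := (DerivedCategory.homologyFunctorFactors (ModuleCat.{u} B) q).hom.naturality
      (DerCA.locCxUnit (Submonoid.powers (φ g)) W)
    have h0 : (Q ⋙ DerivedCategory.homologyFunctor (ModuleCat.{u} B) q).map
        (DerCA.locCxUnit (Submonoid.powers (φ g)) W) = 0 := by
      change (DerivedCategory.homologyFunctor (ModuleCat.{u} B) q).map (Q.map _) = 0
      rw [hz, Functor.map_zero]
    rw [h0, zero_comp] at nat
    have hiso : IsIso ((DerivedCategory.homologyFunctorFactors (ModuleCat.{u} B) q).hom.app W) :=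
      inferInstance
    exact (cancel_epi ((DerivedCategory.homologyFunctorFactors (ModuleCat.{u} B) q).hom.app W)).1
      (nat.symm.trans comp_zero.symm)
  have hW : PT (φ g) (W.homology q) := by
    intro x
    haveI := isLocalizedModule_homologyMap (Submonoid.powers (φ g)) W q
    have h0 : (HomologicalComplex.homologyMap (DerCA.locCxUnit (Submonoid.powers (φ g)) W) q).hom x
        = 0 := by rw [hz']; rfl
    obtain ⟨⟨s, ⟨m, rfl⟩⟩, hs⟩ := (IsLocalizedModule.eq_zero_iff (Submonoid.powers (φ g))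
      (HomologicalComplex.homologyMap (DerCA.locCxUnit (Submonoid.powers (φ g)) W) q).hom).1 h0
    exact ⟨m, hs⟩
  let eq : (DerivedCategory.homologyFunctor (ModuleCat.{u} B) q).obj
      ((DRing.LBaseChange φ).obj X) ≅ W.homology q :=
    (DerivedCategory.homologyFunctor (ModuleCat.{u} B) q).mapIso e.symm ≪≫ HDIso W q
  intro x
  obtain ⟨n, hn⟩ := hW (eq.hom.hom x)
  refine ⟨n, ?_⟩
  apply (ModuleCat.mono_iff_injective eq.hom).1 inferInstance
  rw [map_smul, hn, map_zero]

end Twisted

section Induction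

open Pretriangulated

variable {B : Type u} [CommRing B] (φ : A →+* B) [DRing.HasLBaseChange φ]

lemma isIso_smul_Q_locCx (f : A) (Y : Cx A) :
    IsIso (f • 𝟙 (Q.obj ((DerCA.locCx (Submonoid.powers f)).obj Y))) := by
  have e' : f • 𝟙 (Q.obj ((DerCA.locCx (Submonoid.powers f)).obj Y)) =
      Q.map (f • 𝟙 ((DerCA.locCx (Submonoid.powers f)).obj Y)) := by
    rw [Functor.map_smul, CategoryTheory.Functor.map_id]
  rw [e']
  haveI := isIso_smul_locCx f Y
  infer_instance

lemma isIso_smul_shift' (b : B) (Z : Dual.D B) (h : IsIso (b • 𝟙 Z)) (n : ℤ) :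
    IsIso (b • 𝟙 (Z⟦n⟧)) := by
  have e : b • 𝟙 (Z⟦n⟧) = (CategoryTheory.shiftFunctor (Dual.D B) n).map (b • 𝟙 Z) := by
    rw [Functor.map_smul, CategoryTheory.Functor.map_id]
  rw [e]
  infer_instance

/-- derived base change of the mapping cocone triangle -/
lemma isDistPair_LBaseChange_cocone {K L : Cx A} (u : K ⟶ L) :
    IsDistPair ((DRing.LBaseChange φ).map (Q.map (mappingCocone.fst u)))
      ((DRing.LBaseChange φ).map (Q.map u)) := by
  obtain ⟨adj⟩ := Groth.Agent.S12898.result φ
  letI : (DRing.LBaseChange φ).CommShift ℤ := adj.leftAdjointCommShift ℤ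
  haveI : adj.CommShift ℤ := adj.commShift_of_rightAdjoint ℤ
  haveI : (DRing.LBaseChange φ).IsTriangulated := adj.isTriangulated_leftAdjoint
  have h := DerivedCategory.mappingCocone_triangle_distinguished u
  have h' := (DRing.LBaseChange φ).map_distinguished _ h
  exact ⟨_, h'⟩

/-- **Induction**: the augmentation `Č(fs) ⟶ A[0]` induces, after derived base change, a
bijection on maps from objects whose cohomology is `φ g`-power torsion for all `g ∈ fs`. -/
theorem bijective_postcomp_LBaseChange_aug : ∀ (fs : List A) (T : Dual.D B),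
    (∀ g ∈ fs, ∀ q, PT (φ g) (Dual.HD B T q)) →
    Function.Bijective (fun ψ : T ⟶ (DRing.LBaseChange φ).obj
        (Q.obj (DerCA.extCech (ModuleCat.of A A) fs)) =>
      ψ ≫ (DRing.LBaseChange φ).map (Q.map (aug (ModuleCat.of A A) fs)))
  | [], T, _ => by
    have e' : (DRing.LBaseChange φ).map (Q.map (aug (ModuleCat.of A A) [])) = 𝟙 _ := by
      have e : Q.map (aug (ModuleCat.of A A) []) =
          𝟙 (Q.obj (DerCA.extCech (ModuleCat.of A A) [])) := Q.map_id _
      exact (congrArg (fun t => (DRing.LBaseChange φ).map t) e).trans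
        ((DRing.LBaseChange φ).map_id _)
    have : (fun ψ : T ⟶ (DRing.LBaseChange φ).obj
        (Q.obj (DerCA.extCech (ModuleCat.of A A) [])) =>
      ψ ≫ (DRing.LBaseChange φ).map (Q.map (aug (ModuleCat.of A A) []))) = _root_.id := by
      funext ψ
      exact (congrArg (fun x => ψ ≫ x) e').trans (Category.comp_id ψ)
    rw [this]
    exact Function.bijective_id
  | f :: fs, T, hT => by
    have ih := bijective_postcomp_LBaseChange_aug fs T
      (fun g hg => hT g (List.mem_cons_of_mem _ hg))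
    have hf : ∀ q, PT (φ f) (Dual.HD B T q) := hT f List.mem_cons_self
    have hloc : IsIso (φ f • 𝟙 ((DRing.LBaseChange φ).obj (Q.obj
        ((DerCA.locCx (Submonoid.powers f)).obj (DerCA.extCech (ModuleCat.of A A) fs))))) :=
      isIso_smul_LBaseChange φ f _ (isIso_smul_Q_locCx f _)
    have hb := bijective_postcomp_of_isDistPair
      (isDistPair_LBaseChange_cocone φ
        (DerCA.locCxUnit (Submonoid.powers f) (DerCA.extCech (ModuleCat.of A A) fs))) T
      (subsingleton_hom_of_PT_of_isIso (φ f) T _ hf hloc)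
      (subsingleton_hom_of_PT_of_isIso (φ f) T _ hf (isIso_smul_shift' (φ f) _ hloc (-1)))
    have e' : (DRing.LBaseChange φ).map (Q.map (aug (ModuleCat.of A A) (f :: fs))) =
        (DRing.LBaseChange φ).map (Q.map (mappingCocone.fst
          (DerCA.locCxUnit (Submonoid.powers f) (DerCA.extCech (ModuleCat.of A A) fs)))) ≫
        (DRing.LBaseChange φ).map (Q.map (aug (ModuleCat.of A A) fs)) := by
      rw [← Functor.map_comp, ← Functor.map_comp]
      rfl
    have : (fun ψ : T ⟶ (DRing.LBaseChange φ).obj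
        (Q.obj (DerCA.extCech (ModuleCat.of A A) (f :: fs))) =>
        ψ ≫ (DRing.LBaseChange φ).map (Q.map (aug (ModuleCat.of A A) (f :: fs)))) =
        (fun ψ => ψ ≫ (DRing.LBaseChange φ).map (Q.map (aug (ModuleCat.of A A) fs))) ∘
          (fun ψ => ψ ≫ (DRing.LBaseChange φ).map (Q.map (mappingCocone.fst
            (DerCA.locCxUnit (Submonoid.powers f) (DerCA.extCech (ModuleCat.of A A) fs))))) := by
      funext ψ
      exact (congrArg (fun x => ψ ≫ x) e').trans (Category.assoc _ _ _).symm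
    rw [this]
    exact ih.comp hb

end Induction

section Universal

/-- **Universal property of `RΓ_I`**: a map `a : X ⟶ Y` from an object with `I`-power torsion
cohomology which induces bijections on maps from all such objects identifies `X` with
`RΓ_I(Y)`. -/
theorem nonempty_iso_RgammaI_of_universal [IsNoetherianRing A] (I : Ideal A) [DRing.HasRgammaI I]
    {X Y : Dual.D A} (a : X ⟶ Y) (hX : ∀ i : ℤ, LocCoh.IsPowerTorsion I (Dual.HD A X i))
    (hb : ∀ T : Dual.D A, (∀ i : ℤ, LocCoh.IsPowerTorsion I (Dual.HD A T i)) →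
      Function.Bijective (fun ψ : T ⟶ X => ψ ≫ a)) :
    Nonempty (X ≅ (DRing.RgammaI I).obj Y) := by
  have hR := isPowerTorsion_HD_RgammaI I Y
  obtain ⟨u, hu⟩ := (bijective_comp_ε I X Y hX).2 a
  obtain ⟨v, hv⟩ := (hb _ hR).2 ((DRing.RgammaIε I).app Y)
  have hu' : u ≫ (DRing.RgammaIε I).app Y = a := hu
  have hv' : v ≫ a = (DRing.RgammaIε I).app Y := hv
  refine ⟨⟨u, v, ?_, ?_⟩⟩
  · apply (hb X hX).1
    change (u ≫ v) ≫ a = 𝟙 X ≫ a
    rw [Category.assoc, hv', hu', Category.id_comp]
  · apply (bijective_comp_ε I _ Y hR).1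
    change (v ≫ u) ≫ (DRing.RgammaIε I).app Y = 𝟙 _ ≫ (DRing.RgammaIε I).app Y
    rw [Category.assoc, hu', hv', Category.id_comp]

end Universal

section Main

/-- `RΓ_I(A) ≅ Č(fs)` in `D(A)` -/
theorem nonempty_RgammaI_unit_iso [IsNoetherianRing A] (fs : List A) (I : Ideal A)
    (hI : Ideal.span {x : A | x ∈ fs} = I) [DRing.HasRgammaI I] :
    Nonempty ((DRing.RgammaI I).obj (Dual.inD A A) ≅
      Q.obj (DerCA.extCech (ModuleCat.of A A) fs)) := by
  obtain ⟨P, π, hP, -, hπ, -⟩ :=
    exists_kprojective_resolution (DerCA.extCech (ModuleCat.of A A) fs)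
  haveI := hP
  haveI := hπ
  haveI : IsIso (Q.map π) := (isIso_Q_map_iff_quasiIso _ π).2 hπ
  obtain ⟨cf⟩ := nonempty_RgammaI_iso_LP fs I hI π (Q.obj (𝟙_ (Cx A)))
  let e0 : Dual.inD A A ≅ Q.obj (𝟙_ (Cx A)) :=
    (DerivedCategory.singleFunctorIsoCompQ (ModuleCat.{u} A) 0).app (ModuleCat.of A A)
  exact ⟨(DRing.RgammaI I).mapIso e0 ≪≫ cf ≪≫ (LPIso P).app (𝟙_ (Cx A)) ≪≫
    Q.mapIso (λ_ P) ≪≫ asIso (Q.map π)⟩

variable {B : Type u} [CommRing B] (φ : A →+* B) [DRing.HasLBaseChange φ]

/-- `A ⊗^L_A B ≅ B` -/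
theorem nonempty_LBaseChange_unit_iso :
    Nonempty ((DRing.LBaseChange φ).obj (Q.obj ((HomologicalComplex.single (ModuleCat.{u} A)
      (ComplexShape.up ℤ) 0).obj (ModuleCat.of A A))) ≅ Dual.inD B B) := by
  haveI : CochainComplex.IsKProjective (((HomologicalComplex.single (ModuleCat.{u} A)
      (ComplexShape.up ℤ) 0).obj (ModuleCat.of A A) : Cx A)) := by
    refine isKProjective_of_vanishesAbove _ 0 ?_ ?_
    · intro i hi
      exact HomologicalComplex.isZero_single_obj_X _ _ _ _ (by omega)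
    · intro i
      by_cases hi : i = 0
      · subst hi
        exact Module.Projective.of_equiv
          ((HomologicalComplex.singleObjXSelf (ComplexShape.up ℤ) (0 : ℤ)
            (ModuleCat.of A A)).toLinearEquiv).symm
      · haveI : Subsingleton (((HomologicalComplex.single (ModuleCat.{u} A)
            (ComplexShape.up ℤ) 0).obj (ModuleCat.of A A)).X i) :=
          ModuleCat.subsingleton_of_isZero (HomologicalComplex.isZero_single_obj_X _ _ _ _ hi)
        infer_instance
  let e1 := lbcIso φ ((HomologicalComplex.single (ModuleCat.{u} A)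
      (ComplexShape.up ℤ) 0).obj (ModuleCat.of A A))
  let e2 : (bcCx φ).obj ((HomologicalComplex.single (ModuleCat.{u} A)
      (ComplexShape.up ℤ) 0).obj (ModuleCat.of A A)) ≅
      (HomologicalComplex.single (ModuleCat.{u} B) (ComplexShape.up ℤ) 0).obj
        ((ModuleCat.extendScalars.{u, u, u} φ).obj (ModuleCat.of A A)) :=
    (HomologicalComplex.singleMapHomologicalComplex (ModuleCat.extendScalars.{u, u, u} φ)
      (ComplexShape.up ℤ) 0).app (ModuleCat.of A A)
  letI := φ.toAlgebra
  let e3 : (ModuleCat.extendScalars.{u, u, u} φ).obj (ModuleCat.of A A) ≅ ModuleCat.of B B :=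
    ((bcEquiv φ (ModuleCat.of A A)).trans
      (TensorProduct.AlgebraTensorModule.rid A B B)).toModuleIso
  exact ⟨e1 ≪≫ Q.mapIso e2 ≪≫
    ((DerivedCategory.singleFunctorIsoCompQ (ModuleCat.{u} B) 0).app _).symm ≪≫
    (DerivedCategory.singleFunctor (ModuleCat.{u} B) 0).mapIso e3⟩

end Main

section Endo

lemma pt_of_pt_pow (g : A) (n : ℕ) {N : Type*} [AddCommGroup N] [Module A N]
    (h : PT (g ^ n) N) : PT g N := fun x => by
  obtain ⟨m, hm⟩ := h x
  exact ⟨n * m, by rw [pow_mul]; exact hm⟩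

lemma pt_pow_of_pt (g : A) (n : ℕ) (hn : 0 < n) {N : Type*} [AddCommGroup N] [Module A N]
    (h : PT g N) : PT (g ^ n) N := fun x => by
  obtain ⟨m, hm⟩ := h x
  refine ⟨m, ?_⟩
  rw [← pow_mul]
  obtain ⟨k, hk⟩ : ∃ k, n * m = m + k := ⟨n * m - m, by
    have : m ≤ n * m := Nat.le_mul_of_pos_left m hn
    omega⟩
  rw [hk, pow_add, mul_comm, mul_smul, hm, smul_zero]

/-- For a ring endomorphism `φ` of a Noetherian ring `A` sending every element to a positive
power of itself (e.g. the Frobenius), `RΓ_I(A) ⊗^L_{A,φ} A ≅ RΓ_I(A)`. -/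
theorem nonempty_LBaseChange_RgammaI_iso [IsNoetherianRing A] (φ : A →+* A)
    [DRing.HasLBaseChange φ] (hφ : ∀ g : A, ∃ n : ℕ, 0 < n ∧ φ g = g ^ n)
    (I : Ideal A) [DRing.HasRgammaI I] :
    Nonempty ((DRing.LBaseChange φ).obj ((DRing.RgammaI I).obj (Dual.inD A A)) ≅
      (DRing.RgammaI I).obj (Dual.inD A A)) := by
  obtain ⟨fs, hfs⟩ := exists_list_span I
  obtain ⟨e1⟩ := nonempty_RgammaI_unit_iso fs I hfs.symm
  obtain ⟨e2⟩ := nonempty_LBaseChange_unit_iso φ
  have hfg : I.FG := IsNoetherian.noetherian I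
  have hC : ∀ g ∈ fs, ∀ q, PT g (Dual.HD A (Q.obj (DerCA.extCech (ModuleCat.of A A) fs)) q) := by
    intro g hg q x
    obtain ⟨n, hn⟩ := pt_extCechH fs (ModuleCat.of A A) g hg q
      ((HDIso (DerCA.extCech (ModuleCat.of A A) fs) q).hom.hom x)
    refine ⟨n, ?_⟩
    apply (ModuleCat.mono_iff_injective (HDIso (DerCA.extCech (ModuleCat.of A A) fs) q).hom).1
      inferInstance
    rw [map_smul, hn, map_zero]
  have hX : ∀ i : ℤ, LocCoh.IsPowerTorsion I (Dual.HD A ((DRing.LBaseChange φ).obj
      (Q.obj (DerCA.extCech (ModuleCat.of A A) fs))) i) := fun i =>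
    Groth.Agent.Lib.Helper10.PTC.isPowerTorsion_of_pt I fs hfs hfg (fun g hg => by
      obtain ⟨n, -, hn⟩ := hφ g
      have := pt_LBaseChange φ g _ (hC g hg) i
      rw [hn] at this
      exact pt_of_pt_pow g n this)
  have hb : ∀ T : Dual.D A, (∀ i : ℤ, LocCoh.IsPowerTorsion I (Dual.HD A T i)) →
      Function.Bijective (fun ψ : T ⟶ (DRing.LBaseChange φ).obj
        (Q.obj (DerCA.extCech (ModuleCat.of A A) fs)) =>
        ψ ≫ (DRing.LBaseChange φ).map (Q.map (aug (ModuleCat.of A A) fs))) := fun T hT =>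
    bijective_postcomp_LBaseChange_aug φ fs T (fun g hg q => by
      obtain ⟨n, hn0, hn⟩ := hφ g
      rw [hn]
      exact pt_pow_of_pt g n hn0 (PT_of_isPowerTorsion (I := I)
        (by rw [hfs]; exact Ideal.subset_span hg) (hT q)))
  obtain ⟨e3⟩ := nonempty_iso_RgammaI_of_universal I
    ((DRing.LBaseChange φ).map (Q.map (aug (ModuleCat.of A A) fs))) hX hb
  exact ⟨(DRing.LBaseChange φ).mapIso e1 ≪≫ e3 ≪≫ (DRing.RgammaI I).mapIso e2⟩

end Endo

end Groth.Agent.Lib.Helper10.FrobRG
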