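import Mathlib

/-!
# The formal computation behind the functional equation of the zeta function
-/

namespace Groth.Agent.Lib.Helper10.FrobZeta

open Polynomial

lemma sum_alt_eq (n : ℕ) (m : ℕ → ℤ) :
    ∑ i ∈ Finset.range (2 * n + 1), (-1 : ℤ) ^ i * m i =
      ∑ i ∈ Finset.range (n + 1), m (2 * i) - ∑ i ∈ Finset.range n, m (2 * i + 1) := by
  induction n with
  | zero => simp
  | succ n ih =>
    rw [show 2 * (n + 1) + 1 = (2 * n + 1) + 1 + 1 by ring, Finset.sum_range_succ,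
      Finset.sum_range_succ, ih, Finset.sum_range_succ (fun i => m (2 * i)) (n + 1),
      Finset.sum_range_succ (fun i => m (2 * i + 1)) n]
    have h1 : (-1 : ℤ) ^ (2 * n + 1) = -1 := by
      rw [pow_succ, pow_mul]; simp
    have h2 : (-1 : ℤ) ^ (2 * n + 1 + 1) = 1 := by
      rw [pow_succ, h1]; simp
    rw [h1, h2, show 2 * n + 1 + 1 = 2 * (n + 1) by ring]
    ring

variable {K : Type*} [Field K]

/-- Reflection of the odd-indexed product. -/
lemma prod_odd_reflect {M : Type*} [CommMonoid M] (n : ℕ) (g : ℕ → M) :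
    ∏ i ∈ Finset.range n, g (2 * n - (2 * i + 1)) = ∏ i ∈ Finset.range n, g (2 * i + 1) := by
  rw [← Finset.prod_range_reflect (fun i => g (2 * i + 1)) n]
  refine Finset.prod_congr rfl fun i hi => ?_
  rw [Finset.mem_range] at hi
  congr 1
  omega

/-- Reflection of the even-indexed product. -/
lemma prod_even_reflect {M : Type*} [CommMonoid M] (n : ℕ) (g : ℕ → M) :
    ∏ i ∈ Finset.range (n + 1), g (2 * n - 2 * i) = ∏ i ∈ Finset.range (n + 1), g (2 * i) := by
  rw [← Finset.prod_range_reflect (fun i => g (2 * i)) (n + 1)]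
  refine Finset.prod_congr rfl fun i hi => ?_
  rw [Finset.mem_range] at hi
  congr 1
  omega

lemma div_div_aux {R : Type*} [Field R] (a b B y e f B' z : R) :
    (a * b * B / y) / (e * f * B' / z) = (a / e) * (b / f) * (z / y) * (B / B') := by
  simp only [div_eq_mul_inv, mul_inv, inv_inv]
  ring

theorem functional_equation (n : ℕ) (q : K) (hq : q ≠ 0) (m : ℕ → ℕ) (d : ℕ → K)
    (P : ℕ → K[X])
    (H1 : ∀ i ≤ 2 * n, d i * d (2 * n - i) = q ^ (n * m i))
    (H3 : ∀ i ≤ 2 * n, aeval ((RatFunc.X : RatFunc K)⁻¹ * RatFunc.C (q ^ n)⁻¹) (P i) *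
        (RatFunc.C (q ^ n) * RatFunc.X) ^ (m i) =
      (-1) ^ (m i) * RatFunc.C (d i) * algebraMap K[X] (RatFunc K) (P (2 * n - i)))
    (h : ℤ) (H4 : (n : ℤ) * (∑ i ∈ Finset.range (2 * n + 1), (-1 : ℤ) ^ i * (m i : ℤ)) = 2 * h) :
    ∃ ε : K, (ε = 1 ∨ ε = -1) ∧
      aeval ((RatFunc.X : RatFunc K)⁻¹ * RatFunc.C (q ^ n)⁻¹)
          (∏ i ∈ Finset.range n, P (2 * i + 1)) /
        aeval ((RatFunc.X : RatFunc K)⁻¹ * RatFunc.C (q ^ n)⁻¹)
          (∏ i ∈ Finset.range (n + 1), P (2 * i)) =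
      RatFunc.C ε * RatFunc.C q ^ h *
        (RatFunc.X : RatFunc K) ^ (∑ i ∈ Finset.range (2 * n + 1), (-1 : ℤ) ^ i * (m i : ℤ)) *
        (algebraMap K[X] (RatFunc K) (∏ i ∈ Finset.range n, P (2 * i + 1)) /
          algebraMap K[X] (RatFunc K) (∏ i ∈ Finset.range (n + 1), P (2 * i))) := by
  set u : RatFunc K := (RatFunc.X : RatFunc K)⁻¹ * RatFunc.C (q ^ n)⁻¹ with hu
  set x : RatFunc K := RatFunc.C (q ^ n) * RatFunc.X with hxdef
  have hCq : (RatFunc.C q : RatFunc K) ≠ 0 := by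
    rw [Ne, map_eq_zero]; exact hq
  have hx : x ≠ 0 := by
    rw [hxdef]
    refine mul_ne_zero ?_ RatFunc.X_ne_zero
    rw [map_pow]
    exact pow_ne_zero _ hCq
  set Mo := ∑ i ∈ Finset.range n, m (2 * i + 1) with hMo
  set Me := ∑ i ∈ Finset.range (n + 1), m (2 * i) with hMe
  set Do := ∏ i ∈ Finset.range n, d (2 * i + 1) with hDo
  set De := ∏ i ∈ Finset.range (n + 1), d (2 * i) with hDe
  set E := ∑ i ∈ Finset.range (2 * n + 1), (-1 : ℤ) ^ i * (m i : ℤ) with hE
  have hEeq : E = (Me : ℤ) - (Mo : ℤ) := by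
    rw [hE, sum_alt_eq n (fun i => (m i : ℤ)), hMe, hMo]
    push_cast
    rfl
  rw [map_prod, map_prod, map_prod, map_prod]
  set Ao := ∏ i ∈ Finset.range n, aeval u (P (2 * i + 1)) with hAo
  set Ae := ∏ i ∈ Finset.range (n + 1), aeval u (P (2 * i)) with hAe
  set Bo := ∏ i ∈ Finset.range n, algebraMap K[X] (RatFunc K) (P (2 * i + 1)) with hBo
  set Be := ∏ i ∈ Finset.range (n + 1), algebraMap K[X] (RatFunc K) (P (2 * i)) with hBe
  have hodd : Ao * x ^ Mo = (-1) ^ Mo * RatFunc.C Do * Bo := by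
    calc Ao * x ^ Mo = ∏ i ∈ Finset.range n, (aeval u (P (2 * i + 1)) * x ^ (m (2 * i + 1))) := by
          rw [Finset.prod_mul_distrib, Finset.prod_pow_eq_pow_sum]
      _ = ∏ i ∈ Finset.range n, ((-1) ^ (m (2 * i + 1)) * RatFunc.C (d (2 * i + 1)) *
            algebraMap K[X] (RatFunc K) (P (2 * n - (2 * i + 1)))) := by
          refine Finset.prod_congr rfl fun i hi => ?_
          rw [Finset.mem_range] at hi
          exact H3 (2 * i + 1) (by omega)
      _ = (-1) ^ Mo * RatFunc.C Do * Bo := by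
          rw [Finset.prod_mul_distrib, Finset.prod_mul_distrib, Finset.prod_pow_eq_pow_sum,
            ← map_prod, prod_odd_reflect n (fun j => algebraMap K[X] (RatFunc K) (P j))]
  have heven : Ae * x ^ Me = (-1) ^ Me * RatFunc.C De * Be := by
    calc Ae * x ^ Me = ∏ i ∈ Finset.range (n + 1), (aeval u (P (2 * i)) * x ^ (m (2 * i))) := by
          rw [Finset.prod_mul_distrib, Finset.prod_pow_eq_pow_sum]
      _ = ∏ i ∈ Finset.range (n + 1), ((-1) ^ (m (2 * i)) * RatFunc.C (d (2 * i)) *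
            algebraMap K[X] (RatFunc K) (P (2 * n - 2 * i))) := by
          refine Finset.prod_congr rfl fun i hi => ?_
          rw [Finset.mem_range] at hi
          exact H3 (2 * i) (by omega)
      _ = (-1) ^ Me * RatFunc.C De * Be := by
          rw [Finset.prod_mul_distrib, Finset.prod_mul_distrib, Finset.prod_pow_eq_pow_sum,
            ← map_prod, prod_even_reflect n (fun j => algebraMap K[X] (RatFunc K) (P j))]
  have hDo2 : Do * Do = q ^ (n * Mo) := by
    calc Do * Do = Do * ∏ i ∈ Finset.range n, d (2 * n - (2 * i + 1)) := by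
          rw [prod_odd_reflect n d]
      _ = ∏ i ∈ Finset.range n, q ^ (n * m (2 * i + 1)) := by
          rw [hDo, ← Finset.prod_mul_distrib]
          refine Finset.prod_congr rfl fun i hi => ?_
          rw [Finset.mem_range] at hi
          exact H1 (2 * i + 1) (by omega)
      _ = q ^ (n * Mo) := by
          rw [Finset.prod_pow_eq_pow_sum, hMo, Finset.mul_sum]
  have hDe2 : De * De = q ^ (n * Me) := by
    calc De * De = De * ∏ i ∈ Finset.range (n + 1), d (2 * n - 2 * i) := by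
          rw [prod_even_reflect n d]
      _ = ∏ i ∈ Finset.range (n + 1), q ^ (n * m (2 * i)) := by
          rw [hDe, ← Finset.prod_mul_distrib]
          refine Finset.prod_congr rfl fun i hi => ?_
          rw [Finset.mem_range] at hi
          exact H1 (2 * i) (by omega)
      _ = q ^ (n * Me) := by
          rw [Finset.prod_pow_eq_pow_sum, hMe, Finset.mul_sum]
  have hDe0 : De ≠ 0 := by
    intro h0
    rw [h0, mul_zero] at hDe2
    exact pow_ne_zero _ hq hDe2.symm
  -- the ratio of determinants is `± q ^ (-h)`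
  have hΔ : (Do / De) ^ 2 = (q ^ (-h)) ^ 2 := by
    rw [div_pow, sq, sq, hDo2, hDe2, ← zpow_natCast, ← zpow_natCast q, ← zpow_sub₀ hq,
      ← zpow_natCast (q ^ (-h)), ← zpow_mul]
    congr 1
    push_cast
    have : (n : ℤ) * E = 2 * h := H4
    rw [hEeq] at this
    linarith
  obtain ⟨δ, hδ, hδeq⟩ : ∃ δ : K, (δ = 1 ∨ δ = -1) ∧ Do / De = δ * q ^ (-h) := by
    rcases sq_eq_sq_iff_eq_or_eq_neg.mp hΔ with h1 | h1
    · exact ⟨1, Or.inl rfl, by rw [h1, one_mul]⟩
    · exact ⟨-1, Or.inr rfl, by rw [h1]; ring⟩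
  set s : K := (-1) ^ (Mo + Me) with hs
  have hs1 : s = 1 ∨ s = -1 := neg_one_pow_eq_or K _
  refine ⟨s * δ, ?_, ?_⟩
  · rcases hs1 with h1 | h1 <;> rcases hδ with h2 | h2 <;> rw [h1, h2] <;> simp
  have hAo' : Ao = (-1) ^ Mo * RatFunc.C Do * Bo / x ^ Mo :=
    eq_div_of_mul_eq (pow_ne_zero _ hx) hodd
  have hAe' : Ae = (-1) ^ Me * RatFunc.C De * Be / x ^ Me :=
    eq_div_of_mul_eq (pow_ne_zero _ hx) heven
  rw [hAo', hAe', div_div_aux]
  have e1 : ((-1 : RatFunc K) ^ Mo / (-1) ^ Me) = RatFunc.C s := by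
    rw [hs, map_pow, map_neg, map_one, pow_add, div_eq_mul_inv, ← inv_pow, inv_neg_one]
  have e2 : (RatFunc.C Do / RatFunc.C De : RatFunc K) = RatFunc.C δ * RatFunc.C q ^ (-h) := by
    rw [← map_div₀, hδeq, map_mul, map_zpow₀]
  have e3 : x ^ Me / x ^ Mo = RatFunc.C q ^ (2 * h) * RatFunc.X ^ E := by
    rw [← zpow_natCast, ← zpow_natCast x, ← zpow_sub₀ hx, ← hEeq, hxdef, mul_zpow, map_pow,
      ← zpow_natCast, ← zpow_mul, H4]
  rw [e1, e2, e3, map_mul]
  have e4 : (RatFunc.C q : RatFunc K) ^ (-h) * RatFunc.C q ^ (2 * h) = RatFunc.C q ^ h := by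
    rw [← zpow_add₀ hCq]
    congr 1
    ring
  calc RatFunc.C s * (RatFunc.C δ * RatFunc.C q ^ (-h)) * (RatFunc.C q ^ (2 * h) * RatFunc.X ^ E) *
        (Bo / Be)
      = RatFunc.C s * RatFunc.C δ * (RatFunc.C q ^ (-h) * RatFunc.C q ^ (2 * h)) * RatFunc.X ^ E *
        (Bo / Be) := by ring
    _ = _ := by rw [e4]

section Parity

/-- A finite-dimensional space with a perfect antisymmetric pairing has even dimension
(characteristic zero). -/
theorem even_finrank_of_antisymm {V : Type*} [CharZero K] [AddCommGroup V] [Module K V]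
    [FiniteDimensional K V] (p : V →ₗ[K] V →ₗ[K] K) [p.IsPerfPair]
    (hp : ∀ a b, p a b = - p b a) : Even (Module.finrank K V) := by
  classical
  set b := Module.finBasis K V with hb
  set G := LinearMap.toMatrix₂ b b p with hG
  have hdet : G.det ≠ 0 := by
    rw [hG, ← LinearMap.separatingLeft_iff_det_ne_zero b]
    intro x hx
    have : p x = 0 := by
      ext y
      exact hx y
    exact (map_eq_zero_iff p (LinearMap.IsPerfPair.bijective_left p).injective).mp this
  have hT : G.transpose = -G := by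
    ext i j
    rw [Matrix.transpose_apply, Matrix.neg_apply, hG, LinearMap.toMatrix₂_apply,
      LinearMap.toMatrix₂_apply]
    exact hp _ _
  have h1 : G.det = (-1) ^ Module.finrank K V * G.det := by
    conv_lhs => rw [← Matrix.det_transpose, hT, Matrix.det_neg, Fintype.card_fin]
  by_contra hodd
  rw [Nat.not_even_iff_odd] at hodd
  rw [hodd.neg_one_pow] at h1
  have : (2 : K) * G.det = 0 := by linear_combination h1
  rcases mul_eq_zero.mp this with h2 | h2
  · exact two_ne_zero h2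
  · exact hdet h2

lemma sum_alt_symm (n : ℕ) (m : ℕ → ℤ) (H2 : ∀ i ≤ 2 * n, m (2 * n - i) = m i) :
    ∑ i ∈ Finset.range (2 * n + 1), (-1 : ℤ) ^ i * m i =
      2 * ∑ i ∈ Finset.range n, (-1 : ℤ) ^ i * m i + (-1) ^ n * m n := by
  rw [show 2 * n + 1 = n + (n + 1) by ring, Finset.sum_range_add, Finset.sum_range_succ',
    ← Finset.sum_range_reflect (fun j => (-1 : ℤ) ^ (n + (j + 1)) * m (n + (j + 1))) n]
  have : ∑ j ∈ Finset.range n, (-1 : ℤ) ^ (n + (n - 1 - j + 1)) * m (n + (n - 1 - j + 1)) =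
      ∑ j ∈ Finset.range n, (-1 : ℤ) ^ j * m j := by
    refine Finset.sum_congr rfl fun j hj => ?_
    rw [Finset.mem_range] at hj
    have e1 : n + (n - 1 - j + 1) = 2 * n - j := by omega
    rw [e1, H2 j (by omega)]
    congr 1
    have e2 : (-1 : ℤ) ^ (2 * n - j) * (-1) ^ j = 1 := by
      rw [← pow_add, show 2 * n - j + j = 2 * n by omega, pow_mul]
      simp
    have e3 : (-1 : ℤ) ^ j * (-1) ^ j = 1 := by
      rw [← pow_add, ← two_mul, pow_mul]
      simp
    calc (-1 : ℤ) ^ (2 * n - j) = (-1) ^ (2 * n - j) * ((-1) ^ j * (-1) ^ j) := by rw [e3, mul_one]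
      _ = ((-1) ^ (2 * n - j) * (-1) ^ j) * (-1) ^ j := by ring
      _ = (-1) ^ j := by rw [e2, one_mul]
  rw [this, add_zero]
  ring

lemma exists_half (n : ℕ) (m : ℕ → ℕ) (H2 : ∀ i ≤ 2 * n, m (2 * n - i) = m i)
    (hmid : Odd n → Even (m n)) :
    ∃ h : ℤ, (n : ℤ) * (∑ i ∈ Finset.range (2 * n + 1), (-1 : ℤ) ^ i * (m i : ℤ)) = 2 * h := by
  have key := sum_alt_symm n (fun i => (m i : ℤ)) (fun i hi => by rw [H2 i hi])
  have hev : Even ((n : ℤ) * (∑ i ∈ Finset.range (2 * n + 1), (-1 : ℤ) ^ i * (m i : ℤ))) := by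
    rcases Nat.even_or_odd n with hn | hn
    · exact Even.mul_right (by exact_mod_cast hn) _
    · apply Even.mul_left
      rw [key]
      refine Even.add (even_two_mul _) (Even.mul_left ?_ _)
      exact_mod_cast hmid hn
  obtain ⟨h, hh⟩ := hev
  exact ⟨h, by rw [hh]; ring⟩

end Parity

end Groth.Agent.Lib.Helper10.FrobZeta
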