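import Mathlib

/-!
# Finite fibre ⇒ generic fibre has at most one point (helper10; Mathlib-only)
-/

universe u

namespace Groth.Agent.Lib.Helper10.GenFibSub

open CategoryTheory CategoryTheory.Limits AlgebraicGeometry TopologicalSpace

variable {X Y : Scheme.{u}}

set_option backward.isDefEq.respectTransparency.types false in
/-- If the fibre through `x` is finite then `f` is quasi-finite at `x`. -/
theorem quasiFiniteAt_of_finite_fiber (f : X ⟶ Y) [LocallyOfFiniteType f] (x : X)
    [Finite ↥(f.fiber (f x))] : f.QuasiFiniteAt x := by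
  rw [Scheme.Hom.quasiFiniteAt_iff_isOpen_singleton_asFiber]
  haveI : LocallyOfFiniteType (f.fiberToSpecResidueField (f x)) :=
    MorphismProperty.pullback_snd _ _ inferInstance
  haveI : LocallyQuasiFinite (f.fiberToSpecResidueField (f x)) :=
    LocallyQuasiFinite.of_finite_preimage_singleton _ fun _ => Set.toFinite _
  haveI : IsLocallyArtinian (f.fiber (f x)) :=
    IsLocallyArtinian.of_locallyQuasiFinite (f.fiberToSpecResidueField (f x))
  haveI : DiscreteTopology ↥(f.fiber (f x)) := inferInstance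
  exact isOpen_discrete _

/-- If `f` is quasi-finite at `ξ` then `ξ` is the only point of its fibre specializing from `ξ`
... in fact: any `x'` in the same fibre with `ξ ⤳ x'` equals `ξ`. -/
theorem eq_of_specializes_of_quasiFiniteAt (f : X ⟶ Y) [LocallyOfFiniteType f] (ξ x' : X)
    (hq : f.QuasiFiniteAt ξ) (hf : f x' = f ξ) (hsp : ξ ⤳ x') : x' = ξ := by
  rw [Scheme.Hom.quasiFiniteAt_iff_isOpen_singleton_asFiber] at hq
  -- the fibre is Jacobson, so the open singleton contains a closed point
  have hdense : closure (closedPoints ↥(f.fiber (f ξ))) = Set.univ := closure_closedPoints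
  have hcl : IsClosed ({f.asFiber ξ} : Set ↥(f.fiber (f ξ))) := by
    have : (({f.asFiber ξ} : Set ↥(f.fiber (f ξ))) ∩ closedPoints ↥(f.fiber (f ξ))).Nonempty := by
      have hd : Dense (closedPoints ↥(f.fiber (f ξ))) := dense_iff_closure_eq.mpr hdense
      exact hd.inter_open_nonempty _ hq ⟨_, rfl⟩
    obtain ⟨z, hz1, hz2⟩ := this
    rw [Set.mem_singleton_iff] at hz1
    rw [← hz1]; exact hz2
  let a' : ↥(f.fiber (f ξ)) := (f.fiberHomeo (f ξ)).symm ⟨x', hf⟩
  have ha' : f.fiberι (f ξ) a' = x' := f.fiberι_fiberHomeo_symm _ _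
  have hsp' : f.asFiber ξ ⤳ a' := by
    rw [← (f.fiberι (f ξ)).isEmbedding.toIsInducing.specializes_iff, ha', f.fiberι_asFiber]
    exact hsp
  have : a' ∈ ({f.asFiber ξ} : Set ↥(f.fiber (f ξ))) := hsp'.mem_closed hcl rfl
  rw [Set.mem_singleton_iff] at this
  rw [← ha', this, f.fiberι_asFiber]

theorem subsingleton_generic_fiber (f : X ⟶ Y) [IrreducibleSpace ↥Y] [IrreducibleSpace ↥X]
    [LocallyOfFiniteType f] (y : Y) [Nonempty ↥(f.fiber y)] [Finite ↥(f.fiber y)] :
    Subsingleton ↥(f.fiber (genericPoint ↥Y)) := by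
  obtain ⟨z⟩ := (inferInstance : Nonempty ↥(f.fiber y))
  obtain ⟨x, rfl⟩ : ∃ x : X, f x = y := ⟨f.fiberι y z, by
    have := (f.fiberHomeo y z).2
    simpa using this⟩
  have hq : f.QuasiFiniteAt x := quasiFiniteAt_of_finite_fiber f x
  set ξ := genericPoint ↥X with hξ
  have hξq : f.QuasiFiniteAt ξ := by
    have hopen : IsOpen {x | f.QuasiFiniteAt x} := f.isOpen_quasiFiniteAt
    have := ((genericPoint_spec ↥X).mem_open_set_iff hopen).mpr ⟨x, trivial, hq⟩
    exact this
  refine ⟨fun a b => ?_⟩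
  have key : ∀ c : ↥(f.fiber (genericPoint ↥Y)), f.fiberι _ c = ξ := by
    intro c
    have hc : f (f.fiberι _ c) = genericPoint ↥Y := (f.fiberHomeo _ c).2
    have hsp : ξ ⤳ f.fiberι _ c := (genericPoint_spec ↥X).specializes trivial
    have h1 : f ξ ⤳ genericPoint ↥Y := hc ▸ hsp.map f.continuous
    have h2 : genericPoint ↥Y ⤳ f ξ := (genericPoint_spec ↥Y).specializes trivial
    have hfξ : f ξ = genericPoint ↥Y := (h1.antisymm h2).eq
    exact eq_of_specializes_of_quasiFiniteAt f ξ _ hξq (hc.trans hfξ.symm) hsp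
  apply (f.fiberι _).isEmbedding.injective
  rw [key a, key b]

end Groth.Agent.Lib.Helper10.GenFibSub
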