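import Mathlib

/-!
# Irreducibility from irreducible general fibres (helper10)
-/

namespace Groth.Agent.Lib.Helper10.GenFibre

open Set Topology

/-- If `f : X → Z` has `Z` irreducible, `X` with finitely many irreducible components each of
which dominates `Z`, images of open sets with dense image contain nonempty opens, every nonempty
open of `Z` contains a point satisfying `P`, and fibres over `P`-points of some nonempty open are
irreducible, then `X` is irreducible. -/
theorem irreducibleSpace_of_general_fibre {X Z : Type*} [TopologicalSpace X] [TopologicalSpace Z]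
    [IrreducibleSpace Z] (f : X → Z) (hf : Continuous f)
    (hfin : (irreducibleComponents X).Finite)
    (hopen : ∀ O : Set X, IsOpen O → Dense (f '' O) →
      ∃ U : Set Z, IsOpen U ∧ U.Nonempty ∧ U ⊆ f '' O)
    (P : Z → Prop) (hP : ∀ U : Set Z, IsOpen U → U.Nonempty → ∃ z ∈ U, P z)
    (hgen : ∃ V : Set Z, IsOpen V ∧ V.Nonempty ∧ ∀ z ∈ V, P z → IsIrreducible (f ⁻¹' {z}))
    (hdom : ∀ W ∈ irreducibleComponents X, Dense (f '' W)) : IrreducibleSpace X := by
  classical
  obtain ⟨V, hVo, hVne, hV⟩ := hgen
  -- the open part of each component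
  have hO : ∀ W ∈ irreducibleComponents X,
      ∃ U : Set Z, IsOpen U ∧ U.Nonempty ∧ U ⊆ f '' (⋃₀ (irreducibleComponents X \ {W}))ᶜ := by
    intro W hW
    apply hopen
    · rw [Set.sUnion_eq_biUnion, isOpen_compl_iff]
      exact hfin.sdiff.isClosed_biUnion fun W' hW' ↦
        isClosed_of_mem_irreducibleComponents W' hW'.1
    · have hcl := closure_sUnion_irreducibleComponents_sdiff_singleton hfin W hW
      have h1 : f '' W ⊆ closure (f '' (⋃₀ (irreducibleComponents X \ {W}))ᶜ) := by
        have h2 : f '' closure (⋃₀ (irreducibleComponents X \ {W}))ᶜ ⊆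
            closure (f '' (⋃₀ (irreducibleComponents X \ {W}))ᶜ) :=
          image_closure_subset_closure_image hf
        rwa [hcl] at h2
      have h3 : Dense (closure (f '' (⋃₀ (irreducibleComponents X \ {W}))ᶜ)) :=
        (hdom W hW).mono h1
      rwa [dense_closure] at h3
  choose! U hUo hUne hUsub using hO
  -- intersect all these opens with `V`
  let T : Finset (Set Z) := insert V (hfin.toFinset.image U)
  have hTo : ∀ u ∈ T, IsOpen u := by
    intro u hu
    rcases Finset.mem_insert.mp hu with rfl | hu
    · exact hVo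
    · obtain ⟨W, hW, rfl⟩ := Finset.mem_image.mp hu
      exact hUo W (hfin.mem_toFinset.mp hW)
  have hTne : ∀ u ∈ T, ((Set.univ : Set Z) ∩ u).Nonempty := by
    intro u hu
    rw [Set.univ_inter]
    rcases Finset.mem_insert.mp hu with rfl | hu
    · exact hVne
    · obtain ⟨W, hW, rfl⟩ := Finset.mem_image.mp hu
      exact hUne W (hfin.mem_toFinset.mp hW)
  have hne := isIrreducible_iff_sInter.mp (IrreducibleSpace.isIrreducible_univ Z) T hTo hTne
  rw [Set.univ_inter] at hne
  have hopenT : IsOpen (⋂₀ (T : Set (Set Z))) := T.finite_toSet.isOpen_sInter hTo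
  obtain ⟨z, hzT, hPz⟩ := hP _ hopenT hne
  have hzV : z ∈ V := hzT V (by simp [T])
  have hzU : ∀ W ∈ irreducibleComponents X, z ∈ U W := by
    intro W hW
    apply hzT
    simp only [T, Finset.coe_insert, Finset.coe_image, Set.mem_insert_iff, Set.mem_image]
    exact Or.inr ⟨W, by simpa using hW, rfl⟩
  have hF := hV z hzV hPz
  obtain ⟨W₀, hW₀, hFW₀⟩ := isIrreducible_iff_sUnion_isClosed.mp hF hfin.toFinset
    (fun W hW ↦ isClosed_of_mem_irreducibleComponents W (hfin.mem_toFinset.mp hW))
    (by rw [hfin.coe_toFinset, sUnion_irreducibleComponents]; exact Set.subset_univ _)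
  rw [hfin.mem_toFinset] at hW₀
  have hall : ∀ W ∈ irreducibleComponents X, W = W₀ := by
    intro W hW
    obtain ⟨y, hyO, hyz⟩ := hUsub W hW (hzU W hW)
    have hyW₀ : y ∈ W₀ := hFW₀ hyz
    by_contra hne
    apply hyO
    exact Set.mem_sUnion.mpr ⟨W₀, ⟨hW₀, fun h => hne (Set.mem_singleton_iff.mp h).symm⟩, hyW₀⟩
  have huniv : (Set.univ : Set X) = W₀ := by
    rw [← sUnion_irreducibleComponents]
    apply Set.Subset.antisymm
    · apply Set.sUnion_subset
      intro W hW
      rw [hall W hW]
    · exact Set.subset_sUnion_of_mem hW₀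
  have : IsIrreducible (Set.univ : Set X) := huniv ▸ hW₀.1
  exact irreducibleSpace_def X |>.mpr this

end Groth.Agent.Lib.Helper10.GenFibre
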