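import Mathlib
import Groth.Agent.Lib.Helper2Constr

/-!
# Closed points of constructible sets and finite type maps of Jacobson rings (helper10)
-/

set_option autoImplicit false
open Topology TopologicalSpace Set

namespace Groth.Agent.Lib.Helper10.JacobsonImage

universe u

section top

variable {X : Type u} [TopologicalSpace X]

/-- every point of a constructible set lies in a locally closed subset of it. -/
theorem exists_isLocallyClosed_of_mem {E : Set X} (hE : IsConstructible E) :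
    ∀ y ∈ E, ∃ L : Set X, IsLocallyClosed L ∧ y ∈ L ∧ L ⊆ E := by
  refine Groth.Agent.Lib.Helper2.Constr.sdiff_union_induction
    (P := fun s => ∀ y ∈ s, ∃ L : Set X, IsLocallyClosed L ∧ y ∈ L ∧ L ⊆ s) ?_ ?_ hE
  · intro U V hU _ hV _ y hy
    exact ⟨U \ V, hU.isLocallyClosed.inter hV.isClosed_compl.isLocallyClosed, hy, subset_rfl⟩
  · intro s t hs ht y hy
    rcases hy with hy | hy
    · obtain ⟨L, hL, hyL, hLs⟩ := hs y hy
      exact ⟨L, hL, hyL, hLs.trans subset_union_left⟩
    · obtain ⟨L, hL, hyL, hLt⟩ := ht y hy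
      exact ⟨L, hL, hyL, hLt.trans subset_union_right⟩

/-- in a Jacobson space, a closed set meeting a constructible set meets it in a closed point. -/
theorem exists_isClosed_singleton_of_inter_nonempty [JacobsonSpace X] {E Z : Set X}
    (hE : IsConstructible E) (hZ : IsClosed Z) (hne : (Z ∩ E).Nonempty) :
    ∃ z ∈ Z ∩ E, IsClosed ({z} : Set X) := by
  obtain ⟨y, hyZ, hyE⟩ := hne
  obtain ⟨L, hL, hyL, hLE⟩ := exists_isLocallyClosed_of_mem hE y hyE
  obtain ⟨z, ⟨hzZ, hzL⟩, hz⟩ := nonempty_inter_closedPoints (Z := Z ∩ L) ⟨y, hyZ, hyL⟩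
    (hZ.isLocallyClosed.inter hL)
  exact ⟨z, ⟨hzZ, hLE hzL⟩, hz⟩

end top

/-- closed points map to closed points under a finite type map of Jacobson rings. -/
theorem isClosed_singleton_comap {R S : Type*} [CommRing R] [CommRing S] [Algebra R S]
    [IsJacobsonRing R] [Algebra.FiniteType R S] (y : PrimeSpectrum S)
    (hy : IsClosed ({y} : Set (PrimeSpectrum S))) :
    IsClosed ({PrimeSpectrum.comap (algebraMap R S) y} : Set (PrimeSpectrum R)) := by
  rw [PrimeSpectrum.isClosed_singleton_iff_isMaximal] at hy ⊢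
  haveI := hy
  letI : Field (S ⧸ y.asIdeal) := Ideal.Quotient.field y.asIdeal
  haveI : Algebra.FiniteType R (S ⧸ y.asIdeal) :=
    Algebra.FiniteType.trans (inferInstance : Algebra.FiniteType R S)
      (Algebra.FiniteType.of_surjective (Ideal.Quotient.mkₐ S y.asIdeal)
        Ideal.Quotient.mk_surjective)
  haveI : Module.Finite R (S ⧸ y.asIdeal) := finite_of_finite_type_of_isJacobsonRing R _
  haveI : Algebra.IsIntegral R (S ⧸ y.asIdeal) := Algebra.IsIntegral.of_finite R _
  have hmax := Ideal.isMaximal_comap_of_isIntegral_of_isMaximal (R := R)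
    (⊥ : Ideal (S ⧸ y.asIdeal))
  have heq : (⊥ : Ideal (S ⧸ y.asIdeal)).comap (algebraMap R (S ⧸ y.asIdeal)) =
      (PrimeSpectrum.comap (algebraMap R S) y).asIdeal := by
    ext x
    simp only [Ideal.mem_comap, Ideal.mem_bot, PrimeSpectrum.comap_asIdeal]
    rw [IsScalarTower.algebraMap_apply R S (S ⧸ y.asIdeal), Ideal.Quotient.algebraMap_eq,
      Ideal.Quotient.eq_zero_iff_mem]
  rwa [heq] at hmax

/-- S9652. -/
theorem main {R S : Type u} [CommRing R] [CommRing S] [Algebra R S] [IsJacobsonRing R]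
    [IsJacobsonRing S] [Algebra.FiniteType R S]
    (E : Set (PrimeSpectrum S)) (hE : IsConstructible E) :
    {x | x ∈ PrimeSpectrum.comap (algebraMap R S) '' E ∧
        closure {x} ∩ PrimeSpectrum.comap (algebraMap R S) '' E = {x}} =
        PrimeSpectrum.comap (algebraMap R S) '' {y | y ∈ E ∧ closure {y} ∩ E = {y}} ∧
      PrimeSpectrum.comap (algebraMap R S) '' {y | y ∈ E ∧ closure {y} ∩ E = {y}} =
        {x | IsClosed ({x} : Set (PrimeSpectrum R))} ∩
          PrimeSpectrum.comap (algebraMap R S) '' E := by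
  haveI : JacobsonSpace (PrimeSpectrum S) := PrimeSpectrum.isJacobsonRing_iff_jacobsonSpace.mp ‹_›
  set f := PrimeSpectrum.comap (algebraMap R S) with hf
  have hfc : Continuous f := PrimeSpectrum.continuous_comap (algebraMap R S)
  have hE₀ : ∀ y, (y ∈ E ∧ closure {y} ∩ E = {y}) ↔
      (y ∈ E ∧ IsClosed ({y} : Set (PrimeSpectrum S))) := by
    intro y
    constructor
    · rintro ⟨hyE, hy⟩
      refine ⟨hyE, ?_⟩
      obtain ⟨z, hz, hzc⟩ := exists_isClosed_singleton_of_inter_nonempty hE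
        (isClosed_closure (s := {y})) ⟨y, subset_closure rfl, hyE⟩
      rw [hy] at hz
      rwa [← (mem_singleton_iff.mp hz)]
    · rintro ⟨hyE, hy⟩
      refine ⟨hyE, ?_⟩
      rw [hy.closure_eq]
      ext z
      simp only [mem_inter_iff, mem_singleton_iff]
      constructor
      · exact fun h => h.1
      · rintro rfl
        exact ⟨rfl, hyE⟩
  have hsing : ∀ x : PrimeSpectrum R, x ∈ f '' E → IsClosed ({x} : Set (PrimeSpectrum R)) →
      closure {x} ∩ f '' E = {x} := by
    intro x hx hxc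
    rw [hxc.closure_eq]
    ext z
    simp only [mem_inter_iff, mem_singleton_iff]
    constructor
    · exact fun h => h.1
    · rintro rfl
      exact ⟨rfl, hx⟩
  constructor
  · ext x
    constructor
    · rintro ⟨⟨y₀, hy₀E, rfl⟩, hx⟩
      obtain ⟨z, ⟨hzcl, hzE⟩, hzc⟩ := exists_isClosed_singleton_of_inter_nonempty hE
        (isClosed_closure (s := {y₀})) ⟨y₀, subset_closure rfl, hy₀E⟩
      have h1 : f z ∈ closure {f y₀} := by
        have := image_closure_subset_closure_image hfc (s := {y₀}) ⟨z, hzcl, rfl⟩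
        simpa using this
      have h2 : f z ∈ closure {f y₀} ∩ f '' E := ⟨h1, ⟨z, hzE, rfl⟩⟩
      rw [hx] at h2
      exact ⟨z, (hE₀ z).mpr ⟨hzE, hzc⟩, mem_singleton_iff.mp h2⟩
    · rintro ⟨y, hy, rfl⟩
      obtain ⟨hyE, hyc⟩ := (hE₀ y).mp hy
      exact ⟨⟨y, hyE, rfl⟩, hsing _ ⟨y, hyE, rfl⟩ (isClosed_singleton_comap y hyc)⟩
  · ext x
    constructor
    · rintro ⟨y, hy, rfl⟩
      obtain ⟨hyE, hyc⟩ := (hE₀ y).mp hy
      exact ⟨isClosed_singleton_comap y hyc, ⟨y, hyE, rfl⟩⟩
    · rintro ⟨hxc, ⟨y₀, hy₀E, rfl⟩⟩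
      have hZ : IsClosed (f ⁻¹' {f y₀}) := hxc.preimage hfc
      obtain ⟨z, ⟨hzZ, hzE⟩, hzc⟩ := exists_isClosed_singleton_of_inter_nonempty hE hZ
        ⟨y₀, rfl, hy₀E⟩
      exact ⟨z, (hE₀ z).mpr ⟨hzE, hzc⟩, hzZ⟩

end Groth.Agent.Lib.Helper10.JacobsonImage
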