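import Mathlib
import Groth.Agent.Lib.Helper2GenFree
import Groth.Agent.Lib.Helper10JacobsonImage

/-!
# Images of constructible sets under finite type ring maps contain dense opens of closures (helper10)
-/

set_option autoImplicit false
open Topology TopologicalSpace Set

namespace Groth.Agent.Lib.Helper10.GenImage

universe u

/-- For an injective finite type map of domains `R → T` there is `f ≠ 0` such that every prime of
`R` not containing `f` is the contraction of a prime of `T` (non-Noetherian generic freeness). -/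
theorem exists_ne_zero_forall_exists_comap_eq (R T : Type*) [CommRing R] [IsDomain R] [CommRing T]
    [IsDomain T] [Algebra R T] [Algebra.FiniteType R T]
    (hinj : Function.Injective (algebraMap R T)) :
    ∃ f : R, f ≠ 0 ∧ ∀ p : PrimeSpectrum R, f ∉ p.asIdeal →
      ∃ P : PrimeSpectrum T, P.comap (algebraMap R T) = p := by
  obtain ⟨f, hf, hfree, -, -, -⟩ := Groth.Agent.Lib.Helper2.GenFree.exists_freeAway R T T
  refine ⟨f, hf, fun p hp => ?_⟩
  let A := Localization.Away f
  let B := Localization (Algebra.algebraMapSubmonoid T (Submonoid.powers f))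
  haveI : IsLocalizedModule (Submonoid.powers f) (IsScalarTower.toAlgHom R T B).toLinearMap :=
    (isLocalizedModule_iff_isLocalization).mpr inferInstance
  haveI : Module.Free A B := hfree.free A (IsScalarTower.toAlgHom R T B).toLinearMap
  have hM : Algebra.algebraMapSubmonoid T (Submonoid.powers f) ≤ nonZeroDivisors T := by
    rintro _ ⟨_, ⟨n, rfl⟩, rfl⟩
    rw [map_pow]
    exact pow_mem (mem_nonZeroDivisors_of_ne_zero
      ((map_ne_zero_iff _ hinj).mpr hf)) n
  haveI : Nontrivial B := (IsLocalization.injective B hM).nontrivial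
  have hsurj := PrimeSpectrum.comap_surjective_of_faithfullyFlat (A := A) (B := B)
  have hp' : p ∈ Set.range (PrimeSpectrum.comap (algebraMap R A)) := by
    rw [PrimeSpectrum.localization_away_comap_range A f]
    exact hp
  obtain ⟨P₀, rfl⟩ := hp'
  obtain ⟨Q, rfl⟩ := hsurj P₀
  refine ⟨Q.comap (algebraMap T B), ?_⟩
  rw [← PrimeSpectrum.comap_comp_apply, ← PrimeSpectrum.comap_comp_apply,
    ← IsScalarTower.algebraMap_eq, ← IsScalarTower.algebraMap_eq]

/-- Key step: for a prime `y` of a finite type `R`-algebra `S` and `g ∉ y` there is `a ∉ y ∩ R`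
such that every prime of `R` in `cl{y ∩ R} ∩ D(a)` is the contraction of a prime in
`cl{y} ∩ D(g)`. -/
theorem exists_forall_exists_comap_eq {R S : Type u} [CommRing R] [CommRing S] [Algebra R S]
    [Algebra.FiniteType R S] (q : Ideal S) [q.IsPrime] (g : S) (hg : g ∉ q) :
    ∃ a : R, a ∉ q.comap (algebraMap R S) ∧ ∀ p' : PrimeSpectrum R,
      q.comap (algebraMap R S) ≤ p'.asIdeal → a ∉ p'.asIdeal →
      ∃ q' : PrimeSpectrum S, q ≤ q'.asIdeal ∧ g ∉ q'.asIdeal ∧
        q'.comap (algebraMap R S) = p' := by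
  let p := q.comap (algebraMap R S)
  let R' := R ⧸ p
  let S' := S ⧸ q
  let gbar : S' := Ideal.Quotient.mk q g
  have hgbar : gbar ≠ 0 := fun h => hg (Ideal.Quotient.eq_zero_iff_mem.mp h)
  let T := Localization.Away gbar
  haveI : IsDomain T := IsLocalization.isDomain_localization
    (powers_le_nonZeroDivisors_of_noZeroDivisors hgbar)
  haveI : Algebra.FiniteType R S' :=
    Algebra.FiniteType.trans (inferInstance : Algebra.FiniteType R S)
      (Algebra.FiniteType.of_surjective (Ideal.Quotient.mkₐ S q) Ideal.Quotient.mk_surjective)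
  haveI : Algebra.FiniteType R' S' := Algebra.FiniteType.of_restrictScalars_finiteType R R' S'
  haveI : Algebra.FinitePresentation S' T := IsLocalization.Away.finitePresentation gbar
  haveI : Algebra.FiniteType S' T := Algebra.FiniteType.of_finitePresentation
  haveI : Algebra.FiniteType R' T :=
    Algebra.FiniteType.trans (inferInstance : Algebra.FiniteType R' S') inferInstance
  have hinj : Function.Injective (algebraMap R' T) := by
    rw [IsScalarTower.algebraMap_eq R' S' T]
    exact (IsLocalization.injective T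
      (powers_le_nonZeroDivisors_of_noZeroDivisors hgbar)).comp
        (Ideal.algebraMap_quotient_injective (R := R) (I := q))
  obtain ⟨f, hf, hlift⟩ := exists_ne_zero_forall_exists_comap_eq R' T hinj
  obtain ⟨a, rfl⟩ := Ideal.Quotient.mk_surjective f
  refine ⟨a, fun ha => hf (Ideal.Quotient.eq_zero_iff_mem.mpr ha), fun p' hpp' hap' => ?_⟩
  have hp'r : p' ∈ Set.range (PrimeSpectrum.comap (Ideal.Quotient.mk p)) := by
    rw [range_comap_of_surjective _ _ Ideal.Quotient.mk_surjective,
      Ideal.mk_ker, PrimeSpectrum.mem_zeroLocus]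
    exact hpp'
  obtain ⟨P', rfl⟩ := hp'r
  obtain ⟨P, hP⟩ := hlift P' (fun h => hap' h)
  refine ⟨P.comap (algebraMap S T), fun x hx => ?_, fun h => ?_, ?_⟩
  · show algebraMap S T x ∈ P.asIdeal
    rw [IsScalarTower.algebraMap_apply S S' T, Ideal.Quotient.algebraMap_eq,
      Ideal.Quotient.eq_zero_iff_mem.mpr hx, map_zero]
    exact zero_mem _
  · have h1 : algebraMap S T g ∈ P.asIdeal := h
    rw [IsScalarTower.algebraMap_apply S S' T, Ideal.Quotient.algebraMap_eq] at h1
    exact P.isPrime.ne_top (Ideal.eq_top_of_isUnit_mem _ h1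
      (IsLocalization.Away.algebraMap_isUnit gbar))
  · rw [← hP, ← PrimeSpectrum.comap_comp_apply, ← PrimeSpectrum.comap_comp_apply]
    congr 1

/-- S9651. -/
theorem exists_open_dense {R S : Type u} [CommRing R] [CommRing S] [Algebra R S]
    [Algebra.FiniteType R S] (E : Set (PrimeSpectrum S)) (hE : IsConstructible E)
    (ξ : PrimeSpectrum R) (hξ : ξ ∈ PrimeSpectrum.comap (algebraMap R S) '' E) :
    ∃ U : Set (PrimeSpectrum R), IsOpen U ∧
      closure ({ξ} : Set (PrimeSpectrum R)) ⊆ closure (U ∩ closure {ξ}) ∧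
      U ∩ closure {ξ} ⊆ PrimeSpectrum.comap (algebraMap R S) '' E := by
  obtain ⟨y, hyE, rfl⟩ := hξ
  obtain ⟨L, hL, hyL, hLE⟩ := JacobsonImage.exists_isLocallyClosed_of_mem hE y hyE
  obtain ⟨O, Z, hO, hZ, rfl⟩ := hL
  obtain ⟨_, ⟨g, rfl⟩, hyg, hgO⟩ :=
    PrimeSpectrum.isTopologicalBasis_basic_opens.exists_subset_of_mem_open hyL.1 hO
  obtain ⟨a, ha, hlift⟩ := exists_forall_exists_comap_eq (R := R) y.asIdeal g hyg
  refine ⟨PrimeSpectrum.basicOpen a, (PrimeSpectrum.basicOpen a).2, ?_, ?_⟩
  · apply closure_mono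
    rw [Set.singleton_subset_iff]
    exact ⟨ha, subset_closure rfl⟩
  · rintro p' ⟨hap', hp'⟩
    have hle : y.asIdeal.comap (algebraMap R S) ≤ p'.asIdeal := by
      have := (PrimeSpectrum.le_iff_specializes _ _).mpr (specializes_iff_mem_closure.mpr hp')
      exact this
    obtain ⟨q', hq1, hq2, hq3⟩ := hlift p' hle hap'
    refine ⟨q', hLE ⟨hgO hq2, ?_⟩, hq3⟩
    have : q' ∈ closure ({y} : Set (PrimeSpectrum S)) :=
      specializes_iff_mem_closure.mp ((PrimeSpectrum.le_iff_specializes _ _).mp hq1)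
    exact (hZ.closure_subset_iff.mpr (Set.singleton_subset_iff.mpr hyL.2)) this

section dense

variable {R S : Type*} [CommRing R] [CommRing S] (f : R →+* S)

/-- `ξ` lies in `f(E)` as soon as `f(E) ∩ cl{ξ}` is dense in `cl{ξ}`. -/
def GenP (E : Set (PrimeSpectrum S)) : Prop :=
  ∀ ξ : PrimeSpectrum R, ξ ∈ closure (closure {ξ} ∩ PrimeSpectrum.comap f '' E) →
    ξ ∈ PrimeSpectrum.comap f '' E

lemma genP_empty : GenP f ∅ := by
  intro ξ h
  simp at h

lemma genP_union {s t : Set (PrimeSpectrum S)} (hs : GenP f s) (ht : GenP f t) :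
    GenP f (s ∪ t) := by
  intro ξ h
  rw [Set.image_union, Set.inter_union_distrib_left, closure_union] at h
  rcases h with h | h
  · exact Set.image_mono Set.subset_union_left (hs ξ h)
  · exact Set.image_mono Set.subset_union_right (ht ξ h)

lemma genP_basic (g : S) (I : Ideal S) :
    GenP f ((PrimeSpectrum.basicOpen g : Set (PrimeSpectrum S)) ∩ PrimeSpectrum.zeroLocus I) := by
  intro ξ hξ
  let p := ξ.asIdeal
  let I' := I ⊔ p.map f
  let M : Submonoid S := Submonoid.powers g ⊔ p.primeCompl.map f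
  have hdisj : Disjoint (I' : Set S) (M : Set S) := by
    rw [Set.disjoint_left]
    intro x hxI hxM
    obtain ⟨_, ⟨n, rfl⟩, _, ⟨r, hr, rfl⟩, rfl⟩ := Submonoid.mem_sup.mp hxM
    obtain ⟨x', ⟨hx'r, hx'cl, q', ⟨hq'g, hq'I⟩, rfl⟩⟩ :=
      mem_closure_iff.mp hξ (PrimeSpectrum.basicOpen r) (PrimeSpectrum.basicOpen r).2 hr
    have hle : p ≤ (PrimeSpectrum.comap f q').asIdeal :=
      (PrimeSpectrum.le_iff_specializes _ _).mpr (specializes_iff_mem_closure.mpr hx'cl)
    have hI'q : I' ≤ q'.asIdeal := by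
      refine sup_le hq'I (Ideal.map_le_iff_le_comap.mpr hle)
    have := hI'q hxI
    rcases q'.isPrime.mem_or_mem this with h | h
    · exact hq'g (q'.isPrime.mem_of_pow_mem n h)
    · exact hx'r h
  obtain ⟨P, hP, hIP, hPM⟩ := Ideal.exists_le_prime_disjoint I' M hdisj
  rw [Set.disjoint_left] at hPM
  refine ⟨⟨P, hP⟩, ⟨fun hg => hPM hg (Submonoid.mem_sup_left (Submonoid.mem_powers g)),
    le_sup_left.trans hIP⟩, ?_⟩
  apply PrimeSpectrum.ext
  apply le_antisymm
  · intro r hr
    by_contra hrp
    exact hPM hr (Submonoid.mem_sup_right ⟨r, hrp, rfl⟩)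
  · exact Ideal.map_le_iff_le_comap.mp (le_sup_right.trans hIP)

lemma genP_biUnion (t : Finset S) (I : Ideal S) :
    GenP f (⋃ g ∈ t, (PrimeSpectrum.basicOpen g : Set (PrimeSpectrum S)) ∩
      PrimeSpectrum.zeroLocus I) := by
  classical
  induction t using Finset.induction_on with
  | empty => simpa using genP_empty f
  | insert a t _ ih =>
    rw [Finset.set_biUnion_insert]
    exact genP_union f (genP_basic f a I) ih

theorem genP_of_isConstructible {E : Set (PrimeSpectrum S)} (hE : IsConstructible E) :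
    GenP f E := by
  refine Groth.Agent.Lib.Helper2.Constr.sdiff_union_induction (P := GenP f) ?_
    (fun s t hs ht => genP_union f hs ht) hE
  intro U V hU hUr hV _
  obtain ⟨t, rfl⟩ := PrimeSpectrum.isCompact_isOpen_iff.mp ⟨hUr.isCompact, hU⟩
  have hVc : Vᶜ = PrimeSpectrum.zeroLocus (PrimeSpectrum.vanishingIdeal Vᶜ) := by
    rw [PrimeSpectrum.zeroLocus_vanishingIdeal_eq_closure, hV.isClosed_compl.closure_eq]
  have : (PrimeSpectrum.zeroLocus (t : Set S))ᶜ \ V =
      ⋃ g ∈ t, (PrimeSpectrum.basicOpen g : Set (PrimeSpectrum S)) ∩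
        PrimeSpectrum.zeroLocus (PrimeSpectrum.vanishingIdeal Vᶜ) := by
    rw [← hVc]
    ext x
    simp only [Set.mem_sdiff, Set.mem_compl_iff, PrimeSpectrum.mem_zeroLocus, Set.subset_def,
      SetLike.mem_coe, not_forall, Set.mem_iUnion, Set.mem_inter_iff,
      PrimeSpectrum.mem_basicOpen, exists_prop]
    constructor
    · rintro ⟨⟨g, hg, hgx⟩, hxV⟩
      exact ⟨g, hg, hgx, hxV⟩
    · rintro ⟨g, hg, hgx, hxV⟩
      exact ⟨⟨g, hg, hgx⟩, hxV⟩
  rw [this]
  exact genP_biUnion f t _

end dense

/-- S9653. -/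
theorem mem_image_iff_dense {R S : Type u} [CommRing R] [CommRing S] [Algebra R S]
    [IsJacobsonRing R] [IsJacobsonRing S] [Algebra.FiniteType R S]
    (E : Set (PrimeSpectrum S)) (hE : IsConstructible E) (ξ : PrimeSpectrum R) :
    ξ ∈ PrimeSpectrum.comap (algebraMap R S) '' E ↔
      closure ({ξ} : Set (PrimeSpectrum R)) ⊆
        closure (closure {ξ} ∩ PrimeSpectrum.comap (algebraMap R S) ''
          {y | y ∈ E ∧ closure {y} ∩ E = {y}}) := by
  constructor
  · intro hξ
    obtain ⟨U, hU, hdense, hsub⟩ := exists_open_dense E hE ξ hξ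
    have hξU : ξ ∈ U := by
      have h1 : ξ ∈ closure (U ∩ closure {ξ}) := hdense (subset_closure rfl)
      have hne : (U ∩ closure {ξ}).Nonempty := by
        by_contra hcon
        rw [Set.not_nonempty_iff_eq_empty] at hcon
        rw [hcon, closure_empty] at h1
        exact h1
      obtain ⟨x, hxU, hx⟩ := hne
      exact (specializes_iff_mem_closure.mpr hx).mem_open hU hxU
    apply (isClosed_closure.closure_subset_iff).mpr
    rw [Set.singleton_subset_iff, mem_closure_iff]
    intro W hW hξW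
    obtain ⟨x, ⟨⟨hxW, hxU⟩, hxcl⟩, hx⟩ :=
      nonempty_inter_closedPoints (Z := (W ∩ U) ∩ closure {ξ})
        ⟨ξ, ⟨hξW, hξU⟩, subset_closure rfl⟩
        ((hW.inter hU).isLocallyClosed.inter isClosed_closure.isLocallyClosed)
    have hxE : x ∈ PrimeSpectrum.comap (algebraMap R S) '' E := hsub ⟨hxU, hxcl⟩
    have hx0 : x ∈ {x | x ∈ PrimeSpectrum.comap (algebraMap R S) '' E ∧
        closure {x} ∩ PrimeSpectrum.comap (algebraMap R S) '' E = {x}} := by
      refine ⟨hxE, ?_⟩
      have hx' : IsClosed ({x} : Set (PrimeSpectrum R)) := hx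
      rw [hx'.closure_eq]
      exact Set.inter_eq_left.mpr (Set.singleton_subset_iff.mpr hxE)
    rw [(JacobsonImage.main E hE).1] at hx0
    exact ⟨x, hxW, hxcl, hx0⟩
  · intro h
    have h1 : ξ ∈ closure (closure {ξ} ∩ PrimeSpectrum.comap (algebraMap R S) '' E) := by
      refine closure_mono ?_ (h (subset_closure rfl))
      exact Set.inter_subset_inter_right _ (Set.image_mono fun y hy => hy.1)
    exact genP_of_isConstructible (algebraMap R S) hE ξ h1

end Groth.Agent.Lib.Helper10.GenImage
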