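import Mathlib

/-!
# Generalizing maps and irreducible components of preimages (helper10)
-/

set_option autoImplicit false
open Topology TopologicalSpace Set

namespace Groth.Agent.Lib.Helper10.GenMap

variable {X Y : Type*} [TopologicalSpace X] [TopologicalSpace Y]

theorem generalizingMap_iff_components_dominate [QuasiSober X] [QuasiSober Y] [T0Space Y]
    {f : X → Y} (hf : Continuous f) :
    GeneralizingMap f ↔ ∀ Y' : Set Y, IsClosed Y' → IsIrreducible Y' →
      ∀ Z ∈ irreducibleComponents ↥(f ⁻¹' Y'), closure (f '' (Subtype.val '' Z)) = Y' := by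
  constructor
  · intro hg Y' hY'c hY'i Z hZ
    have hPc : IsClosed (f ⁻¹' Y') := hY'c.preimage hf
    have hZc : IsClosed (Z : Set ↥(f ⁻¹' Y')) := isClosed_of_mem_irreducibleComponents Z hZ
    have hZi : IsIrreducible Z := hZ.1
    have hZ'c : IsClosed (Subtype.val '' Z : Set X) :=
      hPc.isClosedEmbedding_subtypeVal.isClosedMap _ hZc
    have hZ'i : IsIrreducible (Subtype.val '' Z : Set X) :=
      hZi.image _ continuous_subtype_val.continuousOn
    have hξ := hZ'i.isGenericPoint_genericPoint hZ'c
    have hη := hY'i.isGenericPoint_genericPoint hY'c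
    obtain ⟨z, hzZ, hzξ⟩ := hξ.mem
    have hfξ : f hZ'i.genericPoint ∈ Y' := by
      rw [← hzξ]
      exact z.2
    obtain ⟨ξ', hξ'ξ, hfξ'⟩ := hg (hη.specializes hfξ)
    have hξ'P : ξ' ∈ f ⁻¹' Y' := by
      show f ξ' ∈ Y'
      rw [hfξ']
      exact hη.mem
    let t : ↥(f ⁻¹' Y') := ⟨ξ', hξ'P⟩
    have hT : IsIrreducible (closure ({t} : Set ↥(f ⁻¹' Y'))) := isIrreducible_singleton.closure
    have hZT : Z ⊆ closure {t} := by
      intro w hw
      have h1 : hZ'i.genericPoint ⤳ w.1 := hξ.specializes ⟨w, hw, rfl⟩
      have h2 : t ⤳ w := (subtype_specializes_iff t w).mpr (hξ'ξ.trans h1)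
      exact h2.mem_closure
    have hTZ : closure {t} ⊆ Z := hZ.2 hT hZT
    have htZ : t ∈ Z := hTZ (subset_closure rfl)
    apply Set.Subset.antisymm
    · apply closure_minimal _ hY'c
      rintro _ ⟨_, ⟨w, _, rfl⟩, rfl⟩
      exact w.2
    · have h3 : Y' ⊆ closure ({hY'i.genericPoint} : Set Y) := hη.def.ge
      refine h3.trans (closure_mono ?_)
      rw [Set.singleton_subset_iff]
      exact ⟨ξ', ⟨t, htZ, rfl⟩, hfξ'⟩
  · intro h x y hy
    have hY'i : IsIrreducible (closure ({y} : Set Y)) := isIrreducible_singleton.closure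
    have hxP : x ∈ f ⁻¹' closure {y} := hy.mem_closure
    let t : ↥(f ⁻¹' closure {y}) := ⟨x, hxP⟩
    have hZ := irreducibleComponent_mem_irreducibleComponents t
    have key := h (closure {y}) isClosed_closure hY'i (irreducibleComponent t) hZ
    have hPc : IsClosed (f ⁻¹' closure {y}) := isClosed_closure.preimage hf
    have hZ'c : IsClosed (Subtype.val '' irreducibleComponent t : Set X) :=
      hPc.isClosedEmbedding_subtypeVal.isClosedMap _ isClosed_irreducibleComponent
    have hZ'i : IsIrreducible (Subtype.val '' irreducibleComponent t : Set X) :=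
      isIrreducible_irreducibleComponent.image _ continuous_subtype_val.continuousOn
    have hξ := hZ'i.isGenericPoint_genericPoint hZ'c
    obtain ⟨ξ, hξe⟩ : ∃ ξ, ξ = hZ'i.genericPoint := ⟨_, rfl⟩
    rw [← hξe] at hξ
    refine ⟨ξ, hξ.specializes ⟨t, mem_irreducibleComponent, rfl⟩, ?_⟩
    have h2 : closure (f '' (Subtype.val '' irreducibleComponent t)) = closure {f ξ} := by
      have h3 : (Subtype.val '' irreducibleComponent t : Set X) = closure {ξ} := hξ.def.symm
      rw [h3, closure_image_closure hf, Set.image_singleton]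
    rw [h2] at key
    exact (inseparable_iff_closure_eq.mpr key).eq

/-- In a quasi-sober T0 space every point is a specialization of a maximal point. -/
theorem exists_maximal_generization [QuasiSober X] [T0Space X] (y : X) :
    ∃ η : X, η ⤳ y ∧ ∀ y' : X, y' ⤳ η → y' = η := by
  have hi : IsIrreducible (irreducibleComponent y) := isIrreducible_irreducibleComponent
  have hc : IsClosed (irreducibleComponent y) := isClosed_irreducibleComponent
  have hη := hi.isGenericPoint_genericPoint hc
  obtain ⟨η, hηe⟩ : ∃ η, η = hi.genericPoint := ⟨_, rfl⟩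
  rw [← hηe] at hη
  refine ⟨η, hη.specializes mem_irreducibleComponent, fun y' hy' => ?_⟩
  have h1 : irreducibleComponent y ⊆ closure {y'} := by
    have h2 : irreducibleComponent y = closure {η} := hη.def.symm
    rw [h2]
    exact closure_minimal (Set.singleton_subset_iff.mpr hy'.mem_closure) isClosed_closure
  have h2 : closure ({y'} : Set X) ⊆ irreducibleComponent y :=
    (irreducibleComponent_mem_irreducibleComponents y).2 isIrreducible_singleton.closure h1
  have h3 : closure ({y'} : Set X) = closure {η} := by
    rw [hη.def]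
    exact Set.Subset.antisymm h2 h1
  exact (inseparable_iff_closure_eq.mpr h3).eq

end Groth.Agent.Lib.Helper10.GenMap
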