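import Mathlib

/-!
# Descent of morphisms along a morphism with local sections (helper11)

For a subcanonical Grothendieck topology `J` on a category `C` and a morphism `q : X ⟶ Y` which has
sections locally for `J` (`secSieve q ∈ J Y`), a morphism `φ : X ⟶ Z` which is constant on the
fibres of `q` on points descends uniquely to `Y`.
-/

open CategoryTheory Limits Opposite

universe v u

namespace Groth.Agent.Lib.Helper11.Descend

variable {C : Type u} [Category.{v} C]

/-- The sieve of morphisms to `Y` which lift through `q`. -/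
def secSieve {X Y : C} (q : X ⟶ Y) : Sieve Y where
  arrows W g := ∃ s : W ⟶ X, s ≫ q = g
  downward_closed := by
    rintro W W' g ⟨s, rfl⟩ h
    exact ⟨h ≫ s, Category.assoc _ _ _⟩

lemma secSieve_apply {X Y W : C} (q : X ⟶ Y) (g : W ⟶ Y) :
    secSieve q g ↔ ∃ s : W ⟶ X, s ≫ q = g := Iff.rfl

variable (J : GrothendieckTopology C)

/-- `q` followed by `q'` has local sections if both have. -/
lemma secSieve_comp_mem {X Y Z : C} (q : X ⟶ Y) (q' : Y ⟶ Z) (hq : secSieve q ∈ J Y)
    (hq' : secSieve q' ∈ J Z) : secSieve (q ≫ q') ∈ J Z := by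
  refine J.transitive hq' _ ?_
  rintro W g ⟨s, rfl⟩
  refine J.superset_covering ?_ (J.pullback_stable s hq)
  rintro W' h ⟨t, ht⟩
  exact ⟨t, by rw [← Category.assoc, ht, Category.assoc]⟩

/-- local sections pass to a "base change": if every lift problem for `q'` over `g` can be solved
from one for `q`. -/
lemma secSieve_mem_of_pullback {X Y X' Y' : C} (q : X ⟶ Y) (q' : X' ⟶ Y') (g : Y' ⟶ Y)
    (hq : secSieve q ∈ J Y)
    (h : ∀ ⦃W : C⦄ (a : W ⟶ Y') (s : W ⟶ X), s ≫ q = a ≫ g → ∃ s' : W ⟶ X', s' ≫ q' = a) :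
    secSieve q' ∈ J Y' := by
  refine J.superset_covering ?_ (J.pullback_stable g hq)
  rintro W a ⟨s, hs⟩
  exact h a s hs

variable [J.Subcanonical]

/-- a morphism with local sections is an epimorphism (subcanonical topology) -/
lemma hom_ext_of_secSieve {X Y Z : C} (q : X ⟶ Y) (hq : secSieve q ∈ J Y) (ψ₁ ψ₂ : Y ⟶ Z)
    (h : q ≫ ψ₁ = q ≫ ψ₂) : ψ₁ = ψ₂ := by
  have hs : Presieve.IsSheaf J (yoneda.obj Z) :=
    GrothendieckTopology.Subcanonical.isSheaf_of_isRepresentable _
  refine (hs _ hq).isSeparatedFor.ext ?_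
  rintro W g ⟨s, rfl⟩
  change (s ≫ q) ≫ ψ₁ = (s ≫ q) ≫ ψ₂
  rw [Category.assoc, Category.assoc, h]

/-- descent of morphisms along a morphism with local sections -/
theorem exists_desc {X Y Z : C} (q : X ⟶ Y) (hq : secSieve q ∈ J Y) (φ : X ⟶ Z)
    (hφ : ∀ ⦃W : C⦄ (a b : W ⟶ X), a ≫ q = b ≫ q → a ≫ φ = b ≫ φ) :
    ∃ ψ : Y ⟶ Z, q ≫ ψ = φ := by
  have hs : Presieve.IsSheaf J (yoneda.obj Z) :=
    GrothendieckTopology.Subcanonical.isSheaf_of_isRepresentable _
  have hsf := hs _ hq
  let x : Presieve.FamilyOfElements (yoneda.obj Z) (secSieve q).arrows :=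
    fun W g hg => hg.choose ≫ φ
  have hx : x.Compatible := by
    intro W₁ W₂ W g₁ g₂ f₁ f₂ h₁ h₂ hcomm
    change g₁ ≫ h₁.choose ≫ φ = g₂ ≫ h₂.choose ≫ φ
    rw [← Category.assoc, ← Category.assoc]
    apply hφ
    rw [Category.assoc, Category.assoc, h₁.choose_spec, h₂.choose_spec, hcomm]
  have hψ := hsf.isAmalgamation hx
  refine ⟨hsf.amalgamate x hx, ?_⟩
  -- check after the covering sieve pulled back to `X`
  have hqX : (secSieve q).pullback q ∈ J X := J.pullback_stable q hq
  refine (hs _ hqX).isSeparatedFor.ext ?_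
  intro W g hg
  have hg' : (secSieve q).arrows (g ≫ q) := hg
  have h1 := hψ (g ≫ q) hg'
  change g ≫ q ≫ hsf.amalgamate x hx = g ≫ φ
  have h2 : (g ≫ q) ≫ hsf.amalgamate x hx = hg'.choose ≫ φ := h1
  rw [← Category.assoc, h2]
  apply hφ
  exact hg'.choose_spec

end Groth.Agent.Lib.Helper11.Descend
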