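import Mathlib.Tactic
import Groth.Prelude.Def_Red2

/-!
# Points of `𝔾_a` and `𝔾_m` (helper27)

For `X : Over S`, the map `Red.gaFn : (X ⟶ Red.Ga S) → Γ(X.left, ⊤)` is a bijection turning the
group law of `Hom(X, 𝔾_a)` into addition, and `Red.gmFn : (X ⟶ Red.Gm S) → Γ(X.left, ⊤)` is
injective, multiplicative, with image the units.

Main results: `gaFn_mul`, `gaFn_one`, `gaFn_inv`, `gaFn_injective`, `gaFn_surjective`, `gaFn_comp`,
`gmFn_mul`, `gmFn_one`, `gmFn_isUnit`, `gmFn_injective`, `gmFn_surjective`, `gmFn_comp`, `gmFn_pow`,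
`gaEquiv`, `gmEquiv`.
-/

set_option autoImplicit false
universe u v

namespace Groth.Agent.Lib.Helper27.GaGm

section RingHoms

variable {B : Type v} [CommRing B]

lemma ulift_int_ringHom_ext (f g : ULift.{u} ℤ →+* B) : f = g := by
  ext r
  have hr : r = ((r.down : ℤ) : ULift.{u} ℤ) := by
    apply ULift.ext
    simp
  rw [hr, map_intCast, map_intCast]

lemma sym_ringHom_ext (φ ψ : SymmetricAlgebra (ULift.{u} ℤ) (ULift.{u} ℤ) →+* B)
    (h : φ (SymmetricAlgebra.ι (ULift.{u} ℤ) (ULift.{u} ℤ) (ULift.up 1)) =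
      ψ (SymmetricAlgebra.ι (ULift.{u} ℤ) (ULift.{u} ℤ) (ULift.up 1))) : φ = ψ := by
  have hal : ∀ r : ULift.{u} ℤ, φ (algebraMap _ _ r) = ψ (algebraMap _ _ r) := fun r =>
    congrArg (fun k : ULift.{u} ℤ →+* B => k r)
      (ulift_int_ringHom_ext (φ.comp (algebraMap _ _)) (ψ.comp (algebraMap _ _)))
  apply RingHom.ext
  intro a
  induction a using SymmetricAlgebra.induction with
  | algebraMap r => exact hal r
  | ι x =>
    have key : SymmetricAlgebra.ι (ULift.{u} ℤ) (ULift.{u} ℤ) x =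
        algebraMap _ _ x * SymmetricAlgebra.ι (ULift.{u} ℤ) (ULift.{u} ℤ) (ULift.up 1) := by
      rw [← Algebra.smul_def, ← map_smul]
      congr 1
      apply ULift.ext
      simp
    rw [key, map_mul, map_mul, hal, h]
  | mul a b ha hb => rw [map_mul, map_mul, ha, hb]
  | add a b ha hb => rw [map_add, map_add, ha, hb]

lemma sym_ringHom_exists (b : B) :
    ∃ φ : SymmetricAlgebra (ULift.{u} ℤ) (ULift.{u} ℤ) →+* B,
      φ (SymmetricAlgebra.ι (ULift.{u} ℤ) (ULift.{u} ℤ) (ULift.up 1)) = b := by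
  let _ : Algebra (ULift.{u} ℤ) B := ULift.algebra' ℤ B
  refine ⟨(SymmetricAlgebra.lift (LinearMap.toSpanSingleton (ULift.{u} ℤ) B b)).toRingHom, ?_⟩
  simp only [AlgHom.toRingHom_eq_coe, RingHom.coe_coe, SymmetricAlgebra.lift_ι_apply,
    LinearMap.toSpanSingleton_apply]
  rw [Algebra.smul_def, ULift.algebraMap_apply']
  simp

lemma monalg_ringHom_ext (φ ψ : MonoidAlgebra (ULift.{u} ℤ) (Multiplicative ℤ) →+* B)
    (h : φ (MonoidAlgebra.single (Multiplicative.ofAdd (1 : ℤ)) 1) =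
      ψ (MonoidAlgebra.single (Multiplicative.ofAdd (1 : ℤ)) 1)) : φ = ψ := by
  apply MonoidAlgebra.ringHom_ext'
  · exact ulift_int_ringHom_ext _ _
  · apply MonoidHom.ext_mint
    exact h

lemma monalg_isUnit_single :
    IsUnit (MonoidAlgebra.single (Multiplicative.ofAdd (1 : ℤ)) (1 : ULift.{u} ℤ)) := by
  refine IsUnit.of_mul_eq_one (MonoidAlgebra.single (Multiplicative.ofAdd (-1 : ℤ)) 1) ?_
  rw [MonoidAlgebra.single_mul_single]
  simp [MonoidAlgebra.one_def]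

lemma monalg_ringHom_exists (b : Bˣ) :
    ∃ φ : MonoidAlgebra (ULift.{u} ℤ) (Multiplicative ℤ) →+* B,
      φ (MonoidAlgebra.single (Multiplicative.ofAdd (1 : ℤ)) 1) = b := by
  let _ : Algebra (ULift.{u} ℤ) B := ULift.algebra' ℤ B
  refine ⟨(MonoidAlgebra.lift (ULift.{u} ℤ) B (Multiplicative ℤ)
    ((Units.coeHom B).comp (zpowersHom Bˣ b))).toRingHom, ?_⟩
  simp only [AlgHom.toRingHom_eq_coe, RingHom.coe_coe, MonoidAlgebra.lift_single]
  rw [Algebra.smul_def, ULift.algebraMap_apply']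
  simp

end RingHoms

end Groth.Agent.Lib.Helper27.GaGm

open CategoryTheory MonoidalCategory CartesianMonoidalCategory MonObj GrpObj AlgebraicGeometry CategoryTheory.Limits
open scoped TensorProduct

namespace Groth.Agent.Lib.Helper27.GaGm


section Adj

variable {S Z : Scheme.{u}} (f : S ⟶ Z) (G : Over Z) [GrpObj G] (X : Over S)

/-- the adjunction bijection `Hom_S(X, f^* G) ≃ Hom_Z(X, G)` -/
noncomputable def adjEquiv : (X ⟶ Red.bc f G) ≃ ((Over.map f).obj X ⟶ G) :=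
  ((Over.mapPullbackAdj f).homEquiv X G).symm

lemma adjEquiv_left (x : X ⟶ Red.bc f G) :
    (adjEquiv f G X x).left = x.left ≫ pullback.fst G.hom f := by
  rfl

lemma adjEquiv_symm_mul (a b : (Over.map f).obj X ⟶ G) :
    (adjEquiv f G X).symm (a * b) = (adjEquiv f G X).symm a * (adjEquiv f G X).symm b := by
  unfold adjEquiv
  simp only [Equiv.symm_symm, Adjunction.homEquiv_unit]
  rw [Functor.map_mul, MonObj.comp_mul]

end Adj


section Affine

variable {R A : Type u} [CommRing R] [CommRing A]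

/-- the ring hom `A → Γ(Y)` attached to a point `y` of `Spec A`. -/
noncomputable def fnHom {Y : Scheme.{u}} (y : Y ⟶ Spec (CommRingCat.of A)) : A →+* Γ(Y, ⊤) :=
  ((Scheme.ΓSpecIso (CommRingCat.of A)).inv ≫ y.appTop).hom

/-- the function on `Y` attached to a point `y` of `Spec A` and an element `a : A`. -/
noncomputable def fn {Y : Scheme.{u}} (y : Y ⟶ Spec (CommRingCat.of A)) (a : A) : Γ(Y, ⊤) :=
  y.appTop ((Scheme.ΓSpecIso (CommRingCat.of A)).inv a)

lemma fn_eq {Y : Scheme.{u}} (y : Y ⟶ Spec (CommRingCat.of A)) (a : A) : fn y a = fnHom y a := rfl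

lemma fn_comp {Y Y' : Scheme.{u}} (g : Y' ⟶ Y) (y : Y ⟶ Spec (CommRingCat.of A)) (a : A) :
    fn (g ≫ y) a = g.appTop (fn y a) := by
  unfold fn
  rw [Scheme.Hom.comp_appTop]
  rfl

lemma fn_specMap {B : Type u} [CommRing B] {Y : Scheme.{u}} (y : Y ⟶ Spec (CommRingCat.of B))
    (φ : A →+* B) (a : A) :
    fn (y ≫ Spec.map (CommRingCat.ofHom φ)) a = fn y (φ a) := by
  unfold fn
  have := Scheme.ΓSpecIso_inv_naturality (CommRingCat.ofHom φ)
  have h2 := congrArg (fun k => k.hom a) this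
  simp only [CommRingCat.hom_comp, RingHom.comp_apply, CommRingCat.hom_ofHom] at h2
  rw [Scheme.Hom.comp_appTop]
  simp only [CommRingCat.comp_apply]
  erw [← h2]

lemma fn_ext {Y : Scheme.{u}} (y y' : Y ⟶ Spec (CommRingCat.of A)) (h : ∀ a, fn y a = fn y' a) :
    y = y' := by
  apply ext_of_isAffine
  have h1 : (Scheme.ΓSpecIso (CommRingCat.of A)).inv ≫ y.appTop =
      (Scheme.ΓSpecIso (CommRingCat.of A)).inv ≫ y'.appTop := by
    ext a
    exact h a
  exact (cancel_epi _).mp h1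

lemma fn_surj {Y : Scheme.{u}} (φ : A →+* Γ(Y, ⊤)) :
    ∃ y : Y ⟶ Spec (CommRingCat.of A), ∀ a, fn y a = φ a := by
  refine ⟨Y.toSpecΓ ≫ Spec.map (CommRingCat.ofHom φ), fun a => ?_⟩
  rw [fn_specMap]
  unfold fn
  rw [Scheme.toSpecΓ_appTop]
  exact congrArg (fun k => k.hom (φ a)) (Scheme.ΓSpecIso Γ(Y, ⊤)).inv_hom_id

variable {B : Type u} [CommRing B] [Algebra R A] [Algebra R B]

lemma fn_pullbackSpecIso {Y : Scheme.{u}}
    (m : Y ⟶ pullback (Spec.map (CommRingCat.ofHom (algebraMap R A)))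
      (Spec.map (CommRingCat.ofHom (algebraMap R B)))) (a : A) (b : B) :
    fn (m ≫ (pullbackSpecIso R A B).hom) (a ⊗ₜ[R] b) =
      fn (m ≫ pullback.fst _ _) a * fn (m ≫ pullback.snd _ _) b := by
  have hab : a ⊗ₜ[R] b = Algebra.TensorProduct.includeLeftRingHom a *
      (RingHomClass.toRingHom (Algebra.TensorProduct.includeRight (R := R) (A := A) (B := B))) b := by
    simp
  rw [hab, fn_eq, map_mul, ← fn_eq, ← fn_eq, ← fn_specMap, ← fn_specMap, Category.assoc,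
    Category.assoc, pullbackSpecIso_hom_fst, pullbackSpecIso_hom_snd]

end Affine



section Mul

variable {R A : Type u} [CommRing R] [CommRing A] [Bialgebra R A]

/-- `(lift x y).left` with a clean target type. -/
noncomputable def liftP {Y : Over (Spec (CommRingCat.of R))}
    (x y : Y ⟶ (Spec (CommRingCat.of A)).asOver (Spec (CommRingCat.of R))) :
    Y.left ⟶ pullback (Spec.map (CommRingCat.ofHom (algebraMap R A)))
      (Spec.map (CommRingCat.ofHom (algebraMap R A))) :=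
  (lift x y).left

lemma mul_left_eq {Y : Over (Spec (CommRingCat.of R))}
    (x y : Y ⟶ (Spec (CommRingCat.of A)).asOver (Spec (CommRingCat.of R))) :
    (x * y).left = (liftP x y ≫ (pullbackSpecIso R A A).hom) ≫
      Spec.map (CommRingCat.ofHom (RingHomClass.toRingHom (Bialgebra.comulAlgHom R A))) := by
  rw [Hom.mul_def, Over.comp_left, mul_spec_asOver_spec_left]
  rfl

lemma liftP_fst {Y : Over (Spec (CommRingCat.of R))}
    (x y : Y ⟶ (Spec (CommRingCat.of A)).asOver (Spec (CommRingCat.of R))) :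
    liftP x y ≫ pullback.fst (Spec.map (CommRingCat.ofHom (algebraMap R A)))
      (Spec.map (CommRingCat.ofHom (algebraMap R A))) = x.left := by
  have := congrArg Over.Hom.left (lift_fst x y)
  rw [Over.comp_left] at this
  exact this

lemma liftP_snd {Y : Over (Spec (CommRingCat.of R))}
    (x y : Y ⟶ (Spec (CommRingCat.of A)).asOver (Spec (CommRingCat.of R))) :
    liftP x y ≫ pullback.snd (Spec.map (CommRingCat.ofHom (algebraMap R A)))
      (Spec.map (CommRingCat.ofHom (algebraMap R A))) = y.left := by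
  have := congrArg Over.Hom.left (lift_snd x y)
  rw [Over.comp_left] at this
  exact this

lemma fn_mul_left {Y : Over (Spec (CommRingCat.of R))}
    (x y : Y ⟶ (Spec (CommRingCat.of A)).asOver (Spec (CommRingCat.of R))) (a : A) :
    fn (x * y).left a =
      fn (liftP x y ≫ (pullbackSpecIso R A A).hom) (Coalgebra.comul (R := R) a) := by
  have h := mul_left_eq x y
  have h2 : fn (x * y).left a = fn ((liftP x y ≫ (pullbackSpecIso R A A).hom) ≫
      Spec.map (CommRingCat.ofHom (RingHomClass.toRingHom (Bialgebra.comulAlgHom R A)))) a :=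
    congrArg (fun k => fn k a) h
  rw [h2, fn_specMap]
  rfl

lemma fn_mul_left_of_primitive {Y : Over (Spec (CommRingCat.of R))}
    (x y : Y ⟶ (Spec (CommRingCat.of A)).asOver (Spec (CommRingCat.of R))) (a : A)
    (ha : Coalgebra.comul (R := R) a = a ⊗ₜ[R] 1 + 1 ⊗ₜ[R] a) :
    fn (x * y).left a = fn x.left a + fn y.left a := by
  rw [fn_mul_left, ha, fn_eq, map_add, ← fn_eq, ← fn_eq, fn_pullbackSpecIso, fn_pullbackSpecIso,
    liftP_fst, liftP_snd]
  have e1 : ∀ (z : Y.left ⟶ Spec (CommRingCat.of A)), fn z (1 : A) = 1 := fun z => by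
    rw [fn_eq, map_one]
  rw [show fn (Over.Hom.left y) (1 : A) = 1 from e1 _,
    show fn (Over.Hom.left x) (1 : A) = 1 from e1 _, _root_.mul_one, _root_.one_mul]

lemma fn_mul_left_of_grouplike {Y : Over (Spec (CommRingCat.of R))}
    (x y : Y ⟶ (Spec (CommRingCat.of A)).asOver (Spec (CommRingCat.of R))) (a : A)
    (ha : Coalgebra.comul (R := R) a = a ⊗ₜ[R] a) :
    fn (x * y).left a = fn x.left a * fn y.left a := by
  rw [fn_mul_left, ha, fn_pullbackSpecIso, liftP_fst, liftP_snd]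

end Mul




variable {S : Scheme.{u}}

lemma gaFn_eq_fn {X : Over S} (x : X ⟶ Red.Ga S) :
    Red.gaFn x = fn (adjEquiv (Limits.IsTerminal.from specULiftZIsTerminal S) Red.GaZ X x).left
      (SymmetricAlgebra.ι (ULift.{u} ℤ) (ULift.{u} ℤ) (ULift.up 1)) := rfl

lemma gmFn_eq_fn {X : Over S} (x : X ⟶ Red.Gm S) :
    Red.gmFn x = fn (adjEquiv (Limits.IsTerminal.from specULiftZIsTerminal S)
      (Red.diag (ULift.{u} ℤ) ℤ) X x).left
      (MonoidAlgebra.single (Multiplicative.ofAdd (1 : ℤ)) 1) := rfl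

lemma adjEquiv_mul {Z : Scheme.{u}} (f : S ⟶ Z) (G : Over Z) [GrpObj G] (X : Over S)
    (x y : X ⟶ Red.bc f G) :
    adjEquiv f G X (x * y) = adjEquiv f G X x * adjEquiv f G X y := by
  apply (adjEquiv f G X).symm.injective
  rw [adjEquiv_symm_mul]
  simp

theorem gaFn_mul {X : Over S} (x y : X ⟶ Red.Ga S) :
    Red.gaFn (x * y) = Red.gaFn x + Red.gaFn y := by
  rw [gaFn_eq_fn, gaFn_eq_fn, gaFn_eq_fn, adjEquiv_mul]
  exact fn_mul_left_of_primitive _ _ _ (SymmetricAlgebra.comul_ι _ _ _)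

theorem gmFn_mul {X : Over S} (x y : X ⟶ Red.Gm S) :
    Red.gmFn (x * y) = Red.gmFn x * Red.gmFn y := by
  rw [gmFn_eq_fn, gmFn_eq_fn, gmFn_eq_fn, adjEquiv_mul]
  refine fn_mul_left_of_grouplike _ _ _ ?_
  simp


variable {S : Scheme.{u}}

/-- the underlying morphism to `Spec ℤ[X]` of a point of `𝔾_a`. -/
noncomputable def gaPt {X : Over S} (x : X ⟶ Red.Ga S) :
    X.left ⟶ Spec (CommRingCat.of (SymmetricAlgebra (ULift.{u} ℤ) (ULift.{u} ℤ))) :=
  x.left ≫ pullback.fst _ _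

/-- the underlying morphism to `Spec ℤ[T,T⁻¹]` of a point of `𝔾_m`. -/
noncomputable def gmPt {X : Over S} (x : X ⟶ Red.Gm S) :
    X.left ⟶ Spec (CommRingCat.of (MonoidAlgebra (ULift.{u} ℤ) (Multiplicative ℤ))) :=
  x.left ≫ pullback.fst _ _

lemma gaFn_eq_fn_gaPt {X : Over S} (x : X ⟶ Red.Ga S) :
    Red.gaFn x = fn (gaPt x) (SymmetricAlgebra.ι (ULift.{u} ℤ) (ULift.{u} ℤ) (ULift.up 1)) := rfl

lemma gmFn_eq_fn_gmPt {X : Over S} (x : X ⟶ Red.Gm S) :
    Red.gmFn x = fn (gmPt x) (MonoidAlgebra.single (Multiplicative.ofAdd (1 : ℤ)) 1) := rfl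

theorem gaFn_injective {X : Over S} :
    Function.Injective (Red.gaFn : (X ⟶ Red.Ga S) → Γ(X.left, ⊤)) := by
  intro x y h
  rw [gaFn_eq_fn_gaPt, gaFn_eq_fn_gaPt] at h
  have h2 : gaPt x = gaPt y := by
    apply fn_ext
    intro a
    exact congrArg (fun k : _ →+* _ => k a) (sym_ringHom_ext (fnHom (gaPt x)) (fnHom (gaPt y)) h)
  apply (adjEquiv (Limits.IsTerminal.from specULiftZIsTerminal S) Red.GaZ X).injective
  apply Over.OverMorphism.ext
  exact h2

theorem gmFn_injective {X : Over S} :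
    Function.Injective (Red.gmFn : (X ⟶ Red.Gm S) → Γ(X.left, ⊤)) := by
  intro x y h
  rw [gmFn_eq_fn_gmPt, gmFn_eq_fn_gmPt] at h
  have h2 : gmPt x = gmPt y := by
    apply fn_ext
    intro a
    exact congrArg (fun k : _ →+* _ => k a)
      (monalg_ringHom_ext (fnHom (gmPt x)) (fnHom (gmPt y)) h)
  apply (adjEquiv (Limits.IsTerminal.from specULiftZIsTerminal S)
    (Red.diag (ULift.{u} ℤ) ℤ) X).injective
  apply Over.OverMorphism.ext
  exact h2

theorem gaFn_surjective {X : Over S} :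
    Function.Surjective (Red.gaFn : (X ⟶ Red.Ga S) → Γ(X.left, ⊤)) := by
  intro b
  obtain ⟨φ, hφ⟩ := sym_ringHom_exists.{u} b
  obtain ⟨y', hy'⟩ := fn_surj φ
  refine ⟨(adjEquiv (Limits.IsTerminal.from specULiftZIsTerminal S) Red.GaZ X).symm
    (Over.homMk y' (specULiftZIsTerminal.hom_ext _ _)), ?_⟩
  rw [gaFn_eq_fn, Equiv.apply_symm_apply]
  exact (hy' _).trans hφ

theorem gmFn_isUnit {X : Over S} (z : X ⟶ Red.Gm S) : IsUnit (Red.gmFn z) := by
  rw [gmFn_eq_fn_gmPt]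
  exact monalg_isUnit_single.map (fnHom (gmPt z))

theorem gmFn_surjective {X : Over S} (b : Γ(X.left, ⊤)) (hb : IsUnit b) :
    ∃ z : X ⟶ Red.Gm S, Red.gmFn z = b := by
  obtain ⟨φ, hφ⟩ := monalg_ringHom_exists.{u} hb.unit
  obtain ⟨y', hy'⟩ := fn_surj φ
  refine ⟨(adjEquiv (Limits.IsTerminal.from specULiftZIsTerminal S)
    (Red.diag (ULift.{u} ℤ) ℤ) X).symm
    (Over.homMk y' (specULiftZIsTerminal.hom_ext _ _)), ?_⟩
  rw [gmFn_eq_fn, Equiv.apply_symm_apply]
  exact (hy' _).trans hφ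

theorem gaFn_comp {X X' : Over S} (g : X' ⟶ X) (x : X ⟶ Red.Ga S) :
    Red.gaFn (g ≫ x) = g.left.appTop (Red.gaFn x) := by
  unfold Red.gaFn
  rw [Over.comp_left, Category.assoc, Scheme.Hom.comp_appTop]
  rfl

theorem gmFn_comp {X X' : Over S} (g : X' ⟶ X) (x : X ⟶ Red.Gm S) :
    Red.gmFn (g ≫ x) = g.left.appTop (Red.gmFn x) := by
  unfold Red.gmFn
  rw [Over.comp_left, Category.assoc, Scheme.Hom.comp_appTop]
  rfl

theorem gaFn_one {X : Over S} : Red.gaFn (1 : X ⟶ Red.Ga S) = 0 := by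
  have := gaFn_mul (1 : X ⟶ Red.Ga S) 1
  have h11 : (1 : X ⟶ Red.Ga S) * 1 = 1 := _root_.mul_one (1 : X ⟶ Red.Ga S)
  rw [h11] at this
  exact left_eq_add.mp this

theorem gaFn_inv {X : Over S} (x : X ⟶ Red.Ga S) : Red.gaFn x⁻¹ = - Red.gaFn x := by
  have := gaFn_mul x⁻¹ x
  rw [inv_mul_cancel, gaFn_one] at this
  exact eq_neg_of_add_eq_zero_left this.symm

theorem gmFn_one {X : Over S} : Red.gmFn (1 : X ⟶ Red.Gm S) = 1 := by
  have := gmFn_mul (1 : X ⟶ Red.Gm S) 1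
  have h11 : (1 : X ⟶ Red.Gm S) * 1 = 1 := _root_.mul_one (1 : X ⟶ Red.Gm S)
  rw [h11] at this
  exact (gmFn_isUnit (1 : X ⟶ Red.Gm S)).mul_left_cancel (by rw [← this, _root_.mul_one])

theorem gmFn_inv_mul {X : Over S} (x : X ⟶ Red.Gm S) : Red.gmFn x⁻¹ * Red.gmFn x = 1 := by
  rw [← gmFn_mul, inv_mul_cancel, gmFn_one]

theorem gmFn_pow {X : Over S} (x : X ⟶ Red.Gm S) (n : ℕ) : Red.gmFn (x ^ n) = Red.gmFn x ^ n := by
  induction n with
  | zero => simp [gmFn_one]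
  | succ n ih => rw [pow_succ, pow_succ, gmFn_mul, ih]


/-- `Hom(X, 𝔾_a) ≃ Γ(X)`. -/
noncomputable def gaEquiv (X : Over S) : (X ⟶ Red.Ga S) ≃ Γ(X.left, ⊤) :=
  Equiv.ofBijective Red.gaFn ⟨gaFn_injective, gaFn_surjective⟩

@[simp] lemma gaEquiv_apply {X : Over S} (x : X ⟶ Red.Ga S) : gaEquiv X x = Red.gaFn x := rfl

@[simp] lemma gaFn_gaEquiv_symm {X : Over S} (a : Γ(X.left, ⊤)) :
    Red.gaFn ((gaEquiv X).symm a) = a := (gaEquiv X).apply_symm_apply a

lemma gaEquiv_symm_gaFn {X : Over S} (x : X ⟶ Red.Ga S) :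
    (gaEquiv X).symm (Red.gaFn x) = x := (gaEquiv X).symm_apply_apply x

lemma gaEquiv_symm_add {X : Over S} (a b : Γ(X.left, ⊤)) :
    (gaEquiv X).symm (a + b) = (gaEquiv X).symm a * (gaEquiv X).symm b := by
  apply gaFn_injective
  rw [gaFn_mul]
  simp

/-- the unit of `Γ(X)` defined by a point of `𝔾_m`. -/
noncomputable def gmUnit {X : Over S} (z : X ⟶ Red.Gm S) : Γ(X.left, ⊤)ˣ := (gmFn_isUnit z).unit

@[simp] lemma coe_gmUnit {X : Over S} (z : X ⟶ Red.Gm S) :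
    ((gmUnit z : Γ(X.left, ⊤)ˣ) : Γ(X.left, ⊤)) = Red.gmFn z := rfl

lemma gmUnit_mul {X : Over S} (z w : X ⟶ Red.Gm S) : gmUnit (z * w) = gmUnit z * gmUnit w := by
  apply Units.ext
  simp [gmFn_mul]

lemma gmUnit_injective {X : Over S} :
    Function.Injective (gmUnit : (X ⟶ Red.Gm S) → Γ(X.left, ⊤)ˣ) := by
  intro z w h
  apply gmFn_injective
  exact congrArg (fun k : Γ(X.left, ⊤)ˣ => (k : Γ(X.left, ⊤))) h

lemma gmUnit_surjective {X : Over S} :
    Function.Surjective (gmUnit : (X ⟶ Red.Gm S) → Γ(X.left, ⊤)ˣ) := by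
  intro b
  obtain ⟨z, hz⟩ := gmFn_surjective (b : Γ(X.left, ⊤)) b.isUnit
  exact ⟨z, Units.ext hz⟩

/-- `Hom(X, 𝔾_m) ≃ Γ(X)ˣ`. -/
noncomputable def gmEquiv (X : Over S) : (X ⟶ Red.Gm S) ≃ Γ(X.left, ⊤)ˣ :=
  Equiv.ofBijective gmUnit ⟨gmUnit_injective, gmUnit_surjective⟩

@[simp] lemma gmEquiv_apply {X : Over S} (z : X ⟶ Red.Gm S) : gmEquiv X z = gmUnit z := rfl

@[simp] lemma gmFn_gmEquiv_symm {X : Over S} (b : Γ(X.left, ⊤)ˣ) :
    Red.gmFn ((gmEquiv X).symm b) = b :=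
  congrArg (fun k : Γ(X.left, ⊤)ˣ => (k : Γ(X.left, ⊤))) ((gmEquiv X).apply_symm_apply b)

lemma gmEquiv_symm_gmUnit {X : Over S} (z : X ⟶ Red.Gm S) :
    (gmEquiv X).symm (gmUnit z) = z := (gmEquiv X).symm_apply_apply z

lemma gmEquiv_symm_mul {X : Over S} (a b : Γ(X.left, ⊤)ˣ) :
    (gmEquiv X).symm (a * b) = (gmEquiv X).symm a * (gmEquiv X).symm b := by
  apply gmFn_injective
  rw [gmFn_mul]
  simp

lemma gmEquiv_symm_eq {X : Over S} (z : X ⟶ Red.Gm S) (b : Γ(X.left, ⊤)ˣ)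
    (h : Red.gmFn z = b) : (gmEquiv X).symm b = z := by
  apply gmFn_injective
  rw [h]; simp

lemma gaEquiv_symm_eq {X : Over S} (x : X ⟶ Red.Ga S) (a : Γ(X.left, ⊤))
    (h : Red.gaFn x = a) : (gaEquiv X).symm a = x := by
  apply gaFn_injective
  rw [h]; simp

end Groth.Agent.Lib.Helper27.GaGm
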