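import Mathlib
import Groth.Agent.Lib.Helper27GaGm

/-!
# Additive functions on diagonalisable groups vanish (helper11)

* `primitive_eq_zero`: an element `e` of a monoid algebra `B[N]` with `Δ e = e ⊗ 1 + 1 ⊗ e`
  (expressed in `B[N × N]`) is zero.
* `ptOf`: points of `D_U(M)` from morphisms to `Spec ℤ[M]`.
* `section_eq_zero_of_additive`: a global function on `D_U(M)` which is additive on points is zero.
-/

set_option autoImplicit false
universe u

open CategoryTheory MonoidalCategory CartesianMonoidalCategory MonObj GrpObj AlgebraicGeometry Limits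
open Groth.Agent.Lib.Helper27.GaGm

namespace Groth.Agent.Lib.Helper11MultGa

section Alg

variable {B : Type*} [CommRing B] {N : Type*} [Monoid N]

lemma primitive_eq_zero (e : MonoidAlgebra B N)
    (h : MonoidAlgebra.mapDomain (fun n : N => (n, n)) e =
      MonoidAlgebra.mapDomain (fun n : N => (n, (1 : N))) e +
        MonoidAlgebra.mapDomain (fun n : N => ((1 : N), n)) e) : e = 0 := by
  classical
  have hd : Function.Injective (fun n : N => (n, n)) := fun a b hab => (Prod.ext_iff.mp hab).1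
  have hl : Function.Injective (fun n : N => (n, (1 : N))) := fun a b hab => (Prod.ext_iff.mp hab).1
  have hr : Function.Injective (fun n : N => ((1 : N), n)) := fun a b hab => (Prod.ext_iff.mp hab).2
  ext n
  have h1 := congrArg (fun z => z.coeff (n, n)) h
  simp only [MonoidAlgebra.coeff_mapDomain, MonoidAlgebra.coeff_add, Finsupp.add_apply] at h1
  have e1 : (Finsupp.mapDomain (fun n : N => (n, n)) e.coeff) (n, n) = e.coeff n :=
    Finsupp.mapDomain_apply hd e.coeff n
  rw [e1] at h1
  by_cases hn : n = 1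
  · subst hn
    have e2 : (Finsupp.mapDomain (fun n : N => (n, (1 : N))) e.coeff) (1, 1) = e.coeff 1 :=
      Finsupp.mapDomain_apply hl e.coeff 1
    have e3 : (Finsupp.mapDomain (fun n : N => ((1 : N), n)) e.coeff) (1, 1) = e.coeff 1 :=
      Finsupp.mapDomain_apply hr e.coeff 1
    rw [e2, e3] at h1
    have : e.coeff 1 = 0 := by
      have h2 : e.coeff 1 + 0 = e.coeff 1 + e.coeff 1 := by rw [add_zero]; exact h1
      exact (add_left_cancel h2).symm
    simpa using this
  · have e2 : (Finsupp.mapDomain (fun n : N => (n, (1 : N))) e.coeff) (n, n) = 0 := by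
      apply Finsupp.mapDomain_of_notMem_range
      rintro ⟨a, ha⟩
      have := Prod.ext_iff.mp ha
      exact hn this.2.symm
    have e3 : (Finsupp.mapDomain (fun n : N => ((1 : N), n)) e.coeff) (n, n) = 0 := by
      apply Finsupp.mapDomain_of_notMem_range
      rintro ⟨a, ha⟩
      have := Prod.ext_iff.mp ha
      exact hn this.1.symm
    rw [e2, e3, add_zero] at h1
    simpa using h1

end Alg

section Pts

variable {U : Scheme.{u}} (M : Type) [AddCommGroup M]

/-- the coordinate ring `ℤ[M]` of the diagonalisable group -/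
abbrev AM : Type u := MonoidAlgebra (ULift.{u} ℤ) (Multiplicative M)

/-- the structure morphism `U ⟶ Spec ℤ` -/
noncomputable abbrev tU (U : Scheme.{u}) : U ⟶ Spec (CommRingCat.of (ULift.{u} ℤ)) :=
  Limits.IsTerminal.from specULiftZIsTerminal U

/-- the point of `D_U(M)` attached to a morphism to `Spec ℤ[M]`. -/
noncomputable def ptOf {X : Over U} (y : X.left ⟶ Spec (CommRingCat.of (AM.{u} M))) :
    X ⟶ Red.DS U M :=
  (adjEquiv (tU U) (Red.diag (ULift.{u} ℤ) M) X).symm
    (Over.homMk y (specULiftZIsTerminal.hom_ext _ _))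

lemma adjEquiv_ptOf {X : Over U} (y : X.left ⟶ Spec (CommRingCat.of (AM.{u} M))) :
    (adjEquiv (tU U) (Red.diag (ULift.{u} ℤ) M) X (ptOf M y)).left = y := by
  unfold ptOf
  rw [Equiv.apply_symm_apply]
  rfl

lemma ptOf_adjEquiv {X : Over U} (a : X ⟶ Red.DS U M) :
    ptOf M (X := X) (adjEquiv (tU U) (Red.diag (ULift.{u} ℤ) M) X a).left = a := by
  apply (adjEquiv (tU U) (Red.diag (ULift.{u} ℤ) M) X).injective
  apply Over.OverMorphism.ext
  rw [adjEquiv_ptOf]

lemma ptOf_comp {X X' : Over U} (h : X' ⟶ X) (y : X.left ⟶ Spec (CommRingCat.of (AM.{u} M))) :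
    h ≫ ptOf M y = ptOf M (h.left ≫ y) := by
  apply (adjEquiv (tU U) (Red.diag (ULift.{u} ℤ) M) X').injective
  apply Over.OverMorphism.ext
  rw [adjEquiv_ptOf, adjEquiv_left, Over.comp_left, Category.assoc, ← adjEquiv_left, adjEquiv_ptOf]
  rfl

lemma amRingHom_ext {C : Type*} [CommRing C] (f g : AM.{u} M →+* C)
    (h : ∀ m : Multiplicative M, f (MonoidAlgebra.single m 1) = g (MonoidAlgebra.single m 1)) :
    f = g := by
  apply MonoidAlgebra.ringHom_ext
  · intro r
    exact congr($(ulift_int_ringHom_ext (f.comp MonoidAlgebra.singleOneRingHom)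
      (g.comp MonoidAlgebra.singleOneRingHom)) r)
  · intro m
    exact h m

lemma ptOf_mul {X : Over U} (y y' y'' : X.left ⟶ Spec (CommRingCat.of (AM.{u} M)))
    (h : ∀ m : Multiplicative M, fn y'' (MonoidAlgebra.single m 1) =
      fn y (MonoidAlgebra.single m 1) * fn y' (MonoidAlgebra.single m 1)) :
    ptOf M y * ptOf M y' = ptOf M y'' := by
  apply (adjEquiv (tU U) (Red.diag (ULift.{u} ℤ) M) X).injective
  rw [adjEquiv_mul]
  apply Over.OverMorphism.ext
  rw [adjEquiv_ptOf]
  apply fn_ext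
  intro a
  rw [fn_eq, fn_eq]
  refine congr($(amRingHom_ext M _ _ ?_) a)
  intro m
  rw [← fn_eq, ← fn_eq, h m]
  have hg : Coalgebra.comul (R := ULift.{u} ℤ) (MonoidAlgebra.single m (1 : ULift.{u} ℤ)) =
      (MonoidAlgebra.single m (1 : ULift.{u} ℤ)) ⊗ₜ[ULift.{u} ℤ] (MonoidAlgebra.single m 1) := by
    simp
  have := fn_mul_left_of_grouplike (adjEquiv (tU U) (Red.diag (ULift.{u} ℤ) M) X (ptOf M y))
    (adjEquiv (tU U) (Red.diag (ULift.{u} ℤ) M) X (ptOf M y')) _ hg
  rw [adjEquiv_ptOf, adjEquiv_ptOf] at this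
  exact this

end Pts

section Core

variable {U : Scheme.{u}} (M : Type) [AddCommGroup M] (c : Γ((Red.DS U M).left, ⊤))

/-- value of `c` at a point from an affine scheme -/
noncomputable def cv {B' : Type u} [CommRing B'] {s' : Spec (CommRingCat.of B') ⟶ U}
    (p : Over.mk s' ⟶ Red.DS U M) : B' :=
  (Scheme.ΓSpecIso (CommRingCat.of B')).hom.hom (p.left.appTop.hom c)

lemma cv_comp {B' B'' : Type u} [CommRing B'] [CommRing B''] {s' : Spec (CommRingCat.of B') ⟶ U}
    {s'' : Spec (CommRingCat.of B'') ⟶ U} (σ : B' →+* B'')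
    (hs : Spec.map (CommRingCat.ofHom σ) ≫ s' = s'') (p : Over.mk s' ⟶ Red.DS U M) :
    cv M c ((Over.homMk (Spec.map (CommRingCat.ofHom σ)) hs : Over.mk s'' ⟶ Over.mk s') ≫ p) =
      σ (cv M c p) := by
  unfold cv
  rw [Over.comp_left, Scheme.Hom.comp_appTop]
  have := Scheme.ΓSpecIso_naturality (CommRingCat.ofHom σ)
  exact congr($(this).hom (p.left.appTop.hom c))

lemma fn_specMap_id {A' B' : Type u} [CommRing A'] [CommRing B'] (φ : A' →+* B') (a : A') :
    fn (Spec.map (CommRingCat.ofHom φ)) a = (Scheme.ΓSpecIso (CommRingCat.of B')).inv.hom (φ a) := by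
  have := fn_specMap (𝟙 (Spec (CommRingCat.of B'))) φ a
  rw [Category.id_comp] at this
  rw [this]
  unfold fn
  simp

variable {B : Type u} [CommRing B] (s : Spec (CommRingCat.of B) ⟶ U)

/-- `Spec B[M] ⟶ U` -/
noncomputable def s1 : Spec (CommRingCat.of (MonoidAlgebra B (Multiplicative M))) ⟶ U :=
  Spec.map (CommRingCat.ofHom (MonoidAlgebra.singleOneRingHom (R := B) (M := Multiplicative M))) ≫ s

/-- `Spec B[M × M] ⟶ U` -/
noncomputable def s2 :
    Spec (CommRingCat.of (MonoidAlgebra B (Multiplicative M × Multiplicative M))) ⟶ U :=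
  Spec.map (CommRingCat.ofHom
    (MonoidAlgebra.singleOneRingHom (R := B) (M := Multiplicative M × Multiplicative M))) ≫ s

/-- `ℤ[M] → B[M]` -/
noncomputable def theta1 (B : Type u) [CommRing B] : AM.{u} M →+* MonoidAlgebra B (Multiplicative M) :=
  MonoidAlgebra.mapRingHom (Multiplicative M)
    ((Int.castRingHom B).comp (ULift.ringEquiv : ULift.{u} ℤ ≃+* ℤ).toRingHom)

lemma theta1_single (m : Multiplicative M) :
    theta1 M B (MonoidAlgebra.single m 1) = MonoidAlgebra.single m 1 := by
  unfold theta1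
  rw [MonoidAlgebra.mapRingHom_single]
  simp

/-- the universal point of `D_U(M)` over `Spec B[M]` -/
noncomputable def p1 : Over.mk (s1 M s) ⟶ Red.DS U M :=
  ptOf M (X := Over.mk (s1 M s)) (Spec.map (CommRingCat.ofHom (theta1 M B)))

/-- the value of `c` at the universal point -/
noncomputable def e1 : MonoidAlgebra B (Multiplicative M) := cv M c (p1 M s)

lemma homMk_comp_p1 {B' : Type u} [CommRing B'] {s' : Spec (CommRingCat.of B') ⟶ U}
    (σ : MonoidAlgebra B (Multiplicative M) →+* B')
    (hs : Spec.map (CommRingCat.ofHom σ) ≫ s1 M s = s') :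
    (Over.homMk (Spec.map (CommRingCat.ofHom σ)) hs : Over.mk s' ⟶ Over.mk (s1 M s)) ≫ p1 M s =
      ptOf M (X := Over.mk s') (Spec.map (CommRingCat.ofHom (σ.comp (theta1 M B)))) := by
  unfold p1
  rw [ptOf_comp]
  congr 1
  change Spec.map (CommRingCat.ofHom σ) ≫ Spec.map (CommRingCat.ofHom (theta1 M B)) = _
  rw [← Spec.map_comp]
  rfl

/-- the three maps `B[M] → B[M × M]` -/
noncomputable def dd (B : Type u) [CommRing B] :
    MonoidAlgebra B (Multiplicative M) →+* MonoidAlgebra B (Multiplicative M × Multiplicative M) :=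
  MonoidAlgebra.mapDomainRingHom B
    ((MonoidHom.id (Multiplicative M)).prod (MonoidHom.id (Multiplicative M)))

noncomputable def i1 (B : Type u) [CommRing B] :
    MonoidAlgebra B (Multiplicative M) →+* MonoidAlgebra B (Multiplicative M × Multiplicative M) :=
  MonoidAlgebra.mapDomainRingHom B (MonoidHom.inl (Multiplicative M) (Multiplicative M))

noncomputable def i2 (B : Type u) [CommRing B] :
    MonoidAlgebra B (Multiplicative M) →+* MonoidAlgebra B (Multiplicative M × Multiplicative M) :=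
  MonoidAlgebra.mapDomainRingHom B (MonoidHom.inr (Multiplicative M) (Multiplicative M))

lemma mapDomainRingHom_comp_singleOne {N N' : Type} [Monoid N] [Monoid N'] (f : N →* N') :
    (MonoidAlgebra.mapDomainRingHom B f).comp (MonoidAlgebra.singleOneRingHom) =
      MonoidAlgebra.singleOneRingHom := by
  ext b
  simp

lemma specMap_comp_s1
    (σ : MonoidAlgebra B (Multiplicative M) →+* MonoidAlgebra B (Multiplicative M × Multiplicative M))
    (hσ : σ.comp MonoidAlgebra.singleOneRingHom = MonoidAlgebra.singleOneRingHom) :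
    Spec.map (CommRingCat.ofHom σ) ≫ s1 M s = s2 M s := by
  unfold s1 s2
  rw [← Category.assoc, ← Spec.map_comp, ← CommRingCat.ofHom_comp, hσ]

include c in
theorem e1_eq_zero (hc : ∀ (X : Over U) (a b : X ⟶ Red.DS U M),
    (a * b).left.appTop.hom c = a.left.appTop.hom c + b.left.appTop.hom c) : e1 M c s = 0 := by
  have hd := specMap_comp_s1 M s (dd M B) (mapDomainRingHom_comp_singleOne _)
  have h1 := specMap_comp_s1 M s (i1 M B) (mapDomainRingHom_comp_singleOne _)
  have h2 := specMap_comp_s1 M s (i2 M B) (mapDomainRingHom_comp_singleOne _)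
  have hmul : ((Over.homMk (Spec.map (CommRingCat.ofHom (i1 M B))) h1 : Over.mk (s2 M s) ⟶ Over.mk (s1 M s)) ≫ p1 M s) *
      ((Over.homMk (Spec.map (CommRingCat.ofHom (i2 M B))) h2 : Over.mk (s2 M s) ⟶ Over.mk (s1 M s)) ≫ p1 M s) =
      (Over.homMk (Spec.map (CommRingCat.ofHom (dd M B))) hd : Over.mk (s2 M s) ⟶ Over.mk (s1 M s)) ≫ p1 M s := by
    rw [homMk_comp_p1, homMk_comp_p1, homMk_comp_p1]
    apply ptOf_mul
    intro m
    rw [fn_specMap_id, fn_specMap_id, fn_specMap_id, ← map_mul]
    congr 1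
    simp only [RingHom.comp_apply, theta1_single]
    unfold dd i1 i2
    simp only [MonoidAlgebra.mapDomainRingHom_apply, MonoidAlgebra.mapDomain_single,
      MonoidAlgebra.single_mul_single]
    rw [_root_.mul_one]
    congr 1
    simp
  have key := hc (Over.mk (s2 M s))
    ((Over.homMk (Spec.map (CommRingCat.ofHom (i1 M B))) h1 : Over.mk (s2 M s) ⟶ Over.mk (s1 M s)) ≫ p1 M s)
    ((Over.homMk (Spec.map (CommRingCat.ofHom (i2 M B))) h2 : Over.mk (s2 M s) ⟶ Over.mk (s1 M s)) ≫ p1 M s)
  rw [hmul] at key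
  have key2 := congrArg (Scheme.ΓSpecIso (CommRingCat.of
    (MonoidAlgebra B (Multiplicative M × Multiplicative M)))).hom.hom key
  rw [map_add] at key2
  have k1 := cv_comp M c (dd M B) hd (p1 M s)
  have k2 := cv_comp M c (i1 M B) h1 (p1 M s)
  have k3 := cv_comp M c (i2 M B) h2 (p1 M s)
  unfold cv at k1 k2 k3
  rw [k1, k2, k3] at key2
  exact primitive_eq_zero _ key2

include c in
theorem cv_eq_zero (hc : ∀ (X : Over U) (a b : X ⟶ Red.DS U M),
    (a * b).left.appTop.hom c = a.left.appTop.hom c + b.left.appTop.hom c)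
    (a₀ : Over.mk s ⟶ Red.DS U M) : cv M c a₀ = 0 := by
  obtain ⟨y₀, hy₀⟩ : ∃ y₀ : Spec (CommRingCat.of B) ⟶ Spec (CommRingCat.of (AM.{u} M)),
      y₀ = (adjEquiv (tU U) (Red.diag (ULift.{u} ℤ) M) (Over.mk s) a₀).left := ⟨_, rfl⟩
  obtain ⟨θ₀, hθ₀⟩ : ∃ θ₀ : AM.{u} M →+* B, Spec.map (CommRingCat.ofHom θ₀) = y₀ :=
    ⟨(Spec.preimage y₀).hom, Spec.map_preimage y₀⟩
  let χ : Multiplicative M →* B := (θ₀ : AM.{u} M →* B).comp (MonoidAlgebra.of _ _)
  let ε : MonoidAlgebra B (Multiplicative M) →+* B :=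
    MonoidAlgebra.liftNCRingHom (RingHom.id B) χ (fun _ _ => Commute.all _ _)
  have hε1 : ε.comp MonoidAlgebra.singleOneRingHom = RingHom.id B := by
    ext b
    show ε (MonoidAlgebra.single 1 b) = b
    rw [MonoidAlgebra.liftNCRingHom_single]
    simp
  have hε2 : ε.comp (theta1 M B) = θ₀ := by
    apply amRingHom_ext
    intro m
    rw [RingHom.comp_apply, theta1_single, MonoidAlgebra.liftNCRingHom_single]
    simp [χ]
  have hs : Spec.map (CommRingCat.ofHom ε) ≫ s1 M s = s := by
    unfold s1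
    rw [← Category.assoc, ← Spec.map_comp, ← CommRingCat.ofHom_comp, hε1]
    simp
  have h3 := homMk_comp_p1 M s ε hs
  rw [hε2, hθ₀, hy₀, ptOf_adjEquiv] at h3
  rw [← h3, cv_comp, show cv M c (p1 M s) = e1 M c s from rfl, e1_eq_zero M c s hc, map_zero]

include c in
/-- A global function on `D_U(M)` which is additive on points vanishes. -/
theorem section_eq_zero_of_additive (hc : ∀ (X : Over U) (a b : X ⟶ Red.DS U M),
    (a * b).left.appTop.hom c = a.left.appTop.hom c + b.left.appTop.hom c) : c = 0 := by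
  have gen : ∀ (R : CommRingCat.{u}) (x : Spec R ⟶ (Red.DS U M).left), x.appTop.hom c = 0 := by
    intro R x
    have h0 := cv_eq_zero M c (B := R) (x ≫ (Red.DS U M).hom) hc (Over.homMk x rfl)
    unfold cv at h0
    have hinj : Function.Injective (Scheme.ΓSpecIso (CommRingCat.of R)).hom.hom :=
      (ConcreteCategory.bijective_of_isIso (Scheme.ΓSpecIso (CommRingCat.of R)).hom).1
    apply hinj
    rw [map_zero]
    exact h0
  refine Scheme.zero_of_zero_cover c (Red.DS U M).left.affineOpenCover.openCover (fun i => ?_)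
  exact gen _ ((Red.DS U M).left.affineOpenCover.f i)

end Core

end Groth.Agent.Lib.Helper11MultGa
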