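import Mathlib
import Groth.Prelude.Def_Red
import Groth.Prelude.Def_Red2

/-!
# Closed subgroups `μ_r ⊆ D_S(M)` of diagonalisable groups
-/

set_option autoImplicit false
universe u
open CategoryTheory MonoidalCategory CartesianMonoidalCategory MonObj GrpObj AlgebraicGeometry
  CategoryTheory.Limits

namespace Groth.Agent.Lib.Helper27DiagSub

theorem exists_surj_zmod (M : Type) [AddCommGroup M] [AddGroup.FG M] [Nontrivial M] :
    ∃ (r : ℕ) (_ : r.Prime) (φ : M →+ ZMod r), Function.Surjective φ := by
  have : Module.Finite ℤ M := Module.Finite.iff_addGroup_fg.mpr inferInstance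
  obtain ⟨N, hN⟩ : ∃ N : Submodule ℤ M, IsCoatom N := by
    obtain h := (eq_top_or_exists_le_coatom (⊥ : Submodule ℤ M))
    rcases h with h | ⟨N, hN, -⟩
    · exact absurd h bot_ne_top
    · exact ⟨N, hN⟩
  have hs : IsSimpleModule ℤ (M ⧸ N) := isSimpleModule_iff_isCoatom.mpr hN
  obtain ⟨I, hI, ⟨e⟩⟩ := isSimpleModule_iff_quot_maximal.mp hs
  have hI0 : I ≠ ⊥ := Ring.ne_bot_of_isMaximal_of_not_isField hI Int.not_isField
  have hIg : Ideal.span {Submodule.IsPrincipal.generator I} = I := Ideal.span_singleton_generator I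
  have hg0 : Submodule.IsPrincipal.generator I ≠ 0 := by
    intro h0
    apply hI0
    rw [← hIg, h0]
    simp
  have hgp : Prime (Submodule.IsPrincipal.generator I) := by
    rw [← Ideal.span_singleton_prime hg0, hIg]
    exact hI.isPrime
  obtain ⟨r, hr, hIr⟩ : ∃ r : ℕ, r.Prime ∧ I = Ideal.span {(r : ℤ)} :=
    ⟨_, Int.prime_iff_natAbs_prime.mp hgp, by rw [Int.span_natAbs, hIg]⟩
  subst hIr
  refine ⟨r, hr, ?_, ?_⟩
  · exact ((Int.quotientSpanNatEquivZMod r).toAddEquiv.toAddMonoidHom.comp
      e.toAddEquiv.toAddMonoidHom).comp (N.mkQ.toAddMonoidHom)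
  · intro z
    obtain ⟨y, hy⟩ := (Int.quotientSpanNatEquivZMod r).surjective z
    obtain ⟨x, hx⟩ := e.surjective y
    obtain ⟨m, hm⟩ := N.mkQ_surjective x
    exact ⟨m, by simp [hm, hx, hy]⟩

section Spec

variable {R : Type u} [CommRing R] {A B : Type u} [CommRing A] [CommRing B]
  [Bialgebra R A] [Bialgebra R B]

theorem isMonHom_spec (f : A →ₐc[R] B) :
    IsMonHom ((Spec.map (CommRingCat.ofHom (f : A →ₐ[R] B).toRingHom)).asOver
      (Spec (CommRingCat.of R))) := by
  have := ((bialgSpec (CommRingCat.of R)).map (CommBialgCat.ofHom f).op).isMonHom_hom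
  exact this

end Spec

section Diag

variable {M N : Type} [AddCommGroup M] [AddCommGroup N]

theorem isMonHom_diagMap (R : Type u) [CommRing R] (φ : M →+ N) :
    IsMonHom (Red.diagMap R φ) := by
  have := isMonHom_spec (R := R)
    (MonoidAlgebra.mapDomainBialgHom R (AddMonoidHom.toMultiplicative φ))
  exact this

open scoped Obj in
theorem isMonHom_DSmap (S : Scheme.{u}) (φ : M →+ N) :
    IsMonHom (Red.DSmap S φ) := by
  haveI := isMonHom_diagMap (ULift.{u} ℤ) φ
  exact Functor.map.instIsMonHom (F := Over.pullback (Limits.IsTerminal.from specULiftZIsTerminal S))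
    (f := Red.diagMap (ULift.{u} ℤ) φ)

theorem isClosedImmersion_pullback_map_left {S T : Scheme.{u}} (f : S ⟶ T) {X Y : Over T}
    (g : X ⟶ Y) [hg : IsClosedImmersion g.left] :
    IsClosedImmersion ((Over.pullback f).map g).left := by
  have h1 : ((Over.pullback f).map g).left =
      pullback.map X.hom f Y.hom f g.left (𝟙 _) (𝟙 _) (by simp) (by simp) := by
    apply pullback.hom_ext <;> simp [pullback.map]
  rw [h1]
  haveI : MorphismProperty.IsStableUnderComposition
      (@IsClosedImmersion : MorphismProperty Scheme.{u}) :=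
    (inferInstance : MorphismProperty.IsMultiplicative
      (@IsClosedImmersion : MorphismProperty Scheme.{u})).toIsStableUnderComposition
  exact MorphismProperty.pullbackMap (P := (@IsClosedImmersion : MorphismProperty Scheme.{u}))
    hg (inferInstance : IsClosedImmersion (𝟙 S)) (by simp) (by simp)

theorem mapDomainAlgHom_surjective (R : Type u) [CommRing R] {G H : Type} [Monoid G] [Monoid H]
    (f : G →* H) (hf : Function.Surjective f) :
    Function.Surjective (MonoidAlgebra.mapDomainAlgHom R R f) := by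
  intro x
  induction x using MonoidAlgebra.induction_linear with
  | zero => exact ⟨0, map_zero _⟩
  | add a b ha hb =>
    obtain ⟨a', rfl⟩ := ha
    obtain ⟨b', rfl⟩ := hb
    exact ⟨a' + b', map_add _ _ _⟩
  | single h r =>
    obtain ⟨g, rfl⟩ := hf h
    exact ⟨MonoidAlgebra.single g r, by simp⟩

theorem isClosedImmersion_diagMap_left (R : Type u) [CommRing R] (φ : M →+ N)
    (hφ : Function.Surjective φ) :
    IsClosedImmersion (Red.diagMap R φ).left := by
  have : Function.Surjective (CommRingCat.ofHom
      (MonoidAlgebra.mapDomainAlgHom R R (AddMonoidHom.toMultiplicative φ)).toRingHom).hom := by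
    intro x
    obtain ⟨y, hy⟩ := mapDomainAlgHom_surjective R (AddMonoidHom.toMultiplicative φ)
      (fun h => by
        obtain ⟨m, hm⟩ := hφ (Multiplicative.toAdd h)
        exact ⟨Multiplicative.ofAdd m, by simp [hm]⟩) x
    exact ⟨y, hy⟩
  exact IsClosedImmersion.spec_of_surjective _ this

theorem isClosedImmersion_DSmap_left (S : Scheme.{u}) (φ : M →+ N)
    (hφ : Function.Surjective φ) :
    IsClosedImmersion (Red.DSmap S φ).left := by
  haveI := isClosedImmersion_diagMap_left (ULift.{u} ℤ) φ hφ
  exact isClosedImmersion_pullback_map_left _ _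

end Diag

end Groth.Agent.Lib.Helper27DiagSub
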