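import Mathlib
import Groth.Agent.Lib.Helper11MultGaA
import Groth.Agent.Lib.Helper27DiagSub

/-!
# Characters of points of diagonalisable groups (helper11)

`charOf M p : Multiplicative M →* Γ(X)` for a point `p : X ⟶ D_S(M)`; it is injective in `p`,
multiplicative, natural in `X` and in `M`, and every character arises.
-/

set_option autoImplicit false
universe u

open CategoryTheory MonoidalCategory CartesianMonoidalCategory MonObj GrpObj AlgebraicGeometry Limits
open Groth.Agent.Lib.Helper27.GaGm Groth.Agent.Lib.Helper11MultGa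

namespace Groth.Agent.Lib.Helper11Kummer

variable {S : Scheme.{u}} (M : Type) [AddCommGroup M]

/-- the character of a point of `D_S(M)` -/
noncomputable def charOf {X : Over S} (p : X ⟶ Red.DS S M) : Multiplicative M →* Γ(X.left, ⊤) :=
  ((fnHom (A := AM.{u} M) (adjEquiv (tU S) (Red.diag (ULift.{u} ℤ) M) X p).left :
    AM.{u} M →+* Γ(X.left, ⊤)) : AM.{u} M →* Γ(X.left, ⊤)).comp (MonoidAlgebra.of _ _)

lemma charOf_apply {X : Over S} (p : X ⟶ Red.DS S M) (m : Multiplicative M) :
    charOf M p m = fn (A := AM.{u} M) (adjEquiv (tU S) (Red.diag (ULift.{u} ℤ) M) X p).left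
      (MonoidAlgebra.single m 1) := rfl

lemma charOf_ptOf {X : Over S} (y : X.left ⟶ Spec (CommRingCat.of (AM.{u} M)))
    (m : Multiplicative M) : charOf M (ptOf M y) m = fn y (MonoidAlgebra.single m 1) := by
  rw [charOf_apply, adjEquiv_ptOf]

lemma charOf_injective {X : Over S} : Function.Injective (charOf M (X := X) (S := S)) := by
  intro p q h
  apply (adjEquiv (tU S) (Red.diag (ULift.{u} ℤ) M) X).injective
  apply Over.OverMorphism.ext
  apply fn_ext (A := AM.{u} M)
  intro a
  rw [fn_eq, fn_eq]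
  refine congr($(amRingHom_ext M _ _ ?_) a)
  intro m
  exact DFunLike.congr_fun h m

lemma charOf_mul {X : Over S} (p q : X ⟶ Red.DS S M) :
    charOf M (p * q) = charOf M p * charOf M q := by
  refine MonoidHom.ext fun m => ?_
  rw [MonoidHom.mul_apply, charOf_apply, charOf_apply, charOf_apply, adjEquiv_mul]
  exact fn_mul_left_of_grouplike _ _ _ (by simp)

lemma charOf_one {X : Over S} : charOf M (1 : X ⟶ Red.DS S M) = 1 := by
  have h := charOf_mul M (1 : X ⟶ Red.DS S M) 1
  have h11 : (1 : X ⟶ Red.DS S M) * 1 = 1 := _root_.mul_one (1 : X ⟶ Red.DS S M)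
  rw [h11] at h
  refine MonoidHom.ext fun m => ?_
  have hu : IsUnit (charOf M (1 : X ⟶ Red.DS S M) m) := by
    refine IsUnit.of_mul_eq_one (charOf M (1 : X ⟶ Red.DS S M) m⁻¹) ?_
    rw [← map_mul, mul_inv_cancel, map_one]
  have h2 := DFunLike.congr_fun h m
  rw [MonoidHom.mul_apply] at h2
  rw [MonoidHom.one_apply]
  exact hu.mul_left_cancel (by rw [← h2, _root_.mul_one])

lemma charOf_comp {X X' : Over S} (h : X' ⟶ X) (p : X ⟶ Red.DS S M) (m : Multiplicative M) :
    charOf M (h ≫ p) m = h.left.appTop.hom (charOf M p m) := by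
  rw [charOf_apply, charOf_apply, adjEquiv_left, Over.comp_left, Category.assoc, ← adjEquiv_left]
  exact fn_comp _ _ _

lemma exists_point_of_char {X : Over S} (χ : Multiplicative M →* Γ(X.left, ⊤)) :
    ∃ p : X ⟶ Red.DS S M, charOf M p = χ := by
  let θ : AM.{u} M →+* Γ(X.left, ⊤) :=
    MonoidAlgebra.liftNCRingHom
      ((Int.castRingHom Γ(X.left, ⊤)).comp (ULift.ringEquiv : ULift.{u} ℤ ≃+* ℤ).toRingHom) χ
      (fun _ _ => Commute.all _ _)
  obtain ⟨y, hy⟩ := fn_surj θ
  refine ⟨ptOf M y, MonoidHom.ext fun m => ?_⟩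
  rw [charOf_ptOf, hy, MonoidAlgebra.liftNCRingHom_single]
  simp

lemma isUnit_charOf {X : Over S} (p : X ⟶ Red.DS S M) (m : Multiplicative M) :
    IsUnit (charOf M p m) := by
  refine IsUnit.of_mul_eq_one (charOf M p m⁻¹) ?_
  rw [← map_mul, mul_inv_cancel, map_one]

variable {M} {N : Type} [AddCommGroup N]

lemma charOf_DSmap {X : Over S} (φ : M →+ N) (p : X ⟶ Red.DS S N) (m : Multiplicative M) :
    charOf M (p ≫ Red.DSmap S φ) m = charOf N p (AddMonoidHom.toMultiplicative φ m) := by
  have h1 : (adjEquiv (tU S) (Red.diag (ULift.{u} ℤ) M) X (p ≫ Red.DSmap S φ)).left =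
      (adjEquiv (tU S) (Red.diag (ULift.{u} ℤ) N) X p).left ≫
        (Red.diagMap (ULift.{u} ℤ) φ).left := by
    rw [adjEquiv_left, adjEquiv_left, Over.comp_left, Category.assoc, Category.assoc]
    congr 1
    unfold Red.DSmap
    simp only [Over.pullback_map_left]
    exact pullback.lift_fst _ _ _
  rw [charOf_apply, charOf_apply, h1]
  have h2 : (Red.diagMap (ULift.{u} ℤ) φ).left = Spec.map (CommRingCat.ofHom
      (MonoidAlgebra.mapDomainAlgHom (ULift.{u} ℤ) (ULift.{u} ℤ)
        (AddMonoidHom.toMultiplicative φ)).toRingHom) := rfl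
  rw [h2]
  refine (fn_specMap (A := AM.{u} M) (B := AM.{u} N) _ _ _).trans ?_
  congr 1
  simp

end Groth.Agent.Lib.Helper11Kummer
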