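import Mathlib
import Groth.Agent.Lib.Helper11KummerA
import Groth.Prelude.Def_NonAbH2

/-!
# The Kummer sequence is fppf exact (helper11)
-/

set_option autoImplicit false
universe u v₁

open CategoryTheory MonoidalCategory CartesianMonoidalCategory MonObj GrpObj AlgebraicGeometry Limits
open Groth.Agent.Lib.Helper27.GaGm Groth.Agent.Lib.Helper11MultGa

namespace Groth.Agent.Lib.Helper11Kummer

section General

variable {C : Type u} [Category.{v₁} C] [CartesianMonoidalCategory C]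
  {G G' G'' : C} [GrpObj G] [GrpObj G'] [GrpObj G'']

omit [GrpObj G'] in
lemma whisker_mul_eq (u : G' ⟶ G) : (G ◁ u) ≫ μ[G] = fst G G' * (snd G G' ≫ u) := by
  rw [Hom.mul_def]
  congr 1
  apply CartesianMonoidalCategory.hom_ext
  · rw [whiskerLeft_fst, lift_fst]
  · rw [whiskerLeft_snd, lift_snd]

/-- a homomorphism `u` which is a kernel of `v` on points gives the torsor square -/
theorem isPullback_of_kernel (u : G' ⟶ G) (v : G ⟶ G'') [IsMonHom u] [IsMonHom v]
    (huv : u ≫ v = 1)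
    (hex : ∀ (X : C) (w : X ⟶ G), w ≫ v = 1 → ∃ z : X ⟶ G', z ≫ u = w)
    (hinj : ∀ (X : C) (z z' : X ⟶ G'), z ≫ u = z' ≫ u → z = z') :
    IsPullback (fst G G') ((G ◁ u) ≫ μ[G]) v v := by
  have hw : fst G G' ≫ v = ((G ◁ u) ≫ μ[G]) ≫ v := by
    rw [whisker_mul_eq, MonObj.mul_comp, Category.assoc, huv, MonObj.comp_one, _root_.mul_one]
  refine ⟨⟨hw⟩, ⟨PullbackCone.IsLimit.mk hw ?_ ?_ ?_ ?_⟩⟩
  · intro s
    have h1 : (s.fst⁻¹ * s.snd) ≫ v = 1 := by
      rw [MonObj.mul_comp, GrpObj.inv_comp, s.condition, inv_mul_cancel]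
    exact lift s.fst (hex _ _ h1).choose
  · intro s
    exact lift_fst _ _
  · intro s
    have h1 : (s.fst⁻¹ * s.snd) ≫ v = 1 := by
      rw [MonObj.mul_comp, GrpObj.inv_comp, s.condition, inv_mul_cancel]
    have hz := (hex _ _ h1).choose_spec
    rw [whisker_mul_eq, MonObj.comp_mul, lift_fst, ← Category.assoc, lift_snd, hz,
      mul_inv_cancel_left]
  · intro s m hm1 hm2
    have h1 : (s.fst⁻¹ * s.snd) ≫ v = 1 := by
      rw [MonObj.mul_comp, GrpObj.inv_comp, s.condition, inv_mul_cancel]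
    have hz := (hex _ _ h1).choose_spec
    rw [whisker_mul_eq, MonObj.comp_mul, hm1, ← Category.assoc] at hm2
    have h2 : (m ≫ snd G G') ≫ u = (hex _ _ h1).choose ≫ u := by
      rw [hz, ← hm2, inv_mul_cancel_left]
    apply CartesianMonoidalCategory.hom_ext
    · rw [hm1, lift_fst]
    · rw [lift_snd]
      exact hinj _ _ _ h2

end General

section Kummer

variable {S : Scheme.{u}} (n : ℕ)

/-- `μ_n ⟶ 𝔾_m` -/
noncomputable abbrev uK (S : Scheme.{u}) (n : ℕ) : Red.DS S (ZMod n) ⟶ Red.Gm S :=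
  Red.DSmap S (Int.castAddHom (ZMod n))

/-- the `n`-th power map on `𝔾_m` -/
noncomputable abbrev vK (S : Scheme.{u}) (n : ℕ) : Red.Gm S ⟶ Red.Gm S := Red.chi S (n : ℤ)

lemma charOf_vK {X : Over S} (p : X ⟶ Red.Gm S) (m : Multiplicative ℤ) :
    charOf ℤ (p ≫ vK S n) m = charOf ℤ p (m ^ n) := by
  unfold vK Red.chi
  rw [charOf_DSmap]
  congr 1
  show Multiplicative.ofAdd (Multiplicative.toAdd m • (n : ℤ)) = m ^ n
  rw [smul_eq_mul]
  apply Multiplicative.toAdd.injective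
  rw [toAdd_pow]
  simp

lemma charOf_uK {X : Over S} (z : X ⟶ Red.DS S (ZMod n)) (m : Multiplicative ℤ) :
    charOf ℤ (z ≫ uK S n) m =
      charOf (ZMod n) z (Multiplicative.ofAdd ((Multiplicative.toAdd m : ℤ) : ZMod n)) := by
  unfold uK
  rw [charOf_DSmap]
  rfl

lemma uK_comp_vK : uK S n ≫ vK S n = 1 := by
  apply charOf_injective ℤ
  refine MonoidHom.ext fun m => ?_
  rw [charOf_vK, ← Category.id_comp (uK S n), charOf_uK, charOf_one, MonoidHom.one_apply]
  have : ((Multiplicative.toAdd (m ^ n) : ℤ) : ZMod n) = 0 := by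
    rw [toAdd_pow]
    simp
  rw [this, ofAdd_zero, map_one]

/-- a character of `ℤ` killed by `n` factors through `ℤ/n` -/
lemma exists_zmod_char {Γ₀ : Type*} [CommRing Γ₀] (χ : Multiplicative ℤ →* Γ₀)
    (h : ∀ m : Multiplicative ℤ, χ (m ^ n) = 1) :
    ∃ χ' : Multiplicative (ZMod n) →* Γ₀,
      ∀ k : ℤ, χ' (Multiplicative.ofAdd (k : ZMod n)) = χ (Multiplicative.ofAdd k) := by
  let f : ℤ →+ Additive Γ₀ˣ := MonoidHom.toAdditiveRight χ.toHomUnits
  have hf : f n = 0 := by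
    show Additive.ofMul (χ.toHomUnits (Multiplicative.ofAdd (n : ℤ))) = 0
    have h1 : χ.toHomUnits (Multiplicative.ofAdd (n : ℤ)) = 1 := by
      apply Units.ext
      rw [MonoidHom.coe_toHomUnits, Units.val_one]
      have := h (Multiplicative.ofAdd 1)
      rwa [← ofAdd_nsmul, nsmul_eq_mul, _root_.mul_one] at this
    rw [h1]
    rfl
  refine ⟨(Units.coeHom Γ₀).comp (AddMonoidHom.toMultiplicativeLeft (ZMod.lift n ⟨f, hf⟩)),
    fun k => ?_⟩
  show ((Additive.toMul (ZMod.lift n ⟨f, hf⟩ (k : ZMod n)) : Γ₀ˣ) : Γ₀) = _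
  rw [ZMod.lift_coe]
  rfl

lemma exists_lift_uK {X : Over S} (w : X ⟶ Red.Gm S) (hw : w ≫ vK S n = 1) :
    ∃ z : X ⟶ Red.DS S (ZMod n), z ≫ uK S n = w := by
  have h : ∀ m : Multiplicative ℤ, charOf ℤ w (m ^ n) = 1 := by
    intro m
    rw [← charOf_vK, hw, charOf_one, MonoidHom.one_apply]
  obtain ⟨χ', hχ'⟩ := exists_zmod_char n (charOf ℤ w) h
  obtain ⟨z, hz⟩ := exists_point_of_char (ZMod n) χ'
  refine ⟨z, charOf_injective ℤ (MonoidHom.ext fun m => ?_)⟩
  rw [charOf_uK, hz, hχ']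
  rfl

lemma uK_injective {X : Over S} (z z' : X ⟶ Red.DS S (ZMod n))
    (h : z ≫ uK S n = z' ≫ uK S n) : z = z' := by
  apply charOf_injective (ZMod n)
  refine MonoidHom.ext fun k => ?_
  obtain ⟨j, hj⟩ := ZMod.intCast_surjective (Multiplicative.toAdd k)
  have h1 := congrArg (fun p => charOf ℤ p (Multiplicative.ofAdd j)) h
  simp only [charOf_uK, toAdd_ofAdd, hj, ofAdd_toAdd] at h1
  exact h1

theorem isPullback_kummer :
    IsPullback (fst (Red.Gm S) (Red.DS S (ZMod n)))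
      ((Red.Gm S ◁ uK S n) ≫ μ[Red.Gm S]) (vK S n) (vK S n) := by
  have : IsMonHom (uK S n) := Groth.Agent.Lib.Helper27DiagSub.isMonHom_DSmap S _
  have : IsMonHom (vK S n) := Groth.Agent.Lib.Helper27DiagSub.isMonHom_DSmap S _
  exact isPullback_of_kernel (uK S n) (vK S n) (uK_comp_vK n)
    (fun X w hw => exists_lift_uK n w hw) (fun X z z' h => uK_injective n z z' h)

end Kummer

section LocTriv

variable {S : Scheme.{u}} (n : ℕ)

/-- the coordinate `T` of `𝔾_m` -/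
noncomputable abbrev Tgen : AM.{u} ℤ := MonoidAlgebra.single (Multiplicative.ofAdd (1 : ℤ)) 1

/-- `X^n - T` -/
noncomputable abbrev gpoly (n : ℕ) : Polynomial (AM.{u} ℤ) :=
  Polynomial.X ^ n - Polynomial.C Tgen

lemma monic_gpoly (hn : 0 < n) : (gpoly.{u} n).Monic := Polynomial.monic_X_pow_sub_C _ hn.ne'

lemma of_Tgen : AdjoinRoot.of (gpoly.{u} n) Tgen = (AdjoinRoot.root (gpoly.{u} n)) ^ n := by
  have h := AdjoinRoot.eval₂_root (gpoly.{u} n)
  unfold gpoly at h
  rw [Polynomial.eval₂_sub, Polynomial.eval₂_pow, Polynomial.eval₂_X, Polynomial.eval₂_C,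
    sub_eq_zero] at h
  exact h.symm

/-- the covering `Spec ℤ[T^{±1}][X]/(X^n - T) ⟶ Spec ℤ[T^{±1}]` -/
noncomputable abbrev cK (n : ℕ) : Spec (CommRingCat.of (AdjoinRoot (gpoly.{u} n))) ⟶
    Spec (CommRingCat.of (AM.{u} ℤ)) :=
  Spec.map (CommRingCat.ofHom (AdjoinRoot.of (gpoly.{u} n)))

lemma nontrivial_adjoinRoot (hn : 0 < n) : Nontrivial (AdjoinRoot (gpoly.{u} n)) := by
  apply Module.nontrivial_of_finrank_pos (R := AM.{u} ℤ)
  rw [PowerBasis.finrank (AdjoinRoot.powerBasis' (monic_gpoly n hn))]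
  simp only [AdjoinRoot.powerBasis'_dim]
  unfold gpoly
  rw [Polynomial.natDegree_X_pow_sub_C]
  exact hn

lemma faithfullyFlat_cK (hn : 0 < n) : Flat (cK.{u} n) ∧ Surjective (cK.{u} n) := by
  rw [flat_and_surjective_SpecMap_iff]
  have h1 : Module.Free (AM.{u} ℤ) (AdjoinRoot (gpoly.{u} n)) :=
    (monic_gpoly n hn).free_adjoinRoot
  have h2 := nontrivial_adjoinRoot n hn
  have h3 : Module.FaithfullyFlat (AM.{u} ℤ) (AdjoinRoot (gpoly.{u} n)) := inferInstance
  have h4 := (RingHom.faithfullyFlat_algebraMap_iff (R := AM.{u} ℤ)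
    (S := AdjoinRoot (gpoly.{u} n))).mpr h3
  rwa [AdjoinRoot.algebraMap_eq] at h4

lemma lfp_cK : LocallyOfFinitePresentation (cK.{u} n) := by
  rw [LocallyOfFinitePresentation.SpecMap_iff]
  have h3 : Algebra.FinitePresentation (AM.{u} ℤ) (AdjoinRoot (gpoly.{u} n)) :=
    AdjoinRoot.finitePresentation _
  have h4 := (RingHom.finitePresentation_algebraMap (A := AM.{u} ℤ)
    (B := AdjoinRoot (gpoly.{u} n))).mpr h3
  rwa [AdjoinRoot.algebraMap_eq] at h4

variable (S)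

/-- the projection `𝔾_{m,S} ⟶ Spec ℤ[T^{±1}]` -/
noncomputable abbrev piK : (Red.Gm S).left ⟶ Spec (CommRingCat.of (AM.{u} ℤ)) :=
  pullback.fst (Red.diag (ULift.{u} ℤ) ℤ).hom (tU S)

/-- the fppf covering of `𝔾_{m,S}` adjoining an `n`-th root of the coordinate -/
noncomputable abbrev fK : pullback (piK S) (cK.{u} n) ⟶ (Red.Gm S).left :=
  pullback.fst (piK S) (cK.{u} n)

variable {S}

lemma hasSection_fK (hn : 0 < n) :
    NonAbH1.HasSectionOver (Over.mk (vK S n).left : Over (Red.Gm S).left) (fK S n) := by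
  let X' : Over S := Over.mk (fK S n ≫ (Red.Gm S).hom)
  let pf : X' ⟶ Red.Gm S := Over.homMk (fK S n) rfl
  let y' : Γ(X'.left, ⊤) := fn (pullback.snd (piK S) (cK.{u} n)) (AdjoinRoot.root (gpoly.{u} n))
  have hy : y' ^ n = charOf ℤ pf (Multiplicative.ofAdd 1) := by
    rw [charOf_apply, adjEquiv_left]
    have h1 : pf.left ≫ pullback.fst (Red.diag (ULift.{u} ℤ) ℤ).hom (tU S) =
        pullback.snd (piK S) (cK.{u} n) ≫ cK.{u} n := pullback.condition
    rw [h1, fn_specMap, of_Tgen, fn_eq, map_pow, ← fn_eq]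
  have hu : IsUnit y' := by
    have h2 : IsUnit (y' ^ n) := by
      rw [hy]
      exact isUnit_charOf ℤ pf _
    exact (isUnit_pow_iff hn.ne').mp h2
  let χq : Multiplicative ℤ →* Γ(X'.left, ⊤) :=
    (Units.coeHom _).comp (zpowersHom _ hu.unit)
  have hχ1 : χq (Multiplicative.ofAdd 1) = y' := by
    show ((zpowersHom _ hu.unit (Multiplicative.ofAdd 1) : Γ(X'.left, ⊤)ˣ) : Γ(X'.left, ⊤)) = y'
    rw [zpowersHom_apply, toAdd_ofAdd, zpow_one]
    rfl
  obtain ⟨q, hq⟩ := exists_point_of_char (S := S) ℤ χq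
  have hqv : q ≫ vK S n = pf := by
    apply charOf_injective ℤ
    apply MonoidHom.ext_mint
    rw [charOf_vK, hq, map_pow, hχ1, hy]
  refine ⟨q.left, ?_⟩
  have := congrArg (fun k => k.left) hqv
  exact this

theorem isLocallyTrivialFor_vK (hn : 0 < n) :
    NonAbH1.IsLocallyTrivialFor Scheme.fppfPrecoverage
      (Over.mk (vK S n).left : Over (Red.Gm S).left) := by
  have h1 := faithfullyFlat_cK.{u} n hn
  have : Flat (cK.{u} n) := h1.1
  have : Surjective (cK.{u} n) := h1.2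
  have : LocallyOfFinitePresentation (cK.{u} n) := lfp_cK n
  have : Flat (fK S n) := MorphismProperty.pullback_fst _ _ ‹_›
  have : Surjective (fK S n) := MorphismProperty.pullback_fst _ _ ‹_›
  have : LocallyOfFinitePresentation (fK S n) := MorphismProperty.pullback_fst _ _ ‹_›
  refine ⟨Presieve.singleton (fK S n), Scheme.Hom.singleton_mem_fppfPrecoverage _, ?_⟩
  rintro S' f ⟨⟩
  exact hasSection_fK n hn

theorem kummer_isExactSeq (hn : 0 < n) :
    NonAbH1.IsExactSeq Scheme.fppfPrecoverage (uK S n) (vK S n) :=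
  ⟨Groth.Agent.Lib.Helper27DiagSub.isMonHom_DSmap S _,
    Groth.Agent.Lib.Helper27DiagSub.isMonHom_DSmap S _, uK_comp_vK n, isPullback_kummer n,
    isLocallyTrivialFor_vK n hn⟩

end LocTriv

end Groth.Agent.Lib.Helper11Kummer
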