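import Mathlib
import Groth.Prelude.Def_NonAbH2
import Groth.Agent.Lib.Helper11KummerB
import Groth.Agent.Lib.Helper11Descend

/-!
# Exact sequences of group schemes for the fppf topology: points calculus (helper11)

From `NonAbH1.IsExactSeq K u v` (torsor square + local sections) we extract: `u` is injective on
points, the kernel of `v` on points is the image of `u`, and `v` has local sections for the
topology induced on `Over S`, hence morphisms descend along `v`, `v ▷ G`, `v ⊗ₘ v`.
-/

set_option autoImplicit false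
universe u v₁

open CategoryTheory MonoidalCategory CartesianMonoidalCategory MonObj GrpObj AlgebraicGeometry Limits
open Groth.Agent.Lib.Helper11.Descend Groth.Agent.Lib.Helper11Kummer

namespace Groth.Agent.Lib.Helper11.ExtSeq

section General

variable {C : Type u} [Category.{v₁} C] [CartesianMonoidalCategory C]
  {G G' G'' : C} [GrpObj G] [GrpObj G'] [GrpObj G'']

omit [GrpObj G'] [GrpObj G''] in
/-- the torsor square gives: points of `G` with the same image differ by a point of `G'` -/
lemma exists_diff (u : G' ⟶ G) (v : G ⟶ G'')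
    (hpb : IsPullback (fst G G') ((G ◁ u) ≫ μ[G]) v v) {T : C} (x y : T ⟶ G)
    (h : x ≫ v = y ≫ v) : ∃ g : T ⟶ G', x * (g ≫ u) = y := by
  refine ⟨hpb.lift x y h ≫ snd G G', ?_⟩
  have h1 := hpb.lift_snd x y h
  have h2 : hpb.lift x y h ≫ (fst G G' * (snd G G' ≫ u)) = y := by
    rw [← whisker_mul_eq]; exact h1
  rw [MonObj.comp_mul, hpb.lift_fst, ← Category.assoc] at h2
  exact h2

omit [GrpObj G'] [GrpObj G''] in
/-- the torsor square gives: `u` is injective on points -/
lemma u_injective (u : G' ⟶ G) (v : G ⟶ G'')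
    (hpb : IsPullback (fst G G') ((G ◁ u) ≫ μ[G]) v v) {T : C} (g g' : T ⟶ G')
    (h : g ≫ u = g' ≫ u) : g = g' := by
  have h1 : lift (1 : T ⟶ G) g = lift (1 : T ⟶ G) g' := by
    apply hpb.hom_ext
    · rw [lift_fst, lift_fst]
    · rw [whisker_mul_eq, MonObj.comp_mul, MonObj.comp_mul, lift_fst, lift_fst,
        ← Category.assoc, ← Category.assoc, lift_snd, lift_snd, h]
  have h2 := congrArg (fun m => m ≫ snd G G') h1
  simpa using h2

omit [GrpObj G'] in
/-- kernel of `v` on points -/
lemma exists_kerLift (u : G' ⟶ G) (v : G ⟶ G'') [IsMonHom v]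
    (hpb : IsPullback (fst G G') ((G ◁ u) ≫ μ[G]) v v) {T : C} (y : T ⟶ G)
    (h : y ≫ v = 1) : ∃ g : T ⟶ G', g ≫ u = y := by
  obtain ⟨g, hg⟩ := exists_diff u v hpb (1 : T ⟶ G) y (by rw [MonObj.one_comp, h])
  exact ⟨g, by rw [← hg, _root_.one_mul]⟩

end General

section Sch

variable {S : Scheme.{u}}

/-- the fppf topology on `Over S` -/
abbrev JS (S : Scheme.{u}) : GrothendieckTopology (Over S) := (Scheme.fppfTopology.{u}).over S

instance : (JS S).Subcanonical := inferInstance

/-- local triviality gives local sections for the topology on `Over S` -/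
lemma secSieve_mem {E P : Over S} (v : E ⟶ P)
    (hloc : NonAbH1.IsLocallyTrivialFor Scheme.fppfPrecoverage (Over.mk v.left : Over P.left)) :
    secSieve v ∈ JS S P := by
  obtain ⟨R, hR, hsec⟩ := hloc
  rw [GrothendieckTopology.mem_over_iff]
  refine Scheme.fppfTopology.superset_covering ?_
    (Precoverage.generate_mem_toGrothendieck hR)
  rw [Sieve.generate_le_iff]
  intro S' f hf
  obtain ⟨s, hs⟩ := hsec f hf
  have hs' : s ≫ v.left = f := hs
  rw [Sieve.overEquiv_iff]
  refine ⟨Over.homMk s ?_, ?_⟩
  · change s ≫ E.hom = f ≫ P.hom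
    rw [← hs', Category.assoc, Over.w v]
  · ext
    exact hs'

end Sch

end Groth.Agent.Lib.Helper11.ExtSeq
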