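import Mathlib
import Groth.Agent.Lib.Helper11ExtSeq

/-!
# Extensions by a commutative group with rigid `P × G → G` are central (helper11)

Abstract setting: a cartesian monoidal category with a subcanonical topology `J`; a sequence
`G --u--> E --v--> P` with torsor square and local sections of `v`.
-/

set_option autoImplicit false
universe u v₁

namespace Groth.Agent.Lib.Helper11.Central

section GroupLemmas

variable {Γ : Type*} [Group Γ]

lemma comm_eq_of_central (x y h h' : Γ) (hh : ∀ z, h * z = z * h) (hh' : ∀ z, h' * z = z * h') :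
    (x * h) * (y * h') * (x * h)⁻¹ * (y * h')⁻¹ = x * y * x⁻¹ * y⁻¹ := by
  have e1 : (x * h) * (y * h') = (x * y) * (h * h') :=
    Commute.mul_mul_mul_comm (show Commute h y from hh y) x h'
  have e2 : (y * h') * (x * h) = (y * x) * (h * h') := by
    rw [Commute.mul_mul_mul_comm (show Commute h' x from hh' x) y h, hh' h]
  have e3 : (x * h)⁻¹ * (y * h')⁻¹ = ((y * h') * (x * h))⁻¹ := (mul_inv_rev _ _).symm
  rw [mul_assoc _ (x * h)⁻¹, e3, e1, e2, mul_inv_rev (y * x), ← mul_assoc, mul_inv_cancel_right,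
    mul_inv_rev, ← mul_assoc]

lemma conj_eq_of_comm (x g h : Γ) (hc : h * g = g * h) :
    (x * h) * g * (x * h)⁻¹ * g⁻¹ = x * g * x⁻¹ * g⁻¹ := by
  have e1 : h * g * h⁻¹ = g := by rw [hc, mul_inv_cancel_right]
  rw [mul_inv_rev]
  calc x * h * g * (h⁻¹ * x⁻¹) * g⁻¹ = x * (h * g * h⁻¹) * x⁻¹ * g⁻¹ := by group
    _ = x * g * x⁻¹ * g⁻¹ := by rw [e1]

end GroupLemmas

end Groth.Agent.Lib.Helper11.Central


open CategoryTheory MonoidalCategory CartesianMonoidalCategory MonObj GrpObj Limits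
open Groth.Agent.Lib.Helper11.Descend Groth.Agent.Lib.Helper11Kummer

namespace Groth.Agent.Lib.Helper11.Central


variable {C : Type u} [Category.{v₁} C] [CartesianMonoidalCategory C]
  (J : GrothendieckTopology C) 
  {P G E : C} [GrpObj P] [GrpObj G] [GrpObj E]

section Sieves

omit [GrpObj P] [GrpObj G] [GrpObj E]

lemma secSieve_whiskerRight (v : E ⟶ P) (hv : secSieve v ∈ J P) (Z : C) :
    secSieve (v ▷ Z) ∈ J (P ⊗ Z) := by
  refine secSieve_mem_of_pullback J v (v ▷ Z) (fst P Z) hv ?_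
  intro W a s hs
  refine ⟨lift s (a ≫ snd P Z), ?_⟩
  apply CartesianMonoidalCategory.hom_ext
  · rw [Category.assoc, whiskerRight_fst, lift_fst_assoc, hs]
  · rw [Category.assoc, whiskerRight_snd, lift_snd]

lemma secSieve_whiskerLeft (v : E ⟶ P) (hv : secSieve v ∈ J P) (Z : C) :
    secSieve (Z ◁ v) ∈ J (Z ⊗ P) := by
  refine secSieve_mem_of_pullback J v (Z ◁ v) (snd Z P) hv ?_
  intro W a s hs
  refine ⟨lift (a ≫ fst Z P) s, ?_⟩
  apply CartesianMonoidalCategory.hom_ext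
  · rw [Category.assoc, whiskerLeft_fst, lift_fst]
  · rw [Category.assoc, whiskerLeft_snd, lift_snd_assoc, hs]

lemma secSieve_tensorHom (v : E ⟶ P) (hv : secSieve v ∈ J P) :
    secSieve (v ⊗ₘ v) ∈ J (P ⊗ P) := by
  rw [MonoidalCategory.tensorHom_def]
  exact secSieve_comp_mem J _ _ (secSieve_whiskerRight J v hv E) (secSieve_whiskerLeft J v hv P)

end Sieves


section Main

variable [J.Subcanonical] [BraidedCategory C]
  (u : G ⟶ E) (v : E ⟶ P) [IsMonHom u] [IsMonHom v] (huv : u ≫ v = 1)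
  (hpb : IsPullback (fst E G) ((E ◁ u) ≫ μ[E]) v v) (hv : secSieve v ∈ J P)

include huv hpb hv in
/-- centrality of `u(G)` -/
theorem central [IsCommMonObj G]
    (hPG : ∀ f : P ⊗ G ⟶ G, lift (𝟙 P) (toUnit P ≫ η[G]) ≫ f = 1 →
      lift (toUnit G ≫ η[P]) (𝟙 G) ≫ f = 1 → f = 1)
    (T : C) (g : T ⟶ G) (x : T ⟶ E) : (g ≫ u) * x = x * (g ≫ u) := by
  -- the universal commutator
  obtain ⟨c₀, hc₀⟩ : ∃ c₀ : E ⊗ G ⟶ E, c₀ = fst E G * (snd E G ≫ u) * (fst E G)⁻¹ *
      (snd E G ≫ u)⁻¹ := ⟨_, rfl⟩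
  have hguv : ∀ {W : C} (g : W ⟶ G), (g ≫ u) ≫ v = 1 := by
    intro W g
    rw [Category.assoc, huv, MonObj.comp_one]
  have hc₀v : c₀ ≫ v = 1 := by
    rw [hc₀, MonObj.mul_comp, MonObj.mul_comp, MonObj.mul_comp, GrpObj.inv_comp, GrpObj.inv_comp,
      hguv, inv_one, _root_.mul_one, _root_.mul_one, mul_inv_cancel]
  obtain ⟨κ, hκ⟩ := ExtSeq.exists_kerLift u v hpb c₀ hc₀v
  have hpull : ∀ {W : C} (a : W ⟶ E ⊗ G), a ≫ c₀ = (a ≫ fst E G) * ((a ≫ snd E G) ≫ u) *
      (a ≫ fst E G)⁻¹ * ((a ≫ snd E G) ≫ u)⁻¹ := by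
    intro W a
    rw [hc₀, MonObj.comp_mul, MonObj.comp_mul, MonObj.comp_mul, GrpObj.comp_inv, GrpObj.comp_inv,
      Category.assoc]
  -- invariance
  have hinv : ∀ ⦃W : C⦄ (a b : W ⟶ E ⊗ G), a ≫ (v ▷ G) = b ≫ (v ▷ G) → a ≫ κ = b ≫ κ := by
    intro W a b hab
    have h1 : (a ≫ fst E G) ≫ v = (b ≫ fst E G) ≫ v := by
      have := congrArg (fun m => m ≫ fst P G) hab
      simpa only [Category.assoc, whiskerRight_fst] using this
    have h2 : a ≫ snd E G = b ≫ snd E G := by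
      have := congrArg (fun m => m ≫ snd P G) hab
      simpa only [Category.assoc, whiskerRight_snd] using this
    obtain ⟨h, hh⟩ := ExtSeq.exists_diff u v hpb _ _ h1
    apply ExtSeq.u_injective u v hpb
    rw [Category.assoc, Category.assoc, hκ, hpull, hpull, ← hh, ← h2]
    have hc : (h ≫ u) * ((a ≫ snd E G) ≫ u) = ((a ≫ snd E G) ≫ u) * (h ≫ u) := by
      rw [← MonObj.mul_comp, ← MonObj.mul_comp, mul_comm]
    exact (conj_eq_of_comm _ _ _ hc).symm
  obtain ⟨κ', hκ'⟩ := exists_desc J (v ▷ G) (secSieve_whiskerRight J v hv G) κ hinv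
  have hκ1 : κ' = 1 := by
    apply hPG
    · apply hom_ext_of_secSieve J v hv
      have e1 : v ≫ lift (𝟙 P) (toUnit P ≫ η[G]) = lift (𝟙 E) (toUnit E ≫ η[G]) ≫ (v ▷ G) := by
        apply CartesianMonoidalCategory.hom_ext
        · simp
        · simp
      rw [← Category.assoc, e1, Category.assoc, hκ', MonObj.comp_one]
      apply ExtSeq.u_injective u v hpb
      rw [Category.assoc, hκ, hpull, lift_fst, lift_snd, MonObj.one_comp, ← Hom.one_def,
        MonObj.one_comp]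
      group
    · have e1 : lift (toUnit G ≫ η[P]) (𝟙 G) = lift (toUnit G ≫ η[E]) (𝟙 G) ≫ (v ▷ G) := by
        apply CartesianMonoidalCategory.hom_ext
        · simp [IsMonHom.one_hom]
        · simp
      rw [e1, Category.assoc, hκ']
      apply ExtSeq.u_injective u v hpb
      rw [Category.assoc, hκ, hpull, lift_fst, lift_snd, MonObj.one_comp, ← Hom.one_def]
      group
  have hc₀1 : c₀ = 1 := by
    rw [← hκ, ← hκ', hκ1, MonObj.comp_one, MonObj.one_comp]
  have h3 := hpull (lift x g)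
  rw [hc₀1, MonObj.comp_one, lift_fst, lift_snd] at h3
  have h4 := mul_inv_eq_one.mp h3.symm
  exact (mul_inv_eq_iff_eq_mul.mp h4).symm

include hpb hv in
/-- commutativity of `E` -/
theorem comm_of_central [IsCommMonObj P]
    (hcent : ∀ (T : C) (g : T ⟶ G) (x : T ⟶ E), (g ≫ u) * x = x * (g ≫ u))
    (hPP : ∀ f : P ⊗ P ⟶ G, lift (𝟙 P) (toUnit P ≫ η[P]) ≫ f = 1 →
      lift (toUnit P ≫ η[P]) (𝟙 P) ≫ f = 1 → f = 1) : IsCommMonObj E := by
  obtain ⟨c₀, hc₀⟩ : ∃ c₀ : E ⊗ E ⟶ E, c₀ = fst E E * snd E E * (fst E E)⁻¹ *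
      (snd E E)⁻¹ := ⟨_, rfl⟩
  have hc₀v : c₀ ≫ v = 1 := by
    rw [hc₀, MonObj.mul_comp, MonObj.mul_comp, MonObj.mul_comp, GrpObj.inv_comp, GrpObj.inv_comp,
      mul_comm (fst E E ≫ v), mul_inv_cancel_right, mul_inv_cancel]
  obtain ⟨κ, hκ⟩ := ExtSeq.exists_kerLift u v hpb c₀ hc₀v
  have hpull : ∀ {W : C} (a : W ⟶ E ⊗ E), a ≫ c₀ = (a ≫ fst E E) * (a ≫ snd E E) *
      (a ≫ fst E E)⁻¹ * (a ≫ snd E E)⁻¹ := by
    intro W a
    rw [hc₀, MonObj.comp_mul, MonObj.comp_mul, MonObj.comp_mul, GrpObj.comp_inv, GrpObj.comp_inv]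
  have hinv : ∀ ⦃W : C⦄ (a b : W ⟶ E ⊗ E), a ≫ (v ⊗ₘ v) = b ≫ (v ⊗ₘ v) → a ≫ κ = b ≫ κ := by
    intro W a b hab
    have h1 : (a ≫ fst E E) ≫ v = (b ≫ fst E E) ≫ v := by
      have := congrArg (fun m => m ≫ fst P P) hab
      simpa only [Category.assoc, tensorHom_fst] using this
    have h2 : (a ≫ snd E E) ≫ v = (b ≫ snd E E) ≫ v := by
      have := congrArg (fun m => m ≫ snd P P) hab
      simpa only [Category.assoc, tensorHom_snd] using this
    obtain ⟨h, hh⟩ := ExtSeq.exists_diff u v hpb _ _ h1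
    obtain ⟨h', hh'⟩ := ExtSeq.exists_diff u v hpb _ _ h2
    apply ExtSeq.u_injective u v hpb
    rw [Category.assoc, Category.assoc, hκ, hpull, hpull, ← hh, ← hh']
    exact (comm_eq_of_central _ _ _ _ (fun z => hcent W h z) (fun z => hcent W h' z)).symm
  obtain ⟨κ', hκ'⟩ := exists_desc J (v ⊗ₘ v) (secSieve_tensorHom J v hv) κ hinv
  have hκ1 : κ' = 1 := by
    apply hPP
    · apply hom_ext_of_secSieve J v hv
      have e1 : v ≫ lift (𝟙 P) (toUnit P ≫ η[P]) = lift (𝟙 E) (toUnit E ≫ η[E]) ≫ (v ⊗ₘ v) := by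
        apply CartesianMonoidalCategory.hom_ext
        · simp
        · simp [IsMonHom.one_hom]
      rw [← Category.assoc, e1, Category.assoc, hκ', MonObj.comp_one]
      apply ExtSeq.u_injective u v hpb
      rw [Category.assoc, hκ, hpull, lift_fst, lift_snd, MonObj.one_comp, ← Hom.one_def]
      group
    · apply hom_ext_of_secSieve J v hv
      have e1 : v ≫ lift (toUnit P ≫ η[P]) (𝟙 P) = lift (toUnit E ≫ η[E]) (𝟙 E) ≫ (v ⊗ₘ v) := by
        apply CartesianMonoidalCategory.hom_ext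
        · simp [IsMonHom.one_hom]
        · simp
      rw [← Category.assoc, e1, Category.assoc, hκ', MonObj.comp_one]
      apply ExtSeq.u_injective u v hpb
      rw [Category.assoc, hκ, hpull, lift_fst, lift_snd, MonObj.one_comp, ← Hom.one_def]
      group
  have hc₀1 : c₀ = 1 := by
    rw [← hκ, ← hκ', hκ1, MonObj.comp_one, MonObj.one_comp]
  rw [isCommMonObj_iff_isMulCommutative]
  intro X
  refine ⟨⟨fun x y => ?_⟩⟩
  have h3 := hpull (lift x y)
  rw [hc₀1, MonObj.comp_one, lift_fst, lift_snd] at h3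
  have h4 := mul_inv_eq_one.mp h3.symm
  exact mul_inv_eq_iff_eq_mul.mp h4

end Main

end Groth.Agent.Lib.Helper11.Central
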