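import Mathlib
import Groth.Prelude.Def_NonAbH2
import Groth.Agent.Lib.Helper11Descend
import Groth.Agent.Lib.Helper11ExtSeq
import Groth.Agent.Lib.Helper11Central

/-!
# Torsors and change of structure group along an exact sequence: points calculus (helper11)

Abstract setting: a cartesian monoidal category `C` with a Grothendieck topology `J`, group objects
`G' --u--> G --v--> G''` and objects with actions given by a morphism `act : G ⊗ X ⟶ X` satisfying
the action laws on points (`PtAct`).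

* `exists_trivialization`: a reduction of the `G`-torsor `P` to `G'` (a `u`-equivariant morphism
  from a `G'`-torsor `Q`) gives a `v`-equivariant morphism `P ⟶ G''`.
* `exists_reduction`: conversely the fibre `Q` of a `v`-equivariant `w : P ⟶ G''` over the unit
  section carries an action of `G'` making it a torsor with `Q ⟶ P` equivariant along `u`.
* scheme level conversions between `NonAbH1.IsLocallyTrivialFor K` and membership of `secSieve`
  in the induced topology on `Over S`.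
-/

set_option autoImplicit false
universe u u₁ v₁

open CategoryTheory MonoidalCategory CartesianMonoidalCategory MonObj GrpObj AlgebraicGeometry Limits
open Groth.Agent.Lib.Helper11.Descend

namespace Groth.Agent.Lib.Helper11.TorsorPts

section General

variable {C : Type u₁} [Category.{v₁} C] [CartesianMonoidalCategory C]

/-- points form of the laws of a group action -/
structure PtAct {G X : C} [GrpObj G] (act : G ⊗ X ⟶ X) : Prop where
  one : ∀ {T : C} (p : T ⟶ X), lift (1 : T ⟶ G) p ≫ act = p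
  mul : ∀ {T : C} (g g' : T ⟶ G) (p : T ⟶ X),
    lift (g * g') p ≫ act = lift g (lift g' p ≫ act) ≫ act

section Basic

variable {G X : C} [GrpObj G] (act : G ⊗ X ⟶ X)

omit [GrpObj G] in
/-- transitivity on points of a pseudo-torsor -/
lemma exists_trans (hps : IsIso (lift act (snd G X))) {W : C} (a b : W ⟶ X) :
    ∃ g : W ⟶ G, lift g b ≫ act = a := by
  obtain ⟨m, hm⟩ : ∃ m : W ⟶ G ⊗ X, m = lift a b ≫ inv (lift act (snd G X)) := ⟨_, rfl⟩
  have h1 : m ≫ lift act (snd G X) = lift a b := by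
    rw [hm, Category.assoc, IsIso.inv_hom_id, Category.comp_id]
  have h2 : m ≫ act = a := by
    have := congrArg (fun m => m ≫ fst X X) h1
    simpa only [Category.assoc, lift_fst] using this
  have h3 : m ≫ snd G X = b := by
    have := congrArg (fun m => m ≫ snd X X) h1
    simpa only [Category.assoc, lift_snd] using this
  refine ⟨m ≫ fst G X, ?_⟩
  have h4 : lift (m ≫ fst G X) b = m := by
    apply CartesianMonoidalCategory.hom_ext
    · rw [lift_fst]
    · rw [lift_snd, h3]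
  rw [h4, h2]

omit [GrpObj G] in
/-- freeness on points of a pseudo-torsor -/
lemma eq_of_act_eq (hps : IsIso (lift act (snd G X))) {W : C} (g g' : W ⟶ G) (p : W ⟶ X)
    (h : lift g p ≫ act = lift g' p ≫ act) : g = g' := by
  have h1 : lift g p ≫ lift act (snd G X) = lift g' p ≫ lift act (snd G X) := by
    apply CartesianMonoidalCategory.hom_ext
    · simp only [Category.assoc, lift_fst]; exact h
    · simp only [Category.assoc, lift_snd]
  have h2 := (cancel_mono (lift act (snd G X))).mp h1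
  have := congrArg (fun m => m ≫ fst G X) h2
  simpa using this

/-- an inverse acts as the inverse -/
lemma PtAct.inv_act {act : G ⊗ X ⟶ X} (h : PtAct act) {T : C} (g : T ⟶ G) (p : T ⟶ X) :
    lift g⁻¹ (lift g p ≫ act) ≫ act = p := by
  rw [← h.mul, inv_mul_cancel, h.one]

end Basic

variable (J : GrothendieckTopology C)
  {G G' G'' : C} [GrpObj G] [GrpObj G'] [GrpObj G'']

omit [GrpObj G'] in
/-- A reduction of the structure group of the `G`-torsor `P` to `G'` trivialises the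
`G''`-torsor deduced from `P`. -/
theorem exists_trivialization [J.Subcanonical]
    (u : G' ⟶ G) (v : G ⟶ G'') [IsMonHom v] (huv : u ≫ v = 1)
    {P Q : C} (actP : G ⊗ P ⟶ P) (hP : PtAct actP) (hpsP : IsIso (lift actP (snd G P)))
    (actQ : G' ⊗ Q ⟶ Q) (hpsQ : IsIso (lift actQ (snd G' Q)))
    (hQ : secSieve (toUnit Q) ∈ J (𝟙_ C))
    (F : Q ⟶ P) (hF : actQ ≫ F = lift (fst G' Q ≫ u) (snd G' Q ≫ F) ≫ actP) :
    ∃ w : P ⟶ G'', actP ≫ w = lift (fst G P ≫ v) (snd G P ≫ w) ≫ μ[G''] := by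
  have hFpt : ∀ {T : C} (h : T ⟶ G') (q : T ⟶ Q),
      (lift h q ≫ actQ) ≫ F = lift (h ≫ u) (q ≫ F) ≫ actP := by
    intro T h q
    rw [Category.assoc, hF, ← Category.assoc]
    congr 1
    apply CartesianMonoidalCategory.hom_ext <;> simp
  obtain ⟨Ψ, hΨ⟩ : ∃ Ψ : G ⊗ Q ⟶ P, Ψ = lift (fst G Q) (snd G Q ≫ F) ≫ actP := ⟨_, rfl⟩
  have hΨpt : ∀ {T : C} (g : T ⟶ G) (q : T ⟶ Q), lift g q ≫ Ψ = lift g (q ≫ F) ≫ actP := by
    intro T g q
    rw [hΨ, ← Category.assoc]
    congr 1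
    apply CartesianMonoidalCategory.hom_ext <;> simp
  have hΨsec : secSieve Ψ ∈ J P := by
    refine secSieve_mem_of_pullback J (toUnit Q) Ψ (toUnit P) hQ ?_
    intro W a q _
    obtain ⟨g, hg⟩ := exists_trans actP hpsP a (q ≫ F)
    exact ⟨lift g q, by rw [hΨpt, hg]⟩
  have hpair : ∀ {W : C} (a : W ⟶ G ⊗ Q), a = lift (a ≫ fst G Q) (a ≫ snd G Q) := by
    intro W a
    apply CartesianMonoidalCategory.hom_ext <;> simp
  have hinv : ∀ ⦃W : C⦄ (a b : W ⟶ G ⊗ Q), a ≫ Ψ = b ≫ Ψ →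
      a ≫ (fst G Q ≫ v) = b ≫ (fst G Q ≫ v) := by
    intro W a b hab
    rw [hpair a, hpair b, hΨpt, hΨpt] at hab
    obtain ⟨h, hh⟩ := exists_trans actQ hpsQ (a ≫ snd G Q) (b ≫ snd G Q)
    have h1 : (a ≫ snd G Q) ≫ F = lift (h ≫ u) ((b ≫ snd G Q) ≫ F) ≫ actP := by
      rw [← hh, hFpt]
    rw [h1, ← hP.mul] at hab
    have h2 := eq_of_act_eq actP hpsP _ _ _ hab
    rw [← Category.assoc, ← Category.assoc, ← h2, MonObj.mul_comp, Category.assoc h u v, huv,
      MonObj.comp_one, _root_.mul_one]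
  obtain ⟨w, hw⟩ := exists_desc J Ψ hΨsec (fst G Q ≫ v) hinv
  have hwpt : ∀ {T : C} (g : T ⟶ G) (q : T ⟶ Q), (lift g (q ≫ F) ≫ actP) ≫ w = g ≫ v := by
    intro T g q
    rw [← hΨpt, Category.assoc, hw, lift_fst_assoc]
  refine ⟨w, ?_⟩
  apply hom_ext_of_secSieve J (G ◁ Ψ) (Central.secSieve_whiskerLeft J Ψ hΨsec G)
  obtain ⟨T, hT⟩ : ∃ T : C, T = G ⊗ (G ⊗ Q) := ⟨_, rfl⟩
  obtain ⟨g, hg⟩ : ∃ g : G ⊗ (G ⊗ Q) ⟶ G, g = fst G (G ⊗ Q) := ⟨_, rfl⟩
  obtain ⟨g₁, hg₁⟩ : ∃ g₁ : G ⊗ (G ⊗ Q) ⟶ G, g₁ = snd G (G ⊗ Q) ≫ fst G Q := ⟨_, rfl⟩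
  obtain ⟨q, hq⟩ : ∃ q : G ⊗ (G ⊗ Q) ⟶ Q, q = snd G (G ⊗ Q) ≫ snd G Q := ⟨_, rfl⟩
  have h1 : G ◁ Ψ = lift g (lift g₁ (q ≫ F) ≫ actP) := by
    apply CartesianMonoidalCategory.hom_ext
    · rw [whiskerLeft_fst, lift_fst, hg]
    · rw [whiskerLeft_snd, lift_snd, ← hΨpt, hg₁, hq, ← comp_lift, lift_fst_snd, Category.comp_id]
  rw [h1, ← Category.assoc, ← hP.mul, hwpt, ← Category.assoc, comp_lift, lift_fst_assoc,
    lift_snd_assoc, hwpt, MonObj.mul_comp, Hom.mul_def]

/-- The fibre of a `v`-equivariant morphism `P ⟶ G''` over the unit section is a reduction of the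
structure group of `P` to `G'`. -/
theorem exists_reduction
    (u : G' ⟶ G) (v : G ⟶ G'') [IsMonHom u] [IsMonHom v] (huv : u ≫ v = 1)
    (hpb : IsPullback (fst G G') ((G ◁ u) ≫ μ[G]) v v) (hv : secSieve v ∈ J G'')
    {P Q : C} (actP : G ⊗ P ⟶ P) (hP : PtAct actP) (hpsP : IsIso (lift actP (snd G P)))
    (hPloc : secSieve (toUnit P) ∈ J (𝟙_ C))
    (w : P ⟶ G'') (hw : actP ≫ w = lift (fst G P ≫ v) (snd G P ≫ w) ≫ μ[G''])
    (F : Q ⟶ P) (hQ : IsPullback F (toUnit Q) w η[G'']) :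
    ∃ actQ : G' ⊗ Q ⟶ Q, (η[G'] ▷ Q) ≫ actQ = (λ_ Q).hom ∧
      (μ[G'] ▷ Q) ≫ actQ = (α_ G' G' Q).hom ≫ (G' ◁ actQ) ≫ actQ ∧
      IsIso (lift actQ (snd G' Q)) ∧ secSieve (toUnit Q) ∈ J (𝟙_ C) ∧
      actQ ≫ F = lift (fst G' Q ≫ u) (snd G' Q ≫ F) ≫ actP := by
  have hwpt : ∀ {T : C} (g : T ⟶ G) (p : T ⟶ P),
      (lift g p ≫ actP) ≫ w = (g ≫ v) * (p ≫ w) := by
    intro T g p
    rw [Category.assoc, hw, Hom.mul_def, ← Category.assoc]
    congr 1
    apply CartesianMonoidalCategory.hom_ext <;> simp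
  have hQw : ∀ {T : C} (q : T ⟶ Q), (q ≫ F) ≫ w = 1 := by
    intro T q
    rw [Category.assoc, hQ.w, ← Category.assoc, Hom.one_def]
    congr 1
    exact toUnit_unique _ _
  have hQlift : ∀ {T : C} (p : T ⟶ P), p ≫ w = 1 → ∃ q : T ⟶ Q, q ≫ F = p := by
    intro T p hp
    exact ⟨hQ.lift p (toUnit T) (by rw [hp, Hom.one_def]), hQ.lift_fst _ _ _⟩
  have hFinj : ∀ {T : C} (q q' : T ⟶ Q), q ≫ F = q' ≫ F → q = q' := by
    intro T q q' h
    exact hQ.hom_ext h (toUnit_unique _ _)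
  have h0 : (lift (fst G' Q ≫ u) (snd G' Q ≫ F) ≫ actP) ≫ w = 1 := by
    rw [hwpt, Category.assoc, huv, MonObj.comp_one, hQw, _root_.mul_one]
  obtain ⟨actQ, hactQ⟩ := hQlift _ h0
  have hactpt : ∀ {T : C} (h : T ⟶ G') (q : T ⟶ Q),
      (lift h q ≫ actQ) ≫ F = lift (h ≫ u) (q ≫ F) ≫ actP := by
    intro T h q
    rw [Category.assoc, hactQ, ← Category.assoc]
    congr 1
    apply CartesianMonoidalCategory.hom_ext <;> simp
  refine ⟨actQ, ?_, ?_, ?_, ?_, hactQ⟩
  · apply hFinj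
    have h1 : η[G'] ▷ Q = lift (1 : 𝟙_ C ⊗ Q ⟶ G') (snd (𝟙_ C) Q) := by
      apply CartesianMonoidalCategory.hom_ext
      · rw [whiskerRight_fst, lift_fst, Hom.one_def]
        congr 1
        exact toUnit_unique _ _
      · rw [whiskerRight_snd, lift_snd]
    rw [h1, hactpt, MonObj.one_comp, hP.one, leftUnitor_hom]
  · apply hFinj
    obtain ⟨g, hg⟩ : ∃ g : (G' ⊗ G') ⊗ Q ⟶ G', g = fst (G' ⊗ G') Q ≫ fst G' G' := ⟨_, rfl⟩
    obtain ⟨h, hh⟩ : ∃ h : (G' ⊗ G') ⊗ Q ⟶ G', h = fst (G' ⊗ G') Q ≫ snd G' G' := ⟨_, rfl⟩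
    obtain ⟨q, hq⟩ : ∃ q : (G' ⊗ G') ⊗ Q ⟶ Q, q = snd (G' ⊗ G') Q := ⟨_, rfl⟩
    have h1 : μ[G'] ▷ Q = lift (g * h) q := by
      apply CartesianMonoidalCategory.hom_ext
      · rw [whiskerRight_fst, lift_fst, hg, hh, Hom.mul_def, ← comp_lift, lift_fst_snd,
          Category.comp_id]
      · rw [whiskerRight_snd, lift_snd, hq]
    have h2 : (α_ G' G' Q).hom ≫ (G' ◁ actQ) = lift g (lift h q ≫ actQ) := by
      apply CartesianMonoidalCategory.hom_ext
      · rw [Category.assoc, whiskerLeft_fst, lift_fst, hg]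
        simp
      · rw [Category.assoc, whiskerLeft_snd, lift_snd, ← Category.assoc]
        congr 1
        apply CartesianMonoidalCategory.hom_ext
        · rw [lift_fst, hh]; simp
        · rw [lift_snd, hq]; simp
    rw [h1, hactpt, ← Category.assoc (α_ G' G' Q).hom, h2, hactpt, hactpt, MonObj.mul_comp,
      hP.mul]
  · apply isIso_of_yoneda_map_bijective
    intro T
    constructor
    · intro m₁ m₂ hm
      have hm' : m₁ ≫ lift actQ (snd G' Q) = m₂ ≫ lift actQ (snd G' Q) := hm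
      have e1 : m₁ ≫ actQ = m₂ ≫ actQ := by
        have := congrArg (fun m => m ≫ fst Q Q) hm'
        simpa only [Category.assoc, lift_fst] using this
      have e2 : m₁ ≫ snd G' Q = m₂ ≫ snd G' Q := by
        have := congrArg (fun m => m ≫ snd Q Q) hm'
        simpa only [Category.assoc, lift_snd] using this
      have hp₁ : m₁ = lift (m₁ ≫ fst G' Q) (m₁ ≫ snd G' Q) := by
        apply CartesianMonoidalCategory.hom_ext <;> simp
      have hp₂ : m₂ = lift (m₂ ≫ fst G' Q) (m₁ ≫ snd G' Q) := by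
        apply CartesianMonoidalCategory.hom_ext
        · simp
        · rw [lift_snd, e2]
      have e3 : (m₁ ≫ actQ) ≫ F = (m₂ ≫ actQ) ≫ F := by rw [e1]
      rw [hp₁, hp₂, hactpt, hactpt] at e3
      have e4 := eq_of_act_eq actP hpsP _ _ _ e3
      have e5 := ExtSeq.u_injective u v hpb _ _ e4
      rw [hp₁, hp₂, e5]
    · intro m
      obtain ⟨g, hg⟩ := exists_trans actP hpsP ((m ≫ fst Q Q) ≫ F) ((m ≫ snd Q Q) ≫ F)
      have e1 : g ≫ v = 1 := by
        have := hwpt g ((m ≫ snd Q Q) ≫ F)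
        rw [hg, hQw, hQw, _root_.mul_one] at this
        exact this.symm
      obtain ⟨h, hh⟩ := ExtSeq.exists_kerLift u v hpb g e1
      refine ⟨lift h (m ≫ snd Q Q), ?_⟩
      change lift h (m ≫ snd Q Q) ≫ lift actQ (snd G' Q) = m
      apply CartesianMonoidalCategory.hom_ext
      · rw [Category.assoc, lift_fst]
        apply hFinj
        rw [hactpt, hh, hg]
      · rw [Category.assoc, lift_snd, lift_snd]
  · refine J.transitive hPloc _ ?_
    rintro T t ⟨p, -⟩
    refine J.superset_covering ?_ (J.pullback_stable (p ≫ w) hv)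
    rintro T' t' ⟨g, hg⟩
    have h1 : (lift g⁻¹ (t' ≫ p) ≫ actP) ≫ w = 1 := by
      rw [hwpt, GrpObj.inv_comp, hg, Category.assoc, inv_mul_cancel]
    obtain ⟨q, hq⟩ := hQlift _ h1
    exact ⟨q, toUnit_unique _ _⟩

end General

section Sch

variable {S : Scheme.{u}} (K : Precoverage Scheme.{u})

/-- local triviality gives local sections of the structure morphism for the induced topology on
`Over S` -/
lemma secSieve_toUnit_mem {X : Over S} (hloc : NonAbH1.IsLocallyTrivialFor K X) :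
    secSieve (toUnit X) ∈ (K.toGrothendieck.over S) (𝟙_ (Over S)) := by
  obtain ⟨R, hR, hsec⟩ := hloc
  rw [GrothendieckTopology.mem_over_iff]
  refine K.toGrothendieck.superset_covering ?_
    (Precoverage.generate_mem_toGrothendieck (show R ∈ K (𝟙_ (Over S)).left from hR))
  rw [Sieve.generate_le_iff]
  intro S' f hf
  obtain ⟨s, hs⟩ := hsec f hf
  rw [Sieve.overEquiv_iff]
  refine ⟨Over.homMk s ?_, toUnit_unique _ _⟩
  change s ≫ X.hom = f ≫ (𝟙_ (Over S)).hom
  rw [hs]
  exact (Category.comp_id f).symm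

/-- local triviality of a morphism gives local sections for the induced topology on `Over S` -/
lemma secSieve_mem {E P : Over S} (v : E ⟶ P)
    (hloc : NonAbH1.IsLocallyTrivialFor K (Over.mk v.left : Over P.left)) :
    secSieve v ∈ (K.toGrothendieck.over S) P := by
  obtain ⟨R, hR, hsec⟩ := hloc
  rw [GrothendieckTopology.mem_over_iff]
  refine K.toGrothendieck.superset_covering ?_
    (Precoverage.generate_mem_toGrothendieck hR)
  rw [Sieve.generate_le_iff]
  intro S' f hf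
  obtain ⟨s, hs⟩ := hsec f hf
  have hs' : s ≫ v.left = f := hs
  rw [Sieve.overEquiv_iff]
  refine ⟨Over.homMk s ?_, ?_⟩
  · change s ≫ E.hom = f ≫ P.hom
    rw [← hs', Category.assoc, Over.w v]
  · ext
    exact hs'

/-- for a precoverage stable under base change and composition, local sections of the structure
morphism for the induced topology give local triviality -/
lemma isLocallyTrivialFor_of_secSieve [K.IsStableUnderComposition] [K.IsStableUnderBaseChange]
    [K.HasPullbacks] [K.HasIsos] {X : Over S}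
    (h : secSieve (toUnit X) ∈ (K.toGrothendieck.over S) (𝟙_ (Over S))) :
    NonAbH1.IsLocallyTrivialFor K X := by
  rw [GrothendieckTopology.mem_over_iff] at h
  obtain ⟨R, hR, hle⟩ := Precoverage.mem_toGrothendieck_iff_of_isStableUnderComposition.mp h
  refine ⟨R, hR, ?_⟩
  intro S' f hf
  have h1 := hle _ _ hf
  rw [Sieve.overEquiv_iff] at h1
  obtain ⟨s, -⟩ := h1
  refine ⟨s.left, ?_⟩
  simp

end Sch

end Groth.Agent.Lib.Helper11.TorsorPts
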