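import Mathlib
import Groth.Prelude.Def_NonAbH2
import Groth.Prelude.Def_ChGrp
import Groth.Agent.Lib.Helper11TorsorPts

/-!
# Helper10GenTriv: change of structure group along a homomorphism that is bijective on points

Points-level lemmas for a `g`-equivariant map `u : P ⟶ P'` of pseudo-torsors: `u` is injective
(resp. surjective) on `W`-points as soon as `g` is (and `P(W)` is nonempty).  Then the scheme-level
consequence: if `g` becomes an isomorphism after base change along `j : T ⟶ X` with `T` a one-point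
scheme, `P` is an fppf torsor and `P'` has a section over `j`, then `P` has a section over `j`.
-/

set_option autoImplicit false
universe v₁ u₁ u

open CategoryTheory MonoidalCategory CartesianMonoidalCategory MonObj GrpObj AlgebraicGeometry Limits
open Groth.Agent.Lib.Helper11.TorsorPts

namespace Groth.Agent.Lib.Helper10.GenTriv

section General

variable {C : Type u₁} [Category.{v₁} C] [CartesianMonoidalCategory C]
variable {G G' P P' : C} [GrpObj G] [GrpObj G'] (g : G ⟶ G') [IsMonHom g]
variable (act : G ⊗ P ⟶ P) (act' : G' ⊗ P' ⟶ P')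
variable (u : P ⟶ P') (hu : act ≫ u = lift (fst G P ≫ g) (snd G P ≫ u) ≫ act')

omit [GrpObj G] [GrpObj G'] [IsMonHom g] in
include hu in
/-- points form of equivariance -/
lemma act_comp {W : C} (c : W ⟶ G) (p : W ⟶ P) :
    (lift c p ≫ act) ≫ u = lift (c ≫ g) (p ≫ u) ≫ act' := by
  rw [Category.assoc, hu, ← Category.assoc]
  congr 1
  apply CartesianMonoidalCategory.hom_ext
  · simp only [Category.assoc, lift_fst, lift_fst_assoc]
  · simp only [Category.assoc, lift_snd, lift_snd_assoc]

omit [GrpObj G] [GrpObj G'] [IsMonHom g] in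
include hu in
/-- surjectivity of `u` on `W`-points -/
lemma exists_comp_eq (hps' : IsIso (lift act' (snd G' P'))) {W : C}
    (hsurj : Function.Surjective (fun w : W ⟶ G => w ≫ g)) (p : W ⟶ P) (s : W ⟶ P') :
    ∃ q : W ⟶ P, q ≫ u = s := by
  obtain ⟨c', hc'⟩ := exists_trans act' hps' s (p ≫ u)
  obtain ⟨c, rfl⟩ := hsurj c'
  exact ⟨lift c p ≫ act, by rw [act_comp g act act' u hu, hc']⟩

include hu in
/-- injectivity of `u` on `W`-points -/
lemma eq_of_comp_eq (hact : PtAct act) (hact' : PtAct act')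
    (hps : IsIso (lift act (snd G P))) (hps' : IsIso (lift act' (snd G' P'))) {W : C}
    (hinj : Function.Injective (fun w : W ⟶ G => w ≫ g)) (q₁ q₂ : W ⟶ P)
    (h : q₁ ≫ u = q₂ ≫ u) : q₁ = q₂ := by
  obtain ⟨δ, hδ⟩ := exists_trans act hps q₂ q₁
  have h1 : lift (δ ≫ g) (q₁ ≫ u) ≫ act' = lift (1 : W ⟶ G') (q₁ ≫ u) ≫ act' := by
    rw [← act_comp g act act' u hu, hδ, hact'.one, h]
  have h2 : δ ≫ g = 1 := eq_of_act_eq act' hps' _ _ _ h1
  have h3 : δ = 1 := by
    apply hinj
    show δ ≫ g = (1 : W ⟶ G) ≫ g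
    rw [h2, MonObj.one_comp]
  rw [← hδ, h3, hact.one]

end General

section Sch

variable {X T : Scheme.{u}} (j : T ⟶ X)

/-- if `g` becomes an isomorphism after base change along `j`, it is bijective on points of
objects of `Over X` that come from `Over T`. -/
lemma bijective_comp {G G' : Over X} (g : G ⟶ G') [IsIso ((Over.pullback j).map g)] (W : Over T) :
    Function.Bijective (fun w : (Over.map j).obj W ⟶ G => w ≫ g) := by
  let adj := Over.mapPullbackAdj j
  have h : (fun w : (Over.map j).obj W ⟶ G => w ≫ g) =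
      (adj.homEquiv W G').symm ∘ (fun v => v ≫ (Over.pullback j).map g) ∘ (adj.homEquiv W G) := by
    funext w
    simp only [Function.comp_apply]
    rw [← Adjunction.homEquiv_naturality_right, Equiv.symm_apply_apply]
  rw [h]
  refine (adj.homEquiv W G').symm.bijective.comp (Function.Bijective.comp ?_ (adj.homEquiv W G).bijective)
  refine Function.bijective_iff_has_inverse.2 ⟨fun v => v ≫ inv ((Over.pullback j).map g), ?_, ?_⟩
  · intro v; simp
  · intro v; simp

set_option backward.isDefEq.respectTransparency false in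
/-- `T` a one-point scheme, `g : G ⟶ G'` an isomorphism after base change along `j : T ⟶ X`, `P` an fppf
`G`-torsor, `P'` a `G'`-pseudo-torsor receiving a `g`-equivariant map from `P`: if `P'` has a section
over `j`, so does `P`. -/
theorem hasSectionOver_of_isPushforward (t₀ : T) (hT : ∀ t : T, t = t₀)
    {G G' : Over X} [GrpObj G] [GrpObj G'] (g : G ⟶ G') [IsMonHom g]
    [IsIso ((Over.pullback j).map g)]
    {P : Over X} (a : AlgGrp.Action G P) (hP : NonAbH1.IsTorsorFor Scheme.fppfPrecoverage a)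
    {P' : Over X} (a' : AlgGrp.Action G' P') (hP' : NonAbH1.IsPseudoTorsorSch a')
    (hpush : NonAbH1.IsPushforwardAlongSch g a a') (htriv : NonAbH1.HasSectionOver P' j) :
    NonAbH1.HasSectionOver P j := by
  obtain ⟨hps, R, hR, hsec⟩ := hP
  obtain ⟨u, hu⟩ := hpush
  obtain ⟨s', hs'⟩ := htriv
  obtain ⟨V, f, hf, v, hv⟩ :=
    (Presieve.mem_comap_jointlySurjectivePrecoverage_iff Scheme.forget).1 hR.1 (j t₀)
  have hv' : f v = j t₀ := hv
  have hfl : Flat f ∧ LocallyOfFinitePresentation f := hR.2 hf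
  haveI := hfl.1
  haveI := hfl.2
  obtain ⟨sV, hsV⟩ := hsec f hf
  haveI : Surjective (pullback.snd f j) := ⟨fun t => by
    rw [hT t]
    obtain ⟨w, -, hw2⟩ := Scheme.Pullback.exists_preimage_pullback v t₀ hv'
    exact ⟨w, hw2⟩⟩
  -- the objects
  obtain ⟨π, hπ⟩ : ∃ π : pullback f j ⟶ T, π = pullback.snd f j := ⟨_, rfl⟩
  haveI : Flat π := by rw [hπ]; infer_instance
  haveI : LocallyOfFinitePresentation π := by rw [hπ]; infer_instance
  haveI : Surjective π := by rw [hπ]; infer_instance
  let W₀ : Over T := Over.mk π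
  let p : (Over.map j).obj W₀ ⟶ P := Over.homMk (pullback.fst f j ≫ sV) (by
    show (pullback.fst f j ≫ sV) ≫ P.hom = π ≫ j
    rw [Category.assoc, hsV, hπ, pullback.condition])
  let sW : (Over.map j).obj W₀ ⟶ P' := Over.homMk (π ≫ s') (by
    show (π ≫ s') ≫ P'.hom = π ≫ j
    rw [Category.assoc, hs'])
  obtain ⟨q, hq⟩ := exists_comp_eq g a.act a'.act u hu hP' (bijective_comp j g W₀).2 p sW
  let W₂ : Over T := Over.mk (pullback.fst π π ≫ π)
  let pr₁ : (Over.map j).obj W₂ ⟶ (Over.map j).obj W₀ :=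
    (Over.map j).map (Over.homMk (pullback.fst π π) rfl)
  let pr₂ : (Over.map j).obj W₂ ⟶ (Over.map j).obj W₀ :=
    (Over.map j).map (Over.homMk (pullback.snd π π) pullback.condition.symm)
  have hq12 : pr₁ ≫ q = pr₂ ≫ q :=
    eq_of_comp_eq g a.act a'.act u hu ⟨fun p => a.lift_one_act p, fun c c' p => a.lift_mul_act c c' p⟩
      ⟨fun p => a'.lift_one_act p, fun c c' p => a'.lift_mul_act c c' p⟩ hps hP'
      (bijective_comp j g W₂).1 _ _ (by
        rw [Category.assoc, Category.assoc, hq]
        ext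
        show pullback.fst π π ≫ π ≫ s' = pullback.snd π π ≫ π ≫ s'
        rw [pullback.condition_assoc])
  have hq12' : pullback.fst π π ≫ q.left = pullback.snd π π ≫ q.left :=
    congrArg (fun m => m.left) hq12
  have hcoeq : ∀ {Z : Scheme.{u}} (g₁ g₂ : Z ⟶ pullback f j), g₁ ≫ π = g₂ ≫ π →
      g₁ ≫ q.left = g₂ ≫ q.left := by
    intro Z g₁ g₂ h
    rw [← pullback.lift_fst g₁ g₂ h, Category.assoc, hq12', pullback.lift_snd_assoc]
  refine ⟨EffectiveEpi.desc π q.left hcoeq, ?_⟩
  rw [← cancel_epi π, ← Category.assoc, EffectiveEpi.fac]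
  exact Over.w q

end Sch

end Groth.Agent.Lib.Helper10.GenTriv
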