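import Mathlib

/-!
# Geometric connectedness of connected schemes with a rational point (helper12)

* `connectedSpace_pullback_of_algebraic`: connected `F`-scheme with an `F`-point stays connected
  after an algebraic extension `K/F`.
* `geometricallyConnected_of_algEquiv_fractionRing_mvPolynomial`: a purely transcendental extension
  is geometrically connected.
* `geometricallyConnected_of_section`: a connected `k`-scheme with a `k`-point is geometrically
  connected.
-/

open CategoryTheory Limits AlgebraicGeometry TensorProduct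

universe u

namespace Groth.Agent.Lib.Helper12.GeomConn

/-- Lemma A: a connected scheme over a field `F` with an `F`-point stays connected after an
algebraic extension of the base field. -/
theorem connectedSpace_pullback_of_algebraic {F K : Type u} [Field F] [Field K] [Algebra F K]
    [Algebra.IsAlgebraic F K]
    {Z : Scheme.{u}} (fZ : Z ⟶ Spec (.of F)) [ConnectedSpace Z] (z : Spec (.of F) ⟶ Z)
    (hz : z ≫ fZ = 𝟙 _) :
    ConnectedSpace ↥(pullback fZ (Spec.map (CommRingCat.ofHom (algebraMap F K)))) := by
  set gK : Spec (.of K) ⟶ Spec (.of F) := Spec.map (CommRingCat.ofHom (algebraMap F K)) with hgK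
  set p := pullback.fst fZ gK with hp
  have hint : IsIntegralHom gK := by
    rw [hgK, IsIntegralHom.SpecMap_iff]
    have : Algebra.IsIntegral F K := inferInstance
    exact algebraMap_isIntegral_iff.mpr this
  have hsurj : Surjective gK := by
    constructor
    intro y
    obtain ⟨w⟩ : Nonempty (Spec (.of K)) := inferInstance
    exact ⟨w, Subsingleton.elim _ _⟩
  have hpc : IsClosedMap p := p.isClosedMap
  have hpo : IsOpenMap p := p.isOpenMap
  have hps : Function.Surjective p := p.surjective
  -- the section over K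
  let zK : Spec (.of K) ⟶ pullback fZ gK :=
    pullback.lift (gK ≫ z) (𝟙 _) (by rw [Category.assoc, hz]; simp)
  have hsq : IsPullback gK zK z p := by
    have hbig : IsPullback (zK ≫ pullback.snd fZ gK) gK gK (z ≫ fZ) := by
      have h1 : zK ≫ pullback.snd fZ gK = 𝟙 _ := pullback.lift_snd _ _ _
      rw [h1, hz]
      exact IsPullback.of_horiz_isIso ⟨by simp⟩
    exact (IsPullback.of_right hbig (pullback.lift_fst _ _ _)
      (IsPullback.of_hasPullback fZ gK).flip).flip
  have hfib : (p ⁻¹' (Set.range z)).Subsingleton := by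
    have h := Scheme.image_preimage_eq_of_isPullback hsq Set.univ
    simp only [Set.preimage_univ, Set.image_univ] at h
    rw [← h]
    rintro _ ⟨a, rfl⟩ _ ⟨b, rfl⟩
    rw [Subsingleton.elim a b]
  obtain ⟨z0⟩ : Nonempty (Spec (.of F)) := inferInstance
  have hne : Nonempty ↥(pullback fZ gK) := by
    obtain ⟨w, _⟩ := hps (z z0)
    exact ⟨w⟩
  have hpre : PreconnectedSpace ↥(pullback fZ gK) := by
    rw [preconnectedSpace_iff_clopen]
    intro A hA
    have h1 : IsClopen (p '' A) := ⟨hpc _ hA.1, hpo _ hA.2⟩
    have h2 : IsClopen (p '' Aᶜ) := ⟨hpc _ hA.compl.1, hpo _ hA.compl.2⟩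
    rcases isClopen_iff.mp h1 with h1 | h1
    · left; simpa using h1
    rcases isClopen_iff.mp h2 with h2 | h2
    · right
      have : Aᶜ = ∅ := by simpa using h2
      simpa [Set.compl_empty_iff] using this
    exfalso
    obtain ⟨a, ha, hpa⟩ : z z0 ∈ p '' A := h1 ▸ Set.mem_univ _
    obtain ⟨b, hb, hpb⟩ : z z0 ∈ p '' Aᶜ := h2 ▸ Set.mem_univ _
    have hab : a = b := hfib (by simp [hpa]) (by simp [hpb])
    exact hb (hab ▸ ha)
  exact { toPreconnectedSpace := hpre, toNonempty := hne }


theorem isDomain_tensor_of_isFractionRing_mvPolynomial (k : Type u) [Field k] (ι : Type u)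
    (L : Type u) [Field L] [Algebra k L]
    (F : Type u) [Field F] [Algebra k F] [Algebra (MvPolynomial ι k) F]
    [IsScalarTower k (MvPolynomial ι k) F] [IsFractionRing (MvPolynomial ι k) F] :
    IsDomain (L ⊗[k] F) := by
  letI : Algebra (L ⊗[k] MvPolynomial ι k) (L ⊗[k] F) :=
    (Algebra.TensorProduct.map (AlgHom.id k L) (IsScalarTower.toAlgHom k (MvPolynomial ι k) F)).toAlgebra
  have hmap : ∀ x, algebraMap (L ⊗[k] MvPolynomial ι k) (L ⊗[k] F) x =
    Algebra.TensorProduct.map (AlgHom.id k L) (IsScalarTower.toAlgHom k (MvPolynomial ι k) F) x :=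
    fun x => rfl
  haveI : IsScalarTower L (L ⊗[k] MvPolynomial ι k) (L ⊗[k] F) := by
    refine IsScalarTower.of_algebraMap_eq (R := L) (S := L ⊗[k] MvPolynomial ι k)
      (A := L ⊗[k] F) ?_
    intro x
    rw [hmap]
    simp [Algebra.TensorProduct.algebraMap_apply]
  haveI := IsLocalization.tensorProduct_tensorProduct_right k L (nonZeroDivisors (MvPolynomial ι k)) F
    (RingHom.ext fun a => by simp [hmap])
  haveI : IsDomain (L ⊗[k] MvPolynomial ι k) :=
    (MvPolynomial.algebraTensorAlgEquiv k L (σ := ι)).toMulEquiv.isDomain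
  refine IsLocalization.isDomain_of_le_nonZeroDivisors
    (M := (nonZeroDivisors (MvPolynomial ι k)).map (Algebra.TensorProduct.includeRight (R := k) (A := L))) _ ?_
  rintro _ ⟨a, ha, rfl⟩
  apply mem_nonZeroDivisors_of_ne_zero
  intro h0
  have hinj : Function.Injective (Algebra.TensorProduct.includeRight (R := k) (A := L)
      (B := MvPolynomial ι k)) :=
    Algebra.TensorProduct.includeRight_injective (algebraMap k L).injective
  have : a = 0 := hinj (by simpa using h0)
  exact nonZeroDivisors.ne_zero ha this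


theorem geometricallyConnected_of_algEquiv_fractionRing_mvPolynomial (k : Type u) [Field k]
    (ι : Type u) (F : Type u) [Field F] [Algebra k F]
    (e : FractionRing (MvPolynomial ι k) ≃ₐ[k] F) :
    GeometricallyConnected (Spec.map (CommRingCat.ofHom (algebraMap k F))) := by
  rw [geometricallyConnected_iff, geometrically_iff_of_commRing_of_isClosedUnderIsomorphisms]
  intro L _ _
  have e' := pullbackSpecIso k F L
  haveI := isDomain_tensor_of_isFractionRing_mvPolynomial k ι L (FractionRing (MvPolynomial ι k))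
  haveI : IsDomain (L ⊗[k] F) :=
    (Algebra.TensorProduct.congr (AlgEquiv.refl (R := k) (A₁ := L)) e.symm).toMulEquiv.isDomain
  haveI : IsDomain (F ⊗[k] L) := (Algebra.TensorProduct.comm k F L).toMulEquiv.isDomain
  haveI : IrreducibleSpace (Spec (.of (F ⊗[k] L))) := by
    show IrreducibleSpace (PrimeSpectrum (F ⊗[k] L))
    infer_instance
  show ConnectedSpace _
  rw [e'.hom.homeomorph.connectedSpace_iff]
  infer_instance

/-- tower lemma -/
theorem connectedSpace_pullback_of_tower {k F K : Type u} [Field k] [Field F] [Field K]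
    [Algebra k F] [Algebra F K] [Algebra k K] [IsScalarTower k F K] [Algebra.IsAlgebraic F K]
    (hF : GeometricallyConnected (Spec.map (CommRingCat.ofHom (algebraMap k F))))
    {X : Scheme.{u}} (f : X ⟶ Spec (.of k)) [ConnectedSpace X]
    (x : Spec (.of k) ⟶ X) (hx : x ≫ f = 𝟙 _) :
    ConnectedSpace ↥(pullback f (Spec.map (CommRingCat.ofHom (algebraMap k K)))) := by
  set gF : Spec (.of F) ⟶ Spec (.of k) := Spec.map (CommRingCat.ofHom (algebraMap k F)) with hgF
  set gKF : Spec (.of K) ⟶ Spec (.of F) := Spec.map (CommRingCat.ofHom (algebraMap F K)) with hgKF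
  have hcomp : Spec.map (CommRingCat.ofHom (algebraMap k K)) = gKF ≫ gF := by
    rw [hgF, hgKF, ← Spec.map_comp, ← CommRingCat.ofHom_comp, ← IsScalarTower.algebraMap_eq]
  haveI : ConnectedSpace ↥(pullback f gF) := inferInstance
  let xF : Spec (.of F) ⟶ pullback f gF := pullback.lift (gF ≫ x) (𝟙 _)
    (by rw [Category.assoc, hx]; simp)
  have hxF : xF ≫ pullback.snd f gF = 𝟙 _ := pullback.lift_snd _ _ _
  have h1 := connectedSpace_pullback_of_algebraic (K := K) (pullback.snd f gF) xF hxF
  rw [hcomp]
  exact ((pullbackLeftPullbackSndIso f gF gKF).symm.hom.homeomorph.connectedSpace_iff).mpr h1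

theorem geometricallyConnected_of_section {k : Type u} [Field k] {X : Scheme.{u}}
    (f : X ⟶ Spec (.of k)) [ConnectedSpace X]
    (x : Spec (.of k) ⟶ X) (hx : x ≫ f = 𝟙 _) : GeometricallyConnected f := by
  rw [geometricallyConnected_iff, geometrically_iff_of_commRing_of_isClosedUnderIsomorphisms]
  intro K _ _
  obtain ⟨ι, b, hb⟩ : ∃ (ι : Type u) (b : ι → K), IsTranscendenceBasis k b :=
    exists_isTranscendenceBasis' k K
  haveI : Algebra.IsAlgebraic (IntermediateField.adjoin k (Set.range b)) K := hb.isAlgebraic_field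
  exact connectedSpace_pullback_of_tower (F := IntermediateField.adjoin k (Set.range b))
    (geometricallyConnected_of_algEquiv_fractionRing_mvPolynomial k ι _ hb.1.aevalEquivField)
    f x hx


/-- Geometric connectedness descends along surjective morphisms. -/
theorem geometricallyConnected_of_isPullback_of_surjective {A X Y Z : Scheme.{u}}
    {fst : A ⟶ X} {snd : A ⟶ Y} {f : X ⟶ Z} {g : Y ⟶ Z} (sq : IsPullback fst snd f g)
    [Surjective f] [GeometricallyConnected fst] : GeometricallyConnected g := by
  rw [geometricallyConnected_iff, geometrically_iff_of_isClosedUnderIsomorphisms]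
  intro K _ z
  -- a point of `X ×_Z Spec K`
  obtain ⟨w⟩ : Nonempty ↥(pullback f z) := by
    obtain ⟨pt⟩ : Nonempty (Spec (.of K)) := inferInstance
    obtain ⟨w, _⟩ := (pullback.snd f z).surjective pt
    exact ⟨w⟩
  let T := Spec ((pullback f z).residueField w)
  let t : T ⟶ pullback f z := (pullback f z).fromSpecResidueField w
  let x' : T ⟶ X := t ≫ pullback.fst f z
  let c : T ⟶ Spec (.of K) := t ≫ pullback.snd f z
  have hc : x' ≫ f = c ≫ z := by simp [x', c, pullback.condition]
  have hconn : ConnectedSpace ↥(pullback fst x') := by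
    have h := GeometricallyConnected.geometrically_connectedSpace (f := fst)
    rw [geometrically_eq_universally] at h
    exact h _ _ _ (IsPullback.of_hasPullback fst x').flip inferInstance inferInstance
  let m : pullback fst x' ⟶ pullback g z :=
    pullback.lift (pullback.fst fst x' ≫ snd) (pullback.snd fst x' ≫ c) (by
      rw [Category.assoc, ← sq.w, ← Category.assoc, pullback.condition, Category.assoc, hc]
      simp [c])
  have hm : IsPullback m (pullback.snd fst x') (pullback.snd g z) c := by
    have hbig : IsPullback (pullback.fst fst x' ≫ snd) (pullback.snd fst x') g (x' ≫ f) :=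
      ((IsPullback.of_hasPullback fst x').flip.paste_vert sq).flip
    rw [hc] at hbig
    have hm1 : m ≫ pullback.fst g z = pullback.fst fst x' ≫ snd := pullback.lift_fst _ _ _
    have hm2 : m ≫ pullback.snd g z = pullback.snd fst x' ≫ c := pullback.lift_snd _ _ _
    rw [← hm1] at hbig
    exact (IsPullback.of_bot hbig.flip hm2.symm (IsPullback.of_hasPullback g z).flip).flip
  have hcs : Surjective c := by
    constructor
    intro y
    obtain ⟨w'⟩ : Nonempty T := inferInstance
    exact ⟨w', Subsingleton.elim _ _⟩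
  have hms : Surjective m := MorphismProperty.of_isPullback (P := @Surjective) hm.flip hcs
  exact hms.1.connectedSpace m.continuous

/-- Topological lemma: open, closed, surjective map onto a connected space with one fibre a
subsingleton has connected source. -/
theorem connectedSpace_of_isOpenMap_isClosedMap {A B : Type*} [TopologicalSpace A]
    [TopologicalSpace B] [ConnectedSpace B] (p : A → B) (hpo : IsOpenMap p) (hpc : IsClosedMap p)
    (hps : Function.Surjective p) (b0 : B) (hfib : (p ⁻¹' {b0}).Subsingleton) :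
    ConnectedSpace A := by
  have hne : Nonempty A := by
    obtain ⟨w, _⟩ := hps b0
    exact ⟨w⟩
  have hpre : PreconnectedSpace A := by
    rw [preconnectedSpace_iff_clopen]
    intro S hS
    have h1 : IsClopen (p '' S) := ⟨hpc _ hS.1, hpo _ hS.2⟩
    have h2 : IsClopen (p '' Sᶜ) := ⟨hpc _ hS.compl.1, hpo _ hS.compl.2⟩
    rcases isClopen_iff.mp h1 with h1 | h1
    · left; simpa using h1
    rcases isClopen_iff.mp h2 with h2 | h2
    · right
      have : Sᶜ = ∅ := by simpa using h2
      simpa [Set.compl_empty_iff] using this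
    exfalso
    obtain ⟨a, ha, hpa⟩ : b0 ∈ p '' S := h1 ▸ Set.mem_univ _
    obtain ⟨b, hb, hpb⟩ : b0 ∈ p '' Sᶜ := h2 ▸ Set.mem_univ _
    have hab : a = b := hfib (by simp [hpa]) (by simp [hpb])
    exact hb (hab ▸ ha)
  exact { toPreconnectedSpace := hpre, toNonempty := hne }

/-- Subset version of the previous lemma. -/
theorem isConnected_preimage_of_isOpenMap_isClosedMap {A B : Type*} [TopologicalSpace A]
    [TopologicalSpace B] (p : A → B) (hpo : IsOpenMap p) (hpc : IsClosedMap p)
    (hps : Function.Surjective p) (D : Set B) (hD : _root_.IsConnected D) (b0 : B) (hb0 : b0 ∈ D)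
    (hfib : (p ⁻¹' {b0}).Subsingleton) :
    IsConnected (p ⁻¹' D) := by
  haveI : ConnectedSpace D := isConnected_iff_connectedSpace.mp hD
  have := connectedSpace_of_isOpenMap_isClosedMap (D.restrictPreimage p)
    (hpo.restrictPreimage D) (hpc.restrictPreimage D) (Set.restrictPreimage_surjective D hps)
    ⟨b0, hb0⟩ (by
      rintro ⟨a, ha⟩ ha' ⟨b, hb⟩ hb'
      have h1 : p a = b0 := congrArg Subtype.val ha'
      have h2 : p b = b0 := congrArg Subtype.val hb'
      exact Subtype.ext (hfib h1 h2))
  exact isConnected_iff_connectedSpace.mpr this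

/-- Base change along an algebraic field extension: the projection is open, closed, surjective and
the fibre over a rational point is a single point. -/
theorem props_fst_of_algebraic {F K : Type u} [Field F] [Field K] [Algebra F K]
    [Algebra.IsAlgebraic F K]
    {Z : Scheme.{u}} (fZ : Z ⟶ Spec (.of F)) (z : Spec (.of F) ⟶ Z)
    (hz : z ≫ fZ = 𝟙 _) :
    IsOpenMap (pullback.fst fZ (Spec.map (CommRingCat.ofHom (algebraMap F K)))) ∧
    IsClosedMap (pullback.fst fZ (Spec.map (CommRingCat.ofHom (algebraMap F K)))) ∧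
    Function.Surjective (pullback.fst fZ (Spec.map (CommRingCat.ofHom (algebraMap F K)))) ∧
    ((pullback.fst fZ (Spec.map (CommRingCat.ofHom (algebraMap F K)))) ⁻¹'
      (Set.range z)).Subsingleton := by
  set gK : Spec (.of K) ⟶ Spec (.of F) := Spec.map (CommRingCat.ofHom (algebraMap F K)) with hgK
  set p := pullback.fst fZ gK with hp
  have hint : IsIntegralHom gK := by
    rw [hgK, IsIntegralHom.SpecMap_iff]
    have : Algebra.IsIntegral F K := inferInstance
    exact algebraMap_isIntegral_iff.mpr this
  have hsurj : Surjective gK := by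
    constructor
    intro y
    obtain ⟨w⟩ : Nonempty (Spec (.of K)) := inferInstance
    exact ⟨w, Subsingleton.elim _ _⟩
  refine ⟨p.isOpenMap, p.isClosedMap, p.surjective, ?_⟩
  let zK : Spec (.of K) ⟶ pullback fZ gK :=
    pullback.lift (gK ≫ z) (𝟙 _) (by rw [Category.assoc, hz]; simp)
  have hsq : IsPullback gK zK z p := by
    have hbig : IsPullback (zK ≫ pullback.snd fZ gK) gK gK (z ≫ fZ) := by
      have h1 : zK ≫ pullback.snd fZ gK = 𝟙 _ := pullback.lift_snd _ _ _
      rw [h1, hz]
      exact IsPullback.of_horiz_isIso ⟨by simp⟩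
    exact (IsPullback.of_right hbig (pullback.lift_fst _ _ _)
      (IsPullback.of_hasPullback fZ gK).flip).flip
  have h := Scheme.image_preimage_eq_of_isPullback hsq Set.univ
  simp only [Set.preimage_univ, Set.image_univ] at h
  rw [← h]
  rintro _ ⟨a, rfl⟩ _ ⟨b, rfl⟩
  rw [Subsingleton.elim a b]

theorem isConnected_preimage_of_algebraic {F K : Type u} [Field F] [Field K] [Algebra F K]
    [Algebra.IsAlgebraic F K]
    {Z : Scheme.{u}} (fZ : Z ⟶ Spec (.of F)) (z : Spec (.of F) ⟶ Z)
    (hz : z ≫ fZ = 𝟙 _) (D : Set Z) (hD : _root_.IsConnected D) (hzD : ∀ pt, z pt ∈ D) :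
    _root_.IsConnected ((pullback.fst fZ (Spec.map (CommRingCat.ofHom (algebraMap F K)))) ⁻¹' D) := by
  obtain ⟨h1, h2, h3, h4⟩ := props_fst_of_algebraic (K := K) fZ z hz
  obtain ⟨z0⟩ : Nonempty (Spec (.of F)) := inferInstance
  exact isConnected_preimage_of_isOpenMap_isClosedMap _ h1 h2 h3 D hD (z z0) (hzD z0)
    (h4.anti (Set.preimage_mono (by simp)))

/-- tower lemma, subset version -/
theorem isConnected_preimage_of_tower {k F K : Type u} [Field k] [Field F] [Field K]
    [Algebra k F] [Algebra F K] [Algebra k K] [IsScalarTower k F K] [Algebra.IsAlgebraic F K]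
    (hF : GeometricallyConnected (Spec.map (CommRingCat.ofHom (algebraMap k F))))
    {X : Scheme.{u}} (f : X ⟶ Spec (.of k))
    (x : Spec (.of k) ⟶ X) (hx : x ≫ f = 𝟙 _)
    (D : Set X) (hDc : IsClosed D) (hD : _root_.IsConnected D) (hxD : ∀ pt, x pt ∈ D) :
    _root_.IsConnected ((pullback.fst f (Spec.map (CommRingCat.ofHom (algebraMap k K)))) ⁻¹' D) := by
  set gF : Spec (.of F) ⟶ Spec (.of k) := Spec.map (CommRingCat.ofHom (algebraMap k F)) with hgF
  set gKF : Spec (.of K) ⟶ Spec (.of F) := Spec.map (CommRingCat.ofHom (algebraMap F K)) with hgKF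
  have hcomp : Spec.map (CommRingCat.ofHom (algebraMap k K)) = gKF ≫ gF := by
    rw [hgF, hgKF, ← Spec.map_comp, ← CommRingCat.ofHom_comp, ← IsScalarTower.algebraMap_eq]
  rw [hcomp]
  let xF : Spec (.of F) ⟶ pullback f gF := pullback.lift (gF ≫ x) (𝟙 _)
    (by rw [Category.assoc, hx]; simp)
  have hxF : xF ≫ pullback.snd f gF = 𝟙 _ := pullback.lift_snd _ _ _
  have hxF1 : xF ≫ pullback.fst f gF = gF ≫ x := pullback.lift_fst _ _ _
  have hDF : _root_.IsConnected ((pullback.fst f gF) ⁻¹' D) :=
    (pullback.fst f gF).isConnected_preimage (pullback.fst f gF).isOpenMap hD hDc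
  have h1 := isConnected_preimage_of_algebraic (K := K) (pullback.snd f gF) xF hxF
    ((pullback.fst f gF) ⁻¹' D) hDF (by
      intro pt
      show (xF ≫ pullback.fst f gF) pt ∈ D
      rw [hxF1]
      exact hxD _)
  have e := pullbackLeftPullbackSndIso f gF gKF
  have he : (pullbackLeftPullbackSndIso f gF gKF).hom ≫ pullback.fst f (gKF ≫ gF) =
    pullback.fst (pullback.snd f gF) gKF ≫ pullback.fst f gF := by simp
  have : (pullback.fst f (gKF ≫ gF)) ⁻¹' D =
      (pullbackLeftPullbackSndIso f gF gKF).hom ''
        ((pullback.fst (pullback.snd f gF) gKF) ⁻¹' ((pullback.fst f gF) ⁻¹' D)) := by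
    ext w
    constructor
    · intro hw
      refine ⟨(pullbackLeftPullbackSndIso f gF gKF).inv w, ?_, ?_⟩
      · show (pullback.fst (pullback.snd f gF) gKF ≫ pullback.fst f gF)
          ((pullbackLeftPullbackSndIso f gF gKF).inv w) ∈ D
        rw [← he, ← Scheme.Hom.comp_apply, Iso.inv_hom_id_assoc]
        exact hw
      · rw [← Scheme.Hom.comp_apply, Iso.inv_hom_id]; rfl
    · rintro ⟨v, hv, rfl⟩
      show (pullback.fst f (gKF ≫ gF)) _ ∈ D
      rw [← Scheme.Hom.comp_apply, he]
      exact hv
  rw [this]
  exact h1.image _ (pullbackLeftPullbackSndIso f gF gKF).hom.continuous.continuousOn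

theorem isConnected_preimage_of_section {k : Type u} [Field k] {X : Scheme.{u}}
    (f : X ⟶ Spec (.of k)) (x : Spec (.of k) ⟶ X) (hx : x ≫ f = 𝟙 _)
    (D : Set X) (hDc : IsClosed D) (hD : _root_.IsConnected D) (hxD : ∀ pt, x pt ∈ D)
    (K : Type u) [Field K] [Algebra k K] :
    _root_.IsConnected
      ((pullback.fst f (Spec.map (CommRingCat.ofHom (algebraMap k K)))) ⁻¹' D) := by
  obtain ⟨ι, b, hb⟩ : ∃ (ι : Type u) (b : ι → K), IsTranscendenceBasis k b :=
    exists_isTranscendenceBasis' k K
  haveI : Algebra.IsAlgebraic (IntermediateField.adjoin k (Set.range b)) K := hb.isAlgebraic_field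
  exact isConnected_preimage_of_tower (F := IntermediateField.adjoin k (Set.range b))
    (geometricallyConnected_of_algEquiv_fractionRing_mvPolynomial k ι _ hb.1.aevalEquivField)
    f x hx D hDc hD hxD

theorem isConnected_preimage_of_isPullback {k K : Type u} [Field k] [Field K]
    {W W' : Scheme.{u}} {π : W' ⟶ W} {ψ : W' ⟶ Spec (.of K)} {φ : W ⟶ Spec (.of k)}
    {c : Spec (.of K) ⟶ Spec (.of k)} (sq : IsPullback π ψ φ c)
    (σ : Spec (.of k) ⟶ W) (hσ : σ ≫ φ = 𝟙 _)
    (D : Set W) (hDc : IsClosed D) (hD : _root_.IsConnected D) (hσD : ∀ pt, σ pt ∈ D) :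
    _root_.IsConnected (π ⁻¹' D) := by
  obtain ⟨ψ0, rfl⟩ := Spec.map_surjective c
  algebraize [ψ0.hom]
  have h := isConnected_preimage_of_section φ σ hσ D hDc hD hσD K
  have hπ : π = sq.isoPullback.hom ≫ pullback.fst φ (Spec.map ψ0) := by simp
  have : π ⁻¹' D = sq.isoPullback.inv '' ((pullback.fst φ (Spec.map ψ0)) ⁻¹' D) := by
    ext w
    constructor
    · intro hw
      refine ⟨sq.isoPullback.hom w, ?_, ?_⟩
      · show (pullback.fst φ (Spec.map ψ0)) (sq.isoPullback.hom w) ∈ D
        rw [← Scheme.Hom.comp_apply, ← hπ]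
        exact hw
      · rw [← Scheme.Hom.comp_apply, Iso.hom_inv_id]; rfl
    · rintro ⟨v, hv, rfl⟩
      have h2 : sq.isoPullback.inv ≫ π = pullback.fst φ (Spec.map ψ0) := by simp
      show (sq.isoPullback.inv ≫ π) v ∈ D
      rw [h2]
      exact hv
  rw [this]
  exact h.image _ sq.isoPullback.inv.continuous.continuousOn

end Groth.Agent.Lib.Helper12.GeomConn
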