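import Mathlib
import Groth.Agent.Lib.Helper14GeomIrr

/-! Helper14: a field extension `K/k` is geometrically irreducible iff `k` is separably closed
in `K` (polynomial lemmas and `AdjoinRoot` base change). -/

set_option autoImplicit false

universe u
open Polynomial TensorProduct

namespace Groth.Agent.Lib.Helper14.GeomIrr

section Poly

variable {k K : Type u} [Field k] [Field K] [Algebra k K]

/-- a monic polynomial over `K` which divides a separable polynomial coming from `k` has
coefficients separable over `k`. -/
lemma isSeparable_coeff_of_dvd {f : k[X]} (hsep : f.Separable) {g : K[X]} (hg : g.Monic)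
    (hdvd : g ∣ f.map (algebraMap k K)) (i : ℕ) : IsSeparable k (g.coeff i) := by
  let Ω := AlgebraicClosure K
  let E : IntermediateField k Ω := separableClosure k Ω
  have hsplit : (g.map (algebraMap K Ω)).Splits := IsAlgClosed.splits _
  have hmonic : (g.map (algebraMap K Ω)).Monic := hg.map _
  have hprod := hsplit.eq_prod_roots_of_monic hmonic
  have hroots : ∀ r ∈ (g.map (algebraMap K Ω)).roots, r ∈ E := by
    intro r hr
    rw [mem_separableClosure_iff]
    have hr0 : (g.map (algebraMap K Ω)).eval r = 0 := (mem_roots'.mp hr).2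
    have hfr : aeval r f = 0 := by
      obtain ⟨c, hc⟩ := hdvd
      have : (f.map (algebraMap k K)).map (algebraMap K Ω) =
          g.map (algebraMap K Ω) * c.map (algebraMap K Ω) := by rw [hc, Polynomial.map_mul]
      rw [Polynomial.map_map, ← IsScalarTower.algebraMap_eq] at this
      rw [aeval_def, ← eval_map, this, eval_mul, hr0, zero_mul]
    exact hsep.of_dvd (minpoly.dvd k r hfr)
  have hmem : g.map (algebraMap K Ω) ∈ (mapRingHom (algebraMap E Ω)).range := by
    rw [hprod]
    apply Subring.multiset_prod_mem
    intro p hp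
    rw [Multiset.mem_map] at hp
    obtain ⟨r, hr, rfl⟩ := hp
    exact ⟨X - C ⟨r, hroots r hr⟩, by simp⟩
  obtain ⟨g', hg'⟩ := hmem
  have hc : algebraMap K Ω (g.coeff i) = algebraMap E Ω (g'.coeff i) := by
    have := congrArg (fun p => p.coeff i) hg'
    simp only [coe_mapRingHom, coeff_map] at this
    exact this.symm
  have h1 : IsSeparable k (algebraMap K Ω (g.coeff i)) := by
    rw [hc, ← mem_separableClosure_iff]
    exact (g'.coeff i).2
  unfold IsSeparable at h1 ⊢
  rwa [minpoly.algebraMap_eq (algebraMap K Ω).injective] at h1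

theorem irreducible_map_of_forall_isSeparable_mem
    (h : ∀ α : K, IsSeparable k α → α ∈ Set.range (algebraMap k K))
    {f : k[X]} (hf : Irreducible f) (hsep : f.Separable) :
    Irreducible (f.map (algebraMap k K)) := by
  have hnu : ¬ IsUnit (f.map (algebraMap k K)) := by
    intro hu
    have h0 := natDegree_eq_zero_of_isUnit hu
    rw [natDegree_map] at h0
    have : 0 < f.natDegree := hf.natDegree_pos
    omega
  obtain ⟨g, hgm, hgi, hgd⟩ := exists_monic_irreducible_factor _ hnu
  have hlift : g ∈ lifts (algebraMap k K) := by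
    rw [lifts_iff_coeff_lifts]
    intro n
    exact h _ (isSeparable_coeff_of_dvd hsep hgm hgd n)
  obtain ⟨g₀, rfl⟩ := hlift
  have hd : g₀ ∣ f := (map_dvd_map' _).mp hgd
  rcases (hf.dvd_iff).mp hd with hu | ha
  · exact absurd (hu.map (mapRingHom (algebraMap k K))) hgi.not_isUnit
  · have : Associated (f.map (algebraMap k K)) (g₀.map (algebraMap k K)) :=
      ha.map (mapRingHom (algebraMap k K))
    exact this.symm.irreducible hgi

end Poly

section AdjoinRootTensor

variable {k K : Type u} [Field k] [Field K] [Algebra k K]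

/-- base change of `k[X]/(f)` to `K` -/
noncomputable def adjoinRootTensorEquiv (f : k[X]) :
    K ⊗[k] AdjoinRoot f ≃ₐ[K] AdjoinRoot (f.map (algebraMap k K)) :=
  (AdjoinRoot.tensorAlgEquiv (R := k) (S := k) (T := K) f
    (f.map (Algebra.TensorProduct.includeRight : k →ₐ[k] K ⊗[k] k).toRingHom) rfl).trans
  (AdjoinRoot.mapAlgEquiv (Algebra.TensorProduct.rid k K K)
    (f.map (Algebra.TensorProduct.includeRight : k →ₐ[k] K ⊗[k] k).toRingHom)
    (f.map (algebraMap k K)) (by
      rw [Polynomial.map_map]
      have : ((Algebra.TensorProduct.rid k K K : K ⊗[k] k →+* K)).comp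
          (Algebra.TensorProduct.includeRight : k →ₐ[k] K ⊗[k] k).toRingHom = algebraMap k K := by
        ext x
        simp [Algebra.algebraMap_eq_smul_one]
      first | rw [this] | (show Associated (f.map _) _; erw [this])))

lemma isPrime_nilradical_adjoinRoot_of_irreducible {g : K[X]} (hg : Irreducible g) :
    (nilradical (AdjoinRoot g)).IsPrime := by
  haveI : IsDomain (AdjoinRoot g) := AdjoinRoot.isDomain_of_prime hg.prime
  rw [nilradical_eq_zero]
  exact Ideal.isPrime_bot

lemma irreducible_of_isPrime_nilradical_adjoinRoot {g : K[X]} (hsep : g.Separable)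
    (h : (nilradical (AdjoinRoot g)).IsPrime) : Irreducible g := by
  have hg0 : g ≠ 0 := hsep.ne_zero
  have hrad : (Ideal.span {g}).IsRadical := by
    rw [← isRadical_iff_span_singleton]
    exact hsep.squarefree.isRadical
  haveI : IsReduced (AdjoinRoot g) := (Ideal.isRadical_iff_quotient_reduced _).mp hrad
  rw [nilradical_eq_zero] at h
  have hprime : (Ideal.span {g}).IsPrime := by
    rw [← Ideal.Quotient.isDomain_iff_prime]
    haveI := h
    exact IsDomain.of_bot_isPrime (AdjoinRoot g)
  exact ((Ideal.span_singleton_prime hg0).mp hprime).irreducible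

end AdjoinRootTensor

section SepClosedIn

variable {k K : Type u} [Field k] [Field K] [Algebra k K]

theorem mem_range_of_isSeparable_of_geomIrr
    (hyp : ∀ (k' : Type u) [Field k'] [Algebra k k'], (nilradical (k' ⊗[k] K)).IsPrime)
    (α : K) (hα : IsSeparable k α) : α ∈ Set.range (algebraMap k K) := by
  have hint : IsIntegral k α := hα.isIntegral
  have hf : Irreducible (minpoly k α) := minpoly.irreducible hint
  haveI : Fact (Irreducible (minpoly k α)) := ⟨hf⟩
  have h1 := hyp (AdjoinRoot (minpoly k α))
  have h2 : (nilradical (AdjoinRoot ((minpoly k α).map (algebraMap k K)))).IsPrime :=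
    isPrime_nilradical_of_ringEquiv
      ((adjoinRootTensorEquiv (K := K) (minpoly k α)).symm.toRingEquiv.trans
        (Algebra.TensorProduct.comm k K (AdjoinRoot (minpoly k α))).toRingEquiv) h1
  have hsep : ((minpoly k α).map (algebraMap k K)).Separable := Polynomial.Separable.map hα
  have hirr := irreducible_of_isPrime_nilradical_adjoinRoot hsep h2
  have hroot : ((minpoly k α).map (algebraMap k K)).IsRoot α := by
    rw [IsRoot, eval_map, ← aeval_def, minpoly.aeval]
  have hdeg := degree_eq_one_of_irreducible_of_root hirr hroot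
  rw [degree_map] at hdeg
  exact minpoly.mem_range_of_degree_eq_one k α hdeg

theorem geomIrr_of_forall_isSeparable_mem
    (h : ∀ α : K, IsSeparable k α → α ∈ Set.range (algebraMap k K))
    (k' : Type u) [Field k'] [Algebra k k'] : (nilradical (k' ⊗[k] K)).IsPrime := by
  refine isPrime_nilradical_of_algClosure (isPrime_nilradical_algClosure
    (isPrime_nilradical_sepClosure ?_)) k'
  intro E _ _ _ _
  let pb := Field.powerBasisOfFiniteOfSeparable k E
  have hint : IsIntegral k pb.gen := Algebra.IsIntegral.isIntegral pb.gen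
  have hf : Irreducible (minpoly k pb.gen) := minpoly.irreducible hint
  have hsep : (minpoly k pb.gen).Separable := Algebra.IsSeparable.isSeparable k pb.gen
  let e : AdjoinRoot (minpoly k pb.gen) ≃ₐ[k] E :=
    AdjoinRoot.equiv' (minpoly k pb.gen) pb (by rw [AdjoinRoot.aeval_eq, AdjoinRoot.mk_self])
      (minpoly.aeval k pb.gen)
  have h1 := isPrime_nilradical_adjoinRoot_of_irreducible
    (irreducible_map_of_forall_isSeparable_mem h hf hsep)
  let e2 : E ⊗[k] K ≃ₐ[k] AdjoinRoot (minpoly k pb.gen) ⊗[k] K :=
    Algebra.TensorProduct.congr e.symm AlgEquiv.refl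
  exact isPrime_nilradical_of_ringEquiv
    (e2.toRingEquiv.trans ((Algebra.TensorProduct.comm k _ K).toRingEquiv.trans
      (adjoinRootTensorEquiv (K := K) (minpoly k pb.gen)).toRingEquiv)) h1

end SepClosedIn

end Groth.Agent.Lib.Helper14.GeomIrr
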