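import Mathlib
import Groth.Prelude.Def_Curv2
import Groth.Agent.Lib.Helper14GeomIrr

set_option autoImplicit false
universe u
open CategoryTheory CategoryTheory.Limits AlgebraicGeometry TensorProduct

namespace Groth.Agent.Lib.Helper6.SepCl

/-- over a separably closed field every field extension is geometrically irreducible -/
theorem geometricallyIrreducible_specMap_of_isSepClosed (k K : Type u) [Field k] [Field K]
    [Algebra k K] [IsSepClosed k] :
    GeometricallyIrreducible (Spec.map (CommRingCat.ofHom (algebraMap k K))) := by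
  rw [geometricallyIrreducible_iff, geometrically_iff_of_commRing_of_isClosedUnderIsomorphisms]
  intro L _ _
  haveI : IrreducibleSpace (Spec (CommRingCat.of (K ⊗[k] L))) := by
    change IrreducibleSpace (PrimeSpectrum (K ⊗[k] L))
    rw [PrimeSpectrum.irreducibleSpace_iff_isPrime_nilradical]
    refine Groth.Agent.Lib.Helper14.GeomIrr.isPrime_nilradical_tensor_of_isSepClosed
      (k := k) (S := L) ?_ K
    rw [nilradical_eq_zero]
    exact Ideal.isPrime_bot
  exact (pullbackSpecIso k K L).hom.homeomorph.irreducibleSpace_iff.mpr inferInstance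

theorem geometricallyConnected_of_geometricallyIrreducible {X Y : Scheme.{u}} (f : X ⟶ Y)
    [GeometricallyIrreducible f] : GeometricallyConnected f := by
  have h : geometrically (IrreducibleSpace ·) f := (geometricallyIrreducible_iff f).mp inferInstance
  rw [geometricallyConnected_iff]
  intro K _ y Z fst snd hpb
  haveI : IrreducibleSpace Z := h y fst snd hpb
  infer_instance

section Scheme

variable (k : Type u) [Field k] (X : Scheme.{u}) [X.Over (Spec (CommRingCat.of k))]
  (K : Type u) [Field K] [Algebra k K]

instance : UniversallyOpen (Curv2.bcFst k X K) := by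
  unfold Curv2.bcFst
  infer_instance

theorem isOpenMap_bcFst : IsOpenMap (Curv2.bcFst k X K) := (Curv2.bcFst k X K).isOpenMap

theorem geometricallyIrreducible_bcFst [IsSepClosed k] :
    GeometricallyIrreducible (Curv2.bcFst k X K) := by
  haveI := geometricallyIrreducible_specMap_of_isSepClosed k K
  unfold Curv2.bcFst
  infer_instance

/-- over a separably closed field, irreducible components of `X_K` with the same image are
equal -/
theorem irreducibleComponents_injective [IsSepClosed k]
    (T T' : Set (Curv2.bc k X K : Type u)) (hT : T ∈ irreducibleComponents (Curv2.bc k X K : Type u))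
    (hT' : T' ∈ irreducibleComponents (Curv2.bc k X K : Type u))
    (h : (Curv2.bcFst k X K).base '' T = (Curv2.bcFst k X K).base '' T') : T = T' := by
  haveI := geometricallyIrreducible_bcFst k X K
  have h1 : (Curv2.bcFst k X K).irreducibleComponentsEquiv (isOpenMap_bcFst k X K) ⟨T, hT⟩ =
      (Curv2.bcFst k X K).irreducibleComponentsEquiv (isOpenMap_bcFst k X K) ⟨T', hT'⟩ :=
    Subtype.ext h
  exact congrArg Subtype.val (((Curv2.bcFst k X K).irreducibleComponentsEquiv
    (isOpenMap_bcFst k X K)).injective h1)

/-- over a separably closed field, `X_K → X` is bijective on connected components -/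
theorem connectedComponentsMap_bijective [IsSepClosed k] :
    Function.Bijective (Continuous.connectedComponentsMap (Curv2.bcFst k X K).continuous) := by
  haveI := geometricallyIrreducible_bcFst k X K
  haveI := geometricallyConnected_of_geometricallyIrreducible (Curv2.bcFst k X K)
  have hco : Topology.IsCoinducing (Curv2.bcFst k X K) :=
    ((isOpenMap_bcFst k X K).isQuotientMap (Curv2.bcFst k X K).continuous
      (Curv2.bcFst k X K).surjective).isCoinducing
  exact hco.connectedComponentsMap_bijective (Curv2.bcFst k X K).isConnected_preimage_singleton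

end Scheme

section Trans

variable (k : Type u) [Field k] (X : Scheme.{u}) [X.Over (Spec (CommRingCat.of k))]
  (k' : Type u) [Field k'] [Algebra k k'] (k'' : Type u) [Field k''] [Algebra k' k'']
  [Algebra k k''] [IsScalarTower k k' k'']

/-- `(X_{k'})_{k''}` is a base change of `X` to `k''` -/
theorem isPullback_bc_bc :
    letI : (Curv2.bc k X k').Over (Spec (CommRingCat.of k')) := ⟨Curv2.bcSnd k X k'⟩
    IsPullback (Curv2.bcFst k' (Curv2.bc k X k') k'' ≫ Curv2.bcFst k X k')
      (Curv2.bcSnd k' (Curv2.bc k X k') k'') (X ↘ Spec (CommRingCat.of k))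
      (Spec.map (CommRingCat.ofHom (algebraMap k k''))) := by
  letI : (Curv2.bc k X k').Over (Spec (CommRingCat.of k')) := ⟨Curv2.bcSnd k X k'⟩
  have hA : IsPullback (Curv2.bcFst k' (Curv2.bc k X k') k'')
      (Curv2.bcSnd k' (Curv2.bc k X k') k'')
      (Curv2.bcSnd k X k') (Spec.map (CommRingCat.ofHom (algebraMap k' k''))) :=
    IsPullback.of_hasPullback _ _
  have hB : IsPullback (Curv2.bcFst k X k') (Curv2.bcSnd k X k') (X ↘ Spec (CommRingCat.of k))
      (Spec.map (CommRingCat.ofHom (algebraMap k k'))) := IsPullback.of_hasPullback _ _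
  have hAB := hA.paste_horiz hB
  have heq : Spec.map (CommRingCat.ofHom (algebraMap k' k'')) ≫
      Spec.map (CommRingCat.ofHom (algebraMap k k')) =
      Spec.map (CommRingCat.ofHom (algebraMap k k'')) := by
    rw [← Spec.map_comp, ← CommRingCat.ofHom_comp, ← IsScalarTower.algebraMap_eq]
  rw [heq] at hAB
  exact hAB

/-- the transitivity isomorphism `(X_{k'})_{k''} ≅ X_{k''}` -/
noncomputable def bcBcIso :
    letI : (Curv2.bc k X k').Over (Spec (CommRingCat.of k')) := ⟨Curv2.bcSnd k X k'⟩
    Curv2.bc k' (Curv2.bc k X k') k'' ≅ Curv2.bc k X k'' :=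
  (isPullback_bc_bc k X k' k'').isoPullback

theorem bcBcIso_hom_fst :
    letI : (Curv2.bc k X k').Over (Spec (CommRingCat.of k')) := ⟨Curv2.bcSnd k X k'⟩
    (bcBcIso k X k' k'').hom ≫ Curv2.bcFst k X k'' =
      Curv2.bcFst k' (Curv2.bc k X k') k'' ≫ Curv2.bcFst k X k' :=
  (isPullback_bc_bc k X k' k'').isoPullback_hom_fst

theorem bcBcIso_hom_snd :
    letI : (Curv2.bc k X k').Over (Spec (CommRingCat.of k')) := ⟨Curv2.bcSnd k X k'⟩
    (bcBcIso k X k' k'').hom ≫ Curv2.bcSnd k X k'' =
      Curv2.bcSnd k' (Curv2.bc k X k') k'' :=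
  (isPullback_bc_bc k X k' k'').isoPullback_hom_snd

/-- the projection `X_{k''} → X_{k'}` for a tower `k ⊆ k' ⊆ k''` -/
noncomputable def bcTower : Curv2.bc k X k'' ⟶ Curv2.bc k X k' :=
  letI : (Curv2.bc k X k').Over (Spec (CommRingCat.of k')) := ⟨Curv2.bcSnd k X k'⟩
  (bcBcIso k X k' k'').inv ≫ Curv2.bcFst k' (Curv2.bc k X k') k''

theorem bcTower_surjective : Function.Surjective (bcTower k X k' k'') := by
  letI : (Curv2.bc k X k').Over (Spec (CommRingCat.of k')) := ⟨Curv2.bcSnd k X k'⟩
  unfold bcTower
  rw [Scheme.Hom.comp_base, TopCat.coe_comp]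
  refine Function.Surjective.comp ?_ (bcBcIso k X k' k'').inv.surjective
  haveI : Surjective (Spec.map (CommRingCat.ofHom (algebraMap k' k''))) := by
    rw [surjective_iff]
    intro y
    exact ⟨IsLocalRing.closedPoint k'', Subsingleton.elim _ _⟩
  exact (Curv2.bcFst k' (Curv2.bc k X k') k'').surjective

theorem bcTower_fst : bcTower k X k' k'' ≫ Curv2.bcFst k X k' = Curv2.bcFst k X k'' := by
  letI : (Curv2.bc k X k').Over (Spec (CommRingCat.of k')) := ⟨Curv2.bcSnd k X k'⟩
  unfold bcTower
  rw [Category.assoc, ← bcBcIso_hom_fst, Iso.inv_hom_id_assoc]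

end Trans

section Main

variable (k : Type u) [Field k] (X : Scheme.{u}) [X.Over (Spec (CommRingCat.of k))]

theorem irreducibleSpace_of_surjective {A B : Type*} [TopologicalSpace A] [TopologicalSpace B]
    {f : A → B} (hfc : Continuous f) (hf : Function.Surjective f) [IrreducibleSpace A] :
    IrreducibleSpace B :=
  { hf.preirreducibleSpace hfc with
    toNonempty := (inferInstance : Nonempty A).map f }

theorem connectedSpace_of_surjective {A B : Type*} [TopologicalSpace A] [TopologicalSpace B]
    {f : A → B} (hfc : Continuous f) (hf : Function.Surjective f) [ConnectedSpace A] :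
    ConnectedSpace B := by
  rw [connectedSpace_iff_univ, ← hf.range_eq, ← Set.image_univ]
  exact isConnected_univ.image f hfc.continuousOn

/-- `F` separably closed with `X_F` irreducible, `Ω` a common extension of `F` and `K`:
`X_K` is irreducible -/
theorem irreducibleSpace_bc_of_common (F : Type u) [Field F] [Algebra k F] [IsSepClosed F]
    [IrreducibleSpace (Curv2.bc k X F)]
    (K : Type u) [Field K] [Algebra k K] (Ω : Type u) [Field Ω] [Algebra k Ω] [Algebra F Ω]
    [Algebra K Ω] [IsScalarTower k F Ω] [IsScalarTower k K Ω] :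
    IrreducibleSpace (Curv2.bc k X K) := by
  letI : (Curv2.bc k X F).Over (Spec (CommRingCat.of F)) := ⟨Curv2.bcSnd k X F⟩
  haveI := geometricallyIrreducible_bcFst F (Curv2.bc k X F) Ω
  haveI : IrreducibleSpace (Curv2.bc F (Curv2.bc k X F) Ω) :=
    GeometricallyIrreducible.irreducibleSpace (Curv2.bcFst F (Curv2.bc k X F) Ω)
      (isOpenMap_bcFst F (Curv2.bc k X F) Ω)
  haveI : IrreducibleSpace (Curv2.bc k X Ω) :=
    irreducibleSpace_of_surjective (bcBcIso k X F Ω).hom.continuous
      (bcBcIso k X F Ω).hom.surjective
  exact irreducibleSpace_of_surjective (bcTower k X K Ω).continuous (bcTower_surjective k X K Ω)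

/-- `F` separably closed with `X_F` connected, `Ω` a common extension of `F` and `K`:
`X_K` is connected -/
theorem connectedSpace_bc_of_common (F : Type u) [Field F] [Algebra k F] [IsSepClosed F]
    [ConnectedSpace (Curv2.bc k X F)]
    (K : Type u) [Field K] [Algebra k K] (Ω : Type u) [Field Ω] [Algebra k Ω] [Algebra F Ω]
    [Algebra K Ω] [IsScalarTower k F Ω] [IsScalarTower k K Ω] :
    ConnectedSpace (Curv2.bc k X K) := by
  letI : (Curv2.bc k X F).Over (Spec (CommRingCat.of F)) := ⟨Curv2.bcSnd k X F⟩
  haveI := geometricallyIrreducible_bcFst F (Curv2.bc k X F) Ω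
  haveI := geometricallyConnected_of_geometricallyIrreducible
    (Curv2.bcFst F (Curv2.bc k X F) Ω)
  haveI : ConnectedSpace (Curv2.bc F (Curv2.bc k X F) Ω) :=
    GeometricallyConnected.connectedSpace (Curv2.bcFst F (Curv2.bc k X F) Ω)
      (isOpenMap_bcFst F (Curv2.bc k X F) Ω)
  haveI : ConnectedSpace (Curv2.bc k X Ω) :=
    connectedSpace_of_surjective (bcBcIso k X F Ω).hom.continuous
      (bcBcIso k X F Ω).hom.surjective
  exact connectedSpace_of_surjective (bcTower k X K Ω).continuous (bcTower_surjective k X K Ω)

/-- common extension of the separable closure and any `K` -/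
theorem exists_common (K : Type u) [Field K] [Algebra k K] :
    ∃ (Ω : Type u) (_ : Field Ω) (_ : Algebra k Ω) (_ : Algebra (SeparableClosure k) Ω)
      (_ : Algebra K Ω), IsScalarTower k (SeparableClosure k) Ω ∧ IsScalarTower k K Ω := by
  let Ω := AlgebraicClosure K
  let φ : SeparableClosure k →ₐ[k] Ω := IsAlgClosed.lift
  letI : Algebra (SeparableClosure k) Ω := φ.toRingHom.toAlgebra
  refine ⟨Ω, inferInstance, inferInstance, inferInstance, inferInstance, ?_, inferInstance⟩
  exact IsScalarTower.of_algebraMap_eq fun x => (φ.commutes x).symm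

theorem geometricallyIrreducible_of_sepClosure
    [IrreducibleSpace (Curv2.bc k X (SeparableClosure k))] :
    GeometricallyIrreducible (X ↘ (Spec (CommRingCat.of k))) := by
  rw [geometricallyIrreducible_iff, geometrically_iff_of_commRing_of_isClosedUnderIsomorphisms]
  intro K _ _
  obtain ⟨Ω, _, _, _, _, _, _⟩ := exists_common k K
  exact irreducibleSpace_bc_of_common k X (SeparableClosure k) K Ω

theorem geometricallyConnected_of_sepClosure
    [ConnectedSpace (Curv2.bc k X (SeparableClosure k))] :
    GeometricallyConnected (X ↘ (Spec (CommRingCat.of k))) := by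
  rw [geometricallyConnected_iff, geometrically_iff_of_commRing_of_isClosedUnderIsomorphisms]
  intro K _ _
  obtain ⟨Ω, _, _, _, _, _, _⟩ := exists_common k K
  exact connectedSpace_bc_of_common k X (SeparableClosure k) K Ω

end Main

end Groth.Agent.Lib.Helper6.SepCl
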