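import Mathlib
import Groth.Prelude.Def_FDesc
import Groth.Agent.Lib.Helper10GeomConn2
import Groth.Agent.Lib.Helper14GeomIrrB
import Groth.Agent.Lib.Helper6SepCl

/-!
# Geometric connectedness: primary residue field (helper10)
-/

open CategoryTheory Limits AlgebraicGeometry TensorProduct

universe u

namespace Groth.Agent.Lib.Helper10.GeomConn2

/-- A field extension `K/k` in which `k` is separably closed is geometrically irreducible. -/
theorem geometricallyIrreducible_specMap_of_separableClosure_eq_bot (k K : Type u) [Field k]
    [Field K] [Algebra k K] (h : separableClosure k K = ⊥) :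
    GeometricallyIrreducible (Spec.map (CommRingCat.ofHom (algebraMap k K))) := by
  rw [geometricallyIrreducible_iff, geometrically_iff_of_commRing_of_isClosedUnderIsomorphisms]
  intro L _ _
  have hmem : ∀ α : K, IsSeparable k α → α ∈ Set.range (algebraMap k K) := by
    intro α hα
    have h1 : α ∈ separableClosure k K := mem_separableClosure_iff.mpr hα
    rw [h] at h1
    exact IntermediateField.mem_bot.mp h1
  haveI : IrreducibleSpace (Spec (CommRingCat.of (K ⊗[k] L))) := by
    change IrreducibleSpace (PrimeSpectrum (K ⊗[k] L))
    rw [PrimeSpectrum.irreducibleSpace_iff_isPrime_nilradical]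
    have h2 := Groth.Agent.Lib.Helper14.GeomIrr.geomIrr_of_forall_isSeparable_mem hmem L
    exact Groth.Agent.Lib.Helper14.GeomIrr.isPrime_nilradical_of_ringEquiv
      (Algebra.TensorProduct.comm k K L).toRingEquiv h2
  exact (pullbackSpecIso k K L).hom.homeomorph.irreducibleSpace_iff.mpr inferInstance

theorem main4619 {k : Type u} [Field k] {X : Scheme.{u}}
    [ConnectedSpace X] (f : X ⟶ Spec (CommRingCat.of k)) (x : X)
    (hx : FBase.ResidueFieldProp f x (fun K _ _ => separableClosure k K = ⊥)) :
    GeometricallyConnected f := by
  obtain ⟨φ, hφ, hP⟩ := hx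
  letI := φ.toAlgebra
  have h1 := geometricallyIrreducible_specMap_of_separableClosure_eq_bot k (X.residueField x) hP
  have h2 : algebraMap k (X.residueField x) = φ := rfl
  rw [h2, hφ] at h1
  haveI := Groth.Agent.Lib.Helper6.SepCl.geometricallyConnected_of_geometricallyIrreducible
    (X.fromSpecResidueField x ≫ f)
  exact geometricallyConnected_of_map (X.fromSpecResidueField x) f

end Groth.Agent.Lib.Helper10.GeomConn2
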