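import Mathlib
import Groth.Prelude.Def_FDesc
import Groth.Agent.Lib.Helper10GeomConn3

/-!
# Geometric connectedness of connected components (helper10)
-/

open CategoryTheory Limits AlgebraicGeometry TensorProduct

universe u

namespace Groth.Agent.Lib.Helper10.GeomConn2

/-- Topological core: `p : A → B` open and closed, `B` connected, `m : W → A` continuous from a
connected space whose image contains a whole fibre of `p`. Then `A` is connected. -/
theorem connectedSpace_of_fibre_subset_range {A B W : Type*} [TopologicalSpace A]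
    [TopologicalSpace B] [TopologicalSpace W] [ConnectedSpace B] [ConnectedSpace W]
    (p : A → B) (hpo : IsOpenMap p) (hpc : IsClosedMap p) (m : W → A) (hm : Continuous m)
    (w0 : W) (hfib : p ⁻¹' {p (m w0)} ⊆ Set.range m) : ConnectedSpace A := by
  have hne : Nonempty A := ⟨m w0⟩
  have hpre : PreconnectedSpace A := by
    rw [preconnectedSpace_iff_clopen]
    intro S hS
    have h1 : IsClopen (p '' S) := ⟨hpc _ hS.1, hpo _ hS.2⟩
    have h2 : IsClopen (p '' Sᶜ) := ⟨hpc _ hS.compl.1, hpo _ hS.compl.2⟩
    rcases isClopen_iff.mp h1 with h1 | h1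
    · left; simpa using h1
    rcases isClopen_iff.mp h2 with h2 | h2
    · right
      have : Sᶜ = ∅ := by simpa using h2
      simpa [Set.compl_empty_iff] using this
    exfalso
    have hconn : _root_.IsPreconnected (Set.range m) := isPreconnected_range hm
    have key : ∀ T : Set A, IsClopen T → p '' Tᶜ = Set.univ → ¬ Set.range m ⊆ T := by
      intro T hT hTc hsub
      obtain ⟨b, hb, hpb⟩ : p (m w0) ∈ p '' Tᶜ := hTc ▸ Set.mem_univ _
      exact hb (hsub (hfib hpb))
    rcases hconn.subset_or_subset hS.2 hS.compl.2 (disjoint_compl_right) (by simp) with hs | hs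
    · exact key S hS h2 hs
    · exact key Sᶜ hS.compl (by simpa using h1) hs
  exact { toPreconnectedSpace := hpre, toNonempty := hne }

/-- Subset version. -/
theorem isConnected_preimage_of_fibre_subset_range {A B W : Type*} [TopologicalSpace A]
    [TopologicalSpace B] [TopologicalSpace W] [ConnectedSpace W]
    (p : A → B) (hpo : IsOpenMap p) (hpc : IsClosedMap p) (m : W → A) (hm : Continuous m)
    (D : Set B) (hD : _root_.IsConnected D) (hmD : ∀ w, p (m w) ∈ D)
    (w0 : W) (hfib : p ⁻¹' {p (m w0)} ⊆ Set.range m) : _root_.IsConnected (p ⁻¹' D) := by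
  haveI : ConnectedSpace D := isConnected_iff_connectedSpace.mp hD
  let m' : W → p ⁻¹' D := fun w => ⟨m w, hmD w⟩
  have hm' : Continuous m' := hm.subtype_mk _
  have := connectedSpace_of_fibre_subset_range (D.restrictPreimage p)
    (hpo.restrictPreimage D) (hpc.restrictPreimage D) m' hm' w0 (by
      rintro ⟨a, ha⟩ ha'
      have h1 : p a = p (m w0) := congrArg Subtype.val ha'
      obtain ⟨w, hw⟩ := hfib h1
      exact ⟨w, Subtype.ext hw⟩)
  exact isConnected_iff_connectedSpace.mpr this

/-- Scheme version. -/
theorem isConnected_preimage_of_isPullback {W' W Z' Z : Scheme.{u}} {m : W' ⟶ Z'} {q : W' ⟶ W}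
    {p : Z' ⟶ Z} {h : W ⟶ Z} (sq : IsPullback m q p h) (hpo : IsOpenMap p) (hpc : IsClosedMap p)
    (D : Set Z) (hD : _root_.IsConnected D) (hWD : Set.range h ⊆ D) [ConnectedSpace W'] :
    _root_.IsConnected (p ⁻¹' D) := by
  obtain ⟨w'⟩ : Nonempty W' := inferInstance
  have hw : ∀ w : W', p (m w) = h (q w) := by
    intro w
    rw [← Scheme.Hom.comp_apply, ← Scheme.Hom.comp_apply, sq.w]
  refine isConnected_preimage_of_fibre_subset_range p hpo hpc m m.continuous D hD ?_ w' ?_
  · intro w
    rw [hw]
    exact hWD ⟨_, rfl⟩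
  · intro b hb
    have hb' : p b = h (q w') := by rw [← hw]; exact hb
    obtain ⟨c, hc1, hc2⟩ := Scheme.exists_preimage_of_isPullback sq b (q w') hb'
    exact ⟨c, hc1⟩

/-- Algebraic step, subset version. -/
theorem isConnected_preimage_of_algebraic {F K : Type u} [Field F] [Field K] [Algebra F K]
    [Algebra.IsAlgebraic F K]
    {Z W : Scheme.{u}} (fZ : Z ⟶ Spec (.of F)) (h : W ⟶ Z)
    [GeometricallyConnected (h ≫ fZ)] (D : Set Z) (hD : _root_.IsConnected D)
    (hWD : Set.range h ⊆ D) :
    _root_.IsConnected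
      ((pullback.fst fZ (Spec.map (CommRingCat.ofHom (algebraMap F K)))) ⁻¹' D) := by
  set gK : Spec (.of K) ⟶ Spec (.of F) := Spec.map (CommRingCat.ofHom (algebraMap F K)) with hgK
  set p := pullback.fst fZ gK with hp
  have hint : IsIntegralHom gK := by
    rw [hgK, IsIntegralHom.SpecMap_iff]
    have : Algebra.IsIntegral F K := inferInstance
    exact algebraMap_isIntegral_iff.mpr this
  have hpc : IsClosedMap p := p.isClosedMap
  have hpo : IsOpenMap p := p.isOpenMap
  haveI : ConnectedSpace ↥(pullback (h ≫ fZ) gK) := by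
    have h1 := GeometricallyConnected.geometrically_connectedSpace (f := h ≫ fZ)
    exact pullback_of_geometrically h1 K gK
  have e := pullbackRightPullbackFstIso fZ gK h
  haveI : ConnectedSpace ↥(pullback h p) :=
    e.hom.homeomorph.connectedSpace_iff.mpr inferInstance
  exact isConnected_preimage_of_isPullback (IsPullback.of_hasPullback h p).flip hpo hpc D hD hWD

theorem isConnected_preimage_connectedComponent {k K : Type u} [Field k] [Field K] [Algebra k K]
    {X Y : Scheme.{u}} (f : X ⟶ Spec (CommRingCat.of k)) (h : Y ⟶ X)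
    [GeometricallyConnected (h ≫ f)] (y : Y) :
    _root_.IsConnected
      ((pullback.fst f (Spec.map (CommRingCat.ofHom (algebraMap k K)))) ⁻¹'
        connectedComponent (h y)) := by
  obtain ⟨ι, b, hb⟩ : ∃ (ι : Type u) (b : ι → K), IsTranscendenceBasis k b :=
    exists_isTranscendenceBasis' k K
  haveI : Algebra.IsAlgebraic (IntermediateField.adjoin k (Set.range b)) K := hb.isAlgebraic_field
  have hF := Groth.Agent.Lib.Helper12.GeomConn.geometricallyConnected_of_algEquiv_fractionRing_mvPolynomial
    k ι (IntermediateField.adjoin k (Set.range b)) hb.1.aevalEquivField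
  set F := IntermediateField.adjoin k (Set.range b) with hFdef
  set gF : Spec (.of F) ⟶ Spec (.of k) := Spec.map (CommRingCat.ofHom (algebraMap k F)) with hgF
  set gKF : Spec (.of K) ⟶ Spec (.of F) := Spec.map (CommRingCat.ofHom (algebraMap F K)) with hgKF
  have hcomp : Spec.map (CommRingCat.ofHom (algebraMap k K)) = gKF ≫ gF := by
    rw [hgF, hgKF, ← Spec.map_comp, ← CommRingCat.ofHom_comp, ← IsScalarTower.algebraMap_eq]
  haveI : ConnectedSpace Y := GeometricallyConnected.connectedSpace_of_subsingleton (f := h ≫ f)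
  set C := connectedComponent (h y) with hC
  have hYC : Set.range h ⊆ C :=
    (isPreconnected_range h.continuous).subset_connectedComponent ⟨y, rfl⟩
  have hCconn : _root_.IsConnected C := isConnected_connectedComponent
  have hCcl : IsClosed C := isClosed_connectedComponent
  have hD : _root_.IsConnected ((pullback.fst f gF) ⁻¹' C) :=
    (pullback.fst f gF).isConnected_preimage (pullback.fst f gF).isOpenMap hCconn hCcl
  let hmap : pullback (h ≫ f) gF ⟶ pullback f gF :=
    pullback.map (h ≫ f) gF f gF h (𝟙 _) (𝟙 _) (by simp) (by simp)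
  have hh : hmap ≫ pullback.snd f gF = pullback.snd (h ≫ f) gF := by
    rw [pullback.lift_snd]; simp
  have hh1 : hmap ≫ pullback.fst f gF = pullback.fst (h ≫ f) gF ≫ h := by
    rw [pullback.lift_fst]
  haveI : GeometricallyConnected (hmap ≫ pullback.snd f gF) := by
    rw [hh]; infer_instance
  have hrange : Set.range hmap ⊆ (pullback.fst f gF) ⁻¹' C := by
    rintro _ ⟨w, rfl⟩
    show (pullback.fst f gF) (hmap w) ∈ C
    rw [← Scheme.Hom.comp_apply, hh1, Scheme.Hom.comp_apply]
    exact hYC ⟨_, rfl⟩
  have h1 := isConnected_preimage_of_algebraic (K := K) (pullback.snd f gF) hmap _ hD hrange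
  rw [hcomp]
  let e := pullbackLeftPullbackSndIso f gF gKF
  have he : pullback.fst f (gKF ≫ gF) ⁻¹' C =
      e.inv ⁻¹' (pullback.fst (pullback.snd f gF) gKF ⁻¹' (pullback.fst f gF ⁻¹' C)) := by
    ext z
    simp only [Set.mem_preimage]
    have hfst : e.inv ≫ pullback.fst (pullback.snd f gF) gKF ≫ pullback.fst f gF =
        pullback.fst f (gKF ≫ gF) := pullbackLeftPullbackSndIso_inv_fst f gF gKF
    rw [← Scheme.Hom.comp_apply, ← Scheme.Hom.comp_apply, hfst]
  rw [he]
  have := h1.image e.hom e.hom.continuous.continuousOn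
  convert this using 1
  ext z
  simp only [Set.mem_preimage, Set.mem_image]
  constructor
  · intro hz
    refine ⟨e.inv z, hz, ?_⟩
    rw [← Scheme.Hom.comp_apply]; simp
  · rintro ⟨w, hw, rfl⟩
    rw [← Scheme.Hom.comp_apply]; simpa using hw

end Groth.Agent.Lib.Helper10.GeomConn2
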