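import Mathlib
import Groth.Prelude.Def_FDesc
import Groth.Agent.Lib.Helper10GeomConn4

/-!
# Geometric connectedness of connected components, subset version (helper10)
-/

open CategoryTheory Limits AlgebraicGeometry TensorProduct

universe u

namespace Groth.Agent.Lib.Helper10.GeomConn2

/-- Let `C` be a closed connected subset of a `k`-scheme `X` and `Y ⊆ C` a subset whose preimage
in `X_K` is connected. Then the preimage of `C` in `X_K` is connected. -/
theorem isConnected_preimage_of_subset {k K : Type u} [Field k] [Field K] [Algebra k K]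
    {X : Scheme.{u}} (f : X ⟶ Spec (CommRingCat.of k)) (C : Set X) (hCconn : _root_.IsConnected C)
    (hCcl : IsClosed C) (Y : Set X) (hYC : Y ⊆ C)
    (hE : _root_.IsConnected
      ((pullback.fst f (Spec.map (CommRingCat.ofHom (algebraMap k K)))) ⁻¹' Y)) :
    _root_.IsConnected
      ((pullback.fst f (Spec.map (CommRingCat.ofHom (algebraMap k K)))) ⁻¹' C) := by
  obtain ⟨ι, b, hb⟩ : ∃ (ι : Type u) (b : ι → K), IsTranscendenceBasis k b :=
    exists_isTranscendenceBasis' k K
  haveI : Algebra.IsAlgebraic (IntermediateField.adjoin k (Set.range b)) K := hb.isAlgebraic_field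
  have hF := Groth.Agent.Lib.Helper12.GeomConn.geometricallyConnected_of_algEquiv_fractionRing_mvPolynomial
    k ι (IntermediateField.adjoin k (Set.range b)) hb.1.aevalEquivField
  set F := IntermediateField.adjoin k (Set.range b) with hFdef
  set gF : Spec (.of F) ⟶ Spec (.of k) := Spec.map (CommRingCat.ofHom (algebraMap k F)) with hgF
  set gKF : Spec (.of K) ⟶ Spec (.of F) := Spec.map (CommRingCat.ofHom (algebraMap F K)) with hgKF
  have hcomp : Spec.map (CommRingCat.ofHom (algebraMap k K)) = gKF ≫ gF := by
    rw [hgF, hgKF, ← Spec.map_comp, ← CommRingCat.ofHom_comp, ← IsScalarTower.algebraMap_eq]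
  rw [hcomp] at hE ⊢
  have hD : _root_.IsConnected ((pullback.fst f gF) ⁻¹' C) :=
    (pullback.fst f gF).isConnected_preimage (pullback.fst f gF).isOpenMap hCconn hCcl
  have hint : IsIntegralHom gKF := by
    rw [hgKF, IsIntegralHom.SpecMap_iff]
    have : Algebra.IsIntegral F K := inferInstance
    exact algebraMap_isIntegral_iff.mpr this
  set p := pullback.fst (pullback.snd f gF) gKF with hp
  have hpc : IsClosedMap p := p.isClosedMap
  have hpo : IsOpenMap p := p.isOpenMap
  let e := pullbackLeftPullbackSndIso f gF gKF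
  have hfst : e.inv ≫ p ≫ pullback.fst f gF =
      pullback.fst f (gKF ≫ gF) := pullbackLeftPullbackSndIso_inv_fst f gF gKF
  have hfst' : e.hom ≫ pullback.fst f (gKF ≫ gF) = p ≫ pullback.fst f gF :=
    pullbackLeftPullbackSndIso_hom_fst f gF gKF
  have hfstpt : ∀ z, (pullback.fst f gF) (p (e.inv z)) = (pullback.fst f (gKF ≫ gF)) z := by
    intro z
    rw [← Scheme.Hom.comp_apply, ← Scheme.Hom.comp_apply, hfst]
  have hfstpt' : ∀ z, (pullback.fst f (gKF ≫ gF)) (e.hom z) = (pullback.fst f gF) (p z) := by
    intro z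
    rw [← Scheme.Hom.comp_apply, hfst', Scheme.Hom.comp_apply]
  set E := (pullback.fst f (gKF ≫ gF)) ⁻¹' Y with hEdef
  haveI : ConnectedSpace E := isConnected_iff_connectedSpace.mp hE
  let m : E → ↥(pullback (pullback.snd f gF) gKF) := fun w => e.inv w.1
  have hm : Continuous m := e.inv.continuous.comp continuous_subtype_val
  obtain ⟨w0⟩ : Nonempty E := inferInstance
  have h1 : _root_.IsConnected (p ⁻¹' ((pullback.fst f gF) ⁻¹' C)) := by
    refine isConnected_preimage_of_fibre_subset_range p hpo hpc m hm _ hD ?_ w0 ?_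
    · intro w
      show (pullback.fst f gF) (p (e.inv w.1)) ∈ C
      rw [hfstpt]
      exact hYC w.2
    · intro b hb
      have hb' : p b = p (e.inv w0.1) := hb
      have hbE : e.hom b ∈ E := by
        show (pullback.fst f (gKF ≫ gF)) (e.hom b) ∈ Y
        rw [hfstpt', hb', hfstpt]
        exact w0.2
      refine ⟨⟨e.hom b, hbE⟩, ?_⟩
      show e.inv (e.hom b) = b
      rw [← Scheme.Hom.comp_apply]; simp
  have he : pullback.fst f (gKF ≫ gF) ⁻¹' C =
      e.inv ⁻¹' (p ⁻¹' (pullback.fst f gF ⁻¹' C)) := by
    ext z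
    simp only [Set.mem_preimage]
    rw [hfstpt]
  rw [he]
  have := h1.image e.hom e.hom.continuous.continuousOn
  convert this using 1
  ext z
  simp only [Set.mem_preimage, Set.mem_image]
  constructor
  · intro hz
    refine ⟨e.inv z, hz, ?_⟩
    rw [← Scheme.Hom.comp_apply]; simp
  · rintro ⟨w, hw, rfl⟩
    rw [← Scheme.Hom.comp_apply]; simpa using hw

theorem main4620 {k K : Type u} [Field k] [Field K] [Algebra k K]
    {X : Scheme.{u}} (f : X ⟶ Spec (CommRingCat.of k)) (Y : Set ↥X)
    (hY : Y ∈ irreducibleComponents ↥X)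
    (hgi : ∀ (L : Type u) [Field L] [Algebra k L], IsIrreducible (⇑(FBase.bcπ f L) ⁻¹' Y))
    (y : X) (hy : y ∈ Y) :
    _root_.IsConnected (⇑(FBase.bcπ f K) ⁻¹' connectedComponent y) := by
  have hYirr : IsIrreducible Y := hY.1
  have hYC : Y ⊆ connectedComponent y :=
    hYirr.isConnected.isPreconnected.subset_connectedComponent hy
  exact isConnected_preimage_of_subset f _ isConnected_connectedComponent
    isClosed_connectedComponent Y hYC (hgi K).isConnected

end Groth.Agent.Lib.Helper10.GeomConn2
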