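import Mathlib
import Groth.Agent.Lib.Helper7CIPres

/-!
# `dim B - μ(I)` is independent of the regular presentation `A = B/I` (helper10)

Built on helper7's `CIPres` (reduction to minimal presentations and comparison of two minimal
presentations through Koszul-trivial relations).
-/

set_option autoImplicit false
set_option linter.style.haveILetI false
universe u

namespace Groth.Agent.Lib.Helper10.GeomDepth

open IsLocalRing Groth.Agent.Lib.Helper7.CIPres

section Span

variable {R M : Type*} [CommRing R] [AddCommGroup M] [Module R M]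

lemma spanFinrank_le_of_fin {n : ℕ} (v : Fin n → M) (p : Submodule R M)
    (hv : Submodule.span R (Set.range v) = p) : p.spanFinrank ≤ n := by
  rw [← hv]
  refine (Submodule.spanFinrank_span_le_ncard_of_finite (Set.finite_range v)).trans ?_
  rw [← Set.image_univ]
  refine (Set.ncard_image_le Set.finite_univ).trans ?_
  rw [Set.ncard_univ, Nat.card_eq_fintype_card, Fintype.card_fin]

lemma exists_fin_of_fg (p : Submodule R M) (hp : p.FG) :
    ∃ v : Fin p.spanFinrank → M, Submodule.span R (Set.range v) = p := by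
  obtain ⟨s, hs, hsp⟩ := Submodule.FG.exists_span_finset_card_eq_spanFinrank hp
  refine ⟨fun i => ((s.equivFinOfCardEq hs).symm i : M), ?_⟩
  refine Eq.trans ?_ hsp
  congr 1
  ext m
  constructor
  · rintro ⟨i, rfl⟩
    exact ((s.equivFinOfCardEq hs).symm i).2
  · intro hm
    exact ⟨s.equivFinOfCardEq hs ⟨m, hm⟩, by simp⟩

end Span

section Quot

variable {R : Type u} [CommRing R] [IsRegularLocalRing R]

/-- generators of `I` give one generator less for `I/(x)` when `x ∈ I ∖ m²` -/
lemma exists_gen_quot (I : Ideal R) (hI : I ≠ ⊤) {x : R} (hxI : x ∈ I)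
    (hx2 : x ∉ maximalIdeal R ^ 2) {n : ℕ} (v : Fin n → R) (hv : Ideal.span (Set.range v) = I) :
    ∃ (k : ℕ) (u : Fin k → R ⧸ Ideal.span {x}), k + 1 = n ∧
      Ideal.span (Set.range u) = I.map (Ideal.Quotient.mk (Ideal.span {x})) := by
  have hIm : I ≤ maximalIdeal R := IsLocalRing.le_maximalIdeal hI
  have hxv : x ∈ Ideal.span (Set.range v) := by rw [hv]; exact hxI
  obtain ⟨c, hc⟩ := (Ideal.mem_span_range_iff_exists_fun).mp hxv
  have hex : ∃ j, IsUnit (c j) := by
    by_contra hno
    push Not at hno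
    apply hx2
    rw [← hc, pow_two]
    refine Ideal.sum_mem _ (fun i _ => Ideal.mul_mem_mul ?_ ?_)
    · exact (mem_maximalIdeal _).mpr (hno i)
    · exact hIm (hv ▸ Ideal.subset_span ⟨i, rfl⟩)
  obtain ⟨j₀, hj₀⟩ := hex
  obtain ⟨k, rfl⟩ : ∃ k, n = k + 1 := by
    cases n with
    | zero => exact j₀.elim0
    | succ k => exact ⟨k, rfl⟩
  refine ⟨k, fun i => Ideal.Quotient.mk (Ideal.span {x}) (v (j₀.succAbove i)), rfl, ?_⟩
  apply le_antisymm
  · rw [Ideal.span_le]
    rintro _ ⟨i, rfl⟩
    exact Ideal.mem_map_of_mem _ (hv ▸ Ideal.subset_span ⟨_, rfl⟩)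
  · rw [← hv, Ideal.map_span, Ideal.span_le]
    rintro _ ⟨_, ⟨j, rfl⟩, rfl⟩
    by_cases hj : j = j₀
    · subst hj
      obtain ⟨cinv, hcinv⟩ := hj₀.exists_left_inv
      have h1 : Ideal.Quotient.mk (Ideal.span {x}) (v j) =
          - ∑ i, Ideal.Quotient.mk (Ideal.span {x}) (cinv * c (j.succAbove i)) *
            Ideal.Quotient.mk (Ideal.span {x}) (v (j.succAbove i)) := by
        have h2 : ∑ i, c i * v i = c j * v j + ∑ i, c (j.succAbove i) * v (j.succAbove i) :=
          Fin.sum_univ_succAbove _ j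
        have h3 : Ideal.Quotient.mk (Ideal.span {x}) x = 0 :=
          Ideal.Quotient.eq_zero_iff_mem.mpr (Ideal.subset_span rfl)
        have h4 : v j = cinv * x - ∑ i, (cinv * c (j.succAbove i)) * v (j.succAbove i) := by
          have : cinv * x = cinv * (c j * v j) +
              ∑ i, (cinv * c (j.succAbove i)) * v (j.succAbove i) := by
            rw [← hc, h2, mul_add, Finset.mul_sum]
            congr 1
            apply Finset.sum_congr rfl; intro i _; ring
          rw [this, ← mul_assoc, hcinv, one_mul]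
          ring
        rw [h4, map_sub, map_mul, h3, mul_zero, zero_sub, map_sum]
        simp only [map_mul]
      rw [h1]
      refine neg_mem (Ideal.sum_mem _ (fun i _ => Ideal.mul_mem_left _ _ ?_))
      exact Ideal.subset_span ⟨i, rfl⟩
    · obtain ⟨i, rfl⟩ := Fin.exists_succAbove_eq hj
      exact Ideal.subset_span ⟨i, rfl⟩

omit [IsRegularLocalRing R] in
/-- generators of `I/(x)` give one generator more for `I` -/
lemma exists_gen_lift (I : Ideal R) {x : R} (hxI : x ∈ I) {n : ℕ}
    (v' : Fin n → R ⧸ Ideal.span {x})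
    (hv' : Ideal.span (Set.range v') = I.map (Ideal.Quotient.mk (Ideal.span {x}))) :
    ∃ v : Fin (n + 1) → R, Ideal.span (Set.range v) = I := by
  have hle : Ideal.span {x} ≤ I := (Ideal.span_singleton_le_iff_mem I).mpr hxI
  have hcomap : (I.map (Ideal.Quotient.mk (Ideal.span {x}))).comap
      (Ideal.Quotient.mk (Ideal.span {x})) = I := by
    rw [Ideal.comap_map_of_surjective _ Ideal.Quotient.mk_surjective,
      ← RingHom.ker_eq_comap_bot, Ideal.mk_ker]
    exact sup_eq_left.mpr hle
  choose v hv using fun i => Ideal.Quotient.mk_surjective (v' i)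
  refine ⟨Fin.cons x v, ?_⟩
  apply le_antisymm
  · rw [Ideal.span_le]
    rintro _ ⟨i, rfl⟩
    refine Fin.cases ?_ (fun i => ?_) i
    · simpa using hxI
    · simp only [Fin.cons_succ]
      rw [← hcomap, SetLike.mem_coe, Ideal.mem_comap, hv i, ← hv']
      exact Ideal.subset_span ⟨i, rfl⟩
  · intro z hz
    have h1 : Ideal.Quotient.mk (Ideal.span {x}) z ∈
        Ideal.span (Set.range v') := by
      rw [hv']; exact Ideal.mem_map_of_mem _ hz
    obtain ⟨c', hc'⟩ := (Ideal.mem_span_range_iff_exists_fun).mp h1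
    choose c hc using fun i => Ideal.Quotient.mk_surjective (c' i)
    have h2 : z - ∑ i, c i * v i ∈ Ideal.span {x} := by
      rw [← Ideal.Quotient.eq_zero_iff_mem, map_sub, map_sum, ← hc']
      simp only [map_mul, hc, hv, sub_self]
    obtain ⟨b, hb⟩ := Ideal.mem_span_singleton'.mp h2
    have h3 : z = b * x + ∑ i, c i * v i := by rw [hb]; ring
    rw [h3]
    refine add_mem (Ideal.mul_mem_left _ _ (Ideal.subset_span ⟨0, by simp⟩))
      (Ideal.sum_mem _ (fun i _ => Ideal.mul_mem_left _ _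
        (Ideal.subset_span ⟨i.succ, by simp⟩)))

/-- `μ(I/(x)) + 1 = μ(I)` for `x ∈ I ∖ m²` -/
theorem spanFinrank_map_mk_add_one (I : Ideal R) (hI : I ≠ ⊤) {x : R} (hxI : x ∈ I)
    (hx2 : x ∉ maximalIdeal R ^ 2) :
    (I.map (Ideal.Quotient.mk (Ideal.span {x}))).spanFinrank + 1 = I.spanFinrank := by
  haveI : IsNoetherianRing R := inferInstance
  have hIfg : I.FG := IsNoetherian.noetherian I
  have hI'fg : (I.map (Ideal.Quotient.mk (Ideal.span {x}))).FG := hIfg.map _
  apply le_antisymm
  · obtain ⟨v, hv⟩ := exists_fin_of_fg I hIfg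
    obtain ⟨k, u, hk, hu⟩ := exists_gen_quot I hI hxI hx2 v hv
    have := spanFinrank_le_of_fin u _ hu
    omega
  · obtain ⟨v', hv'⟩ := exists_fin_of_fg _ hI'fg
    obtain ⟨v, hv⟩ := exists_gen_lift I hxI v' hv'
    exact spanFinrank_le_of_fin v _ hv

end Quot

section Independence

variable {A : Type u} [CommRing A] [IsLocalRing A]

/-- every regular presentation can be reduced to a minimal one, preserving `dim - μ` -/
theorem exists_minimal' : ∀ (d : ℕ) (R : Type u) [CommRing R] [IsRegularLocalRing R] (f : R →+* A),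
    Function.Surjective f → ringKrullDim R = d →
    ∃ (R' : Type u) (_ : CommRing R') (_ : IsRegularLocalRing R') (f' : R' →+* A) (d' : ℕ),
      Function.Surjective f' ∧ RingHom.ker f' ≤ maximalIdeal R' ^ 2 ∧ ringKrullDim R' = d' ∧
        (d : ℤ) - ((RingHom.ker f).spanFinrank : ℤ) =
          (d' : ℤ) - ((RingHom.ker f').spanFinrank : ℤ) := by
  intro d
  induction d with
  | zero =>
    intro R _ _ f hf hd
    by_cases h : RingHom.ker f ≤ maximalIdeal R ^ 2
    · exact ⟨R, inferInstance, inferInstance, f, 0, hf, h, hd, rfl⟩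
    · exfalso
      obtain ⟨x, hxk, hx2⟩ := SetLike.not_le_iff_exists.mp h
      have hne : RingHom.ker f ≠ ⊤ := RingHom.ker_ne_top f
      have hxm : x ∈ maximalIdeal R := IsLocalRing.le_maximalIdeal hne hxk
      haveI : IsLocalRing (R ⧸ Ideal.span {x}) :=
        Groth.Agent.Lib.Helper5.isLocalRing_quotient (fun h' => hne (top_le_iff.mp
          (h' ▸ (Ideal.span_singleton_le_iff_mem _).mpr hxk)))
      obtain ⟨hreg, hdim⟩ := dim_quot_singleton hxm hx2
      obtain ⟨d', hd'⟩ := Groth.Agent.Lib.Helper19.exists_nat_ringKrullDim (R ⧸ Ideal.span {x})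
      rw [hd, hd'] at hdim
      have : d' + 1 = 0 := by exact_mod_cast hdim
      omega
  | succ k ih =>
    intro R _ _ f hf hd
    by_cases h : RingHom.ker f ≤ maximalIdeal R ^ 2
    · exact ⟨R, inferInstance, inferInstance, f, k + 1, hf, h, hd, rfl⟩
    · obtain ⟨x, hxk, hx2⟩ := SetLike.not_le_iff_exists.mp h
      have hne : RingHom.ker f ≠ ⊤ := RingHom.ker_ne_top f
      have hxm : x ∈ maximalIdeal R := IsLocalRing.le_maximalIdeal hne hxk
      have hle : Ideal.span {x} ≤ RingHom.ker f := (Ideal.span_singleton_le_iff_mem _).mpr hxk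
      haveI : IsLocalRing (R ⧸ Ideal.span {x}) :=
        Groth.Agent.Lib.Helper5.isLocalRing_quotient (fun h' => hne (top_le_iff.mp (h' ▸ hle)))
      obtain ⟨hreg, hdim⟩ := dim_quot_singleton hxm hx2
      obtain ⟨d', hd'⟩ := Groth.Agent.Lib.Helper19.exists_nat_ringKrullDim (R ⧸ Ideal.span {x})
      have hdk : ringKrullDim (R ⧸ Ideal.span {x}) = k := by
        rw [hd, hd'] at hdim
        have : d' + 1 = k + 1 := by exact_mod_cast hdim
        rw [hd']
        have : d' = k := by omega
        exact_mod_cast this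
      have hsurj : Function.Surjective (Ideal.Quotient.lift (Ideal.span {x}) f hle) :=
        Ideal.Quotient.lift_surjective_of_surjective _ _ hf
      obtain ⟨R', i1, i2, f', d'', hf', hmin, hd'', hiff⟩ :=
        ih (R ⧸ Ideal.span {x}) (Ideal.Quotient.lift (Ideal.span {x}) f hle) hsurj hdk
      refine ⟨R', i1, i2, f', d'', hf', hmin, hd'', ?_⟩
      rw [← hiff, Ideal.ker_quotient_lift f hle]
      have h1 := spanFinrank_map_mk_add_one (RingHom.ker f) hne hxk hx2
      push_cast
      omega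

/-- two minimal regular presentations have the same `dim` and `μ` -/
theorem eq_of_minimal {R₁ R₂ : Type u} [CommRing R₁] [CommRing R₂] [IsRegularLocalRing R₁]
    [IsRegularLocalRing R₂] (f₁ : R₁ →+* A) (hf₁ : Function.Surjective f₁) (f₂ : R₂ →+* A)
    (hf₂ : Function.Surjective f₂) (h₁ : RingHom.ker f₁ ≤ maximalIdeal R₁ ^ 2)
    (h₂ : RingHom.ker f₂ ≤ maximalIdeal R₂ ^ 2) :
    ringKrullDim R₁ = ringKrullDim R₂ ∧
      (RingHom.ker f₁).spanFinrank = (RingHom.ker f₂).spanFinrank := by
  obtain ⟨hd12, hg12⟩ := exists_generators_of_minimal f₁ hf₁ f₂ hf₂ h₂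
  obtain ⟨hd21, hg21⟩ := exists_generators_of_minimal f₂ hf₂ f₁ hf₁ h₁
  refine ⟨le_antisymm hd21 hd12, le_antisymm ?_ ?_⟩
  · obtain ⟨v, hv⟩ := exists_fin_of_fg (RingHom.ker f₂) (IsNoetherian.noetherian _)
    obtain ⟨u, hu⟩ := hg21 _ v hv
    exact spanFinrank_le_of_fin u _ hu
  · obtain ⟨v, hv⟩ := exists_fin_of_fg (RingHom.ker f₁) (IsNoetherian.noetherian _)
    obtain ⟨u, hu⟩ := hg12 _ v hv
    exact spanFinrank_le_of_fin u _ hu

/-- **Independence of the presentation** for `dim B - μ(I)`. -/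
theorem main {B B' : Type u} [CommRing B] [CommRing B'] [IsRegularLocalRing B]
    [IsRegularLocalRing B'] (f : B →+* A) (hf : Function.Surjective f) (f' : B' →+* A)
    (hf' : Function.Surjective f') (d d' : ℕ) (hd : ringKrullDim B = d)
    (hd' : ringKrullDim B' = d') :
    (d : ℤ) - ((RingHom.ker f).spanFinrank : ℤ) =
      (d' : ℤ) - ((RingHom.ker f').spanFinrank : ℤ) := by
  obtain ⟨R₁, i1, i2, f₁, d₁, hf₁, hmin₁, hd₁, hiff₁⟩ := exists_minimal' d B f hf hd
  obtain ⟨R₂, j1, j2, f₂, d₂, hf₂, hmin₂, hd₂, hiff₂⟩ := exists_minimal' d' B' f' hf' hd'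
  obtain ⟨hdim, hμ⟩ := eq_of_minimal f₁ hf₁ f₂ hf₂ hmin₁ hmin₂
  rw [hiff₁, hiff₂, hμ]
  rw [hd₁, hd₂] at hdim
  have : d₁ = d₂ := by exact_mod_cast hdim
  rw [this]

end Independence

end Groth.Agent.Lib.Helper10.GeomDepth
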