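import Groth.Agent.Lib.Helper4AlgClosFin
import Mathlib.AlgebraicGeometry.Normalization
import Mathlib.AlgebraicGeometry.Morphisms.Finite
import Mathlib.AlgebraicGeometry.Morphisms.FiniteType
import Mathlib.AlgebraicGeometry.Morphisms.QuasiCompact

/-!
# Finiteness of relative normalization over Nagata bases (helper4)

* `finite_integralClosure_sections`: `f : X ⟶ S` of finite type, quasi-compact, `X` reduced, `U ⊆ S` affine
  with Nagata coordinate ring: the integral closure of `Γ(S,U)` in `Γ(X, f⁻¹U)` is a finite module.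
* `isFinite_fromNormalization_of_finite`: criterion for `f.fromNormalization` to be finite.
-/

set_option autoImplicit false
set_option linter.style.haveILetI false
set_option linter.unusedSectionVars false
universe u

open CategoryTheory AlgebraicGeometry TopologicalSpace Opposite
open Groth CAlg

namespace Groth.Agent.Lib.Helper4.NormFinite

set_option backward.isDefEq.respectTransparency false in
/-- For `f : X ⟶ S` of finite type and quasi-compact with `X` reduced and `U ⊆ S` an affine open
with Nagata coordinate ring, the integral closure of `Γ(S, U)` in `Γ(X, f⁻¹U)` is a finite module. -/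
theorem finite_integralClosure_sections {X S : Scheme.{u}} (f : X ⟶ S) [LocallyOfFiniteType f]
    [QuasiCompact f] [IsReduced X] (U : S.Opens) (hU : IsAffineOpen U)
    (hA : IsNagata Γ(S, U)) :
    letI := (f.app U).hom.toAlgebra
    Module.Finite Γ(S, U) (integralClosure Γ(S, U) Γ(X, f ⁻¹ᵁ U)) := by
  letI := (f.app U).hom.toAlgebra
  haveI : IsNoetherianRing Γ(S, U) := hA.1
  have hc : IsCompact (f ⁻¹ᵁ U : Set X) := f.isCompact_preimage hU.isCompact
  obtain ⟨s, hs, hcov⟩ := isCompact_iff_finite_and_eq_biUnion_affineOpens.mp hc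
  haveI : Finite s := hs.to_subtype
  have hle : ∀ V : s, (V.1 : X.Opens) ≤ f ⁻¹ᵁ U := by
    intro V
    rw [hcov]
    exact le_iSup₂ (f := fun (i : X.affineOpens) (_ : i ∈ s) => (i : X.Opens)) V.1 V.2
  letI alg : ∀ V : s, Algebra Γ(S, U) Γ(X, (V.1 : X.Opens)) := fun V =>
    (f.appLE U V.1 (hle V)).hom.toAlgebra
  haveI : ∀ V : s, Algebra.FiniteType Γ(S, U) Γ(X, (V.1 : X.Opens)) := fun V =>
    HasRingHomProperty.appLE (P := @LocallyOfFiniteType) f inferInstance ⟨U, hU⟩ V.1 (hle V)
  haveI : ∀ V : s, Module.Finite Γ(S, U) (integralClosure Γ(S, U) Γ(X, (V.1 : X.Opens))) :=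
    fun V => AlgClosFin.finite_integralClosure_of_isNagata Γ(S, U) hA Γ(X, (V.1 : X.Opens))
  let ρ : ∀ V : s, Γ(X, f ⁻¹ᵁ U) →ₐ[Γ(S, U)] Γ(X, (V.1 : X.Opens)) := fun V =>
    { (X.presheaf.map (homOfLE (hle V)).op).hom with
      commutes' := fun a => rfl }
  let g : integralClosure Γ(S, U) Γ(X, f ⁻¹ᵁ U) →ₗ[Γ(S, U)]
      (∀ V : s, integralClosure Γ(S, U) Γ(X, (V.1 : X.Opens))) :=
    LinearMap.pi (fun V => (AlgHom.mapIntegralClosure (ρ V)).toLinearMap)
  have hg : Function.Injective g := by
    rw [injective_iff_map_eq_zero]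
    intro a ha
    apply Subtype.ext
    refine X.sheaf.eq_of_locally_eq' (fun V : s => (V.1 : X.Opens)) (f ⁻¹ᵁ U)
      (fun V => homOfLE (hle V)) ?_ _ _ ?_
    · rw [hcov]
      refine iSup₂_le fun i hi => ?_
      exact le_iSup (fun V : s => (V.1 : X.Opens)) ⟨i, hi⟩
    · intro V
      have h1 := congrFun ha V
      have h2 : ρ V (a : Γ(X, f ⁻¹ᵁ U)) = 0 :=
        congrArg (fun z : integralClosure Γ(S, U) Γ(X, (V.1 : X.Opens)) => (z : Γ(X, (V.1 : X.Opens)))) h1
      rw [Subalgebra.coe_zero, map_zero]
      exact h2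
  haveI : IsNoetherian Γ(S, U) (∀ V : s, integralClosure Γ(S, U) Γ(X, (V.1 : X.Opens))) :=
    isNoetherian_of_isNoetherianRing_of_finite _ _
  exact Module.Finite.of_injective g hg


/-- The relative normalization is finite as soon as the integral closures over affine opens are
finite modules. -/
theorem isFinite_fromNormalization_of_finite {X S : Scheme.{u}} (f : X ⟶ S) [QuasiCompact f]
    [QuasiSeparated f]
    (h : ∀ (U : S.Opens) (_ : IsAffineOpen U),
      letI := (f.app U).hom.toAlgebra
      Module.Finite Γ(S, U) (integralClosure Γ(S, U) Γ(X, f ⁻¹ᵁ U))) :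
    IsFinite f.fromNormalization := by
  rw [isFinite_iff]
  refine ⟨inferInstance, fun U hU => ?_⟩
  letI := (f.app U).hom.toAlgebra
  rw [f.fromNormalization_app hU, CommRingCat.hom_comp]
  refine RingHom.Finite.comp ?_ ?_
  · exact RingHom.Finite.of_surjective _
      (f.normalizationObjIso hU).symm.commRingCatIsoToRingEquiv.surjective
  · rw [CommRingCat.hom_ofHom, RingHom.finite_algebraMap]
    exact h U hU


end Groth.Agent.Lib.Helper4.NormFinite
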