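/-
Helper library (helper4): finiteness of the relative normalization over a Nagata base when the source is
reduced with locally finitely many irreducible components whose generic points have residue fields
essentially of finite type over the base.
-/
import Groth.Agent.Lib.Helper4NormFinite
import Groth.Agent.Lib.Helper4TotalFrac

set_option autoImplicit false
set_option linter.style.haveILetI false
set_option linter.unusedSectionVars false
universe u

open CategoryTheory CategoryTheory.Limits AlgebraicGeometry
open Groth CAlg Groth.Agent.Lib.Helper14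

namespace Groth.Agent.Lib.Helper4.NormNagata

open Groth.Agent.Lib.Helper4.TotalFrac

/-- If a Nagata ring `A` maps to `B` and `B` embeds in a finite product of fields essentially of
finite type over `A`, then the integral closure of `A` in `B` is finite. -/
theorem finite_integralClosure_of_injective_pi (A : Type u) [CommRing A] (hA : IsNagata A)
    (B : Type*) [CommRing B] [Algebra A B] {ι : Type*} [Finite ι] (K : ι → Type u)
    [∀ i, Field (K i)] [∀ i, Algebra A (K i)] [∀ i, Algebra.EssFiniteType A (K i)]
    (φ : ∀ i, B →ₐ[A] K i) (hφ : ∀ b : B, (∀ i, φ i b = 0) → b = 0) :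
    Module.Finite A (integralClosure A B) := by
  haveI : IsNoetherianRing A := hA.1
  let Φ : B →ₐ[A] (∀ i, K i) := AlgHom.pi φ
  have hΦ : Function.Injective Φ := (injective_iff_map_eq_zero Φ).mpr
    (fun b hb => hφ b (fun i => congrFun hb i))
  let Ψ : integralClosure A B →ₐ[A] integralClosure A (∀ i, K i) := Φ.mapIntegralClosure
  have hΨ : Function.Injective Ψ := by
    intro x y hxy
    apply Subtype.ext
    apply hΦ
    exact congrArg Subtype.val hxy
  haveI : ∀ i, Module.Finite A (integralClosure A (K i)) :=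
    fun i => finite_integralClosure_field A hA (K i)
  haveI : Module.Finite A (integralClosure A (∀ i, K i)) :=
    Module.Finite.equiv (integralClosurePiEquiv A K).symm.toLinearEquiv
  exact Module.Finite.of_injective Ψ.toLinearMap hΨ

/-- On a reduced scheme with locally finite irreducible components, a section over a quasi-compact
open is detected on finitely many generic points. -/
theorem exists_finite_genericPoints (X : Scheme.{u}) [IsReduced X]
    (hfin : LocallyFinite (fun Z : ↥(irreducibleComponents ↥X) => (Z : Set ↥X))) (V : X.Opens)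
    (hV : IsCompact (V : Set X)) :
    ∃ T : Set X, T.Finite ∧ (∀ x ∈ T, x ∈ V) ∧
      (∀ x ∈ T, closure {x} ∈ irreducibleComponents X) ∧
      ∀ s : Γ(X, V), (∀ x (_ : x ∈ T) (hxV : x ∈ V), X.evaluation V x hxV s = 0) → s = 0 := by
  have hI := hfin.finite_nonempty_inter_compact hV
  have hirr : ∀ Z : ↥(irreducibleComponents ↥X), IsIrreducible (Z : Set X) := fun Z => Z.2.1
  have hcl : ∀ Z : ↥(irreducibleComponents ↥X), IsClosed (Z : Set X) :=
    fun Z => isClosed_of_mem_irreducibleComponents _ Z.2
  let η : ↥(irreducibleComponents ↥X) → X := fun Z => (hirr Z).genericPoint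
  have hη : ∀ Z, IsGenericPoint (η Z) (Z : Set X) := fun Z => (hirr Z).isGenericPoint_genericPoint (hcl Z)
  refine ⟨η '' {Z | ((Z : Set X) ∩ (V : Set X)).Nonempty}, hI.image η, ?_, ?_, ?_⟩
  · rintro _ ⟨Z, hZ, rfl⟩
    exact ((hη Z).mem_open_set_iff V.isOpen).mpr hZ
  · rintro _ ⟨Z, hZ, rfl⟩
    rw [(hη Z).def]
    exact Z.2
  · intro s hs
    rw [← basicOpen_eq_bot_iff]
    by_contra hne
    obtain ⟨y, hy⟩ : ∃ y, y ∈ X.basicOpen s := by
      by_contra hno
      apply hne
      ext y
      simp only [TopologicalSpace.Opens.coe_bot, Set.mem_empty_iff_false, iff_false]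
      exact fun hy => hno ⟨y, hy⟩
    have hyV : y ∈ V := X.basicOpen_le s hy
    let Z : ↥(irreducibleComponents ↥X) :=
      ⟨irreducibleComponent y, irreducibleComponent_mem_irreducibleComponents y⟩
    have hyZ : y ∈ (Z : Set X) := mem_irreducibleComponent
    have hZV : ((Z : Set X) ∩ (V : Set X)).Nonempty := ⟨y, hyZ, hyV⟩
    have hηV : η Z ∈ V := ((hη Z).mem_open_set_iff V.isOpen).mpr hZV
    have hηs : η Z ∈ X.basicOpen s :=
      ((hη Z).mem_open_set_iff (X.basicOpen s).isOpen).mpr ⟨y, hyZ, hy⟩
    have h0 := hs (η Z) ⟨Z, hZV, rfl⟩ hηV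
    rw [Scheme.evaluation_eq_zero_iff_notMem_basicOpen] at h0
    exact h0 hηs

/-- Evaluation at a point of an affine open is essentially of finite type. -/
theorem essFiniteType_evaluation {S : Scheme.{u}} (U : S.Opens) (hU : IsAffineOpen U) (y : S)
    (hy : y ∈ U) : (S.evaluation U y hy).hom.EssFiniteType := by
  rw [← Scheme.germ_residue, CommRingCat.hom_comp]
  refine RingHom.EssFiniteType.comp ?_ ?_
  · letI := TopCat.Presheaf.algebra_section_stalk S.presheaf ⟨y, hy⟩
    haveI := hU.isLocalization_stalk ⟨y, hy⟩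
    have : Algebra.EssFiniteType Γ(S, U) (S.presheaf.stalk y) :=
      Algebra.EssFiniteType.of_isLocalization _ (hU.primeIdealOf ⟨y, hy⟩).asIdeal.primeCompl
    exact RingHom.essFiniteType_algebraMap.mpr this
  · exact (RingHom.FiniteType.of_surjective _ (S.residue_surjective y)).essFiniteType

theorem essFiniteType_app_evaluation {X S : Scheme.{u}} (f : X ⟶ S) (U : S.Opens)
    (hU : IsAffineOpen U) (x : X) (hx : f x ∈ U)
    (h : (f.residueFieldMap x).hom.EssFiniteType) :
    (f.app U ≫ X.evaluation (f ⁻¹ᵁ U) x hx).hom.EssFiniteType := by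
  rw [← Scheme.evaluation_naturality, CommRingCat.hom_comp]
  exact RingHom.EssFiniteType.comp (essFiniteType_evaluation U hU (f x) hx) h

/-- Finiteness of the integral closure on sections over an affine open with Nagata coordinate ring. -/
theorem finite_integralClosure_sections_of_nagata {X S : Scheme.{u}} (f : X ⟶ S)
    [QuasiCompact f] [IsReduced X]
    (hfin : LocallyFinite (fun Z : ↥(irreducibleComponents ↥X) => (Z : Set ↥X)))
    (hres : ∀ x : X, closure {x} ∈ irreducibleComponents ↥X →
      (f.residueFieldMap x).hom.EssFiniteType)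
    (U : S.Opens) (hU : IsAffineOpen U) (hA : IsNagata Γ(S, U)) :
    letI := (f.app U).hom.toAlgebra
    Module.Finite Γ(S, U) (integralClosure Γ(S, U) Γ(X, f ⁻¹ᵁ U)) := by
  letI := (f.app U).hom.toAlgebra
  have hV : IsCompact ((f ⁻¹ᵁ U : X.Opens) : Set X) :=
    QuasiCompact.isCompact_preimage (f := f) _ U.isOpen hU.isCompact
  obtain ⟨T, hTfin, hTV, hTirr, hT0⟩ := exists_finite_genericPoints X hfin (f ⁻¹ᵁ U) hV
  haveI : Finite T := hTfin.to_subtype
  letI : ∀ t : T, Algebra Γ(S, U) (X.residueField t.1) := fun t =>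
    (f.app U ≫ X.evaluation (f ⁻¹ᵁ U) t.1 (hTV t.1 t.2)).hom.toAlgebra
  haveI : ∀ t : T, Algebra.EssFiniteType Γ(S, U) (X.residueField t.1) := fun t =>
    essFiniteType_app_evaluation f U hU t.1 (hTV t.1 t.2) (hres t.1 (hTirr t.1 t.2))
  let φ : ∀ t : T, Γ(X, f ⁻¹ᵁ U) →ₐ[Γ(S, U)] X.residueField t.1 := fun t =>
    { (X.evaluation (f ⁻¹ᵁ U) t.1 (hTV t.1 t.2)).hom with
      commutes' := fun a => rfl }
  refine finite_integralClosure_of_injective_pi Γ(S, U) hA Γ(X, f ⁻¹ᵁ U)
    (fun t : T => X.residueField t.1) φ (fun b hb => hT0 b (fun x hx hxV => hb ⟨x, hx⟩))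

end Groth.Agent.Lib.Helper4.NormNagata
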