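import Groth.Agent.Lib.Helper14Japanese
import Mathlib.RingTheory.Ideal.AssociatedPrime.Finiteness
import Mathlib.RingTheory.Ideal.MinimalPrime.Colon
import Mathlib.RingTheory.Spectrum.Prime.Topology
import Mathlib.RingTheory.Spectrum.Prime.Noetherian
import Mathlib.RingTheory.Localization.Integral
import Mathlib.RingTheory.IntegralClosure.IntegrallyClosed
import Mathlib.Tactic.LinearCombination

/-!
# The normal locus of a Noetherian domain and the N-1 criterion (helper4)

For a Noetherian domain `R` with fraction field `K`: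
* `isIntegrallyClosed_localization_iff`: `M⁻¹R` is integrally closed iff every element of `K` integral
  over `R` has a denominator in `M`;
* `den R x` the denominator ideal; `den_mem_associatedPrimes`: prime denominator ideals containing a
  power of `f` are associated primes of `R / f`; `isClosed_setOf_den_le`;
* `isOpen_normalLocus`: if `R_f` is integrally closed the normal locus is open (Stacks 0332);
* `exists_isIntegrallyClosed_away`, `exists_uniform_pow`, `finite_integralClosure_of_bounded_den`,
  `finite_integralClosure_of_local_bounds`: the N-1 criterion (Stacks 0333).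
-/

set_option autoImplicit false
set_option linter.style.haveILetI false
set_option linter.unusedSectionVars false
universe u

open Groth CAlg Groth.Agent.Lib.Helper14

namespace Groth.Agent.Lib.Helper4.NormalLocus

variable {R : Type*} [CommRing R] [IsDomain R] {K : Type*} [Field K] [Algebra R K]
  [IsFractionRing R K]

/-- A localization `S = M⁻¹R` of a domain is integrally closed iff every element of the fraction
field integral over `R` has a denominator in `M`. -/
theorem isIntegrallyClosed_localization_iff (M : Submonoid R) (S : Type*) [CommRing S] [IsDomain S]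
    [Algebra R S] [IsLocalization M S] :
    IsIntegrallyClosed S ↔
      ∀ x : K, IsIntegral R x → ∃ m ∈ M, ∃ a : R, m • x = algebraMap R K a := by
  have h0 : (0 : R) ∉ M := not_zero_mem_of_isLocalization_of_nontrivial M S
  have hM : M ≤ nonZeroDivisors R := le_nonZeroDivisors_of_noZeroDivisors h0
  letI : Algebra S K := (IsLocalization.lift (M := M) (S := S) (g := algebraMap R K)
    (fun y => IsLocalization.map_units K (⟨y, hM y.2⟩ : nonZeroDivisors R))).toAlgebra
  haveI : IsScalarTower R S K := IsScalarTower.of_algebraMap_eq fun r =>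
    (IsLocalization.lift_eq _ r).symm
  haveI : IsFractionRing S K := IsFractionRing.isFractionRing_of_isDomain_of_isLocalization M S K
  constructor
  · intro hS x hx
    have hx' : IsIntegral S x := hx.tower_top
    obtain ⟨y, hy⟩ := (IsIntegrallyClosed.isIntegral_iff (R := S) (K := K)).mp hx'
    obtain ⟨a, m, rfl⟩ := IsLocalization.exists_mk'_eq M y
    refine ⟨m, m.2, a, ?_⟩
    rw [← hy, Algebra.smul_def, IsScalarTower.algebraMap_apply R S K, ← map_mul, mul_comm,
      IsLocalization.mk'_spec, ← IsScalarTower.algebraMap_apply]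
  · intro h
    rw [isIntegrallyClosed_iff K]
    intro y hy
    obtain ⟨m, hm⟩ := IsIntegral.exists_multiple_integral_of_isLocalization M y hy
    obtain ⟨m', hm', a, ha⟩ := h _ hm
    refine ⟨IsLocalization.mk' S a (⟨m', hm'⟩ * m), ?_⟩
    have hne : algebraMap R K ((⟨m', hm'⟩ * m : M) : R) ≠ 0 := by
      have : ((⟨m', hm'⟩ * m : M) : R) ∈ nonZeroDivisors R := hM (⟨m', hm'⟩ * m : M).2
      exact IsFractionRing.to_map_ne_zero_of_mem_nonZeroDivisors this
    apply mul_right_cancel₀ hne
    rw [IsScalarTower.algebraMap_apply R S K, ← map_mul, IsLocalization.mk'_spec,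
      ← IsScalarTower.algebraMap_apply, ← ha, Submonoid.smul_def, Algebra.smul_def,
      Algebra.smul_def, Submonoid.coe_mul, map_mul, map_mul,
      ← IsScalarTower.algebraMap_apply, ← IsScalarTower.algebraMap_apply]
    ring


/-- the denominator ideal of `x ∈ K`. -/
abbrev den (R : Type*) [CommRing R] {K : Type*} [Field K] [Algebra R K] (x : K) : Ideal R :=
  (1 : Submodule R K).colon {x}

lemma mem_den {x : K} {s : R} : s ∈ den R x ↔ ∃ a : R, algebraMap R K a = s • x := by
  rw [Submodule.mem_colon_singleton, Submodule.mem_one]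

/-- A prime denominator ideal `q = den x` with `f ^ k ∈ q` is an associated prime of `R / f`. -/
theorem den_mem_associatedPrimes [IsNoetherianRing R] (f : R) (hf : f ≠ 0) (q : Ideal R)
    [hq : q.IsPrime] (x : K) (hqx : q = den R x) (k : ℕ) (hk : f ^ k ∈ q) :
    q ∈ associatedPrimes R (R ⧸ Ideal.span {f}) := by
  classical
  have hfK : algebraMap R K f ≠ 0 := by
    simpa using hf
  -- minimal `j` with `f^j r x ∈ R` for some `r ∉ q`
  have hex : ∃ j : ℕ, ∃ r : R, r ∉ q ∧ ∃ b : R, algebraMap R K b = (f ^ j * r) • x := by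
    refine ⟨k, 1, hq.one_notMem, ?_⟩
    rw [hqx, mem_den] at hk
    obtain ⟨a, ha⟩ := hk
    exact ⟨a, by rw [ha, mul_one]⟩
  have hmin : ∀ {m : ℕ}, m < Nat.find hex →
      ¬ ∃ r : R, r ∉ q ∧ ∃ b : R, algebraMap R K b = (f ^ m * r) • x := fun h => Nat.find_min hex h
  obtain ⟨r, hr, b, hb⟩ := Nat.find_spec hex
  set j₀ := Nat.find hex with hj₀
  have hj0 : j₀ ≠ 0 := by
    intro h0
    rw [h0, pow_zero, one_mul] at hb
    exact hr (by rw [hqx, mem_den]; exact ⟨b, hb⟩)
  obtain ⟨j, hj⟩ := Nat.exists_eq_succ_of_ne_zero hj0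
  rw [AssociatedPrimes.mem_iff, isAssociatedPrime_iff]
  refine ⟨hq, Ideal.Quotient.mk _ b, ?_⟩
  ext s
  rw [Submodule.mem_colon_singleton, Submodule.mem_bot]
  change s ∈ q ↔ s • Submodule.Quotient.mk b = 0
  rw [← Submodule.Quotient.mk_smul, Submodule.Quotient.mk_eq_zero, smul_eq_mul,
    Ideal.mem_span_singleton']
  constructor
  · intro hs
    rw [hqx, mem_den] at hs
    obtain ⟨c, hc⟩ := hs
    refine ⟨f ^ j * r * c, ?_⟩
    apply FaithfulSMul.algebraMap_injective R K
    rw [map_mul, map_mul (algebraMap R K) s b, hb, hj, pow_succ]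
    simp only [Algebra.smul_def, map_mul, map_pow] at hc ⊢
    linear_combination (algebraMap R K f ^ j * algebraMap R K r * algebraMap R K f) * hc
  · rintro ⟨c, hc⟩
    by_contra hs
    have hsr : s * r ∉ q := fun h => (hq.mem_or_mem h).elim hs hr
    apply hmin (m := j) (by rw [hj]; exact Nat.lt_succ_self j)
    refine ⟨s * r, hsr, c, ?_⟩
    apply mul_left_cancel₀ hfK
    have hc' := congrArg (algebraMap R K) hc
    rw [map_mul, map_mul, hb, hj, pow_succ] at hc'
    simp only [Algebra.smul_def, map_mul, map_pow] at hc' ⊢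
    linear_combination hc'


/-- The union of the closed sets `V(den y)`, `y ∈ Y ⊆ R_f`, is closed. -/
theorem isClosed_setOf_den_le [IsNoetherianRing R] (f : R) (hf : f ≠ 0) (Y : Set K)
    (hY : ∀ y ∈ Y, ∃ k : ℕ, f ^ k ∈ den R y) :
    IsClosed {p : PrimeSpectrum R | ∃ y ∈ Y, den R y ≤ p.asIdeal} := by
  have hfin : (associatedPrimes R (R ⧸ Ideal.span {f})).Finite := associatedPrimes.finite R _
  have hfin' : {q ∈ associatedPrimes R (R ⧸ Ideal.span {f}) | ∃ y ∈ Y, den R y ≤ q}.Finite :=
    hfin.subset (fun q hq => hq.1)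
  have heq : {p : PrimeSpectrum R | ∃ y ∈ Y, den R y ≤ p.asIdeal} =
      ⋃ q ∈ {q ∈ associatedPrimes R (R ⧸ Ideal.span {f}) | ∃ y ∈ Y, den R y ≤ q},
        PrimeSpectrum.zeroLocus (q : Set R) := by
    ext p
    simp only [Set.mem_ofPred_eq, Set.mem_iUnion, PrimeSpectrum.mem_zeroLocus, SetLike.coe_subset_coe,
      exists_prop]
    constructor
    · rintro ⟨y, hy, hle⟩
      obtain ⟨q, hq, hqp⟩ := Ideal.exists_minimalPrimes_le hle
      haveI : q.IsPrime := hq.1.1
      obtain ⟨x', hx'⟩ := Submodule.exists_eq_colon_of_mem_minimalPrimes hq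
      obtain ⟨k, hk⟩ := hY y hy
      exact ⟨q, ⟨den_mem_associatedPrimes f hf q x' hx' k (hq.1.2 hk), y, hy, hq.1.2⟩, hqp⟩
    · rintro ⟨q, ⟨-, y, hy, hle⟩, hqp⟩
      exact ⟨y, hy, hle.trans hqp⟩
  rw [heq]
  exact hfin'.isClosed_biUnion (fun q _ => PrimeSpectrum.isClosed_zeroLocus _)


/-- elements integral over `R` have a power of `f` as denominator when `R_f` is integrally closed. -/
lemma exists_pow_mem_den (f : R) (hf : f ≠ 0) (hn : IsIntegrallyClosed (Localization.Away f))
    (x : K) (hx : IsIntegral R x) : ∃ k : ℕ, f ^ k ∈ den R x := by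
  haveI : IsDomain (Localization.Away f) :=
    IsLocalization.isDomain_localization (powers_le_nonZeroDivisors_of_noZeroDivisors hf)
  obtain ⟨m, ⟨k, rfl⟩, a, ha⟩ :=
    (isIntegrallyClosed_localization_iff (K := K) (Submonoid.powers f) (Localization.Away f)).mp
      hn x hx
  exact ⟨k, mem_den.mpr ⟨a, ha.symm⟩⟩

/-- the localization at `p` is integrally closed iff no integral element has its denominator
ideal inside `p`. -/
lemma isIntegrallyClosed_atPrime_iff (p : Ideal R) [p.IsPrime] :
    IsIntegrallyClosed (Localization.AtPrime p) ↔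
      ¬ ∃ y ∈ {y : K | IsIntegral R y}, den R y ≤ p := by
  rw [isIntegrallyClosed_localization_iff (K := K) p.primeCompl (Localization.AtPrime p)]
  constructor
  · rintro h ⟨y, hy, hle⟩
    obtain ⟨m, hm, a, ha⟩ := h y hy
    exact hm (hle (mem_den.mpr ⟨a, ha.symm⟩))
  · intro h x hx
    by_contra hcon
    apply h
    refine ⟨x, hx, fun m hm => ?_⟩
    by_contra hmp
    obtain ⟨a, ha⟩ := mem_den.mp hm
    exact hcon ⟨m, hmp, a, ha.symm⟩

theorem isOpen_normalLocus [IsNoetherianRing R] (f : R) (hf : f ≠ 0)
    (hn : IsIntegrallyClosed (Localization.Away f)) :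
    IsOpen {p : PrimeSpectrum R | IsIntegrallyClosed (Localization.AtPrime p.asIdeal)} := by
  let K := FractionRing R
  have hcl := isClosed_setOf_den_le (K := K) f hf {y : K | IsIntegral R y}
    (fun y hy => exists_pow_mem_den f hf hn y hy)
  have : {p : PrimeSpectrum R | IsIntegrallyClosed (Localization.AtPrime p.asIdeal)} =
      {p : PrimeSpectrum R | ∃ y ∈ {y : K | IsIntegral R y}, den R y ≤ p.asIdeal}ᶜ := by
    ext p
    simp only [Set.mem_compl_iff]
    exact isIntegrallyClosed_atPrime_iff (K := K) p.asIdeal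
  rw [this]
  exact hcl.isOpen_compl


/-- If the integral closure is a finite module, some `R_f` is integrally closed. -/
theorem exists_isIntegrallyClosed_away (h : Module.Finite R (integralClosure R K)) :
    ∃ f : R, f ≠ 0 ∧ IsIntegrallyClosed (Localization.Away f) := by
  have hfg : (Subalgebra.toSubmodule (integralClosure R K)).FG := Module.Finite.iff_fg.mp h
  obtain ⟨T, hT⟩ := hfg
  obtain ⟨b, hb⟩ := IsLocalization.exist_integer_multiples_of_finset (nonZeroDivisors R) T
  have hb0 : (b : R) ≠ 0 := nonZeroDivisors.ne_zero b.2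
  refine ⟨b, hb0, ?_⟩
  haveI : IsDomain (Localization.Away (b : R)) :=
    IsLocalization.isDomain_localization (powers_le_nonZeroDivisors_of_noZeroDivisors hb0)
  rw [isIntegrallyClosed_localization_iff (K := K) (Submonoid.powers (b : R))]
  intro x hx
  refine ⟨b, Submonoid.mem_powers _, ?_⟩
  let W : Submodule R K := (1 : Submodule R K).comap (LinearMap.lsmul R K (b : R))
  have hW : Submodule.span R (T : Set K) ≤ W := by
    rw [Submodule.span_le]
    intro z hz
    obtain ⟨a, ha⟩ := hb z hz
    change (b : R) • z ∈ (1 : Submodule R K)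
    rw [Submodule.mem_one]
    exact ⟨a, ha⟩
  have hxW : x ∈ W := hW (by rw [hT]; exact hx)
  have : (b : R) • x ∈ (1 : Submodule R K) := hxW
  rw [Submodule.mem_one] at this
  obtain ⟨a, ha⟩ := this
  exact ⟨a, ha.symm⟩


/-- If the integral closure of the localization `S = M⁻¹R` in `K` is a finite `S`-module and all
elements integral over `R` have a power of `f` as denominator, then there is a uniform `n` such that
all `f ^ n • x`, `x` integral over `R`, have a denominator in `M`. -/
theorem exists_uniform_pow (M : Submonoid R) (S : Type*) [CommRing S] [IsDomain S]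
    [Algebra R S] [IsLocalization M S] [Algebra S K] [IsScalarTower R S K]
    (hfin : Module.Finite S (integralClosure S K)) (f : R)
    (hden : ∀ x : K, IsIntegral R x → ∃ k : ℕ, f ^ k ∈ den R x) :
    ∃ n : ℕ, ∀ x : K, IsIntegral R x → ∃ s ∈ M, s * f ^ n ∈ den R x := by
  classical
  have hfg : (Subalgebra.toSubmodule (integralClosure S K)).FG := Module.Finite.iff_fg.mp hfin
  obtain ⟨T, hT⟩ := hfg
  -- each generator has a power of `f` bringing it into `S`
  have h1 : ∀ z ∈ T, ∃ k : ℕ, f ^ k • z ∈ (1 : Submodule S K) := by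
    intro z hz
    have hzint : IsIntegral S z := by
      have : z ∈ Subalgebra.toSubmodule (integralClosure S K) := by
        rw [← hT]; exact Submodule.subset_span hz
      exact this
    obtain ⟨t, ht⟩ := IsIntegral.exists_multiple_integral_of_isLocalization M z hzint
    obtain ⟨k, hk⟩ := hden _ ht
    obtain ⟨a, ha⟩ := mem_den.mp hk
    refine ⟨k, ?_⟩
    rw [Submodule.mem_one]
    refine ⟨IsLocalization.mk' S a t, ?_⟩
    have hne : algebraMap S K (algebraMap R S (t : R)) ≠ 0 := by
      have hu : IsUnit (algebraMap R S (t : R)) := IsLocalization.map_units S t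
      exact (hu.map (algebraMap S K)).ne_zero
    apply mul_right_cancel₀ hne
    rw [← map_mul, IsLocalization.mk'_spec, ← IsScalarTower.algebraMap_apply, ha,
      ← IsScalarTower.algebraMap_apply, Submonoid.smul_def]
    simp only [Algebra.smul_def, map_pow]
    ring
  choose! kf hkf using h1
  let n := T.sup kf
  have h2 : ∀ z ∈ T, f ^ n • z ∈ (1 : Submodule S K) := by
    intro z hz
    have hle : kf z ≤ n := Finset.le_sup hz
    obtain ⟨d, hd⟩ := Nat.exists_eq_add_of_le hle
    rw [hd, pow_add, mul_comm, mul_smul]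
    have := (1 : Submodule S K).smul_mem (algebraMap R S (f ^ d)) (hkf z hz)
    rwa [algebraMap_smul] at this
  refine ⟨n, fun x hx => ?_⟩
  let W : Submodule S K := (1 : Submodule S K).comap
    ((LinearMap.lsmul S K (algebraMap R S (f ^ n))))
  have hW : Submodule.span S (T : Set K) ≤ W := by
    rw [Submodule.span_le]
    intro z hz
    change (algebraMap R S (f ^ n)) • z ∈ (1 : Submodule S K)
    rw [algebraMap_smul]
    exact h2 z hz
  have hxint : IsIntegral S x := hx.tower_top
  have hxW : x ∈ W := hW (by rw [hT]; exact hxint)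
  have h3 : (algebraMap R S (f ^ n)) • x ∈ (1 : Submodule S K) := hxW
  rw [algebraMap_smul, Submodule.mem_one] at h3
  obtain ⟨y, hy⟩ := h3
  obtain ⟨a, s, rfl⟩ := IsLocalization.exists_mk'_eq M y
  refine ⟨s, s.2, mem_den.mpr ⟨a, ?_⟩⟩
  rw [mul_smul, ← hy, Algebra.smul_def, IsScalarTower.algebraMap_apply R S K (s : R), ← map_mul,
    mul_comm, IsLocalization.mk'_spec, ← IsScalarTower.algebraMap_apply]


/-- If all elements integral over `R` have denominators `f ^ N`, the integral closure is finite. -/
theorem finite_integralClosure_of_bounded_den [IsNoetherianRing R] (f : R) (hf : f ≠ 0) (N : ℕ)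
    (h : ∀ x : K, IsIntegral R x → f ^ N ∈ den R x) :
    Module.Finite R (integralClosure R K) := by
  let g₀ : integralClosure R K →ₗ[R] K :=
    (LinearMap.lsmul R K (f ^ N)).comp (Subalgebra.toSubmodule (integralClosure R K)).subtype
  have hg₀ : ∀ x, g₀ x ∈ (1 : Submodule R K) := by
    intro x
    have := h x.1 x.2
    rwa [Submodule.mem_colon_singleton] at this
  let g : integralClosure R K →ₗ[R] (1 : Submodule R K) := g₀.codRestrict _ hg₀
  have hg : Function.Injective g := by
    intro x y hxy
    have h1 : g₀ x = g₀ y := congrArg Subtype.val hxy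
    have h2 : (f ^ N) • (x : K) = (f ^ N) • (y : K) := h1
    have hne : algebraMap R K (f ^ N) ≠ 0 := by
      simpa using pow_ne_zero N hf
    rw [Algebra.smul_def, Algebra.smul_def] at h2
    exact Subtype.ext (mul_left_cancel₀ hne h2)
  haveI : IsNoetherian R (1 : Submodule R K) :=
    isNoetherian_of_fg_of_noetherian _ (by rw [Submodule.one_eq_span]; exact Submodule.fg_span_singleton _)
  exact Module.Finite.of_injective g hg

/-- A Noetherian domain with `R_f` integrally closed, such that for each maximal ideal there is a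
uniform power of `f` bounding denominators locally, is N-1. -/
theorem finite_integralClosure_of_local_bounds [IsNoetherianRing R] (f : R) (hf : f ≠ 0)
    (hden : ∀ x : K, IsIntegral R x → ∃ k : ℕ, f ^ k ∈ den R x)
    (hloc : ∀ m : Ideal R, m.IsMaximal →
      ∃ n : ℕ, ∀ x : K, IsIntegral R x → ∃ s ∉ m, s * f ^ n ∈ den R x) :
    Module.Finite R (integralClosure R K) := by
  let Y : ℕ → Set K := fun n => {y | ∃ x : K, IsIntegral R x ∧ y = f ^ n • x}
  let Z : ℕ → Set (PrimeSpectrum R) := fun n => {p | ∃ y ∈ Y n, den R y ≤ p.asIdeal}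
  have hZcl : ∀ n, IsClosed (Z n) := by
    intro n
    refine isClosed_setOf_den_le f hf (Y n) ?_
    rintro y ⟨x, hx, rfl⟩
    obtain ⟨k, hk⟩ := hden x hx
    refine ⟨k, ?_⟩
    rw [Submodule.mem_colon_singleton] at hk ⊢
    rw [smul_comm]
    exact Submodule.smul_mem _ _ hk
  have hZanti : ∀ n, Z (n + 1) ⊆ Z n := by
    rintro n p ⟨y, ⟨x, hx, rfl⟩, hle⟩
    refine ⟨f ^ n • x, ⟨x, hx, rfl⟩, le_trans ?_ hle⟩
    intro s hs
    rw [Submodule.mem_colon_singleton] at hs ⊢
    rw [pow_succ, mul_smul, smul_comm (f ^ n), smul_comm s]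
    exact Submodule.smul_mem _ _ hs
  -- some `Z N` is empty
  have hempty : ∃ N, Z N = ∅ := by
    by_contra hcon
    push Not at hcon
    have hne : ∀ n, (Z n).Nonempty := fun n => hcon n
    obtain ⟨p, hp⟩ := IsCompact.nonempty_iInter_of_sequence_nonempty_isCompact_isClosed Z hZanti hne
      (hZcl 0).isCompact hZcl
    rw [Set.mem_iInter] at hp
    obtain ⟨m, hm, hpm⟩ := Ideal.exists_le_maximal p.asIdeal p.isPrime.ne_top
    obtain ⟨n, hn⟩ := hloc m hm
    obtain ⟨y, ⟨x, hx, rfl⟩, hle⟩ := hp n
    obtain ⟨s, hs, hsden⟩ := hn x hx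
    apply hs
    apply hpm
    apply hle
    rw [Submodule.mem_colon_singleton] at hsden ⊢
    rwa [mul_smul] at hsden
  obtain ⟨N, hN⟩ := hempty
  refine finite_integralClosure_of_bounded_den f hf N (fun x hx => ?_)
  -- `den (f^N x)` is contained in no prime, hence is `⊤`
  have htop : den R (f ^ N • x) = ⊤ := by
    by_contra hne
    obtain ⟨m, hm, hle⟩ := Ideal.exists_le_maximal _ hne
    have : (⟨m, hm.isPrime⟩ : PrimeSpectrum R) ∈ Z N := ⟨f ^ N • x, ⟨x, hx, rfl⟩, hle⟩
    rw [hN] at this
    exact this
  have h1 : (1 : R) ∈ den R (f ^ N • x) := by rw [htop]; trivial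
  rw [Submodule.mem_colon_singleton] at h1 ⊢
  rwa [one_smul] at h1


end Groth.Agent.Lib.Helper4.NormalLocus
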