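/-
Helper library (helper4): the normalization of an integral scheme `X` in a field extension `K` of
its function field (`g : Spec K ⟶ X` through the generic point): sections, finiteness, normality,
dimension of the local rings at closed points.
-/
import Groth.Agent.Lib.Helper4NormNagata
import Groth.Agent.Lib.Helper4Japanese3
import Groth.Agent.Lib.Helper4NormalLocus
import Groth.Prelude.Def_Pi1

set_option autoImplicit false
set_option linter.style.haveILetI false
set_option linter.unusedSectionVars false
universe u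

open CategoryTheory CategoryTheory.Limits AlgebraicGeometry
open Groth CAlg Groth.Agent.Lib.Helper14

namespace Groth.Agent.Lib.Helper4.NormCurve

/-- In an integral extension of domains, a prime lying over a height-one prime has height one. -/
theorem height_eq_one_of_isIntegral {A B : Type*} [CommRing A] [IsDomain A] [CommRing B]
    [IsDomain B] [Algebra A B] [Algebra.IsIntegral A B]
    (hinj : Function.Injective (algebraMap A B)) (P : Ideal B) [hP : P.IsPrime]
    (h : (P.comap (algebraMap A B)).height = 1) : P.height = 1 := by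
  have hP0 : P ≠ ⊥ := by
    rintro rfl
    have : (⊥ : Ideal B).comap (algebraMap A B) = ⊥ := by
      rw [← RingHom.ker_eq_comap_bot]
      exact (RingHom.injective_iff_ker_eq_bot _).mp hinj
    rw [this, Ideal.height_bot] at h
    exact zero_ne_one h
  apply le_antisymm
  · rw [show (1 : ℕ∞) = ((1 : ℕ) : ℕ∞) from rfl, Ideal.height_le_iff]
    intro q hq hqP
    have hq0 : q = ⊥ := by
      by_contra hq0
      obtain ⟨x, hxq, hx0⟩ : ∃ x ∈ q, x ≠ 0 := by
        by_contra hno
        push Not at hno
        exact hq0 (eq_bot_iff.mpr fun x hx => by simpa using hno x hx)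
      have h1 : q.comap (algebraMap A B) ≠ ⊥ :=
        Ideal.comap_ne_bot_of_integral_mem hx0 hxq (Algebra.IsIntegral.isIntegral x)
      obtain ⟨y, hyP, hyq⟩ := SetLike.exists_of_lt hqP
      have h2 : q.comap (algebraMap A B) < P.comap (algebraMap A B) :=
        Ideal.comap_lt_comap_of_integral_mem_sdiff hqP.le ⟨hyP, hyq⟩
          (Algebra.IsIntegral.isIntegral y)
      haveI : (q.comap (algebraMap A B)).IsPrime := Ideal.comap_isPrime _ _
      haveI : (P.comap (algebraMap A B)).IsPrime := Ideal.comap_isPrime _ _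
      have h3 := Ideal.height_add_one_le_of_lt_of_isPrime h2
      have h4 : (q.comap (algebraMap A B)).height ≠ 0 := by
        rw [Ne, Ideal.height_eq_zero_iff_eq_bot]
        exact h1
      rw [h] at h3
      have h5 : 1 ≤ (q.comap (algebraMap A B)).height := Order.one_le_iff_ne_zero.mpr h4
      have : (1 : ℕ∞) + 1 ≤ 1 := le_trans (add_le_add_left h5 1) h3
      exact absurd this (by decide)
    rw [hq0, Ideal.height_bot]
    exact zero_lt_one
  · rw [Order.one_le_iff_ne_zero, Ne, Ideal.height_eq_zero_iff_eq_bot]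
    exact hP0

/-- Stalks of a scheme at points of an affine open with normal coordinate ring are normal domains. -/
theorem normal_stalk_of_isAffineOpen {N : Scheme.{u}} {W : N.Opens} (hW : IsAffineOpen W)
    [IsDomain Γ(N, W)] [IsIntegrallyClosed Γ(N, W)] (x : N) (hx : x ∈ W) :
    IsDomain (N.presheaf.stalk x) ∧ IsIntegrallyClosed (N.presheaf.stalk x) := by
  letI := TopCat.Presheaf.algebra_section_stalk N.presheaf ⟨x, hx⟩
  haveI := hW.isLocalization_stalk ⟨x, hx⟩
  haveI := (hW.primeIdealOf ⟨x, hx⟩).isPrime
  exact ⟨IsLocalization.isDomain_of_atPrime (N.presheaf.stalk x) (hW.primeIdealOf ⟨x, hx⟩).asIdeal,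
    isIntegrallyClosed_of_isLocalization (N.presheaf.stalk x)
      (hW.primeIdealOf ⟨x, hx⟩).asIdeal.primeCompl
      (hW.primeIdealOf ⟨x, hx⟩).asIdeal.primeCompl_le_nonZeroDivisors⟩

/-- Coordinate rings of nonempty affine opens of an integral scheme locally of finite type over a
field are N-2. -/
theorem isN2_sections_of_locallyOfFiniteType_field (k : Type u) [Field k] (X : Scheme.{u})
    [X.Over (Spec (CommRingCat.of k))] [LocallyOfFiniteType (X ↘ (Spec (CommRingCat.of k)))]
    [IsIntegral X] (U : X.Opens) (hU : IsAffineOpen U) [hne : Nonempty U] :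
    @IsN2 Γ(X, U) _ (IsIntegral.component_integral (X := X) U) := by
  haveI : IsDomain Γ(X, U) := IsIntegral.component_integral (X := X) U
  have h1 : ((X ↘ (Spec (CommRingCat.of k))).appLE ⊤ U le_top).hom.FiniteType :=
    HasRingHomProperty.appLE (P := @LocallyOfFiniteType) _ ‹_›
      ⟨⊤, isAffineOpen_top (Spec (CommRingCat.of k))⟩ ⟨U, hU⟩ le_top
  have h2 : ((Scheme.ΓSpecIso (CommRingCat.of k)).inv ≫
      (X ↘ (Spec (CommRingCat.of k))).appLE ⊤ U le_top).hom.FiniteType := by
    rw [CommRingCat.hom_comp]
    refine RingHom.FiniteType.comp h1 (RingHom.FiniteType.of_surjective _ ?_)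
    exact (ConcreteCategory.bijective_of_isIso (Scheme.ΓSpecIso (CommRingCat.of k)).inv).surjective
  letI : Algebra k Γ(X, U) := ((Scheme.ΓSpecIso (CommRingCat.of k)).inv ≫
      (X ↘ (Spec (CommRingCat.of k))).appLE ⊤ U le_top).hom.toAlgebra
  haveI : Algebra.FiniteType k Γ(X, U) := h2
  exact Groth.Agent.Lib.Helper4.Japanese.isN2_of_finiteType_field k Γ(X, U)

variable (X : Scheme.{u}) [IsIntegral X] (K : Type u) [Field K] (φ : X.functionField →+* K)

/-- The morphism `Spec K ⟶ X` through the generic point. -/
noncomputable abbrev gen : Spec (CommRingCat.of K) ⟶ X :=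
  Spec.map (CommRingCat.ofHom φ) ≫ X.fromSpecStalk (genericPoint X)

variable {X}

theorem genericPoint_mem (U : X.Opens) [hne : Nonempty U] : genericPoint X ∈ U :=
  ((genericPoint_spec X).mem_open_set_iff U.isOpen).mpr (by simpa using hne)

theorem gen_preimage (U : X.Opens) [hne : Nonempty U] : (gen X K φ) ⁻¹ᵁ U = ⊤ := by
  rw [eq_top_iff]
  intro y _
  show (gen X K φ) y ∈ U
  have h1 : (gen X K φ) y ∈ Set.range (X.fromSpecStalk (genericPoint X)) :=
    ⟨(Spec.map (CommRingCat.ofHom φ)) y, rfl⟩
  rw [Scheme.range_fromSpecStalk] at h1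
  exact h1.mem_open U.isOpen (genericPoint_mem U)

theorem gen_appLE (U : X.Opens) [hne : Nonempty U] :
    (gen X K φ).appLE U ⊤ (by rw [gen_preimage]) =
      X.germToFunctionField U ≫ CommRingCat.ofHom φ ≫ (Scheme.ΓSpecIso (CommRingCat.of K)).inv := by
  rw [Scheme.Hom.comp_appLE, Scheme.fromSpecStalk_app (genericPoint_mem U), Category.assoc,
    Category.assoc]
  erw [Scheme.Hom.map_appLE]
  have h2 : ∀ e, (Spec.map (CommRingCat.ofHom φ)).appLE ⊤ ⊤ e =
      (Spec.map (CommRingCat.ofHom φ)).appTop := by
    intro e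
    exact (Scheme.Hom.app_eq_appLE (Spec.map (CommRingCat.ofHom φ)) (U := ⊤)).symm
  rw [h2, ← Scheme.ΓSpecIso_inv_naturality]
  rfl


/-- The identification `K ≅ Γ(Spec K, g⁻¹ U)`. -/
noncomputable def sectionsIso (U : X.Opens) [hne : Nonempty U] :
    CommRingCat.of K ≅ Γ(Spec (CommRingCat.of K), (gen X K φ) ⁻¹ᵁ U) :=
  (Scheme.ΓSpecIso (CommRingCat.of K)).symm ≪≫
    (Spec (CommRingCat.of K)).presheaf.mapIso (eqToIso (gen_preimage K φ U)).op

theorem gen_app (U : X.Opens) [hne : Nonempty U] :
    (gen X K φ).app U =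
      X.germToFunctionField U ≫ CommRingCat.ofHom φ ≫ (sectionsIso K φ U).hom := by
  have h := gen_appLE K φ U
  rw [Scheme.Hom.appLE] at h
  have h2 : (gen X K φ).app U = ((gen X K φ).app U ≫
      (Spec (CommRingCat.of K)).presheaf.map (homOfLE (by rw [gen_preimage])).op) ≫
      (Spec (CommRingCat.of K)).presheaf.map (eqToHom (gen_preimage K φ U)).op := by
    rw [Category.assoc, ← CategoryTheory.Functor.map_comp]
    have : (homOfLE (by rw [gen_preimage] : (⊤ : (Spec (CommRingCat.of K)).Opens) ≤
        (gen X K φ) ⁻¹ᵁ U)).op ≫ (eqToHom (gen_preimage K φ U)).op = 𝟙 _ := Subsingleton.elim _ _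
    rw [this, CategoryTheory.Functor.map_id, Category.comp_id]
  rw [h2, h]
  simp only [Category.assoc]
  rfl

theorem gen_app_injective (U : X.Opens) [hne : Nonempty U] :
    Function.Injective ((gen X K φ).app U).hom := by
  rw [gen_app]
  have h1 : Function.Injective (sectionsIso K φ U).hom.hom :=
    (ConcreteCategory.bijective_of_isIso (sectionsIso K φ U).hom).injective
  have h2 : Function.Injective (X.germToFunctionField U).hom := X.germToFunctionField_injective U
  intro a b hab
  simp only [CommRingCat.hom_comp, RingHom.coe_comp, Function.comp_apply] at hab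
  exact h2 (φ.injective (h1 hab))

/-- The `Γ(X, U)`-algebra isomorphism `K ≃ Γ(Spec K, g⁻¹U)`. -/
theorem exists_sectionsAlgEquiv (U : X.Opens) [hne : Nonempty U] :
    letI := (φ.comp (X.germToFunctionField U).hom).toAlgebra
    letI := ((gen X K φ).app U).hom.toAlgebra
    Nonempty (K ≃ₐ[Γ(X, U)] Γ(Spec (CommRingCat.of K), (gen X K φ) ⁻¹ᵁ U)) := by
  letI := (φ.comp (X.germToFunctionField U).hom).toAlgebra
  letI := ((gen X K φ).app U).hom.toAlgebra
  refine ⟨AlgEquiv.ofRingEquiv (f := (sectionsIso K φ U).commRingCatIsoToRingEquiv) (fun a => ?_)⟩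
  change (sectionsIso K φ U).hom (φ ((X.germToFunctionField U).hom a)) =
    ((gen X K φ).app U).hom a
  rw [gen_app]
  rfl

/-- Sections of the normalization: finite when `Γ(X, U)` is N-2 and `K` is finite over `K(X)`. -/
theorem finite_integralClosure_gen (U : X.Opens) (hU : IsAffineOpen U) [hne : Nonempty U]
    (hφ : φ.Finite)
    (hN2 : @IsN2 Γ(X, U) _ (IsIntegral.component_integral (X := X) U)) :
    letI := ((gen X K φ).app U).hom.toAlgebra
    Module.Finite Γ(X, U)
      (integralClosure Γ(X, U) Γ(Spec (CommRingCat.of K), (gen X K φ) ⁻¹ᵁ U)) := by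
  letI := ((gen X K φ).app U).hom.toAlgebra
  letI algAK : Algebra Γ(X, U) K := (φ.comp (X.germToFunctionField U).hom).toAlgebra
  letI algFK : Algebra X.functionField K := φ.toAlgebra
  haveI : IsScalarTower Γ(X, U) X.functionField K := IsScalarTower.of_algebraMap_eq (fun _ => rfl)
  haveI : FiniteDimensional X.functionField K := hφ
  haveI : IsDomain Γ(X, U) := IsIntegral.component_integral (X := X) U
  haveI := functionField_isFractionRing_of_isAffineOpen X U hU
  haveI hfin : Module.Finite Γ(X, U) (integralClosure Γ(X, U) K) :=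
    IsN2.finite hN2 X.functionField K
  obtain ⟨ψ⟩ := exists_sectionsAlgEquiv K φ U
  exact Module.Finite.equiv ψ.mapIntegralClosure.toLinearEquiv

/-- Sections of the normalization are a normal domain. -/
theorem normal_integralClosure_gen (U : X.Opens) [hne : Nonempty U] :
    letI := ((gen X K φ).app U).hom.toAlgebra
    IsDomain (integralClosure Γ(X, U) Γ(Spec (CommRingCat.of K), (gen X K φ) ⁻¹ᵁ U)) ∧
    IsIntegrallyClosed
      (integralClosure Γ(X, U) Γ(Spec (CommRingCat.of K), (gen X K φ) ⁻¹ᵁ U)) := by
  letI := ((gen X K φ).app U).hom.toAlgebra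
  letI algAK : Algebra Γ(X, U) K := (φ.comp (X.germToFunctionField U).hom).toAlgebra
  obtain ⟨ψ⟩ := exists_sectionsAlgEquiv K φ U
  haveI := Groth.Agent.Lib.Helper4.TotalFrac.isIntegrallyClosed_integralClosure_field Γ(X, U) K
  let e := ψ.mapIntegralClosure
  exact ⟨e.symm.toRingEquiv.toMulEquiv.isDomain _, IsIntegrallyClosed.of_equiv e.toRingEquiv⟩

variable [QuasiCompact (gen X K φ)] [QuasiSeparated (gen X K φ)]

/-- Sections of the normalization over the preimage of a nonempty affine open are a normal
domain. -/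
theorem normal_sections_normalization (U : X.Opens) (hU : IsAffineOpen U) [hne : Nonempty U] :
    IsDomain Γ((gen X K φ).normalization, (gen X K φ).fromNormalization ⁻¹ᵁ U) ∧
    IsIntegrallyClosed Γ((gen X K φ).normalization, (gen X K φ).fromNormalization ⁻¹ᵁ U) := by
  letI := ((gen X K φ).app U).hom.toAlgebra
  obtain ⟨h1, h2⟩ := normal_integralClosure_gen K φ U
  let e := ((gen X K φ).normalizationObjIso hU).commRingCatIsoToRingEquiv
  exact ⟨e.toMulEquiv.isDomain _, IsIntegrallyClosed.of_equiv e.symm⟩

theorem isNormalScheme_normalization : Pi1.IsNormalScheme (gen X K φ).normalization := by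
  intro x'
  obtain ⟨_, ⟨U, hU, rfl⟩, hyU, -⟩ := X.isBasis_affineOpens.exists_subset_of_mem_open
    (Set.mem_univ ((gen X K φ).fromNormalization x')) isOpen_univ
  haveI : Nonempty U := ⟨⟨_, hyU⟩⟩
  obtain ⟨h1, h2⟩ := normal_sections_normalization K φ U hU
  exact normal_stalk_of_isAffineOpen (hU.preimage (gen X K φ).fromNormalization) x' hyU

/-- The normalization in a finite extension of the function field is finite when the coordinate
rings are N-2. -/
theorem isFinite_fromNormalization_gen (hφ : φ.Finite)
    (hN2 : ∀ (U : X.Opens), IsAffineOpen U → ∀ (hne : Nonempty ↥U),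
      @IsN2 Γ(X, U) _ (@IsIntegral.component_integral X _ U hne)) :
    IsFinite (gen X K φ).fromNormalization := by
  refine Groth.Agent.Lib.Helper4.NormFinite.isFinite_fromNormalization_of_finite _ (fun U hU => ?_)
  letI := ((gen X K φ).app U).hom.toAlgebra
  by_cases hne : Nonempty U
  · exact finite_integralClosure_gen K φ U hU hφ (hN2 U hU hne)
  · have hU0 : U = ⊥ := by
      ext x
      simp only [TopologicalSpace.Opens.coe_bot, Set.mem_empty_iff_false, iff_false]
      exact fun hx => hne ⟨⟨x, hx⟩⟩
    subst hU0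
    haveI : Subsingleton (integralClosure Γ(X, (⊥ : X.Opens))
        Γ(Spec (CommRingCat.of K), (gen X K φ) ⁻¹ᵁ ⊥)) :=
      Module.subsingleton Γ(X, (⊥ : X.Opens)) _
    exact Module.Finite.of_finite

theorem fromNormalization_app_injective (U : X.Opens) (hU : IsAffineOpen U) [hne : Nonempty U] :
    Function.Injective ((gen X K φ).fromNormalization.app U).hom := by
  letI := ((gen X K φ).app U).hom.toAlgebra
  rw [Scheme.Hom.fromNormalization_app _ hU]
  have h1 : Function.Injective ((gen X K φ).normalizationObjIso hU).inv.hom :=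
    (ConcreteCategory.bijective_of_isIso ((gen X K φ).normalizationObjIso hU).inv).injective
  intro a b hab
  simp only [CommRingCat.hom_comp, RingHom.coe_comp, Function.comp_apply] at hab
  apply gen_app_injective K φ U
  exact congrArg Subtype.val (h1 hab)

theorem ringKrullDim_stalk_normalization
    (hX : ∀ x : X, IsClosed ({x} : Set X) → ringKrullDim (X.presheaf.stalk x) = 1)
    (x' : (gen X K φ).normalization) (hx' : IsClosed ({x'} : Set (gen X K φ).normalization)) :
    ringKrullDim ((gen X K φ).normalization.presheaf.stalk x') = 1 := by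
  set ν := (gen X K φ).fromNormalization with hν
  have hy : IsClosed ({ν x'} : Set X) := by
    have := ν.isClosedMap _ hx'
    rwa [Set.image_singleton] at this
  obtain ⟨_, ⟨U, hU, rfl⟩, hyU, -⟩ := X.isBasis_affineOpens.exists_subset_of_mem_open
    (Set.mem_univ (ν x')) isOpen_univ
  haveI : Nonempty U := ⟨⟨_, hyU⟩⟩
  have hW : IsAffineOpen (ν ⁻¹ᵁ U) := hU.preimage ν
  haveI : IsDomain Γ(X, U) := IsIntegral.component_integral (X := X) U
  obtain ⟨hdom, -⟩ := normal_sections_normalization K φ U hU
  letI : Algebra Γ(X, U) Γ((gen X K φ).normalization, ν ⁻¹ᵁ U) := (ν.app U).hom.toAlgebra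
  haveI : Algebra.IsIntegral Γ(X, U) Γ((gen X K φ).normalization, ν ⁻¹ᵁ U) :=
    ⟨IsIntegralHom.isIntegral_app ν U hU⟩
  have hinj : Function.Injective (algebraMap Γ(X, U) Γ((gen X K φ).normalization, ν ⁻¹ᵁ U)) :=
    fromNormalization_app_injective K φ U hU
  let p' := hW.primeIdealOf ⟨x', hyU⟩
  let p := hU.primeIdealOf ⟨ν x', hyU⟩
  have hcomap : p'.asIdeal.comap (algebraMap Γ(X, U) Γ((gen X K φ).normalization, ν ⁻¹ᵁ U)) =
      p.asIdeal := by
    have := IsAffineOpen.comap_primeIdealOf_appLE (f := ν) U hU (ν ⁻¹ᵁ U) hW le_rfl hyU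
    rw [Scheme.Hom.appLE_eq_app] at this
    exact congrArg PrimeSpectrum.asIdeal this
  -- the dimension of the stalk of `X`
  have h1 : p.asIdeal.height = 1 := by
    letI := TopCat.Presheaf.algebra_section_stalk X.presheaf ⟨ν x', hyU⟩
    haveI := hU.isLocalization_stalk ⟨ν x', hyU⟩
    have := IsLocalization.AtPrime.ringKrullDim_eq_height p.asIdeal (X.presheaf.stalk (ν x'))
    rw [hX _ hy] at this
    exact_mod_cast this.symm
  have h2 : p'.asIdeal.height = 1 := by
    apply height_eq_one_of_isIntegral hinj
    rw [hcomap, h1]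
  letI := TopCat.Presheaf.algebra_section_stalk (gen X K φ).normalization.presheaf
    (U := ν ⁻¹ᵁ U) ⟨x', hyU⟩
  haveI := hW.isLocalization_stalk ⟨x', hyU⟩
  rw [IsLocalization.AtPrime.ringKrullDim_eq_height p'.asIdeal, h2]
  rfl

section Dominant

variable {X : Scheme.{u}} [IsIntegral X] (K : Type u) [Field K] (φ : X.functionField →+* K)

instance isDominant_gen : IsDominant (gen X K φ) := by
  constructor
  have h : genericPoint X ∈ Set.range (gen X K φ) := by
    have y : Spec (CommRingCat.of K) := IsLocalRing.closedPoint K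
    refine ⟨y, ?_⟩
    have h1 : (gen X K φ) y ∈ Set.range (X.fromSpecStalk (genericPoint X)) :=
      ⟨(Spec.map (CommRingCat.ofHom φ)) y, rfl⟩
    rw [Scheme.range_fromSpecStalk] at h1
    exact (((genericPoint_spec X).specializes trivial).antisymm h1 |>.eq).symm
  rw [DenseRange, dense_iff_closure_eq, Set.eq_univ_iff_forall]
  intro x
  have h1 : x ∈ closure {genericPoint X} := by
    rw [(genericPoint_spec X).def]; trivial
  exact closure_mono (Set.singleton_subset_iff.mpr h) h1

theorem fromSpecStalk_eq_gen :
    X.fromSpecStalk (genericPoint X) = gen X X.functionField (RingHom.id _) := by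
  simp [gen]

section Transport

variable (g : Spec (CommRingCat.of K) ⟶ X) (hg : g = gen X K φ) [QuasiCompact g]
  [QuasiSeparated g]

include hg

theorem isDominant_fromNormalization_of_eq : IsDominant g.fromNormalization := by
  subst hg
  haveI : IsDominant ((gen X K φ).toNormalization ≫ (gen X K φ).fromNormalization) := by
    rw [Scheme.Hom.toNormalization_fromNormalization]
    infer_instance
  exact IsDominant.of_comp (gen X K φ).toNormalization (gen X K φ).fromNormalization

theorem surjective_fromNormalization_of_eq : Surjective g.fromNormalization := by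
  haveI := isDominant_fromNormalization_of_eq K φ g hg
  exact surjective_of_isDominant_of_isClosed_range g.fromNormalization
    g.fromNormalization.isClosedMap.isClosed_range

theorem isFinite_fromNormalization_of_eq (hφ : φ.Finite)
    (hN2 : ∀ (U : X.Opens), IsAffineOpen U → ∀ (hne : Nonempty ↥U),
      @IsN2 Γ(X, U) _ (@IsIntegral.component_integral X _ U hne)) :
    IsFinite g.fromNormalization := by
  subst hg
  exact isFinite_fromNormalization_gen K φ hφ hN2

theorem isNormalScheme_normalization_of_eq : Pi1.IsNormalScheme g.normalization := by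
  subst hg
  exact isNormalScheme_normalization K φ

end Transport

end Dominant

section Birational

variable {X : Scheme.{u}} [IsIntegral X]

/-- Over an affine open with integrally closed coordinate ring, the sections of the normalization
(in the function field itself) are the sections of `X`. -/
theorem fromNormalization_app_bijective
    [QuasiCompact (gen X X.functionField (RingHom.id _))]
    [QuasiSeparated (gen X X.functionField (RingHom.id _))]
    (V : X.Opens) (hV : IsAffineOpen V) [hne : Nonempty V]
    (hic : @IsIntegrallyClosed Γ(X, V) _) :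
    Function.Bijective ((gen X X.functionField (RingHom.id _)).fromNormalization.app V).hom := by
  refine ⟨fromNormalization_app_injective _ _ V hV, ?_⟩
  letI := ((gen X X.functionField (RingHom.id _)).app V).hom.toAlgebra
  rw [Scheme.Hom.fromNormalization_app _ hV]
  have h1 : Function.Surjective
      ((gen X X.functionField (RingHom.id _)).normalizationObjIso hV).inv.hom :=
    (ConcreteCategory.bijective_of_isIso
      ((gen X X.functionField (RingHom.id _)).normalizationObjIso hV).inv).surjective
  intro b
  obtain ⟨c, rfl⟩ := h1 b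
  -- `c` is in the integral closure; show it comes from `Γ(X, V)`
  letI algAK : Algebra Γ(X, V) X.functionField :=
    ((RingHom.id _).comp (X.germToFunctionField V).hom).toAlgebra
  obtain ⟨ψ⟩ := exists_sectionsAlgEquiv X.functionField (RingHom.id _) V
  haveI : IsDomain Γ(X, V) := IsIntegral.component_integral (X := X) V
  haveI hfr : IsFractionRing Γ(X, V) X.functionField :=
    functionField_isFractionRing_of_isAffineOpen X V hV
  have hc : IsIntegral Γ(X, V) (ψ.symm c.1) := c.2.map ψ.symm
  obtain ⟨a, ha⟩ := (IsIntegrallyClosed.isIntegral_iff (R := Γ(X, V)) (K := X.functionField)).mp hc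
  refine ⟨a, ?_⟩
  simp only [CommRingCat.hom_comp, RingHom.coe_comp, Function.comp_apply]
  congr 1
  apply Subtype.ext
  have : ψ (algebraMap Γ(X, V) X.functionField a) = c.1 := by
    rw [ha, AlgEquiv.apply_symm_apply]
  rw [← this, ψ.commutes]
  rfl


set_option backward.isDefEq.respectTransparency false in
theorem isIso_morphismRestrict_fromNormalization
    [QuasiCompact (gen X X.functionField (RingHom.id _))]
    [QuasiSeparated (gen X X.functionField (RingHom.id _))]
    (V : X.Opens) (hV : IsAffineOpen V) [hne : Nonempty V]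
    (hic : @IsIntegrallyClosed Γ(X, V) _) :
    IsIso ((gen X X.functionField (RingHom.id _)).fromNormalization ∣_ V) := by
  set ν := (gen X X.functionField (RingHom.id _)).fromNormalization with hν
  haveI : IsAffine V.toScheme := hV
  rw [← MorphismProperty.isomorphisms.iff,
    HasAffineProperty.iff_of_isAffine (P := MorphismProperty.isomorphisms Scheme)]
  refine ⟨hV.preimage ν, ?_⟩
  rw [morphismRestrict_appTop]
  have key : ∀ W : X.Opens, W = V → IsIso (ν.app W) := by
    rintro W rfl
    rw [ConcreteCategory.isIso_iff_bijective]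
    exact fromNormalization_app_bijective W hV hic
  haveI := key (V.ι ''ᵁ ⊤) V.ι_image_top
  infer_instance


theorem exists_isIso_morphismRestrict_of_eq (g : Spec (CommRingCat.of X.functionField) ⟶ X)
    (hg : g = gen X X.functionField (RingHom.id _)) [QuasiCompact g] [QuasiSeparated g]
    (hN1 : ∀ (U : X.Opens), IsAffineOpen U → ∀ (hne : Nonempty ↥U),
      @IsN1 Γ(X, U) _ (@IsIntegral.component_integral X _ U hne)) :
    ∃ V : X.Opens, (V : Set X).Nonempty ∧ IsIso (g.fromNormalization ∣_ V) := by
  subst hg
  obtain ⟨x⟩ : Nonempty X := inferInstance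
  obtain ⟨_, ⟨U, hU, rfl⟩, hxU, -⟩ := X.isBasis_affineOpens.exists_subset_of_mem_open
    (Set.mem_univ x) isOpen_univ
  haveI hneU : Nonempty U := ⟨⟨x, hxU⟩⟩
  haveI : IsDomain Γ(X, U) := IsIntegral.component_integral (X := X) U
  obtain ⟨f, hf, hic⟩ := Groth.Agent.Lib.Helper4.NormalLocus.exists_isIntegrallyClosed_away
    (K := FractionRing Γ(X, U)) (hN1 U hU hneU)
  have hVne : (X.basicOpen f : Set X).Nonempty := by
    by_contra hno
    rw [Set.not_nonempty_iff_eq_empty] at hno
    have : X.basicOpen f = ⊥ := by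
      ext y
      simp [hno]
    rw [basicOpen_eq_bot_iff] at this
    exact hf this
  haveI : Nonempty (X.basicOpen f) := ⟨⟨hVne.some, hVne.some_mem⟩⟩
  have hV : IsAffineOpen (X.basicOpen f) := hU.basicOpen f
  have hicV : IsIntegrallyClosed Γ(X, X.basicOpen f) := by
    haveI := hU.isLocalization_basicOpen f
    let e : Localization.Away f ≃ₐ[Γ(X, U)] Γ(X, X.basicOpen f) :=
      IsLocalization.algEquiv (Submonoid.powers f) _ _
    haveI := hic
    exact IsIntegrallyClosed.of_equiv e.toRingEquiv
  exact ⟨X.basicOpen f, hVne, isIso_morphismRestrict_fromNormalization _ hV hicV⟩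

end Birational

section GenericFibre

/-- The image of the fraction field of the integral closure of `A` in `K` is the algebraic closure
of `Frac A` in `K`. -/
theorem range_eq_of_isFractionRing {A F₀ K B F' : Type*} [CommRing A] [IsDomain A] [Field F₀]
    [Algebra A F₀] [IsFractionRing A F₀] [Field K] (φ : F₀ →+* K) [Algebra A K]
    (hAK : algebraMap A K = φ.comp (algebraMap A F₀))
    [CommRing B] [IsDomain B] [CommRing F'] [Algebra B F'] [IsFractionRing B F'] (σ : F' →+* K)
    (hβ : Set.range (σ.comp (algebraMap B F')) = {y : K | IsIntegral A y}) :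
    Set.range σ = {y : K | ∃ q : Polynomial F₀, q.Monic ∧ Polynomial.eval₂ φ y q = 0} := by
  letI := φ.toAlgebra
  haveI : IsScalarTower A F₀ K := IsScalarTower.of_algebraMap_eq' hAK
  have hint : ∀ y : K, (∃ q : Polynomial F₀, q.Monic ∧ Polynomial.eval₂ φ y q = 0) ↔
      IsIntegral F₀ y := fun y => Iff.rfl
  have hβ' : ∀ b : B, IsIntegral A (σ (algebraMap B F' b)) := by
    intro b
    have : σ (algebraMap B F' b) ∈ Set.range (σ.comp (algebraMap B F')) := ⟨b, rfl⟩
    rw [hβ] at this
    exact this
  ext y
  simp only [Set.mem_range, Set.mem_ofPred_eq]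
  rw [hint]
  constructor
  · rintro ⟨f, rfl⟩
    obtain ⟨b₁, b₂, rfl⟩ := IsLocalization.exists_mk'_eq (nonZeroDivisors B) f
    have h1 : σ (IsLocalization.mk' F' b₁ b₂) * σ (algebraMap B F' b₂) =
        σ (algebraMap B F' b₁) := by
      rw [← map_mul, IsLocalization.mk'_spec]
    have h2 : σ (algebraMap B F' b₂) ≠ 0 := by
      have hu : IsUnit (algebraMap B F' (b₂ : B)) := IsLocalization.map_units F' b₂
      exact (hu.map σ).ne_zero
    have h3 : σ (IsLocalization.mk' F' b₁ b₂) =
        σ (algebraMap B F' b₁) * (σ (algebraMap B F' b₂))⁻¹ := by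
      rw [← h1, mul_assoc, mul_inv_cancel₀ h2, mul_one]
    rw [h3]
    exact ((hβ' b₁).tower_top).mul ((hβ' b₂).tower_top).inv
  · intro hy
    obtain ⟨m, hm⟩ := IsIntegral.exists_multiple_integral_of_isLocalization
      (nonZeroDivisors A) (Rₘ := F₀) y hy
    have hm1 : (m : A) • y ∈ Set.range (σ.comp (algebraMap B F')) := by
      rw [hβ]; exact hm
    have hm2 : algebraMap A K (m : A) ∈ Set.range (σ.comp (algebraMap B F')) := by
      rw [hβ]; exact isIntegral_algebraMap
    obtain ⟨b₁, hb₁⟩ := hm1
    obtain ⟨b₂, hb₂⟩ := hm2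
    have hmK : algebraMap A K (m : A) ≠ 0 := by
      rw [IsScalarTower.algebraMap_apply A F₀ K]
      have : algebraMap A F₀ (m : A) ≠ 0 :=
        IsFractionRing.to_map_ne_zero_of_mem_nonZeroDivisors m.2
      exact (map_ne_zero (algebraMap F₀ K)).mpr this
    have hb₂0 : b₂ ≠ 0 := by
      rintro rfl
      simp only [RingHom.coe_comp, Function.comp_apply, map_zero] at hb₂
      exact hmK hb₂.symm
    refine ⟨IsLocalization.mk' F' b₁ ⟨b₂, mem_nonZeroDivisors_of_ne_zero hb₂0⟩, ?_⟩
    have h1 : σ (IsLocalization.mk' F' b₁ ⟨b₂, mem_nonZeroDivisors_of_ne_zero hb₂0⟩) *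
        σ (algebraMap B F' b₂) = σ (algebraMap B F' b₁) := by
      rw [← map_mul, IsLocalization.mk'_spec]
    simp only [RingHom.coe_comp, Function.comp_apply] at hb₁ hb₂
    rw [hb₁, hb₂, Algebra.smul_def] at h1
    have := mul_right_cancel₀ hmK (h1.trans (mul_comm _ _))
    exact this

theorem injective_of_isFractionRing {K B F' : Type*} [Field K]
    [CommRing B] [IsDomain B] [CommRing F'] [Algebra B F'] [IsFractionRing B F'] (σ : F' →+* K)
    (hβ : Function.Injective (σ.comp (algebraMap B F'))) : Function.Injective σ := by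
  rw [injective_iff_map_eq_zero]
  intro f hf
  obtain ⟨b₁, b₂, rfl⟩ := IsLocalization.exists_mk'_eq (nonZeroDivisors B) f
  have h1 : σ (IsLocalization.mk' F' b₁ b₂) * σ (algebraMap B F' b₂) =
      σ (algebraMap B F' b₁) := by
    rw [← map_mul, IsLocalization.mk'_spec]
  rw [hf, zero_mul] at h1
  have : b₁ = 0 := hβ (by simpa using h1.symm)
  rw [this, IsLocalization.mk'_zero]

/-- A dominant morphism of integral schemes maps the generic point to the generic point. -/
theorem apply_genericPoint_of_isDominant {Y X : Scheme.{u}} [IsIntegral Y] [IsIntegral X]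
    (f : Y ⟶ X) [IsDominant f] : f (genericPoint Y) = genericPoint X := by
  have h := (genericPoint_spec Y).image f.continuous
  rw [Set.image_univ, f.denseRange.closure_range] at h
  exact ((genericPoint_spec X).eq h).symm

variable {X : Scheme.{u}} [IsIntegral X] (K : Type u) [Field K] (φ : X.functionField →+* K)

theorem gen_apply (y : Spec (CommRingCat.of K)) : (gen X K φ) y = genericPoint X := by
  have h1 : (gen X K φ) y ∈ Set.range (X.fromSpecStalk (genericPoint X)) :=
    ⟨(Spec.map (CommRingCat.ofHom φ)) y, rfl⟩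
  rw [Scheme.range_fromSpecStalk] at h1
  exact (((genericPoint_spec X).specializes trivial).antisymm h1 |>.eq).symm

variable [QuasiCompact (gen X K φ)] [QuasiSeparated (gen X K φ)]

theorem fromNormalization_genericPoint :
    (gen X K φ).fromNormalization (genericPoint (gen X K φ).normalization) = genericPoint X := by
  haveI := isDominant_fromNormalization_of_eq K φ (gen X K φ) rfl
  exact apply_genericPoint_of_isDominant _

theorem fromNormalization_toNormalization_apply (y : Spec (CommRingCat.of K)) :
    (gen X K φ).fromNormalization ((gen X K φ).toNormalization y) = genericPoint X := by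
  rw [← Scheme.Hom.comp_apply, Scheme.Hom.toNormalization_fromNormalization, gen_apply]

/-- The prime of a point over the generic point is zero. -/
theorem primeIdealOf_eq_bot (V : X.Opens) (hV : IsAffineOpen V) [hne : Nonempty V]
    (x' : (gen X K φ).normalization)
    (hx' : (gen X K φ).fromNormalization x' = genericPoint X)
    (hx'W : x' ∈ (gen X K φ).fromNormalization ⁻¹ᵁ V) :
    ((hV.preimage (gen X K φ).fromNormalization).primeIdealOf ⟨x', hx'W⟩).asIdeal = ⊥ := by
  set ν := (gen X K φ).fromNormalization with hν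
  have hW : IsAffineOpen (ν ⁻¹ᵁ V) := hV.preimage ν
  haveI : IsDomain Γ(X, V) := IsIntegral.component_integral (X := X) V
  obtain ⟨hdom, -⟩ := normal_sections_normalization K φ V hV
  letI : Algebra Γ(X, V) Γ((gen X K φ).normalization, ν ⁻¹ᵁ V) := (ν.app V).hom.toAlgebra
  haveI : Algebra.IsIntegral Γ(X, V) Γ((gen X K φ).normalization, ν ⁻¹ᵁ V) :=
    ⟨IsIntegralHom.isIntegral_app ν V hV⟩
  have h1 := IsAffineOpen.comap_primeIdealOf_appLE (f := ν) V hV (ν ⁻¹ᵁ V) hW le_rfl hx'W
  rw [Scheme.Hom.appLE_eq_app] at h1
  have h2 : hV.primeIdealOf ⟨ν x', hx'W⟩ = (⊥ : PrimeSpectrum Γ(X, V)) := by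
    have : (⟨ν x', hx'W⟩ : V) = ⟨genericPoint X, genericPoint_mem V⟩ := Subtype.ext hx'
    rw [this, hV.primeIdealOf_genericPoint, genericPoint_eq_bot_of_affine]
  rw [h2] at h1
  apply Ideal.eq_bot_of_comap_eq_bot (R := Γ(X, V))
  exact congrArg PrimeSpectrum.asIdeal h1

theorem eq_genericPoint_of_fromNormalization_eq (x' : (gen X K φ).normalization)
    (hx' : (gen X K φ).fromNormalization x' = genericPoint X) :
    x' = genericPoint (gen X K φ).normalization := by
  set ν := (gen X K φ).fromNormalization with hν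
  obtain ⟨_, ⟨V, hV, rfl⟩, hξV, -⟩ := X.isBasis_affineOpens.exists_subset_of_mem_open
    (Set.mem_univ (genericPoint X)) isOpen_univ
  haveI : Nonempty V := ⟨⟨_, hξV⟩⟩
  have hW : IsAffineOpen (ν ⁻¹ᵁ V) := hV.preimage ν
  have hx'W : x' ∈ ν ⁻¹ᵁ V := by
    show ν x' ∈ V
    rw [hx']; exact hξV
  have hξ'W : genericPoint (gen X K φ).normalization ∈ ν ⁻¹ᵁ V := by
    show ν _ ∈ V
    rw [hν, fromNormalization_genericPoint]; exact hξV
  have h1 := primeIdealOf_eq_bot K φ V hV x' hx' hx'W
  have h2 := primeIdealOf_eq_bot K φ V hV _ (fromNormalization_genericPoint K φ) hξ'W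
  have h3 : hW.primeIdealOf ⟨x', hx'W⟩ = hW.primeIdealOf ⟨_, hξ'W⟩ :=
    PrimeSpectrum.ext (h1.trans h2.symm)
  have h4 := hW.isoSpec.hom.isOpenEmbedding.injective h3
  exact congrArg Subtype.val h4

theorem fromNormalization_preimage_genericPoint :
    (gen X K φ).fromNormalization.base ⁻¹' {genericPoint X} =
      {genericPoint (gen X K φ).normalization} := by
  ext x'
  simp only [Set.mem_preimage, Set.mem_singleton_iff]
  constructor
  · exact fun h => eq_genericPoint_of_fromNormalization_eq K φ x' h
  · rintro rfl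
    exact fromNormalization_genericPoint K φ

theorem toNormalization_closedPoint :
    (gen X K φ).toNormalization.base (IsLocalRing.closedPoint K) =
      genericPoint (gen X K φ).normalization :=
  eq_genericPoint_of_fromNormalization_eq K φ _ (fromNormalization_toNormalization_apply K φ _)

end GenericFibre

section Stalk

variable {X : Scheme.{u}} [IsIntegral X] (K : Type u) [Field K] (φ : X.functionField →+* K)

theorem exists_sectionsAlgEquiv' (U : X.Opens) [hne : Nonempty U] :
    letI := (φ.comp (X.germToFunctionField U).hom).toAlgebra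
    letI := ((gen X K φ).app U).hom.toAlgebra
    ∃ ψ : K ≃ₐ[Γ(X, U)] Γ(Spec (CommRingCat.of K), (gen X K φ) ⁻¹ᵁ U),
      ∀ c, ψ.symm c = (sectionsIso K φ U).inv c := by
  letI := (φ.comp (X.germToFunctionField U).hom).toAlgebra
  letI := ((gen X K φ).app U).hom.toAlgebra
  refine ⟨AlgEquiv.ofRingEquiv (f := (sectionsIso K φ U).commRingCatIsoToRingEquiv) (fun a => ?_),
    fun c => rfl⟩
  change (sectionsIso K φ U).hom (φ ((X.germToFunctionField U).hom a)) =
    ((gen X K φ).app U).hom a
  rw [gen_app]
  rfl

variable [QuasiCompact (gen X K φ)] [QuasiSeparated (gen X K φ)]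

theorem toNormalization_app_comp (V : X.Opens) (hV : IsAffineOpen V) [hne : Nonempty V]
    (hz : (gen X K φ).toNormalization (IsLocalRing.closedPoint K) ∈
      (gen X K φ).fromNormalization ⁻¹ᵁ V) :
    letI := ((gen X K φ).app V).hom.toAlgebra
    (gen X K φ).toNormalization.app ((gen X K φ).fromNormalization ⁻¹ᵁ V) ≫
      ((Spec (CommRingCat.of K)).presheaf.mapIso (eqToIso
        (Scheme.preimage_eq_top_of_closedPoint_mem (gen X K φ).toNormalization hz).symm).op ≪≫
          Scheme.ΓSpecIso (CommRingCat.of K)).hom =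
    ((gen X K φ).normalizationObjIso hV).hom ≫
      CommRingCat.ofHom (Subalgebra.val _).toRingHom ≫ (sectionsIso K φ V).inv := by
  letI := ((gen X K φ).app V).hom.toAlgebra
  rw [← Category.assoc, Scheme.Hom.normalizationObjIso_hom_val, Scheme.Hom.appLE, Category.assoc]
  congr 1

/-- The local ring of the normalization at the image of `Spec K` embeds in `K` with image the
algebraic closure of `K(X)`. -/
theorem stalkClosedPointTo_toNormalization :
    Function.Injective (Scheme.stalkClosedPointTo (gen X K φ).toNormalization).hom ∧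
    Set.range (Scheme.stalkClosedPointTo (gen X K φ).toNormalization).hom =
      {y : K | ∃ q : Polynomial X.functionField, q.Monic ∧ Polynomial.eval₂ φ y q = 0} := by
  set ν := (gen X K φ).fromNormalization with hν
  set τ := (gen X K φ).toNormalization with hτ
  set z := τ (IsLocalRing.closedPoint K) with hz
  have hνz : ν z = genericPoint X := fromNormalization_toNormalization_apply K φ _
  obtain ⟨_, ⟨V, hV, rfl⟩, hξV, -⟩ := X.isBasis_affineOpens.exists_subset_of_mem_open
    (Set.mem_univ (genericPoint X)) isOpen_univ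
  haveI : Nonempty V := ⟨⟨_, hξV⟩⟩
  have hW : IsAffineOpen (ν ⁻¹ᵁ V) := hV.preimage ν
  have hzW : z ∈ ν ⁻¹ᵁ V := by
    show ν z ∈ V
    rw [hνz]; exact hξV
  haveI : IsDomain Γ(X, V) := IsIntegral.component_integral (X := X) V
  obtain ⟨hdom, -⟩ := normal_sections_normalization K φ V hV
  -- the stalk is the fraction field of the sections
  letI algBF := TopCat.Presheaf.algebra_section_stalk (gen X K φ).normalization.presheaf
    (U := ν ⁻¹ᵁ V) ⟨z, hzW⟩
  haveI hloc := hW.isLocalization_stalk ⟨z, hzW⟩
  have hbot := primeIdealOf_eq_bot K φ V hV z hνz hzW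
  haveI hfrac : IsFractionRing Γ((gen X K φ).normalization, ν ⁻¹ᵁ V)
      ((gen X K φ).normalization.presheaf.stalk z) := by
    have heq : (hW.primeIdealOf ⟨z, hzW⟩).asIdeal.primeCompl =
        nonZeroDivisors Γ((gen X K φ).normalization, ν ⁻¹ᵁ V) := by
      ext b
      rw [Ideal.mem_primeCompl_iff, mem_nonZeroDivisors_iff_ne_zero]
      have : b ∈ (hW.primeIdealOf ⟨z, hzW⟩).asIdeal ↔ b = 0 := by
        rw [show (hW.primeIdealOf ⟨z, hzW⟩).asIdeal = ⊥ from hbot, Ideal.mem_bot]
      rw [this]
    rw [IsFractionRing, ← heq]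
    exact hloc
  -- the composite `Γ(N, W) → stalk → K`
  letI algVK' := ((gen X K φ).app V).hom.toAlgebra
  letI algAK : Algebra Γ(X, V) K := (φ.comp (X.germToFunctionField V).hom).toAlgebra
  obtain ⟨ψ, hψ⟩ := exists_sectionsAlgEquiv' K φ V
  have hcomp : ∀ b : Γ((gen X K φ).normalization, ν ⁻¹ᵁ V),
      (Scheme.stalkClosedPointTo τ).hom
        (algebraMap Γ((gen X K φ).normalization, ν ⁻¹ᵁ V)
          ((gen X K φ).normalization.presheaf.stalk z) b) =
      ψ.symm (((gen X K φ).normalizationObjIso hV).hom b).1 := by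
    intro b
    have h1 := Scheme.germ_stalkClosedPointTo τ (ν ⁻¹ᵁ V) hzW
    rw [toNormalization_app_comp K φ V hV hzW] at h1
    have h2 := congrArg (fun f => f.hom b) h1
    simp only [CommRingCat.hom_comp, RingHom.coe_comp, Function.comp_apply] at h2
    rw [hψ]
    exact h2
  have hobj : Function.Bijective ((gen X K φ).normalizationObjIso hV).hom :=
    ConcreteCategory.bijective_of_isIso _
  constructor
  · apply injective_of_isFractionRing (B := Γ((gen X K φ).normalization, ν ⁻¹ᵁ V))
    intro b₁ b₂ hb
    simp only [RingHom.coe_comp, Function.comp_apply] at hb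
    rw [hcomp, hcomp] at hb
    exact hobj.injective (Subtype.ext (ψ.symm.injective hb))
  · haveI := functionField_isFractionRing_of_isAffineOpen X V hV
    apply range_eq_of_isFractionRing (A := Γ(X, V)) (B := Γ((gen X K φ).normalization, ν ⁻¹ᵁ V))
      φ rfl
    ext y
    simp only [Set.mem_range, RingHom.coe_comp, Function.comp_apply, Set.mem_ofPred_eq]
    constructor
    · rintro ⟨b, rfl⟩
      rw [hcomp]
      exact (((gen X K φ).normalizationObjIso hV).hom b).2.map ψ.symm
    · intro hy
      have hy' : IsIntegral Γ(X, V) (ψ y) := hy.map ψ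
      obtain ⟨b, hb⟩ := hobj.surjective ⟨ψ y, hy'⟩
      refine ⟨b, ?_⟩
      rw [hcomp, hb]
      exact ψ.symm_apply_apply y

end Stalk

end Groth.Agent.Lib.Helper4.NormCurve
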