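/-
Helper library (helper4): characterization of the normalization of an integral scheme `X` (in its
function field): a normal integral scheme `Y` with an integral birational morphism `Y ⟶ X` is the
normalization (`exists_iso_of_birational`), and conversely (`forward`).  The main step
(`isIso_desc`): for a normal integral `Y`, an integral `f : Y ⟶ X` (any `X`) and `Spec K(Y) ⟶ Y`,
the normalization of `X` in `Spec K(Y)` is `Y`.
-/
import Groth.Agent.Lib.Helper4NormCurve
import Groth.Agent.Lib.Helper4UnibranchSch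
import Groth.Prelude.Def_Pi1
import Groth.Prelude.Def_Curv2

set_option autoImplicit false
set_option linter.style.haveILetI false
universe u

open AlgebraicGeometry CategoryTheory Groth.Agent.Lib.Helper4.NormCurve

namespace Groth.Agent.Lib.Helper4.NormIso

/-- Sections of a normal integral scheme over a nonempty affine open are integrally closed. -/
theorem isIntegrallyClosed_sections {Y : Scheme.{u}} [IsIntegral Y] (hY : Pi1.IsNormalScheme Y)
    (W : Y.Opens) (hW : IsAffineOpen W) [Nonempty W] :
    @IsIntegrallyClosed Γ(Y, W) _ := by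
  haveI : IsDomain Γ(Y, W) := IsIntegral.component_integral W
  apply IsIntegrallyClosed.of_localization_maximal
  intro p _ _
  let y : PrimeSpectrum Γ(Y, W) := ⟨p, inferInstance⟩
  have hy : hW.fromSpec y ∈ (W : Set Y) := by
    rw [← hW.range_fromSpec]; exact ⟨y, rfl⟩
  letI := TopCat.Presheaf.algebra_section_stalk Y.presheaf ⟨hW.fromSpec y, hy⟩
  haveI : IsLocalization p.primeCompl (Y.presheaf.stalk (hW.fromSpec y)) :=
    hW.isLocalization_stalk' y hy
  let e : Localization.AtPrime p ≃ₐ[Γ(Y, W)] Y.presheaf.stalk (hW.fromSpec y) :=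
    IsLocalization.algEquiv p.primeCompl _ _
  haveI := (hY (hW.fromSpec y)).2
  exact IsIntegrallyClosed.of_equiv e.symm.toRingEquiv

theorem appLE_congr_hom {X Y : Scheme.{u}} {a b : X ⟶ Y} (h : a = b) (U : Y.Opens) (V : X.Opens)
    (e : V ≤ a ⁻¹ᵁ U) : a.appLE U V e = b.appLE U V (h ▸ e) := by
  subst h; rfl

section Main

variable {X Y : Scheme.{u}} [IsIntegral Y] (K : Type u) [Field K] (ψ : Y.functionField →+* K)
  (f : Y ⟶ X) [IsIntegralHom f]
  [QuasiCompact (gen Y K ψ ≫ f)] [QuasiSeparated (gen Y K ψ ≫ f)]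

theorem desc_preimage (U : X.Opens) :
    ((gen Y K ψ ≫ f).normalizationDesc (gen Y K ψ) f rfl) ⁻¹ᵁ (f ⁻¹ᵁ U) =
      (gen Y K ψ ≫ f).fromNormalization ⁻¹ᵁ U := by
  rw [← Scheme.Hom.comp_preimage, Scheme.Hom.normalizationDesc_comp]

theorem desc_appLE_bijective (hY : Pi1.IsNormalScheme Y) (hψ : Function.Bijective ψ)
    (U : X.Opens) (hU : IsAffineOpen U) [hne : Nonempty (f ⁻¹ᵁ U)] :
    Function.Bijective (((gen Y K ψ ≫ f).normalizationDesc (gen Y K ψ) f rfl).appLE (f ⁻¹ᵁ U)
      ((gen Y K ψ ≫ f).fromNormalization ⁻¹ᵁ U) (desc_preimage K ψ f U).ge).hom := by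
  set h := gen Y K ψ with hh
  set g := h ≫ f with hg
  set d := g.normalizationDesc h f rfl with hd
  set τ := g.toNormalization with hτ
  set ν := g.fromNormalization with hν
  set W := f ⁻¹ᵁ U with hW
  have hWa : IsAffineOpen W := hU.preimage f
  have hτd : τ ≫ d = h := Scheme.Hom.toNormalization_normalizationDesc _ _ _ _
  have hle : g ⁻¹ᵁ U ≤ τ ⁻¹ᵁ (ν ⁻¹ᵁ U) := by
    rw [← Scheme.Hom.comp_preimage, Scheme.Hom.toNormalization_fromNormalization]
  -- the factorization on sections
  have hfac : d.appLE W (ν ⁻¹ᵁ U) (desc_preimage K ψ f U).ge ≫ τ.appLE (ν ⁻¹ᵁ U) (g ⁻¹ᵁ U) hle =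
      h.app W := by
    rw [Scheme.Hom.appLE_comp_appLE, appLE_congr_hom hτd, Scheme.Hom.app_eq_appLE]
    rfl
  have hfac' : ∀ c, (τ.appLE (ν ⁻¹ᵁ U) (g ⁻¹ᵁ U) hle).hom
      ((d.appLE W (ν ⁻¹ᵁ U) (desc_preimage K ψ f U).ge).hom c) = (h.app W).hom c := by
    intro c
    rw [← hfac]; rfl
  letI algAL := (g.app U).hom.toAlgebra
  have hval := g.normalizationObjIso_hom_val hU
  have hval' : ∀ b, (τ.appLE (ν ⁻¹ᵁ U) (g ⁻¹ᵁ U) hle).hom b =
      ((g.normalizationObjIso hU).hom.hom b).1 := by
    intro b
    have := congrArg (fun k => k.hom b) hval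
    exact this.symm
  have hτinj : Function.Injective (τ.appLE (ν ⁻¹ᵁ U) (g ⁻¹ᵁ U) hle).hom := by
    intro b₁ b₂ hb
    rw [hval', hval'] at hb
    exact (ConcreteCategory.bijective_of_isIso (g.normalizationObjIso hU).hom).injective
      (Subtype.ext hb)
  have hhinj : Function.Injective (h.app W).hom := gen_app_injective K ψ W
  constructor
  · intro c₁ c₂ hc
    apply hhinj
    rw [← hfac', ← hfac', hc]
  · intro b
    -- the image of `b` in `L` is integral over `A`, hence over `C`
    have hint : IsIntegral Γ(X, U) ((τ.appLE (ν ⁻¹ᵁ U) (g ⁻¹ᵁ U) hle).hom b) := by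
      rw [hval']
      exact ((g.normalizationObjIso hU).hom.hom b).2
    letI algCL : Algebra Γ(Y, W) Γ(Spec (CommRingCat.of K), g ⁻¹ᵁ U) := (h.app W).hom.toAlgebra
    letI algAC := (f.app U).hom.toAlgebra
    haveI : IsScalarTower Γ(X, U) Γ(Y, W) Γ(Spec (CommRingCat.of K), g ⁻¹ᵁ U) :=
      IsScalarTower.of_algebraMap_eq' (congrArg CommRingCat.Hom.hom (Scheme.Hom.comp_app h f U))
    have hint' : IsIntegral Γ(Y, W) ((τ.appLE (ν ⁻¹ᵁ U) (g ⁻¹ᵁ U) hle).hom b) :=
      hint.tower_top
    letI algCK : Algebra Γ(Y, W) K := (ψ.comp (Y.germToFunctionField W).hom).toAlgebra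
    letI algCL' : Algebra Γ(Y, W) Γ(Spec (CommRingCat.of K), h ⁻¹ᵁ W) := (h.app W).hom.toAlgebra
    obtain ⟨σ⟩ := exists_sectionsAlgEquiv K ψ W
    let x : Γ(Spec (CommRingCat.of K), h ⁻¹ᵁ W) := (τ.appLE (ν ⁻¹ᵁ U) (g ⁻¹ᵁ U) hle).hom b
    have hintx : IsIntegral Γ(Y, W) x := hint'
    haveI : IsDomain Γ(Y, W) := IsIntegral.component_integral W
    haveI hfr0 : IsFractionRing Γ(Y, W) Y.functionField :=
      functionField_isFractionRing_of_isAffineOpen Y W hWa
    let ψe : Y.functionField ≃ₐ[Γ(Y, W)] K :=
      AlgEquiv.ofRingEquiv (f := RingEquiv.ofBijective ψ hψ) (fun a => rfl)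
    haveI hfr : IsFractionRing Γ(Y, W) K :=
      IsLocalization.isLocalization_of_algEquiv (nonZeroDivisors Γ(Y, W)) ψe
    haveI hic : IsIntegrallyClosed Γ(Y, W) := isIntegrallyClosed_sections hY W hWa
    have hint'' : IsIntegral Γ(Y, W) (σ.symm x) := hintx.map σ.symm
    obtain ⟨c, hc⟩ := (IsIntegrallyClosed.isIntegral_iff (R := Γ(Y, W)) (K := K)).mp hint''
    refine ⟨c, hτinj ?_⟩
    rw [hfac']
    have h2 : σ (algebraMap Γ(Y, W) K c) = x := by
      rw [hc, AlgEquiv.apply_symm_apply]
    show (h.app W).hom c = x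
    rw [← h2, σ.commutes]
    rfl

set_option backward.isDefEq.respectTransparency false in
theorem isIso_desc (hY : Pi1.IsNormalScheme Y) (hψ : Function.Bijective ψ) :
    IsIso ((gen Y K ψ ≫ f).normalizationDesc (gen Y K ψ) f rfl) := by
  set d := (gen Y K ψ ≫ f).normalizationDesc (gen Y K ψ) f rfl with hd
  rw [← MorphismProperty.isomorphisms.iff]
  apply IsZariskiLocalAtTarget.of_iSup_eq_top (P := MorphismProperty.isomorphisms Scheme)
    (fun U : X.affineOpens => f ⁻¹ᵁ U.1)
  · rw [eq_top_iff]
    intro y _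
    obtain ⟨_, ⟨U, hU, rfl⟩, hyU, -⟩ := X.isBasis_affineOpens.exists_subset_of_mem_open
      (Set.mem_univ (f y)) isOpen_univ
    exact TopologicalSpace.Opens.mem_iSup.mpr ⟨⟨U, hU⟩, hyU⟩
  · rintro ⟨U, hU⟩
    by_cases hne : Nonempty (f ⁻¹ᵁ U)
    · haveI : IsAffine (f ⁻¹ᵁ U : Y.Opens) := hU.preimage f
      rw [HasAffineProperty.iff_of_isAffine (P := MorphismProperty.isomorphisms Scheme)]
      refine ⟨(hU.preimage f).preimage d, ?_⟩
      rw [morphismRestrict_appTop]
      have key : ∀ W : Y.Opens, W = f ⁻¹ᵁ U → IsIso (d.app W) := by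
        rintro W rfl
        have h1 := desc_appLE_bijective K ψ f hY hψ U hU
        rw [← ConcreteCategory.isIso_iff_bijective] at h1
        rw [Scheme.Hom.appLE] at h1
        haveI : IsIso (homOfLE (desc_preimage K ψ f U).ge) :=
          ⟨homOfLE (desc_preimage K ψ f U).le, Subsingleton.elim _ _, Subsingleton.elim _ _⟩
        exact IsIso.of_isIso_comp_right _ ((gen Y K ψ ≫ f).normalization.presheaf.map
          (homOfLE (desc_preimage K ψ f U).ge).op)
      haveI := key ((f ⁻¹ᵁ U).ι ''ᵁ ⊤) (f ⁻¹ᵁ U).ι_image_top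
      infer_instance
    · haveI : IsEmpty ((f ⁻¹ᵁ U : Y.Opens) : Scheme) := not_nonempty_iff.mp hne
      exact isIso_of_isEmpty _

end Main

section Iso

variable {X Y : Scheme.{u}} [IsIntegral Y] (K : Type u) [Field K] (ψ : Y.functionField →+* K)
  (f : Y ⟶ X) [IsIntegralHom f]

theorem exists_iso_normalization (hY : Pi1.IsNormalScheme Y) (hψ : Function.Bijective ψ)
    (g₀ : Spec (CommRingCat.of K) ⟶ X) (hg₀ : g₀ = gen Y K ψ ≫ f)
    [QuasiCompact g₀] [QuasiSeparated g₀] :
    ∃ e : Y ≅ g₀.normalization, e.hom ≫ g₀.fromNormalization = f := by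
  subst hg₀
  haveI := isIso_desc K ψ f hY hψ
  refine ⟨(asIso ((gen Y K ψ ≫ f).normalizationDesc (gen Y K ψ) f rfl)).symm, ?_⟩
  simp only [Iso.symm_hom, asIso_inv, IsIso.inv_comp_eq]
  exact (Scheme.Hom.normalizationDesc_comp _ _ _ _).symm

end Iso

section Birational

variable {X : Scheme.{u}} [IsIntegral X] {Y : Scheme.{u}} [IsIntegral Y] (f : Y ⟶ X)
  [IsIntegralHom f]

theorem exists_iso_of_birational (hY : Pi1.IsNormalScheme Y)
    (hgen : f (genericPoint Y) = genericPoint X) (hiso : IsIso (f.stalkMap (genericPoint Y)))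
    [QuasiCompact (X.fromSpecStalk (genericPoint X))]
    [QuasiSeparated (X.fromSpecStalk (genericPoint X))] :
    ∃ e : Y ≅ (X.fromSpecStalk (genericPoint X)).normalization,
      e.hom ≫ (X.fromSpecStalk (genericPoint X)).fromNormalization = f := by
  have hsp : f (genericPoint Y) ⤳ genericPoint X := (Inseparable.of_eq hgen).specializes
  set θ : X.presheaf.stalk (genericPoint X) ⟶ Y.presheaf.stalk (genericPoint Y) :=
    X.presheaf.stalkSpecializes hsp ≫ f.stalkMap (genericPoint Y) with hθ
  haveI : IsIso (X.presheaf.stalkSpecializes hsp) :=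
    (X.presheaf.stalkCongr (Inseparable.of_eq hgen.symm)).isIso_hom
  haveI : IsIso θ := by rw [hθ]; infer_instance
  let ψ : Y.functionField →+* X.functionField := (inv θ).hom
  have hψ : Function.Bijective ψ := ConcreteCategory.bijective_of_isIso (inv θ)
  refine exists_iso_normalization X.functionField ψ f hY hψ _ ?_
  have h1 : CommRingCat.ofHom ψ = inv θ := rfl
  rw [gen, h1, Category.assoc, ← Scheme.SpecMap_stalkMap_fromSpecStalk,
    ← Scheme.SpecMap_stalkSpecializes_fromSpecStalk hsp, ← Spec.map_comp_assoc,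
    ← Spec.map_comp_assoc, ← Category.assoc, ← hθ, IsIso.hom_inv_id, Spec.map_id]
  exact (Category.id_comp _).symm

end Birational

section Forward

variable {X : Scheme.{u}} [IsIntegral X]

theorem bijective_stalkClosedPointTo_of_eq (g' : Spec (CommRingCat.of X.functionField) ⟶ X)
    (hg' : g' = X.fromSpecStalk (genericPoint X)) :
    Function.Bijective (Scheme.stalkClosedPointTo g').hom := by
  subst hg'
  rw [Scheme.stalkClosedPointTo_fromSpecStalk]
  exact ConcreteCategory.bijective_of_isIso _

theorem isIso_stalkMap_fromNormalization_gen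
    [QuasiCompact (gen X X.functionField (RingHom.id _))]
    [QuasiSeparated (gen X X.functionField (RingHom.id _))] :
    IsIso ((gen X X.functionField (RingHom.id _)).fromNormalization.stalkMap
      (genericPoint (gen X X.functionField (RingHom.id _)).normalization)) := by
  set g := gen X X.functionField (RingHom.id _) with hg
  set τ := g.toNormalization with hτ
  set ν := g.fromNormalization with hν
  have h1 := Scheme.stalkClosedPointTo_comp τ ν
  have hbij := bijective_stalkClosedPointTo_of_eq (τ ≫ ν)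
    ((Scheme.Hom.toNormalization_fromNormalization g).trans fromSpecStalk_eq_gen.symm)
  rw [h1] at hbij
  have hinj := (stalkClosedPointTo_toNormalization X.functionField (RingHom.id _)).1
  have hb : Function.Bijective (ν.stalkMap (τ (IsLocalRing.closedPoint X.functionField))).hom := by
    constructor
    · intro a b hab
      apply hbij.1
      exact congrArg (Scheme.stalkClosedPointTo τ).hom hab
    · intro y
      obtain ⟨x, hx⟩ := hbij.2 ((Scheme.stalkClosedPointTo τ).hom y)
      exact ⟨x, hinj hx⟩
  have key : ∀ z', z' = τ (IsLocalRing.closedPoint X.functionField) → IsIso (ν.stalkMap z') := by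
    rintro z' rfl
    rw [ConcreteCategory.isIso_iff_bijective]
    exact hb
  exact key _ (toNormalization_closedPoint X.functionField (RingHom.id _)).symm

theorem isIso_stalkMap_fromNormalization_of_eq (g : Spec (CommRingCat.of X.functionField) ⟶ X)
    (hg : g = gen X X.functionField (RingHom.id _)) [QuasiCompact g] [QuasiSeparated g] :
    IsIso (g.fromNormalization.stalkMap (genericPoint g.normalization)) := by
  subst hg
  exact isIso_stalkMap_fromNormalization_gen

theorem fromNormalization_preimage_genericPoint_of_eq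
    (g : Spec (CommRingCat.of X.functionField) ⟶ X)
    (hg : g = gen X X.functionField (RingHom.id _)) [QuasiCompact g] [QuasiSeparated g] :
    g.fromNormalization.base ⁻¹' {genericPoint X} = {genericPoint g.normalization} := by
  subst hg
  exact fromNormalization_preimage_genericPoint _ _

/-- Normality, integrality and birationality of anything isomorphic to the normalization. -/
theorem forward (g : Spec (CommRingCat.of X.functionField) ⟶ X)
    (hg : g = gen X X.functionField (RingHom.id _)) [QuasiCompact g] [QuasiSeparated g]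
    {Y : Scheme.{u}} (e : Y ≅ g.normalization) :
    Pi1.IsNormalScheme Y ∧ IsIntegralHom (e.hom ≫ g.fromNormalization) ∧
      ∃ _ : IrreducibleSpace ↥Y,
        (e.hom ≫ g.fromNormalization).base ⁻¹' {genericPoint X} = {genericPoint Y} ∧
          IsIso ((e.hom ≫ g.fromNormalization).stalkMap (genericPoint Y)) := by
  have hN := isNormalScheme_normalization_of_eq X.functionField (RingHom.id _) g hg
  haveI : Nonempty Y := ⟨e.inv (Classical.arbitrary _)⟩
  haveI : IsIntegral Y := isIntegral_of_isOpenImmersion e.hom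
  refine ⟨fun y => ?_, inferInstance, inferInstance, ?_, ?_⟩
  · let ε := (asIso (e.hom.stalkMap y)).commRingCatIsoToRingEquiv
    obtain ⟨h1, h2⟩ := hN (e.hom y)
    exact ⟨ε.symm.toMulEquiv.isDomain _, IsIntegrallyClosed.of_equiv ε⟩
  · have h1 : e.hom (genericPoint Y) = genericPoint g.normalization :=
      apply_genericPoint_of_isDominant e.hom
    ext y
    simp only [Set.mem_preimage, Set.mem_singleton_iff]
    constructor
    · intro hy
      have h2 : e.hom y ∈ g.fromNormalization.base ⁻¹' {genericPoint X} := hy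
      rw [fromNormalization_preimage_genericPoint_of_eq g hg] at h2
      exact e.hom.homeomorph.injective (h2.trans h1.symm)
    · rintro rfl
      have h2 : e.hom (genericPoint Y) ∈ g.fromNormalization.base ⁻¹' {genericPoint X} := by
        rw [fromNormalization_preimage_genericPoint_of_eq g hg]; exact h1
      exact h2
  · have h1 : e.hom (genericPoint Y) = genericPoint g.normalization :=
      apply_genericPoint_of_isDominant e.hom
    have key : ∀ z', z' = genericPoint g.normalization → IsIso (g.fromNormalization.stalkMap z') := by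
      rintro z' rfl
      exact isIso_stalkMap_fromNormalization_of_eq g hg
    have h3 : IsIso (g.fromNormalization.stalkMap (e.hom (genericPoint Y))) := key _ h1
    have h4 : IsIso (e.hom.stalkMap (genericPoint Y)) := inferInstance
    rw [Scheme.Hom.stalkMap_comp]
    exact @IsIso.comp_isIso _ _ _ _ _ _ _ h3 h4

end Forward

end Groth.Agent.Lib.Helper4.NormIso
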