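/-
Helper library (helper4): the normalization of an integral scheme with a nonempty normal open is
an isomorphism over a dense open (`forward_dense`), and a normal scheme mapping isomorphically over
a dense open (with dense preimage) of an integral scheme is integral and birational to it
(`birational_of_dense`).
-/
import Groth.Agent.Lib.Helper4NormIso

set_option autoImplicit false
set_option linter.style.haveILetI false
universe u

open AlgebraicGeometry CategoryTheory Groth.Agent.Lib.Helper4.NormCurve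

namespace Groth.Agent.Lib.Helper4.NormIso

/-- Sections over a nonempty affine open, at whose points the stalks are integrally closed, of an
integral scheme are integrally closed. -/
theorem isIntegrallyClosed_sections_of_stalk {Y : Scheme.{u}} [IsIntegral Y]
    (W : Y.Opens) (hW : IsAffineOpen W) [Nonempty W]
    (hY : ∀ y ∈ W, IsIntegrallyClosed (Y.presheaf.stalk y)) :
    @IsIntegrallyClosed Γ(Y, W) _ := by
  haveI : IsDomain Γ(Y, W) := IsIntegral.component_integral W
  apply IsIntegrallyClosed.of_localization_maximal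
  intro p _ _
  let y : PrimeSpectrum Γ(Y, W) := ⟨p, inferInstance⟩
  have hy : hW.fromSpec y ∈ (W : Set Y) := by
    rw [← hW.range_fromSpec]; exact ⟨y, rfl⟩
  letI := TopCat.Presheaf.algebra_section_stalk Y.presheaf ⟨hW.fromSpec y, hy⟩
  haveI : IsLocalization p.primeCompl (Y.presheaf.stalk (hW.fromSpec y)) :=
    hW.isLocalization_stalk' y hy
  let e : Localization.AtPrime p ≃ₐ[Γ(Y, W)] Y.presheaf.stalk (hW.fromSpec y) :=
    IsLocalization.algEquiv p.primeCompl _ _
  haveI := hY (hW.fromSpec y) hy
  exact IsIntegrallyClosed.of_equiv e.symm.toRingEquiv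

section Dense

variable {X : Scheme.{u}} [IsIntegral X]

theorem isIso_morphismRestrict_fromNormalization_of_eq
    (g : Spec (CommRingCat.of X.functionField) ⟶ X)
    (hg : g = gen X X.functionField (RingHom.id _)) [QuasiCompact g] [QuasiSeparated g]
    (V : X.Opens) (hV : IsAffineOpen V) [hne : Nonempty V]
    (hic : @IsIntegrallyClosed Γ(X, V) _) :
    IsIso (g.fromNormalization ∣_ V) := by
  subst hg
  exact isIso_morphismRestrict_fromNormalization V hV hic

/-- Over a nonempty affine open in the normal locus, anything isomorphic to the normalization is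
isomorphic to `X`. -/
theorem forward_dense (g : Spec (CommRingCat.of X.functionField) ⟶ X)
    (hg : g = gen X X.functionField (RingHom.id _)) [QuasiCompact g] [QuasiSeparated g]
    (hV : ∃ V : X.Opens, (V : Set ↥X).Nonempty ∧ ∀ x ∈ V, IsIntegrallyClosed (X.presheaf.stalk x))
    {Y : Scheme.{u}} (e : Y ≅ g.normalization) :
    ∃ U : X.Opens, Dense (U : Set ↥X) ∧
      Dense (((e.hom ≫ g.fromNormalization) ⁻¹ᵁ U : Y.Opens) : Set ↥Y) ∧
      IsIso ((e.hom ≫ g.fromNormalization) ∣_ U) := by
  obtain ⟨V, ⟨x, hxV⟩, hVn⟩ := hV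
  obtain ⟨_, ⟨V', hV', rfl⟩, hxV', hV'V⟩ := X.isBasis_affineOpens.exists_subset_of_mem_open
    hxV V.isOpen
  haveI : Nonempty V' := ⟨⟨x, hxV'⟩⟩
  have hic : @IsIntegrallyClosed Γ(X, V') _ :=
    isIntegrallyClosed_sections_of_stalk V' hV' (fun y hy => hVn y (hV'V hy))
  obtain ⟨-, -, hirr, hpre, -⟩ := forward g hg e
  refine ⟨V', V'.isOpen.dense ⟨x, hxV'⟩, ?_, ?_⟩
  · refine ((e.hom ≫ g.fromNormalization) ⁻¹ᵁ V').isOpen.dense ⟨genericPoint Y, ?_⟩
    have h1 : genericPoint Y ∈ (e.hom ≫ g.fromNormalization).base ⁻¹' {genericPoint X} := by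
      rw [hpre]; rfl
    have h2 : (e.hom ≫ g.fromNormalization) (genericPoint Y) = genericPoint X := h1
    show (e.hom ≫ g.fromNormalization) (genericPoint Y) ∈ V'
    rw [h2]
    exact genericPoint_mem V'
  · have h1 := isIso_morphismRestrict_fromNormalization_of_eq g hg V' hV' hic
    have h2 : IsIso (e.hom ∣_ g.fromNormalization ⁻¹ᵁ V') := inferInstance
    rw [morphismRestrict_comp]
    exact @IsIso.comp_isIso _ _ _ _ _ _ _ h2 h1

end Dense

section DenseBack

variable {X : Scheme.{u}} [IsIntegral X] {Y : Scheme.{u}} (f : Y ⟶ X)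

/-- A normal scheme with a morphism to an integral scheme which is an isomorphism over a dense
open with dense preimage is integral and birational to the target. -/
theorem birational_of_dense (hY : Pi1.IsNormalScheme Y) (U : X.Opens) (hU : Dense (U : Set ↥X))
    (hfU : Dense ((f ⁻¹ᵁ U : Y.Opens) : Set ↥Y)) (hiso : IsIso (f ∣_ U)) :
    ∃ _ : IsIntegral Y, f (genericPoint Y) = genericPoint X ∧
      IsIso (f.stalkMap (genericPoint Y)) := by
  obtain ⟨x, hx⟩ := hU.nonempty
  haveI : Nonempty U := ⟨⟨x, hx⟩⟩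
  haveI : Nonempty (f ⁻¹ᵁ U : Y.Opens) := ⟨(inv (f ∣_ U)) ⟨x, hx⟩⟩
  haveI : IsIntegral (f ⁻¹ᵁ U : Y.Opens) := isIntegral_of_isOpenImmersion (f ∣_ U)
  -- `Y` is irreducible
  have hirr : IsIrreducible ((f ⁻¹ᵁ U : Y.Opens) : Set Y) := by
    have h1 := (IrreducibleSpace.isIrreducible_univ (f ⁻¹ᵁ U : Y.Opens)).image _
      (f ⁻¹ᵁ U).ι.continuous.continuousOn
    rwa [Set.image_univ, Scheme.Opens.range_ι] at h1
  haveI : IrreducibleSpace Y := by
    refine (irreducibleSpace_def _).mpr ?_
    show IsIrreducible (Set.univ : Set Y)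
    rw [← hfU.closure_eq]
    exact hirr.closure
  haveI : ∀ y, _root_.IsReduced (Y.presheaf.stalk y) := fun y =>
    haveI := (hY y).1
    inferInstance
  haveI : IsReduced Y := isReduced_of_isReduced_stalk Y
  haveI hYint : IsIntegral Y := isIntegral_of_irreducibleSpace_of_isReduced Y
  -- `f` is dominant
  have hsub : (U : Set X) ⊆ Set.range f := by
    intro x' hx'
    obtain ⟨y', hy'⟩ := (f ∣_ U).surjective ⟨x', hx'⟩
    refine ⟨y'.1, ?_⟩
    rw [← morphismRestrict_base_coe, hy']
  haveI : IsDominant f := ⟨hU.mono hsub⟩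
  have hgen : f (genericPoint Y) = genericPoint X := apply_genericPoint_of_isDominant f
  refine ⟨hYint, hgen, ?_⟩
  have hmem : genericPoint Y ∈ f ⁻¹ᵁ U := by
    show f (genericPoint Y) ∈ U
    rw [hgen]; exact genericPoint_mem U
  have h1 : IsIso ((f ∣_ U).stalkMap ⟨genericPoint Y, hmem⟩) :=
    ((isIso_iff_isIso_stalkMap (f ∣_ U)).mp hiso).2 _
  exact ((MorphismProperty.isomorphisms CommRingCat).arrow_mk_iso_iff
    (morphismRestrictStalkMap f U ⟨genericPoint Y, hmem⟩)).mp h1

end DenseBack

end Groth.Agent.Lib.Helper4.NormIso
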