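/-
Helper library (helper4): a birational, locally quasi-finite morphism of finite type from an
integral scheme to a normal integral scheme is a local isomorphism (algebraic ZMT), and a separated
local isomorphism between irreducible/reduced schemes is an open immersion.
-/
import Mathlib
import Groth.Agent.Lib.Helper4NormIsoDense

set_option autoImplicit false
set_option linter.style.haveILetI false
universe u

open AlgebraicGeometry CategoryTheory

namespace Groth.Agent.Lib.Helper4.BirLocalIso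

/-- Algebraic ZMT, birational form: if `A` is a normal domain, `B` a domain of finite type over `A`
with the same fraction field, quasi-finite at `q`, then `B[1/r] = A[1/r]` for some `r ∉ q`. -/
theorem exists_pow_mul_mem_range {A B : Type u} [CommRing A] [CommRing B] [IsDomain A] [IsDomain B]
    [IsIntegrallyClosed A] [Algebra A B] [Algebra.FiniteType A B]
    (hinj : Function.Injective (algebraMap A B))
    (hbir : ∀ b : B, ∃ a a' : A, a' ≠ 0 ∧ algebraMap A B a' * b = algebraMap A B a)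
    (q : Ideal B) [q.IsPrime] [Algebra.QuasiFiniteAt A q] :
    ∃ r : A, algebraMap A B r ∉ q ∧
      ∀ x : B, ∃ (k : ℕ) (c : A), algebraMap A B r ^ k * x = algebraMap A B c := by
  let K := FractionRing A
  let L := FractionRing B
  have hinjL : Function.Injective (algebraMap A L) := by
    rw [IsScalarTower.algebraMap_eq A B L]
    exact (IsFractionRing.injective B L).comp hinj
  let ψ : K →ₐ[A] L := IsFractionRing.liftAlgHom (g := Algebra.ofId A L) hinjL
  have hint : ∀ b : B, IsIntegral A b → ∃ a : A, algebraMap A B a = b := by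
    intro b hb
    obtain ⟨a, a', ha', hab⟩ := hbir b
    have h1 : IsIntegral A (algebraMap B L b) := hb.map (IsScalarTower.toAlgHom A B L)
    have ha'K : algebraMap A K a' ≠ 0 := by
      simpa using (IsFractionRing.injective A K).ne ha'
    have ha'L : algebraMap A L a' ≠ 0 := by
      intro h; exact ha' (hinjL (by simpa using h))
    have hψ : ψ (algebraMap A K a / algebraMap A K a') = algebraMap B L b := by
      rw [map_div₀, AlgHom.commutes, AlgHom.commutes, div_eq_iff ha'L,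
        IsScalarTower.algebraMap_apply A B L, IsScalarTower.algebraMap_apply A B L, ← map_mul,
        mul_comm, hab]
    have h2 : IsIntegral A (algebraMap A K a / algebraMap A K a') := by
      rw [← isIntegral_algHom_iff ψ ψ.injective, hψ]; exact h1
    obtain ⟨c, hc⟩ := IsIntegrallyClosed.isIntegral_iff.mp h2
    refine ⟨c, ?_⟩
    apply IsFractionRing.injective B L
    rw [← hψ, ← hc, AlgHom.commutes, IsScalarTower.algebraMap_apply A B L]
  have hZ := Algebra.ZariskisMainProperty.of_finiteType (R := A) q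
  rw [Algebra.zariskisMainProperty_iff] at hZ
  obtain ⟨r, hrn, hrint, hr⟩ := hZ
  obtain ⟨a, rfl⟩ := hint r hrint
  refine ⟨a, hrn, fun x => ?_⟩
  obtain ⟨k, hk⟩ := hr x
  obtain ⟨c, hc⟩ := hint _ hk
  exact ⟨k, c, hc.symm⟩

/-- Under the conclusion of `exists_pow_mul_mem_range`, the induced map on localizations is
bijective. -/
theorem away_map_bijective {A B : Type u} [CommRing A] [CommRing B] (φ : A →+* B)
    (hinj : Function.Injective φ) (r : A)
    (hr : ∀ x : B, ∃ (k : ℕ) (c : A), φ r ^ k * x = φ c)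
    (A' B' : Type u) [CommRing A'] [CommRing B'] [Algebra A A'] [Algebra B B']
    [IsLocalization.Away r A'] [IsLocalization.Away (φ r) B'] :
    Function.Bijective (IsLocalization.Away.map A' B' φ r) := by
  constructor
  · exact IsLocalization.map_injective_of_injective _ _ _ hinj
  · intro y
    obtain ⟨⟨b, ⟨_, n, rfl⟩⟩, rfl⟩ := IsLocalization.mk'_surjective (Submonoid.powers (φ r)) y
    obtain ⟨k, c, hc⟩ := hr b
    refine ⟨IsLocalization.mk' A' c (⟨r ^ (k + n), k + n, rfl⟩ : Submonoid.powers r), ?_⟩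
    rw [IsLocalization.Away.map, IsLocalization.map_mk', IsLocalization.mk'_eq_iff_eq]
    congr 1
    simp only [map_pow, ← hc]
    ring

set_option backward.isDefEq.respectTransparency false in
/-- A locally quasi-finite morphism of finite type between integral schemes, with normal target,
inducing an isomorphism on the stalks at the generic point, is a local isomorphism. -/
theorem isLocalIso_of_birational {X Y : Scheme.{u}} [IsIntegral X] [IsIntegral Y]
    (hN : ∀ y : Y, IsIntegrallyClosed (Y.presheaf.stalk y)) (f : X ⟶ Y) [LocallyQuasiFinite f]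
    [LocallyOfFiniteType f]
    (hbir : IsIso (f.stalkMap (genericPoint X))) : IsLocalIso f := by
  constructor
  intro x
  obtain ⟨_, ⟨V, hV, rfl⟩, hyV, -⟩ := Y.isBasis_affineOpens.exists_subset_of_mem_open
    (Set.mem_univ (f x)) isOpen_univ
  obtain ⟨_, ⟨U, hU, rfl⟩, hxU, hUV : U ≤ f ⁻¹ᵁ V⟩ :=
    X.isBasis_affineOpens.exists_subset_of_mem_open hyV (f ⁻¹ᵁ V).2
  haveI : Nonempty V := ⟨⟨f x, hyV⟩⟩
  haveI : Nonempty U := ⟨⟨x, hxU⟩⟩
  have hft : (f.appLE V U hUV).hom.FiniteType := f.finiteType_appLE hV hU hUV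
  algebraize [(f.appLE V U hUV).hom]
  haveI : IsDomain Γ(Y, V) := IsIntegral.component_integral V
  haveI : IsDomain Γ(X, U) := IsIntegral.component_integral U
  haveI : IsIntegrallyClosed Γ(Y, V) :=
    Groth.Agent.Lib.Helper4.NormIso.isIntegrallyClosed_sections_of_stalk V hV (fun y _ => hN y)
  have hqf' : Algebra.QuasiFiniteAt Γ(Y, V) (hU.primeIdealOf ⟨x, hxU⟩).asIdeal :=
    (f.quasiFiniteAt x).quasiFiniteAt hU hV hUV hxU
  -- generic point facts
  have hηU : genericPoint X ∈ U :=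
    ((genericPoint_spec X).mem_open_set_iff U.isOpen).mpr ⟨x, Set.mem_univ _, hxU⟩
  have hηV : f (genericPoint X) ∈ V := hUV hηU
  have hgerm : ∀ a : Γ(Y, V), X.presheaf.germ U (genericPoint X) hηU (f.appLE V U hUV a) =
      f.stalkMap (genericPoint X) (Y.presheaf.germ V (f (genericPoint X)) hηV a) := by
    intro a
    rw [Scheme.Hom.germ_stalkMap_apply]
    simp only [Scheme.Hom.appLE, CommRingCat.comp_apply]
    rw [TopCat.Presheaf.germ_res_apply]
  have hbij : Function.Bijective (f.stalkMap (genericPoint X)) :=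
    ConcreteCategory.bijective_of_isIso _
  have hinj : Function.Injective (algebraMap Γ(Y, V) Γ(X, U)) := by
    intro a a' h
    apply germ_injective_of_isIntegral Y (f (genericPoint X)) hηV
    apply hbij.1
    rw [← hgerm, ← hgerm]
    exact congrArg _ h
  have hfrac : ∀ b : Γ(X, U), ∃ a a' : Γ(Y, V), a' ≠ 0 ∧
      algebraMap Γ(Y, V) Γ(X, U) a' * b = algebraMap Γ(Y, V) Γ(X, U) a := by
    intro b
    obtain ⟨t, ht⟩ := hbij.2 (X.presheaf.germ U (genericPoint X) hηU b)
    letI algA : Algebra Γ(Y, V) ↑(Y.presheaf.stalk (f (genericPoint X))) :=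
      (Y.presheaf.germ V (f (genericPoint X)) hηV).hom.toAlgebra
    have hloc : IsLocalization.AtPrime ↑(Y.presheaf.stalk (f (genericPoint X)))
        (hV.primeIdealOf ⟨f (genericPoint X), hηV⟩).asIdeal :=
      hV.isLocalization_stalk ⟨f (genericPoint X), hηV⟩
    obtain ⟨⟨a, s⟩, has⟩ := IsLocalization.surj
      (hV.primeIdealOf ⟨f (genericPoint X), hηV⟩).asIdeal.primeCompl t
    refine ⟨a, s.1, ?_, ?_⟩
    · intro h0
      exact s.2 (h0 ▸ zero_mem _)
    · apply germ_injective_of_isIntegral X (genericPoint X) hηU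
      change X.presheaf.germ U (genericPoint X) hηU (f.appLE V U hUV s.1 * b) =
        X.presheaf.germ U (genericPoint X) hηU (f.appLE V U hUV a)
      rw [map_mul, hgerm, hgerm, ← ht, ← map_mul, mul_comm]
      exact congrArg _ has
  obtain ⟨r, hrx, hr⟩ := exists_pow_mul_mem_range hinj hfrac (hU.primeIdealOf ⟨x, hxU⟩).asIdeal
  have hxr : x ∈ X.basicOpen (f.appLE V U hUV r) := by
    have h1 : hU.primeIdealOf ⟨x, hxU⟩ ∈ PrimeSpectrum.basicOpen (f.appLE V U hUV r) := hrx
    rw [← hU.fromSpec_preimage_basicOpen] at h1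
    have h2 : hU.fromSpec (hU.primeIdealOf ⟨x, hxU⟩) ∈ X.basicOpen (f.appLE V U hUV r) := h1
    rwa [hU.fromSpec_primeIdealOf] at h2
  have hle : X.basicOpen (f.appLE V U hUV r) ≤ f ⁻¹ᵁ (Y.basicOpen r) := by
    simp [Scheme.Hom.appLE]
  refine ⟨X.basicOpen (f.appLE V U hUV r), hxr, ?_⟩
  haveI hA1 : IsAffine (Y.basicOpen r).toScheme := hV.basicOpen r
  haveI hA2 : IsAffine (X.basicOpen (f.appLE V U hUV r)).toScheme := hU.basicOpen _
  have hiso : IsIso (f.appLE (Y.basicOpen r) (X.basicOpen (f.appLE V U hUV r)) hle) := by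
    rw [IsAffineOpen.appLE_eq_away_map f hV hU hUV r]
    rw [ConcreteCategory.isIso_iff_bijective]
    letI := hV.isLocalization_basicOpen r
    letI := hU.isLocalization_basicOpen (f.appLE V U hUV r)
    exact away_map_bijective _ hinj r hr _ _
  have hiso2 : IsIso (f.resLE (Y.basicOpen r) (X.basicOpen (f.appLE V U hUV r)) hle) := by
    have h3 : IsIso (f.resLE (Y.basicOpen r) (X.basicOpen (f.appLE V U hUV r)) hle).appTop :=
      ((MorphismProperty.isomorphisms _).arrow_mk_iso_iff (arrowResLEAppIso f _ _ hle)).mpr hiso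
    exact (HasAffineProperty.iff_of_isAffine (P := MorphismProperty.isomorphisms Scheme)).mpr
      ⟨hA2, h3⟩
  rw [← Scheme.Hom.resLE_comp_ι f hle]
  infer_instance

/-- A separated local isomorphism from an irreducible scheme to an integral scheme is injective. -/
theorem injective_of_isLocalIso {X Y : Scheme.{u}} [IrreducibleSpace X] [IsIntegral Y]
    (f : X ⟶ Y) [IsLocalIso f] [IsSeparated f] : Function.Injective f := by
  intro x₁ x₂ h12
  obtain ⟨U₁, hx₁, hU₁⟩ := IsLocalIso.exists_isOpenImmersion (f := f) x₁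
  obtain ⟨U₂, hx₂, hU₂⟩ := IsLocalIso.exists_isOpenImmersion (f := f) x₂
  have hne : ((U₁ ⊓ U₂ : X.Opens) : Set X).Nonempty :=
    nonempty_preirreducible_inter U₁.2 U₂.2 ⟨x₁, hx₁⟩ ⟨x₂, hx₂⟩
  have e₁ : U₁ ⊓ U₂ ≤ U₁ := inf_le_left
  have e₂ : U₁ ⊓ U₂ ≤ U₂ := inf_le_right
  haveI hU₁₂ : IsOpenImmersion ((U₁ ⊓ U₂).ι ≫ f) := by
    rw [← X.homOfLE_ι e₁, Category.assoc]; infer_instance
  let V : Y.Opens := (U₁.ι ≫ f).opensRange ⊓ (U₂.ι ≫ f).opensRange
  let O : Y.Opens := ((U₁ ⊓ U₂).ι ≫ f).opensRange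
  have hOV : O ≤ V := by
    rintro _ ⟨z, rfl⟩
    exact ⟨⟨⟨z.1, e₁ z.2⟩, rfl⟩, ⟨⟨z.1, e₂ z.2⟩, rfl⟩⟩
  have hyV : f x₁ ∈ V := ⟨⟨⟨x₁, hx₁⟩, rfl⟩, ⟨⟨x₂, hx₂⟩, h12.symm⟩⟩
  haveI : Nonempty V := ⟨⟨f x₁, hyV⟩⟩
  have hV₁ : Set.range V.ι ⊆ Set.range (U₁.ι ≫ f) := by
    rw [Scheme.Opens.range_ι]; exact fun y hy => hy.1
  have hV₂ : Set.range V.ι ⊆ Set.range (U₂.ι ≫ f) := by
    rw [Scheme.Opens.range_ι]; exact fun y hy => hy.2
  have hO : Set.range O.ι ⊆ Set.range ((U₁ ⊓ U₂).ι ≫ f) := by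
    rw [Scheme.Opens.range_ι]; exact fun y hy => hy
  let l₁ : V.toScheme ⟶ U₁.toScheme := IsOpenImmersion.lift (U₁.ι ≫ f) V.ι hV₁
  let l₂ : V.toScheme ⟶ U₂.toScheme := IsOpenImmersion.lift (U₂.ι ≫ f) V.ι hV₂
  let t : O.toScheme ⟶ (U₁ ⊓ U₂).toScheme := IsOpenImmersion.lift ((U₁ ⊓ U₂).ι ≫ f) O.ι hO
  have hl₁ : l₁ ≫ U₁.ι ≫ f = V.ι := IsOpenImmersion.lift_fac _ _ _
  have hl₂ : l₂ ≫ U₂.ι ≫ f = V.ι := IsOpenImmersion.lift_fac _ _ _
  have ht : t ≫ (U₁ ⊓ U₂).ι ≫ f = O.ι := IsOpenImmersion.lift_fac _ _ _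
  have h1 : Y.homOfLE hOV ≫ l₁ = t ≫ X.homOfLE e₁ := by
    rw [← cancel_mono (U₁.ι ≫ f), Category.assoc, hl₁, Category.assoc, X.homOfLE_ι_assoc, ht,
      Y.homOfLE_ι]
  have h2 : Y.homOfLE hOV ≫ l₂ = t ≫ X.homOfLE e₂ := by
    rw [← cancel_mono (U₂.ι ≫ f), Category.assoc, hl₂, Category.assoc, X.homOfLE_ι_assoc, ht,
      Y.homOfLE_ι]
  haveI : IsDominant (Y.homOfLE hOV) := by
    constructor
    have hopen : IsOpen (Set.range (Y.homOfLE hOV)) := (Y.homOfLE hOV).isOpenEmbedding.isOpen_range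
    apply hopen.dense
    obtain ⟨z, hz⟩ := hne
    exact ⟨_, ⟨⟨f z, ⟨⟨z, hz⟩, rfl⟩⟩, rfl⟩⟩
  have hs : l₁ ≫ U₁.ι = l₂ ≫ U₂.ι := by
    apply ext_of_isDominant_of_isSeparated f (by rw [Category.assoc, Category.assoc, hl₁, hl₂])
      (Y.homOfLE hOV)
    rw [← Category.assoc, h1, ← Category.assoc, h2, Category.assoc, Category.assoc,
      X.homOfLE_ι, X.homOfLE_ι]
  let y' : (V : Scheme.{u}) := ⟨f x₁, hyV⟩
  let x₁' : (U₁ : Scheme.{u}) := ⟨x₁, hx₁⟩
  let x₂' : (U₂ : Scheme.{u}) := ⟨x₂, hx₂⟩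
  have hp₁ : (l₁ ≫ U₁.ι) y' = x₁ := by
    have : (U₁.ι ≫ f) (l₁ y') = (U₁.ι ≫ f) x₁' := by
      change (l₁ ≫ U₁.ι ≫ f) y' = _
      rw [hl₁]; rfl
    have h3 := (U₁.ι ≫ f).isOpenEmbedding.injective this
    change U₁.ι (l₁ y') = x₁
    rw [h3]; rfl
  have hp₂ : (l₂ ≫ U₂.ι) y' = x₂ := by
    have : (U₂.ι ≫ f) (l₂ y') = (U₂.ι ≫ f) x₂' := by
      change (l₂ ≫ U₂.ι ≫ f) y' = _
      rw [hl₂]; exact h12
    have h3 := (U₂.ι ≫ f).isOpenEmbedding.injective this
    change U₂.ι (l₂ y') = x₂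
    rw [h3]; rfl
  rw [← hp₁, ← hp₂, hs]

/-- A separated local isomorphism from an irreducible scheme to an integral scheme is an open
immersion. -/
theorem isOpenImmersion_of_isLocalIso {X Y : Scheme.{u}} [IrreducibleSpace X] [IsIntegral Y]
    (f : X ⟶ Y) [IsLocalIso f] [IsSeparated f] : IsOpenImmersion f := by
  apply IsOpenImmersion.of_forall_source_exists f (injective_of_isLocalIso f)
  intro x
  obtain ⟨U, hx, hU⟩ := IsLocalIso.exists_isOpenImmersion (f := f) x
  exact ⟨U.toScheme, U.ι, inferInstance, by simpa using hx, hU⟩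

end Groth.Agent.Lib.Helper4.BirLocalIso
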