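/-
Helper library (helper4): pointwise birational ZMT. A birational morphism locally of finite type
between integral schemes which is quasi-finite at `x` with `f x` a normal point is an isomorphism
from a neighbourhood of `x` onto a neighbourhood of `f x`; if moreover `f` is separated then `f` is
an isomorphism over a neighbourhood of `f x`.
-/
import Mathlib
import Groth.Agent.Lib.Helper4BirLocalIso
import Groth.Agent.Lib.Helper4NormalLocus

set_option autoImplicit false
set_option linter.style.haveILetI false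
universe u

open AlgebraicGeometry CategoryTheory

namespace Groth.Agent.Lib.Helper4.BirLocalIso

/-- Algebraic ZMT, birational form, local on the base: if `A_p` is a normal domain, `B` a domain of
finite type over `A` with the same fraction field, quasi-finite at `q` over `p`, then
`B[1/g] = A[1/g]` for some `g ∉ p`. -/
theorem exists_pow_mul_mem_range_local {A B Ap : Type u} [CommRing A] [CommRing B] [CommRing Ap]
    [IsDomain A] [IsDomain B] [Algebra A B] [Algebra.FiniteType A B]
    (p : Ideal A) [p.IsPrime] [Algebra A Ap] [IsLocalization.AtPrime Ap p] [IsDomain Ap]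
    [IsIntegrallyClosed Ap]
    (hinj : Function.Injective (algebraMap A B))
    (hbir : ∀ b : B, ∃ a a' : A, a' ≠ 0 ∧ algebraMap A B a' * b = algebraMap A B a)
    (q : Ideal B) [q.IsPrime] (hqp : q.comap (algebraMap A B) = p) [Algebra.QuasiFiniteAt A q] :
    ∃ g : A, g ∉ p ∧
      ∀ x : B, ∃ (k : ℕ) (c : A), algebraMap A B g ^ k * x = algebraMap A B c := by
  let K := FractionRing A
  let L := FractionRing B
  have hinjL : Function.Injective (algebraMap A L) := by
    rw [IsScalarTower.algebraMap_eq A B L]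
    exact (IsFractionRing.injective B L).comp hinj
  let ψ : K →ₐ[A] L := IsFractionRing.liftAlgHom (g := Algebra.ofId A L) hinjL
  -- Step 1: integral elements have denominators outside `p`
  have hint : ∀ b : B, IsIntegral A b → ∃ s : A, s ∉ p ∧ ∃ c : A,
      algebraMap A B s * b = algebraMap A B c := by
    intro b hb
    obtain ⟨a, a', ha', hab⟩ := hbir b
    have h1 : IsIntegral A (algebraMap B L b) := hb.map (IsScalarTower.toAlgHom A B L)
    have ha'L : algebraMap A L a' ≠ 0 := by
      intro h; exact ha' (hinjL (by simpa using h))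
    have hψ : ψ (algebraMap A K a / algebraMap A K a') = algebraMap B L b := by
      rw [map_div₀, AlgHom.commutes, AlgHom.commutes, div_eq_iff ha'L,
        IsScalarTower.algebraMap_apply A B L, IsScalarTower.algebraMap_apply A B L, ← map_mul,
        mul_comm, hab]
    have h2 : IsIntegral A (algebraMap A K a / algebraMap A K a') := by
      rw [← isIntegral_algHom_iff ψ ψ.injective, hψ]; exact h1
    obtain ⟨m, hm, c, hc⟩ :=
      (Groth.Agent.Lib.Helper4.NormalLocus.isIntegrallyClosed_localization_iff (K := K)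
        p.primeCompl Ap).mp inferInstance _ h2
    refine ⟨m, hm, c, ?_⟩
    apply IsFractionRing.injective B L
    rw [map_mul, ← hψ, ← IsScalarTower.algebraMap_apply A B L, ← AlgHom.commutes ψ,
      ← map_mul, ← Algebra.smul_def, hc, AlgHom.commutes, IsScalarTower.algebraMap_apply A B L]
  -- Step 2: pointwise
  have hZ := Algebra.ZariskisMainProperty.of_finiteType (R := A) q
  rw [Algebra.zariskisMainProperty_iff] at hZ
  obtain ⟨r, hrq, hrint, hr⟩ := hZ
  obtain ⟨s₀, hs₀, a₀, ha₀⟩ := hint r hrint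
  have ha₀p : a₀ ∉ p := by
    intro h
    have h1 : algebraMap A B a₀ ∈ q := by rw [← hqp] at h; exact h
    rw [← ha₀] at h1
    rcases Ideal.IsPrime.mem_or_mem inferInstance h1 with h2 | h2
    · apply hs₀; rw [← hqp]; exact h2
    · exact hrq h2
  have hpt : ∀ x : B, ∃ g : A, g ∉ p ∧ ∃ (k : ℕ) (c : A),
      algebraMap A B g ^ k * x = algebraMap A B c := by
    intro x
    obtain ⟨k, hk⟩ := hr x
    obtain ⟨s, hs, c, hc⟩ := hint _ hk
    refine ⟨a₀ * s, ?_, k + 1, a₀ * s ^ k * s₀ ^ k * c, ?_⟩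
    · intro h
      rcases Ideal.IsPrime.mem_or_mem inferInstance h with h | h
      · exact ha₀p h
      · exact hs h
    · simp only [map_mul, map_pow, ← ha₀, ← hc]
      ring
  -- Step 3: finite generation
  obtain ⟨t, ht⟩ := Algebra.FiniteType.out (R := A) (A := B)
  classical
  have hfin : ∀ t : Finset B, ∃ g : A, g ∉ p ∧ ∀ x ∈ t, ∃ (k : ℕ) (c : A),
      algebraMap A B g ^ k * x = algebraMap A B c := by
    intro t
    induction t using Finset.induction_on with
    | empty => exact ⟨1, fun h => Ideal.IsPrime.ne_top inferInstance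
        ((Ideal.eq_top_iff_one p).mpr h), by simp⟩
    | insert b t _ ih =>
      obtain ⟨g₁, hg₁, h₁⟩ := ih
      obtain ⟨g₂, hg₂, k₂, c₂, h₂⟩ := hpt b
      refine ⟨g₁ * g₂, ?_, ?_⟩
      · intro h
        rcases Ideal.IsPrime.mem_or_mem inferInstance h with h | h
        · exact hg₁ h
        · exact hg₂ h
      · intro x hx
        rcases Finset.mem_insert.mp hx with rfl | hx
        · refine ⟨k₂, g₁ ^ k₂ * c₂, ?_⟩
          simp only [map_mul, map_pow, ← h₂]; ring
        · obtain ⟨k, c, h⟩ := h₁ x hx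
          refine ⟨k, g₂ ^ k * c, ?_⟩
          simp only [map_mul, map_pow, ← h]; ring
  obtain ⟨g, hg, hgt⟩ := hfin t
  refine ⟨g, hg, fun x => ?_⟩
  have hx : x ∈ Algebra.adjoin A (t : Set B) := by rw [ht]; trivial
  induction hx using Algebra.adjoin_induction with
  | mem x hx => exact hgt x hx
  | algebraMap a => exact ⟨0, a, by simp⟩
  | add x y _ _ hx hy =>
    obtain ⟨k₁, c₁, h₁⟩ := hx
    obtain ⟨k₂, c₂, h₂⟩ := hy
    refine ⟨k₁ + k₂, g ^ k₂ * c₁ + g ^ k₁ * c₂, ?_⟩
    simp only [map_add, map_mul, map_pow, ← h₁, ← h₂]; ring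
  | mul x y _ _ hx hy =>
    obtain ⟨k₁, c₁, h₁⟩ := hx
    obtain ⟨k₂, c₂, h₂⟩ := hy
    refine ⟨k₁ + k₂, c₁ * c₂, ?_⟩
    simp only [map_mul, ← h₁, ← h₂]; ring

set_option backward.isDefEq.respectTransparency false in
/-- Pointwise version of `isLocalIso_of_birational`: a morphism locally of finite type between
integral schemes inducing an isomorphism on the stalks at the generic point, quasi-finite at `x`
with `f x` a normal point, maps a neighbourhood of `x` isomorphically onto a neighbourhood of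
`f x`. -/
theorem exists_isIso_resLE_of_birational {X Y : Scheme.{u}} [IsIntegral X] [IsIntegral Y]
    (f : X ⟶ Y) [LocallyOfFiniteType f] (hbir : IsIso (f.stalkMap (genericPoint X)))
    (x : X) (hqf : f.QuasiFiniteAt x) [IsIntegrallyClosed (Y.presheaf.stalk (f x))] :
    ∃ (V₁ : Y.Opens) (U' : X.Opens) (hle : U' ≤ f ⁻¹ᵁ V₁), x ∈ U' ∧ IsIso (f.resLE V₁ U' hle) := by
  obtain ⟨_, ⟨V, hV, rfl⟩, hyV, -⟩ := Y.isBasis_affineOpens.exists_subset_of_mem_open
    (Set.mem_univ (f x)) isOpen_univ
  obtain ⟨_, ⟨U, hU, rfl⟩, hxU, hUV : U ≤ f ⁻¹ᵁ V⟩ :=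
    X.isBasis_affineOpens.exists_subset_of_mem_open hyV (f ⁻¹ᵁ V).2
  haveI : Nonempty V := ⟨⟨f x, hyV⟩⟩
  haveI : Nonempty U := ⟨⟨x, hxU⟩⟩
  have hft : (f.appLE V U hUV).hom.FiniteType := f.finiteType_appLE hV hU hUV
  algebraize [(f.appLE V U hUV).hom]
  haveI : IsDomain Γ(Y, V) := IsIntegral.component_integral V
  haveI : IsDomain Γ(X, U) := IsIntegral.component_integral U
  have hqf' : Algebra.QuasiFiniteAt Γ(Y, V) (hU.primeIdealOf ⟨x, hxU⟩).asIdeal :=
    hqf.quasiFiniteAt hU hV hUV hxU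
  have hlo : (hU.primeIdealOf ⟨x, hxU⟩).asIdeal.comap (algebraMap Γ(Y, V) Γ(X, U)) =
      (hV.primeIdealOf ⟨f x, hyV⟩).asIdeal := by
    suffices hV.primeIdealOf ⟨f x, hyV⟩ =
        Spec.map (f.appLE V U hUV) (hU.primeIdealOf ⟨x, hxU⟩) from congr(($this).1).symm
    apply hV.isoSpec.inv.homeomorph.injective
    apply Subtype.ext
    simp only [IsAffineOpen.primeIdealOf, Scheme.Hom.homeomorph_apply,
      ← Scheme.Hom.comp_apply, ← Scheme.Opens.ι_apply, IsAffineOpen.isoSpec_hom]
    simp
  letI algA : Algebra Γ(Y, V) ↑(Y.presheaf.stalk (f x)) :=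
    (Y.presheaf.germ V (f x) hyV).hom.toAlgebra
  haveI hloc : IsLocalization.AtPrime ↑(Y.presheaf.stalk (f x))
      (hV.primeIdealOf ⟨f x, hyV⟩).asIdeal :=
    hV.isLocalization_stalk ⟨f x, hyV⟩
  -- generic point facts
  have hηU : genericPoint X ∈ U :=
    ((genericPoint_spec X).mem_open_set_iff U.isOpen).mpr ⟨x, Set.mem_univ _, hxU⟩
  have hηV : f (genericPoint X) ∈ V := hUV hηU
  have hgerm : ∀ a : Γ(Y, V), X.presheaf.germ U (genericPoint X) hηU (f.appLE V U hUV a) =
      f.stalkMap (genericPoint X) (Y.presheaf.germ V (f (genericPoint X)) hηV a) := by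
    intro a
    rw [Scheme.Hom.germ_stalkMap_apply]
    simp only [Scheme.Hom.appLE, CommRingCat.comp_apply]
    rw [TopCat.Presheaf.germ_res_apply]
  have hbij : Function.Bijective (f.stalkMap (genericPoint X)) :=
    ConcreteCategory.bijective_of_isIso _
  have hinj : Function.Injective (algebraMap Γ(Y, V) Γ(X, U)) := by
    intro a a' h
    apply germ_injective_of_isIntegral Y (f (genericPoint X)) hηV
    apply hbij.1
    rw [← hgerm, ← hgerm]
    exact congrArg _ h
  have hfrac : ∀ b : Γ(X, U), ∃ a a' : Γ(Y, V), a' ≠ 0 ∧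
      algebraMap Γ(Y, V) Γ(X, U) a' * b = algebraMap Γ(Y, V) Γ(X, U) a := by
    intro b
    obtain ⟨t, ht⟩ := hbij.2 (X.presheaf.germ U (genericPoint X) hηU b)
    letI algA' : Algebra Γ(Y, V) ↑(Y.presheaf.stalk (f (genericPoint X))) :=
      (Y.presheaf.germ V (f (genericPoint X)) hηV).hom.toAlgebra
    have hloc' : IsLocalization.AtPrime ↑(Y.presheaf.stalk (f (genericPoint X)))
        (hV.primeIdealOf ⟨f (genericPoint X), hηV⟩).asIdeal :=
      hV.isLocalization_stalk ⟨f (genericPoint X), hηV⟩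
    obtain ⟨⟨a, s⟩, has⟩ := IsLocalization.surj
      (hV.primeIdealOf ⟨f (genericPoint X), hηV⟩).asIdeal.primeCompl t
    refine ⟨a, s.1, ?_, ?_⟩
    · intro h0
      exact s.2 (h0 ▸ zero_mem _)
    · apply germ_injective_of_isIntegral X (genericPoint X) hηU
      change X.presheaf.germ U (genericPoint X) hηU (f.appLE V U hUV s.1 * b) =
        X.presheaf.germ U (genericPoint X) hηU (f.appLE V U hUV a)
      rw [map_mul, hgerm, hgerm, ← ht, ← map_mul, mul_comm]
      exact congrArg _ has
  obtain ⟨r, hrp, hr⟩ := exists_pow_mul_mem_range_local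
    (Ap := ↑(Y.presheaf.stalk (f x))) (hV.primeIdealOf ⟨f x, hyV⟩).asIdeal hinj hfrac
    (hU.primeIdealOf ⟨x, hxU⟩).asIdeal hlo
  have hrx : algebraMap Γ(Y, V) Γ(X, U) r ∉ (hU.primeIdealOf ⟨x, hxU⟩).asIdeal := by
    intro h
    apply hrp
    rw [← hlo]; exact h
  have hxr : x ∈ X.basicOpen (f.appLE V U hUV r) := by
    have h1 : hU.primeIdealOf ⟨x, hxU⟩ ∈ PrimeSpectrum.basicOpen (f.appLE V U hUV r) := hrx
    rw [← hU.fromSpec_preimage_basicOpen] at h1
    have h2 : hU.fromSpec (hU.primeIdealOf ⟨x, hxU⟩) ∈ X.basicOpen (f.appLE V U hUV r) := h1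
    rwa [hU.fromSpec_primeIdealOf] at h2
  have hle : X.basicOpen (f.appLE V U hUV r) ≤ f ⁻¹ᵁ (Y.basicOpen r) := by
    simp [Scheme.Hom.appLE]
  refine ⟨Y.basicOpen r, X.basicOpen (f.appLE V U hUV r), hle, hxr, ?_⟩
  haveI hA1 : IsAffine (Y.basicOpen r).toScheme := hV.basicOpen r
  haveI hA2 : IsAffine (X.basicOpen (f.appLE V U hUV r)).toScheme := hU.basicOpen _
  have hiso : IsIso (f.appLE (Y.basicOpen r) (X.basicOpen (f.appLE V U hUV r)) hle) := by
    rw [IsAffineOpen.appLE_eq_away_map f hV hU hUV r]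
    rw [ConcreteCategory.isIso_iff_bijective]
    letI := hV.isLocalization_basicOpen r
    letI := hU.isLocalization_basicOpen (f.appLE V U hUV r)
    exact away_map_bijective _ hinj r hr _ _
  have h3 : IsIso (f.resLE (Y.basicOpen r) (X.basicOpen (f.appLE V U hUV r)) hle).appTop :=
    ((MorphismProperty.isomorphisms _).arrow_mk_iso_iff (arrowResLEAppIso f _ _ hle)).mpr hiso
  exact (HasAffineProperty.iff_of_isAffine (P := MorphismProperty.isomorphisms Scheme)).mpr
    ⟨hA2, h3⟩

/-- If `f : X ⟶ Y` is separated with `X` integral, and `f` maps a nonempty open `U'` of `X`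
isomorphically onto an open `V₁` of `Y`, then `f` is an isomorphism over `V₁`. -/
theorem isIso_morphismRestrict_of_isIso_resLE {X Y : Scheme.{u}} [IsIntegral X]
    (f : X ⟶ Y) [IsSeparated f] (V₁ : Y.Opens) (U' : X.Opens) (hle : U' ≤ f ⁻¹ᵁ V₁)
    (hne : (U' : Set X).Nonempty) (hiso : IsIso (f.resLE V₁ U' hle)) : IsIso (f ∣_ V₁) := by
  haveI : Nonempty (f ⁻¹ᵁ V₁) := ⟨⟨hne.some, hle hne.some_mem⟩⟩
  let σ : V₁.toScheme ⟶ (f ⁻¹ᵁ V₁).toScheme := inv (f.resLE V₁ U' hle) ≫ X.homOfLE hle
  have h1 : X.homOfLE hle ≫ (f ∣_ V₁) = f.resLE V₁ U' hle := by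
    rw [← Scheme.Hom.resLE_eq_morphismRestrict, Scheme.Hom.map_resLE]
  have hσ : σ ≫ (f ∣_ V₁) = 𝟙 _ := by
    rw [Category.assoc, h1, IsIso.inv_hom_id]
  haveI : IsDominant (X.homOfLE hle) := by
    constructor
    have hopen : IsOpen (Set.range (X.homOfLE hle)) := (X.homOfLE hle).isOpenEmbedding.isOpen_range
    apply hopen.dense
    obtain ⟨z, hz⟩ := hne
    exact ⟨_, ⟨⟨z, hz⟩, rfl⟩⟩
  have hσ' : (f ∣_ V₁) ≫ σ = 𝟙 _ := by
    apply ext_of_isDominant_of_isSeparated (f ∣_ V₁)
      (by rw [Category.assoc, hσ, Category.comp_id, Category.id_comp]) (X.homOfLE hle)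
    rw [← Category.assoc, h1, Category.comp_id, ← Category.assoc, IsIso.hom_inv_id,
      Category.id_comp]
  exact ⟨σ, hσ', hσ⟩

/-- **Birational ZMT near a normal point.** Let `f : X ⟶ Y` be separated and locally of finite type
between integral schemes, inducing an isomorphism on the stalks at the generic point. If `f` is
quasi-finite at `x` and `f x` is a normal point then `f` is an isomorphism over a neighbourhood of
`f x`. -/
theorem exists_isIso_morphismRestrict_of_birational {X Y : Scheme.{u}} [IsIntegral X]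
    [IsIntegral Y] (f : X ⟶ Y) [LocallyOfFiniteType f] [IsSeparated f]
    (hbir : IsIso (f.stalkMap (genericPoint X)))
    (x : X) (hqf : f.QuasiFiniteAt x) [IsIntegrallyClosed (Y.presheaf.stalk (f x))] :
    ∃ V : Y.Opens, f x ∈ V ∧ IsIso (f ∣_ V) := by
  obtain ⟨V₁, U', hle, hx, hiso⟩ := exists_isIso_resLE_of_birational f hbir x hqf
  exact ⟨V₁, hle hx, isIso_morphismRestrict_of_isIso_resLE f V₁ U' hle ⟨x, hx⟩ hiso⟩

/-- A morphism of integral schemes which is an isomorphism over a nonempty open induces an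
isomorphism on stalks at the generic point. -/
theorem isIso_stalkMap_genericPoint_of_isIso_morphismRestrict {X Y : Scheme.{u}} [IsIntegral X]
    (f : X ⟶ Y) (W : Y.Opens) (hW : (W : Set Y).Nonempty) (hfW : IsIso (f ∣_ W)) :
    IsIso (f.stalkMap (genericPoint X)) := by
  obtain ⟨w, hw⟩ := hW
  have hsurj : Function.Surjective (f ∣_ W) :=
    (ConcreteCategory.bijective_of_isIso (f ∣_ W).base).2
  let w' : (W : Scheme.{u}) := ⟨w, hw⟩
  obtain ⟨z, -⟩ := hsurj w'
  have hη : genericPoint X ∈ f ⁻¹ᵁ W :=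
    ((genericPoint_spec X).mem_open_set_iff (f ⁻¹ᵁ W).isOpen).mpr ⟨z.1, Set.mem_univ _, z.2⟩
  let η' : ((f ⁻¹ᵁ W : X.Opens) : Scheme.{u}) := ⟨genericPoint X, hη⟩
  have h1 : IsIso ((f ∣_ W).stalkMap η') := inferInstance
  exact ((MorphismProperty.isomorphisms _).arrow_mk_iso_iff
    (morphismRestrictStalkMap f W η')).mp h1

end Groth.Agent.Lib.Helper4.BirLocalIso
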