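import Mathlib

/-!
# Extending sections at normal points (helper4)

Algebraic core: Zariski's main theorem gives a retraction onto a normal local domain.
-/

open IsLocalRing

universe u

set_option linter.style.haveILetI false

namespace Groth.Agent.Lib.Helper4.RatExt

section Algebra

variable {A₀ B A K : Type*} [CommRing A₀] [CommRing B] [Algebra A₀ B]
  [CommRing A] [Algebra A₀ A] [Field K] [Algebra A K] [Algebra A₀ K] [IsScalarTower A₀ A K]

/-- An `A₀`-algebra map into `K` with values in the image of `A` lifts to `A`. -/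
theorem exists_algHom_of_forall_mem_range [FaithfulSMul A K] (φ : B →ₐ[A₀] K)
    (h : ∀ b, φ b ∈ (algebraMap A K).range) :
    ∃ l : B →ₐ[A₀] A, (IsScalarTower.toAlgHom A₀ A K).comp l = φ := by
  have hinj : Function.Injective (IsScalarTower.toAlgHom A₀ A K) :=
    FaithfulSMul.algebraMap_injective A K
  let e := AlgEquiv.ofInjective (IsScalarTower.toAlgHom A₀ A K) hinj
  have h' : ∀ b, φ b ∈ (IsScalarTower.toAlgHom A₀ A K).range := by
    intro b
    obtain ⟨a, ha⟩ := h b
    exact ⟨a, ha⟩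
  refine ⟨e.symm.toAlgHom.comp (φ.codRestrict _ h'), ?_⟩
  ext b
  change (IsScalarTower.toAlgHom A₀ A K) (e.symm (φ.codRestrict _ h' b)) = φ b
  have : (IsScalarTower.toAlgHom A₀ A K) (e.symm (φ.codRestrict _ h' b)) =
      (e (e.symm (φ.codRestrict _ h' b)) : K) := rfl
  rw [this, AlgEquiv.apply_symm_apply]
  rfl

/-- **ZMT core.** Let `A₀ → B` be of finite type and quasi-finite at a prime `p₁` of `B`, such that
the localization `A` of `A₀` at the prime below `p₁` is a normal domain with fraction field `K`.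
Any `A₀`-algebra map `φ : B → K` whose kernel is contained in `p₁` takes values in `A`. -/
theorem exists_algHom_of_quasiFiniteAt [Algebra.FiniteType A₀ B] [IsDomain A]
    [IsIntegrallyClosed A] [IsFractionRing A K]
    (p₁ : Ideal B) [p₁.IsPrime] [Algebra.QuasiFiniteAt A₀ p₁]
    (p₀ : Ideal A₀) [p₀.IsPrime] [p₁.LiesOver p₀] [IsLocalization.AtPrime A p₀]
    (φ : B →ₐ[A₀] K) (hker : RingHom.ker φ ≤ p₁) :
    ∃ l : B →ₐ[A₀] A, (IsScalarTower.toAlgHom A₀ A K).comp l = φ := by
  haveI : IsLocalRing A := IsLocalization.AtPrime.isLocalRing A p₀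
  have hp₀ : p₀ = p₁.under A₀ := Ideal.over_def p₁ p₀
  obtain ⟨S', hS', r, hrp, hbij⟩ :=
    Algebra.QuasiFiniteAt.exists_fg_and_exists_notMem_and_awayMap_bijective (R := A₀) p₁
  haveI hfin : Module.Finite A₀ S' := ⟨(Submodule.fg_top _).mpr hS'⟩
  -- integrality: `φ` maps `S'` into `A`
  have hS'A : ∀ s : S', φ s ∈ (algebraMap A K).range := by
    intro s
    have h1 : IsIntegral A₀ (s : B) := by
      have := Algebra.IsIntegral.isIntegral (R := A₀) s
      exact this.map S'.val
    have h2 : IsIntegral A₀ (φ s) := h1.map φ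
    have h3 : IsIntegral A (φ s) := h2.tower_top
    exact IsIntegrallyClosed.isIntegral_iff.mp h3
  -- `φ r` is a unit of `A`
  obtain ⟨a, ha⟩ := hS'A r
  have hau : IsUnit a := by
    by_contra hna
    have hm : a ∈ maximalIdeal A := (mem_maximalIdeal a).mpr hna
    obtain ⟨a₀, s₀, rfl⟩ := IsLocalization.exists_mk'_eq p₀.primeCompl a
    have ha₀ : a₀ ∈ p₀ := by
      rw [← IsLocalization.AtPrime.mk'_mem_maximal_iff A p₀ a₀ s₀]
      exact hm
    have h1 : φ ((r : B) * algebraMap A₀ B s₀ - algebraMap A₀ B a₀) = 0 := by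
      rw [map_sub, map_mul, ← ha, AlgHom.commutes, AlgHom.commutes,
        IsScalarTower.algebraMap_apply A₀ A K, IsScalarTower.algebraMap_apply A₀ A K,
        ← map_mul, IsLocalization.mk'_spec, sub_self]
    have h2 : (r : B) * algebraMap A₀ B s₀ - algebraMap A₀ B a₀ ∈ p₁ := hker h1
    have h3 : algebraMap A₀ B a₀ ∈ p₁ := by
      rw [hp₀] at ha₀
      exact ha₀
    have h4 : (r : B) * algebraMap A₀ B s₀ ∈ p₁ := by
      have := p₁.add_mem h2 h3
      simpa using this
    rcases (Ideal.IsPrime.mem_or_mem inferInstance h4) with h5 | h5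
    · exact hrp h5
    · have h6 : (s₀ : A₀) ∉ p₀ := s₀.2
      have h7 : (s₀ : A₀) ∈ p₁.under A₀ := h5
      exact h6 (hp₀.ge h7)
  apply exists_algHom_of_forall_mem_range
  intro b
  -- write `b = s / r^n`
  obtain ⟨z, hz⟩ := hbij.2 (algebraMap B (Localization.Away (r : B)) b)
  obtain ⟨s, ⟨_, n, rfl⟩, rfl⟩ := IsLocalization.exists_mk'_eq (Submonoid.powers r) z
  have h1 : algebraMap B (Localization.Away (r : B)) (s : B) =
      algebraMap B (Localization.Away (r : B)) (b * (r : B) ^ n) := by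
    have h0 : Localization.awayMap S'.val.toRingHom r
        (IsLocalization.mk' (Localization.Away r) s (⟨r ^ n, n, rfl⟩ : Submonoid.powers r)) =
        IsLocalization.mk' (Localization.Away (r : B)) (s : B)
          (⟨(r : B) ^ n, n, rfl⟩ : Submonoid.powers (r : B)) := by
      simp only [Localization.awayMap, IsLocalization.Away.map]
      rw [IsLocalization.map_mk']
      rfl
    rw [h0] at hz
    have hz' := (IsLocalization.mk'_eq_iff_eq_mul (M := Submonoid.powers (r : B))
      (S := Localization.Away (r : B))).mp hz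
    rw [hz', map_mul]
  obtain ⟨⟨_, m, rfl⟩, hm⟩ := (IsLocalization.eq_iff_exists (Submonoid.powers (r : B)) _).mp h1
  simp only at hm
  obtain ⟨as, has⟩ := hS'A s
  obtain ⟨ainv, hainv⟩ := hau.exists_left_inv
  have hr0 : φ (r : B) ≠ 0 := by
    rw [← ha]
    intro h0
    have : a = 0 := FaithfulSMul.algebraMap_injective A K (by rw [h0, map_zero])
    rw [this] at hau
    exact not_isUnit_zero hau
  have h2 : φ ((r : B) ^ m * (s : B)) = φ ((r : B) ^ m * (b * (r : B) ^ n)) := by rw [hm]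
  simp only [map_mul, map_pow] at h2
  have h3 : φ (s : B) = φ b * φ (r : B) ^ n := mul_left_cancel₀ (pow_ne_zero m hr0) h2
  refine ⟨as * ainv ^ n, ?_⟩
  rw [map_mul, map_pow, has, h3, mul_assoc, ← ha, ← mul_pow, ← map_mul, mul_comm a ainv, hainv,
    map_one, one_pow, mul_one]

end Algebra

section Geometry

open AlgebraicGeometry CategoryTheory

set_option backward.isDefEq.respectTransparency false in
/-- **Stalk lift.** Let `q : Y ⟶ X` be locally of finite type, `y₁ ∈ Y` a point at which `q` is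
quasi-finite and such that the local ring of `X` at `q y₁` is a normal domain with fraction field
`K`. Any `K`-point `t` of `Y` over the generic point of `Spec 𝒪_{X,q y₁}` which specializes to `y₁`
extends to a morphism `Spec 𝒪_{X,q y₁} ⟶ Y` over `X`. -/
theorem exists_stalk_lift {X Y : Scheme.{u}} (q : Y ⟶ X) [LocallyOfFiniteType q] (y₁ : Y)
    [IsDomain (X.presheaf.stalk (q y₁))] [IsIntegrallyClosed (X.presheaf.stalk (q y₁))]
    (hqf : q.QuasiFiniteAt y₁)
    (t : Spec (CommRingCat.of (FractionRing (X.presheaf.stalk (q y₁)))) ⟶ Y)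
    (ht : t ≫ q = Spec.map (CommRingCat.ofHom (algebraMap (X.presheaf.stalk (q y₁))
      (FractionRing (X.presheaf.stalk (q y₁))))) ≫ X.fromSpecStalk (q y₁))
    (hsp : t (closedPoint (FractionRing (X.presheaf.stalk (q y₁)))) ⤳ y₁) :
    ∃ l : Spec (X.presheaf.stalk (q y₁)) ⟶ Y, l ≫ q = X.fromSpecStalk (q y₁) ∧
      Spec.map (CommRingCat.ofHom (algebraMap (X.presheaf.stalk (q y₁))
        (FractionRing (X.presheaf.stalk (q y₁))))) ≫ l = t := by
  obtain ⟨_, ⟨W, hW, rfl⟩, hxW, -⟩ := X.isBasis_affineOpens.exists_subset_of_mem_open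
    (Set.mem_univ (q y₁)) isOpen_univ
  obtain ⟨_, ⟨V, hV, rfl⟩, hyV, hVW : V ≤ q ⁻¹ᵁ W⟩ :=
    Y.isBasis_affineOpens.exists_subset_of_mem_open hxW (q ⁻¹ᵁ W).2
  have hft : (q.appLE W V hVW).hom.FiniteType := q.finiteType_appLE hW hV hVW
  algebraize [(q.appLE W V hVW).hom]
  have hlo : (hV.primeIdealOf ⟨y₁, hyV⟩).asIdeal.LiesOver
      (hW.primeIdealOf ⟨q y₁, hxW⟩).asIdeal := by
    suffices hW.primeIdealOf ⟨q y₁, hxW⟩ =
        Spec.map (q.appLE W V hVW) (hV.primeIdealOf ⟨y₁, hyV⟩) from ⟨congr(($this).1)⟩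
    apply hW.isoSpec.inv.homeomorph.injective
    apply Subtype.ext
    simp only [IsAffineOpen.primeIdealOf, Scheme.Hom.homeomorph_apply,
      ← Scheme.Hom.comp_apply, ← Scheme.Opens.ι_apply, IsAffineOpen.isoSpec_hom]
    simp
  have hqf' : Algebra.QuasiFiniteAt Γ(X, W) (hV.primeIdealOf ⟨y₁, hyV⟩).asIdeal :=
    hqf.quasiFiniteAt hV hW hVW hyV
  letI algA : Algebra Γ(X, W) ↑(X.presheaf.stalk (q y₁)) := (X.presheaf.germ W (q y₁) hxW).hom.toAlgebra
  have hloc : IsLocalization.AtPrime ↑(X.presheaf.stalk (q y₁)) (hW.primeIdealOf ⟨q y₁, hxW⟩).asIdeal :=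
    hW.isLocalization_stalk ⟨q y₁, hxW⟩
  haveI : IsScalarTower Γ(X, W) ↑(X.presheaf.stalk (q y₁)) (FractionRing ↑(X.presheaf.stalk (q y₁))) := inferInstance
  have hKmap : ∀ a : Γ(X, W), algebraMap Γ(X, W) (FractionRing ↑(X.presheaf.stalk (q y₁))) a = algebraMap ↑(X.presheaf.stalk (q y₁)) (FractionRing ↑(X.presheaf.stalk (q y₁))) (algebraMap Γ(X, W) ↑(X.presheaf.stalk (q y₁)) a) :=
    fun a => IsScalarTower.algebraMap_apply Γ(X, W) ↑(X.presheaf.stalk (q y₁)) (FractionRing ↑(X.presheaf.stalk (q y₁))) a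
  -- the `(FractionRing ↑(X.presheaf.stalk (q y₁)))`-point factors through `V`
  have hpt : ∀ pt : Spec (CommRingCat.of (FractionRing ↑(X.presheaf.stalk (q y₁)))), pt = closedPoint (FractionRing ↑(X.presheaf.stalk (q y₁))) := fun pt => Subsingleton.elim _ _
  have htV : Set.range t ⊆ Set.range hV.fromSpec := by
    rintro _ ⟨pt, rfl⟩
    rw [hV.range_fromSpec, hpt pt]
    exact hsp.mem_open V.2 hyV
  let t' : Spec (CommRingCat.of (FractionRing ↑(X.presheaf.stalk (q y₁)))) ⟶ Spec Γ(Y, V) := IsOpenImmersion.lift hV.fromSpec t htV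
  have ht' : t' ≫ hV.fromSpec = t := IsOpenImmersion.lift_fac _ _ _
  let φ' : Γ(Y, V) ⟶ CommRingCat.of (FractionRing ↑(X.presheaf.stalk (q y₁))) := Spec.preimage t'
  have hφ' : Spec.map φ' = t' := Spec.map_preimage t'
  have hcomp : q.appLE W V hVW ≫ φ' =
      X.presheaf.germ W (q y₁) hxW ≫ CommRingCat.ofHom (algebraMap ↑(X.presheaf.stalk (q y₁)) (FractionRing ↑(X.presheaf.stalk (q y₁)))) := by
    apply Spec.map_injective
    rw [← cancel_mono hW.fromSpec]
    rw [Spec.map_comp, Category.assoc, IsAffineOpen.SpecMap_appLE_fromSpec q hW hV hVW, ← Category.assoc, hφ',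
      ht', ht, Spec.map_comp, Category.assoc, ← hW.fromSpecStalk_eq_fromSpecStalk hxW,
      IsAffineOpen.fromSpecStalk]
  let φ : Γ(Y, V) →ₐ[Γ(X, W)] (FractionRing ↑(X.presheaf.stalk (q y₁))) :=
    { φ'.hom with
      commutes' := fun a => by
        have := congr(($hcomp).hom a)
        rw [hKmap]
        exact this }
  have hker : RingHom.ker φ ≤ (hV.primeIdealOf ⟨y₁, hyV⟩).asIdeal := by
    have h1 : t' (closedPoint (FractionRing ↑(X.presheaf.stalk (q y₁)))) ⤳ hV.primeIdealOf ⟨y₁, hyV⟩ := by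
      rw [← hV.fromSpec.isOpenEmbedding.isInducing.specializes_iff]
      rw [hV.fromSpec_primeIdealOf]
      have : hV.fromSpec (t' (closedPoint (FractionRing ↑(X.presheaf.stalk (q y₁))))) = t (closedPoint (FractionRing ↑(X.presheaf.stalk (q y₁)))) := by
        rw [← Scheme.Hom.comp_apply, ht']
      rw [this]
      exact hsp
    have h2 := (PrimeSpectrum.le_iff_specializes _ _).mpr h1
    intro b hb
    apply h2
    rw [← hφ']
    change φ'.hom b ∈ (closedPoint (FractionRing ↑(X.presheaf.stalk (q y₁)))).asIdeal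
    rw [show φ'.hom b = 0 from hb]
    exact zero_mem _
  obtain ⟨l₀, hl₀⟩ := exists_algHom_of_quasiFiniteAt (A₀ := Γ(X, W)) (B := Γ(Y, V)) (A := ↑(X.presheaf.stalk (q y₁))) (K := (FractionRing ↑(X.presheaf.stalk (q y₁))))
    (hV.primeIdealOf ⟨y₁, hyV⟩).asIdeal (hW.primeIdealOf ⟨q y₁, hxW⟩).asIdeal φ hker
  refine ⟨Spec.map (CommRingCat.ofHom l₀.toRingHom) ≫ hV.fromSpec, ?_, ?_⟩
  · rw [Category.assoc, ← IsAffineOpen.SpecMap_appLE_fromSpec q hW hV hVW, ← Category.assoc,
      ← Spec.map_comp, ← hW.fromSpecStalk_eq_fromSpecStalk hxW, IsAffineOpen.fromSpecStalk]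
    congr 2
    ext a
    exact l₀.commutes a
  · rw [← Category.assoc, ← Spec.map_comp, ← ht', ← hφ']
    congr 2
    ext b
    exact congr($hl₀ b)

/-- The two-element open cover of `U ⊔ V` by `U` and `V` (after helper26, S9701). -/
noncomputable def coverSup {X : Scheme.{u}} (U V : X.Opens) : (U ⊔ V).toScheme.OpenCover where
  I₀ := Bool
  X b := (cond b U V).toScheme
  f b := X.homOfLE (by cases b <;> simp)
  mem₀ := by
    rw [Scheme.presieve₀_mem_precoverage_iff]
    refine ⟨fun x ↦ ?_, fun b => by infer_instance⟩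
    rcases x.2 with h | h
    · exact ⟨true, ⟨x.1, h⟩, Subtype.ext (by simp)⟩
    · exact ⟨false, ⟨x.1, h⟩, Subtype.ext (by simp)⟩

lemma fst_comp_eq_snd_comp {X Y : Scheme.{u}} {A B W : X.Opens} (hA : A ≤ W) (hB : B ≤ W)
    (a : A.toScheme ⟶ Y) (b : B.toScheme ⟶ Y)
    (h : X.homOfLE (inf_le_left : A ⊓ B ≤ A) ≫ a = X.homOfLE (inf_le_right : A ⊓ B ≤ B) ≫ b) :
    Limits.pullback.fst (X.homOfLE hA) (X.homOfLE hB) ≫ a = Limits.pullback.snd _ _ ≫ b := by
  refine (cancel_epi (isPullback_opens_inf_le hA hB).isoPullback.hom).mp ?_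
  rw [IsPullback.isoPullback_hom_fst_assoc, IsPullback.isoPullback_hom_snd_assoc]
  exact h

set_option backward.isDefEq.respectTransparency false in
/-- Glue two morphisms defined on opens `U`, `V` agreeing on `U ⊓ V` (after helper26, S9701). -/
lemma exists_glue_two {X Y : Scheme.{u}} (U V : X.Opens) (f : U.toScheme ⟶ Y) (g : V.toScheme ⟶ Y)
    (h : X.homOfLE (inf_le_left : U ⊓ V ≤ U) ≫ f = X.homOfLE (inf_le_right : U ⊓ V ≤ V) ≫ g) :
    ∃ k : (U ⊔ V).toScheme ⟶ Y, X.homOfLE (le_sup_left : U ≤ U ⊔ V) ≫ k = f ∧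
      X.homOfLE (le_sup_right : V ≤ U ⊔ V) ≫ k = g := by
  have h' : ∀ (T : X.Opens) (hTU : T ≤ U) (hTV : T ≤ V),
      X.homOfLE hTU ≫ f = X.homOfLE hTV ≫ g := by
    intro T hTU hTV
    rw [← X.homOfLE_homOfLE (le_inf hTU hTV) inf_le_left,
      ← X.homOfLE_homOfLE (le_inf hTU hTV) inf_le_right, Category.assoc, Category.assoc, h]
  let F : ∀ b : Bool, (coverSup U V).X b ⟶ Y := fun b =>
    match b with
    | true => f
    | false => g
  have hF : ∀ x y, Limits.pullback.fst ((coverSup U V).f x) ((coverSup U V).f y) ≫ F x =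
      Limits.pullback.snd _ _ ≫ F y := by
    intro x y
    match x, y with
    | true, true => exact fst_comp_eq_snd_comp le_sup_left le_sup_left f f rfl
    | true, false => exact fst_comp_eq_snd_comp le_sup_left le_sup_right f g (h' _ _ _)
    | false, true => exact fst_comp_eq_snd_comp le_sup_right le_sup_left g f (h' _ _ _).symm
    | false, false => exact fst_comp_eq_snd_comp le_sup_right le_sup_right g g rfl
  refine ⟨(coverSup U V).glueMorphisms F hF, ?_, ?_⟩
  · exact (coverSup U V).ι_glueMorphisms F hF true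
  · exact (coverSup U V).ι_glueMorphisms F hF false

lemma fromSpecStalkOfMem_homOfLE {X : Scheme.{u}} {V V' : X.Opens} (hVV' : V ≤ V') (x : X)
    (hxV : x ∈ V) :
    V.fromSpecStalkOfMem x hxV ≫ X.homOfLE hVV' = V'.fromSpecStalkOfMem x (hVV' hxV) := by
  rw [← cancel_mono V'.ι, Category.assoc, Scheme.homOfLE_ι, Scheme.Opens.fromSpecStalkOfMem_ι,
    Scheme.Opens.fromSpecStalkOfMem_ι]

/-- The generic point of `Spec 𝒪_{X,x}` (for `𝒪_{X,x}` a domain), as a morphism to `X`. -/
noncomputable abbrev genericHom (X : Scheme.{u}) (x : X) :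
    Spec (CommRingCat.of (FractionRing (X.presheaf.stalk x))) ⟶ X :=
  Spec.map (CommRingCat.ofHom (algebraMap (X.presheaf.stalk x)
    (FractionRing (X.presheaf.stalk x)))) ≫ X.fromSpecStalk x

/-- The generic point of `Spec 𝒪_{X,x}` specializes to every generization of `x`. -/
lemma genericHom_specializes {X : Scheme.{u}} (x : X) [IsDomain (X.presheaf.stalk x)]
    (η : X) (hη : η ⤳ x) :
    genericHom X x (closedPoint (FractionRing (X.presheaf.stalk x))) ⤳ η := by
  have : η ∈ Set.range (X.fromSpecStalk x) := by rw [Scheme.range_fromSpecStalk]; exact hη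
  obtain ⟨𝔭, rfl⟩ := this
  change X.fromSpecStalk x (Spec.map (CommRingCat.ofHom (algebraMap (X.presheaf.stalk x)
    (FractionRing (X.presheaf.stalk x)))) (closedPoint _)) ⤳ _
  apply Specializes.map _ (X.fromSpecStalk x).continuous
  refine (PrimeSpectrum.le_iff_specializes _ _).mp ?_
  intro a ha
  change algebraMap (X.presheaf.stalk x) (FractionRing (X.presheaf.stalk x)) a ∈
    maximalIdeal (FractionRing (X.presheaf.stalk x)) at ha
  rw [IsLocalRing.maximalIdeal_eq_bot, Ideal.mem_bot] at ha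
  have : a = 0 := (IsFractionRing.injective (X.presheaf.stalk x)
    (FractionRing (X.presheaf.stalk x))) (by rw [ha, map_zero])
  rw [this]; exact zero_mem _

/-- An integral affine open neighbourhood of a germ-injective point with domain stalk, all of whose
points are specializations of the generic point of `Spec 𝒪_{X,x}`. -/
lemma exists_integral_nhd {X : Scheme.{u}} (x : X) [X.IsGermInjectiveAt x]
    [IsDomain (X.presheaf.stalk x)] :
    ∃ V₀ : X.Opens, x ∈ V₀ ∧ IsAffineOpen V₀ ∧ IsIntegral V₀.toScheme ∧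
      ∀ v : X, v ∈ V₀ →
        genericHom X x (closedPoint (FractionRing (X.presheaf.stalk x))) ⤳ v := by
  obtain ⟨V₀, hxV₀, hV₀aff, hinj⟩ := X.exists_germ_injective x
  haveI : IsDomain Γ(X, V₀) := Function.Injective.isDomain (X.presheaf.germ V₀ x hxV₀).hom hinj
  haveI : IsAffine V₀.toScheme := hV₀aff
  haveI : Nonempty V₀.toScheme := ⟨⟨x, hxV₀⟩⟩
  haveI : IsDomain Γ(V₀.toScheme, ⊤) := Function.Injective.isDomain (V₀.topIso).hom.hom
    (ConcreteCategory.bijective_of_isIso (V₀.topIso).hom).1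
  haveI : IsIntegral V₀.toScheme := isIntegral_of_isAffine_of_isDomain _
  refine ⟨V₀, hxV₀, hV₀aff, inferInstance, ?_⟩
  intro v hv
  have h1 : (genericPoint V₀.toScheme) ⤳ (⟨x, hxV₀⟩ : V₀.toScheme) := genericPoint_specializes _
  have h2 : (genericPoint V₀.toScheme) ⤳ (⟨v, hv⟩ : V₀.toScheme) := genericPoint_specializes _
  have h1' := h1.map V₀.ι.continuous
  have h2' := h2.map V₀.ι.continuous
  exact (genericHom_specializes x _ h1').trans h2'

/-- If `x` lies in the closure of an open `U`, the generic point of `Spec 𝒪_{X,x}` lies in `U`. -/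
lemma genericHom_mem {X : Scheme.{u}} (x : X) [X.IsGermInjectiveAt x]
    [IsDomain (X.presheaf.stalk x)] (U : X.Opens) (hx : x ∈ closure (U : Set X)) :
    genericHom X x (closedPoint (FractionRing (X.presheaf.stalk x))) ∈ U := by
  obtain ⟨V₀, hxV₀, -, -, hF0⟩ := exists_integral_nhd x
  obtain ⟨v, hvV₀, hvU⟩ := mem_closure_iff.mp hx V₀ V₀.2 hxV₀
  exact (hF0 v hvV₀).mem_open U.2 hvU

lemma range_genericHom_subset {X : Scheme.{u}} (x : X) [IsDomain (X.presheaf.stalk x)]
    (U : X.Opens)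
    (hξ : genericHom X x (closedPoint (FractionRing (X.presheaf.stalk x))) ∈ U) :
    Set.range (genericHom X x) ⊆ Set.range U.ι := by
  rintro _ ⟨pt, rfl⟩
  rw [Subsingleton.elim pt (closedPoint (FractionRing (X.presheaf.stalk x))),
    Scheme.Opens.range_ι]
  exact hξ

/-- **Extension from a stalk lift.** Let `q : Y ⟶ S` be separated and locally of finite type,
`x` a germ-injective point of `X` whose stalk is a domain, `f : U ⟶ Y` an `S`-morphism on an open
`U`, and `l : Spec 𝒪_{X,x} ⟶ Y` an `S`-morphism agreeing with `f` at the generic point. Then `f`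
extends to an open containing `U` and `x`, inducing `l`. -/
theorem exists_extension_of_stalk_lift {X Y S : Scheme.{u}} (p : X ⟶ S) (q : Y ⟶ S)
    [IsSeparated q] [LocallyOfFiniteType q] (x : X) [X.IsGermInjectiveAt x]
    [IsDomain (X.presheaf.stalk x)]
    (U : X.Opens) (f : U.toScheme ⟶ Y) (hf : f ≫ q = U.ι ≫ p)
    (jU : Spec (CommRingCat.of (FractionRing (X.presheaf.stalk x))) ⟶ U.toScheme)
    (hjU : jU ≫ U.ι = genericHom X x)
    (l : Spec (X.presheaf.stalk x) ⟶ Y) (hl2 : l ≫ q = X.fromSpecStalk x ≫ p)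
    (hl1 : Spec.map (CommRingCat.ofHom (algebraMap (X.presheaf.stalk x)
      (FractionRing (X.presheaf.stalk x)))) ≫ l = jU ≫ f) :
    ∃ (U' : X.Opens) (hUU' : U ≤ U') (hxU' : x ∈ U') (f' : U'.toScheme ⟶ Y),
      f' ≫ q = U'.ι ≫ p ∧ X.homOfLE hUU' ≫ f' = f ∧ U'.fromSpecStalkOfMem x hxU' ≫ f' = l := by
  classical
  obtain ⟨V₀, hxV₀, hV₀aff, hV₀int, hF0⟩ := exists_integral_nhd x
  set ξ : X := genericHom X x (closedPoint (FractionRing (X.presheaf.stalk x))) with hξ
  have hξx : ξ ⤳ x := genericHom_specializes x x specializes_rfl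
  have hξU : ξ ∈ U := by
    have : ξ = U.ι (jU (closedPoint (FractionRing (X.presheaf.stalk x)))) := by
      rw [hξ, ← hjU]
      rfl
    rw [this]
    exact (jU (closedPoint (FractionRing (X.presheaf.stalk x)))).2
  obtain ⟨V₁, hxV₁, f₁, hlf₁, hf₁⟩ := spread_out_of_isGermInjective' p q l hl2
  set V₂ : X.Opens := V₁ ⊓ V₀ with hV₂
  have hxV₂ : x ∈ V₂ := ⟨hxV₁, hxV₀⟩
  set T : X.Opens := U ⊓ V₂ with hT
  have hTU : T ≤ U := inf_le_left
  have hTV₂ : T ≤ V₂ := inf_le_right
  have hTV₁ : T ≤ V₁ := hTV₂.trans inf_le_left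
  have hTV₀ : T ≤ V₀ := hTV₂.trans inf_le_right
  have hξT : ξ ∈ T := ⟨hξU, hξx.mem_open V₁.2 hxV₁, hξx.mem_open V₀.2 hxV₀⟩
  have hjKT : Set.range (genericHom X x) ⊆ Set.range T.ι := range_genericHom_subset x T hξT
  let jT : Spec (CommRingCat.of (FractionRing (X.presheaf.stalk x))) ⟶ T.toScheme :=
    IsOpenImmersion.lift T.ι (genericHom X x) hjKT
  have hjT : jT ≫ T.ι = genericHom X x := IsOpenImmersion.lift_fac _ _ _
  haveI : IsReduced T.toScheme := isReduced_of_isOpenImmersion (X.homOfLE hTV₀)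
  haveI : IsDominant jT := by
    constructor
    intro t
    have h1 : jT (closedPoint _) ⤳ t := by
      rw [← T.ι.isOpenEmbedding.isInducing.specializes_iff]
      have : T.ι (jT (closedPoint _)) = ξ := by
        change (jT ≫ T.ι) (closedPoint _) = ξ
        rw [hjT]
      rw [this]
      exact hF0 _ (hTV₀ t.2)
    exact closure_mono (Set.singleton_subset_iff.mpr (Set.mem_range_self (closedPoint _)))
      (specializes_iff_mem_closure.mp h1)
  have hab : X.homOfLE hTU ≫ f = X.homOfLE hTV₁ ≫ f₁ := by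
    apply ext_of_isDominant_of_isSeparated q _ jT
    · have e1 : jT ≫ X.homOfLE hTU = jU := by
        rw [← cancel_mono U.ι, Category.assoc, Scheme.homOfLE_ι, hjT, hjU]
      have e2 : jT ≫ X.homOfLE hTV₁ =
          Spec.map (CommRingCat.ofHom (algebraMap (X.presheaf.stalk x)
            (FractionRing (X.presheaf.stalk x)))) ≫ V₁.fromSpecStalkOfMem x hxV₁ := by
        rw [← cancel_mono V₁.ι, Category.assoc, Scheme.homOfLE_ι, hjT, Category.assoc,
          Scheme.Opens.fromSpecStalkOfMem_ι]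
      rw [← Category.assoc, e1, ← Category.assoc, e2, Category.assoc, ← hlf₁, hl1]
    · rw [Category.assoc, hf, Category.assoc, hf₁, ← Category.assoc, ← Category.assoc,
        Scheme.homOfLE_ι, Scheme.homOfLE_ι]
  obtain ⟨k, hk1, hk2⟩ := exists_glue_two U V₂ f (X.homOfLE (inf_le_left : V₂ ≤ V₁) ≫ f₁) (by
    rw [← Category.assoc, Scheme.homOfLE_homOfLE]
    exact hab)
  refine ⟨U ⊔ V₂, le_sup_left, Or.inr hxV₂, k, ?_, hk1, ?_⟩
  · apply (coverSup U V₂).hom_ext
    intro b
    match b with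
    | true =>
      change X.homOfLE (le_sup_left : U ≤ U ⊔ V₂) ≫ k ≫ q =
        X.homOfLE (le_sup_left : U ≤ U ⊔ V₂) ≫ (U ⊔ V₂).ι ≫ p
      rw [← Category.assoc, hk1, hf, ← Category.assoc, Scheme.homOfLE_ι]
    | false =>
      change X.homOfLE (le_sup_right : V₂ ≤ U ⊔ V₂) ≫ k ≫ q =
        X.homOfLE (le_sup_right : V₂ ≤ U ⊔ V₂) ≫ (U ⊔ V₂).ι ≫ p
      rw [← Category.assoc, hk2, Category.assoc, hf₁, ← Category.assoc, ← Category.assoc,
        Scheme.homOfLE_ι, Scheme.homOfLE_ι]
  · rw [← fromSpecStalkOfMem_homOfLE (le_sup_right : V₂ ≤ U ⊔ V₂) x hxV₂, Category.assoc, hk2,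
      ← Category.assoc, fromSpecStalkOfMem_homOfLE, ← hlf₁]

end Geometry

end Groth.Agent.Lib.Helper4.RatExt
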