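/-
Helper library (helper4): a proper (more generally: valuative-existence) separated birational
morphism of integral schemes, locally of finite type, is an isomorphism over a neighbourhood of any
point of the target whose local ring is a valuation ring (e.g. a normal Noetherian local domain of
dimension ≤ 1).
-/
import Mathlib
import Groth.Agent.Lib.Helper4RatExt
import Groth.Agent.Lib.Helper4BirLocalIso2

set_option autoImplicit false
set_option linter.style.haveILetI false
universe u

open AlgebraicGeometry CategoryTheory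

namespace Groth.Agent.Lib.Helper4.BirLocalIso

open Groth.Agent.Lib.Helper4.RatExt

/-- A normal Noetherian local domain of dimension at most one is a valuation ring. -/
theorem valuationRing_of_normal_dim_le_one (R : Type*) [CommRing R] [IsDomain R] [IsLocalRing R]
    [IsNoetherianRing R] [IsIntegrallyClosed R] (h : ringKrullDim R ≤ 1) : ValuationRing R := by
  by_cases hF : IsField R
  · refine { toPreValuationRing := ⟨fun a b => ?_⟩ }
    by_cases ha : a = 0
    · exact ⟨0, Or.inr (by rw [ha, mul_zero])⟩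
    · obtain ⟨a', ha'⟩ := hF.mul_inv_cancel ha
      exact ⟨a' * b, Or.inl (by rw [← mul_assoc, ha', one_mul])⟩
  · haveI : Ring.KrullDimLE 1 R := Ring.krullDimLE_iff.mpr (by exact_mod_cast h)
    haveI : Ring.DimensionLEOne R :=
      ⟨fun {p} hp hp' => Ring.krullDimLE_one_iff_of_noZeroDivisors.mp ‹_› p hp hp'⟩
    haveI ded : IsDedekindDomain R := { }
    exact ((IsDiscreteValuationRing.TFAE R hF).out 2 1).mp ded

/-- If `f : X ⟶ Y` is separated with `X` integral, `f` is an isomorphism over a nonempty open `V`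
and the inverse extends to a section `h'` of `f` over an open `V' ⊇ V`, then `f` is an isomorphism
over `V'`. -/
theorem isIso_morphismRestrict_of_section {X Y : Scheme.{u}} [IsIntegral X]
    (f : X ⟶ Y) [IsSeparated f] (V V' : Y.Opens) (hVV' : V ≤ V')
    (hne : ((f ⁻¹ᵁ V : X.Opens) : Set X).Nonempty) [IsIso (f ∣_ V)]
    (h' : V'.toScheme ⟶ X) (hh' : h' ≫ f = V'.ι)
    (hres : Y.homOfLE hVV' ≫ h' = inv (f ∣_ V) ≫ (f ⁻¹ᵁ V).ι) : IsIso (f ∣_ V') := by
  have hrange : Set.range h' ⊆ Set.range (f ⁻¹ᵁ V').ι := by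
    rintro _ ⟨v, rfl⟩
    rw [Scheme.Opens.range_ι]
    change f (h' v) ∈ V'
    have : f (h' v) = V'.ι v := by
      rw [← hh']; rfl
    rw [this]
    exact v.2
  let σ : V'.toScheme ⟶ (f ⁻¹ᵁ V').toScheme := IsOpenImmersion.lift (f ⁻¹ᵁ V').ι h' hrange
  have hσι : σ ≫ (f ⁻¹ᵁ V').ι = h' := IsOpenImmersion.lift_fac _ _ _
  have hσ : σ ≫ (f ∣_ V') = 𝟙 _ := by
    rw [← cancel_mono V'.ι, Category.assoc, morphismRestrict_ι, ← Category.assoc, hσι, hh',
      Category.id_comp]
  have hle : f ⁻¹ᵁ V ≤ f ⁻¹ᵁ V' := fun _ hx => hVV' hx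
  haveI : Nonempty (f ⁻¹ᵁ V') := ⟨⟨hne.some, hle hne.some_mem⟩⟩
  haveI : IsDominant (X.homOfLE hle) := by
    constructor
    have hopen : IsOpen (Set.range (X.homOfLE hle)) := (X.homOfLE hle).isOpenEmbedding.isOpen_range
    apply hopen.dense
    obtain ⟨z, hz⟩ := hne
    exact ⟨_, ⟨⟨z, hz⟩, rfl⟩⟩
  have hnat : X.homOfLE hle ≫ (f ∣_ V') = (f ∣_ V) ≫ Y.homOfLE hVV' := by
    rw [← cancel_mono V'.ι, Category.assoc, morphismRestrict_ι, Scheme.homOfLE_ι_assoc,
      Category.assoc, Scheme.homOfLE_ι, morphismRestrict_ι]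
  have hσ' : (f ∣_ V') ≫ σ = 𝟙 _ := by
    apply ext_of_isDominant_of_isSeparated (f ∣_ V')
      (by rw [Category.assoc, hσ, Category.comp_id, Category.id_comp]) (X.homOfLE hle)
    rw [← Category.assoc, hnat, Category.comp_id, ← cancel_mono (f ⁻¹ᵁ V').ι, Category.assoc,
      Category.assoc, hσι, hres, IsIso.hom_inv_id_assoc, Scheme.homOfLE_ι]
  exact ⟨σ, hσ', hσ⟩

set_option backward.isDefEq.respectTransparency false in
/-- A separated morphism locally of finite type between integral schemes, satisfying the existence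
part of the valuative criterion, which is an isomorphism over a nonempty open, is an isomorphism
over a neighbourhood of every point of the target whose local ring is a valuation ring. -/
theorem exists_isIso_morphismRestrict_of_valuationRing {X Y : Scheme.{u}} [IsIntegral X]
    [IsIntegral Y] (f : X ⟶ Y) [LocallyOfFiniteType f] [IsSeparated f]
    (hval : ValuativeCriterion.Existence f)
    (V : Y.Opens) (hV : (V : Set Y).Nonempty) (hfV : IsIso (f ∣_ V))
    (y : Y) [ValuationRing (Y.presheaf.stalk y)] :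
    ∃ V' : Y.Opens, y ∈ V' ∧ IsIso (f ∣_ V') := by
  have hVd : Dense (V : Set Y) := V.2.dense hV
  have hξ := genericHom_mem y V (hVd.closure_eq ▸ Set.mem_univ y)
  let jU : Spec (CommRingCat.of (FractionRing (Y.presheaf.stalk y))) ⟶ V.toScheme :=
    IsOpenImmersion.lift V.ι (genericHom Y y) (range_genericHom_subset y V hξ)
  have hjU : jU ≫ V.ι = genericHom Y y := IsOpenImmersion.lift_fac _ _ _
  let h : V.toScheme ⟶ X := inv (f ∣_ V) ≫ (f ⁻¹ᵁ V).ι
  have hh : h ≫ f = V.ι := by
    rw [Category.assoc, ← morphismRestrict_ι, IsIso.inv_hom_id_assoc]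
  let S : ValuativeCommSq f :=
    { R := Y.presheaf.stalk y
      K := FractionRing (Y.presheaf.stalk y)
      i₁ := jU ≫ h
      i₂ := Y.fromSpecStalk y
      commSq := ⟨by rw [Category.assoc, hh, hjU]⟩ }
  obtain ⟨⟨l, hl1, hl2⟩⟩ := (hval S).exists_lift
  obtain ⟨V', hVV', hyV', h', hh', hres, -⟩ := exists_extension_of_stalk_lift (𝟙 Y) f y V h
    (by rw [hh, Category.comp_id]) jU hjU l (by rw [Category.comp_id]; exact hl2) hl1
  refine ⟨V', hyV', ?_⟩
  have hne : ((f ⁻¹ᵁ V : X.Opens) : Set X).Nonempty := by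
    obtain ⟨w, hw⟩ := hV
    let w' : (V : Scheme.{u}) := ⟨w, hw⟩
    have hsurj : Function.Surjective (f ∣_ V) :=
      (ConcreteCategory.bijective_of_isIso (f ∣_ V).base).2
    obtain ⟨z, -⟩ := hsurj w'
    exact ⟨z.1, z.2⟩
  exact isIso_morphismRestrict_of_section f V V' hVV' hne h' (by rw [hh', Category.comp_id]) hres

end Groth.Agent.Lib.Helper4.BirLocalIso
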