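/-
Helper library (helper4): a rational map from an integral scheme all of whose local rings are
valuation rings (e.g. a normal curve, a Dedekind scheme) to a scheme `Y`, separated and locally of
finite type over `S` and satisfying the existence part of the valuative criterion (e.g. proper over
`S`), extends uniquely to a morphism.
-/
import Mathlib
import Groth.Agent.Lib.Helper4RatExt
import Groth.Agent.Lib.Helper4BirDimOne

set_option autoImplicit false
set_option linter.style.haveILetI false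
universe u

open AlgebraicGeometry CategoryTheory

namespace Groth.Agent.Lib.Helper4.RatMapExt

open Groth.Agent.Lib.Helper4.RatExt

/-- Glue a family of morphisms defined on an open cover, agreeing on pairwise intersections. -/
lemma exists_glue_family {X Y : Scheme.{u}} {ι : Type u} (U : ι → X.Opens)
    (hU : TopologicalSpace.IsOpenCover U) (f : ∀ i, (U i).toScheme ⟶ Y)
    (h : ∀ i j, X.homOfLE (inf_le_left : U i ⊓ U j ≤ U i) ≫ f i =
      X.homOfLE (inf_le_right : U i ⊓ U j ≤ U j) ≫ f j) :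
    ∃ k : X ⟶ Y, ∀ i, (U i).ι ≫ k = f i := by
  let 𝒰 := X.openCoverOfIsOpenCover U hU
  have hF' : ∀ x y : ι, Limits.pullback.fst (U x).ι (U y).ι ≫ f x =
      Limits.pullback.snd (U x).ι (U y).ι ≫ f y := by
    intro x y
    refine (cancel_epi (isPullback_opens_inf (U x) (U y)).isoPullback.hom).mp ?_
    rw [IsPullback.isoPullback_hom_fst_assoc, IsPullback.isoPullback_hom_snd_assoc]
    exact h x y
  have hF : ∀ x y, Limits.pullback.fst (𝒰.f x) (𝒰.f y) ≫ f x =
      Limits.pullback.snd _ _ ≫ f y := fun x y => hF' x y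
  exact ⟨𝒰.glueMorphisms f hF, fun i => 𝒰.ι_glueMorphisms f hF i⟩

set_option backward.isDefEq.respectTransparency false in
/-- **Extension of rational maps.** -/
theorem exists_extension_of_valuationRing {X Y S : Scheme.{u}} (p : X ⟶ S) (q : Y ⟶ S)
    [IsSeparated q] [LocallyOfFiniteType q] (hval : ValuativeCriterion.Existence q)
    [IsIntegral X] (hX : ∀ x : X, ValuationRing (X.presheaf.stalk x))
    (U : X.Opens) (hU : (U : Set X).Nonempty) (f : U.toScheme ⟶ Y) (hf : f ≫ q = U.ι ≫ p) :
    ∃ f' : X ⟶ Y, f' ≫ q = p ∧ U.ι ≫ f' = f := by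
  have hUd : Dense (U : Set X) := U.2.dense hU
  have key : ∀ x : X, ∃ (U' : X.Opens) (hUU' : U ≤ U') (_ : x ∈ U') (f' : U'.toScheme ⟶ Y),
      f' ≫ q = U'.ι ≫ p ∧ X.homOfLE hUU' ≫ f' = f := by
    intro x
    haveI := hX x
    have hξ := genericHom_mem x U (hUd.closure_eq ▸ Set.mem_univ x)
    let jU : Spec (CommRingCat.of (FractionRing (X.presheaf.stalk x))) ⟶ U.toScheme :=
      IsOpenImmersion.lift U.ι (genericHom X x) (range_genericHom_subset x U hξ)
    have hjU : jU ≫ U.ι = genericHom X x := IsOpenImmersion.lift_fac _ _ _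
    let Sq : ValuativeCommSq q :=
      { R := X.presheaf.stalk x
        K := FractionRing (X.presheaf.stalk x)
        i₁ := jU ≫ f
        i₂ := X.fromSpecStalk x ≫ p
        commSq := ⟨by rw [Category.assoc, hf, ← Category.assoc, hjU, Category.assoc]⟩ }
    obtain ⟨⟨l, hl1, hl2⟩⟩ := (hval Sq).exists_lift
    obtain ⟨U', hUU', hxU', f', hf', hres, -⟩ :=
      exists_extension_of_stalk_lift p q x U f hf jU hjU l hl2 hl1
    exact ⟨U', hUU', hxU', f', hf', hres⟩
  choose U' hUU' hxU' f' hf' hres using key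
  have hcov : TopologicalSpace.IsOpenCover U' := by
    apply TopologicalSpace.IsOpenCover.mk
    rw [eq_top_iff]
    intro x _
    exact TopologicalSpace.Opens.mem_iSup.mpr ⟨x, hxU' x⟩
  have hagree : ∀ i j, X.homOfLE (inf_le_left : U' i ⊓ U' j ≤ U' i) ≫ f' i =
      X.homOfLE (inf_le_right : U' i ⊓ U' j ≤ U' j) ≫ f' j := by
    intro i j
    have hle : U ≤ U' i ⊓ U' j := le_inf (hUU' i) (hUU' j)
    haveI : Nonempty (U' i ⊓ U' j : X.Opens) := ⟨⟨hU.some, hle hU.some_mem⟩⟩
    haveI : IsDominant (X.homOfLE hle) := by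
      constructor
      have hopen : IsOpen (Set.range (X.homOfLE hle)) :=
        (X.homOfLE hle).isOpenEmbedding.isOpen_range
      apply hopen.dense
      obtain ⟨z, hz⟩ := hU
      exact ⟨_, ⟨⟨z, hz⟩, rfl⟩⟩
    apply ext_of_isDominant_of_isSeparated q ?_ (X.homOfLE hle)
    · rw [← Category.assoc, X.homOfLE_homOfLE, hres, ← Category.assoc, X.homOfLE_homOfLE, hres]
    · rw [Category.assoc, Category.assoc, hf', hf', X.homOfLE_ι_assoc, X.homOfLE_ι_assoc]
  obtain ⟨k, hk⟩ := exists_glue_family U' hcov f' hagree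
  refine ⟨k, ?_, ?_⟩
  · apply (X.openCoverOfIsOpenCover U' hcov).hom_ext
    intro i
    change (U' i).ι ≫ k ≫ q = (U' i).ι ≫ p
    rw [← Category.assoc, hk, hf']
  · have hx0 := hU.some
    rw [← X.homOfLE_ι (hUU' hU.some), Category.assoc, hk, hres]

/-- Uniqueness of extensions of rational maps to separated targets. -/
theorem extension_unique {X Y S : Scheme.{u}} (q : Y ⟶ S) [IsSeparated q] [IsIntegral X]
    (U : X.Opens) (hU : (U : Set X).Nonempty) (f₁ f₂ : X ⟶ Y) (hq : f₁ ≫ q = f₂ ≫ q)
    (h : U.ι ≫ f₁ = U.ι ≫ f₂) : f₁ = f₂ := by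
  haveI : IsDominant U.ι := by
    constructor
    have hopen : IsOpen (Set.range U.ι) := U.ι.isOpenEmbedding.isOpen_range
    apply hopen.dense
    obtain ⟨z, hz⟩ := hU
    exact ⟨_, ⟨⟨z, hz⟩, rfl⟩⟩
  exact ext_of_isDominant_of_isSeparated q hq U.ι h

end Groth.Agent.Lib.Helper4.RatMapExt
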