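import Mathlib

/-!
# Good stratifications of Noetherian spaces (helper10)
-/

set_option autoImplicit false
open Topology TopologicalSpace Set

namespace Groth.Agent.Lib.Helper10.GoodStrat

universe u

variable {X : Type u} [TopologicalSpace X]

/-- If a nonempty relatively open part of `Z` is covered by finitely many closed sets, one of them
contains a nonempty relatively open part of `Z`. -/
theorem exists_open_subset_of_finset {κ : Type*} (Z : Set X) (K : κ → Set X)
    (hK : ∀ k, IsClosed (K k)) (t : Finset κ) :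
    ∀ O₀ : Set X, IsOpen O₀ → (Z ∩ O₀).Nonempty → Z ∩ O₀ ⊆ ⋃ k ∈ t, K k →
      ∃ k ∈ t, ∃ O : Set X, IsOpen O ∧ (Z ∩ O).Nonempty ∧ Z ∩ O ⊆ K k := by
  classical
  induction t using Finset.induction_on with
  | empty =>
    intro O₀ _ hne hsub
    obtain ⟨x, hx⟩ := hne
    have := hsub hx
    simp at this
  | insert a t' _ ih =>
    intro O₀ hO₀ hne hsub
    by_cases h : Z ∩ O₀ ⊆ K a
    · exact ⟨a, Finset.mem_insert_self a t', O₀, hO₀, hne, h⟩
    · obtain ⟨x, hx, hxa⟩ := Set.not_subset.mp h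
      have hO₁ : IsOpen (O₀ ∩ (K a)ᶜ) := hO₀.inter (hK a).isOpen_compl
      have hne₁ : (Z ∩ (O₀ ∩ (K a)ᶜ)).Nonempty := ⟨x, hx.1, hx.2, hxa⟩
      have hsub₁ : Z ∩ (O₀ ∩ (K a)ᶜ) ⊆ ⋃ k ∈ t', K k := by
        rintro y ⟨hyZ, hyO, hya⟩
        have := hsub ⟨hyZ, hyO⟩
        simp only [Set.mem_iUnion, Finset.mem_insert, exists_prop] at this ⊢
        obtain ⟨k, hk | hk, hyk⟩ := this
        · subst hk
          exact absurd hyk hya
        · exact ⟨k, hk, hyk⟩
      obtain ⟨k, hk, O, hO, hne', hsub'⟩ := ih _ hO₁ hne₁ hsub₁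
      exact ⟨k, Finset.mem_insert_of_mem hk, O, hO, hne', hsub'⟩

/-- A nonempty closed set which is a finite union of locally closed sets has a nonempty
relatively open part inside one of them. -/
theorem exists_open_subset_part {κ : Type*} [Finite κ] (Z : Set X) (hZne : Z.Nonempty)
    (Q : κ → Set X) (hQ : ∀ k, IsLocallyClosed (Q k)) (hQZ : ⋃ k, Q k = Z) :
    ∃ (k : κ) (O : Set X), IsOpen O ∧ (Z ∩ O).Nonempty ∧ Z ∩ O ⊆ Q k := by
  classical
  cases nonempty_fintype κ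
  have hsub : Z ∩ Set.univ ⊆ ⋃ k ∈ (Finset.univ : Finset κ), closure (Q k) := by
    rw [Set.inter_univ, ← hQZ]
    intro x hx
    obtain ⟨k, hk⟩ := Set.mem_iUnion.mp hx
    exact Set.mem_iUnion₂.mpr ⟨k, Finset.mem_univ k, subset_closure hk⟩
  obtain ⟨k, -, O, hO, ⟨g, hgZ, hgO⟩, hsubk⟩ :=
    exists_open_subset_of_finset Z (fun k => closure (Q k)) (fun k => isClosed_closure)
      Finset.univ Set.univ isOpen_univ (by rwa [Set.inter_univ]) hsub
  have hQkZ : Q k ⊆ Z := hQZ ▸ Set.subset_iUnion Q k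
  refine ⟨k, O ∩ coborder (Q k), hO.inter (hQ k).isOpen_coborder, ?_, ?_⟩
  · have hgcl : g ∈ closure (Q k) := hsubk ⟨hgZ, hgO⟩
    obtain ⟨y, hyO, hyQ⟩ := mem_closure_iff.mp hgcl O hO hgO
    exact ⟨y, hQkZ hyQ, hyO, subset_coborder hyQ⟩
  · rintro y ⟨hyZ, hyO, hyc⟩
    have : y ∈ closure (Q k) ∩ coborder (Q k) := ⟨hsubk ⟨hyZ, hyO⟩, hyc⟩
    rwa [closure_inter_coborder] at this

variable [NoetherianSpace X]

/-- The inductive statement. -/
def Good (Z : Set X) : Prop :=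
  ∀ (κ : Type) [Finite κ] (Q : κ → Set X), (∀ k, IsLocallyClosed (Q k)) → (⋃ k, Q k = Z) →
    (∀ k k', k ≠ k' → Disjoint (Q k) (Q k')) →
    ∃ (m : ℕ) (S : Fin m → Set X),
      (∀ i, IsLocallyClosed (S i)) ∧ (⋃ i, S i = Z) ∧ (∀ i j, i ≠ j → Disjoint (S i) (S j)) ∧
      (∀ i j, (S i ∩ closure (S j)).Nonempty → S i ⊆ closure (S j)) ∧
      (∀ i k, (S i ∩ Q k).Nonempty → S i ⊆ Q k)

theorem good_step (Z : Set X) (hZ : IsClosed Z)
    (ih : ∀ Z' : Set X, IsClosed Z' → Z' ⊂ Z → Good Z') : Good Z := by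
  classical
  intro κ _ Q hQ hQZ hQd
  rcases Z.eq_empty_or_nonempty with rfl | hZne
  · refine ⟨0, fun i => i.elim0, fun i => i.elim0, ?_, fun i => i.elim0, fun i => i.elim0,
      fun i => i.elim0⟩
    simp
  obtain ⟨i₀, O, hO, hUne, hUsub⟩ := exists_open_subset_part Z hZne Q hQ hQZ
  set U : Set X := Z ∩ O with hUdef
  have hQsubZ : ∀ k, Q k ⊆ Z := fun k => hQZ ▸ Set.subset_iUnion Q k
  have hZ'closed : IsClosed (Z \ U) := by
    have : Z \ U = Z ∩ Oᶜ := by
      ext x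
      simp only [hUdef, Set.mem_diff, Set.mem_inter_iff, Set.mem_compl_iff]
      tauto
    rw [this]
    exact hZ.inter hO.isClosed_compl
  have hZ'lt : Z \ U ⊂ Z := by
    refine ⟨Set.diff_subset, fun h => ?_⟩
    obtain ⟨x, hx⟩ := hUne
    exact (h hx.1).2 hx
  -- the new partition
  let Q' : κ × Bool → Set X := fun kb =>
    if kb.2 then (Q kb.1 ∩ Oᶜ) ∩ closure U else (Q kb.1 ∩ Oᶜ) ∩ (closure U)ᶜ
  have hQ'lc : ∀ kb, IsLocallyClosed (Q' kb) := by
    rintro ⟨k, b⟩
    cases b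
    · exact ((hQ k).inter hO.isClosed_compl.isLocallyClosed).inter
        isClosed_closure.isOpen_compl.isLocallyClosed
    · exact ((hQ k).inter hO.isClosed_compl.isLocallyClosed).inter
        isClosed_closure.isLocallyClosed
  have hQ'sub : ∀ kb, Q' kb ⊆ Q kb.1 := by
    rintro ⟨k, b⟩
    cases b
    · exact fun x hx => hx.1.1
    · exact fun x hx => hx.1.1
  have hQ'Z : ⋃ kb, Q' kb = Z \ U := by
    ext x
    simp only [Set.mem_iUnion, Set.mem_diff]
    constructor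
    · rintro ⟨⟨k, b⟩, hx⟩
      have hxQ : x ∈ Q k ∩ Oᶜ := by
        cases b
        · exact hx.1
        · exact hx.1
      exact ⟨hQsubZ k hxQ.1, fun hxU => hxQ.2 hxU.2⟩
    · rintro ⟨hxZ, hxU⟩
      rw [← hQZ] at hxZ
      obtain ⟨k, hk⟩ := Set.mem_iUnion.mp hxZ
      have hxO : x ∈ Oᶜ := fun hxO => hxU ⟨hQsubZ k hk, hxO⟩
      by_cases hcl : x ∈ closure U
      · exact ⟨(k, true), ⟨hk, hxO⟩, hcl⟩
      · exact ⟨(k, false), ⟨hk, hxO⟩, hcl⟩
  have hQ'd : ∀ kb kb', kb ≠ kb' → Disjoint (Q' kb) (Q' kb') := by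
    rintro ⟨k, b⟩ ⟨k', b'⟩ hne
    rw [Set.disjoint_left]
    intro x hx hx'
    by_cases hkk : k = k'
    · subst hkk
      cases b <;> cases b'
      · exact hne rfl
      · exact hx.2 hx'.2
      · exact hx'.2 hx.2
      · exact hne rfl
    · exact Set.disjoint_left.mp (hQd k k' hkk) (hQ'sub _ hx) (hQ'sub _ hx')
  obtain ⟨m, T, hT1, hT2, hT3, hT4, hT5⟩ :=
    ih (Z \ U) hZ'closed hZ'lt (κ × Bool) Q' hQ'lc hQ'Z hQ'd
  have hTsub : ∀ i, T i ⊆ Z \ U := fun i => hT2 ▸ Set.subset_iUnion T i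
  have hTcl : ∀ i, closure (T i) ⊆ Z \ U := fun i => closure_minimal (hTsub i) hZ'closed
  -- key: a stratum meeting `closure U` lies in it
  have hTU : ∀ i, (T i ∩ closure U).Nonempty → T i ⊆ closure U := by
    rintro i ⟨x, hxT, hxcl⟩
    have hx' : x ∈ ⋃ kb, Q' kb := hQ'Z ▸ hTsub i hxT
    obtain ⟨⟨k, b⟩, hxk⟩ := Set.mem_iUnion.mp hx'
    cases b
    · exact absurd hxcl hxk.2
    · exact (hT5 i (k, true) ⟨x, hxT, hxk⟩).trans (fun y hy => hy.2)
  refine ⟨m + 1, Fin.cons U T, ?_, ?_, ?_, ?_, ?_⟩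
  · intro i
    refine Fin.cases ?_ (fun i => ?_) i
    · simpa using hZ.isLocallyClosed.inter hO.isLocallyClosed
    · simpa using hT1 i
  · ext x
    simp only [Set.mem_iUnion]
    constructor
    · rintro ⟨i, hx⟩
      revert hx
      refine Fin.cases ?_ (fun i => ?_) i
      · intro hx
        exact (by simpa using hx : x ∈ U).1
      · intro hx
        exact (hTsub i (by simpa using hx)).1
    · intro hxZ
      by_cases hxU : x ∈ U
      · exact ⟨0, by simpa using hxU⟩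
      · have : x ∈ ⋃ i, T i := hT2 ▸ (⟨hxZ, hxU⟩ : x ∈ Z \ U)
        obtain ⟨i, hi⟩ := Set.mem_iUnion.mp this
        exact ⟨i.succ, by simpa using hi⟩
  · intro i j
    refine Fin.cases ?_ (fun i => ?_) i <;> refine Fin.cases ?_ (fun j => ?_) j
    · intro h; exact absurd rfl h
    · intro _
      simp only [Fin.cons_zero, Fin.cons_succ]
      exact Set.disjoint_left.mpr fun x hxU hxT => (hTsub j hxT).2 hxU
    · intro _
      simp only [Fin.cons_zero, Fin.cons_succ]
      exact Set.disjoint_left.mpr fun x hxT hxU => (hTsub i hxT).2 hxU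
    · intro h
      simp only [Fin.cons_succ]
      exact hT3 i j fun hij => h (congrArg Fin.succ hij)
  · intro i j
    refine Fin.cases ?_ (fun i => ?_) i <;> refine Fin.cases ?_ (fun j => ?_) j
    · intro _
      simp only [Fin.cons_zero]
      exact subset_closure
    · rintro ⟨x, hxU, hxcl⟩
      simp only [Fin.cons_zero, Fin.cons_succ] at hxU hxcl
      exact absurd hxU (hTcl j hxcl).2
    · intro h
      simp only [Fin.cons_zero, Fin.cons_succ] at h ⊢
      exact hTU i h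
    · intro h
      simp only [Fin.cons_succ] at h ⊢
      exact hT4 i j h
  · intro i k
    refine Fin.cases ?_ (fun i => ?_) i
    · rintro ⟨x, hxU, hxQ⟩
      simp only [Fin.cons_zero] at hxU ⊢
      by_cases hk : k = i₀
      · subst hk; exact hUsub
      · exact absurd hxQ (Set.disjoint_left.mp (hQd i₀ k (Ne.symm hk)) (hUsub hxU))
    · rintro ⟨x, hxT, hxQ⟩
      simp only [Fin.cons_succ] at hxT ⊢
      have hx' : x ∈ ⋃ kb, Q' kb := hQ'Z ▸ hTsub i hxT
      obtain ⟨⟨k', b⟩, hxk⟩ := Set.mem_iUnion.mp hx'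
      have hkk : k' = k := by
        by_contra hne
        exact Set.disjoint_left.mp (hQd k' k hne) (hQ'sub _ hxk) hxQ
      subst hkk
      exact (hT5 i (k', b) ⟨x, hxT, hxk⟩).trans (hQ'sub _)

theorem good_of_isClosed (Z : Closeds X) : Good (Z : Set X) := by
  induction Z using WellFoundedLT.induction with
  | ind Z ih =>
    refine good_step (Z : Set X) Z.isClosed fun Z' hZ' hlt => ?_
    exact ih ⟨Z', hZ'⟩ (by exact hlt)

end Groth.Agent.Lib.Helper10.GoodStrat
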