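import Mathlib

/-!
# Graded rings of finite type over their degree-zero part are eventually periodic

Mathlib-only. For an `ℕ`-graded ring `A = ⊕ 𝒜 n` of finite type over `𝒜 0` there are `n₀` and
`h > 0` with `𝒜 (n + h) = 𝒜 h * 𝒜 n` for all `n ≥ n₀` (and `h ≥ n₀`).
-/

open DirectSum

namespace Groth.Agent.Lib.Helper10.GradedPeriod

universe u

variable {R A : Type u} [CommRing R] [CommRing A] [Algebra R A]
  (𝒜 : ℕ → Submodule R A) [GradedAlgebra 𝒜]

lemma mul_le_graded (m n : ℕ) : 𝒜 m * 𝒜 n ≤ 𝒜 (m + n) :=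
  Submodule.mul_le.2 fun _ hx _ hy => SetLike.mul_mem_graded hx hy

lemma pow_le_graded (i t : ℕ) : 𝒜 i ^ t ≤ 𝒜 (t * i) := by
  induction t with
  | zero =>
    rw [pow_zero, Nat.zero_mul, Submodule.one_le]
    exact SetLike.GradedOne.one_mem
  | succ t ih =>
    rw [pow_succ, Nat.succ_mul]
    exact (mul_le_mul' ih le_rfl).trans (mul_le_graded 𝒜 _ _)

section Monomials

variable (s : Finset A) (deg : A → ℕ)

/-- The monomial with exponents `a` in the elements of `s`. -/
noncomputable def mon (a : A → ℕ) : A := ∏ e ∈ s, e ^ a e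

/-- Weighted degree. -/
def wt (a : A → ℕ) : ℕ := ∑ e ∈ s, a e * deg e

lemma mon_add (a b : A → ℕ) : mon s (a + b) = mon s a * mon s b := by
  simp only [mon, Pi.add_apply, pow_add, Finset.prod_mul_distrib]

lemma wt_add (a b : A → ℕ) : wt s deg (a + b) = wt s deg a + wt s deg b := by
  simp only [wt, Pi.add_apply, add_mul, Finset.sum_add_distrib]

variable {s deg} in
lemma mon_mem (hdeg : ∀ e ∈ s, e ∈ 𝒜 (deg e)) (a : A → ℕ) : mon s a ∈ 𝒜 (wt s deg a) := by
  unfold mon wt
  refine SetLike.prod_mem_graded 𝒜 (fun e => a e * deg e) (fun e => e ^ a e) fun e he => ?_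
  have := SetLike.pow_mem_graded (a e) (hdeg e he)
  simpa [smul_eq_mul] using this

/-- The span of the `𝒜 0`-multiples of monomials of weight `N`. -/
def W (N : ℕ) : Submodule R A :=
  Submodule.span R {x | ∃ c ∈ 𝒜 0, ∃ a : A → ℕ, wt s deg a = N ∧ x = c * mon s a}

variable {s deg} in
lemma W_le (hdeg : ∀ e ∈ s, e ∈ 𝒜 (deg e)) (N : ℕ) : W 𝒜 s deg N ≤ 𝒜 N := by
  refine Submodule.span_le.2 ?_
  rintro x ⟨c, hc, a, rfl, rfl⟩
  have := SetLike.mul_mem_graded hc (mon_mem 𝒜 hdeg a)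
  simpa using this

lemma W_mul_le (M N : ℕ) : W 𝒜 s deg M * W 𝒜 s deg N ≤ W 𝒜 s deg (M + N) := by
  unfold W
  rw [Submodule.span_mul_span]
  refine Submodule.span_le.2 ?_
  rintro x ⟨y, ⟨c, hc, a, rfl, rfl⟩, z, ⟨c', hc', a', rfl, rfl⟩, rfl⟩
  refine Submodule.subset_span ⟨c * c', ?_, a + a', wt_add s deg a a', ?_⟩
  · have := SetLike.mul_mem_graded hc hc'
    simpa using this
  · rw [mon_add]; ring

variable {s deg} in
lemma mem_iSup_W (hs : Algebra.adjoin (𝒜 0) (s : Set A) = ⊤) (x : A) :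
    x ∈ ⨆ N, W 𝒜 s deg N := by
  classical
  have hx : x ∈ Algebra.adjoin (𝒜 0) (s : Set A) := by rw [hs]; trivial
  induction hx using Algebra.adjoin_induction with
  | mem e he =>
    have he' : e ∈ s := he
    refine Submodule.mem_iSup_of_mem (deg e)
      (Submodule.subset_span ⟨1, SetLike.GradedOne.one_mem, Pi.single e 1, ?_, ?_⟩)
    · unfold wt
      rw [Finset.sum_eq_single e]
      · simp
      · intro b _ hb; simp [hb]
      · intro h; exact absurd he' h
    · unfold mon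
      rw [Finset.prod_eq_single e]
      · simp
      · intro b _ hb; simp [hb]
      · intro h; exact absurd he' h
  | algebraMap c =>
    refine Submodule.mem_iSup_of_mem 0
      (Submodule.subset_span ⟨(c : A), c.2, 0, ?_, ?_⟩)
    · simp [wt]
    · simp [mon]
  | add x y _ _ hx hy => exact add_mem hx hy
  | mul x y _ _ hx hy =>
    have h := Submodule.mul_mem_mul hx hy
    rw [Submodule.iSup_mul] at h
    simp_rw [Submodule.mul_iSup] at h
    exact (iSup_le fun M => iSup_le fun N =>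
      (W_mul_le 𝒜 s deg M N).trans (le_iSup (fun N => W 𝒜 s deg N) (M + N))) h

variable {s deg} in
lemma le_W (hs : Algebra.adjoin (𝒜 0) (s : Set A) = ⊤) (hdeg : ∀ e ∈ s, e ∈ 𝒜 (deg e)) (N : ℕ) :
    𝒜 N ≤ W 𝒜 s deg N := by
  classical
  intro x hx
  have key : ∀ y ∈ ⨆ M, W 𝒜 s deg M, ((decompose 𝒜 y N : 𝒜 N) : A) ∈ W 𝒜 s deg N := by
    intro y hy
    induction hy using Submodule.iSup_induction' with
    | mem M y hy =>
      by_cases h : M = N
      · subst h
        rw [decompose_of_mem_same 𝒜 (W_le 𝒜 hdeg M hy)]; exact hy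
      · rw [decompose_of_mem_ne 𝒜 (W_le 𝒜 hdeg M hy) h]; exact zero_mem _
    | zero => simp
    | add y z _ _ hy hz =>
      rw [decompose_add, DirectSum.add_apply, Submodule.coe_add]; exact add_mem hy hz
  have := key x (mem_iSup_W 𝒜 hs x)
  rwa [decompose_of_mem_same 𝒜 hx] at this

variable {s deg} in
lemma W_le_mul (hdeg : ∀ e ∈ s, e ∈ 𝒜 (deg e)) (hpos : ∀ e ∈ s, 0 < deg e) (N : ℕ)
    (hN : s.card * (∏ e ∈ s, deg e) + 1 ≤ N) :
    W 𝒜 s deg N ≤ 𝒜 (∏ e ∈ s, deg e) * 𝒜 (N - ∏ e ∈ s, deg e) := by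
  classical
  set q := ∏ e ∈ s, deg e with hq
  refine Submodule.span_le.2 ?_
  rintro x ⟨c, hc, a, ha, rfl⟩
  have hne : s.Nonempty := by
    by_contra h
    rw [Finset.not_nonempty_iff_eq_empty] at h
    subst h
    simp [wt] at ha
    omega
  obtain ⟨e, he, hle⟩ : ∃ e ∈ s, q ≤ a e * deg e := by
    by_contra hcon
    push Not at hcon
    have h1 : wt s deg a < ∑ _e ∈ s, q := Finset.sum_lt_sum_of_nonempty hne hcon
    rw [Finset.sum_const, smul_eq_mul] at h1
    omega
  obtain ⟨t, ht⟩ : deg e ∣ q := Finset.dvd_prod_of_mem deg he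
  have hdpos := hpos e he
  have hta : t ≤ a e := by
    by_contra h
    push Not at h
    have h2 : a e * deg e < t * deg e := Nat.mul_lt_mul_of_pos_right h hdpos
    rw [ht] at hle
    nlinarith
  set a' : A → ℕ := fun x => if x = e then a e - t else a x with ha'
  have hsplit : a = a' + Pi.single e t := by
    funext x
    by_cases hx : x = e
    · subst hx; simp [ha']; omega
    · simp [ha', hx]
  have hmon : mon s (Pi.single e t) = e ^ t := by
    unfold mon
    rw [Finset.prod_eq_single e]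
    · simp
    · intro b _ hb; simp [hb]
    · intro h; exact absurd he h
  have hwt : wt s deg (Pi.single e t) = q := by
    unfold wt
    rw [Finset.sum_eq_single e]
    · simp [ht, mul_comm]
    · intro b _ hb; simp [hb]
    · intro h; exact absurd he h
  have h1 : e ^ t ∈ 𝒜 q := by
    have := SetLike.pow_mem_graded t (hdeg e he)
    rwa [smul_eq_mul, mul_comm, ← ht] at this
  have hwa' : wt s deg a' = N - q := by
    have := wt_add s deg a' (Pi.single e t)
    rw [← hsplit, ha, hwt] at this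
    omega
  have h2 : c * mon s a' ∈ 𝒜 (N - q) := by
    have := SetLike.mul_mem_graded hc (mon_mem 𝒜 hdeg a')
    rwa [zero_add, hwa'] at this
  rw [hsplit, mon_add, hmon]
  have : c * (mon s a' * e ^ t) = e ^ t * (c * mon s a') := by ring
  rw [this]
  exact Submodule.mul_mem_mul h1 h2

end Monomials

/-- Eventual periodicity of the graded pieces. -/
theorem exists_period [Algebra.FiniteType (𝒜 0) A] :
    ∃ n₀ h : ℕ, 0 < h ∧ n₀ ≤ h ∧ ∀ n, n₀ ≤ n → 𝒜 (n + h) = 𝒜 h * 𝒜 n := by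
  classical
  obtain ⟨s, hs, hs'⟩ := GradedAlgebra.exists_finset_adjoin_eq_top_and_homogeneous_ne_zero 𝒜
  choose! deg hdeg using hs'
  have hmem : ∀ e ∈ s, e ∈ 𝒜 (deg e) := fun e he => (hdeg e he).2
  have hpos : ∀ e ∈ s, 0 < deg e := fun e he => Nat.pos_of_ne_zero (hdeg e he).1
  set q := ∏ e ∈ s, deg e with hq
  have hqpos : 0 < q := Finset.prod_pos hpos
  set n₀ := s.card * q + 1 with hn₀
  have K : ∀ n, n₀ ≤ n → 𝒜 (n + q) = 𝒜 q * 𝒜 n := by
    intro n hn
    refine le_antisymm ?_ ?_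
    · have h1 := (le_W 𝒜 hs hmem (n + q)).trans (W_le_mul 𝒜 hmem hpos (n + q) (by rw [← hq]; omega))
      rwa [Nat.add_sub_cancel] at h1
    · rw [add_comm]; exact mul_le_graded 𝒜 q n
  have K2 : ∀ t n, n₀ ≤ n → 𝒜 (n + t * q) = 𝒜 q ^ t * 𝒜 n := by
    intro t
    induction t with
    | zero => intro n _; simp
    | succ t ih =>
      intro n hn
      have e1 : n + (t + 1) * q = (n + t * q) + q := by ring
      rw [e1, K (n + t * q) (by omega), ih n hn, pow_succ', mul_assoc]
  refine ⟨n₀, n₀ * q, Nat.mul_pos (by omega) hqpos, Nat.le_mul_of_pos_right _ hqpos, ?_⟩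
  intro n hn
  refine le_antisymm ?_ ?_
  · rw [K2 n₀ n hn]
    exact mul_le_mul' (pow_le_graded 𝒜 q n₀) le_rfl
  · rw [add_comm]; exact mul_le_graded 𝒜 _ n

/-- `𝒜 (m h) = (𝒜 h)^m`. -/
theorem exists_pow_eq [Algebra.FiniteType (𝒜 0) A] :
    ∃ h : ℕ, 0 < h ∧ ∀ m : ℕ, 0 < m → 𝒜 (m * h) = (𝒜 h : Submodule R A) ^ m := by
  obtain ⟨n₀, h, hpos, hle, hP⟩ := exists_period 𝒜
  refine ⟨h, hpos, ?_⟩
  intro m hm
  induction m with
  | zero => omega
  | succ m ih =>
    rcases Nat.eq_zero_or_pos m with rfl | hm'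
    · simp
    · have e1 : (m + 1) * h = m * h + h := by ring
      have hge : n₀ ≤ m * h := hle.trans (Nat.le_mul_of_pos_left h hm')
      rw [e1, hP (m * h) hge, ih hm', pow_succ']

end Groth.Agent.Lib.Helper10.GradedPeriod
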