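import Groth.Agent.Lib.Helper10GradedPeriod

/-!
# Eventual periodicity of finitely generated graded modules
-/

open DirectSum

namespace Groth.Agent.Lib.Helper10.GradedPeriod

universe u

variable {R A : Type u} [CommRing R] [CommRing A] [Algebra R A]
  (𝒜 : ℕ → Submodule R A) [GradedAlgebra 𝒜]
  {M : Type u} [AddCommGroup M] [Module R M] [Module A M] [IsScalarTower R A M]
  (ℳ : ℕ → Submodule R M) [DirectSum.Decomposition ℳ] [SetLike.GradedSMul 𝒜 ℳ]

section Gens

variable (T : Finset M) (δ : M → ℕ)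

/-- The span of the `𝒜 (N - δ t) • t`. -/
def V (N : ℕ) : Submodule R M :=
  Submodule.span R {x | ∃ t ∈ T, δ t ≤ N ∧ ∃ a ∈ 𝒜 (N - δ t), x = a • t}

variable {T δ} in
include 𝒜 in
lemma V_le (hδ : ∀ t ∈ T, t ∈ ℳ (δ t)) (N : ℕ) : V 𝒜 T δ N ≤ ℳ N := by
  refine Submodule.span_le.2 ?_
  rintro x ⟨t, ht, hle, a, ha, rfl⟩
  have := SetLike.GradedSMul.smul_mem ha (hδ t ht)
  rwa [vadd_eq_add, Nat.sub_add_cancel hle] at this

lemma smul_V_le {i : ℕ} {a : A} (ha : a ∈ 𝒜 i) (j : ℕ) {y : M} (hy : y ∈ V 𝒜 T δ j) :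
    a • y ∈ V 𝒜 T δ (i + j) := by
  induction hy using Submodule.span_induction with
  | mem y hy =>
    obtain ⟨t, ht, hle, a', ha', rfl⟩ := hy
    refine Submodule.subset_span ⟨t, ht, by omega, a * a', ?_, by rw [mul_smul]⟩
    have := SetLike.mul_mem_graded ha ha'
    have e : i + (j - δ t) = i + j - δ t := by omega
    rwa [e] at this
  | zero => rw [smul_zero]; exact zero_mem _
  | add y z _ _ hy hz => rw [smul_add]; exact add_mem hy hz
  | smul r y _ hy => rw [smul_comm]; exact Submodule.smul_mem _ _ hy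

lemma smul_mem_iSup_V (b : A) {y : M} (hy : y ∈ ⨆ N, V 𝒜 T δ N) :
    b • y ∈ ⨆ N, V 𝒜 T δ N := by
  classical
  rw [← DirectSum.sum_support_decompose 𝒜 b, Finset.sum_smul]
  refine Submodule.sum_mem _ fun i _ => ?_
  induction hy using Submodule.iSup_induction' with
  | mem j y hy =>
    exact Submodule.mem_iSup_of_mem (i + j) (smul_V_le 𝒜 T δ (SetLike.coe_mem _) j hy)
  | zero => rw [smul_zero]; exact zero_mem _
  | add y z _ _ hy hz => rw [smul_add]; exact add_mem hy hz

variable {T δ} in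
lemma mem_iSup_V (hT : Submodule.span A (T : Set M) = ⊤) (x : M) :
    x ∈ ⨆ N, V 𝒜 T δ N := by
  classical
  have hx : x ∈ Submodule.span A (T : Set M) := by rw [hT]; trivial
  induction hx using Submodule.span_induction with
  | mem t ht =>
    refine Submodule.mem_iSup_of_mem (δ t)
      (Submodule.subset_span ⟨t, ht, le_rfl, 1, ?_, by rw [one_smul]⟩)
    rw [Nat.sub_self]; exact SetLike.GradedOne.one_mem
  | zero => exact zero_mem _
  | add y z _ _ hy hz => exact add_mem hy hz
  | smul b y _ hy => exact smul_mem_iSup_V 𝒜 T δ b hy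

variable {T δ} in
lemma le_V (hT : Submodule.span A (T : Set M) = ⊤) (hδ : ∀ t ∈ T, t ∈ ℳ (δ t)) (N : ℕ) :
    ℳ N ≤ V 𝒜 T δ N := by
  classical
  intro x hx
  have key : ∀ y ∈ ⨆ K, V 𝒜 T δ K, ((decompose ℳ y N : ℳ N) : M) ∈ V 𝒜 T δ N := by
    intro y hy
    induction hy using Submodule.iSup_induction' with
    | mem K y hy =>
      by_cases h : K = N
      · subst h
        rw [decompose_of_mem_same ℳ (V_le 𝒜 ℳ hδ K hy)]; exact hy
      · rw [decompose_of_mem_ne ℳ (V_le 𝒜 ℳ hδ K hy) h]; exact zero_mem _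
    | zero => simp
    | add y z _ _ hy hz =>
      rw [decompose_add, DirectSum.add_apply, Submodule.coe_add]; exact add_mem hy hz
  have := key x (mem_iSup_V 𝒜 hT x)
  rwa [decompose_of_mem_same ℳ hx] at this

end Gens

/-- A finite graded module is generated by finitely many homogeneous elements. -/
lemma exists_homogeneous_gens [Module.Finite A M] :
    ∃ T : Finset M, (∀ t ∈ T, ∃ i, t ∈ ℳ i) ∧ Submodule.span A (T : Set M) = ⊤ := by
  classical
  obtain ⟨G, hG⟩ := (Module.Finite.fg_top : (⊤ : Submodule A M).FG)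
  refine ⟨G.biUnion fun g => (DirectSum.decompose ℳ g).support.image
    fun i => (DirectSum.decompose ℳ g i : M), ?_, ?_⟩
  · intro t ht
    obtain ⟨g, -, ht'⟩ := Finset.mem_biUnion.1 ht
    obtain ⟨i, -, rfl⟩ := Finset.mem_image.1 ht'
    exact ⟨i, SetLike.coe_mem _⟩
  · rw [eq_top_iff, ← hG, Submodule.span_le]
    intro g hg
    rw [SetLike.mem_coe, ← DirectSum.sum_support_decompose ℳ g]
    refine Submodule.sum_mem _ fun i hi => Submodule.subset_span ?_
    rw [Finset.mem_coe, Finset.mem_biUnion]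
    exact ⟨g, hg, Finset.mem_image.2 ⟨i, hi, rfl⟩⟩

theorem exists_period_module [Algebra.FiniteType (𝒜 0) A] [Module.Finite A M] :
    ∃ (n₁ h : ℕ), 0 < h ∧ ∀ n : ℕ, n₁ ≤ n →
      ℳ (n + h) = (𝒜 h : Submodule R A) • (ℳ n : Submodule R M) := by
  classical
  obtain ⟨n₀, h, hpos, -, hP⟩ := exists_period 𝒜
  obtain ⟨T, hT, hspan⟩ := exists_homogeneous_gens (A := A) ℳ
  choose! δ hδ using hT
  refine ⟨n₀ + T.sup δ, h, hpos, ?_⟩
  intro n hn
  refine le_antisymm ?_ ?_
  · refine (le_V 𝒜 ℳ hspan hδ (n + h)).trans (Submodule.span_le.2 ?_)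
    rintro x ⟨t, ht, hle, a, ha, rfl⟩
    have hdt : δ t ≤ T.sup δ := Finset.le_sup (f := δ) ht
    have e1 : n + h - δ t = (n - δ t) + h := by omega
    rw [e1, hP (n - δ t) (by omega)] at ha
    refine Submodule.mul_induction_on ha ?_ ?_
    · intro p hp q hq
      rw [mul_smul]
      refine Submodule.smul_mem_smul hp ?_
      have := SetLike.GradedSMul.smul_mem hq (hδ t ht)
      rwa [vadd_eq_add, Nat.sub_add_cancel (by omega)] at this
    · intro y z hy hz
      rw [add_smul]; exact add_mem hy hz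
  · refine Submodule.smul_le.2 fun a ha m hm => ?_
    have := SetLike.GradedSMul.smul_mem ha hm
    rwa [vadd_eq_add, add_comm] at this

end Groth.Agent.Lib.Helper10.GradedPeriod
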