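import Mathlib

/-!
# `Hom(flat, injective)` is injective; `Hom(injective, injective)` is flat (Noetherian) (helper10)
-/

set_option autoImplicit false
set_option backward.isDefEq.respectTransparency.types false
universe u
open TensorProduct

namespace Groth.Agent.Lib.Helper10.HomInjFlat

variable {A : Type u} [CommRing A]

/-- factorization through an injective module -/
lemma exists_comp_eq_of_ker_le {J M N : Type u} [AddCommGroup J] [Module A J]
    [AddCommGroup M] [Module A M] [AddCommGroup N] [Module A N] [Module.Injective A J]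
    (f : M →ₗ[A] N) (g : M →ₗ[A] J) (h : LinearMap.ker f ≤ LinearMap.ker g) :
    ∃ k : N →ₗ[A] J, k ∘ₗ f = g := by
  let ι : (M ⧸ LinearMap.ker f) →ₗ[A] N := (LinearMap.ker f).liftQ f le_rfl
  have hι : Function.Injective ι := by
    rw [← LinearMap.ker_eq_bot]
    exact Submodule.ker_liftQ_eq_bot _ _ _ le_rfl
  obtain ⟨k, hk⟩ := Module.Injective.extension_property A J _ _ ι hι
    ((LinearMap.ker f).liftQ g h)
  refine ⟨k, ?_⟩
  ext x
  have := LinearMap.congr_fun hk (Submodule.Quotient.mk x)
  simpa [ι] using this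

/-- `Hom(F, I)` is injective for `F` flat and `I` injective -/
theorem injective_linearMap_of_flat (F I : Type u) [AddCommGroup F] [Module A F]
    [AddCommGroup I] [Module A I] [Module.Flat A F] [Module.Injective A I] :
    Module.Injective A (F →ₗ[A] I) := by
  apply Module.Baer.injective
  intro 𝔞 g
  let g' : 𝔞 ⊗[A] F →ₗ[A] I := TensorProduct.lift g
  let ι : 𝔞 ⊗[A] F →ₗ[A] F := (TensorProduct.lid A F).toLinearMap ∘ₗ LinearMap.rTensor F 𝔞.subtype
  have hι : Function.Injective ι := by
    refine (TensorProduct.lid A F).injective.comp ?_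
    exact Module.Flat.rTensor_preserves_injective_linearMap _ Subtype.val_injective
  obtain ⟨h, hh⟩ := Module.Injective.extension_property A I _ _ ι hι g'
  refine ⟨LinearMap.toSpanSingleton A _ h, ?_⟩
  intro r hr
  ext x
  have := LinearMap.congr_fun hh ((⟨r, hr⟩ : 𝔞) ⊗ₜ[A] x)
  simp only [LinearMap.toSpanSingleton_apply, LinearMap.smul_apply]
  rw [← map_smul]
  simpa [ι, g'] using this

/-- uniform solvability of the relation `∑ a i • x i = 0` through the relations `b` -/
def Solves {n m : ℕ} (a : Fin n → A) (b : Fin m → Fin n → A) (M : Type*) [AddCommGroup M]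
    [Module A M] : Prop :=
  ∀ x : Fin n → M, ∑ i, a i • x i = 0 → ∃ y : Fin m → M, ∀ i, x i = ∑ j, b j i • y j

lemma flat_of_solves (M : Type*) [AddCommGroup M] [Module A M]
    (h : ∀ (n : ℕ) (a : Fin n → A), ∃ (m : ℕ) (b : Fin m → Fin n → A),
      (∀ j, ∑ i, a i * b j i = 0) ∧ Solves a b M) : Module.Flat A M := by
  apply Module.Flat.of_forall_isTrivialRelation
  intro l f x hx
  obtain ⟨m, b, hb, hs⟩ := h l f
  obtain ⟨y, hy⟩ := hs x hx
  exact ⟨m, fun i j => b j i, y, hy, hb⟩

lemma Solves.of_linearEquiv {n m : ℕ} {a : Fin n → A} {b : Fin m → Fin n → A}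
    {M N : Type*} [AddCommGroup M] [Module A M] [AddCommGroup N] [Module A N]
    (e : M ≃ₗ[A] N) (h : Solves a b M) : Solves a b N := by
  intro x hx
  obtain ⟨y, hy⟩ := h (fun i => e.symm (x i)) (by
    simp only [← map_smul, ← map_sum, hx, map_zero])
  refine ⟨fun j => e (y j), fun i => ?_⟩
  have := congrArg e (hy i)
  simpa using this

variable [IsNoetherianRing A]

/-- generators of the module of relations -/
lemma exists_relations {n : ℕ} (a : Fin n → A) :
    ∃ (m : ℕ) (b : Fin m → Fin n → A), (∀ j, ∑ i, a i * b j i = 0) ∧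
      ∀ r : Fin n → A, ∑ i, a i * r i = 0 → ∃ c : Fin m → A, r = ∑ j, c j • b j := by
  let L : (Fin n → A) →ₗ[A] A := Fintype.linearCombination A a
  have hL : ∀ r, L r = ∑ i, a i * r i := by
    intro r
    simp [L, Fintype.linearCombination_apply, mul_comm]
  have hfg : (LinearMap.ker L).FG := IsNoetherian.noetherian _
  obtain ⟨m, b, hb⟩ := Submodule.fg_iff_exists_fin_generating_family.1 hfg
  refine ⟨m, b, fun j => ?_, fun r hr => ?_⟩
  · have : b j ∈ LinearMap.ker L := hb ▸ Submodule.subset_span ⟨j, rfl⟩
    rw [← hL]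
    exact this
  · have : r ∈ Submodule.span A (Set.range b) := by
      rw [hb, LinearMap.mem_ker, hL]
      exact hr
    obtain ⟨c, hc⟩ := (Submodule.mem_span_range_iff_exists_fun A).1 this
    exact ⟨c, hc.symm⟩

omit [IsNoetherianRing A] in
/-- `Hom(I, J)` satisfies the equational criterion uniformly for injective `I`, `J` -/
theorem solves_linearMap {n m : ℕ} (a : Fin n → A) (b : Fin m → Fin n → A)
    (hb : ∀ r : Fin n → A, ∑ i, a i * r i = 0 → ∃ c : Fin m → A, r = ∑ j, c j • b j)
    (I J : Type u) [AddCommGroup I] [Module A I] [AddCommGroup J] [Module A J]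
    [Module.Injective A I] [Module.Injective A J] : Solves a b (I →ₗ[A] J) := by
  intro φ hφ
  -- the two maps
  let L : (Fin n → I) →ₗ[A] J := LinearMap.lsum A (fun _ => I) A φ
  let T : (Fin n → I) →ₗ[A] (Fin m → I) :=
    LinearMap.pi (fun j => LinearMap.lsum A (fun _ => I) A (fun i => b j i • LinearMap.id))
  have hL : ∀ x, L x = ∑ i, φ i (x i) := by
    intro x
    simp [L, LinearMap.lsum_apply]
  have hT : ∀ x j, T x j = ∑ i, b j i • x i := by
    intro x j
    simp [T, LinearMap.lsum_apply]
  have hker : LinearMap.ker T ≤ LinearMap.ker L := by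
    intro x hx
    rw [LinearMap.mem_ker] at hx ⊢
    -- find `x0` with `x i = a i • x0`
    let f : (Fin n → A) →ₗ[A] A := Fintype.linearCombination A a
    let g : (Fin n → A) →ₗ[A] I := Fintype.linearCombination A x
    have hfg : LinearMap.ker f ≤ LinearMap.ker g := by
      intro r hr
      rw [LinearMap.mem_ker] at hr ⊢
      have hr' : ∑ i, a i * r i = 0 := by
        simpa [f, Fintype.linearCombination_apply, mul_comm] using hr
      obtain ⟨c, rfl⟩ := hb r hr'
      simp only [g, Fintype.linearCombination_apply, Finset.sum_apply, Pi.smul_apply,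
        smul_eq_mul, Finset.sum_smul]
      rw [Finset.sum_comm]
      refine Finset.sum_eq_zero (fun j _ => ?_)
      have := congrFun hx j
      rw [hT] at this
      simp only [mul_smul, ← Finset.smul_sum]
      rw [this, Pi.zero_apply, smul_zero]
    obtain ⟨k, hk⟩ := exists_comp_eq_of_ker_le f g hfg
    have hx0 : ∀ i, x i = a i • k 1 := by
      intro i
      have := LinearMap.congr_fun hk (Pi.single i 1)
      simp only [LinearMap.comp_apply, f, g, Fintype.linearCombination_apply_single, one_smul]
        at this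
      rw [← this, ← map_smul, smul_eq_mul, mul_one]
    rw [hL]
    have : ∑ i, φ i (x i) = (∑ i, a i • φ i) (k 1) := by
      simp only [LinearMap.sum_apply, LinearMap.smul_apply]
      refine Finset.sum_congr rfl (fun i _ => ?_)
      rw [hx0 i, map_smul]
    rw [this, hφ, LinearMap.zero_apply]
  obtain ⟨Ψ, hΨ⟩ := exists_comp_eq_of_ker_le T L hker
  refine ⟨fun j => Ψ ∘ₗ LinearMap.single A (fun _ => I) j, fun i => ?_⟩
  ext x
  have h1 := LinearMap.congr_fun hΨ (Pi.single i x)
  rw [LinearMap.comp_apply, hL] at h1
  have h2 : ∑ i', φ i' ((Pi.single i x : Fin n → I) i') = φ i x := by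
    rw [Finset.sum_eq_single i]
    · rw [Pi.single_eq_same]
    · intro i' _ hi'
      rw [Pi.single_eq_of_ne hi', map_zero]
    · intro h
      exact absurd (Finset.mem_univ i) h
  rw [h2] at h1
  rw [← h1]
  have h3 : T (Pi.single i x) = ∑ j, Pi.single j (b j i • x) := by
    ext j
    rw [hT, Finset.sum_apply, Finset.sum_eq_single i, Pi.single_eq_same,
      Finset.sum_eq_single j, Pi.single_eq_same]
    · intro j' _ hj'
      exact Pi.single_eq_of_ne hj'.symm _
    · intro h
      exact absurd (Finset.mem_univ j) h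
    · intro i' _ hi'
      rw [Pi.single_eq_of_ne hi', smul_zero]
    · intro h
      exact absurd (Finset.mem_univ i) h
  rw [h3, map_sum]
  simp only [LinearMap.sum_apply, LinearMap.smul_apply, LinearMap.comp_apply,
    LinearMap.single_apply]
  refine Finset.sum_congr rfl (fun j _ => ?_)
  rw [← map_smul]
  congr 1
  ext j'
  by_cases hj : j' = j
  · subst hj
    simp
  · simp [Pi.single_eq_of_ne hj]

/-- `Hom(I, J)` is flat for injective modules over a Noetherian ring -/
theorem flat_linearMap_of_injective (I J : Type u) [AddCommGroup I] [Module A I]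
    [AddCommGroup J] [Module A J] [Module.Injective A I] [Module.Injective A J] :
    Module.Flat A (I →ₗ[A] J) := by
  apply flat_of_solves
  intro n a
  obtain ⟨m, b, hb1, hb2⟩ := exists_relations a
  exact ⟨m, b, hb1, solves_linearMap a b hb2 I J⟩

end Groth.Agent.Lib.Helper10.HomInjFlat
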