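import Mathlib
import Groth.Prelude.Def_DRing4
import Groth.Agent.Lib.Helper10HomInjFlat

/-!
# `Hom•(X, Y)` for bounded complexes of flat/injective modules (helper10)
-/

set_option autoImplicit false
set_option backward.isDefEq.respectTransparency.types false
universe u
open CategoryTheory CategoryTheory.Limits CochainComplex CochainComplex.HomComplex

namespace Groth.Agent.Lib.Helper10.HomInjFlatB

open DRing Groth.Agent.Lib.Helper10.HomInjFlat

variable {A : Type u} [CommRing A]

/-- cochains as a product of `Hom` modules -/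
noncomputable def cochainEquiv (X Y : Cx A) (n : ℤ) :
    Cochain X Y n ≃ₗ[A] (∀ p : ℤ, (X.X p →ₗ[A] Y.X (p + n))) where
  toFun z p := (z.v p (p + n) rfl).hom
  map_add' z z' := by
    ext p x
    simp
  map_smul' r z := by
    ext p x
    simp
  invFun f := Cochain.mk (fun p q hpq => ModuleCat.ofHom (f p) ≫ eqToHom (by rw [hpq]))
  left_inv z := by
    refine Cochain.ext _ _ (fun p q hpq => ?_)
    subst hpq
    simp
  right_inv f := by
    ext p x
    simp

lemma vanishesOutside_homCx (X Y : Cx A) (a b c d : ℤ) (hX : VanishesOutside X a b)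
    (hY : VanishesOutside Y c d) : VanishesOutside (homCx X Y) (c - b) (d - a) := by
  intro n hn
  haveI : Subsingleton (Cochain X Y n) := by
    refine ⟨fun z z' => Cochain.ext _ _ (fun p q hpq => ?_)⟩
    by_cases hp : p < a ∨ b < p
    · exact (hX p hp).eq_of_src _ _
    · exact (hY q (by omega)).eq_of_tgt _ _
  exact ModuleCat.isZero_of_subsingleton (ModuleCat.of A (Cochain X Y n))

lemma termwiseInjective_homCx (X Y : Cx A)
    (h : ∀ p q : ℤ, Module.Injective A (X.X p →ₗ[A] Y.X q)) :
    TermwiseInjective (homCx X Y) := by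
  intro n
  haveI : ∀ p : ℤ, Module.Injective A (X.X p →ₗ[A] Y.X (p + n)) := fun p => h p (p + n)
  have h1 : Module.Injective A (∀ p : ℤ, (X.X p →ₗ[A] Y.X (p + n))) := inferInstance
  exact ((Module.Baer.of_injective h1).of_equiv (cochainEquiv X Y n).symm).injective

lemma Solves.pi {n m : ℕ} {a : Fin n → A} {b : Fin m → Fin n → A} {ι : Type*}
    (M : ι → Type*) [∀ i, AddCommGroup (M i)] [∀ i, Module A (M i)]
    (h : ∀ i, Solves a b (M i)) : Solves a b (∀ i, M i) := by
  intro x hx
  have h1 : ∀ k : ι, ∃ y : Fin m → M k, ∀ i, x i k = ∑ j, b j i • y j := by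
    intro k
    apply h k (fun i => x i k)
    have := congrFun hx k
    simpa using this
  choose y hy using h1
  refine ⟨fun j k => y k j, fun i => ?_⟩
  ext k
  rw [hy k i]
  simp

lemma termwiseFlat_homCx [IsNoetherianRing A] (X Y : Cx A) (hX : TermwiseInjective X)
    (hY : TermwiseInjective Y) : TermwiseFlat (homCx X Y) := by
  intro n
  change Module.Flat A (Cochain X Y n)
  apply flat_of_solves
  intro l a
  obtain ⟨m, b, hb1, hb2⟩ := exists_relations a
  refine ⟨m, b, hb1, ?_⟩
  refine Solves.of_linearEquiv (cochainEquiv X Y n).symm (Solves.pi _ (fun p => ?_))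
  haveI := hX p
  haveI := hY (p + n)
  exact solves_linearMap a b hb2 _ _

lemma termwiseInjective_homCx_of_flat (X Y : Cx A) (hX : TermwiseFlat X)
    (hY : TermwiseInjective Y) : TermwiseInjective (homCx X Y) := by
  apply termwiseInjective_homCx
  intro p q
  haveI := hX p
  haveI := hY q
  exact injective_linearMap_of_flat _ _

end Groth.Agent.Lib.Helper10.HomInjFlatB
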