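import Mathlib
import Groth.Prelude.Def_DRing4
import Groth.Agent.Lib.Helper10TensHom
import Groth.Agent.Lib.Helper1KF10
import Groth.Agent.Lib.Helper1KF12
import Groth.Agent.Lib.Helper1DT2
import Groth.Agent.Lib.Helper10DualCx
set_option backward.isDefEq.respectTransparency.types false

/-!
# `Hom•(P, K)` is K-flat for `P` perfect K-projective and `K` K-flat (helper10)

`HK E`: for every K-flat `K` the Hom complex `Hom•(E, K)` is K-flat.  This property is closed under
retracts, homotopy equivalences, shifts and degreewise split extensions, and holds for the unit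
complex; hence it holds for bounded complexes of finite projective modules (`HK_of_bounded`) and
for every K-projective complex which is perfect in `D(A)` (`HK_of_perfect`).
-/

set_option autoImplicit false
universe u
open CategoryTheory CategoryTheory.Limits MonoidalCategory HomologicalComplex CochainComplex
  CochainComplex.HomComplex

namespace Groth.Agent.Lib.Helper10.HomKFlat
open Groth.Agent.Lib.Helper1.KF Groth.Agent.Lib.Helper10.TensHom

variable {A : Type u} [CommRing A]

/-- `Hom•(E, K)` is K-flat for every K-flat `K` -/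
def HK (E : Cx A) : Prop := ∀ K : Cx A, KFlat K → KFlat (DRing.homCx E K)

lemma homCxPre_id (P Y : Cx A) : homCxPre (𝟙 P) Y = 𝟙 _ := by
  ext n : 1
  ext z
  refine Cochain.ext _ _ (fun p q hpq => ?_)
  erw [homCxPre_f_apply_v]
  simp

section Retract

lemma Acyc.of_retract {X Y : Cx A} (i : X ⟶ Y) (r : Y ⟶ X) (h : i ≫ r = 𝟙 X) (hY : Acyc Y) :
    Acyc X := by
  intro n
  rw [IsZero.iff_id_eq_zero]
  have h1 : HomologicalComplex.homologyMap i n ≫ HomologicalComplex.homologyMap r n =
      𝟙 (X.homology n) := by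
    rw [← HomologicalComplex.homologyMap_comp, h, HomologicalComplex.homologyMap_id]
  rw [← h1, (hY n).eq_of_tgt (HomologicalComplex.homologyMap i n) 0, zero_comp]

lemma KFlat.of_retract {X Y : Cx A} (i : X ⟶ Y) (r : Y ⟶ X) (h : i ≫ r = 𝟙 X) (hY : KFlat Y) :
    KFlat X := fun L hL =>
  Acyc.of_retract (L ◁ i) (L ◁ r)
    (by rw [← MonoidalCategory.whiskerLeft_comp, h, MonoidalCategory.whiskerLeft_id]) (hY L hL)

lemma HK.of_retract {E E' : Cx A} (i : E ⟶ E') (r : E' ⟶ E) (h : i ≫ r = 𝟙 E) (hE' : HK E') :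
    HK E := fun K hK =>
  KFlat.of_retract (homCxPre r K) (homCxPre i K)
    (by rw [← homCxPre_comp, h, homCxPre_id]) (hE' K hK)

lemma HK.of_iso {E E' : Cx A} (e : E ≅ E') (hE' : HK E') : HK E :=
  HK.of_retract e.hom e.inv e.hom_inv_id hE'

end Retract

section Homotopy

/-- composition on the left with a fixed cochain, as a linear map -/
noncomputable def compLinL {P P' : Cx A} (Y : Cx A) {m : ℤ} (z₀ : Cochain P P' m) (p q : ℤ)
    (hpq : m + p = q) : Cochain P' Y p →ₗ[A] Cochain P Y q where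
  toFun c := z₀.comp c hpq
  map_add' c c' := by simp
  map_smul' a c := by simp

/-- `Hom•(-, Y)` preserves homotopies -/
noncomputable def homCxPreHomotopy {P P' : Cx A} {f g : P ⟶ P'} (h : Homotopy f g) (Y : Cx A) :
    Homotopy (homCxPre f Y) (homCxPre g Y) := by
  obtain ⟨z₀, hz⟩ := Cochain.equivHomotopy f g h
  refine (Cochain.equivHomotopy _ _).symm ⟨Cochain.mk (fun p q hpq =>
    p.negOnePow • ModuleCat.ofHom (compLinL Y z₀ p q (by omega))), ?_⟩
  refine Cochain.ext _ _ (fun p q hpq => ?_)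
  obtain rfl : p = q := by omega
  rw [Cochain.add_v, δ_v (-1) 0 (by simp) _ p p (add_zero p) (p - 1) (p + 1) rfl rfl,
    Cochain.ofHom_v, Cochain.ofHom_v, Int.negOnePow_zero, one_smul, Cochain.mk_v, Cochain.mk_v]
  ext (c : Cochain P' Y p)
  change (Cochain.ofHom f).comp c (zero_add p) =
    δ (p - 1) p (((p.negOnePow • ModuleCat.ofHom (compLinL Y z₀ p (p - 1) (by omega))).hom c)) +
      ((p + 1).negOnePow • ModuleCat.ofHom (compLinL Y z₀ (p + 1) p (by omega))).hom
        (δ p (p + 1) c) + (Cochain.ofHom g).comp c (zero_add p)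
  rw [hom_units_smul, hom_units_smul]
  change _ = δ (p - 1) p (p.negOnePow • z₀.comp c (by omega)) +
    (p + 1).negOnePow • z₀.comp (δ p (p + 1) c) (by omega) + _
  rw [δ_units_smul, δ_comp z₀ c (show (-1 : ℤ) + p = p - 1 by omega) 0 (p + 1) p
    (by omega) (by simp) rfl, hz, Cochain.add_comp, smul_add, smul_smul,
    ← Int.negOnePow_add, Int.negOnePow_even _ (Even.add_self p), one_smul, Int.negOnePow_succ,
    Units.neg_smul]
  abel

/-- `Hom•(-, Y)` sends homotopy equivalences to homotopy equivalences -/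
noncomputable def homCxPreHomotopyEquiv {P P' : Cx A} (e : HomotopyEquiv P P') (Y : Cx A) :
    HomotopyEquiv (DRing.homCx P' Y) (DRing.homCx P Y) where
  hom := homCxPre e.hom Y
  inv := homCxPre e.inv Y
  homotopyHomInvId :=
    (Homotopy.ofEq (homCxPre_comp e.inv e.hom Y).symm).trans
      ((homCxPreHomotopy e.homotopyInvHomId Y).trans (Homotopy.ofEq (homCxPre_id P' Y)))
  homotopyInvHomId :=
    (Homotopy.ofEq (homCxPre_comp e.hom e.inv Y).symm).trans
      ((homCxPreHomotopy e.homotopyHomInvId Y).trans (Homotopy.ofEq (homCxPre_id P Y)))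

lemma HK.of_homotopyEquiv {E E' : Cx A} (e : HomotopyEquiv E E') (hE' : HK E') : HK E :=
  fun K hK => KFlat.of_homotopyEquiv (homCxPreHomotopyEquiv e K) (hE' K hK)

end Homotopy

section SES

/-- precomposition with a family of maps (not necessarily a chain map), on cochains -/
noncomputable def famLin {P P' : Cx A} (φ : ∀ p, P.X p ⟶ P'.X p) (Y : Cx A) (n : ℤ) :
    Cochain P' Y n →ₗ[A] Cochain P Y n where
  toFun z := Cochain.mk (fun p q hpq => φ p ≫ z.v p q hpq)
  map_add' z z' := by
    refine Cochain.ext _ _ (fun p q hpq => ?_)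
    simp
  map_smul' a z := by
    refine Cochain.ext _ _ (fun p q hpq => ?_)
    simp

/-- the short complex `Hom(X₃, Y) ⟶ Hom(X₂, Y) ⟶ Hom(X₁, Y)` -/
noncomputable abbrev homSC (S : ShortComplex (Cx A)) (Y : Cx A) : ShortComplex (Cx A) :=
  ShortComplex.mk (homCxPre S.g Y) (homCxPre S.f Y)
    (by rw [← homCxPre_comp, S.zero, homCxPre_zero])

/-- `Hom(-, Y)` sends degreewise split short exact sequences to degreewise split short exact
sequences -/
noncomputable def homSC_splitting (S : ShortComplex (Cx A))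
    (σ : ∀ n, (S.map (HomologicalComplex.eval _ _ n)).Splitting) (Y : Cx A) (n : ℤ) :
    ((homSC S Y).map (HomologicalComplex.eval _ _ n)).Splitting := by
  have hS := (HomologicalComplex.shortExact_iff_degreewise_shortExact (homSC S Y)).1
    (homCxPre_shortExact S σ Y) n
  refine ShortComplex.Splitting.ofExactOfSection _ hS.exact
    (ModuleCat.ofHom (famLin (fun p => (σ p).r) Y n)) ?_ hS.mono_f
  ext (y : Cochain S.X₁ Y n)
  refine Cochain.ext _ _ (fun p q hpq => ?_)
  change (((homCxPre S.f Y).f n).hom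
    (Cochain.mk (fun p q hpq => (σ p).r ≫ y.v p q hpq)) : Cochain S.X₁ Y n).v p q hpq = _
  erw [homCxPre_f_apply_v]
  rw [Cochain.mk_v, ← Category.assoc]
  have := (σ p).f_r
  change S.f.f p ≫ (σ p).r = 𝟙 _ at this
  rw [this]
  exact Category.id_comp _

lemma HK.of_ses (S : ShortComplex (Cx A))
    (σ : ∀ n, (S.map (HomologicalComplex.eval _ _ n)).Splitting)
    (h₁ : HK S.X₁) (h₃ : HK S.X₃) : HK S.X₂ := fun K hK =>
  KFlat.X₂ (S := homSC S K)
    (fun L => tensorLeft_shortExact_of_splitting L _ (homSC_splitting S σ K)) (h₃ K hK) (h₁ K hK)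

end SES

section Unit

/-- `Hom•(𝟙, -) ≅ id` by uniqueness of right adjoints -/
noncomputable def homUnitIso : DRing.homCxFunctor (𝟙_ (Cx A)) ≅ 𝟭 (Cx A) :=
  ((adj (𝟙_ (Cx A))).ofNatIsoLeft (rightUnitorNatIso (Cx A))).rightAdjointUniq Adjunction.id

lemma HK_unit : HK (𝟙_ (Cx A)) := fun K hK =>
  KFlat.of_retract (homUnitIso.app K).hom (homUnitIso.app K).inv (homUnitIso.app K).hom_inv_id hK

end Unit

section Shift

/-- `- ⊗ X⟦n⟧ ≅ (- ⊗ X)⟦n⟧`, naturally -/
noncomputable def tensorRightShiftIso (X : Cx A) (n : ℤ) :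
    tensorRight (X⟦n⟧) ≅ tensorRight X ⋙ CategoryTheory.shiftFunctor (Cx A) n :=
  NatIso.ofComponents (fun L => tensorShiftRightIso L X n) (fun {L L'} f => by
    have := NatTrans.shift_app_comm
      ((curriedTensor (ModuleCat.{u} A)).map₂CochainComplex.map f) n X
    exact this.symm)

/-- `Hom•(X⟦n⟧, -) ≅ Hom•(X, -⟦-n⟧)` by uniqueness of right adjoints -/
noncomputable def homShiftIso (X : Cx A) (n : ℤ) :
    DRing.homCxFunctor (X⟦n⟧) ≅ CategoryTheory.shiftFunctor (Cx A) (-n) ⋙ DRing.homCxFunctor X :=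
  ((adj (X⟦n⟧)).ofNatIsoLeft (tensorRightShiftIso X n)).rightAdjointUniq
    ((adj X).comp (shiftEquiv (Cx A) n).toAdjunction)

lemma HK.shift {X : Cx A} (hX : HK X) (n : ℤ) : HK (X⟦n⟧) := fun K hK =>
  KFlat.of_retract ((homShiftIso X n).app K).hom ((homShiftIso X n).app K).inv
    ((homShiftIso X n).app K).hom_inv_id (hX _ (hK.shift (-n)))

end Shift

section Single

/-- the module `M` placed in degree `b` -/
noncomputable abbrev sg (b : ℤ) (M : ModuleCat.{u} A) : Cx A :=
  (HomologicalComplex.single (ModuleCat.{u} A) (ComplexShape.up ℤ) b).obj M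

lemma HK.of_isZero {E : Cx A} (hE : IsZero E) : HK E :=
  HK.of_retract (0 : E ⟶ 𝟙_ (Cx A)) 0 (hE.eq_of_src _ _) HK_unit

lemma HK_sg_unit (b : ℤ) : HK (sg b (ModuleCat.of A A)) := by
  have e : (𝟙_ (Cx A))⟦-b⟧ ≅ sg b (ModuleCat.of A A) :=
    ((CochainComplex.singleFunctors (ModuleCat.{u} A)).shiftIso (-b) b 0 (by omega)).app
      (ModuleCat.of A A)
  exact HK.of_iso e.symm (HK_unit.shift (-b))

/-- closure under split extensions of modules -/
lemma HK_sg_of_splitting (b : ℤ) (S₀ : ShortComplex (ModuleCat.{u} A)) (σ₀ : S₀.Splitting)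
    (h₁ : HK (sg b S₀.X₁)) (h₃ : HK (sg b S₀.X₃)) : HK (sg b S₀.X₂) :=
  HK.of_ses (S₀.map (HomologicalComplex.single (ModuleCat.{u} A) (ComplexShape.up ℤ) b))
    (fun n => (σ₀.map (HomologicalComplex.single (ModuleCat.{u} A) (ComplexShape.up ℤ) b)).map
      (HomologicalComplex.eval _ _ n)) h₁ h₃

/-- the split short exact sequence `A → A^{n+1} → A^n` -/
noncomputable def finSC (n : ℕ) : ShortComplex (ModuleCat.{u} A) :=
  ShortComplex.mk
    (ModuleCat.ofHom (LinearMap.single A (fun _ : Fin (n + 1) => A) 0) :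
      ModuleCat.of A A ⟶ ModuleCat.of A (Fin (n + 1) → A))
    (ModuleCat.ofHom (LinearMap.funLeft A A Fin.succ) :
      ModuleCat.of A (Fin (n + 1) → A) ⟶ ModuleCat.of A (Fin n → A))
    (by
      refine ModuleCat.hom_ext (LinearMap.ext fun x => funext fun i => ?_)
      change (Pi.single (0 : Fin (n + 1)) x : Fin (n + 1) → A) (Fin.succ i) = 0
      exact Pi.single_eq_of_ne (Fin.succ_ne_zero i) x)

/-- the section `A^n → A^{n+1}` -/
noncomputable def consLin (n : ℕ) : (Fin n → A) →ₗ[A] (Fin (n + 1) → A) where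
  toFun := fun w => (Fin.cons 0 w : Fin (n + 1) → A)
  map_add' := fun w w' => by
    funext i
    refine Fin.cases ?_ (fun j => ?_) i <;> simp
  map_smul' := fun a w => by
    funext i
    refine Fin.cases ?_ (fun j => ?_) i <;> simp

noncomputable def finSC_splitting (n : ℕ) : (finSC (A := A) n).Splitting where
  r := ModuleCat.ofHom (LinearMap.proj (R := A) (φ := fun _ : Fin (n + 1) => A) 0)
  s := ModuleCat.ofHom (consLin n)
  f_r := by
    refine ModuleCat.hom_ext (LinearMap.ext fun (x : A) => ?_)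
    change (Pi.single (0 : Fin (n + 1)) x : Fin (n + 1) → A) 0 = x
    exact Pi.single_eq_same (M := fun _ : Fin (n + 1) => A) 0 x
  s_g := by
    refine ModuleCat.hom_ext (LinearMap.ext fun w => funext fun i => ?_)
    change (Fin.cons 0 w : Fin (n + 1) → A) (Fin.succ i) = w i
    exact Fin.cons_succ _ _ _
  id := by
    refine ModuleCat.hom_ext (LinearMap.ext fun (v : Fin (n + 1) → A) => funext fun i => ?_)
    change (Pi.single (0 : Fin (n + 1)) (v 0) : Fin (n + 1) → A) i +
      (Fin.cons 0 (fun j => v (Fin.succ j)) : Fin (n + 1) → A) i = v i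
    refine Fin.cases ?_ (fun j => ?_) i
    · rw [Pi.single_eq_same, Fin.cons_zero, add_zero]
    · rw [Pi.single_eq_of_ne (Fin.succ_ne_zero j), Fin.cons_succ, zero_add]

lemma HK_sg_fin (b : ℤ) (n : ℕ) : HK (sg b (ModuleCat.of A (Fin n → A))) := by
  induction n with
  | zero =>
    apply HK.of_isZero
    apply Functor.map_isZero
    exact ModuleCat.isZero_of_subsingleton _
  | succ n ih => exact HK_sg_of_splitting b (finSC n) (finSC_splitting n) (HK_sg_unit b) ih

lemma HK_sg_of_finite_projective (b : ℤ) (M : ModuleCat.{u} A) [Module.Finite A M]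
    [Module.Projective A M] : HK (sg b M) := by
  obtain ⟨n, f, g, -, -, hfg⟩ := Module.Finite.exists_comp_eq_id_of_projective A M
  refine HK.of_retract
    ((HomologicalComplex.single (ModuleCat.{u} A) (ComplexShape.up ℤ) b).map
      (ModuleCat.ofHom g : M ⟶ ModuleCat.of A (Fin n → A)))
    ((HomologicalComplex.single (ModuleCat.{u} A) (ComplexShape.up ℤ) b).map
      (ModuleCat.ofHom f : ModuleCat.of A (Fin n → A) ⟶ M)) ?_ (HK_sg_fin b n)
  rw [← Functor.map_comp, ← ModuleCat.ofHom_comp, hfg]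
  exact CategoryTheory.Functor.map_id _ _

end Single

section Devissage

/-- peeling off the top term of a bounded above complex -/
lemma exists_step (E : Cx A) (b : ℤ) (hE : ∀ i : ℤ, b < i → IsZero (E.X i)) :
    ∃ C : Cx A, IsZero (C.X b) ∧ (∀ i : ℤ, i ≠ b → Nonempty (E.X i ≅ C.X i)) ∧
      (HK (sg b (E.X b)) → HK C → HK E) := by
  obtain ⟨ι, hι⟩ : ∃ ι : sg b (E.X b) ⟶ E,
      ι.f b = (singleObjXSelf (ComplexShape.up ℤ) b (E.X b)).hom :=
    ⟨mkHomFromSingle (𝟙 _) (fun k hk => by
      obtain rfl : b + 1 = k := hk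
      exact (hE (b + 1) (by omega)).eq_of_tgt _ _), by
      rw [mkHomFromSingle_f, Category.comp_id]⟩
  have hmono : Mono ι := by
    apply HomologicalComplex.mono_of_mono_f
    intro i
    by_cases hi : i = b
    · subst hi
      rw [hι]
      infer_instance
    · exact (isZero_single_obj_X (ComplexShape.up ℤ) b (E.X b) i hi).mono _
  let S : ShortComplex (Cx A) := ShortComplex.mk ι (cokernel.π ι) (cokernel.condition ι)
  have hS : S.ShortExact :=
    { exact := ShortComplex.exact_cokernel ι
      mono_f := hmono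
      epi_g := inferInstanceAs (Epi (cokernel.π ι)) }
  have hSi : ∀ i : ℤ, (S.map (eval _ _ i)).ShortExact :=
    (HomologicalComplex.shortExact_iff_degreewise_shortExact S).1 hS
  have hiso : ∀ i : ℤ, i ≠ b → IsIso ((cokernel.π ι).f i) := fun i hi =>
    (hSi i).isIso_g_iff.2 (isZero_single_obj_X (ComplexShape.up ℤ) b (E.X b) i hi)
  have hzero : IsZero ((cokernel ι).X b) :=
    (hSi b).isIso_f_iff.1 (by
      show IsIso (ι.f b)
      rw [hι]
      infer_instance)
  have hσ : ∀ n : ℤ, Nonempty ((S.map (eval _ _ n)).Splitting) := by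
    intro n
    by_cases hn : n = b
    · subst hn
      refine ⟨ShortComplex.Splitting.ofIsIsoOfIsZero _ ?_ hzero⟩
      show IsIso (ι.f n)
      rw [hι]
      infer_instance
    · exact ⟨ShortComplex.Splitting.ofIsZeroOfIsIso _
        (isZero_single_obj_X (ComplexShape.up ℤ) b (E.X b) n hn) (hiso n hn)⟩
  refine ⟨cokernel ι, hzero, fun i hi => ?_, fun h₁ h₃ => ?_⟩
  · have := hiso i hi
    exact ⟨asIso ((cokernel.π ι).f i)⟩
  · exact HK.of_ses S (fun n => (hσ n).some) h₁ h₃

/-- dévissage along the stupid truncations -/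
theorem HK_of_bounded_aux (k : ℕ) : ∀ (E : Cx A) (a : ℤ),
    (∀ i : ℤ, (i < a ∨ a + k - 1 < i) → IsZero (E.X i)) →
    (∀ j : ℤ, HK (sg j (E.X j))) → HK E := by
  induction k with
  | zero =>
    intro E a hE _
    apply HK.of_isZero
    rw [IsZero.iff_id_eq_zero]
    ext i : 1
    exact (hE i (by
      by_cases h : i < a
      · exact Or.inl h
      · exact Or.inr (by push_cast; omega))).eq_of_src _ _
  | succ k ih =>
    intro E a hE hP
    have hc : a + ((k + 1 : ℕ) : ℤ) - 1 = a + k := by push_cast; ring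
    rw [hc] at hE
    obtain ⟨C, hCb, hCi, hstep⟩ := exists_step E (a + k) (fun i hi => hE i (Or.inr hi))
    refine hstep (hP _) (ih C a ?_ ?_)
    · intro i hi
      by_cases hib : i = a + k
      · subst hib
        exact hCb
      · obtain ⟨e⟩ := hCi i hib
        exact (hE i (by omega)).of_iso e.symm
    · intro j
      by_cases hjb : j = a + k
      · subst hjb
        exact HK.of_isZero (Functor.map_isZero _ hCb)
      · obtain ⟨e⟩ := hCi j hjb
        exact HK.of_iso ((HomologicalComplex.single (ModuleCat.{u} A) (ComplexShape.up ℤ) j).mapIso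
          e.symm) (hP j)

/-- a bounded complex of finite projective modules has `HK` -/
theorem HK_of_bounded (E : Cx A) (a b : ℤ) (hE : DRing.VanishesOutside E a b)
    (hfp : DRing.TermwiseFiniteProjective E) : HK E := by
  have hP : ∀ j : ℤ, HK (sg j (E.X j)) := fun j => by
    haveI := (hfp j).1
    haveI := (hfp j).2
    exact HK_sg_of_finite_projective j (E.X j)
  by_cases hab : a ≤ b + 1
  · obtain ⟨k, hk⟩ : ∃ k : ℕ, (k : ℤ) = b + 1 - a :=
      ⟨(b + 1 - a).toNat, Int.toNat_of_nonneg (by omega)⟩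
    refine HK_of_bounded_aux k E a (fun i hi => hE i (by omega)) hP
  · apply HK.of_isZero
    rw [IsZero.iff_id_eq_zero]
    ext i : 1
    exact (hE i (by omega)).eq_of_src _ _

end Devissage

section Perfect

attribute [local instance] HasDerivedCategory.standard

open DerivedCategory

/-- K-projective complexes which are isomorphic in `D(A)` are homotopy equivalent -/
lemma nonempty_homotopyEquiv_of_iso (P E : Cx A) [P.IsKProjective] [E.IsKProjective]
    (e : Q.obj P ≅ Q.obj E) : Nonempty (HomotopyEquiv P E) := by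
  obtain ⟨f, hf⟩ := Groth.Agent.Lib.Helper1.DT.Q_map_surjective P E e.hom
  obtain ⟨g, hg⟩ := Groth.Agent.Lib.Helper1.DT.Q_map_surjective E P e.inv
  obtain ⟨h1⟩ := Groth.Agent.Lib.Helper1.DT.homotopy_of_Q_map_eq P P (f ≫ g) (𝟙 P)
    (by rw [Functor.map_comp, hf, hg, e.hom_inv_id, CategoryTheory.Functor.map_id])
  obtain ⟨h2⟩ := Groth.Agent.Lib.Helper1.DT.homotopy_of_Q_map_eq E E (g ≫ f) (𝟙 E)
    (by rw [Functor.map_comp, hf, hg, e.inv_hom_id, CategoryTheory.Functor.map_id])
  exact ⟨{ hom := f, inv := g, homotopyHomInvId := h1, homotopyInvHomId := h2 }⟩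

/-- **`Hom•(P, K)` is K-flat** for `P` K-projective and perfect, `K` K-flat -/
theorem HK_of_perfect (P : Cx A) [P.IsKProjective] (hperf : DRing.IsPerfect A (DRing.toD P)) :
    HK P := by
  obtain ⟨E, a, b, hE, hfp, ⟨e⟩⟩ := hperf
  haveI : E.IsKProjective :=
    Groth.Agent.Lib.Helper10.DualCx.isKProjective_of_vanishesOutside E a b hE (fun i => (hfp i).2)
  obtain ⟨he⟩ := nonempty_homotopyEquiv_of_iso P E e.symm
  exact HK.of_homotopyEquiv he (HK_of_bounded E a b hE hfp)

end Perfect

end Groth.Agent.Lib.Helper10.HomKFlat
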