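import Mathlib

/-!
# A sliding hump argument

An `f`-adically complete and separated module all of whose elements are `f`-power torsion is
killed by a single power of `f`.
-/

set_option autoImplicit false

namespace Groth.Agent.Lib.Helper10.Hump

variable {A : Type*} [CommRing A] {N : Type*} [AddCommGroup N] [Module A N] (f : A)

/-- `y ∈ f^n N`. -/
def D (n : ℕ) (y : N) : Prop := ∃ w : N, f ^ n • w = y

lemma D_mono {m n : ℕ} (h : m ≤ n) {y : N} (hy : D f n y) : D f m y := by
  obtain ⟨w, rfl⟩ := hy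
  refine ⟨f ^ (n - m) • w, ?_⟩
  rw [smul_smul, ← pow_add, Nat.add_sub_cancel' h]

lemma D_add {n : ℕ} {y z : N} (hy : D f n y) (hz : D f n z) : D f n (y + z) := by
  obtain ⟨w, rfl⟩ := hy
  obtain ⟨v, rfl⟩ := hz
  exact ⟨w + v, smul_add _ _ _⟩

lemma D_smul {n : ℕ} (a : A) {y : N} (hy : D f n y) : D f n (a • y) := by
  obtain ⟨w, rfl⟩ := hy
  exact ⟨a • w, smul_comm _ _ _⟩

lemma D_iff_mem (n : ℕ) (y : N) :
    D f n y ↔ y ∈ ((Ideal.span {f}) ^ n • ⊤ : Submodule A N) := by
  rw [Ideal.span_singleton_pow, Submodule.ideal_span_singleton_smul,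
    Submodule.mem_smul_pointwise_iff_exists]
  constructor
  · rintro ⟨w, rfl⟩; exact ⟨w, trivial, rfl⟩
  · rintro ⟨w, -, rfl⟩; exact ⟨w, rfl⟩

theorem exists_pow_smul_eq_zero [IsAdicComplete (Ideal.span {f}) N]
    (htors : ∀ x : N, ∃ n : ℕ, f ^ n • x = 0) : ∃ c : ℕ, ∀ x : N, f ^ c • x = 0 := by
  classical
  by_contra hcon
  push_neg at hcon
  choose X hX using hcon
  -- separatedness
  have hH : ∀ y : N, y ≠ 0 → ∃ n, ¬ D f n y := by
    intro y hy
    by_contra h
    push_neg at h
    apply hy
    apply IsHausdorff.haus (inferInstance : IsHausdorff (Ideal.span {f}) N)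
    intro n
    rw [SModEq.zero, ← D_iff_mem]
    exact h n
  let ν : N → ℕ := fun y => if h : y ≠ 0 then Classical.choose (hH y h) else 0
  have hν : ∀ y : N, y ≠ 0 → ¬ D f (ν y) y := by
    intro y hy
    simp only [ν, dif_pos hy]
    exact Classical.choose_spec (hH y hy)
  let next : ℕ → N → ℕ → N := fun J s k => if f ^ J • s ≠ 0 then s else s + f ^ k • X (k + J)
  have hnext : ∀ J s k, f ^ J • next J s k ≠ 0 := by
    intro J s k
    by_cases h : f ^ J • s ≠ 0
    · simp only [next, if_pos h]; exact h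
    · simp only [next, if_neg h]
      rw [not_not] at h
      rw [smul_add, h, zero_add, smul_smul, ← pow_add, add_comm J k]
      exact hX _
  have hnextD : ∀ J s k, D f k (next J s k - s) := by
    intro J s k
    by_cases h : f ^ J • s ≠ 0
    · simp only [next, if_pos h, sub_self]; exact ⟨0, smul_zero _⟩
    · simp only [next, if_neg h, add_sub_cancel_left]; exact ⟨_, rfl⟩
  let st : ℕ → N × ℕ := fun J => Nat.rec (0, 0)
    (fun J p => (next J p.1 p.2, max (ν (f ^ J • next J p.1 p.2)) (p.2 + 1))) J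
  have hst : ∀ J, st (J + 1) = (next J (st J).1 (st J).2,
      max (ν (f ^ J • next J (st J).1 (st J).2)) ((st J).2 + 1)) := fun J => rfl
  have hk : ∀ J, (st J).2 < (st (J + 1)).2 := by
    intro J
    rw [hst]
    exact lt_of_lt_of_le (Nat.lt_succ_self _) (le_max_right _ _)
  have hkJ : ∀ J, J ≤ (st J).2 := by
    intro J
    induction J with
    | zero => exact Nat.zero_le _
    | succ J ih => exact Nat.succ_le_of_lt (lt_of_le_of_lt ih (hk J))
  have hkmono : ∀ {a b : ℕ}, a ≤ b → (st a).2 ≤ (st b).2 := by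
    intro a b hab
    induction hab with
    | refl => exact le_rfl
    | step _ ih => exact ih.trans (hk _).le
  have hinc : ∀ J, D f (st J).2 ((st (J + 1)).1 - (st J).1) := by
    intro J
    rw [hst]
    exact hnextD _ _ _
  have hnot : ∀ J, ¬ D f (st (J + 1)).2 (f ^ J • (st (J + 1)).1) := by
    intro J h
    rw [hst] at h
    exact hν _ (hnext J _ _) (D_mono f (le_max_left _ _) h)
  have hdiff : ∀ J L, J ≤ L → D f (st J).2 ((st L).1 - (st J).1) := by
    intro J L hJL
    induction hJL with
    | refl => rw [sub_self]; exact ⟨0, smul_zero _⟩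
    | @step L hJL ih =>
      have : (st (L + 1)).1 - (st J).1 = ((st (L + 1)).1 - (st L).1) + ((st L).1 - (st J).1) := by
        abel
      rw [this]
      exact D_add f (D_mono f (hkmono hJL) (hinc L)) ih
  -- the limit
  obtain ⟨z, hz⟩ := IsPrecomplete.prec (inferInstance : IsPrecomplete (Ideal.span {f}) N)
    (f := fun J => (st J).1) (by
      intro a b hab
      apply SModEq.symm
      rw [SModEq.sub_mem, ← D_iff_mem]
      exact D_mono f (hkJ a) (hdiff a b hab))
  obtain ⟨e, he⟩ := htors z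
  apply hnot e
  -- `z - s_{e+1} ∈ f^{k_{e+1}} N`
  have h1 : D f (st (e + 1)).2 (z - (st (e + 1)).1) := by
    set L := max (st (e + 1)).2 (e + 1) with hL
    have h2 : D f L (z - (st L).1) := by
      have := (hz L).symm
      rw [SModEq.sub_mem, ← D_iff_mem] at this
      exact this
    have h3 : D f (st (e + 1)).2 ((st L).1 - (st (e + 1)).1) :=
      hdiff (e + 1) L (le_max_right _ _)
    have : z - (st (e + 1)).1 = (z - (st L).1) + ((st L).1 - (st (e + 1)).1) := by abel
    rw [this]
    exact D_add f (D_mono f (le_max_left _ _) h2) h3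
  have h4 : f ^ e • (st (e + 1)).1 = -(f ^ e • (z - (st (e + 1)).1)) := by
    rw [smul_sub, he, zero_sub, neg_neg]
  rw [h4]
  obtain ⟨w, hw⟩ := D_smul f (f ^ e) h1
  exact ⟨-w, by rw [smul_neg, hw]⟩

end Groth.Agent.Lib.Helper10.Hump
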