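import Mathlib

/-!
# Image subobjects in abelian categories (helper10)
-/

set_option autoImplicit false
open CategoryTheory CategoryTheory.Limits

namespace Groth.Agent.Lib.Helper10.ImSub

universe v u

variable {C : Type u} [Category.{v} C] [Abelian C]

theorem imageSubobject_epi_comp {X' X Y : C}
    (h : X' ⟶ X) [Epi h] (f : X ⟶ Y) : imageSubobject (h ≫ f) = imageSubobject f := by
  apply le_antisymm (imageSubobject_comp_le h f)
  haveI : IsIso (Subobject.ofLE _ _ (imageSubobject_comp_le h f)) := isIso_of_mono_of_epi _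
  refine Subobject.le_of_comm (inv (Subobject.ofLE _ _ (imageSubobject_comp_le h f))) ?_
  rw [IsIso.inv_comp_eq, Subobject.ofLE_arrow]

theorem imageSubobject_comp_eq {X Y Z : C} (h : X ⟶ Y) (g : Y ⟶ Z) :
    imageSubobject (h ≫ g) = imageSubobject ((imageSubobject h).arrow ≫ g) := by
  conv_lhs => rw [← imageSubobject_arrow_comp h, Category.assoc]
  exact imageSubobject_epi_comp _ _

theorem imageSubobject_arrow_comp_mono {Y Z : C} (S : Subobject Y) (g : Y ⟶ Z) [Mono g] :
    imageSubobject (S.arrow ≫ g) = (Subobject.map g).obj S := by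
  rw [imageSubobject_mono]
  conv_rhs => rw [← Subobject.mk_arrow S]
  rfl

theorem imageSubobject_comp_mono {X Y Z : C} (h : X ⟶ Y) (g : Y ⟶ Z) [Mono g] :
    imageSubobject (h ≫ g) = (Subobject.map g).obj (imageSubobject h) := by
  rw [imageSubobject_comp_eq, imageSubobject_arrow_comp_mono]

theorem imageSubobject_eq_top_of_epi {X Y : C} (f : X ⟶ Y) [Epi f] : imageSubobject f = ⊤ := by
  haveI : Epi (factorThruImageSubobject f ≫ (imageSubobject f).arrow) := by
    rw [imageSubobject_arrow_comp]; infer_instance
  haveI : Epi (imageSubobject f).arrow := epi_of_epi (factorThruImageSubobject f) _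
  haveI : IsIso (imageSubobject f).arrow := isIso_of_mono_of_epi _
  exact Subobject.eq_top_of_isIso_arrow _

end Groth.Agent.Lib.Helper10.ImSub
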