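import Mathlib
import Groth.Prelude.Def_AffAlg

/-!
# S3569: S-morphisms into an S-affine scheme = O_S-algebra homomorphisms (helper10)
-/

open CategoryTheory CategoryTheory.Limits AlgebraicGeometry TopologicalSpace Opposite

universe u

namespace Groth.Agent.Lib.Helper10.RelSpecHom

variable {X Y S : Scheme.{u}}

/-- Component of `A(h)` on an open `U` of `S`. -/
theorem algHom_app (f : X ⟶ S) (g : Y ⟶ S) (h : Y ⟶ X) (w : h ≫ f = g) (U : S.Opens) :
    (AffAlg.algHom f g h w).app (op U) =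
      h.appLE (f ⁻¹ᵁ U) (g ⁻¹ᵁ U) (by rw [← w]; exact le_rfl) := by
  subst w
  have h1 : (AffAlg.algHom f (h ≫ f) h rfl).app (op U) = h.app (f ⁻¹ᵁ U) := by
    simp only [AffAlg.algHom]
    rfl
  rw [h1]
  exact Scheme.Hom.app_eq_appLE h

/-- An `S`-morphism into `X` is determined on `g⁻¹U` by `A(h)(U)`. -/
theorem ι_comp_eq (f : X ⟶ S) (g : Y ⟶ S) (h : Y ⟶ X) (w : h ≫ f = g) (U : S.Opens)
    (hU : IsAffineOpen (f ⁻¹ᵁ U)) :
    (g ⁻¹ᵁ U).ι ≫ h =
      (g ⁻¹ᵁ U).toSpecΓ ≫ Spec.map ((AffAlg.algHom f g h w).app (op U)) ≫ hU.fromSpec := by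
  rw [algHom_app, Scheme.Opens.toSpecΓ_SpecMap_appLE_assoc, IsAffineOpen.toSpecΓ_fromSpec,
    Scheme.Hom.resLE_comp_ι]

/-- Cancellation: ring maps out of `Γ(Y, V)` are determined by the morphisms `V ⟶ Spec _`. -/
theorem toSpecΓ_cancel (V : Y.Opens) {R : CommRingCat.{u}} (a b : R ⟶ Γ(Y, V))
    (hab : V.toSpecΓ ≫ Spec.map a = V.toSpecΓ ≫ Spec.map b) : a = b := by
  have h1 := congrArg (fun m => (Scheme.ΓSpecIso R).inv ≫ m.appTop) hab
  simp only [Scheme.Hom.comp_appTop, Scheme.Opens.toSpecΓ_appTop] at h1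
  rw [← Category.assoc, ← Category.assoc, ← Category.assoc, ← Category.assoc] at h1
  have h2 : ∀ c : R ⟶ Γ(Y, V), ((Scheme.ΓSpecIso R).inv ≫ (Spec.map c).appTop) ≫
      (Scheme.ΓSpecIso Γ(Y, V)).hom = c := by
    intro c
    rw [Category.assoc, Scheme.ΓSpecIso_naturality, Iso.inv_hom_id_assoc]
  rw [h2, h2] at h1
  exact (cancel_mono _).mp h1

section Construction

variable (f : X ⟶ S) [IsAffineHom f] (g : Y ⟶ S) (ω : AffAlg.alg f ⟶ AffAlg.alg g)

/-- The local piece of the morphism attached to `ω` over an affine open `U` of `S`. -/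
noncomputable def piece (U : S.Opens) (hU : IsAffineOpen U) : (g ⁻¹ᵁ U).toScheme ⟶ X :=
  (g ⁻¹ᵁ U).toSpecΓ ≫ Spec.map (ω.app (op U)) ≫ (hU.preimage f).fromSpec

theorem homOfLE_piece {U V : S.Opens} (hU : IsAffineOpen U) (hV : IsAffineOpen V) (hUV : U ≤ V) :
    Y.homOfLE (show g ⁻¹ᵁ U ≤ g ⁻¹ᵁ V from fun _ hx => hUV hx) ≫ piece f g ω V hV =
      piece f g ω U hU := by
  have hgUV : g ⁻¹ᵁ U ≤ g ⁻¹ᵁ V := fun _ hx => hUV hx
  have hfUV : f ⁻¹ᵁ U ≤ f ⁻¹ᵁ V := fun _ hx => hUV hx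
  unfold piece
  rw [← Scheme.Opens.toSpecΓ_SpecMap_presheaf_map_assoc _ _ hgUV, ← Spec.map_comp_assoc]
  have hnat : ω.app (op V) ≫ Y.presheaf.map (homOfLE hgUV).op =
      X.presheaf.map (homOfLE hfUV).op ≫ ω.app (op U) :=
    (ω.naturality (homOfLE hUV).op).symm
  rw [hnat, Spec.map_comp_assoc, IsAffineOpen.map_fromSpec]

theorem piece_comp (hω : f.c ≫ ω = g.c) (U : S.Opens) (hU : IsAffineOpen U) :
    piece f g ω U hU ≫ f = (g ⁻¹ᵁ U).ι ≫ g := by
  unfold piece
  have h1 : f.app U ≫ ω.app (op U) = g.app U := by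
    have := congrArg (fun α => α.app (op U)) hω
    exact this
  rw [Category.assoc, Category.assoc,
    ← IsAffineOpen.SpecMap_appLE_fromSpec f hU (hU.preimage f) le_rfl,
    ← Scheme.Hom.app_eq_appLE, ← Spec.map_comp_assoc, h1,
    Scheme.Opens.toSpecΓ_naturality_assoc, IsAffineOpen.toSpecΓ_fromSpec, morphismRestrict_ι]

/-- The cover of `Y` by the `g⁻¹U`, `U` affine open in `S`. -/
noncomputable abbrev cov : Y.OpenCover := S.directedAffineCover.pullback₁ g

theorem cov_f (U : S.affineOpens) :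
    (cov g).f U = (pullbackRestrictIsoRestrict g U.1).hom ≫ (g ⁻¹ᵁ U.1).ι := by
  rw [pullbackRestrictIsoRestrict_hom_ι]
  rfl

theorem le_of_hom {U V : S.affineOpens} (hUV : @Quiver.Hom (cov g).I₀ _ U V) : U.1 ≤ V.1 :=
  @leOfHom S.affineOpens _ U V hUV

theorem trans_iso {U V : S.affineOpens} (hUV : @Quiver.Hom (cov g).I₀ _ U V) :
    (cov g).trans hUV ≫ (pullbackRestrictIsoRestrict g V.1).hom =
      (pullbackRestrictIsoRestrict g U.1).hom ≫
        Y.homOfLE (show g ⁻¹ᵁ U.1 ≤ g ⁻¹ᵁ V.1 from fun _ hx => (le_of_hom g hUV) hx) := by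
  apply (cancel_mono (g ⁻¹ᵁ V.1).ι).mp
  have e1 : (pullbackRestrictIsoRestrict g V.1).hom ≫ (g ⁻¹ᵁ V.1).ι = (cov g).f V :=
    (cov_f g V).symm
  have e2 : (pullbackRestrictIsoRestrict g U.1).hom ≫ (g ⁻¹ᵁ U.1).ι = (cov g).f U :=
    (cov_f g U).symm
  have e3 : Y.homOfLE (show g ⁻¹ᵁ U.1 ≤ g ⁻¹ᵁ V.1 from fun _ hx => (le_of_hom g hUV) hx) ≫
      (g ⁻¹ᵁ V.1).ι = (g ⁻¹ᵁ U.1).ι := Scheme.homOfLE_ι _ _
  exact (Category.assoc _ _ _).trans
    ((congrArg (fun m => (cov g).trans hUV ≫ m) e1).trans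
      (((cov g).trans_map hUV).trans
        (e2.symm.trans
          ((congrArg (fun m => (pullbackRestrictIsoRestrict g U.1).hom ≫ m) e3.symm).trans
            (Category.assoc _ _ _).symm))))

theorem compat {U V : S.affineOpens} (hUV : @Quiver.Hom (cov g).I₀ _ U V) :
    (cov g).trans hUV ≫ (pullbackRestrictIsoRestrict g V.1).hom ≫ piece f g ω V.1 V.2 =
      (pullbackRestrictIsoRestrict g U.1).hom ≫ piece f g ω U.1 U.2 := by
  exact (Category.assoc _ _ _).symm.trans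
    ((congrArg (fun m => m ≫ piece f g ω V.1 V.2) (trans_iso g hUV)).trans
      ((Category.assoc _ _ _).trans
        (congrArg (fun m => (pullbackRestrictIsoRestrict g U.1).hom ≫ m)
          (homOfLE_piece f g ω U.2 V.2 (le_of_hom g hUV)))))

/-- The glued morphism. -/
noncomputable def glued : Y ⟶ X :=
  (cov g).glueMorphismsOfLocallyDirected
    (fun U => (pullbackRestrictIsoRestrict g (U : S.affineOpens).1).hom ≫
      piece f g ω (U : S.affineOpens).1 (U : S.affineOpens).2)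
    (fun {U V} hUV => compat f g ω (U := U) (V := V) hUV)

theorem ι_glued (U : S.Opens) (hU : IsAffineOpen U) :
    (g ⁻¹ᵁ U).ι ≫ glued f g ω = piece f g ω U hU := by
  have h1 : (cov g).f (⟨U, hU⟩ : S.affineOpens) ≫ glued f g ω =
      (pullbackRestrictIsoRestrict g U).hom ≫ piece f g ω U hU :=
    (cov g).map_glueMorphismsOfLocallyDirected
      (fun U => (pullbackRestrictIsoRestrict g (U : S.affineOpens).1).hom ≫
        piece f g ω (U : S.affineOpens).1 (U : S.affineOpens).2)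
      (fun {U V} hUV => compat f g ω (U := U) (V := V) hUV)
      (⟨U, hU⟩ : S.affineOpens)
  have h2 : (cov g).f (⟨U, hU⟩ : S.affineOpens) =
      (pullbackRestrictIsoRestrict g U).hom ≫ (g ⁻¹ᵁ U).ι := cov_f g ⟨U, hU⟩
  apply (cancel_epi (pullbackRestrictIsoRestrict g U).hom).mp
  exact (Category.assoc _ _ _).symm.trans
    ((congrArg (fun m => m ≫ glued f g ω) h2.symm).trans h1)

theorem glued_comp (hω : f.c ≫ ω = g.c) : glued f g ω ≫ f = g := by
  refine (cov g).hom_ext _ _ fun U => ?_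
  have hU : IsAffineOpen (U : S.affineOpens).1 := (U : S.affineOpens).2
  have h2 : (cov g).f U =
      (pullbackRestrictIsoRestrict g (U : S.affineOpens).1).hom ≫
        (g ⁻¹ᵁ (U : S.affineOpens).1).ι := cov_f g U
  have h3 : (g ⁻¹ᵁ (U : S.affineOpens).1).ι ≫ glued f g ω ≫ f =
      (g ⁻¹ᵁ (U : S.affineOpens).1).ι ≫ g := by
    rw [← Category.assoc, ι_glued f g ω _ hU, piece_comp f g ω hω]
  exact (congrArg (fun m => m ≫ glued f g ω ≫ f) h2).trans
    ((Category.assoc _ _ _).trans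
      ((congrArg (fun m => (pullbackRestrictIsoRestrict g (U : S.affineOpens).1).hom ≫ m) h3).trans
        ((Category.assoc _ _ _).symm.trans (congrArg (fun m => m ≫ g) h2.symm))))

end Construction

/-- Two presheaf maps `f_*O_X ⟶ g_*O_Y` that agree on affine opens of `S` are equal. -/
theorem hom_ext_affine (f : X ⟶ S) (g : Y ⟶ S) (α β : AffAlg.alg f ⟶ AffAlg.alg g)
    (hαβ : ∀ U : S.Opens, IsAffineOpen U → α.app (op U) = β.app (op U)) : α = β := by
  ext W : 2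
  ext s
  refine TopCat.Sheaf.eq_of_locally_eq' Y.sheaf
    (fun U : {U : S.affineOpens // U.1 ≤ W} => g ⁻¹ᵁ U.1.1) (g ⁻¹ᵁ W)
    (fun U => homOfLE (fun _ hx => U.2 hx)) ?_ _ _ ?_
  · intro y hy
    obtain ⟨_, ⟨V, hV, rfl⟩, hyV, hVW⟩ :=
      S.isBasis_affineOpens.exists_subset_of_mem_open (show g y ∈ W from hy) W.2
    exact Opens.mem_iSup.mpr ⟨⟨⟨V, hV⟩, hVW⟩, hyV⟩
  · intro U
    have hle : U.1.1 ≤ W := U.2
    have h1 := α.naturality (homOfLE hle).op
    have h2 := β.naturality (homOfLE hle).op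
    have h3 := hαβ U.1.1 U.1.2
    have e1 : (α.app (op W) ≫ (AffAlg.alg g).map (homOfLE hle).op) s =
        (β.app (op W) ≫ (AffAlg.alg g).map (homOfLE hle).op) s := by
      rw [← h1, ← h2, h3]
    exact e1

theorem algHom_glued (f : X ⟶ S) [IsAffineHom f] (g : Y ⟶ S) (ω : AffAlg.alg f ⟶ AffAlg.alg g)
    (hω : f.c ≫ ω = g.c) :
    AffAlg.algHom f g (glued f g ω) (glued_comp f g ω hω) = ω := by
  refine hom_ext_affine f g _ _ fun U hU => ?_
  have h1 := ι_comp_eq f g (glued f g ω) (glued_comp f g ω hω) U (hU.preimage f)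
  rw [ι_glued f g ω U hU] at h1
  unfold piece at h1
  rw [← Category.assoc, ← Category.assoc _ _ (hU.preimage f).fromSpec] at h1
  have h2 := (cancel_mono _).mp h1
  exact (toSpecΓ_cancel _ _ _ h2).symm

theorem bijective_algOf (f : X ⟶ S) [IsAffineHom f] (g : Y ⟶ S) :
    Function.Bijective (AffAlg.algOf f g) := by
  constructor
  · rintro ⟨h, w⟩ ⟨h', w'⟩ hhh'
    have heq : AffAlg.algHom f g h w = AffAlg.algHom f g h' w' := congrArg Subtype.val hhh'
    refine Subtype.ext ?_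
    show h = h'
    refine (cov g).hom_ext _ _ fun U => ?_
    have hU : IsAffineOpen (U : S.affineOpens).1 := (U : S.affineOpens).2
    have h2 : (cov g).f U =
        (pullbackRestrictIsoRestrict g (U : S.affineOpens).1).hom ≫
          (g ⁻¹ᵁ (U : S.affineOpens).1).ι := cov_f g U
    have h3 : (g ⁻¹ᵁ (U : S.affineOpens).1).ι ≫ h = (g ⁻¹ᵁ (U : S.affineOpens).1).ι ≫ h' := by
      rw [ι_comp_eq f g h w _ (hU.preimage f), ι_comp_eq f g h' w' _ (hU.preimage f), heq]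
    exact (congrArg (fun m => m ≫ h) h2).trans
      ((Category.assoc _ _ _).trans
        ((congrArg (fun m => (pullbackRestrictIsoRestrict g (U : S.affineOpens).1).hom ≫ m) h3).trans
          ((Category.assoc _ _ _).symm.trans (congrArg (fun m => m ≫ h') h2.symm))))
  · rintro ⟨ω, hω⟩
    exact ⟨⟨glued f g ω, glued_comp f g ω hω⟩, Subtype.ext (algHom_glued f g ω hω)⟩

end Groth.Agent.Lib.Helper10.RelSpecHom
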