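/-
Helper library (helper10): quasi-affine morphisms and the canonical morphism to `Spec_S(f_* O_X)`.
-/
import Mathlib
import Groth.Prelude.Def_RelSpec
import Groth.Prelude.Def_AffAlg
import Groth.Prelude.Def_MoreMor
import Groth.Agent.Lib.Helper10RelSpecHom
import Groth.Agent.S8255

set_option autoImplicit false
universe u
open CategoryTheory CategoryTheory.Limits AlgebraicGeometry TopologicalSpace Opposite

namespace Groth.Agent.Lib.Helper10.QAffRelSpec

open Groth.Agent.Lib.Helper10.RelSpecHom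

section Local

variable {X P S : Scheme.{u}} (c : X ⟶ P) (π : P ⟶ S) (f : X ⟶ S) (e : c ≫ π = f)

include e in
theorem preimage_preimage (U : S.Opens) : c ⁻¹ᵁ (π ⁻¹ᵁ U) = f ⁻¹ᵁ U := by
  subst e; rfl

theorem iSup_preimage_affineOpens : (⨆ U : S.affineOpens, π ⁻¹ᵁ U.1) = ⊤ := by
  rw [eq_top_iff]
  intro x _
  obtain ⟨_, ⟨W, hW, rfl⟩, hxW, -⟩ := S.isBasis_affineOpens.exists_subset_of_mem_open
    (Set.mem_univ (π.base x)) isOpen_univ
  exact TopologicalSpace.Opens.mem_iSup.mpr ⟨⟨W, hW⟩, hxW⟩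

include e in
theorem isOpenImmersion_of_local
    (h : ∀ U : S.affineOpens, IsOpenImmersion ((f ⁻¹ᵁ U.1).ι ≫ c)) : IsOpenImmersion c := by
  rw [IsZariskiLocalAtTarget.iff_of_iSup_eq_top (P := @IsOpenImmersion)
    (fun U : S.affineOpens => π ⁻¹ᵁ U.1) (iSup_preimage_affineOpens π)]
  intro U
  have key : ∀ W : X.Opens, W = f ⁻¹ᵁ U.1 → IsOpenImmersion (W.ι ≫ c) := by
    intro W hW; subst hW; exact h U
  haveI : IsOpenImmersion ((c ∣_ (π ⁻¹ᵁ U.1)) ≫ (π ⁻¹ᵁ U.1).ι) := by
    rw [morphismRestrict_ι]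
    exact key _ (preimage_preimage c π f e U.1)
  exact IsOpenImmersion.of_comp (c ∣_ (π ⁻¹ᵁ U.1)) (π ⁻¹ᵁ U.1).ι

set_option backward.isDefEq.respectTransparency.types false in
include e in
theorem quasiCompact_of_local [IsAffineHom π] [QuasiCompact f] : QuasiCompact c := by
  rw [HasAffineProperty.iff_of_iSup_eq_top (P := @QuasiCompact)
    (fun U : S.affineOpens => (⟨π ⁻¹ᵁ U.1, U.2.preimage π⟩ : P.affineOpens))
    (iSup_preimage_affineOpens π)]
  intro U
  show CompactSpace (c ⁻¹ᵁ (π ⁻¹ᵁ U.1)).toScheme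
  rw [preimage_preimage c π f e U.1]
  exact isCompact_iff_compactSpace.mp (f.isCompact_preimage U.2.isCompact)

end Local

variable {X S : Scheme.{u}} (f : X ⟶ S) [QuasiCompact f] [QuasiSeparated f]

/-- The canonical morphism `X ⟶ Spec_S (f_* O_X)`. -/
noncomputable def can : X ⟶ (RelSpec.QCAlg.directImage f).spec :=
  glued (RelSpec.QCAlg.directImage f).π f (RelSpec.QCAlg.directImage f).gammaMap

theorem can_π : can f ≫ (RelSpec.QCAlg.directImage f).π = f :=
  glued_comp _ _ _ (RelSpec.QCAlg.directImage f).π_c_gammaMap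

theorem algHom_can : AffAlg.algHom (RelSpec.QCAlg.directImage f).π f (can f) (can_π f) =
    (RelSpec.QCAlg.directImage f).gammaMap :=
  algHom_glued _ _ _ (RelSpec.QCAlg.directImage f).π_c_gammaMap

theorem ι_can (U : S.Opens) (hU : IsAffineOpen U) :
    (f ⁻¹ᵁ U).ι ≫ can f =
      (f ⁻¹ᵁ U).toSpecΓ ≫ Spec.map ((RelSpec.QCAlg.directImage f).gammaMap.app (op U)) ≫
        (hU.preimage (RelSpec.QCAlg.directImage f).π).fromSpec :=
  ι_glued _ _ _ U hU

theorem isOpenImmersion_opens_toSpecΓ (W : X.Opens) [W.toScheme.IsQuasiAffine] :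
    IsOpenImmersion W.toSpecΓ := by
  unfold Scheme.Opens.toSpecΓ
  infer_instance

theorem main : MoreMor.IsQuasiAffineHom f ↔
      ∃ (c : X ⟶ (RelSpec.QCAlg.directImage f).spec)
        (e : c ≫ (RelSpec.QCAlg.directImage f).π = f),
        (RelSpec.QCAlg.directImage f).gammaMap =
          AffAlg.algHom (RelSpec.QCAlg.directImage f).π f c e ∧
          QuasiCompact c ∧ IsOpenImmersion c := by
  constructor
  · rintro ⟨-, hqa⟩
    refine ⟨can f, can_π f, (algHom_can f).symm,
      quasiCompact_of_local _ (RelSpec.QCAlg.directImage f).π f (can_π f), ?_⟩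
    refine isOpenImmersion_of_local _ (RelSpec.QCAlg.directImage f).π f (can_π f) fun U => ?_
    rw [ι_can f U.1 U.2]
    haveI : (f ⁻¹ᵁ U.1).toScheme.IsQuasiAffine := hqa U.1 U.2
    have hiso : IsIso (RelSpec.QCAlg.directImage f).gammaMap :=
      Groth.Agent.S8255.result (RelSpec.QCAlg.directImage f)
    haveI : IsIso ((RelSpec.QCAlg.directImage f).gammaMap.app (op U.1)) :=
      @NatIso.isIso_app_of_isIso _ _ _ _ _ _ _ hiso (op U.1)
    have h0 := isOpenImmersion_opens_toSpecΓ (f ⁻¹ᵁ U.1)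
    haveI h1 : IsIso (Spec.map ((RelSpec.QCAlg.directImage f).gammaMap.app (op U.1))) :=
      inferInstance
    haveI h2 : IsOpenImmersion (U.2.preimage (RelSpec.QCAlg.directImage f).π).fromSpec :=
      inferInstance
    haveI h3 : IsOpenImmersion (Spec.map ((RelSpec.QCAlg.directImage f).gammaMap.app (op U.1)) ≫
        (U.2.preimage (RelSpec.QCAlg.directImage f).π).fromSpec) := inferInstance
    exact MorphismProperty.comp_mem (W := @IsOpenImmersion) _ _ h0 h3
  · rintro ⟨c, e, -, hqc, hoi⟩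
    refine ⟨inferInstance, fun V hV => ?_⟩
    have hpre := preimage_preimage c (RelSpec.QCAlg.directImage f).π f e V
    have key : ∀ W : X.Opens, W = c ⁻¹ᵁ ((RelSpec.QCAlg.directImage f).π ⁻¹ᵁ V) →
        W.toScheme.IsQuasiAffine := by
      intro W hW
      subst hW
      haveI : IsAffine ((RelSpec.QCAlg.directImage f).π ⁻¹ᵁ V).toScheme :=
        hV.preimage (RelSpec.QCAlg.directImage f).π
      haveI : CompactSpace (c ⁻¹ᵁ ((RelSpec.QCAlg.directImage f).π ⁻¹ᵁ V)).toScheme := by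
        rw [hpre]
        exact isCompact_iff_compactSpace.mp (f.isCompact_preimage hV.isCompact)
      exact Scheme.IsQuasiAffine.of_isImmersion (c ∣_ ((RelSpec.QCAlg.directImage f).π ⁻¹ᵁ V))
    exact key _ hpre.symm

end Groth.Agent.Lib.Helper10.QAffRelSpec
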