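/-
Helper library (helper10): immersions into a relative spectrum: scheme-theoretic density vs injectivity of the
algebra map (S4837).
-/
import Mathlib
import Groth.Prelude.Def_RelSpec
import Groth.Prelude.Def_AffAlg
import Groth.Agent.Lib.Helper10QAffRelSpec

set_option autoImplicit false
universe u
open CategoryTheory CategoryTheory.Limits AlgebraicGeometry TopologicalSpace Opposite

namespace Groth.Agent.Lib.Helper10.ImmRelSpec

open Groth.Agent.Lib.Helper10.RelSpecHom Groth.Agent.Lib.Helper10.QAffRelSpec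

theorem main {X Y : Scheme.{u}} (f : X ⟶ Y)
    [QuasiCompact f] [QuasiSeparated f] (C : RelSpec.QCAlg Y) (g : X ⟶ C.spec) (w : g ≫ C.π = f)
    [IsImmersion g] (φ : C ⟶ RelSpec.QCAlg.directImage f)
    (hφ : C.gammaMap ≫ φ.hom = AffAlg.algHom C.π f g w) :
    (g.ker = ⊥ ↔ ∀ U : Y.Opens, Function.Injective (φ.hom.app (Opposite.op U)).hom) ∧
      (g.ker = ⊥ → IsOpenImmersion g) := by
  subst w
  haveI : QuasiCompact g := QuasiCompact.of_comp g C.π
  have hiso : IsIso C.gammaMap := Groth.Agent.S8255.result C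
  have hkey : ∀ U : Y.Opens, Function.Injective (φ.hom.app (op U)).hom ↔
      Function.Injective (g.app (C.π ⁻¹ᵁ U)).hom := by
    intro U
    have h1 : C.gammaMap.app (op U) ≫ φ.hom.app (op U) = g.app (C.π ⁻¹ᵁ U) := by
      rw [← NatTrans.comp_app, hφ, algHom_app, Scheme.Hom.app_eq_appLE]
      rfl
    haveI : IsIso (C.gammaMap.app (op U)) := @NatIso.isIso_app_of_isIso _ _ _ _ _ _ _ hiso (op U)
    have hbij : Function.Bijective (C.gammaMap.app (op U)).hom :=
      ConcreteCategory.bijective_of_isIso (C.gammaMap.app (op U))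
    have h2 : (g.app (C.π ⁻¹ᵁ U)).hom = (φ.hom.app (op U)).hom.comp (C.gammaMap.app (op U)).hom := by
      rw [← h1]; rfl
    rw [h2]
    constructor
    · intro h; exact h.comp hbij.injective
    · intro h a b hab
      obtain ⟨a', rfl⟩ := hbij.surjective a
      obtain ⟨b', rfl⟩ := hbij.surjective b
      exact congrArg _ (h hab)
  refine ⟨⟨fun h U => ?_, fun h => ?_⟩, fun h => ?_⟩
  · haveI : IsSchemeTheoreticallyDominant g := ⟨h⟩
    exact (hkey U).mpr (g.app_injective _)
  · refine Scheme.IdealSheafData.ext_of_iSup_eq_top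
      (fun U : Y.affineOpens => (⟨C.π ⁻¹ᵁ U.1, U.2.preimage C.π⟩ : C.spec.affineOpens))
      (iSup_preimage_affineOpens C.π) fun U => ?_
    rw [Scheme.Hom.ker_apply]
    simp only [Scheme.IdealSheafData.ideal_bot, Pi.bot_apply]
    exact (RingHom.injective_iff_ker_eq_bot _).mp ((hkey U.1).mp (h U.1))
  · rw [← g.toImage_imageι]
    haveI : IsIso g.imageι := by
      rw [IsClosedImmersion.isIso_iff_ker_eq_bot, Scheme.Hom.imageι,
        Scheme.IdealSheafData.ker_subschemeι]
      exact h
    infer_instance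

end Groth.Agent.Lib.Helper10.ImmRelSpec
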