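import Mathlib

/-!
# Fields inside finite type domains are algebraic over the base field

`isIntegral_of_field_in_finiteType_domain`: if `A` is a domain of finite type over a field `k`
and `ψ : K →+* A` is a ring hom from a field, then every `ψ t` is integral over `k`.
-/

set_option autoImplicit false
set_option linter.style.haveILetI false

universe u

open Polynomial Topology

namespace Groth.Agent.Lib.Helper10.IntClos

/-- A constructible set containing a point lying in every nonempty open contains an open nbhd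
of it, or its complement does. -/
theorem exists_open_subset_or_of_isConstructible {S : Type*} [TopologicalSpace S] (η : S)
    (hη : ∀ U : Set S, IsOpen U → U.Nonempty → η ∈ U) {C : Set S} (hC : IsConstructible C) :
    ∃ U : Set S, IsOpen U ∧ η ∈ U ∧ (U ⊆ C ∨ U ⊆ Cᶜ) := by
  induction hC using IsConstructible.empty_union_induction with
  | open_retrocompact U hUo _ =>
    by_cases hU : U.Nonempty
    · exact ⟨U, hUo, hη U hUo hU, Or.inl le_rfl⟩
    · refine ⟨Set.univ, isOpen_univ, trivial, Or.inr ?_⟩
      rw [Set.not_nonempty_iff_eq_empty.mp hU]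
      simp
  | union s _ t _ hs ht =>
    obtain ⟨U, hUo, hηU, hU⟩ := hs
    obtain ⟨V, hVo, hηV, hV⟩ := ht
    rcases hU with hU | hU
    · exact ⟨U, hUo, hηU, Or.inl (hU.trans Set.subset_union_left)⟩
    · rcases hV with hV | hV
      · exact ⟨V, hVo, hηV, Or.inl (hV.trans Set.subset_union_right)⟩
      · refine ⟨U ∩ V, hUo.inter hVo, ⟨hηU, hηV⟩, Or.inr ?_⟩
        rw [Set.compl_union]
        exact Set.inter_subset_inter hU hV
  | compl s _ hs =>
    obtain ⟨U, hUo, hηU, hU⟩ := hs
    refine ⟨U, hUo, hηU, ?_⟩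
    rcases hU with hU | hU
    · exact Or.inr (by rwa [compl_compl])
    · exact Or.inl hU

/-- For `g ≠ 0` over a field `k` there is `n > 0` and an irreducible `π ∣ X ^ n - 1` with
`π ∤ g`. -/
theorem exists_irreducible_dvd_X_pow_sub_one (k : Type u) [Field k] (g : k[X]) (hg : g ≠ 0) :
    ∃ (n : ℕ) (π : k[X]), 0 < n ∧ Irreducible π ∧ π ∣ X ^ n - 1 ∧ ¬ π ∣ g := by
  classical
  obtain ⟨n, hn, hnp⟩ := Nat.exists_infinite_primes (max g.natDegree (ringChar k) + 1)
  have hn1 : g.natDegree < n := by omega
  have hn2 : ringChar k < n := by omega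
  have hn0 : (n : k) ≠ 0 := by
    intro h
    rw [ringChar.spec] at h
    rcases (Nat.dvd_prime hnp).mp h with h1 | h1
    · exact CharP.ringChar_ne_one h1
    · omega
  haveI : NeZero (n : k) := ⟨hn0⟩
  let L := AlgebraicClosure k
  obtain ⟨ζ, hζ⟩ := HasEnoughRootsOfUnity.exists_primitiveRoot L n
  let g' : L[X] := g.map (algebraMap k L)
  have hg' : g' ≠ 0 := (Polynomial.map_ne_zero_iff (algebraMap k L).injective).mpr hg
  have hex : ∃ i : Fin n, g'.eval (ζ ^ (i : ℕ)) ≠ 0 := by
    by_contra hcon
    push Not at hcon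
    have hsub : (Finset.univ.image (fun i : Fin n => ζ ^ (i : ℕ))) ⊆ g'.roots.toFinset := by
      intro x hx
      obtain ⟨i, -, rfl⟩ := Finset.mem_image.mp hx
      rw [Multiset.mem_toFinset, mem_roots hg']
      exact hcon i
    have hinj : Function.Injective (fun i : Fin n => ζ ^ (i : ℕ)) := by
      intro i j hij
      exact Fin.ext (hζ.pow_inj i.2 j.2 hij)
    have h1 := Finset.card_le_card hsub
    rw [Finset.card_image_of_injective _ hinj, Finset.card_univ, Fintype.card_fin] at h1
    have h2 : g'.roots.toFinset.card ≤ g'.natDegree :=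
      (Multiset.toFinset_card_le _).trans (card_roots' g')
    have h3 : g'.natDegree = g.natDegree := natDegree_map _
    omega
  obtain ⟨i, hi⟩ := hex
  set ω := ζ ^ (i : ℕ) with hω
  have hωn : ω ^ n = 1 := by
    rw [hω, ← pow_mul, mul_comm, pow_mul, hζ.pow_eq_one, one_pow]
  have hint : IsIntegral k ω := Algebra.IsIntegral.isIntegral ω
  refine ⟨n, minpoly k ω, hnp.pos, minpoly.irreducible hint, ?_, ?_⟩
  · apply minpoly.dvd
    simp [hωn]
  · intro hdvd
    apply hi
    obtain ⟨c, hc⟩ := hdvd
    have : g'.eval ω = aeval ω g := by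
      rw [aeval_def, eval₂_eq_eval_map]
    rw [this, hc, map_mul, minpoly.aeval, zero_mul]

/-- **Key algebraic fact**: a field mapping into a finite type domain over a field `k` has
image integral over `k`. -/
theorem isIntegral_of_field_in_finiteType_domain (k A K : Type u) [Field k] [CommRing A]
    [IsDomain A] [Algebra k A] [Algebra.FiniteType k A] [Field K] (ψ : K →+* A) (t : K) :
    IsIntegral k (ψ t) := by
  by_contra h
  set τ := ψ t with hτ
  have htr : Transcendental k τ := by rwa [Transcendental, isAlgebraic_iff_isIntegral]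
  let f : k[X] →ₐ[k] A := aeval τ
  have hinj : Function.Injective f := transcendental_iff_injective.mp htr
  have hfp : f.toRingHom.FinitePresentation := by
    letI := f.toRingHom.toAlgebra
    haveI : IsScalarTower k k[X] A :=
      IsScalarTower.of_algebraMap_eq (fun r => (f.commutes r).symm)
    haveI : Algebra.FiniteType k[X] A := Algebra.FiniteType.of_restrictScalars_finiteType k k[X] A
    exact Algebra.FinitePresentation.of_finiteType.mp this
  have hC := PrimeSpectrum.isConstructible_range_comap hfp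
  let η : PrimeSpectrum k[X] := ⟨⊥, Ideal.isPrime_bot⟩
  have hη : ∀ U : Set (PrimeSpectrum k[X]), IsOpen U → U.Nonempty → η ∈ U := by
    intro U hU ⟨p, hp⟩
    have : η ⤳ p := (PrimeSpectrum.le_iff_specializes η p).mp (bot_le (a := p.asIdeal))
    exact this.mem_open hU hp
  obtain ⟨U, hUo, hηU, hU⟩ := exists_open_subset_or_of_isConstructible η hη hC
  have hηC : η ∈ Set.range (PrimeSpectrum.comap f.toRingHom) := by
    refine ⟨⟨⊥, Ideal.isPrime_bot⟩, ?_⟩
    apply PrimeSpectrum.ext
    show Ideal.comap f.toRingHom ⊥ = ⊥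
    rw [← RingHom.ker_eq_comap_bot]
    exact (RingHom.injective_iff_ker_eq_bot _).mp hinj
  have hU' : U ⊆ Set.range (PrimeSpectrum.comap f.toRingHom) := by
    rcases hU with hU | hU
    · exact hU
    · exact absurd hηC (hU hηU)
  obtain ⟨v, ⟨g, rfl⟩, hηv, hvU⟩ :=
    PrimeSpectrum.isTopologicalBasis_basic_opens.exists_subset_of_mem_open hηU hUo
  have hg : g ≠ 0 := by
    rintro rfl
    exact hηv (by simp)
  obtain ⟨n, π, hn, hπ, hdvd, hndvd⟩ := exists_irreducible_dvd_X_pow_sub_one k g hg
  let P0 : PrimeSpectrum k[X] :=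
    ⟨Ideal.span {π}, (Ideal.span_singleton_prime hπ.ne_zero).mpr hπ.prime⟩
  have hP0 : P0 ∈ (PrimeSpectrum.basicOpen g : Set (PrimeSpectrum k[X])) := by
    show g ∉ Ideal.span {π}
    rwa [Ideal.mem_span_singleton]
  obtain ⟨P, hP⟩ := hU' (hvU hP0)
  have hmem : f π ∈ P.asIdeal := by
    have : π ∈ (PrimeSpectrum.comap f.toRingHom P).asIdeal := by
      rw [hP]; exact Ideal.mem_span_singleton_self π
    exact this
  have hne : t ^ n - 1 ≠ 0 := by
    intro h0
    apply h
    refine ⟨X ^ n - 1, monic_X_pow_sub_C 1 hn.ne', ?_⟩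
    have : τ ^ n - 1 = 0 := by rw [hτ, ← map_pow, ← map_one ψ, ← map_sub, h0, map_zero]
    simpa using this
  have hunit : IsUnit (f (X ^ n - 1)) := by
    have : f (X ^ n - 1) = ψ (t ^ n - 1) := by simp [f, hτ]
    rw [this]
    exact (IsUnit.mk0 _ hne).map ψ
  have hunit' : IsUnit (f π) := isUnit_of_dvd_unit (map_dvd f hdvd) hunit
  exact P.isPrime.ne_top (Ideal.eq_top_of_isUnit_mem _ hmem hunit')

end Groth.Agent.Lib.Helper10.IntClos
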