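import Mathlib
import Groth.Agent.Lib.Helper10IntClos

/-!
# Fields inside global functions of connected reduced schemes l.f.t. over a field
-/

set_option autoImplicit false
set_option linter.style.haveILetI false

universe u

open Polynomial Topology AlgebraicGeometry CategoryTheory Opposite

namespace Groth.Agent.Lib.Helper10.IntClos

/-- reduced finite type algebra version. -/
theorem isIntegral_of_field_in_finiteType_reduced (k B K : Type u) [Field k] [CommRing B]
    [IsReduced B] [Algebra k B] [Algebra.FiniteType k B] [Field K] (ψ : K →+* B) (t : K) :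
    IsIntegral k (ψ t) := by
  classical
  haveI : IsNoetherianRing B := Algebra.FiniteType.isNoetherianRing k B
  have hfin : (minimalPrimes B).Finite := minimalPrimes.finite_of_isNoetherianRing B
  have hex : ∀ p : minimalPrimes B, ∃ Q : k[X], Q.Monic ∧ aeval (ψ t) Q ∈ (p : Ideal B) := by
    rintro ⟨p, hp⟩
    haveI : p.IsPrime := hp.1.1
    have h1 := isIntegral_of_field_in_finiteType_domain k (B ⧸ p) K
      ((Ideal.Quotient.mk p).comp ψ) t
    obtain ⟨Q, hQ, hQ0⟩ := h1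
    refine ⟨Q, hQ, ?_⟩
    rw [← Ideal.Quotient.eq_zero_iff_mem]
    rw [← aeval_def] at hQ0
    have : (Ideal.Quotient.mk p) (aeval (ψ t) Q) = aeval ((Ideal.Quotient.mk p) (ψ t)) Q :=
      (aeval_algHom_apply (Ideal.Quotient.mkₐ k p) (ψ t) Q).symm
    rw [this]
    exact hQ0
  choose Qf hQm hQz using hex
  haveI : Fintype (minimalPrimes B) := hfin.fintype
  refine ⟨∏ p : minimalPrimes B, Qf p, monic_prod_of_monic _ _ (fun p _ => hQm p), ?_⟩
  rw [← aeval_def, map_prod]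
  have hmem : ∏ p : minimalPrimes B, aeval (ψ t) (Qf p) ∈ sInf (minimalPrimes B) := by
    rw [Ideal.mem_sInf]
    intro p hp
    exact Ideal.mem_of_dvd _ (Finset.dvd_prod_of_mem _ (Finset.mem_univ (⟨p, hp⟩ : minimalPrimes B)))
      (hQz ⟨p, hp⟩)
  have : sInf (minimalPrimes B) = ⊥ := by
    have h1 : sInf (minimalPrimes B) = (⊥ : Ideal B).radical := Ideal.sInf_minimalPrimes
    rw [h1]
    exact (nilradical_eq_zero B)
  rw [this] at hmem
  exact hmem

section Scheme

variable {X : Scheme.{u}} (k : Type u) [Field k] (φ : k →+* Γ(X, ⊤))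
  {K : Type u} [Field K] (ψ : K →+* Γ(X, ⊤)) (t : K)

/-- the structure map of `k` into the residue field at `x`. -/
noncomputable def χ (x : X) : k →+* X.residueField x := (X.Γevaluation x).hom.comp φ

/-- the value of `ψ t` at `x`. -/
noncomputable def θ (x : X) : X.residueField x := (X.Γevaluation x).hom (ψ t)

lemma ev_eval₂ (x : X) (P : k[X]) :
    (X.Γevaluation x).hom (eval₂ φ (ψ t) P) = eval₂ (χ k φ x) (θ ψ t x) P := by
  rw [hom_eval₂]; rfl

lemma eval₂_eq_zero_iff (x : X) (P : k[X]) :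
    eval₂ (χ k φ x) (θ ψ t x) P = 0 ↔ x ∉ X.basicOpen (eval₂ φ (ψ t) P) := by
  rw [← ev_eval₂]
  exact X.evaluation_eq_zero_iff_notMem_basicOpen (U := ⊤) x (Set.mem_univ x) _

/-- the minimal polynomial of the value at `x`. -/
noncomputable def q (x : X) : k[X] :=
  letI := (χ k φ x).toAlgebra
  minpoly k (θ ψ t x)

variable {k φ ψ t}

lemma q_spec (x : X) (R : k[X]) (hR : R.Monic) (h0 : eval₂ (χ k φ x) (θ ψ t x) R = 0) :
    Irreducible (q k φ ψ t x) ∧ (q k φ ψ t x).Monic ∧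
      eval₂ (χ k φ x) (θ ψ t x) (q k φ ψ t x) = 0 ∧
      ∀ P : k[X], eval₂ (χ k φ x) (θ ψ t x) P = 0 → q k φ ψ t x ∣ P := by
  letI := (χ k φ x).toAlgebra
  have hint : IsIntegral k (θ ψ t x) := ⟨R, hR, h0⟩
  refine ⟨minpoly.irreducible hint, minpoly.monic hint, ?_, ?_⟩
  · have := minpoly.aeval k (θ ψ t x)
    rwa [aeval_def] at this
  · intro P hP
    apply minpoly.dvd
    rwa [aeval_def]

lemma q_unique (x : X) (Q : k[X]) (hQ : Q.Monic) (hQi : Irreducible Q)
    (h0 : eval₂ (χ k φ x) (θ ψ t x) Q = 0) : q k φ ψ t x = Q := by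
  obtain ⟨h1, h2, h3, h4⟩ := q_spec x Q hQ h0
  have hdvd := h4 Q h0
  have hassoc : Associated (q k φ ψ t x) Q := by
    obtain ⟨c, hc⟩ := hdvd
    rcases hQi.isUnit_or_isUnit hc with hu | hu
    · exact absurd hu h1.not_isUnit
    · exact ⟨hu.unit, by rw [hc]; rfl⟩
  exact eq_of_monic_of_associated h2 hQ hassoc

variable (k φ ψ t)

/-- **Main theorem**: on a connected reduced scheme whose affine opens are of finite type over `k`,
the image of any field in the global functions is integral over `k`. -/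
theorem isIntegralElem_of_field [IsReduced X] [ConnectedSpace X]
    (hft : ∀ U : X.Opens, IsAffineOpen U →
      ((X.presheaf.map (homOfLE (le_top : U ≤ ⊤)).op).hom.comp φ).FiniteType) :
    φ.IsIntegralElem (ψ t) := by
  -- local polynomials
  have hloc : ∀ U : X.Opens, IsAffineOpen U → ∃ R : k[X], R.Monic ∧
      (X.presheaf.map (homOfLE (le_top : U ≤ ⊤)).op).hom (eval₂ φ (ψ t) R) = 0 := by
    intro U hU
    letI := ((X.presheaf.map (homOfLE (le_top : U ≤ ⊤)).op).hom.comp φ).toAlgebra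
    haveI : Algebra.FiniteType k Γ(X, U) := hft U hU
    obtain ⟨R, hR, hR0⟩ := isIntegral_of_field_in_finiteType_reduced k Γ(X, U) K
      ((X.presheaf.map (homOfLE (le_top : U ≤ ⊤)).op).hom.comp ψ) t
    refine ⟨R, hR, ?_⟩
    rw [hom_eval₂]
    exact hR0
  have hA : ∀ (U : X.Opens) (R : k[X]),
      (X.presheaf.map (homOfLE (le_top : U ≤ ⊤)).op).hom (eval₂ φ (ψ t) R) = 0 →
      ∀ x ∈ U, eval₂ (χ k φ x) (θ ψ t x) R = 0 := by
    intro U R hR x hx
    rw [eval₂_eq_zero_iff]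
    intro hx'
    have h1 : x ∈ U ⊓ X.basicOpen (eval₂ φ (ψ t) R) := ⟨hx, hx'⟩
    rw [← Scheme.basicOpen_res] at h1
    have h2 : X.basicOpen ((X.presheaf.map (homOfLE (le_top : U ≤ ⊤)).op).hom
        (eval₂ φ (ψ t) R)) = ⊥ := by
      rw [hR]; exact Scheme.basicOpen_zero X U
    rw [h2] at h1
    exact h1
  have hlc : IsLocallyConstant (q k φ ψ t) := by
    rw [IsLocallyConstant.iff_exists_open]
    intro x
    obtain ⟨U, hU, hxU, -⟩ := exists_isAffineOpen_mem_and_subset (X := X) (x := x)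
      (U := ⊤) trivial
    obtain ⟨R, hR, hR0⟩ := hloc U hU
    obtain ⟨hQi, hQm, hQ0, hQd⟩ := q_spec x R hR (hA U R hR0 x hxU)
    set Q := q k φ ψ t x with hQdef
    obtain ⟨e, S, hS, hRS⟩ := WfDvdMonoid.max_power_factor hR.ne_zero hQi
    refine ⟨(U ⊓ X.basicOpen (eval₂ φ (ψ t) S) : X.Opens), (U ⊓ X.basicOpen _).2, ⟨hxU, ?_⟩, ?_⟩
    · show x ∈ X.basicOpen (eval₂ φ (ψ t) S)
      by_contra hx'
      rw [← eval₂_eq_zero_iff] at hx'
      exact hS (hQd S hx')
    · rintro y ⟨hyU, hyS⟩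
      have h1 := hA U R hR0 y hyU
      rw [hRS, eval₂_mul, eval₂_pow] at h1
      have h2 : eval₂ (χ k φ y) (θ ψ t y) S ≠ 0 := by
        rw [Ne, eval₂_eq_zero_iff]; exact not_not.mpr hyS
      have h3 : eval₂ (χ k φ y) (θ ψ t y) Q = 0 := by
        rcases mul_eq_zero.mp h1 with h | h
        · exact eq_zero_of_pow_eq_zero h
        · exact absurd h h2
      exact q_unique y Q hQm hQi h3
  obtain ⟨x₀⟩ : Nonempty X := inferInstance
  obtain ⟨U, hU, hxU, -⟩ := exists_isAffineOpen_mem_and_subset (X := X) (x := x₀)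
    (U := ⊤) trivial
  obtain ⟨R, hR, hR0⟩ := hloc U hU
  obtain ⟨hQi, hQm, hQ0, hQd⟩ := q_spec x₀ R hR (hA U R hR0 x₀ hxU)
  refine ⟨q k φ ψ t x₀, hQm, ?_⟩
  rw [← AlgebraicGeometry.basicOpen_eq_bot_iff]
  rw [eq_bot_iff]
  intro y hy'
  exfalso
  revert hy'
  show y ∉ X.basicOpen (eval₂ φ (ψ t) (q k φ ψ t x₀))
  rw [← eval₂_eq_zero_iff]
  have hy : q k φ ψ t y = q k φ ψ t x₀ := hlc.apply_eq_of_preconnectedSpace y x₀
  obtain ⟨V, hV, hyV, -⟩ := exists_isAffineOpen_mem_and_subset (X := X) (x := y)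
    (U := ⊤) trivial
  obtain ⟨R', hR', hR0'⟩ := hloc V hV
  obtain ⟨-, -, h3, -⟩ := q_spec y R' hR' (hA V R' hR0' y hyV)
  rw [← hy]
  exact h3

/-- transitivity: integral over `k₂` ⇒ integral over `k₁`. -/
theorem isIntegralElem_trans [IsReduced X] [ConnectedSpace X] (k₂ : Type u) [Field k₂]
    (φ₂ : k₂ →+* Γ(X, ⊤))
    (hft : ∀ U : X.Opens, IsAffineOpen U →
      ((X.presheaf.map (homOfLE (le_top : U ≤ ⊤)).op).hom.comp φ).FiniteType)
    (x : Γ(X, ⊤)) (hx : φ₂.IsIntegralElem x) : φ.IsIntegralElem x := by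
  letI := φ.toAlgebra
  have hmem : ∀ c : k₂, φ₂ c ∈ integralClosure k Γ(X, ⊤) := fun c =>
    isIntegralElem_of_field k φ φ₂ c hft
  obtain ⟨P, hP, hP0⟩ := hx
  let φ₂' : k₂ →+* integralClosure k Γ(X, ⊤) :=
    φ₂.codRestrict (integralClosure k Γ(X, ⊤)).toSubring hmem
  have h1 : IsIntegral (integralClosure k Γ(X, ⊤)) x := by
    refine ⟨P.map φ₂', hP.map _, ?_⟩
    rw [eval₂_map]
    exact hP0
  exact isIntegral_trans x h1

end Scheme

end Groth.Agent.Lib.Helper10.IntClos
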