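import Mathlib
import Groth.Agent.Lib.Helper7Dim

/-!
# Dimension and integral morphisms (helper10)
-/

set_option autoImplicit false
universe u
open CategoryTheory CategoryTheory.Limits AlgebraicGeometry TopologicalSpace

namespace Groth.Agent.Lib.Helper10.IntDim

/-- a scheme integral over (the spectrum of) a field has no strict specializations -/
lemma eq_of_specializes_of_isIntegralHom_field {F : Scheme.{u}} (R : CommRingCat.{u})
    (hR : IsField R) (g : F ⟶ Spec R) [IsIntegralHom g] {z z' : F} (h : z ⤳ z') : z = z' := by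
  haveI : IsAffine F := isAffine_of_isAffineHom g
  have hint : (g.appTop).hom.IsIntegral := IsIntegralHom.isIntegral_app g ⊤ (isAffineOpen_top _)
  have hfield : IsField Γ(Spec R, ⊤) :=
    (Scheme.ΓSpecIso R).commRingCatIsoToRingEquiv.toMulEquiv.isField hR
  letI := hfield.toField
  set p : PrimeSpectrum Γ(F, ⊤) := F.isoSpec.hom z with hp
  set p' : PrimeSpectrum Γ(F, ⊤) := F.isoSpec.hom z' with hp'
  have hpp' : p ⤳ p' := h.map F.isoSpec.hom.continuous
  have hle : p.asIdeal ≤ p'.asIdeal := (PrimeSpectrum.le_iff_specializes p p').mpr hpp'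
  have hmax : p.asIdeal.IsMaximal := by
    refine Ideal.isMaximal_of_isIntegral_of_isMaximal_comap' (g.appTop).hom hint p.asIdeal ?_
    have hprime : (p.asIdeal.comap (g.appTop).hom).IsPrime := Ideal.comap_isPrime _ _
    rw [Ideal.eq_bot_of_prime (p.asIdeal.comap (g.appTop).hom)]
    exact Ideal.bot_isMaximal
  have heq : p.asIdeal = p'.asIdeal := hmax.eq_of_le p'.2.ne_top hle
  have : p = p' := PrimeSpectrum.ext heq
  exact F.isoSpec.hom.homeomorph.injective this

/-- incomparability for integral morphisms -/
lemma eq_of_specializes_of_isIntegralHom {X Y : Scheme.{u}} (f : X ⟶ Y) [IsIntegralHom f]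
    {x x' : X} (h : x ⤳ x') (hf : f x = f x') : x = x' := by
  set y := f x' with hy
  have hx : x ∈ Set.range (f.fiberι y) := by rw [f.range_fiberι]; exact hf
  have hx' : x' ∈ Set.range (f.fiberι y) := by rw [f.range_fiberι]; rfl
  obtain ⟨z, rfl⟩ := hx
  obtain ⟨z', hz'⟩ := hx'
  rw [← hz'] at h
  have hzz' : z ⤳ z' := (f.fiberι y).isEmbedding.isInducing.specializes_iff.mp h
  have key : ∀ y : Y, IsIntegralHom (f.fiberToSpecResidueField y) := fun y =>
    (inferInstance : IsIntegralHom (pullback.snd f (Y.fromSpecResidueField y)))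
  haveI := key y
  have := eq_of_specializes_of_isIntegralHom_field (Y.residueField y)
    (Field.toIsField _) (f.fiberToSpecResidueField y) hzz'
  rw [this, hz']

theorem main9683 {X Y : Scheme.{u}} (f : X ⟶ Y) [IsIntegralHom f] :
    topologicalKrullDim ↥X ≤ topologicalKrullDim ↥Y ∧
      (Surjective f → topologicalKrullDim ↥X = topologicalKrullDim ↥Y) := by
  have h1 : topologicalKrullDim ↥X ≤ topologicalKrullDim ↥Y :=
    Groth.Agent.Lib.Helper7.topologicalKrullDim_le_of_fibres f f.continuous
      (fun x x' h hf => eq_of_specializes_of_isIntegralHom f h hf)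
  refine ⟨h1, fun hs => le_antisymm h1 ?_⟩
  exact Groth.Agent.Lib.Helper7.topologicalKrullDim_le_of_specializingMap f hs.surj
    f.isClosedMap.specializingMap

end Groth.Agent.Lib.Helper10.IntDim
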