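import Mathlib
import Groth.Agent.Lib.Helper10DCTensC
import Groth.Agent.Lib.Helper10DCAmp
import Groth.Agent.Lib.Helper1ProjRes
import Groth.Agent.Lib.Helper1SplitTrunc
set_option backward.isDefEq.respectTransparency.types false

/-!
# Top-degree Künneth for `- ⊗ X` on `D(A)` (helper10)

* `isIso_homology_Q_whiskerRight`: `φ ▷ X` is an isomorphism on `H^i` for `i` above the amplitude of
  `cone(φ) ⊗ X`.
* `topTensorIso`: `H^b(X ⊗ Y) ≅ H^b(X) ⊗ Y` for `X` strictly `≤ b` and a module `Y`.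
* `top`: `H^{m+b}(Θ_X G) ≅ H^b(X) ⊗ Y` for `G ∈ D^{≤ m}` with `τ_{≥ m} G ≅ Y[-m]`.
-/

set_option autoImplicit false
universe u
open CategoryTheory CategoryTheory.Limits HomologicalComplex CochainComplex MonoidalCategory
open scoped TensorProduct
attribute [local instance] HasDerivedCategory.standard

namespace Groth.Agent.Lib.Helper10.InvCxA

open DerivedCategory Groth.Agent.Lib.Helper1.LDer Pretriangulated
  Groth.Agent.Lib.Helper1.KF Groth.Agent.Lib.Helper1.DT
  Groth.Agent.Lib.Helper10.ConeTensor Groth.Agent.Lib.Helper10.DCTensC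
  Groth.Agent.Lib.Helper10.UnitHom

variable {A : Type u} [CommRing A]

section KT

variable (X : Cx A) (hX : KFlat X) (b : ℤ) [X.IsStrictlyLE b]

include hX in
lemma isLE_Q_cone_whiskerRight {K K' : Cx A} (φ : K ⟶ K') (c : ℤ)
    [(Q.obj (mappingCone φ) : Dual.D A).IsLE c] :
    (Q.obj (mappingCone (φ ▷ X)) : Dual.D A).IsLE (c + b) := by
  have h1 := isLE_Θ X hX b (Q.obj (mappingCone φ)) c
  have e : (Θ X hX).obj (Q.obj (mappingCone φ)) ≅ Q.obj (mappingCone (φ ▷ X)) :=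
    (ΘIso X hX).app (mappingCone φ) ≪≫ Q.mapIso (coneTensorIso φ X).symm
  exact TStructure.t.isLE_of_iso e (c + b)

include hX in
/-- `φ ▷ X` induces an isomorphism on `H^i` above the amplitude of `cone(φ) ⊗ X` -/
theorem isIso_homology_Q_whiskerRight {K K' : Cx A} (φ : K ⟶ K') (c : ℤ)
    [(Q.obj (mappingCone φ) : Dual.D A).IsLE c] (i : ℤ) (hi : c + b + 1 < i) :
    IsIso ((DerivedCategory.homologyFunctor (ModuleCat.{u} A) i).map (Q.map (φ ▷ X))) := by
  have hT := mappingCone_triangle_distinguished (φ ▷ X)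
  haveI := isLE_Q_cone_whiskerRight X hX b φ c
  have hz1 : IsZero ((DerivedCategory.homologyFunctor (ModuleCat.{u} A) i).obj
      (Q.obj (mappingCone (φ ▷ X)))) := isZero_of_isLE _ (c + b) i (by omega)
  have hz0 : IsZero ((DerivedCategory.homologyFunctor (ModuleCat.{u} A) (i - 1)).obj
      (Q.obj (mappingCone (φ ▷ X)))) := isZero_of_isLE _ (c + b) (i - 1) (by omega)
  haveI : Epi ((DerivedCategory.homologyFunctor (ModuleCat.{u} A) i).map (Q.map (φ ▷ X))) :=
    (HomologySequence.epi_homologyMap_mor₁_iff _ hT i).2 (hz1.eq_of_tgt _ _)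
  haveI : Mono ((DerivedCategory.homologyFunctor (ModuleCat.{u} A) i).map (Q.map (φ ▷ X))) :=
    (HomologySequence.mono_homologyMap_mor₁_iff _ hT (i - 1) i (by omega)).2 (hz0.eq_of_src _ _)
  exact isIso_of_mono_of_epi _

end KT

section TopTensor

/-- top homology is the cokernel of the last differential -/
noncomputable def topHomologyIso (K : Cx A) (b : ℤ) (hK : IsZero (K.X (b + 1))) :
    K.homology b ≅ cokernel (K.d (b - 1) b) :=
  haveI : IsIso (K.homologyι b) := K.isIso_homologyι b (b + 1) (by simp) (hK.eq_of_tgt _ _)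
  asIso (K.homologyι b) ≪≫
    (K.opcyclesIsCokernel (b - 1) b (by simp)).coconePointUniqueUpToIso
      (colimit.isColimit (parallelPair (K.d (b - 1) b) 0))

variable (X : Cx A) (b : ℤ) (Y : ModuleCat.{u} A)

/-- right exactness: `H^b(X ⊗ Y) ≅ H^b(X) ⊗ Y` in the top degree -/
noncomputable def topTensorIso (hX : IsZero (X.X (b + 1))) :
    ((tCx Y).obj X).homology b ≅ X.homology b ⊗ Y :=
  haveI : PreservesFiniteColimits (tensorRight Y) := by
    have : (tensorRight Y).IsLeftAdjoint := inferInstance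
    infer_instance
  topHomologyIso ((tCx Y).obj X) b ((tensorRight Y).map_isZero hX) ≪≫
    (PreservesCokernel.iso (tensorRight Y) (X.d (b - 1) b)).symm ≪≫
    (tensorRight Y).mapIso (topHomologyIso X b hX).symm

/-- `H^{m+b}(Θ_X(Y[-m])) ≅ H^b(X ⊗ Y)` -/
noncomputable def ΘsingleHomologyIso (hX : KFlat X) (m : ℤ) :
    (DerivedCategory.homologyFunctor (ModuleCat.{u} A) (m + b)).obj
      ((Θ X hX).obj ((DerivedCategory.singleFunctor (ModuleCat.{u} A) m).obj Y)) ≅
      ((tCx Y).obj X).homology b :=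
  (DerivedCategory.homologyFunctor (ModuleCat.{u} A) (m + b)).mapIso (ΘsingleIso X hX Y m) ≪≫
  ((DerivedCategory.homologyFunctor (ModuleCat.{u} A) 0).shiftIso (-m) (m + b) b (by omega)).app
    (Q.obj ((tCx Y).obj X)) ≪≫
  (DerivedCategory.homologyFunctorFactors (ModuleCat.{u} A) b).app ((tCx Y).obj X)

end TopTensor

section Top

variable (X : Cx A) (hX : KFlat X) (b : ℤ) [X.IsStrictlyLE b]

include hX in
/-- **top-degree Künneth**: `H^{m+b}(G ⊗ X) ≅ H^b(X) ⊗ Y` for `G ∈ D^{≤ m}` with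
`τ_{≥ m} G ≅ Y[-m]`, `X` K-flat and strictly `≤ b`. -/
theorem top (G : Dual.D A) (m : ℤ) [G.IsLE m] (Y : ModuleCat.{u} A)
    (e : (TStructure.t.truncGE m).obj G ≅
      (DerivedCategory.singleFunctor (ModuleCat.{u} A) m).obj Y) :
    Nonempty ((DerivedCategory.homologyFunctor (ModuleCat.{u} A) (m + b)).obj
      ((Θ X hX).obj G) ≅ X.homology b ⊗ Y) := by
  obtain ⟨P, hP, -, ⟨eP⟩⟩ := exists_kproj_iso G
  haveI := hP
  obtain ⟨sY, hsY⟩ : ∃ sY : Cx A,
      sY = (CochainComplex.singleFunctor (ModuleCat.{u} A) m).obj Y := ⟨_, rfl⟩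
  have eS : (DerivedCategory.singleFunctor (ModuleCat.{u} A) m).obj Y ≅ Q.obj sY := by
    rw [hsY]
    exact (singleFunctorIsoCompQ (ModuleCat.{u} A) m).app Y
  obtain ⟨φ, hφ⟩ := Q_map_surjective P sY
    (eP.hom ≫ (TStructure.t.truncGEπ m).app G ≫ e.hom ≫ eS.hom)
  have hT1 := mappingCone_triangle_distinguished φ
  have hT2 : ((TStructure.t.triangleLTGE m).obj G).rotate ∈ distTriang _ :=
    rot_of_distTriang _ (TStructure.t.triangleLTGE_distinguished m G)
  have eT := isoTriangleOfIso₁₂ _ _ hT1 hT2 eP (eS.symm ≪≫ e.symm) (by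
    show Q.map φ ≫ eS.inv ≫ e.inv = eP.hom ≫ (TStructure.t.truncGEπ m).app G
    rw [hφ]
    simp)
  have e₃ : (Q.obj (mappingCone φ) : Dual.D A) ≅
      ((TStructure.t.truncLT m).obj G)⟦(1 : ℤ)⟧ := Triangle.π₃.mapIso eT
  haveI : (((TStructure.t.truncLT m).obj G)⟦(1 : ℤ)⟧).IsLE (m - 2) :=
    TStructure.t.isLE_shift ((TStructure.t.truncLT m).obj G) (m - 1) 1 (m - 2) (by omega)
  haveI : (Q.obj (mappingCone φ) : Dual.D A).IsLE (m - 2) :=
    TStructure.t.isLE_of_iso e₃.symm (m - 2)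
  haveI := isIso_homology_Q_whiskerRight X hX b φ (m - 2) (m + b) (by omega)
  have e1 : (Θ X hX).obj G ≅ Q.obj (P ⊗ X) :=
    (Θ X hX).mapIso eP.symm ≪≫ (ΘIso X hX).app P
  have e2 : Q.obj (sY ⊗ X) ≅
      (Θ X hX).obj ((DerivedCategory.singleFunctor (ModuleCat.{u} A) m).obj Y) :=
    ((ΘIso X hX).app sY).symm ≪≫ (Θ X hX).mapIso eS.symm
  exact ⟨(DerivedCategory.homologyFunctor (ModuleCat.{u} A) (m + b)).mapIso e1 ≪≫
    asIso ((DerivedCategory.homologyFunctor (ModuleCat.{u} A) (m + b)).map (Q.map (φ ▷ X))) ≪≫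
    (DerivedCategory.homologyFunctor (ModuleCat.{u} A) (m + b)).mapIso e2 ≪≫
    ΘsingleHomologyIso X b Y hX m ≪≫
    topTensorIso X b Y (X.isZero_of_isStrictlyLE b (b + 1) (by omega))⟩

end Top

end Groth.Agent.Lib.Helper10.InvCxA
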