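import Mathlib
import Groth.Agent.Lib.Helper10InvCxA
set_option backward.isDefEq.respectTransparency.types false

/-!
# Invertible objects of `D(A)` over a Noetherian local ring (helper10)
-/

set_option autoImplicit false
universe u
open CategoryTheory CategoryTheory.Limits HomologicalComplex CochainComplex MonoidalCategory
open scoped TensorProduct
attribute [local instance] HasDerivedCategory.standard

namespace Groth.Agent.Lib.Helper10.InvCxB

open DerivedCategory Groth.Agent.Lib.Helper1.LDer Pretriangulated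
  Groth.Agent.Lib.Helper1.KF Groth.Agent.Lib.Helper1.DT
  Groth.Agent.Lib.Helper10.ConeTensor Groth.Agent.Lib.Helper10.DCTensC
  Groth.Agent.Lib.Helper10.UnitHom Groth.Agent.Lib.Helper10.InvCxA
  Groth.Agent.Lib.Helper10.DCLoc

section Alg

variable {A : Type u} [CommRing A] [IsLocalRing A]

/-- the tensor product of two nonzero finite modules over a local ring is nonzero -/
lemma nontrivial_tensor_of_finite (M N : Type u) [AddCommGroup M] [Module A M]
    [AddCommGroup N] [Module A N] [Module.Finite A M] [Module.Finite A N] [Nontrivial M]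
    [Nontrivial N] : Nontrivial (M ⊗[A] N) := by
  let k := IsLocalRing.ResidueField A
  have hM : Nontrivial (k ⊗[A] M) := by
    rw [← not_subsingleton_iff_nontrivial, IsLocalRing.subsingleton_tensorProduct,
      not_subsingleton_iff_nontrivial]
    infer_instance
  have hN : Nontrivial (k ⊗[A] N) := by
    rw [← not_subsingleton_iff_nontrivial, IsLocalRing.subsingleton_tensorProduct,
      not_subsingleton_iff_nontrivial]
    infer_instance
  have h1 : 0 < Module.finrank k ((k ⊗[A] M) ⊗[k] (k ⊗[A] N)) := by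
    rw [Module.finrank_tensorProduct]
    exact Nat.mul_pos Module.finrank_pos Module.finrank_pos
  have h2 : Nontrivial ((k ⊗[A] M) ⊗[k] (k ⊗[A] N)) := Module.nontrivial_of_finrank_pos h1
  have h3 : Nontrivial (k ⊗[A] (M ⊗[A] N)) :=
    (TensorProduct.AlgebraTensorModule.distribBaseChange A k M N).toEquiv.nontrivial
  rw [← not_subsingleton_iff_nontrivial] at h3 ⊢
  rwa [IsLocalRing.subsingleton_tensorProduct] at h3

end Alg

section Der

variable {A : Type u} [CommRing A]

/-- a bounded above projective resolution of a complex with cohomology in degrees `≤ b` -/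
lemma exists_res (E : Cx A) (b : ℤ) [(Q.obj E : Dual.D A).IsLE b] :
    ∃ (X : Cx A) (g : X ⟶ E), QuasiIso g ∧ (∀ k, Projective (X.X k)) ∧ X.IsStrictlyLE b := by
  obtain ⟨P, hP, hproj, ⟨e⟩⟩ :=
    Groth.Agent.Lib.Helper1.ProjRes.exists_iso_Q_proj (Q.obj E : Dual.D A) b
  haveI : P.IsKProjective := CochainComplex.isKProjective_of_projective P b
  obtain ⟨g, hg⟩ := Q_map_surjective P E e.hom
  refine ⟨P, g, ?_, hproj, hP⟩
  rw [← DerivedCategory.isIso_Q_map_iff_quasiIso, hg]
  infer_instance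

variable (E : Cx A) [DRing.HasLTensorCx A E]

/-- `G ⊗^L E ≅ G ⊗ X` for a K-flat resolution `X` of `E` -/
lemma nonempty_objIso (X : Cx A) (hX : KFlat X) (g : X ⟶ E) [QuasiIso g] (G : Dual.D A) :
    Nonempty ((DRing.LTensorCx A E).obj G ≅ (Θ X hX).obj G) := by
  obtain ⟨P, hP, -, ⟨eP⟩⟩ := exists_kproj_iso G
  haveI := hP
  haveI : QuasiIso (P ◁ g) :=
    quasiIso_whiskerLeft_of_kflatL g P (kflat_of_isKProjective P).kflatL
  haveI : IsIso (Q.map (P ◁ g)) :=
    (DerivedCategory.isIso_Q_map_iff_quasiIso _ (P ◁ g)).2 inferInstance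
  exact ⟨(DRing.LTensorCx A E).mapIso eP.symm ≪≫ ltcIso E P ≪≫ (asIso (Q.map (P ◁ g))).symm ≪≫
    ((ΘIso X hX).app P).symm ≪≫ (Θ X hX).mapIso eP⟩

/-- `A[-a] ⊗^L E ≅ E[-a]` -/
noncomputable def ltcUIso (a : ℤ) :
    (DRing.LTensorCx A E).obj (U A a) ≅ (Q.obj E : Dual.D A)⟦-a⟧ :=
  let e₀ : (𝟙_ (Cx A))⟦-a⟧ ≅ S A a :=
    ((CochainComplex.singleFunctors (ModuleCat.{u} A)).shiftIso (-a) a 0 (by omega)).app
      (ModuleCat.of A A)
  (DRing.LTensorCx A E).mapIso (UIso a) ≪≫ ltcIso E (S A a) ≪≫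
    Q.mapIso ((tensorRight E).mapIso e₀.symm) ≪≫
    Q.mapIso (tensorShiftLeftIso (𝟙_ (Cx A)) E (-a) ≪≫
      (CategoryTheory.shiftFunctor (Cx A) (-a)).mapIso (λ_ E)) ≪≫
    (Q.commShiftIso (-a)).app E

end Der

section Main

open Groth.Agent.S14388 Groth.Agent.Lib.Helper10.DCTens

variable {A : Type u} [CommRing A]

lemma isZero_homology_unit (j : ℤ) (hj : j ≠ 0) :
    IsZero ((DerivedCategory.homologyFunctor (ModuleCat.{u} A) j).obj (Dual.inD A A)) := by
  rcases lt_or_gt_of_ne hj with h | h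
  · exact isZero_of_isGE _ 0 j h
  · exact isZero_of_isLE _ 0 j h

/-- `H^j(A[0]) ≅ A` for `j = 0` -/
lemma nonempty_homology_unit_iso (j : ℤ) (hj : j = 0) :
    Nonempty ((DerivedCategory.homologyFunctor (ModuleCat.{u} A) j).obj (Dual.inD A A) ≅
      ModuleCat.of A A) := by
  subst hj
  exact ⟨(DerivedCategory.singleFunctorCompHomologyFunctorIso (ModuleCat.{u} A) 0).app
    (ModuleCat.of A A)⟩

lemma isLE_of_subsingleton (K : Dual.D A) (b : ℤ)
    (h : ∀ i : ℤ, b < i → Subsingleton (Dual.HD A K i)) : K.IsLE b := by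
  rw [DerivedCategory.isLE_iff]
  intro i hi
  haveI := h i hi
  exact ModuleCat.isZero_of_subsingleton _

/-- retracts have retract homology -/
lemma isZero_homology_of_retract (F : Dual.D A ⥤ Dual.D A) {V W : Dual.D A} (s : V ⟶ W)
    (r : W ⟶ V) (h : s ≫ r = 𝟙 V) (j : ℤ)
    (hz : IsZero ((DerivedCategory.homologyFunctor (ModuleCat.{u} A) j).obj (F.obj W))) :
    IsZero ((DerivedCategory.homologyFunctor (ModuleCat.{u} A) j).obj (F.obj V)) := by
  rw [IsZero.iff_id_eq_zero, ← CategoryTheory.Functor.map_id,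
    ← CategoryTheory.Functor.map_id, ← h, Functor.map_comp,
    Functor.map_comp, hz.eq_of_tgt ((DerivedCategory.homologyFunctor (ModuleCat.{u} A) j).map
      (F.map s)) 0, zero_comp]

/-- a K-flat bounded above projective resolution -/
lemma exists_res' (E : Cx A) (b : ℤ) [(Q.obj E : Dual.D A).IsLE b] :
    ∃ (X : Cx A) (g : X ⟶ E), QuasiIso g ∧ KFlat X ∧ X.IsStrictlyLE b := by
  obtain ⟨X, g, hg, hproj, hXb⟩ := exists_res E b
  exact ⟨X, g, hg, kflat_of_boundedAbove_flat X b
    (fun q hq => X.isZero_of_isStrictlyLE b q hq) (termwiseFlat_of_projective X hproj), hXb⟩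

/-- amplitude of `- ⊗^L E` -/
lemma isLE_LTensorCx (E : Cx A) [DRing.HasLTensorCx A E] (b : ℤ) [(Q.obj E : Dual.D A).IsLE b]
    (G : Dual.D A) (m : ℤ) [G.IsLE m] : ((DRing.LTensorCx A E).obj G).IsLE (m + b) := by
  obtain ⟨X, g, hg, hX, hXb⟩ := exists_res' E b
  obtain ⟨e⟩ := nonempty_objIso E X hX g G
  have := isLE_Θ X hX b G m
  exact TStructure.t.isLE_of_iso e.symm (m + b)

end Main

section Thm

open Groth.Agent.S14388 Groth.Agent.Lib.Helper10.DCTens

variable {A : Type u} [CommRing A] [IsLocalRing A]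

theorem main (L : Dual.D A) (E : Cx A) [DRing.HasLTensorCx A E]
    (hLfin : ∀ i : ℤ, Module.Finite A (Dual.HD A L i))
    (hLbdd : ∃ b : ℤ, ∀ i : ℤ, b < i → Subsingleton (Dual.HD A L i))
    (hEfin : ∀ i : ℤ, Module.Finite A (Dual.HD A (DRing.toD E) i))
    (hEbdd : ∃ b : ℤ, ∀ i : ℤ, b < i → Subsingleton (Dual.HD A (DRing.toD E) i))
    (h : Nonempty ((DRing.LTensorCx A E).obj L ≅ Dual.inD A A)) :
    ∃ n : ℤ, Nonempty (L ≅ (Dual.inD A A)⟦n⟧) ∧
      Nonempty (DRing.toD E ≅ (Dual.inD A A)⟦(-n)⟧) := by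
  obtain ⟨eLA⟩ := h
  -- the unit is not in `D^{≤ -1}`
  have hNZ : ∀ (m b : ℤ), L.IsLE m → (Q.obj E : Dual.D A).IsLE b → 0 ≤ m + b := by
    intro m b hm hb
    by_contra hlt
    haveI := hm
    haveI := hb
    have h1 := isLE_LTensorCx E b L m
    have h2 : IsZero ((DerivedCategory.homologyFunctor (ModuleCat.{u} A) 0).obj
        ((DRing.LTensorCx A E).obj L)) := isZero_of_isLE _ (m + b) 0 (by omega)
    obtain ⟨e0⟩ := nonempty_homology_unit_iso (A := A) 0 rfl
    have h3 : IsZero (ModuleCat.of A A) :=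
      h2.of_iso (e0.symm ≪≫ (DerivedCategory.homologyFunctor (ModuleCat.{u} A) 0).mapIso eLA.symm)
    have := ModuleCat.subsingleton_of_isZero h3
    exact not_subsingleton A this
  obtain ⟨m₀, hm₀⟩ : ∃ m, L.IsLE m := by
    obtain ⟨m, hm⟩ := hLbdd
    exact ⟨m, isLE_of_subsingleton L m hm⟩
  obtain ⟨b₀, hb₀⟩ : ∃ b, (Q.obj E : Dual.D A).IsLE b := by
    obtain ⟨b, hb⟩ := hEbdd
    exact ⟨b, isLE_of_subsingleton _ b hb⟩
  obtain ⟨a, ha, hamin⟩ := Int.exists_least_of_bdd (P := fun m => L.IsLE m)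
    ⟨-b₀, fun m hm => by have := hNZ m b₀ hm hb₀; omega⟩ ⟨m₀, hm₀⟩
  obtain ⟨b, hb, hbmin⟩ := Int.exists_least_of_bdd (P := fun b => (Q.obj E : Dual.D A).IsLE b)
    ⟨-a, fun b hb => by have := hNZ a b ha hb; omega⟩ ⟨b₀, hb₀⟩
  haveI := ha
  haveI := hb
  obtain ⟨X, g, hg, hX, hXb⟩ := exists_res' E b
  -- the top cohomology of `L`
  obtain ⟨YL, ⟨eL⟩⟩ := exists_iso_singleFunctor_obj_of_isGE_of_isLE ((tt.truncGE a).obj L) a
  have hYnt : Nontrivial YL := by
    by_contra hnt
    rw [not_nontrivial_iff_subsingleton] at hnt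
    have h1 : IsZero ((tt.truncGE a).obj L) :=
      ((DerivedCategory.singleFunctor (ModuleCat.{u} A) a).map_isZero
        (ModuleCat.isZero_of_subsingleton YL)).of_iso eL
    have h2 : L.IsLE (a - 1) := (tt.isLE_iff_isZero_truncGE_obj (a - 1) a (by omega) L).2 h1
    have := hamin _ h2
    omega
  have hYfin : Module.Finite A YL := by
    haveI := isIso_homology_truncGEπ a a le_rfl L
    let e1 : (DerivedCategory.homologyFunctor (ModuleCat.{u} A) a).obj L ≅ YL :=
      asIso ((DerivedCategory.homologyFunctor (ModuleCat.{u} A) a).map ((tt.truncGEπ a).app L)) ≪≫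
      (DerivedCategory.homologyFunctor (ModuleCat.{u} A) a).mapIso eL ≪≫
      (DerivedCategory.singleFunctorCompHomologyFunctorIso (ModuleCat.{u} A) a).app YL
    haveI := hLfin a
    exact Module.Finite.equiv e1.toLinearEquiv
  -- the top cohomology of `E`
  let eN : (DerivedCategory.homologyFunctor (ModuleCat.{u} A) b).obj (Q.obj E) ≅ X.homology b :=
    (DerivedCategory.homologyFunctorFactors (ModuleCat.{u} A) b).app E ≪≫
      (asIso (HomologicalComplex.homologyMap g b)).symm
  have hNfin : Module.Finite A (X.homology b) := by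
    haveI := hEfin b
    exact Module.Finite.equiv eN.toLinearEquiv
  have hNnt : Nontrivial (X.homology b) := by
    by_contra hnt
    rw [not_nontrivial_iff_subsingleton] at hnt
    have h1 : IsZero ((DerivedCategory.homologyFunctor (ModuleCat.{u} A) b).obj (Q.obj E)) :=
      (ModuleCat.isZero_of_subsingleton _).of_iso eN
    have h2 : (Q.obj E : Dual.D A).IsLE (b - 1) := by
      rw [DerivedCategory.isLE_iff]
      intro i hi
      by_cases hib : i = b
      · subst hib
        exact h1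
      · exact isZero_of_isLE _ b i (by omega)
    have := hbmin _ h2
    omega
  -- Künneth in the top degree
  obtain ⟨eTop⟩ := top X hX b L a YL eL
  obtain ⟨eObj⟩ := nonempty_objIso E X hX g L
  have eH : (DerivedCategory.homologyFunctor (ModuleCat.{u} A) (a + b)).obj (Dual.inD A A) ≅
      X.homology b ⊗ YL :=
    (DerivedCategory.homologyFunctor (ModuleCat.{u} A) (a + b)).mapIso (eLA.symm ≪≫ eObj) ≪≫ eTop
  haveI hNY : Nontrivial ((X.homology b : ModuleCat.{u} A) ⊗[A] (YL : ModuleCat.{u} A)) :=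
    nontrivial_tensor_of_finite _ _
  have hab : a + b = 0 := by
    by_contra hne
    have h1 : IsZero (X.homology b ⊗ YL) := (isZero_homology_unit (a + b) hne).of_iso eH.symm
    have h2 : Subsingleton ((X.homology b : ModuleCat.{u} A) ⊗[A] (YL : ModuleCat.{u} A)) :=
      ModuleCat.subsingleton_of_isZero h1
    exact not_subsingleton _ h2
  obtain ⟨e0⟩ := nonempty_homology_unit_iso (A := A) (a + b) hab
  let lNY : ((X.homology b : ModuleCat.{u} A) ⊗[A] (YL : ModuleCat.{u} A)) ≃ₗ[A] A :=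
    (eH.symm ≪≫ e0).toLinearEquiv
  haveI : Module.Invertible A (X.homology b) := Module.Invertible.left lNY
  haveI : Module.Invertible A YL := Module.Invertible.right lNY
  obtain ⟨lN⟩ : Nonempty ((X.homology b : ModuleCat.{u} A) ≃ₗ[A] A) :=
    Module.Invertible.free_iff_linearEquiv.1 inferInstance
  obtain ⟨lY⟩ : Nonempty ((YL : ModuleCat.{u} A) ≃ₗ[A] A) :=
    Module.Invertible.free_iff_linearEquiv.1 inferInstance
  -- splitting off the top cohomology
  let eYA : (DerivedCategory.singleFunctor (ModuleCat.{u} A) a).obj YL ≅ U A a :=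
    (DerivedCategory.singleFunctor (ModuleCat.{u} A) a).mapIso lY.toModuleIso
  let e₀ : Q.obj (S A a) ≅ (tt.truncGE a).obj L := (UIso a).symm ≪≫ eYA.symm ≪≫ eL.symm
  obtain ⟨e', h1, h2⟩ := Groth.Agent.Lib.Helper1.SplitTrunc.exists_splitting L a (S A a) a
    (fun i hi => HomologicalComplex.isZero_single_obj_X (ComplexShape.up ℤ) a _ i (by omega)) e₀
  -- the unit is concentrated in degree `0`
  have hTL : ∀ j : ℤ, j ≠ 0 → IsZero ((DerivedCategory.homologyFunctor (ModuleCat.{u} A) j).obj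
      ((DRing.LTensorCx A E).obj L)) := fun j hj =>
    (isZero_homology_unit j hj).of_iso
      ((DerivedCategory.homologyFunctor (ModuleCat.{u} A) j).mapIso eLA)
  -- `E` is concentrated in degree `b`
  have hsπ : (biprod.inr ≫ e'.inv) ≫ (tt.truncGEπ a).app L = 𝟙 _ := by
    rw [← h2, Category.assoc, Iso.inv_hom_id_assoc, biprod.inr_snd]
  have hV : ∀ j : ℤ, j ≠ 0 → IsZero ((DerivedCategory.homologyFunctor (ModuleCat.{u} A) j).obj
      ((DRing.LTensorCx A E).obj ((tt.truncGE a).obj L))) := fun j hj =>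
    isZero_homology_of_retract (DRing.LTensorCx A E) _ _ hsπ j (hTL j hj)
  let eV : (DRing.LTensorCx A E).obj ((tt.truncGE a).obj L) ≅ (Q.obj E : Dual.D A)⟦-a⟧ :=
    (DRing.LTensorCx A E).mapIso (eL ≪≫ eYA) ≪≫ ltcUIso E a
  have hEz : ∀ i : ℤ, i ≠ b →
      IsZero ((DerivedCategory.homologyFunctor (ModuleCat.{u} A) i).obj (Q.obj E)) := by
    intro i hi
    refine (hV (i + a) (by omega)).of_iso ?_
    exact (((DerivedCategory.homologyFunctor (ModuleCat.{u} A) 0).shiftIso (-a) (i + a) i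
      (by omega)).app (Q.obj E)).symm ≪≫
      (DerivedCategory.homologyFunctor (ModuleCat.{u} A) (i + a)).mapIso eV.symm
  haveI : (Q.obj E : Dual.D A).IsGE b := by
    rw [DerivedCategory.isGE_iff]
    intro i hi
    exact hEz i (by omega)
  obtain ⟨YE, ⟨eE⟩⟩ := exists_iso_singleFunctor_obj_of_isGE_of_isLE (Q.obj E : Dual.D A) b
  let iYE : YE ≅ ModuleCat.of A A :=
    ((DerivedCategory.singleFunctorCompHomologyFunctorIso (ModuleCat.{u} A) b).app YE).symm ≪≫
    (DerivedCategory.homologyFunctor (ModuleCat.{u} A) b).mapIso eE.symm ≪≫ eN ≪≫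
    lN.toModuleIso
  have resE : Nonempty (DRing.toD E ≅ (Dual.inD A A)⟦(-b)⟧) :=
    ⟨eE ≪≫ (DerivedCategory.singleFunctor (ModuleCat.{u} A) b).mapIso iYE ≪≫
      (((DerivedCategory.singleFunctors (ModuleCat.{u} A)).shiftIso (-b) b 0 (by omega)).app
        (ModuleCat.of A A)).symm⟩
  -- the lower truncation of `L` vanishes
  have hιr : (tt.truncLTι a).app L ≫ e'.hom ≫ biprod.fst = 𝟙 _ := by
    rw [reassoc_of% h1, biprod.inl_fst]
  have hL' : ∀ j : ℤ, j ≠ 0 → IsZero ((DerivedCategory.homologyFunctor (ModuleCat.{u} A) j).obj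
      ((DRing.LTensorCx A E).obj ((tt.truncLT a).obj L))) := fun j hj =>
    isZero_homology_of_retract (DRing.LTensorCx A E) _ _ hιr j (hTL j hj)
  have hind : ∀ k : ℕ, ((tt.truncLT a).obj L).IsLE (a - 1 - k) := by
    intro k
    induction k with
    | zero =>
      simp only [Nat.cast_zero, sub_zero]
      infer_instance
    | succ k ih =>
      obtain ⟨m, hm⟩ : ∃ m : ℤ, m = a - 1 - k := ⟨_, rfl⟩
      rw [← hm] at ih
      haveI := ih
      obtain ⟨Y, ⟨eY⟩⟩ := exists_iso_singleFunctor_obj_of_isGE_of_isLE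
        ((tt.truncGE m).obj ((tt.truncLT a).obj L)) m
      obtain ⟨eTop'⟩ := top X hX b ((tt.truncLT a).obj L) m Y eY
      obtain ⟨eObj'⟩ := nonempty_objIso E X hX g ((tt.truncLT a).obj L)
      have h3 : IsZero (X.homology b ⊗ Y) :=
        (hL' (m + b) (by omega)).of_iso (eTop'.symm ≪≫
          (DerivedCategory.homologyFunctor (ModuleCat.{u} A) (m + b)).mapIso eObj'.symm)
      have h4 : Subsingleton ((X.homology b : ModuleCat.{u} A) ⊗[A] (Y : ModuleCat.{u} A)) :=
        ModuleCat.subsingleton_of_isZero h3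
      have h5 : Subsingleton Y :=
        ((TensorProduct.lid A Y).symm ≪≫ₗ
          TensorProduct.congr lN.symm (LinearEquiv.refl A Y)).toEquiv.subsingleton
      have h6 : IsZero ((tt.truncGE m).obj ((tt.truncLT a).obj L)) :=
        ((DerivedCategory.singleFunctor (ModuleCat.{u} A) m).map_isZero
          (ModuleCat.isZero_of_subsingleton Y)).of_iso eY
      have h7 : ((tt.truncLT a).obj L).IsLE (m - 1) :=
        (tt.isLE_iff_isZero_truncGE_obj (m - 1) m (by omega) _).2 h6
      exact tt.isLE_of_le _ (m - 1) _ (by push_cast; omega)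
  have hall : ∀ m : ℤ, ((tt.truncLT a).obj L).IsLE m := by
    intro m
    have := hind (a - 1 - m).toNat
    exact tt.isLE_of_le _ (a - 1 - ((a - 1 - m).toNat : ℤ)) m (by omega)
  have hz : IsZero ((tt.truncLT a).obj L) := by
    haveI := hall 0
    haveI : ((tt.truncLT a).obj L).IsGE 1 := by
      rw [DerivedCategory.isGE_iff]
      intro i hi
      haveI := hall (i - 1)
      exact isZero_of_isLE _ (i - 1) i (by omega)
    exact tt.isZero _ 0 1 (by norm_num)
  haveI : L.IsGE a := (tt.isGE_iff_isZero_truncLT_obj a L).2 hz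
  refine ⟨b, ⟨asIso ((tt.truncGEπ a).app L) ≪≫ eL ≪≫ eYA ≪≫
    (((DerivedCategory.singleFunctors (ModuleCat.{u} A)).shiftIso b a 0 (by omega)).app
      (ModuleCat.of A A)).symm⟩, resE⟩

end Thm

end Groth.Agent.Lib.Helper10.InvCxB
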