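import Mathlib
import Groth.Agent.Lib.Helper10InvTwist

/-!
# Uniqueness of the invertible twist of a dualizing complex (helper10)

For a complex `Z` with `A ≃ End_{D(A)}(Z)` and a finite projective module `N`,
`Hom_{D(A)}(Z, Z ⊗ N) ≃ N`.  Consequently `ω ⊗ P ≅ ω ⊗ P'` forces `P ≃ P'`.
-/

set_option autoImplicit false
set_option backward.isDefEq.respectTransparency.types false
universe u
open CategoryTheory CategoryTheory.Limits MonoidalCategory
attribute [local instance] HasDerivedCategory.standard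

namespace Groth.Agent.Lib.Helper10.InvTwistB

open DerivedCategory Groth.Agent.Lib.Helper1.Extend Groth.Agent.Lib.Helper1.LDer
  Groth.Agent.Lib.Helper5.LocD Groth.Agent.Lib.Helper5.BiDual Groth.Agent.Lib.Helper10.InvTwist

section Chain

variable {A : Type u} [CommRing A] (N : ModuleCat.{u} A)

/-- `m ↦ m ⊗ q` -/
noncomputable def tauMod (q : N) (M : ModuleCat.{u} A) : M ⟶ M ⊗ N :=
  ModuleCat.ofHom ((TensorProduct.mk A M N).flip q)

/-- `m ⊗ n ↦ f n • m` -/
noncomputable def sigMod (f : N →ₗ[A] A) (M : ModuleCat.{u} A) : M ⊗ N ⟶ M :=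
  ModuleCat.ofHom ((TensorProduct.rid A M).toLinearMap ∘ₗ LinearMap.lTensor M f)

lemma tauMod_apply (q : N) (M : ModuleCat.{u} A) (m : M) :
    (tauMod N q M).hom m = m ⊗ₜ[A] q := rfl

lemma sigMod_tmul (f : N →ₗ[A] A) (M : ModuleCat.{u} A) (m : M) (n : N) :
    (sigMod N f M).hom (m ⊗ₜ[A] n) = f n • m := by
  show (TensorProduct.rid A M) ((LinearMap.lTensor M f) (m ⊗ₜ[A] n)) = f n • m
  rw [LinearMap.lTensor_tmul, TensorProduct.rid_tmul]

lemma tauMod_naturality (q : N) {M M' : ModuleCat.{u} A} (g : M ⟶ M') :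
    g ≫ tauMod N q M' = tauMod N q M ≫ (g ▷ N) := by
  ext m
  rfl

lemma sigMod_naturality (f : N →ₗ[A] A) {M M' : ModuleCat.{u} A} (g : M ⟶ M') :
    (g ▷ N) ≫ sigMod N f M' = sigMod N f M ≫ g := by
  apply ModuleCat.hom_ext
  apply TensorProduct.ext'
  intro m n
  show (sigMod N f M').hom (g.hom m ⊗ₜ[A] n) = g.hom ((sigMod N f M).hom (m ⊗ₜ[A] n))
  rw [sigMod_tmul, sigMod_tmul, map_smul]

/-- chain map `Z ⟶ Z ⊗ N`, `z ↦ z ⊗ q` -/
noncomputable def tauCx (q : N) (Z : DRing.Cx A) : Z ⟶ (tCx N).obj Z where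
  f i := tauMod N q (Z.X i)
  comm' i j _ := (tauMod_naturality N q (Z.d i j)).symm

/-- chain map `Z ⊗ N ⟶ Z`, `z ⊗ n ↦ f n • z` -/
noncomputable def sigCx (f : N →ₗ[A] A) (Z : DRing.Cx A) : (tCx N).obj Z ⟶ Z where
  f i := sigMod N f (Z.X i)
  comm' i j _ := (sigMod_naturality N f (Z.d i j)).symm

lemma tauCx_comp_sigCx (q : N) (f : N →ₗ[A] A) (Z : DRing.Cx A) :
    tauCx N q Z ≫ sigCx N f Z = f q • 𝟙 Z := by
  ext i m
  show (sigMod N f (Z.X i)).hom ((tauMod N q (Z.X i)).hom m) = _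
  rw [tauMod_apply, sigMod_tmul]
  rfl

lemma tauCx_add (q q' : N) (Z : DRing.Cx A) : tauCx N (q + q') Z = tauCx N q Z + tauCx N q' Z := by
  ext i m
  show m ⊗ₜ[A] (q + q') = m ⊗ₜ[A] q + m ⊗ₜ[A] q'
  exact TensorProduct.tmul_add _ _ _

lemma tauCx_smul (a : A) (q : N) (Z : DRing.Cx A) : tauCx N (a • q) Z = a • tauCx N q Z := by
  ext i m
  show m ⊗ₜ[A] (a • q) = a • (m ⊗ₜ[A] q)
  exact TensorProduct.tmul_smul _ _ _

lemma sum_sigMod_comp_tauMod {ι : Type} [Fintype ι] (q : ι → N) (f : ι → (N →ₗ[A] A))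
    (h : ∀ n : N, ∑ k, f k n • q k = n) (M : ModuleCat.{u} A) :
    ∑ k, sigMod N (f k) M ≫ tauMod N (q k) M = 𝟙 (M ⊗ N) := by
  apply ModuleCat.hom_ext
  apply TensorProduct.ext'
  intro m n
  have h2 : ∀ k, (sigMod N (f k) M ≫ tauMod N (q k) M).hom (m ⊗ₜ[A] n) =
      m ⊗ₜ[A] (f k n • q k) := fun k => by
    show (tauMod N (q k) M).hom ((sigMod N (f k) M).hom (m ⊗ₜ[A] n)) = _
    rw [sigMod_tmul, tauMod_apply, TensorProduct.smul_tmul]
  have h3 : (∑ k, sigMod N (f k) M ≫ tauMod N (q k) M).hom (m ⊗ₜ[A] n) =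
      ∑ k, (sigMod N (f k) M ≫ tauMod N (q k) M).hom (m ⊗ₜ[A] n) := by
    rw [ModuleCat.hom_sum]
    exact LinearMap.sum_apply _ _ _
  refine h3.trans ?_
  rw [Finset.sum_congr rfl (fun k _ => h2 k), ← TensorProduct.tmul_sum, h n]
  rfl

lemma sum_sigCx_comp_tauCx {ι : Type} [Fintype ι] (q : ι → N) (f : ι → (N →ₗ[A] A))
    (h : ∀ n : N, ∑ k, f k n • q k = n) (Z : DRing.Cx A) :
    ∑ k, sigCx N (f k) Z ≫ tauCx N (q k) Z = 𝟙 _ := by
  ext i : 1
  have h1 : (∑ k, sigCx N (f k) Z ≫ tauCx N (q k) Z).f i =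
      ∑ k, (sigCx N (f k) Z ≫ tauCx N (q k) Z).f i :=
    (HomologicalComplex.eval (ModuleCat.{u} A) (ComplexShape.up ℤ) i).map_sum _ _
  rw [h1]
  exact sum_sigMod_comp_tauMod N q f h (Z.X i)

end Chain

section Claim

variable {A : Type u} [CommRing A] (N : Type u) [AddCommGroup N] [Module A N]

/-- the map `N → Hom(Z, Z ⊗ N)` -/
noncomputable def alpha (Z : DRing.Cx A) :
    N →ₗ[A] (Q.obj Z ⟶ Q.obj ((tCx (ModuleCat.of A N)).obj Z)) where
  toFun q := Q.map (tauCx (ModuleCat.of A N) q Z)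
  map_add' q q' := by rw [tauCx_add, Functor.map_add]
  map_smul' a q := by rw [tauCx_smul, Functor.map_smul]; rfl

lemma alpha_apply (Z : DRing.Cx A) (q : N) :
    alpha N Z q = Q.map (tauCx (ModuleCat.of A N) q Z) := rfl

variable [Module.Finite A N] [Module.Projective A N]

lemma exists_dual_basis : ∃ (r : ℕ) (q : Fin r → N) (f : Fin r → (N →ₗ[A] A)),
    ∀ n : N, ∑ k, f k n • q k = n := by
  obtain ⟨r, π, s, -, -, hπs⟩ := Module.Finite.exists_comp_eq_id_of_projective A N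
  refine ⟨r, fun k => π (Pi.single k 1), fun k => LinearMap.proj k ∘ₗ s, fun n => ?_⟩
  have h1 : π (s n) = n := LinearMap.congr_fun hπs n
  have h2 : s n = ∑ k, (s n) k • (Pi.single k (1 : A) : Fin r → A) := by
    conv_lhs => rw [pi_eq_sum_univ' (s n)]
  conv_rhs => rw [← h1, h2, map_sum]
  refine Finset.sum_congr rfl (fun k _ => ?_)
  rw [map_smul]
  rfl

theorem alpha_bijective (Z : DRing.Cx A)
    (hEnd : Function.Bijective (fun a : A => a • 𝟙 (Q.obj Z))) :
    Function.Bijective (alpha N Z) := by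
  obtain ⟨r, q, f, hqf⟩ := exists_dual_basis (A := A) N
  have hcomp : ∀ (x : N) (g : N →ₗ[A] A), alpha N Z x ≫
      Q.map (sigCx (ModuleCat.of A N) g Z) = g x • 𝟙 (Q.obj Z) := fun x g => by
    rw [alpha_apply, ← Functor.map_comp, tauCx_comp_sigCx, Functor.map_smul,
      CategoryTheory.Functor.map_id]
  have hsum : ∑ k, Q.map (sigCx (ModuleCat.of A N) (f k) Z) ≫ alpha N Z (q k) = 𝟙 _ := by
    have := congrArg (fun φ => Q.map φ) (sum_sigCx_comp_tauCx (ModuleCat.of A N) q f hqf Z)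
    simp only [Functor.map_sum, Functor.map_comp] at this
    rw [CategoryTheory.Functor.map_id] at this
    exact this
  constructor
  · rw [← LinearMap.ker_eq_bot, LinearMap.ker_eq_bot']
    intro x hx
    have h0 : ∀ g : N →ₗ[A] A, g x = 0 := fun g => by
      have h1 := hcomp x g
      rw [hx, zero_comp] at h1
      apply hEnd.1
      show g x • 𝟙 (Q.obj Z) = (0 : A) • 𝟙 (Q.obj Z)
      rw [← h1, zero_smul]
    rw [← hqf x]
    exact Finset.sum_eq_zero (fun k _ => by rw [h0 (f k), zero_smul])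
  · intro g
    choose a ha using fun k => hEnd.2 (g ≫ Q.map (sigCx (ModuleCat.of A N) (f k) Z))
    refine ⟨∑ k, a k • q k, ?_⟩
    rw [map_sum]
    have h1 : ∀ k, alpha N Z (a k • q k) =
        g ≫ Q.map (sigCx (ModuleCat.of A N) (f k) Z) ≫ alpha N Z (q k) := fun k => by
      have h2 : a k • 𝟙 (Q.obj Z) = g ≫ Q.map (sigCx (ModuleCat.of A N) (f k) Z) := ha k
      rw [map_smul, ← Category.assoc, ← h2, Linear.smul_comp, Category.id_comp]
    rw [Finset.sum_congr rfl (fun k _ => h1 k), ← Preadditive.comp_sum, hsum, Category.comp_id]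

/-- `Hom(Z, Z ⊗ N) ≃ N` when `A ≃ End(Z)` -/
theorem nonempty_linearEquiv_of_iso (Z : DRing.Cx A)
    (hEnd : Function.Bijective (fun a : A => a • 𝟙 (Q.obj Z)))
    (θ : Q.obj Z ≅ Q.obj ((tCx (ModuleCat.of A N)).obj Z)) : Nonempty (N ≃ₗ[A] A) := by
  let e1 : N ≃ₗ[A] (Q.obj Z ⟶ Q.obj ((tCx (ModuleCat.of A N)).obj Z)) :=
    LinearEquiv.ofBijective (alpha N Z) (alpha_bijective N Z hEnd)
  let e2 : (Q.obj Z ⟶ Q.obj ((tCx (ModuleCat.of A N)).obj Z)) ≃ₗ[A] (Q.obj Z ⟶ Q.obj Z) :=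
    { toFun := fun g => g ≫ θ.inv
      invFun := fun g => g ≫ θ.hom
      left_inv := fun g => by simp
      right_inv := fun g => by simp
      map_add' := fun g g' => Preadditive.add_comp _ _ _ _ _ _
      map_smul' := fun a g => Linear.smul_comp _ _ _ _ _ _ }
  let l3 : A →ₗ[A] (Q.obj Z ⟶ Q.obj Z) :=
    { toFun := fun a => a • 𝟙 (Q.obj Z)
      map_add' := fun a b => add_smul _ _ _
      map_smul' := fun a b => by rw [smul_eq_mul, mul_smul]; rfl }
  let e3 : A ≃ₗ[A] (Q.obj Z ⟶ Q.obj Z) := LinearEquiv.ofBijective l3 hEnd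
  exact ⟨e1 ≪≫ₗ e2 ≪≫ₗ e3.symm⟩

end Claim

section Main

variable {A : Type u} [CommRing A]

lemma subsingleton_tensor_iff (P : Type u) [AddCommGroup P] [Module A P] [Module.Invertible A P]
    (M : Type u) [AddCommGroup M] [Module A M] :
    Subsingleton (TensorProduct A M P) ↔ Subsingleton M := by
  constructor
  · intro h
    let e : TensorProduct A P (Module.Dual A P) ≃ₗ[A] A :=
      TensorProduct.comm A P (Module.Dual A P) ≪≫ₗ Module.Invertible.linearEquiv A P
    let l : M ≃ₗ[A] TensorProduct A (TensorProduct A M P) (Module.Dual A P) :=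
      (TensorProduct.rid A M).symm ≪≫ₗ TensorProduct.congr (LinearEquiv.refl A M) e.symm ≪≫ₗ
        (TensorProduct.assoc A M P (Module.Dual A P)).symm
    exact l.toEquiv.subsingleton
  · intro h
    infer_instance

variable [IsNoetherianRing A]

/-- `ω ⊗^L P ≅ ω ⊗^L P'` forces `P ≃ P'` -/
theorem nonempty_linearEquiv_of_LTensor_iso (ω : Dual.D A) (hω : Dual.IsDualizing A ω)
    (P P' : Type u) [AddCommGroup P] [Module A P] [Module.Invertible A P]
    [AddCommGroup P'] [Module A P'] [Module.Invertible A P']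
    [DRing.HasLTensor A (ModuleCat.of A P)] [DRing.HasLTensor A (ModuleCat.of A P')]
    (e : (DRing.LTensor A (ModuleCat.of A P)).obj ω ≅ (DRing.LTensor A (ModuleCat.of A P')).obj ω) :
    Nonempty (P ≃ₗ[A] P') := by
  haveI : Module.Flat A (ModuleCat.of A P) := inferInstanceAs (Module.Flat A P)
  haveI : Module.Flat A (ModuleCat.of A P') := inferInstanceAs (Module.Flat A P')
  let N := TensorProduct A (Module.Dual A P) P'
  let lPN : TensorProduct A P N ≃ₗ[A] P' :=
    (TensorProduct.assoc A P (Module.Dual A P) P').symm ≪≫ₗ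
      TensorProduct.congr (TensorProduct.comm A P (Module.Dual A P) ≪≫ₗ
        Module.Invertible.linearEquiv A P) (LinearEquiv.refl A P') ≪≫ₗ TensorProduct.lid A P'
  let Z := Q.objPreimage ω
  let e0 : Q.obj Z ≅ ω := Q.objObjPreimageIso ω
  let Z' := (tCx (ModuleCat.of A P)).obj Z
  let eX : (DRing.LTensor A (ModuleCat.of A P)).obj ω ≅ Q.obj Z' :=
    (DRing.LTensor A (ModuleCat.of A P)).mapIso e0.symm ≪≫ ltIsoOfFlat (ModuleCat.of A P) Z
  let eX' : (DRing.LTensor A (ModuleCat.of A P')).obj ω ≅ Q.obj ((tCx (ModuleCat.of A P')).obj Z) :=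
    (DRing.LTensor A (ModuleCat.of A P')).mapIso e0.symm ≪≫ ltIsoOfFlat (ModuleCat.of A P') Z
  have hX : Dual.IsDualizing A (Q.obj Z') := isDualizing_of_iso eX (isDualizing_LTensor ω hω P)
  let ν : tensorRight (ModuleCat.of A P) ⋙ tensorRight (ModuleCat.of A N) ≅
      tensorRight (ModuleCat.of A P') :=
    (tensorRightTensor (ModuleCat.of A P) (ModuleCat.of A N)).symm ≪≫
      (tensoringRight (ModuleCat.{u} A)).mapIso lPN.toModuleIso
  let c : (tCx (ModuleCat.of A N)).obj Z' ≅ (tCx (ModuleCat.of A P')).obj Z :=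
    (NatIso.mapHomologicalComplex ν (ComplexShape.up ℤ)).app Z
  let θ : Q.obj Z' ≅ Q.obj ((tCx (ModuleCat.of A N)).obj Z') :=
    eX.symm ≪≫ e ≪≫ eX' ≪≫ Q.mapIso c.symm
  obtain ⟨lN⟩ := nonempty_linearEquiv_of_iso N Z' hX.toEnd_bijective θ
  exact ⟨(TensorProduct.rid A P).symm ≪≫ₗ TensorProduct.congr (LinearEquiv.refl A P) lN.symm ≪≫ₗ
    lPN⟩

/-- the shifts agree -/
theorem eq_of_shift_iso [Nontrivial A] (ω : Dual.D A) (hω : Dual.IsDualizing A ω)
    (P P' : Type u) [AddCommGroup P] [Module A P] [Module.Invertible A P]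
    [AddCommGroup P'] [Module A P'] [Module.Invertible A P']
    [DRing.HasLTensor A (ModuleCat.of A P)] [DRing.HasLTensor A (ModuleCat.of A P')] (n n' : ℤ)
    (h : ((DRing.LTensor A (ModuleCat.of A P)).obj ω)⟦n⟧ ≅
      ((DRing.LTensor A (ModuleCat.of A P')).obj ω)⟦n'⟧) : n = n' := by
  haveI : Module.Flat A (ModuleCat.of A P) := inferInstanceAs (Module.Flat A P)
  haveI : Module.Flat A (ModuleCat.of A P') := inferInstanceAs (Module.Flat A P')
  -- cohomology of the twisted shifted complex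
  have hs : ∀ (R : Type u) [AddCommGroup R] [Module A R] [Module.Invertible A R]
      [DRing.HasLTensor A (ModuleCat.of A R)] [Module.Flat A (ModuleCat.of A R)] (m j : ℤ),
      Subsingleton (Dual.HD A (((DRing.LTensor A (ModuleCat.of A R)).obj ω)⟦m⟧) j) ↔
        Subsingleton (Dual.HD A ω (m + j)) := by
    intro R _ _ _ _ _ m j
    let i1 : (DerivedCategory.homologyFunctor (ModuleCat.{u} A) j).obj
        (((DRing.LTensor A (ModuleCat.of A R)).obj ω)⟦m⟧) ≅
        (DerivedCategory.homologyFunctor (ModuleCat.{u} A) (m + j)).obj ω ⊗ ModuleCat.of A R :=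
      ((DerivedCategory.homologyFunctor (ModuleCat.{u} A) 0).shiftIso m j (m + j) rfl).app _ ≪≫
        homologyLTensorIso (ModuleCat.of A R) ω (m + j)
    refine (i1.toLinearEquiv.toEquiv.subsingleton_congr).trans ?_
    exact subsingleton_tensor_iff R (Dual.HD A ω (m + j))
  have key : ∀ j : ℤ, Subsingleton (Dual.HD A ω (n + j)) ↔ Subsingleton (Dual.HD A ω (n' + j)) := by
    intro j
    rw [← hs P n j, ← hs P' n' j]
    exact (((DerivedCategory.homologyFunctor (ModuleCat.{u} A) j).mapIso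
      h).toLinearEquiv.toEquiv.subsingleton_congr)
  obtain ⟨R⟩ := nonempty_res ω hω
  have hbd : ∀ i : ℤ, (i < R.a ∨ R.b < i) → Subsingleton (Dual.HD A ω i) :=
    fun i hi => subsingleton_HD_of_res R i hi
  have hne : ∃ i : ℤ, ¬ Subsingleton (Dual.HD A ω i) := by
    by_contra hall
    simp only [not_exists, not_not] at hall
    have hz : ∀ i : ℤ, IsZero ((DerivedCategory.homologyFunctor (ModuleCat.{u} A) i).obj ω) :=
      fun i => by
        haveI := hall i
        exact ModuleCat.isZero_of_subsingleton _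
    haveI : ω.IsLE 0 := (DerivedCategory.isLE_iff ω 0).2 (fun i _ => hz i)
    haveI : ω.IsGE 1 := (DerivedCategory.isGE_iff ω 1).2 (fun i _ => hz i)
    have h0 : IsZero ω := DerivedCategory.TStructure.t.isZero ω 0 1
    have h1 : (1 : A) • 𝟙 ω = (0 : A) • 𝟙 ω := h0.eq_of_src _ _
    exact one_ne_zero (hω.toEnd_bijective.1 h1)
  obtain ⟨i₀, hi₀⟩ := hne
  by_contra hnn
  -- periodicity
  have hper : ∀ i : ℤ, Subsingleton (Dual.HD A ω i) ↔ Subsingleton (Dual.HD A ω (i + (n' - n))) := by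
    intro i
    have := key (i - n)
    rwa [show n + (i - n) = i by ring, show n' + (i - n) = i + (n' - n) by ring] at this
  have hperk : ∀ (k : ℕ) (i : ℤ),
      Subsingleton (Dual.HD A ω i) ↔ Subsingleton (Dual.HD A ω (i + k * (n' - n))) := by
    intro k
    induction k with
    | zero => intro i; simp
    | succ k ih =>
      intro i
      rw [ih i, hper (i + k * (n' - n))]
      have : i + ↑k * (n' - n) + (n' - n) = i + ↑(k + 1) * (n' - n) := by push_cast; ring
      rw [this]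
  rcases lt_or_gt_of_ne hnn with hlt | hgt
  · -- n < n': go up
    have hd : 0 < n' - n := by omega
    apply hi₀
    rw [hperk ((R.b - i₀).toNat + 1) i₀]
    apply hbd
    right
    have h1 : (R.b - i₀) ≤ ((R.b - i₀).toNat : ℤ) := Int.self_le_toNat _
    have h2 : (((R.b - i₀).toNat + 1 : ℕ) : ℤ) ≤ (((R.b - i₀).toNat + 1 : ℕ) : ℤ) * (n' - n) := by
      nlinarith
    push_cast at h2 ⊢
    linarith
  · -- n' < n: go down
    have hd : n' - n < 0 := by omega
    apply hi₀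
    rw [hperk ((i₀ - R.a).toNat + 1) i₀]
    apply hbd
    left
    have h1 : (i₀ - R.a) ≤ ((i₀ - R.a).toNat : ℤ) := Int.self_le_toNat _
    have h2 : (((i₀ - R.a).toNat + 1 : ℕ) : ℤ) * (n' - n) ≤ -(((i₀ - R.a).toNat + 1 : ℕ) : ℤ) := by
      nlinarith
    push_cast at h2 ⊢
    linarith

end Main

end Groth.Agent.Lib.Helper10.InvTwistB
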