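import Mathlib
import Groth.Agent.Lib.Helper2Constr

/-!
# Closed points of a Jacobson space and constructible sets (helper10)
-/

set_option autoImplicit false
open Topology TopologicalSpace Set

namespace Groth.Agent.Lib.Helper10.Jacobson

universe u

variable {X : Type u} [TopologicalSpace X] [JacobsonSpace X]

/-- A nonempty constructible set of a Jacobson space contains a closed point. -/
theorem nonempty_inter_closedPoints_of_isConstructible {E : Set X} (hE : IsConstructible E)
    (hne : E.Nonempty) : (E ∩ closedPoints X).Nonempty := by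
  refine Groth.Agent.Lib.Helper2.Constr.sdiff_union_induction
    (P := fun s => s.Nonempty → (s ∩ closedPoints X).Nonempty) ?_ ?_ hE hne
  · intro U V hU _ hV _ h
    exact nonempty_inter_closedPoints h (hU.isLocallyClosed.inter hV.isClosed_compl.isLocallyClosed)
  · intro s t hs ht h
    rcases h with ⟨x, hx | hx⟩
    · obtain ⟨y, hy, hy'⟩ := hs ⟨x, hx⟩
      exact ⟨y, Or.inl hy, hy'⟩
    · obtain ⟨y, hy, hy'⟩ := ht ⟨x, hx⟩
      exact ⟨y, Or.inr hy, hy'⟩

/-- Inclusion of constructible sets is detected on closed points. -/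
theorem subset_of_preimage_val_subset {E E' : Set X} (hE : IsConstructible E)
    (hE' : IsConstructible E')
    (h : (Subtype.val : closedPoints X → X) ⁻¹' E ⊆ Subtype.val ⁻¹' E') : E ⊆ E' := by
  by_contra hcon
  rw [← Set.diff_eq_empty, ← ne_eq, ← Set.nonempty_iff_ne_empty] at hcon
  obtain ⟨x, ⟨hxE, hxE'⟩, hx⟩ := nonempty_inter_closedPoints_of_isConstructible (hE.sdiff hE') hcon
  exact hxE' (h (a := ⟨x, hx⟩) hxE)

/-- Inclusion of opens is detected on closed points. -/
theorem subset_of_preimage_val_subset_of_isOpen {U V : Set X} (hU : IsOpen U) (hV : IsOpen V)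
    (h : (Subtype.val : closedPoints X → X) ⁻¹' U ⊆ Subtype.val ⁻¹' V) : U ⊆ V := by
  by_contra hcon
  rw [← Set.diff_eq_empty, ← ne_eq, ← Set.nonempty_iff_ne_empty] at hcon
  obtain ⟨x, ⟨hxE, hxE'⟩, hx⟩ := nonempty_inter_closedPoints hcon
    (hU.isLocallyClosed.inter hV.isClosed_compl.isLocallyClosed)
  exact hxE' (h (a := ⟨x, hx⟩) hxE)

theorem isCompact_preimage_val_iff {U : Set X} (hU : IsOpen U) :
    IsCompact U ↔ IsCompact ((Subtype.val : closedPoints X → X) ⁻¹' U) := by
  constructor
  · intro hUc
    refine isCompact_of_finite_subcover fun {ι} V₀ hV₀ hcov => ?_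
    have : ∀ i, ∃ V : Set X, IsOpen V ∧ Subtype.val ⁻¹' V = V₀ i := fun i =>
      isOpen_induced_iff.mp (hV₀ i)
    choose V hVo hV using this
    have hUV : U ⊆ ⋃ i, V i := by
      refine subset_of_preimage_val_subset_of_isOpen hU (isOpen_iUnion hVo) ?_
      rw [Set.preimage_iUnion]
      simpa only [hV] using hcov
    obtain ⟨t, ht⟩ := hUc.elim_finite_subcover V hVo hUV
    refine ⟨t, ?_⟩
    have := Set.preimage_mono (f := (Subtype.val : closedPoints X → X)) ht
    simpa only [Set.preimage_iUnion, hV] using this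
  · intro hUc
    refine isCompact_of_finite_subcover fun {ι} V hVo hcov => ?_
    have h1 : (Subtype.val : closedPoints X → X) ⁻¹' U ⊆ ⋃ i, Subtype.val ⁻¹' V i := by
      rw [← Set.preimage_iUnion]
      exact Set.preimage_mono hcov
    obtain ⟨t, ht⟩ := hUc.elim_finite_subcover _
      (fun i => (hVo i).preimage continuous_subtype_val) h1
    refine ⟨t, subset_of_preimage_val_subset_of_isOpen hU
      (isOpen_biUnion fun i _ => hVo i) ?_⟩
    simpa only [Set.preimage_iUnion] using ht

theorem isRetrocompact_preimage_val_iff {U : Set X} (hU : IsOpen U) :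
    IsRetrocompact U ↔ IsRetrocompact ((Subtype.val : closedPoints X → X) ⁻¹' U) := by
  constructor
  · intro hUr W₀ hW₀c hW₀o
    obtain ⟨W, hWo, rfl⟩ := isOpen_induced_iff.mp hW₀o
    have hWc : IsCompact W := (isCompact_preimage_val_iff hWo).mpr hW₀c
    rw [← Set.preimage_inter]
    exact (isCompact_preimage_val_iff (hU.inter hWo)).mp (hUr hWc hWo)
  · intro hUr W hWc hWo
    have h1 := hUr ((isCompact_preimage_val_iff hWo).mp hWc) (hWo.preimage continuous_subtype_val)
    rw [← Set.preimage_inter] at h1
    exact (isCompact_preimage_val_iff (hU.inter hWo)).mpr h1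

theorem isConstructible_preimage_val {E : Set X} (hE : IsConstructible E) :
    IsConstructible ((Subtype.val : closedPoints X → X) ⁻¹' E) := by
  induction hE using IsConstructible.empty_union_induction with
  | open_retrocompact U hUo hUr =>
    exact ((isRetrocompact_preimage_val_iff hUo).mp hUr).isConstructible
      (hUo.preimage continuous_subtype_val)
  | union s _ t _ hs ht => exact hs.union ht
  | compl s _ hs => exact hs.compl

theorem exists_isConstructible_preimage_val_eq {F : Set (closedPoints X)}
    (hF : IsConstructible F) :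
    ∃ E : Set X, IsConstructible E ∧ (Subtype.val : closedPoints X → X) ⁻¹' E = F := by
  induction hF using IsConstructible.empty_union_induction with
  | open_retrocompact U₀ hUo hUr =>
    obtain ⟨U, hU, rfl⟩ := isOpen_induced_iff.mp hUo
    exact ⟨U, ((isRetrocompact_preimage_val_iff hU).mpr hUr).isConstructible hU, rfl⟩
  | union s _ t _ hs ht =>
    obtain ⟨E, hE, rfl⟩ := hs
    obtain ⟨E', hE', rfl⟩ := ht
    exact ⟨E ∪ E', hE.union hE', rfl⟩
  | compl s _ hs =>
    obtain ⟨E, hE, rfl⟩ := hs
    exact ⟨Eᶜ, hE.compl, rfl⟩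

end Groth.Agent.Lib.Helper10.Jacobson
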