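import Mathlib

/-!
# Kähler differentials of finitely generated field extensions (helper10)

* `formallyEtale_aeval_of_isSeparable`: for a separating algebraically independent family `x` of a
  field extension `F/k`, the map `MvPolynomial ι k → F`, `X i ↦ x i` is formally étale.
* `basisOfSeparating` : the differentials `d (x i)` form a basis of `Ω[F⁄k]`.
* `rank_kaehlerDifferential_eq_trdeg` : for `k` perfect and `F/k` finitely generated,
  `rank_F Ω[F⁄k] = trdeg k F`.
-/

namespace Groth.Agent.Lib.Helper10.KaehlerField

open KaehlerDifferential TensorProduct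

universe u v w

variable {k : Type u} {F : Type v} [Field k] [Field F] [Algebra k F] {ι : Type w}

theorem formallyEtale_of_bijective {R S : Type*} [CommRing R] [CommRing S] (f : R →+* S)
    (hf : Function.Bijective f) : f.FormallyEtale := by
  algebraize [f]
  have e : R ≃ₐ[R] S := AlgEquiv.ofBijective (Algebra.ofId R S) hf
  exact Algebra.FormallyEtale.of_equiv e

open scoped IntermediateField.algebraAdjoinAdjoin in
theorem formallyEtale_aeval_of_isSeparable (x : ι → F) (hx : AlgebraicIndependent k x)
    [Algebra.IsSeparable (IntermediateField.adjoin k (Set.range x)) F] :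
    (MvPolynomial.aeval (R := k) x : MvPolynomial ι k →ₐ[k] F).toRingHom.FormallyEtale := by
  have h1 : (hx.aevalEquiv : MvPolynomial ι k →+* Algebra.adjoin k (Set.range x)).FormallyEtale :=
    formallyEtale_of_bijective _ hx.aevalEquiv.bijective
  have h2 : (algebraMap (Algebra.adjoin k (Set.range x))
      (IntermediateField.adjoin k (Set.range x))).FormallyEtale := by
    rw [RingHom.formallyEtale_algebraMap]
    exact Algebra.FormallyEtale.of_isLocalization (nonZeroDivisors _)
  have h3 : (algebraMap (IntermediateField.adjoin k (Set.range x)) F).FormallyEtale := by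
    rw [RingHom.formallyEtale_algebraMap]
    exact Algebra.FormallyEtale.of_isSeparable _ F
  have := (h1.comp h2).comp h3
  convert this using 1
  apply MvPolynomial.ringHom_ext
  · intro c
    simp
  · intro i
    simp

/-- for a separating algebraically independent family `x` of `F/k`, the `d (x i)` form a basis of
`Ω[F⁄k]`. -/
theorem exists_basis_of_isSeparable (x : ι → F) (hx : AlgebraicIndependent k x)
    [Algebra.IsSeparable (IntermediateField.adjoin k (Set.range x)) F] :
    ∃ b : Module.Basis ι F (Ω[F⁄k]), ∀ i, b i = D k F (x i) := by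
  letI : Algebra (MvPolynomial ι k) F := (MvPolynomial.aeval (R := k) x).toRingHom.toAlgebra
  haveI : IsScalarTower k (MvPolynomial ι k) F :=
    IsScalarTower.of_algebraMap_eq' (MvPolynomial.aeval (R := k) x).comp_algebraMap.symm
  haveI : Algebra.FormallyEtale (MvPolynomial ι k) F := formallyEtale_aeval_of_isSeparable x hx
  let e := tensorKaehlerEquivOfFormallyEtale k (MvPolynomial ι k) F
  let b := ((mvPolynomialBasis k ι).baseChange F).map e
  refine ⟨b, fun i => ?_⟩
  simp only [b, e, Module.Basis.map_apply, Module.Basis.baseChange_apply,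
    mvPolynomialBasis_apply, tensorKaehlerEquivOfFormallyEtale_apply, mapBaseChange_tmul,
    one_smul, map_D]
  congr 1
  exact MvPolynomial.aeval_X x i

/-- for `k` perfect and `F/k` a finitely generated field extension,
`rank_F Ω[F⁄k] = trdeg k F`. -/
theorem rank_kaehlerDifferential_eq_trdeg (k : Type u) (F : Type v) [Field k] [Field F]
    [Algebra k F] [PerfectField k] [Algebra.EssFiniteType k F] :
    Module.rank F (Ω[F⁄k]) = Algebra.trdeg k F := by
  obtain ⟨s, hs, H⟩ := exists_isTranscendenceBasis_and_isSeparable_of_perfectField k F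
  haveI : Algebra.IsSeparable (IntermediateField.adjoin k (Set.range ((↑) : s → F))) F := by
    convert! H <;> simp
  obtain ⟨b, -⟩ := exists_basis_of_isSeparable (k := k) ((↑) : s → F) hs.1
  rw [← hs.cardinalMk_eq_trdeg, ← b.mk_eq_rank'']

section rankOne

/-- a linear map out of a one-dimensional space is zero or injective. -/
theorem eq_zero_or_injective_of_rank_eq_one {K V W : Type*} [Field K] [AddCommGroup V] [Module K V]
    [AddCommGroup W] [Module K W] (h : Module.rank K V = 1) (f : V →ₗ[K] W) :
    f = 0 ∨ Function.Injective f := by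
  obtain ⟨v, hv, hspan⟩ := rank_eq_one_iff.mp h
  by_cases hfv : f v = 0
  · left
    ext w
    obtain ⟨c, rfl⟩ := hspan w
    simp [hfv]
  · right
    rw [injective_iff_map_eq_zero]
    intro w hw
    obtain ⟨c, rfl⟩ := hspan w
    rw [map_smul, smul_eq_zero] at hw
    rcases hw with rfl | hw
    · simp
    · exact absurd hw hfv

/-- a subspace of a one-dimensional space is `⊥` or `⊤`. -/
theorem eq_bot_or_eq_top_of_rank_eq_one {K V : Type*} [Field K] [AddCommGroup V] [Module K V]
    (h : Module.rank K V = 1) (p : Submodule K V) : p = ⊥ ∨ p = ⊤ := by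
  obtain ⟨v, hv, hspan⟩ := rank_eq_one_iff.mp h
  by_cases hp : p = ⊥
  · exact Or.inl hp
  · right
    obtain ⟨w, hwp, hw0⟩ := (Submodule.ne_bot_iff p).mp hp
    obtain ⟨c, rfl⟩ := hspan w
    have hc : c ≠ 0 := by
      rintro rfl
      simp at hw0
    have hvp : v ∈ p := by
      have := p.smul_mem c⁻¹ hwp
      rwa [smul_smul, inv_mul_cancel₀ hc, one_smul] at this
    rw [eq_top_iff]
    intro u _
    obtain ⟨d, rfl⟩ := hspan u
    exact p.smul_mem d hvp

end rankOne

/-- `K/k` a finitely generated extension of transcendence degree one over a perfect field, `L/K`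
finite: `Ω[K⁄k] → Ω[L⁄k]` is zero or injective, and injective iff `L/K` is separable. -/
theorem map_kaehler_of_trdeg_one (k : Type u) (K L : Type v) [Field k] [PerfectField k]
    [Field K] [Field L] [Algebra k K] [Algebra k L] [Algebra K L] [IsScalarTower k K L]
    [Algebra.EssFiniteType k K] (h1 : Algebra.trdeg k K = 1) [FiniteDimensional K L] :
    (KaehlerDifferential.map k k K L = 0 ∨ Function.Injective (KaehlerDifferential.map k k K L)) ∧
      (Function.Injective (KaehlerDifferential.map k k K L) ↔ Algebra.IsSeparable K L) := by
  have hK1 : Module.rank K (Ω[K⁄k]) = 1 := by rw [rank_kaehlerDifferential_eq_trdeg, h1]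
  haveI : Algebra.EssFiniteType k L := Algebra.EssFiniteType.comp k K L
  have h2 : Algebra.trdeg k L = 1 := by
    rw [← trdeg_add_eq k K (A := L), h1, trdeg_eq_zero, add_zero]
  have hL1 : Module.rank L (Ω[L⁄k]) = 1 := by rw [rank_kaehlerDifferential_eq_trdeg, h2]
  have hpart1 := eq_zero_or_injective_of_rank_eq_one hK1 (KaehlerDifferential.map k k K L)
  refine ⟨hpart1, ?_⟩
  haveI : Nontrivial (Ω[K⁄k]) := by
    rw [← rank_pos_iff_nontrivial (R := K), hK1]; exact one_pos
  haveI : Nontrivial (Ω[L⁄k]) := by
    rw [← rank_pos_iff_nontrivial (R := L), hL1]; exact one_pos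
  have hex := KaehlerDifferential.exact_mapBaseChange_map k K L
  have hsurj := KaehlerDifferential.map_surjective k K L
  -- injective iff nonzero
  have hinj : Function.Injective (KaehlerDifferential.map k k K L) ↔
      KaehlerDifferential.map k k K L ≠ 0 := by
    constructor
    · intro hi h0
      obtain ⟨ω, hω⟩ := exists_ne (0 : Ω[K⁄k])
      exact hω (hi (by rw [h0]; simp))
    · intro hne
      exact hpart1.resolve_left hne
  -- nonzero iff the range of the base change map is everything
  have hrange : KaehlerDifferential.map k k K L ≠ 0 ↔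
      LinearMap.range (KaehlerDifferential.mapBaseChange k K L) = ⊤ := by
    constructor
    · intro hne
      refine (eq_bot_or_eq_top_of_rank_eq_one hL1 _).resolve_left ?_
      intro hbot
      apply hne
      refine LinearMap.ext fun ω => ?_
      have : KaehlerDifferential.mapBaseChange k K L (1 ⊗ₜ ω) ∈
          LinearMap.range (KaehlerDifferential.mapBaseChange k K L) := ⟨_, rfl⟩
      rw [hbot, Submodule.mem_bot, KaehlerDifferential.mapBaseChange_tmul, one_smul] at this
      simpa using this
    · intro htop h0
      have : LinearMap.range (KaehlerDifferential.mapBaseChange k K L) = ⊥ := by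
        rw [LinearMap.range_eq_bot]
        refine LinearMap.ext fun t => ?_
        induction t using TensorProduct.induction_on with
        | zero => simp
        | tmul l ω => simp [h0]
        | add a b ha hb => simp [ha, hb]
      rw [this] at htop
      exact bot_ne_top htop
  -- range everything iff Ω[L/K] = 0
  have hsub : LinearMap.range (KaehlerDifferential.mapBaseChange k K L) = ⊤ ↔
      Subsingleton (Ω[L⁄K]) := by
    rw [← (LinearMap.exact_iff.mp hex)]
    constructor
    · intro hker
      refine ⟨fun a b => ?_⟩
      obtain ⟨a', rfl⟩ := hsurj a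
      obtain ⟨b', rfl⟩ := hsurj b
      have ha : a' ∈ LinearMap.ker (KaehlerDifferential.map k K L L) := hker ▸ Submodule.mem_top
      have hb : b' ∈ LinearMap.ker (KaehlerDifferential.map k K L L) := hker ▸ Submodule.mem_top
      rw [LinearMap.mem_ker.mp ha, LinearMap.mem_ker.mp hb]
    · intro hs
      rw [eq_top_iff]
      intro a _
      exact LinearMap.mem_ker.mpr (Subsingleton.elim _ _)
  rw [hinj, hrange, hsub, ← Algebra.FormallyUnramified.iff_isSeparable]
  exact ⟨fun h => ⟨h⟩, fun h => h.1⟩

end Groth.Agent.Lib.Helper10.KaehlerField
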