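import Mathlib

/-!
# Countable products + kernels of split epis ⇒ idempotent complete (helper10)
-/

set_option autoImplicit false
open CategoryTheory CategoryTheory.Limits

namespace Groth.Agent.Lib.Helper10.Karoubi

universe v u

variable {D : Type u} [Category.{v} D] [Preadditive D] [HasCountableProducts D]

section

variable {X : D} (e : X ⟶ X) (he : e ≫ e = e)

/-- The countable power of `X`. -/
noncomputable abbrev P (X : D) : D := ∏ᶜ (fun _ : ℕ => X)

/-- The map `Φ`. -/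
noncomputable def Φ : P X ⟶ P X :=
  Pi.lift fun n => Pi.π (fun _ : ℕ => X) n ≫ e + Pi.π (fun _ : ℕ => X) (n + 1) ≫ (𝟙 X - e)

/-- The right inverse `Ψ` of `Φ`. -/
noncomputable def Ψ : P X ⟶ P X :=
  Pi.lift fun n => Nat.casesOn n (Pi.π (fun _ : ℕ => X) 0)
    (fun m => Pi.π (fun _ : ℕ => X) m ≫ (𝟙 X - e) + Pi.π (fun _ : ℕ => X) (m + 1) ≫ e)

@[reassoc]
theorem Φ_π (n : ℕ) : Φ e ≫ Pi.π (fun _ : ℕ => X) n =
    Pi.π (fun _ : ℕ => X) n ≫ e + Pi.π (fun _ : ℕ => X) (n + 1) ≫ (𝟙 X - e) := by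
  simp [Φ]

@[reassoc]
theorem Ψ_π_zero : Ψ e ≫ Pi.π (fun _ : ℕ => X) 0 = Pi.π (fun _ : ℕ => X) 0 := by
  simp [Ψ]

@[reassoc]
theorem Ψ_π_succ (m : ℕ) : Ψ e ≫ Pi.π (fun _ : ℕ => X) (m + 1) =
    Pi.π (fun _ : ℕ => X) m ≫ (𝟙 X - e) + Pi.π (fun _ : ℕ => X) (m + 1) ≫ e := by
  simp [Ψ]

include he in
theorem sub_comp_e : (𝟙 X - e) ≫ e = 0 := by
  rw [Preadditive.sub_comp, Category.id_comp, he, sub_self]

include he in
theorem e_comp_sub : e ≫ (𝟙 X - e) = 0 := by
  rw [Preadditive.comp_sub, Category.comp_id, he, sub_self]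

include he in
theorem sub_comp_sub : (𝟙 X - e) ≫ (𝟙 X - e) = 𝟙 X - e := by
  rw [Preadditive.comp_sub, Category.comp_id, sub_comp_e e he, sub_zero]

include he in
theorem Ψ_Φ : Ψ e ≫ Φ e = 𝟙 _ := by
  apply Pi.hom_ext
  intro n
  rw [Category.assoc, Φ_π, Preadditive.comp_add, Ψ_π_succ_assoc, Category.id_comp]
  cases n with
  | zero =>
    rw [Ψ_π_zero_assoc]
    simp only [Preadditive.add_comp, Category.assoc, sub_comp_sub e he, e_comp_sub e he,
      comp_zero, add_zero]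
    rw [← Preadditive.comp_add]
    simp
  | succ m =>
    rw [Ψ_π_succ_assoc]
    simp only [Preadditive.add_comp, Category.assoc, sub_comp_sub e he, e_comp_sub e he,
      sub_comp_e e he, he, comp_zero, add_zero, zero_add]
    rw [← Preadditive.comp_add]
    simp

include he in
theorem hasKernel_of_hasKernel_Φ [HasKernel (Φ e)] : HasKernel e := by
  classical
  let ι := kernel.ι (Φ e)
  let k : kernel (Φ e) ⟶ X := ι ≫ Pi.π (fun _ : ℕ => X) 0
  have hι : ∀ n, ι ≫ Pi.π (fun _ : ℕ => X) n ≫ e + ι ≫ Pi.π (fun _ : ℕ => X) (n + 1) ≫ (𝟙 X - e) = 0 := by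
    intro n
    have := kernel.condition (Φ e) =≫ Pi.π (fun _ : ℕ => X) n
    rw [Category.assoc, Φ_π, Preadditive.comp_add, zero_comp] at this
    exact this
  have hιe : ∀ n, ι ≫ Pi.π (fun _ : ℕ => X) n ≫ e = 0 := by
    intro n
    have := congrArg (fun f => f ≫ e) (hι n)
    simp only [Preadditive.add_comp, Category.assoc, he, sub_comp_e e he, comp_zero, add_zero,
      zero_comp] at this
    exact this
  have hιs : ∀ n, ι ≫ Pi.π (fun _ : ℕ => X) (n + 1) ≫ (𝟙 X - e) = 0 := by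
    intro n
    have := hι n
    rw [hιe n, zero_add] at this
    exact this
  have hι0 : ∀ n, ι ≫ Pi.π (fun _ : ℕ => X) (n + 1) = 0 := by
    intro n
    have h1 := hιe (n + 1)
    have h2 := hιs n
    rw [Preadditive.comp_sub, Preadditive.comp_sub, Category.comp_id, h1, sub_zero] at h2
    exact h2
  have hk : k ≫ e = 0 := by
    rw [Category.assoc]
    exact hιe 0
  refine ⟨⟨⟨KernelFork.ofι k hk, KernelFork.IsLimit.ofι k hk
    (fun {W} t ht => kernel.lift (Φ e)
      (Pi.lift fun n => Nat.casesOn n t (fun _ => 0)) ?_) ?_ ?_⟩⟩⟩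
  · apply Pi.hom_ext
    intro n
    rw [Category.assoc, Φ_π, zero_comp, Preadditive.comp_add, Pi.lift_π_assoc, Pi.lift_π_assoc]
    cases n with
    | zero => simp [ht]
    | succ m => simp
  · intro W t ht
    change kernel.lift (Φ e) _ _ ≫ ι ≫ Pi.π (fun _ : ℕ => X) 0 = t
    rw [kernel.lift_ι_assoc, Pi.lift_π]
    rfl
  · intro W t ht m hm
    apply (cancel_mono ι).mp
    rw [kernel.lift_ι]
    apply Pi.hom_ext
    intro n
    rw [Pi.lift_π, Category.assoc]
    cases n with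
    | zero => exact hm
    | succ n' => rw [hι0 n', comp_zero]

end

theorem isIdempotentComplete
    (hk : ∀ ⦃X Y : D⦄ (f : X ⟶ Y), IsSplitEpi f → HasKernel f) : IsIdempotentComplete D := by
  rw [Idempotents.isIdempotentComplete_iff_idempotents_have_kernels]
  intro X e he
  haveI : HasKernel (Φ e) := hk (Φ e) ⟨⟨⟨Ψ e, Ψ_Φ e he⟩⟩⟩
  exact hasKernel_of_hasKernel_Φ e he

end Groth.Agent.Lib.Helper10.Karoubi
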