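import Mathlib
import Groth.Prelude.Def_DerCA
set_option backward.isDefEq.respectTransparency.types false

/-!
# Pro-zero and pro-isomorphisms of ℕ-indexed inverse systems: toolkit (helper10)

General lemmas on `DerCA.IsProZero` and `DerCA.IsProIso`: invariance under isomorphisms,
composition, two-out-of-three, images under functors, closure of pro-zero systems under
(weak) extensions.
-/

set_option autoImplicit false
universe v u v' u'
open CategoryTheory CategoryTheory.Limits Opposite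

namespace Groth.Agent.Lib.Helper10.KosPro

open DerCA

section general

variable {C : Type u} [Category.{v} C] {D : Type u'} [Category.{v'} D]

lemma tr_comp (X : ARSys.PS C) {a b d : ℕ} (h₁ : a ≤ b) (h₂ : b ≤ d) :
    ARSys.tr X h₂ ≫ ARSys.tr X h₁ = ARSys.tr X (h₁.trans h₂) := by
  show X.map _ ≫ X.map _ = X.map _
  rw [← X.map_comp]
  rfl

lemma tr_refl (X : ARSys.PS C) (a : ℕ) (h : a ≤ a) : ARSys.tr X h = 𝟙 _ := by
  show X.map _ = 𝟙 _
  have : (homOfLE h).op = 𝟙 (op a) := Subsingleton.elim _ _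
  rw [this, X.map_id]

lemma tr_nat {X Y : ARSys.PS C} (f : X ⟶ Y) {n m : ℕ} (h : n ≤ m) :
    ARSys.tr X h ≫ f.app (op n) = f.app (op m) ≫ ARSys.tr Y h :=
  f.naturality (homOfLE h).op

/-- a levelwise isomorphism is a pro-isomorphism -/
lemma isProIso_of_isIso {X Y : ARSys.PS C} (a : X ⟶ Y) (h : ∀ n : ℕ, IsIso (a.app (op n))) :
    IsProIso a := by
  intro n
  haveI := h n
  refine ⟨n, le_rfl, inv (a.app (op n)), ?_, ?_⟩
  · rw [tr_refl]; simp
  · rw [tr_refl]; simp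

lemma isProIso_iso_hom {X Y : ARSys.PS C} (e : X ≅ Y) : IsProIso e.hom :=
  isProIso_of_isIso _ (fun _ => inferInstance)

lemma isProIso_iso_inv {X Y : ARSys.PS C} (e : X ≅ Y) : IsProIso e.inv :=
  isProIso_of_isIso _ (fun _ => inferInstance)

/-- composition of pro-isomorphisms -/
lemma IsProIso.comp {X Y Z : ARSys.PS C} {a : X ⟶ Y} {a' : Y ⟶ Z} (ha : IsProIso a)
    (ha' : IsProIso a') : IsProIso (a ≫ a') := by
  intro n
  obtain ⟨m₂, h₂, b, hb1, hb2⟩ := ha n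
  obtain ⟨m₃, h₃, b', hb'1, hb'2⟩ := ha' m₂
  refine ⟨m₃, h₂.trans h₃, b' ≫ b, ?_, ?_⟩
  · rw [NatTrans.comp_app, Category.assoc, ← Category.assoc (a'.app (op m₃)), hb'1,
      ← Category.assoc, ← tr_nat a h₃, Category.assoc, hb1, tr_comp]
  · rw [NatTrans.comp_app, Category.assoc, ← Category.assoc b, hb2, tr_nat a' h₂,
      ← Category.assoc, hb'2, tr_comp]

/-- two-out-of-three: if `u` and `u ≫ a` are pro-isomorphisms, so is `a` -/
lemma IsProIso.of_comp_left {X Y Z : ARSys.PS C} {u : X ⟶ Y} {a : Y ⟶ Z} (hu : IsProIso u)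
    (hw : IsProIso (u ≫ a)) : IsProIso a := by
  intro n
  obtain ⟨m₁, h₁, bu, hbu1, hbu2⟩ := hu n
  obtain ⟨m₂, h₂, bw, hbw1, hbw2⟩ := hw m₁
  obtain ⟨m₃, h₃, bu', hbu'1, hbu'2⟩ := hu m₂
  simp only [NatTrans.comp_app, Category.assoc] at hbw1 hbw2
  -- key: tr Y (m₂ ≤ m₃) ≫ a_{m₂} ≫ bw ≫ u_{m₁} = tr Y (m₁ ≤ m₃)
  have key : ARSys.tr Y h₃ ≫ a.app (op m₂) ≫ bw ≫ u.app (op m₁) = ARSys.tr Y (h₂.trans h₃) := by
    rw [← hbu'2, Category.assoc, ← Category.assoc (u.app (op m₂)),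
      ← Category.assoc (u.app (op m₂) ≫ a.app (op m₂)), Category.assoc (u.app (op m₂)), hbw1,
      tr_nat u h₂, ← Category.assoc, hbu'2, tr_comp]
  refine ⟨m₃, h₁.trans (h₂.trans h₃), ARSys.tr Z h₃ ≫ bw ≫ u.app (op m₁) ≫ ARSys.tr Y h₁, ?_, ?_⟩
  · rw [← Category.assoc, ← tr_nat a h₃, Category.assoc, ← Category.assoc (a.app (op m₂)),
      ← Category.assoc (a.app (op m₂) ≫ bw), ← Category.assoc (ARSys.tr Y h₃),
      Category.assoc (a.app (op m₂)), key, tr_comp]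
  · simp only [Category.assoc]
    rw [tr_nat a h₁, reassoc_of% hbw2, tr_comp, tr_comp]

/-- functors preserve pro-isomorphisms -/
lemma IsProIso.whiskerRight {X Y : ARSys.PS C} {a : X ⟶ Y} (ha : IsProIso a) (F : C ⥤ D) :
    IsProIso (Functor.whiskerRight a F) := by
  intro n
  obtain ⟨m, h, b, hb1, hb2⟩ := ha n
  refine ⟨m, h, F.map b, ?_, ?_⟩
  · show F.map (a.app (op m)) ≫ F.map b = F.map (ARSys.tr X h)
    rw [← F.map_comp, hb1]
  · show F.map b ≫ F.map (a.app (op n)) = F.map (ARSys.tr Y h)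
    rw [← F.map_comp, hb2]

/-- conjugating a pro-isomorphism by isomorphisms of systems -/
lemma IsProIso.of_conj {X Y X' Y' : ARSys.PS C} {a : X ⟶ Y} {a' : X' ⟶ Y'} (ha : IsProIso a)
    (e₁ : X' ≅ X) (e₂ : Y' ≅ Y) (comm : a' ≫ e₂.hom = e₁.hom ≫ a) : IsProIso a' := by
  have : a' = e₁.hom ≫ a ≫ e₂.inv := by
    rw [← Category.assoc, ← comm, Category.assoc, Iso.hom_inv_id, Category.comp_id]
  rw [this]
  exact IsProIso.comp (isProIso_iso_hom e₁) (IsProIso.comp ha (isProIso_iso_inv e₂))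

end general

section zero

variable {C : Type u} [Category.{v} C] [HasZeroMorphisms C]
  {D : Type u'} [Category.{v'} D] [HasZeroMorphisms D]

lemma isProZero_of_iso {X Y : ARSys.PS C} (e : X ≅ Y) (h : IsProZero X) : IsProZero Y := by
  intro n
  obtain ⟨m, hm, h0⟩ := h n
  refine ⟨m, hm, ?_⟩
  have : ARSys.tr Y hm = e.inv.app (op m) ≫ ARSys.tr X hm ≫ e.hom.app (op n) := by
    rw [tr_nat e.hom hm, ← Category.assoc, ← NatTrans.comp_app, e.inv_hom_id]
    simp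
  rw [this, h0]
  simp

lemma IsProZero.whiskerRight {X : ARSys.PS C} (h : IsProZero X) (F : C ⥤ D)
    [F.PreservesZeroMorphisms] : IsProZero (X ⋙ F) := by
  intro n
  obtain ⟨m, hm, h0⟩ := h n
  refine ⟨m, hm, ?_⟩
  show F.map (ARSys.tr X hm) = 0
  rw [h0, F.map_zero]

lemma isProZero_of_isZero {X : ARSys.PS C} (h : ∀ n : ℕ, IsZero (X.obj (op n))) : IsProZero X :=
  fun n => ⟨n, le_rfl, (h n).eq_of_src _ _⟩

/-- pro-zero systems are closed under weak extensions -/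
lemma isProZero_of_weakExact {X Y Z : ARSys.PS C} (f : X ⟶ Y) (g : Y ⟶ Z)
    (hex : ∀ (n : ℕ) {W : C} (φ : W ⟶ Y.obj (op n)), φ ≫ g.app (op n) = 0 →
      ∃ ψ : W ⟶ X.obj (op n), φ = ψ ≫ f.app (op n))
    (hX : IsProZero X) (hZ : IsProZero Z) : IsProZero Y := by
  intro n
  obtain ⟨n', hn', hX0⟩ := hX n
  obtain ⟨m, hm, hZ0⟩ := hZ n'
  refine ⟨m, hn'.trans hm, ?_⟩
  have h1 : ARSys.tr Y hm ≫ g.app (op n') = 0 := by
    rw [tr_nat g hm, hZ0, comp_zero]
  obtain ⟨ψ, hψ⟩ := hex n' _ h1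
  rw [← tr_comp Y hn' hm, hψ, Category.assoc, ← tr_nat f hn', hX0, zero_comp, comp_zero]

/-- a morphism from a pro-zero system to a pro-zero system is a pro-isomorphism -/
lemma isProZero_of_isProIso_of_isProZero {X Y : ARSys.PS C} {a : X ⟶ Y} (ha : IsProIso a)
    (hY : IsProZero Y) : IsProZero X := by
  intro n
  obtain ⟨m₁, h₁, b, hb1, hb2⟩ := ha n
  obtain ⟨m₂, h₂, h0⟩ := hY m₁
  refine ⟨m₂, h₁.trans h₂, ?_⟩
  rw [← tr_comp X h₁ h₂, ← hb1, ← Category.assoc, tr_nat a h₂, h0, comp_zero, zero_comp]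

end zero

end Groth.Agent.Lib.Helper10.KosPro
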