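import Mathlib
import Groth.Agent.Lib.Helper10KosProA
set_option backward.isDefEq.respectTransparency.types false

/-!
# Inverse systems of mapping cones (helper10)

* `coneSys f X`: for an inverse system `X` of complexes of `A`-modules and `f : A`, the system
  `n ↦ Cone(f^(n+1) : X_n → X_n)` with transition maps `(f^(m-n) • tr, tr)`;
* `inrSys`, `descSys`;
* `mcSys α`: the system of mapping cones of a morphism of systems;
* `Kos fs`: the Koszul system `n ↦ K(f₁^(n+1), …, f_r^(n+1))` (iterated cones on the unit complex).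
-/

set_option autoImplicit false
universe u
open CategoryTheory CategoryTheory.Limits Opposite MonoidalCategory CochainComplex HomologicalComplex

namespace Groth.Agent.Lib.Helper10.KosPro

/-- cochain complexes of `A`-modules -/
abbrev Cx (A : Type u) [CommRing A] := CochainComplex (ModuleCat.{u} A) ℤ

/-- ℕ-indexed inverse systems of complexes -/
abbrev Sys (A : Type u) [CommRing A] := ℕᵒᵖ ⥤ Cx A

variable {A : Type u} [CommRing A]

lemma map_congr' {K₁ L₁ K₂ L₂ : Cx A} (φ₁ : K₁ ⟶ L₁) (φ₂ : K₂ ⟶ L₂)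
    {a a' : K₁ ⟶ K₂} {b b' : L₁ ⟶ L₂} (ha : a = a') (hb : b = b')
    (comm : φ₁ ≫ b = a ≫ φ₂) (comm' : φ₁ ≫ b' = a' ≫ φ₂) :
    mappingCone.map φ₁ φ₂ a b comm = mappingCone.map φ₁ φ₂ a' b' comm' := by
  subst ha hb
  rfl

lemma inr_map' {K₁ L₁ K₂ L₂ : Cx A} (φ₁ : K₁ ⟶ L₁) (φ₂ : K₂ ⟶ L₂)
    (a : K₁ ⟶ K₂) (b : L₁ ⟶ L₂) (comm : φ₁ ≫ b = a ≫ φ₂) :
    mappingCone.inr φ₁ ≫ mappingCone.map φ₁ φ₂ a b comm = b ≫ mappingCone.inr φ₂ := by
  simp [mappingCone.map]

section coneSys

variable (f : A) (X : Sys A)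

lemma coneSys_comm {n m : ℕᵒᵖ} (g : n ⟶ m) :
    (f ^ (n.unop + 1) • 𝟙 (X.obj n)) ≫ X.map g =
      (f ^ (n.unop - m.unop) • X.map g) ≫ (f ^ (m.unop + 1) • 𝟙 (X.obj m)) := by
  have h : m.unop ≤ n.unop := leOfHom g.unop
  simp only [Linear.smul_comp, Linear.comp_smul, Category.id_comp, Category.comp_id, smul_smul,
    ← pow_add]
  congr 2
  omega

/-- the system `n ↦ Cone(f^(n+1) • 𝟙 X_n)` -/
noncomputable def coneSys : Sys A where
  obj n := mappingCone (f ^ (n.unop + 1) • 𝟙 (X.obj n))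
  map {n m} g := mappingCone.map _ _ (f ^ (n.unop - m.unop) • X.map g) (X.map g)
    (coneSys_comm f X g)
  map_id n := by
    have : mappingCone.map _ _ (f ^ (n.unop - n.unop) • X.map (𝟙 n)) (X.map (𝟙 n))
        (coneSys_comm f X (𝟙 n)) =
        mappingCone.map (f ^ (n.unop + 1) • 𝟙 (X.obj n)) (f ^ (n.unop + 1) • 𝟙 (X.obj n))
          (𝟙 _) (𝟙 _) (by rw [Category.id_comp, Category.comp_id]) :=
      map_congr' _ _ (by simp) (by simp) _ _
    rw [this]
    exact mappingCone.map_id _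
  map_comp {n m k} g g' := by
    have hm : m.unop ≤ n.unop := leOfHom g.unop
    have hk : k.unop ≤ m.unop := leOfHom g'.unop
    rw [← mappingCone.map_comp]
    apply map_congr'
    · rw [X.map_comp, Linear.smul_comp, Linear.comp_smul, smul_smul, ← pow_add]
      congr 2
      omega
    · rw [X.map_comp]

lemma coneSys_obj (n : ℕ) :
    (coneSys f X).obj (op n) = mappingCone (f ^ (n + 1) • 𝟙 (X.obj (op n))) := rfl

lemma coneSys_tr {n m : ℕ} (h : n ≤ m) :
    ARSys.tr (coneSys f X) h =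
      mappingCone.map (f ^ (m + 1) • 𝟙 (X.obj (op m))) (f ^ (n + 1) • 𝟙 (X.obj (op n)))
        (f ^ (m - n) • ARSys.tr X h) (ARSys.tr X h) (coneSys_comm f X (homOfLE h).op) := rfl

/-- the inclusion `X ⟶ coneSys f X` -/
noncomputable def inrSys : X ⟶ coneSys f X where
  app n := mappingCone.inr (f ^ (n.unop + 1) • 𝟙 (X.obj n))
  naturality _ _ g := (inr_map' _ _ _ _ (coneSys_comm f X g)).symm

lemma inrSys_app (n : ℕ) :
    (inrSys f X).app (op n) = mappingCone.inr (f ^ (n + 1) • 𝟙 (X.obj (op n))) := rfl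

variable {X} in
lemma descSys_eq {T : Sys A} (τ : X ⟶ T)
    (hT : ∀ n : ℕᵒᵖ, f ^ (n.unop + 1) • 𝟙 (T.obj n) = 0) (n : ℕᵒᵖ) :
    HomComplex.δ (-1) 0 (0 : HomComplex.Cochain (X.obj n) (T.obj n) (-1)) =
      HomComplex.Cochain.ofHom ((f ^ (n.unop + 1) • 𝟙 (X.obj n)) ≫ τ.app n) := by
  have : (f ^ (n.unop + 1) • 𝟙 (X.obj n)) ≫ τ.app n = 0 := by
    rw [Linear.smul_comp, Category.id_comp, ← Category.comp_id (τ.app n), ← Linear.comp_smul,
      hT n, comp_zero]
  rw [this]
  simp

variable {X} in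
/-- a morphism of systems out of `coneSys f X`, given a morphism out of `X` to a system on
which `f^(n+1)` acts by zero -/
noncomputable def descSys {T : Sys A} (τ : X ⟶ T)
    (hT : ∀ n : ℕᵒᵖ, f ^ (n.unop + 1) • 𝟙 (T.obj n) = 0) : coneSys f X ⟶ T where
  app n := mappingCone.desc _ 0 (τ.app n) (descSys_eq f τ hT n)
  naturality n m g := by
    ext k : 1
    refine (mappingCone.ext_from_iff _ (k + 1) k rfl _ _).2 ⟨?_, ?_⟩
    · simp [coneSys, mappingCone.map]
    · have := τ.naturality g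
      simp [coneSys, mappingCone.map, ← HomologicalComplex.comp_f, this]

variable {X} in
lemma inrSys_descSys {T : Sys A} (τ : X ⟶ T)
    (hT : ∀ n : ℕᵒᵖ, f ^ (n.unop + 1) • 𝟙 (T.obj n) = 0) :
    inrSys f X ≫ descSys f τ hT = τ := by
  ext n : 2
  rw [NatTrans.comp_app]
  exact mappingCone.inr_desc _ _ _ (descSys_eq f τ hT n)

end coneSys

section mcSys

variable {X Y : Sys A} (α : X ⟶ Y)

/-- the system of mapping cones of a morphism of systems -/
noncomputable def mcSys : Sys A where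
  obj n := mappingCone (α.app n)
  map {n m} g := mappingCone.map _ _ (X.map g) (Y.map g) (α.naturality g).symm
  map_id n := by
    have : mappingCone.map (α.app n) (α.app n) (X.map (𝟙 n)) (Y.map (𝟙 n))
        (α.naturality (𝟙 n)).symm =
        mappingCone.map (α.app n) (α.app n) (𝟙 _) (𝟙 _)
          (by rw [Category.id_comp, Category.comp_id]) :=
      map_congr' _ _ (by simp) (by simp) _ _
    rw [this]
    exact mappingCone.map_id _
  map_comp g g' := by
    rw [← mappingCone.map_comp]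
    apply map_congr'
    · rw [X.map_comp]
    · rw [Y.map_comp]

lemma mcSys_tr {n m : ℕ} (h : n ≤ m) :
    ARSys.tr (mcSys α) h =
      mappingCone.map (α.app (op m)) (α.app (op n)) (ARSys.tr X h) (ARSys.tr Y h)
        (α.naturality (homOfLE h).op).symm := rfl

/-- the inclusion `Y ⟶ mcSys α` -/
noncomputable def mcInr : Y ⟶ mcSys α where
  app n := mappingCone.inr (α.app n)
  naturality _ _ g := (inr_map' _ _ _ _ (α.naturality g).symm).symm

end mcSys

section Kos

/-- the Koszul system on the powers of the elements of a list -/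
noncomputable def Kos : List A → Sys A
  | [] => (Functor.const ℕᵒᵖ).obj (𝟙_ (Cx A))
  | f :: fs => coneSys f (Kos fs)

/-- the canonical map from the unit complex -/
noncomputable def kosι : ∀ fs : List A, (Functor.const ℕᵒᵖ).obj (𝟙_ (Cx A)) ⟶ Kos fs
  | [] => 𝟙 _
  | f :: fs => kosι fs ≫ inrSys f (Kos fs)

lemma Kos_cons (f : A) (fs : List A) : Kos (f :: fs) = coneSys f (Kos fs) := rfl

lemma kosι_cons (f : A) (fs : List A) : kosι (f :: fs) = kosι fs ≫ inrSys f (Kos fs) := rfl

end Kos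

end Groth.Agent.Lib.Helper10.KosPro
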