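import Groth.Agent.Lib.Helper21KoszulDepth
import Groth.Agent.S0301
import Mathlib

/-!
# Koszul cohomology of the powers: eventual vanishing for injective modules (helper8)
-/

namespace Groth.Agent.Lib.Helper8KoszLim

open CategoryTheory CategoryTheory.Limits CochainComplex HomComplex HomotopyCategory CohIII
open Groth.Agent.Lib.Helper21

universe v u

section General

variable {C : Type u} [Category.{v} C] [Abelian C]

lemma aux_nat {D : Type*} [Category D] {X₁ X₂ Y₁ Y₂ Z₁ Z₂ W₁ W₂ : D}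
    (x : X₁ ⟶ X₂) (i₂ : X₂ ⟶ Y₂) (d₂ : Y₂ ⟶ Z₂) (o₂ : Z₂ ⟶ W₂)
    (i₁ : X₁ ⟶ Y₁) (d₁ : Y₁ ⟶ Z₁) (o₁ : Z₁ ⟶ W₁) (y : Y₁ ⟶ Y₂) (z : Z₁ ⟶ Z₂) (w : W₁ ⟶ W₂)
    (h1 : x ≫ i₂ = i₁ ≫ y) (h2 : y ≫ d₂ = d₁ ≫ z) (h3 : z ≫ o₂ = o₁ ≫ w) :
    x ≫ (i₂ ≫ d₂ ≫ o₂) = (i₁ ≫ d₁ ≫ o₁) ≫ w := by
  simp only [Category.assoc]
  rw [reassoc_of% h1, reassoc_of% h2, h3]

lemma coneδ_naturality {K₁ L₁ K₂ L₂ : CochainComplex C ℤ} (φ₁ : K₁ ⟶ L₁) (φ₂ : K₂ ⟶ L₂)
    (a : K₁ ⟶ K₂) (b : L₁ ⟶ L₂) (comm : φ₁ ≫ b = a ≫ φ₂) (n₀ n₁ : ℤ) (h : n₀ + 1 = n₁) :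
    HomologicalComplex.homologyMap (mappingCone.map φ₁ φ₂ a b comm) n₀ ≫ coneδ φ₂ n₀ n₁ h =
      coneδ φ₁ n₀ n₁ h ≫ HomologicalComplex.homologyMap a n₁ := by
  have nat := (HomotopyCategory.homologyFunctor C (ComplexShape.up ℤ) 0).homologySequenceδ_naturality
    (mappingCone.triangleh φ₁) (mappingCone.triangleh φ₂)
    ((HomotopyCategory.quotient C (ComplexShape.up ℤ)).mapTriangle.map
      (mappingCone.triangleMap φ₁ φ₂ a b comm)) n₀ n₁ h
  have n1 := (homologyFunctorFactors C (ComplexShape.up ℤ) n₀).inv.naturality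
    (mappingCone.map φ₁ φ₂ a b comm)
  have n2 := (homologyFunctorFactors C (ComplexShape.up ℤ) n₁).hom.naturality a
  exact aux_nat _ _ _ _ _ _ _ _ _ _ n1 nat n2

lemma inr_map {K₁ L₁ K₂ L₂ : CochainComplex C ℤ} (φ₁ : K₁ ⟶ L₁) (φ₂ : K₂ ⟶ L₂)
    (a : K₁ ⟶ K₂) (b : L₁ ⟶ L₂) (comm : φ₁ ≫ b = a ≫ φ₂) (n : ℤ) :
    HomologicalComplex.homologyMap (mappingCone.inr φ₁) n ≫
      HomologicalComplex.homologyMap (mappingCone.map φ₁ φ₂ a b comm) n =
    HomologicalComplex.homologyMap b n ≫ HomologicalComplex.homologyMap (mappingCone.inr φ₂) n := by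
  rw [← HomologicalComplex.homologyMap_comp, ← HomologicalComplex.homologyMap_comp]
  congr 1
  simp [mappingCone.map]

lemma map_congr {K₁ L₁ K₂ L₂ : CochainComplex C ℤ} (φ₁ : K₁ ⟶ L₁) (φ₂ : K₂ ⟶ L₂)
    {a a' : K₁ ⟶ K₂} {b b' : L₁ ⟶ L₂} (ha : a = a') (hb : b = b')
    (comm : φ₁ ≫ b = a ≫ φ₂) (comm' : φ₁ ≫ b' = a' ≫ φ₂) :
    mappingCone.map φ₁ φ₂ a b comm = mappingCone.map φ₁ φ₂ a' b' comm' := by
  subst ha hb
  rfl

end General

section Algebra

variable {A : Type u} [CommRing A] [IsNoetherianRing A]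

/-- divisibility up to torsion in an injective module over a Noetherian ring -/
lemma exists_pow_smul_eq {N : Type u} [AddCommGroup N] [Module A N] (hN : Module.Injective A N)
    (f : A) (x : N) (n : ℕ) : ∃ (k : ℕ) (y : N), f ^ k • x = f ^ (k + n) • y := by
  have _ : Module.Injective A N := hN
  let I : ℕ →o Ideal A :=
    ⟨fun k => LinearMap.ker (LinearMap.toSpanSingleton A A (f ^ k)), by
      intro k l hkl a ha
      rw [LinearMap.mem_ker, LinearMap.toSpanSingleton_apply] at ha ⊢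
      obtain ⟨d, rfl⟩ := Nat.exists_eq_add_of_le hkl
      rw [pow_add, smul_eq_mul, ← mul_assoc, ← smul_eq_mul (a := a), ha, zero_mul]⟩
  obtain ⟨k0, hk0⟩ := monotone_stabilizes_iff_noetherian.mpr (inferInstance : IsNoetherian A A) I
  have hI : I (k0 + n) = I k0 := (hk0 (k0 + n) (Nat.le_add_right _ _)).symm
  let t : A →ₗ[A] A := LinearMap.toSpanSingleton A A (f ^ (k0 + n))
  let i : (A ⧸ LinearMap.ker t) →ₗ[A] A := (LinearMap.ker t).liftQ t le_rfl
  have hi : Function.Injective i := by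
    rw [← LinearMap.ker_eq_bot]
    exact Submodule.ker_liftQ_eq_bot _ _ _ le_rfl
  have hker : LinearMap.ker t ≤ LinearMap.ker (LinearMap.toSpanSingleton A N (f ^ k0 • x)) := by
    intro a ha
    have ha' : a ∈ I k0 := by
      rw [← hI]
      exact ha
    have ha2 : a • f ^ k0 = 0 := by
      have := ha'
      rwa [show I k0 = LinearMap.ker (LinearMap.toSpanSingleton A A (f ^ k0)) from rfl,
        LinearMap.mem_ker, LinearMap.toSpanSingleton_apply] at this
    rw [LinearMap.mem_ker, LinearMap.toSpanSingleton_apply, ← mul_smul, ← smul_eq_mul, ha2,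
      zero_smul]
  let g : (A ⧸ LinearMap.ker t) →ₗ[A] N :=
    (LinearMap.ker t).liftQ (LinearMap.toSpanSingleton A N (f ^ k0 • x)) hker
  obtain ⟨h, hh⟩ := Module.Injective.extension_property A N _ _ i hi g
  refine ⟨k0, h 1, ?_⟩
  have e1 : i (Submodule.Quotient.mk 1) = f ^ (k0 + n) := by
    show (LinearMap.ker t).liftQ t le_rfl (Submodule.Quotient.mk 1) = _
    rw [Submodule.liftQ_apply]
    show (1 : A) • f ^ (k0 + n) = _
    rw [one_smul]
  have e2 : g (Submodule.Quotient.mk 1) = f ^ k0 • x := by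
    show (LinearMap.ker t).liftQ _ hker (Submodule.Quotient.mk 1) = _
    rw [Submodule.liftQ_apply, LinearMap.toSpanSingleton_apply, one_smul]
  have e3 := LinearMap.congr_fun hh (Submodule.Quotient.mk 1)
  rw [LinearMap.comp_apply, e1, e2] at e3
  rw [← e3, ← map_smul, smul_eq_mul, mul_one]

/-- the key divisibility statement for elements killed by powers of the `fs` -/
lemma key0 {M : Type u} [AddCommGroup M] [Module A M] (hM : Module.Injective A M)
    (fs : List A) (f : A) (x : M) (m : ℕ) (hx : ∀ g ∈ fs, g ^ m • x = 0) :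
    ∃ (m' : ℕ) (_ : m ≤ m') (y : M), (∀ g ∈ fs, g ^ m' • y = 0) ∧
      f ^ (m' - m) • x = f ^ m' • y := by
  classical
  let J : Ideal A := Ideal.span {g | g ∈ fs}
  have hmono : Monotone (fun n : ℕ => Submodule.torsionBySet A M ((J ^ n : Ideal A) : Set A)) := by
    intro n m hnm
    apply Submodule.torsionBySet_le_torsionBySet_of_subset
    exact Ideal.pow_le_pow_right hnm
  let Γ : Submodule A M := ⨆ n : ℕ, Submodule.torsionBySet A M ((J ^ n : Ideal A) : Set A)
  have hΓ : Module.Injective A Γ := Groth.Agent.S0301.result A M hM J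
  have hmem : ∀ y : M, y ∈ Γ ↔ ∃ n : ℕ, y ∈ Submodule.torsionBySet A M ((J ^ n : Ideal A) : Set A) :=
    fun y => Submodule.mem_iSup_of_directed _ hmono.directed_le
  -- x is in Γ
  have hxΓ : x ∈ Γ := by
    rw [hmem]
    let ann : Ideal A := LinearMap.ker (LinearMap.toSpanSingleton A M x)
    have hle : J ≤ ann.radical := by
      rw [Ideal.span_le]
      intro g hg
      refine ⟨m, ?_⟩
      show g ^ m ∈ LinearMap.ker (LinearMap.toSpanSingleton A M x)
      rw [LinearMap.mem_ker, LinearMap.toSpanSingleton_apply]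
      exact hx g hg
    obtain ⟨N, hN⟩ := Ideal.exists_pow_le_of_le_radical_of_fg hle
      ((isNoetherianRing_iff_ideal_fg A).mp inferInstance J)
    refine ⟨N, ?_⟩
    rw [Submodule.mem_torsionBySet_iff]
    rintro ⟨a, ha⟩
    have := hN ha
    rw [LinearMap.mem_ker, LinearMap.toSpanSingleton_apply] at this
    exact this
  obtain ⟨k, y, hky⟩ := exists_pow_smul_eq hΓ f (⟨x, hxΓ⟩ : Γ) m
  obtain ⟨N, hN⟩ := (hmem y.1).mp y.2
  have hky' : f ^ k • x = f ^ (k + m) • (y : M) := by
    have := congrArg (fun z : Γ => (z : M)) hky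
    simpa using this
  have hgy : ∀ g ∈ fs, g ^ N • (y : M) = 0 := by
    intro g hg
    rw [Submodule.mem_torsionBySet_iff] at hN
    have hgJ : g ∈ J := Ideal.subset_span (show g ∈ {g | g ∈ fs} from hg)
    exact hN ⟨g ^ N, Ideal.pow_mem_pow hgJ N⟩
  refine ⟨m + k + N, by omega, y.1, ?_, ?_⟩
  · intro g hg
    rw [pow_add, mul_smul, hgy g hg, smul_zero]
  · have e1 : m + k + N - m = N + k := by omega
    have e2 : m + k + N = N + (k + m) := by omega
    rw [e1, e2, pow_add, mul_smul, hky', pow_add f N, mul_smul]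

end Algebra

section Koszul

variable {A : Type u} [CommRing A]

lemma koszulTrans_comp (M : ModuleCat.{u} A) (n m k : ℕ) (h₁ : n ≤ m) (h₂ : m ≤ k) :
    ∀ fs : List A, koszulTrans M n m h₁ fs ≫ koszulTrans M m k h₂ fs =
      koszulTrans M n k (h₁.trans h₂) fs
  | [] => by
    show 𝟙 (koszulCx M []) ≫ 𝟙 (koszulCx M []) = 𝟙 (koszulCx M [])
    exact Category.id_comp _
  | f :: fs => by
    have ih := koszulTrans_comp M n m k h₁ h₂ fs
    show mappingCone.map _ _ _ _ _ ≫ mappingCone.map _ _ _ _ _ = mappingCone.map _ _ _ _ _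
    rw [← mappingCone.map_comp]
    apply map_congr
    · exact ih
    · rw [Linear.smul_comp, Linear.comp_smul, smul_smul, ih, ← pow_add]
      congr 2
      omega

/-- the abbreviation for the Koszul complex of the `n`-th powers -/
noncomputable abbrev Kp (M : ModuleCat.{u} A) (fs : List A) (n : ℕ) :
    CochainComplex (ModuleCat.{u} A) ℤ := koszulCx M (fs.map (· ^ n))

/-- the transition map on cohomology -/
noncomputable abbrev Tr (M : ModuleCat.{u} A) (fs : List A) (j : ℤ) (n m : ℕ) (h : n ≤ m) :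
    (Kp M fs n).homology j →ₗ[A] (Kp M fs m).homology j :=
  (HomologicalComplex.homologyMap (koszulTrans M n m h fs) j).hom

lemma Tr_comp (M : ModuleCat.{u} A) (fs : List A) (j : ℤ) (n m k : ℕ) (h₁ : n ≤ m) (h₂ : m ≤ k)
    (x : (Kp M fs n).homology j) :
    Tr M fs j m k h₂ (Tr M fs j n m h₁ x) = Tr M fs j n k (h₁.trans h₂) x := by
  have := congrArg (fun φ => HomologicalComplex.homologyMap φ j) (koszulTrans_comp M n m k h₁ h₂ fs)
  simp only [HomologicalComplex.homologyMap_comp] at this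
  exact LinearMap.congr_fun (congrArg ModuleCat.Hom.hom this) x

/-- the cone description of the Koszul complex of `f :: fs` -/
noncomputable abbrev φc (M : ModuleCat.{u} A) (f : A) (fs : List A) (n : ℕ) :
    Kp M fs n ⟶ Kp M fs n := f ^ n • 𝟙 (Kp M fs n)

/-- connecting map for `f :: fs` -/
noncomputable def δc (M : ModuleCat.{u} A) (f : A) (fs : List A) (n : ℕ) (j j' : ℤ)
    (h : j + 1 = j') : (Kp M (f :: fs) n).homology j →ₗ[A] (Kp M fs n).homology j' :=
  (coneδ (φc M f fs n) j j' h).hom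

/-- the inclusion map for `f :: fs` -/
noncomputable def ic (M : ModuleCat.{u} A) (f : A) (fs : List A) (n : ℕ) (j : ℤ) :
    (Kp M fs n).homology j →ₗ[A] (Kp M (f :: fs) n).homology j :=
  (HomologicalComplex.homologyMap (mappingCone.inr (φc M f fs n)) j).hom

lemma δc_Tr (M : ModuleCat.{u} A) (f : A) (fs : List A) (n m : ℕ) (hnm : n ≤ m) (j j' : ℤ)
    (h : j + 1 = j') (c : (Kp M (f :: fs) n).homology j) :
    δc M f fs m j j' h (Tr M (f :: fs) j n m hnm c) = Tr M fs j' n m hnm (δc M f fs n j j' h c) := by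
  have := coneδ_naturality (φc M f fs n) (φc M f fs m) (koszulTrans M n m hnm fs)
    (f ^ (m - n) • koszulTrans M n m hnm fs) (by
      simp only [Linear.smul_comp, Linear.comp_smul, Category.id_comp, Category.comp_id, smul_smul,
        ← pow_add, Nat.sub_add_cancel hnm]) j j' h
  exact LinearMap.congr_fun (congrArg ModuleCat.Hom.hom this) c

lemma Tr_ic (M : ModuleCat.{u} A) (f : A) (fs : List A) (n m : ℕ) (hnm : n ≤ m) (j : ℤ)
    (d : (Kp M fs n).homology j) :
    Tr M (f :: fs) j n m hnm (ic M f fs n j d) =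
      ic M f fs m j (f ^ (m - n) • Tr M fs j n m hnm d) := by
  have := inr_map (φc M f fs n) (φc M f fs m) (koszulTrans M n m hnm fs)
    (f ^ (m - n) • koszulTrans M n m hnm fs) (by
      simp only [Linear.smul_comp, Linear.comp_smul, Category.id_comp, Category.comp_id, smul_smul,
        ← pow_add, Nat.sub_add_cancel hnm]) j
  have h2 := LinearMap.congr_fun (congrArg ModuleCat.Hom.hom this) d
  rw [homologyMap_smul'] at h2
  exact h2

lemma hφc (M : ModuleCat.{u} A) (f : A) (fs : List A) (n : ℕ) (j : ℤ)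
    (e : (Kp M fs n).homology j) :
    (HomologicalComplex.homologyMap (φc M f fs n) j).hom e = f ^ n • e := by
  show (HomologicalComplex.homologyMap (f ^ n • 𝟙 (Kp M fs n)) j).hom e = f ^ n • e
  rw [homologyMap_smul', HomologicalComplex.homologyMap_id]
  rfl

lemma ic_smul (M : ModuleCat.{u} A) (f : A) (fs : List A) (n : ℕ) (j : ℤ)
    (y : (Kp M fs n).homology j) : ic M f fs n j (f ^ n • y) = 0 := by
  have := cone_homologyMap_comp (φc M f fs n) j
  have h2 := LinearMap.congr_fun (congrArg ModuleCat.Hom.hom this) y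
  rw [← hφc]
  exact h2

lemma exists_ic_of_δc (M : ModuleCat.{u} A) (f : A) (fs : List A) (n : ℕ) (j j' : ℤ)
    (h : j + 1 = j') (c : (Kp M (f :: fs) n).homology j) (hc : δc M f fs n j j' h c = 0) :
    ∃ d, ic M f fs n j d = c := by
  have hex := cone_homology_exact₃ (φc M f fs n) j j' h
  rw [ShortComplex.moduleCat_exact_iff] at hex
  exact hex c hc

lemma δc_smul (M : ModuleCat.{u} A) (f : A) (fs : List A) (n : ℕ) (j j' : ℤ)
    (h : j + 1 = j') (c : (Kp M (f :: fs) n).homology j) :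
    f ^ n • δc M f fs n j j' h c = 0 := by
  have := coneδ_comp (φc M f fs n) j j' h
  have h2 := LinearMap.congr_fun (congrArg ModuleCat.Hom.hom this) c
  rw [← hφc]
  exact h2

lemma exists_δc_of_smul (M : ModuleCat.{u} A) (f : A) (fs : List A) (n : ℕ) (j j' : ℤ)
    (h : j + 1 = j') (e : (Kp M fs n).homology j') (he : f ^ n • e = 0) :
    ∃ c, δc M f fs n j j' h c = e := by
  have hex := cone_homology_exact₁ (φc M f fs n) j j' h
  rw [ShortComplex.moduleCat_exact_iff] at hex
  refine hex e ?_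
  show (HomologicalComplex.homologyMap (φc M f fs n) j').hom e = 0
  rw [hφc, he]

lemma δc_injective (M : ModuleCat.{u} A) (f : A) (fs : List A) (n : ℕ) (j j' : ℤ)
    (h : j + 1 = j') (hj : j < -(fs.length : ℤ)) : Function.Injective (δc M f fs n j j' h) := by
  have hG : IsZero ((Kp M fs n).homology j) :=
    isZero_homology_of_isZero_X _ j (isZero_koszulCx_X_neg _ _ j (by simpa using hj))
  have h3 := cone_homology_exact₃ (φc M f fs n) j j' h
  have hmono : Mono (coneδ (φc M f fs n) j j' h) := h3.mono_g_iff.mpr (hG.eq_of_src _ _)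
  exact (ModuleCat.mono_iff_injective _).mp hmono

end Koszul

section Main

variable {A : Type u} [CommRing A]

/-- the bottom Koszul cohomology embeds compatibly in `M`, with image the `fs^n`-torsion -/
theorem bottom (M : Type u) [AddCommGroup M] [Module A M] :
    ∀ (fs : List A) (j : ℤ), j = -(fs.length : ℤ) →
      ∃ ι : ∀ n : ℕ, ((Kp (ModuleCat.of A M) fs n).homology j) →ₗ[A] M,
        (∀ n, Function.Injective (ι n)) ∧
        (∀ n m (h : n ≤ m) x, ι m (Tr (ModuleCat.of A M) fs j n m h x) = ι n x) ∧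
        (∀ n (x : M), x ∈ LinearMap.range (ι n) ↔ ∀ g ∈ fs, g ^ n • x = 0)
  | [], j, hj => by
    simp only [List.length_nil, Nat.cast_zero, neg_zero] at hj
    subst hj
    let e := (HomologicalComplex.singleObjHomologySelfIso (ComplexShape.up ℤ) 0
      (ModuleCat.of A M)).toLinearEquiv
    refine ⟨fun n => (e.toLinearMap : ((Kp (ModuleCat.of A M) [] n).homology 0) →ₗ[A] M),
      fun n => e.injective, ?_, ?_⟩
    · intro n m h x
      have : Tr (ModuleCat.of A M) [] 0 n m h x = x := by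
        show (HomologicalComplex.homologyMap (𝟙 (koszulCx (ModuleCat.of A M) [])) 0).hom x = x
        rw [HomologicalComplex.homologyMap_id]
        rfl
      rw [this]
    · intro n x
      constructor
      · intro _ g hg
        simp at hg
      · intro _
        exact ⟨e.symm x, e.apply_symm_apply x⟩
  | f :: fs, j, hj => by
    simp only [List.length_cons, Nat.cast_add, Nat.cast_one] at hj
    obtain ⟨ι, hinj, hcompat, hrange⟩ := bottom M fs (j + 1) (by omega)
    refine ⟨fun n => (ι n) ∘ₗ (δc (ModuleCat.of A M) f fs n j (j + 1) rfl), ?_, ?_, ?_⟩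
    · intro n
      exact (hinj n).comp (δc_injective _ f fs n j (j + 1) rfl (by omega))
    · intro n m h x
      rw [LinearMap.comp_apply, LinearMap.comp_apply, δc_Tr, hcompat]
    · intro n x
      constructor
      · rintro ⟨c, rfl⟩ g hg
        rw [LinearMap.comp_apply]
        rcases List.mem_cons.mp hg with rfl | hg'
        · rw [← map_smul, δc_smul, map_zero]
        · exact (hrange n _).mp ⟨_, rfl⟩ g hg'
      · intro hx
        obtain ⟨e, rfl⟩ := (hrange n x).mpr (fun g hg => hx g (List.mem_cons_of_mem _ hg))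
        have he : f ^ n • e = 0 := by
          apply hinj n
          rw [map_smul, map_zero]
          exact hx f List.mem_cons_self
        obtain ⟨c, hc⟩ := exists_δc_of_smul _ f fs n j (j + 1) rfl e he
        exact ⟨c, by rw [LinearMap.comp_apply, hc]⟩

/-- eventual vanishing of the Koszul cohomology classes of an injective module -/
theorem evZero [IsNoetherianRing A] (M : Type u) [AddCommGroup M] [Module A M]
    (hM : Module.Injective A M) :
    ∀ (fs : List A) (j : ℤ), -(fs.length : ℤ) < j → ∀ (n : ℕ)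
      (c : (Kp (ModuleCat.of A M) fs n).homology j),
      ∃ (m : ℕ) (h : n ≤ m), Tr (ModuleCat.of A M) fs j n m h c = 0
  | [], j, hj, n, c => by
    simp only [List.length_nil, Nat.cast_zero, neg_zero] at hj
    have hz : IsZero ((Kp (ModuleCat.of A M) [] n).homology j) :=
      isZero_homology_of_isZero_X _ j
        (HomologicalComplex.isZero_single_obj_X (ComplexShape.up ℤ) 0 (ModuleCat.of A M) j hj.ne')
    have _ := ModuleCat.subsingleton_of_isZero hz
    refine ⟨n, le_rfl, ?_⟩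
    rw [Subsingleton.elim c 0, map_zero]
  | f :: fs, j, hj, n, c => by
    simp only [List.length_cons, Nat.cast_add, Nat.cast_one] at hj
    obtain ⟨m, hnm, hm⟩ := evZero M hM fs (j + 1) (by omega) n
      (δc (ModuleCat.of A M) f fs n j (j + 1) rfl c)
    rw [← δc_Tr] at hm
    obtain ⟨d, hd⟩ := exists_ic_of_δc _ f fs m j (j + 1) rfl _ hm
    -- it suffices to kill `ic d` later
    suffices H : ∃ (m' : ℕ) (h : m ≤ m'), Tr (ModuleCat.of A M) (f :: fs) j m m' h
        (ic (ModuleCat.of A M) f fs m j d) = 0 by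
      obtain ⟨m', hmm', H⟩ := H
      refine ⟨m', hnm.trans hmm', ?_⟩
      rw [← Tr_comp _ _ _ n m m' hnm hmm', ← hd, H]
    by_cases hj2 : -(fs.length : ℤ) < j
    · obtain ⟨m', hmm', hd'⟩ := evZero M hM fs j hj2 m d
      refine ⟨m', hmm', ?_⟩
      rw [Tr_ic, hd', smul_zero, map_zero]
    · have hj3 : j = -(fs.length : ℤ) := by omega
      obtain ⟨ι, hinj, hcompat, hrange⟩ := bottom M fs j hj3
      have hx : ∀ g ∈ fs, g ^ m • (ι m d) = 0 := (hrange m _).mp ⟨d, rfl⟩
      obtain ⟨m', hmm', y, hy, hxy⟩ := key0 hM fs f (ι m d) m hx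
      obtain ⟨y', rfl⟩ := (hrange m' y).mpr hy
      refine ⟨m', hmm', ?_⟩
      rw [Tr_ic]
      have : f ^ (m' - m) • Tr (ModuleCat.of A M) fs j m m' hmm' d = f ^ m' • y' := by
        apply hinj m'
        rw [map_smul, map_smul, hcompat, hxy]
      rw [this, ic_smul]

end Main

end Groth.Agent.Lib.Helper8KoszLim
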