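import Mathlib
import Groth.Agent.Lib.Helper10KosProB
import Groth.Agent.Lib.Helper8KoszLim
set_option backward.isDefEq.respectTransparency.types false

/-!
# Homology of the systems `coneSys f X` (helper10)

`KGood j c X π`: the system `X` has homology concentrated in degrees `[c, j]`, its top homology
`H^j(X_n)` is a compatible system of quotients (via `π n`) of a fixed module `N`, and the systems
`H^i(X_n)`, `i < j`, are pro-zero.  Over a Noetherian ring with `N` finite this is inherited by
`coneSys f X` (`KGood.cone`).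
-/

set_option autoImplicit false
universe u
open CategoryTheory CategoryTheory.Limits Opposite MonoidalCategory CochainComplex HomologicalComplex

namespace Groth.Agent.Lib.Helper10.KosPro

open Groth.Agent.Lib.Helper21 Groth.Agent.Lib.Helper8KoszLim

variable {A : Type u} [CommRing A]

/-- the map on homology as a linear map -/
noncomputable abbrev hm {X Y : Cx A} (φ : X ⟶ Y) (i : ℤ) : X.homology i →ₗ[A] Y.homology i :=
  (HomologicalComplex.homologyMap φ i).hom

lemma hm_comp {X Y Z : Cx A} (φ : X ⟶ Y) (ψ : Y ⟶ Z) (i : ℤ) (x : X.homology i) :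
    hm (φ ≫ ψ) i x = hm ψ i (hm φ i x) := by
  show (HomologicalComplex.homologyMap (φ ≫ ψ) i).hom x = _
  rw [HomologicalComplex.homologyMap_comp]
  rfl

lemma hm_id (X : Cx A) (i : ℤ) (x : X.homology i) : hm (𝟙 X) i x = x := by
  show (HomologicalComplex.homologyMap (𝟙 X) i).hom x = _
  rw [HomologicalComplex.homologyMap_id]
  rfl

lemma hm_smul {X Y : Cx A} (a : A) (φ : X ⟶ Y) (i : ℤ) (x : X.homology i) :
    hm (a • φ) i x = a • hm φ i x := by
  show (HomologicalComplex.homologyMap (a • φ) i).hom x = _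
  rw [homologyMap_smul']
  rfl

lemma hm_zero_of_eq {X Y : Cx A} {φ : X ⟶ Y} {i : ℤ}
    (h : HomologicalComplex.homologyMap φ i = 0) (x : X.homology i) : hm φ i x = 0 := by
  show (HomologicalComplex.homologyMap φ i).hom x = 0
  rw [h]
  rfl

lemma homologyMap_eq_zero_of_forall {X Y : Cx A} {φ : X ⟶ Y} {i : ℤ}
    (h : ∀ x : X.homology i, hm φ i x = 0) : HomologicalComplex.homologyMap φ i = 0 :=
  ModuleCat.hom_ext (LinearMap.ext h)

/-- torsion stabilisation in a Noetherian module -/
lemma exists_pow_torsion_bound (H : Type*) [AddCommGroup H] [Module A H] [IsNoetherian A H]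
    (f : A) : ∃ c : ℕ, ∀ (k : ℕ) (y : H), f ^ k • y = 0 → f ^ c • y = 0 := by
  let K : ℕ →o Submodule A H :=
    ⟨fun k => LinearMap.ker (f ^ k • (LinearMap.id : H →ₗ[A] H)), by
      intro k k' hkk' y hy
      simp only [LinearMap.mem_ker, LinearMap.smul_apply, LinearMap.id_coe, id_eq] at hy ⊢
      obtain ⟨d, rfl⟩ := Nat.exists_eq_add_of_le hkk'
      rw [pow_add, mul_comm, mul_smul, hy, smul_zero]⟩
  obtain ⟨c, hc⟩ := (monotone_stabilizes_iff_noetherian.mpr inferInstance) K
  refine ⟨c, fun k y hy => ?_⟩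
  by_cases hkc : k ≤ c
  · obtain ⟨d, rfl⟩ := Nat.exists_eq_add_of_le hkc
    rw [pow_add, mul_comm, mul_smul, hy, smul_zero]
  · have h1 : y ∈ K k := by
      simp only [K, OrderHom.coe_mk, LinearMap.mem_ker, LinearMap.smul_apply, LinearMap.id_coe,
        id_eq]
      exact hy
    rw [← hc k (by omega)] at h1
    simpa [K] using h1

/-- the data and properties of a "Koszul-like" system -/
structure KGood (j c : ℤ) {N : Type u} [AddCommGroup N] [Module A N] (X : Sys A)
    (π : ∀ n : ℕ, N →ₗ[A] ((X.obj (op n)).homology j)) : Prop where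
  vanish : ∀ (n : ℕ) (i : ℤ), j < i → IsZero ((X.obj (op n)).homology i)
  low : ∀ (n : ℕ) (i : ℤ), i < c → IsZero ((X.obj (op n)).homology i)
  surj : ∀ n : ℕ, Function.Surjective (π n)
  compat : ∀ (n m : ℕ) (h : n ≤ m) (x : N), hm (ARSys.tr X h) j (π m x) = π n x
  pro : ∀ i : ℤ, i < j → ∀ n : ℕ, ∃ (m : ℕ) (h : n ≤ m),
    HomologicalComplex.homologyMap (ARSys.tr X h) i = 0

/-- the powers of `g` kill the classes `π n x` -/
def KKill (g : A) (j : ℤ) {N : Type u} [AddCommGroup N] [Module A N] (X : Sys A)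
    (π : ∀ n : ℕ, N →ₗ[A] ((X.obj (op n)).homology j)) : Prop :=
  ∀ (n : ℕ) (x : N), g ^ (n + 1) • π n x = 0

section cone

variable {j c : ℤ} {N : Type u} [AddCommGroup N] [Module A N] {X : Sys A}
  {π : ∀ n : ℕ, N →ₗ[A] ((X.obj (op n)).homology j)}

/-- the augmentation of `coneSys f X` induced by the one of `X` -/
noncomputable def πcone (f : A) (π : ∀ n : ℕ, N →ₗ[A] ((X.obj (op n)).homology j)) (n : ℕ) :
    N →ₗ[A] (((coneSys f X).obj (op n)).homology j) :=
  (hm ((inrSys f X).app (op n)) j).comp (π n)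

variable (f : A)

/-- the multiplication map whose cone is taken -/
noncomputable abbrev φs (X : Sys A) (n : ℕ) : X.obj (op n) ⟶ X.obj (op n) :=
  f ^ (n + 1) • 𝟙 (X.obj (op n))

lemma hm_φs (n : ℕ) (i : ℤ) (y : (X.obj (op n)).homology i) :
    hm (φs f X n) i y = f ^ (n + 1) • y := by
  rw [hm_smul, hm_id]

lemma δ_tr {n m : ℕ} (h : n ≤ m) (i i' : ℤ) (hi : i + 1 = i')
    (x : ((coneSys f X).obj (op m)).homology i) :
    (coneδ (φs f X n) i i' hi).hom (hm (ARSys.tr (coneSys f X) h) i x) =
      f ^ (m - n) • hm (ARSys.tr X h) i' ((coneδ (φs f X m) i i' hi).hom x) := by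
  have := coneδ_naturality (φs f X m) (φs f X n) (f ^ (m - n) • ARSys.tr X h) (ARSys.tr X h)
    (coneSys_comm f X (homOfLE h).op) i i' hi
  have h2 := LinearMap.congr_fun (congrArg ModuleCat.Hom.hom this) x
  rw [← hm_smul]
  exact h2

lemma smul_δ (n : ℕ) (i i' : ℤ) (hi : i + 1 = i')
    (x : ((coneSys f X).obj (op n)).homology i) :
    f ^ (n + 1) • (coneδ (φs f X n) i i' hi).hom x = 0 := by
  have := coneδ_comp (φs f X n) i i' hi
  have h2 := LinearMap.congr_fun (congrArg ModuleCat.Hom.hom this) x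
  rw [← hm_φs]
  exact h2

lemma exists_inr_of_δ (n : ℕ) (i i' : ℤ) (hi : i + 1 = i')
    (z : ((coneSys f X).obj (op n)).homology i) (hz : (coneδ (φs f X n) i i' hi).hom z = 0) :
    ∃ y : (X.obj (op n)).homology i, hm ((inrSys f X).app (op n)) i y = z := by
  have hex := cone_homology_exact₃ (φs f X n) i i' hi
  rw [ShortComplex.moduleCat_exact_iff] at hex
  exact hex z hz

lemma tr_inr {n m : ℕ} (h : n ≤ m) (i : ℤ) (y : (X.obj (op m)).homology i) :
    hm (ARSys.tr (coneSys f X) h) i (hm ((inrSys f X).app (op m)) i y) =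
      hm ((inrSys f X).app (op n)) i (hm (ARSys.tr X h) i y) := by
  rw [← hm_comp, ← hm_comp]
  have := (inrSys f X).naturality (homOfLE h).op
  rw [show ARSys.tr X h ≫ (inrSys f X).app (op n) =
    (inrSys f X).app (op m) ≫ ARSys.tr (coneSys f X) h from this]

lemma inr_smul (n : ℕ) (i : ℤ) (y : (X.obj (op n)).homology i) :
    hm ((inrSys f X).app (op n)) i (f ^ (n + 1) • y) = 0 := by
  have := cone_homologyMap_comp (φs f X n) i
  have h2 := LinearMap.congr_fun (congrArg ModuleCat.Hom.hom this) y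
  rw [← hm_φs]
  exact h2

variable [IsNoetherianRing A] [Module.Finite A N]

/-- the torsion lemma: on `f^(m+1)`-torsion classes in degree `i' ≤ j`, the map
`f^(m-p) • tr` vanishes for `m ≫ p`. -/
lemma KGood.torsion (hX : KGood j c X π) (i' : ℤ) (hi' : i' ≤ j) (p : ℕ) :
    ∃ (m : ℕ) (h : p ≤ m), ∀ y : (X.obj (op m)).homology i', f ^ (m + 1) • y = 0 →
      f ^ (m - p) • hm (ARSys.tr X h) i' y = 0 := by
  rcases hi'.lt_or_eq with hlt | rfl
  · obtain ⟨m, h, h0⟩ := hX.pro i' hlt p
    exact ⟨m, h, fun y _ => by rw [hm_zero_of_eq h0, smul_zero]⟩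
  · haveI : IsNoetherian A ((X.obj (op p)).homology i') :=
      isNoetherian_of_surjective (π p) (LinearMap.range_eq_top.2 (hX.surj p))
    obtain ⟨k, hk⟩ := exists_pow_torsion_bound (A := A) ((X.obj (op p)).homology i') f
    refine ⟨p + k, Nat.le_add_right p k, fun y hy => ?_⟩
    have e : p + k - p = k := by omega
    rw [e]
    apply hk (p + k + 1)
    rw [← map_smul, hy, map_zero]

theorem KGood.cone (hX : KGood j c X π) : KGood j (c - 1) (coneSys f X) (πcone f π) where
  vanish n i hi := by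
    have hex := cone_homology_exact₃ (φs f X n) i (i + 1) rfl
    exact hex.isZero_of_both_zeros ((hX.vanish n i hi).eq_of_src _ _)
      ((hX.vanish n (i + 1) (by omega)).eq_of_tgt _ _)
  low n i hi := by
    have hex := cone_homology_exact₃ (φs f X n) i (i + 1) rfl
    exact hex.isZero_of_both_zeros ((hX.low n i (by omega)).eq_of_src _ _)
      ((hX.low n (i + 1) (by omega)).eq_of_tgt _ _)
  surj n := by
    have hepi := cone_homology_epi (φs f X n) j (hX.vanish n (j + 1) (by omega))
    have hs : Function.Surjective (hm ((inrSys f X).app (op n)) j) :=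
      (ModuleCat.epi_iff_surjective _).1 hepi
    exact hs.comp (hX.surj n)
  compat n m h x := by
    show hm (ARSys.tr (coneSys f X) h) j (hm ((inrSys f X).app (op m)) j (π m x)) =
      hm ((inrSys f X).app (op n)) j (π n x)
    rw [tr_inr, hX.compat]
  pro i hi n := by
    obtain ⟨p, hnp, h0⟩ := hX.pro i hi n
    obtain ⟨m, hpm, hT⟩ := hX.torsion f (i + 1) (by omega) p
    refine ⟨m, hnp.trans hpm, homologyMap_eq_zero_of_forall (fun x => ?_)⟩
    rw [← tr_comp (coneSys f X) hnp hpm, hm_comp]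
    have hδ : (coneδ (φs f X p) i (i + 1) rfl).hom (hm (ARSys.tr (coneSys f X) hpm) i x) = 0 := by
      rw [δ_tr]
      exact hT _ (smul_δ f m i (i + 1) rfl x)
    obtain ⟨y, hy⟩ := exists_inr_of_δ f p i (i + 1) rfl _ hδ
    rw [← hy, tr_inr, hm_zero_of_eq h0, map_zero]

omit [IsNoetherianRing A] [Module.Finite A N] in
lemma KKill.cone {g : A} (h : KKill g j X π) : KKill g j (coneSys f X) (πcone f π) := by
  intro n x
  show g ^ (n + 1) • hm ((inrSys f X).app (op n)) j (π n x) = 0
  rw [← map_smul, h n x, map_zero]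

omit [IsNoetherianRing A] [Module.Finite A N] in
lemma KKill.cone_self : KKill f j (coneSys f X) (πcone f π) := by
  intro n x
  show f ^ (n + 1) • hm ((inrSys f X).app (op n)) j (π n x) = 0
  rw [← map_smul, inr_smul]

end cone

section iso

variable {j c : ℤ} {N : Type u} [AddCommGroup N] [Module A N] {X X' : Sys A}
  {π : ∀ n : ℕ, N →ₗ[A] ((X.obj (op n)).homology j)}

/-- transport of the augmentation along a morphism of systems -/
noncomputable def πmap (α : X ⟶ X') (π : ∀ n : ℕ, N →ₗ[A] ((X.obj (op n)).homology j)) (n : ℕ) :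
    N →ₗ[A] ((X'.obj (op n)).homology j) :=
  (hm (α.app (op n)) j).comp (π n)

lemma hm_iso_hom_inv (e : X ≅ X') (n : ℕ) (i : ℤ) (x : (X.obj (op n)).homology i) :
    hm (e.inv.app (op n)) i (hm (e.hom.app (op n)) i x) = x := by
  rw [← hm_comp, ← NatTrans.comp_app, e.hom_inv_id]
  exact hm_id _ _ _

lemma hm_iso_inv_hom (e : X ≅ X') (n : ℕ) (i : ℤ) (x : (X'.obj (op n)).homology i) :
    hm (e.hom.app (op n)) i (hm (e.inv.app (op n)) i x) = x := by
  rw [← hm_comp, ← NatTrans.comp_app, e.inv_hom_id]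
  exact hm_id _ _ _

theorem KGood.of_iso (hX : KGood j c X π) (e : X ≅ X') : KGood j c X' (πmap e.hom π) where
  vanish n i hi := (hX.vanish n i hi).of_iso
    ((HomologicalComplex.homologyFunctor _ _ i).mapIso (e.app (op n)).symm)
  low n i hi := (hX.low n i hi).of_iso
    ((HomologicalComplex.homologyFunctor _ _ i).mapIso (e.app (op n)).symm)
  surj n := by
    have hs : Function.Surjective (hm (e.hom.app (op n)) j) := fun y =>
      ⟨hm (e.inv.app (op n)) j y, hm_iso_inv_hom e n j y⟩
    exact hs.comp (hX.surj n)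
  compat n m h x := by
    show hm (ARSys.tr X' h) j (hm (e.hom.app (op m)) j (π m x)) = hm (e.hom.app (op n)) j (π n x)
    rw [← hm_comp, ← tr_nat e.hom h, hm_comp, hX.compat]
  pro i hi n := by
    obtain ⟨m, h, h0⟩ := hX.pro i hi n
    refine ⟨m, h, homologyMap_eq_zero_of_forall (fun x => ?_)⟩
    have : ARSys.tr X' h = e.inv.app (op m) ≫ ARSys.tr X h ≫ e.hom.app (op n) := by
      rw [tr_nat e.hom h, ← Category.assoc, ← NatTrans.comp_app, e.inv_hom_id]
      simp
    rw [this, hm_comp, hm_comp, hm_zero_of_eq h0, map_zero]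

lemma KKill.of_map {g : A} (h : KKill g j X π) (α : X ⟶ X') : KKill g j X' (πmap α π) := by
  intro n x
  show g ^ (n + 1) • hm (α.app (op n)) j (π n x) = 0
  rw [← map_smul, h n x, map_zero]

end iso

section const

/-- the constant system on a complex with homology concentrated in degree `j` -/
theorem KGood.const (B : Cx A) (j : ℤ) (hB : ∀ i : ℤ, i ≠ j → IsZero (B.homology i)) :
    KGood j j ((Functor.const ℕᵒᵖ).obj B) (fun _ => (LinearMap.id : B.homology j →ₗ[A] _)) where
  vanish _ i hi := hB i (by omega)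
  low _ i hi := hB i (by omega)
  surj _ := Function.surjective_id
  compat n m h x := hm_id B j x
  pro i hi n := ⟨n, le_rfl, (hB i (by omega)).eq_of_src _ _⟩

end const

end Groth.Agent.Lib.Helper10.KosPro
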