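import Mathlib
import Groth.Agent.Lib.Helper10KosProC
import Groth.Agent.Lib.Helper10ConeTensor
set_option backward.isDefEq.respectTransparency.types false

/-!
# Koszul systems and tensor products (helper10)

* `coneTensorHom_naturality`: the comparison `Cone(φ ▷ L) ⟶ Cone(φ) ⊗ L` is natural with respect
  to `mappingCone.map`;
* `coneSysTensor f X L : coneSys f (X ⋙ tensorRight L) ≅ coneSys f X ⋙ tensorRight L`;
* `kGood_kos_tensor`: the system `n ↦ Kos_n ⊗ L` is `KGood` when `L` has homology in one degree.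
-/

set_option autoImplicit false
universe u
open CategoryTheory CategoryTheory.Limits Opposite MonoidalCategory CochainComplex HomologicalComplex

namespace Groth.Agent.Lib.Helper10.KosPro

open Groth.Agent.Lib.Helper10.ConeTensor Groth.Agent.Lib.Helper1.KF

variable {A : Type u} [CommRing A]

lemma smul_whiskerRight' (a : A) {X Y : Cx A} (t : X ⟶ Y) (L : Cx A) :
    (a • t) ▷ L = a • (t ▷ L) := by
  have : a • t = (a • 𝟙 X) ≫ t := by rw [Linear.smul_comp, Category.id_comp]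
  rw [this, comp_whiskerRight, smul_id_whiskerRight, Linear.smul_comp, Category.id_comp]

section naturality

lemma whisker_comm {X Y X' Y' : Cx A} (φ : X ⟶ Y) (φ' : X' ⟶ Y') (a : X ⟶ X') (b : Y ⟶ Y')
    (comm : φ ≫ b = a ≫ φ') (L : Cx A) : (φ ▷ L) ≫ (b ▷ L) = (a ▷ L) ≫ (φ' ▷ L) := by
  rw [← comp_whiskerRight, comm, comp_whiskerRight]

variable {X Y X' Y' : Cx A} (φ : X ⟶ Y) (φ' : X' ⟶ Y') (a : X ⟶ X') (b : Y ⟶ Y')
  (comm : φ ≫ b = a ≫ φ') (L : Cx A)

lemma inl_v_map_f (p q : ℤ) (h : p + (-1) = q) :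
    (mappingCone.inl φ).v p q h ≫ (mappingCone.map φ φ' a b comm).f q =
      a.f p ≫ (mappingCone.inl φ').v p q h := by
  simp [mappingCone.map]

lemma coneTensorHom_naturality :
    mappingCone.map (φ ▷ L) (φ' ▷ L) (a ▷ L) (b ▷ L) (whisker_comm φ φ' a b comm L) ≫
        coneTensorHom φ' L =
      coneTensorHom φ L ≫ (mappingCone.map φ φ' a b comm ▷ L) := by
  ext n : 1
  refine (mappingCone.ext_from_iff _ (n + 1) n rfl _ _).2 ⟨?_, ?_⟩
  · simp only [comp_f]
    rw [reassoc_of% (inl_v_map_f (φ ▷ L) (φ' ▷ L) (a ▷ L) (b ▷ L)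
      (whisker_comm φ φ' a b comm L) (n + 1) n (by omega))]
    simp only [coneTensorHom, mappingCone.inl_v_desc_f_assoc, mappingCone.inl_v_desc_f]
    rw [HomComplex.Cochain.ofHomotopy, HomComplex.Cochain.mk_v, HomComplex.Cochain.ofHomotopy,
      HomComplex.Cochain.mk_v]
    apply tensor_hom_ext
    intro p q hpq
    rw [ι_whiskerRight_assoc, ι_homot_hom φ' L p q n hpq, reassoc_of% (ι_homot_hom φ L p q n hpq),
      ι_whiskerRight, ← comp_whiskerRight_assoc, ← comp_whiskerRight_assoc,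
      inl_v_map_f φ φ' a b comm p (p - 1) (by omega)]
  · have e : mappingCone.inr (φ ▷ L) ≫
        (mappingCone.map (φ ▷ L) (φ' ▷ L) (a ▷ L) (b ▷ L) (whisker_comm φ φ' a b comm L) ≫
          coneTensorHom φ' L) =
        mappingCone.inr (φ ▷ L) ≫ (coneTensorHom φ L ≫ (mappingCone.map φ φ' a b comm ▷ L)) := by
      rw [← Category.assoc, inr_map', Category.assoc, inr_coneTensorHom, ← Category.assoc,
        inr_coneTensorHom, ← comp_whiskerRight, ← comp_whiskerRight, inr_map']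
    have := congrArg (fun ψ => ψ.f n) e
    simpa only [comp_f] using this

end naturality

section coneSysTensor

variable (f : A) (X : Sys A) (L : Cx A)

lemma smulComm (n : ℕᵒᵖ) :
    (f ^ (n.unop + 1) • 𝟙 (X.obj n ⊗ L)) ≫ 𝟙 _ = 𝟙 _ ≫ ((f ^ (n.unop + 1) • 𝟙 (X.obj n)) ▷ L) := by
  rw [smul_id_whiskerRight, Category.id_comp, Category.comp_id]

/-- the comparison map `Cone(f^(n+1) on X_n ⊗ L) ⟶ Cone(f^(n+1) on X_n) ⊗ L` -/
noncomputable def cstApp' (n : ℕᵒᵖ) :
    mappingCone (f ^ (n.unop + 1) • 𝟙 (X.obj n ⊗ L)) ⟶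
      mappingCone (f ^ (n.unop + 1) • 𝟙 (X.obj n)) ⊗ L :=
  mappingCone.map (f ^ (n.unop + 1) • 𝟙 (X.obj n ⊗ L)) ((f ^ (n.unop + 1) • 𝟙 (X.obj n)) ▷ L)
    (𝟙 _) (𝟙 _) (smulComm f X L n) ≫ coneTensorHom (f ^ (n.unop + 1) • 𝟙 (X.obj n)) L

instance (n : ℕᵒᵖ) : IsIso (cstApp' f X L n) := by
  have : IsIso (mappingCone.map (f ^ (n.unop + 1) • 𝟙 (X.obj n ⊗ L))
      ((f ^ (n.unop + 1) • 𝟙 (X.obj n)) ▷ L) (𝟙 _) (𝟙 _) (smulComm f X L n)) :=
    (coneIsoOfIso _ _ (Iso.refl _) (Iso.refl _) (smulComm f X L n)).isIso_hom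
  unfold cstApp'
  infer_instance

set_option maxHeartbeats 800000 in
lemma cstApp'_naturality {n m : ℕᵒᵖ} (g : n ⟶ m) :
    mappingCone.map (f ^ (n.unop + 1) • 𝟙 (X.obj n ⊗ L))
        (f ^ (m.unop + 1) • 𝟙 (X.obj m ⊗ L)) (f ^ (n.unop - m.unop) • (X.map g ▷ L)) (X.map g ▷ L)
        (coneSys_comm f (X ⋙ tensorRight L) g) ≫ cstApp' f X L m =
      cstApp' f X L n ≫ (mappingCone.map (f ^ (n.unop + 1) • 𝟙 (X.obj n))
        (f ^ (m.unop + 1) • 𝟙 (X.obj m)) (f ^ (n.unop - m.unop) • X.map g) (X.map g)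
        (coneSys_comm f X g) ▷ L) := by
  have h1 := mappingCone.map_comp (f ^ (n.unop + 1) • 𝟙 (X.obj n ⊗ L))
    (f ^ (m.unop + 1) • 𝟙 (X.obj m ⊗ L)) ((f ^ (m.unop + 1) • 𝟙 (X.obj m)) ▷ L)
    (f ^ (n.unop - m.unop) • (X.map g ▷ L)) (X.map g ▷ L)
    (coneSys_comm f (X ⋙ tensorRight L) g) (𝟙 _) (𝟙 _) (smulComm f X L m)
  have h2 := mappingCone.map_comp (f ^ (n.unop + 1) • 𝟙 (X.obj n ⊗ L))
    ((f ^ (n.unop + 1) • 𝟙 (X.obj n)) ▷ L) ((f ^ (m.unop + 1) • 𝟙 (X.obj m)) ▷ L)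
    (𝟙 _) (𝟙 _) (smulComm f X L n) ((f ^ (n.unop - m.unop) • X.map g) ▷ L) (X.map g ▷ L)
    (whisker_comm _ _ _ _ (coneSys_comm f X g) L)
  have h3 := coneTensorHom_naturality (f ^ (n.unop + 1) • 𝟙 (X.obj n))
    (f ^ (m.unop + 1) • 𝟙 (X.obj m)) (f ^ (n.unop - m.unop) • X.map g) (X.map g)
    (coneSys_comm f X g) L
  unfold cstApp'
  rw [← Category.assoc, ← h1, Category.assoc, ← h3, ← Category.assoc, ← h2]
  refine congrArg (fun t => t ≫ coneTensorHom (f ^ (m.unop + 1) • 𝟙 (X.obj m)) L)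
    (map_congr' _ _ ?_ ?_ _ _)
  · rw [smul_whiskerRight', Category.id_comp, Category.comp_id]
  · rw [Category.id_comp, Category.comp_id]

/-- the comparison as a morphism of systems -/
noncomputable def cstHom : coneSys f (X ⋙ tensorRight L) ⟶ coneSys f X ⋙ tensorRight L where
  app n := cstApp' f X L n
  naturality _ _ g := cstApp'_naturality f X L g

/-- `coneSys f (X ⊗ L) ≅ coneSys f X ⊗ L` -/
noncomputable def coneSysTensor : coneSys f (X ⋙ tensorRight L) ≅ coneSys f X ⋙ tensorRight L :=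
  haveI : IsIso (cstHom f X L) := by
    apply (config := { allowSynthFailures := true }) NatIso.isIso_of_isIso_app
    intro n
    show IsIso (cstApp' f X L n)
    infer_instance
  asIso (cstHom f X L)

lemma inrSys_coneSysTensor (n : ℕ) :
    (inrSys f (X ⋙ tensorRight L)).app (op n) ≫ (coneSysTensor f X L).hom.app (op n) =
      (inrSys f X).app (op n) ▷ L := by
  show mappingCone.inr _ ≫ (mappingCone.map _ _ _ _ _ ≫ coneTensorHom _ L) = mappingCone.inr _ ▷ L
  rw [← Category.assoc, inr_map', Category.id_comp, inr_coneTensorHom]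

end coneSysTensor

section congr

variable {j c : ℤ} {N : Type u} [AddCommGroup N] [Module A N] {X : Sys A}
  {π π' : ∀ n : ℕ, N →ₗ[A] ((X.obj (op n)).homology j)}

lemma KGood.congr (h : KGood j c X π) (hπ : ∀ n x, π n x = π' n x) : KGood j c X π' := by
  have : π = π' := funext fun n => LinearMap.ext (hπ n)
  rw [← this]
  exact h

lemma KKill.congr {g : A} (h : KKill g j X π) (hπ : ∀ n x, π n x = π' n x) : KKill g j X π' := by
  have : π = π' := funext fun n => LinearMap.ext (hπ n)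
  rw [← this]
  exact h

end congr

section main

variable [IsNoetherianRing A] (L : Cx A) (j : ℤ)

/-- the augmentation `H^j(𝟙 ⊗ L) ⟶ H^j(Kos_n ⊗ L)` -/
noncomputable def kosπ (fs : List A) (n : ℕ) :
    ((𝟙_ (Cx A) ⊗ L).homology j) →ₗ[A] (((Kos fs ⋙ tensorRight L).obj (op n)).homology j) :=
  hm ((kosι fs).app (op n) ▷ L) j

omit [IsNoetherianRing A] in
lemma kosπ_cons (f : A) (fs : List A) (n : ℕ) (x : (𝟙_ (Cx A) ⊗ L).homology j) :
    πmap (coneSysTensor f (Kos fs) L).hom (πcone f (kosπ L j fs)) n x = kosπ L j (f :: fs) n x := by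
  show hm ((coneSysTensor f (Kos fs) L).hom.app (op n)) j
    (hm ((inrSys f (Kos fs ⋙ tensorRight L)).app (op n)) j (hm ((kosι fs).app (op n) ▷ L) j x)) =
    hm ((kosι (f :: fs)).app (op n) ▷ L) j x
  rw [← hm_comp, ← hm_comp, inrSys_coneSysTensor, ← comp_whiskerRight]
  rfl

theorem kGood_kos_tensor (hL : ∀ i : ℤ, i ≠ j → IsZero ((𝟙_ (Cx A) ⊗ L).homology i))
    [Module.Finite A ((𝟙_ (Cx A) ⊗ L).homology j)] (fs : List A) :
    KGood j (j - fs.length) (Kos fs ⋙ tensorRight L) (kosπ L j fs) ∧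
      ∀ g ∈ fs, KKill g j (Kos fs ⋙ tensorRight L) (kosπ L j fs) := by
  induction fs with
  | nil =>
    have e : ∀ (n : ℕ) (x : (𝟙_ (Cx A) ⊗ L).homology j), kosπ L j [] n x = x := by
      intro n x
      show hm (𝟙 (𝟙_ (Cx A)) ▷ L) j x = x
      rw [id_whiskerRight]
      exact hm_id _ _ _
    refine ⟨?_, fun g hg => by simp at hg⟩
    exact
      { vanish := fun _ i hi => hL i (by omega)
        low := fun _ i hi => hL i (by simp at hi; omega)
        surj := fun n x => ⟨x, e n x⟩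
        compat := fun n m h x => by
          rw [e, e]
          show hm (𝟙 (𝟙_ (Cx A)) ▷ L) j x = x
          rw [id_whiskerRight]
          exact hm_id _ _ _
        pro := fun i hi n => ⟨n, le_rfl, (hL i (by omega)).eq_of_src _ _⟩ }
  | cons f fs ih =>
    obtain ⟨ih1, ih2⟩ := ih
    have hc : j - ((f :: fs).length : ℤ) = j - (fs.length : ℤ) - 1 := by
      simp only [List.length_cons]
      push_cast
      ring
    rw [hc]
    refine ⟨((ih1.cone f).of_iso (coneSysTensor f (Kos fs) L)).congr (kosπ_cons L j f fs), ?_⟩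
    intro g hg
    rcases List.mem_cons.1 hg with rfl | hg'
    · exact ((KKill.cone_self g (π := kosπ L j fs)).of_map (coneSysTensor g (Kos fs) L).hom).congr
        (kosπ_cons L j g fs)
    · exact (((ih2 g hg').cone f).of_map (coneSysTensor f (Kos fs) L).hom).congr
        (kosπ_cons L j f fs)

end main

end Groth.Agent.Lib.Helper10.KosPro
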