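import Mathlib
import Groth.Agent.Lib.Helper10KosProD
import Groth.Agent.Lib.Helper1DT5
import Groth.Prelude.Def_ega3
set_option backward.isDefEq.respectTransparency.types false

/-!
# The adic system `(A/I^(n+1))[0]` and the augmentation of the Koszul system (helper10)

* `Tsys I`, `ηT I : 𝟙 ⟶ Tsys I`, `aug I fs h : Kos fs ⟶ Tsys I`;
* `M[0] ⊗ L` computed termwise, naturally in the module `M`;
* the kernel of `(A ⊗ M → A/J ⊗ M)`;
* `hX`: for a complex with zero neighbours in degree `j`, `C.X j ≅ H^j(C)` naturally.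
-/

set_option autoImplicit false
universe u
open CategoryTheory CategoryTheory.Limits Opposite MonoidalCategory CochainComplex HomologicalComplex

namespace Groth.Agent.Lib.Helper10.KosPro

open Groth.Agent.Lib.Helper1.KF Groth.Agent.Lib.Helper1.DT

variable {A : Type u} [CommRing A]

section Tsys

variable (I : Ideal A)

/-- the system `n ↦ (A/I^(n+1))[0]` of the statement -/
noncomputable abbrev Tsys : Sys A :=
  CohIII.adicSystem I (ModuleCat.of A A) ⋙
    HomologicalComplex.single (ModuleCat.{u} A) (ComplexShape.up ℤ) 0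

/-- the quotient `A/I^(n+1)` as an object of `ModuleCat` -/
abbrev Abar (n : ℕ) : ModuleCat.{u} A :=
  ModuleCat.of A (A ⧸ (I ^ (n + 1) • (⊤ : Submodule A A)))

/-- the quotient map `A ⟶ A/I^(n+1)` -/
abbrev qA (n : ℕ) : ModuleCat.of A A ⟶ Abar I n :=
  ModuleCat.ofHom (Submodule.mkQ (I ^ (n + 1) • (⊤ : Submodule A A)))

lemma Tsys_obj (n : ℕ) : (Tsys I).obj (op n) = sgl (Abar I n) := rfl

lemma adic_map_succ (n : ℕ) :
    (CohIII.adicSystem I (ModuleCat.of A A)).map (homOfLE (n.le_add_right 1)).op =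
      ModuleCat.ofHom (Submodule.factor
        (Submodule.smul_mono_left (Ideal.pow_le_pow_right (Nat.le_succ (n + 1))))) :=
  Functor.ofOpSequence_map_homOfLE_succ _ n

/-- the quotient maps `𝟙 ⟶ (A/I^(n+1))[0]` -/
noncomputable def ηT : (Functor.const ℕᵒᵖ).obj (𝟙_ (Cx A)) ⟶ Tsys I :=
  NatTrans.ofOpSequence
    (fun n => (HomologicalComplex.single (ModuleCat.{u} A) (ComplexShape.up ℤ) 0).map (qA I n))
    (fun n => by
      show 𝟙 _ ≫ _ = _ ≫ (HomologicalComplex.single (ModuleCat.{u} A) (ComplexShape.up ℤ) 0).map _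
      rw [Category.id_comp, adic_map_succ, ← Functor.map_comp]
      rfl)

lemma ηT_app (n : ℕ) :
    (ηT I).app (op n) =
      (HomologicalComplex.single (ModuleCat.{u} A) (ComplexShape.up ℤ) 0).map (qA I n) := rfl

lemma smul_Abar_eq_zero {g : A} (hg : g ∈ I) (n : ℕ) : g ^ (n + 1) • 𝟙 (Abar I n) = 0 := by
  refine ModuleCat.hom_ext (LinearMap.ext fun x => ?_)
  induction x using Submodule.Quotient.induction_on with
  | H a =>
    show g ^ (n + 1) • (Submodule.Quotient.mk a : A ⧸ (I ^ (n + 1) • (⊤ : Submodule A A))) = 0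
    rw [← Submodule.Quotient.mk_smul, Submodule.Quotient.mk_eq_zero]
    exact Submodule.smul_mem_smul (Ideal.pow_mem_pow hg _) Submodule.mem_top

lemma smul_id_single (a : A) (M : ModuleCat.{u} A) :
    a • 𝟙 (sgl M) =
      (HomologicalComplex.single (ModuleCat.{u} A) (ComplexShape.up ℤ) 0).map (a • 𝟙 M) := by
  apply HomologicalComplex.from_single_hom_ext
  rw [HomologicalComplex.single_map_f_self]
  simp

lemma smul_id_Tsys {g : A} (hg : g ∈ I) (n : ℕᵒᵖ) :
    g ^ (n.unop + 1) • 𝟙 ((Tsys I).obj n) = 0 := by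
  show g ^ (n.unop + 1) • 𝟙 (sgl (Abar I n.unop)) = 0
  rw [smul_id_single, smul_Abar_eq_zero I hg, Functor.map_zero]

/-- the augmentation of the Koszul system -/
noncomputable def aug : ∀ fs : List A, (∀ g ∈ fs, g ∈ I) → (Kos fs ⟶ Tsys I)
  | [], _ => ηT I
  | f :: fs, h => descSys f (aug fs (fun g hg => h g (List.mem_cons_of_mem _ hg)))
      (fun n => smul_id_Tsys I (h f List.mem_cons_self) n)

lemma kosι_aug : ∀ (fs : List A) (h : ∀ g ∈ fs, g ∈ I), kosι fs ≫ aug I fs h = ηT I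
  | [], _ => Category.id_comp _
  | f :: fs, h => by
    show (kosι fs ≫ inrSys f (Kos fs)) ≫ descSys f _ _ = _
    rw [Category.assoc, inrSys_descSys]
    exact kosι_aug fs _

end Tsys

section sgl

variable (L : Cx A)

lemma sglι_naturality {M M' : ModuleCat.{u} A} (g : M ⟶ M') (i : ℤ) :
    sglι M L i ≫
        ((HomologicalComplex.single (ModuleCat.{u} A) (ComplexShape.up ℤ) 0).map g ▷ L).f i =
      (g ▷ L.X i) ≫ sglι M' L i := by
  unfold sglι
  rw [Category.assoc, ι_whiskerRight, ← comp_whiskerRight_assoc, ← comp_whiskerRight_assoc,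
    HomologicalComplex.single_map_f_self, Iso.inv_hom_id_assoc]

/-- `(M[0] ⊗ L)^i ≅ M ⊗ L^i` -/
noncomputable def sglIso (M : ModuleCat.{u} A) (i : ℤ) : M ⊗ L.X i ≅ (sgl M ⊗ L).X i where
  hom := sglι M L i
  inv := sglπ M L i
  hom_inv_id := sglι_sglπ M L i
  inv_hom_id := sglπ_sglι M L i

lemma isZero_sgl_tensor_X (M : ModuleCat.{u} A) (i : ℤ) (h : IsZero (L.X i)) :
    IsZero ((sgl M ⊗ L).X i) :=
  IsZero.of_iso ((tensorLeft M).map_isZero h) (sglIso L M i).symm

end sgl

section kernel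

/-- the kernel of `A ⊗ M ⟶ A/J ⊗ M` consists of multiples of elements of `J` -/
lemma mem_smul_top_of_rTensor_mkQ_eq_zero (J : Ideal A) (M : Type u) [AddCommGroup M]
    [Module A M] (t : TensorProduct A A M)
    (ht : LinearMap.rTensor M (Submodule.mkQ (J • (⊤ : Submodule A A))) t = 0) :
    t ∈ J • (⊤ : Submodule A (TensorProduct A A M)) := by
  have hex := rTensor_exact M (LinearMap.exact_subtype_mkQ (J • (⊤ : Submodule A A)))
    (Submodule.mkQ_surjective _)
  obtain ⟨s, rfl⟩ := (hex t).1 ht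
  clear ht
  have key : ∀ b : A, b ∈ J • (⊤ : Submodule A A) → b ∈ J := fun b hb => by
    rwa [smul_eq_mul, Ideal.mul_top] at hb
  induction s using TensorProduct.induction_on with
  | zero => simp
  | tmul a m =>
    have ha : (a : A) ∈ J := key a a.2
    have h1 : ((a : A) • (1 : A)) = (a : A) := by rw [smul_eq_mul, mul_one]
    have e : LinearMap.rTensor M (Submodule.subtype (J • (⊤ : Submodule A A))) (a ⊗ₜ[A] m) =
        (a : A) • ((1 : A) ⊗ₜ[A] m) := by
      rw [LinearMap.rTensor_tmul, TensorProduct.smul_tmul', h1]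
      rfl
    rw [e]
    exact Submodule.smul_mem_smul ha Submodule.mem_top
  | add x y hx hy =>
    rw [map_add]
    exact Submodule.add_mem _ hx hy

lemma map_mem_smul_top {M N : Type*} [AddCommGroup M] [Module A M] [AddCommGroup N]
    [Module A N] (J : Ideal A) (φ : M →ₗ[A] N) {x : M} (hx : x ∈ J • (⊤ : Submodule A M)) :
    φ x ∈ J • (⊤ : Submodule A N) := by
  have : Submodule.map φ (J • (⊤ : Submodule A M)) ≤ J • (⊤ : Submodule A N) := by
    rw [Submodule.map_smul'']
    exact Submodule.smul_mono le_rfl le_top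
  exact this ⟨x, hx, rfl⟩

end kernel

section hX

variable (C : Cx A) (j : ℤ)

/-- for a complex with zero neighbours in degree `j`, `C^j ≅ H^j(C)` -/
noncomputable def hX (h₁ : IsZero (C.X (j - 1))) (h₂ : IsZero (C.X (j + 1))) :
    C.X j ≅ C.homology j :=
  (C.iCyclesIso j (j + 1) (by simp) (h₂.eq_of_tgt _ _)).symm ≪≫
    C.isoHomologyπ (j - 1) j (by simp) (h₁.eq_of_src _ _)

lemma hX_naturality {C C' : Cx A} (φ : C ⟶ C') (j : ℤ) (h₁ : IsZero (C.X (j - 1)))
    (h₂ : IsZero (C.X (j + 1))) (h₁' : IsZero (C'.X (j - 1))) (h₂' : IsZero (C'.X (j + 1))) :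
    φ.f j ≫ (hX C' j h₁' h₂').hom = (hX C j h₁ h₂).hom ≫ HomologicalComplex.homologyMap φ j := by
  have e : φ.f j ≫ (C'.iCyclesIso j (j + 1) (by simp) (h₂'.eq_of_tgt _ _)).inv =
      (C.iCyclesIso j (j + 1) (by simp) (h₂.eq_of_tgt _ _)).inv ≫
        HomologicalComplex.cyclesMap φ j := by
    rw [Iso.comp_inv_eq, Category.assoc, Iso.eq_inv_comp]
    simp
  simp only [hX, Iso.trans_hom, Iso.symm_hom, isoHomologyπ_hom]
  rw [reassoc_of% e, Category.assoc, HomologicalComplex.homologyπ_naturality]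

lemma hX_apply {C C' : Cx A} (φ : C ⟶ C') (j : ℤ) (h₁ : IsZero (C.X (j - 1)))
    (h₂ : IsZero (C.X (j + 1))) (h₁' : IsZero (C'.X (j - 1))) (h₂' : IsZero (C'.X (j + 1)))
    (z : C.X j) :
    hm φ j ((hX C j h₁ h₂).hom.hom z) = (hX C' j h₁' h₂').hom.hom (φ.f j z) := by
  have := hX_naturality φ j h₁ h₂ h₁' h₂'
  exact (LinearMap.congr_fun (congrArg ModuleCat.Hom.hom this) z).symm

lemma hX_surjective (h₁ : IsZero (C.X (j - 1))) (h₂ : IsZero (C.X (j + 1))) :
    Function.Surjective (hX C j h₁ h₂).hom.hom := fun y =>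
  ⟨(hX C j h₁ h₂).inv.hom y, by
    rw [← ModuleCat.comp_apply, Iso.inv_hom_id]
    rfl⟩

lemma hX_injective (h₁ : IsZero (C.X (j - 1))) (h₂ : IsZero (C.X (j + 1))) :
    Function.Injective (hX C j h₁ h₂).hom.hom := by
  intro a b hab
  have := congrArg (hX C j h₁ h₂).inv.hom hab
  simpa [← ModuleCat.comp_apply] using this

end hX

end Groth.Agent.Lib.Helper10.KosPro
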