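import Mathlib
import Groth.Agent.Lib.Helper10KosProE
set_option backward.isDefEq.respectTransparency.types false

/-!
# The base case: complexes concentrated in one degree (helper10)

For `L` concentrated in degree `j` with `L^j` finite, over a Noetherian ring, and
`I = (fs)`: the homology systems of the cones of `Kos_n ⊗ L ⟶ (A/I^(n+1))[0] ⊗ L` are pro-zero.
-/

set_option autoImplicit false
universe u
open CategoryTheory CategoryTheory.Limits Opposite MonoidalCategory CochainComplex HomologicalComplex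

namespace Groth.Agent.Lib.Helper10.KosPro

open Groth.Agent.Lib.Helper1.KF Groth.Agent.Lib.Helper1.DT
open Groth.Agent.Lib.Helper21 Groth.Agent.Lib.Helper8KoszLim

variable {A : Type u} [CommRing A]

section setup

variable (I : Ideal A) (fs : List A) (hfs : ∀ g ∈ fs, g ∈ I) (L : Cx A)

/-- the system `Kos_n ⊗ L` -/
noncomputable abbrev Xs : Sys A := Kos fs ⋙ tensorRight L

/-- the system `(A/I^(n+1))[0] ⊗ L` -/
noncomputable abbrev Ys : Sys A := Tsys I ⋙ tensorRight L

/-- the augmentation tensored with `L` -/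
noncomputable abbrev θs : Xs fs L ⟶ Ys I L := Functor.whiskerRight (aug I fs hfs) (tensorRight L)

/-- the system of cones -/
noncomputable abbrev Cs : Sys A := mcSys (θs I fs hfs L)

/-- the base complex `𝟙 ⊗ L` -/
noncomputable abbrev Bc : Cx A := 𝟙_ (Cx A) ⊗ L

end setup

section base

variable [IsNoetherianRing A] (I : Ideal A) (fs : List A) (hfs : ∀ g ∈ fs, g ∈ I)
  (hI : I ≤ Ideal.span {g | g ∈ fs})
  (L : Cx A) (j : ℤ) (hL : ∀ i : ℤ, i ≠ j → IsZero (L.X i)) [Module.Finite A (L.X j)]

include hL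

omit [IsNoetherianRing A] [Module.Finite A (L.X j)] in
lemma isZero_B_X (i : ℤ) (hi : i ≠ j) : IsZero ((Bc L).X i) :=
  isZero_sgl_tensor_X L (ModuleCat.of A A) i (hL i hi)

omit [IsNoetherianRing A] [Module.Finite A (L.X j)] in
lemma isZero_Y_X (n : ℕ) (i : ℤ) (hi : i ≠ j) : IsZero (((Ys I L).obj (op n)).X i) :=
  isZero_sgl_tensor_X L (Abar I n) i (hL i hi)

omit [IsNoetherianRing A] [Module.Finite A (L.X j)] in
lemma isZero_B_homology (i : ℤ) (hi : i ≠ j) : IsZero ((Bc L).homology i) :=
  isZero_homology_of_isZero_X _ i (isZero_B_X L j hL i hi)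

omit [IsNoetherianRing A] [Module.Finite A (L.X j)] in
lemma isZero_Y_homology (n : ℕ) (i : ℤ) (hi : i ≠ j) :
    IsZero (((Ys I L).obj (op n)).homology i) :=
  isZero_homology_of_isZero_X _ i (isZero_Y_X I L j hL n i hi)

omit hL in
lemma finite_B_homology : Module.Finite A ((Bc L).homology j) := by
  haveI h0 : Module.Finite A (TensorProduct A A (L.X j)) := inferInstance
  haveI h1 : Module.Finite A ((Bc L).X j) :=
    Module.Finite.equiv (sglIso L (ModuleCat.of A A) j).toLinearEquiv
  haveI : IsNoetherian A ((Bc L).X j) := isNoetherian_of_isNoetherianRing_of_finite A _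
  haveI h2 : Module.Finite A ((Bc L).cycles j) :=
    Module.Finite.of_injective ((Bc L).iCycles j).hom
      ((ModuleCat.mono_iff_injective _).1 inferInstance)
  exact Module.Finite.of_surjective ((Bc L).homologyπ j).hom
    ((ModuleCat.epi_iff_surjective _).1 inferInstance)

/-- the quotient map on `H^j` -/
noncomputable def qπ (n : ℕ) :
    ((Bc L).homology j) →ₗ[A] (((Ys I L).obj (op n)).homology j) :=
  hm ((ηT I).app (op n) ▷ L) j

omit hL [IsNoetherianRing A] [Module.Finite A (L.X j)] in
lemma qπ_eq (n : ℕ) (x : (Bc L).homology j) :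
    qπ I L j n x = hm ((θs I fs hfs L).app (op n)) j (kosπ L j fs n x) := by
  show hm ((ηT I).app (op n) ▷ L) j x =
    hm ((aug I fs hfs).app (op n) ▷ L) j (hm ((kosι fs).app (op n) ▷ L) j x)
  rw [← hm_comp, ← comp_whiskerRight, ← NatTrans.comp_app, kosι_aug]

omit hL [IsNoetherianRing A] [Module.Finite A (L.X j)] in
lemma map_f_surjective (n : ℕ) : Function.Surjective (((ηT I).app (op n) ▷ L).f j).hom := by
  intro w
  obtain ⟨t, ht⟩ : ∃ t : TensorProduct A A (L.X j),
      LinearMap.rTensor (L.X j) (Submodule.mkQ (I ^ (n + 1) • (⊤ : Submodule A A))) t =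
        (sglπ (Abar I n) L j).hom w :=
    LinearMap.rTensor_surjective _ (Submodule.mkQ_surjective _) _
  refine ⟨(sglι (ModuleCat.of A A) L j).hom t, ?_⟩
  have nat := sglι_naturality L (qA I n) j
  have h2 := LinearMap.congr_fun (congrArg ModuleCat.Hom.hom nat) t
  have h3 : (sglι (Abar I n) L j).hom ((sglπ (Abar I n) L j).hom w) = w := by
    have := sglπ_sglι (Abar I n) L j
    exact LinearMap.congr_fun (congrArg ModuleCat.Hom.hom this) w
  rw [ηT_app]
  refine Eq.trans h2 ?_
  rw [← h3, ← ht]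
  rfl

omit hL [IsNoetherianRing A] [Module.Finite A (L.X j)] in
lemma map_f_ker (n : ℕ) (z : (Bc L).X j) (hz : (((ηT I).app (op n) ▷ L).f j).hom z = 0) :
    z ∈ I ^ (n + 1) • (⊤ : Submodule A ((Bc L).X j)) := by
  set t : TensorProduct A A (L.X j) := (sglπ (ModuleCat.of A A) L j).hom z with ht
  have hzt : (sglι (ModuleCat.of A A) L j).hom t = z := by
    have := sglπ_sglι (ModuleCat.of A A) L j
    exact LinearMap.congr_fun (congrArg ModuleCat.Hom.hom this) z
  have nat := sglι_naturality L (qA I n) j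
  have h2 := LinearMap.congr_fun (congrArg ModuleCat.Hom.hom nat) t
  rw [← ηT_app] at h2
  have h3 : (sglι (Abar I n) L j).hom
      (LinearMap.rTensor (L.X j) (Submodule.mkQ (I ^ (n + 1) • (⊤ : Submodule A A))) t) = 0 := by
    refine Eq.trans h2.symm ?_
    show (((ηT I).app (op n) ▷ L).f j).hom ((sglι (ModuleCat.of A A) L j).hom t) = 0
    rw [hzt, hz]
  have h4 : LinearMap.rTensor (L.X j) (Submodule.mkQ (I ^ (n + 1) • (⊤ : Submodule A A))) t = 0 := by
    have := congrArg (sglπ (Abar I n) L j).hom h3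
    rw [map_zero] at this
    have e := sglι_sglπ (Abar I n) L j
    rw [← this]
    exact (LinearMap.congr_fun (congrArg ModuleCat.Hom.hom e) _).symm
  have h5 := mem_smul_top_of_rTensor_mkQ_eq_zero (I ^ (n + 1)) (L.X j) t h4
  rw [← hzt]
  exact map_mem_smul_top (I ^ (n + 1)) (sglι (ModuleCat.of A A) L j).hom h5

omit [IsNoetherianRing A] [Module.Finite A (L.X j)] in
lemma qπ_surjective (n : ℕ) : Function.Surjective (qπ I L j n) := by
  intro y
  have hB1 := isZero_B_X L j hL (j - 1) (by omega)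
  have hB2 := isZero_B_X L j hL (j + 1) (by omega)
  have hY1 := isZero_Y_X I L j hL n (j - 1) (by omega)
  have hY2 := isZero_Y_X I L j hL n (j + 1) (by omega)
  obtain ⟨w, rfl⟩ := hX_surjective _ j hY1 hY2 y
  obtain ⟨z, rfl⟩ := map_f_surjective I L j n w
  exact ⟨(hX _ j hB1 hB2).hom.hom z, hX_apply ((ηT I).app (op n) ▷ L) j hB1 hB2 hY1 hY2 z⟩

omit [IsNoetherianRing A] [Module.Finite A (L.X j)] in
lemma qπ_ker (n : ℕ) (x : (Bc L).homology j) (hx : qπ I L j n x = 0) :
    x ∈ I ^ (n + 1) • (⊤ : Submodule A ((Bc L).homology j)) := by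
  have hB1 := isZero_B_X L j hL (j - 1) (by omega)
  have hB2 := isZero_B_X L j hL (j + 1) (by omega)
  have hY1 := isZero_Y_X I L j hL n (j - 1) (by omega)
  have hY2 := isZero_Y_X I L j hL n (j + 1) (by omega)
  obtain ⟨z, rfl⟩ := hX_surjective _ j hB1 hB2 x
  have h1 : (hX _ j hY1 hY2).hom.hom ((((ηT I).app (op n) ▷ L).f j).hom z) = 0 :=
    (hX_apply ((ηT I).app (op n) ▷ L) j hB1 hB2 hY1 hY2 z).symm.trans hx
  have h2 : (((ηT I).app (op n) ▷ L).f j).hom z = 0 :=
    hX_injective _ j hY1 hY2 (by rw [h1, map_zero])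
  exact map_mem_smul_top (I ^ (n + 1)) (hX _ j hB1 hB2).hom.hom (map_f_ker I L j n z h2)

include hI in
omit hL [Module.Finite A (L.X j)] in
lemma exists_pow_le (n : ℕ) :
    ∃ m : ℕ, n ≤ m ∧ I ^ (m + 1) ≤ Ideal.span ((fun g => g ^ (n + 1)) '' {g | g ∈ fs}) := by
  have hrad : I ≤ (Ideal.span ((fun g => g ^ (n + 1)) '' {g | g ∈ fs})).radical := by
    refine hI.trans (Ideal.span_le.2 ?_)
    intro g hg
    exact ⟨n + 1, Ideal.subset_span ⟨g, hg, rfl⟩⟩
  obtain ⟨k, hk⟩ := Ideal.exists_pow_le_of_le_radical_of_fg hrad (IsNoetherian.noetherian I)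
  exact ⟨max n k, le_max_left _ _,
    (Ideal.pow_le_pow_right (by have := le_max_right n k; omega)).trans hk⟩

end base

section main

variable [IsNoetherianRing A] (I : Ideal A) (fs : List A) (hfs : ∀ g ∈ fs, g ∈ I)
  (hI : I ≤ Ideal.span {g | g ∈ fs})
  (L : Cx A) (j : ℤ) (hL : ∀ i : ℤ, i ≠ j → IsZero (L.X i)) [Module.Finite A (L.X j)]

include hL

/-- the homology of the cones vanishes in degrees `≥ j` -/
lemma isZero_C_homology_of_ge (n : ℕ) (i : ℤ) (hi : j ≤ i) :
    IsZero (((Cs I fs hfs L).obj (op n)).homology i) := by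
  haveI := finite_B_homology L j
  obtain ⟨hG, -⟩ := kGood_kos_tensor L j (isZero_B_homology L j hL) fs
  have hex := cone_homology_exact₃ ((θs I fs hfs L).app (op n)) i (i + 1) rfl
  rcases hi.lt_or_eq with hlt | rfl
  · exact hex.isZero_of_both_zeros
      ((isZero_Y_homology I L j hL n i (by omega)).eq_of_src _ _)
      ((hG.vanish n (i + 1) (by omega)).eq_of_tgt _ _)
  · -- i = j
    have hepi := cone_homology_epi ((θs I fs hfs L).app (op n)) j (hG.vanish n (j + 1) (by omega))
    have hzero : HomologicalComplex.homologyMap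
        (mappingCone.inr ((θs I fs hfs L).app (op n))) j = 0 := by
      apply homologyMap_eq_zero_of_forall
      intro y
      obtain ⟨x, rfl⟩ := qπ_surjective I L j hL n y
      rw [qπ_eq I fs hfs L j n x, ← hm_comp]
      have h0 := cone_homologyMap_comp ((θs I fs hfs L).app (op n)) j
      rw [← HomologicalComplex.homologyMap_comp] at h0
      exact hm_zero_of_eq h0 _
    exact @IsZero.of_epi_eq_zero _ _ _ _ _ _ hepi hzero

/-- the homology of the cones vanishes in low degrees -/
lemma isZero_C_homology_of_lt (n : ℕ) (i : ℤ) (hi : i < j - fs.length - 1) :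
    IsZero (((Cs I fs hfs L).obj (op n)).homology i) := by
  haveI := finite_B_homology L j
  obtain ⟨hG, -⟩ := kGood_kos_tensor L j (isZero_B_homology L j hL) fs
  have hex := cone_homology_exact₃ ((θs I fs hfs L).app (op n)) i (i + 1) rfl
  exact hex.isZero_of_both_zeros
    ((isZero_Y_homology I L j hL n i (by omega)).eq_of_src _ _)
    ((hG.low n (i + 1) (by omega)).eq_of_tgt _ _)

omit [IsNoetherianRing A] [Module.Finite A (L.X j)] in
lemma δ_injective (n : ℕ) (i : ℤ) (hi : i ≠ j) :
    Function.Injective (coneδ ((θs I fs hfs L).app (op n)) i (i + 1) rfl).hom := by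
  have hex := cone_homology_exact₃ ((θs I fs hfs L).app (op n)) i (i + 1) rfl
  have hmono : Mono (coneδ ((θs I fs hfs L).app (op n)) i (i + 1) rfl) :=
    hex.mono_g_iff.mpr ((isZero_Y_homology I L j hL n i hi).eq_of_src _ _)
  exact (ModuleCat.mono_iff_injective _).1 hmono

omit hL [IsNoetherianRing A] [Module.Finite A (L.X j)] in
lemma δ_tr_C {n m : ℕ} (h : n ≤ m) (i : ℤ)
    (x : ((Cs I fs hfs L).obj (op m)).homology i) :
    (coneδ ((θs I fs hfs L).app (op n)) i (i + 1) rfl).hom
        (hm (ARSys.tr (Cs I fs hfs L) h) i x) =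
      hm (ARSys.tr (Xs fs L) h) (i + 1)
        ((coneδ ((θs I fs hfs L).app (op m)) i (i + 1) rfl).hom x) := by
  have := coneδ_naturality ((θs I fs hfs L).app (op m)) ((θs I fs hfs L).app (op n))
    (ARSys.tr (Xs fs L) h) (ARSys.tr (Ys I L) h)
    ((θs I fs hfs L).naturality (homOfLE h).op).symm i (i + 1) rfl
  exact LinearMap.congr_fun (congrArg ModuleCat.Hom.hom this) x

include hI in
/-- the homology systems of the cones are pro-zero -/
theorem base_pro (i : ℤ) (n : ℕ) :
    ∃ (m : ℕ) (h : n ≤ m), HomologicalComplex.homologyMap (ARSys.tr (Cs I fs hfs L) h) i = 0 := by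
  haveI := finite_B_homology L j
  obtain ⟨hG, hK⟩ := kGood_kos_tensor L j (isZero_B_homology L j hL) fs
  by_cases hij : j ≤ i
  · exact ⟨n, le_rfl, (isZero_C_homology_of_ge I fs hfs L j hL n i hij).eq_of_src _ _⟩
  by_cases hij' : i + 1 = j
  · -- the critical degree
    obtain ⟨m, hnm, hpow⟩ := exists_pow_le I fs hI n
    refine ⟨m, hnm, homologyMap_eq_zero_of_forall (fun x => ?_)⟩
    have hinj := δ_injective I fs hfs L j hL n i (by omega)
    suffices hs : hm (ARSys.tr (Xs fs L) hnm) (i + 1)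
        ((coneδ ((θs I fs hfs L).app (op m)) i (i + 1) rfl).hom x) = 0 from
      hinj ((δ_tr_C I fs hfs L hnm i x).trans (hs.trans (map_zero _).symm))
    subst hij'
    obtain ⟨y, hy⟩ := hG.surj m ((coneδ ((θs I fs hfs L).app (op m)) i (i + 1) rfl).hom x)
    rw [← hy, hG.compat]
    -- `y` is in the kernel of `qπ m`
    have hq : qπ I L (i + 1) m y = 0 := by
      rw [qπ_eq I fs hfs L (i + 1) m y, hy]
      have h0 := coneδ_comp ((θs I fs hfs L).app (op m)) i (i + 1) rfl
      exact LinearMap.congr_fun (congrArg ModuleCat.Hom.hom h0) x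
    have hy2 := qπ_ker I L (i + 1) hL m y hq
    have hy3 : y ∈ Ideal.span ((fun g => g ^ (n + 1)) '' {g | g ∈ fs}) •
        (⊤ : Submodule A ((Bc L).homology (i + 1))) := Submodule.smul_mono_left hpow hy2
    -- the generators kill the image of `kosπ n`
    have hann : ∀ r ∈ Ideal.span ((fun g => g ^ (n + 1)) '' {g | g ∈ fs}),
        ∀ z : (Bc L).homology (i + 1), kosπ L (i + 1) fs n (r • z) = 0 := by
      intro r hr
      induction hr using Submodule.span_induction with
      | mem r hr =>
        obtain ⟨g, hg, rfl⟩ := hr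
        intro z
        rw [map_smul]
        exact hK g hg n z
      | zero => intro z; rw [zero_smul, map_zero]
      | add a b _ _ ha hb => intro z; rw [add_smul, map_add, ha, hb, add_zero]
      | smul a b _ hb => intro z; rw [smul_eq_mul, mul_smul, map_smul, hb, smul_zero]
    exact Submodule.smul_induction_on hy3 (fun r hr z _ => hann r hr z)
      (fun a b ha hb => by rw [map_add, ha, hb, add_zero])
  · -- low degrees
    obtain ⟨m, hnm, h0⟩ := hG.pro (i + 1) (by omega) n
    refine ⟨m, hnm, homologyMap_eq_zero_of_forall (fun x => ?_)⟩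
    have hinj := δ_injective I fs hfs L j hL n i (by omega)
    exact hinj ((δ_tr_C I fs hfs L hnm i x).trans ((hm_zero_of_eq h0 _).trans (map_zero _).symm))

end main

end Groth.Agent.Lib.Helper10.KosPro
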