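import Mathlib
import Groth.Agent.Lib.Helper10KosProF
import Groth.Agent.S6587
import Groth.Agent.S6588
import Groth.Prelude.Def_DRing2
set_option backward.isDefEq.respectTransparency.types false

/-!
# Dévissage and the pro-isomorphism `Kos_n ⊗ K ⟶ (A/I^(n+1))[0] ⊗ K` in `D(A)` (helper10)
-/

set_option autoImplicit false
universe u
open CategoryTheory CategoryTheory.Limits Opposite MonoidalCategory CochainComplex HomologicalComplex
attribute [local instance] HasDerivedCategory.standard

namespace Groth.Agent.Lib.Helper10.KosPro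

open Groth.Agent.Lib.Helper1.KF Groth.Agent.Lib.Helper1.DT Groth.Agent.Lib.Helper10.ConeTensor
open DerivedCategory Pretriangulated

variable {A : Type u} [CommRing A]

/-- a module as a complex in degree `b` -/
noncomputable abbrev sg (b : ℤ) (M : ModuleCat.{u} A) : Cx A :=
  (HomologicalComplex.single (ModuleCat.{u} A) (ComplexShape.up ℤ) b).obj M

section devissage

variable (P : Cx A → Prop)
  (h0 : ∀ K : Cx A, IsZero K → P K)
  (hiso : ∀ K K' : Cx A, (K ≅ K') → P K → P K')
  (hses : ∀ S : ShortComplex (Cx A), (∀ n, (S.map (HomologicalComplex.eval _ _ n)).Splitting) →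
    P S.X₁ → P S.X₃ → P S.X₂)

include hses in
/-- peeling off the top term of a bounded above complex -/
lemma exists_step (E : Cx A) (b : ℤ) (hE : ∀ i : ℤ, b < i → IsZero (E.X i)) :
    ∃ C : Cx A, IsZero (C.X b) ∧ (∀ i : ℤ, i ≠ b → Nonempty (E.X i ≅ C.X i)) ∧
      (P (sg b (E.X b)) → P C → P E) := by
  obtain ⟨ι, hι⟩ : ∃ ι : sg b (E.X b) ⟶ E,
      ι.f b = (singleObjXSelf (ComplexShape.up ℤ) b (E.X b)).hom :=
    ⟨mkHomFromSingle (𝟙 _) (fun k hk => by
      obtain rfl : b + 1 = k := hk
      exact (hE (b + 1) (by omega)).eq_of_tgt _ _), by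
      rw [mkHomFromSingle_f, Category.comp_id]⟩
  have hmono : Mono ι := by
    apply HomologicalComplex.mono_of_mono_f
    intro i
    by_cases hi : i = b
    · subst hi
      rw [hι]
      infer_instance
    · exact (isZero_single_obj_X (ComplexShape.up ℤ) b (E.X b) i hi).mono _
  let S : ShortComplex (Cx A) := ShortComplex.mk ι (cokernel.π ι) (cokernel.condition ι)
  have hS : S.ShortExact :=
    { exact := ShortComplex.exact_cokernel ι
      mono_f := hmono
      epi_g := inferInstanceAs (Epi (cokernel.π ι)) }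
  have hSi : ∀ i : ℤ, (S.map (eval _ _ i)).ShortExact :=
    (HomologicalComplex.shortExact_iff_degreewise_shortExact S).1 hS
  have hiso' : ∀ i : ℤ, i ≠ b → IsIso ((cokernel.π ι).f i) := fun i hi =>
    (hSi i).isIso_g_iff.2 (isZero_single_obj_X (ComplexShape.up ℤ) b (E.X b) i hi)
  have hzero : IsZero ((cokernel ι).X b) :=
    (hSi b).isIso_f_iff.1 (by
      show IsIso (ι.f b)
      rw [hι]
      infer_instance)
  have hσ : ∀ n : ℤ, Nonempty ((S.map (eval _ _ n)).Splitting) := by
    intro n
    by_cases hn : n = b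
    · subst hn
      refine ⟨ShortComplex.Splitting.ofIsIsoOfIsZero _ ?_ hzero⟩
      show IsIso (ι.f n)
      rw [hι]
      infer_instance
    · exact ⟨ShortComplex.Splitting.ofIsZeroOfIsIso _
        (isZero_single_obj_X (ComplexShape.up ℤ) b (E.X b) n hn) (hiso' n hn)⟩
  refine ⟨cokernel ι, hzero, fun i hi => ?_, fun h₁ h₃ => ?_⟩
  · have := hiso' i hi
    exact ⟨asIso ((cokernel.π ι).f i)⟩
  · exact hses S (fun n => (hσ n).some) h₁ h₃

include h0 hiso hses in
/-- dévissage along the stupid truncations -/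
theorem P_of_bounded_aux (k : ℕ) : ∀ (E : Cx A) (a : ℤ),
    (∀ i : ℤ, (i < a ∨ a + k - 1 < i) → IsZero (E.X i)) →
    (∀ j : ℤ, P (sg j (E.X j))) → P E := by
  induction k with
  | zero =>
    intro E a hE _
    apply h0
    rw [IsZero.iff_id_eq_zero]
    ext i : 1
    exact (hE i (by
      by_cases h : i < a
      · exact Or.inl h
      · exact Or.inr (by push_cast; omega))).eq_of_src _ _
  | succ k ih =>
    intro E a hE hP
    have hc : a + ((k + 1 : ℕ) : ℤ) - 1 = a + k := by push_cast; ring
    rw [hc] at hE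
    obtain ⟨C, hCb, hCi, hstep⟩ := exists_step P hses E (a + k) (fun i hi => hE i (Or.inr hi))
    refine hstep (hP _) (ih C a ?_ ?_)
    · intro i hi
      by_cases hib : i = a + k
      · subst hib
        exact hCb
      · obtain ⟨e⟩ := hCi i hib
        exact (hE i (by omega)).of_iso e.symm
    · intro j
      by_cases hjb : j = a + k
      · subst hjb
        exact h0 _ (Functor.map_isZero _ hCb)
      · obtain ⟨e⟩ := hCi j hjb
        exact hiso _ _ ((HomologicalComplex.single (ModuleCat.{u} A) (ComplexShape.up ℤ) j).mapIso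
          e) (hP j)

include h0 hiso hses in
theorem P_of_bounded (E : Cx A) (a b : ℤ) (hE : DRing.VanishesOutside E a b)
    (hP : ∀ j : ℤ, P (sg j (E.X j))) : P E := by
  by_cases hab : a ≤ b + 1
  · obtain ⟨k, hk⟩ : ∃ k : ℕ, (k : ℤ) = b + 1 - a :=
      ⟨(b + 1 - a).toNat, Int.toNat_of_nonneg (by omega)⟩
    exact P_of_bounded_aux P h0 hiso hses k E a (fun i hi => hE i (by omega)) hP
  · apply h0
    rw [IsZero.iff_id_eq_zero]
    ext i : 1
    exact (hE i (by omega)).eq_of_src _ _

end devissage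

section mcTensor

variable {X Y : Sys A} (α : X ⟶ Y) (K : Cx A)

/-- cones commute with `- ⊗ K`, as systems -/
noncomputable def mcTensorIso :
    mcSys (Functor.whiskerRight α (tensorRight K)) ≅ mcSys α ⋙ tensorRight K :=
  NatIso.ofComponents (fun n => coneTensorIso (α.app n) K) (by
    intro n m g
    exact coneTensorHom_naturality (α.app n) (α.app m) (X.map g) (Y.map g)
      (α.naturality g).symm K)

end mcTensor

section transport

variable {S S' : Sys A}

lemma homologyMap_tr_eq_zero_of_iso (e : S ≅ S') {n m : ℕ} (h : n ≤ m) (i : ℤ)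
    (h0 : HomologicalComplex.homologyMap (ARSys.tr S h) i = 0) :
    HomologicalComplex.homologyMap (ARSys.tr S' h) i = 0 := by
  have : ARSys.tr S' h = e.inv.app (op m) ≫ ARSys.tr S h ≫ e.hom.app (op n) := by
    rw [tr_nat e.hom h, ← Category.assoc, ← NatTrans.comp_app, e.inv_hom_id]
    simp
  rw [this, HomologicalComplex.homologyMap_comp, HomologicalComplex.homologyMap_comp, h0,
    zero_comp, comp_zero]

/-- a common index for all degrees -/
lemma exists_common (S : Sys A) (a b : ℤ)
    (hb : ∀ (n : ℕ) (i : ℤ), (i < a ∨ b < i) → IsZero ((S.obj (op n)).homology i))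
    (hp : ∀ (i : ℤ) (n : ℕ), ∃ (m : ℕ) (h : n ≤ m),
      HomologicalComplex.homologyMap (ARSys.tr S h) i = 0) (n : ℕ) :
    ∃ (m : ℕ) (h : n ≤ m), ∀ q : ℤ, HomologicalComplex.homologyMap (ARSys.tr S h) q = 0 := by
  have key : ∀ k : ℕ, ∃ (m : ℕ) (h : n ≤ m), ∀ q : ℤ, q < a + k →
      HomologicalComplex.homologyMap (ARSys.tr S h) q = 0 := by
    intro k
    induction k with
    | zero =>
      exact ⟨n, le_rfl, fun q hq => (hb n q (Or.inl (by simpa using hq))).eq_of_tgt _ _⟩
    | succ k ih =>
      obtain ⟨m₁, h₁, hm₁⟩ := ih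
      obtain ⟨m₂, h₂, hm₂⟩ := hp (a + k) m₁
      refine ⟨m₂, h₁.trans h₂, fun q hq => ?_⟩
      rw [← tr_comp S h₁ h₂, HomologicalComplex.homologyMap_comp]
      by_cases hqk : q < a + k
      · rw [hm₁ q hqk, comp_zero]
      · obtain rfl : q = a + k := by push_cast at hq; omega
        rw [hm₂, zero_comp]
  obtain ⟨k, hk⟩ : ∃ k : ℕ, b < a + k := ⟨(b - a + 1).toNat, by omega⟩
  obtain ⟨m, h, hm⟩ := key k
  refine ⟨m, h, fun q => ?_⟩
  by_cases hq : q < a + k
  · exact hm q hq
  · exact (hb n q (Or.inr (by omega))).eq_of_tgt _ _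

end transport

section PZ

variable [IsNoetherianRing A] (I : Ideal A) (fs : List A) (hfs : ∀ g ∈ fs, g ∈ I)

/-- the system of cones of the augmentation -/
noncomputable abbrev Ds : Sys A := mcSys (aug I fs hfs)

/-- the property: `Q(D_n ⊗ K)` is pro-zero -/
def PZ (K : Cx A) : Prop :=
  DerCA.IsProZero ((Ds I fs hfs ⋙ tensorRight K) ⋙ DerivedCategory.Q)

omit [IsNoetherianRing A] in
lemma PZ.of_isZero (K : Cx A) (hK : IsZero K) : PZ I fs hfs K := by
  apply isProZero_of_isZero
  intro n
  show IsZero (DerivedCategory.Q.obj ((tensorLeft ((Ds I fs hfs).obj (op n))).obj K))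
  exact Functor.map_isZero _ (Functor.map_isZero _ hK)

omit [IsNoetherianRing A] in
lemma PZ.of_iso (K K' : Cx A) (e : K ≅ K') (h : PZ I fs hfs K) : PZ I fs hfs K' := by
  refine isProZero_of_iso ?_ h
  exact Functor.isoWhiskerRight
    (Functor.isoWhiskerLeft (Ds I fs hfs) ((tensoringRight (Cx A)).mapIso e)) DerivedCategory.Q

omit [IsNoetherianRing A] in
lemma PZ.of_ses (S : ShortComplex (Cx A))
    (σ : ∀ n, (S.map (HomologicalComplex.eval _ _ n)).Splitting)
    (h₁ : PZ I fs hfs S.X₁) (h₃ : PZ I fs hfs S.X₃) : PZ I fs hfs S.X₂ := by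
  refine isProZero_of_weakExact
    (Functor.whiskerRight
      (Functor.whiskerLeft (Ds I fs hfs) ((tensoringRight (Cx A)).map S.f)) DerivedCategory.Q)
    (Functor.whiskerRight
      (Functor.whiskerLeft (Ds I fs hfs) ((tensoringRight (Cx A)).map S.g)) DerivedCategory.Q)
    ?_ h₁ h₃
  intro n W φ hφ
  have hSn := tensorLeft_shortExact_of_splitting ((Ds I fs hfs).obj (op n)) S σ
  exact Triangle.coyoneda_exact₂ _ (DerivedCategory.triangleOfSES_distinguished hSn) φ hφ

variable (hI : I ≤ Ideal.span {g | g ∈ fs})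

include hI in
/-- the base case -/
theorem PZ.base (L : Cx A) (j : ℤ) (hL : ∀ i : ℤ, i ≠ j → IsZero (L.X i))
    [Module.Finite A (L.X j)] : PZ I fs hfs L := by
  -- the complex-level system and its properties
  let e : Cs I fs hfs L ≅ Ds I fs hfs ⋙ tensorRight L := mcTensorIso (aug I fs hfs) L
  have hb : ∀ (n : ℕ) (i : ℤ), (i < j - fs.length - 1 ∨ j - 1 < i) →
      IsZero (((Ds I fs hfs ⋙ tensorRight L).obj (op n)).homology i) := by
    intro n i hi
    have h1 : IsZero (((Cs I fs hfs L).obj (op n)).homology i) := by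
      rcases hi with hi | hi
      · exact isZero_C_homology_of_lt I fs hfs L j hL n i hi
      · exact isZero_C_homology_of_ge I fs hfs L j hL n i (by omega)
    exact h1.of_iso ((HomologicalComplex.homologyFunctor _ _ i).mapIso (e.app (op n)).symm)
  have hp : ∀ (i : ℤ) (n : ℕ), ∃ (m : ℕ) (h : n ≤ m),
      HomologicalComplex.homologyMap (ARSys.tr (Ds I fs hfs ⋙ tensorRight L) h) i = 0 := by
    intro i n
    obtain ⟨m, h, h0⟩ := base_pro I fs hfs hI L j hL i n
    exact ⟨m, h, homologyMap_tr_eq_zero_of_iso e h i h0⟩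
  have hcommon := exists_common (Ds I fs hfs ⋙ tensorRight L) (j - fs.length - 1) (j - 1) hb hp
  -- pass to the derived category
  have hk : (j - fs.length - 1 : ℤ) + ((fs.length + 1 : ℕ) : ℤ) - 1 = j - 1 := by
    push_cast; ring
  refine Groth.Agent.S6588.proZero_of_amp (fs.length + 1) (j - fs.length - 1) _ ?_ ?_ ?_
  · intro n
    show (DerivedCategory.Q.obj ((Ds I fs hfs ⋙ tensorRight L).obj (op n))).IsGE _
    rw [DerivedCategory.isGE_Q_obj_iff, CochainComplex.isGE_iff]
    intro i hi
    rw [HomologicalComplex.exactAt_iff_isZero_homology]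
    exact hb n i (Or.inl hi)
  · intro n
    show (DerivedCategory.Q.obj ((Ds I fs hfs ⋙ tensorRight L).obj (op n))).IsLE _
    rw [hk, DerivedCategory.isLE_Q_obj_iff, CochainComplex.isLE_iff]
    intro i hi
    rw [HomologicalComplex.exactAt_iff_isZero_homology]
    exact hb n i (Or.inr hi)
  · intro n
    obtain ⟨m, h, hm⟩ := hcommon n
    refine ⟨m, h, fun q => ?_⟩
    show (DerivedCategory.homologyFunctor (ModuleCat.{u} A) q).map
      (DerivedCategory.Q.map (ARSys.tr (Ds I fs hfs ⋙ tensorRight L) h)) = 0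
    have nat := (DerivedCategory.homologyFunctorFactors (ModuleCat.{u} A) q).hom.naturality
      (ARSys.tr (Ds I fs hfs ⋙ tensorRight L) h)
    have hz : (HomologicalComplex.homologyFunctor (ModuleCat.{u} A) (ComplexShape.up ℤ) q).map
        (ARSys.tr (Ds I fs hfs ⋙ tensorRight L) h) = 0 := hm q
    rw [hz, comp_zero] at nat
    have h2 := congrArg (fun t => t ≫
      (DerivedCategory.homologyFunctorFactors (ModuleCat.{u} A) q).inv.app _) nat
    simp only [Category.assoc, Iso.hom_inv_id_app, Category.comp_id, zero_comp] at h2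
    exact h2

include hI in
/-- `Q(D_n ⊗ K)` is pro-zero for every bounded complex of finite modules -/
theorem PZ.of_bounded (K : Cx A) (a b : ℤ) (hK : DRing.VanishesOutside K a b)
    (hKf : ∀ i : ℤ, Module.Finite A (K.X i)) : PZ I fs hfs K := by
  refine P_of_bounded (PZ I fs hfs) (PZ.of_isZero I fs hfs) (PZ.of_iso I fs hfs)
    (PZ.of_ses I fs hfs) K a b hK (fun j => ?_)
  haveI : Module.Finite A ((sg j (K.X j)).X j) :=
    Module.Finite.equiv (singleObjXSelf (ComplexShape.up ℤ) j (K.X j)).symm.toLinearEquiv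
  exact PZ.base I fs hfs hI (sg j (K.X j)) j
    (fun i hi => isZero_single_obj_X (ComplexShape.up ℤ) j (K.X j) i hi)

end PZ

end Groth.Agent.Lib.Helper10.KosPro
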