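import Mathlib
import Groth.Agent.Lib.Helper10KosProG
import Groth.Agent.Lib.Helper1DT3
import Groth.Prelude.Def_DTen
set_option backward.isDefEq.respectTransparency.types false

/-!
# `K ⊗^L A/I^(n+1) ⟶ K ⊗ A/I^(n+1)` is a pro-isomorphism (helper10)
-/

set_option autoImplicit false
universe u
open CategoryTheory CategoryTheory.Limits Opposite MonoidalCategory CochainComplex HomologicalComplex
attribute [local instance] HasDerivedCategory.standard

namespace Groth.Agent.Lib.Helper10.KosPro

open Groth.Agent.Lib.Helper1.KF Groth.Agent.Lib.Helper1.DT Groth.Agent.Lib.Helper10.ConeTensor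
open DerivedCategory Pretriangulated DerCA

variable {A : Type u} [CommRing A]

section tri

variable {X Y : Sys A} (θ : X ⟶ Y)

/-- the connecting morphisms of the cones, as a morphism of systems in `D(A)` -/
noncomputable def mcδ :
    mcSys θ ⋙ DerivedCategory.Q ⟶ (X ⋙ DerivedCategory.Q) ⋙ shiftFunctor _ (1 : ℤ) where
  app n := DerivedCategory.Q.map (mappingCone.triangle (θ.app n)).mor₃ ≫
    (DerivedCategory.Q.commShiftIso (1 : ℤ)).hom.app (X.obj n)
  naturality n m g := by
    have h1 : (mappingCone.triangle (θ.app n)).mor₃ ≫ (X.map g)⟦(1 : ℤ)⟧' =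
        (mcSys θ).map g ≫ (mappingCone.triangle (θ.app m)).mor₃ :=
      (mappingCone.triangleMap (θ.app n) (θ.app m) (X.map g) (Y.map g)
        (θ.naturality g).symm).comm₃
    have h2 := (DerivedCategory.Q.commShiftIso (1 : ℤ)).hom.naturality (X.map g)
    dsimp only [Functor.comp_map] at h2 ⊢
    have e1 : DerivedCategory.Q.map ((mcSys θ).map g) ≫
          DerivedCategory.Q.map (mappingCone.triangle (θ.app m)).mor₃ =
        DerivedCategory.Q.map (mappingCone.triangle (θ.app n)).mor₃ ≫
          DerivedCategory.Q.map ((X.map g)⟦(1 : ℤ)⟧') := by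
      rw [← Functor.map_comp, ← Functor.map_comp]
      exact congrArg (fun t => DerivedCategory.Q.map t) h1.symm
    rw [reassoc_of% e1]
    simp only [Category.assoc]
    refine (Category.assoc _ _ _).trans ?_
    exact congrArg (fun t => DerivedCategory.Q.map (mappingCone.triangle (θ.app n)).mor₃ ≫ t) h2

/-- the morphism `f` is a pro-isomorphism when the cones are pro-zero -/
theorem isProIso_of_mc (hZ : IsProZero (mcSys θ ⋙ DerivedCategory.Q)) :
    IsProIso (Functor.whiskerRight θ DerivedCategory.Q) := by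
  refine Groth.Agent.S6587.result (X ⋙ DerivedCategory.Q) (Y ⋙ DerivedCategory.Q)
    (mcSys θ ⋙ DerivedCategory.Q) (Functor.whiskerRight θ DerivedCategory.Q)
    (Functor.whiskerRight (mcInr θ) DerivedCategory.Q) (mcδ θ) ?_ hZ
  intro n
  rw [DerivedCategory.mem_distTriang_iff]
  exact ⟨_, _, θ.app (op n), ⟨Iso.refl _⟩⟩

end tri

section kflat

lemma kflat_unit' : KFlat (𝟙_ (Cx A)) := fun L hL => Acyc.of_iso (ρ_ L).symm hL

lemma kflat_Kos : ∀ (fs : List A) (n : ℕ), KFlat ((Kos fs).obj (op n))
  | [], _ => kflat_unit'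
  | f :: fs, n => KFlat.cone (f ^ (n + 1) • 𝟙 ((Kos fs).obj (op n))) (kflat_Kos fs n) (kflat_Kos fs n)

end kflat

section main

variable [IsNoetherianRing A] (I : Ideal A) (fs : List A) (hfs : ∀ g ∈ fs, g ∈ I)
  (hI : I ≤ Ideal.span {g | g ∈ fs})

include hI in
/-- Lemma B: `Q(Kos_n ⊗ K) ⟶ Q(T_n ⊗ K)` is a pro-isomorphism -/
theorem isProIso_θs (K : Cx A) (a b : ℤ) (hK : DRing.VanishesOutside K a b)
    (hKf : ∀ i : ℤ, Module.Finite A (K.X i)) :
    IsProIso (Functor.whiskerRight (θs I fs hfs K) DerivedCategory.Q) := by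
  apply isProIso_of_mc
  have hZ := PZ.of_bounded I fs hfs hI K a b hK hKf
  exact isProZero_of_iso
    (Functor.isoWhiskerRight (mcTensorIso (aug I fs hfs) K).symm DerivedCategory.Q) hZ

omit [IsNoetherianRing A] in
lemma unit_bounded : DRing.VanishesOutside (𝟙_ (Cx A)) 0 0 := by
  intro i hi
  exact isZero_single_obj_X (ComplexShape.up ℤ) 0 _ i (by omega)

omit [IsNoetherianRing A] in
lemma unit_finite (i : ℤ) : Module.Finite A ((𝟙_ (Cx A)).X i) := by
  by_cases hi : i = 0
  · subst hi
    exact Module.Finite.equiv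
      (singleObjXSelf (ComplexShape.up ℤ) 0 (ModuleCat.of A A)).symm.toLinearEquiv
  · have hz : IsZero ((𝟙_ (Cx A)).X i) := isZero_single_obj_X (ComplexShape.up ℤ) 0 _ i hi
    haveI : Subsingleton ((𝟙_ (Cx A)).X i) := ModuleCat.subsingleton_of_isZero hz
    infer_instance

include hI in
/-- Lemma A: `Q(Kos_n) ⟶ Q(T_n)` is a pro-isomorphism -/
theorem isProIso_aug : IsProIso (Functor.whiskerRight (aug I fs hfs) DerivedCategory.Q) := by
  have h := isProIso_θs I fs hfs hI (𝟙_ (Cx A)) 0 0 unit_bounded unit_finite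
  refine IsProIso.of_conj h
    (NatIso.ofComponents (fun n => DerivedCategory.Q.mapIso (ρ_ ((Kos fs).obj n)).symm) ?_)
    (NatIso.ofComponents (fun n => DerivedCategory.Q.mapIso (ρ_ ((Tsys I).obj n)).symm) ?_) ?_
  · intro n m g
    dsimp only [Functor.comp_map, Functor.mapIso_hom, Iso.symm_hom]
    rw [← Functor.map_comp, ← Functor.map_comp]
    congr 1
    exact rightUnitor_inv_naturality _
  · intro n m g
    dsimp only [Functor.comp_map, Functor.mapIso_hom, Iso.symm_hom]
    rw [← Functor.map_comp, ← Functor.map_comp]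
    congr 1
    exact rightUnitor_inv_naturality _
  · ext n : 2
    dsimp only [NatTrans.comp_app, Functor.whiskerRight_app, NatIso.ofComponents_hom_app,
      Functor.mapIso_hom, Iso.symm_hom]
    rw [← Functor.map_comp, ← Functor.map_comp]
    congr 1
    exact rightUnitor_inv_naturality _

include hI in
/-- Lemma B with `K` on the left -/
theorem isProIso_aug_left (K : Cx A) (a b : ℤ) (hK : DRing.VanishesOutside K a b)
    (hKf : ∀ i : ℤ, Module.Finite A (K.X i)) :
    IsProIso (Functor.whiskerRight (aug I fs hfs) (tensorLeft K ⋙ DerivedCategory.Q)) := by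
  have h := isProIso_θs I fs hfs hI K a b hK hKf
  have nat : ∀ {n m : ℕᵒᵖ} (g : n ⟶ m) (S : Sys A),
      (K ◁ S.map g) ≫ (DTen.braidCx K (S.obj m)).hom =
        (DTen.braidCx K (S.obj n)).hom ≫ (S.map g ▷ K) := by
    intro n m g S
    have := DTen.braidCx_naturality (𝟙 K) (S.map g)
    rwa [id_tensorHom, tensorHom_id] at this
  refine IsProIso.of_conj h
    (NatIso.ofComponents (fun n => DerivedCategory.Q.mapIso (DTen.braidCx K ((Kos fs).obj n))) ?_)
    (NatIso.ofComponents (fun n => DerivedCategory.Q.mapIso (DTen.braidCx K ((Tsys I).obj n))) ?_) ?_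
  · intro n m g
    dsimp only [Functor.comp_map, Functor.mapIso_hom]
    rw [← Functor.map_comp, ← Functor.map_comp]
    exact congrArg (fun t => DerivedCategory.Q.map t) (nat g (Kos fs))
  · intro n m g
    dsimp only [Functor.comp_map, Functor.mapIso_hom]
    rw [← Functor.map_comp, ← Functor.map_comp]
    exact congrArg (fun t => DerivedCategory.Q.map t) (nat g (Tsys I))
  · ext n : 2
    dsimp only [NatTrans.comp_app, Functor.whiskerRight_app, NatIso.ofComponents_hom_app,
      Functor.mapIso_hom, Functor.comp_map]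
    rw [← Functor.map_comp, ← Functor.map_comp]
    have := DTen.braidCx_naturality (𝟙 K) ((aug I fs hfs).app n)
    rw [id_tensorHom, tensorHom_id] at this
    exact congrArg (fun t => DerivedCategory.Q.map t) this

variable [DTen.HasLTen A]

omit hI in
theorem isProIso_εLeft_aux (fs : List A) (hfs : ∀ g ∈ fs, g ∈ I)
    (hI : I ≤ Ideal.span {g | g ∈ fs}) (K : Cx A) (a b : ℤ) (hK : DRing.VanishesOutside K a b)
    (hKf : ∀ i : ℤ, Module.Finite A (K.X i)) :
    IsProIso (Functor.whiskerLeft (Tsys I) (DTen.εLeft A K)) := by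
  have w := isProIso_aug_left I fs hfs hI K a b hK hKf
  have hu : IsProIso (Functor.whiskerRight (aug I fs hfs)
      (DerivedCategory.Q ⋙ (DTen.LTen A).obj (DerivedCategory.Q.obj K))) := by
    have := IsProIso.whiskerRight (isProIso_aug I fs hfs hI)
      ((DTen.LTen A).obj (DerivedCategory.Q.obj K))
    intro n
    obtain ⟨m, h, b, hb1, hb2⟩ := this n
    exact ⟨m, h, b, hb1, hb2⟩
  have he : IsProIso (Functor.whiskerLeft (Kos fs) (DTen.εLeft A K)) :=
    isProIso_of_isIso _ (fun n => isIso_ε_of_kflat K _ (Or.inr (kflat_Kos fs n)))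
  have sq : Functor.whiskerRight (aug I fs hfs)
        (DerivedCategory.Q ⋙ (DTen.LTen A).obj (DerivedCategory.Q.obj K)) ≫
        Functor.whiskerLeft (Tsys I) (DTen.εLeft A K) =
      Functor.whiskerLeft (Kos fs) (DTen.εLeft A K) ≫
        Functor.whiskerRight (aug I fs hfs) (tensorLeft K ⋙ DerivedCategory.Q) := by
    ext n : 2
    exact (DTen.εLeft A K).naturality _
  exact IsProIso.of_comp_left hu (by rw [sq]; exact IsProIso.comp he w)

omit [IsNoetherianRing A] [DTen.HasLTen A] in
lemma exists_list (I : Ideal A) (hI : I.FG) :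
    ∃ fs : List A, (∀ g ∈ fs, g ∈ I) ∧ I ≤ Ideal.span {g | g ∈ fs} := by
  obtain ⟨s, hs⟩ := hI
  refine ⟨s.toList, fun g hg => ?_, ?_⟩
  · rw [← hs]
    exact Ideal.subset_span (Finset.mem_toList.1 hg)
  · rw [← hs]
    exact Ideal.span_mono (fun g hg => Finset.mem_toList.2 hg)

/-- the main theorem -/
theorem isProIso_εLeft (K : Cx A) (a b : ℤ) (hK : DRing.VanishesOutside K a b)
    (hKf : ∀ i : ℤ, Module.Finite A (K.X i)) :
    IsProIso (Functor.whiskerLeft (Tsys I) (DTen.εLeft A K)) := by
  obtain ⟨fs, hfs, hI⟩ := exists_list I (IsNoetherian.noetherian I)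
  exact isProIso_εLeft_aux I fs hfs hI K a b hK hKf

end main

end Groth.Agent.Lib.Helper10.KosPro
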