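import Mathlib
import Groth.Agent.Lib.Helper10KosProH
import Groth.Agent.Lib.Helper10DTenB
set_option backward.isDefEq.respectTransparency.types false

/-!
# `A/I^(n+1) ⊗^L K ⟶ A/I^(n+1) ⊗ K` is a pro-isomorphism; a factorisation lemma (helper10)
-/

set_option autoImplicit false
universe u
open CategoryTheory CategoryTheory.Limits Opposite MonoidalCategory CochainComplex HomologicalComplex
attribute [local instance] HasDerivedCategory.standard

namespace Groth.Agent.Lib.Helper10.KosPro

open Groth.Agent.Lib.Helper1.KF Groth.Agent.Lib.Helper1.DT Groth.Agent.Lib.Helper10.ConeTensor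
open DerivedCategory Pretriangulated DerCA

variable {A : Type u} [CommRing A]

section right

variable [IsNoetherianRing A] [DTen.HasLTen A] (I : Ideal A)

theorem isProIso_εRight_aux (fs : List A) (hfs : ∀ g ∈ fs, g ∈ I)
    (hI : I ≤ Ideal.span {g | g ∈ fs}) (K : Cx A) (a b : ℤ) (hK : DRing.VanishesOutside K a b)
    (hKf : ∀ i : ℤ, Module.Finite A (K.X i)) :
    IsProIso (Functor.whiskerLeft (Tsys I) (DTen.εRight A K)) := by
  have w : IsProIso (Functor.whiskerRight (aug I fs hfs) (DRing.tensorCxQ A K)) := by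
    have := isProIso_θs I fs hfs hI K a b hK hKf
    intro n
    obtain ⟨m, h, b, hb1, hb2⟩ := this n
    exact ⟨m, h, b, hb1, hb2⟩
  have hu : IsProIso (Functor.whiskerRight (aug I fs hfs)
      (DerivedCategory.Q ⋙ (DTen.LTen A).flip.obj (DerivedCategory.Q.obj K))) := by
    have := IsProIso.whiskerRight (isProIso_aug I fs hfs hI)
      ((DTen.LTen A).flip.obj (DerivedCategory.Q.obj K))
    intro n
    obtain ⟨m, h, b, hb1, hb2⟩ := this n
    exact ⟨m, h, b, hb1, hb2⟩
  have he : IsProIso (Functor.whiskerLeft (Kos fs) (DTen.εRight A K)) :=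
    isProIso_of_isIso _ (fun n => isIso_ε_of_kflat _ K (Or.inl (kflat_Kos fs n)))
  have sq : Functor.whiskerRight (aug I fs hfs)
        (DerivedCategory.Q ⋙ (DTen.LTen A).flip.obj (DerivedCategory.Q.obj K)) ≫
        Functor.whiskerLeft (Tsys I) (DTen.εRight A K) =
      Functor.whiskerLeft (Kos fs) (DTen.εRight A K) ≫
        Functor.whiskerRight (aug I fs hfs) (DRing.tensorCxQ A K) := by
    ext n : 2
    exact (DTen.εRight A K).naturality _
  exact IsProIso.of_comp_left hu (by rw [sq]; exact IsProIso.comp he w)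

/-- the right-handed version of the main theorem -/
theorem isProIso_εRight (K : Cx A) (a b : ℤ) (hK : DRing.VanishesOutside K a b)
    (hKf : ∀ i : ℤ, Module.Finite A (K.X i)) :
    IsProIso (Functor.whiskerLeft (Tsys I) (DTen.εRight A K)) := by
  obtain ⟨fs, hfs, hI⟩ := exists_list I (IsNoetherian.noetherian I)
  exact isProIso_εRight_aux I fs hfs hI K a b hK hKf

end right

section zero

variable (I : Ideal A)

lemma smul_Abar {r : A} (n : ℕ) (hr : r ∈ I ^ (n + 1)) (z : Abar I n) : r • z = 0 := by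
  induction z using Submodule.Quotient.induction_on with
  | H a =>
    rw [← Submodule.Quotient.mk_smul, Submodule.Quotient.mk_eq_zero]
    exact Submodule.smul_mem_smul hr Submodule.mem_top

/-- `A/I^(n+1) ⊗ I^(n+1)M ⟶ A/I^(n+1) ⊗ M` is zero -/
lemma whiskerLeft_subtype_eq_zero (n : ℕ) (M : Type u) [AddCommGroup M] [Module A M] :
    (Abar I n) ◁ (ModuleCat.ofHom (I ^ (n + 1) • (⊤ : Submodule A M)).subtype) = 0 := by
  refine ModuleCat.hom_ext (TensorProduct.ext' fun z x => ?_)
  show z ⊗ₜ[A] ((x : M)) = 0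
  obtain ⟨x, hx⟩ := x
  show z ⊗ₜ[A] x = 0
  refine Submodule.smul_induction_on hx (fun r hr y _ => ?_) (fun a b ha hb => ?_)
  · rw [← TensorProduct.smul_tmul, smul_Abar I n hr, TensorProduct.zero_tmul]
  · rw [TensorProduct.tmul_add, ha, hb, add_zero]

variable (L : Cx A)

lemma sglι_naturality_right (M : ModuleCat.{u} A) {L L' : Cx A} (g : L ⟶ L') (i : ℤ) :
    sglι M L i ≫ (sgl M ◁ g).f i = (M ◁ g.f i) ≫ sglι M L' i := by
  unfold sglι
  rw [Category.assoc, ι_whiskerLeft, ← Category.assoc, ← Category.assoc, whisker_exchange]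

/-- `(A/I^(n+1))[0] ⊗ (I^(n+1)M)[0] ⟶ (A/I^(n+1))[0] ⊗ M[0]` is zero -/
lemma whiskerLeft_single_subtype_eq_zero (n : ℕ) (M : Type u) [AddCommGroup M] [Module A M] :
    (Tsys I).obj (op n) ◁ (HomologicalComplex.single (ModuleCat.{u} A) (ComplexShape.up ℤ) 0).map
      (ModuleCat.ofHom (I ^ (n + 1) • (⊤ : Submodule A M)).subtype) = 0 := by
  show sgl (Abar I n) ◁ _ = 0
  ext i : 1
  have h1 := sglι_naturality_right (Abar I n)
    ((HomologicalComplex.single (ModuleCat.{u} A) (ComplexShape.up ℤ) 0).map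
      (ModuleCat.ofHom (I ^ (n + 1) • (⊤ : Submodule A M)).subtype)) i
  have h2 : (Abar I n) ◁ ((HomologicalComplex.single (ModuleCat.{u} A) (ComplexShape.up ℤ) 0).map
      (ModuleCat.ofHom (I ^ (n + 1) • (⊤ : Submodule A M)).subtype)).f i = 0 := by
    by_cases hi : i = 0
    · subst hi
      rw [HomologicalComplex.single_map_f_self, MonoidalCategory.whiskerLeft_comp,
        MonoidalCategory.whiskerLeft_comp, whiskerLeft_subtype_eq_zero, zero_comp, comp_zero]
    · have hz : ((HomologicalComplex.single (ModuleCat.{u} A) (ComplexShape.up ℤ) 0).map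
          (ModuleCat.ofHom (I ^ (n + 1) • (⊤ : Submodule A M)).subtype)).f i = 0 :=
        (isZero_single_obj_X (ComplexShape.up ℤ) 0 _ i hi).eq_of_src _ _
      rw [hz, MonoidalPreadditive.whiskerLeft_zero]
  rw [h2, zero_comp] at h1
  have h3 := congrArg (fun t => sglπ (Abar I n) _ i ≫ t) h1
  simp only [comp_zero] at h3
  rw [← Category.assoc, sglπ_sglι, Category.id_comp] at h3
  exact h3

end zero

end Groth.Agent.Lib.Helper10.KosPro
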