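import Mathlib

/-!
# Krull dimension and lifting of chains (helper10)
-/

set_option autoImplicit false
open Topology TopologicalSpace Set

namespace Groth.Agent.Lib.Helper10.KrullLift

universe u v

section Abstract

variable {α : Type u} {β : Type v} [Preorder α] [Preorder β]

/-- Chains lift along a map with the "going-down" lifting property. -/
theorem exists_ltSeries_of_liftDown (g : β → α)
    (hlift : ∀ b a, a < g b → ∃ b', b' < b ∧ g b' = a) :
    ∀ (n : ℕ) (p : LTSeries α), p.length = n → ∀ b, g b = p.last →
      ∃ q : LTSeries β, q.length = n ∧ q.last = b := by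
  intro n
  induction n with
  | zero =>
    intro p _ b _
    exact ⟨RelSeries.singleton _ b, rfl, RelSeries.last_singleton b⟩
  | succ n ih =>
    intro p hp b hb
    have hne : p.length ≠ 0 := by omega
    have hrel : p.eraseLast.last < p.last := p.eraseLast_last_rel_last hne
    rw [← hb] at hrel
    obtain ⟨b', hb'lt, hb'⟩ := hlift b _ hrel
    obtain ⟨q', hq'len, hq'last⟩ := ih p.eraseLast (by simp [hp]) b' hb'
    refine ⟨q'.snoc b (by rw [hq'last]; exact hb'lt), ?_, ?_⟩
    · simp [hq'len]
    · simp

theorem krullDim_le_of_liftDown (g : β → α) (hg : Function.Surjective g)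
    (hlift : ∀ b a, a < g b → ∃ b', b' < b ∧ g b' = a) :
    Order.krullDim α ≤ Order.krullDim β := by
  unfold Order.krullDim
  apply iSup_le
  intro p
  obtain ⟨b, hb⟩ := hg p.last
  obtain ⟨q, hq, _⟩ := exists_ltSeries_of_liftDown g hlift p.length p rfl b hb
  rw [← hq]
  exact le_iSup (fun q : LTSeries β => (q.length : WithBot ℕ∞)) q

theorem krullDim_le_of_liftUp (g : β → α) (hg : Function.Surjective g)
    (hlift : ∀ b a, g b < a → ∃ b', b < b' ∧ g b' = a) :
    Order.krullDim α ≤ Order.krullDim β := by
  rw [← Order.krullDim_orderDual (α := α), ← Order.krullDim_orderDual (α := β)]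
  exact krullDim_le_of_liftDown (α := αᵒᵈ) (β := βᵒᵈ) g hg (fun b a h => hlift b a h)

end Abstract

/-- A copy of `X` with the specialization order: `a ≤ b` iff `b ⤳ a`. -/
structure SpecOrd (X : Type u) where
  /-- underlying point -/
  pt : X

instance {X : Type u} [TopologicalSpace X] : Preorder (SpecOrd X) where
  le a b := b.pt ⤳ a.pt
  le_refl a := specializes_rfl
  le_trans a b c hab hbc := hbc.trans hab

theorem SpecOrd.le_def {X : Type u} [TopologicalSpace X] {a b : SpecOrd X} :
    a ≤ b ↔ b.pt ⤳ a.pt := Iff.rfl

theorem SpecOrd.lt_def {X : Type u} [TopologicalSpace X] {a b : SpecOrd X} :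
    a < b ↔ b.pt ⤳ a.pt ∧ ¬ a.pt ⤳ b.pt := Iff.rfl

/-- The Krull dimension of the specialization order is at most the topological Krull dimension. -/
theorem krullDim_specOrd_le {X : Type u} [TopologicalSpace X] :
    Order.krullDim (SpecOrd X) ≤ topologicalKrullDim X := by
  unfold topologicalKrullDim
  apply Order.krullDim_le_of_strictMono
    (fun a : SpecOrd X => (⟨closure {a.pt}, isIrreducible_singleton.closure, isClosed_closure⟩ :
      IrreducibleCloseds X))
  intro a b hab
  rw [SpecOrd.lt_def] at hab
  rw [lt_iff_le_not_ge]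
  constructor
  · change closure {a.pt} ⊆ closure {b.pt}
    exact hab.1.closure_subset
  · intro hle
    have : closure {b.pt} ⊆ closure {a.pt} := hle
    exact hab.2 (specializes_iff_closure_subset.mpr this)

end Groth.Agent.Lib.Helper10.KrullLift
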