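import Mathlib
import Groth.Agent.Lib.Helper10CurveFin

set_option autoImplicit false
universe u
open CategoryTheory CategoryTheory.Limits AlgebraicGeometry TopologicalSpace

namespace Groth.Agent.Lib.Helper10.UnivInj

open Groth.Agent.Lib.Helper10

/-- every point is a specialization of a maximal point -/
lemma exists_maximal_specializes {T : Type*} [TopologicalSpace T] [QuasiSober T] (z : T) :
    ∃ ζ : T, ζ ⤳ z ∧ ∀ ζ', ζ' ⤳ ζ → ζ ⤳ ζ' := by
  obtain ⟨ζ, hζ⟩ := QuasiSober.sober (isIrreducible_irreducibleComponent (x := z))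
    isClosed_irreducibleComponent
  refine ⟨ζ, ?_, fun ζ' h => ?_⟩
  · rw [specializes_iff_mem_closure, hζ.def]
    exact mem_irreducibleComponent
  · have h1 : irreducibleComponent z ⊆ closure {ζ'} := by
      rw [← hζ.def]
      exact closure_minimal (Set.singleton_subset_iff.mpr (specializes_iff_mem_closure.mp h))
        isClosed_closure
    have h2 := eq_irreducibleComponent (isIrreducible_singleton (x := ζ')).closure.isPreirreducible h1
    rw [specializes_iff_mem_closure, hζ.def, ← h2]
    exact subset_closure rfl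

set_option backward.isDefEq.respectTransparency.types false in
set_option backward.defeqAttrib.useBackward true in
lemma eq_of_comp_eq_of_surjective {X Y : Scheme.{u}} (f : X ⟶ Y) (K : Type u) [Field K]
    (g₁ g₂ : Spec (.of K) ⟶ X) (hg : g₁ ≫ f = g₂ ≫ f)
    (e : g₁ (IsLocalRing.closedPoint K) = g₂ (IsLocalRing.closedPoint K))
    (hs : Function.Surjective (f.residueFieldMap (g₁ (IsLocalRing.closedPoint K))).hom) :
    g₁ = g₂ := by
  obtain ⟨e', h⟩ := Scheme.SpecToEquivOfField_eq_iff.mp congr((Y.SpecToEquivOfField K) $(hg))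
  apply (X.SpecToEquivOfField K).injective
  dsimp at e' h
  simp only [Scheme.descResidueField_stalkClosedPointTo_comp] at e' h
  rw [← f.residueFieldMap_congr'_assoc e, CommRingCat.hom_ext_iff] at h
  rw [Scheme.SpecToEquivOfField_eq_iff]
  refine ⟨e, CommRingCat.hom_ext ?_⟩
  exact (RingHom.cancel_right hs).mp h

theorem main {X Y : Scheme.{u}} (f : X ⟶ Y) [Flat f] [IsSeparated f]
    (h2 : ∀ ξ : X, closure ({ξ} : Set X) ∈ irreducibleComponents (X : Type u) →
      Function.Surjective (f.residueFieldMap ξ).hom)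
    (h3 : Set.InjOn f.base {ξ : X | closure ({ξ} : Set X) ∈ irreducibleComponents (X : Type u)}) :
    UniversallyInjective f := by
  rw [UniversallyInjective.iff_diagonal]
  have hcl : IsClosed (Set.range (pullback.diagonal f)) :=
    (pullback.diagonal f).isClosedEmbedding.isClosed_range
  refine ⟨fun z => ?_⟩
  obtain ⟨ζ, hζz, hζmax⟩ := exists_maximal_specializes z
  suffices hζ : ζ ∈ Set.range (pullback.diagonal f) from hζz.mem_closed hcl hζ
  have hflat1 : Flat (pullback.fst f f) := inferInstance
  have hflat2 : Flat (pullback.snd f f) := inferInstance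
  have hmax : ∀ (p : pullback f f ⟶ X), Flat p →
      closure ({p ζ} : Set X) ∈ irreducibleComponents (X : Type u) := by
    intro p hp
    apply CurveFin.closure_mem_irreducibleComponents_of_forall
    intro ξ' hξ'
    obtain ⟨ζ', hζ', rfl⟩ := (Flat.generalizingMap p) hξ'
    exact (hζmax ζ' hζ').map p.continuous
  have hξ : pullback.fst f f ζ = pullback.snd f f ζ := by
    apply h3 (hmax _ hflat1) (hmax _ hflat2)
    rw [← Scheme.Hom.comp_apply, ← Scheme.Hom.comp_apply, pullback.condition]
  let φ := (pullback f f).fromSpecResidueField ζ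
  have hφpt : φ (IsLocalRing.closedPoint _) = ζ := Scheme.fromSpecResidueField_apply ..
  have hc : (φ ≫ pullback.fst f f) ≫ f = (φ ≫ pullback.snd f f) ≫ f := by
    simp only [Category.assoc, pullback.condition]
  have hpt1 : (φ ≫ pullback.fst f f) (IsLocalRing.closedPoint _) = pullback.fst f f ζ :=
    congrArg (pullback.fst f f) hφpt
  have hpt2 : (φ ≫ pullback.snd f f) (IsLocalRing.closedPoint _) = pullback.snd f f ζ :=
    congrArg (pullback.snd f f) hφpt
  have hs : Function.Surjective (f.residueFieldMap
      ((φ ≫ pullback.fst f f) (IsLocalRing.closedPoint _))).hom := by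
    rw [hpt1]
    exact h2 _ (hmax _ hflat1)
  have hφ₁ : φ ≫ pullback.fst f f = φ ≫ pullback.snd f f :=
    eq_of_comp_eq_of_surjective f _ _ _ hc (hpt1.trans (hξ.trans hpt2.symm)) hs
  have hφ₂ : φ = (φ ≫ pullback.fst f f) ≫ pullback.diagonal f := by cat_disch
  refine ⟨(φ ≫ pullback.fst f f) (IsLocalRing.closedPoint _), ?_⟩
  have h4 : ((φ ≫ pullback.fst f f) ≫ pullback.diagonal f) (IsLocalRing.closedPoint _) = ζ := by
    rw [← hφ₂]; exact hφpt
  exact h4

end Groth.Agent.Lib.Helper10.UnivInj
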