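import Mathlib.Tactic
import Mathlib.AlgebraicGeometry.Restrict
import Mathlib.AlgebraicGeometry.Gluing
import Mathlib.AlgebraicGeometry.AffineScheme
import Groth.Prelude.Def_W4c5cptfessfintypeLocImm

/-!
# Localizing immersions are monomorphisms (helper27)
-/

set_option autoImplicit false
universe u
open CategoryTheory AlgebraicGeometry

namespace Groth.Agent.Lib.Helper27.LocImmLib

/-- a localizing ring map is an epimorphism of commutative rings. -/
lemma epi_of_isLocHom {A B : CommRingCat.{u}} (φ : A ⟶ B) (h : LocImm.IsLocHom φ.hom) : Epi φ := by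
  letI := φ.hom.toAlgebra
  obtain ⟨S, hS⟩ := h
  refine ⟨fun {Z} g₁ g₂ hg => ?_⟩
  ext1
  apply IsLocalization.ringHom_ext S
  have := congrArg CommRingCat.Hom.hom hg
  simp only [CommRingCat.hom_comp] at this
  exact this

variable {X Y : Scheme.{u}}

/-- A localizing immersion is a monomorphism of schemes. -/
theorem mono_of_isLocImmersion (f : X ⟶ Y) (hf : LocImm.IsLocImmersion f) : Mono f := by
  obtain ⟨hloc, hinj⟩ := hf
  refine ⟨fun {T} g₁ g₂ h => ?_⟩
  have hbase : ∀ t : T, g₁ t = g₂ t := by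
    intro t
    apply hinj
    have := congrArg (fun k : T ⟶ Y => k t) h
    simpa using this
  apply Scheme.hom_ext_of_forall
  intro t
  obtain ⟨U, V, hxV, e, hUV⟩ := hloc (g₁ t)
  have hW : g₁ ⁻¹ᵁ V.1 ≤ g₂ ⁻¹ᵁ V.1 := by
    intro s hs
    change g₂ s ∈ V.1
    rw [← hbase s]
    exact hs
  refine ⟨g₁ ⁻¹ᵁ V.1, hxV, ?_⟩
  haveI : IsAffine V.1.toScheme := V.2
  have hl : g₁.resLE V.1 (g₁ ⁻¹ᵁ V.1) le_rfl = g₂.resLE V.1 (g₁ ⁻¹ᵁ V.1) hW := by
    apply ext_of_isAffine
    have hr : g₁.resLE V.1 (g₁ ⁻¹ᵁ V.1) le_rfl ≫ f.resLE U.1 V.1 e =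
        g₂.resLE V.1 (g₁ ⁻¹ᵁ V.1) hW ≫ f.resLE U.1 V.1 e := by
      rw [← cancel_mono U.1.ι]
      simp only [Category.assoc, Scheme.Hom.resLE_comp_ι, Scheme.Hom.resLE_comp_ι_assoc, h]
    have hepi : Epi (f.resLE U.1 V.1 e).appTop := by
      rw [show (f.resLE U.1 V.1 e).appTop = (f.resLE U.1 V.1 e).app ⊤ from rfl,
        Scheme.Hom.resLE_app_top]
      haveI := epi_of_isLocHom _ hUV
      infer_instance
    have := congrArg Scheme.Hom.appTop hr
    rw [Scheme.Hom.comp_appTop, Scheme.Hom.comp_appTop] at this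
    exact (cancel_epi _).mp this
  have := congrArg (fun k => k ≫ V.1.ι) hl
  simpa using this

end Groth.Agent.Lib.Helper27.LocImmLib
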