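import Mathlib
import Groth.Prelude.Def_W4c5cptfessfintypeLocImm
import Groth.Agent.Lib.Helper27LocImm
import Groth.Agent.Lib.Helper10UnivInj

/-!
# Localizing morphisms and localizing immersions (helper10)

* `isIso_stalkMap_of_isLocalizing` : stalk maps of a localizing morphism are isomorphisms.
* `exists_specializes_of_isIso_stalkMap` : generizations lift along a stalk iso.
* `isInducing_of_noetherianSpace`, `isOpen_of_isClosed_of_stableUnderGeneralization` : topology.
* `isEmbedding_of_isLocImmersion`, `flat_of_isLocalizing`.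
-/

set_option autoImplicit false
universe u
open CategoryTheory AlgebraicGeometry TopologicalSpace

namespace Groth.Agent.Lib.Helper10.LocImmLib

/-- local ring hom of a localization map is bijective. -/
lemma bijective_localRingHom_of_isLocalization {A B : Type u} [CommRing A] [CommRing B]
    [Algebra A B] (S : Submonoid A) [IsLocalization S B] (q : Ideal B) [q.IsPrime] :
    Function.Bijective (Localization.localRingHom (q.comap (algebraMap A B)) q
      (algebraMap A B) rfl) := by
  set p := q.comap (algebraMap A B) with hp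
  have : IsLocalization.AtPrime (Localization.AtPrime q) p :=
    IsLocalization.isLocalization_isLocalization_atPrime_isLocalization S (Localization.AtPrime q) q
  let e : Localization.AtPrime p ≃ₐ[A] Localization.AtPrime q :=
    IsLocalization.algEquiv p.primeCompl _ _
  have : (Localization.localRingHom p q (algebraMap A B) rfl) =
      (e : Localization.AtPrime p →+* Localization.AtPrime q) := by
    apply IsLocalization.ringHom_ext p.primeCompl
    ext a
    simp [Localization.localRingHom_to_map, e,
      IsScalarTower.algebraMap_apply A B (Localization.AtPrime q)]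
  rw [this]
  exact e.bijective

lemma bijective_localRingHom_of_isLocHom {A B : Type u} [CommRing A] [CommRing B]
    (φ : A →+* B) (h : LocImm.IsLocHom φ) (q : Ideal B) [q.IsPrime] :
    Function.Bijective (Localization.localRingHom (q.comap φ) q φ rfl) := by
  letI := φ.toAlgebra
  obtain ⟨S, hS⟩ := h
  exact bijective_localRingHom_of_isLocalization S q

lemma bijective_respectsIso : RingHom.RespectsIso
    (fun {R S : Type u} [CommRing R] [CommRing S] (φ : R →+* S) => Function.Bijective φ) := by
  constructor
  · intro R S T _ _ _ f e hf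
    exact e.bijective.comp hf
  · intro R S T _ _ _ f e hf
    exact hf.comp e.bijective

variable {X Y : Scheme.{u}}

set_option backward.isDefEq.respectTransparency false in
lemma isIso_stalkMap_of_isLocHom (f : X ⟶ Y) {U : Y.Opens} {V : X.Opens} (hU : IsAffineOpen U)
    (hV : IsAffineOpen V) (e : V ≤ f ⁻¹ᵁ U) (h : LocImm.IsLocHom (f.appLE U V e).hom)
    (x : X) (hx : x ∈ V) : IsIso (f.stalkMap x) := by
  obtain ⟨p, rfl⟩ : ∃ p, hV.fromSpec p = x := by
    have : x ∈ Set.range hV.fromSpec := by rw [hV.range_fromSpec]; exact hx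
    exact this
  have key := IsAffineOpen.SpecMap_appLE_fromSpec f hU hV e
  have h1 : stalkwise (fun φ => Function.Bijective φ) (Spec.map (f.appLE U V e)) := by
    rw [stalkwise_SpecMap_iff bijective_respectsIso]
    intro q hq
    exact bijective_localRingHom_of_isLocHom _ h q
  have h2 : stalkwise (fun φ => Function.Bijective φ)
      (Spec.map (f.appLE U V e) ≫ hU.fromSpec) := by
    intro q
    rw [Scheme.Hom.stalkMap_comp, CommRingCat.hom_comp, bijective_respectsIso.cancel_left_isIso]
    exact h1 q
  rw [key] at h2
  have h3 := h2 p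
  rw [Scheme.Hom.stalkMap_comp, CommRingCat.hom_comp,
    bijective_respectsIso.cancel_right_isIso] at h3
  exact (ConcreteCategory.isIso_iff_bijective _).mpr h3

/-- Stalk maps of a localizing morphism are isomorphisms. -/
theorem isIso_stalkMap_of_isLocalizing (f : X ⟶ Y) (hf : LocImm.IsLocalizing f) (x : X) :
    IsIso (f.stalkMap x) := by
  obtain ⟨U, V, hx, e, h⟩ := hf x
  exact isIso_stalkMap_of_isLocHom f U.2 V.2 e h x hx

/-- A localizing morphism is flat. -/
theorem flat_of_isLocalizing (f : X ⟶ Y) (hf : LocImm.IsLocalizing f) : Flat f := by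
  rw [HasRingHomProperty.iff_exists_appLE (P := @Flat)
    (RingHom.Flat.stableUnderComposition.stableUnderCompositionWithLocalizationAway
      RingHom.Flat.holdsForLocalizationAway).1]
  intro x
  obtain ⟨U, V, hxV, e, hUV⟩ := hf x
  refine ⟨U, V, hxV, e, ?_⟩
  unfold LocImm.IsLocHom at hUV
  obtain ⟨S, hS⟩ := hUV
  exact @IsLocalization.flat _ _ _ _ (f.appLE U V e).hom.toAlgebra S hS

/-- If the stalk map at `x` is an isomorphism, generizations of `f x` lift to generizations
of `x`. -/
lemma exists_specializes_of_isIso_stalkMap (f : X ⟶ Y) (x : X) [IsIso (f.stalkMap x)]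
    (y : Y) (hy : y ⤳ f x) : ∃ x' : X, x' ⤳ x ∧ f x' = y := by
  have hy' : y ∈ Set.range (Y.fromSpecStalk (f x)) := by
    rw [Scheme.range_fromSpecStalk]; exact hy
  obtain ⟨z, rfl⟩ := hy'
  have hiso : IsIso (Spec.map (f.stalkMap x)) := inferInstance
  obtain ⟨w, rfl⟩ : ∃ w, Spec.map (f.stalkMap x) w = z :=
    ⟨(inv (Spec.map (f.stalkMap x))) z, by
      rw [← Scheme.Hom.comp_apply]; simp⟩
  refine ⟨X.fromSpecStalk x w, ?_, ?_⟩
  · have : X.fromSpecStalk x w ∈ Set.range (X.fromSpecStalk x) := ⟨w, rfl⟩
    rw [Scheme.range_fromSpecStalk] at this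
    exact this
  · rw [← Scheme.Hom.comp_apply, ← Scheme.SpecMap_stalkMap_fromSpecStalk, Scheme.Hom.comp_apply]

/-- In a Noetherian quasi-sober space, an injective continuous map along which generizations lift
is inducing. -/
lemma isInducing_of_noetherianSpace {α β : Type*} [TopologicalSpace α] [TopologicalSpace β]
    [NoetherianSpace α] [QuasiSober α] (f : α → β) (hc : Continuous f)
    (hinj : Function.Injective f)
    (hgen : ∀ x y, y ⤳ f x → ∃ x', x' ⤳ x ∧ f x' = y) : Topology.IsInducing f := by
  constructor
  apply TopologicalSpace.ext_isClosed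
  intro C
  rw [isClosed_induced_iff]
  constructor
  · intro hC
    refine ⟨closure (f '' C), isClosed_closure, ?_⟩
    ext x
    constructor
    · intro hx
      change f x ∈ closure (f '' C) at hx
      obtain ⟨S, hSfin, hScl, hSirr, hCeq⟩ :=
        NoetherianSpace.exists_finite_set_isClosed_irreducible hC
      have h1 : closure (f '' C) ⊆ ⋃ t ∈ S, closure (f '' t) := by
        apply closure_minimal
        · rw [hCeq, Set.sUnion_eq_biUnion, Set.image_iUnion₂]
          exact Set.iUnion₂_mono fun t ht => subset_closure
        · exact hSfin.isClosed_biUnion fun t ht => isClosed_closure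
      obtain ⟨t, ht, hxt⟩ := Set.mem_iUnion₂.mp (h1 hx)
      obtain ⟨ξ, hξ⟩ := QuasiSober.sober (hSirr t ht) (hScl t ht)
      have h2 : closure (f '' t) ⊆ closure {f ξ} := by
        apply closure_minimal _ isClosed_closure
        rw [← hξ.def]
        exact (image_closure_subset_closure_image hc).trans (by simp)
      have h3 : f ξ ⤳ f x := specializes_iff_mem_closure.mpr (h2 hxt)
      obtain ⟨x', hx', hfx'⟩ := hgen x (f ξ) h3
      obtain rfl := hinj hfx'
      rw [hCeq]
      refine ⟨t, ht, ?_⟩
      rw [← hξ.def]
      exact specializes_iff_mem_closure.mp hx'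
    · intro hx
      exact subset_closure (Set.mem_image_of_mem f hx)
  · rintro ⟨D, hD, rfl⟩
    exact hD.preimage hc

/-- In a Noetherian quasi-sober space, a closed set stable under generization is open. -/
lemma isOpen_of_isClosed_of_stableUnderGeneralization {β : Type*} [TopologicalSpace β]
    [NoetherianSpace β] [QuasiSober β] {Z : Set β} (hZ : IsClosed Z)
    (hg : StableUnderGeneralization Z) : IsOpen Z := by
  obtain ⟨S, hSfin, hScl, hSirr, hCeq⟩ :=
    NoetherianSpace.exists_finite_set_isClosed_irreducible
      (isClosed_univ : IsClosed (Set.univ : Set β))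
  rw [← isClosed_compl_iff]
  have : Zᶜ = ⋃ t ∈ {t ∈ S | ¬ t ⊆ Z}, t := by
    ext y
    simp only [Set.mem_compl_iff, Set.mem_iUnion, Set.mem_ofPred_eq, exists_prop]
    constructor
    · intro hy
      have : y ∈ ⋃₀ S := hCeq ▸ Set.mem_univ y
      obtain ⟨t, ht, hyt⟩ := this
      exact ⟨t, ⟨ht, fun h => hy (h hyt)⟩, hyt⟩
    · rintro ⟨t, ⟨ht, hnt⟩, hyt⟩ hy
      apply hnt
      obtain ⟨ξ, hξ⟩ := QuasiSober.sober (hSirr t ht) (hScl t ht)
      have : ξ ⤳ y := by
        rw [specializes_iff_mem_closure, hξ.def]; exact hyt
      have hξZ : ξ ∈ Z := hg this hy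
      rw [← hξ.def]
      exact closure_minimal (by simpa using hξZ) hZ
  rw [this]
  exact (hSfin.subset (fun t ht => ht.1)).isClosed_biUnion fun t ht => hScl t ht.1

/-- The range of a localizing morphism is stable under generization. -/
theorem stableUnderGeneralization_range (f : X ⟶ Y) (hf : LocImm.IsLocalizing f) :
    StableUnderGeneralization (Set.range (fun x => f x)) := by
  rintro y y' hy ⟨x, rfl⟩
  haveI := isIso_stalkMap_of_isLocalizing f hf x
  obtain ⟨x', -, rfl⟩ := exists_specializes_of_isIso_stalkMap f x y' hy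
  exact ⟨x', rfl⟩

/-- A localizing immersion with Noetherian source is a topological embedding. -/
theorem isEmbedding_of_isLocImmersion [IsNoetherian X] (f : X ⟶ Y)
    (hf : LocImm.IsLocImmersion f) : Topology.IsEmbedding (fun x => f x) := by
  refine ⟨isInducing_of_noetherianSpace _ f.continuous hf.2 ?_, hf.2⟩
  intro x y hy
  haveI := isIso_stalkMap_of_isLocalizing f hf.1 x
  exact exists_specializes_of_isIso_stalkMap f x y hy

theorem main18203 [IsNoetherian X] (f : X ⟶ Y) (hf : LocImm.IsLocImmersion f) :
    Topology.IsEmbedding (fun x => f x) ∧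
      StableUnderGeneralization (Set.range (fun x => f x)) ∧ ∀ x : X, IsIso (f.stalkMap x) :=
  ⟨isEmbedding_of_isLocImmersion f hf, stableUnderGeneralization_range f hf.1,
    isIso_stalkMap_of_isLocalizing f hf.1⟩

theorem main18205 [IsNoetherian X] [IsNoetherian Y] (f : X ⟶ Y) (hf : LocImm.IsLocImmersion f)
    (hc : IsClosed (Set.range (fun x => f x))) : IsOpenImmersion f := by
  haveI := isIso_stalkMap_of_isLocalizing f hf.1
  refine IsOpenImmersion.of_isIso_stalkMap f ⟨isEmbedding_of_isLocImmersion f hf, ?_⟩
  exact isOpen_of_isClosed_of_stableUnderGeneralization hc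
    (stableUnderGeneralization_range f hf.1)

/-- A separated localizing morphism which is injective on maximal points is universally
injective (no Noetherian hypothesis). -/
theorem universallyInjective_of_isLocalizing (f : X ⟶ Y) (hf : LocImm.IsLocalizing f)
    [IsSeparated f]
    (h : Set.InjOn (fun x => f x) {x : X | ∀ x' : X, x' ⤳ x → x' = x}) :
    UniversallyInjective f := by
  haveI := flat_of_isLocalizing f hf
  have hmax : ∀ ξ : X, closure ({ξ} : Set X) ∈ irreducibleComponents (X : Type u) →
      ∀ x' : X, x' ⤳ ξ → x' = ξ := by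
    intro ξ hξ x' hx'
    have h1 : closure ({ξ} : Set X) ⊆ closure {x'} := by
      apply closure_minimal _ isClosed_closure
      simpa using specializes_iff_mem_closure.mp hx'
    have h2 : closure ({x'} : Set X) ⊆ closure {ξ} :=
      hξ.2 isIrreducible_singleton.closure h1
    have h3 : ξ ⤳ x' := specializes_iff_mem_closure.mpr (h2 (subset_closure rfl))
    exact (hx'.antisymm h3).eq
  apply Groth.Agent.Lib.Helper10.UnivInj.main f
  · intro ξ _
    haveI := isIso_stalkMap_of_isLocalizing f hf ξ
    intro a
    obtain ⟨a', rfl⟩ := IsLocalRing.residue_surjective a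
    obtain ⟨b, rfl⟩ := ((ConcreteCategory.isIso_iff_bijective (f.stalkMap ξ)).mp inferInstance).2 a'
    exact ⟨IsLocalRing.residue _ b, rfl⟩
  · intro a ha b hb hab
    exact h (hmax a ha) (hmax b hb) hab

theorem main18197 (f : X ⟶ Y) (hf : LocImm.IsLocalizing f) :
    Function.Injective f.base ↔ (IsSeparated f ∧
      Set.InjOn (fun x => f x) {x : X | ∀ x' : X, x' ⤳ x → x' = x}) := by
  constructor
  · intro hinj
    haveI : Mono f := Groth.Agent.Lib.Helper27.LocImmLib.mono_of_isLocImmersion f ⟨hf, hinj⟩
    exact ⟨inferInstance, fun a _ b _ hab => hinj hab⟩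
  · rintro ⟨hsep, h⟩
    haveI := universallyInjective_of_isLocalizing f hf h
    exact Scheme.Hom.injective f

end Groth.Agent.Lib.Helper10.LocImmLib
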