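import Mathlib
import Groth.Agent.Lib.Helper10LocImm

/-!
# Localizing immersions II (helper10)

* `isLocHom_of_square`, `main18208` : local affine form of localizing immersions.
* `hasRingHomProperty_isLocalizing` : `LocImm.IsLocalizing` is the morphism property attached to
  `RingHom.Locally LocImm.IsLocHom`; stable under base change. `main18202`.
* `main18195`.
-/

set_option autoImplicit false
universe u
open CategoryTheory AlgebraicGeometry TopologicalSpace Limits

namespace Groth.Agent.Lib.Helper10.LocImmLib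


/-- In a commutative square whose top map is a localization and whose vertical maps are
localizations away from `a` and `φ a`, the bottom map is a localization. -/
lemma isLocHom_of_square {A B A' B' : Type u} [CommRing A] [CommRing B] [CommRing A']
    [CommRing B'] (φ : A →+* B) (α : A →+* A') (β : B →+* B') (ψ : A' →+* B')
    (hcomm : ψ.comp α = β.comp φ) (hφ : LocImm.IsLocHom φ) (a : A)
    (hα : @IsLocalization.Away _ _ a A' _ α.toAlgebra)
    (hβ : @IsLocalization.Away _ _ (φ a) B' _ β.toAlgebra) : LocImm.IsLocHom ψ := by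
  letI := φ.toAlgebra
  letI := α.toAlgebra
  letI := β.toAlgebra
  letI := ψ.toAlgebra
  letI : Algebra A B' := (β.comp φ).toAlgebra
  haveI : IsScalarTower A B B' := .of_algebraMap_eq' rfl
  haveI : IsScalarTower A A' B' := .of_algebraMap_eq' hcomm.symm
  obtain ⟨S, hS⟩ := hφ
  have h1 : IsLocalization (IsLocalization.localizationLocalizationSubmodule S
      (Submonoid.powers (algebraMap A B a))) B' :=
    IsLocalization.localization_localization_isLocalization S
      (Submonoid.powers (algebraMap A B a)) B'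
  have hle : Submonoid.powers a ≤ IsLocalization.localizationLocalizationSubmodule S
      (Submonoid.powers (algebraMap A B a)) := by
    rw [Submonoid.powers_le, IsLocalization.mem_localizationLocalizationSubmodule]
    exact ⟨⟨algebraMap A B a, Submonoid.mem_powers _⟩, 1, by simp⟩
  exact ⟨_, IsLocalization.isLocalization_of_submonoid_le A' B' (Submonoid.powers a) _ hle⟩


section A


variable {X Y : Scheme.{u}}

/-- injectivity on an affine chart -/
lemma eq_of_isLocHom_app (f : X ⟶ Y) {V : Y.Opens} (hV : IsAffineOpen V)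
    (hW : IsAffineOpen (f ⁻¹ᵁ V)) (h : LocImm.IsLocHom (f.app V).hom) {x₁ x₂ : X}
    (h₁ : f x₁ ∈ V) (h₂ : f x₂ ∈ V) (hx : f x₁ = f x₂) : x₁ = x₂ := by
  obtain ⟨p₁, rfl⟩ : ∃ p, hW.fromSpec p = x₁ := by
    have : x₁ ∈ Set.range hW.fromSpec := by rw [hW.range_fromSpec]; exact h₁
    exact this
  obtain ⟨p₂, rfl⟩ : ∃ p, hW.fromSpec p = x₂ := by
    have : x₂ ∈ Set.range hW.fromSpec := by rw [hW.range_fromSpec]; exact h₂
    exact this
  congr 1
  have key := IsAffineOpen.SpecMap_appLE_fromSpec f hV hW le_rfl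
  have h3 : (Spec.map (f.appLE V (f ⁻¹ᵁ V) le_rfl)) p₁ = (Spec.map (f.appLE V (f ⁻¹ᵁ V) le_rfl)) p₂ := by
    apply hV.fromSpec.isOpenEmbedding.injective
    rw [← Scheme.Hom.comp_apply, ← Scheme.Hom.comp_apply, key, Scheme.Hom.comp_apply,
      Scheme.Hom.comp_apply]
    exact hx
  rw [Scheme.Hom.appLE_eq_app] at h3
  letI := (f.app V).hom.toAlgebra
  obtain ⟨S, hS⟩ := h
  exact PrimeSpectrum.localization_comap_injective Γ(X, f ⁻¹ᵁ V) S h3

theorem main18208 [IsNoetherian X] (f : X ⟶ Y) :
    LocImm.IsLocImmersion f ↔ ∀ x : X, ∃ V : Y.Opens, f x ∈ V ∧ IsAffineOpen V ∧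
      IsAffineOpen (f ⁻¹ᵁ V) ∧ LocImm.IsLocHom (f.app V).hom := by
  constructor
  · intro hf x
    obtain ⟨U, V0, hx, e, hloc⟩ := hf.1 x
    have hind := (isEmbedding_of_isLocImmersion f hf).isInducing
    have hV0 : (V0.1 : Set X) ∈ nhds x := V0.1.2.mem_nhds hx
    rw [hind.nhds_eq_comap, Filter.mem_comap] at hV0
    obtain ⟨T', hT', hT'V⟩ := hV0
    obtain ⟨T, hTT', hTo, hxT⟩ := mem_nhds_iff.mp hT'
    let To : Y.Opens := ⟨T, hTo⟩ ⊓ U.1
    have hxTo : f x ∈ To := ⟨hxT, e hx⟩
    obtain ⟨a, ha, hxa⟩ := U.2.exists_basicOpen_le ⟨f x, hxTo⟩ (e hx)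
    have hpre : f ⁻¹ᵁ (Y.basicOpen a) ≤ V0.1 := by
      intro z hz
      apply hT'V
      exact hTT' (ha hz).1
    have hclaim : f ⁻¹ᵁ (Y.basicOpen a) = X.basicOpen (f.appLE U.1 V0.1 e a) := by
      rw [Scheme.Hom.appLE, CommRingCat.comp_apply, Scheme.basicOpen_res,
        ← Scheme.preimage_basicOpen]
      exact (inf_eq_right.mpr hpre).symm
    refine ⟨Y.basicOpen a, hxa, U.2.basicOpen a, ?_, ?_⟩
    · rw [hclaim]; exact V0.2.basicOpen _
    · refine isLocHom_of_square (f.appLE U.1 V0.1 e).hom
        (Y.presheaf.map (homOfLE (Y.basicOpen_le a)).op).hom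
        (X.presheaf.map (homOfLE hpre).op).hom _ ?_ hloc a ?_ ?_
      · rw [← CommRingCat.hom_comp, ← CommRingCat.hom_comp]
        congr 1
        rw [Scheme.Hom.appLE_map, ← Scheme.Hom.appLE_eq_app, Scheme.Hom.map_appLE]
      · exact U.2.isLocalization_basicOpen a
      · exact V0.2.isLocalization_of_eq_basicOpen _ (homOfLE hpre) hclaim
  · intro h
    refine ⟨fun x => ?_, fun x₁ x₂ hx => ?_⟩
    · obtain ⟨V, hxV, hV, hW, hloc⟩ := h x
      refine ⟨⟨V, hV⟩, ⟨f ⁻¹ᵁ V, hW⟩, hxV, le_rfl, ?_⟩
      rw [Scheme.Hom.appLE_eq_app]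
      exact hloc
    · obtain ⟨V, hxV, hV, hW, hloc⟩ := h x₁
      have hx' : f.base x₁ = f.base x₂ := hx
      exact eq_of_isLocHom_app f hV hW hloc hxV (hx' ▸ hxV) hx'


end A

section B


lemma isLocHom_algebraMap {A B : Type u} [CommRing A] [CommRing B] [Algebra A B]
    (M : Submonoid A) [h : IsLocalization M B] : LocImm.IsLocHom (algebraMap A B) := by
  refine ⟨M, ?_⟩
  convert h
  exact Algebra.algebra_ext _ _ (fun r => rfl)

lemma exists_isLocalization_of_isLocHom_algebraMap {A B : Type u} [CommRing A] [CommRing B]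
    [Algebra A B] (h : LocImm.IsLocHom (algebraMap A B)) : ∃ M : Submonoid A, IsLocalization M B := by
  obtain ⟨M, hM⟩ := h
  refine ⟨M, ?_⟩
  convert hM
  exact Algebra.algebra_ext _ _ (fun r => rfl)

lemma isLocHom_stableUnderComposition : RingHom.StableUnderComposition
    (fun {R S : Type u} [CommRing R] [CommRing S] (φ : R →+* S) => LocImm.IsLocHom φ) := by
  intro R S T _ _ _ f g hf hg
  letI := f.toAlgebra
  letI := g.toAlgebra
  letI := (g.comp f).toAlgebra
  haveI : IsScalarTower R S T := .of_algebraMap_eq' rfl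
  obtain ⟨M, hM⟩ := hf
  obtain ⟨N, hN⟩ := hg
  exact ⟨_, IsLocalization.localization_localization_isLocalization M N T⟩

lemma isLocHom_holdsForLocalizationAway : RingHom.HoldsForLocalizationAway
    (fun {R S : Type u} [CommRing R] [CommRing S] (φ : R →+* S) => LocImm.IsLocHom φ) := by
  intro R S _ _ _ r _
  exact isLocHom_algebraMap (Submonoid.powers r)

lemma isLocHom_respectsIso : RingHom.RespectsIso
    (fun {R S : Type u} [CommRing R] [CommRing S] (φ : R →+* S) => LocImm.IsLocHom φ) := by
  apply isLocHom_stableUnderComposition.respectsIso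
  intro R S _ _ e
  letI := e.toRingHom.toAlgebra
  refine ⟨⊥, ?_⟩
  exact IsLocalization.of_le_isUnit_of_bijective (by
    rintro x ⟨y, hy, rfl⟩
    obtain rfl : y = 1 := Submonoid.mem_bot.mp hy
    simp) e.bijective

lemma isLocHom_isStableUnderBaseChange : RingHom.IsStableUnderBaseChange
    (fun {R S : Type u} [CommRing R] [CommRing S] (φ : R →+* S) => LocImm.IsLocHom φ) := by
  apply RingHom.IsStableUnderBaseChange.mk isLocHom_respectsIso
  intro R S T _ _ _ _ _ h
  obtain ⟨M, hM⟩ := exists_isLocalization_of_isLocHom_algebraMap h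
  exact isLocHom_algebraMap (Algebra.algebraMapSubmonoid S M)

lemma isLocHom_stableUnderCompositionWithLocalizationAway :
    RingHom.StableUnderCompositionWithLocalizationAway
    (fun {R S : Type u} [CommRing R] [CommRing S] (φ : R →+* S) => LocImm.IsLocHom φ) :=
  isLocHom_stableUnderComposition.stableUnderCompositionWithLocalizationAway
    isLocHom_holdsForLocalizationAway

instance hasRingHomProperty_isLocalizing :
    HasRingHomProperty @LocImm.IsLocalizing
      (RingHom.Locally (fun {R S : Type u} [CommRing R] [CommRing S] (φ : R →+* S) =>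
        LocImm.IsLocHom φ)) :=
  HasRingHomProperty.locally_of_iff
    isLocHom_isStableUnderBaseChange.localizationPreserves.away
    isLocHom_stableUnderCompositionWithLocalizationAway
    (fun _ => Iff.rfl)

instance isLocalizing_isStableUnderBaseChange :
    MorphismProperty.IsStableUnderBaseChange @LocImm.IsLocalizing :=
  HasRingHomProperty.isStableUnderBaseChange
    (RingHom.locally_isStableUnderBaseChange isLocHom_respectsIso isLocHom_isStableUnderBaseChange)

variable {X Y Y' : Scheme.{u}}

theorem main18202 (f : X ⟶ Y) (g : Y' ⟶ Y) (hf : LocImm.IsLocImmersion f) :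
    LocImm.IsLocImmersion (pullback.snd f g) := by
  haveI : Mono f := Groth.Agent.Lib.Helper27.LocImmLib.mono_of_isLocImmersion f hf
  refine ⟨isLocalizing_isStableUnderBaseChange.of_isPullback (IsPullback.of_hasPullback f g) hf.1, ?_⟩
  exact Scheme.Hom.injective (pullback.snd f g)


end B

section C
variable {X Y : Scheme.{u}}


/-- A localization followed by a surjection with injective composite is a localization. -/
lemma isLocHom_comp_of_surjective_of_injective {A B B' : Type u} [CommRing A] [CommRing B]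
    [CommRing B'] (φ : A →+* B) (π : B →+* B') (hφ : LocImm.IsLocHom φ)
    (hπ : Function.Surjective π) (hinj : Function.Injective (π.comp φ)) :
    LocImm.IsLocHom (π.comp φ) := by
  have hπinj : Function.Injective π := by
    rw [RingHom.injective_iff_ker_eq_bot]
    letI := φ.toAlgebra
    obtain ⟨S, hS⟩ := hφ
    have h1 := IsLocalization.map_under S B (RingHom.ker π)
    have h2 : Ideal.comap (algebraMap A B) (RingHom.ker π) = ⊥ := by
      rw [RingHom.comap_ker]
      exact (RingHom.injective_iff_ker_eq_bot _).mp hinj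
    rw [show Ideal.under A (RingHom.ker π) = ⊥ from h2, Ideal.map_bot] at h1
    exact h1.symm
  exact isLocHom_respectsIso.1 φ (RingEquiv.ofBijective π ⟨hπinj, hπ⟩) hφ

lemma isNoetherian_of_isLocalizing (f : X ⟶ Y) [IsNoetherian Y] [QuasiCompact f]
    (hf : LocImm.IsLocalizing f) : IsNoetherian X := by
  have hloc : IsLocallyNoetherian X := by
    choose U V hx e h using hf
    apply isLocallyNoetherian_of_affine_cover (S := V)
    · rw [eq_top_iff]
      intro x _
      exact Opens.mem_iSup.mpr ⟨x, hx x⟩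
    · intro x
      letI := (f.appLE (U x) (V x) (e x)).hom.toAlgebra
      obtain ⟨S, hS⟩ := h x
      have := IsLocallyNoetherian.component_noetherian (U x)
      exact IsLocalization.isNoetherianRing S _ this
  have : CompactSpace X := QuasiCompact.compactSpace_of_compactSpace f
  exact ⟨⟩

set_option backward.isDefEq.respectTransparency false in
lemma key18195 {P : Scheme.{u}} (γ : X ⟶ P) (p : P ⟶ Y) [IsClosedImmersion γ] (U : Y.Opens)
    (hW : IsAffineOpen (p ⁻¹ᵁ U)) (hloc : LocImm.IsLocHom (p.app U).hom)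
    (hinj : Function.Injective ((γ ≫ p).app U).hom) :
    IsAffineOpen ((γ ≫ p) ⁻¹ᵁ U) ∧ LocImm.IsLocHom ((γ ≫ p).app U).hom := by
  refine ⟨hW.preimage γ, ?_⟩
  have hsurj := (isClosedImmersion_iff_isAffineHom.mp ‹IsClosedImmersion γ›).2 _ hW
  rw [Scheme.Hom.comp_app, CommRingCat.hom_comp] at hinj ⊢
  exact isLocHom_comp_of_surjective_of_injective _ _ hloc hsurj hinj

theorem main18195 {Z : Scheme.{u}} [IsNoetherian X] [IsNoetherian Y] (f : X ⟶ Y) (g : Y ⟶ Z)
    (hfg : LocImm.IsLocImmersion (f ≫ g)) [IsSeparated g]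
    (hd : ∀ U : Y.Opens, Function.Injective (f.app U).hom) : LocImm.IsLocImmersion f := by
  have hinj : Function.Injective f.base := by
    intro a b hab
    apply hfg.2
    change g.base (f.base a) = g.base (f.base b)
    rw [hab]
  refine ⟨?_, hinj⟩
  have hp : LocImm.IsLocImmersion (pullback.snd (f ≫ g) g) := main18202 _ g hfg
  haveI : IsNoetherian (pullback (f ≫ g) g) := isNoetherian_of_isLocalizing _ hp.1
  have hγp : pullback.lift (𝟙 X) f (Category.id_comp (f ≫ g)) ≫ pullback.snd (f ≫ g) g = f :=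
    pullback.lift_snd ..
  have hd' : ∀ U : Y.Opens, Function.Injective
      ((pullback.lift (𝟙 X) f (Category.id_comp (f ≫ g)) ≫ pullback.snd (f ≫ g) g).app U).hom := by
    rw [hγp]; exact hd
  have key : LocImm.IsLocalizing
      (pullback.lift (𝟙 X) f (Category.id_comp (f ≫ g)) ≫ pullback.snd (f ≫ g) g) := by
    intro x
    obtain ⟨U, hxU, hU, hW, hloc⟩ := (main18208 _).mp hp
      ((pullback.lift (𝟙 X) f (Category.id_comp (f ≫ g))) x)
    obtain ⟨h1, h2⟩ := key18195 (pullback.lift (𝟙 X) f (Category.id_comp (f ≫ g)))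
      (pullback.snd (f ≫ g) g) U hW hloc (hd' U)
    refine ⟨⟨U, hU⟩, ⟨_, h1⟩, hxU, le_rfl, ?_⟩
    rw [Scheme.Hom.appLE_eq_app]
    exact h2
  rw [hγp] at key
  exact key


end C

end Groth.Agent.Lib.Helper10.LocImmLib
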