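import Mathlib
import Groth.Agent.Lib.Helper10LocImm2

/-!
# Localizing immersions III (helper10): ideal sheaves extend along flat monomorphisms
-/

set_option autoImplicit false
universe u
open CategoryTheory AlgebraicGeometry TopologicalSpace Limits

namespace Groth.Agent.Lib.Helper10.LocImmLib

variable {X Y : Scheme.{u}}

lemma isSchemeTheoreticallyDominant_toImage (g : X ⟶ Y) [QuasiCompact g] :
    IsSchemeTheoreticallyDominant g.toImage := by
  rw [isSchemeTheoreticallyDominant_iff]
  refine Scheme.IdealSheafData.ext_of_iSup_eq_top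
    (fun U : Y.affineOpens => ⟨g.imageι ⁻¹ᵁ U.1, U.2.preimage g.imageι⟩) ?_ ?_
  · have h1 : ⨆ U : Y.affineOpens, (U.1 : Y.Opens) = ⊤ := iSup_affineOpens_eq_top Y
    have h2 : g.imageι ⁻¹ᵁ (⨆ U : Y.affineOpens, (U.1 : Y.Opens)) = ⊤ := by rw [h1]; rfl
    rw [← h2]
    exact (Scheme.Hom.preimage_iSup g.imageι _).symm
  · intro U
    rw [Scheme.Hom.ker_apply]
    simp only [Scheme.IdealSheafData.ideal_bot, Pi.bot_apply]
    exact (RingHom.injective_iff_ker_eq_bot _).mp (g.toImage_app_injective U)

/-- abstract form: `ι : Z ⟶ X` closed immersion, `f` flat mono, `ι ≫ f` quasi-compact. Then the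
pullback along `f` of the scheme-theoretic image of `ι ≫ f` is `Z`. -/
theorem ker_fst_imageι_eq {Z : Scheme.{u}} (ι : Z ⟶ X) [IsClosedImmersion ι] (f : X ⟶ Y) [Mono f]
    [Flat f] [QuasiCompact (ι ≫ f)] :
    (pullback.fst f (ι ≫ f).imageι).ker = ι.ker := by
  set g := ι ≫ f with hg
  haveI := isSchemeTheoreticallyDominant_toImage g
  have hw : ι ≫ f = g.toImage ≫ g.imageι := g.toImage_imageι.symm
  let s : Z ⟶ pullback f g.imageι := pullback.lift ι g.toImage hw
  have e1 : s ≫ pullback.fst f g.imageι = ι := pullback.lift_fst _ _ _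
  have e3 : s ≫ pullback.snd f g.imageι = g.toImage := pullback.lift_snd _ _ _
  have e2 : g.toImage ≫ g.imageι = g := g.toImage_imageι
  have outer : IsPullback ι (𝟙 _) f g := by
    have h1 : IsPullback ι (𝟙 Z) (𝟙 X) ι := IsPullback.of_vert_isIso ⟨by simp⟩
    have h2 : IsPullback (𝟙 X) (𝟙 X) f f := (IsKernelPair.id_of_mono f)
    simpa using h1.paste_horiz h2
  have left : IsPullback s (𝟙 _) (pullback.snd f g.imageι) g.toImage := by
    refine IsPullback.of_right ?_ (by rw [e3, Category.id_comp])
      (IsPullback.of_hasPullback f g.imageι)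
    rw [e1, e2]
    exact outer
  haveI : IsSchemeTheoreticallyDominant s := IsSchemeTheoreticallyDominant.of_isPullback left.flip
  haveI : IsClosedImmersion (s ≫ pullback.fst f g.imageι) := by
    rw [e1]; infer_instance
  haveI : IsClosedImmersion s := IsClosedImmersion.of_comp s (pullback.fst f g.imageι)
  haveI : IsIso s := IsClosedImmersion.isIso_iff_ker_eq_bot.mpr s.ker_eq_bot
  calc (pullback.fst f g.imageι).ker = (s ≫ pullback.fst f g.imageι).ker :=
        (Scheme.Hom.ker_comp_of_isIso s _).symm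
    _ = ι.ker := by rw [e1]

theorem comap_map_eq_of_mono_of_flat (f : X ⟶ Y) [Mono f] [Flat f] (I : X.IdealSheafData)
    [QuasiCompact (I.subschemeι ≫ f)] : (I.map f).comap f = I :=
  (ker_fst_imageι_eq I.subschemeι f).trans I.ker_subschemeι

theorem main18206 [IsNoetherian X] [IsNoetherian Y] (f : X ⟶ Y)
    (hf : LocImm.IsLocImmersion f) (I : X.IdealSheafData) :
    ∃ J : Y.IdealSheafData, J.comap f = I := by
  haveI : Mono f := Groth.Agent.Lib.Helper27.LocImmLib.mono_of_isLocImmersion f hf
  haveI : Flat f := flat_of_isLocalizing f hf.1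
  exact ⟨I.map f, comap_map_eq_of_mono_of_flat f I⟩

end Groth.Agent.Lib.Helper10.LocImmLib
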