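import Mathlib
import Groth.Prelude.Def_EssFT
import Groth.Agent.Lib.Helper10LocImm3

/-!
# Localizing immersions IV (helper10)

* `exists_isLocHom_away_of_bijective_localRingHom` : `A` Noetherian, `A → B` essentially of finite
  type with `A_p → B_q` bijective ⇒ `A → B_b` is a localization map for some `b ∉ q`.
* `exists_isLocHom_appLE_of_isIso_stalkMap`, `isOpen_setOf_isIso_stalkMap`, `isLocalizing_ι_comp` :
  a locally essentially finite-type morphism to a locally Noetherian scheme is localizing on the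
  (open) locus where its stalk maps are isomorphisms.
* `main18194`.
-/

set_option autoImplicit false
universe u
open CategoryTheory AlgebraicGeometry TopologicalSpace Limits

namespace Groth.Agent.Lib.Helper10.LocImmLib

section ring

variable {A B' : Type*} [CommRing A] [CommRing B']

/-- `z` is a fraction of elements in the image of `ψ`. -/
def IsFrac (ψ : A →+* B') (z : B') : Prop := ∃ x y : A, IsUnit (ψ y) ∧ z * ψ y = ψ x

lemma isFrac_map (ψ : A →+* B') (a : A) : IsFrac ψ (ψ a) := ⟨a, 1, by simp, by simp⟩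

lemma IsFrac.add {ψ : A →+* B'} {z w : B'} (hz : IsFrac ψ z) (hw : IsFrac ψ w) :
    IsFrac ψ (z + w) := by
  obtain ⟨x, y, hy, e⟩ := hz
  obtain ⟨x', y', hy', e'⟩ := hw
  refine ⟨x * y' + x' * y, y * y', by rw [map_mul]; exact hy.mul hy', ?_⟩
  simp only [map_mul, map_add, ← e, ← e']
  ring

lemma IsFrac.mul {ψ : A →+* B'} {z w : B'} (hz : IsFrac ψ z) (hw : IsFrac ψ w) :
    IsFrac ψ (z * w) := by
  obtain ⟨x, y, hy, e⟩ := hz
  obtain ⟨x', y', hy', e'⟩ := hw
  refine ⟨x * x', y * y', by rw [map_mul]; exact hy.mul hy', ?_⟩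
  simp only [map_mul, ← e, ← e']
  ring

lemma IsFrac.of_mul_eq_one {ψ : A →+* B'} {z w : B'} (hz : IsFrac ψ z) (h : w * z = 1) :
    IsFrac ψ w := by
  obtain ⟨x, y, hy, e⟩ := hz
  have hzu : IsUnit z := IsUnit.of_mul_eq_one w (by rw [mul_comm]; exact h)
  refine ⟨y, x, ?_, ?_⟩
  · rw [← e]; exact hzu.mul hy
  · rw [← e, ← mul_assoc, h, one_mul]

lemma IsFrac.pow {ψ : A →+* B'} {z : B'} (hz : IsFrac ψ z) (n : ℕ) : IsFrac ψ (z ^ n) := by
  induction n with
  | zero => simpa using isFrac_map ψ 1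
  | succ n ih => rw [pow_succ]; exact ih.mul hz

/-- criterion for being a localization at the preimage of the units -/
lemma isLocalization_of_isFrac (ψ : A →+* B') (h1 : ∀ z, IsFrac ψ z)
    (h2 : ∀ x, ψ x = 0 → ∃ y, IsUnit (ψ y) ∧ y * x = 0) :
    letI := ψ.toAlgebra
    IsLocalization ((IsUnit.submonoid B').comap ψ) B' := by
  letI := ψ.toAlgebra
  refine ⟨fun y => y.2, fun z => ?_, fun {x x'} e => ?_⟩
  · obtain ⟨x, y, hy, e⟩ := h1 z
    exact ⟨⟨x, ⟨y, hy⟩⟩, e⟩
  · have e' : ψ (x - x') = 0 := by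
      rw [map_sub, sub_eq_zero]; exact e
    obtain ⟨y, hy, hyx⟩ := h2 _ e'
    refine ⟨⟨y, hy⟩, ?_⟩
    have : y * x - y * x' = 0 := by rw [← mul_sub]; exact hyx
    exact sub_eq_zero.mp this

end ring

/-- annihilating the kernel of `A → A_p` by a single element (Noetherian) -/
lemma exists_notMem_forall_mul_eq_zero {A : Type*} [CommRing A] [IsNoetherianRing A] (p : Ideal A)
    [p.IsPrime] : ∃ a : A, a ∉ p ∧ ∀ x : A, algebraMap A (Localization.AtPrime p) x = 0 →
      a * x = 0 := by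
  set K : Ideal A := RingHom.ker (algebraMap A (Localization.AtPrime p)) with hK
  obtain ⟨s, hs⟩ := (IsNoetherian.noetherian K : K.FG)
  have H : ∀ k : A, ∃ a : A, a ∉ p ∧ (k ∈ K → a * k = 0) := by
    intro k
    by_cases hk : k ∈ K
    · rw [hK, RingHom.mem_ker, IsLocalization.map_eq_zero_iff p.primeCompl] at hk
      obtain ⟨m, hm⟩ := hk
      exact ⟨m.1, m.2, fun _ => hm⟩
    · exact ⟨1, fun h => (Ideal.IsPrime.ne_top ‹_›) ((Ideal.eq_top_iff_one _).mpr h), fun h => (hk h).elim⟩
  choose a ha hak using H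
  refine ⟨∏ k ∈ s, a k, ?_, ?_⟩
  · intro hmem
    rw [Ideal.IsPrime.prod_mem_iff] at hmem
    obtain ⟨k, -, hk⟩ := hmem
    exact ha k hk
  · have key : ∀ x ∈ Submodule.span A (s : Set A), (∏ k ∈ s, a k) * x = 0 := by
      intro x hxK
      induction hxK using Submodule.span_induction with
      | mem k hk =>
        have hkK : k ∈ K := by rw [← hs]; exact Submodule.subset_span hk
        obtain ⟨c, hc⟩ := Finset.dvd_prod_of_mem a hk
        rw [hc, mul_comm (a k) c, mul_assoc, hak k hkK, mul_zero]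
      | zero => simp
      | add x y _ _ hx hy => rw [mul_add, hx, hy, add_zero]
      | smul r x _ hx => rw [smul_eq_mul, mul_left_comm, hx, mul_zero]
    intro x hx
    exact key x (by rw [hs]; exact hx)

theorem exists_isLocHom_away_of_bijective_localRingHom {A B : Type u} [CommRing A] [CommRing B]
    [Algebra A B] [IsNoetherianRing A] [Algebra.EssFiniteType A B] (q : Ideal B) [q.IsPrime]
    (hbij : Function.Bijective (Localization.localRingHom (q.comap (algebraMap A B)) q
      (algebraMap A B) rfl)) :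
    ∃ b : B, b ∉ q ∧
      LocImm.IsLocHom ((algebraMap B (Localization.Away b)).comp (algebraMap A B)) := by
  set p := q.comap (algebraMap A B) with hp
  set φ := algebraMap A B with hφ
  obtain ⟨σ, hσ⟩ := (Algebra.essFiniteType_iff A B).mp inferInstance
  obtain ⟨aK, haK, hK⟩ := exists_notMem_forall_mul_eq_zero p
  have H : ∀ β : B, ∃ (a t : A) (u : B), t ∉ p ∧ u ∉ q ∧ u * (φ t * β - φ a) = 0 := by
    intro β
    obtain ⟨z, hz⟩ := hbij.2 (algebraMap B (Localization.AtPrime q) β)
    obtain ⟨a, t, rfl⟩ := IsLocalization.exists_mk'_eq p.primeCompl z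
    rw [Localization.localRingHom_mk', IsLocalization.mk'_eq_iff_eq_mul] at hz
    have h0 : algebraMap B (Localization.AtPrime q) (φ t * β - φ a) = 0 := by
      rw [map_sub, map_mul, hz, sub_eq_zero, mul_comm]
    rw [IsLocalization.map_eq_zero_iff q.primeCompl] at h0
    obtain ⟨m, hm⟩ := h0
    exact ⟨a, t, m, t.2, m.2, hm⟩
  choose a t u ht hu h using H
  set b : B := (∏ s ∈ σ, u s) * (∏ s ∈ σ, φ (t s)) * φ aK with hb
  have hbq : b ∉ q := by
    intro hmem
    rcases (Ideal.IsPrime.mem_or_mem ‹_› hmem) with h1 | h1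
    · rcases (Ideal.IsPrime.mem_or_mem ‹_› h1) with h2 | h2
      · rw [Ideal.IsPrime.prod_mem_iff] at h2
        obtain ⟨s, -, hs⟩ := h2
        exact hu s hs
      · rw [Ideal.IsPrime.prod_mem_iff] at h2
        obtain ⟨s, -, hs⟩ := h2
        exact ht s hs
    · exact haK h1
  refine ⟨b, hbq, ?_⟩
  set ι := algebraMap B (Localization.Away b) with hι
  set ψ := ι.comp φ with hψ
  have hbunit : IsUnit (ι b) := IsLocalization.Away.algebraMap_isUnit b
  have unit_of_dvd : ∀ c, c ∣ b → IsUnit (ι c) := fun c hc =>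
    isUnit_of_dvd_unit (map_dvd ι hc) hbunit
  have hgen : ∀ s ∈ σ, IsFrac ψ (ι s) := by
    intro s hs
    have hu1 : IsUnit (ι (u s)) := unit_of_dvd _
      (((Finset.dvd_prod_of_mem u hs).mul_right _).mul_right _)
    have ht1 : IsUnit (ι (φ (t s))) := unit_of_dvd _
      (((Finset.dvd_prod_of_mem (fun s => φ (t s)) hs).mul_left _).mul_right _)
    refine ⟨a s, t s, ht1, ?_⟩
    have h1 := congrArg ι (h s)
    rw [map_mul, map_zero, map_sub, map_mul] at h1
    have h2 := (hu1.mul_right_eq_zero).mp h1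
    rw [sub_eq_zero] at h2
    simp only [hψ, RingHom.comp_apply]
    rw [mul_comm]; exact h2
  have hadj : ∀ c ∈ Algebra.adjoin A (σ : Set B), IsFrac ψ (ι c) := by
    intro c hc
    induction hc using Algebra.adjoin_induction with
    | mem s hs => exact hgen s hs
    | algebraMap r => exact isFrac_map ψ r
    | add x y _ _ hx hy => rw [map_add]; exact hx.add hy
    | mul x y _ _ hx hy => rw [map_mul]; exact hx.mul hy
  have hB : ∀ β : B, IsFrac ψ (ι β) := by
    intro β
    obtain ⟨m, hm, hmu, hβm⟩ := hσ β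
    obtain ⟨w, hw⟩ := (hmu.map ι).exists_left_inv
    have h1 : ι β = ι (β * m) * w := by
      rw [map_mul, mul_assoc, mul_comm (ι m) w, hw, mul_one]
    rw [h1]
    exact (hadj _ hβm).mul ((hadj m hm).of_mul_eq_one hw)
  have hall : ∀ z : Localization.Away b, IsFrac ψ z := by
    intro z
    obtain ⟨⟨β, ⟨_, n, rfl⟩⟩, e⟩ := IsLocalization.surj (Submonoid.powers b) z
    obtain ⟨w, hw⟩ := hbunit.exists_left_inv
    have hwF : IsFrac ψ w := (hB b).of_mul_eq_one hw
    have h1 : z = ι β * w ^ n := by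
      have : z * ι (b ^ n) = ι β := e
      rw [← this, map_pow, mul_assoc, ← mul_pow, mul_comm (ι b) w, hw, one_pow, mul_one]
    rw [h1]
    exact (hB β).mul (hwF.pow n)
  have h2 : ∀ x, ψ x = 0 → ∃ y, IsUnit (ψ y) ∧ y * x = 0 := by
    intro x hx
    refine ⟨aK, unit_of_dvd _ (Dvd.intro_left _ rfl), hK x ?_⟩
    apply hbij.1
    rw [map_zero, Localization.localRingHom_to_map]
    have hx' : ι (φ x) = 0 := hx
    rw [hι, IsLocalization.map_eq_zero_iff (Submonoid.powers b)] at hx'
    obtain ⟨⟨_, n, rfl⟩, hm⟩ := hx'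
    rw [IsLocalization.map_eq_zero_iff q.primeCompl]
    exact ⟨⟨b ^ n, fun hmem => hbq (Ideal.IsPrime.mem_of_pow_mem ‹_› n hmem)⟩, hm⟩
  exact ⟨_, isLocalization_of_isFrac ψ hall h2⟩

lemma isLocHom_comp_away {A B B' : Type u} [CommRing A] [CommRing B] [CommRing B']
    (φ : A →+* B) (b : B) (ρ : B →+* B') (hρ : @IsLocalization.Away _ _ b B' _ ρ.toAlgebra)
    (h : LocImm.IsLocHom ((algebraMap B (Localization.Away b)).comp φ)) :
    LocImm.IsLocHom (ρ.comp φ) := by
  letI := ρ.toAlgebra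
  let e : Localization.Away b ≃ₐ[B] B' := IsLocalization.algEquiv (Submonoid.powers b) _ _
  have : ρ.comp φ = e.toRingEquiv.toRingHom.comp ((algebraMap B (Localization.Away b)).comp φ) := by
    ext x
    simp only [RingHom.comp_apply]
    exact (e.commutes (φ x)).symm
  rw [this]
  exact isLocHom_respectsIso.1 _ _ h

variable {X Y : Scheme.{u}}

lemma bijective_stalkMap_of_eq {X Y : Scheme.{u}} {h h' : X ⟶ Y} (e : h = h') (x : X)
    (hx : Function.Bijective (h.stalkMap x).hom) : Function.Bijective (h'.stalkMap x).hom := by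
  subst e; exact hx

set_option backward.isDefEq.respectTransparency false in
/-- if `g` is locally essentially of finite type into a locally Noetherian scheme and the stalk
map at `y` is an isomorphism, then `g` is localizing near `y`. -/
lemma exists_isLocHom_appLE_of_isIso_stalkMap (g : X ⟶ Y) [IsLocallyNoetherian Y]
    [EssFT.LocallyEssFiniteType g] (y : X) [IsIso (g.stalkMap y)] :
    ∃ (U : Y.affineOpens) (V : X.affineOpens) (_ : y ∈ V.1) (e : V.1 ≤ g ⁻¹ᵁ U.1),
      LocImm.IsLocHom (g.appLE U V e).hom := by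
  obtain ⟨U, V1, hy, e1, hess⟩ :=
    EssFT.LocallyEssFiniteType.exists_appLE_essFiniteType (f := g) y
  have hU : IsAffineOpen U.1 := U.2
  have hV : IsAffineOpen V1.1 := V1.2
  haveI : IsNoetherianRing Γ(Y, U.1) := IsLocallyNoetherian.component_noetherian U
  obtain ⟨q', rfl⟩ : ∃ q', hV.fromSpec q' = y := by
    have : y ∈ Set.range hV.fromSpec := by rw [hV.range_fromSpec]; exact hy
    exact this
  have key := IsAffineOpen.SpecMap_appLE_fromSpec g hU hV e1
  have h1 : Function.Bijective ((hV.fromSpec ≫ g).stalkMap q').hom := by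
    rw [Scheme.Hom.stalkMap_comp, CommRingCat.hom_comp, bijective_respectsIso.cancel_right_isIso]
    exact (ConcreteCategory.isIso_iff_bijective _).mp inferInstance
  have h2 := bijective_stalkMap_of_eq key.symm q' h1
  rw [Scheme.Hom.stalkMap_comp, CommRingCat.hom_comp, bijective_respectsIso.cancel_left_isIso] at h2
  let q : PrimeSpectrum Γ(X, V1.1) := q'
  haveI : q.asIdeal.IsPrime := q.2
  have h3 : Function.Bijective (Localization.localRingHom (q.asIdeal.comap (g.appLE U V1 e1).hom)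
      q.asIdeal (g.appLE U V1 e1).hom rfl) := by
    haveI : (RingHom.toMorphismProperty
        (fun {R S : Type u} [CommRing R] [CommRing S] (φ : R →+* S) =>
          Function.Bijective φ)).RespectsIso :=
      RingHom.toMorphismProperty_respectsIso_iff.mp bijective_respectsIso
    exact ((RingHom.toMorphismProperty (fun φ => Function.Bijective φ)).arrow_mk_iso_iff
      (Scheme.arrowStalkMapSpecIso (g.appLE U V1 e1) q)).mp h2
  letI := (g.appLE U V1 e1).hom.toAlgebra
  haveI : Algebra.EssFiniteType Γ(Y, U.1) Γ(X, V1.1) := hess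
  obtain ⟨b, hbq, hb⟩ := exists_isLocHom_away_of_bijective_localRingHom q.asIdeal h3
  refine ⟨U, ⟨X.basicOpen b, hV.basicOpen b⟩, ?_, (X.basicOpen_le b).trans e1, ?_⟩
  · have : q' ∈ hV.fromSpec ⁻¹ᵁ (X.basicOpen b) := by
      rw [hV.fromSpec_preimage_basicOpen]
      exact hbq
    exact this
  · have hcomp : g.appLE U (X.basicOpen b) ((X.basicOpen_le b).trans e1) =
        g.appLE U V1 e1 ≫ X.presheaf.map (homOfLE (X.basicOpen_le b)).op :=
      (Scheme.Hom.appLE_map g e1 (homOfLE (X.basicOpen_le b)).op).symm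
    rw [hcomp, CommRingCat.hom_comp]
    exact isLocHom_comp_away _ b _ (hV.isLocalization_of_eq_basicOpen b (homOfLE _) rfl) hb

/-- a point without proper generizations generates an irreducible component -/
lemma closure_singleton_mem_irreducibleComponents {α : Type*} [TopologicalSpace α] [QuasiSober α]
    (u : α) (hu : ∀ x' : α, x' ⤳ u → x' = u) : closure ({u} : Set α) ∈ irreducibleComponents α := by
  obtain ⟨C, hC, hsub⟩ := exists_mem_irreducibleComponents_subset_of_isIrreducible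
    (closure ({u} : Set α)) isIrreducible_singleton.closure
  have hCcl : IsClosed C := isClosed_of_mem_irreducibleComponents C hC
  obtain ⟨η, hη⟩ := QuasiSober.sober hC.1 hCcl
  have huC : u ∈ C := hsub (subset_closure rfl)
  have h1 : η ⤳ u := by
    rw [specializes_iff_mem_closure, hη.def]; exact huC
  have h2 := hu η h1
  subst h2
  rw [hη.def]; exact hC

/-- shrinking an open containing a generization-stable set `R` so that all its maximal points
lie in `R` -/
lemma exists_open_maximal_points_mem {α : Type*} [TopologicalSpace α] [NoetherianSpace α]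
    [QuasiSober α] (W : Opens α) (R : Set α) (hR : StableUnderGeneralization R) (hRW : R ⊆ W) :
    ∃ U : Opens α, U ≤ W ∧ R ⊆ U ∧ ∀ u ∈ U, (∀ x' : α, x' ⤳ u → x' = u) → u ∈ R := by
  set S : Set (Set α) := {C ∈ irreducibleComponents α | Disjoint C R} with hS
  have hSfin : S.Finite := NoetherianSpace.finite_irreducibleComponents.subset (fun C hC => hC.1)
  have hZ : IsClosed (⋃₀ S) := by
    rw [Set.sUnion_eq_biUnion]
    exact hSfin.isClosed_biUnion (fun C hC => isClosed_of_mem_irreducibleComponents C hC.1)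
  refine ⟨W ⊓ ⟨(⋃₀ S)ᶜ, hZ.isOpen_compl⟩, inf_le_left, ?_, ?_⟩
  · intro r hr
    refine ⟨hRW hr, ?_⟩
    rintro ⟨C, hC, hrC⟩
    exact (Set.disjoint_left.mp hC.2 hrC hr)
  · rintro u ⟨-, huZ⟩ hu
    have hC := closure_singleton_mem_irreducibleComponents u hu
    have hnd : ¬ Disjoint (closure ({u} : Set α)) R := by
      intro hd
      exact huZ ⟨_, ⟨hC, hd⟩, subset_closure rfl⟩
    rw [Set.not_disjoint_iff] at hnd
    obtain ⟨r, hr1, hr2⟩ := hnd
    exact hR (specializes_iff_mem_closure.mpr hr1) hr2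

lemma exists_open_maximal_points_mem' (Y : Scheme.{u}) [IsNoetherian Y] (W : Y.Opens) (R : Set Y)
    (hR : StableUnderGeneralization R) (hRW : R ⊆ W) :
    ∃ U : Y.Opens, U ≤ W ∧ R ⊆ U ∧ ∀ u ∈ U, (∀ x' : Y, x' ⤳ u → x' = u) → u ∈ R :=
  exists_open_maximal_points_mem W R hR hRW

/-- iso locus is open -/
lemma isOpen_setOf_isIso_stalkMap (g : X ⟶ Y) [IsLocallyNoetherian Y]
    [EssFT.LocallyEssFiniteType g] : IsOpen {y : X | IsIso (g.stalkMap y)} := by
  rw [isOpen_iff_forall_mem_open]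
  intro y hy
  haveI : IsIso (g.stalkMap y) := hy
  obtain ⟨U, V, hyV, e, h⟩ := exists_isLocHom_appLE_of_isIso_stalkMap g y
  exact ⟨V.1, fun y' hy' => isIso_stalkMap_of_isLocHom g U.2 V.2 e h y' hy', V.1.2, hyV⟩

lemma isLocalizing_ι_comp (g : X ⟶ Y) [IsLocallyNoetherian Y] [EssFT.LocallyEssFiniteType g]
    (W : X.Opens) (hW : ∀ y ∈ W, IsIso (g.stalkMap y)) : LocImm.IsLocalizing (W.ι ≫ g) := by
  haveI : IsZariskiLocalAtSource @EssFT.LocallyEssFiniteType :=
    HasRingHomProperty.instIsZariskiLocalAtSource (Q := RingHom.Locally RingHom.EssFiniteType)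
  haveI : EssFT.LocallyEssFiniteType (W.ι ≫ g) := IsZariskiLocalAtSource.comp ‹_› W.ι
  intro w
  haveI : IsIso (g.stalkMap (W.ι w)) := hW _ w.2
  haveI : IsIso ((W.ι ≫ g).stalkMap w) := by
    rw [Scheme.Hom.stalkMap_comp]
    refine @IsIso.comp_isIso _ _ _ _ _ _ _ ?_ ?_
    · exact hW _ w.2
    · infer_instance
  exact exists_isLocHom_appLE_of_isIso_stalkMap (W.ι ≫ g) w

theorem main18194 {X Y₁ Y₂ : Scheme.{u}} [IsNoetherian X] [IsNoetherian Y₁] [IsNoetherian Y₂]
    (f₁ : X ⟶ Y₁) (f₂ : X ⟶ Y₂) (g : Y₁ ⟶ Y₂) (hf₁ : LocImm.IsLocImmersion f₁)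
    (hf₂ : LocImm.IsLocImmersion f₂) [IsSeparated g] [EssFT.EssFiniteType g]
    (h : f₁ ≫ g = f₂) :
    ∃ U : Y₁.Opens, Set.range (fun x => f₁ x) ⊆ (U : Set Y₁) ∧
      LocImm.IsLocImmersion (U.ι ≫ g) := by
  subst h
  let W0 : Y₁.Opens := ⟨{y | IsIso (g.stalkMap y)}, isOpen_setOf_isIso_stalkMap g⟩
  have hR : Set.range (fun x => f₁ x) ⊆ W0 := by
    rintro _ ⟨x, rfl⟩
    haveI := isIso_stalkMap_of_isLocalizing f₁ hf₁.1 x
    have h2 := isIso_stalkMap_of_isLocalizing (f₁ ≫ g) hf₂.1 x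
    have e := Scheme.Hom.stalkMap_comp f₁ g x
    haveI : IsIso (g.stalkMap (f₁ x) ≫ f₁.stalkMap x) := by rw [← e]; exact h2
    exact IsIso.of_isIso_comp_right (g.stalkMap (f₁ x)) (f₁.stalkMap x)
  obtain ⟨U, hUW, hRU, hmax⟩ := exists_open_maximal_points_mem' Y₁ W0 (Set.range (fun x => f₁ x))
    (stableUnderGeneralization_range f₁ hf₁.1) hR
  have hloc : LocImm.IsLocalizing (U.ι ≫ g) := isLocalizing_ι_comp g U (fun y hy => hUW hy)
  refine ⟨U, hRU, hloc, ?_⟩
  rw [main18197 (U.ι ≫ g) hloc]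
  refine ⟨inferInstance, ?_⟩
  have key : ∀ u : U.toScheme, (∀ x' : U.toScheme, x' ⤳ u → x' = u) →
      ∃ x : X, f₁ x = u.1 := by
    intro u hu
    have := hmax u.1 u.2 (fun y' hy' => by
      have hy'U : y' ∈ U := hy'.mem_open U.2 u.2
      have h1 : (⟨y', hy'U⟩ : U.toScheme) ⤳ u :=
        (U.ι.isEmbedding.isInducing.specializes_iff).mp hy'
      exact congrArg Subtype.val (hu _ h1))
    exact this
  intro u1 hu1 u2 hu2 h12
  obtain ⟨x1, hx1⟩ := key u1 hu1
  obtain ⟨x2, hx2⟩ := key u2 hu2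
  have h3 : (f₁ ≫ g) x1 = (f₁ ≫ g) x2 := by
    have e1 : (f₁ ≫ g) x1 = g (f₁ x1) := rfl
    have e2 : (f₁ ≫ g) x2 = g (f₁ x2) := rfl
    rw [e1, e2, hx1, hx2]
    exact h12
  have h4 : x1 = x2 := hf₂.2 h3
  apply Subtype.ext
  rw [← hx1, ← hx2, h4]

end Groth.Agent.Lib.Helper10.LocImmLib
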