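import Mathlib
import Groth.Prelude.Def_EssFT
import Groth.Agent.Lib.Helper10LocImm4

/-!
# Localizing immersions V (helper10)

* `isOpenImmersion_of_isLocImmersion_of_locallyOfFiniteType` : a localizing immersion locally of
  finite type into a locally Noetherian scheme is an open immersion.
* `essFiniteType_of_locallyOfFiniteType`, `exists_isLocImmersion_lift`, `main18193`.
-/

set_option autoImplicit false
universe u
open CategoryTheory AlgebraicGeometry TopologicalSpace Limits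

namespace Groth.Agent.Lib.Helper10.LocImmLib

variable {X Y : Scheme.{u}}

lemma essFiniteType_of_locallyOfFiniteType (f : X ⟶ Y) [LocallyOfFiniteType f] [QuasiCompact f] :
    EssFT.EssFiniteType f := by
  refine { exists_appLE_essFiniteType := fun x => ?_, toQuasiCompact := inferInstance }
  obtain ⟨_, ⟨U, hU, rfl⟩, hxU, -⟩ :=
    Y.isBasis_affineOpens.exists_subset_of_mem_open (Set.mem_univ (f x)) isOpen_univ
  obtain ⟨_, ⟨V, hV, rfl⟩, hxV, hVU⟩ :=
    X.isBasis_affineOpens.exists_subset_of_mem_open (show x ∈ f ⁻¹ᵁ U from hxU) (f ⁻¹ᵁ U).isOpen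
  exact ⟨⟨U, hU⟩, ⟨V, hV⟩, hxV, hVU, (f.finiteType_appLE hU hV hVU).essFiniteType⟩

/-- a localizing immersion locally of finite type into a locally Noetherian scheme is an open
immersion -/
lemma isOpenImmersion_of_isLocImmersion_of_locallyOfFiniteType (f : X ⟶ Y)
    [IsLocallyNoetherian Y] [LocallyOfFiniteType f] (hf : LocImm.IsLocImmersion f) :
    IsOpenImmersion f := by
  haveI := flat_of_isLocalizing f hf.1
  haveI : LocallyOfFinitePresentation f :=
    LocallyOfFinitePresentation.iff_locallyOfFiniteType.mpr inferInstance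
  haveI := isIso_stalkMap_of_isLocalizing f hf.1
  exact IsOpenImmersion.of_isIso_stalkMap f
    (Topology.IsOpenEmbedding.of_continuous_injective_isOpenMap f.continuous hf.2 f.isOpenMap)

/-- corestriction of a localizing immersion to an open containing its range -/
lemma exists_isLocImmersion_lift (t : X ⟶ Y) (ht : LocImm.IsLocImmersion t) (W : Y.Opens)
    (hW : Set.range (fun x => t x) ⊆ W) :
    ∃ k : X ⟶ W.toScheme, k ≫ W.ι = t ∧ LocImm.IsLocImmersion k := by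
  have e : t ⁻¹ᵁ W = ⊤ := by
    ext x
    simp only [Opens.coe_top, Set.mem_univ, iff_true]
    exact hW ⟨x, rfl⟩
  haveI hLT : IsZariskiLocalAtTarget @LocImm.IsLocalizing.{u} :=
    @HasRingHomProperty.instIsZariskiLocalAtTarget _ _ hasRingHomProperty_isLocalizing
  haveI : MorphismProperty.RespectsIso @LocImm.IsLocalizing.{u} := hLT.toRespects
  have hres : LocImm.IsLocalizing (t ∣_ W) := IsZariskiLocalAtTarget.restrict ht.1 W
  let φ : X ≅ (t ⁻¹ᵁ W).toScheme := X.topIso.symm ≪≫ X.isoOfEq e.symm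
  refine ⟨φ.hom ≫ t ∣_ W, ?_, ?_, ?_⟩
  · simp [φ]
  · exact (MorphismProperty.cancel_left_of_respectsIso @LocImm.IsLocalizing φ.hom (t ∣_ W)).mpr hres
  · intro a b hab
    apply ht.2
    have h1 : (φ.hom ≫ t ∣_ W) ≫ W.ι = t := by simp [φ]
    have h2 : ∀ x, t x = W.ι ((φ.hom ≫ t ∣_ W) x) := by
      intro x
      conv_lhs => rw [← h1]
      rfl
    change t a = t b
    rw [h2 a, h2 b]
    exact congrArg _ hab

lemma isLocImmersion_homOfLE_comp {Z : Scheme.{u}} (q : Z ⟶ Y) {U W : Z.Opens} (hWU : W ≤ U)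
    (h : LocImm.IsLocImmersion (U.ι ≫ q)) : LocImm.IsLocImmersion (W.ι ≫ q) := by
  haveI : IsZariskiLocalAtSource @LocImm.IsLocalizing.{u} :=
    @HasRingHomProperty.instIsZariskiLocalAtSource _ _ hasRingHomProperty_isLocalizing
  have e : W.ι ≫ q = Z.homOfLE hWU ≫ U.ι ≫ q := by
    rw [← Category.assoc, Scheme.homOfLE_ι]
  rw [e]
  refine ⟨IsZariskiLocalAtSource.comp h.1 _, ?_⟩
  intro a b hab
  have h2 : (Z.homOfLE hWU) a = (Z.homOfLE hWU) b := h.2 hab
  exact (Z.homOfLE hWU).isOpenEmbedding.injective h2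

theorem main18193 {X Y₁ Y₂ S : Scheme.{u}} [IsNoetherian X] [IsNoetherian Y₁] [IsNoetherian Y₂]
    [IsNoetherian S] (f₁ : X ⟶ Y₁) (f₂ : X ⟶ Y₂) (π₁ : Y₁ ⟶ S) (π₂ : Y₂ ⟶ S)
    (hf₁ : LocImm.IsLocImmersion f₁) (hf₂ : LocImm.IsLocImmersion f₂)
    [IsSeparated π₁] [IsSeparated π₂] [LocallyOfFiniteType π₁] [LocallyOfFiniteType π₂]
    (h : f₁ ≫ π₁ = f₂ ≫ π₂) :
    ∃ (W : Scheme.{u}) (k : X ⟶ W) (g₁ : W ⟶ Y₁) (g₂ : W ⟶ Y₂), LocImm.IsLocImmersion k ∧
      IsOpenImmersion g₁ ∧ IsOpenImmersion g₂ ∧ g₁ ≫ π₁ = g₂ ≫ π₂ ∧ k ≫ g₁ = f₁ ∧ k ≫ g₂ = f₂ := by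
  -- the product and the scheme-theoretic image of `X`
  let f : X ⟶ pullback π₁ π₂ := pullback.lift f₁ f₂ h
  haveI : IsLocallyNoetherian (pullback π₁ π₂) :=
    LocallyOfFiniteType.isLocallyNoetherian (pullback.fst π₁ π₂)
  haveI : CompactSpace ↥(pullback π₁ π₂) :=
    QuasiCompact.compactSpace_of_compactSpace (pullback.fst π₁ π₂)
  haveI : IsNoetherian (pullback π₁ π₂) := ⟨⟩
  let j := f.imageι
  let t := f.toImage
  have htj : t ≫ j = f := f.toImage_imageι
  haveI : IsLocallyNoetherian f.image := LocallyOfFiniteType.isLocallyNoetherian j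
  haveI : CompactSpace ↥f.image := QuasiCompact.compactSpace_of_compactSpace j
  haveI : IsNoetherian f.image := ⟨⟩
  let q₁ : f.image ⟶ Y₁ := j ≫ pullback.fst π₁ π₂
  let q₂ : f.image ⟶ Y₂ := j ≫ pullback.snd π₁ π₂
  have hq₁ : t ≫ q₁ = f₁ := by
    simp only [q₁, ← Category.assoc, htj]; exact pullback.lift_fst _ _ _
  have hq₂ : t ≫ q₂ = f₂ := by
    simp only [q₂, ← Category.assoc, htj]; exact pullback.lift_snd _ _ _
  haveI := isSchemeTheoreticallyDominant_toImage f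
  have ht : LocImm.IsLocImmersion t := by
    refine main18195 t q₁ (by rw [hq₁]; exact hf₁) (fun U => ?_)
    exact t.app_injective U
  haveI : EssFT.EssFiniteType q₁ := essFiniteType_of_locallyOfFiniteType q₁
  haveI : EssFT.EssFiniteType q₂ := essFiniteType_of_locallyOfFiniteType q₂
  obtain ⟨U₁, hU₁, hloc₁⟩ := main18194 t f₁ q₁ ht hf₁ hq₁
  obtain ⟨U₂, hU₂, hloc₂⟩ := main18194 t f₂ q₂ ht hf₂ hq₂
  obtain ⟨k, hk, hkloc⟩ := exists_isLocImmersion_lift t ht (U₁ ⊓ U₂)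
    (fun y hy => ⟨hU₁ hy, hU₂ hy⟩)
  have hl₁ : LocImm.IsLocImmersion ((U₁ ⊓ U₂).ι ≫ q₁) :=
    isLocImmersion_homOfLE_comp q₁ inf_le_left hloc₁
  have hl₂ : LocImm.IsLocImmersion ((U₁ ⊓ U₂).ι ≫ q₂) :=
    isLocImmersion_homOfLE_comp q₂ inf_le_right hloc₂
  refine ⟨(U₁ ⊓ U₂).toScheme, k, (U₁ ⊓ U₂).ι ≫ q₁, (U₁ ⊓ U₂).ι ≫ q₂, hkloc,
    isOpenImmersion_of_isLocImmersion_of_locallyOfFiniteType _ hl₁,
    isOpenImmersion_of_isLocImmersion_of_locallyOfFiniteType _ hl₂, ?_, ?_, ?_⟩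
  · simp only [q₁, q₂, Category.assoc, pullback.condition]
  · rw [← Category.assoc, hk, hq₁]
  · rw [← Category.assoc, hk, hq₂]

end Groth.Agent.Lib.Helper10.LocImmLib
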