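import Mathlib.CategoryTheory.CofilteredSystem
import Mathlib.Algebra.Category.Grp.Limits
import Mathlib.Order.Directed
import Mathlib.Data.Set.Countable

/-!
Mittag-Leffler inverse systems indexed by a directed preorder with a countable cofinal subset:
existence of sections.
-/

set_option autoImplicit false

namespace Groth.Agent.Lib.Helper10

open CategoryTheory Opposite

universe u v

section Sequence

variable {ι : Type u} [Preorder ι] [Nonempty ι] [IsDirected ι (· ≤ ·)]

theorem exists_cofinal_monotone_seq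
    (hcof : ∃ s : Set ι, s.Countable ∧ ∀ i, ∃ j ∈ s, i ≤ j) :
    ∃ c : ℕ → ι, Monotone c ∧ ∀ i, ∃ n, i ≤ c n := by
  obtain ⟨s, hs, hcof⟩ := hcof
  have hne : s.Nonempty := by
    obtain ⟨i⟩ := ‹Nonempty ι›
    obtain ⟨j, hj, -⟩ := hcof i
    exact ⟨j, hj⟩
  obtain ⟨f, rfl⟩ := hs.exists_eq_range hne
  let c : ℕ → ι := fun n => Nat.rec (f 0)
    (fun k ck => Classical.choose (exists_ge_ge ck (f (k + 1)))) n
  have hc1 : ∀ n, c n ≤ c (n + 1) := fun n =>
    (Classical.choose_spec (exists_ge_ge (c n) (f (n + 1)))).1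
  have hc2 : ∀ n, f n ≤ c n := by
    intro n
    cases n with
    | zero => exact le_rfl
    | succ k => exact (Classical.choose_spec (exists_ge_ge (c k) (f (k + 1)))).2
  refine ⟨c, monotone_nat_of_le_succ hc1, fun i => ?_⟩
  obtain ⟨j, ⟨n, rfl⟩, hij⟩ := hcof i
  exact ⟨n, hij.trans (hc2 n)⟩

end Sequence

section Sections

variable {ι : Type u} [Preorder ι] [Nonempty ι] [IsDirected ι (· ≤ ·)]

omit [Nonempty ι] [IsDirected ι (· ≤ ·)] in
/-- A compatible chain of elements along a cofinal monotone sequence extends to a section. -/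
theorem exists_section_of_chain (F : ιᵒᵖ ⥤ Type v) (c : ℕ → ι) (hcm : Monotone c)
    (hcc : ∀ i, ∃ n, i ≤ c n) (x : (n : ℕ) → F.obj (op (c n)))
    (hx1 : ∀ n, F.map (homOfLE (hcm (Nat.le_succ n))).op (x (n + 1)) = x n) :
    ∃ s : F.sections, ∀ n, s.1 (op (c n)) = x n := by
  classical
  have hx : ∀ n m (h : n ≤ m), F.map (homOfLE (hcm h)).op (x m) = x n := by
    intro n m h
    induction m, h using Nat.le_induction with
    | base =>
      have : (homOfLE (hcm (le_refl n))).op = 𝟙 (op (c n)) := Subsingleton.elim _ _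
      rw [this, F.map_id]; rfl
    | succ m h ih =>
      have : (homOfLE (hcm (h.trans (Nat.le_succ m)))).op =
          (homOfLE (hcm (Nat.le_succ m))).op ≫ (homOfLE (hcm h)).op := Subsingleton.elim _ _
      rw [this, F.map_comp]
      change F.map _ (F.map _ (x (m + 1))) = x n
      rw [hx1, ih]
  let N : ιᵒᵖ → ℕ := fun j => Classical.choose (hcc j.unop)
  have hN : ∀ j : ιᵒᵖ, j.unop ≤ c (N j) := fun j => Classical.choose_spec (hcc j.unop)
  have key : ∀ (j : ιᵒᵖ) (n : ℕ) (h : j.unop ≤ c n),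
      F.map (homOfLE h).op (x n) = F.map (homOfLE (hN j)).op (x (N j)) := by
    intro j n h
    obtain ⟨M, hM1, hM2⟩ : ∃ M, n ≤ M ∧ N j ≤ M := ⟨max n (N j), le_max_left _ _, le_max_right _ _⟩
    rw [← hx n M hM1, ← hx (N j) M hM2]
    change (F.map _ ≫ F.map _) (x M) = (F.map _ ≫ F.map _) (x M)
    rw [← F.map_comp, ← F.map_comp]
    congr 2
  refine ⟨⟨fun j => F.map (homOfLE (hN j)).op (x (N j)), ?_⟩, ?_⟩
  · intro j k f
    have hkj : k.unop ≤ j.unop := leOfHom f.unop
    change F.map f (F.map (homOfLE (hN j)).op (x (N j))) = F.map (homOfLE (hN k)).op (x (N k))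
    rw [← key k (N j) (hkj.trans (hN j))]
    change (F.map _ ≫ F.map f) (x (N j)) = _
    rw [← F.map_comp]
    congr 2
  · intro n
    change F.map (homOfLE (hN (op (c n)))).op (x (N (op (c n)))) = x n
    rw [← key (op (c n)) n le_rfl]
    have : (homOfLE (le_refl (c n))).op = 𝟙 (op (c n)) := Subsingleton.elim _ _
    change F.map (homOfLE (le_refl (c n))).op (x n) = x n
    rw [this, F.map_id]; rfl

/-- A surjective inverse system of nonempty sets over a directed preorder with a countable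
cofinal subset has a section. -/
theorem nonempty_sections_of_surjective
    (hcof : ∃ s : Set ι, s.Countable ∧ ∀ i, ∃ j ∈ s, i ≤ j)
    (F : ιᵒᵖ ⥤ Type v) (hs : ∀ ⦃i j : ιᵒᵖ⦄ (f : i ⟶ j), Function.Surjective (F.map f))
    [hne : ∀ j, Nonempty (F.obj j)] : F.sections.Nonempty := by
  classical
  obtain ⟨c, hcm, hcc⟩ := exists_cofinal_monotone_seq hcof
  let x : (n : ℕ) → F.obj (op (c n)) := fun n => Nat.rec (hne (op (c 0))).some
    (fun k xk => Classical.choose (hs (homOfLE (hcm (Nat.le_succ k))).op xk)) n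
  have hx1 : ∀ n, F.map (homOfLE (hcm (Nat.le_succ n))).op (x (n + 1)) = x n := fun n =>
    Classical.choose_spec (hs (homOfLE (hcm (Nat.le_succ n))).op (x n))
  obtain ⟨s, -⟩ := exists_section_of_chain F c hcm hcc x hx1
  exact ⟨s.1, s.2⟩

/-- A Mittag-Leffler inverse system of nonempty sets over a directed preorder with a countable
cofinal subset has a section. -/
theorem nonempty_sections_of_isMittagLeffler
    (hcof : ∃ s : Set ι, s.Countable ∧ ∀ i, ∃ j ∈ s, i ≤ j)
    (F : ιᵒᵖ ⥤ Type v) (hF : F.IsMittagLeffler)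
    [hne : ∀ j, Nonempty (F.obj j)] : F.sections.Nonempty := by
  have : ∀ j, Nonempty (F.toEventualRanges.obj j) := F.toEventualRanges_nonempty hF
  obtain ⟨s⟩ := (nonempty_sections_of_surjective hcof F.toEventualRanges
    (F.surjective_toEventualRanges hF)).to_subtype
  exact ⟨F.toEventualRangesSectionsEquiv s, (F.toEventualRangesSectionsEquiv s).2⟩

/-- For a surjective system over a directed preorder with a countable cofinal subset, every element
extends to a section. -/
theorem eval_section_surjective_of_surjective'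
    (hcof : ∃ s : Set ι, s.Countable ∧ ∀ i, ∃ j ∈ s, i ≤ j)
    (F : ιᵒᵖ ⥤ Type v) (hs : ∀ ⦃i j : ιᵒᵖ⦄ (f : i ⟶ j), Function.Surjective (F.map f))
    (i : ιᵒᵖ) : (fun s : F.sections => s.val i).Surjective := fun x => by
  have hne : ∀ j : ιᵒᵖ, Nonempty (F.obj j) := by
    intro j
    obtain ⟨l, hlj, hli⟩ := exists_ge_ge j.unop i.unop
    obtain ⟨y, -⟩ := hs (homOfLE hli).op x
    exact ⟨F.map (homOfLE hlj).op y⟩
  let S : Set (F.obj i) := {x}
  have := F.toPreimages_nonempty_of_surjective S hs (Set.singleton_nonempty x)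
  have hML : (F.toPreimages S).IsMittagLeffler :=
    (F.isMittagLeffler_of_surjective hs).toPreimages F S
  obtain ⟨sec, h⟩ := nonempty_sections_of_isMittagLeffler hcof (F.toPreimages S) hML
  refine ⟨⟨fun j => (sec j).val, fun {j k} jk => congrArg Subtype.val (h jk)⟩, ?_⟩
  have h1 := (sec i).prop
  simp only [Set.mem_iInter, Set.mem_preimage] at h1
  have h2 := h1 (𝟙 i)
  rw [F.map_id] at h2
  exact h2

/-- For a Mittag-Leffler system over a directed preorder with a countable cofinal subset, every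
element of an eventual range extends to a section. -/
theorem exists_section_of_mem_eventualRange
    (hcof : ∃ s : Set ι, s.Countable ∧ ∀ i, ∃ j ∈ s, i ≤ j)
    (F : ιᵒᵖ ⥤ Type v) (hF : F.IsMittagLeffler) (i : ιᵒᵖ) (x : F.obj i)
    (hx : x ∈ F.eventualRange i) : ∃ s : F.sections, s.1 i = x := by
  obtain ⟨s, hs⟩ := eval_section_surjective_of_surjective' hcof F.toEventualRanges
    (F.surjective_toEventualRanges hF) i ⟨x, hx⟩
  refine ⟨F.toEventualRangesSectionsEquiv s, ?_⟩
  exact congrArg Subtype.val hs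

end Sections

section Torsor

universe w

variable {ι : Type u} [Preorder ι] [Nonempty ι] [IsDirected ι (· ≤ ·)]

/-- The subfunctor of `B ⋙ forget` given by a compatible family of subsets. -/
def subsetFunctor (B : ιᵒᵖ ⥤ AddCommGrpCat.{w}) (E : ∀ i : ιᵒᵖ, Set (B.obj i))
    (hmap : ∀ ⦃i j : ιᵒᵖ⦄ (f : i ⟶ j) (x : B.obj i), x ∈ E i → B.map f x ∈ E j) :
    ιᵒᵖ ⥤ Type w where
  obj i := E i
  map f := TypeCat.ofHom fun x => ⟨B.map f x.1, hmap f x.1 x.2⟩
  map_id i := by
    ext x
    change B.map (𝟙 i) x.1 = x.1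
    rw [B.map_id]; rfl
  map_comp f g := by
    ext x
    change B.map (f ≫ g) x.1 = B.map g (B.map f x.1)
    rw [B.map_comp]; rfl

omit [Nonempty ι] in
theorem subsetFunctor_isMittagLeffler {A B : ιᵒᵖ ⥤ AddCommGrpCat.{w}} (a : A ⟶ B)
    (hA : (A ⋙ forget AddCommGrpCat).IsMittagLeffler)
    (E : ∀ i : ιᵒᵖ, Set (B.obj i))
    (hmap : ∀ ⦃i j : ιᵒᵖ⦄ (f : i ⟶ j) (x : B.obj i), x ∈ E i → B.map f x ∈ E j)
    (hne : ∀ i, (E i).Nonempty)
    (hsub : ∀ (i : ιᵒᵖ) (x y : B.obj i), x ∈ E i → y ∈ E i → ∃ z : A.obj i, a.app i z = x - y)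
    (hadd : ∀ (i : ιᵒᵖ) (x : B.obj i) (z : A.obj i), x ∈ E i → x + a.app i z ∈ E i) :
    (subsetFunctor B E hmap).IsMittagLeffler := by
  intro j
  obtain ⟨i, f, hf⟩ := hA j
  refine ⟨i, f, ?_⟩
  intro k g
  rintro _ ⟨⟨ei, hei⟩, rfl⟩
  -- a common refinement `l` of `k` and `i`
  obtain ⟨l, hlk, hli⟩ := exists_ge_ge k.unop i.unop
  let fk : op l ⟶ k := (homOfLE hlk).op
  let fi : op l ⟶ i := (homOfLE hli).op
  have hcomm : fk ≫ g = fi ≫ f := Subsingleton.elim _ _
  obtain ⟨el, hel⟩ := hne (op l)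
  obtain ⟨z, hz⟩ := hsub i ei (B.map fi el) hei (hmap fi el hel)
  obtain ⟨z', hz'⟩ : ∃ z' : A.obj (op l), A.map (fi ≫ f) z' = A.map f z := by
    have : (A ⋙ forget AddCommGrpCat).map f z ∈
        Set.range ((A ⋙ forget AddCommGrpCat).map (fi ≫ f)) := hf (fi ≫ f) ⟨z, rfl⟩
    obtain ⟨z', hz'⟩ := this
    exact ⟨z', hz'⟩
  have hy' : el + a.app (op l) z' ∈ E (op l) := hadd _ _ _ hel
  refine ⟨⟨B.map fk (el + a.app (op l) z'), hmap fk _ hy'⟩, ?_⟩
  apply Subtype.ext
  change B.map g (B.map fk (el + a.app (op l) z')) = B.map f ei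
  have e1 : B.map g (B.map fk (el + a.app (op l) z')) =
      B.map (fi ≫ f) (el + a.app (op l) z') := by
    rw [← hcomm, B.map_comp]; rfl
  rw [e1, map_add]
  have e2 : B.map (fi ≫ f) (a.app (op l) z') = a.app j (A.map (fi ≫ f) z') :=
    (NatTrans.naturality_apply a (fi ≫ f) z').symm
  have e3 : a.app j (A.map f z) = B.map f (a.app i z) := NatTrans.naturality_apply a f z
  have e4 : B.map (fi ≫ f) el = B.map f (B.map fi el) := by
    rw [B.map_comp]; rfl
  rw [e2, hz', e3, hz, e4, ← map_add, add_sub_cancel]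

/-- A compatible family of nonempty subsets of an inverse system of abelian groups, which are
torsors under the images of a Mittag-Leffler system, has a compatible family of elements. -/
theorem exists_section_of_torsor
    (hcof : ∃ s : Set ι, s.Countable ∧ ∀ i, ∃ j ∈ s, i ≤ j)
    {A B : ιᵒᵖ ⥤ AddCommGrpCat.{w}} (a : A ⟶ B)
    (hA : (A ⋙ forget AddCommGrpCat).IsMittagLeffler)
    (E : ∀ i : ιᵒᵖ, Set (B.obj i))
    (hmap : ∀ ⦃i j : ιᵒᵖ⦄ (f : i ⟶ j) (x : B.obj i), x ∈ E i → B.map f x ∈ E j)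
    (hne : ∀ i, (E i).Nonempty)
    (hsub : ∀ (i : ιᵒᵖ) (x y : B.obj i), x ∈ E i → y ∈ E i → ∃ z : A.obj i, a.app i z = x - y)
    (hadd : ∀ (i : ιᵒᵖ) (x : B.obj i) (z : A.obj i), x ∈ E i → x + a.app i z ∈ E i) :
    ∃ s : (B ⋙ forget AddCommGrpCat).sections, ∀ i, s.1 i ∈ E i := by
  have hML := subsetFunctor_isMittagLeffler a hA E hmap hne hsub hadd
  have : ∀ j, Nonempty ((subsetFunctor B E hmap).obj j) := fun j => (hne j).to_subtype
  obtain ⟨s, hs⟩ := nonempty_sections_of_isMittagLeffler hcof _ hML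
  refine ⟨⟨fun i => (s i).1, ?_⟩, fun i => (s i).2⟩
  intro i j f
  exact congrArg Subtype.val (hs f)

omit [Nonempty ι] in
/-- Extensions of Mittag-Leffler systems of abelian groups are Mittag-Leffler. -/
theorem isMittagLeffler_of_extension
    {A B C : ιᵒᵖ ⥤ AddCommGrpCat.{w}} (u : A ⟶ B) (v : B ⟶ C)
    (hv : ∀ i, Function.Surjective (v.app i).hom)
    (hex : ∀ i, (v.app i).hom.ker = (u.app i).hom.range)
    (hA : (A ⋙ forget AddCommGrpCat).IsMittagLeffler)
    (hC : (C ⋙ forget AddCommGrpCat).IsMittagLeffler) :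
    (B ⋙ forget AddCommGrpCat).IsMittagLeffler := by
  have hmem : ∀ (i : ιᵒᵖ) (x : B.obj i), (v.app i) x = 0 → ∃ z : A.obj i, u.app i z = x := by
    intro i x hx
    have := hex i
    have hx' : x ∈ (v.app i).hom.ker := hx
    rw [this] at hx'
    exact hx'
  intro t
  obtain ⟨p, fp, hfp⟩ := hA t
  obtain ⟨s, fs, hfs⟩ := hC p
  refine ⟨s, fs ≫ fp, ?_⟩
  intro k g
  rintro _ ⟨bs, rfl⟩
  obtain ⟨k', hk'k, hk's⟩ := exists_ge_ge k.unop s.unop
  let hk : Opposite.op k' ⟶ k := (homOfLE hk'k).op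
  let h : Opposite.op k' ⟶ s := (homOfLE hk's).op
  have hcomm : hk ≫ g = h ≫ fs ≫ fp := Subsingleton.elim _ _
  have h1 : (C ⋙ forget AddCommGrpCat).map fs (v.app s bs) ∈
      Set.range ((C ⋙ forget AddCommGrpCat).map (h ≫ fs)) := hfs (h ≫ fs) ⟨_, rfl⟩
  obtain ⟨ck', hck'⟩ := h1
  have hck'' : C.map (h ≫ fs) ck' = C.map fs (v.app s bs) := hck'
  obtain ⟨bk', rfl⟩ := hv _ ck'
  have hd : v.app p (B.map (h ≫ fs) bk' - B.map fs bs) = 0 := by
    rw [map_sub]
    have e1 : v.app p (B.map (h ≫ fs) bk') = C.map (h ≫ fs) (v.app _ bk') :=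
      NatTrans.naturality_apply v (h ≫ fs) bk'
    have e2 : v.app p (B.map fs bs) = C.map fs (v.app s bs) := NatTrans.naturality_apply v fs bs
    rw [e1, e2, hck'', sub_self]
  obtain ⟨ap, hap⟩ := hmem p _ hd
  have h2 : (A ⋙ forget AddCommGrpCat).map fp ap ∈
      Set.range ((A ⋙ forget AddCommGrpCat).map (h ≫ fs ≫ fp)) := hfp (h ≫ fs ≫ fp) ⟨_, rfl⟩
  obtain ⟨ak', hak'⟩ := h2
  have hak'' : A.map (h ≫ fs ≫ fp) ak' = A.map fp ap := hak'
  refine ⟨B.map hk (bk' - u.app _ ak'), ?_⟩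
  change B.map g (B.map hk (bk' - u.app _ ak')) = B.map (fs ≫ fp) bs
  have e3 : B.map g (B.map hk (bk' - u.app _ ak')) = B.map (h ≫ fs ≫ fp) (bk' - u.app _ ak') := by
    rw [← hcomm, B.map_comp]; rfl
  have e4 : B.map (h ≫ fs ≫ fp) (u.app _ ak') = u.app t (A.map (h ≫ fs ≫ fp) ak') :=
    (NatTrans.naturality_apply u (h ≫ fs ≫ fp) ak').symm
  have e5 : u.app t (A.map fp ap) = B.map fp (u.app p ap) := NatTrans.naturality_apply u fp ap
  have e6 : B.map (h ≫ fs ≫ fp) bk' = B.map fp (B.map (h ≫ fs) bk') := by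
    rw [← Category.assoc, B.map_comp]; rfl
  have e7 : B.map (fs ≫ fp) bs = B.map fp (B.map fs bs) := by
    rw [B.map_comp]; rfl
  rw [e3, map_sub, e4, hak'', e5, hap, e6, e7, ← map_sub, sub_sub_cancel]

end Torsor

section Limits

open CategoryTheory.Limits

universe w t

variable {J : Type u} [Category.{t} J]

/-- Elements of a limit of abelian groups are the compatible families. -/
noncomputable def limitEquivSections (F : J ⥤ AddCommGrpCat.{w}) [HasLimit F]
    [PreservesLimit F (forget AddCommGrpCat.{w})] :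
    (limit F : AddCommGrpCat.{w}) ≃ (F ⋙ forget AddCommGrpCat.{w}).sections :=
  Types.isLimitEquivSections (isLimitOfPreserves (forget AddCommGrpCat.{w}) (limit.isLimit F))

theorem limitEquivSections_apply (F : J ⥤ AddCommGrpCat.{w}) [HasLimit F]
    [PreservesLimit F (forget AddCommGrpCat.{w})] (x : (limit F : AddCommGrpCat.{w})) (j : J) :
    (limitEquivSections F x).1 j = limit.π F j x := rfl

theorem limitEquivSections_symm_apply (F : J ⥤ AddCommGrpCat.{w}) [HasLimit F]
    [PreservesLimit F (forget AddCommGrpCat.{w})] (s : (F ⋙ forget AddCommGrpCat.{w}).sections)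
    (j : J) : limit.π F j ((limitEquivSections F).symm s) = s.1 j := by
  have := limitEquivSections_apply F ((limitEquivSections F).symm s) j
  rw [Equiv.apply_symm_apply] at this
  exact this.symm

theorem limit_ext' (F : J ⥤ AddCommGrpCat.{w}) [HasLimit F]
    [PreservesLimit F (forget AddCommGrpCat.{w})] (x y : (limit F : AddCommGrpCat.{w}))
    (h : ∀ j, limit.π F j x = limit.π F j y) : x = y :=
  Concrete.limit_ext F x y h

theorem limMap_π_apply {F G : J ⥤ AddCommGrpCat.{w}} [HasLimit F] [HasLimit G] (α : F ⟶ G)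
    (x : (limit F : AddCommGrpCat.{w})) (j : J) :
    limit.π G j (limMap α x) = α.app j (limit.π F j x) := by
  have := limMap_π α j
  exact congrArg (fun φ => φ x) this

/-- For a Mittag-Leffler system of abelian groups over a directed preorder with a countable
cofinal subset, the image of the projection from the limit is the eventual range. -/
theorem mem_range_limit_π_iff {ι : Type u} [Preorder ι] [Nonempty ι] [IsDirected ι (· ≤ ·)]
    (hcof : ∃ s : Set ι, s.Countable ∧ ∀ i, ∃ j ∈ s, i ≤ j)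
    (F : ιᵒᵖ ⥤ AddCommGrpCat.{w}) [HasLimit F] [PreservesLimit F (forget AddCommGrpCat.{w})]
    (hF : (F ⋙ forget AddCommGrpCat.{w}).IsMittagLeffler) (i : ιᵒᵖ) (y : F.obj i) :
    y ∈ (limit.π F i).hom.range ↔ y ∈ (F ⋙ forget AddCommGrpCat.{w}).eventualRange i := by
  constructor
  · rintro ⟨z, rfl⟩
    rw [Functor.mem_eventualRange_iff]
    intro k f
    refine ⟨limit.π F k z, ?_⟩
    change F.map f (limit.π F k z) = limit.π F i z
    rw [← limit.w F f]; rfl
  · intro hy
    obtain ⟨s, hs⟩ := exists_section_of_mem_eventualRange hcof _ hF i y hy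
    exact ⟨(limitEquivSections F).symm s, (limitEquivSections_symm_apply F s i).trans hs⟩

theorem nat_hcof : ∃ s : Set ℕ, s.Countable ∧ ∀ i, ∃ j ∈ s, i ≤ j :=
  ⟨Set.univ, Set.countable_univ, fun i => ⟨i, trivial, le_rfl⟩⟩

/-- The `ℕ`-indexed version: the image of the projection from the limit consists of the elements
lying in the images of all transition maps. -/
theorem mem_range_limit_π_iff_nat (F : ℕᵒᵖ ⥤ AddCommGrpCat.{w}) [HasLimit F]
    [PreservesLimit F (forget AddCommGrpCat.{w})]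
    (hF : (F ⋙ forget AddCommGrpCat.{w}).IsMittagLeffler) (n : ℕ) (y : F.obj (op n)) :
    y ∈ (limit.π F (op n)).hom.range ↔
      ∀ (k : ℕ) (hk : n ≤ k), y ∈ (F.map (homOfLE hk).op).hom.range := by
  rw [mem_range_limit_π_iff nat_hcof F hF, Functor.mem_eventualRange_iff]
  constructor
  · intro h k hk
    exact h (homOfLE hk).op
  · intro h k f
    have hk : n ≤ k.unop := leOfHom f.unop
    have : f = (homOfLE hk).op := Subsingleton.elim _ _
    rw [this]
    exact h k.unop hk

theorem map_homOfLE_trans_apply (F : ℕᵒᵖ ⥤ AddCommGrpCat.{w}) {n m l : ℕ} (h1 : n ≤ m)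
    (h2 : m ≤ l) (x : F.obj (op l)) :
    F.map (homOfLE (h1.trans h2)).op x = F.map (homOfLE h1).op (F.map (homOfLE h2).op x) := by
  have e : (homOfLE (h1.trans h2)).op = (homOfLE h2).op ≫ (homOfLE h1).op :=
    Subsingleton.elim _ _
  rw [e, F.map_comp]; rfl

/-- Elementwise form of the Mittag-Leffler condition for `ℕ`-indexed systems of abelian groups. -/
theorem isMittagLeffler_nat_iff (F : ℕᵒᵖ ⥤ AddCommGrpCat.{w}) :
    (F ⋙ forget AddCommGrpCat.{w}).IsMittagLeffler ↔
      ∀ n : ℕ, ∃ (m : ℕ) (h : n ≤ m), ∀ (l : ℕ) (hl : m ≤ l) (x : F.obj (op m)),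
        ∃ z : F.obj (op l), F.map (homOfLE (h.trans hl)).op z = F.map (homOfLE h).op x := by
  constructor
  · intro hF n
    obtain ⟨i, f, hf⟩ := hF (op n)
    have h : n ≤ i.unop := leOfHom f.unop
    have ef : f = (homOfLE h).op := Subsingleton.elim _ _
    refine ⟨i.unop, h, fun l hl x => ?_⟩
    have hx : (F ⋙ forget AddCommGrpCat.{w}).map f x ∈
        Set.range ((F ⋙ forget AddCommGrpCat.{w}).map (homOfLE (h.trans hl)).op) := hf _ ⟨x, rfl⟩
    obtain ⟨z, hz⟩ := hx
    rw [ef] at hz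
    exact ⟨z, hz⟩
  · intro hF j
    obtain ⟨m, h, hm⟩ := hF j.unop
    refine ⟨op m, (homOfLE h).op, ?_⟩
    intro k g
    have hjk : j.unop ≤ k.unop := leOfHom g.unop
    have eg : g = (homOfLE hjk).op := Subsingleton.elim _ _
    rintro _ ⟨x, rfl⟩
    obtain ⟨z, hz⟩ := hm (max k.unop m) (le_max_right _ _) x
    refine ⟨F.map (homOfLE (le_max_left k.unop m)).op z, ?_⟩
    rw [eg]
    change F.map (homOfLE hjk).op (F.map (homOfLE (le_max_left k.unop m)).op z) =
      F.map (homOfLE h).op x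
    rw [← map_homOfLE_trans_apply F hjk (le_max_left k.unop m) z]
    exact hz

end Limits

end Groth.Agent.Lib.Helper10
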