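import Mathlib

set_option autoImplicit false
universe u
open CategoryTheory CategoryTheory.Limits AlgebraicGeometry TensorProduct

namespace Groth.Agent.Lib.Helper10.MonoField

theorem surjective_of_isEpi_field (k K : Type*) [Field k] [Field K] [Algebra k K]
    [Algebra.IsEpi k K] : Function.Surjective (algebraMap k K) := by
  intro a
  obtain ⟨g, hg⟩ := LinearMap.exists_leftInverse_of_injective (Algebra.linearMap k K)
    (LinearMap.ker_eq_bot.mpr (algebraMap k K).injective)
  let ψ : K ⊗[k] K →ₗ[k] K := TensorProduct.lift ((LinearMap.lsmul k K).comp g)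
  have h1 : ψ (1 ⊗ₜ a) = a := by
    have : g 1 = 1 := by
      have := LinearMap.congr_fun hg 1
      simpa using this
    simp [ψ, this]
  have h2 : ψ (a ⊗ₜ 1) = algebraMap k K (g a) := by
    simp [ψ, Algebra.algebraMap_eq_smul_one]
  refine ⟨g a, ?_⟩
  rw [← h2, ← (Algebra.isEpi_iff_forall_one_tmul_eq k K).mp inferInstance a, h1]

theorem isIso_of_mono_of_nonempty {Y : Scheme.{u}} (K : Type u) [Field K]
    (r : Y ⟶ Spec (CommRingCat.of K)) [Mono r] [Nonempty Y] : IsIso r := by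
  obtain ⟨y⟩ := ‹Nonempty Y›
  let j := Y.fromSpecResidueField y
  have : Mono (j ≫ r) := mono_comp _ _
  obtain ⟨φ, hφ⟩ : ∃ φ : CommRingCat.of K ⟶ Y.residueField y, Spec.map φ = j ≫ r :=
    ⟨Spec.preimage (j ≫ r), Spec.map_preimage _⟩
  have : Mono (Spec.map φ) := hφ ▸ this
  have hepi : Epi φ := by
    have : Mono φ.op := Scheme.Spec.mono_of_mono_map (by exact this)
    exact unop_epi_of_mono φ.op
  have hsurj : Function.Surjective φ.hom := by
    algebraize [φ.hom]
    have : Algebra.IsEpi K (Y.residueField y) :=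
      CommRingCat.epi_iff_epi.mp <| inferInstanceAs (Epi φ)
    exact surjective_of_isEpi_field K (Y.residueField y)
  have hbij : Function.Bijective φ.hom := ⟨φ.hom.injective, hsurj⟩
  have : IsIso φ := (ConcreteCategory.isIso_iff_bijective φ).mpr hbij
  have hiso : IsIso (j ≫ r) := hφ ▸ inferInstance
  have : IsSplitEpi r := ⟨⟨⟨inv (j ≫ r) ≫ j, by simp⟩⟩⟩
  exact isIso_of_mono_of_isSplitEpi r

open scoped Function in
theorem exists_iso_sigma {ι : Type u} (k : ι → Type u) [∀ i, Field (k i)]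
    {Y : Scheme.{u}} (f : Y ⟶ ∐ fun i => Spec (CommRingCat.of (k i))) [Mono f] :
    ∃ (J : Set ι) (e : Y ≅ ∐ fun j : J => Spec (CommRingCat.of (k j.1))),
      e.hom ≫ Sigma.desc (fun j : J => Sigma.ι (fun i => Spec (CommRingCat.of (k i))) j.1) = f := by
  let g : ι → Scheme.{u} := fun i => Spec (CommRingCat.of (k i))
  let J : Set ι := {i | Nonempty (pullback f (Sigma.ι g i) : Scheme.{u})}
  have hiso : ∀ j : J, IsIso (pullback.snd f (Sigma.ι g j.1)) := fun j => by
    have : Nonempty (pullback f (Sigma.ι g j.1) : Scheme.{u}) := j.2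
    exact isIso_of_mono_of_nonempty (k j.1) _
  let s : ∀ j : J, g j.1 ⟶ Y := fun j =>
    inv (pullback.snd f (Sigma.ι g j.1)) ≫ pullback.fst f (Sigma.ι g j.1)
  have hs : ∀ j, s j ≫ f = Sigma.ι g j.1 := by
    intro j
    simp [s, pullback.condition]
  have hoi : ∀ j, IsOpenImmersion (s j) := fun j => by
    dsimp only [s]; infer_instance
  have hcov : ⨆ j, (s j).opensRange = ⊤ := by
    rw [eq_top_iff]
    intro y _
    obtain ⟨⟨i, z⟩, hz⟩ := (sigmaMk g).surjective (f y)
    rw [sigmaMk_mk] at hz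
    obtain ⟨w, hw1, hw2⟩ := Scheme.Pullback.exists_preimage_pullback (f := f) (g := Sigma.ι g i)
      y z hz.symm
    have hi : i ∈ J := ⟨w⟩
    simp only [TopologicalSpace.Opens.iSup_mk, TopologicalSpace.Opens.mem_mk, Set.mem_iUnion]
    refine ⟨⟨i, hi⟩, pullback.snd f (Sigma.ι g i) w, ?_⟩
    have := hiso ⟨i, hi⟩
    change (pullback.snd f (Sigma.ι g i) ≫ inv (pullback.snd f (Sigma.ι g i)) ≫
      pullback.fst f (Sigma.ι g i)) w = y
    rw [IsIso.hom_inv_id_assoc]
    exact hw1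
  have hdisj : Pairwise (Disjoint on (s · |>.opensRange)) := by
    intro i j hij
    rw [Function.onFun_apply, disjoint_iff, TopologicalSpace.Opens.ext_iff]
    simp only [TopologicalSpace.Opens.coe_inf, TopologicalSpace.Opens.coe_bot]
    rw [Set.eq_empty_iff_forall_notMem]
    rintro _ ⟨⟨a, rfl⟩, ⟨b, hb⟩⟩
    have h1 : Sigma.ι g i.1 a = Sigma.ι g j.1 b := by
      have e1 : (s i ≫ f) a = f ((s i) a) := rfl
      have e2 : (s j ≫ f) b = f ((s j) b) := rfl
      rw [← hs i, ← hs j, e1, e2, hb]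
    have := (sigmaι_eq_iff g _ _ _ _).mp h1
    exact hij (Subtype.ext (Sigma.mk.inj_iff.mp this).1)
  obtain ⟨hc⟩ := nonempty_isColimit_cofanMk_of s hcov hdisj
  let e : Y ≅ ∐ fun j : J => g j.1 :=
    hc.coconePointUniqueUpToIso (colimit.isColimit _)
  refine ⟨J, e, ?_⟩
  rw [← Iso.eq_inv_comp]
  apply Sigma.hom_ext
  intro j
  have h1 : Sigma.ι (fun j : J => g j.1) j ≫ e.inv = s j :=
    IsColimit.comp_coconePointUniqueUpToIso_inv hc (colimit.isColimit _) ⟨j⟩
  rw [Sigma.ι_desc, reassoc_of% h1, hs]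

theorem exists_iso_Spec_pi {ι : Type u} [Finite ι] (k : ι → Type u) [∀ i, Field (k i)]
    {X : Scheme.{u}} (f : X ⟶ Spec (CommRingCat.of (Π i, k i))) [Mono f] :
    ∃ (I : Set ι) (e : X ≅ Spec (CommRingCat.of (Π i : I, k i))),
      e.hom ≫ Spec.map (CommRingCat.ofHom (Pi.ringHom fun i : I => Pi.evalRingHom k i.1)) = f := by
  let R : ι → CommRingCat.{u} := fun i => CommRingCat.of (k i)
  let σ : (∐ fun i => Spec (R i)) ⟶ Spec (CommRingCat.of (Π i, k i)) := sigmaSpec R
  have : IsIso σ := inferInstanceAs (IsIso (sigmaSpec R))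
  let f' : X ⟶ ∐ fun i => Spec (CommRingCat.of (k i)) := f ≫ inv σ
  have : Mono f' := mono_comp _ _
  obtain ⟨J, e, he⟩ := exists_iso_sigma k f'
  let R' : J → CommRingCat.{u} := fun j => CommRingCat.of (k j.1)
  let σ' : (∐ fun j : J => Spec (CommRingCat.of (k j.1))) ⟶
      Spec (CommRingCat.of (Π i : J, k i)) := sigmaSpec R'
  have : IsIso σ' := inferInstanceAs (IsIso (sigmaSpec R'))
  refine ⟨J, e ≪≫ asIso σ', ?_⟩
  have key : σ' ≫ Spec.map (CommRingCat.ofHom (Pi.ringHom fun i : J => Pi.evalRingHom k i.1)) =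
      Sigma.desc (fun j : J => Sigma.ι (fun i => Spec (CommRingCat.of (k i))) j.1) ≫ σ := by
    apply Sigma.hom_ext
    intro j
    rw [Sigma.ι_desc_assoc]
    have h1 : Sigma.ι (fun i => Spec (CommRingCat.of (k i))) j.1 ≫ σ =
        Spec.map (CommRingCat.ofHom (Pi.evalRingHom _ j.1)) := ι_sigmaSpec R j.1
    have h2 : Sigma.ι (fun j : J => Spec (CommRingCat.of (k j.1))) j ≫ σ' =
        Spec.map (CommRingCat.ofHom (Pi.evalRingHom _ j)) := ι_sigmaSpec R' j
    rw [h1, reassoc_of% h2, ← Spec.map_comp]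
    rfl
  simp only [Iso.trans_hom, asIso_hom, Category.assoc]
  rw [key, reassoc_of% he]
  simp [f']

end Groth.Agent.Lib.Helper10.MonoField
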