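import Mathlib

/-!
# Monogenic finite algebras over a local ring: a monic equation with unit derivative at unramified
maximal ideals (helper10)
-/

open Polynomial

universe u

namespace Groth.Agent.Lib.Helper10.MonoGen

variable {A B : Type u} [CommRing A] [CommRing B] [Algebra A B]

/-- polynomials with coefficients in `I` evaluate into `I B`. -/
theorem aeval_mem_map_of_coeff_mem (I : Ideal A) (u : B) (S : A[X]) (hS : ∀ i, S.coeff i ∈ I) :
    aeval u S ∈ I.map (algebraMap A B) := by
  rw [aeval_eq_sum_range]
  refine Ideal.sum_mem _ fun i _ => ?_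
  rw [Algebra.smul_def]
  exact Ideal.mul_mem_right _ _ (Ideal.mem_map_of_mem _ (hS i))

/-- Let `d` be such that no monic polynomial of degree `< d` has value at `u` in `m B`. Then any
polynomial of degree `< d` with value in `m B` has coefficients in `m`. -/
theorem coeff_mem_of_aeval_mem [IsLocalRing A] (u : B) (d : ℕ)
    (hmin : ∀ G : A[X], G.Monic → G.natDegree < d →
      aeval u G ∉ (IsLocalRing.maximalIdeal A).map (algebraMap A B)) :
    ∀ (e : ℕ) (R : A[X]), R.natDegree = e → R.degree < d →
      aeval u R ∈ (IsLocalRing.maximalIdeal A).map (algebraMap A B) →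
      ∀ i, R.coeff i ∈ IsLocalRing.maximalIdeal A := by
  intro e
  induction e using Nat.strong_induction_on with
  | _ e ih =>
    intro R hRe hRd hRu i
    by_cases hR0 : R = 0
    · simp [hR0]
    have hnat : R.natDegree < d := by
      rw [← Polynomial.natDegree_lt_iff_degree_lt hR0] at hRd
      exact hRd
    by_cases hc : R.leadingCoeff ∈ IsLocalRing.maximalIdeal A
    · -- erase the leading term
      have hdecomp := R.eraseLead_add_monomial_natDegree_leadingCoeff
      have hmon : aeval u (monomial R.natDegree R.leadingCoeff) ∈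
          (IsLocalRing.maximalIdeal A).map (algebraMap A B) := by
        rw [← C_mul_X_pow_eq_monomial, map_mul, aeval_C]
        exact Ideal.mul_mem_right _ _ (Ideal.mem_map_of_mem _ hc)
      have hEu : aeval u R.eraseLead ∈ (IsLocalRing.maximalIdeal A).map (algebraMap A B) := by
        have : aeval u R.eraseLead = aeval u R - aeval u (monomial R.natDegree R.leadingCoeff) := by
          rw [← map_sub]; congr 1; rw [eq_sub_iff_add_eq]; exact hdecomp
        rw [this]
        exact Ideal.sub_mem _ hRu hmon
      have hEcoeff : ∀ j, R.eraseLead.coeff j ∈ IsLocalRing.maximalIdeal A := by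
        by_cases hE0 : R.eraseLead = 0
        · intro j; simp [hE0]
        have hlt : R.eraseLead.natDegree < R.natDegree := by
          rcases R.eraseLead_natDegree_lt_or_eraseLead_eq_zero with h | h
          · exact h
          · exact absurd h hE0
        refine ih R.eraseLead.natDegree (hRe ▸ hlt) R.eraseLead rfl ?_ hEu
        rw [Polynomial.degree_eq_natDegree hE0]
        exact_mod_cast lt_trans hlt hnat
      by_cases hi : i = R.natDegree
      · rw [hi]; exact hc
      · rw [← Polynomial.eraseLead_coeff_of_ne i hi]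
        exact hEcoeff i
    · -- leading coefficient is a unit: contradiction with minimality
      exfalso
      have hunit : IsUnit R.leadingCoeff := by
        by_contra hnu
        exact hc ((IsLocalRing.mem_maximalIdeal _).mpr hnu)
      obtain ⟨c, hcu⟩ := hunit
      have hmonic : (C (↑c⁻¹ : A) * R).Monic := by
        rw [Polynomial.Monic, Polynomial.leadingCoeff_mul', leadingCoeff_C, ← hcu]
        · simp
        · rw [leadingCoeff_C, ← hcu]; simp
      have hdeg : (C (↑c⁻¹ : A) * R).natDegree < d := by
        refine lt_of_le_of_lt (Polynomial.natDegree_C_mul_le _ _) hnat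
      refine hmin _ hmonic hdeg ?_
      rw [map_mul]
      exact Ideal.mul_mem_left _ _ hRu

/-- Existence of the monic equation of minimal degree. -/
theorem exists_monic_min [IsLocalRing A] [Module.Finite A B] (u : B)
    (hu : Algebra.adjoin A ({u} : Set B) = ⊤) :
    ∃ (F : A[X]), F.Monic ∧ aeval u F = 0 ∧
      ∀ G : A[X], G.Monic → G.natDegree < F.natDegree →
        aeval u G ∉ (IsLocalRing.maximalIdeal A).map (algebraMap A B) := by
  classical
  set mB := (IsLocalRing.maximalIdeal A).map (algebraMap A B) with hmB
  have hsurj : ∀ b : B, ∃ P : A[X], aeval u P = b := by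
    intro b
    have hb : b ∈ Algebra.adjoin A ({u} : Set B) := hu ▸ Algebra.mem_top
    rw [Algebra.adjoin_singleton_eq_range_aeval] at hb
    exact hb
  -- some monic polynomial has value in `mB`
  have hex : ∃ e : ℕ, ∃ G : A[X], G.Monic ∧ G.natDegree = e ∧ aeval u G ∈ mB := by
    obtain ⟨G, hG, hGu⟩ := Algebra.IsIntegral.isIntegral (R := A) u
    refine ⟨G.natDegree, G, hG, rfl, ?_⟩
    rw [aeval_def, hGu]
    exact Ideal.zero_mem _
  set d := Nat.find hex with hd
  obtain ⟨G, hGm, hGd, hGu⟩ := Nat.find_spec hex
  have hmin : ∀ G' : A[X], G'.Monic → G'.natDegree < d → aeval u G' ∉ mB := by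
    intro G' hG' hlt hmem
    exact Nat.find_min hex hlt ⟨G', hG', rfl, hmem⟩
  -- Nakayama
  set N : Submodule A B := (Polynomial.degreeLT A d).map (aeval u).toLinearMap with hN
  have htop : (⊤ : Submodule A B) ≤ N := by
    refine Submodule.le_of_le_smul_of_le_jacobson_bot (I := IsLocalRing.maximalIdeal A)
      Module.Finite.fg_top (IsLocalRing.jacobson_eq_maximalIdeal ⊥ bot_ne_top).ge ?_
    rw [Ideal.smul_top_eq_map]
    intro b _
    obtain ⟨P, rfl⟩ := hsurj b
    have hdecomp : P %ₘ G + G * (P /ₘ G) = P := Polynomial.modByMonic_add_div P G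
    rw [← hdecomp, map_add, map_mul]
    refine Submodule.add_mem_sup ?_ ?_
    · refine ⟨P %ₘ G, ?_, rfl⟩
      rw [SetLike.mem_coe, Polynomial.mem_degreeLT]
      have h1 := Polynomial.degree_modByMonic_lt P hGm
      have h2 : G.degree ≤ (d : WithBot ℕ) := by
        rw [hd, ← hGd]; exact Polynomial.degree_le_natDegree
      exact lt_of_lt_of_le h1 h2
    · show aeval u G * aeval u (P /ₘ G) ∈ mB
      exact Ideal.mul_mem_right _ _ hGu
  have hud : u ^ d ∈ N := htop trivial
  obtain ⟨R0, hR0, hR0u⟩ := hud
  rw [SetLike.mem_coe, Polynomial.mem_degreeLT] at hR0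
  have hR0u' : aeval u R0 = u ^ d := hR0u
  have hFm : (X ^ d - R0 : A[X]).Monic := by
    refine Polynomial.Monic.sub_of_left (monic_X_pow d) ?_
    rw [degree_X_pow]
    exact hR0
  have hFd : (X ^ d - R0 : A[X]).natDegree = d := by
    by_cases h0 : R0 = 0
    · rw [h0, sub_zero]
      exact natDegree_X_pow d
    · rw [Polynomial.natDegree_sub_eq_left_of_natDegree_lt]
      · exact natDegree_X_pow d
      · rw [natDegree_X_pow]
        exact (Polynomial.natDegree_lt_iff_degree_lt h0).mpr hR0
  refine ⟨X ^ d - R0, hFm, ?_, ?_⟩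
  · rw [map_sub, map_pow, aeval_X, hR0u', sub_self]
  · intro G' hG' hlt
    rw [hFd] at hlt
    exact hmin G' hG' hlt

/-- If `F` is the minimal monic equation and `F'(u) ∈ n` for an ideal `n ⊇ m B`, then `P'(u) ∈ n`
for every `P` with `P(u) = 0`. -/
theorem derivative_mem_of_aeval_eq_zero [IsLocalRing A] (u : B) (F : A[X]) (hFm : F.Monic)
    (hFu : aeval u F = 0)
    (hmin : ∀ G : A[X], G.Monic → G.natDegree < F.natDegree →
        aeval u G ∉ (IsLocalRing.maximalIdeal A).map (algebraMap A B))
    (n : Ideal B) (hn : (IsLocalRing.maximalIdeal A).map (algebraMap A B) ≤ n)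
    (hF' : aeval u (derivative F) ∈ n) (P : A[X]) (hP : aeval u P = 0) :
    aeval u (derivative P) ∈ n := by
  have hdecomp : P %ₘ F + F * (P /ₘ F) = P := Polynomial.modByMonic_add_div P F
  set R := P %ₘ F with hR
  set Q := P /ₘ F with hQ
  have hRu : aeval u R = 0 := by
    have : aeval u R = aeval u P - aeval u F * aeval u Q := by
      rw [← map_mul, ← map_sub]; congr 1; rw [eq_sub_iff_add_eq]; exact hdecomp
    rw [this, hP, hFu]; simp
  have hnt : Nontrivial A := inferInstance
  have hRdeg : R.degree < (F.natDegree : WithBot ℕ) := by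
    have h1 := Polynomial.degree_modByMonic_lt P hFm
    rw [Polynomial.degree_eq_natDegree hFm.ne_zero] at h1
    exact h1
  have hRcoeff := coeff_mem_of_aeval_mem u F.natDegree hmin R.natDegree R rfl hRdeg
    (by rw [hRu]; exact Ideal.zero_mem _)
  have hR' : aeval u (derivative R) ∈ n := by
    refine hn (aeval_mem_map_of_coeff_mem _ u _ fun i => ?_)
    rw [Polynomial.coeff_derivative]
    exact Ideal.mul_mem_right _ _ (hRcoeff _)
  rw [← hdecomp, derivative_add, derivative_mul, map_add, map_add, map_mul, map_mul, hFu, zero_mul,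
    add_zero]
  exact Ideal.add_mem _ hR' (Ideal.mul_mem_right _ _ hF')

section Der

variable (u : B) (n : Ideal B) (hsurj : ∀ b : B, ∃ P : A[X], aeval u P = b)
  (hkey : ∀ P : A[X], aeval u P = 0 → aeval u (derivative P) ∈ n)

/-- the function underlying the derivation `P(u) ↦ P'(u) mod n`. -/
noncomputable def dfun (b : B) : B ⧸ n :=
  Ideal.Quotient.mk n (aeval u (derivative (hsurj b).choose))

include hkey in
theorem dfun_aeval (P : A[X]) :
    dfun u n hsurj (aeval u P) = Ideal.Quotient.mk n (aeval u (derivative P)) := by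
  unfold dfun
  rw [Ideal.Quotient.eq, ← map_sub, ← derivative_sub]
  apply hkey
  rw [map_sub, (hsurj _).choose_spec, sub_self]

/-- the derivation `P(u) ↦ P'(u) mod n`. -/
noncomputable def der : Derivation A B (B ⧸ n) :=
  Derivation.mk'
    { toFun := dfun u n hsurj
      map_add' := by
        intro b c
        obtain ⟨P, rfl⟩ := hsurj b
        obtain ⟨Q, rfl⟩ := hsurj c
        rw [← map_add, dfun_aeval u n hsurj hkey, dfun_aeval u n hsurj hkey,
          dfun_aeval u n hsurj hkey, derivative_add, map_add, map_add]
      map_smul' := by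
        intro a b
        obtain ⟨P, rfl⟩ := hsurj b
        rw [← map_smul, dfun_aeval u n hsurj hkey, dfun_aeval u n hsurj hkey,
          derivative_smul, map_smul]
        rfl }
    (by
      intro b c
      obtain ⟨P, rfl⟩ := hsurj b
      obtain ⟨Q, rfl⟩ := hsurj c
      show dfun u n hsurj (aeval u P * aeval u Q) = aeval u P • dfun u n hsurj (aeval u Q) +
        aeval u Q • dfun u n hsurj (aeval u P)
      rw [← map_mul, dfun_aeval u n hsurj hkey, dfun_aeval u n hsurj hkey,
        dfun_aeval u n hsurj hkey, derivative_mul, map_add, map_mul, map_mul, map_add]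
      show _ = Ideal.Quotient.mk n (aeval u P * aeval u (derivative Q)) +
        Ideal.Quotient.mk n (aeval u Q * aeval u (derivative P))
      rw [add_comm, mul_comm (aeval u (derivative P))])

theorem der_u : der u n hsurj hkey u = 1 := by
  have h := dfun_aeval u n hsurj hkey X
  rw [aeval_X, derivative_X, map_one, map_one] at h
  exact h

end Der

theorem main5077 (A B : Type u) [CommRing A] [IsLocalRing A]
    [CommRing B] [Algebra A B] [Module.Finite A B] (u : B)
    (hu : Algebra.adjoin A ({u} : Set B) = ⊤) :
    ∃ F : Polynomial A, F.Monic ∧ Polynomial.aeval u F = 0 ∧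
      ∀ (n : Ideal B) [n.IsMaximal], Algebra.IsUnramifiedAt A n →
        Polynomial.aeval u (Polynomial.derivative F) ∉ n := by
  obtain ⟨F, hFm, hFu, hmin⟩ := exists_monic_min (A := A) u hu
  refine ⟨F, hFm, hFu, ?_⟩
  intro n hnmax hunr hF'
  have hsurj : ∀ b : B, ∃ P : A[X], aeval u P = b := by
    intro b
    have hb : b ∈ Algebra.adjoin A ({u} : Set B) := hu ▸ Algebra.mem_top
    rw [Algebra.adjoin_singleton_eq_range_aeval] at hb
    exact hb
  have hn : (IsLocalRing.maximalIdeal A).map (algebraMap A B) ≤ n := by
    rw [Ideal.map_le_iff_le_comap]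
    have hmax : (n.comap (algebraMap A B)).IsMaximal :=
      Ideal.isMaximal_comap_of_isIntegral_of_isMaximal n
    rw [IsLocalRing.eq_maximalIdeal hmax]
  have hkey := derivative_mem_of_aeval_eq_zero u F hFm hFu hmin n hn hF'
  -- `n` is not in the support of the Kähler differentials
  have hloc : (⟨n, inferInstance⟩ : PrimeSpectrum B) ∈ Algebra.unramifiedLocus A B := hunr
  rw [Algebra.unramifiedLocus_eq_compl_support, Set.mem_compl_iff,
    Module.notMem_support_iff'] at hloc
  obtain ⟨r, hr, hr0⟩ := hloc (KaehlerDifferential.D A B u)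
  set d := der u n hsurj hkey with hd
  have h1 : d.liftKaehlerDifferential (r • KaehlerDifferential.D A B u) = 0 := by
    rw [hr0, map_zero]
  rw [map_smul, Derivation.liftKaehlerDifferential_comp_D, hd, der_u] at h1
  apply hr
  have h2 : Ideal.Quotient.mk n r = 0 := by
    have : r • (1 : B ⧸ n) = Ideal.Quotient.mk n r := by
      rw [Algebra.smul_def, mul_one]; rfl
    rw [← this]; exact h1
  exact Ideal.Quotient.eq_zero_iff_mem.mp h2

end Groth.Agent.Lib.Helper10.MonoGen
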