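/-
Helper14NLBC (helper14): naive cotangent complexes of presentations on the same variables.
* `toAlgHom_eq_map`, `cotangentSpaceMap_basis`, `liftBaseChange_cotangentSpaceMap_bijective`:
  a hom of generators sending each variable to itself induces basis-to-basis maps on `S ⊗ Ω`.
* `cotangentMap_bijective_of_localization`: `I/I² → I'/I'²` is bijective when the base and the
  presentation ring are localised at the same multiplicative set.
* `isIso_mkHomFromDouble`: a map out of a two-term complex which is iso in both degrees is iso.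
* `ker_eq_map_ker`, `liftBaseChange_cotangentMap_surjective`, `exists_mem_ker_baseChange_sameVars`,
  `exists_mem_ker_baseChange_self`: for a cocartesian square the map
  `H^{-1}(NL ⊗ S') → H^{-1}(NL')` is surjective (base-changed presentation, and presentations on
  all elements).
-/
import Mathlib

set_option autoImplicit false
universe u v
open TensorProduct MvPolynomial Algebra CategoryTheory CategoryTheory.Limits

namespace Groth.Agent.Lib.Helper14.NLBC


section Square

variable {R S R' S' : Type u} [CommRing R] [CommRing S] [CommRing R'] [CommRing S']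
  [Algebra R S] [Algebra R' S'] [Algebra R R'] [Algebra S S'] [Algebra R S']
  [IsScalarTower R R' S'] [IsScalarTower R S S']
  {ι : Type u} {G : Algebra.Generators R S ι} {G' : Algebra.Generators R' S' ι}

theorem toAlgHom_eq_map (f : G.Hom G') (hf : ∀ i, f.val i = X i) (p : MvPolynomial ι R) :
    f.toAlgHom p = MvPolynomial.map (algebraMap R R') p := by
  induction p using MvPolynomial.induction_on with
  | C a => simp [Algebra.Generators.Hom.toAlgHom]
  | add p q hp hq => rw [map_add, map_add, hp, hq]
  | mul_X p i hp => rw [map_mul, map_mul, hp, Algebra.Generators.Hom.toAlgHom_X, hf, map_X]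

theorem cotangentSpaceMap_basis (f : G.Hom G') (hf : ∀ i, f.val i = X i) (i : ι) :
    Extension.CotangentSpace.map f.toExtensionHom (G.cotangentSpaceBasis i) =
      G'.cotangentSpaceBasis i := by
  classical
  apply G'.cotangentSpaceBasis.repr.injective
  ext j
  rw [Algebra.Generators.repr_CotangentSpaceMap, hf, Module.Basis.repr_self,
    Finsupp.single_apply, pderiv_X]
  by_cases hij : i = j
  · subst hij; simp
  · simp [hij, Pi.single_apply]

theorem liftBaseChange_cotangentSpaceMap_bijective (f : G.Hom G') (hf : ∀ i, f.val i = X i) :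
    Function.Bijective
      (LinearMap.liftBaseChange S' (Extension.CotangentSpace.map f.toExtensionHom)) := by
  have : LinearMap.liftBaseChange S' (Extension.CotangentSpace.map f.toExtensionHom) =
      ((G.cotangentSpaceBasis.baseChange S').equiv G'.cotangentSpaceBasis
        (Equiv.refl ι)).toLinearMap := by
    apply (G.cotangentSpaceBasis.baseChange S').ext
    intro i
    rw [LinearEquiv.coe_coe, Module.Basis.equiv_apply, Equiv.refl_apply,
      Module.Basis.baseChange_apply, LinearMap.liftBaseChange_tmul, one_smul,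
      cotangentSpaceMap_basis f hf]
  rw [this]
  exact LinearEquiv.bijective _

end Square



section Localization

variable {A A' B : Type u} [CommRing A] [CommRing A'] [CommRing B] [Algebra A A']
  (M : Submonoid A) [IsLocalization M A'] [Algebra A' B] [Algebra A B] [IsScalarTower A A' B]
  {P : Algebra.Extension.{u} A B} {P' : Algebra.Extension.{u} A' B} (f : P.Hom P')

omit [IsLocalization M A'] [Algebra A' B] [IsScalarTower A A' B] [Algebra A A'] in
theorem smul_mk_eq (Q : Algebra.Extension.{u} A B) (a : A) (x : Q.ker) :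
    algebraMap A B a • Algebra.Extension.Cotangent.mk x =
      Algebra.Extension.Cotangent.mk (algebraMap A Q.Ring a • x) := by
  rw [map_smul, algebraMap_smul, algebraMap_smul]

theorem mem_ker_of_toRingHom_mem_ker {p : P.Ring} (hp : f.toRingHom p ∈ P'.ker) : p ∈ P.ker := by
  rw [Algebra.Extension.ker, RingHom.mem_ker] at hp ⊢
  have := f.algebraMap_toRingHom p
  rw [hp] at this
  exact this.symm


theorem cotangentMap_bijective_of_localization
    (h1 : ∀ x' : P'.Ring, ∃ m ∈ M, ∃ p : P.Ring,
      algebraMap A' P'.Ring (algebraMap A A' m) * x' = f.toRingHom p)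
    (h2 : ∀ p : P.Ring, f.toRingHom p = 0 → ∃ m ∈ M, algebraMap A P.Ring m * p = 0) :
    Function.Bijective (Algebra.Extension.Cotangent.map f) := by
  have hunit : ∀ m ∈ M, IsUnit (algebraMap A B m) := by
    intro m hm
    rw [IsScalarTower.algebraMap_apply A A' B]
    exact (IsLocalization.map_units A' ⟨m, hm⟩).map _
  have hfC : ∀ a : A, f.toRingHom (algebraMap A P.Ring a) =
      algebraMap A' P'.Ring (algebraMap A A' a) := fun a => f.toRingHom_algebraMap a
  have key1 : ∀ x' ∈ P'.ker, ∃ m ∈ M, ∃ p ∈ P.ker,
      algebraMap A' P'.Ring (algebraMap A A' m) * x' = f.toRingHom p := by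
    intro x' hx'
    obtain ⟨m, hm, p, hp⟩ := h1 x'
    refine ⟨m, hm, p, mem_ker_of_toRingHom_mem_ker f ?_, hp⟩
    rw [← hp]
    exact Ideal.mul_mem_left _ _ hx'
  have key2 : ∀ z ∈ P'.ker ^ 2, ∃ m ∈ M, ∃ q ∈ P.ker ^ 2,
      algebraMap A' P'.Ring (algebraMap A A' m) * z = f.toRingHom q := by
    intro z hz
    rw [pow_two] at hz
    refine Submodule.mul_induction_on hz ?_ ?_
    · intro x hx y hy
      obtain ⟨m1, hm1, p1, hp1, e1⟩ := key1 x hx
      obtain ⟨m2, hm2, p2, hp2, e2⟩ := key1 y hy
      refine ⟨m1 * m2, M.mul_mem hm1 hm2, p1 * p2, ?_, ?_⟩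
      · rw [pow_two]; exact Ideal.mul_mem_mul hp1 hp2
      · rw [map_mul, map_mul, map_mul, ← e1, ← e2]; ring
    · intro x y ⟨m1, hm1, q1, hq1, e1⟩ ⟨m2, hm2, q2, hq2, e2⟩
      refine ⟨m1 * m2, M.mul_mem hm1 hm2,
        algebraMap A P.Ring m2 * q1 + algebraMap A P.Ring m1 * q2, ?_, ?_⟩
      · exact Ideal.add_mem _ (Ideal.mul_mem_left _ _ hq1) (Ideal.mul_mem_left _ _ hq2)
      · simp only [map_add, map_mul, hfC]
        rw [← e1, ← e2]; ring
  constructor
  · rw [injective_iff_map_eq_zero]
    intro c hc
    obtain ⟨⟨p, hp⟩, rfl⟩ := Algebra.Extension.Cotangent.mk_surjective c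
    rw [Algebra.Extension.Cotangent.map_mk, Algebra.Extension.Cotangent.mk_eq_zero_iff] at hc
    obtain ⟨m, hm, q, hq, e⟩ := key2 _ hc
    have e' : f.toRingHom (algebraMap A P.Ring m * p - q) = 0 := by
      rw [map_sub, map_mul, hfC, ← e]
      exact sub_self _
    obtain ⟨m', hm', e''⟩ := h2 _ e'
    have h3 : algebraMap A P.Ring (m' * m) * p ∈ P.ker ^ 2 := by
      have : algebraMap A P.Ring (m' * m) * p = algebraMap A P.Ring m' * q := by
        rw [mul_sub] at e''
        rw [map_mul, mul_assoc]
        exact sub_eq_zero.mp e''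
      rw [this]
      exact Ideal.mul_mem_left _ _ hq
    have hu := hunit _ (M.mul_mem hm' hm)
    have h4 : algebraMap A B (m' * m) • Algebra.Extension.Cotangent.mk (⟨p, hp⟩ : P.ker) = 0 := by
      rw [smul_mk_eq, Algebra.Extension.Cotangent.mk_eq_zero_iff]
      exact h3
    exact (hu.smul_eq_zero).mp h4
  · intro y
    obtain ⟨⟨x', hx'⟩, rfl⟩ := Algebra.Extension.Cotangent.mk_surjective y
    obtain ⟨m, hm, p, hp, e⟩ := key1 x' hx'
    have hu := hunit _ hm
    obtain ⟨u, hu'⟩ := hu
    refine ⟨(↑u⁻¹ : B) • Algebra.Extension.Cotangent.mk ⟨p, hp⟩, ?_⟩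
    rw [map_smul, Algebra.Extension.Cotangent.map_mk]
    have h5 : Algebra.Extension.Cotangent.mk
        (⟨f.toAlgHom p, by simpa using (e ▸ Ideal.mul_mem_left _ _ hx' : f.toRingHom p ∈ P'.ker)⟩ :
          P'.ker) = (u : B) • Algebra.Extension.Cotangent.mk (⟨x', hx'⟩ : P'.ker) := by
      rw [hu', IsScalarTower.algebraMap_apply A A' B, smul_mk_eq]
      congr 1
      ext1
      exact e.symm
    rw [h5, smul_smul, Units.inv_mul, one_smul]

end Localization


section LocGenerators

variable {A A' B : Type u} [CommRing A] [CommRing A'] [CommRing B] [Algebra A A']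
  (M : Submonoid A) [IsLocalization M A'] [Algebra A' B] [Algebra A B] [IsScalarTower A A' B]
  {ι : Type u} {G : Algebra.Generators A B ι} {G' : Algebra.Generators A' B ι}

include M in
attribute [local instance] MvPolynomial.algebraMvPolynomial in
theorem cotangentMap_bijective_of_isLocalization (f : G.Hom G') (hf : ∀ i, f.val i = X i) :
    Function.Bijective (Algebra.Extension.Cotangent.map f.toExtensionHom) := by
  have hmap : ∀ p : MvPolynomial ι A, f.toExtensionHom.toRingHom p =
      MvPolynomial.map (algebraMap A A') p := fun p => toAlgHom_eq_map f hf p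
  have h1 : ∀ x' : MvPolynomial ι A', ∃ m ∈ M, ∃ p : MvPolynomial ι A,
      algebraMap A' (MvPolynomial ι A') (algebraMap A A' m) * x' =
        MvPolynomial.map (algebraMap A A') p := by
    intro x'
    obtain ⟨⟨p, ⟨s, hs⟩⟩, e⟩ := IsLocalization.surj (M.map (C (σ := ι))) x'
    obtain ⟨m, hm, rfl⟩ := hs
    refine ⟨m, hm, p, ?_⟩
    rw [mul_comm]
    rw [MvPolynomial.algebraMap_def] at e
    simpa [MvPolynomial.algebraMap_eq] using e
  have h2 : ∀ p : MvPolynomial ι A, MvPolynomial.map (algebraMap A A') p = 0 →
      ∃ m ∈ M, algebraMap A (MvPolynomial ι A) m * p = 0 := by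
    intro p hp
    have hp' : algebraMap (MvPolynomial ι A) (MvPolynomial ι A') p = 0 := by
      rw [MvPolynomial.algebraMap_def]; exact hp
    obtain ⟨⟨s, hs⟩, e⟩ := (IsLocalization.map_eq_zero_iff (M.map (C (σ := ι))) _ p).mp hp'
    obtain ⟨m, hm, rfl⟩ := hs
    exact ⟨m, hm, by simpa [MvPolynomial.algebraMap_eq] using e⟩
  refine cotangentMap_bijective_of_localization M f.toExtensionHom ?_ ?_
  · intro x'
    obtain ⟨m, hm, p, e⟩ := h1 x'
    exact ⟨m, hm, p, e.trans (hmap p).symm⟩
  · intro p hp
    exact h2 p ((hmap p).symm.trans hp)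

theorem cotangentSpaceMap_bijective_of_sameTop (f : G.Hom G') (hf : ∀ i, f.val i = X i) :
    Function.Bijective (Algebra.Extension.CotangentSpace.map f.toExtensionHom) := by
  have : Algebra.Extension.CotangentSpace.map f.toExtensionHom =
      (G.cotangentSpaceBasis.equiv G'.cotangentSpaceBasis (Equiv.refl ι)).toLinearMap := by
    apply G.cotangentSpaceBasis.ext
    intro i
    rw [LinearEquiv.coe_coe, Module.Basis.equiv_apply, Equiv.refl_apply,
      cotangentSpaceMap_basis f hf]
  rw [this]
  exact LinearEquiv.bijective _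

end LocGenerators


section Double

variable {C : Type*} [Category C] [Preadditive C] [HasZeroObject C] {ι : Type*}
  {c : ComplexShape ι} [DecidableEq ι]

open HomologicalComplex in
theorem isIso_mkHomFromDouble {X₀ X₁ : C} (f : X₀ ⟶ X₁) {i₀ i₁ : ι} (hi₀₁ : c.Rel i₀ i₁)
    (h : i₀ ≠ i₁) {K : HomologicalComplex C c} (φ₀ : X₀ ⟶ K.X i₀) (φ₁ : X₁ ⟶ K.X i₁)
    (comm : φ₀ ≫ K.d i₀ i₁ = f ≫ φ₁) (hφ : ∀ (k : ι), c.Rel i₁ k → φ₁ ≫ K.d i₁ k = 0)
    [IsIso φ₀] [IsIso φ₁] (hK : ∀ k, k ≠ i₀ → k ≠ i₁ → IsZero (K.X k)) :
    IsIso (mkHomFromDouble hi₀₁ h φ₀ φ₁ comm hφ) := by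
  have : ∀ k, IsIso ((mkHomFromDouble hi₀₁ h φ₀ φ₁ comm hφ).f k) := by
    intro k
    by_cases h0 : k = i₀
    · subst h0
      rw [mkHomFromDouble_f₀]
      infer_instance
    · by_cases h1 : k = i₁
      · subst h1
        rw [mkHomFromDouble_f₁]
        infer_instance
      · exact isIso_of_source_target_iso_zero _
          (isZero_double_X f hi₀₁ k h0 h1).isoZero (hK k h0 h1).isoZero
  exact HomologicalComplex.Hom.isIso_of_components _

end Double



section Pushout

variable {R S R' S' : Type u} [CommRing R] [CommRing S] [CommRing R'] [CommRing S']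
  [Algebra R S] [Algebra R' S'] [Algebra R R'] [Algebra S S'] [Algebra R S']
  [IsScalarTower R R' S'] [IsScalarTower R S S']
  {ι : Type u} (G : Algebra.Generators R S ι) (G' : Algebra.Generators R' S' ι)

/-- The presentation with all elements of the kernel as relations. -/
noncomputable def presOfGen : Algebra.Presentation R S ι G.ker where
  __ := G
  relation := Subtype.val
  span_range_relation_eq_ker := by
    rw [Subtype.range_val]
    exact Ideal.span_eq _

variable [Algebra.IsPushout R R' S S']

theorem ker_eq_map_ker (h : ∀ i, G'.val i = algebraMap S S' (G.val i)) :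
    G'.ker = Ideal.map (MvPolynomial.map (algebraMap R R')) G.ker := by
  have h1 := (presOfGen G).span_range_relation_eq_ker_baseChange R'
  have h2 : (aeval G'.val : MvPolynomial ι R' →ₐ[R'] S') =
      (Algebra.IsPushout.equiv R R' S S').toAlgHom.comp
        (aeval (S₁ := R' ⊗[R] S) ((presOfGen G).baseChange R').val) := by
    apply MvPolynomial.algHom_ext
    intro i
    simp only [AlgEquiv.toAlgHom_eq_coe, AlgHom.coe_comp, AlgHom.coe_coe, Function.comp_apply,
      aeval_X]
    change G'.val i = (Algebra.IsPushout.equiv R R' S S') (1 ⊗ₜ G.val i)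
    rw [Algebra.IsPushout.equiv_tmul, map_one, one_mul, h]
  rw [Algebra.Generators.ker_eq_ker_aeval_val, h2]
  have h3 : RingHom.ker ((Algebra.IsPushout.equiv R R' S S').toAlgHom.comp
        (aeval (S₁ := R' ⊗[R] S) ((presOfGen G).baseChange R').val)) =
      RingHom.ker (aeval (S₁ := R' ⊗[R] S) ((presOfGen G).baseChange R').val) := by
    ext x
    simp only [RingHom.mem_ker, AlgHom.coe_comp, Function.comp_apply]
    exact (Algebra.IsPushout.equiv R R' S S').map_eq_zero_iff
  rw [h3]
  refine Eq.trans h1.symm ?_
  rw [Ideal.map]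
  congr 1
  ext x
  simp only [Set.mem_range, Set.mem_image, Subtype.exists, SetLike.mem_coe]
  constructor
  · rintro ⟨a, ha, rfl⟩
    exact ⟨a, ha, rfl⟩
  · rintro ⟨a, ha, rfl⟩
    exact ⟨a, ha, rfl⟩

variable {G G'}

theorem val_eq_of_hom (f : G.Hom G') (hf : ∀ i, f.val i = X i) (i : ι) :
    G'.val i = algebraMap S S' (G.val i) := by
  have := f.aeval_val i
  rw [hf, aeval_X] at this
  exact this

end Pushout

section General

variable {R S R' S' : Type u} [CommRing R] [CommRing S] [CommRing R'] [CommRing S']
  [Algebra R S] [Algebra R' S'] [Algebra R R'] [Algebra S S'] [Algebra R S']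
  [IsScalarTower R R' S'] [IsScalarTower R S S']
  {P : Algebra.Extension.{u} R S} {P' : Algebra.Extension.{u} R' S'}

theorem cotangentComplex_comp_liftBaseChange (f : P.Hom P') :
    P'.cotangentComplex ∘ₗ LinearMap.liftBaseChange S' (Algebra.Extension.Cotangent.map f) =
      LinearMap.liftBaseChange S' (Algebra.Extension.CotangentSpace.map f) ∘ₗ
        P.cotangentComplex.baseChange S' := by
  ext y
  simpa using (Algebra.Extension.CotangentSpace.map_cotangentComplex f y).symm

theorem exists_mem_ker_baseChange (f : P.Hom P')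
    (h0 : Function.Surjective (LinearMap.liftBaseChange S' (Algebra.Extension.Cotangent.map f)))
    (h1 : Function.Injective (LinearMap.liftBaseChange S' (Algebra.Extension.CotangentSpace.map f)))
    (y : P'.Cotangent) (hy : P'.cotangentComplex y = 0) :
    ∃ x, P.cotangentComplex.baseChange S' x = 0 ∧
      LinearMap.liftBaseChange S' (Algebra.Extension.Cotangent.map f) x = y := by
  obtain ⟨x, rfl⟩ := h0 y
  refine ⟨x, h1 ?_, rfl⟩
  have := congr($(cotangentComplex_comp_liftBaseChange f) x)
  simp only [LinearMap.coe_comp, Function.comp_apply] at this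
  rw [← this, hy, map_zero]

end General



section Pushout

variable {R S R' S' : Type u} [CommRing R] [CommRing S] [CommRing R'] [CommRing S']
  [Algebra R S] [Algebra R' S'] [Algebra R R'] [Algebra S S'] [Algebra R S']
  [IsScalarTower R R' S'] [IsScalarTower R S S']
  {ι : Type u} {G : Algebra.Generators R S ι} {G' : Algebra.Generators R' S' ι}

theorem liftBaseChange_cotangentMap_surjective' (f : G.Hom G') (hf : ∀ i, f.val i = X i)
    (hker : G'.ker = Ideal.map (MvPolynomial.map (algebraMap R R')) G.ker) :
    Function.Surjective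
      (LinearMap.liftBaseChange S' (Algebra.Extension.Cotangent.map f.toExtensionHom)) := by
  set α := LinearMap.liftBaseChange S' (Algebra.Extension.Cotangent.map f.toExtensionHom) with hα
  let N : Submodule G'.toExtension.Ring G'.toExtension.Cotangent :=
    (LinearMap.range α).restrictScalars G'.toExtension.Ring
  let K : Submodule G'.toExtension.Ring G'.toExtension.ker :=
    N.comap (Algebra.Extension.Cotangent.mk (P := G'.toExtension))
  have hgen : ∀ p : G.ker, MvPolynomial.map (algebraMap R R') p.1 ∈ G'.ker := by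
    intro p
    rw [hker]
    exact Ideal.mem_map_of_mem _ p.2
  have hspan : Submodule.span G'.toExtension.Ring
      (Set.range (fun p : G.ker => (⟨MvPolynomial.map (algebraMap R R') p.1, hgen p⟩ : G'.toExtension.ker))) =
        ⊤ := by
    apply Submodule.map_injective_of_injective (f := Submodule.subtype G'.toExtension.ker)
      (Submodule.injective_subtype _)
    rw [Submodule.map_span, Submodule.map_subtype_top, ← Set.range_comp]
    have e1 : G'.toExtension.ker =
        Ideal.span ((MvPolynomial.map (algebraMap R R')) '' (G.ker : Set _)) := hker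
    refine Eq.trans ?_ e1.symm
    congr 1
    ext x
    simp only [Set.mem_range, Function.comp_apply, Submodule.subtype_apply, Subtype.exists,
      Set.mem_image, SetLike.mem_coe]
    constructor
    · rintro ⟨a, ha, rfl⟩
      exact ⟨a, ha, rfl⟩
    · rintro ⟨a, ha, rfl⟩
      exact ⟨a, ha, rfl⟩
  have hK : K = ⊤ := by
    rw [_root_.eq_top_iff, ← hspan, Submodule.span_le]
    rintro _ ⟨p, rfl⟩
    change Algebra.Extension.Cotangent.mk _ ∈ LinearMap.range α
    refine ⟨1 ⊗ₜ Algebra.Extension.Cotangent.mk p, ?_⟩
    rw [hα, LinearMap.liftBaseChange_tmul, one_smul, Algebra.Extension.Cotangent.map_mk]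
    congr 1
    ext1
    exact toAlgHom_eq_map f hf p.1
  intro y
  obtain ⟨x, rfl⟩ := Algebra.Extension.Cotangent.mk_surjective y
  have : x ∈ K := by rw [hK]; trivial
  exact this

end Pushout


section Pushout2

variable {R S R' S' : Type u} [CommRing R] [CommRing S] [CommRing R'] [CommRing S']
  [Algebra R S] [Algebra R' S'] [Algebra R R'] [Algebra S S'] [Algebra R S']
  [IsScalarTower R R' S'] [IsScalarTower R S S'] [Algebra.IsPushout R R' S S']
  {ι : Type u} {G : Algebra.Generators R S ι} {G' : Algebra.Generators R' S' ι}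

theorem liftBaseChange_cotangentMap_surjective (f : G.Hom G') (hf : ∀ i, f.val i = X i) :
    Function.Surjective
      (LinearMap.liftBaseChange S' (Algebra.Extension.Cotangent.map f.toExtensionHom)) :=
  liftBaseChange_cotangentMap_surjective' f hf (ker_eq_map_ker G G' (val_eq_of_hom f hf))

theorem exists_mem_ker_baseChange_sameVars (f : G.Hom G') (hf : ∀ i, f.val i = X i)
    (y : G'.toExtension.Cotangent) (hy : G'.toExtension.cotangentComplex y = 0) :
    ∃ x, G.toExtension.cotangentComplex.baseChange S' x = 0 ∧
      LinearMap.liftBaseChange S' (Algebra.Extension.Cotangent.map f.toExtensionHom) x = y :=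
  exists_mem_ker_baseChange f.toExtensionHom (liftBaseChange_cotangentMap_surjective f hf)
    (liftBaseChange_cotangentSpaceMap_bijective f hf).1 y hy

end Pushout2


section Self

variable {R S R' S' : Type u} [CommRing R] [CommRing S] [CommRing R'] [CommRing S']
  [Algebra R S] [Algebra R' S'] [Algebra R R'] [Algebra S S'] [Algebra R S']
  [IsScalarTower R R' S'] [IsScalarTower R S S']

theorem liftBaseChange_cotangentMap_comp {P : Algebra.Extension.{u} R S}
    {P' P'' : Algebra.Extension.{u} R' S'} (f : P.Hom P') (g : P'.Hom P'') :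
    LinearMap.liftBaseChange S' (Algebra.Extension.Cotangent.map (g.comp f)) =
      Algebra.Extension.Cotangent.map g ∘ₗ
        LinearMap.liftBaseChange S' (Algebra.Extension.Cotangent.map f) := by
  refine LinearMap.ext fun t => ?_
  induction t with
  | zero => simp
  | add x y hx hy => rw [map_add, map_add, hx, hy]
  | tmul s c =>
    rw [LinearMap.comp_apply, LinearMap.liftBaseChange_tmul, LinearMap.liftBaseChange_tmul,
      map_smul, Algebra.Extension.Cotangent.map_comp]
    rfl

theorem aeval_algebraMap_surjective [Algebra.IsPushout R R' S S'] :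
    Function.Surjective (aeval (R := R') (fun s : S => algebraMap S S' s)) := by
  intro z
  obtain ⟨t, rfl⟩ := (Algebra.IsPushout.equiv R R' S S').surjective z
  induction t with
  | zero => exact ⟨0, by simp⟩
  | add x y hx hy =>
    obtain ⟨a, ha⟩ := hx
    obtain ⟨b, hb⟩ := hy
    exact ⟨a + b, by rw [map_add, map_add, ha, hb]⟩
  | tmul a b =>
    refine ⟨C a * X b, ?_⟩
    rw [Algebra.IsPushout.equiv_tmul, map_mul, aeval_C, aeval_X]

/-- The base-changed presentation of the presentation on all elements. -/
noncomputable def bcGen (R S R' S' : Type u) [CommRing R] [CommRing S] [CommRing R'] [CommRing S']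
    [Algebra R S] [Algebra R' S'] [Algebra R R'] [Algebra S S'] [Algebra R S']
    [IsScalarTower R R' S'] [IsScalarTower R S S'] [Algebra.IsPushout R R' S S'] :
    Algebra.Generators R' S' S :=
  Algebra.Generators.ofSurjective (fun s : S => algebraMap S S' s)
    (aeval_algebraMap_surjective (R := R))

theorem exists_mem_ker_baseChange_self [Algebra.IsPushout R R' S S']
    (y : (Algebra.Generators.self R' S').toExtension.Cotangent)
    (hy : (Algebra.Generators.self R' S').toExtension.cotangentComplex y = 0) :
    ∃ x, (Algebra.Generators.self R S).toExtension.cotangentComplex.baseChange S' x = 0 ∧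
      LinearMap.liftBaseChange S' (Algebra.Extension.Cotangent.map
        ((Algebra.Generators.self R S).defaultHom
          (Algebra.Generators.self R' S')).toExtensionHom) x = y := by
  let G := Algebra.Generators.self R S
  let G' := bcGen R S R' S'
  let G'' := Algebra.Generators.self R' S'
  let sv : G.Hom G' := ⟨fun s => X s, fun s => by simp [G', bcGen, G]⟩
  let g : G'.Hom G'' := Algebra.Generators.defaultHom G' G''
  let g' : G''.Hom G' := Algebra.Generators.defaultHom G'' G'
  have hd : G.defaultHom G'' = g.comp sv := by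
    ext s : 2
    simp [g, sv, G', bcGen, G, G'']
  have hsurj := (Algebra.Extension.H1Cotangent.equiv g.toExtensionHom g'.toExtensionHom).surjective
  obtain ⟨y', hy'⟩ := hsurj ⟨y, hy⟩
  obtain ⟨x, hx0, hx1⟩ := exists_mem_ker_baseChange_sameVars sv (fun _ => rfl) y'.1 y'.2
  refine ⟨x, hx0, ?_⟩
  change LinearMap.liftBaseChange S' (Algebra.Extension.Cotangent.map
    (G.defaultHom G'').toExtensionHom) x = y
  rw [hd, Algebra.Generators.Hom.toExtensionHom_comp, liftBaseChange_cotangentMap_comp,
    LinearMap.comp_apply, hx1]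
  exact congrArg Subtype.val hy'

end Self


end Groth.Agent.Lib.Helper14.NLBC
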