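import Groth.Agent.Lib.Helper5KzExch
import Groth.Agent.Lib.Helper8KoszPoly

/-!
# Koszul-regularity of the kernel of a presentation is independent of the presentation (helper5)

* `ker_eval`: the kernel of evaluation at `s` on `S[X_1..X_m]` is generated by the `X j - C (s j)`.
* `isKoszulRegularSeq_uu`: these form a Koszul-regular sequence.
* `kr_comap_eval`, `kr_of_kr_comap_eval`: `I` is a Koszul-regular ideal of `S` iff `eval s ⁻¹ I` is one of
  `S[X_1..X_m]`.
* `main`: independence of the presentation.
-/

set_option autoImplicit false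
set_option linter.style.haveILetI false
universe u

open MvPolynomial

namespace Groth.Agent.Lib.Helper5.KzPres

open Groth.Agent.Lib.Helper5.KzComp Groth.Agent.Lib.Helper5.KzPerm
open Groth.Agent.Lib.Helper5.KindFlat Groth.Agent.Lib.Helper5.KzIdeal
open Groth.Agent.Lib.Helper5.KzExch
open Groth.Agent.Helper13Kz Groth.Agent.Helper13KzLift

section Poly

variable {S : Type u} [CommRing S] {m : ℕ} (s : Fin m → S)

/-- the generators `X j - C (s j)` of the kernel of evaluation at `s` -/
noncomputable def uu (j : Fin m) : MvPolynomial (Fin m) S := X j - C (s j)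

theorem sub_C_eval_mem (P : MvPolynomial (Fin m) S) :
    P - C (eval s P) ∈ Ideal.span (Set.range (uu s)) := by
  induction P using MvPolynomial.induction_on with
  | C a =>
    rw [eval_C, sub_self]
    exact Ideal.zero_mem _
  | add p q hp hq =>
    have : p + q - C (eval s (p + q)) = (p - C (eval s p)) + (q - C (eval s q)) := by
      rw [map_add, map_add]
      ring
    rw [this]
    exact Ideal.add_mem _ hp hq
  | mul_X p j hp =>
    have : p * X j - C (eval s (p * X j)) =
        (p - C (eval s p)) * X j + C (eval s p) * uu s j := by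
      rw [map_mul, eval_X, map_mul]
      unfold uu
      ring
    rw [this]
    exact Ideal.add_mem _ (Ideal.mul_mem_right _ _ hp)
      (Ideal.mul_mem_left _ _ (Ideal.subset_span ⟨j, rfl⟩))

theorem ker_eval : RingHom.ker (eval s : MvPolynomial (Fin m) S →+* S) =
    Ideal.span (Set.range (uu s)) := by
  refine le_antisymm ?_ ?_
  · intro P hP
    have := sub_C_eval_mem s P
    rw [RingHom.mem_ker.mp hP, map_zero, sub_zero] at this
    exact this
  · rw [Ideal.span_le]
    rintro _ ⟨j, rfl⟩
    rw [SetLike.mem_coe, RingHom.mem_ker]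
    simp [uu]

theorem eval_surjective : Function.Surjective (eval s : MvPolynomial (Fin m) S →+* S) :=
  fun a => ⟨C a, eval_C a⟩

/-- the translation automorphism `X j ↦ X j - C (s j)` -/
noncomputable def trans : MvPolynomial (Fin m) S ≃ₐ[S] MvPolynomial (Fin m) S :=
  AlgEquiv.ofAlgHom (aeval (fun j => X j - C (s j))) (aeval (fun j => X j + C (s j)))
    (by ext j; simp) (by ext j; simp)

theorem trans_X (j : Fin m) : trans s (X j) = uu s j := by
  simp [trans, uu]

theorem isKoszulRegularSeq_uu :
    LCI.IsKoszulRegularSeq (MvPolynomial (Fin m) S) (List.ofFn (uu s)) := by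
  have hw := Groth.Agent.Lib.Helper8KoszLim.wreg (A := S) m 1
  have hw' : RingTheory.Sequence.IsWeaklyRegular (MvPolynomial (Fin m) S)
      (List.ofFn (fun j : Fin m => (X j : MvPolynomial (Fin m) S))) := by
    have e : (Groth.Agent.Lib.Helper8KoszLim.Xs (A := S) m).map (· ^ 1) =
        List.ofFn (fun j : Fin m => (X j : MvPolynomial (Fin m) S)) := by
      simp only [Groth.Agent.Lib.Helper8KoszLim.Xs, List.map_ofFn, pow_one]
      rfl
    rw [e] at hw
    exact hw
  have hX : LCI.IsKoszulRegularSeq (MvPolynomial (Fin m) S)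
      (List.ofFn (fun j : Fin m => (X j : MvPolynomial (Fin m) S))) := by
    rw [isKoszulRegularSeq_iff]
    intro i hi
    exact ModuleCat.subsingleton_of_isZero
      (isZero_KH_of_weaklyRegular _ (ModuleCat.of _ _) hw' i hi)
  have h1 := isKoszulRegularSeq_map_ringEquiv (trans s).toRingEquiv _ hX
  have h2 : (List.ofFn (fun j : Fin m => (X j : MvPolynomial (Fin m) S))).map
      ((trans s).toRingEquiv) = List.ofFn (uu s) := by
    rw [List.map_ofFn]
    congr 1
    funext j
    exact trans_X s j
  rw [h2] at h1
  exact h1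

/-- `P ↦ (∂P/∂X_j)(s)` -/
noncomputable def DD (j : Fin m) : MvPolynomial (Fin m) S →+ S where
  toFun P := eval s (pderiv j P)
  map_zero' := by simp
  map_add' a b := by simp

theorem DD_mul (j : Fin m) (a b : MvPolynomial (Fin m) S) :
    DD s j (a * b) = eval s a * DD s j b + DD s j a * eval s b := by
  show eval s (pderiv j (a * b)) = eval s a * eval s (pderiv j b) + eval s (pderiv j a) * eval s b
  rw [pderiv_mul, map_add, map_mul, map_mul]
  ring

theorem DD_uu (i j : Fin m) : DD s j (uu s i) = if i = j then 1 else 0 := by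
  show eval s (pderiv j (X i - C (s i))) = _
  rw [map_sub, pderiv_C, sub_zero, pderiv_X, Pi.single_apply]
  split_ifs <;> simp

theorem kr_comap_eval (I : Ideal S) (hI : KR I) :
    KR (I.comap (eval s : MvPolynomial (Fin m) S →+* S)) :=
  kr_comap_of_surjective _ (eval_surjective s) (List.ofFn (uu s)) (isKoszulRegularSeq_uu s)
    (by rw [ker_eval, Groth.Agent.Lib.Helper5.KzExch.ofList_ofFn]) I hI

theorem kr_of_kr_comap_eval (I : Ideal S)
    (hK : KR (I.comap (eval s : MvPolynomial (Fin m) S →+* S))) : KR I :=
  kr_of_kr_comap _ (eval_surjective s) (uu s) (isKoszulRegularSeq_uu s) (ker_eval s) (DD s)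
    (DD_mul s) (DD_uu s) I hK

end Poly

section Main

theorem isKoszulRegularSeq_nil (R : Type u) [CommRing R] : LCI.IsKoszulRegularSeq R [] := by
  rw [isKoszulRegularSeq_iff]
  intro i hi
  exact subsingleton_KH_nil R i hi

theorem kr_comap_ringEquiv {R R' : Type u} [CommRing R] [CommRing R'] (e : R ≃+* R')
    (I : Ideal R') (hI : KR I) : KR (I.comap (e : R →+* R')) :=
  kr_comap_of_surjective _ e.surjective [] (isKoszulRegularSeq_nil R)
    (by rw [RingHom.ker_coe_equiv, Ideal.ofList_nil]) I hI

set_option maxHeartbeats 800000 in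
theorem main (A B : Type u) [CommRing A] [CommRing B]
    [Algebra A B] (n m : ℕ) (α : MvPolynomial (Fin n) A →ₐ[A] B) (hα : Function.Surjective α)
    (β : MvPolynomial (Fin m) A →ₐ[A] B) (hβ : Function.Surjective β)
    (h : LCI.IsKoszulRegularIdeal (RingHom.ker α.toRingHom)) :
    LCI.IsKoszulRegularIdeal (RingHom.ker β.toRingHom) := by
  rw [kr_iff] at h ⊢
  choose s hs using fun j : Fin m => hα (β (X j))
  choose t ht using fun i : Fin n => hβ (α (X i))
  have h1 := kr_comap_eval s _ h
  let e : MvPolynomial (Fin m) (MvPolynomial (Fin n) A) ≃ₐ[A]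
      MvPolynomial (Fin n) (MvPolynomial (Fin m) A) := commAlgEquiv A (Fin m) (Fin n)
  have h2 := kr_comap_ringEquiv e.symm.toRingEquiv _ h1
  have hcomp : (β.toRingHom.comp (eval t)).comp (e.toRingEquiv : _ →+* _) =
      α.toRingHom.comp (eval s) := by
    apply MvPolynomial.ringHom_ext'
    · apply MvPolynomial.ringHom_ext
      · intro a
        simp [e]
      · intro i
        simp [e, ht]
    · intro j
      simp [e, hs]
  have h3 : ((RingHom.ker α.toRingHom).comap (eval s)).comap
      (e.symm.toRingEquiv : _ →+* _) = (RingHom.ker β.toRingHom).comap (eval t) := by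
    rw [RingHom.comap_ker, RingHom.comap_ker, RingHom.comap_ker, ← hcomp]
    ext x
    simp [RingHom.mem_ker]
  rw [h3] at h2
  exact kr_of_kr_comap_eval t _ h2

end Main

end Groth.Agent.Lib.Helper5.KzPres
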