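import Groth.Prelude.Def_SheafNL
import Groth.Agent.Lib.Helper13KzDescB
import Mathlib

/-!
# Independence of the naive cotangent complex of the presentation, in `D(S)` (helper5)

Two chain maps between two-term complexes (`HomologicalComplex.double`, degrees `-1, 0`) which differ by
`d ≫ h` and `h ≫ d` are homotopic.  Applied with Mathlib's `Algebra.Extension.Hom.sub`, this gives an
isomorphism `toD (NLCx.cx P) ≅ toD (NLCx.cx P')` whenever there are morphisms of extensions in both
directions.  For a presentation with Koszul-regular kernel the conormal module is finite projective, so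
`NL` is perfect with tor amplitude in `[-1, 0]`.
-/

set_option autoImplicit false
set_option linter.style.haveILetI false
universe u

open CategoryTheory HomologicalComplex Algebra

attribute [local instance] HasDerivedCategory.standard

namespace Groth.Agent.Lib.Helper5.NLIndep

theorem rel : (ComplexShape.up ℤ).Rel (-1) 0 := by simp

theorem ne10 : (-1 : ℤ) ≠ 0 := by decide

section Double

variable {C : Type*} [Category C] [Preadditive C] [Limits.HasZeroObject C]
variable {X₀ X₁ Y₀ Y₁ : C} (f : X₀ ⟶ X₁) (g : Y₀ ⟶ Y₁)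

/-- two chain maps between two-term complexes that differ by `d ≫ h`, `h ≫ d` are homotopic -/
noncomputable def homotopyOfDouble (φ ψ : double f rel ⟶ double g rel) (h : X₁ ⟶ Y₀)
    (h0 : (doubleXIso₀ f rel).inv ≫ φ.f (-1) ≫ (doubleXIso₀ g rel).hom =
      f ≫ h + (doubleXIso₀ f rel).inv ≫ ψ.f (-1) ≫ (doubleXIso₀ g rel).hom)
    (h1 : (doubleXIso₁ f rel ne10).inv ≫ φ.f 0 ≫ (doubleXIso₁ g rel ne10).hom =
      h ≫ g + (doubleXIso₁ f rel ne10).inv ≫ ψ.f 0 ≫ (doubleXIso₁ g rel ne10).hom) :
    Homotopy φ ψ where
  hom i j := if hij : i = 0 ∧ j = -1 then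
      eqToHom (by rw [hij.1]) ≫ (doubleXIso₁ f rel ne10).hom ≫ h ≫ (doubleXIso₀ g rel).inv ≫
        eqToHom (by rw [hij.2])
    else 0
  zero i j hij := dif_neg (by rintro ⟨rfl, rfl⟩; exact hij rel)
  comm i := by
    by_cases hi0 : i = -1
    · subst hi0
      have e : φ.f (-1) = (doubleXIso₀ f rel).hom ≫
          ((doubleXIso₀ f rel).inv ≫ φ.f (-1) ≫ (doubleXIso₀ g rel).hom) ≫
            (doubleXIso₀ g rel).inv := by simp
      rw [dNext_eq _ rel, prevD_eq _ (show (ComplexShape.up ℤ).Rel (-2) (-1) by simp)]
      beta_reduce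
      rw [dif_pos (show ((0 : ℤ) = 0 ∧ (-1 : ℤ) = -1) from ⟨rfl, rfl⟩),
        dif_neg (show ¬ ((-1 : ℤ) = 0 ∧ (-2 : ℤ) = -1) by decide), Limits.zero_comp, add_zero,
        double_d f rel ne10, e, h0]
      simp
    · by_cases hi1 : i = 0
      · subst hi1
        have e : φ.f 0 = (doubleXIso₁ f rel ne10).hom ≫
            ((doubleXIso₁ f rel ne10).inv ≫ φ.f 0 ≫ (doubleXIso₁ g rel ne10).hom) ≫
              (doubleXIso₁ g rel ne10).inv := by simp
        rw [dNext_eq _ (show (ComplexShape.up ℤ).Rel 0 1 by simp), prevD_eq _ rel]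
        beta_reduce
        rw [dif_pos (show ((0 : ℤ) = 0 ∧ (-1 : ℤ) = -1) from ⟨rfl, rfl⟩),
          dif_neg (show ¬ ((1 : ℤ) = 0 ∧ (0 : ℤ) = -1) by decide), Limits.comp_zero, zero_add,
          double_d g rel ne10, e, h1]
        simp
      · exact (isZero_double_X f rel i hi0 hi1).eq_of_src _ _

end Double

section Indep

variable {R S : Type u} [CommRing R] [CommRing S] [Algebra R S]

/-- `NLCx.map` with the complexes written as `double` -/
noncomputable def nlMap {P P' : Extension.{u} R S} (f : P.Hom P') :
    double (ModuleCat.ofHom P.cotangentComplex) rel ⟶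
      double (ModuleCat.ofHom P'.cotangentComplex) rel :=
  NLCx.map f

theorem map_f0 {P P' : Extension.{u} R S} (f : P.Hom P') :
    (nlMap f).f (-1) = (doubleXIso₀ (ModuleCat.ofHom P.cotangentComplex) rel).hom ≫
      ModuleCat.ofHom (Extension.Cotangent.map f) ≫
        (doubleXIso₀ (ModuleCat.ofHom P'.cotangentComplex) rel).inv := by
  change (NLCx.map f).f (-1) = _
  simp [NLCx.map]
  rfl

theorem map_f1 {P P' : Extension.{u} R S} (f : P.Hom P') :
    (nlMap f).f 0 = (doubleXIso₁ (ModuleCat.ofHom P.cotangentComplex) rel ne10).hom ≫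
      ModuleCat.ofHom (Extension.CotangentSpace.map f) ≫
        (doubleXIso₁ (ModuleCat.ofHom P'.cotangentComplex) rel ne10).inv := by
  change (NLCx.map f).f 0 = _
  simp [NLCx.map]
  rfl

/-- the composite of the comparison maps is homotopic to the identity -/
noncomputable def homotopyCompId {P P' : Extension.{u} R S} (f₁ : P.Hom P') (f₂ : P'.Hom P) :
    Homotopy (nlMap f₁ ≫ nlMap f₂) (𝟙 (double (ModuleCat.ofHom P.cotangentComplex) rel)) :=
  homotopyOfDouble _ _ _ _ (ModuleCat.ofHom ((f₂.comp f₁).sub (Extension.Hom.id P)))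
    (by
      rw [HomologicalComplex.comp_f, HomologicalComplex.id_f, map_f0, map_f0]
      simp only [Category.assoc, Iso.inv_hom_id_assoc, Iso.inv_hom_id, Category.comp_id,
        Category.id_comp]
      apply ModuleCat.hom_ext
      apply LinearMap.ext
      intro x
      have h := LinearMap.congr_fun
        (Extension.Cotangent.map_sub_map (f₂.comp f₁) (Extension.Hom.id P)) x
      rw [Extension.Cotangent.map_comp, Extension.Cotangent.map_id] at h
      simp only [LinearMap.sub_apply, LinearMap.comp_apply, LinearMap.restrictScalars_apply,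
        LinearMap.id_apply] at h
      simp only [ModuleCat.hom_comp, ModuleCat.hom_add, ModuleCat.hom_ofHom, ModuleCat.hom_id,
        LinearMap.comp_apply, LinearMap.add_apply, LinearMap.id_apply]
      rw [← h, sub_add_cancel])
    (by
      rw [HomologicalComplex.comp_f, HomologicalComplex.id_f, map_f1, map_f1]
      simp only [Category.assoc, Iso.inv_hom_id_assoc, Iso.inv_hom_id, Category.comp_id,
        Category.id_comp]
      apply ModuleCat.hom_ext
      apply LinearMap.ext
      intro x
      have h := LinearMap.congr_fun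
        (Extension.CotangentSpace.map_sub_map (f₂.comp f₁) (Extension.Hom.id P)) x
      rw [Extension.CotangentSpace.map_comp, Extension.CotangentSpace.map_id] at h
      simp only [LinearMap.sub_apply, LinearMap.comp_apply, LinearMap.restrictScalars_apply,
        LinearMap.id_apply] at h
      simp only [ModuleCat.hom_comp, ModuleCat.hom_add, ModuleCat.hom_ofHom, ModuleCat.hom_id,
        LinearMap.comp_apply, LinearMap.add_apply, LinearMap.id_apply]
      rw [← h, sub_add_cancel])

theorem nonempty_iso' {P P' : Extension.{u} R S} (f₁ : P.Hom P') (f₂ : P'.Hom P) :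
    Nonempty (DerivedCategory.Q.obj (double (ModuleCat.ofHom P.cotangentComplex) rel) ≅
      DerivedCategory.Q.obj (double (ModuleCat.ofHom P'.cotangentComplex) rel)) :=
  ⟨{ hom := DerivedCategory.Q.map (nlMap f₁)
     inv := DerivedCategory.Q.map (nlMap f₂)
     hom_inv_id := by
       rw [← CategoryTheory.Functor.map_comp, DerivedCategory.Q_map_eq_of_homotopy _ (homotopyCompId f₁ f₂),
         CategoryTheory.Functor.map_id]
     inv_hom_id := by
       rw [← CategoryTheory.Functor.map_comp, DerivedCategory.Q_map_eq_of_homotopy _ (homotopyCompId f₂ f₁),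
         CategoryTheory.Functor.map_id] }⟩

theorem nonempty_iso {P P' : Extension.{u} R S} (f₁ : P.Hom P') (f₂ : P'.Hom P) :
    Nonempty (DRing.toD (NLCx.cx P) ≅ DRing.toD (NLCx.cx P')) :=
  nonempty_iso' f₁ f₂

theorem vanishesOutside (P : Extension.{u} R S) : DRing.VanishesOutside (NLCx.cx P) (-1) 0 := by
  intro i hi
  exact isZero_double_X _ _ i (by omega) (by omega)

theorem termwise (P : Extension.{u} R S) (Q : ModuleCat.{u} S → Prop)
    (hQ : ∀ M N : ModuleCat.{u} S, (M ≅ N) → Q M → Q N)
    (h0 : Q (ModuleCat.of S P.Cotangent)) (h1 : Q (ModuleCat.of S P.CotangentSpace))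
    (hz : ∀ M : ModuleCat.{u} S, Limits.IsZero M → Q M) (i : ℤ) : Q ((NLCx.cx P).X i) := by
  by_cases hi0 : i = -1
  · subst hi0
    exact hQ _ _ (doubleXIso₀ (ModuleCat.ofHom P.cotangentComplex) rel).symm h0
  · by_cases hi1 : i = 0
    · subst hi1
      exact hQ _ _ (doubleXIso₁ (ModuleCat.ofHom P.cotangentComplex) rel ne10).symm h1
    · exact hz _ (isZero_double_X _ _ i hi0 hi1)

theorem termwiseFiniteProjective (P : Extension.{u} R S)
    [Module.Finite S P.Cotangent] [Module.Projective S P.Cotangent]
    [Module.Finite S P.CotangentSpace] [Module.Projective S P.CotangentSpace] :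
    DRing.TermwiseFiniteProjective (NLCx.cx P) := by
  intro i
  refine termwise P (fun M => Module.Finite S M ∧ Module.Projective S M) ?_ ⟨inferInstance, inferInstance⟩
    ⟨inferInstance, inferInstance⟩ ?_ i
  · rintro M N e ⟨h1, h2⟩
    exact ⟨Module.Finite.equiv e.toLinearEquiv, Module.Projective.of_equiv e.toLinearEquiv⟩
  · intro M hM
    haveI := ModuleCat.subsingleton_of_isZero hM
    exact ⟨inferInstance, inferInstance⟩

theorem termwiseFlat (P : Extension.{u} R S)
    [Module.Flat S P.Cotangent] [Module.Flat S P.CotangentSpace] :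
    DRing.TermwiseFlat (NLCx.cx P) := by
  intro i
  refine termwise P (fun M => Module.Flat S M) ?_ inferInstance inferInstance ?_ i
  · rintro M N e h
    exact Module.Flat.of_linearEquiv e.toLinearEquiv.symm
  · intro M hM
    haveI := ModuleCat.subsingleton_of_isZero hM
    infer_instance

/-- the conormal module of an extension is projective over `S` if it is over `P.Ring ⧸ P.ker` -/
theorem cotangent_projective (P : Extension.{u} R S)
    [Module.Projective (P.Ring ⧸ P.ker) P.ker.Cotangent] : Module.Projective S P.Cotangent := by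
  let e : (P.Ring ⧸ P.ker) ≃+* S := RingHom.quotientKerEquivOfSurjective P.algebraMap_surjective
  letI : RingHomInvPair (e : (P.Ring ⧸ P.ker) →+* S) (e.symm : S →+* (P.Ring ⧸ P.ker)) :=
    RingHomInvPair.of_ringEquiv e
  letI : RingHomInvPair (e.symm : S →+* (P.Ring ⧸ P.ker)) (e : (P.Ring ⧸ P.ker) →+* S) :=
    RingHomInvPair.symm _ _
  let e₂ : P.ker.Cotangent ≃ₛₗ[(e : (P.Ring ⧸ P.ker) →+* S)] P.Cotangent :=
    { toFun := Extension.Cotangent.of
      invFun := Extension.Cotangent.val
      map_add' := fun _ _ => rfl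
      map_smul' := fun q x => by
        obtain ⟨p, rfl⟩ := Ideal.Quotient.mk_surjective q
        apply Extension.Cotangent.ext
        have he : (e : (P.Ring ⧸ P.ker) →+* S) (Ideal.Quotient.mk _ p) = algebraMap P.Ring S p :=
          RingHom.quotientKerEquivOfSurjective_apply_mk P.algebraMap_surjective p
        rw [he, algebraMap_smul, Extension.Cotangent.val_smul', Extension.Cotangent.val_of,
          Extension.Cotangent.val_of]
        exact (algebraMap_smul (P.Ring ⧸ P.ker) p x)
      left_inv := fun _ => rfl
      right_inv := fun _ => rfl }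
  exact Module.Projective.of_equiv e₂

end Indep

section LCI

variable {A B : Type u} [CommRing A] [CommRing B] [Algebra A B]

theorem aeval_eq {n : ℕ} (f : MvPolynomial (Fin n) A →ₐ[A] B) :
    MvPolynomial.aeval (fun i => f (MvPolynomial.X i)) = f := by
  apply MvPolynomial.algHom_ext
  intro i
  simp

/-- the generators given by a surjection from a polynomial ring -/
noncomputable def genOf {n : ℕ} (f : MvPolynomial (Fin n) A →ₐ[A] B) (hf : Function.Surjective f) :
    Algebra.Generators A B (Fin n) :=
  Algebra.Generators.ofSurjective (fun i => f (MvPolynomial.X i)) (by rw [aeval_eq]; exact hf)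

theorem genOf_ker {n : ℕ} (f : MvPolynomial (Fin n) A →ₐ[A] B) (hf : Function.Surjective f) :
    (genOf f hf).toExtension.ker = RingHom.ker f.toRingHom := by
  ext p
  change algebraMap (genOf f hf).Ring B p = 0 ↔ f p = 0
  rw [Algebra.Generators.algebraMap_apply]
  change MvPolynomial.aeval (fun i => f (MvPolynomial.X i)) p = 0 ↔ f p = 0
  rw [aeval_eq]

theorem main (h : LCI.IsLCI A B) :
    DRing.IsPerfect B (LCI.NL A B) ∧ DRing.HasTorAmplitudeIn B (-1) 0 (LCI.NL A B) := by
  obtain ⟨_, n, f, hf, hK⟩ := h
  let G := genOf f hf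
  have hker : G.toExtension.ker = RingHom.ker f.toRingHom := genOf_ker f hf
  have hK' : LCI.IsKoszulRegularIdeal G.toExtension.ker := by rw [hker]; exact hK
  haveI := Helper13KzDesc.projective_of_isKoszulRegularIdeal hK'
  haveI : Module.Projective B G.toExtension.Cotangent := cotangent_projective _
  haveI : Module.Finite B G.toExtension.Cotangent :=
    Extension.Cotangent.finite (Helper13KzDesc.fg_of_isKoszulRegularIdeal hK')
  haveI : Module.Free B G.toExtension.CotangentSpace := Module.Free.of_basis G.cotangentSpaceBasis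
  haveI : Module.Finite B G.toExtension.CotangentSpace :=
    Module.Finite.of_basis G.cotangentSpaceBasis
  obtain ⟨e⟩ := nonempty_iso (G.defaultHom (Generators.self A B)).toExtensionHom
    ((Generators.self A B).defaultHom G).toExtensionHom
  exact ⟨⟨NLCx.cx G.toExtension, -1, 0, vanishesOutside _, termwiseFiniteProjective _, ⟨e⟩⟩,
    ⟨NLCx.cx G.toExtension, vanishesOutside _, termwiseFlat _, ⟨e⟩⟩⟩

end LCI

end Groth.Agent.Lib.Helper5.NLIndep
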