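import Groth.Prelude.Def_SheafNL
import Groth.Agent.Lib.Helper5NLIndep
import Groth.Agent.Lib.Helper14NLBC
import Groth.Agent.Lib.Helper5KzPres
import Mathlib

/-!
# The kernel of `H^{-1}(NL_{B/A} ⊗ B') → H^{-1}(NL_{B'/A'})` for lci maps (helper5)

The kernel of `NLCx.bcH1Map` does not depend on the presentations (up to a retraction), and for
presentations on the same finite set of variables with Koszul-regular kernels it is the kernel of a
surjection of finite projective modules.
-/

set_option autoImplicit false
set_option linter.style.haveILetI false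
universe u

open TensorProduct Algebra

namespace Groth.Agent.Lib.Helper5.NLBC

open Groth.Agent.Lib.Helper5.NLIndep Groth.Agent.Lib.Helper5.KzIdeal

section Split

variable {T : Type*} [CommRing T] {M N : Type*} [AddCommGroup M] [Module T M]
  [AddCommGroup N] [Module T N]

/-- the kernel of a surjection of a finite projective module onto a projective one is finite
projective -/
theorem ker_finite_projective [Module.Finite T M] [Module.Projective T M] [Module.Projective T N]
    (l : M →ₗ[T] N) (hl : Function.Surjective l) :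
    Module.Finite T (LinearMap.ker l) ∧ Module.Projective T (LinearMap.ker l) := by
  obtain ⟨s, hs⟩ := Module.projective_lifting_property l LinearMap.id hl
  have hs' : ∀ y, l (s y) = y := fun y => LinearMap.congr_fun hs y
  let π : M →ₗ[T] LinearMap.ker l :=
    (LinearMap.id - s ∘ₗ l).codRestrict (LinearMap.ker l) (fun m => by
      rw [LinearMap.mem_ker]
      simp [hs'])
  have hπ : π ∘ₗ (LinearMap.ker l).subtype = LinearMap.id := by
    apply LinearMap.ext
    intro y
    apply Subtype.ext
    have hy : l y.1 = 0 := y.2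
    simp [π, hy]
  have hsurj : Function.Surjective π := fun y => ⟨y.1, LinearMap.congr_fun hπ y⟩
  exact ⟨Module.Finite.of_surjective π hsurj, Module.Projective.of_split _ π hπ⟩

end Split

section General

variable {R S R' S' : Type u} [CommRing R] [CommRing S] [CommRing R'] [CommRing S']
  [Algebra R S] [Algebra R' S'] [Algebra R R'] [Algebra S S'] [Algebra R S']
  [IsScalarTower R R' S'] [IsScalarTower R S S']

/-- the `S'`-linear extension of `Cotangent.map` -/
noncomputable abbrev LC {P : Extension.{u} R S} {P' : Extension.{u} R' S'} (φ : P.Hom P') :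
    S' ⊗[S] P.Cotangent →ₗ[S'] P'.Cotangent :=
  LinearMap.liftBaseChange S' (Extension.Cotangent.map φ)

/-- the `S'`-linear extension of `CotangentSpace.map` -/
noncomputable abbrev LS {P : Extension.{u} R S} {P' : Extension.{u} R' S'} (φ : P.Hom P') :
    S' ⊗[S] P.CotangentSpace →ₗ[S'] P'.CotangentSpace :=
  LinearMap.liftBaseChange S' (Extension.CotangentSpace.map φ)

/-- the base-changed differential -/
noncomputable abbrev DD (P : Extension.{u} R S) (S' : Type u) [CommRing S'] [Algebra S S'] :
    S' ⊗[S] P.Cotangent →ₗ[S'] S' ⊗[S] P.CotangentSpace :=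
  P.cotangentComplex.baseChange S'

theorem d_LC {P : Extension.{u} R S} {P' : Extension.{u} R' S'} (φ : P.Hom P')
    (x : S' ⊗[S] P.Cotangent) : P'.cotangentComplex (LC φ x) = LS φ (DD P S' x) := by
  have := congr($(Groth.Agent.Lib.Helper14.NLBC.cotangentComplex_comp_liftBaseChange φ) x)
  simpa using this

/-- (F4) two morphisms over the square induce the same map on the kernel of the differential -/
theorem LC_eq_of_mem_ker {P : Extension.{u} R S} {P' : Extension.{u} R' S'} (φ₁ φ₂ : P.Hom P')
    (x : S' ⊗[S] P.Cotangent) (hx : DD P S' x = 0) : LC φ₁ x = LC φ₂ x := by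
  have key : LC φ₁ - LC φ₂ = LinearMap.liftBaseChange S' (φ₁.sub φ₂) ∘ₗ DD P S' := by
    apply LinearMap.ext
    intro t
    induction t using TensorProduct.induction_on with
    | zero => simp
    | tmul s m =>
      have h := LinearMap.congr_fun (Extension.Cotangent.map_sub_map φ₁ φ₂) m
      simp only [LinearMap.sub_apply, LinearMap.comp_apply] at h
      simp only [LinearMap.sub_apply, LinearMap.comp_apply, LinearMap.liftBaseChange_tmul,
        LinearMap.baseChange_tmul, ← smul_sub, h]
    | add x y hx hy => rw [map_add, map_add, hx, hy]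
  have h := LinearMap.congr_fun key x
  simp only [LinearMap.sub_apply, LinearMap.comp_apply, hx, map_zero] at h
  exact sub_eq_zero.mp h

section OverId

variable {P P₂ : Extension.{u} R S}

/-- the base change of `Cotangent.map` for a morphism over the identity -/
noncomputable abbrev UU (h : P.Hom P₂) (S' : Type u) [CommRing S'] [Algebra S S'] :
    S' ⊗[S] P.Cotangent →ₗ[S'] S' ⊗[S] P₂.Cotangent :=
  (Extension.Cotangent.map h).baseChange S'

/-- (F1) -/
theorem DD_UU (h : P.Hom P₂) (x : S' ⊗[S] P.Cotangent) :
    DD P₂ S' (UU h S' x) = (Extension.CotangentSpace.map h).baseChange S' (DD P S' x) := by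
  induction x using TensorProduct.induction_on with
  | zero => simp
  | tmul s m =>
    simp only [LinearMap.baseChange_tmul]
    rw [Extension.CotangentSpace.map_cotangentComplex]
  | add x y hx hy => rw [map_add, map_add, map_add, map_add, hx, hy]

/-- (F2) -/
theorem UU_UU_of_mem_ker (h : P.Hom P₂) (k : P₂.Hom P) (x : S' ⊗[S] P.Cotangent)
    (hx : DD P S' x = 0) : UU k S' (UU h S' x) = x := by
  have key : UU k S' ∘ₗ UU h S' - LinearMap.id =
      ((k.comp h).sub (Extension.Hom.id P)).baseChange S' ∘ₗ DD P S' := by
    apply LinearMap.ext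
    intro t
    induction t using TensorProduct.induction_on with
    | zero => simp
    | tmul s m =>
      have h1 := LinearMap.congr_fun
        (Extension.Cotangent.map_sub_map (k.comp h) (Extension.Hom.id P)) m
      rw [Extension.Cotangent.map_comp, Extension.Cotangent.map_id] at h1
      simp only [LinearMap.sub_apply, LinearMap.comp_apply, LinearMap.restrictScalars_apply,
        LinearMap.id_apply] at h1
      simp only [LinearMap.sub_apply, LinearMap.comp_apply, LinearMap.baseChange_tmul,
        LinearMap.id_apply, ← tmul_sub, h1]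
    | add x y hx hy => rw [map_add, map_add, hx, hy]
  have h2 := LinearMap.congr_fun key x
  simp only [LinearMap.sub_apply, LinearMap.comp_apply, LinearMap.id_apply, hx, map_zero] at h2
  exact sub_eq_zero.mp h2

/-- (F3) -/
theorem LC_comp_UU {P' : Extension.{u} R' S'} (h : P.Hom P₂) (g : P₂.Hom P')
    (x : S' ⊗[S] P.Cotangent) : LC (g.comp h) x = LC g (UU h S' x) := by
  induction x using TensorProduct.induction_on with
  | zero => simp
  | tmul s m =>
    simp only [LinearMap.liftBaseChange_tmul, LinearMap.baseChange_tmul]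
    rw [Extension.Cotangent.map_comp]
    rfl
  | add x y hx hy => rw [map_add, map_add, map_add, hx, hy]

end OverId

/-- (F5) -/
theorem LC_comp_left {P : Extension.{u} R S} {P' P'' : Extension.{u} R' S'} (f : P.Hom P')
    (g : P'.Hom P'') (x : S' ⊗[S] P.Cotangent) :
    LC (g.comp f) x = Extension.Cotangent.map g (LC f x) :=
  LinearMap.congr_fun (Groth.Agent.Lib.Helper14.NLBC.liftBaseChange_cotangentMap_comp f g) x

/-- `Cotangent.map` of a morphism over the identity is injective on `H¹` -/
theorem eq_zero_of_map_eq_zero {P' G' : Extension.{u} R' S'} (h' : P'.Hom G') (k' : G'.Hom P')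
    (z : P'.Cotangent) (hz : P'.cotangentComplex z = 0)
    (hmap : Extension.Cotangent.map h' z = 0) : z = 0 := by
  have h1 := LinearMap.congr_fun
    (Extension.Cotangent.map_sub_map (k'.comp h') (Extension.Hom.id P')) z
  rw [Extension.Cotangent.map_comp, Extension.Cotangent.map_id] at h1
  simp only [LinearMap.sub_apply, LinearMap.comp_apply,
    LinearMap.id_apply, hmap, hz, map_zero, zero_sub] at h1
  exact neg_eq_zero.mp h1

/-- the kernel of `bcH1Map f` is a retract of the kernel of `LC g`, for any other pair of
extensions `G`, `G'` and morphism `g` with `LS g` injective -/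
theorem exists_retract {P G : Extension.{u} R S} {P' G' : Extension.{u} R' S'} (f : P.Hom P')
    (g : G.Hom G') (h : P.Hom G) (k : G.Hom P) (h' : P'.Hom G') (k' : G'.Hom P')
    (hinj : Function.Injective (LS g)) :
    ∃ (i : LinearMap.ker (NLCx.bcH1Map f) →ₗ[S'] LinearMap.ker (LC g))
      (r : LinearMap.ker (LC g) →ₗ[S'] LinearMap.ker (NLCx.bcH1Map f)),
      r ∘ₗ i = LinearMap.id := by
  -- facts about elements of the kernel of `bcH1Map f`
  have hw1 : ∀ w : LinearMap.ker (NLCx.bcH1Map f), DD P S' w.1.1 = 0 := fun w => w.1.2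
  have hw2 : ∀ w : LinearMap.ker (NLCx.bcH1Map f), LC f w.1.1 = 0 := fun w => by
    have h0 : NLCx.bcH1Map f w.1 = 0 := LinearMap.mem_ker.mp w.2
    have h1 : (NLCx.bcH1Map f w.1).1 = 0 := by rw [h0]; rfl
    exact h1
  -- facts about elements of the kernel of `LC g`
  have hy1 : ∀ y : LinearMap.ker (LC g), DD G S' y.1 = 0 := fun y => by
    apply hinj
    rw [← d_LC, map_zero]
    have : LC g y.1 = 0 := y.2
    rw [this, map_zero]
  have hy2 : ∀ y : LinearMap.ker (LC g), DD P S' (UU k S' y.1) = 0 := fun y => by
    rw [DD_UU, hy1 y, map_zero]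
  have hy3 : ∀ y : LinearMap.ker (LC g), LC f (UU k S' y.1) = 0 := fun y => by
    apply eq_zero_of_map_eq_zero h' k'
    · rw [d_LC, hy2 y, map_zero]
    · rw [← LC_comp_left, LC_eq_of_mem_ker (h'.comp f) (g.comp h) _ (hy2 y), LC_comp_UU,
        UU_UU_of_mem_ker k h _ (hy1 y)]
      exact y.2
  let i : LinearMap.ker (NLCx.bcH1Map f) →ₗ[S'] LinearMap.ker (LC g) :=
    (UU h S' ∘ₗ (NLCx.bcH1 P S').subtype ∘ₗ (LinearMap.ker (NLCx.bcH1Map f)).subtype).codRestrict
      (LinearMap.ker (LC g)) (fun w => by
        rw [LinearMap.mem_ker]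
        show LC g (UU h S' w.1.1) = 0
        rw [← LC_comp_UU, LC_eq_of_mem_ker (g.comp h) (h'.comp f) _ (hw1 w), LC_comp_left, hw2 w,
          map_zero])
  let r₁ : LinearMap.ker (LC g) →ₗ[S'] NLCx.bcH1 P S' :=
    (UU k S' ∘ₗ (LinearMap.ker (LC g)).subtype).codRestrict (NLCx.bcH1 P S') (fun y => hy2 y)
  let r : LinearMap.ker (LC g) →ₗ[S'] LinearMap.ker (NLCx.bcH1Map f) :=
    r₁.codRestrict (LinearMap.ker (NLCx.bcH1Map f)) (fun y => by
      rw [LinearMap.mem_ker]
      apply Extension.h1Cotangentι_ext
      exact hy3 y)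
  refine ⟨i, r, ?_⟩
  apply LinearMap.ext
  intro w
  apply Subtype.ext
  apply Subtype.ext
  exact UU_UU_of_mem_ker h k w.1.1 (hw1 w)

end General

section LCIpart

open MvPolynomial

variable {A B : Type u} [CommRing A] [CommRing B] [Algebra A B]

theorem map_rename_down {n : ℕ} (f : MvPolynomial (Fin n) A →ₐ[A] B)
    (p : MvPolynomial (ULift.{u} (Fin n)) A) :
    f (rename ULift.down p) = aeval (fun i : ULift.{u} (Fin n) => f (X i.down)) p := by
  induction p using MvPolynomial.induction_on with
  | C a => simp
  | add p q hp hq => rw [map_add, map_add, map_add, hp, hq]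
  | mul_X p i hp => simp [hp]

/-- generators indexed by `ULift (Fin n)` from a surjection out of a polynomial ring -/
noncomputable def genU {n : ℕ} (f : MvPolynomial (Fin n) A →ₐ[A] B) (hf : Function.Surjective f) :
    Algebra.Generators A B (ULift.{u} (Fin n)) :=
  Algebra.Generators.ofSurjective (fun i => f (X i.down)) (by
    intro b
    obtain ⟨p, rfl⟩ := hf b
    refine ⟨rename ULift.up p, ?_⟩
    have h : (ULift.down ∘ ULift.up : Fin n → Fin n) = _root_.id := rfl
    rw [← map_rename_down, rename_rename, h, rename_id_apply])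

theorem genU_kr {n : ℕ} (f : MvPolynomial (Fin n) A →ₐ[A] B) (hf : Function.Surjective f)
    (hK : LCI.IsKoszulRegularIdeal (RingHom.ker f.toRingHom)) :
    LCI.IsKoszulRegularIdeal (genU f hf).toExtension.ker := by
  let e : MvPolynomial (ULift.{u} (Fin n)) A ≃ₐ[A] MvPolynomial (Fin n) A :=
    renameEquiv A Equiv.ulift
  have hker : (genU f hf).toExtension.ker =
      (RingHom.ker f.toRingHom).comap
        (e.toRingEquiv : MvPolynomial (ULift.{u} (Fin n)) A →+* MvPolynomial (Fin n) A) := by
    ext p
    change algebraMap (genU f hf).Ring B p = 0 ↔ f (e p) = 0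
    rw [Algebra.Generators.algebraMap_apply]
    change aeval (fun i : ULift.{u} (Fin n) => f (X i.down)) p = 0 ↔
      f (rename ULift.down p) = 0
    rw [map_rename_down]
  rw [hker, kr_iff]
  exact Groth.Agent.Lib.Helper5.KzPres.kr_comap_ringEquiv _ _ ((kr_iff _).mp hK)

variable {A' B' : Type u} [CommRing A'] [CommRing B'] [Algebra A' B'] [Algebra A A']
  [Algebra B B'] [Algebra A B'] [IsScalarTower A A' B'] [IsScalarTower A B B']

theorem aeval_algebraMap_comp {n : ℕ} (f : MvPolynomial (Fin n) A →ₐ[A] B)
    (p : MvPolynomial (Fin n) A) :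
    aeval (R := A) (fun i : Fin n => algebraMap B B' (f (X i))) p = algebraMap B B' (f p) := by
  induction p using MvPolynomial.induction_on with
  | C a =>
    rw [aeval_C, ← MvPolynomial.algebraMap_eq, AlgHom.commutes, ← IsScalarTower.algebraMap_apply]
  | add p q hp hq => rw [map_add, map_add, map_add, hp, hq]
  | mul_X p i hp => rw [map_mul, map_mul, map_mul, aeval_X, hp]

variable [Algebra.IsPushout A A' B B']

theorem beta_surjective {n : ℕ} (f : MvPolynomial (Fin n) A →ₐ[A] B)
    (hf : Function.Surjective f) :
    Function.Surjective (aeval (R := A') (fun i : Fin n => algebraMap B B' (f (X i)))) := by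
  intro z
  obtain ⟨t, rfl⟩ := (Algebra.IsPushout.equiv A A' B B').surjective z
  induction t using TensorProduct.induction_on with
  | zero => exact ⟨0, by simp⟩
  | add x y hx hy =>
    obtain ⟨a, ha⟩ := hx
    obtain ⟨b, hb⟩ := hy
    exact ⟨a + b, by rw [map_add, map_add, ha, hb]⟩
  | tmul a b =>
    obtain ⟨p, rfl⟩ := hf b
    refine ⟨C a * MvPolynomial.map (algebraMap A A') p, ?_⟩
    rw [Algebra.IsPushout.equiv_tmul, map_mul, aeval_C, MvPolynomial.aeval_map_algebraMap,
      aeval_algebraMap_comp]

/-- the kernel of `H^{-1}(NL_{B/A} ⊗ B') → H^{-1}(NL_{B'/A'})` is finite projective for lci maps -/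
theorem main (hB : LCI.IsLCI A B) (hB' : LCI.IsLCI A' B') :
    Module.Finite B' (LinearMap.ker (NLCx.bcH1Map
        ((Algebra.Generators.self A B).defaultHom (Algebra.Generators.self A' B')).toExtensionHom)) ∧
      Module.Projective B' (LinearMap.ker (NLCx.bcH1Map
        ((Algebra.Generators.self A B).defaultHom
          (Algebra.Generators.self A' B')).toExtensionHom)) := by
  obtain ⟨_, n, f, hf, hK⟩ := hB
  obtain ⟨_, n', f', hf', hK'⟩ := hB'
  let β' : MvPolynomial (Fin n) A' →ₐ[A'] B' :=
    aeval (fun i : Fin n => algebraMap B B' (f (X i)))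
  have hβ' : Function.Surjective β' := beta_surjective f hf
  have hKβ' : LCI.IsKoszulRegularIdeal (RingHom.ker β'.toRingHom) :=
    Groth.Agent.Lib.Helper5.KzPres.main A' B' n' n f' hf' β' hβ' hK'
  let G := genU f hf
  let G' := genU β' hβ'
  have hG := genU_kr f hf hK
  have hG' := genU_kr β' hβ' hKβ'
  let g₀ : G.Hom G' := ⟨fun i => X i, fun i => by simp [G, G', genU, β']⟩
  have hg₀ : ∀ i, g₀.val i = X i := fun _ => rfl
  have hinj :=
    (Groth.Agent.Lib.Helper14.NLBC.liftBaseChange_cotangentSpaceMap_bijective g₀ hg₀).1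
  have hsurj := Groth.Agent.Lib.Helper14.NLBC.liftBaseChange_cotangentMap_surjective g₀ hg₀
  haveI := Groth.Agent.Helper13KzDesc.projective_of_isKoszulRegularIdeal hG
  haveI : Module.Projective B G.toExtension.Cotangent := cotangent_projective _
  haveI : Module.Finite B G.toExtension.Cotangent :=
    Extension.Cotangent.finite (Groth.Agent.Helper13KzDesc.fg_of_isKoszulRegularIdeal hG)
  haveI := Groth.Agent.Helper13KzDesc.projective_of_isKoszulRegularIdeal hG'
  haveI : Module.Projective B' G'.toExtension.Cotangent := cotangent_projective _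
  obtain ⟨hfin, hproj⟩ := ker_finite_projective (LC g₀.toExtensionHom) hsurj
  obtain ⟨i, r, hri⟩ := exists_retract
    (((Algebra.Generators.self A B).defaultHom (Algebra.Generators.self A' B')).toExtensionHom)
    g₀.toExtensionHom ((Algebra.Generators.self A B).defaultHom G).toExtensionHom
    (G.defaultHom (Algebra.Generators.self A B)).toExtensionHom
    ((Algebra.Generators.self A' B').defaultHom G').toExtensionHom
    (G'.defaultHom (Algebra.Generators.self A' B')).toExtensionHom hinj
  have hrs : Function.Surjective r := fun y => ⟨i y, LinearMap.congr_fun hri y⟩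
  exact ⟨Module.Finite.of_surjective r hrs, Module.Projective.of_split i r hri⟩

end LCIpart

end Groth.Agent.Lib.Helper5.NLBC
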