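import Mathlib
import Groth.Prelude.Def_SheafNL
import Groth.Agent.Lib.Helper14NLBC
import Groth.Agent.Lib.Helper5NLBC
import Groth.Agent.Lib.Helper5NLIndep

/-!
# Base change of the naive cotangent complex under flatness (helper10)
-/

set_option autoImplicit false
set_option backward.isDefEq.respectTransparency.types false
set_option linter.style.haveILetI false
universe u

open CategoryTheory Algebra MvPolynomial TensorProduct

namespace Groth.Agent.Lib.Helper10.NLFlat

noncomputable section

section Inj

variable {R S R' S' : Type u} [CommRing R] [CommRing S] [CommRing R'] [CommRing S']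
  [Algebra R S] [Algebra R' S'] [Algebra R R'] [Algebra S S'] [Algebra R S']
  [IsScalarTower R R' S'] [IsScalarTower R S S']
  {ι : Type u} (G : Generators R S ι) (G' : Generators R' S' ι)

/-- the kernel of the presentation, as an `R`-submodule -/
abbrev kerR : Submodule R (MvPolynomial ι R) := G.ker.restrictScalars R

/-- `R' ⊗_R I → R'[X]`, `r' ⊗ x ↦ r' • x` -/
def Θ : R' ⊗[R] (kerR G) →ₗ[R] MvPolynomial ι R' :=
  ((algebraTensorAlgEquiv R R').toLinearMap.restrictScalars R) ∘ₗ (LinearMap.lTensor R' (kerR G).subtype)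

lemma Θ_tmul (r' : R') (x : kerR G) :
    Θ (R' := R') G (r' ⊗ₜ x) = r' • MvPolynomial.map (algebraMap R R') x.1 := by
  simp [Θ, algebraTensorAlgEquiv_tmul]

lemma Θ_injective (hinj : Function.Injective (LinearMap.lTensor R' (kerR G).subtype)) :
    Function.Injective (Θ (R' := R') G) := by
  intro a b hab
  apply hinj
  exact (algebraTensorAlgEquiv R R').injective hab

/-- `R' ⊗_R I → S' ⊗_S I/I²`, `r' ⊗ x ↦ r' ⊗ [x]` -/
def Φ : R' ⊗[R] (kerR G) →+ S' ⊗[S] G.toExtension.Cotangent :=
  TensorProduct.liftAddHom
    { toFun := fun r' =>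
        { toFun := fun x => (algebraMap R' S' r') ⊗ₜ[S] Extension.Cotangent.mk (P := G.toExtension) ⟨x.1, x.2⟩
          map_zero' := by
            have : (⟨(0 : kerR G).1, (0 : kerR G).2⟩ : G.toExtension.ker) = 0 := rfl
            rw [this, map_zero, tmul_zero]
          map_add' := fun x y => by
            have : (⟨(x + y).1, (x + y).2⟩ : G.toExtension.ker) =
                (⟨x.1, x.2⟩ : G.toExtension.ker) + ⟨y.1, y.2⟩ := rfl
            rw [this, map_add, tmul_add] }
      map_zero' := by
        ext x
        simp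
      map_add' := fun a b => by
        ext x
        simp [add_tmul] }
    (fun r r' x => by
      simp only [AddMonoidHom.coe_mk, ZeroHom.coe_mk]
      have h1 : (⟨(r • x).1, (r • x).2⟩ : G.toExtension.ker) =
          r • (⟨x.1, x.2⟩ : G.toExtension.ker) := rfl
      rw [h1, LinearMap.map_smul_of_tower, tmul_smul, smul_tmul']
      congr 1
      rw [Algebra.smul_def r r', map_mul, ← IsScalarTower.algebraMap_apply R R' S', Algebra.smul_def])

lemma Φ_tmul (r' : R') (x : kerR G) :
    Φ (S' := S') G (r' ⊗ₜ x) =
      (algebraMap R' S' r') ⊗ₜ[S] Extension.Cotangent.mk (P := G.toExtension) ⟨x.1, x.2⟩ := rfl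

variable {G G'}

lemma Θ_mem (hker : G'.ker = Ideal.map (MvPolynomial.map (algebraMap R R')) G.ker)
    (w : R' ⊗[R] (kerR G)) : Θ (R' := R') G w ∈ G'.ker := by
  induction w using TensorProduct.induction_on with
  | zero => rw [map_zero]; exact zero_mem _
  | tmul r' x =>
    rw [Θ_tmul, hker, MvPolynomial.smul_eq_C_mul]
    exact Ideal.mul_mem_left _ _ (Ideal.mem_map_of_mem _ x.2)
  | add a b ha hb => rw [map_add]; exact add_mem ha hb

lemma LC_Φ (f : G.Hom G') (hf : ∀ i, f.val i = X i)
    (hker : G'.ker = Ideal.map (MvPolynomial.map (algebraMap R R')) G.ker)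
    (w : R' ⊗[R] (kerR G)) :
    LinearMap.liftBaseChange S' (Extension.Cotangent.map f.toExtensionHom) (Φ (S' := S') G w) =
      Extension.Cotangent.mk (P := G'.toExtension) ⟨Θ (R' := R') G w, Θ_mem hker w⟩ := by
  induction w using TensorProduct.induction_on with
  | zero =>
    rw [map_zero, map_zero]
    symm
    rw [Extension.Cotangent.mk_eq_zero_iff]
    show Θ (R' := R') G 0 ∈ _
    rw [map_zero]
    exact zero_mem _
  | tmul r' x =>
    rw [Φ_tmul, LinearMap.liftBaseChange_tmul, Extension.Cotangent.map_mk,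
      algebraMap_smul S' r', ← LinearMap.map_smul_of_tower]
    apply congrArg
    apply Subtype.ext
    show r' • f.toExtensionHom.toAlgHom x.1 = Θ (R' := R') G (r' ⊗ₜ x)
    rw [Θ_tmul]
    congr 1
    exact Groth.Agent.Lib.Helper14.NLBC.toAlgHom_eq_map f hf x.1
  | add a b ha hb =>
    rw [map_add, map_add, ha, hb, ← map_add]
    apply congrArg
    apply Subtype.ext
    show Θ (R' := R') G a + Θ (R' := R') G b = Θ (R' := R') G (a + b)
    rw [map_add]

variable (G) in
lemma Φ_surjective [Algebra.IsPushout R R' S S'] : Function.Surjective (Φ (R' := R') (S' := S') G) := by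
  intro t
  induction t using TensorProduct.induction_on with
  | zero => exact ⟨0, map_zero _⟩
  | tmul s' m =>
    obtain ⟨x, rfl⟩ := Extension.Cotangent.mk_surjective m
    obtain ⟨z, rfl⟩ := (Algebra.IsPushout.equiv R R' S S').surjective s'
    induction z using TensorProduct.induction_on with
    | zero => exact ⟨0, by rw [map_zero, map_zero, zero_tmul]⟩
    | tmul r' s =>
      let p : G.toExtension.Ring := G.toExtension.σ s
      refine ⟨r' ⊗ₜ ⟨p * x.1, G.ker.mul_mem_left _ x.2⟩, ?_⟩
      rw [Φ_tmul, Algebra.IsPushout.equiv_tmul]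
      have h1 : (⟨p * x.1, G.ker.mul_mem_left _ x.2⟩ : G.toExtension.ker) = p • x := rfl
      have h2 : Extension.Cotangent.mk (P := G.toExtension) (p • x) =
          s • Extension.Cotangent.mk (P := G.toExtension) x := by
        rw [map_smul, ← algebraMap_smul S p (Extension.Cotangent.mk (P := G.toExtension) x)]
        congr 1
        exact G.toExtension.algebraMap_σ s
      rw [h1, h2, tmul_smul, smul_tmul', Algebra.smul_def, mul_comm]
    | add a b ha hb =>
      obtain ⟨wa, hwa⟩ := ha
      obtain ⟨wb, hwb⟩ := hb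
      exact ⟨wa + wb, by rw [map_add, hwa, hwb, map_add, add_tmul]⟩
  | add a b ha hb =>
    obtain ⟨wa, hwa⟩ := ha
    obtain ⟨wb, hwb⟩ := hb
    exact ⟨wa + wb, by rw [map_add, hwa, hwb]⟩

variable (G) in
lemma exists_Θ_eq_of_mem_sq (y : MvPolynomial ι R')
    (hy : y ∈ Ideal.map (MvPolynomial.map (algebraMap R R')) (G.ker ^ 2)) :
    ∃ w : R' ⊗[R] (kerR G), Θ (R' := R') G w = y ∧ Φ (R' := R') (S' := S') G w = 0 := by
  have key : ∀ p' : MvPolynomial ι R', ∃ w : R' ⊗[R] (kerR G),
      Θ (R' := R') G w = p' * y ∧ Φ (R' := R') (S' := S') G w = 0 := by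
    rw [Ideal.map] at hy
    induction hy using Submodule.span_induction with
    | mem y hy =>
      obtain ⟨z, hz, rfl⟩ := hy
      have hzI : z ∈ G.ker := Ideal.pow_le_self two_ne_zero hz
      intro p'
      induction p' using MvPolynomial.induction_on' with
      | monomial u a =>
        have hm : (monomial u (1 : R)) * z ∈ G.ker ^ 2 := Ideal.mul_mem_left _ _ hz
        refine ⟨a ⊗ₜ ⟨(monomial u (1 : R)) * z, Ideal.pow_le_self two_ne_zero hm⟩, ?_, ?_⟩
        · rw [Θ_tmul]
          simp only [map_mul, MvPolynomial.map_monomial, map_one]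
          rw [MvPolynomial.smul_eq_C_mul, ← mul_assoc, C_mul_monomial, mul_one]
        · rw [Φ_tmul]
          have : Extension.Cotangent.mk (P := G.toExtension)
              ⟨(monomial u (1 : R)) * z, Ideal.pow_le_self two_ne_zero hm⟩ = 0 := by
            rw [Extension.Cotangent.mk_eq_zero_iff]
            exact hm
          rw [this, tmul_zero]
      | add p q hp hq =>
        obtain ⟨wp, hwp1, hwp2⟩ := hp
        obtain ⟨wq, hwq1, hwq2⟩ := hq
        exact ⟨wp + wq, by rw [map_add, hwp1, hwq1, add_mul], by rw [map_add, hwp2, hwq2, add_zero]⟩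
    | zero =>
      intro p'
      exact ⟨0, by rw [map_zero, mul_zero], map_zero _⟩
    | add y₁ y₂ _ _ h₁ h₂ =>
      intro p'
      obtain ⟨w₁, h11, h12⟩ := h₁ p'
      obtain ⟨w₂, h21, h22⟩ := h₂ p'
      exact ⟨w₁ + w₂, by rw [map_add, h11, h21, mul_add], by rw [map_add, h12, h22, add_zero]⟩
    | smul c y _ h =>
      intro p'
      obtain ⟨w, h1, h2⟩ := h (p' * c)
      exact ⟨w, by rw [h1, smul_eq_mul, mul_assoc], h2⟩
  obtain ⟨w, h1, h2⟩ := key 1
  exact ⟨w, by rw [h1, one_mul], h2⟩

/-- **Injectivity** of `S' ⊗_S I/I² → I'/I'²` for the base-changed presentation, as soon as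
`R' ⊗_R I → R' ⊗_R R[X]` is injective. -/
theorem liftBaseChange_cotangentMap_injective [Algebra.IsPushout R R' S S']
    (f : G.Hom G') (hf : ∀ i, f.val i = X i)
    (hinj : Function.Injective (LinearMap.lTensor R' (kerR G).subtype)) :
    Function.Injective
      (LinearMap.liftBaseChange S' (Extension.Cotangent.map f.toExtensionHom)) := by
  have hker : G'.ker = Ideal.map (MvPolynomial.map (algebraMap R R')) G.ker :=
    Groth.Agent.Lib.Helper14.NLBC.ker_eq_map_ker G G'
      (Groth.Agent.Lib.Helper14.NLBC.val_eq_of_hom f hf)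
  rw [injective_iff_map_eq_zero]
  intro t ht
  obtain ⟨w, rfl⟩ := Φ_surjective (R' := R') (S' := S') G t
  rw [LC_Φ f hf hker, Extension.Cotangent.mk_eq_zero_iff] at ht
  have h2 : Θ (R' := R') G w ∈ Ideal.map (MvPolynomial.map (algebraMap R R')) (G.ker ^ 2) := by
    rw [Ideal.map_pow, ← hker]
    exact ht
  obtain ⟨w₂, hw₂, hw₂'⟩ := exists_Θ_eq_of_mem_sq (S' := S') G _ h2
  rw [← Θ_injective G hinj hw₂, hw₂']

theorem liftBaseChange_cotangentMap_bijective [Algebra.IsPushout R R' S S']
    (f : G.Hom G') (hf : ∀ i, f.val i = X i)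
    (hinj : Function.Injective (LinearMap.lTensor R' (kerR G).subtype)) :
    Function.Bijective
      (LinearMap.liftBaseChange S' (Extension.Cotangent.map f.toExtensionHom)) :=
  ⟨liftBaseChange_cotangentMap_injective f hf hinj,
    Groth.Agent.Lib.Helper14.NLBC.liftBaseChange_cotangentMap_surjective f hf⟩

variable (G) in
lemma lTensor_injective_of_flat_base [Module.Flat R R'] :
    Function.Injective (LinearMap.lTensor R' (kerR G).subtype) :=
  Module.Flat.lTensor_preserves_injective_linearMap _ (Submodule.injective_subtype _)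

variable (G) in
lemma lTensor_injective_of_flat_top [Module.Flat R S] :
    Function.Injective (LinearMap.lTensor R' (kerR G).subtype) := by
  refine LinearMap.lTensor_injective_of_exact_of_flat
    (IsScalarTower.toAlgHom R G.Ring S).toLinearMap ?_ _
    (Submodule.injective_subtype _) ?_ R'
  · exact G.algebraMap_surjective
  · intro x
    constructor
    · intro hx
      exact ⟨⟨x, hx⟩, rfl⟩
    · rintro ⟨y, rfl⟩
      exact y.2

end Inj

section Cx

open HomologicalComplex Groth.Agent.Lib.Helper5.NLIndep

variable {R S R' S' : Type u} [CommRing R] [CommRing S] [CommRing R'] [CommRing S']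
  [Algebra R S] [Algebra R' S'] [Algebra R R'] [Algebra S S'] [Algebra R S']
  [IsScalarTower R R' S'] [IsScalarTower R S S']

lemma bcMap_f0 {P : Extension.{u} R S} {P' : Extension.{u} R' S'} (f : P.Hom P') :
    (NLCx.bcMap (S' := S') f).f (-1) =
      (doubleXIso₀ (ModuleCat.ofHom (P.cotangentComplex.baseChange S')) rel).hom ≫
        ModuleCat.ofHom (LinearMap.liftBaseChange S' (Extension.Cotangent.map f)) ≫
          (doubleXIso₀ (ModuleCat.ofHom P'.cotangentComplex) rel).inv := by
  unfold NLCx.bcMap
  exact mkHomFromDouble_f₀ _ _ _ _ _ _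

lemma bcMap_f1 {P : Extension.{u} R S} {P' : Extension.{u} R' S'} (f : P.Hom P') :
    (NLCx.bcMap (S' := S') f).f 0 =
      (doubleXIso₁ (ModuleCat.ofHom (P.cotangentComplex.baseChange S')) rel ne10).hom ≫
        ModuleCat.ofHom (LinearMap.liftBaseChange S' (Extension.CotangentSpace.map f)) ≫
          (doubleXIso₁ (ModuleCat.ofHom P'.cotangentComplex) rel ne10).inv := by
  unfold NLCx.bcMap
  exact mkHomFromDouble_f₁ _ _ _ _ _ _

theorem liftBaseChange_cotangentSpaceMap_comp {P : Extension.{u} R S}
    {P' P'' : Extension.{u} R' S'} (f : P.Hom P') (g : P'.Hom P'') :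
    LinearMap.liftBaseChange S' (Extension.CotangentSpace.map (g.comp f)) =
      Extension.CotangentSpace.map g ∘ₗ
        LinearMap.liftBaseChange S' (Extension.CotangentSpace.map f) := by
  refine LinearMap.ext fun t => ?_
  induction t with
  | zero => simp
  | add x y hx hy => rw [map_add, map_add, hx, hy]
  | tmul s c =>
    rw [LinearMap.comp_apply, LinearMap.liftBaseChange_tmul, LinearMap.liftBaseChange_tmul,
      map_smul, Extension.CotangentSpace.map_comp]
    rfl

theorem bcMap_comp {P : Extension.{u} R S} {P' P'' : Extension.{u} R' S'} (f : P.Hom P')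
    (g : P'.Hom P'') :
    NLCx.bcMap (S' := S') (g.comp f) = NLCx.bcMap (S' := S') f ≫ NLCx.map g := by
  apply from_double_hom_ext
  · rw [HomologicalComplex.comp_f, bcMap_f0, bcMap_f0]
    have := map_f0 g
    change (NLCx.map g).f (-1) = _ at this
    rw [this, Groth.Agent.Lib.Helper14.NLBC.liftBaseChange_cotangentMap_comp]
    erw [Category.assoc, Category.assoc, Iso.inv_hom_id_assoc]
    rfl
  · rw [HomologicalComplex.comp_f, bcMap_f1, bcMap_f1]
    have := map_f1 g
    change (NLCx.map g).f 0 = _ at this
    rw [this, liftBaseChange_cotangentSpaceMap_comp]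
    erw [Category.assoc, Category.assoc, Iso.inv_hom_id_assoc]
    rfl

/-- under the injectivity hypothesis the base change map for the base-changed presentation
is an isomorphism of complexes -/
theorem isIso_bcMap_sameVars [Algebra.IsPushout R R' S S'] {ι : Type u}
    (G : Generators R S ι) (G' : Generators R' S' ι)
    (h : ∀ i, G'.val i = algebraMap S S' (G.val i))
    (hinj : Function.Injective (LinearMap.lTensor R' (kerR G).subtype)) :
    IsIso (NLCx.bcMap (S' := S') (NLCx.sameVarsHom G G' h).toExtensionHom) := by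
  have hv : ∀ i, (NLCx.sameVarsHom G G' h).val i = MvPolynomial.X i := fun i => rfl
  have hb0 := liftBaseChange_cotangentMap_bijective (NLCx.sameVarsHom G G' h) hv hinj
  have hb1 := Groth.Agent.Lib.Helper14.NLBC.liftBaseChange_cotangentSpaceMap_bijective
    (NLCx.sameVarsHom G G' h) hv
  haveI i0 : IsIso (ModuleCat.ofHom (LinearMap.liftBaseChange S' (Extension.Cotangent.map
      (NLCx.sameVarsHom G G' h).toExtensionHom))) :=
    (ConcreteCategory.isIso_iff_bijective _).mpr hb0
  haveI i1 : IsIso (ModuleCat.ofHom (LinearMap.liftBaseChange S' (Extension.CotangentSpace.map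
      (NLCx.sameVarsHom G G' h).toExtensionHom))) :=
    (ConcreteCategory.isIso_iff_bijective _).mpr hb1
  unfold NLCx.bcMap
  apply (config := { allowSynthFailures := true })
    Groth.Agent.Lib.Helper14.NLBC.isIso_mkHomFromDouble
  all_goals first
    | exact IsIso.comp_isIso' i0 (Iso.isIso_inv _)
    | exact IsIso.comp_isIso' i1 (Iso.isIso_inv _)
    | (intro k h0 h1; exact HomologicalComplex.isZero_double_X _ _ k h0 h1)

/-- the homotopy equivalence between the complexes of two presentations -/
def homotopyEquivOfHoms {P P' : Extension.{u} R S} (f₁ : P.Hom P') (f₂ : P'.Hom P) :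
    HomotopyEquiv (NLCx.cx P) (NLCx.cx P') where
  hom := NLCx.map f₁
  inv := NLCx.map f₂
  homotopyHomInvId := homotopyCompId f₁ f₂
  homotopyInvHomId := homotopyCompId f₂ f₁

theorem exists_homotopyEquiv_self [Algebra.IsPushout R R' S S']
    (hinj : Function.Injective
      (LinearMap.lTensor R' (kerR (Generators.self R S)).subtype)) :
    ∃ e : HomotopyEquiv (NLCx.bcCx (Generators.self R S).toExtension S')
        (NLCx.cx (Generators.self R' S').toExtension),
      e.hom = NLCx.bcMapSelf R S R' S' := by
  let G := Generators.self R S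
  let G' := Groth.Agent.Lib.Helper14.NLBC.bcGen R S R' S'
  let G'' := Generators.self R' S'
  have hval : ∀ s, G'.val s = algebraMap S S' (G.val s) := fun s => by
    simp [G', Groth.Agent.Lib.Helper14.NLBC.bcGen, G]
  let sv : G.Hom G' := NLCx.sameVarsHom G G' hval
  let g : G'.Hom G'' := Generators.defaultHom G' G''
  let g' : G''.Hom G' := Generators.defaultHom G'' G'
  have hd : G.defaultHom G'' = g.comp sv := by
    ext s : 2
    simp [g, sv, G', Groth.Agent.Lib.Helper14.NLBC.bcGen, G, G'', NLCx.sameVarsHom]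
  haveI := isIso_bcMap_sameVars G G' hval hinj
  refine ⟨(HomotopyEquiv.ofIso (asIso (NLCx.bcMap (S' := S') sv.toExtensionHom))).trans
    (homotopyEquivOfHoms g.toExtensionHom g'.toExtensionHom), ?_⟩
  change NLCx.bcMap (S' := S') sv.toExtensionHom ≫ NLCx.map g.toExtensionHom = _
  rw [← bcMap_comp, ← Generators.Hom.toExtensionHom_comp, ← hd]
  rfl

end Cx

end

end Groth.Agent.Lib.Helper10.NLFlat
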