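import Mathlib
import Groth.Agent.Lib.Helper1TorE
import Groth.Agent.Lib.Helper1TorH
import Groth.Agent.Lib.Helper14TorSyz

/-!
# Tor amplitude `[-1,0]` of a two-term complex with flat degree-0 term forces the degree `-1`
term to be flat (helper13)
-/

set_option autoImplicit false
set_option linter.style.haveILetI false
universe u
open CategoryTheory CategoryTheory.Limits HomologicalComplex
attribute [local instance] HasDerivedCategory.standard

namespace Groth.Agent.Helper13NLFlat

open DerivedCategory Pretriangulated Groth.Agent.Lib.Helper1.Tor Groth.Agent.Lib.Helper1.TorDim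
  Groth.Agent.Lib.Helper14.TorSyz

section SE
variable {C : Type*} [Category C] [Abelian C]

lemma shortExact_of_isZero_X₃ (S : ShortComplex C) (h3 : IsZero S.X₃) [IsIso S.f] :
    S.ShortExact :=
  { exact := (S.exact_iff_epi (h3.eq_of_tgt _ _)).2 inferInstance
    mono_f := inferInstance
    epi_g := ⟨fun a b _ => h3.eq_of_src a b⟩ }

lemma shortExact_of_isZero_X₁ (S : ShortComplex C) (h1 : IsZero S.X₁) [IsIso S.g] :
    S.ShortExact :=
  { exact := (S.exact_iff_mono (h1.eq_of_src _ _)).2 inferInstance
    mono_f := ⟨fun a b _ => h1.eq_of_tgt a b⟩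
    epi_g := inferInstance }

end SE

theorem rel : (ComplexShape.up ℤ).Rel (-1) 0 := by simp
theorem ne10 : (-1 : ℤ) ≠ 0 := by decide

variable {R : Type u} [CommRing R] {M F : ModuleCat.{u} R} (d : M ⟶ F)

/-- the inclusion of the degree `0` term -/
noncomputable def incl : (single (ModuleCat.{u} R) (ComplexShape.up ℤ) 0).obj F ⟶ double d rel :=
  mkHomFromSingle (doubleXIso₁ d rel ne10).inv (fun k _ => by
    rw [double_d_eq_zero₀ d rel 0 k (by decide), comp_zero])

/-- the projection to the degree `-1` term -/
noncomputable def proj : double d rel ⟶ (single (ModuleCat.{u} R) (ComplexShape.up ℤ) (-1)).obj M :=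
  mkHomToSingle (doubleXIso₀ d rel).hom (fun i _ => by
    rw [double_d_eq_zero₁ d rel i (-1) (by decide), zero_comp])

lemma incl_proj : incl d ≫ proj d = 0 := by
  apply from_single_hom_ext
  apply (isZero_single_obj_X (ComplexShape.up ℤ) (-1) M 0 (by decide)).eq_of_tgt

/-- the short complex `0 → F[0] → (M → F) → M[1] → 0`. -/
noncomputable def sc : ShortComplex (CochainComplex (ModuleCat.{u} R) ℤ) :=
  ShortComplex.mk (incl d) (proj d) (incl_proj d)

lemma sc_shortExact : (sc d).ShortExact := by
  apply HomologicalComplex.shortExact_of_degreewise_shortExact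
  intro n
  by_cases h0 : n = 0
  · subst h0
    haveI : IsIso ((sc d).map (eval _ _ 0)).f := by
      change IsIso ((incl d).f 0)
      rw [incl, mkHomFromSingle_f]
      infer_instance
    have hz3 : IsZero (((sc d).map (eval _ _ 0)).X₃) := by
      change IsZero (((single (ModuleCat.{u} R) (ComplexShape.up ℤ) (-1)).obj M).X 0)
      exact isZero_single_obj_X (ComplexShape.up ℤ) (-1) M 0 (by decide)
    exact shortExact_of_isZero_X₃ _ hz3
  · by_cases h1 : n = -1
    · subst h1
      haveI : IsIso ((sc d).map (eval _ _ (-1))).g := by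
        change IsIso ((proj d).f (-1))
        rw [proj, mkHomToSingle_f]
        infer_instance
      have hz1 : IsZero (((sc d).map (eval _ _ (-1))).X₁) := by
        change IsZero (((single (ModuleCat.{u} R) (ComplexShape.up ℤ) 0).obj F).X (-1))
        exact isZero_single_obj_X (ComplexShape.up ℤ) 0 F (-1) (by decide)
      exact shortExact_of_isZero_X₁ _ hz1
    · have hz2 : IsZero (((sc d).map (eval _ _ n)).X₂) := by
        change IsZero ((double d rel).X n)
        exact isZero_double_X d rel n h1 h0
      have hz3 : IsZero (((sc d).map (eval _ _ n)).X₃) := by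
        change IsZero (((single (ModuleCat.{u} R) (ComplexShape.up ℤ) (-1)).obj M).X n)
        exact isZero_single_obj_X (ComplexShape.up ℤ) (-1) M n h1
      have hz1 : IsZero (((sc d).map (eval _ _ n)).X₁) := by
        change IsZero (((single (ModuleCat.{u} R) (ComplexShape.up ℤ) 0).obj F).X n)
        exact isZero_single_obj_X (ComplexShape.up ℤ) 0 F n h0
      haveI : IsIso ((sc d).map (eval _ _ n)).g :=
        ⟨0, hz2.eq_of_src _ _, hz3.eq_of_src _ _⟩
      exact shortExact_of_isZero_X₁ _ hz1

/-- **flatness of the degree `-1` term.** -/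
theorem flat_of_hasTorAmp_double [Module.Flat R F]
    (h : DRing.HasTorAmplitudeIn R (-1) 0 (DRing.toD (double d rel))) : Module.Flat R M := by
  have hT := DerivedCategory.triangleOfSES_distinguished (sc_shortExact d)
  -- the first vertex
  have h1 : DRing.HasTorAmplitudeIn R (-1 + 1) (0 + 1)
      (DerivedCategory.triangleOfSES (sc_shortExact d)).obj₁ := by
    refine ⟨(single (ModuleCat.{u} R) (ComplexShape.up ℤ) 0).obj F, ?_, ?_, ⟨Iso.refl _⟩⟩
    · intro i hi
      exact isZero_single_obj_X (ComplexShape.up ℤ) 0 F i (by omega)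
    · intro i
      by_cases hi : i = 0
      · subst hi
        exact Module.Flat.of_linearEquiv (singleObjXSelf (ComplexShape.up ℤ) 0 F).toLinearEquiv
      · haveI := ModuleCat.subsingleton_of_isZero
          (isZero_single_obj_X (ComplexShape.up ℤ) 0 F i hi)
        infer_instance
  have h3 := (hasTorAmp_two_out_of_three (-1) 0 _ hT).1 h1 h
  -- the third vertex is `M[1]`
  have e1 : (DerivedCategory.triangleOfSES (sc_shortExact d)).obj₃ ≅
      (DerivedCategory.singleFunctor (ModuleCat.{u} R) (-1)).obj M :=
    ((DerivedCategory.singleFunctorIsoCompQ (ModuleCat.{u} R) (-1)).app M).symm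
  have h4 : DRing.HasTorAmplitudeIn R (-1) 0
      ((DerivedCategory.singleFunctor (ModuleCat.{u} R) (-1)).obj M) := hasTorAmp_of_iso e1 h3
  have h5 : DRing.HasTorAmplitudeIn R 0 1
      (((DerivedCategory.singleFunctor (ModuleCat.{u} R) (-1)).obj M)⟦(-1 : ℤ)⟧) :=
    hasTorAmp_shift h4 (-1) 0 1 (by omega) (by omega)
  have e2 : ((DerivedCategory.singleFunctor (ModuleCat.{u} R) (-1)).obj M)⟦(-1 : ℤ)⟧ ≅
      (DerivedCategory.singleFunctor (ModuleCat.{u} R) 0).obj M :=
    ((DerivedCategory.singleFunctors (ModuleCat.{u} R)).shiftIso (-1) 0 (-1) (by omega)).app M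
  have h6 : DRing.HasTorAmplitudeIn R (-((0 : ℕ) : ℤ)) 1 (Dual.inD R M) := by
    have := hasTorAmp_of_iso e2 h5
    simpa using this
  exact (hasTorDimLE_zero_iff_flat M).1 (hasTorDimLE_of_hasTorAmp M 0 1 h6)

end Groth.Agent.Helper13NLFlat
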