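import Mathlib
import Groth.Prelude.Def_SheafNL
import Groth.Agent.Lib.Helper10NLFlat
import Groth.Agent.Lib.Helper13NLFlatA
import Groth.Agent.Lib.Helper1DT5
import Groth.Agent.Lib.Helper1KF12
import Groth.Agent.Lib.Helper1LBC
import Groth.Agent.Lib.Helper1Extend

/-!
# Derived base change of the naive cotangent complex (helper10)
-/

set_option autoImplicit false
set_option backward.isDefEq.respectTransparency.types false
set_option linter.style.haveILetI false
set_option maxHeartbeats 400000
universe u

open CategoryTheory CategoryTheory.Limits HomologicalComplex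

attribute [local instance] HasDerivedCategory.standard

namespace Groth.Agent.Lib.Helper10.NLFlatB

open Groth.Agent.Lib.Helper5.NLIndep

noncomputable section

section Double

variable {C D : Type*} [Category C] [Category D] [Preadditive C] [Preadditive D]
  [HasZeroObject C] [HasZeroObject D] (F : C ⥤ D) [F.Additive] {X₀ X₁ : C} (f : X₀ ⟶ X₁)

/-- an additive functor applied termwise to a two-term complex -/
def mapDoubleHom : double (F.map f) rel ⟶
    (F.mapHomologicalComplex (ComplexShape.up ℤ)).obj (double f rel) :=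
  mkHomFromDouble rel ne10 (F.map (doubleXIso₀ f rel).inv) (F.map (doubleXIso₁ f rel ne10).inv)
    (by
      change F.map (doubleXIso₀ f rel).inv ≫ F.map ((double f rel).d (-1) 0) =
        F.map f ≫ F.map (doubleXIso₁ f rel ne10).inv
      rw [double_d f rel ne10, ← F.map_comp, ← F.map_comp, Iso.inv_hom_id_assoc])
    (fun k _ => by
      change F.map (doubleXIso₁ f rel ne10).inv ≫ F.map ((double f rel).d 0 k) = 0
      rw [double_d_eq_zero₀ f rel 0 k (by decide), F.map_zero, comp_zero])

instance : IsIso (mapDoubleHom F f) := by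
  have : ∀ k, IsIso ((mapDoubleHom F f).f k) := by
    intro k
    by_cases h0 : k = -1
    · subst h0
      unfold mapDoubleHom
      rw [mkHomFromDouble_f₀]
      exact IsIso.comp_isIso' inferInstance
        (inferInstanceAs (IsIso (F.map (doubleXIso₀ f rel).inv)))
    · by_cases h1 : k = 0
      · subst h1
        unfold mapDoubleHom
        rw [mkHomFromDouble_f₁]
        exact IsIso.comp_isIso' inferInstance
          (inferInstanceAs (IsIso (F.map (doubleXIso₁ f rel ne10).inv)))
      · exact isIso_of_source_target_iso_zero _ (isZero_double_X _ rel k h0 h1).isoZero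
          (F.map_isZero (isZero_double_X f rel k h0 h1)).isoZero
  exact HomologicalComplex.Hom.isIso_of_components _

variable {f} in
/-- two-term complexes with isomorphic terms -/
def doubleCongrHom {Y₀ Y₁ : C} {g : Y₀ ⟶ Y₁} (e₀ : X₀ ≅ Y₀) (e₁ : X₁ ≅ Y₁)
    (w : f ≫ e₁.hom = e₀.hom ≫ g) : double f rel ⟶ double g rel :=
  mkHomFromDouble rel ne10 (e₀.hom ≫ (doubleXIso₀ g rel).inv) (e₁.hom ≫ (doubleXIso₁ g rel ne10).inv)
    (by
      rw [double_d g rel ne10, Category.assoc, Iso.inv_hom_id_assoc, ← Category.assoc, ← w,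
        Category.assoc])
    (fun k _ => by
      rw [double_d_eq_zero₀ g rel 0 k (by decide), comp_zero])

variable {f} in
theorem isIso_doubleCongrHom {Y₀ Y₁ : C} {g : Y₀ ⟶ Y₁} (e₀ : X₀ ≅ Y₀) (e₁ : X₁ ≅ Y₁)
    (w : f ≫ e₁.hom = e₀.hom ≫ g) : IsIso (doubleCongrHom e₀ e₁ w) := by
  have : ∀ k, IsIso ((doubleCongrHom e₀ e₁ w).f k) := by
    intro k
    by_cases h0 : k = -1
    · subst h0
      unfold doubleCongrHom
      rw [mkHomFromDouble_f₀]
      infer_instance
    · by_cases h1 : k = 0
      · subst h1
        unfold doubleCongrHom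
        rw [mkHomFromDouble_f₁]
        infer_instance
      · exact isIso_of_source_target_iso_zero _ (isZero_double_X _ rel k h0 h1).isoZero
          (isZero_double_X g rel k h0 h1).isoZero
  exact HomologicalComplex.Hom.isIso_of_components _

end Double

section Ext

open Groth.Agent.Lib.Helper1.Extend TensorProduct

variable {B B' : Type u} [CommRing B] [CommRing B'] [Algebra B B']

lemma extIso_naturality {M N : Type u} [AddCommGroup M] [Module B M] [AddCommGroup N] [Module B N]
    (d : M →ₗ[B] N) :
    (ext B B').map (ModuleCat.ofHom d) ≫ (extIso (A := B) (B := B') N).hom =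
      (extIso (A := B) (B := B') M).hom ≫ ModuleCat.ofHom (d.baseChange B') := by
  apply ModuleCat.hom_ext
  apply LinearMap.ext
  intro x
  induction x using TensorProduct.induction_on with
  | zero =>
    have h1 := map_zero ((ext B B').map (ModuleCat.ofHom d) ≫
      (extIso (A := B) (B := B') N).hom).hom
    have h2 := map_zero ((extIso (A := B) (B := B') M).hom ≫
      ModuleCat.ofHom (d.baseChange B')).hom
    exact h1.trans h2.symm
  | tmul b m => rfl
  | add x y hx hy =>
    have h1 := map_add ((ext B B').map (ModuleCat.ofHom d) ≫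
      (extIso (A := B) (B := B') N).hom).hom x y
    have h2 := map_add ((extIso (A := B) (B := B') M).hom ≫
      ModuleCat.ofHom (d.baseChange B')).hom x y
    exact h1.trans ((congrArg₂ (· + ·) hx hy).trans h2.symm)

variable {A : Type u} [CommRing A] [Algebra A B]

/-- termwise extension of scalars of the naive cotangent complex is the tensored complex -/
def bcCxIso (P : Algebra.Extension.{u} A B) :
    (Groth.Agent.Lib.Helper1.LDer.bcCx (algebraMap B B')).obj (NLCx.cx P) ≅ NLCx.bcCx P B' :=
  (asIso (mapDoubleHom (ext B B') (ModuleCat.ofHom P.cotangentComplex))).symm ≪≫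
    @asIso _ _ _ _ (doubleCongrHom (extIso (A := B) (B := B') P.Cotangent)
      (extIso (A := B) (B := B') P.CotangentSpace) (extIso_naturality P.cotangentComplex))
      (isIso_doubleCongrHom _ _ _)

end Ext

section Derived

open DerivedCategory Groth.Agent.Lib.Helper1.KF Groth.Agent.Lib.Helper1.LDer
  Groth.Agent.Lib.Helper1.DT

variable {A B : Type u} [CommRing A] [CommRing B] (φ : A →+* B) [DRing.HasLBaseChange φ]

/-- derived base change is computed termwise on K-flat complexes -/
theorem nonempty_LBaseChange_iso_of_kflat (K : DRing.Cx A) (hK : KFlat K) :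
    Nonempty ((DRing.LBaseChange φ).obj (Q.obj K) ≅ Q.obj ((bcCx φ).obj K)) := by
  obtain ⟨P, π, hP, -, hπ, -⟩ := exists_kprojective_resolution K
  haveI := hP
  haveI := hπ
  have hq : QuasiIso ((bcCx φ).map π) :=
    quasiIso_extCx_map_of_kflat φ π (kflat_of_isKProjective P) hK
  haveI : IsIso (Q.map π) := (DerivedCategory.isIso_Q_map_iff_quasiIso (φ := π)).2 hπ
  haveI : IsIso (Q.map ((bcCx φ).map π)) :=
    (DerivedCategory.isIso_Q_map_iff_quasiIso (φ := (bcCx φ).map π)).2 hq
  exact ⟨((DRing.LBaseChange φ).mapIso (asIso (Q.map π))).symm ≪≫ lbcIso φ P ≪≫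
    asIso (Q.map ((bcCx φ).map π))⟩

end Derived

section Main

open DerivedCategory Groth.Agent.Lib.Helper1.KF Groth.Agent.Lib.Helper1.LDer

variable (A B A' B' : Type u) [CommRing A] [CommRing B] [CommRing A'] [CommRing B']
  [Algebra A B] [Algebra A' B'] [Algebra A A'] [Algebra B B'] [Algebra A B']
  [IsScalarTower A A' B'] [IsScalarTower A B B'] [Algebra.IsPushout A A' B B'] [Module.Flat A B]

theorem quasiIso_bcMapSelf : QuasiIso (NLCx.bcMapSelf A B A' B') := by
  obtain ⟨e, he⟩ := Groth.Agent.Lib.Helper10.NLFlat.exists_homotopyEquiv_self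
    (R := A) (S := B) (R' := A') (S' := B')
    (Groth.Agent.Lib.Helper10.NLFlat.lTensor_injective_of_flat_top (R' := A')
      (Algebra.Generators.self A B))
  rw [← he]
  infer_instance

theorem nonempty_LBaseChange_NL_iso (h : DRing.HasTorAmplitudeIn B (-1) 0 (LCI.NL A B))
    [DRing.HasLBaseChange (algebraMap B B')] :
    Nonempty ((DRing.LBaseChange (algebraMap B B')).obj (LCI.NL A B) ≅ LCI.NL A' B') := by
  let P := (Algebra.Generators.self A B).toExtension
  haveI : Module.Free B P.CotangentSpace :=
    Module.Free.of_basis (Algebra.Generators.self A B).cotangentSpaceBasis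
  haveI : Module.Flat B (ModuleCat.of B P.CotangentSpace) :=
    (inferInstance : Module.Flat B P.CotangentSpace)
  haveI hflat : Module.Flat B P.Cotangent :=
    Groth.Agent.Helper13NLFlat.flat_of_hasTorAmp_double (ModuleCat.ofHom P.cotangentComplex) h
  have hK : KFlat (NLCx.cx P) :=
    kflat_of_boundedAbove_flat _ 0 (fun q hq => vanishesOutside P q (Or.inr hq)) (termwiseFlat P)
  obtain ⟨e1⟩ := nonempty_LBaseChange_iso_of_kflat (algebraMap B B') (NLCx.cx P) hK
  haveI := quasiIso_bcMapSelf A B A' B'
  have h3 : IsIso (Q.map (NLCx.bcMapSelf A B A' B')) :=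
    (DerivedCategory.isIso_Q_map_iff_quasiIso (φ := NLCx.bcMapSelf A B A' B')).2 inferInstance
  have e3 : Q.obj (NLCx.bcCx P B') ≅ LCI.NL A' B' :=
    @asIso _ _ _ _ (Q.map (NLCx.bcMapSelf A B A' B')) h3
  exact ⟨e1 ≪≫ Q.mapIso (bcCxIso (B' := B') P) ≪≫ e3⟩

end Main

end

end Groth.Agent.Lib.Helper10.NLFlatB
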