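import Mathlib

/-!
# Elementary regular sequences modulo an ideal (helper5)

`RegOn I rs` : every element of the list `rs` is a nonzerodivisor modulo `I` and the preceding
elements.  `RegOn ⊥ rs ↔ IsWeaklyRegular R rs`.  Spreading out of regular sequences from a
localization at a prime to a principal localization.
-/

set_option autoImplicit false
universe u v

namespace Groth.Agent.Lib.Helper5.RegSeq

open RingTheory.Sequence

section Basic

variable {R : Type*} [CommRing R]

/-- `RegOn I rs`: each element of `rs` is a nonzerodivisor modulo `I` and the preceding ones. -/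
def RegOn : Ideal R → List R → Prop
  | _, [] => True
  | I, r :: rs => (∀ c, c * r ∈ I → c ∈ I) ∧ RegOn (I ⊔ Ideal.span {r}) rs

@[simp] theorem regOn_nil (I : Ideal R) : RegOn I [] := trivial

theorem regOn_cons (I : Ideal R) (r : R) (rs : List R) :
    RegOn I (r :: rs) ↔ (∀ c, c * r ∈ I → c ∈ I) ∧ RegOn (I ⊔ Ideal.span {r}) rs := Iff.rfl

theorem regOn_append (I : Ideal R) (xs ys : List R) :
    RegOn I (xs ++ ys) ↔ RegOn I xs ∧ RegOn (I ⊔ Ideal.ofList xs) ys := by
  induction xs generalizing I with
  | nil => simp [Ideal.ofList_nil]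
  | cons x xs ih =>
    rw [List.cons_append, regOn_cons, regOn_cons, ih, Ideal.ofList_cons, and_assoc, sup_assoc]

theorem regOn_congr {I J : Ideal R} (h : I = J) (rs : List R) : RegOn I rs ↔ RegOn J rs := by
  rw [h]

theorem regOn_iff_take (I : Ideal R) (rs : List R) :
    RegOn I rs ↔ ∀ (i : ℕ) (h : i < rs.length), ∀ c, c * rs[i] ∈ I ⊔ Ideal.ofList (rs.take i) →
      c ∈ I ⊔ Ideal.ofList (rs.take i) := by
  induction rs generalizing I with
  | nil => simp
  | cons r rs ih =>
    rw [regOn_cons, ih]
    constructor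
    · rintro ⟨h0, h1⟩ i hi c hc
      cases i with
      | zero =>
        simp only [List.take_zero, Ideal.ofList_nil, sup_bot_eq, List.getElem_cons_zero] at hc ⊢
        exact h0 c hc
      | succ i =>
        simp only [List.take_succ_cons, Ideal.ofList_cons, List.getElem_cons_succ] at hc ⊢
        rw [← sup_assoc] at hc ⊢
        exact h1 i (by simpa using hi) c hc
    · intro h
      refine ⟨fun c hc => ?_, fun i hi c hc => ?_⟩
      · have h0 := h 0 (by simp) c
        simp only [List.take_zero, Ideal.ofList_nil, sup_bot_eq, List.getElem_cons_zero] at h0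
        exact h0 hc
      · have h1 := h (i + 1) (by simpa using hi) c
        simp only [List.take_succ_cons, Ideal.ofList_cons, List.getElem_cons_succ] at h1
        rw [← sup_assoc] at h1
        exact h1 hc

theorem isWeaklyRegular_iff_regOn (rs : List R) : IsWeaklyRegular R rs ↔ RegOn ⊥ rs := by
  rw [regOn_iff_take, isWeaklyRegular_iff]
  refine forall_congr' fun i => forall_congr' fun h => ?_
  rw [isSMulRegular_quotient_iff_mem_of_smul_mem]
  simp only [smul_eq_mul, Ideal.mul_top, bot_sup_eq]
  constructor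
  · intro H c hc
    exact H c (by rwa [mul_comm] at hc)
  · intro H c hc
    exact H c (by rwa [mul_comm])

/-- Transport along a surjective ring homomorphism. -/
theorem regOn_map_of_surjective {S : Type*} [CommRing S] (π : R →+* S)
    (hπ : Function.Surjective π) (L : Ideal R) (hL : RingHom.ker π ≤ L) (rs : List R) :
    RegOn (L.map π) (rs.map π) ↔ RegOn L rs := by
  induction rs generalizing L with
  | nil => simp
  | cons r rs ih =>
    have hmem : ∀ x : R, π x ∈ L.map π ↔ x ∈ L := by
      intro x
      rw [← Ideal.mem_comap, Ideal.comap_map_of_surjective π hπ, ← RingHom.ker_eq_comap_bot,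
        sup_eq_left.mpr hL]
    have hsup : L.map π ⊔ Ideal.span {π r} = (L ⊔ Ideal.span {r}).map π := by
      rw [Ideal.map_sup, Ideal.map_span, Set.image_singleton]
    rw [List.map_cons, regOn_cons, regOn_cons, hsup, ih _ (hL.trans le_sup_left)]
    refine and_congr ⟨fun H c hc => ?_, fun H c hc => ?_⟩ Iff.rfl
    · rw [← hmem] at hc ⊢
      rw [map_mul] at hc
      exact H _ hc
    · obtain ⟨c, rfl⟩ := hπ c
      rw [← map_mul, hmem] at hc
      rw [hmem]
      exact H c hc

/-- The colon ideal `(L : a)`. -/
def colonElt (L : Ideal R) (a : R) : Ideal R where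
  carrier := {x | x * a ∈ L}
  add_mem' := fun {x y} hx hy => by
    change (x + y) * a ∈ L
    rw [add_mul]
    exact L.add_mem hx hy
  zero_mem' := by
    change (0 : R) * a ∈ L
    rw [zero_mul]
    exact L.zero_mem
  smul_mem' := fun c x hx => by
    change (c • x) * a ∈ L
    rw [smul_eq_mul, mul_assoc]
    exact L.mul_mem_left c hx

theorem mem_colonElt {L : Ideal R} {a x : R} : x ∈ colonElt L a ↔ x * a ∈ L := Iff.rfl

theorem map_sup_span_singleton {S : Type*} [CommRing S] (f : R →+* S) (L : Ideal R) (a : R) :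
    L.map f ⊔ Ideal.span {f a} = (L ⊔ Ideal.span {a}).map f := by
  rw [Ideal.map_sup, Ideal.map_span, Set.image_singleton]

end Basic

section Localization

variable {A : Type u} [CommRing A] (p : Ideal A) [p.IsPrime] (Ap : Type*) [CommRing Ap]
  [Algebra A Ap] [IsLocalization.AtPrime Ap p]

include p in
theorem exists_notMem_forall_mul_mem (L : Ideal A) (T : Finset A)
    (h : ∀ q ∈ T, algebraMap A Ap q ∈ L.map (algebraMap A Ap)) :
    ∃ g : A, g ∉ p ∧ ∀ q ∈ T, g * q ∈ L := by
  classical
  induction T using Finset.induction_on with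
  | empty => exact ⟨1, fun h1 => (Ideal.IsPrime.ne_top ‹_›) ((Ideal.eq_top_iff_one p).mpr h1), by simp⟩
  | insert a T ha ih =>
    obtain ⟨g, hg, hgT⟩ := ih fun q hq => h q (Finset.mem_insert_of_mem hq)
    have ha' := h a (Finset.mem_insert_self a T)
    rw [IsLocalization.mem_map_algebraMap_iff p.primeCompl Ap] at ha'
    obtain ⟨⟨l, s⟩, hls⟩ := ha'
    rw [← map_mul, IsLocalization.eq_iff_exists p.primeCompl Ap] at hls
    obtain ⟨c, hc⟩ := hls
    refine ⟨(c : A) * (s : A) * g, ?_, ?_⟩
    · intro hmem
      rcases (Ideal.IsPrime.mem_or_mem ‹_› hmem) with h1 | h1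
      · rcases (Ideal.IsPrime.mem_or_mem ‹_› h1) with h2 | h2
        · exact c.2 h2
        · exact s.2 h2
      · exact hg h1
    · intro q hq
      rcases Finset.mem_insert.mp hq with rfl | hq
      · have : (c : A) * (s : A) * g * q = g * ((c : A) * (q * (s : A))) := by ring
        rw [this, hc]
        exact L.mul_mem_left _ (L.mul_mem_left _ l.2)
      · have : (c : A) * (s : A) * g * q = (c : A) * (s : A) * (g * q) := by ring
        rw [this]
        exact L.mul_mem_left _ (hgT q hq)

include p in
/-- If `Q` is finitely generated and `Q A_p ≤ L A_p` then `Q S ≤ L S` for every `A`-algebra `S`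
in which a suitable `g ∉ p` becomes a unit. -/
theorem exists_notMem_forall_map_le {Q L : Ideal A} (hQ : Q.FG)
    (h : Q.map (algebraMap A Ap) ≤ L.map (algebraMap A Ap)) :
    ∃ g : A, g ∉ p ∧ ∀ (S : Type v) [CommRing S] [Algebra A S], IsUnit (algebraMap A S g) →
      Q.map (algebraMap A S) ≤ L.map (algebraMap A S) := by
  obtain ⟨T, hT⟩ := hQ
  obtain ⟨g, hg, hgT⟩ := exists_notMem_forall_mul_mem p Ap L T fun q hq =>
    h (Ideal.mem_map_of_mem _ (hT ▸ Ideal.subset_span hq))
  refine ⟨g, hg, fun S _ _ hu => ?_⟩
  rw [← hT, Ideal.map_span, Ideal.span_le]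
  rintro _ ⟨q, hq, rfl⟩
  have h1 : algebraMap A S g * algebraMap A S q ∈ L.map (algebraMap A S) := by
    rw [← map_mul]
    exact Ideal.mem_map_of_mem _ (hgT q hq)
  exact (Ideal.unit_mul_mem_iff_mem _ hu).mp h1

include p in
/-- Spreading out of (weak) regularity from `A_p` to localizations in which a suitable `g ∉ p`
is invertible. -/
theorem exists_notMem_forall_regOn [IsNoetherianRing A] (as : List A) (L : Ideal A)
    (h : RegOn (L.map (algebraMap A Ap)) (as.map (algebraMap A Ap))) :
    ∃ g : A, g ∉ p ∧ ∀ (M : Submonoid A) (S : Type v) [CommRing S] [Algebra A S]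
      [IsLocalization M S], IsUnit (algebraMap A S g) →
      RegOn (L.map (algebraMap A S)) (as.map (algebraMap A S)) := by
  induction as generalizing L with
  | nil =>
    exact ⟨1, fun h1 => (Ideal.IsPrime.ne_top ‹_›) ((Ideal.eq_top_iff_one p).mpr h1),
      fun _ _ _ _ _ _ => trivial⟩
  | cons a as ih =>
    rw [List.map_cons, regOn_cons] at h
    obtain ⟨h0, h1⟩ := h
    rw [map_sup_span_singleton] at h1
    obtain ⟨g₂, hg₂, H₂⟩ := ih _ h1
    have hQ : (colonElt L a).map (algebraMap A Ap) ≤ L.map (algebraMap A Ap) := by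
      rw [Ideal.map_le_iff_le_comap]
      intro x hx
      rw [Ideal.mem_comap]
      apply h0
      rw [← map_mul]
      exact Ideal.mem_map_of_mem _ hx
    obtain ⟨g₁, hg₁, H₁⟩ := exists_notMem_forall_map_le.{u, v} p Ap
      (IsNoetherian.noetherian (colonElt L a)) hQ
    refine ⟨g₁ * g₂, fun hmem => (Ideal.IsPrime.mem_or_mem ‹_› hmem).elim hg₁ hg₂, ?_⟩
    intro M S _ _ _ hu
    rw [map_mul] at hu
    have hu₁ : IsUnit (algebraMap A S g₁) := isUnit_of_mul_isUnit_left hu
    have hu₂ : IsUnit (algebraMap A S g₂) := isUnit_of_mul_isUnit_right hu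
    rw [List.map_cons, regOn_cons, map_sup_span_singleton]
    refine ⟨fun c hc => ?_, H₂ M S hu₂⟩
    obtain ⟨⟨x, s⟩, hxs⟩ := IsLocalization.surj M c
    have hs : IsUnit (algebraMap A S s) := IsLocalization.map_units S s
    have h2 : algebraMap A S (x * a) ∈ L.map (algebraMap A S) := by
      have : algebraMap A S (x * a) = (c * algebraMap A S a) * algebraMap A S s := by
        rw [map_mul, ← hxs]; ring
      rw [this]
      exact Ideal.mul_mem_right _ _ hc
    rw [IsLocalization.mem_map_algebraMap_iff M S] at h2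
    obtain ⟨⟨l, t⟩, hlt⟩ := h2
    rw [← map_mul, IsLocalization.eq_iff_exists M S] at hlt
    obtain ⟨w, hw⟩ := hlt
    have h3 : (w : A) * (t : A) * x ∈ colonElt L a := by
      rw [mem_colonElt]
      have : (w : A) * (t : A) * x * a = (w : A) * (x * a * (t : A)) := by ring
      rw [this, hw]
      exact L.mul_mem_left _ l.2
    have h4 : algebraMap A S ((w : A) * (t : A) * x) ∈ L.map (algebraMap A S) :=
      H₁ S hu₁ (Ideal.mem_map_of_mem _ h3)
    rw [map_mul, map_mul] at h4
    have hw' : IsUnit (algebraMap A S w) := IsLocalization.map_units S w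
    have ht' : IsUnit (algebraMap A S t) := IsLocalization.map_units S t
    have h5 : algebraMap A S x ∈ L.map (algebraMap A S) :=
      (Ideal.unit_mul_mem_iff_mem _ (hw'.mul ht')).mp h4
    rw [← hxs] at h5
    exact (Ideal.mul_unit_mem_iff_mem _ hs).mp h5

end Localization

end Groth.Agent.Lib.Helper5.RegSeq
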