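import Groth.Agent.Lib.Helper5RLR
import Groth.Agent.Lib.Helper5RegSeq

/-!
# Regular sequences and surjections of (regular) local rings (helper5)
-/

set_option autoImplicit false
set_option linter.style.haveILetI false
universe u

open IsLocalRing RingTheory.Sequence

namespace Groth.Agent.Lib.Helper5.RegImmAlg

open Groth.Agent.Lib.Helper5 Groth.Agent.Lib.Helper5.RegSeq

theorem ofList_ofFn {A : Type*} [CommRing A] (n : ℕ) (y : Fin n → A) :
    Ideal.ofList (List.ofFn y) = Ideal.span (Set.range y) := by
  rw [Ideal.ofList]
  congr 1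
  ext a
  exact List.mem_ofFn' y a

/-- If `A → B` is a surjection of Noetherian local rings with `B` regular whose kernel is generated
by a regular sequence then `A` is regular. -/
theorem isRegularLocalRing_of_surjective_of_ker_regular {A B : Type u} [CommRing A] [IsLocalRing A]
    [IsNoetherianRing A] [CommRing B] [IsRegularLocalRing B] (π : A →+* B)
    (hπ : Function.Surjective π) (rs : List A) (hreg : IsRegular A rs)
    (hker : RingHom.ker π = Ideal.ofList rs) : IsRegularLocalRing A := by
  have hne : RingHom.ker π ≠ ⊤ := RingHom.ker_ne_top π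
  have hle : RingHom.ker π ≤ maximalIdeal A := IsLocalRing.le_maximalIdeal hne
  haveI : IsRegularLocalRing (A ⧸ RingHom.ker π) :=
    IsRegularLocalRing.of_ringEquiv (RingHom.quotientKerEquivOfSurjective hπ).symm
  have hmem : ∀ i : Fin rs.length, rs[i] ∈ maximalIdeal A := fun i =>
    hle (hker ▸ Ideal.subset_span (List.getElem_mem i.2))
  have hJ : RingHom.ker π = Ideal.span (Set.range fun i : Fin rs.length =>
      ((⟨rs[i], hmem i⟩ : maximalIdeal A) : A)) := by
    rw [hker, Ideal.ofList]
    congr 1
    ext a
    constructor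
    · intro h
      obtain ⟨i, hi, rfl⟩ := List.getElem_of_mem h
      exact ⟨⟨i, hi⟩, rfl⟩
    · rintro ⟨i, rfl⟩
      exact List.getElem_mem i.2
  have hdim := ringKrullDim_add_length_eq_ringKrullDim_of_isRegular rs hreg
  rw [← hker] at hdim
  exact (isRegularLocalRing_of_quotient_span_range' (fun i => ⟨rs[i], hmem i⟩) _ hJ hdim).1

/-- The kernel of a surjection of regular local rings is generated by a regular sequence. -/
theorem exists_regular_ker_of_surjective {A B : Type u} [CommRing A] [IsRegularLocalRing A]
    [CommRing B] [IsRegularLocalRing B] (π : A →+* B) (hπ : Function.Surjective π) :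
    ∃ rs : List A, IsRegular A rs ∧ RingHom.ker π = Ideal.ofList rs := by
  obtain ⟨d, hd⟩ := exists_nat_ringKrullDim_eq A
  haveI : IsRegularLocalRing (A ⧸ RingHom.ker π) :=
    IsRegularLocalRing.of_ringEquiv (RingHom.quotientKerEquivOfSurjective hπ).symm
  obtain ⟨x, c, hc, hx, hI⟩ := exists_regular_system_of_parameters_of_quotient hd (RingHom.ker π)
  have hreg := isRegular_ofFn_of_span_eq_maximalIdeal hd x hx
  have htake : List.ofFn (fun i : Fin c => x (Fin.castLE hc i)) = (List.ofFn x).take c :=
    Fin.ofFn_take_eq_take_ofFn hc x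
  have hk : RingHom.ker π = Ideal.ofList (List.ofFn fun i : Fin c => x (Fin.castLE hc i)) := by
    rw [ofList_ofFn]
    exact hI
  refine ⟨_, ⟨?_, ?_⟩, hk⟩
  · rw [htake]
    have h1 := hreg.toIsWeaklyRegular
    rw [← List.take_append_drop c (List.ofFn x), isWeaklyRegular_append_iff] at h1
    exact h1.1
  · rw [smul_eq_mul, Ideal.mul_top, ← hk]
    exact (RingHom.ker_ne_top π).symm

end Groth.Agent.Lib.Helper5.RegImmAlg
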