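import Groth.Agent.Lib.Helper7KL
import Mathlib.RingTheory.Localization.Away.Basic
import Mathlib.RingTheory.Localization.Ideal
import Mathlib.RingTheory.Ideal.Maximal
import Mathlib.RingTheory.Spectrum.Prime.Topology
import Mathlib.RingTheory.Spectrum.Maximal.Basic
import Mathlib.RingTheory.Ideal.MinimalPrime.Noetherian
import Mathlib.RingTheory.Ideal.Height
import Mathlib.RingTheory.Jacobson.Ring
import Mathlib.RingTheory.Localization.Integral
import Mathlib.RingTheory.Algebraic.Integral
import Mathlib.RingTheory.FiniteType

namespace Groth.Agent.Lib.Helper7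

/-- In a domain, finitely many nonzero ideals contain a common nonzero element. -/
lemma exists_ne_zero_mem_of_finite {B : Type*} [CommRing B] [IsDomain B] (S : Set (Ideal B))
    (hS : S.Finite) (hne : ∀ p ∈ S, p ≠ ⊥) : ∃ f : B, f ≠ 0 ∧ ∀ p ∈ S, f ∈ p := by
  induction S, hS using Set.Finite.induction_on with
  | empty => exact ⟨1, one_ne_zero, fun p hp => (Set.notMem_empty p hp).elim⟩
  | @insert a T ha hT ih =>
    obtain ⟨f, hf, hfT⟩ := ih (fun p hp => hne p (Set.mem_insert_of_mem a hp))
    obtain ⟨x, hxa, hx0⟩ := Submodule.exists_mem_ne_zero_of_ne_bot (hne a (Set.mem_insert a T))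
    refine ⟨f * x, mul_ne_zero hf hx0, fun p hp => ?_⟩
    rcases Set.mem_insert_iff.mp hp with rfl | hp
    · exact Ideal.mul_mem_left _ _ hxa
    · exact Ideal.mul_mem_right _ _ (hfT p hp)

/-- For a domain `B` and `f ≠ 0`: `B_f` is a field iff `f` lies in every nonzero prime. -/
lemma isField_away_iff {B : Type*} [CommRing B] [IsDomain B] (f : B) (hf : f ≠ 0) :
    IsField (Localization.Away f) ↔ ∀ p : Ideal B, p.IsPrime → p ≠ ⊥ → f ∈ p := by
  have hle : Submonoid.powers f ≤ nonZeroDivisors B :=
    Submonoid.powers_le.mpr (mem_nonZeroDivisors_of_ne_zero hf)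
  have hinj : Function.Injective (algebraMap B (Localization.Away f)) :=
    IsLocalization.injective _ hle
  have : IsDomain (Localization.Away f) :=
    IsLocalization.isDomain_of_le_nonZeroDivisors (Localization.Away f) hle
  constructor
  · intro hfield p hp hp0
    by_contra hfp
    have hdisj : Disjoint (Submonoid.powers f : Set B) (p : Set B) := by
      rw [Set.disjoint_left]
      rintro _ ⟨n, rfl⟩ hn
      exact hfp (hp.mem_of_pow_mem n hn)
    have hprime := IsLocalization.isPrime_of_isPrime_disjoint (Submonoid.powers f)
      (Localization.Away f) p hp hdisj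
    have hcomap := IsLocalization.under_map_of_isPrime_disjoint (Submonoid.powers f)
      (Localization.Away f) hp hdisj
    let _ := hfield.toField
    have hbot : Ideal.map (algebraMap B (Localization.Away f)) p = ⊥ :=
      (Ideal.eq_bot_or_top _).resolve_right hprime.ne_top
    apply hp0
    rw [← hcomap, hbot]
    ext x
    simp only [Ideal.under, Ideal.mem_comap, Ideal.mem_bot]
    exact (map_eq_zero_iff _ hinj)
  · intro h
    by_contra hnf
    obtain ⟨P, hP0, hP⟩ := Ring.not_isField_iff_exists_prime.mp hnf
    have hp : (P.comap (algebraMap B (Localization.Away f))).IsPrime := Ideal.comap_isPrime _ _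
    have hmap := IsLocalization.map_under (Submonoid.powers f) (Localization.Away f) P
    have hp0 : P.comap (algebraMap B (Localization.Away f)) ≠ ⊥ := by
      intro h0
      apply hP0
      rw [← hmap]
      change Ideal.map _ (P.comap (algebraMap B (Localization.Away f))) = ⊥
      rw [h0, Ideal.map_bot]
    have hf' := h _ hp hp0
    rw [Ideal.mem_comap] at hf'
    exact hP.ne_top (Ideal.eq_top_of_isUnit_mem _ hf'
      (IsLocalization.map_units (Localization.Away f) ⟨f, Submonoid.mem_powers f⟩))

/-- If a field `K` is a finitely generated algebra over a domain `B ⊆ K`, then some `B_f`, `f ≠ 0`,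
is a field. -/
lemma exists_isField_away_of_finiteType_field {B : Type*} [CommRing B] [IsDomain B]
    (K : Type*) [Field K] [Algebra B K] (hinj : Function.Injective (algebraMap B K))
    [hft : Algebra.FiniteType B K] : ∃ f : B, f ≠ 0 ∧ IsField (Localization.Away f) := by
  classical
  let L := FractionRing B
  letI : Algebra L K := (IsFractionRing.lift hinj).toAlgebra
  haveI : IsScalarTower B L K := IsScalarTower.of_algebraMap_eq
    (fun x => (IsFractionRing.lift_algebraMap hinj x).symm)
  haveI : Algebra.FiniteType L K := Algebra.FiniteType.of_restrictScalars_finiteType B L K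
  haveI : Module.Finite L K := finite_of_finite_type_of_isJacobsonRing L K
  haveI : Algebra.IsAlgebraic L K := Algebra.IsAlgebraic.of_finite L K
  haveI : Algebra.IsAlgebraic B K :=
    (IsFractionRing.comap_isAlgebraic_iff (A := B) (K := L) (C := K)).mpr inferInstance
  obtain ⟨s, hs⟩ := hft.out
  have hy : ∀ x : K, ∃ y : B, y ≠ 0 ∧ IsIntegral B (y • x) := fun x =>
    (Algebra.IsAlgebraic.isAlgebraic x).exists_integral_multiple
  choose y hy0 hyint using hy
  let f : B := ∏ x ∈ s, y x
  have hf : f ≠ 0 := Finset.prod_ne_zero_iff.mpr (fun x _ => hy0 x)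
  refine ⟨f, hf, ?_⟩
  have hfu : IsUnit (algebraMap B K f) := IsUnit.mk0 _ ((map_ne_zero_iff _ hinj).mpr hf)
  let φ : Localization.Away f →+* K := IsLocalization.Away.lift f hfu
  letI : Algebra (Localization.Away f) K := φ.toAlgebra
  haveI : IsScalarTower B (Localization.Away f) K := IsScalarTower.of_algebraMap_eq
    (fun x => (IsLocalization.Away.lift_eq f hfu x).symm)
  have hle : Submonoid.powers f ≤ nonZeroDivisors B :=
    Submonoid.powers_le.mpr (mem_nonZeroDivisors_of_ne_zero hf)
  have hφinj : Function.Injective (algebraMap (Localization.Away f) K) := by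
    change Function.Injective (IsLocalization.lift (M := Submonoid.powers f) _)
    rw [IsLocalization.lift_injective_iff]
    intro a b
    rw [(IsLocalization.injective (Localization.Away f) hle).eq_iff, hinj.eq_iff]
  -- integrality
  have hsint : ∀ x ∈ s, IsIntegral (Localization.Away f) x := by
    intro x hx
    have h1 : IsIntegral B (f • x) := by
      have : f = (∏ x' ∈ s.erase x, y x') * y x := (Finset.prod_erase_mul s y hx).symm
      rw [this, mul_smul]
      exact (hyint x).smul _
    have h2 : IsIntegral (Localization.Away f) (f • x) := h1.tower_top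
    have h3 : x = algebraMap (Localization.Away f) K (IsLocalization.Away.invSelf f) * (f • x) := by
      rw [Algebra.smul_def, ← mul_assoc, IsScalarTower.algebraMap_apply B (Localization.Away f) K,
        ← map_mul, mul_comm (IsLocalization.Away.invSelf f), IsLocalization.Away.mul_invSelf,
        map_one, one_mul]
    rw [h3]
    exact isIntegral_algebraMap.mul h2
  have hint : Algebra.IsIntegral (Localization.Away f) K := by
    have htop : (integralClosure (Localization.Away f) K).restrictScalars B = ⊤ := by
      rw [eq_top_iff, ← hs]
      exact Algebra.adjoin_le (fun x hx => hsint x hx)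
    refine ⟨fun x => ?_⟩
    have : x ∈ (integralClosure (Localization.Away f) K).restrictScalars B := htop ▸ Algebra.mem_top
    exact this
  exact isField_of_isIntegral_of_isField hφinj (Field.toIsField K)

end Groth.Agent.Lib.Helper7
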