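import Mathlib
import Groth.Agent.S4860
import Groth.Agent.S4861

set_option autoImplicit false
universe u
open CategoryTheory AlgebraicGeometry TopologicalSpace

namespace Groth.Agent.Lib.Helper10.NoethIrr

section ring

lemma isHomeomorph_comap_mk_nilradical (B : Type u) [CommRing B] :
    IsHomeomorph (PrimeSpectrum.comap (Ideal.Quotient.mk (nilradical B))) := by
  apply PrimeSpectrum.isHomeomorph_comap
  · intro x
    obtain ⟨y, rfl⟩ := Ideal.Quotient.mk_surjective x
    exact ⟨1, one_pos, y, by simp⟩
  · rw [Ideal.mk_ker]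

variable (B : Type u) [CommRing B] [IsNoetherianRing B] [IrreducibleSpace (PrimeSpectrum B)]

omit [IsNoetherianRing B] in
instance : IsDomain (B ⧸ nilradical B) := by
  have := PrimeSpectrum.irreducibleSpace_iff_isPrime_nilradical.mp
    (inferInstance : IrreducibleSpace (PrimeSpectrum B))
  exact Ideal.Quotient.isDomain _

lemma finite_of_isOpen_singleton (p : PrimeSpectrum B) (hp : IsOpen ({p} : Set (PrimeSpectrum B))) :
    Finite (PrimeSpectrum B) := by
  have hc := isHomeomorph_comap_mk_nilradical B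
  set c := PrimeSpectrum.comap (Ideal.Quotient.mk (nilradical B)) with hcdef
  obtain ⟨q, rfl⟩ := hc.surjective p
  have hq : IsOpen ({q} : Set (PrimeSpectrum (B ⧸ nilradical B))) := by
    have : ({q} : Set _) = c ⁻¹' {c q} := by
      ext x; simp [hc.injective.eq_iff]
    rw [this]; exact hp.preimage hc.continuous
  -- `q = ⊥`
  have hq0 : q = ⟨⊥, Ideal.isPrime_bot⟩ := by
    have hdense : Dense ({q} : Set (PrimeSpectrum (B ⧸ nilradical B))) :=
      hq.dense (Set.singleton_nonempty q)
    have hmem : (⟨⊥, Ideal.isPrime_bot⟩ : PrimeSpectrum (B ⧸ nilradical B)) ∈ closure {q} :=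
      hdense _
    rw [PrimeSpectrum.closure_singleton, PrimeSpectrum.mem_zeroLocus] at hmem
    exact PrimeSpectrum.ext (le_bot_iff.mp hmem)
  rw [hq0] at hq
  have h1 := ((Groth.Agent.S4860.result (B ⧸ nilradical B)).out 3 0).mp hq
  have h2 : Finite (PrimeSpectrum (B ⧸ nilradical B)) :=
    ((Groth.Agent.S4861.result (B ⧸ nilradical B)).out 0 1).mp h1
  exact Finite.of_surjective c hc.surjective

lemma ringKrullDim_le_one_of_finite [Finite (PrimeSpectrum B)] : ringKrullDim B ≤ 1 := by
  have hc := isHomeomorph_comap_mk_nilradical B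
  have h2 : Finite (PrimeSpectrum (B ⧸ nilradical B)) :=
    Finite.of_injective _ hc.injective
  have h3' : Finite (MaximalSpectrum (B ⧸ nilradical B)) ∧ ringKrullDim (B ⧸ nilradical B) ≤ 1 :=
    ((Groth.Agent.S4861.result (B ⧸ nilradical B)).out 1 2).mp h2
  have h3 := h3'.2
  rw [← PrimeSpectrum.topologicalKrullDim_eq_ringKrullDim] at h3 ⊢
  rw [← IsHomeomorph.topologicalKrullDim_eq _ hc]
  exact h3

end ring

end Groth.Agent.Lib.Helper10.NoethIrr
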