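import Mathlib
import Groth.Agent.Lib.Helper10NoethIrr
import Groth.Agent.Lib.Helper7TopDim

set_option autoImplicit false
universe u
open CategoryTheory AlgebraicGeometry TopologicalSpace

namespace Groth.Agent.Lib.Helper10.NoethIrr

/-- In a finite irreducible T0 space the generic point is open. -/
lemma isOpen_genericPoint_of_finite (α : Type*) [TopologicalSpace α] [Finite α] [T0Space α]
    [IrreducibleSpace α] [QuasiSober α] : IsOpen ({genericPoint α} : Set α) := by
  rw [← isClosed_compl_iff]
  have hfin : {x : α | x ≠ genericPoint α}.Finite := Set.toFinite _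
  have hcl : IsClosed (⋃ x ∈ {x : α | x ≠ genericPoint α}, closure ({x} : Set α)) :=
    hfin.isClosed_biUnion fun _ _ => isClosed_closure
  convert hcl using 1
  ext y
  simp only [Set.mem_compl_iff, Set.mem_singleton_iff, Set.mem_iUnion, Set.mem_ofPred_eq,
    exists_prop]
  constructor
  · intro hy
    exact ⟨y, hy, subset_closure rfl⟩
  · rintro ⟨x, hx, hyx⟩ rfl
    apply hx
    have h1 : x ⤳ genericPoint α := specializes_iff_mem_closure.mpr hyx
    have h2 : genericPoint α ⤳ x := genericPoint_specializes x
    exact (h1.antisymm h2).eq

/-- In an irreducible T0 quasi-sober space of dimension `≤ 1`, every point other than the generic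
point is closed. -/
lemma isClosed_singleton_of_dim_le_one (α : Type*) [TopologicalSpace α] [T0Space α]
    [IrreducibleSpace α] [QuasiSober α] (h : topologicalKrullDim α ≤ 1) (x : α)
    (hx : x ≠ genericPoint α) : IsClosed ({x} : Set α) := by
  have hcl : closure ({x} : Set α) = {x} := by
    apply Set.Subset.antisymm _ subset_closure
    intro y hy
    by_contra hyx
    have hyx' : y ≠ x := hyx
    let a : IrreducibleCloseds α := Groth.Agent.Lib.Helper7.TopDim.closurePt y
    let b : IrreducibleCloseds α := Groth.Agent.Lib.Helper7.TopDim.closurePt x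
    let c : IrreducibleCloseds α := ⟨Set.univ, IrreducibleSpace.isIrreducible_univ α, isClosed_univ⟩
    have hab : a < b := by
      rw [lt_iff_le_and_ne]
      refine ⟨fun z hz => closure_minimal (Set.singleton_subset_iff.mpr hy) isClosed_closure hz,
        fun hab => hyx' ?_⟩
      have hxy : x ∈ closure ({y} : Set α) := by
        have : (b : Set α) = a := congrArg (fun t : IrreducibleCloseds α => (t : Set α)) hab.symm
        have hxb : x ∈ (b : Set α) := subset_closure rfl
        rw [this] at hxb
        exact hxb
      exact ((specializes_iff_mem_closure.mpr hxy).antisymm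
        (specializes_iff_mem_closure.mpr hy)).eq
    have hbc : b < c := by
      rw [lt_iff_le_and_ne]
      refine ⟨fun z _ => Set.mem_univ z, fun hbc => hx ?_⟩
      have hb : closure ({x} : Set α) = Set.univ :=
        congrArg (fun t : IrreducibleCloseds α => (t : Set α)) hbc
      have hgen : IsGenericPoint x (⊤ : Set α) := hb
      exact hgen.eq (genericPoint_spec α)
    let p : LTSeries (IrreducibleCloseds α) :=
      LTSeries.mk 2 ![a, b, c] (by
        intro i j hij
        fin_cases i <;> fin_cases j <;> simp_all [hab.trans hbc])
    have hp : ((2 : ℕ) : WithBot ℕ∞) ≤ topologicalKrullDim α :=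
      Order.LTSeries.length_le_krullDim p
    have : ((2 : ℕ) : WithBot ℕ∞) ≤ 1 := hp.trans h
    exact absurd this (by decide)
  rw [← hcl]; exact isClosed_closure

/-- sections on a nonempty affine open of an irreducible scheme have irreducible spectrum -/
lemma irreducibleSpace_primeSpectrum {X : Scheme.{u}} [IrreducibleSpace X] (U : X.affineOpens)
    (hne : (U.1 : Set X).Nonempty) : IrreducibleSpace (PrimeSpectrum Γ(X, U.1)) := by
  have : Nonempty U.1.toScheme := hne.to_subtype
  have h1 : IrreducibleSpace U.1.toScheme := U.1.ι.isOpenEmbedding.irreducibleSpace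
  exact U.2.isoSpec.inv.homeomorph.isOpenEmbedding.irreducibleSpace

lemma finite_affineOpen_iff {X : Scheme.{u}} (U : X.affineOpens) :
    (U.1 : Set X).Finite ↔ Finite (PrimeSpectrum Γ(X, U.1)) := by
  let e : U.1.toScheme ≃ₜ Spec Γ(X, U.1) := U.2.isoSpec.hom.homeomorph
  constructor
  · intro h
    have : Finite U.1.toScheme := h.to_subtype
    exact Finite.of_injective e.symm e.symm.injective
  · intro h
    have h' : Finite (Spec Γ(X, U.1)) := h
    have : Finite U.1.toScheme := Finite.of_injective e e.injective
    rw [← Scheme.Opens.range_ι]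
    exact Set.finite_range _

theorem main (X : Scheme.{u}) [IsNoetherian X] [IrreducibleSpace X] :
    [IsOpen ({genericPoint X} : Set X),
      Finite X,
      topologicalKrullDim X ≤ 1 ∧ {x : X | IsClosed ({x} : Set X)}.Finite].TFAE := by
  have hNoeth : ∀ U : X.affineOpens, IsNoetherianRing Γ(X, U.1) := fun U =>
    IsLocallyNoetherian.component_noetherian U
  tfae_have 1 → 2 := by
    intro hopen
    -- every affine open is finite
    have hU : ∀ U : X.affineOpens, (U.1 : Set X).Finite := by
      intro U
      rcases (U.1 : Set X).eq_empty_or_nonempty with hemp | hne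
      · rw [hemp]; exact Set.finite_empty
      have := hNoeth U
      have := irreducibleSpace_primeSpectrum U hne
      have hη : genericPoint X ∈ (U.1 : Set X) :=
        ((genericPoint_spec X).mem_open_set_iff U.1.2).mpr (by simpa using hne)
      let e : U.1.toScheme ≃ₜ Spec Γ(X, U.1) := U.2.isoSpec.hom.homeomorph
      let η' : U.1.toScheme := ⟨genericPoint X, hη⟩
      have hp : IsOpen ({e η'} : Set (PrimeSpectrum Γ(X, U.1))) := by
        have h1 : IsOpen ({η'} : Set U.1.toScheme) := by
          have : ({η'} : Set U.1.toScheme) = U.1.ι ⁻¹' {genericPoint X} := by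
            ext z
            constructor
            · rintro rfl; rfl
            · intro hz
              exact U.1.ι.isOpenEmbedding.injective hz
          rw [this]; exact hopen.preimage U.1.ι.continuous
        have h2 := e.isOpenMap _ h1
        have h3 : e '' {η'} = {e η'} := Set.image_singleton
        rw [h3] at h2
        exact h2
      have hfin : Finite (PrimeSpectrum Γ(X, U.1)) :=
        finite_of_isOpen_singleton Γ(X, U.1) _ hp
      exact (finite_affineOpen_iff U).mpr hfin
    obtain ⟨s, hs⟩ := isCompact_univ.elim_finite_subcover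
      (fun U : X.affineOpens => (U.1 : Set X)) (fun U => U.1.2)
      (by
        intro x _
        have : x ∈ (⨆ U : X.affineOpens, (U : X.Opens)) := by
          rw [iSup_affineOpens_eq_top]; trivial
        obtain ⟨U, hU'⟩ := Opens.mem_iSup.mp this
        exact Set.mem_iUnion.mpr ⟨U, hU'⟩)
    have : (Set.univ : Set X).Finite :=
      (s.finite_toSet.biUnion fun U _ => hU U).subset hs
    exact Set.finite_univ_iff.mp this
  tfae_have 2 → 1 := by
    intro hfin
    exact isOpen_genericPoint_of_finite X
  tfae_have 2 → 3 := by
    intro hfin
    refine ⟨?_, Set.toFinite _⟩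
    rw [Groth.Agent.Lib.Helper7.TopDim.topologicalKrullDim_eq_iSup_of_open_cover
      (fun U : X.affineOpens => (U : X.Opens)) (iSup_affineOpens_eq_top X)]
    refine iSup_le fun U => ?_
    change topologicalKrullDim U.1.toScheme ≤ 1
    rcases (U.1 : Set X).eq_empty_or_nonempty with hemp | hne
    · have hE : IsEmpty U.1.toScheme := by
        rw [← Set.isEmpty_coe_sort] at hemp
        exact hemp
      have : IsEmpty (IrreducibleCloseds U.1.toScheme) :=
        ⟨fun Z => hE.elim Z.isIrreducible.nonempty.some⟩
      unfold topologicalKrullDim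
      rw [Order.krullDim_eq_bot]
      exact bot_le
    have := hNoeth U
    have := irreducibleSpace_primeSpectrum U hne
    let e : U.1.toScheme ≃ₜ Spec Γ(X, U.1) := U.2.isoSpec.hom.homeomorph
    have hfin' : Finite (PrimeSpectrum Γ(X, U.1)) :=
      (finite_affineOpen_iff U).mp (Set.toFinite _)
    have h1 := ringKrullDim_le_one_of_finite Γ(X, U.1)
    rw [← PrimeSpectrum.topologicalKrullDim_eq_ringKrullDim] at h1
    rw [IsHomeomorph.topologicalKrullDim_eq _ e.isHomeomorph]
    exact h1
  tfae_have 3 → 2 := by
    rintro ⟨hdim, hfin⟩
    have : (Set.univ : Set X) ⊆ insert (genericPoint X) {x : X | IsClosed ({x} : Set X)} := by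
      intro x _
      by_cases hx : x = genericPoint X
      · exact Set.mem_insert_iff.mpr (Or.inl hx)
      · exact Set.mem_insert_iff.mpr (Or.inr (isClosed_singleton_of_dim_le_one X hdim x hx))
    exact Set.finite_univ_iff.mp ((hfin.insert _).subset this)
  tfae_finish

end Groth.Agent.Lib.Helper10.NoethIrr
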