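import Mathlib
import Groth.Prelude.Def_Models

/-!
# Numerical types: the diagonal entries are negative multiples of `w i` when `n > 1`
-/

set_option autoImplicit false
open Finset

namespace Groth.Agent.Lib.Helper10

open Models Models.NumericalType

/-- For `n > 1`, `a i i = - k * w i` with `k ≥ 1`. -/
theorem NumericalType.diag_eq {n : ℕ} (T : Models.NumericalType n) (hn : 1 < n) (i : Fin n) :
    ∃ k : ℤ, 1 ≤ k ∧ T.a i i = -(k * T.w i) := by
  classical
  -- a_ii m_i = - Σ_{j ≠ i} a_ij m_j
  have hmul : ∑ j, T.a i j * T.m j = 0 := by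
    have := congrFun T.mulVec_m i
    simpa [Matrix.mulVec, dotProduct] using this
  have hsplit : T.a i i * T.m i + ∑ j ∈ univ.erase i, T.a i j * T.m j = 0 := by
    rw [← hmul, ← Finset.add_sum_erase _ _ (Finset.mem_univ i)]
  have hnonneg : ∀ j ∈ univ.erase i, 0 ≤ T.a i j * T.m j := by
    intro j hj
    have hji : j ≠ i := (Finset.mem_erase.1 hj).1
    exact mul_nonneg (T.offDiag_nonneg i j hji.symm) (T.m_pos j).le
  -- connectedness gives a positive term
  have hne : ({i} : Finset (Fin n)) ≠ univ := by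
    intro h
    have : (univ : Finset (Fin n)).card = 1 := by rw [← h]; simp
    simp at this
    omega
  obtain ⟨i', hi', j, hj, hij⟩ := T.connected {i} ⟨i, Finset.mem_singleton_self i⟩ hne
  have hi'eq : i' = i := Finset.mem_singleton.1 hi'
  subst hi'eq
  have hji : j ≠ i' := fun h => hj (by rw [h]; exact Finset.mem_singleton_self _)
  have hpos : 0 < T.a i' j * T.m j :=
    mul_pos (lt_of_le_of_ne (T.offDiag_nonneg i' j hji.symm) (Ne.symm hij)) (T.m_pos j)
  have hsumpos : 0 < ∑ j ∈ univ.erase i', T.a i' j * T.m j :=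
    Finset.sum_pos' hnonneg ⟨j, Finset.mem_erase.2 ⟨hji, Finset.mem_univ j⟩, hpos⟩
  have hneg : T.a i' i' * T.m i' < 0 := by linarith
  have hneg' : T.a i' i' < 0 := by
    by_contra hcon
    push_neg at hcon
    have := mul_nonneg hcon (T.m_pos i').le
    linarith
  obtain ⟨c, hc⟩ := T.w_dvd i' i'
  refine ⟨-c, ?_, by rw [hc]; ring⟩
  have hw := T.w_pos i'
  by_contra hcon
  push_neg at hcon
  have hc0 : 0 ≤ c := by omega
  have := mul_nonneg hw.le hc0
  rw [← hc] at this
  linarith

end Groth.Agent.Lib.Helper10
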