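import Mathlib
import Groth.Agent.Lib.Helper10Spectral
import Groth.Agent.Lib.Helper10ConnComp

/-!
# Connected components of spectral spaces, fibre products with profinite sets (helper10)
-/

set_option autoImplicit false
open Topology TopologicalSpace Set

namespace Groth.Agent.Lib.Helper10.Pi0

open Groth.Agent.Lib.Helper10.Spectral Groth.Agent.Lib.Helper10.ConnComp

universe u

variable {X : Type u} [TopologicalSpace X]

/-- `π₀` of a quasi-compact quasi-separated prespectral space is Hausdorff. -/
theorem t2Space_connectedComponents [CompactSpace X] [PrespectralSpace X]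
    [QuasiSeparatedSpace X] : T2Space (ConnectedComponents X) := by
  refine ⟨ConnectedComponents.surjective_coe.forall₂.2 fun a b ne => ?_⟩
  rw [ConnectedComponents.coe_ne_coe] at ne
  -- a ∉ connectedComponent b = ⋂ clopens containing b
  have ha : a ∉ connectedComponent b := by
    intro h
    exact ne (connectedComponent_eq h).symm
  rw [connectedComponent_eq_sInter_isClopen b] at ha
  simp only [Set.mem_sInter, Set.mem_ofPred_eq, not_forall] at ha
  obtain ⟨U, ⟨hU, hbU⟩, haU⟩ := ha
  -- U is saturated
  have hsat : ((↑) : X → ConnectedComponents X) ⁻¹' ((↑) '' U) = U := by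
    rw [connectedComponents_preimage_image]
    exact hU.biUnion_connectedComponent_eq
  have hV : IsClopen (((↑) : X → ConnectedComponents X) '' U) := by
    rw [← ConnectedComponents.isQuotientMap_coe.isClopen_preimage, hsat]
    exact hU
  refine ⟨(((↑) : X → ConnectedComponents X) '' U)ᶜ, ((↑) : X → ConnectedComponents X) '' U,
    hV.compl.isOpen, hV.isOpen, ?_, ⟨b, hbU, rfl⟩, disjoint_compl_left⟩
  intro h
  have : a ∈ ((↑) : X → ConnectedComponents X) ⁻¹' ((↑) '' U) := h
  rw [hsat] at this
  exact haU this

/-- A profinite space is spectral. -/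
theorem spectralSpace_of_profinite (T : Type u) [TopologicalSpace T] [CompactSpace T] [T2Space T]
    [TotallyDisconnectedSpace T] : SpectralSpace T := by
  have h : PrespectralSpace T :=
    PrespectralSpace.of_isTopologicalBasis isTopologicalBasis_isClopen
      (fun U hU => hU.1.isCompact)
  exact { }

section FibreProduct

variable (X) (T : Type u) [SpectralSpace X] [TopologicalSpace T] [CompactSpace T] [T2Space T]
  [TotallyDisconnectedSpace T] (g : C(T, ConnectedComponents X))

theorem isClosed_fp : IsClosed {p : X × T | ConnectedComponents.mk p.1 = g p.2} := by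
  have : T2Space (ConnectedComponents X) := t2Space_connectedComponents
  exact isClosed_eq (ConnectedComponents.continuous_coe.comp continuous_fst)
    (g.continuous.comp continuous_snd)

/-- The fibre product `X ×_{π₀ X} T` is spectral. -/
theorem spectralSpace_fp :
    SpectralSpace {p : X × T // ConnectedComponents.mk p.1 = g p.2} := by
  have : SpectralSpace T := spectralSpace_of_profinite T
  have : SpectralSpace (X × T) := spectralSpace_prod
  exact spectralSpace_of_isClosed_constr (E := {p : X × T | ConnectedComponents.mk p.1 = g p.2})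
    (isClosed_constr_of_isClosed (isClosed_fp X T g))

/-- The inclusion of the fibre product into the product is spectral. -/
theorem isSpectralMap_fp_val :
    IsSpectralMap (Subtype.val : {p : X × T // ConnectedComponents.mk p.1 = g p.2} → X × T) := by
  have : SpectralSpace T := spectralSpace_of_profinite T
  have : SpectralSpace (X × T) := spectralSpace_prod
  exact isSpectralMap_subtype_val (E := {p : X × T | ConnectedComponents.mk p.1 = g p.2})
    (isClosed_constr_of_isClosed (isClosed_fp X T g))

/-- The fibres of the projection `X ×_{π₀ X} T → T` are connected. -/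
theorem fp_mk_eq_of_snd_eq (y₁ y₂ : {p : X × T // ConnectedComponents.mk p.1 = g p.2})
    (h : y₁.1.2 = y₂.1.2) :
    (ConnectedComponents.mk y₁ : ConnectedComponents _) = ConnectedComponents.mk y₂ := by
  obtain ⟨⟨x₁, t⟩, h₁⟩ := y₁
  obtain ⟨⟨x₂, t'⟩, h₂⟩ := y₂
  simp only at h
  subst h
  simp only at h₁ h₂
  -- both x₁ and x₂ lie in the connected component of x₁
  have hx₂ : x₂ ∈ connectedComponent x₁ := by
    rw [← ConnectedComponents.coe_eq_coe']
    exact h₂.trans h₁.symm
  let φ : connectedComponent x₁ → {p : X × T // ConnectedComponents.mk p.1 = g p.2} :=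
    fun x => ⟨(x.1, t), by
      have : (ConnectedComponents.mk x.1 : ConnectedComponents X) = ConnectedComponents.mk x₁ :=
        ConnectedComponents.coe_eq_coe'.mpr x.2
      exact this.trans h₁⟩
  have hφ : Continuous φ :=
    (continuous_subtype_val.prodMk continuous_const).subtype_mk _
  have : ConnectedSpace (connectedComponent x₁) :=
    isConnected_iff_connectedSpace.mp isConnected_connectedComponent
  have hpre : IsPreconnected (Set.range φ) := isPreconnected_range hφ
  have h1 : (⟨(x₁, t), h₁⟩ : {p : X × T // ConnectedComponents.mk p.1 = g p.2}) ∈ Set.range φ :=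
    ⟨⟨x₁, mem_connectedComponent⟩, rfl⟩
  have h2 : (⟨(x₂, t), h₂⟩ : {p : X × T // ConnectedComponents.mk p.1 = g p.2}) ∈ Set.range φ :=
    ⟨⟨x₂, hx₂⟩, rfl⟩
  have := hpre.subset_connectedComponent h1 h2
  exact (ConnectedComponents.coe_eq_coe'.mpr this).symm

/-- `π₀(X ×_{π₀ X} T) ≃ₜ T`. -/
theorem exists_homeomorph_fp :
    ∃ e : ConnectedComponents {p : X × T // ConnectedComponents.mk p.1 = g p.2} ≃ₜ T,
      ∀ y : {p : X × T // ConnectedComponents.mk p.1 = g p.2},
        e (ConnectedComponents.mk y) = y.1.2 := by
  have hsp := spectralSpace_fp X T g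
  let q : {p : X × T // ConnectedComponents.mk p.1 = g p.2} → T := fun y => y.1.2
  have hq : Continuous q := continuous_snd.comp continuous_subtype_val
  have hinj : Function.Injective hq.connectedComponentsLift := by
    intro a b hab
    obtain ⟨y₁, rfl⟩ := ConnectedComponents.surjective_coe a
    obtain ⟨y₂, rfl⟩ := ConnectedComponents.surjective_coe b
    rw [hq.connectedComponentsLift_apply_coe, hq.connectedComponentsLift_apply_coe] at hab
    exact fp_mk_eq_of_snd_eq X T g y₁ y₂ hab
  have hsurj : Function.Surjective hq.connectedComponentsLift := by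
    intro t
    obtain ⟨x, hx⟩ := ConnectedComponents.surjective_coe (g t)
    exact ⟨ConnectedComponents.mk ⟨(x, t), hx⟩, hq.connectedComponentsLift_apply_coe _⟩
  let e := Equiv.ofBijective _ ⟨hinj, hsurj⟩
  have hec : Continuous e := hq.connectedComponentsLift_continuous
  exact ⟨hec.homeoOfEquivCompactToT2, fun y => hq.connectedComponentsLift_apply_coe y⟩

omit [SpectralSpace X] in
theorem isClosed_singleton_iff_forall_specializes {Y : Type*} [TopologicalSpace Y] {y : Y} :
    IsClosed ({y} : Set Y) ↔ ∀ y', y ⤳ y' → y' = y := by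
  rw [← closure_subset_iff_isClosed]
  constructor
  · intro h y' hy'
    exact h hy'.mem_closure
  · intro h y' hy'
    exact h y' (specializes_iff_mem_closure.mpr hy')

omit [SpectralSpace X] in
theorem mk_eq_of_specializes {x x' : X} (h : x ⤳ x') :
    (ConnectedComponents.mk x' : ConnectedComponents X) = ConnectedComponents.mk x := by
  rw [ConnectedComponents.coe_eq_coe']
  exact (isPreconnected_singleton (x := x)).closure.subset_connectedComponent
    (subset_closure rfl) h.mem_closure

omit [SpectralSpace X] [CompactSpace T] [TotallyDisconnectedSpace T] in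
theorem fp_specializes_iff (y y' : {p : X × T // ConnectedComponents.mk p.1 = g p.2}) :
    y ⤳ y' ↔ y.1.1 ⤳ y'.1.1 ∧ y.1.2 = y'.1.2 := by
  rw [← IsInducing.subtypeVal.specializes_iff]
  obtain ⟨⟨x, t⟩, h⟩ := y
  obtain ⟨⟨x', t'⟩, h'⟩ := y'
  simp only [specializes_prod, specializes_iff_eq]

omit [SpectralSpace X] [CompactSpace T] [TotallyDisconnectedSpace T] in
theorem fp_isClosed_singleton_iff (y : {p : X × T // ConnectedComponents.mk p.1 = g p.2}) :
    IsClosed ({y} : Set {p : X × T // ConnectedComponents.mk p.1 = g p.2}) ↔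
      IsClosed ({y.1.1} : Set X) := by
  rw [isClosed_singleton_iff_forall_specializes, isClosed_singleton_iff_forall_specializes]
  obtain ⟨⟨x, t⟩, h⟩ := y
  constructor
  · intro hy x' hx'
    have h' : ConnectedComponents.mk x' = g t := (mk_eq_of_specializes X hx').trans h
    have := hy ⟨(x', t), h'⟩ ((fp_specializes_iff X T g _ _).mpr ⟨hx', rfl⟩)
    exact congrArg (fun z => z.1.1) this
  · rintro hx ⟨⟨x', t'⟩, h'⟩ hy'
    obtain ⟨h1, h2⟩ := (fp_specializes_iff X T g _ _).mp hy'
    simp only at h1 h2
    have := hx x' h1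
    subst this
    subst h2
    rfl

omit [SpectralSpace X] [T2Space T] [TotallyDisconnectedSpace T] in
theorem isSpectralMap_fst : IsSpectralMap (Prod.fst : X × T → X) := by
  refine ⟨continuous_fst, fun U _ hUc => ?_⟩
  have : (Prod.fst : X × T → X) ⁻¹' U = U ×ˢ Set.univ := by ext p; simp
  rw [this]
  exact hUc.prod isCompact_univ

/-- Unique closed specialization in the fibre product. -/
theorem fp_existsUnique_closed_specialization
    (hX : ∀ x : X, ∃! y : X, IsClosed ({y} : Set X) ∧ x ⤳ y)
    (y : {p : X × T // ConnectedComponents.mk p.1 = g p.2}) :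
    ∃! y₀ : {p : X × T // ConnectedComponents.mk p.1 = g p.2},
      IsClosed ({y₀} : Set {p : X × T // ConnectedComponents.mk p.1 = g p.2}) ∧ y ⤳ y₀ := by
  obtain ⟨⟨x, t⟩, h⟩ := y
  obtain ⟨x₀, ⟨hx₀cl, hxx₀⟩, huniq⟩ := hX x
  have h₀ : ConnectedComponents.mk x₀ = g t := (mk_eq_of_specializes X hxx₀).trans h
  refine ⟨⟨(x₀, t), h₀⟩, ⟨(fp_isClosed_singleton_iff X T g _).mpr hx₀cl,
    (fp_specializes_iff X T g _ _).mpr ⟨hxx₀, rfl⟩⟩, ?_⟩
  rintro ⟨⟨x₁, t₁⟩, h₁⟩ ⟨hcl, hspec⟩
  obtain ⟨h1, h2⟩ := (fp_specializes_iff X T g _ _).mp hspec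
  simp only at h1 h2
  have hx₁cl : IsClosed ({x₁} : Set X) := (fp_isClosed_singleton_iff X T g _).mp hcl
  have := huniq x₁ ⟨hx₁cl, h1⟩
  subst this
  subst h2
  rfl

end FibreProduct

end Groth.Agent.Lib.Helper10.Pi0
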