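import Mathlib

/-!
# Power torsion: a uniform-exponent lemma for finitely generated ideals
-/

set_option autoImplicit false
universe u v

namespace Groth.Agent.Lib.Helper10

variable {R : Type u} [CommRing R] {M : Type v} [AddCommGroup M] [Module R M]

/-- If `J` is finitely generated and each `a • m` (`a ∈ J`) is killed by a power of `I`, then
`m` is killed by `I ^ k * J` for some `k`. -/
theorem exists_pow_mul_smul_eq_zero (I J : Ideal R) (hJ : J.FG) (m : M)
    (h : ∀ a ∈ J, ∃ k : ℕ, ∀ b ∈ I ^ k, (b * a) • m = 0) :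
    ∃ k : ℕ, ∀ c ∈ I ^ k * J, c • m = 0 := by
  classical
  obtain ⟨s, hs⟩ := hJ
  have h' : ∀ a : R, ∃ k : ℕ, a ∈ J → ∀ b ∈ I ^ k, (b * a) • m = 0 := by
    intro a
    by_cases ha : a ∈ J
    · obtain ⟨k, hk⟩ := h a ha
      exact ⟨k, fun _ => hk⟩
    · exact ⟨0, fun ha' => absurd ha' ha⟩
  choose k hk using h'
  refine ⟨s.sup k, fun c hc => ?_⟩
  have key : ∀ b ∈ I ^ (s.sup k), ∀ a ∈ J, (b * a) • m = 0 := by
    intro b hb a ha
    rw [← hs] at ha
    induction ha using Submodule.span_induction with
    | mem a has =>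
      have haJ : a ∈ J := hs ▸ Submodule.subset_span has
      exact hk a haJ b (Ideal.pow_le_pow_right (Finset.le_sup has) hb)
    | zero => simp
    | add x y _ _ hx hy => rw [mul_add, add_smul, hx, hy, add_zero]
    | smul r x _ hx => rw [smul_eq_mul, mul_left_comm, mul_smul, hx, smul_zero]
  refine Submodule.mul_induction_on hc (fun b hb a ha => key b hb a ha) ?_
  intro x y hx hy
  rw [add_smul, hx, hy, add_zero]

end Groth.Agent.Lib.Helper10
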