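import Mathlib
import Groth.Agent.Lib.Helper10Spectral
import Groth.Agent.Lib.Helper10ConstrLoc

/-!
# Pro-constructible subsets as images (helper10)
-/

set_option autoImplicit false
universe u
open AlgebraicGeometry CategoryTheory Topology TopologicalSpace

namespace Groth.Agent.Lib.Helper10.ProCons

open Groth.Agent.Lib.Helper10.Spectral

/-- A constructibly closed subset of a spectral space is an intersection of constructible sets. -/
theorem exists_sInter_of_isClosed_constr {X : Type u} [TopologicalSpace X] [CompactSpace X]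
    [QuasiSeparatedSpace X] {E : Set X} (hE : IsClosed[constructibleTopology X] E) :
    ∃ S : Set (Set X), (∀ s ∈ S, IsConstructible s) ∧ E = ⋂₀ S := by
  classical
  have hbasis := @TopologicalSpace.isTopologicalBasis_of_subbasis X (constructibleTopology X)
    (constructibleTopologySubbasis X) rfl
  have hb : ∀ B ∈ ((fun f : Set (Set X) => ⋂₀ f) ''
      {f : Set (Set X) | f.Finite ∧ f ⊆ constructibleTopologySubbasis X}),
      IsConstructible B := by
    rintro _ ⟨f, ⟨hf, hfs⟩, rfl⟩
    refine IsConstructible.sInter hf fun s hs => ?_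
    rcases hfs hs with ⟨hso, hsc⟩ | ⟨hscl, hsc⟩
    · exact hsc.isConstructible hso
    · rw [← isConstructible_compl]
      exact hsc.isConstructible hscl.isOpen_compl
  have hEo : IsOpen[constructibleTopology X] Eᶜ :=
    (@isOpen_compl_iff X E (constructibleTopology X)).mpr hE
  refine ⟨{s | IsConstructible s ∧ E ⊆ s}, fun s hs => hs.1, ?_⟩
  apply Set.Subset.antisymm
  · exact Set.subset_sInter fun s hs => hs.2
  · intro x hx
    by_contra hxE
    obtain ⟨B, hB, hxB, hBE⟩ := @IsTopologicalBasis.exists_subset_of_mem_open X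
      (constructibleTopology X) _ hbasis x Eᶜ hxE hEo
    have h1 : x ∈ Bᶜ := hx Bᶜ ⟨isConstructible_compl.mpr (hb B hB), fun y hy hyB => hBE hyB hy⟩
    exact h1 hxB

theorem isSpectralMap_comap {A B : Type u} [CommRing A] [CommRing B] (f : A →+* B) :
    IsSpectralMap (PrimeSpectrum.comap f) :=
  (Spec.map (CommRingCat.ofHom f)).isSpectralMap

/-- The image of `Spec B → Spec A` is an intersection of constructible sets. -/
theorem exists_sInter_range_comap {A B : Type u} [CommRing A] [CommRing B] (f : A →+* B) :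
    ∃ S : Set (Set (PrimeSpectrum A)), (∀ s ∈ S, IsConstructible s) ∧
      Set.range (PrimeSpectrum.comap f) = ⋂₀ S := by
  apply exists_sInter_of_isClosed_constr
  rw [← Set.image_univ]
  exact isClosed_constr_image (isSpectralMap_comap f)
    (@isClosed_univ _ (constructibleTopology (PrimeSpectrum B)))

/-- An intersection of constructible subsets of `Spec A` is the image of `Spec` of the product of
the residue fields of its points. -/
theorem range_comap_pi_residueField {A : Type u} [CommRing A] (E : Set (PrimeSpectrum A))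
    (S : Set (Set (PrimeSpectrum A))) (hS : ∀ s ∈ S, IsConstructible s) (hE : E = ⋂₀ S) :
    Set.range (PrimeSpectrum.comap
      (Pi.ringHom fun p : E => algebraMap A p.1.asIdeal.ResidueField)) = E := by
  classical
  set φ : A →+* (∀ p : E, p.1.asIdeal.ResidueField) :=
    Pi.ringHom fun p : E => algebraMap A p.1.asIdeal.ResidueField with hφ
  apply Set.Subset.antisymm
  · rintro _ ⟨Q, rfl⟩
    have hmemE : ∀ x, (∀ s ∈ S, x ∈ s) → x ∈ E := fun x hx => by
      rw [hE]
      exact hx
    have hEsub : ∀ x ∈ E, ∀ s ∈ S, x ∈ s := fun x hx => by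
      rw [hE] at hx
      exact hx
    apply hmemE
    intro s hs
    by_contra hP
    -- a basic constructible neighbourhood in the complement
    obtain ⟨D, hD⟩ := PrimeSpectrum.exists_constructibleSetData_iff.mpr
      (isConstructible_compl.mpr (hS s hs))
    have hP' : PrimeSpectrum.comap φ Q ∈ D.toSet := by rw [hD]; exact hP
    obtain ⟨C, hCD, hPC⟩ := Set.mem_iUnion₂.mp hP'
    have hCE : ∀ p : E, p.1 ∉ C.toSet := by
      intro p hpC
      have h1 : p.1 ∈ sᶜ := by
        rw [← hD]
        exact Set.mem_iUnion₂.mpr ⟨C, hCD, hpC⟩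
      have h2 : p.1 ∈ s := hEsub p.1 p.2 s hs
      exact h1 h2
    -- coordinatewise coefficients
    have hcoef : ∀ p : E, ∃ c : Fin C.n → p.1.asIdeal.ResidueField,
        ∑ i, c i * algebraMap A p.1.asIdeal.ResidueField (C.g i) =
          algebraMap A p.1.asIdeal.ResidueField C.f := by
      intro p
      by_cases hf : C.f ∈ p.1.asIdeal
      · refine ⟨fun _ => 0, ?_⟩
        rw [Ideal.algebraMap_residueField_eq_zero.mpr hf]
        simp
      · have hg : ∃ i, C.g i ∉ p.1.asIdeal := by
          by_contra hcon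
          push Not at hcon
          apply hCE p
          refine ⟨?_, ?_⟩
          · rw [PrimeSpectrum.mem_zeroLocus]
            rintro _ ⟨i, rfl⟩
            exact hcon i
          · rw [PrimeSpectrum.mem_zeroLocus]
            intro h
            exact hf (h (Set.mem_singleton _))
        obtain ⟨i, hi⟩ := hg
        have hne : algebraMap A p.1.asIdeal.ResidueField (C.g i) ≠ 0 := fun h =>
          hi (Ideal.algebraMap_residueField_eq_zero.mp h)
        refine ⟨fun j => if j = i then algebraMap A p.1.asIdeal.ResidueField C.f *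
          (algebraMap A p.1.asIdeal.ResidueField (C.g i))⁻¹ else 0, ?_⟩
        rw [Finset.sum_eq_single i]
        · simp only [if_true]
          rw [mul_assoc, inv_mul_cancel₀ hne, mul_one]
        · intro j _ hji
          simp [hji]
        · intro h
          exact absurd (Finset.mem_univ i) h
    choose c hc using hcoef
    have hφf : φ C.f = ∑ i, (fun p : E => c p i) * φ (C.g i) := by
      funext p
      rw [Finset.sum_apply]
      simp only [Pi.mul_apply]
      exact (hc p).symm
    have hg : ∀ i, φ (C.g i) ∈ Q.asIdeal := by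
      intro i
      have := hPC.1
      rw [PrimeSpectrum.mem_zeroLocus] at this
      exact this ⟨i, rfl⟩
    have hf : φ C.f ∈ Q.asIdeal := by
      rw [hφf]
      exact Q.asIdeal.sum_mem fun i _ => Q.asIdeal.mul_mem_left _ (hg i)
    apply hPC.2
    rw [PrimeSpectrum.mem_zeroLocus]
    intro x hx
    rw [Set.mem_singleton_iff] at hx
    rw [hx]
    exact hf
  · intro p hp
    let ev : (∀ q : E, q.1.asIdeal.ResidueField) →+* p.asIdeal.ResidueField :=
      Pi.evalRingHom (fun q : E => q.1.asIdeal.ResidueField) ⟨p, hp⟩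
    refine ⟨PrimeSpectrum.comap ev ⊥, ?_⟩
    rw [← PrimeSpectrum.comap_comp_apply]
    have h1 : ev.comp φ = algebraMap A p.asIdeal.ResidueField := by
      ext a
      rfl
    rw [h1]
    ext a
    change algebraMap A p.asIdeal.ResidueField a ∈ (⊥ : Ideal p.asIdeal.ResidueField) ↔ _
    rw [Ideal.mem_bot, Ideal.algebraMap_residueField_eq_zero]

end Groth.Agent.Lib.Helper10.ProCons

namespace Groth.Agent.Lib.Helper10.ProCons

open Groth.Agent.Lib.Helper10.Spectral Limits

theorem exists_affine_range_union (X X₁ X₂ : Scheme.{u}) (f₁ : X₁ ⟶ X) (f₂ : X₂ ⟶ X)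
    [IsAffine X₁] [IsAffine X₂] :
    ∃ (X' : Scheme.{u}) (f : X' ⟶ X), IsAffine X' ∧
      Set.range f.base = Set.range f₁.base ∪ Set.range f₂.base := by
  refine ⟨X₁ ⨿ X₂, coprod.desc f₁ f₂, inferInstance, ?_⟩
  ext x
  constructor
  · rintro ⟨y, rfl⟩
    obtain ⟨z, rfl⟩ := (coprodMk X₁ X₂).surjective y
    rcases z with z | z
    · left
      refine ⟨z, ?_⟩
      rw [coprodMk_inl, ← Scheme.Hom.comp_apply, coprod.inl_desc]
    · right
      refine ⟨z, ?_⟩
      rw [coprodMk_inr, ← Scheme.Hom.comp_apply, coprod.inr_desc]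
  · rintro (⟨z, rfl⟩ | ⟨z, rfl⟩)
    · refine ⟨(coprod.inl : X₁ ⟶ X₁ ⨿ X₂) z, ?_⟩
      rw [← Scheme.Hom.comp_apply, coprod.inl_desc]
    · refine ⟨(coprod.inr : X₂ ⟶ X₁ ⨿ X₂) z, ?_⟩
      rw [← Scheme.Hom.comp_apply, coprod.inr_desc]

/-- Local piece: for an affine open `U`, `E ∩ U` is the image of an affine scheme. -/
theorem exists_affine_range_inter (X : Scheme.{u}) (U : X.Opens) (hU : IsAffineOpen U)
    (E : Set X) (S : Set (Set X)) (hS : ∀ s ∈ S, IsConstructible s) (hE : E = ⋂₀ S) :
    ∃ (X' : Scheme.{u}) (f : X' ⟶ X), IsAffine X' ∧ Set.range f.base = E ∩ (U : Set X) := by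
  let j := hU.fromSpec
  let E' : Set (PrimeSpectrum Γ(X, U)) := j ⁻¹' E
  let S' : Set (Set (PrimeSpectrum Γ(X, U))) := (fun s => j ⁻¹' s) '' S
  have hS' : ∀ s ∈ S', IsConstructible s := by
    rintro _ ⟨s, hs, rfl⟩
    exact (hS s hs).preimage_of_isOpenEmbedding hU.fromSpec.isOpenEmbedding
  have hE' : E' = ⋂₀ S' := by
    ext x
    simp only [E', S', Set.mem_preimage, hE, Set.mem_sInter, Set.mem_image, forall_exists_index,
      and_imp, forall_apply_eq_imp_iff₂]
  have hr := range_comap_pi_residueField E' S' hS' hE'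
  refine ⟨_, Spec.map (CommRingCat.ofHom
    (Pi.ringHom fun p : E' => algebraMap Γ(X, U) p.1.asIdeal.ResidueField)) ≫ j, inferInstance, ?_⟩
  rw [Scheme.Hom.comp_base, TopCat.coe_comp, Set.range_comp]
  have h2 : Set.range (Spec.map (CommRingCat.ofHom
    (Pi.ringHom fun p : E' => algebraMap Γ(X, U) p.1.asIdeal.ResidueField))).base = E' := hr
  rw [h2]
  show j '' (j ⁻¹' E) = _
  rw [Set.image_preimage_eq_inter_range, hU.range_fromSpec]

theorem exists_affine_range_eq_of_sInter (X : Scheme.{u}) [CompactSpace X]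
    (E : Set X) (S : Set (Set X)) (hS : ∀ s ∈ S, IsConstructible s) (hE : E = ⋂₀ S) :
    ∃ (X' : Scheme.{u}) (f : X' ⟶ X), IsAffine X' ∧ Set.range f.base = E := by
  classical
  obtain ⟨t, ht⟩ := isCompact_univ.elim_finite_subcover
    (fun U : X.affineOpens => ((U : X.Opens) : Set X)) (fun U => (U : X.Opens).isOpen)
    (fun x _ => by
      obtain ⟨_, ⟨W, hW, rfl⟩, hxW, -⟩ :=
        X.isBasis_affineOpens.exists_subset_of_mem_open (Set.mem_univ x) isOpen_univ
      exact Set.mem_iUnion.mpr ⟨⟨W, hW⟩, hxW⟩)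
  have key : ∀ t : Finset X.affineOpens, ∃ (X' : Scheme.{u}) (f : X' ⟶ X), IsAffine X' ∧
      Set.range f.base = ⋃ U ∈ t, E ∩ ((U : X.Opens) : Set X) := by
    intro t
    induction t using Finset.induction_on with
    | empty =>
      refine ⟨∅, Scheme.emptyTo X, inferInstance, ?_⟩
      simp only [Finset.notMem_empty, Set.iUnion_of_empty, Set.iUnion_empty]
      exact Set.range_eq_empty _
    | insert a t ha ih =>
      obtain ⟨X₁, f₁, hA₁, hr₁⟩ := ih
      obtain ⟨X₂, f₂, hA₂, hr₂⟩ := exists_affine_range_inter X a a.2 E S hS hE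
      obtain ⟨X', f, hA, hr⟩ := exists_affine_range_union X X₂ X₁ f₂ f₁
      refine ⟨X', f, hA, ?_⟩
      rw [hr, hr₁, hr₂, Finset.set_biUnion_insert]
  obtain ⟨X', f, hA, hr⟩ := key t
  refine ⟨X', f, hA, ?_⟩
  rw [hr, ← Set.inter_iUnion₂]
  apply Set.inter_eq_left.mpr
  intro x _
  exact ht (Set.mem_univ x)

/-- The image of a quasi-compact morphism to a quasi-separated scheme is an intersection of
constructible sets. -/
theorem exists_sInter_range_of_quasiCompact {X X' : Scheme.{u}} [CompactSpace X]
    [QuasiSeparatedSpace X] (f : X' ⟶ X) [QuasiCompact f] :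
    ∃ S : Set (Set X), (∀ s ∈ S, IsConstructible s) ∧ Set.range f.base = ⋂₀ S := by
  classical
  apply exists_sInter_of_isClosed_constr
  have : CompactSpace X' := QuasiCompact.compactSpace_of_compactSpace f
  obtain ⟨t, ht⟩ := isCompact_univ.elim_finite_subcover
    (fun U : X'.affineOpens => ((U : X'.Opens) : Set X')) (fun U => (U : X'.Opens).isOpen)
    (fun x _ => by
      obtain ⟨_, ⟨W, hW, rfl⟩, hxW, -⟩ :=
        X'.isBasis_affineOpens.exists_subset_of_mem_open (Set.mem_univ x) isOpen_univ
      exact Set.mem_iUnion.mpr ⟨⟨W, hW⟩, hxW⟩)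
  have hr : Set.range f.base = ⋃ U ∈ t, f.base '' ((U : X'.Opens) : Set X') := by
    rw [← Set.image_iUnion₂, ← Set.image_univ]
    congr 1
    exact Set.Subset.antisymm ht (Set.subset_univ _)
  rw [hr]
  refine @Set.Finite.isClosed_biUnion X X'.affineOpens (constructibleTopology X) _ _
    t.finite_toSet fun U _ => ?_
  have hU : IsAffine ((U : X'.Opens) : Scheme) := U.2
  have h1 : f.base '' ((U : X'.Opens) : Set X') = Set.range ((U : X'.Opens).ι ≫ f).base := by
    rw [Scheme.Hom.comp_base, TopCat.coe_comp, Set.range_comp]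
    congr 1
    exact (Scheme.Opens.range_ι _).symm
  rw [h1, ← Set.image_univ]
  exact isClosed_constr_image ((U : X'.Opens).ι ≫ f).isSpectralMap
    (@isClosed_univ _ (constructibleTopology _))

end Groth.Agent.Lib.Helper10.ProCons
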