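import Mathlib

/-!
# "Profinite" algebras over a field (directed unions of finite products of copies of `k`)
(helper10; Mathlib-only)
-/

universe u

namespace Groth.Agent.Lib.Helper10.ProfAlg

open CategoryTheory CategoryTheory.Limits AlgebraicGeometry

/-- For a `k`-algebra `A` in which every finite subset lies in a subalgebra isomorphic to `k^n`,
`k → A` is surjective on stalks. -/
theorem surjectiveOnStalks_algebraMap (k : Type u) [Field k] (A : Type u) [CommRing A] [Algebra k A]
    (hA : ∀ s : Finset A, ∃ (B : Subalgebra k A) (n : ℕ), (↑s : Set A) ⊆ (B : Set A) ∧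
      Nonempty (B ≃ₐ[k] (Fin n → k))) :
    (algebraMap k A).SurjectiveOnStalks := by
  classical
  rw [RingHom.surjectiveOnStalks_iff_forall_ideal]
  intro I hI s
  obtain ⟨B, n, hsB, ⟨ψ⟩⟩ := hA {s}
  have hs : s ∈ B := hsB (by simp)
  let e : Fin n → B := fun j => ψ.symm (Pi.single j 1)
  have hsum : ∑ j, e j = 1 := by
    apply ψ.injective
    simp only [e, map_sum, AlgEquiv.apply_symm_apply, map_one]
    exact Finset.univ_sum_single (1 : Fin n → k)
  obtain ⟨j, hj⟩ : ∃ j, ((e j : B) : A) ∉ I := by
    by_contra hcon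
    push Not at hcon
    apply hI
    rw [Ideal.eq_top_iff_one]
    have : (1 : A) = ∑ j, ((e j : B) : A) := by
      have := congrArg (Subtype.val) hsum
      simpa using this.symm
    rw [this]
    exact I.sum_mem fun j _ => hcon j
  refine ⟨ψ ⟨s, hs⟩ j, 1, (e j : A), hj, ?_, ?_⟩
  · rw [map_one]; rwa [← Ideal.eq_top_iff_one]
  · rw [map_one, mul_one]
    have h1 : e j * ⟨s, hs⟩ = e j * algebraMap k B (ψ ⟨s, hs⟩ j) := by
      apply ψ.injective
      simp only [e, map_mul, AlgEquiv.apply_symm_apply, AlgEquiv.commutes]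
      ext i
      by_cases hij : i = j
      · subst hij; simp
      · simp [hij]
    have := congrArg (Subtype.val) h1
    simpa using this

/-- The pullback of `Spec A → Spec k ← X` has underlying space the product, for `A` profinite. -/
theorem isHomeomorph_pullback_prod (k : Type u) [Field k] (A : Type u) [CommRing A] [Algebra k A]
    (hA : ∀ s : Finset A, ∃ (B : Subalgebra k A) (n : ℕ), (↑s : Set A) ⊆ (B : Set A) ∧
      Nonempty (B ≃ₐ[k] (Fin n → k)))
    (X : Scheme.{u}) (f : X ⟶ Spec (CommRingCat.of k)) :
    IsHomeomorph (fun p : ↑(pullback (Spec.map (CommRingCat.ofHom (algebraMap k A))) f) =>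
      (pullback.fst (Spec.map (CommRingCat.ofHom (algebraMap k A))) f p,
        pullback.snd (Spec.map (CommRingCat.ofHom (algebraMap k A))) f p)) := by
  set sA : Spec (CommRingCat.of A) ⟶ Spec (CommRingCat.of k) :=
    Spec.map (CommRingCat.ofHom (algebraMap k A)) with hsA
  haveI : SurjectiveOnStalks sA := by
    rw [hsA, SurjectiveOnStalks.Spec_iff]
    exact surjectiveOnStalks_algebraMap k A hA
  have hemb := SurjectiveOnStalks.isEmbedding_pullback f sA
  -- transfer along the symmetry
  have hfun : (fun p : ↑(pullback sA f) => (pullback.fst sA f p, pullback.snd sA f p)) =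
      Prod.swap ∘ (fun x : ↑(pullback f sA) => (pullback.fst f sA x, pullback.snd f sA x)) ∘
        (pullbackSymmetry sA f).hom := by
    funext p
    simp only [Function.comp_apply, Prod.swap_prod_mk]
    rw [← Scheme.Hom.comp_apply, ← Scheme.Hom.comp_apply, pullbackSymmetry_hom_comp_fst,
      pullbackSymmetry_hom_comp_snd]
  have hemb' : Topology.IsEmbedding
      (fun p : ↑(pullback sA f) => (pullback.fst sA f p, pullback.snd sA f p)) := by
    rw [hfun]
    exact (Homeomorph.prodComm _ _).isEmbedding.comp
      (hemb.comp (Scheme.homeoOfIso (pullbackSymmetry sA f)).isEmbedding)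
  refine (isHomeomorph_iff_isEmbedding_surjective).mpr ⟨hemb', ?_⟩
  rintro ⟨a, x⟩
  have hax : sA a = f x := Subsingleton.elim _ _
  obtain ⟨z, hz1, hz2⟩ := Scheme.Pullback.exists_preimage_pullback a x hax
  exact ⟨z, Prod.ext hz1 hz2⟩

end Groth.Agent.Lib.Helper10.ProfAlg
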