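import Mathlib

universe u
open CategoryTheory AlgebraicGeometry Opposite TopologicalSpace

namespace Groth.Agent.Lib.Helper24FlatTF

/-- The ring map `R → Γ(X, ⊤)` attached to a morphism `X ⟶ Spec R`. -/
noncomputable def Phi {X : Scheme.{u}} {R : Type u} [CommRing R] (q : X ⟶ Spec (CommRingCat.of R)) :
    R →+* Γ(X, ⊤) :=
  ((Scheme.ΓSpecIso (CommRingCat.of R)).inv ≫ q.appTop).hom

theorem Phi_injective {X : Scheme.{u}} {R : Type u} [CommRing R] {f g : X ⟶ Spec (CommRingCat.of R)}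
    (h : Phi f = Phi g) : f = g := by
  apply ext_to_Spec
  exact CommRingCat.hom_ext h

theorem Phi_comp {X : Scheme.{u}} {R S : Type u} [CommRing R] [CommRing S]
    (q : X ⟶ Spec (CommRingCat.of S)) (ψ : R →+* S) :
    Phi (q ≫ Spec.map (CommRingCat.ofHom ψ)) = (Phi q).comp ψ := by
  unfold Phi
  rw [Scheme.Hom.comp_appTop, ← Category.assoc, ← Scheme.ΓSpecIso_inv_naturality (CommRingCat.ofHom ψ),
    Category.assoc]
  rfl

/-- Sections of a flat scheme over `Spec R` are torsion-free for non-zero-divisors of `R`. -/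
theorem torsionFree {X : Scheme.{u}} {R : Type u} [CommRing R] (q : X ⟶ Spec (CommRingCat.of R))
    [Flat q] (a : R) (ha : a ∈ nonZeroDivisors R) (s : Γ(X, ⊤)) (hs : Phi q a * s = 0) : s = 0 := by
  refine TopCat.Sheaf.eq_of_locally_eq' X.sheaf (fun U : X.affineOpens => U.1) ⊤
    (fun U => homOfLE le_top) ?_ s 0 ?_
  · rw [← iSup_affineOpens_eq_top]
  · intro U
    rw [map_zero]
    have hflat := Scheme.Hom.flat_appLE q (isAffineOpen_top (Spec (CommRingCat.of R))) U.2
      (show U.1 ≤ q ⁻¹ᵁ ⊤ from le_top)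
    have hflat2 : ((Scheme.ΓSpecIso (CommRingCat.of R)).inv ≫
        q.appLE ⊤ U.1 (show U.1 ≤ q ⁻¹ᵁ ⊤ from le_top)).hom.Flat :=
      RingHom.Flat.comp (.of_bijective (ConcreteCategory.bijective_of_isIso
        (Scheme.ΓSpecIso (CommRingCat.of R)).inv)) hflat
    have key : (X.presheaf.map (homOfLE (le_top : U.1 ≤ ⊤)).op).hom (Phi q a) =
        ((Scheme.ΓSpecIso (CommRingCat.of R)).inv ≫
        q.appLE ⊤ U.1 (show U.1 ≤ q ⁻¹ᵁ ⊤ from le_top)).hom a := rfl
    have h2 := congrArg (X.presheaf.map (homOfLE (le_top : U.1 ≤ ⊤)).op).hom hs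
    rw [map_mul, map_zero, key] at h2
    change (X.presheaf.map (homOfLE (le_top : U.1 ≤ ⊤)).op).hom s = 0
    generalize (X.presheaf.map (homOfLE (le_top : U.1 ≤ ⊤)).op).hom s = s' at h2 ⊢
    revert hflat2 h2
    generalize ((Scheme.ΓSpecIso (CommRingCat.of R)).inv ≫
        q.appLE ⊤ U.1 (show U.1 ≤ q ⁻¹ᵁ ⊤ from le_top)).hom = ψ
    intro hflat2 h2
    algebraize [ψ]
    have hreg := Module.Flat.isSMulRegular_of_nonZeroDivisors (M := Γ(X, U.1)) ha
    apply hreg
    change a • s' = a • (0 : Γ(X, U.1))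
    rw [smul_zero, Algebra.smul_def, RingHom.algebraMap_toAlgebra]
    exact h2

end Groth.Agent.Lib.Helper24FlatTF
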