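import Mathlib
import Groth.Agent.Lib.Helper24FlatTF

/-!
# Helper10PtsBij: bijectivity on points, base change functors and affine targets

* `bijective_comp_pullback_map_iff`: for `f : X ⟶ Z` and `α : A ⟶ B` in `Over Z`, composition with
  `(Over.pullback f).map α` is bijective on `V'`-points iff composition with `α` is bijective on
  `(Over.map f).obj V'`-points.
* `isIso_pullback_map_of_bijective`: Yoneda criterion for `(Over.pullback j).map g` to be an iso.
* `bijective_comp_of_left_eq`: for affine targets `Spec A₁`, `Spec A₂` over `Spec R` and a morphism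
  with underlying map `Spec.map θ`, bijectivity on `V`-points follows from bijectivity of `F ↦ F ∘ θ`
  on `R`-algebra maps into `Γ(V, ⊤)`.
-/

set_option autoImplicit false
universe u

open CategoryTheory Limits AlgebraicGeometry
open Groth.Agent.Lib.Helper24FlatTF

namespace Groth.Agent.Lib.Helper10.PtsBij

section Adj

variable {X Z : Scheme.{u}} (f : X ⟶ Z)

lemma bijective_comp_pullback_map_iff {A B : Over Z} (α : A ⟶ B) (V' : Over X) :
    Function.Bijective (fun w : V' ⟶ (Over.pullback f).obj A => w ≫ (Over.pullback f).map α) ↔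
      Function.Bijective (fun v : (Over.map f).obj V' ⟶ A => v ≫ α) := by
  let adj := Over.mapPullbackAdj f
  have h : (fun w : V' ⟶ (Over.pullback f).obj A => w ≫ (Over.pullback f).map α) =
      (adj.homEquiv V' B) ∘ (fun v => v ≫ α) ∘ (adj.homEquiv V' A).symm := by
    funext w
    simp only [Function.comp_apply]
    rw [Adjunction.homEquiv_naturality_right, Equiv.apply_symm_apply]
  rw [h]
  constructor
  · intro hb
    have h1 := ((adj.homEquiv V' B).symm.bijective.comp hb).comp (adj.homEquiv V' A).bijective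
    convert h1 using 1
    funext v
    simp
  · intro hb
    exact (adj.homEquiv V' B).bijective.comp (hb.comp (adj.homEquiv V' A).symm.bijective)

lemma isIso_pullback_map_of_bijective {A B : Over Z} (α : A ⟶ B)
    (hbij : ∀ W : Over X, Function.Bijective (fun v : (Over.map f).obj W ⟶ A => v ≫ α)) :
    IsIso ((Over.pullback f).map α) :=
  isIso_of_yoneda_map_bijective _ (fun W => (bijective_comp_pullback_map_iff f α W).2 (hbij W))

end Adj

section Affine

variable {R : Type u} [CommRing R] {A₁ A₂ : Type u} [CommRing A₁] [CommRing A₂]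
  [Algebra R A₁] [Algebra R A₂]

lemma Phi_toSpecΓ (V : Scheme.{u}) : Phi V.toSpecΓ = RingHom.id Γ(V, ⊤) := by
  unfold Phi
  rw [Scheme.toSpecΓ_appTop, Iso.inv_hom_id]
  rfl

lemma Phi_toSpecΓ_comp (V : Scheme.{u}) {A : Type u} [CommRing A] (F : A →+* Γ(V, ⊤)) :
    Phi (V.toSpecΓ ≫ Spec.map (CommRingCat.ofHom F)) = F := by
  rw [Phi_comp, Phi_toSpecΓ, RingHom.id_comp]

set_option backward.isDefEq.respectTransparency false in
theorem bijective_comp_of_left_eq (θ : A₂ →ₐ[R] A₁)
    (β : (Spec (.of A₁)).asOver (Spec (.of R)) ⟶ (Spec (.of A₂)).asOver (Spec (.of R)))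
    (hβ : β.left = Spec.map (CommRingCat.ofHom (θ : A₂ →+* A₁)))
    (V : Over (Spec (CommRingCat.of R)))
    (hθ : letI := (Phi V.hom).toAlgebra
      Function.Bijective (fun F : A₁ →ₐ[R] Γ(V.left, ⊤) => F.comp θ)) :
    Function.Bijective (fun m : V ⟶ (Spec (.of A₁)).asOver (Spec (.of R)) => m ≫ β) := by
  letI := (Phi V.hom).toAlgebra
  have hstr₁ : ((Spec (.of A₁)).asOver (Spec (.of R))).hom =
      Spec.map (CommRingCat.ofHom (algebraMap R A₁)) := rfl
  have hstr₂ : ((Spec (.of A₂)).asOver (Spec (.of R))).hom =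
      Spec.map (CommRingCat.ofHom (algebraMap R A₂)) := rfl
  have hw₁ : ∀ m : V ⟶ (Spec (.of A₁)).asOver (Spec (.of R)),
      (Phi m.left).comp (algebraMap R A₁) = algebraMap R Γ(V.left, ⊤) := by
    intro m
    rw [← Phi_comp, ← hstr₁, Over.w m]; rfl
  have hw₂ : ∀ m : V ⟶ (Spec (.of A₂)).asOver (Spec (.of R)),
      (Phi m.left).comp (algebraMap R A₂) = algebraMap R Γ(V.left, ⊤) := by
    intro m
    rw [← Phi_comp, ← hstr₂, Over.w m]; rfl
  have hβ' : ∀ m : V ⟶ (Spec (.of A₁)).asOver (Spec (.of R)),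
      Phi (m ≫ β).left = (Phi m.left).comp (θ : A₂ →+* A₁) := by
    intro m
    rw [Over.comp_left, hβ, Phi_comp]
  constructor
  · intro m₁ m₂ h12
    have h12' : m₁ ≫ β = m₂ ≫ β := h12
    let F₁ : A₁ →ₐ[R] Γ(V.left, ⊤) :=
      { Phi m₁.left with commutes' := fun r => RingHom.congr_fun (hw₁ m₁) r }
    let F₂ : A₁ →ₐ[R] Γ(V.left, ⊤) :=
      { Phi m₂.left with commutes' := fun r => RingHom.congr_fun (hw₁ m₂) r }
    have hF : F₁.comp θ = F₂.comp θ := by
      ext x
      have e1 := RingHom.congr_fun (hβ' m₁) x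
      have e2 := RingHom.congr_fun (hβ' m₂) x
      rw [h12'] at e1
      exact e1.symm.trans e2
    have hF' : F₁ = F₂ := hθ.1 hF
    apply Over.OverMorphism.ext
    apply Phi_injective
    ext x
    exact congrArg (fun F : A₁ →ₐ[R] Γ(V.left, ⊤) => F x) hF'
  · intro m'
    let F' : A₂ →ₐ[R] Γ(V.left, ⊤) :=
      { Phi m'.left with commutes' := fun r => RingHom.congr_fun (hw₂ m') r }
    obtain ⟨F, hF⟩ := hθ.2 F'
    have hF1 : (F : A₁ →+* Γ(V.left, ⊤)).comp (algebraMap R A₁) = Phi V.hom := by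
      ext r
      exact F.commutes r
    obtain ⟨m, hm⟩ : ∃ m : V ⟶ (Spec (.of A₁)).asOver (Spec (.of R)),
        m.left = V.left.toSpecΓ ≫ Spec.map (CommRingCat.ofHom (F : A₁ →+* Γ(V.left, ⊤))) := by
      refine ⟨Over.homMk (V.left.toSpecΓ ≫
        Spec.map (CommRingCat.ofHom (F : A₁ →+* Γ(V.left, ⊤)))) ?_, rfl⟩
      apply Phi_injective
      rw [hstr₁, Phi_comp, Phi_toSpecΓ_comp, hF1]
    refine ⟨m, ?_⟩
    apply Over.OverMorphism.ext
    apply Phi_injective
    rw [hβ', hm, Phi_toSpecΓ_comp]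
    ext x
    exact congrArg (fun G : A₂ →ₐ[R] Γ(V.left, ⊤) => G x) hF

end Affine

end Groth.Agent.Lib.Helper10.PtsBij
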