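import Mathlib

/-!
# Noetherian domains in which a nonzero element lies in every nonzero prime

Key lemma for the Jacobson / punctured spectrum cluster (EGA IV 10.5).
-/

namespace Groth.Agent.Lib.Helper10.PunctJac

variable {B : Type*} [CommRing B] [IsDomain B] [IsNoetherianRing B]

/-- If `f ≠ 0` lies in every nonzero prime of the noetherian domain `B`, then every nonzero prime
is minimal over `(f)`. -/
theorem mem_minimalPrimes_of_forall_mem {f : B} (hf : f ≠ 0)
    (h : ∀ q : Ideal B, q.IsPrime → q ≠ ⊥ → f ∈ q) (q : Ideal B) [hq : q.IsPrime] (hq0 : q ≠ ⊥) :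
    q ∈ (Ideal.span {f}).minimalPrimes := by
  classical
  set S := (Ideal.span {f}).minimalPrimes with hS
  have hSfin : S.Finite := Ideal.finite_minimalPrimes_of_isNoetherianRing B _
  have hfq : Ideal.span {f} ≤ q := by
    rw [Ideal.span_singleton_le_iff_mem]; exact h q hq hq0
  obtain ⟨p, hpS, hpq⟩ := Ideal.exists_minimalPrimes_le hfq
  by_contra hqS
  -- q is not contained in the union of S
  have hnot : ¬ ((q : Set B) ⊆ ⋃ I ∈ S, (I : Set B)) := by
    intro hsub
    rw [Ideal.subset_union_prime_finite hSfin ⊥ ⊥ (fun I hI _ _ => hI.1.1)] at hsub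
    obtain ⟨p', hp'S, hqp'⟩ := hsub
    have : p' ≤ p := hp'S.2 ⟨hpS.1.1, hpS.1.2⟩ (hpq.trans hqp')
    have : q = p' := le_antisymm hqp' (this.trans hpq)
    exact hqS (this ▸ hp'S)
  rw [Set.not_subset] at hnot
  obtain ⟨g, hgq, hgS⟩ := hnot
  simp only [Set.mem_iUnion, SetLike.mem_coe, not_exists] at hgS
  have hg0 : g ≠ 0 := fun h0 => hgS p hpS (h0 ▸ p.zero_mem)
  have hgq' : Ideal.span {g} ≤ q := by
    rw [Ideal.span_singleton_le_iff_mem]; exact hgq
  obtain ⟨q', hq'S, hq'q⟩ := Ideal.exists_minimalPrimes_le hgq'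
  have : q'.IsPrime := hq'S.1.1
  have hq'ht : q'.height ≤ 1 :=
    Ideal.height_le_one_of_isPrincipal_of_mem_minimalPrimes (Ideal.span {g}) q' hq'S
  have hgq'' : g ∈ q' := by
    have := hq'S.1.2
    rw [Ideal.span_singleton_le_iff_mem] at this; exact this
  have hq'0 : q' ≠ ⊥ := fun h0 => hg0 (by simpa [h0] using hgq'')
  have hfq' : Ideal.span {f} ≤ q' := by
    rw [Ideal.span_singleton_le_iff_mem]; exact h q' inferInstance hq'0
  obtain ⟨p'', hp''S, hp''q'⟩ := Ideal.exists_minimalPrimes_le hfq'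
  have : p''.IsPrime := hp''S.1.1
  have hfp'' : f ∈ p'' := by
    have := hp''S.1.2
    rw [Ideal.span_singleton_le_iff_mem] at this; exact this
  have hp''0 : p'' ≠ ⊥ := fun h0 => hf (by simpa [h0] using hfp'')
  have hp''ht : 1 ≤ p''.height := by
    rw [ENat.one_le_iff_ne_zero]
    intro h0
    exact hp''0 (Ideal.height_eq_zero_iff_eq_bot.mp h0)
  have : p'' = q' := Ideal.eq_of_le_of_height_le (I := p'') (J := q') hp''q' (hq'ht.trans hp''ht)
  exact hgS p'' hp''S (this ▸ hgq'')

/-- Under the same hypothesis, the set of primes of `B` is finite. -/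
theorem finite_primes_of_forall_mem {f : B} (hf : f ≠ 0)
    (h : ∀ q : Ideal B, q.IsPrime → q ≠ ⊥ → f ∈ q) :
    {q : Ideal B | q.IsPrime}.Finite := by
  refine ((Ideal.finite_minimalPrimes_of_isNoetherianRing B (Ideal.span {f})).insert ⊥).subset ?_
  intro q hq
  by_cases hq0 : q = ⊥
  · exact Or.inl hq0
  · have : q.IsPrime := hq
    exact Or.inr (mem_minimalPrimes_of_forall_mem hf h q hq0)

/-- Under the same hypothesis, every nonzero prime is maximal. -/
theorem isMaximal_of_forall_mem {f : B} (hf : f ≠ 0)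
    (h : ∀ q : Ideal B, q.IsPrime → q ≠ ⊥ → f ∈ q) (q : Ideal B) [hq : q.IsPrime] (hq0 : q ≠ ⊥) :
    q.IsMaximal := by
  obtain ⟨m, hm, hqm⟩ := Ideal.exists_le_maximal q hq.ne_top
  have := hm.isPrime
  have hm0 : m ≠ ⊥ := fun h0 => hq0 (le_bot_iff.mp (h0 ▸ hqm))
  have h1 := mem_minimalPrimes_of_forall_mem hf h q hq0
  have h2 := mem_minimalPrimes_of_forall_mem hf h m hm0
  have : m ≤ q := h2.2 ⟨hq, h1.1.2⟩ hqm
  rwa [le_antisymm hqm this]

/-- Under the same hypothesis, every prime has height at most one. -/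
theorem height_le_one_of_forall_mem {f : B} (hf : f ≠ 0)
    (h : ∀ q : Ideal B, q.IsPrime → q ≠ ⊥ → f ∈ q) (q : Ideal B) [hq : q.IsPrime] :
    q.height ≤ 1 := by
  by_cases hq0 : q = ⊥
  · subst hq0; simp [Ideal.height_bot]
  · exact Ideal.height_le_one_of_isPrincipal_of_mem_minimalPrimes (Ideal.span {f}) q
      (mem_minimalPrimes_of_forall_mem hf h q hq0)

theorem ringKrullDim_le_one_of_forall_mem {f : B} (hf : f ≠ 0)
    (h : ∀ q : Ideal B, q.IsPrime → q ≠ ⊥ → f ∈ q) :
    ringKrullDim B ≤ 1 := by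
  rw [ringKrullDim_le_iff_height_le]
  intro q hq
  exact_mod_cast height_le_one_of_forall_mem hf h q

section Ring

variable {R : Type*} [CommRing R] [IsNoetherianRing R]

/-- `R` noetherian, `p` prime, `g ∉ p` such that `V(p) ∩ D(g) = {p}`.  Then every prime of `R ⧸ p`
that is nonzero contains the class of `g`. -/
theorem mk_mem_of_forall_eq {p : Ideal R} [p.IsPrime] {g : R}
    (h : ∀ q : Ideal R, q.IsPrime → p ≤ q → g ∉ q → q = p)
    (q' : Ideal (R ⧸ p)) (hq' : q'.IsPrime) (hq'0 : q' ≠ ⊥) : Ideal.Quotient.mk p g ∈ q' := by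
  by_contra hg'
  have hQprime : (q'.comap (Ideal.Quotient.mk p)).IsPrime := Ideal.comap_isPrime _ q'
  have hPQ : p ≤ q'.comap (Ideal.Quotient.mk p) := by
    intro x hx
    rw [Ideal.mem_comap, Ideal.Quotient.eq_zero_iff_mem.mpr hx]
    exact q'.zero_mem
  have := h _ hQprime hPQ (fun hmem => hg' (Ideal.mem_comap.mp hmem))
  apply hq'0
  rw [← Ideal.map_comap_of_surjective _ Ideal.Quotient.mk_surjective q', this,
    Ideal.map_quotient_self]

/-- `R` noetherian, `p` prime, `g ∉ p` such that `V(p) ∩ D(g) = {p}`.  Then every prime strictly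
containing `p` is maximal. -/
theorem isMaximal_of_lt_of_forall_eq {p : Ideal R} [p.IsPrime] {g : R} (hg : g ∉ p)
    (h : ∀ q : Ideal R, q.IsPrime → p ≤ q → g ∉ q → q = p)
    (q : Ideal R) [hq : q.IsPrime] (hpq : p < q) : q.IsMaximal := by
  have hf : (Ideal.Quotient.mk p g) ≠ 0 := by
    rw [Ne, Ideal.Quotient.eq_zero_iff_mem]; exact hg
  have hker : RingHom.ker (Ideal.Quotient.mk p) ≤ q := by
    rw [Ideal.mk_ker]; exact hpq.le
  have hqprime : (q.map (Ideal.Quotient.mk p)).IsPrime :=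
    Ideal.map_isPrime_of_surjective Ideal.Quotient.mk_surjective hker
  have hq0 : q.map (Ideal.Quotient.mk p) ≠ ⊥ := by
    intro h0
    rw [Ideal.map_eq_bot_iff_le_ker, Ideal.mk_ker] at h0
    exact (not_le_of_gt hpq) h0
  have hmax := isMaximal_of_forall_mem hf (mk_mem_of_forall_eq h) (q.map (Ideal.Quotient.mk p)) hq0
  have hcomap : (q.map (Ideal.Quotient.mk p)).comap (Ideal.Quotient.mk p) = q := by
    rw [Ideal.comap_map_of_surjective _ Ideal.Quotient.mk_surjective]
    rw [← RingHom.ker_eq_comap_bot]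
    exact sup_eq_left.mpr hker
  rw [← hcomap]
  exact Ideal.comap_isMaximal_of_surjective _ Ideal.Quotient.mk_surjective

end Ring

section Dim

variable {R : Type*} [CommRing R]

theorem one_le_ringKrullDim_quotient {p M : Ideal R} [hp : p.IsPrime] [hM : M.IsPrime] (h : p < M) :
    1 ≤ ringKrullDim (R ⧸ p) := by
  have hker : RingHom.ker (Ideal.Quotient.mk p) ≤ M := by
    rw [Ideal.mk_ker]; exact h.le
  have hMprime : (M.map (Ideal.Quotient.mk p)).IsPrime :=
    Ideal.map_isPrime_of_surjective Ideal.Quotient.mk_surjective hker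
  have hM0 : M.map (Ideal.Quotient.mk p) ≠ ⊥ := by
    intro h0
    rw [Ideal.map_eq_bot_iff_le_ker, Ideal.mk_ker] at h0
    exact (not_le_of_gt h) h0
  have h1 : (1 : ℕ∞) ≤ (M.map (Ideal.Quotient.mk p)).height := by
    rw [ENat.one_le_iff_ne_zero]
    intro h0
    exact hM0 (Ideal.height_eq_zero_iff_eq_bot.mp h0)
  calc (1 : WithBot ℕ∞) ≤ ((M.map (Ideal.Quotient.mk p)).height : WithBot ℕ∞) := by
        exact_mod_cast h1
    _ ≤ ringKrullDim (R ⧸ p) := Ideal.height_le_ringKrullDim_of_isPrime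

theorem two_le_ringKrullDim_quotient {p q M : Ideal R} [hp : p.IsPrime] [hq : q.IsPrime]
    [hM : M.IsPrime] (h : p < q) (h' : q < M) :
    2 ≤ ringKrullDim (R ⧸ p) := by
  have hkerq : RingHom.ker (Ideal.Quotient.mk p) ≤ q := by
    rw [Ideal.mk_ker]; exact h.le
  have hkerM : RingHom.ker (Ideal.Quotient.mk p) ≤ M := hkerq.trans h'.le
  have hqprime : (q.map (Ideal.Quotient.mk p)).IsPrime :=
    Ideal.map_isPrime_of_surjective Ideal.Quotient.mk_surjective hkerq
  have hMprime : (M.map (Ideal.Quotient.mk p)).IsPrime :=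
    Ideal.map_isPrime_of_surjective Ideal.Quotient.mk_surjective hkerM
  have hq0 : q.map (Ideal.Quotient.mk p) ≠ ⊥ := by
    intro h0
    rw [Ideal.map_eq_bot_iff_le_ker, Ideal.mk_ker] at h0
    exact (not_le_of_gt h) h0
  have h1 : (1 : ℕ∞) ≤ (q.map (Ideal.Quotient.mk p)).height := by
    rw [ENat.one_le_iff_ne_zero]
    intro h0
    exact hq0 (Ideal.height_eq_zero_iff_eq_bot.mp h0)
  have hlt : q.map (Ideal.Quotient.mk p) < M.map (Ideal.Quotient.mk p) := by
    refine lt_of_le_of_ne (Ideal.map_mono h'.le) ?_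
    intro heq
    have h2 := congrArg (Ideal.comap (Ideal.Quotient.mk p)) heq
    rw [Ideal.comap_map_of_surjective _ Ideal.Quotient.mk_surjective,
      Ideal.comap_map_of_surjective _ Ideal.Quotient.mk_surjective,
      ← RingHom.ker_eq_comap_bot, sup_eq_left.mpr hkerq, sup_eq_left.mpr hkerM] at h2
    exact h'.ne h2
  have h2 : (2 : ℕ∞) ≤ (M.map (Ideal.Quotient.mk p)).height := by
    calc (2 : ℕ∞) = 1 + 1 := by norm_num
      _ ≤ (q.map (Ideal.Quotient.mk p)).height + 1 := by gcongr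
      _ ≤ (M.map (Ideal.Quotient.mk p)).height := Ideal.height_add_one_le_of_lt_of_isPrime hlt
  calc (2 : WithBot ℕ∞) = ((2 : ℕ∞) : WithBot ℕ∞) := rfl
    _ ≤ ((M.map (Ideal.Quotient.mk p)).height : WithBot ℕ∞) := WithBot.coe_le_coe.mpr h2
    _ ≤ ringKrullDim (R ⧸ p) := Ideal.height_le_ringKrullDim_of_isPrime

/-- If there are no primes strictly between `p` and ... : every prime of `R ⧸ p` other than `⊥`
has only `⊥` below it. -/
theorem ringKrullDim_quotient_le_one {p : Ideal R} [hp : p.IsPrime]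
    (h : ∀ q q' : Ideal R, q.IsPrime → q'.IsPrime → p ≤ q → q < q' → q = p) :
    ringKrullDim (R ⧸ p) ≤ 1 := by
  rw [ringKrullDim_le_iff_height_le]
  intro Q hQ
  have : Q.height ≤ ((1 : ℕ) : ℕ∞) := by
    rw [Ideal.height_le_iff]
    intro Q' hQ' hlt
    have hPQ : p ≤ Q'.comap (Ideal.Quotient.mk p) := by
      intro x hx
      rw [Ideal.mem_comap, Ideal.Quotient.eq_zero_iff_mem.mpr hx]
      exact Q'.zero_mem
    have hlt' : Q'.comap (Ideal.Quotient.mk p) < Q.comap (Ideal.Quotient.mk p) := by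
      refine lt_of_le_of_ne (Ideal.comap_mono hlt.le) ?_
      intro heq
      have h2 := congrArg (Ideal.map (Ideal.Quotient.mk p)) heq
      rw [Ideal.map_comap_of_surjective _ Ideal.Quotient.mk_surjective,
        Ideal.map_comap_of_surjective _ Ideal.Quotient.mk_surjective] at h2
      exact hlt.ne h2
    have := h _ _ (Ideal.comap_isPrime _ Q') (Ideal.comap_isPrime _ Q) hPQ hlt'
    have hQ'0 : Q' = ⊥ := by
      rw [← Ideal.map_comap_of_surjective _ Ideal.Quotient.mk_surjective Q', this,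
        Ideal.map_quotient_self]
    rw [hQ'0, Ideal.height_bot]
    exact_mod_cast zero_lt_one
  exact_mod_cast this

end Dim

section Top

theorem isClosed_singleton_subtype_iff {X : Type*} [TopologicalSpace X] {Y : Set X} (p : Y) :
    IsClosed ({p} : Set Y) ↔ ∀ q : X, q ∈ Y → p.1 ⤳ q → q = p.1 := by
  rw [← closure_subset_iff_isClosed,
    Topology.IsInducing.subtypeVal.closure_eq_preimage_closure_image, Set.image_singleton]
  constructor
  · intro h q hq hpq
    have : (⟨q, hq⟩ : Y) ∈ ({p} : Set Y) := h (by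
      show q ∈ closure {p.1}
      exact specializes_iff_mem_closure.mp hpq)
    exact congrArg Subtype.val this
  · intro h q hq
    have := h q.1 q.2 (specializes_iff_mem_closure.mpr hq)
    exact Subtype.ext this

/-- A locally closed point of the spectrum of a noetherian ring: there is a basic open `D(g)`
with `V(x) ∩ D(g) = {x}`. -/
theorem exists_basicOpen_of_isLocallyClosed_singleton {R : Type*} [CommRing R]
    {x : PrimeSpectrum R} (hx : IsLocallyClosed ({x} : Set (PrimeSpectrum R))) :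
    ∃ g : R, g ∉ x.asIdeal ∧
      ∀ q : Ideal R, q.IsPrime → x.asIdeal ≤ q → g ∉ q → q = x.asIdeal := by
  obtain ⟨U, Z, hU, hZ, hUZ⟩ := hx
  have hxU : x ∈ U := (hUZ ▸ Set.mem_singleton x : x ∈ U ∩ Z).1
  have hxZ : x ∈ Z := (hUZ ▸ Set.mem_singleton x : x ∈ U ∩ Z).2
  obtain ⟨v, ⟨g, rfl⟩, hxv, hvU⟩ :=
    PrimeSpectrum.isTopologicalBasis_basic_opens.exists_subset_of_mem_open hxU hU
  refine ⟨g, by simpa using hxv, ?_⟩
  intro q hq hxq hgq
  have h1 : (⟨q, hq⟩ : PrimeSpectrum R) ∈ U := hvU (by simpa using hgq)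
  have hsp : x ⤳ (⟨q, hq⟩ : PrimeSpectrum R) := by
    rw [← PrimeSpectrum.le_iff_specializes]; exact hxq
  have h2 : (⟨q, hq⟩ : PrimeSpectrum R) ∈ Z := by
    have : closure {x} ⊆ Z := hZ.closure_subset_iff.mpr (Set.singleton_subset_iff.mpr hxZ)
    exact this (specializes_iff_mem_closure.mp hsp)
  have : (⟨q, hq⟩ : PrimeSpectrum R) ∈ ({x} : Set (PrimeSpectrum R)) := hUZ ▸ ⟨h1, h2⟩
  exact congrArg PrimeSpectrum.asIdeal this

/-- In the spectrum of a noetherian ring, every proper specialization of a locally closed point is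
a closed point. -/
theorem isClosed_singleton_of_specializes_of_isLocallyClosed {R : Type*} [CommRing R]
    [IsNoetherianRing R] {x y : PrimeSpectrum R}
    (hx : IsLocallyClosed ({x} : Set (PrimeSpectrum R))) (hxy : x ⤳ y) (hne : y ≠ x) :
    IsClosed ({y} : Set (PrimeSpectrum R)) := by
  obtain ⟨g, hg, h⟩ := exists_basicOpen_of_isLocallyClosed_singleton hx
  rw [PrimeSpectrum.isClosed_singleton_iff_isMaximal]
  have hle : x.asIdeal ≤ y.asIdeal := (PrimeSpectrum.le_iff_specializes x y).mpr hxy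
  have hlt : x.asIdeal < y.asIdeal := lt_of_le_of_ne hle (fun heq => hne (PrimeSpectrum.ext heq.symm))
  exact isMaximal_of_lt_of_forall_eq hg h y.asIdeal hlt

end Top

section JacField

/-- A Jacobson domain with finitely many maximal ideals is a field. -/
theorem isField_of_isJacobsonRing_of_finite_maximalSpectrum {B : Type*} [CommRing B] [IsDomain B]
    [hJB : IsJacobsonRing B] [hfin : Finite (MaximalSpectrum B)] : IsField B := by
  classical
  have hbot : (⊥ : Ideal B).jacobson = ⊥ :=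
    (isJacobsonRing_iff_prime_eq.mp hJB) ⊥ Ideal.isPrime_bot
  haveI : Fintype (MaximalSpectrum B) := Fintype.ofFinite _
  have hle : (Finset.univ : Finset (MaximalSpectrum B)).inf (fun m => m.asIdeal) ≤ ⊥ := by
    rw [← hbot, Ideal.jacobson]
    refine le_sInf ?_
    rintro J ⟨-, hJmax⟩
    exact Finset.inf_le (f := fun m : MaximalSpectrum B => m.asIdeal)
      (Finset.mem_univ (⟨J, hJmax⟩ : MaximalSpectrum B))
  rw [Ideal.IsPrime.inf_le' Ideal.isPrime_bot] at hle
  obtain ⟨m, -, hm⟩ := hle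
  have hm0 : m.asIdeal = ⊥ := le_bot_iff.mp hm
  rw [Ring.isField_iff_maximal_bot]
  exact hm0 ▸ m.isMaximal

end JacField

end Groth.Agent.Lib.Helper10.PunctJac
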