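import Mathlib
import Groth.Agent.Lib.Helper10PunctJac

/-!
# Locally closed points of locally noetherian schemes
-/

universe u

namespace Groth.Agent.Lib.Helper10.PunctJac

open AlgebraicGeometry Topology

theorem exists_affine_chart (X : Scheme.{u}) [IsLocallyNoetherian X] (x : X) :
    ∃ (R : CommRingCat.{u}) (f : Spec R ⟶ X) (_ : IsOpenImmersion f) (x' : Spec R),
      f x' = x ∧ IsNoetherianRing R := by
  obtain ⟨x', hx'⟩ := X.affineOpenCover.covers x
  have hopen : IsOpenImmersion (X.affineOpenCover.f (X.affineOpenCover.idx x)) :=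
    X.affineOpenCover.map_prop _
  exact ⟨_, X.affineOpenCover.f (X.affineOpenCover.idx x), hopen, x', hx',
    isLocallyNoetherian_Spec.mp (isLocallyNoetherian_of_isOpenImmersion
      (X.affineOpenCover.f (X.affineOpenCover.idx x)))⟩

/-- In a locally noetherian scheme, every proper specialization of a locally closed point is a
closed point. -/
theorem isClosed_singleton_of_specializes_of_isLocallyClosed_scheme (X : Scheme.{u})
    [IsLocallyNoetherian X] {x y : X}
    (hx : IsLocallyClosed ({x} : Set X)) (hxy : x ⤳ y) (hne : y ≠ x) :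
    IsClosed ({y} : Set X) := by
  rw [← closure_subset_iff_isClosed]
  intro z hz
  have hyz : y ⤳ z := specializes_iff_mem_closure.mpr hz
  obtain ⟨R, f, hopen, z', rfl, hnoeth⟩ := exists_affine_chart X z
  have hf : IsOpenEmbedding f := f.isOpenEmbedding
  obtain ⟨y', rfl⟩ : y ∈ Set.range f :=
    hyz.mem_open hf.isOpen_range ⟨z', rfl⟩
  obtain ⟨x', rfl⟩ : x ∈ Set.range f :=
    hxy.mem_open hf.isOpen_range ⟨y', rfl⟩
  have h1 : x' ⤳ y' := hf.isInducing.specializes_iff.mp hxy
  have h2 : y' ⤳ z' := hf.isInducing.specializes_iff.mp hyz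
  have hlc : IsLocallyClosed ({x'} : Set (Spec R)) := by
    have := hx.preimage hf.continuous
    rwa [← Set.image_singleton, Set.preimage_image_eq _ hf.injective] at this
  have hcl : IsClosed ({y'} : Set (Spec R)) :=
    isClosed_singleton_of_specializes_of_isLocallyClosed (R := R)
      hlc h1 (fun h => hne (by rw [h]))
  have : z' = y' := by
    have := specializes_iff_mem_closure.mp h2
    rw [hcl.closure_eq] at this
    exact this
  rw [this]; rfl

/-- A nonempty locally closed subset `Z` of a locally noetherian scheme has a point closed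
in `Z`. -/
theorem exists_closure_inter_subset_singleton (X : Scheme.{u}) [IsLocallyNoetherian X]
    {Z : Set X} (hZ : IsLocallyClosed Z) (hne : Z.Nonempty) :
    ∃ z ∈ Z, closure {z} ∩ Z ⊆ {z} := by
  obtain ⟨x, hxZ⟩ := hne
  obtain ⟨R, f, hopen, x', rfl, hnoeth⟩ := exists_affine_chart X x
  have hf : IsOpenEmbedding f := f.isOpenEmbedding
  let Z' : Set (Spec R) := f ⁻¹' Z
  have hZ' : IsLocallyClosed Z' := hZ.preimage hf.continuous
  have hx'Z : x' ∈ Z' := hxZ
  have : CompactSpace Z' :=
    isCompact_iff_compactSpace.mp (TopologicalSpace.NoetherianSpace.isCompact Z')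
  obtain ⟨w, -, hw⟩ := IsClosed.exists_closed_singleton
    (isClosed_univ : IsClosed (Set.univ : Set Z')) ⟨⟨x', hx'Z⟩, trivial⟩
  rw [isClosed_singleton_subtype_iff] at hw
  have hlc' : IsLocallyClosed ({w.1} : Set (Spec R)) := by
    have : ({w.1} : Set (Spec R)) = closure {w.1} ∩ Z' := by
      ext q; constructor
      · rintro rfl; exact ⟨subset_closure rfl, w.2⟩
      · rintro ⟨hq1, hq2⟩; exact hw q hq2 (specializes_iff_mem_closure.mpr hq1)
    rw [this]; exact isClosed_closure.isLocallyClosed.inter hZ'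
  have hlc : IsLocallyClosed ({f w.1} : Set X) := by
    rw [← Set.image_singleton]
    exact hlc'.image hf.isInducing hf.isOpen_range.isLocallyClosed
  by_cases hcase : ∀ v ∈ Z, f w.1 ⤳ v → v = f w.1
  · exact ⟨f w.1, w.2,
      fun v ⟨hv1, hv2⟩ => hcase v hv2 (specializes_iff_mem_closure.mpr hv1)⟩
  · push Not at hcase
    obtain ⟨v, hvZ, hsp, hvne⟩ := hcase
    have hvcl := isClosed_singleton_of_specializes_of_isLocallyClosed_scheme X hlc hsp hvne
    exact ⟨v, hvZ, fun u ⟨hu1, _⟩ => by rw [hvcl.closure_eq] at hu1; exact hu1⟩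

end Groth.Agent.Lib.Helper10.PunctJac
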