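import Mathlib

/-!
# Open immersions of quasi-affine schemes and `toSpecΓ` (helper10)
-/
set_option autoImplicit false
universe u
open CategoryTheory CategoryTheory.Limits AlgebraicGeometry TopologicalSpace Opposite

namespace Groth.Agent.Lib.Helper10.QAffPB

set_option backward.isDefEq.respectTransparency.types false in
/-- if `U_r` is affine (`U` qcqs) then `D(r) ⊆ Spec Γ(U)` lies in the range of `U.toSpecΓ`. -/
theorem basicOpen_le_opensRange (U : Scheme.{u}) [CompactSpace U] [QuasiSeparatedSpace U]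
    (r : Γ(U, ⊤)) (hr : IsAffineOpen (U.basicOpen r)) :
    (PrimeSpectrum.basicOpen r : Set (PrimeSpectrum Γ(U, ⊤))) ⊆ Set.range U.toSpecΓ := by
  intro p hp
  have hloc := isLocalization_basicOpen_of_qcqs (X := U) (U := ⊤) isCompact_univ
    isQuasiSeparated_univ r
  have hrange := PrimeSpectrum.localization_away_comap_range Γ(U, U.basicOpen r) r
  have hp' : p ∈ Set.range (PrimeSpectrum.comap (algebraMap Γ(U, ⊤) Γ(U, U.basicOpen r))) := by
    rw [hrange]; exact hp
  obtain ⟨q, rfl⟩ := hp'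
  have hiso : IsIso (U.basicOpen r).toSpecΓ := by rw [← hr.isoSpec_hom]; infer_instance
  have hsurj : Function.Surjective (U.basicOpen r).toSpecΓ :=
    (ConcreteCategory.bijective_of_isIso ((U.basicOpen r).toSpecΓ.base)).2
  obtain ⟨x, rfl⟩ := hsurj q
  refine ⟨(U.basicOpen r).ι x, ?_⟩
  have := Scheme.Opens.toSpecΓ_SpecMap_presheaf_map_top (U.basicOpen r)
  have h2 := congrArg (fun g => g x) this
  simp only [Scheme.Hom.comp_apply] at h2
  exact h2.symm

set_option backward.isDefEq.respectTransparency.types false in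
/-- **S9804**. -/
theorem main {U V : Scheme.{u}} (j : U ⟶ V) [IsOpenImmersion j] [U.IsQuasiAffine]
    [V.IsQuasiAffine] :
    IsPullback (𝟙 U) U.toSpecΓ (j ≫ V.toSpecΓ) (Spec.map j.appTop) := by
  have H : U.toSpecΓ ≫ Spec.map j.appTop = 𝟙 U ≫ j ≫ V.toSpecΓ := by
    rw [Category.id_comp, Scheme.toSpecΓ_naturality]
  refine IsOpenImmersion.isPullback (𝟙 U) U.toSpecΓ (j ≫ V.toSpecΓ) (Spec.map j.appTop) H ?_
  apply le_antisymm
  · intro p hp
    have hp' : (Spec.map j.appTop) p ∈ (j ≫ V.toSpecΓ).opensRange := hp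
    obtain ⟨_, ⟨_, ⟨a, rfl⟩, rfl⟩, hpa, haU⟩ :=
      PrimeSpectrum.isBasis_basic_opens.exists_subset_of_mem_open
      hp' (j ≫ V.toSpecΓ).opensRange.2
    have hpre : (Spec.map j.appTop) ⁻¹ᵁ (PrimeSpectrum.basicOpen a) =
        PrimeSpectrum.basicOpen (j.appTop a) := by
      ext q
      rfl
    have hpb : p ∈ PrimeSpectrum.basicOpen (j.appTop a) := by
      rw [← hpre]; exact hpa
    have hbo : (j ≫ V.toSpecΓ) ⁻¹ᵁ (PrimeSpectrum.basicOpen a) = U.basicOpen (j.appTop a) := by
      have e : j ≫ V.toSpecΓ = U.toSpecΓ ≫ Spec.map j.appTop := Scheme.toSpecΓ_naturality j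
      rw [e, Scheme.Hom.comp_preimage, hpre, Scheme.toSpecΓ_preimage_basicOpen]
    have haff : IsAffineOpen (U.basicOpen (j.appTop a)) := by
      have hle : (PrimeSpectrum.basicOpen a : (Spec Γ(V, ⊤)).Opens) ≤
          (j ≫ V.toSpecΓ).opensRange := haU
      have himg : (j ≫ V.toSpecΓ) ''ᵁ (U.basicOpen (j.appTop a)) =
          (PrimeSpectrum.basicOpen a : (Spec Γ(V, ⊤)).Opens) := by
        rw [← hbo, Scheme.Hom.image_preimage_eq_opensRange_inf]
        exact inf_eq_right.mpr hle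
      rw [← Scheme.Hom.isAffineOpen_iff_of_isOpenImmersion (j ≫ V.toSpecΓ), himg]
      exact IsAffineOpen.Spec_basicOpen a
    exact basicOpen_le_opensRange U (j.appTop a) haff hpb
  · rintro _ ⟨x, rfl⟩
    show (Spec.map j.appTop) (U.toSpecΓ x) ∈ (j ≫ V.toSpecΓ).opensRange
    have := congrArg (fun g => g x) H
    simp only [Scheme.Hom.comp_apply] at this
    rw [this]
    exact ⟨_, rfl⟩

end Groth.Agent.Lib.Helper10.QAffPB
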