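/-
Helper library (helper10): a sheaf of rings `B` with `O_S ⟶ B` which is quasi-coherent as an `O_S`-module
gives a `RelSpec.QCAlg`; existence of relative spectra.
-/
import Mathlib
import Groth.Prelude.Def_RelSpec
import Groth.Agent.Lib.Helper2Push
import Groth.Agent.S8255

set_option autoImplicit false
universe u
open CategoryTheory AlgebraicGeometry TopologicalSpace Opposite

namespace Groth.Agent.Lib.Helper10.QCAlgOfSheaf

variable {S : Scheme.{u}} (B : Sheaf (Opens.grothendieckTopology S) CommRingCat.{u}) (φ : S.sheaf ⟶ B)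

/-- `B` viewed as an `O_S`-module through `φ`. -/
noncomputable abbrev modOf : S.Modules := (SheafOfModules.restrictScalars
      ((sheafCompose (Opens.grothendieckTopology S) (forget₂ CommRingCat.{u} RingCat.{u})).map φ)).obj
      (SheafOfModules.unit ((sheafCompose (Opens.grothendieckTopology S) (forget₂ CommRingCat.{u} RingCat.{u})).obj B))

/-- Abstract algebra form of "localizing on `D(r)`". -/
theorem away_of_elementwise {R A A' R' : Type*} [CommRing R] [CommRing A] [CommRing A'] [CommRing R']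
    (fU : R →+* A) (fD : R' →+* A') (ρB : A →+* A') (ρS : R →+* R')
    (hnat : ∀ a, ρB (fU a) = fD (ρS a)) (r : R) (hunit : IsUnit (ρS r))
    (hex : ∀ z : A', ∃ (n : ℕ) (t : A), ρB t = (fD (ρS r)) ^ n * z)
    (huniq : ∀ t : A, ρB t = 0 → ∃ n : ℕ, fU (r ^ n) * t = 0) :
    letI := ρB.toAlgebra
    IsLocalization.Away (fU r) A' := by
  letI := ρB.toAlgebra
  have halg : ∀ b : A, algebraMap A A' b = ρB b := fun b => rfl
  rw [IsLocalization.Away, isLocalization_iff]
  refine ⟨?_, ?_, ?_⟩
  · rintro ⟨_, n, rfl⟩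
    rw [map_pow, halg, hnat]
    exact (hunit.map fD).pow n
  · intro z
    obtain ⟨n, t, ht⟩ := hex z
    refine ⟨⟨t, ⟨_, n, rfl⟩⟩, ?_⟩
    show z * algebraMap A A' (fU r ^ n) = algebraMap A A' t
    rw [halg, halg, ht, map_pow, hnat, mul_comm]
  · intro a b hab
    rw [halg, halg] at hab
    have h0 : ρB (a - b) = 0 := by rw [map_sub, hab, sub_self]
    obtain ⟨n, hn⟩ := huniq (a - b) h0
    refine ⟨⟨_, n, rfl⟩, ?_⟩
    show fU r ^ n * a = fU r ^ n * b
    rw [map_pow, mul_sub, sub_eq_zero] at hn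
    exact hn

theorem isQC_of_isQuasicoherent (hB : (modOf.{u} B φ).IsQuasicoherent) :
    RelSpec.IsQC B.obj φ.hom := by
  intro U hU r
  haveI : (modOf B φ).IsQuasicoherent := hB
  have hloc := Groth.Agent.Lib.Helper2.Push.IsLocOn.of_isQuasicoherent hU (modOf B φ)
  refine away_of_elementwise (R := Γ(S, U)) (A := B.obj.obj (op U))
    (A' := B.obj.obj (op (S.basicOpen r))) (R' := Γ(S, S.basicOpen r))
    (φ.hom.app (op U)).hom (φ.hom.app (op (S.basicOpen r))).hom
    (B.obj.map (homOfLE (S.basicOpen_le r)).op).hom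
    (S.presheaf.map (homOfLE (S.basicOpen_le r)).op).hom ?_ r ?_ ?_ ?_
  · intro a
    have := φ.hom.naturality (homOfLE (S.basicOpen_le r)).op
    exact (congrArg (fun m => m.hom a) this).symm
  · exact S.toLocallyRingedSpace.toRingedSpace.isUnit_res_basicOpen r
  · intro z
    obtain ⟨n, t, ht⟩ := hloc.exists_extension r (show Γ(modOf B φ, S.basicOpen r) from z)
    refine ⟨n, (show B.obj.obj (op U) from t), ?_⟩
    have h2 : ((S.presheaf.map (homOfLE (S.basicOpen_le r)).op).hom r ^ n •
        (show Γ(modOf B φ, S.basicOpen r) from z) : Γ(modOf B φ, S.basicOpen r)) =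
        (show Γ(modOf B φ, S.basicOpen r) from
          ((φ.hom.app (op (S.basicOpen r))).hom
            ((S.presheaf.map (homOfLE (S.basicOpen_le r)).op).hom r ^ n) * z)) := rfl
    refine (ht.trans h2).trans ?_
    show (φ.hom.app (op (S.basicOpen r))).hom
            ((S.presheaf.map (homOfLE (S.basicOpen_le r)).op).hom r ^ n) * z = _
    exact congrArg (fun y => y * z) (RingHom.map_pow _ _ _)
  · intro t ht
    exact hloc.exists_pow_smul_eq_zero r (show Γ(modOf B φ, U) from t) ht

/-- The quasi-coherent algebra attached to `(B, φ)`. -/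
noncomputable def qcAlg (hB : (modOf.{u} B φ).IsQuasicoherent) : RelSpec.QCAlg S where
  presheaf := B.obj
  isSheaf := B.property
  str := φ.hom
  isQC := isQC_of_isQuasicoherent B φ hB

/-- Existence of the relative spectrum of a quasi-coherent algebra given as a sheaf of rings. -/
theorem exists_relSpec (hB : (modOf.{u} B φ).IsQuasicoherent) :
    ∃ (X : Scheme.{u}) (f : X ⟶ S) (_ : IsAffineHom f)
      (e : B ≅ (TopCat.Sheaf.pushforward CommRingCat.{u} f.base).obj X.sheaf),
      (φ ≫ e.hom).hom = f.c := by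
  let A := qcAlg B φ hB
  have hiso : IsIso A.gammaMap := Groth.Agent.S8255.result A
  let e₁ : A.π.base _* A.spec.presheaf ≅ A.presheaf := @asIso _ _ _ _ A.gammaMap hiso
  let e₀ : B.obj ≅ ((TopCat.Sheaf.pushforward CommRingCat.{u} A.π.base).obj A.spec.sheaf).obj :=
    e₁.symm
  refine ⟨A.spec, A.π, inferInstance, ObjectProperty.isoMk _ e₀, ?_⟩
  show φ.hom ≫ e₁.inv = A.π.c
  exact (Iso.comp_inv_eq e₁).mpr A.π_c_gammaMap.symm

end Groth.Agent.Lib.Helper10.QCAlgOfSheaf
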