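import Mathlib

set_option autoImplicit false
universe u
open CategoryTheory CategoryTheory.Limits AlgebraicGeometry TopologicalSpace

namespace Groth.Agent.Lib.Helper10.QCClosed

/-- For a quasi-compact morphism, the image of a closed set is closed as soon as it is stable under
specialization. -/
lemma isClosed_image_of_stableUnderSpecialization {X Y : Scheme.{u}} (f : X ⟶ Y) [QuasiCompact f]
    (Z : Set X) (hZ : IsClosed Z) (H : StableUnderSpecialization (f '' Z)) :
    IsClosed (f '' Z) := by
  rw [TopologicalSpace.IsOpenCover.isClosed_iff_coe_preimage (iSup_affineOpens_eq_top Y)]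
  intro V
  have hV : IsAffineOpen V.1 := V.2
  let e : Spec Γ(Y, V.1) ⟶ Y := hV.fromSpec
  -- reduce to closedness in `Spec Γ(Y, V)`
  suffices h : IsClosed (e ⁻¹' (f '' Z)) by
    have hι : hV.isoSpec.hom ≫ e = V.1.ι := by
      change hV.isoSpec.hom ≫ hV.isoSpec.inv ≫ V.1.ι = V.1.ι
      rw [Iso.hom_inv_id_assoc]
    have hv : ∀ v : V.1.toScheme, e (hV.isoSpec.hom v) = V.1.ι v := fun v =>
      congrArg (fun m : V.1.toScheme ⟶ Y => m v) hι
    have hc : IsClosed ((fun v : V.1.toScheme => e (hV.isoSpec.hom v)) ⁻¹' (f '' Z)) :=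
      h.preimage hV.isoSpec.hom.continuous
    have hfun : (fun v : V.1.toScheme => e (hV.isoSpec.hom v)) = fun v => V.1.ι v :=
      funext hv
    rw [hfun] at hc
    exact hc
  obtain ⟨R, g, hg⟩ := (isCompact_iff_exists (U := f ⁻¹ᵁ V.1)).mp
    (QuasiCompact.isCompact_preimage (f := f) V.1 V.1.2 hV.isCompact)
  have hrange : Set.range (g ≫ f) ⊆ Set.range e := by
    rw [hV.range_fromSpec]
    rintro _ ⟨r, rfl⟩
    have : g r ∈ Set.range g := ⟨r, rfl⟩
    rw [hg] at this
    exact this
  let k : Spec R ⟶ Spec Γ(Y, V.1) := IsOpenImmersion.lift e (g ≫ f) hrange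
  have hk : k ≫ e = g ≫ f := IsOpenImmersion.lift_fac _ _ _
  have hk' : ∀ r : Spec R, e (k r) = f (g r) := fun r =>
    congrArg (fun m : Spec R ⟶ Y => m r) hk
  let φ : Γ(Y, V.1) ⟶ R := Spec.preimage k
  have hφ : Spec.map φ = k := Spec.map_preimage k
  have himg : e ⁻¹' (f '' Z) = PrimeSpectrum.comap φ.hom '' (g ⁻¹' Z) := by
    ext p
    constructor
    · rintro ⟨z, hz, hzp⟩
      have hzV : z ∈ Set.range g := by
        rw [hg]
        change f z ∈ (V.1 : Set Y)
        rw [hzp, ← hV.range_fromSpec]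
        exact ⟨p, rfl⟩
      obtain ⟨r, rfl⟩ := hzV
      refine ⟨r, hz, ?_⟩
      apply e.isOpenEmbedding.injective
      have : e (Spec.map φ r) = f (g r) := by rw [hφ]; exact hk' r
      exact this.trans hzp
    · rintro ⟨r, hr, rfl⟩
      refine ⟨g r, hr, ?_⟩
      have : e (Spec.map φ r) = f (g r) := by rw [hφ]; exact hk' r
      exact this.symm
  rw [himg]
  apply PrimeSpectrum.isClosed_image_of_stableUnderSpecialization
  · exact hZ.preimage g.continuous
  · rw [← himg]
    exact H.preimage e.continuous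

end Groth.Agent.Lib.Helper10.QCClosed
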