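import Mathlib
import Groth.Prelude.Def_DerCA
import Groth.Prelude.Def_DRing3
import Groth.Prelude.Def_Wider
import Groth.Agent.Lib.Helper1ExtCech3

/-! `Γ_I` on complexes of injective modules over a Noetherian ring (helper10):
for a complex `C` of injectives, `Γ_I C` is acyclic when `C` is, and `Γ_I C ⟶ C` is a
quasi-isomorphism when the cohomology of `C` is `I`-power torsion.  Induction on generators via
`0 → Γ_{(f)+I} C → Γ_I C → (Γ_I C)_f → 0`. -/

set_option autoImplicit false
set_option maxHeartbeats 400000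
universe u
open CategoryTheory CategoryTheory.Limits

namespace Groth.Agent.Lib.Helper10.RGamA

open DerCA HomologicalComplex Groth.Agent.Lib.Helper1.ExtCech

variable {R : Type u} [CommRing R]

lemma torsionSub_mono {I₁ I₂ : Ideal R} (h : I₁ ≤ I₂) (M : Type u) [AddCommGroup M] [Module R M] :
    DRing.torsionSub I₂ M ≤ DRing.torsionSub I₁ M := by
  rintro m ⟨n, hn⟩
  exact ⟨n, fun a ha => hn a (Ideal.pow_right_mono h n ha)⟩

/-- `Γ_{I₂} ⟶ Γ_{I₁}` for `I₁ ≤ I₂`. -/
noncomputable def gammaLE {I₁ I₂ : Ideal R} (h : I₁ ≤ I₂) : DRing.gammaI I₂ ⟶ DRing.gammaI I₁ where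
  app M := ModuleCat.ofHom (Submodule.inclusion (torsionSub_mono h M))
  naturality _ _ _ := rfl

/-- `Γ_I` termwise on complexes. -/
noncomputable abbrev G (I : Ideal R) : DRing.Cx R ⥤ DRing.Cx R :=
  (DRing.gammaI I).mapHomologicalComplex (ComplexShape.up ℤ)

/-- the inclusion `Γ_I C ⟶ C`. -/
noncomputable def ιC (I : Ideal R) (C : DRing.Cx R) : (G I).obj C ⟶ C where
  f n := (DRing.gammaIι I).app (C.X n)
  comm' i j _ := (DRing.gammaIι I).naturality (C.d i j)

/-- the inclusion `Γ_{I₂} C ⟶ Γ_{I₁} C`. -/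
noncomputable def leC {I₁ I₂ : Ideal R} (h : I₁ ≤ I₂) (C : DRing.Cx R) :
    (G I₂).obj C ⟶ (G I₁).obj C :=
  (NatTrans.mapHomologicalComplex (gammaLE h) (ComplexShape.up ℤ)).app C

@[reassoc]
lemma leC_ιC {I₁ I₂ : Ideal R} (h : I₁ ≤ I₂) (C : DRing.Cx R) :
    leC h C ≫ ιC I₁ C = ιC I₂ C := by
  ext n x
  rfl

@[reassoc]
lemma ιC_naturality (I : Ideal R) {C D : DRing.Cx R} (φ : C ⟶ D) :
    (G I).map φ ≫ ιC I D = ιC I C ≫ φ := by
  ext n x
  rfl

/-- termwise injective complexes. -/
def TI (C : DRing.Cx R) : Prop := ∀ n : ℤ, Module.Injective R (C.X n)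

lemma TI_G [IsNoetherianRing R] (I : Ideal R) {C : DRing.Cx R} (hC : TI C) : TI ((G I).obj C) := by
  intro n
  haveI := hC n
  exact injective_torsionSub I (C.X n)

/-- the short complex `Γ_{(f)+I} C ⟶ Γ_I C ⟶ (Γ_I C)_f`. -/
noncomputable def sc (I : Ideal R) (f : R) (C : DRing.Cx R) : ShortComplex (DRing.Cx R) :=
  ShortComplex.mk (leC (le_sup_right : I ≤ Ideal.span {f} ⊔ I) C)
    (locCxUnit (Submonoid.powers f) ((G I).obj C)) (by
      ext n x
      obtain ⟨hx1, k, hk⟩ := (mem_torsionSub_sup_iff I f (C.X n) x.1).1 x.2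
      change LocalizedModule.mkLinearMap (Submonoid.powers f) _
        (Submodule.inclusion (torsionSub_mono le_sup_right (C.X n)) x) = 0
      rw [IsLocalizedModule.eq_zero_iff (Submonoid.powers f)]
      refine ⟨⟨f ^ k, k, rfl⟩, ?_⟩
      apply Subtype.ext
      exact hk)

lemma sc_shortExact [IsNoetherianRing R] (I : Ideal R) (f : R) {C : DRing.Cx R} (hC : TI C) :
    (sc I f C).ShortExact := by
  apply HomologicalComplex.shortExact_of_degreewise_shortExact
  intro n
  apply ModuleCat.shortComplex_shortExact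
  · intro y
    constructor
    · intro hy
      change LocalizedModule.mkLinearMap (Submonoid.powers f) _ y = 0 at hy
      rw [IsLocalizedModule.eq_zero_iff (Submonoid.powers f)] at hy
      obtain ⟨⟨_, k, rfl⟩, hk⟩ := hy
      have hk' : f ^ k • y.1 = 0 := congrArg Subtype.val hk
      exact ⟨⟨y.1, (mem_torsionSub_sup_iff I f (C.X n) y.1).2 ⟨y.2, k, hk'⟩⟩, rfl⟩
    · rintro ⟨x, rfl⟩
      exact congrArg (fun φ => (φ.f n).hom x) (sc I f C).zero
  · intro x x' h
    apply Subtype.ext
    have h' := congrArg Subtype.val h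
    exact h'
  · intro z
    haveI := TI_G I hC n
    induction z using LocalizedModule.induction_on with
    | h y s =>
      obtain ⟨_, k, rfl⟩ := s
      obtain ⟨y', t, ht⟩ := exists_div_of_injective (((G I).obj C).X n) f y k
      refine ⟨y', ?_⟩
      change LocalizedModule.mkLinearMap (Submonoid.powers f) _ y' = _
      rw [LocalizedModule.mkLinearMap_apply, LocalizedModule.mk_eq]
      refine ⟨⟨f ^ t, t, rfl⟩, ?_⟩
      rw [smul_sub, sub_eq_zero] at ht
      change f ^ t • (f ^ k • y') = f ^ t • ((1 : R) • y)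
      rw [one_smul]
      exact ht

/-- a localisation at the powers of `f` of an `f`-power torsion module is zero -/
lemma subsingleton_of_isLocalizedModule_of_PT (f : R) {N N' : Type*} [AddCommGroup N]
    [AddCommGroup N'] [Module R N] [Module R N'] (g : N →ₗ[R] N')
    [IsLocalizedModule (Submonoid.powers f) g] (h : PT f N) : Subsingleton N' := by
  have hz : ∀ w : N', w = 0 := by
    intro w
    obtain ⟨⟨m, s⟩, hs⟩ := IsLocalizedModule.surj (Submonoid.powers f) g w
    obtain ⟨n, hn⟩ := h m
    apply IsLocalizedModule.smul_injective g (s * ⟨f ^ n, n, rfl⟩)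
    simp only [smul_zero]
    have h1 : (s * ⟨f ^ n, n, rfl⟩ : Submonoid.powers f) • w = f ^ n • ((s : R) • w) := by
      rw [← mul_smul, mul_comm]
      rfl
    have hs' : (s : R) • w = g m := hs
    rw [h1, hs', ← map_smul, hn, map_zero]
  exact ⟨fun z z' => (hz z).trans (hz z').symm⟩

/-- the localisation of `Γ_I C` at `f` has zero cohomology in degree `j` as soon as
`H^j(Γ_I C)` is `f`-power torsion -/
lemma isZero_homology_loc (f : R) (D : DRing.Cx R) (j : ℤ) (h : PT f (D.homology j)) :
    IsZero (((locCx (Submonoid.powers f)).obj D).homology j) := by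
  rw [ModuleCat.isZero_iff_subsingleton]
  haveI := isLocalizedModule_homologyMap (Submonoid.powers f) D j
  exact subsingleton_of_isLocalizedModule_of_PT f
    (HomologicalComplex.homologyMap (locCxUnit (Submonoid.powers f) D) j).hom h

lemma PT_of_subsingleton (f : R) (N : Type*) [AddCommGroup N] [Module R N] [Subsingleton N] :
    PT f N := fun _ => ⟨0, Subsingleton.elim _ _⟩

/-- step for acyclicity -/
lemma isZero_homology_step [IsNoetherianRing R] (I : Ideal R) (f : R) {C : DRing.Cx R}
    (hC : TI C) (h : ∀ j, IsZero (((G I).obj C).homology j)) (j : ℤ) :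
    IsZero (((G (Ideal.span {f} ⊔ I)).obj C).homology j) := by
  have hS := sc_shortExact I f hC
  have h3 : ∀ j, IsZero ((sc I f C).X₃.homology j) := fun j => by
    apply isZero_homology_loc
    haveI : Subsingleton (((G I).obj C).homology j) := ModuleCat.subsingleton_of_isZero (h j)
    exact PT_of_subsingleton f _
  exact (hS.homology_exact₁ (j - 1) j (by simp)).isZero_of_both_zeros
    ((h3 (j - 1)).eq_of_src _ _) ((h j).eq_of_tgt _ _)

/-- step for the quasi-isomorphism -/
lemma quasiIso_leC_step [IsNoetherianRing R] (I : Ideal R) (f : R) {C : DRing.Cx R}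
    (hC : TI C) (h : ∀ j, PT f (((G I).obj C).homology j)) :
    QuasiIso (leC (le_sup_right : I ≤ Ideal.span {f} ⊔ I) C) := by
  have hS := sc_shortExact I f hC
  have h3 : ∀ j, IsZero ((sc I f C).X₃.homology j) := fun j => isZero_homology_loc f _ j (h j)
  rw [quasiIso_iff]
  intro j
  rw [quasiIsoAt_iff_isIso_homologyMap]
  haveI : Mono (HomologicalComplex.homologyMap (sc I f C).f j) :=
    (hS.homology_exact₁ (j - 1) j (by simp)).mono_g ((h3 (j - 1)).eq_of_src _ _)
  haveI : Epi (HomologicalComplex.homologyMap (sc I f C).f j) :=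
    (hS.homology_exact₂ j).epi_f ((h3 j).eq_of_tgt _ _)
  exact isIso_of_mono_of_epi (HomologicalComplex.homologyMap (sc I f C).f j)

lemma isIso_ιC_bot (C : DRing.Cx R) : IsIso (ιC (⊥ : Ideal R) C) := by
  haveI : ∀ n, IsIso ((ιC (⊥ : Ideal R) C).f n) := fun n => by
    rw [ConcreteCategory.isIso_iff_bijective]
    constructor
    · intro x x' hx
      exact Subtype.ext hx
    · intro y
      exact ⟨⟨y, 1, fun a ha => by
        rw [pow_one] at ha
        rw [(Submodule.mem_bot R).1 ha, zero_smul]⟩, rfl⟩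
  exact HomologicalComplex.Hom.isIso_of_components _

lemma isPowerTorsion_mono {I₁ I₂ : Ideal R} (h : I₁ ≤ I₂) {N : Type*} [AddCommGroup N]
    [Module R N] (hN : LocCoh.IsPowerTorsion I₂ N) : LocCoh.IsPowerTorsion I₁ N := fun m => by
  obtain ⟨n, hn⟩ := hN m
  exact ⟨n, fun a ha => hn a (Ideal.pow_right_mono h n ha)⟩

lemma PT_of_isPowerTorsion {I : Ideal R} {f : R} (hf : f ∈ I) {N : Type*} [AddCommGroup N]
    [Module R N] (hN : LocCoh.IsPowerTorsion I N) : PT f N := fun m => by
  obtain ⟨n, hn⟩ := hN m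
  exact ⟨n, hn _ (Ideal.pow_mem_pow hf n)⟩

/-- `Γ_I` of an acyclic complex of injectives is acyclic (`I` generated by a list) -/
lemma isZero_homology_G_span [IsNoetherianRing R] (fs : List R) {C : DRing.Cx R}
    (hC : TI C) (h : ∀ j, IsZero (C.homology j)) (j : ℤ) :
    IsZero (((G (Ideal.span {x : R | x ∈ fs})).obj C).homology j) := by
  induction fs generalizing j with
  | nil =>
    have h0 : Ideal.span {x : R | x ∈ ([] : List R)} = ⊥ := by simp
    rw [h0]
    haveI := isIso_ιC_bot C
    exact (h j).of_iso ((HomologicalComplex.homologyFunctor _ _ j).mapIso (asIso (ιC (⊥ : Ideal R) C)))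
  | cons f fs ih =>
    rw [span_cons]
    exact isZero_homology_step _ f hC ih j

/-- `Γ_I C ⟶ C` is a quasi-isomorphism for a complex of injectives with `I`-power torsion
cohomology (`I` generated by a list) -/
lemma quasiIso_ιC_span [IsNoetherianRing R] (fs : List R) {C : DRing.Cx R}
    (hC : TI C) (h : ∀ j, LocCoh.IsPowerTorsion (Ideal.span {x : R | x ∈ fs}) (C.homology j)) :
    QuasiIso (ιC (Ideal.span {x : R | x ∈ fs}) C) := by
  induction fs with
  | nil =>
    have h0 : Ideal.span {x : R | x ∈ ([] : List R)} = ⊥ := by simp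
    rw [h0]
    haveI := isIso_ιC_bot C
    infer_instance
  | cons f fs ih =>
    have hle : Ideal.span {x : R | x ∈ fs} ≤ Ideal.span {x : R | x ∈ f :: fs} := by
      rw [span_cons]; exact le_sup_right
    have hf : f ∈ Ideal.span {x : R | x ∈ f :: fs} :=
      Ideal.subset_span (by simp)
    haveI := ih (fun j => isPowerTorsion_mono hle (h j))
    have hPT : ∀ j, PT f (((G (Ideal.span {x : R | x ∈ fs})).obj C).homology j) := by
      intro j x
      obtain ⟨n, hn⟩ := PT_of_isPowerTorsion hf (h j)
        ((HomologicalComplex.homologyMap (ιC (Ideal.span {x : R | x ∈ fs}) C) j).hom x)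
      refine ⟨n, ?_⟩
      have hiso : IsIso (HomologicalComplex.homologyMap (ιC (Ideal.span {x : R | x ∈ fs}) C) j) :=
        inferInstance
      have hinj : Function.Injective
          (HomologicalComplex.homologyMap (ιC (Ideal.span {x : R | x ∈ fs}) C) j).hom :=
        ((ConcreteCategory.isIso_iff_bijective _).1 hiso).1
      apply hinj
      rw [map_smul, hn, map_zero]
    haveI := quasiIso_leC_step (Ideal.span {x : R | x ∈ fs}) f hC hPT
    have key : ∀ (I' : Ideal R) (hI' : I' = Ideal.span {f} ⊔ Ideal.span {x : R | x ∈ fs}),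
        QuasiIso (ιC I' C) := by
      intro I' hI'
      subst hI'
      rw [← leC_ιC (le_sup_right : Ideal.span {x : R | x ∈ fs} ≤ _) C]
      infer_instance
    exact key _ (span_cons f fs)

lemma exists_list_span [IsNoetherianRing R] (I : Ideal R) :
    ∃ fs : List R, I = Ideal.span {x : R | x ∈ fs} := by
  obtain ⟨s, hs⟩ := (IsNoetherian.noetherian I : I.FG)
  refine ⟨s.toList, ?_⟩
  rw [← hs]
  congr 1
  ext x
  simp

/-- `Γ_I` of an acyclic complex of injectives over a Noetherian ring is acyclic -/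
theorem isZero_homology_G [IsNoetherianRing R] (I : Ideal R) {C : DRing.Cx R}
    (hC : TI C) (h : ∀ j, IsZero (C.homology j)) (j : ℤ) :
    IsZero (((G I).obj C).homology j) := by
  obtain ⟨fs, rfl⟩ := exists_list_span I
  exact isZero_homology_G_span fs hC h j

/-- over a Noetherian ring, `Γ_I C ⟶ C` is a quasi-isomorphism for a complex of injectives with
`I`-power torsion cohomology -/
theorem quasiIso_ιC [IsNoetherianRing R] (I : Ideal R) {C : DRing.Cx R}
    (hC : TI C) (h : ∀ j, LocCoh.IsPowerTorsion I (C.homology j)) : QuasiIso (ιC I C) := by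
  obtain ⟨fs, rfl⟩ := exists_list_span I
  exact quasiIso_ιC_span fs hC h

end Groth.Agent.Lib.Helper10.RGamA
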