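import Groth.Prelude.Def_RatFun
import Mathlib.AlgebraicGeometry.Properties
import Mathlib.CategoryTheory.Limits.ConcreteCategory.Basic
import Mathlib.Algebra.Category.Ring.FilteredColimits

open AlgebraicGeometry CategoryTheory TopologicalSpace Limits Opposite

universe u

namespace Groth.Agent.Lib.Helper6

instance isFiltered_denseOpens (X : Scheme.{u}) :
    IsFiltered ((RatFun.IsDenseOpen X).FullSubcategory)ᵒᵖ := by
  have : IsCofiltered ((RatFun.IsDenseOpen X).FullSubcategory) :=
    { cone_objs := fun U V => ⟨⟨U.1 ⊓ V.1, Dense.inter_of_isOpen_left U.2 V.2 U.1.2⟩,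
        ObjectProperty.homMk (homOfLE inf_le_left), ObjectProperty.homMk (homOfLE inf_le_right),
        trivial⟩
      cone_maps := fun U V f g => ⟨U, 𝟙 U, by
        apply ObjectProperty.hom_ext
        exact Subsingleton.elim _ _⟩
      nonempty := ⟨⟨⊤, by simp [RatFun.IsDenseOpen]⟩⟩ }
  infer_instance

theorem toRing_injective_of_isReduced (X : Scheme.{u}) [IsReduced X]
    (V : X.Opens) (hV : Dense (V : Set X)) :
    Function.Injective (RatFun.toRing X V hV) := by
  intro a b hab
  obtain ⟨k, f, g, hfg⟩ := Concrete.colimit_exists_of_rep_eq (RatFun.sectionsOnDense X)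
    (i := op ⟨V, hV⟩) (j := op ⟨V, hV⟩) a b hab
  obtain ⟨⟨W, hW⟩⟩ := k
  have hWV : W ≤ V := (f.unop.hom).le
  have hf : (RatFun.sectionsOnDense X).map f = X.presheaf.map (homOfLE hWV).op := by
    change X.presheaf.map _ = _
    congr 1
  have hg : (RatFun.sectionsOnDense X).map g = X.presheaf.map (homOfLE hWV).op := by
    change X.presheaf.map _ = _
    congr 1
  have h1 : X.presheaf.map (homOfLE hWV).op a = X.presheaf.map (homOfLE hWV).op b := by
    rw [hf, hg] at hfg
    exact hfg
  have h2 : X.presheaf.map (homOfLE hWV).op (a - b) = 0 := by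
    rw [map_sub, h1, sub_self]
  have h3 : X.basicOpen (a - b) = ⊥ := by
    by_contra hne
    have hne' : (X.basicOpen (a - b) : Set X).Nonempty := by
      rw [Set.nonempty_iff_ne_empty]
      intro h
      exact hne (Opens.ext h)
    obtain ⟨x, hx1, hx2⟩ := hW.inter_open_nonempty _ (X.basicOpen (a - b)).2 hne'
    have h4 : x ∈ X.basicOpen (X.presheaf.map (homOfLE hWV).op (a - b)) := by
      rw [Scheme.basicOpen_res]
      exact ⟨hx2, hx1⟩
    rw [h2, Scheme.basicOpen_zero] at h4
    exact h4
  have := (basicOpen_eq_bot_iff _).1 h3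
  exact sub_eq_zero.1 this

end Groth.Agent.Lib.Helper6
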