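import Mathlib.AlgebraicGeometry.Stalk
import Mathlib.AlgebraicGeometry.Properties

/-! Helper14: irreducible components through a point and the local ring. -/

namespace Groth.Agent.Lib.Helper14

open AlgebraicGeometry CategoryTheory

universe u

theorem closure_mem_irreducibleComponents_iff {α : Type*} [TopologicalSpace α] [T0Space α]
    [QuasiSober α] (y : α) :
    closure ({y} : Set α) ∈ irreducibleComponents α ↔ ∀ y' : α, y' ⤳ y → y' = y := by
  constructor
  · intro h y' hy'
    have h1 : closure ({y} : Set α) ⊆ closure {y'} := specializes_iff_closure_subset.mp hy'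
    have h2 : closure ({y'} : Set α) ⊆ closure {y} :=
      h.2 (isIrreducible_singleton.closure) h1
    have h3 : y ⤳ y' := specializes_iff_closure_subset.mpr h2
    exact (hy'.antisymm h3).eq
  · intro h
    refine ⟨isIrreducible_singleton.closure, ?_⟩
    intro Z hZ hle
    have hZc : IsIrreducible (closure Z) := hZ.closure
    obtain ⟨z, hz⟩ := QuasiSober.sober hZc isClosed_closure
    have hy : y ∈ closure Z := subset_closure (hle (subset_closure (Set.mem_singleton y)))
    have hzy : z ⤳ y := by
      rw [specializes_iff_mem_closure, hz.def]; exact hy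
    have := h z hzy
    subst this
    calc Z ⊆ closure Z := subset_closure
      _ = closure {z} := hz.def.symm

/-- Every irreducible component of a sober space is the closure of a point. -/
theorem exists_closure_eq_of_mem_irreducibleComponents {α : Type*} [TopologicalSpace α]
    [QuasiSober α] {Z : Set α} (hZ : Z ∈ irreducibleComponents α) :
    ∃ η : α, closure ({η} : Set α) = Z := by
  obtain ⟨η, hη⟩ := QuasiSober.sober hZ.1 (isClosed_of_mem_irreducibleComponents Z hZ)
  exact ⟨η, hη.def⟩

theorem fromSpecStalk_specializes_iff (X : Scheme.{u}) (x : X)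
    (z z' : Spec (X.presheaf.stalk x)) :
    X.fromSpecStalk x z' ⤳ X.fromSpecStalk x z ↔ z' ⤳ z :=
  (X.fromSpecStalk x).isEmbedding.isInducing.specializes_iff

theorem fromSpecStalk_specializes (X : Scheme.{u}) (x : X) (z : Spec (X.presheaf.stalk x)) :
    X.fromSpecStalk x z ⤳ x := by
  have : X.fromSpecStalk x z ∈ Set.range (X.fromSpecStalk x) := ⟨z, rfl⟩
  rwa [Scheme.range_fromSpecStalk] at this

theorem exists_fromSpecStalk_eq (X : Scheme.{u}) (x y : X) (h : y ⤳ x) :
    ∃ z : Spec (X.presheaf.stalk x), X.fromSpecStalk x z = y := by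
  have : y ∈ Set.range (X.fromSpecStalk x) := by
    rw [Scheme.range_fromSpecStalk]; exact h
  exact this

/-- Maximal points of `Spec 𝒪_{X,x}` correspond to maximal points of `X` specializing to `x`. -/
theorem closure_fromSpecStalk_mem_iff (X : Scheme.{u}) (x : X) (z : Spec (X.presheaf.stalk x)) :
    closure ({X.fromSpecStalk x z} : Set X) ∈ irreducibleComponents (X : Type u) ↔
      closure ({z} : Set (Spec (X.presheaf.stalk x))) ∈
        irreducibleComponents (Spec (X.presheaf.stalk x) : Type u) := by
  rw [closure_mem_irreducibleComponents_iff, closure_mem_irreducibleComponents_iff]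
  constructor
  · intro h z' hz'
    have := h _ ((fromSpecStalk_specializes_iff X x z z').mpr hz')
    exact (X.fromSpecStalk x).isEmbedding.injective this
  · intro h y' hy'
    obtain ⟨z', rfl⟩ := exists_fromSpecStalk_eq X x y' (hy'.trans (fromSpecStalk_specializes X x z))
    rw [h z' ((fromSpecStalk_specializes_iff X x z z').mp hy')]

theorem bijOn_irreducibleComponents_specStalk (X : Scheme.{u}) (x : X) :
    Set.BijOn (fun z : Spec (X.presheaf.stalk x) => closure ({X.fromSpecStalk x z} : Set X))
      {z | closure ({z} : Set (Spec (X.presheaf.stalk x))) ∈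
        irreducibleComponents (Spec (X.presheaf.stalk x) : Type u)}
      {Z | Z ∈ irreducibleComponents (X : Type u) ∧ x ∈ Z} := by
  refine ⟨?_, ?_, ?_⟩
  · intro z hz
    refine ⟨(closure_fromSpecStalk_mem_iff X x z).mpr hz, ?_⟩
    exact (specializes_iff_mem_closure).mp (fromSpecStalk_specializes X x z)
  · intro z1 _ z2 _ h
    have h' : closure ({X.fromSpecStalk x z1} : Set X) = closure {X.fromSpecStalk x z2} := h
    have h1 : X.fromSpecStalk x z1 ⤳ X.fromSpecStalk x z2 := by
      rw [specializes_iff_closure_subset, h']
    have h2 : X.fromSpecStalk x z2 ⤳ X.fromSpecStalk x z1 := by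
      rw [specializes_iff_closure_subset, h']
    exact (X.fromSpecStalk x).isEmbedding.injective (h1.antisymm h2).eq
  · rintro Z ⟨hZ, hxZ⟩
    obtain ⟨η, rfl⟩ := exists_closure_eq_of_mem_irreducibleComponents hZ
    have hηx : η ⤳ x := specializes_iff_mem_closure.mpr hxZ
    obtain ⟨z, rfl⟩ := exists_fromSpecStalk_eq X x η hηx
    exact ⟨z, (closure_fromSpecStalk_mem_iff X x z).mp hZ, rfl⟩

end Groth.Agent.Lib.Helper14
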