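import Mathlib

set_option autoImplicit false
universe u

namespace Groth.Agent.Lib.Helper22.RedProj
open TensorProduct

variable {R : Type u} [CommRing R] {M : Type u} [AddCommGroup M] [Module R M]

/-- fibre at a prime -/
abbrev fib (p : PrimeSpectrum R) (M : Type u) [AddCommGroup M] [Module R M] : Type u :=
  p.asIdeal.ResidueField ⊗[R] M

/-- `1 ⊗ x_j` span the fibre at `q` if `f M ⊆ span x_j` and `f ∉ q`. -/
lemma span_fib {r : ℕ} (x : Fin r → M) (f : R)
    (hf : ∀ m : M, f • m ∈ Submodule.span R (Set.range x)) (q : PrimeSpectrum R)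
    (hq : f ∉ q.asIdeal) :
    Submodule.span q.asIdeal.ResidueField
      (Set.range fun j => (1 : q.asIdeal.ResidueField) ⊗ₜ[R] x j) = ⊤ := by
  rw [eq_top_iff]
  rintro v -
  induction v using TensorProduct.induction_on with
  | zero => exact Submodule.zero_mem _
  | add a b ha hb => exact Submodule.add_mem _ ha hb
  | tmul s m =>
    have hfne : algebraMap R q.asIdeal.ResidueField f ≠ 0 := by
      intro h0
      apply hq
      rwa [← Ideal.algebraMap_residueField_eq_zero]
    have h1 : (1 : q.asIdeal.ResidueField) ⊗ₜ[R] (f • m) ∈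
        Submodule.span q.asIdeal.ResidueField
          (Set.range fun j => (1 : q.asIdeal.ResidueField) ⊗ₜ[R] x j) := by
      have := hf m
      refine Submodule.span_induction (p := fun y _ => (1 : q.asIdeal.ResidueField) ⊗ₜ[R] y ∈
        Submodule.span q.asIdeal.ResidueField
          (Set.range fun j => (1 : q.asIdeal.ResidueField) ⊗ₜ[R] x j)) ?_ ?_ ?_ ?_ this
      · rintro _ ⟨j, rfl⟩
        exact Submodule.subset_span ⟨j, rfl⟩
      · rw [tmul_zero]; exact Submodule.zero_mem _
      · intro a b _ _ ha hb
        rw [tmul_add]; exact Submodule.add_mem _ ha hb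
      · intro a y _ hy
        rw [tmul_smul]
        have : a • ((1 : q.asIdeal.ResidueField) ⊗ₜ[R] y) =
            (algebraMap R q.asIdeal.ResidueField a) • ((1 : q.asIdeal.ResidueField) ⊗ₜ[R] y) := by
          rw [algebraMap_smul]
        rw [this]
        exact Submodule.smul_mem _ _ hy
    have h2 : s ⊗ₜ[R] m = (s * (algebraMap R q.asIdeal.ResidueField f)⁻¹) •
        ((1 : q.asIdeal.ResidueField) ⊗ₜ[R] (f • m)) := by
      rw [tmul_smul, smul_tmul', smul_tmul', smul_eq_mul, Algebra.smul_def, mul_one,
        mul_assoc, inv_mul_cancel₀ hfne, mul_one]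
    rw [h2]
    exact Submodule.smul_mem _ _ h1


lemma exists_gens [Module.Finite R M] (p : PrimeSpectrum R) :
    ∃ (x : Fin (Module.finrank p.asIdeal.ResidueField (fib p M)) → M) (f : R),
      f ∉ p.asIdeal ∧ ∀ m : M, f • m ∈ Submodule.span R (Set.range x) := by
  classical
  set k := p.asIdeal.ResidueField with hk
  let S₀ : Set (k ⊗[R] M) := Set.range fun m : M => (1 : k) ⊗ₜ[R] m
  have hS₀ : ⊤ ≤ Submodule.span k S₀ := by
    rintro v -
    induction v using TensorProduct.induction_on with
    | zero => exact Submodule.zero_mem _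
    | add a b ha hb => exact Submodule.add_mem _ ha hb
    | tmul s m =>
      have : s ⊗ₜ[R] m = s • ((1 : k) ⊗ₜ[R] m) := by
        rw [smul_tmul', smul_eq_mul, mul_one]
      rw [this]
      exact Submodule.smul_mem _ _ (Submodule.subset_span ⟨m, rfl⟩)
  let b := Module.Basis.ofSpan hS₀
  letI := FiniteDimensional.fintypeBasisIndex b
  have hcard : Fintype.card _ = Module.finrank k (k ⊗[R] M) :=
    (Module.finrank_eq_card_basis b).symm
  let e := Fintype.equivFinOfCardEq hcard
  have hb : ∀ i, ∃ y : M, (1 : k) ⊗ₜ[R] y = b i := fun i =>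
    Module.Basis.ofSpan_subset hS₀ ⟨i, rfl⟩
  choose y hy using hb
  let x : Fin (Module.finrank k (k ⊗[R] M)) → M := y ∘ e.symm
  let N := Submodule.span R (Set.range x)
  have hyN : ∀ i, y i ∈ N := fun i => Submodule.subset_span ⟨e i, by simp [x]⟩
  have hzero : (Submodule.mkQ N).baseChange k = 0 := by
    apply b.ext
    intro i
    rw [← hy i, LinearMap.baseChange_tmul, LinearMap.zero_apply]
    have : Submodule.mkQ N (y i) = 0 := (Submodule.Quotient.mk_eq_zero N).mpr (hyN i)
    rw [this, tmul_zero]
  have hsurj : Function.Surjective ((Submodule.mkQ N).baseChange k) :=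
    LinearMap.lTensor_surjective _ (Submodule.mkQ_surjective N)
  have hsub : Subsingleton (k ⊗[R] (M ⧸ N)) := by
    refine ⟨fun a c => ?_⟩
    obtain ⟨a', rfl⟩ := hsurj a
    obtain ⟨c', rfl⟩ := hsurj c
    rw [hzero, LinearMap.zero_apply, LinearMap.zero_apply]
  have hnsupp : p ∉ Module.support R (M ⧸ N) := by
    rw [Module.mem_support_iff_nontrivial_residueField_tensorProduct]
    exact not_nontrivial _
  rw [Module.mem_support_iff_of_finite] at hnsupp
  obtain ⟨f, hfann, hfp⟩ := Set.not_subset.mp hnsupp
  refine ⟨x, f, hfp, fun m => ?_⟩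
  have h1 : f • (Submodule.Quotient.mk m : M ⧸ N) = 0 :=
    Module.mem_annihilator.mp hfann _
  rw [← Submodule.Quotient.mk_smul] at h1
  exact (Submodule.Quotient.mk_eq_zero N).mp h1

/-- the comparison map from the free module of rank `r`. -/
noncomputable abbrev phi {r : ℕ} (x : Fin r → M) : (Fin r → R) →ₗ[R] M :=
  Fintype.linearCombination R x

/-- Key injectivity step, `R` reduced. -/
lemma smul_eq_zero_of_pow_smul_phi [IsReduced R] {r : ℕ} (x : Fin r → M) (f : R)
    (hf : ∀ m : M, f • m ∈ Submodule.span R (Set.range x))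
    (hrank : ∀ q : PrimeSpectrum R, f ∉ q.asIdeal →
      Module.finrank q.asIdeal.ResidueField (fib q M) = r)
    (n : ℕ) (y : Fin r → R) (hy : f ^ n • phi x y = 0) : f • y = 0 := by
  classical
  funext j
  rw [Pi.smul_apply, Pi.zero_apply, smul_eq_mul]
  have hnil : f * y j ∈ nilradical R := by
    rw [nilradical_eq_sInf, Ideal.mem_sInf]
    intro q hq
    haveI : q.IsPrime := hq
    by_cases hfq : f ∈ q
    · exact Ideal.mul_mem_right _ _ hfq
    · apply Ideal.mul_mem_left
      let Q : PrimeSpectrum R := ⟨q, hq⟩
      let k := Q.asIdeal.ResidueField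
      have hfne : algebraMap R k f ≠ 0 := by
        intro h0
        apply hfq
        have := (Ideal.algebraMap_residueField_eq_zero (I := Q.asIdeal)).mp h0
        exact this
      -- the fibre map
      let ψ : (Fin r → k) →ₗ[k] fib Q M :=
        Fintype.linearCombination k (fun j => (1 : k) ⊗ₜ[R] x j)
      have hψsurj : Function.Surjective ψ := by
        rw [← LinearMap.range_eq_top, Fintype.range_linearCombination]
        exact span_fib x f hf Q hfq
      have hfr : Module.finrank k (Fin r → k) = Module.finrank k (fib Q M) := by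
        rw [Module.finrank_fin_fun, hrank Q hfq]
      haveI : Module.Finite k (fib Q M) := Module.Finite.of_surjective ψ hψsurj
      have hψinj : Function.Injective ψ :=
        (LinearMap.injective_iff_surjective_of_finrank_eq_finrank hfr).mpr hψsurj
      -- image of y
      let ybar : Fin r → k := fun j => algebraMap R k (y j)
      have h1 : ψ ybar = (1 : k) ⊗ₜ[R] (phi x y) := by
        simp only [ψ, ybar, phi, Fintype.linearCombination_apply, tmul_sum]
        refine Finset.sum_congr rfl fun i _ => ?_
        rw [tmul_smul, algebraMap_smul]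
      have h2 : (algebraMap R k f) ^ n • ψ ybar = 0 := by
        rw [h1, ← map_pow, algebraMap_smul, ← tmul_smul, hy, tmul_zero]
      have h3 : ψ ybar = 0 := by
        rcases smul_eq_zero.mp h2 with h | h
        · exact absurd (eq_zero_of_pow_eq_zero h) hfne
        · exact h
      have h4 : ybar = 0 := hψinj (by rw [h3, map_zero])
      have h5 : algebraMap R k (y j) = 0 := congrFun h4 j
      exact (Ideal.algebraMap_residueField_eq_zero (I := Q.asIdeal)).mp h5
  have := (nilradical_eq_zero R) ▸ hnil
  simpa using this

lemma map_phi_bijective [IsReduced R] {r : ℕ} (x : Fin r → M) (f : R)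
    (hf : ∀ m : M, f • m ∈ Submodule.span R (Set.range x))
    (hrank : ∀ q : PrimeSpectrum R, f ∉ q.asIdeal →
      Module.finrank q.asIdeal.ResidueField (fib q M) = r) :
    Function.Bijective (LocalizedModule.map (Submonoid.powers f) (phi x)) := by
  constructor
  · rw [injective_iff_map_eq_zero]
    intro a ha
    induction a using LocalizedModule.induction_on with
    | h y s =>
      rw [LocalizedModule.map_mk, ← LocalizedModule.zero_mk s, LocalizedModule.mk_eq] at ha
      obtain ⟨u, hu⟩ := ha
      rw [smul_zero, smul_zero] at hu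
      obtain ⟨n, hn⟩ := u.2
      obtain ⟨k, hk⟩ := s.2
      simp only at hn hk
      have h1 : f ^ (n + k) • phi x y = 0 := by
        rw [pow_add, mul_smul, hn, hk]
        exact hu
      have h2 := smul_eq_zero_of_pow_smul_phi x f hf hrank (n + k) y h1
      rw [← LocalizedModule.zero_mk s, LocalizedModule.mk_eq]
      refine ⟨⟨f, Submonoid.mem_powers f⟩, ?_⟩
      rw [smul_zero, smul_zero]
      change f • (s : R) • y = 0
      rw [smul_comm, h2, smul_zero]
  · intro a
    induction a using LocalizedModule.induction_on with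
    | h m s =>
      have hm := hf m
      rw [← Fintype.range_linearCombination, LinearMap.mem_range] at hm
      obtain ⟨y, hy⟩ := hm
      refine ⟨LocalizedModule.mk y (⟨f, Submonoid.mem_powers f⟩ * s), ?_⟩
      rw [LocalizedModule.map_mk]
      change LocalizedModule.mk (phi x y) _ = _
      rw [show phi x y = (⟨f, Submonoid.mem_powers f⟩ : Submonoid.powers f) • m from hy,
        LocalizedModule.mk_cancel_common_left]

/-- local structure near a prime. -/
lemma exists_local [IsReduced R] [Module.Finite R M]
    (hlc : IsLocallyConstant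
      (fun p : PrimeSpectrum R => Module.finrank p.asIdeal.ResidueField (fib p M)))
    (p : PrimeSpectrum R) :
    ∃ f : R, f ∉ p.asIdeal ∧
      Module.FinitePresentation (Localization.Away f) (LocalizedModule.Away f M) ∧
      Module.Flat R (LocalizedModule.Away f M) := by
  obtain ⟨x, f₁, hf₁p, hf₁⟩ := exists_gens (M := M) p
  have hUopen : IsOpen {q : PrimeSpectrum R |
      Module.finrank q.asIdeal.ResidueField (fib q M) =
        Module.finrank p.asIdeal.ResidueField (fib p M)} := hlc.isOpen_fiber _
  have hpU : p ∈ {q : PrimeSpectrum R |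
      Module.finrank q.asIdeal.ResidueField (fib q M) =
        Module.finrank p.asIdeal.ResidueField (fib p M)} := rfl
  obtain ⟨_, ⟨f₂, rfl⟩, hpf₂, hsub⟩ :=
    PrimeSpectrum.isTopologicalBasis_basic_opens.exists_subset_of_mem_open hpU hUopen
  have hf₂p : f₂ ∉ p.asIdeal := (PrimeSpectrum.mem_basicOpen f₂ p).mp hpf₂
  refine ⟨f₁ * f₂, fun h => ?_, ?_⟩
  · rcases p.isPrime.mem_or_mem h with h | h
    · exact hf₁p h
    · exact hf₂p h
  have hf : ∀ m : M, (f₁ * f₂) • m ∈ Submodule.span R (Set.range x) := by
    intro m
    rw [mul_comm, mul_smul]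
    exact Submodule.smul_mem _ _ (hf₁ m)
  have hrank : ∀ q : PrimeSpectrum R, f₁ * f₂ ∉ q.asIdeal →
      Module.finrank q.asIdeal.ResidueField (fib q M) =
        Module.finrank p.asIdeal.ResidueField (fib p M) := by
    intro q hq
    apply hsub
    change q ∈ PrimeSpectrum.basicOpen f₂
    rw [PrimeSpectrum.mem_basicOpen]
    intro h
    exact hq (Ideal.mul_mem_left _ _ h)
  have hbij := map_phi_bijective x (f₁ * f₂) hf hrank
  let e : LocalizedModule.Away (f₁ * f₂)
        (Fin (Module.finrank p.asIdeal.ResidueField (fib p M)) → R) ≃ₗ[Localization.Away (f₁ * f₂)]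
      LocalizedModule.Away (f₁ * f₂) M := LinearEquiv.ofBijective _ hbij
  have hfp : Module.FinitePresentation (Localization.Away (f₁ * f₂))
      (LocalizedModule.Away (f₁ * f₂) M) := Module.FinitePresentation.of_equiv e
  have hflat : Module.Flat (Localization.Away (f₁ * f₂))
      (LocalizedModule.Away (f₁ * f₂) M) := Module.Flat.of_linearEquiv e.symm
  exact ⟨hfp, Module.Flat.trans R (Localization.Away (f₁ * f₂)) _⟩

theorem projective_of_isLocallyConstant [IsReduced R] [Module.Finite R M]
    (hlc : IsLocallyConstant
      (fun p : PrimeSpectrum R => Module.finrank p.asIdeal.ResidueField (fib p M))) :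
    Module.Projective R M := by
  let s : Set R := {f | Module.FinitePresentation (Localization.Away f) (LocalizedModule.Away f M) ∧
      Module.Flat R (LocalizedModule.Away f M)}
  have hs : Ideal.span s = ⊤ := by
    by_contra hne
    obtain ⟨m, hm, hle⟩ := Ideal.exists_le_maximal _ hne
    obtain ⟨f, hfm, hfp, hfl⟩ := exists_local hlc ⟨m, hm.isPrime⟩
    exact hfm (hle (Ideal.subset_span ⟨hfp, hfl⟩))
  have : Module.FinitePresentation R M :=
    Module.FinitePresentation.of_localizationSpan s hs fun g => g.2.1
  have : Module.Flat R M := Module.flat_of_localized_span R M s hs fun g => g.2.2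
  exact Module.Flat.projective_of_finitePresentation

end Groth.Agent.Lib.Helper22.RedProj


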