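import Mathlib
import Groth.Agent.Lib.Helper22RedProj
import Groth.Agent.Lib.Helper10FibreRank

/-!
# Locally constant fibre rank over reduced rings, universe-polymorphic (helper10)
-/

namespace Groth.Agent.Lib.Helper10.RedProjU

open TensorProduct Module

universe u v

/-- universe-polymorphic version of helper22's `projective_of_isLocallyConstant`. -/
theorem projective_of_isLocallyConstant {R : Type u} [CommRing R] [IsReduced R] {M : Type v}
    [AddCommGroup M] [Module R M] [Module.Finite R M]
    (hlc : IsLocallyConstant (fun p : PrimeSpectrum R =>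
      finrank p.asIdeal.ResidueField (p.asIdeal.ResidueField ⊗[R] M))) :
    Module.Projective R M := by
  obtain ⟨n, π, hπ⟩ := Module.Finite.exists_fin' R M
  let e : ((Fin n → R) ⧸ LinearMap.ker π) ≃ₗ[R] M := π.quotKerEquivOfSurjective hπ
  have h' : IsLocallyConstant (fun p : PrimeSpectrum R =>
      finrank p.asIdeal.ResidueField
        (Groth.Agent.Lib.Helper22.RedProj.fib p ((Fin n → R) ⧸ LinearMap.ker π))) := by
    convert hlc using 2 with p
    exact (LinearEquiv.baseChange R p.asIdeal.ResidueField _ _ e).finrank_eq
  have := Groth.Agent.Lib.Helper22.RedProj.projective_of_isLocallyConstant h'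
  exact Module.Projective.of_equiv e

/-- If `M`, `F` and `coker δ` are projective, then `ker δ` is projective and the formation of
`ker δ` commutes with tensoring. -/
theorem split_facts {A : Type u} [CommRing A] {M F : Type v} [AddCommGroup M] [Module A M]
    [AddCommGroup F] [Module A F] (δ : M →ₗ[A] F) [Module.Projective A M] [Module.Projective A F]
    [Module.Projective A (F ⧸ LinearMap.range δ)] :
    Module.Projective A (LinearMap.ker δ) ∧
      ∀ (N : Type v) [AddCommGroup N] [Module A N],
        Function.Injective (LinearMap.rTensor N (LinearMap.ker δ).subtype) ∧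
        Function.Exact (LinearMap.rTensor N (LinearMap.ker δ).subtype) (LinearMap.rTensor N δ) := by
  -- split `F → coker`
  obtain ⟨σ, hσ⟩ := Module.projective_lifting_property (LinearMap.range δ).mkQ
    (LinearMap.id : (F ⧸ LinearMap.range δ) →ₗ[A] _) (Submodule.mkQ_surjective _)
  have hσ' : ∀ c, (LinearMap.range δ).mkQ (σ c) = c := fun c => LinearMap.congr_fun hσ c
  let rF : F →ₗ[A] LinearMap.range δ :=
    (LinearMap.id - σ ∘ₗ (LinearMap.range δ).mkQ).codRestrict (LinearMap.range δ) (by
      intro x
      have hk : ((LinearMap.id : F →ₗ[A] F) - σ ∘ₗ (LinearMap.range δ).mkQ) x ∈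
          LinearMap.ker (LinearMap.range δ).mkQ := by
        rw [LinearMap.mem_ker]
        simp only [LinearMap.sub_apply, LinearMap.id_coe, id_eq, LinearMap.coe_comp,
          Function.comp_apply, map_sub]
        rw [hσ', sub_self]
      rwa [Submodule.ker_mkQ] at hk)
  have hrF : rF ∘ₗ (LinearMap.range δ).subtype = LinearMap.id := by
    ext x
    have hx : (LinearMap.range δ).mkQ (x : F) = 0 := by
      rw [← LinearMap.mem_ker, Submodule.ker_mkQ]; exact x.2
    simp [rF, hx]
  haveI hPr : Module.Projective A (LinearMap.range δ) :=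
    Module.Projective.of_split (LinearMap.range δ).subtype rF hrF
  -- split `M → range δ`
  obtain ⟨τ, hτ⟩ := Module.projective_lifting_property δ.rangeRestrict
    (LinearMap.id : LinearMap.range δ →ₗ[A] _) δ.surjective_rangeRestrict
  have hτ' : ∀ c, δ.rangeRestrict (τ c) = c := fun c => LinearMap.congr_fun hτ c
  let rM : M →ₗ[A] LinearMap.ker δ :=
    (LinearMap.id - τ ∘ₗ δ.rangeRestrict).codRestrict (LinearMap.ker δ) (by
      intro x
      rw [LinearMap.mem_ker]
      simp only [LinearMap.sub_apply, LinearMap.id_coe, id_eq, LinearMap.coe_comp,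
        Function.comp_apply, map_sub]
      have h1 : δ (τ (δ.rangeRestrict x)) = δ x := by
        have := congrArg Subtype.val (hτ' (δ.rangeRestrict x))
        simpa using this
      rw [h1, sub_self])
  have hrM : rM ∘ₗ (LinearMap.ker δ).subtype = LinearMap.id := by
    ext x
    have hx : δ.rangeRestrict (x : M) = 0 := by
      apply Subtype.ext
      simpa using x.2
    simp [rM, hx]
  have hdecomp : (LinearMap.id : M →ₗ[A] M) =
      (LinearMap.ker δ).subtype ∘ₗ rM + τ ∘ₗ δ.rangeRestrict := by
    ext x
    simp [rM]
  refine ⟨Module.Projective.of_split (LinearMap.ker δ).subtype rM hrM, fun N _ _ => ⟨?_, ?_⟩⟩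
  · have hleft : Function.LeftInverse (LinearMap.rTensor N rM)
        (LinearMap.rTensor N (LinearMap.ker δ).subtype) := by
      intro z
      rw [← LinearMap.comp_apply, ← LinearMap.rTensor_comp, hrM, LinearMap.rTensor_id]
      rfl
    exact hleft.injective
  · intro y
    constructor
    · intro hy
      have hjinj : Function.Injective (LinearMap.rTensor N (LinearMap.range δ).subtype) := by
        have hleft : Function.LeftInverse (LinearMap.rTensor N rF)
            (LinearMap.rTensor N (LinearMap.range δ).subtype) := by
          intro z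
          rw [← LinearMap.comp_apply, ← LinearMap.rTensor_comp, hrF, LinearMap.rTensor_id]
          rfl
        exact hleft.injective
      have hδ : δ = (LinearMap.range δ).subtype ∘ₗ δ.rangeRestrict := by
        ext x
        rfl
      have h0 : LinearMap.rTensor N δ.rangeRestrict y = 0 := by
        apply hjinj
        rw [map_zero, ← LinearMap.comp_apply, ← LinearMap.rTensor_comp, ← hδ]
        exact hy
      refine ⟨LinearMap.rTensor N rM y, ?_⟩
      have h1 : y = LinearMap.rTensor N (LinearMap.id : M →ₗ[A] M) y := by
        rw [LinearMap.rTensor_id]; rfl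
      conv_rhs => rw [h1, hdecomp, LinearMap.rTensor_add, LinearMap.add_apply,
        LinearMap.rTensor_comp, LinearMap.rTensor_comp, LinearMap.comp_apply,
        LinearMap.comp_apply, h0, map_zero, add_zero]
    · rintro ⟨z, rfl⟩
      rw [← LinearMap.comp_apply, ← LinearMap.rTensor_comp]
      have : δ ∘ₗ (LinearMap.ker δ).subtype = 0 := by
        ext x
        exact x.2
      rw [this, LinearMap.rTensor_zero]
      rfl

/-- If `dim ker(δ_p)` is locally constant (`F` finite free, `M` finite), then the fibre ranks of
`M` and of `coker δ` are locally constant. -/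
theorem isLocallyConstant_fibre_ranks (A : Type u) [CommRing A] (M : Type v) (F : Type v)
    [AddCommGroup M] [Module A M] [Module.Finite A M] [AddCommGroup F] [Module A F]
    [Module.Finite A F] [Module.Free A F] (δ : M →ₗ[A] F)
    (h : IsLocallyConstant (fun x : PrimeSpectrum A =>
      finrank x.asIdeal.ResidueField (LinearMap.ker (δ.baseChange x.asIdeal.ResidueField)))) :
    IsLocallyConstant (fun p : PrimeSpectrum A =>
      finrank p.asIdeal.ResidueField (p.asIdeal.ResidueField ⊗[A] M)) ∧
    IsLocallyConstant (fun p : PrimeSpectrum A =>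
      finrank p.asIdeal.ResidueField (p.asIdeal.ResidueField ⊗[A] (F ⧸ LinearMap.range δ))) := by
  have key : ∀ y : PrimeSpectrum A, ∀ᶠ y' in nhds y,
      finrank y'.asIdeal.ResidueField (y'.asIdeal.ResidueField ⊗[A] M) =
        finrank y.asIdeal.ResidueField (y.asIdeal.ResidueField ⊗[A] M) ∧
      finrank y'.asIdeal.ResidueField (y'.asIdeal.ResidueField ⊗[A] (F ⧸ LinearMap.range δ)) =
        finrank y.asIdeal.ResidueField (y.asIdeal.ResidueField ⊗[A] (F ⧸ LinearMap.range δ)) := by
    intro y
    haveI : Nontrivial A := y.nontrivial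
    obtain ⟨U₁, hU₁o, hyU₁, hU₁⟩ := FibreRank.exists_isOpen_finrank_le (B := A) M y
    obtain ⟨U₂, hU₂o, hyU₂, hU₂⟩ :=
      FibreRank.exists_isOpen_finrank_le (B := A) (F ⧸ LinearMap.range δ) y
    filter_upwards [hU₁o.mem_nhds hyU₁, hU₂o.mem_nhds hyU₂, h.eventually_eq y]
      with y' h1 h2 h3
    have hm := hU₁ y' h1
    have hc := hU₂ y' h2
    have ha : finrank y'.asIdeal.ResidueField
        (LinearMap.ker (δ.baseChange y'.asIdeal.ResidueField)) =
      finrank y.asIdeal.ResidueField
        (LinearMap.ker (δ.baseChange y.asIdeal.ResidueField)) := h3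
    have hrn := LinearMap.finrank_range_add_finrank_ker (δ.baseChange y.asIdeal.ResidueField)
    have hrn' := LinearMap.finrank_range_add_finrank_ker (δ.baseChange y'.asIdeal.ResidueField)
    have hic := FibreRank.finrank_range_baseChange_add δ y.asIdeal.ResidueField
    have hic' := FibreRank.finrank_range_baseChange_add δ y'.asIdeal.ResidueField
    have hf : finrank y.asIdeal.ResidueField (y.asIdeal.ResidueField ⊗[A] F) = finrank A F :=
      Module.finrank_baseChange
    have hf' : finrank y'.asIdeal.ResidueField (y'.asIdeal.ResidueField ⊗[A] F) = finrank A F :=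
      Module.finrank_baseChange
    rw [hf] at hic
    rw [hf'] at hic'
    rw [ha] at hrn'
    generalize finrank y.asIdeal.ResidueField
      (LinearMap.ker (δ.baseChange y.asIdeal.ResidueField)) = a at hrn hrn'
    generalize finrank y.asIdeal.ResidueField
      (LinearMap.range (δ.baseChange y.asIdeal.ResidueField)) = i at hrn hic
    generalize finrank y'.asIdeal.ResidueField
      (LinearMap.range (δ.baseChange y'.asIdeal.ResidueField)) = i' at hrn' hic'
    generalize finrank y.asIdeal.ResidueField (y.asIdeal.ResidueField ⊗[A] M) = m at hrn hm ⊢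
    generalize finrank y'.asIdeal.ResidueField (y'.asIdeal.ResidueField ⊗[A] M) = m' at hrn' hm ⊢
    generalize finrank y.asIdeal.ResidueField
      (y.asIdeal.ResidueField ⊗[A] (F ⧸ LinearMap.range δ)) = c at hic hc ⊢
    generalize finrank y'.asIdeal.ResidueField
      (y'.asIdeal.ResidueField ⊗[A] (F ⧸ LinearMap.range δ)) = c' at hic' hc ⊢
    omega
  constructor
  · rw [IsLocallyConstant.iff_eventually_eq]
    intro y
    exact (key y).mono fun y' hy' => hy'.1
  · rw [IsLocallyConstant.iff_eventually_eq]
    intro y
    exact (key y).mono fun y' hy' => hy'.2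

/-- S14610. -/
theorem main (A : Type u) [CommRing A] [IsNoetherianRing A] [IsReduced A] (M : Type v) (F : Type v)
    [AddCommGroup M] [Module A M] [Module.Finite A M] [AddCommGroup F] [Module A F]
    [Module.Finite A F] [Module.Free A F] (δ : M →ₗ[A] F)
    (h : IsLocallyConstant (fun x : PrimeSpectrum A =>
      finrank x.asIdeal.ResidueField (LinearMap.ker (δ.baseChange x.asIdeal.ResidueField)))) :
    Module.Projective A M ∧ Module.Projective A (LinearMap.ker δ) ∧
      Module.Projective A (F ⧸ LinearMap.range δ) ∧
      ∀ (N : Type v) [AddCommGroup N] [Module A N],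
        Function.Injective (LinearMap.rTensor N (LinearMap.ker δ).subtype) ∧
        Function.Exact (LinearMap.rTensor N (LinearMap.ker δ).subtype) (LinearMap.rTensor N δ) := by
  obtain ⟨hm, hc⟩ := isLocallyConstant_fibre_ranks A M F δ h
  haveI hPM : Module.Projective A M := projective_of_isLocallyConstant hm
  haveI hPC : Module.Projective A (F ⧸ LinearMap.range δ) := projective_of_isLocallyConstant hc
  obtain ⟨hk, hN⟩ := split_facts δ
  exact ⟨hPM, hk, hPC, hN⟩

end Groth.Agent.Lib.Helper10.RedProjU
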