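import Mathlib

/-!
# Reflexivity of modules and localization

For a finitely presented module `M` whose dual is finitely presented, the evaluation map
`M → M**` localizes to the evaluation map of the localized module.
-/

set_option autoImplicit false
universe u

namespace Groth.Agent.Lib.Helper10.Reflexive

open Module

variable {R : Type*} [CommRing R] (S : Submonoid R) (Rs : Type*) [CommRing Rs] [Algebra R Rs]
  [IsLocalization S Rs]
variable {M Ms : Type*} [AddCommGroup M] [Module R M] [AddCommGroup Ms] [Module R Ms] [Module Rs Ms]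
  [IsScalarTower R Rs Ms] (l : M →ₗ[R] Ms) [IsLocalizedModule S l]

/-- The localization map on duals. -/
noncomputable abbrev D : Dual R M →ₗ[R] Dual Rs Ms :=
  IsLocalizedModule.mapExtendScalars S l (Algebra.linearMap R Rs) Rs

lemma D_apply (φ : Dual R M) (x : M) : D S Rs l φ (l x) = algebraMap R Rs (φ x) := by
  simp [D]

variable [Module.FinitePresentation R M]

/-- The localization map on double duals. -/
noncomputable abbrev DD : Dual R (Dual R M) →ₗ[R] Dual Rs (Dual Rs Ms) :=
  IsLocalizedModule.mapExtendScalars S (D S Rs l) (Algebra.linearMap R Rs) Rs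

lemma DD_apply_D (y : Dual R (Dual R M)) (φ : Dual R M) :
    DD S Rs l y (D S Rs l φ) = algebraMap R Rs (y φ) := by
  simp [DD]

variable [Module.FinitePresentation R (Dual R M)]

lemma DD_eval (x : M) : DD S Rs l (Dual.eval R M x) = Dual.eval Rs Ms (l x) := by
  refine LinearMap.ext fun φ' => ?_
  obtain ⟨⟨φ, s⟩, hφ⟩ := IsLocalizedModule.surj S (D S Rs l) φ'
  have hs : IsUnit (algebraMap R Rs (s : R)) := IsLocalization.map_units Rs s
  have hφ' : algebraMap R Rs (s : R) • φ' = D S Rs l φ := by
    rw [← hφ, algebraMap_smul]; rfl
  apply hs.mul_left_cancel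
  rw [← smul_eq_mul, ← smul_eq_mul, ← map_smul, ← map_smul, hφ', DD_apply_D, Dual.eval_apply,
    Dual.eval_apply, D_apply]

lemma map_eval :
    IsLocalizedModule.map S l (DD S Rs l) (Dual.eval R M) = (Dual.eval Rs Ms).restrictScalars R := by
  apply IsLocalizedModule.linearMap_ext S l (DD S Rs l)
  rw [IsLocalizedModule.map_comp]
  refine LinearMap.ext fun x => ?_
  exact DD_eval S Rs l x

include S l in
lemma isReflexive_of_isReflexive [Module.IsReflexive R M] : Module.IsReflexive Rs Ms := by
  constructor
  have h := Module.bijective_dual_eval R M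
  have h1 : Function.Bijective (IsLocalizedModule.map S l (DD S Rs l) (Dual.eval R M)) :=
    ⟨IsLocalizedModule.map_injective S l (DD S Rs l) _ h.1,
      IsLocalizedModule.map_surjective S l (DD S Rs l) _ h.2⟩
  rw [map_eval] at h1
  exact h1

end Groth.Agent.Lib.Helper10.Reflexive
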