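import Mathlib
import Groth.Prelude.Def_CohCx
import Groth.Prelude.Def_DerCA
import Groth.Agent.S0943
import Groth.Agent.Lib.Helper10KosProA
set_option backward.isDefEq.respectTransparency.types false

/-!
# Derived limits of Hom-pro-constant towers (helper10)

* `limOneIsZero_of_ml`: a Mittag-Leffler type criterion for the vanishing of `R^1 lim`;
* `bijective_comp_of_homProConst`: if `b : X ⟶ R lim F` is induced by a cone `p : X ⟶ F` and the
  towers `Hom(W, F_n)`, `Hom(W[1], F_n)` are pro-constant with value `Hom(W, X)`, `Hom(W[1], X)`,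
  then `Hom(W, X) ⟶ Hom(W, R lim F)` is bijective.
-/

set_option autoImplicit false
universe w v' u'
open CategoryTheory CategoryTheory.Limits Opposite

namespace Groth.Agent.Lib.Helper10.RlimA

open DerCA Groth.Agent.Lib.Helper10.KosPro

section algebra

variable {H : ℕ → Type w} [∀ n, AddCommGroup (H n)] (τ : ∀ n, H (n + 1) →+ H n)

/-- the shift operator `(a_n) ↦ (τ_n a_{n+1})` on the product -/
def sh (a : ∀ n, H n) : ∀ n, H n := fun n => τ n (a (n + 1))

/-- Mittag-Leffler criterion: if the images of the iterated transition maps to `H n` are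
eventually contained in the image of a compatible family `p n : G → H n`, then `R^1 lim = 0`. -/
theorem limOneIsZero_of_ml {G : Type*} [AddCommGroup G] (p : ∀ n, G →+ H n)
    (hp : ∀ n g, τ n (p (n + 1) g) = p n g)
    (h : ∀ n, ∃ ν : ℕ, ∀ i, ν ≤ i → ∀ c : ∀ n, H n, ((sh τ)^[i] c) n ∈ Set.range (p n)) :
    CohCx.LimOneIsZero H τ := by
  choose ν hν using h
  let N : ℕ → ℕ := fun n => Nat.rec (ν 0) (fun k Nk => max (ν (k + 1)) Nk) n
  have hN1 : ∀ n, ν n ≤ N n := by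
    intro n
    cases n with
    | zero => exact le_rfl
    | succ k => exact le_max_left _ _
  have hN2 : ∀ n, N n ≤ N (n + 1) := fun n => le_max_right _ _
  intro c
  have hd : ∀ n, ∃ g : G, p n g = ∑ i ∈ Finset.Ico (N n) (N (n + 1) + 1), ((sh τ)^[i] c) n := by
    intro n
    have : ∑ i ∈ Finset.Ico (N n) (N (n + 1) + 1), ((sh τ)^[i] c) n ∈ (p n).range := by
      apply AddSubgroup.sum_mem
      intro i hi
      rw [Finset.mem_Ico] at hi
      exact hν n i ((hN1 n).trans hi.1) c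
    exact this
  choose g hg using hd
  let η : ℕ → G := fun n => Nat.rec 0 (fun k ηk => ηk - g k) n
  have hη : ∀ n, η (n + 1) = η n - g n := fun n => rfl
  refine ⟨fun n => ∑ i ∈ Finset.range (N n), ((sh τ)^[i] c) n + p n (η n), ?_⟩
  funext n
  show (∑ i ∈ Finset.range (N n), ((sh τ)^[i] c) n + p n (η n)) -
    τ n (∑ i ∈ Finset.range (N (n + 1)), ((sh τ)^[i] c) (n + 1) + p (n + 1) (η (n + 1))) = c n
  rw [map_add, map_sum, hp, hη, map_sub, hg]
  have h1 : ∀ i, τ n (((sh τ)^[i] c) (n + 1)) = ((sh τ)^[i + 1] c) n := by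
    intro i
    rw [Function.iterate_succ_apply']
    rfl
  simp only [h1]
  have h2 : ∑ i ∈ Finset.range (N (n + 1)), ((sh τ)^[i + 1] c) n =
      ∑ i ∈ Finset.range (N (n + 1) + 1), ((sh τ)^[i] c) n - c n := by
    rw [Finset.sum_range_succ' (fun i => ((sh τ)^[i] c) n)]
    simp
  rw [h2, Finset.sum_Ico_eq_sub _ (le_trans (hN2 n) (Nat.le_succ _))]
  abel

end algebra

section cat

variable {T : Type u'} [Category.{v'} T] [Preadditive T] (F : ℕᵒᵖ ⥤ T) (W : T)

/-- the transition maps of the tower `Hom(W, F_n)` -/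
abbrev homτ (n : ℕ) : (W ⟶ F.obj (op (n + 1))) →+ (W ⟶ F.obj (op n)) :=
  Preadditive.rightComp W (F.map (homOfLE (Nat.le_succ n)).op)

lemma iterate_sh_apply (c : ∀ n, W ⟶ F.obj (op n)) (i : ℕ) : ∀ (n m : ℕ) (h : n + i = m),
    ((sh (homτ F W))^[i] c) n = c m ≫ ARSys.tr F (show n ≤ m by omega) := by
  induction i with
  | zero =>
    intro n m h
    obtain rfl : n = m := by omega
    rw [tr_refl, Category.comp_id]
    rfl
  | succ i ih =>
    intro n m h
    rw [Function.iterate_succ_apply']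
    show ((sh (homτ F W))^[i] c) (n + 1) ≫ ARSys.tr F (Nat.le_succ n) = _
    rw [ih (n + 1) m (by omega), Category.assoc, tr_comp]

/-- unbundled pro-constancy of the tower `Hom(W, F_n)` relative to a cone `p` -/
def HomProConst {X : T} (p : (Functor.const ℕᵒᵖ).obj X ⟶ F) : Prop :=
  ∀ n : ℕ, ∃ (m : ℕ) (h : n ≤ m) (β : (W ⟶ F.obj (op m)) → (W ⟶ X)),
    (∀ z : W ⟶ X, β (z ≫ p.app (op m)) = z) ∧ ∀ x, β x ≫ p.app (op n) = x ≫ ARSys.tr F h

variable {F W}

lemma homProConst_of_isProIso {X : T} (p : (Functor.const ℕᵒᵖ).obj X ⟶ F)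
    (h : IsProIso (Functor.whiskerRight p (coyoneda.obj (op W)))) : HomProConst F W p := by
  intro n
  obtain ⟨m, hm, b, hb1, hb2⟩ := h n
  refine ⟨m, hm, fun x => b x, fun z => ?_, fun x => ?_⟩
  · have := types_congr_hom hb1 z
    simpa using this
  · have := types_congr_hom hb2 x
    simpa using this

lemma cone_tr {X : T} (p : (Functor.const ℕᵒᵖ).obj X ⟶ F) {n m : ℕ} (h : n ≤ m) :
    p.app (op m) ≫ ARSys.tr F h = p.app (op n) := by
  have := p.naturality (homOfLE h).op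
  simp only [Functor.const_obj_obj, Functor.const_obj_map, Category.id_comp] at this
  exact this.symm

lemma HomProConst.injective {X : T} {p : (Functor.const ℕᵒᵖ).obj X ⟶ F}
    (h : HomProConst F W p) : ∃ m₀ : ℕ, ∀ m, m₀ ≤ m → ∀ z z' : W ⟶ X,
      z ≫ p.app (op m) = z' ≫ p.app (op m) → z = z' := by
  obtain ⟨m₀, -, β, hβ, -⟩ := h 0
  refine ⟨m₀, fun m hm z z' hz => ?_⟩
  have : z ≫ p.app (op m₀) = z' ≫ p.app (op m₀) := by
    rw [← cone_tr p hm, ← Category.assoc, hz, Category.assoc]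
  rw [← hβ z, this, hβ z']

lemma compat_tr (x : ∀ n, W ⟶ F.obj (op n))
    (hx : ∀ n, x (n + 1) ≫ ARSys.tr F (Nat.le_succ n) = x n) {n m : ℕ} (h : n ≤ m) :
    x m ≫ ARSys.tr F h = x n := by
  induction m, h using Nat.le_induction with
  | base => rw [tr_refl, Category.comp_id]
  | succ m hm ih =>
    rw [← tr_comp F hm (Nat.le_succ m), ← Category.assoc, hx, ih]

lemma HomProConst.exists_lift {X : T} {p : (Functor.const ℕᵒᵖ).obj X ⟶ F}
    (h : HomProConst F W p) (x : ∀ n, W ⟶ F.obj (op n))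
    (hx : ∀ n, x (n + 1) ≫ ARSys.tr F (Nat.le_succ n) = x n) :
    ∃ z : W ⟶ X, ∀ n, z ≫ p.app (op n) = x n := by
  obtain ⟨m₀, hinj⟩ := h.injective
  have key : ∀ n, ∃ z : W ⟶ X, z ≫ p.app (op n) = x n := by
    intro n
    obtain ⟨m, hm, β, -, hβ⟩ := h n
    exact ⟨β (x m), by rw [hβ, compat_tr x hx]⟩
  obtain ⟨z, hz⟩ := key m₀
  refine ⟨z, fun n => ?_⟩
  obtain ⟨z', hz'⟩ := key (max n m₀)
  have e : z' = z := by
    apply hinj m₀ le_rfl
    rw [hz, ← cone_tr p (le_max_right n m₀), ← Category.assoc, hz', compat_tr x hx]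
  rw [← e, ← cone_tr p (le_max_left n m₀), ← Category.assoc, hz', compat_tr x hx]

end cat

section tri

open Pretriangulated

variable {T : Type u'} [Category.{v'} T] [Preadditive T] [HasZeroObject T] [HasShift T ℤ]
  [∀ n : ℤ, (shiftFunctor T n).Additive] [Pretriangulated T] (F : ℕᵒᵖ ⥤ T)

lemma one_add_zero_sub_one : (1 : ℤ) + ((0 : ℤ) - 1) = 0 := by norm_num

/-- `Hom(W[1], Y) ≃+ Hom(W, Y[0 - 1])` -/
noncomputable def shiftAddEquiv (W Y : T) : (W⟦(1 : ℤ)⟧ ⟶ Y) ≃+ (W ⟶ Y⟦(0 : ℤ) - 1⟧) :=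
  haveI : (shiftEquiv' T (1 : ℤ) ((0 : ℤ) - 1) one_add_zero_sub_one).functor.Additive :=
    inferInstanceAs (shiftFunctor T (1 : ℤ)).Additive
  (shiftEquiv' T (1 : ℤ) ((0 : ℤ) - 1) one_add_zero_sub_one).toAdjunction.homAddEquiv W Y

lemma shiftAddEquiv_naturality (W : T) {Y Y' : T} (x : W⟦(1 : ℤ)⟧ ⟶ Y) (g : Y ⟶ Y') :
    shiftAddEquiv W Y' (x ≫ g) = shiftAddEquiv W Y x ≫ g⟦(0 : ℤ) - 1⟧' :=
  (shiftEquiv' T (1 : ℤ) ((0 : ℤ) - 1) one_add_zero_sub_one).toAdjunction.homEquiv_naturality_right x g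

variable {F}

lemma limOneIsZero_of_homProConst {X : T} (p : (Functor.const ℕᵒᵖ).obj X ⟶ F) (W : T)
    (h1 : HomProConst F (W⟦(1 : ℤ)⟧) p) :
    CohCx.LimOneIsZero (fun n => W ⟶ (F.obj (op n))⟦(0 : ℤ) - 1⟧)
      (fun n => Preadditive.rightComp W ((F.map (homOfLE (Nat.le_succ n)).op)⟦(0 : ℤ) - 1⟧')) := by
  let F' : ℕᵒᵖ ⥤ T := F ⋙ shiftFunctor T ((0 : ℤ) - 1)
  let p' : ∀ n, (W⟦(1 : ℤ)⟧ ⟶ X) →+ (W ⟶ F'.obj (op n)) := fun n =>
    (shiftAddEquiv W (F.obj (op n))).toAddMonoidHom.comp (Preadditive.rightComp _ (p.app (op n)))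
  have hp'a : ∀ n g, p' n g = shiftAddEquiv W (F.obj (op n)) (g ≫ p.app (op n)) := fun n g => rfl
  refine limOneIsZero_of_ml (homτ F' W) p' ?_ ?_
  · intro n g
    show shiftAddEquiv W _ (g ≫ p.app (op (n + 1))) ≫
      (F.map (homOfLE (Nat.le_succ n)).op)⟦(0 : ℤ) - 1⟧' = shiftAddEquiv W _ (g ≫ p.app (op n))
    rw [← shiftAddEquiv_naturality, Category.assoc]
    congr 2
    exact cone_tr p (Nat.le_succ n)
  · intro n
    obtain ⟨m₁, hm₁, β, -, hβ⟩ := h1 n
    refine ⟨m₁ - n, fun i hi c => ?_⟩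
    have hm : m₁ ≤ n + i := by omega
    rw [iterate_sh_apply F' W c i n (n + i) rfl]
    let x : W⟦(1 : ℤ)⟧ ⟶ F.obj (op m₁) :=
      (shiftAddEquiv W (F.obj (op m₁))).symm (c (n + i) ≫ ARSys.tr F' hm)
    refine ⟨β x, ?_⟩
    rw [hp'a, hβ, shiftAddEquiv_naturality]
    have hx : shiftAddEquiv W (F.obj (op m₁)) x = c (n + i) ≫ ARSys.tr F' hm :=
      (shiftAddEquiv W (F.obj (op m₁))).apply_symm_apply _
    rw [hx, Category.assoc]
    congr 1
    exact tr_comp F' hm₁ hm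

/-- **Main criterion.** -/
theorem bijective_comp_of_homProConst [HasProduct (fun n => F.obj (op n))] {L : T}
    {a : ∀ n, L ⟶ F.obj (op n)}
    (hL : CohCx.IsRlimVia (fun n => F.obj (op n)) (fun n => F.map (homOfLE (Nat.le_succ n)).op) L a)
    {X : T} (p : (Functor.const ℕᵒᵖ).obj X ⟶ F) (b : X ⟶ L) (hb : ∀ n, b ≫ a n = p.app (op n))
    (W : T) (h0 : HomProConst F W p) (h1 : HomProConst F (W⟦(1 : ℤ)⟧) p) :
    Function.Bijective (fun z : W ⟶ X => z ≫ b) := by
  have hat : ∀ n, a (n + 1) ≫ ARSys.tr F (Nat.le_succ n) = a n := by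
    intro n
    obtain ⟨c, hc⟩ := hL
    have h0 := comp_distTriang_mor_zero₁₂ _ hc
    have h1 : (Pi.lift a ≫ Pi.lift fun n => Pi.π (fun n => F.obj (op n)) n -
        Pi.π (fun n => F.obj (op n)) (n + 1) ≫ F.map (homOfLE (Nat.le_succ n)).op) ≫
        Pi.π (fun n => F.obj (op n)) n = 0 ≫ Pi.π (fun n => F.obj (op n)) n :=
      congrArg (fun x => x ≫ Pi.π (fun n => F.obj (op n)) n) h0
    rw [Category.assoc, Pi.lift_π, Preadditive.comp_sub, Pi.lift_π, Pi.lift_π_assoc,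
      zero_comp] at h1
    exact (sub_eq_zero.1 h1).symm
  constructor
  · intro z z' hz
    have hz' : z ≫ b = z' ≫ b := hz
    obtain ⟨m₀, hinj⟩ := h0.injective
    apply hinj m₀ le_rfl
    rw [← hb, ← Category.assoc, hz', Category.assoc]
  · intro y
    obtain ⟨z, hz⟩ := h0.exists_lift (fun n => y ≫ a n) (fun n => by
      rw [Category.assoc, hat])
    refine ⟨z, ?_⟩
    show z ≫ b = y
    have hlim := limOneIsZero_of_homProConst p W h1
    have key := (Groth.Agent.S0943.milnor_general hL W 0).2 hlim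
      ((y - z ≫ b) ≫ (shiftFunctorZero T ℤ).inv.app L) (fun n => by
        rw [Category.assoc]
        have := (shiftFunctorZero T ℤ).inv.naturality (a n)
        simp only [Functor.id_obj, Functor.id_map] at this
        rw [← this, ← Category.assoc, Preadditive.sub_comp, Category.assoc, hb, hz, sub_self,
          zero_comp])
    have key' : y - z ≫ b = 0 := by
      rw [← cancel_mono ((shiftFunctorZero T ℤ).inv.app L), key, zero_comp]
    exact (sub_eq_zero.1 key').symm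

end tri

end Groth.Agent.Lib.Helper10.RlimA
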