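import Mathlib
import Groth.Agent.Lib.Helper10RlimA
import Groth.Agent.Lib.Helper10KosProD
set_option backward.isDefEq.respectTransparency.types false

/-!
# Pro-constancy of `Hom(W, Φ(Kos_n ⊗ L))` for `W` killed by powers (helper10)
-/

set_option autoImplicit false
set_option maxHeartbeats 400000
universe u
open CategoryTheory CategoryTheory.Limits Opposite MonoidalCategory CochainComplex HomologicalComplex
attribute [local instance] HasDerivedCategory.standard

namespace Groth.Agent.Lib.Helper10.RlimB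

open DerCA Groth.Agent.Lib.Helper10.KosPro DerivedCategory Pretriangulated

section generic

variable {C : Type*} [Category C]

/-- a criterion for `Hom(W, -)` of a morphism of systems to be a pro-isomorphism -/
lemma isProIso_coyoneda_of {X Y : ARSys.PS C} (a : X ⟶ Y) (W : C) (n₀ : ℕ)
    (h : ∀ n, n₀ ≤ n → ∃ (m : ℕ) (hm : n ≤ m),
      (∀ y : W ⟶ Y.obj (op m), ∃ x : W ⟶ X.obj (op n), x ≫ a.app (op n) = y ≫ ARSys.tr Y hm) ∧
      (∀ x x' : W ⟶ X.obj (op n), x ≫ a.app (op n) = x' ≫ a.app (op n) → x = x')) :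
    IsProIso (Functor.whiskerRight a (coyoneda.obj (op W))) := by
  intro n
  obtain ⟨m, hm, hex, hinj⟩ := h (max n n₀) (le_max_right _ _)
  choose s hs using hex
  have hn : n ≤ max n n₀ := le_max_left _ _
  refine ⟨m, hn.trans hm, ↾(fun y => s y ≫ ARSys.tr X hn), ?_, ?_⟩
  · ext x'
    have x'' : W ⟶ X.obj (op m) := x'
    show s (x' ≫ a.app (op m)) ≫ ARSys.tr X hn = x' ≫ ARSys.tr X (hn.trans hm)
    have e : s (x' ≫ a.app (op m)) = x' ≫ ARSys.tr X hm := by
      apply hinj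
      rw [hs, Category.assoc, Category.assoc, tr_nat]
    rw [e, Category.assoc, tr_comp]
  · ext y
    show (s y ≫ ARSys.tr X hn) ≫ a.app (op n) = y ≫ ARSys.tr Y (hn.trans hm)
    rw [Category.assoc, tr_nat, ← Category.assoc, hs, Category.assoc, tr_comp]

lemma isProIso_whisker_of_eq {D E : Type*} [Category D] [Category E] {X Y : ARSys.PS C}
    {a a' : X ⟶ Y} (h : a = a') (G : C ⥤ D) (H : D ⥤ E)
    (ha : IsProIso (Functor.whiskerRight (Functor.whiskerRight a' G) H)) :
    IsProIso (Functor.whiskerRight (Functor.whiskerRight a G) H) := by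
  subst h
  exact ha

lemma isProIso_whisker_comp₃ {D E : Type*} [Category D] [Category E] {X Y Z V : ARSys.PS C}
    (a : X ⟶ Y) (b : Y ⟶ Z) (c : Z ⟶ V) (G : C ⥤ D) (H : D ⥤ E)
    (ha : IsProIso (Functor.whiskerRight (Functor.whiskerRight a G) H))
    (hb : IsProIso (Functor.whiskerRight (Functor.whiskerRight b G) H))
    (hc : IsProIso (Functor.whiskerRight (Functor.whiskerRight c G) H)) :
    IsProIso (Functor.whiskerRight (Functor.whiskerRight (a ≫ b ≫ c) G) H) := by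
  rw [Functor.whiskerRight_comp, Functor.whiskerRight_comp, Functor.whiskerRight_comp,
    Functor.whiskerRight_comp]
  exact IsProIso.comp ha (IsProIso.comp hb hc)

end generic

variable {A : Type u} [CommRing A]

lemma smul_eq_zero_of_le {W : Dual.D A} {f : A} {k : ℕ} (hW : f ^ k • 𝟙 W = 0) {j : ℕ}
    (hj : k ≤ j) {Y : Dual.D A} (w : W ⟶ Y) : f ^ j • w = 0 := by
  obtain ⟨i, rfl⟩ := Nat.exists_eq_add_of_le hj
  have : f ^ (k + i) • w = (f ^ i • (f ^ k • 𝟙 W)) ≫ w := by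
    rw [Linear.smul_comp, Linear.smul_comp, Category.id_comp, smul_smul, pow_add, mul_comm]
  rw [this, hW, smul_zero, zero_comp]

section NilCone

variable (Φ : Dual.D A ⥤ Dual.D A) [Φ.CommShift ℤ] [Φ.IsTriangulated]
  (hΦ : ∀ (a : A) {Y Y' : Dual.D A} (g : Y ⟶ Y'), Φ.map (a • g) = a • Φ.map g)

/-- the connecting morphism of the image under `Φ ∘ Q` of the cone triangle of `f^(n+1)` -/
noncomputable abbrev bd (f : A) (X : Sys A) (n : ℕ) :
    Φ.obj (Q.obj ((coneSys f X).obj (op n))) ⟶ (Φ.obj (Q.obj (X.obj (op n))))⟦(1 : ℤ)⟧ :=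
  Φ.map (Q.map (mappingCone.triangle (f ^ (n + 1) • 𝟙 (X.obj (op n)))).mor₃ ≫
    ((Q : Cx A ⥤ Dual.D A).commShiftIso (1 : ℤ)).hom.app _) ≫ (Φ.commShiftIso (1 : ℤ)).hom.app _

lemma tri_dist (f : A) (X : Sys A) (n : ℕ) :
    Triangle.mk (Φ.map (Q.map (f ^ (n + 1) • 𝟙 (X.obj (op n)))))
      (Φ.map (Q.map ((inrSys f X).app (op n)))) (bd Φ f X n) ∈ distTriang (Dual.D A) :=
  Φ.map_distinguished _ ((mem_distTriang_iff _).2 ⟨_, _, _, ⟨Iso.refl _⟩⟩)

lemma bd_nat (f : A) (X : Sys A) {n m : ℕ} (h : n ≤ m) :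
    Φ.map (Q.map (ARSys.tr (coneSys f X) h)) ≫ bd Φ f X n =
      bd Φ f X m ≫ (Φ.map (Q.map (f ^ (m - n) • ARSys.tr X h)))⟦(1 : ℤ)⟧' :=
  ((Φ.mapTriangle.map ((Q : Cx A ⥤ Dual.D A).mapTriangle.map
    (mappingCone.triangleMap _ _ (f ^ (m - n) • ARSys.tr X h) (ARSys.tr X h)
      (coneSys_comm f X (homOfLE h).op)))).comm₃).symm

include hΦ in
/-- **NilCone**: `Hom(W, Φ X_n) ⟶ Hom(W, Φ Cone(f^(n+1) | X_n))` is a pro-isomorphism when a power
of `f` kills `W`. -/
theorem isProIso_inrSys (f : A) (X : Sys A) (W : Dual.D A) (k : ℕ) (hW : f ^ k • 𝟙 W = 0) :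
    IsProIso (Functor.whiskerRight (Functor.whiskerRight (inrSys f X) (Q ⋙ Φ))
      (coyoneda.obj (op W))) := by
  apply isProIso_coyoneda_of _ W k
  intro n hn
  have hT := tri_dist Φ f X n
  refine ⟨n + k, Nat.le_add_right n k, ?_, ?_⟩
  · intro y
    have h0 : (y ≫ Φ.map (Q.map (ARSys.tr (coneSys f X) (Nat.le_add_right n k)))) ≫
        bd Φ f X n = 0 := by
      rw [Category.assoc, bd_nat, Functor.map_smul, hΦ, Functor.map_smul, Linear.comp_smul,
        Linear.comp_smul, ← Linear.smul_comp, smul_eq_zero_of_le hW (by omega), zero_comp]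
    obtain ⟨x, hx⟩ := Triangle.coyoneda_exact₃ _ hT _ h0
    exact ⟨x, hx.symm⟩
  · intro x x' hxx
    have hxx' : x ≫ Φ.map (Q.map ((inrSys f X).app (op n))) =
        x' ≫ Φ.map (Q.map ((inrSys f X).app (op n))) := hxx
    have h0 : (x - x') ≫ Φ.map (Q.map ((inrSys f X).app (op n))) = 0 := by
      rw [Preadditive.sub_comp, hxx', sub_self]
    obtain ⟨w, hw'⟩ : ∃ w : W ⟶ Φ.obj (Q.obj (X.obj (op n))),
        x - x' = w ≫ Φ.map (Q.map (f ^ (n + 1) • 𝟙 (X.obj (op n)))) :=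
      Triangle.coyoneda_exact₂ _ hT (x - x') h0
    rw [Functor.map_smul, hΦ, CategoryTheory.Functor.map_id, CategoryTheory.Functor.map_id,
      Linear.comp_smul, Category.comp_id, smul_eq_zero_of_le hW (by omega)] at hw'
    exact sub_eq_zero.1 hw'

end NilCone

section KosSys

variable (Φ : Dual.D A ⥤ Dual.D A) [Φ.CommShift ℤ] [Φ.IsTriangulated]
  (hΦ : ∀ (a : A) {Y Y' : Dual.D A} (g : Y ⟶ Y'), Φ.map (a • g) = a • Φ.map g)
  (L : Cx A) (W : Dual.D A)

lemma whiskerRight_kosι_cons (f : A) (fs : List A) :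
    Functor.whiskerRight (kosι (f :: fs)) (tensorRight L) =
      Functor.whiskerRight (kosι fs) (tensorRight L) ≫ inrSys f (Kos fs ⋙ tensorRight L) ≫
        (coneSysTensor f (Kos fs) L).hom := by
  ext n : 2
  induction n using Opposite.rec with
  | _ n =>
    rw [kosι_cons]
    simp only [NatTrans.comp_app, Functor.whiskerRight_app]
    rw [inrSys_coneSysTensor]
    exact (tensorRight L).map_comp _ _

include hΦ in
/-- `Hom(W, Φ(𝟙 ⊗ L)) ⟶ Hom(W, Φ(Kos_n ⊗ L))` is a pro-isomorphism when `W` is killed by powers of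
the elements of the list -/
theorem isProIso_kosι : ∀ (fs : List A), (∀ g ∈ fs, ∃ k : ℕ, g ^ k • 𝟙 W = 0) →
    IsProIso (Functor.whiskerRight (Functor.whiskerRight
      (Functor.whiskerRight (kosι fs) (tensorRight L)) (Q ⋙ Φ)) (coyoneda.obj (op W)))
  | [], _ => by
    apply isProIso_of_isIso
    intro n
    show IsIso ((coyoneda.obj (op W)).map ((Q ⋙ Φ).map ((tensorRight L).map (𝟙 (𝟙_ (Cx A))))))
    infer_instance
  | f :: fs, h => by
    have ih := isProIso_kosι fs (fun g hg => h g (List.mem_cons_of_mem _ hg))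
    obtain ⟨k, hk⟩ := h f List.mem_cons_self
    have h1 := isProIso_inrSys Φ hΦ f (Kos fs ⋙ tensorRight L) W k hk
    refine isProIso_whisker_of_eq (whiskerRight_kosι_cons L f fs) _ _
      (isProIso_whisker_comp₃ _ _ _ _ _ ih h1 (isProIso_of_isIso _ (fun n => ?_)))
    show IsIso ((coyoneda.obj (op W)).map ((Q ⋙ Φ).map
      ((coneSysTensor f (Kos fs) L).hom.app (op n))))
    infer_instance

end KosSys

end Groth.Agent.Lib.Helper10.RlimB
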