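import Groth.Agent.Lib.Helper17RDExist
import Mathlib.CategoryTheory.Triangulated.Orthogonal
import Mathlib.Algebra.Homology.HomotopyCategory.KInjective
import Mathlib.CategoryTheory.Triangulated.Adjunction

/-!
# Total right derived functors of triangulated functors are triangulated (helper17)

`A` Grothendieck abelian.  The full subcategory `KInj A` of `K(A)` on the K-injective objects is
triangulated and `KInj A ⥤ D(A)` is a triangulated equivalence.  For a triangulated functor
`Φ : K(A) ⥤ T` with right derived functor `(RΦ, α)`, we get `RΦ ≅ inverse ⋙ ι ⋙ Φ`, hence a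
triangulated structure on `RΦ`.
-/

set_option autoImplicit false

universe w w' v v' u u'

open CategoryTheory CategoryTheory.Limits Pretriangulated

namespace Groth.Agent.Lib.Helper17.RDTri

open Groth.Agent.Lib.Helper17.KInj Groth.Agent.Lib.Helper17.RDExist

variable {A : Type u} [Category.{v} A] [Abelian A] [HasDerivedCategory.{w'} A]
  {T : Type u'} [Category.{v'} T]

section Unit

variable (Φ : HomotopyCategory A (ComplexShape.up ℤ) ⥤ T) (RΦ : DerivedCategory A ⥤ T)
  (α : Φ ⟶ DerivedCategory.Qh ⋙ RΦ)
  [RΦ.IsRightDerivedFunctor α (HomotopyCategory.quasiIso A (ComplexShape.up ℤ))]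
  [Φ.HasPointwiseRightDerivedFunctor (HomotopyCategory.quasiIso A (ComplexShape.up ℤ))]

/-- the unit of a right derived functor is an isomorphism at K-injective complexes. -/
lemma isIso_app_of_isKInjective (I : CochainComplex A ℤ) [I.IsKInjective] :
    IsIso (α.app ((HomotopyCategory.quotient A (ComplexShape.up ℤ)).obj I)) := by
  have h := Functor.isPointwiseLeftKanExtensionOfHasPointwiseRightDerivedFunctor (F' := RΦ)
    (α := α) (HomotopyCategory.quasiIso A (ComplexShape.up ℤ)) (L := DerivedCategory.Qh)
  have hc := h (DerivedCategory.Qh.obj ((HomotopyCategory.quotient A (ComplexShape.up ℤ)).obj I))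
  have h1 := hc.isIso_ι_app_of_isTerminal _ (isTerminalMkId I)
  have h2 : ((Functor.LeftExtension.mk RΦ α).coconeAt (DerivedCategory.Qh.obj
      ((HomotopyCategory.quotient A (ComplexShape.up ℤ)).obj I))).ι.app
        (CostructuredArrow.mk (𝟙 (DerivedCategory.Qh.obj
          ((HomotopyCategory.quotient A (ComplexShape.up ℤ)).obj I)))) =
      α.app ((HomotopyCategory.quotient A (ComplexShape.up ℤ)).obj I) := by
    simp
  rw [h2] at h1
  exact h1

end Unit

section Equivalence

variable (A)

/-- the K-injective objects of `K(A)`. -/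
abbrev KI : ObjectProperty (HomotopyCategory A (ComplexShape.up ℤ)) :=
  (HomotopyCategory.subcategoryAcyclic A).rightOrthogonal

/-- the homotopy category of K-injective complexes. -/
abbrev KInj := (KI A).FullSubcategory

variable {A}

lemma isKInjective_as (X : KInj A) : CochainComplex.IsKInjective X.obj.as :=
  (CochainComplex.isKInjective_iff_rightOrthogonal _).2 X.property

variable (A)

/-- the functor `KInj A ⥤ D(A)`. -/
noncomputable abbrev E : KInj A ⥤ DerivedCategory A := (KI A).ι ⋙ DerivedCategory.Qh

instance : (E A).Full where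
  map_surjective {X Y} f := by
    haveI := isKInjective_as Y
    obtain ⟨g, hg⟩ := (CochainComplex.IsKInjective.Qh_map_bijective X.obj Y.obj.as).2 f
    exact ⟨(KI A).fullyFaithfulι.preimage g, hg⟩

instance : (E A).Faithful where
  map_injective {X Y} f g h := by
    haveI := isKInjective_as Y
    apply (KI A).ι.map_injective
    exact (CochainComplex.IsKInjective.Qh_map_bijective X.obj Y.obj.as).1 h

instance [IsGrothendieckAbelian.{w} A] : (E A).EssSurj where
  mem_essImage X := by
    obtain ⟨I, q, hI, hq, -, -⟩ := exists_kInjective_resolution.{w} A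
      ((DerivedCategory.Q : _ ⥤ DerivedCategory A).objPreimage X)
    haveI := hq
    haveI : IsIso ((DerivedCategory.Q : _ ⥤ DerivedCategory A).map q) := by
      rw [DerivedCategory.isIso_Q_map_iff_quasiIso]; infer_instance
    refine ⟨⟨(HomotopyCategory.quotient A (ComplexShape.up ℤ)).obj I,
      (CochainComplex.isKInjective_iff_rightOrthogonal _).1 hI⟩, ⟨?_⟩⟩
    exact (DerivedCategory.quotientCompQhIso A).app I ≪≫
      (asIso ((DerivedCategory.Q : _ ⥤ DerivedCategory A).map q)).symm ≪≫
      (DerivedCategory.Q : _ ⥤ DerivedCategory A).objObjPreimageIso X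

variable [IsGrothendieckAbelian.{w} A]

instance : (E A).IsEquivalence where

/-- the equivalence `KInj A ≌ D(A)`. -/
noncomputable def equiv : KInj A ≌ DerivedCategory A := (E A).asEquivalence

noncomputable instance : (equiv.{w} A).functor.CommShift ℤ :=
  inferInstanceAs ((E A).CommShift ℤ)

instance : (equiv.{w} A).functor.IsTriangulated :=
  inferInstanceAs ((E A).IsTriangulated)

noncomputable instance : (equiv.{w} A).inverse.CommShift ℤ := (equiv.{w} A).commShiftInverse ℤ

instance : (equiv.{w} A).CommShift ℤ := (equiv.{w} A).commShift_of_functor ℤ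

instance : (equiv.{w} A).IsTriangulated := Equivalence.IsTriangulated.mk' _ inferInstance

instance : (equiv.{w} A).inverse.IsTriangulated := inferInstance

end Equivalence

section Main

variable [IsGrothendieckAbelian.{w} A]
  (Φ : HomotopyCategory A (ComplexShape.up ℤ) ⥤ T) (RΦ : DerivedCategory A ⥤ T)
  (α : Φ ⟶ DerivedCategory.Qh ⋙ RΦ)
  [RΦ.IsRightDerivedFunctor α (HomotopyCategory.quasiIso A (ComplexShape.up ℤ))]

/-- the model `D(A) ≌ KInj A ⥤ K(A) ⥤ T` of the right derived functor. -/
noncomputable abbrev model : DerivedCategory A ⥤ T :=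
  (equiv.{w} A).inverse ⋙ (KI A).ι ⋙ Φ

include α in
lemma isIso_app_ι (X : KInj A) : IsIso (α.app ((KI A).ι.obj X)) := by
  haveI := hasPointwiseRightDerivedFunctor.{w} Φ
  haveI := isKInjective_as X
  exact isIso_app_of_isKInjective Φ RΦ α X.obj.as

/-- the right derived functor is isomorphic to its model. -/
noncomputable def modelIso : model.{w} Φ ≅ RΦ :=
  NatIso.ofComponents (fun X =>
    haveI := isIso_app_ι.{w} Φ RΦ α ((equiv.{w} A).inverse.obj X)
    asIso (α.app ((KI A).ι.obj ((equiv.{w} A).inverse.obj X))) ≪≫
      RΦ.mapIso ((equiv.{w} A).counitIso.app X))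
    (fun {X Y} f => by
      have h1 := α.naturality ((KI A).ι.map ((equiv.{w} A).inverse.map f))
      have h2 := (equiv.{w} A).counitIso.hom.naturality f
      dsimp at h1 h2 ⊢
      rw [reassoc_of% h1, Category.assoc, ← RΦ.map_comp, ← RΦ.map_comp]
      congr 2)

section Tri

variable [HasZeroObject T] [HasShift T ℤ] [Preadditive T] [∀ n : ℤ, (shiftFunctor T n).Additive]
  [Pretriangulated T] [Φ.CommShift ℤ] [Φ.IsTriangulated]

/-- the shift-commutation structure on a right derived functor of a triangulated functor out of
`K(A)`, transported from its model. -/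
noncomputable def commShift : RΦ.CommShift ℤ :=
  Functor.CommShift.ofIso (modelIso.{w} Φ RΦ α) ℤ

/-- **a right derived functor of a triangulated functor out of `K(A)` is triangulated.** -/
theorem isTriangulated :
    letI := commShift.{w} Φ RΦ α
    RΦ.IsTriangulated := by
  letI := commShift.{w} Φ RΦ α
  haveI : NatTrans.CommShift (modelIso.{w} Φ RΦ α).hom ℤ :=
    Functor.CommShift.ofIso_compatibility (modelIso.{w} Φ RΦ α) ℤ
  exact Functor.isTriangulated_of_iso (modelIso.{w} Φ RΦ α)

end Tri

end Main

end Groth.Agent.Lib.Helper17.RDTri
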