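import Mathlib
import Groth.Agent.Lib.Helper10RlimB
import Groth.Agent.Lib.Helper10RGamC
import Groth.Agent.Lib.Helper17RDTri1
import Groth.Agent.Lib.Helper10KosProH
import Groth.Agent.Lib.Helper10KosProI
set_option backward.isDefEq.respectTransparency.types false

/-!
# `RΓ_J` is triangulated and linear; `(A/I^(n+1))[0] ⊗ M[0] ≅ (M/I^(n+1)M)[0]` (helper10)
-/

set_option autoImplicit false
set_option maxHeartbeats 400000
universe u
open CategoryTheory CategoryTheory.Limits Opposite MonoidalCategory CochainComplex HomologicalComplex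
attribute [local instance] HasDerivedCategory.standard

namespace Groth.Agent.Lib.Helper10.RlimC

open DerCA Groth.Agent.Lib.Helper10.KosPro DerivedCategory Pretriangulated
  Groth.Agent.Lib.Helper10.RlimA Groth.Agent.Lib.Helper10.RlimB
  Groth.Agent.Lib.Helper1.KF Groth.Agent.Lib.Helper1.DT

section RG

variable {A : Type u} [CommRing A] (J : Ideal A) [DRing.HasRgammaI J]

/-- the shift-commutation structure on `RΓ_J` -/
@[instance_reducible]
noncomputable def commShiftRG : (DRing.RgammaI J).CommShift ℤ :=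
  Groth.Agent.Lib.Helper17.RDTri.commShift.{u} (DRing.gammaIKh J) (DRing.RgammaI J)
    ((DRing.gammaIKh J).totalRightDerivedUnit DerivedCategory.Qh
      (HomotopyCategory.quasiIso (ModuleCat.{u} A) (ComplexShape.up ℤ)))

lemma isTriangulatedRG :
    letI := commShiftRG J
    (DRing.RgammaI J).IsTriangulated :=
  Groth.Agent.Lib.Helper17.RDTri.isTriangulated.{u} (DRing.gammaIKh J) (DRing.RgammaI J)
    ((DRing.gammaIKh J).totalRightDerivedUnit DerivedCategory.Qh
      (HomotopyCategory.quasiIso (ModuleCat.{u} A) (ComplexShape.up ℤ)))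

lemma RgammaI_map_smul [IsNoetherianRing A] (a : A) {Y Y' : Dual.D A} (g : Y ⟶ Y') :
    (DRing.RgammaI J).map (a • g) = a • (DRing.RgammaI J).map g := by
  apply Groth.Agent.Lib.Helper10.RGamC.comp_ε_injective J _ Y'
    (Groth.Agent.Lib.Helper10.RGamC.isPowerTorsion_HD_RgammaI J Y)
  show (DRing.RgammaI J).map (a • g) ≫ (DRing.RgammaIε J).app Y' =
    (a • (DRing.RgammaI J).map g) ≫ (DRing.RgammaIε J).app Y'
  have n1 := (DRing.RgammaIε J).naturality (a • g)
  have n2 := (DRing.RgammaIε J).naturality g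
  simp only [Functor.id_obj, Functor.id_map] at n1 n2
  rw [n1, Linear.smul_comp, n2, Linear.comp_smul]

end RG

section Ident

variable {A : Type u} [CommRing A] (I : Ideal A) (M : Type u) [AddCommGroup M] [Module A M]

/-- `M[0]` -/
noncomputable abbrev Lm : KosPro.Cx A := sgl (ModuleCat.of A M)

/-- the system `n ↦ (A/I^(n+1))[0] ⊗ M[0]` -/
noncomputable abbrev Ysys : Sys A := Tsys I ⋙ tensorRight (Lm (A := A) M)

/-- the system `n ↦ (M/I^(n+1)M)[0]` -/
noncomputable abbrev ASsys : Sys A :=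
  CohIII.adicSystem I (ModuleCat.of A M) ⋙
    HomologicalComplex.single (ModuleCat.{u} A) (ComplexShape.up ℤ) 0

/-- the quotient map `M ⟶ M/I^(n+1)M` -/
noncomputable abbrev qM (n : ℕ) :
    ModuleCat.of A M ⟶ (CohIII.adicSystem I (ModuleCat.of A M)).obj (op n) :=
  ModuleCat.ofHom (Submodule.mkQ (I ^ (n + 1) • (⊤ : Submodule A M)))

lemma adicM_map_succ (n : ℕ) :
    (CohIII.adicSystem I (ModuleCat.of A M)).map (homOfLE (n.le_add_right 1)).op =
      ModuleCat.ofHom (Submodule.factor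
        (Submodule.smul_mono_left (Ideal.pow_le_pow_right (Nat.le_succ (n + 1))))) :=
  Functor.ofOpSequence_map_homOfLE_succ _ n

/-- the quotient maps as a cone -/
noncomputable def πA : (Functor.const ℕᵒᵖ).obj (ModuleCat.of A M) ⟶
    CohIII.adicSystem I (ModuleCat.of A M) :=
  NatTrans.ofOpSequence (fun n => qM I M n) (fun n => by
    show 𝟙 _ ≫ _ = _ ≫ _
    rw [Category.id_comp, adicM_map_succ]
    rfl)

lemma πA_app (n : ℕ) : (πA I M).app (op n) = qM I M n := rfl

/-- the cone `M[0] ⟶ (A/I^(n+1))[0] ⊗ M[0]` -/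
noncomputable def uYs : (Functor.const ℕᵒᵖ).obj (Lm (A := A) M) ⟶ Ysys I M where
  app n := (λ_ (Lm (A := A) M)).inv ≫ ((ηT I).app n ▷ Lm (A := A) M)
  naturality n m g := by
    have h := (ηT I).naturality g
    simp only [Functor.const_obj_obj, Functor.const_obj_map, Category.id_comp] at h
    show 𝟙 _ ≫ _ = ((λ_ (Lm (A := A) M)).inv ≫ ((ηT I).app n ▷ Lm (A := A) M)) ≫ ((Tsys I).map g ▷ Lm (A := A) M)
    rw [Category.id_comp, Category.assoc, ← comp_whiskerRight, ← h]

lemma smul_id_Y {r : A} (n : ℕ) (hr : r ∈ I ^ (n + 1)) :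
    r • 𝟙 ((Ysys I M).obj (op n)) = 0 := by
  show r • 𝟙 (sgl (Abar I n) ⊗ Lm (A := A) M) = 0
  have h1 : r • 𝟙 (sgl (Abar I n)) = 0 := by
    rw [smul_id_single]
    have : r • 𝟙 (Abar I n) = 0 := ModuleCat.hom_ext (LinearMap.ext fun z => smul_Abar I n hr z)
    rw [this, Functor.map_zero]
  have h1' : r • 𝟙 (sgl (Abar I n)) = (0 : A) • 𝟙 (sgl (Abar I n)) := by rw [h1, zero_smul]
  have h2 := smul_whiskerRight' r (𝟙 (sgl (Abar I n))) (Lm (A := A) M)
  have h3 := smul_whiskerRight' (0 : A) (𝟙 (sgl (Abar I n))) (Lm (A := A) M)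
  rw [id_whiskerRight] at h2 h3
  rw [← h2, h1', h3, zero_smul]

/-- `(M[0])^0 ≅ M` -/
noncomputable abbrev sM : (Lm (A := A) M).X 0 ≅ ModuleCat.of A M :=
  singleObjXSelf (ComplexShape.up ℤ) 0 (ModuleCat.of A M)

/-- the map `M ⟶ ((A/I^(n+1))[0] ⊗ M[0])^0` -/
noncomputable def gM (n : ℕ) : ModuleCat.of A M ⟶ ((Ysys I M).obj (op n)).X 0 :=
  (sM (A := A) M).inv ≫ ((uYs I M).app (op n)).f 0

lemma gM_surjective (n : ℕ) : Function.Surjective (gM I M n).hom := by
  intro w
  obtain ⟨z, hz⟩ := map_f_surjective I (Lm (A := A) M) 0 n w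
  refine ⟨(sM (A := A) M).hom.hom
    (((λ_ (Lm (A := A) M)).hom.f 0).hom z), ?_⟩
  show (((uYs I M).app (op n)).f 0).hom
    ((sM (A := A) M).inv.hom
      ((sM (A := A) M).hom.hom
        (((λ_ (Lm (A := A) M)).hom.f 0).hom z))) = w
  have e1 : (sM (A := A) M).inv.hom
      ((sM (A := A) M).hom.hom
        (((λ_ (Lm (A := A) M)).hom.f 0).hom z)) = ((λ_ (Lm (A := A) M)).hom.f 0).hom z := by
    have := (sM (A := A) M).hom_inv_id
    exact LinearMap.congr_fun (congrArg ModuleCat.Hom.hom this) _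
  rw [e1]
  show ((((λ_ (Lm (A := A) M)).inv ≫ ((ηT I).app (op n) ▷ Lm (A := A) M)).f 0).hom) (((λ_ (Lm (A := A) M)).hom.f 0).hom z) = w
  rw [HomologicalComplex.comp_f]
  show (((ηT I).app (op n) ▷ Lm (A := A) M).f 0).hom
    (((λ_ (Lm (A := A) M)).inv.f 0).hom (((λ_ (Lm (A := A) M)).hom.f 0).hom z)) = w
  have e2 : ((λ_ (Lm (A := A) M)).inv.f 0).hom (((λ_ (Lm (A := A) M)).hom.f 0).hom z) = z := by
    have : (λ_ (Lm (A := A) M)).hom.f 0 ≫ (λ_ (Lm (A := A) M)).inv.f 0 = 𝟙 _ := by
      rw [← HomologicalComplex.comp_f, Iso.hom_inv_id, HomologicalComplex.id_f]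
    exact LinearMap.congr_fun (congrArg ModuleCat.Hom.hom this) z
  rw [e2, hz]

lemma gM_ker (n : ℕ) (m : M) (hm : (gM I M n).hom m = 0) :
    m ∈ I ^ (n + 1) • (⊤ : Submodule A M) := by
  set z : (Bc (Lm (A := A) M)).X 0 := ((λ_ (Lm (A := A) M)).inv.f 0).hom
    ((sM (A := A) M).inv.hom m) with hz
  have h1 : (((ηT I).app (op n) ▷ Lm (A := A) M).f 0).hom z = 0 := hm
  have h2 := map_f_ker I (Lm (A := A) M) 0 n z h1
  have h3 := map_mem_smul_top (I ^ (n + 1))
    (((λ_ (Lm (A := A) M)).hom.f 0) ≫ (sM (A := A) M).hom).hom h2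
  have e : (((λ_ (Lm (A := A) M)).hom.f 0) ≫
      (sM (A := A) M).hom).hom z = m := by
    have e2 : (λ_ (Lm (A := A) M)).inv.f 0 ≫ (λ_ (Lm (A := A) M)).hom.f 0 = 𝟙 _ := by
      rw [← HomologicalComplex.comp_f, Iso.inv_hom_id, HomologicalComplex.id_f]
    have e3 : (sM (A := A) M).inv ≫
        (((λ_ (Lm (A := A) M)).inv.f 0) ≫ ((λ_ (Lm (A := A) M)).hom.f 0) ≫
          (sM (A := A) M).hom) = 𝟙 _ := by
      rw [reassoc_of% e2, Iso.inv_hom_id]
    exact LinearMap.congr_fun (congrArg ModuleCat.Hom.hom e3) m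
  rwa [e] at h3

lemma gM_smul (n : ℕ) {r : A} (hr : r ∈ I ^ (n + 1)) (m : M) : (gM I M n).hom (r • m) = 0 := by
  rw [map_smul]
  have h := smul_id_Y I M n hr
  have h2 : (r • 𝟙 ((Ysys I M).obj (op n))).f 0 = 0 := by rw [h]; rfl
  exact LinearMap.congr_fun (congrArg ModuleCat.Hom.hom h2) ((gM I M n).hom m)

/-- `M/I^(n+1)M ⟶ ((A/I^(n+1))[0] ⊗ M[0])^0` -/
noncomputable def φM (n : ℕ) : (CohIII.adicSystem I (ModuleCat.of A M)).obj (op n) ⟶
    ((Ysys I M).obj (op n)).X 0 :=
  ModuleCat.ofHom (Submodule.liftQ (I ^ (n + 1) • (⊤ : Submodule A M)) (gM I M n).hom (by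
    intro x hx
    refine Submodule.smul_induction_on hx (fun r hr m _ => ?_) (fun x y hx hy => ?_)
    · exact gM_smul I M n hr m
    · exact Submodule.add_mem _ hx hy))

lemma qM_φM (n : ℕ) : qM I M n ≫ φM I M n = gM I M n :=
  ModuleCat.hom_ext (LinearMap.ext fun _ => rfl)

lemma φM_bijective (n : ℕ) : Function.Bijective (φM I M n).hom := by
  constructor
  · rw [← LinearMap.ker_eq_bot, eq_bot_iff]
    intro x hx
    induction x using Submodule.Quotient.induction_on with
    | H m =>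
      have h1 : (gM I M n).hom m = 0 := hx
      have h2 := gM_ker I M n m h1
      exact (Submodule.Quotient.mk_eq_zero _).2 h2
  · intro w
    obtain ⟨m, hm⟩ := gM_surjective I M n w
    exact ⟨Submodule.Quotient.mk m, hm⟩

lemma isZero_Ysys_X (n : ℕ) (i : ℤ) (hi : i ≠ 0) : IsZero (((Ysys I M).obj (op n)).X i) :=
  isZero_Y_X I (Lm (A := A) M) 0
    (fun i hi => isZero_single_obj_X (ComplexShape.up ℤ) 0 _ i hi) n i hi

/-- `(M/I^(n+1)M)[0] ⟶ (A/I^(n+1))[0] ⊗ M[0]` -/
noncomputable def ψM (n : ℕ) : (ASsys I M).obj (op n) ⟶ (Ysys I M).obj (op n) :=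
  HomologicalComplex.mkHomFromSingle (φM I M n) (fun k hk =>
    (isZero_Ysys_X I M n k (by
      have : (0 : ℤ) + 1 = k := hk
      omega)).eq_of_tgt _ _)

instance isIso_ψM (n : ℕ) : IsIso (ψM I M n) := by
  haveI : ∀ i, IsIso ((ψM I M n).f i) := fun i => by
    by_cases hi : i = 0
    · subst hi
      have e : (ψM I M n).f 0 = (singleObjXSelf (ComplexShape.up ℤ) 0 _).hom ≫ φM I M n :=
        HomologicalComplex.mkHomFromSingle_f _ _
      rw [e]
      haveI : IsIso (φM I M n) :=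
        (ConcreteCategory.isIso_iff_bijective _).2 (φM_bijective I M n)
      infer_instance
    · have h1 : IsZero (((ASsys I M).obj (op n)).X i) :=
        isZero_single_obj_X (ComplexShape.up ℤ) 0 _ i hi
      have h2 := isZero_Ysys_X I M n i hi
      exact ⟨⟨0, h1.eq_of_src _ _, h2.eq_of_src _ _⟩⟩
  exact HomologicalComplex.Hom.isIso_of_components _

lemma single_qM_ψM (n : ℕ) :
    (HomologicalComplex.single (ModuleCat.{u} A) (ComplexShape.up ℤ) 0).map (qM I M n) ≫
      ψM I M n = (uYs I M).app (op n) := by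
  apply HomologicalComplex.from_single_hom_ext
  rw [HomologicalComplex.comp_f, HomologicalComplex.single_map_f_self]
  have e : (ψM I M n).f 0 = (singleObjXSelf (ComplexShape.up ℤ) 0 _).hom ≫ φM I M n :=
    HomologicalComplex.mkHomFromSingle_f _ _
  rw [e]
  simp only [Category.assoc, Iso.inv_hom_id_assoc]
  rw [qM_φM]
  show (sM (A := A) M).hom ≫ (sM (A := A) M).inv ≫ _ = _
  rw [Iso.hom_inv_id_assoc]

/-- the comparison of systems -/
noncomputable def ψsys : ASsys I M ⟶ Ysys I M where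
  app n := ψM I M n.unop
  naturality n m g := by
    have hepi : Epi ((HomologicalComplex.single (ModuleCat.{u} A) (ComplexShape.up ℤ) 0).map
        (qM I M n.unop)) := by
      haveI : Epi (qM I M n.unop) :=
        (ModuleCat.epi_iff_surjective _).2 (Submodule.mkQ_surjective _)
      infer_instance
    rw [← cancel_epi ((HomologicalComplex.single (ModuleCat.{u} A) (ComplexShape.up ℤ) 0).map
        (qM I M n.unop))]
    have h1 := (πA I M).naturality g
    simp only [Functor.const_obj_obj, Functor.const_obj_map, Category.id_comp] at h1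
    have h2 := (uYs I M).naturality g
    simp only [Functor.const_obj_obj, Functor.const_obj_map, Category.id_comp] at h2
    have h3 : (HomologicalComplex.single (ModuleCat.{u} A) (ComplexShape.up ℤ) 0).map
        (qM I M n.unop) ≫ (ASsys I M).map g =
        (HomologicalComplex.single (ModuleCat.{u} A) (ComplexShape.up ℤ) 0).map
          (qM I M m.unop) := by
      show (HomologicalComplex.single (ModuleCat.{u} A) (ComplexShape.up ℤ) 0).map _ ≫
        (HomologicalComplex.single (ModuleCat.{u} A) (ComplexShape.up ℤ) 0).map _ = _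
      rw [← Functor.map_comp]
      congr 1
      exact h1.symm
    rw [← Category.assoc, h3, single_qM_ψM, ← Category.assoc, single_qM_ψM]
    exact h2

instance (n : ℕᵒᵖ) : IsIso ((ψsys I M).app n) := isIso_ψM I M n.unop

lemma uYs_eq (n : ℕᵒᵖ) :
    (HomologicalComplex.single (ModuleCat.{u} A) (ComplexShape.up ℤ) 0).map
      ((πA I M).app n) ≫ (ψsys I M).app n = (uYs I M).app n :=
  single_qM_ψM I M n.unop

end Ident

section generic

variable {C : Type*} [Category C]

/-- if the shift of `p` is a pro-isomorphism, so is `p` -/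
lemma isProIso_of_shift {S F S' F' : ARSys.PS C} (p : S ⟶ F) (p' : S' ⟶ F')
    (eS : ∀ n : ℕ, S'.obj (op n) ≅ S.obj (op (n + 1)))
    (e : ∀ n : ℕ, F'.obj (op n) ≅ F.obj (op (n + 1)))
    (hS : ∀ (n m : ℕ) (h : n ≤ m), ARSys.tr S' h ≫ (eS n).hom =
      (eS m).hom ≫ ARSys.tr S (Nat.succ_le_succ h))
    (hF : ∀ (n m : ℕ) (h : n ≤ m), ARSys.tr F' h ≫ (e n).hom =
      (e m).hom ≫ ARSys.tr F (Nat.succ_le_succ h))
    (hp : ∀ n : ℕ, p'.app (op n) ≫ (e n).hom = (eS n).hom ≫ p.app (op (n + 1)))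
    (h' : IsProIso p') : IsProIso p := by
  intro n
  obtain ⟨m, hm, b', hb1, hb2⟩ := h' n
  refine ⟨m + 1, Nat.le_succ_of_le hm,
    (e m).inv ≫ b' ≫ (eS n).hom ≫ ARSys.tr S (Nat.le_succ n), ?_, ?_⟩
  · have h1 : p.app (op (m + 1)) ≫ (e m).inv = (eS m).inv ≫ p'.app (op m) := by
      rw [Iso.comp_inv_eq, Category.assoc, hp, Iso.inv_hom_id_assoc]
    rw [reassoc_of% h1, reassoc_of% hb1, reassoc_of% (hS n m hm), Iso.inv_hom_id_assoc, tr_comp]
  · have h2 : ARSys.tr S (Nat.le_succ n) ≫ p.app (op n) =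
        p.app (op (n + 1)) ≫ ARSys.tr F (Nat.le_succ n) := tr_nat p _
    simp only [Category.assoc]
    rw [h2, ← reassoc_of% (hp n), reassoc_of% hb2, reassoc_of% (hF n m hm),
      Iso.inv_hom_id_assoc, tr_comp]

end generic

section Main

variable {A : Type u} [CommRing A] (I : Ideal A) (M : Type u) [AddCommGroup M] [Module A M]

/-- the system `n ↦ M/I^nM` -/
noncomputable def Msys : ℕᵒᵖ ⥤ ModuleCat.{u} A where
  obj n := ModuleCat.of A (M ⧸ (I ^ n.unop • ⊤ : Submodule A M))
  map {n m} g := ModuleCat.ofHom (Submodule.mapQ _ _ LinearMap.id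
    (Submodule.smul_mono (Ideal.pow_le_pow_right (leOfHom g.unop)) le_rfl))
  map_id n := ModuleCat.hom_ext (LinearMap.ext fun x => by
    induction x using Submodule.Quotient.induction_on with
    | H m => rfl)
  map_comp g g' := ModuleCat.hom_ext (LinearMap.ext fun x => by
    induction x using Submodule.Quotient.induction_on with
    | H m => rfl)

/-- the quotient maps `M ⟶ M/I^nM` -/
noncomputable def πM : (Functor.const ℕᵒᵖ).obj (ModuleCat.of A M) ⟶ Msys I M where
  app n := ModuleCat.ofHom (Submodule.mkQ _)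
  naturality n m g := ModuleCat.hom_ext (LinearMap.ext fun x => rfl)

lemma adic_map_eq_Msys_map {n m : ℕ} (h : n ≤ m) :
    (CohIII.adicSystem I (ModuleCat.of A M)).map (homOfLE h).op =
      (Msys I M).map (homOfLE (Nat.succ_le_succ h)).op := by
  haveI : Epi (qM I M m) := (ModuleCat.epi_iff_surjective _).2 (Submodule.mkQ_surjective _)
  rw [← cancel_epi (qM I M m)]
  have h1 := (πA I M).naturality (homOfLE h).op
  simp only [Functor.const_obj_obj, Functor.const_obj_map, Category.id_comp] at h1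
  have h2 := (πM I M).naturality (homOfLE (Nat.succ_le_succ h)).op
  simp only [Functor.const_obj_obj, Functor.const_obj_map, Category.id_comp] at h2
  exact h1.symm.trans h2

variable (J : Ideal A) [DRing.HasRgammaI J]

/-- `N ↦ RΓ_J(N[0])` -/
noncomputable abbrev Gfun : ModuleCat.{u} A ⥤ Dual.D A :=
  DerivedCategory.singleFunctor (ModuleCat.{u} A) 0 ⋙ DRing.RgammaI J

/-- the system `n ↦ RΓ_J(M/I^nM)` -/
noncomputable abbrev Fsys : ℕᵒᵖ ⥤ Dual.D A := Msys I M ⋙ Gfun J

/-- the cone `RΓ_J(M) ⟶ RΓ_J(M/I^nM)` -/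
noncomputable def pF : (Functor.const ℕᵒᵖ).obj ((Gfun J).obj (ModuleCat.of A M)) ⟶ Fsys I M J where
  app n := (Gfun J).map ((πM I M).app n)
  naturality n m g := by
    have h := (πM I M).naturality g
    simp only [Functor.const_obj_obj, Functor.const_obj_map, Category.id_comp] at h ⊢
    show _ = (Gfun J).map _ ≫ (Gfun J).map _
    rw [← Functor.map_comp, ← h]

/-- `Q(𝟙 ⊗ M[0]) ≅ M[0]` in `D(A)` -/
noncomputable def ιL : (Q : _ ⥤ Dual.D A).obj (𝟙_ (KosPro.Cx A) ⊗ Lm (A := A) M) ≅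
    (DerivedCategory.singleFunctor (ModuleCat.{u} A) 0).obj (ModuleCat.of A M) :=
  Q.mapIso (λ_ (Lm (A := A) M)) ≪≫
    ((singleFunctorIsoCompQ (ModuleCat.{u} A) 0).app (ModuleCat.of A M)).symm

/-- `Q((A/I^(n+1))[0] ⊗ M[0]) ≅ (M/I^(n+1)M)[0]` in `D(A)` -/
noncomputable def ιn (n : ℕ) : (Q : _ ⥤ Dual.D A).obj ((Ysys I M).obj (op n)) ≅
    (DerivedCategory.singleFunctor (ModuleCat.{u} A) 0).obj ((Msys I M).obj (op (n + 1))) :=
  Q.mapIso (asIso ((ψsys I M).app (op n))).symm ≪≫
    ((singleFunctorIsoCompQ (ModuleCat.{u} A) 0).app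
      ((CohIII.adicSystem I (ModuleCat.of A M)).obj (op n))).symm

lemma hpD (n : ℕ) :
    (Q : _ ⥤ Dual.D A).map ((ηT I).app (op n) ▷ Lm (A := A) M) ≫ (ιn I M n).hom =
      (ιL M).hom ≫ (DerivedCategory.singleFunctor (ModuleCat.{u} A) 0).map
        ((πM I M).app (op (n + 1))) := by
  have h1 : ((ηT I).app (op n) ▷ Lm (A := A) M) ≫ inv ((ψsys I M).app (op n)) =
      (λ_ (Lm (A := A) M)).hom ≫
        (HomologicalComplex.single (ModuleCat.{u} A) (ComplexShape.up ℤ) 0).map
          ((πA I M).app (op n)) := by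
    rw [IsIso.comp_inv_eq, Category.assoc, uYs_eq]
    show _ = (λ_ (Lm (A := A) M)).hom ≫ (λ_ (Lm (A := A) M)).inv ≫ _
    rw [Iso.hom_inv_id_assoc]
  have h2 := (singleFunctorIsoCompQ (ModuleCat.{u} A) 0).inv.naturality ((πA I M).app (op n))
  dsimp only [ιn, ιL, Iso.trans_hom, Functor.mapIso_hom, Iso.symm_hom, asIso_inv, Iso.app_inv,
    Iso.app_hom, Functor.mapIso_inv, asIso_hom] at h2 ⊢
  rw [← Category.assoc, ← Functor.map_comp, h1, Functor.map_comp, Category.assoc, Category.assoc]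
  congr 1 <;> exact h2

lemma hFD {n m : ℕ} (h : n ≤ m) :
    (Q : _ ⥤ Dual.D A).map (ARSys.tr (Ysys I M) h) ≫ (ιn I M n).hom =
      (ιn I M m).hom ≫ (DerivedCategory.singleFunctor (ModuleCat.{u} A) 0).map
        (ARSys.tr (Msys I M) (Nat.succ_le_succ h)) := by
  have h1 : ARSys.tr (Ysys I M) h ≫ inv ((ψsys I M).app (op n)) =
      inv ((ψsys I M).app (op m)) ≫ ARSys.tr (ASsys I M) h := by
    rw [IsIso.comp_inv_eq, Category.assoc, IsIso.eq_inv_comp]
    exact ((ψsys I M).naturality (homOfLE h).op).symm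
  have h2 := (singleFunctorIsoCompQ (ModuleCat.{u} A) 0).inv.naturality
    (ARSys.tr (CohIII.adicSystem I (ModuleCat.of A M)) h)
  have h3 : ARSys.tr (CohIII.adicSystem I (ModuleCat.of A M)) h =
      ARSys.tr (Msys I M) (Nat.succ_le_succ h) := adic_map_eq_Msys_map I M h
  dsimp only [ιn, Iso.trans_hom, Functor.mapIso_hom, Iso.symm_hom, asIso_inv, Iso.app_inv,
    Iso.app_hom, Functor.mapIso_inv, asIso_hom] at h2 ⊢
  rw [← Category.assoc, ← Functor.map_comp, h1, Functor.map_comp, Category.assoc, Category.assoc]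
  congr 1
  rw [← h3]
  exact h2

lemma Lm_vanishesOutside : DRing.VanishesOutside (Lm (A := A) M) 0 0 := by
  intro i hi
  exact isZero_single_obj_X (ComplexShape.up ℤ) 0 _ i (by omega)

lemma Lm_finite [Module.Finite A M] (i : ℤ) : Module.Finite A ((Lm (A := A) M).X i) := by
  by_cases hi : i = 0
  · subst hi
    exact Module.Finite.equiv
      (singleObjXSelf (ComplexShape.up ℤ) 0 (ModuleCat.of A M)).symm.toLinearEquiv
  · have hz : IsZero ((Lm (A := A) M).X i) := isZero_single_obj_X (ComplexShape.up ℤ) 0 _ i hi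
    haveI : Subsingleton ((Lm (A := A) M).X i) := ModuleCat.subsingleton_of_isZero hz
    infer_instance

/-- **Pro-constancy**: for `W` killed by powers of the elements of `I`, the tower
`Hom(W, RΓ_J(M/I^nM))` is pro-constant with value `Hom(W, RΓ_J(M))`. -/
theorem isProIso_pF [IsNoetherianRing A] [Module.Finite A M] (W : Dual.D A)
    (hW : ∀ g ∈ I, ∃ k : ℕ, g ^ k • 𝟙 W = 0) :
    IsProIso (Functor.whiskerRight (pF I M J) (coyoneda.obj (op W))) := by
  obtain ⟨fs, hfs, hI⟩ := exists_list I (IsNoetherian.noetherian I)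
  letI := commShiftRG J
  haveI := isTriangulatedRG J
  have h1 := isProIso_kosι (DRing.RgammaI J) (RgammaI_map_smul J) (Lm (A := A) M) W fs
    (fun g hg => hW g (hfs g hg))
  have h2 := IsProIso.whiskerRight (IsProIso.whiskerRight
    (isProIso_θs I fs hfs hI (Lm (A := A) M) 0 0 (Lm_vanishesOutside M)
    (Lm_finite M)) (DRing.RgammaI J)) (coyoneda.obj (op W))
  have h12 : IsProIso (Functor.whiskerRight (Functor.whiskerRight
      (Functor.whiskerRight (ηT I) (tensorRight (Lm (A := A) M))) (Q ⋙ DRing.RgammaI J))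
      (coyoneda.obj (op W))) := by
    have e : Functor.whiskerRight (ηT I) (tensorRight (Lm (A := A) M)) =
        Functor.whiskerRight (kosι fs) (tensorRight (Lm (A := A) M)) ≫
          θs I fs hfs (Lm (A := A) M) := by
      rw [← Functor.whiskerRight_comp, kosι_aug]
    rw [e, Functor.whiskerRight_comp, Functor.whiskerRight_comp]
    exact IsProIso.comp h1 h2
  refine isProIso_of_shift _ _
    (fun n => (coyoneda.obj (op W)).mapIso ((DRing.RgammaI J).mapIso (ιL M)))
    (fun n => (coyoneda.obj (op W)).mapIso ((DRing.RgammaI J).mapIso (ιn I M n)))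
    ?_ ?_ ?_ h12
  · intro n m h
    show (coyoneda.obj (op W)).map ((DRing.RgammaI J).map (Q.map (𝟙 _ ▷ Lm (A := A) M))) ≫
      (coyoneda.obj (op W)).map ((DRing.RgammaI J).map (ιL M).hom) =
      (coyoneda.obj (op W)).map ((DRing.RgammaI J).map (ιL M).hom) ≫
        (coyoneda.obj (op W)).map (𝟙 _)
    rw [id_whiskerRight, CategoryTheory.Functor.map_id, CategoryTheory.Functor.map_id,
      CategoryTheory.Functor.map_id, CategoryTheory.Functor.map_id, Category.id_comp,
      Category.comp_id]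
  · intro n m h
    show (coyoneda.obj (op W)).map ((DRing.RgammaI J).map (Q.map (ARSys.tr (Ysys I M) h))) ≫
      (coyoneda.obj (op W)).map ((DRing.RgammaI J).map (ιn I M n).hom) =
      (coyoneda.obj (op W)).map ((DRing.RgammaI J).map (ιn I M m).hom) ≫
        (coyoneda.obj (op W)).map ((DRing.RgammaI J).map
          ((DerivedCategory.singleFunctor (ModuleCat.{u} A) 0).map
            (ARSys.tr (Msys I M) (Nat.succ_le_succ h))))
    rw [← Functor.map_comp, ← Functor.map_comp, ← Functor.map_comp, ← Functor.map_comp, hFD]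
  · intro n
    show (coyoneda.obj (op W)).map ((DRing.RgammaI J).map
        (Q.map ((ηT I).app (op n) ▷ Lm (A := A) M))) ≫
      (coyoneda.obj (op W)).map ((DRing.RgammaI J).map (ιn I M n).hom) =
      (coyoneda.obj (op W)).map ((DRing.RgammaI J).map (ιL M).hom) ≫
        (coyoneda.obj (op W)).map ((DRing.RgammaI J).map
          ((DerivedCategory.singleFunctor (ModuleCat.{u} A) 0).map ((πM I M).app (op (n + 1)))))
    rw [← Functor.map_comp, ← Functor.map_comp, ← Functor.map_comp, ← Functor.map_comp, hpD]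

end Main

end Groth.Agent.Lib.Helper10.RlimC
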