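import Mathlib

/-!
# Helper16: right adjoints of exact functors preserve K-injective complexes
-/

set_option autoImplicit false
set_option linter.unusedSectionVars false

open CategoryTheory Limits

namespace Groth.Agent.Lib.Helper16.KInjAdj

variable {A B : Type*} [Category A] [Category B] [Abelian A] [Abelian B]
  {L : A ⥤ B} {R : B ⥤ A} (adj : L ⊣ R) [L.Additive] [R.Additive]

/-- the unit of the adjunction as a chain map. -/
noncomputable def unitCx (K : CochainComplex A ℤ) :
    K ⟶ (R.mapHomologicalComplex (ComplexShape.up ℤ)).obj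
      ((L.mapHomologicalComplex (ComplexShape.up ℤ)).obj K) where
  f n := adj.unit.app (K.X n)
  comm' i j _ := by
    show adj.unit.app (K.X i) ≫ R.map (L.map (K.d i j)) = K.d i j ≫ adj.unit.app (K.X j)
    exact (adj.unit.naturality (K.d i j)).symm

theorem flat_comm {X₁ X₂ : A} {Y₁ Y₂ : B} (f₁ : X₁ ⟶ R.obj Y₁) (f₂ : X₂ ⟶ R.obj Y₂)
    (dX : X₁ ⟶ X₂) (dY : Y₁ ⟶ Y₂) (h1 : f₁ ≫ R.map dY = dX ≫ f₂) :
    (L.map f₁ ≫ adj.counit.app Y₁) ≫ dY = L.map dX ≫ L.map f₂ ≫ adj.counit.app Y₂ := by
  have h2 : L.map (R.map dY) ≫ adj.counit.app Y₂ = adj.counit.app Y₁ ≫ dY :=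
    adj.counit.naturality dY
  rw [Category.assoc, ← h2, ← Category.assoc, ← Category.assoc, ← L.map_comp, ← L.map_comp, h1]

theorem unit_flat_aux {X : A} {Y : B} (f : X ⟶ R.obj Y) :
    adj.unit.app X ≫ R.map (L.map f ≫ adj.counit.app Y) = f := by
  have h1 : adj.unit.app X ≫ R.map (L.map f) = f ≫ adj.unit.app (R.obj Y) :=
    (adj.unit.naturality f).symm
  rw [R.map_comp, ← Category.assoc, h1, Category.assoc]
  have h2 : adj.unit.app (R.obj Y) ≫ R.map (adj.counit.app Y) = 𝟙 _ :=
    adj.right_triangle_components Y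
  rw [h2]
  exact Category.comp_id _

/-- the transpose of a chain map. -/
noncomputable def flat {K : CochainComplex A ℤ} {I : CochainComplex B ℤ}
    (f : K ⟶ (R.mapHomologicalComplex (ComplexShape.up ℤ)).obj I) :
    (L.mapHomologicalComplex (ComplexShape.up ℤ)).obj K ⟶ I where
  f n := L.map (f.f n) ≫ adj.counit.app (I.X n)
  comm' i j _ := flat_comm adj (f.f i) (f.f j) (K.d i j) (I.d i j) (f.comm i j)

theorem unit_flat {K : CochainComplex A ℤ} {I : CochainComplex B ℤ}
    (f : K ⟶ (R.mapHomologicalComplex (ComplexShape.up ℤ)).obj I) :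
    unitCx adj K ≫ (R.mapHomologicalComplex (ComplexShape.up ℤ)).map (flat adj f) = f := by
  ext n
  exact unit_flat_aux adj (f.f n)

omit [R.Additive] in
theorem acyclic_map [L.PreservesHomology] (K : CochainComplex A ℤ) (hK : K.Acyclic) :
    ((L.mapHomologicalComplex (ComplexShape.up ℤ)).obj K).Acyclic := fun i =>
  ShortComplex.Exact.map (hK i) L

include adj in
theorem isKInjective_map [L.PreservesHomology] (I : CochainComplex B ℤ) [I.IsKInjective] :
    CochainComplex.IsKInjective ((R.mapHomologicalComplex (ComplexShape.up ℤ)).obj I) where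
  nonempty_homotopy_zero {K} f hK := by
    have h := CochainComplex.IsKInjective.homotopyZero (flat adj f) (acyclic_map K hK)
    refine ⟨Homotopy.trans (.ofEq (unit_flat adj f).symm)
      (((R.mapHomotopy h).compLeft (unitCx adj K)).trans (.ofEq ?_))⟩
    simp

end Groth.Agent.Lib.Helper16.KInjAdj
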