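import Mathlib

/-!
# Helper21: explicit extension by zero `j_!` for presheaves of modules on `C/U`

`E G (V) = ⨁_{φ : V ⟶ U} G(φ)`.
-/

open CategoryTheory Opposite Limits

universe u

namespace Groth.Agent.Lib.Helper21.ExtZero

variable {C : Type u} [SmallCategory C] (R : Cᵒᵖ ⥤ RingCat.{u}) (U : C)

/-- the restricted presheaf of rings on `C/U`. -/
abbrev RU : (Over U)ᵒᵖ ⥤ RingCat.{u} := (Over.forget U).op ⋙ R

/-- restriction of presheaves of modules. -/
noncomputable abbrev pushU : PresheafOfModules.{u} R ⥤ PresheafOfModules.{u} (RU R U) :=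
  PresheafOfModules.pushforward (F := Over.forget U) (R := R) (𝟙 ((Over.forget U).op ⋙ R))

variable {R U} (G : PresheafOfModules.{u} (RU R U))

/-- the `φ`-component. -/
abbrev cmp (X : Cᵒᵖ) (φ : X.unop ⟶ U) : Type u := G.obj (op (Over.mk φ))

noncomputable instance cmpModule (X : Cᵒᵖ) (φ : X.unop ⟶ U) : Module (R.obj X) (cmp G X φ) :=
  inferInstanceAs (Module ((RU R U).obj (op (Over.mk φ))) (G.obj (op (Over.mk φ))))

/-- sections of `E G`. -/
abbrev EObj (X : Cᵒᵖ) : Type u := DirectSum (X.unop ⟶ U) (fun φ => cmp G X φ)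

/-- restriction on components. -/
noncomputable def resMap {X Y : Cᵒᵖ} (f : X ⟶ Y) (φ : X.unop ⟶ U) (ψ : Y.unop ⟶ U)
    (h : f.unop ≫ φ = ψ) : cmp G X φ →+ cmp G Y ψ :=
  (G.presheaf.map (Over.homMk f.unop h : Over.mk ψ ⟶ Over.mk φ).op).hom

theorem resMap_id (X : Cᵒᵖ) (φ : X.unop ⟶ U) (h) (x : cmp G X φ) :
    resMap G (𝟙 X) φ φ h x = x := by
  have : (Over.homMk (𝟙 X : X ⟶ X).unop h : Over.mk φ ⟶ Over.mk φ) = 𝟙 _ := by
    ext; rfl
  simp only [resMap, this, op_id, CategoryTheory.Functor.map_id]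
  rfl

theorem resMap_comp {X Y Z : Cᵒᵖ} (f : X ⟶ Y) (g : Y ⟶ Z) (φ : X.unop ⟶ U) (ψ : Y.unop ⟶ U)
    (χ : Z.unop ⟶ U) (h1 : f.unop ≫ φ = ψ) (h2 : g.unop ≫ ψ = χ) (h3 : (f ≫ g).unop ≫ φ = χ)
    (x : cmp G X φ) :
    resMap G (f ≫ g) φ χ h3 x = resMap G g ψ χ h2 (resMap G f φ ψ h1 x) := by
  have : (Over.homMk (f ≫ g).unop h3 : Over.mk χ ⟶ Over.mk φ) =
      (Over.homMk g.unop h2 : Over.mk χ ⟶ Over.mk ψ) ≫
        (Over.homMk f.unop h1 : Over.mk ψ ⟶ Over.mk φ) := by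
    ext; rfl
  simp only [resMap, this, op_comp, CategoryTheory.Functor.map_comp]
  rfl

theorem resMap_smul {X Y : Cᵒᵖ} (f : X ⟶ Y) (φ : X.unop ⟶ U) (ψ : Y.unop ⟶ U)
    (h : f.unop ≫ φ = ψ) (r : R.obj X) (x : cmp G X φ) :
    resMap G f φ ψ h (r • x) = (R.map f r) • resMap G f φ ψ h x :=
  G.map_smul (Over.homMk f.unop h : Over.mk ψ ⟶ Over.mk φ).op r x

open Classical in
/-- the restriction map of `E G`. -/
noncomputable def EMap {X Y : Cᵒᵖ} (f : X ⟶ Y) : EObj G X →+ EObj G Y :=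
  DirectSum.toAddMonoid fun φ =>
    (DirectSum.of (fun ψ : Y.unop ⟶ U => cmp G Y ψ) (f.unop ≫ φ)).comp (resMap G f φ _ rfl)

open Classical in
theorem EMap_of {X Y : Cᵒᵖ} (f : X ⟶ Y) (φ : X.unop ⟶ U) (ψ : Y.unop ⟶ U)
    (h : f.unop ≫ φ = ψ) (x : cmp G X φ) :
    EMap G f (DirectSum.of (fun φ : X.unop ⟶ U => cmp G X φ) φ x) =
      DirectSum.of (fun ψ : Y.unop ⟶ U => cmp G Y ψ) ψ (resMap G f φ ψ h x) := by
  subst h
  simp [EMap]

open Classical in
theorem EMap_id (X : Cᵒᵖ) : EMap G (𝟙 X) = AddMonoidHom.id _ := by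
  apply DirectSum.addHom_ext
  intro φ x
  rw [EMap_of G (𝟙 X) φ φ (Category.id_comp φ), resMap_id]
  rfl

open Classical in
theorem EMap_comp {X Y Z : Cᵒᵖ} (f : X ⟶ Y) (g : Y ⟶ Z) :
    EMap G (f ≫ g) = (EMap G g).comp (EMap G f) := by
  apply DirectSum.addHom_ext
  intro φ x
  rw [AddMonoidHom.comp_apply, EMap_of G (f ≫ g) φ (g.unop ≫ f.unop ≫ φ) (by simp),
    EMap_of G f φ _ rfl, EMap_of G g _ _ rfl, resMap_comp G f g φ _ _ rfl rfl]

open Classical in
theorem EMap_smul {X Y : Cᵒᵖ} (f : X ⟶ Y) (r : R.obj X) (m : EObj G X) :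
    EMap G f (r • m) = R.map f r • EMap G f m := by
  induction m using DirectSum.induction_on with
  | zero => rw [smul_zero, map_zero, smul_zero]
  | of φ x =>
    rw [← DirectSum.of_smul, EMap_of G f φ _ rfl, EMap_of G f φ _ rfl]
    refine (congrArg (DirectSum.of (fun ψ : Y.unop ⟶ U => cmp G Y ψ) (f.unop ≫ φ))
      (resMap_smul G f φ _ rfl r x)).trans ?_
    exact DirectSum.of_smul _ _ _ _
  | add a b ha hb => rw [smul_add, map_add, ha, hb, map_add, smul_add]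

/-- the underlying presheaf of abelian groups of `E G`. -/
noncomputable def EAb : Cᵒᵖ ⥤ Ab.{u} where
  obj X := AddCommGrpCat.of (EObj G X)
  map f := AddCommGrpCat.ofHom (EMap G f)
  map_id X := by rw [EMap_id]; rfl
  map_comp {X Y Z} f g := by rw [EMap_comp]; rfl

noncomputable instance EAbModule (X : Cᵒᵖ) : Module (R.obj X) ((EAb G).obj X) :=
  inferInstanceAs (Module (R.obj X) (EObj G X))

theorem EAb_map_smul {X Y : Cᵒᵖ} (f : X ⟶ Y) (r : R.obj X) (m : (EAb G).obj X) :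
    (EAb G).map f (r • m) = R.map f r • (EAb G).map f m :=
  EMap_smul G f r m

/-- The presheaf of modules `E G`. -/
noncomputable def E : PresheafOfModules.{u} R :=
  PresheafOfModules.ofPresheaf (EAb G) (fun _ _ f r m => EAb_map_smul G f r m)

theorem E_presheaf : (E G).presheaf = EAb G := rfl

open Classical in
/-- inclusion of a component, as a function into sections of `E G`. -/
noncomputable def ιE (X : Cᵒᵖ) (φ : X.unop ⟶ U) (x : cmp G X φ) : (E G).obj X :=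
  DirectSum.of (fun φ : X.unop ⟶ U => cmp G X φ) φ x

theorem ιE_add (X : Cᵒᵖ) (φ : X.unop ⟶ U) (x y : cmp G X φ) :
    ιE G X φ (x + y) = ιE G X φ x + ιE G X φ y := by
  classical
  exact map_add (DirectSum.of (fun φ : X.unop ⟶ U => cmp G X φ) φ) x y

theorem ιE_smul (X : Cᵒᵖ) (φ : X.unop ⟶ U) (r : R.obj X) (x : cmp G X φ) :
    ιE G X φ (r • x) = r • ιE G X φ x := by
  classical
  exact DirectSum.of_smul _ _ _ _

theorem E_map_ιE {X Y : Cᵒᵖ} (f : X ⟶ Y) (φ : X.unop ⟶ U) (ψ : Y.unop ⟶ U)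
    (h : f.unop ≫ φ = ψ) (x : cmp G X φ) :
    (E G).map f (ιE G X φ x) = ιE G Y ψ (resMap G f φ ψ h x) := by
  classical
  exact EMap_of G f φ ψ h x

/-- Induction principle for sections of `E G`. -/
theorem E_induction {X : Cᵒᵖ} {p : (E G).obj X → Prop} (m : (E G).obj X)
    (h0 : p 0) (hι : ∀ φ x, p (ιE G X φ x)) (hadd : ∀ a b, p a → p b → p (a + b)) : p m := by
  classical
  exact DirectSum.induction_on (motive := p) m h0 hι hadd

/-- Two linear maps out of sections of `E G` agreeing on components are equal. -/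
theorem E_hom_ext {X : Cᵒᵖ} {N : Type*} [AddCommGroup N] (a b : (E G).obj X →+ N)
    (h : ∀ φ x, a (ιE G X φ x) = b (ιE G X φ x)) : a = b := by
  classical
  exact DirectSum.addHom_ext h

end Groth.Agent.Lib.Helper21.ExtZero
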