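import Mathlib
import Groth.Agent.Lib.Helper21ExtZero1

/-!
# Helper21: `E` is a functor, left adjoint to restriction
-/

open CategoryTheory Opposite Limits

universe u

namespace Groth.Agent.Lib.Helper21.ExtZero

variable {C : Type u} [SmallCategory C] {R : Cᵒᵖ ⥤ RingCat.{u}} {U : C}

section functor

variable {G G' G'' : PresheafOfModules.{u} (RU R U)} (α : G ⟶ G') (α' : G' ⟶ G'')

/-- the map on components. -/
noncomputable def cmpMap (X : Cᵒᵖ) (φ : X.unop ⟶ U) : cmp G X φ →+ cmp G' X φ :=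
  (α.app (op (Over.mk φ))).hom.toAddMonoidHom

theorem cmpMap_resMap {X Y : Cᵒᵖ} (f : X ⟶ Y) (φ : X.unop ⟶ U) (ψ : Y.unop ⟶ U)
    (h : f.unop ≫ φ = ψ) (x : cmp G X φ) :
    cmpMap α Y ψ (resMap G f φ ψ h x) = resMap G' f φ ψ h (cmpMap α X φ x) :=
  PresheafOfModules.naturality_apply α (Over.homMk f.unop h : Over.mk ψ ⟶ Over.mk φ).op x

theorem cmpMap_smul (X : Cᵒᵖ) (φ : X.unop ⟶ U) (r : R.obj X) (x : cmp G X φ) :
    cmpMap α X φ (r • x) = r • cmpMap α X φ x :=
  (α.app (op (Over.mk φ))).hom.map_smul r x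

open Classical in
/-- `E α` on sections. -/
noncomputable def EHomAdd (X : Cᵒᵖ) : (E G).obj X →+ (E G').obj X :=
  DirectSum.map (fun φ : X.unop ⟶ U => cmpMap α X φ)

theorem EHomAdd_ιE (X : Cᵒᵖ) (φ : X.unop ⟶ U) (x : cmp G X φ) :
    EHomAdd α X (ιE G X φ x) = ιE G' X φ (cmpMap α X φ x) := by
  classical
  exact DirectSum.map_of _ _ _

theorem EHomAdd_smul (X : Cᵒᵖ) (r : R.obj X) (m : (E G).obj X) :
    EHomAdd α X (r • m) = r • EHomAdd α X m := by
  induction m using E_induction with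
  | h0 => rw [smul_zero, map_zero, smul_zero]
  | hι φ x => rw [← ιE_smul, EHomAdd_ιE, EHomAdd_ιE, cmpMap_smul, ιE_smul]
  | hadd a b ha hb => rw [smul_add, map_add, ha, hb, map_add, smul_add]

theorem EHomAdd_map {X Y : Cᵒᵖ} (f : X ⟶ Y) :
    (EHomAdd α Y).comp (EMap G f) = (EMap G' f).comp (EHomAdd α X) := by
  apply E_hom_ext
  intro φ x
  change EHomAdd α Y (EMap G f (ιE G X φ x)) = EMap G' f (EHomAdd α X (ιE G X φ x))
  have h1 : EMap G f (ιE G X φ x) = ιE G Y (f.unop ≫ φ) (resMap G f φ _ rfl x) :=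
    E_map_ιE G f φ _ rfl x
  have h2 : EMap G' f (ιE G' X φ (cmpMap α X φ x)) =
      ιE G' Y (f.unop ≫ φ) (resMap G' f φ _ rfl (cmpMap α X φ x)) :=
    E_map_ιE G' f φ _ rfl _
  rw [h1, EHomAdd_ιE, EHomAdd_ιE, h2, cmpMap_resMap]

/-- `E` on morphisms. -/
noncomputable def EHom : E G ⟶ E G' where
  app X := ModuleCat.ofHom
    { toFun := EHomAdd α X
      map_add' := map_add _
      map_smul' := EHomAdd_smul α X }
  naturality {X Y} f := by
    ext m
    exact DFunLike.congr_fun (EHomAdd_map α f) m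

theorem EHom_app_apply (X : Cᵒᵖ) (m : (E G).obj X) : (EHom α).app X m = EHomAdd α X m := rfl

theorem EHom_app_ιE (X : Cᵒᵖ) (φ : X.unop ⟶ U) (x : cmp G X φ) :
    (EHom α).app X (ιE G X φ x) = ιE G' X φ (α.app (op (Over.mk φ)) x) :=
  EHomAdd_ιE α X φ x

theorem EHom_ext {M : PresheafOfModules.{u} R} (a b : E G ⟶ M)
    (h : ∀ X φ x, a.app X (ιE G X φ x) = b.app X (ιE G X φ x)) : a = b := by
  ext X m
  induction m using E_induction with
  | h0 => rw [map_zero, map_zero]
  | hι φ x => exact h X φ x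
  | hadd a b ha hb => rw [map_add, map_add, ha, hb]

theorem EHom_id : EHom (𝟙 G) = 𝟙 (E G) := by
  apply EHom_ext
  intro X φ x
  rw [EHom_app_ιE]
  rfl

theorem EHom_comp : EHom (α ≫ α') = EHom α ≫ EHom α' := by
  apply EHom_ext
  intro X φ x
  rw [EHom_app_ιE]
  change _ = (EHom α').app X ((EHom α).app X (ιE G X φ x))
  rw [EHom_app_ιE, EHom_app_ιE]
  rfl

end functor

variable (R U)

/-- Extension by zero of presheaves of modules. -/
noncomputable def EFunctor : PresheafOfModules.{u} (RU R U) ⥤ PresheafOfModules.{u} R where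
  obj G := E G
  map α := EHom α
  map_id _ := EHom_id
  map_comp α α' := EHom_comp α α'

variable {R U}

section adjunction

variable (G : PresheafOfModules.{u} (RU R U)) (M : PresheafOfModules.{u} R)

/-- from `E G ⟶ M` to `G ⟶ M|_U`. -/
noncomputable def adjTo (β : E G ⟶ M) : G ⟶ (pushU R U).obj M where
  app A := ModuleCat.ofHom
    (Y := (ModuleCat.restrictScalars (𝟙 ((RU R U).obj A) : (RU R U).obj A ⟶ _).hom).obj
      (M.obj (op A.unop.left)))
    { toFun := fun x => β.app (op A.unop.left) (ιE G (op A.unop.left) A.unop.hom x)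
      map_add' := fun x y => by
        rw [ιE_add, map_add]
        rfl
      map_smul' := fun r x =>
        (congrArg (β.app (op A.unop.left)) (ιE_smul G (op A.unop.left) A.unop.hom r x)).trans
          ((β.app (op A.unop.left)).hom.map_smul r _) }
  naturality {A B} a := by
    ext x
    change β.app (op B.unop.left) (ιE G (op B.unop.left) B.unop.hom (G.map a x)) =
      M.map a.unop.left.op (β.app (op A.unop.left) (ιE G (op A.unop.left) A.unop.hom x))
    rw [← PresheafOfModules.naturality_apply, E_map_ιE G a.unop.left.op A.unop.hom B.unop.hom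
      (Over.w a.unop)]
    rfl

theorem adjTo_app_apply (β : E G ⟶ M) (A : (Over U)ᵒᵖ) (x : G.obj A) :
    (adjTo G M β).app A x = β.app (op A.unop.left) (ιE G (op A.unop.left) A.unop.hom x) := rfl

open Classical in
/-- from `G ⟶ M|_U` to `E G ⟶ M`, on sections. -/
noncomputable def adjFromAdd (γ : G ⟶ (pushU R U).obj M) (X : Cᵒᵖ) : (E G).obj X →+ M.obj X :=
  DirectSum.toAddMonoid fun φ : X.unop ⟶ U => (γ.app (op (Over.mk φ))).hom.toAddMonoidHom

theorem adjFromAdd_ιE (γ : G ⟶ (pushU R U).obj M) (X : Cᵒᵖ) (φ : X.unop ⟶ U) (x : cmp G X φ) :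
    adjFromAdd G M γ X (ιE G X φ x) = γ.app (op (Over.mk φ)) x := by
  classical
  exact DirectSum.toAddMonoid_of _ _ _

theorem adjFromAdd_smul (γ : G ⟶ (pushU R U).obj M) (X : Cᵒᵖ) (r : R.obj X) (m : (E G).obj X) :
    adjFromAdd G M γ X (r • m) = r • adjFromAdd G M γ X m := by
  induction m using E_induction with
  | h0 => rw [smul_zero, map_zero, smul_zero]
  | hι φ x =>
    rw [← ιE_smul, adjFromAdd_ιE, adjFromAdd_ιE]
    exact (γ.app (op (Over.mk φ))).hom.map_smul r x
  | hadd a b ha hb => rw [smul_add, map_add, ha, hb, map_add, smul_add]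

theorem adjFromAdd_map (γ : G ⟶ (pushU R U).obj M) {X Y : Cᵒᵖ} (f : X ⟶ Y) :
    (adjFromAdd G M γ Y).comp (EMap G f) =
      (M.presheaf.map f).hom.comp (adjFromAdd G M γ X) := by
  apply E_hom_ext
  intro φ x
  change adjFromAdd G M γ Y (EMap G f (ιE G X φ x)) =
    M.map f (adjFromAdd G M γ X (ιE G X φ x))
  have h1 : EMap G f (ιE G X φ x) = ιE G Y (f.unop ≫ φ) (resMap G f φ _ rfl x) :=
    E_map_ιE G f φ _ rfl x
  rw [h1, adjFromAdd_ιE, adjFromAdd_ιE]
  exact PresheafOfModules.naturality_apply γ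
    (Over.homMk f.unop rfl : Over.mk (f.unop ≫ φ) ⟶ Over.mk φ).op x

/-- from `G ⟶ M|_U` to `E G ⟶ M`. -/
noncomputable def adjFrom (γ : G ⟶ (pushU R U).obj M) : E G ⟶ M where
  app X := ModuleCat.ofHom
    { toFun := adjFromAdd G M γ X
      map_add' := map_add _
      map_smul' := adjFromAdd_smul G M γ X }
  naturality {X Y} f := by
    ext m
    exact DFunLike.congr_fun (adjFromAdd_map G M γ f) m

theorem adjFrom_app_ιE (γ : G ⟶ (pushU R U).obj M) (X : Cᵒᵖ) (φ : X.unop ⟶ U) (x : cmp G X φ) :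
    (adjFrom G M γ).app X (ιE G X φ x) = γ.app (op (Over.mk φ)) x :=
  adjFromAdd_ιE G M γ X φ x

/-- The hom-set bijection of the adjunction `E ⊣ (-)|_U`. -/
noncomputable def adjEquiv : (E G ⟶ M) ≃ (G ⟶ (pushU R U).obj M) where
  toFun := adjTo G M
  invFun := adjFrom G M
  left_inv β := by
    apply EHom_ext
    intro X φ x
    rw [adjFrom_app_ιE]
    rfl
  right_inv γ := by
    ext A x
    rw [adjTo_app_apply, adjFrom_app_ιE]
    rfl

end adjunction

variable (R U)

/-- The adjunction `E ⊣ (-)|_U` on presheaves of modules. -/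
noncomputable def EAdj : EFunctor R U ⊣ pushU R U :=
  Adjunction.mkOfHomEquiv
    { homEquiv := fun G M => adjEquiv G M
      homEquiv_naturality_left_symm := by
        intro G G' M α γ
        apply EHom_ext
        intro X φ x
        change (adjFrom G M (α ≫ γ)).app X (ιE G X φ x) =
          (adjFrom G' M γ).app X ((EHom α).app X (ιE G X φ x))
        rw [adjFrom_app_ιE, EHom_app_ιE, adjFrom_app_ιE]
        rfl
      homEquiv_naturality_right := by
        intro G M M' β δ
        ext A x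
        rfl }

end Groth.Agent.Lib.Helper21.ExtZero
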