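import Mathlib
import Groth.Agent.Lib.Helper21ExtZero2

/-!
# Helper21: `E` preserves monomorphisms; projection formula `E(P ⊗ Q|_U) ≅ E P ⊗ Q`
-/

open CategoryTheory Opposite Limits MonoidalCategory

universe u

namespace Groth.Agent.Lib.Helper21.ExtZero

variable {C : Type u} [SmallCategory C]

section mono

variable {R : Cᵒᵖ ⥤ RingCat.{u}} {U : C}

theorem EHom_mono {G G' : PresheafOfModules.{u} (RU R U)} (α : G ⟶ G') [Mono α] :
    Mono (EHom α) := by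
  classical
  apply PresheafOfModules.mono_of_injective
  intro X
  exact (DirectSum.map_injective (f := fun φ : X.unop ⟶ U => cmpMap α X φ)).2
    (fun φ => PresheafOfModules.injective_of_mono α (op (Over.mk φ)))

instance (R : Cᵒᵖ ⥤ RingCat.{u}) (U : C) : (EFunctor R U).PreservesMonomorphisms where
  preserves α _ := EHom_mono α

end mono

section proj

variable (R₀ : Cᵒᵖ ⥤ CommRingCat.{u}) (U : C)

/-- presheaves of modules over the commutative presheaf of rings. -/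
abbrev PMc := PresheafOfModules.{u} (R₀ ⋙ forget₂ CommRingCat.{u} RingCat.{u})

/-- the restricted commutative presheaf of rings -/
abbrev R₀U : (Over U)ᵒᵖ ⥤ CommRingCat.{u} := (Over.forget U).op ⋙ R₀

/-- presheaves of modules on `C/U`. -/
abbrev PMU := PresheafOfModules.{u} (R₀U R₀ U ⋙ forget₂ CommRingCat.{u} RingCat.{u})

/-- extension by zero, commutative version -/
noncomputable def Ec : PMU R₀ U ⥤ PMc R₀ :=
  EFunctor (R₀ ⋙ forget₂ CommRingCat.{u} RingCat.{u}) U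

/-- restriction, commutative version -/
noncomputable def pushUc : PMc R₀ ⥤ PMU R₀ U :=
  pushU (R₀ ⋙ forget₂ CommRingCat.{u} RingCat.{u}) U

/-- the adjunction, commutative version -/
noncomputable def EcAdj : Ec R₀ U ⊣ pushUc R₀ U :=
  EAdj (R₀ ⋙ forget₂ CommRingCat.{u} RingCat.{u}) U

variable {R₀ U}

variable (P : PMU R₀ U) (Q : PMc R₀)

/-- inclusion of components for `Ec` -/
noncomputable def ιc (P : PMU R₀ U) (X : Cᵒᵖ) (φ : X.unop ⟶ U) (x : P.obj (op (Over.mk φ))) :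
    ((Ec R₀ U).obj P).obj X :=
  ιE (R := R₀ ⋙ forget₂ CommRingCat.{u} RingCat.{u}) P X φ x

theorem ιc_add (P : PMU R₀ U) (X : Cᵒᵖ) (φ : X.unop ⟶ U) (a b : P.obj (op (Over.mk φ))) :
    ιc P X φ (a + b) = ιc P X φ a + ιc P X φ b :=
  ιE_add (R := R₀ ⋙ forget₂ CommRingCat.{u} RingCat.{u}) P X φ a b

theorem ιc_zero (P : PMU R₀ U) (X : Cᵒᵖ) (φ : X.unop ⟶ U) :
    ιc P X φ 0 = 0 := by
  classical
  exact map_zero (DirectSum.of _ φ)

open Classical in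
/-- sectionwise projection formula -/
noncomputable def projEquiv (X : Cᵒᵖ) :
    ((Ec R₀ U).obj (P ⊗ (pushUc R₀ U).obj Q : PMU R₀ U)).obj X ≃ₗ[R₀.obj X]
      (((Ec R₀ U).obj P ⊗ Q : PMc R₀)).obj X :=
  (TensorProduct.directSumLeft (R₀.obj X) (R₀.obj X)
    (fun φ : X.unop ⟶ U => P.obj (op (Over.mk φ))) (Q.obj X)).symm

noncomputable instance instModP (X : Cᵒᵖ) (φ : X.unop ⟶ U) :
    Module (R₀.obj X) (P.obj (op (Over.mk φ))) :=
  cmpModule (R := R₀ ⋙ forget₂ CommRingCat.{u} RingCat.{u}) P X φ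

/-- a pure tensor as a section of `P ⊗ Q|_U`. -/
noncomputable def tm (X : Cᵒᵖ) (φ : X.unop ⟶ U) (p : P.obj (op (Over.mk φ))) (q : Q.obj X) :
    ((P ⊗ (pushUc R₀ U).obj Q : PMU R₀ U)).obj (op (Over.mk φ)) :=
  p ⊗ₜ[R₀.obj X] q

theorem projEquiv_ιc_tm (X : Cᵒᵖ) (φ : X.unop ⟶ U) (p : P.obj (op (Over.mk φ))) (q : Q.obj X) :
    projEquiv P Q X (ιc (P ⊗ (pushUc R₀ U).obj Q : PMU R₀ U) X φ (tm P Q X φ p q)) =
      (ιc P X φ p) ⊗ₜ[R₀.obj X] q := by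
  classical
  unfold projEquiv ιc ιE tm
  exact TensorProduct.directSumLeft_symm_lof_tmul (R := R₀.obj X) (S := R₀.obj X)
    (M₁ := fun φ : X.unop ⟶ U => P.obj (op (Over.mk φ))) (M₂' := Q.obj X) φ p q

/-- induction principle for sections of `E(P ⊗ Q|_U)`. -/
theorem EPQ_induction {X : Cᵒᵖ}
    {motive : ((Ec R₀ U).obj (P ⊗ (pushUc R₀ U).obj Q : PMU R₀ U)).obj X → Prop}
    (m : ((Ec R₀ U).obj (P ⊗ (pushUc R₀ U).obj Q : PMU R₀ U)).obj X)
    (h0 : motive 0)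
    (htm : ∀ φ p q, motive (ιc (P ⊗ (pushUc R₀ U).obj Q : PMU R₀ U) X φ (tm P Q X φ p q)))
    (hadd : ∀ a b, motive a → motive b → motive (a + b)) : motive m := by
  refine E_induction (R := R₀ ⋙ forget₂ CommRingCat.{u} RingCat.{u})
    (P ⊗ (pushUc R₀ U).obj Q : PMU R₀ U) m h0 ?_ hadd
  intro φ t
  have key : ∀ t : TensorProduct (R₀.obj X) (P.obj (op (Over.mk φ))) (Q.obj X),
      motive (ιc (P ⊗ (pushUc R₀ U).obj Q : PMU R₀ U) X φ t) := by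
    intro t
    refine TensorProduct.induction_on
      (motive := fun t => motive (ιc (P ⊗ (pushUc R₀ U).obj Q : PMU R₀ U) X φ t)) t ?_ ?_ ?_
    · exact (congrArg motive (ιc_zero (P ⊗ (pushUc R₀ U).obj Q : PMU R₀ U) X φ)).mpr h0
    · intro p q
      exact htm φ p q
    · intro a b ha hb
      exact (congrArg motive (ιc_add (P ⊗ (pushUc R₀ U).obj Q : PMU R₀ U) X φ a b)).mpr
        (hadd _ _ ha hb)
  exact key t

theorem resMap_tm {X Y : Cᵒᵖ} (f : X ⟶ Y) (φ : X.unop ⟶ U) (ψ : Y.unop ⟶ U)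
    (h : f.unop ≫ φ = ψ) (p : P.obj (op (Over.mk φ))) (q : Q.obj X) :
    resMap (R := R₀ ⋙ forget₂ CommRingCat.{u} RingCat.{u})
      (P ⊗ (pushUc R₀ U).obj Q : PMU R₀ U) f φ ψ h (tm P Q X φ p q) =
      tm P Q Y ψ (resMap (R := R₀ ⋙ forget₂ CommRingCat.{u} RingCat.{u}) P f φ ψ h p)
        (Q.map f q) :=
  PresheafOfModules.Monoidal.tensorObj_map_tmul (M₁ := P) (M₂ := (pushUc R₀ U).obj Q)
    (Over.homMk f.unop h : Over.mk ψ ⟶ Over.mk φ).op p q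

theorem Ec_map_ιc_tm {X Y : Cᵒᵖ} (f : X ⟶ Y) (φ : X.unop ⟶ U)
    (p : P.obj (op (Over.mk φ))) (q : Q.obj X) :
    ((Ec R₀ U).obj (P ⊗ (pushUc R₀ U).obj Q : PMU R₀ U)).map f
        (ιc (P ⊗ (pushUc R₀ U).obj Q : PMU R₀ U) X φ (tm P Q X φ p q)) =
      ιc (P ⊗ (pushUc R₀ U).obj Q : PMU R₀ U) Y (f.unop ≫ φ)
        (tm P Q Y (f.unop ≫ φ)
          (resMap (R := R₀ ⋙ forget₂ CommRingCat.{u} RingCat.{u}) P f φ _ rfl p) (Q.map f q)) := by
  refine (E_map_ιE (R := R₀ ⋙ forget₂ CommRingCat.{u} RingCat.{u})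
    (P ⊗ (pushUc R₀ U).obj Q : PMU R₀ U) f φ _ rfl _).trans ?_
  rw [resMap_tm]
  rfl

theorem Ec_map_ιc {X Y : Cᵒᵖ} (f : X ⟶ Y) (φ : X.unop ⟶ U) (p : P.obj (op (Over.mk φ))) :
    ((Ec R₀ U).obj P).map f (ιc P X φ p) =
      ιc P Y (f.unop ≫ φ)
        (resMap (R := R₀ ⋙ forget₂ CommRingCat.{u} RingCat.{u}) P f φ _ rfl p) :=
  E_map_ιE (R := R₀ ⋙ forget₂ CommRingCat.{u} RingCat.{u}) P f φ _ rfl p

/-- The projection formula for presheaves: `E(P ⊗ Q|_U) ≅ E P ⊗ Q`. -/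
noncomputable def projIso :
    (Ec R₀ U).obj (P ⊗ (pushUc R₀ U).obj Q : PMU R₀ U) ≅ ((Ec R₀ U).obj P ⊗ Q : PMc R₀) :=
  PresheafOfModules.isoMk (fun X => (projEquiv P Q X).toModuleIso) (by
    intro X Y f
    ext m
    induction m using EPQ_induction with
    | h0 => simp only [map_zero]
    | htm φ p q =>
      change projEquiv P Q Y (((Ec R₀ U).obj (P ⊗ (pushUc R₀ U).obj Q : PMU R₀ U)).map f _) =
        (((Ec R₀ U).obj P ⊗ Q : PMc R₀)).map f (projEquiv P Q X _)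
      rw [Ec_map_ιc_tm, projEquiv_ιc_tm, projEquiv_ιc_tm]
      refine Eq.trans ?_ (PresheafOfModules.Monoidal.tensorObj_map_tmul f (ιc P X φ p) q).symm
      rw [Ec_map_ιc]
      rfl
    | hadd a b ha hb =>
      rw [map_add, ha, hb, ← map_add])

theorem projIso_hom_app_ιc_tm (X : Cᵒᵖ) (φ : X.unop ⟶ U) (p : P.obj (op (Over.mk φ)))
    (q : Q.obj X) :
    (projIso P Q).hom.app X (ιc (P ⊗ (pushUc R₀ U).obj Q : PMU R₀ U) X φ (tm P Q X φ p q)) =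
      (ιc P X φ p) ⊗ₜ[R₀.obj X] q :=
  projEquiv_ιc_tm P Q X φ p q

theorem Ec_map_app_ιc {P P' : PMU R₀ U} (α : P ⟶ P') (X : Cᵒᵖ) (φ : X.unop ⟶ U)
    (p : P.obj (op (Over.mk φ))) :
    ((Ec R₀ U).map α).app X (ιc P X φ p) = ιc P' X φ (α.app (op (Over.mk φ)) p) :=
  EHom_app_ιE (R := R₀ ⋙ forget₂ CommRingCat.{u} RingCat.{u}) α X φ p

theorem tensorHom_tm {P P' : PMU R₀ U} {Q Q' : PMc R₀} (α : P ⟶ P') (β : Q ⟶ Q')
    (X : Cᵒᵖ) (φ : X.unop ⟶ U) (p : P.obj (op (Over.mk φ))) (q : Q.obj X) :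
    (α ⊗ₘ (pushUc R₀ U).map β : (P ⊗ (pushUc R₀ U).obj Q : PMU R₀ U) ⟶ _).app (op (Over.mk φ))
      (tm P Q X φ p q) = tm P' Q' X φ (α.app (op (Over.mk φ)) p) (β.app X q) := rfl

theorem projIso_nat {P P' : PMU R₀ U} {Q Q' : PMc R₀} (α : P ⟶ P') (β : Q ⟶ Q') :
    (Ec R₀ U).map (α ⊗ₘ (pushUc R₀ U).map β : (P ⊗ (pushUc R₀ U).obj Q : PMU R₀ U) ⟶ _) ≫
      (projIso P' Q').hom = (projIso P Q).hom ≫ ((Ec R₀ U).map α ⊗ₘ β) := by
  ext X m
  induction m using EPQ_induction with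
  | h0 => simp only [map_zero]
  | htm φ p q =>
    change (projIso P' Q').hom.app X (((Ec R₀ U).map _).app X _) =
      ((Ec R₀ U).map α ⊗ₘ β : ((Ec R₀ U).obj P ⊗ Q : PMc R₀) ⟶ _).app X
        ((projIso P Q).hom.app X _)
    rw [Ec_map_app_ιc, tensorHom_tm, projIso_hom_app_ιc_tm, projIso_hom_app_ιc_tm]
    change _ = (((Ec R₀ U).map α).app X ⊗ₘ β.app X) (ιc P X φ p ⊗ₜ[R₀.obj X] q)
    refine Eq.trans ?_ (ModuleCat.MonoidalCategory.tensorHom_tmul (((Ec R₀ U).map α).app X)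
      (β.app X) (ιc P X φ p) q).symm
    rw [Ec_map_app_ιc]
    rfl
  | hadd a b ha hb =>
    rw [map_add, ha, hb, ← map_add]

end proj

end Groth.Agent.Lib.Helper21.ExtZero
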