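import Mathlib

/-!
# Helper21: abstract flatness calculus for a right-exact bifunctor on an abelian category

`T : A ⥤ A ⥤ A`, `(T.obj X).obj Y = X ⊗ Y`.  `T.flip.obj Y = - ⊗ Y`.
-/

open CategoryTheory Limits

namespace Groth.Agent.Lib.Helper21.FlatCalc

universe v u

variable {A : Type u} [Category.{v} A] [Abelian A]

/-- The diagram lemma behind "Tor₁(flat, -) = 0". -/
theorem mono_of_diagram {A₁ A₂ A₃ B₁ B₂ B₃ C₁ C₂ : A}
    (f₁ : A₁ ⟶ A₂) (g₁ : A₂ ⟶ A₃) (f₂ : B₁ ⟶ B₂) (g₂ : B₂ ⟶ B₃) (f₃ : C₁ ⟶ C₂)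
    (α : A₁ ⟶ B₁) (β : A₂ ⟶ B₂) (γ : A₃ ⟶ B₃) (π₁ : B₁ ⟶ C₁) (π₂ : B₂ ⟶ C₂)
    (w₁ : f₁ ≫ g₁ = 0) (hrow1 : (ShortComplex.mk f₁ g₁ w₁).Exact)
    [Mono f₂] [Mono γ] [Epi π₁]
    (wβ : β ≫ π₂ = 0) (hcol2 : (ShortComplex.mk β π₂ wβ).Exact)
    (wαπ : α ≫ π₁ = 0)
    (c₁ : f₁ ≫ β = α ≫ f₂) (c₂ : g₁ ≫ γ = β ≫ g₂) (c₃ : f₂ ≫ π₂ = π₁ ≫ f₃)
    (w₂ : f₂ ≫ g₂ = 0) : Mono f₃ := by
  apply Preadditive.mono_of_cancel_zero
  intro T x hx
  obtain ⟨T₁, p₁, hp₁, y, hy⟩ := surjective_up_to_refinements_of_epi π₁ x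
  have h1 : (y ≫ f₂) ≫ π₂ = 0 := by
    rw [Category.assoc, c₃, ← Category.assoc, ← hy, Category.assoc, hx, comp_zero]
  obtain ⟨T₂, p₂, hp₂, z, hz⟩ := hcol2.exact_up_to_refinements (y ≫ f₂) h1
  dsimp at hz z
  have h2 : z ≫ g₁ = 0 := by
    rw [← cancel_mono γ, Category.assoc, c₂, ← Category.assoc, ← hz, zero_comp, Category.assoc,
      Category.assoc, w₂, comp_zero, comp_zero]
  obtain ⟨T₃, p₃, hp₃, w, hw⟩ := hrow1.exact_up_to_refinements z h2
  dsimp at hw w
  have h3 : w ≫ α = p₃ ≫ p₂ ≫ y := by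
    rw [← cancel_mono f₂, Category.assoc, ← c₁, ← Category.assoc, ← hw, Category.assoc, ← hz,
      Category.assoc, Category.assoc]
  have h4 : (p₃ ≫ p₂ ≫ p₁) ≫ x = 0 := by
    rw [Category.assoc, Category.assoc, hy, ← Category.assoc p₂, ← Category.assoc p₃, ← h3,
      Category.assoc, wαπ, comp_zero]
  haveI : Epi (p₃ ≫ p₂ ≫ p₁) := epi_comp' hp₃ (epi_comp' hp₂ hp₁)
  exact (cancel_epi (p₃ ≫ p₂ ≫ p₁)).1 (h4.trans comp_zero.symm)

section

variable {B : Type*} [Category B] [Abelian B]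

/-- right exact functors send short exact sequences to right exact ones -/
theorem exact_and_epi_of_rightExact (F : A ⥤ B) [F.Additive] [PreservesFiniteColimits F]
    (S : ShortComplex A) (hS : S.ShortExact) : (S.map F).Exact ∧ Epi (F.map S.g) :=
  (Functor.preservesFiniteColimits_iff_forall_exact_map_and_epi F).1 inferInstance S hS

/-- a right exact additive functor is exact iff it preserves monos -/
theorem preservesFiniteLimits_of_mono (F : A ⥤ B) [F.Additive] [PreservesFiniteColimits F]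
    (h : ∀ {X Y : A} (f : X ⟶ Y), Mono f → Mono (F.map f)) : PreservesFiniteLimits F := by
  rw [Functor.preservesFiniteLimits_iff_forall_exact_map_and_mono]
  intro S hS
  exact ⟨(exact_and_epi_of_rightExact F S hS).1, h S.f hS.mono_f⟩

theorem shortExact_map_of_mono (F : A ⥤ B) [F.Additive] [PreservesFiniteColimits F]
    (S : ShortComplex A) (hS : S.ShortExact) (h : Mono (F.map S.f)) : (S.map F).ShortExact := by
  have h1 := exact_and_epi_of_rightExact F S hS
  exact { exact := h1.1, mono_f := h, epi_g := h1.2 }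

end

variable (T : A ⥤ A ⥤ A) [∀ X, (T.obj X).Additive] [∀ Y, (T.flip.obj Y).Additive]
  [∀ X, PreservesFiniteColimits (T.obj X)] [∀ Y, PreservesFiniteColimits (T.flip.obj Y)]

/-- `S ⊗ G` is short exact if `S.X₃ ⊗ -` is left exact and `G` is a quotient of some `P` with `- ⊗ P`
exact. -/
theorem mono_map_flip_of_flat (S : ShortComplex A) (hS : S.ShortExact)
    (h₃ : PreservesFiniteLimits (T.obj S.X₃))
    (G P : A) (π : P ⟶ G) [Epi π] (hP : PreservesFiniteLimits (T.flip.obj P)) :
    Mono ((T.flip.obj G).map S.f) := by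
  let i := kernel.ι π
  have hE : (ShortComplex.mk i π (kernel.condition π)).ShortExact :=
    { exact := ShortComplex.exact_kernel π }
  have hrow1 := exact_and_epi_of_rightExact (T.flip.obj (kernel π)) S hS
  have hrow2 : (S.map (T.flip.obj P)).ShortExact := hS.map_of_exact _
  have hcol1 := exact_and_epi_of_rightExact (T.obj S.X₁) _ hE
  have hcol2 := exact_and_epi_of_rightExact (T.obj S.X₂) _ hE
  haveI : Mono ((T.flip.obj P).map S.f) := hrow2.mono_f
  haveI : Mono ((T.obj S.X₃).map i) := inferInstance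
  haveI : Epi ((T.obj S.X₁).map π) := hcol1.2
  refine mono_of_diagram
    ((T.flip.obj (kernel π)).map S.f) ((T.flip.obj (kernel π)).map S.g)
    ((T.flip.obj P).map S.f) ((T.flip.obj P).map S.g) ((T.flip.obj G).map S.f)
    ((T.obj S.X₁).map i) ((T.obj S.X₂).map i) ((T.obj S.X₃).map i)
    ((T.obj S.X₁).map π) ((T.obj S.X₂).map π)
    (by rw [← Functor.map_comp, S.zero, Functor.map_zero]) hrow1.1
    (by rw [← Functor.map_comp, kernel.condition, Functor.map_zero]) hcol2.1
    (by rw [← Functor.map_comp, kernel.condition, Functor.map_zero])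
    ((T.map S.f).naturality i).symm ((T.map S.g).naturality i).symm
    ((T.map S.f).naturality π).symm
    (by rw [← Functor.map_comp, S.zero, Functor.map_zero])

theorem shortExact_map_flip_of_flat (S : ShortComplex A) (hS : S.ShortExact)
    (h₃ : PreservesFiniteLimits (T.obj S.X₃))
    (G P : A) (π : P ⟶ G) [Epi π] (hP : PreservesFiniteLimits (T.flip.obj P)) :
    (S.map (T.flip.obj G)).ShortExact :=
  shortExact_map_of_mono _ S hS (mono_map_flip_of_flat T S hS h₃ G P π hP)

section braided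

variable (b : T ≅ T.flip)
  (enough : ∀ G : A, ∃ (P : A) (π : P ⟶ G), Epi π ∧ PreservesFiniteLimits (T.flip.obj P))

include b in
theorem flatL_iff_flatR (X : A) :
    PreservesFiniteLimits (T.obj X) ↔ PreservesFiniteLimits (T.flip.obj X) :=
  ⟨fun _ => preservesFiniteLimits_of_natIso (b.app X),
   fun _ => preservesFiniteLimits_of_natIso (b.app X).symm⟩

include b enough in
/-- Theorem A: `S ⊗ G` short exact when `S.X₃` is flat. -/
theorem shortExact_map_flip (S : ShortComplex A) (hS : S.ShortExact)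
    (h₃ : PreservesFiniteLimits (T.flip.obj S.X₃)) (G : A) :
    (S.map (T.flip.obj G)).ShortExact := by
  obtain ⟨P, π, hπ, hP⟩ := enough G
  exact shortExact_map_flip_of_flat T S hS ((flatL_iff_flatR T b _).2 h₃) G P π hP

include b enough in
/-- Theorem A': `G ⊗ S` short exact when `S.X₃` is flat. -/
theorem shortExact_map_obj (S : ShortComplex A) (hS : S.ShortExact)
    (h₃ : PreservesFiniteLimits (T.flip.obj S.X₃)) (G : A) :
    (S.map (T.obj G)).ShortExact :=
  ShortComplex.shortExact_of_iso (S.mapNatIso (b.app G).symm)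
    (shortExact_map_flip T b enough S hS h₃ G)

include b enough in
/-- Theorem B: extension of flats is flat. -/
theorem flat_middle (S : ShortComplex A) (hS : S.ShortExact)
    (h₁ : PreservesFiniteLimits (T.flip.obj S.X₁))
    (h₃ : PreservesFiniteLimits (T.flip.obj S.X₃)) :
    PreservesFiniteLimits (T.flip.obj S.X₂) := by
  apply preservesFiniteLimits_of_mono
  intro G' G j hj
  let φ : S.map (T.obj G') ⟶ S.map (T.obj G) := S.mapNatTrans (T.map j)
  have e1 := shortExact_map_obj T b enough S hS h₃ G'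
  have e2 := shortExact_map_obj T b enough S hS h₃ G
  haveI := e1.mono_f
  haveI := e2.mono_f
  haveI : Mono φ.τ₁ := inferInstanceAs (Mono ((T.flip.obj S.X₁).map j))
  haveI : Mono φ.τ₃ := inferInstanceAs (Mono ((T.flip.obj S.X₃).map j))
  exact ShortComplex.mono_τ₂_of_exact_of_mono φ e1.exact

include b enough in
/-- Theorem C: kernel of an epi of flats is flat. -/
theorem flat_left (S : ShortComplex A) (hS : S.ShortExact)
    (h₂ : PreservesFiniteLimits (T.flip.obj S.X₂))
    (h₃ : PreservesFiniteLimits (T.flip.obj S.X₃)) :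
    PreservesFiniteLimits (T.flip.obj S.X₁) := by
  apply preservesFiniteLimits_of_mono
  intro G' G j hj
  have e1 := shortExact_map_obj T b enough S hS h₃ G'
  haveI : Mono ((T.obj G').map S.f) := e1.mono_f
  haveI : Mono ((T.flip.obj S.X₂).map j) := inferInstance
  have hc : (T.flip.obj S.X₁).map j ≫ (T.obj G).map S.f =
      (T.obj G').map S.f ≫ (T.flip.obj S.X₂).map j := ((T.map j).naturality S.f).symm
  haveI : Mono ((T.flip.obj S.X₁).map j ≫ (T.obj G).map S.f) := by
    rw [hc]; exact mono_comp _ _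
  exact mono_of_mono _ ((T.obj G).map S.f)

end braided

end Groth.Agent.Lib.Helper21.FlatCalc
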