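import Mathlib

/-!
# Helper21: algebra lemmas for "tensoring a locally bijective map of presheaves of modules"

* `exists_fg_data`: an element `t : M ⊗ L` killed by `φ ⊗ 1` comes from `t₀ : M₀ ⊗ L` which is
  already killed in `N' ⊗ L` for a finitely generated `N' ⊆ M'`.
* `restrict_mem_range`: semilinear restriction: under lifting hypotheses for `N'`, the restriction of
  `t` lies in the image of `ker φV ⊗ LV`.
-/

open TensorProduct

namespace Groth.Agent.Lib.Helper21.ModTensorAlg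

theorem exists_fg_data {A : Type*} [CommRing A] {M M' L : Type*} [AddCommGroup M] [AddCommGroup M']
    [AddCommGroup L] [Module A M] [Module A M'] [Module A L]
    (φ : M →ₗ[A] M') (t : M ⊗[A] L) (ht : φ.rTensor L t = 0) :
    ∃ (M₀ : Submodule A M) (N' : Submodule A M') (_ : N'.FG) (h : ∀ x ∈ M₀, φ x ∈ N')
      (t₀ : M₀ ⊗[A] L), M₀.subtype.rTensor L t₀ = t ∧ (φ.restrict h).rTensor L t₀ = 0 := by
  obtain ⟨M₀, fg, t₀, rfl⟩ := Submodule.exists_fg_le_eq_rTensor_subtype t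
  let N₀ : Submodule A M' := M₀.map φ
  have hN₀ : N₀.FG := fg.map φ
  have h₀ : ∀ x ∈ M₀, φ x ∈ N₀ := fun x hx => ⟨x, hx, rfl⟩
  let φ₀ : M₀ →ₗ[A] N₀ := φ.restrict h₀
  have hx : N₀.subtype.rTensor L (φ₀.rTensor L t₀) = N₀.subtype.rTensor L 0 := by
    rw [map_zero, ← LinearMap.rTensor_comp_apply]
    have : N₀.subtype ∘ₗ φ₀ = φ ∘ₗ M₀.subtype := by ext x; rfl
    rw [this, LinearMap.rTensor_comp_apply]
    exact ht
  obtain ⟨N', hN', hle, heq⟩ := hN₀.exists_rTensor_fg_inclusion_eq hx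
  refine ⟨M₀, N', hN', fun x hx => hle (h₀ x hx), t₀, rfl, ?_⟩
  rw [map_zero, ← LinearMap.rTensor_comp_apply] at heq
  have : (N₀.inclusion hle) ∘ₗ φ₀ = φ.restrict (fun x hx => hle (h₀ x hx)) := by ext x; rfl
  rw [this] at heq
  exact heq

theorem restrict_mem_range {A A' : Type*} [CommRing A] [CommRing A'] (ρ : A →+* A')
    {M M' L MV MV' LV : Type*} [AddCommGroup M] [AddCommGroup M'] [AddCommGroup L]
    [AddCommGroup MV] [AddCommGroup MV'] [AddCommGroup LV]
    [Module A M] [Module A M'] [Module A L] [Module A' MV] [Module A' MV'] [Module A' LV]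
    (φ : M →ₗ[A] M') (φV : MV →ₗ[A'] MV')
    (rM : M →+ MV) (rM' : M' →+ MV') (rL : L →+ LV)
    (hrM' : ∀ (a : A) (m : M'), rM' (a • m) = ρ a • rM' m)
    (hrL : ∀ (a : A) (l : L), rL (a • l) = ρ a • rL l)
    (hφ : ∀ m, φV (rM m) = rM' (φ m))
    (T : M ⊗[A] L →+ MV ⊗[A'] LV) (hT : ∀ m l, T (m ⊗ₜ l) = rM m ⊗ₜ rL l)
    (M₀ : Submodule A M) (N' : Submodule A M') (h : ∀ x ∈ M₀, φ x ∈ N')
    (hN' : ∀ y ∈ N', rM' y ∈ LinearMap.range φV)
    (t₀ : M₀ ⊗[A] L) (ht₀ : (φ.restrict h).rTensor L t₀ = 0) :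
    T (M₀.subtype.rTensor L t₀) ∈ LinearMap.range ((LinearMap.ker φV).subtype.rTensor LV) := by
  classical
  set K := LinearMap.ker φV with hK
  let e : (MV ⧸ K) ≃ₗ[A'] LinearMap.range φV := φV.quotKerEquivRange
  let ψ : N' → MV ⧸ K := fun y => e.symm ⟨rM' y, hN' y y.2⟩
  have hψ_add : ∀ y y', ψ (y + y') = ψ y + ψ y' := by
    intro y y'
    simp only [ψ]
    rw [← map_add]
    congr 1
    ext
    simp
  have hψ_smul : ∀ (a : A) y, ψ (a • y) = ρ a • ψ y := by
    intro a y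
    simp only [ψ]
    rw [← map_smul]
    congr 1
    ext
    simp [hrM']
  have hψ_φ : ∀ (m : M₀), ψ ((φ.restrict h) m) = K.mkQ (rM m) := by
    intro m
    simp only [ψ]
    rw [LinearEquiv.symm_apply_eq]
    ext
    exact ((φV.quotKerEquivRange_apply_mk (rM m)).trans (hφ m)).symm
  letI : Module A ((MV ⧸ K) ⊗[A'] LV) := Module.compHom _ ρ
  have hsmul : ∀ (a : A) (z : (MV ⧸ K) ⊗[A'] LV), a • z = ρ a • z := fun _ _ => rfl
  let Ψ : N' ⊗[A] L →ₗ[A] (MV ⧸ K) ⊗[A'] LV :=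
    TensorProduct.lift (LinearMap.mk₂ A (fun y l => ψ y ⊗ₜ[A'] rL l)
      (fun y y' l => by simp only [hψ_add, TensorProduct.add_tmul])
      (fun a y l => by simp only [hψ_smul, hsmul, TensorProduct.smul_tmul'])
      (fun y l l' => by simp only [map_add, TensorProduct.tmul_add])
      (fun a y l => by simp only [hrL, hsmul, TensorProduct.tmul_smul]))
  have key : ∀ t₀ : M₀ ⊗[A] L, (K.mkQ.rTensor LV) (T (M₀.subtype.rTensor L t₀)) =
      Ψ ((φ.restrict h).rTensor L t₀) := by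
    intro t₀
    induction t₀ using TensorProduct.induction_on with
    | zero => simp
    | tmul m l =>
      simp only [LinearMap.rTensor_tmul, Submodule.subtype_apply, hT, Ψ, TensorProduct.lift.tmul,
        LinearMap.mk₂_apply, hψ_φ]
    | add x y hx hy => simp only [map_add, hx, hy]
  have hex : Function.Exact (K.subtype.rTensor LV) (K.mkQ.rTensor LV) :=
    rTensor_exact LV (LinearMap.exact_subtype_mkQ K) (Submodule.mkQ_surjective K)
  obtain ⟨y, hy⟩ := (hex _).mp (by rw [key, ht₀, map_zero])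
  exact ⟨y, hy⟩

end Groth.Agent.Lib.Helper21.ModTensorAlg
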