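import Mathlib
import Groth.Agent.Lib.Helper21ModTensorAlg

/-!
# Helper21: tensoring presheaves of modules preserves locally bijective morphisms

For a presheaf of commutative rings `R` on a site `(C, J)` and a morphism `f : P ⟶ P'` of presheaves
of `R`-modules which is locally injective and locally surjective, `f ▷ N` and `N ◁ f` are again
locally injective and locally surjective (`isLocallySurjective_whiskerRight`,
`isLocallyInjective_whiskerRight`, `W_whiskerRight`, `W_whiskerLeft`, `W_tensorHom`).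
-/

open CategoryTheory MonoidalCategory Opposite TensorProduct

universe u v₁ u₁

namespace Groth.Agent.Lib.Helper21.ModTensor

open Groth.Agent.Lib.Helper21.ModTensorAlg

variable {C : Type u₁} [Category.{v₁} C] (J : GrothendieckTopology C) {R : Cᵒᵖ ⥤ CommRingCat.{u}}
variable {P P' : PresheafOfModules.{u} (R ⋙ forget₂ CommRingCat RingCat)} (f : P ⟶ P')
  (N : PresheafOfModules.{u} (R ⋙ forget₂ CommRingCat RingCat))

section Gen
variable {R₀ : Cᵒᵖ ⥤ RingCat.{u}} (M : PresheafOfModules.{u} R₀)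

lemma map_eq_zero_add {X Y : Cᵒᵖ} (g : X ⟶ Y) (a b : M.obj X) (ha : M.map g a = M.map g 0)
    (hb : M.map g b = M.map g 0) : M.map g (a + b) = M.map g 0 := by
  rw [map_add, ha, hb, map_zero, add_zero]

lemma map_eq_of_sub {X Y : Cᵒᵖ} (g : X ⟶ Y) (a b : M.obj X) (h : M.map g (a - b) = M.map g 0) :
    M.map g a = M.map g b := by
  rw [map_sub, map_zero, sub_eq_zero] at h
  exact h

end Gen

theorem imageSieve_whiskerRight_mem [PresheafOfModules.IsLocallySurjective J f] {U : C}
    (s : (P' ⊗ N).obj (op U)) :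
    Presheaf.imageSieve ((PresheafOfModules.toPresheaf _).map (f ▷ N)) s ∈ J U := by
  induction s using TensorProduct.induction_on with
  | zero =>
    refine J.superset_covering ?_ (J.top_mem U)
    intro V i _
    exact ⟨(0 : (P ⊗ N).obj (op V)),
      (map_zero ((f ▷ N).app (op V)).hom).trans (map_zero ((P' ⊗ N).map i.op).hom).symm⟩
  | tmul p' n =>
    refine J.superset_covering ?_
      (Presheaf.imageSieve_mem J ((PresheafOfModules.toPresheaf _).map f) (U := op U) p')
    rintro V i ⟨p, hp⟩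
    replace hp : f.app (op V) p = P'.map i.op p' := hp
    refine ⟨(p ⊗ₜ[R.obj (op V)] N.map i.op n : (P ⊗ N).obj (op V)), ?_⟩
    exact congrArg (fun z => z ⊗ₜ[R.obj (op V)] N.map i.op n) hp
  | add x y hx hy =>
    refine J.superset_covering ?_ (J.intersection_covering hx hy)
    rintro V i ⟨⟨(a : (P ⊗ N).obj (op V)), ha⟩, ⟨(b : (P ⊗ N).obj (op V)), hb⟩⟩
    replace ha : (f ▷ N).app (op V) a = (P' ⊗ N).map i.op x := ha
    replace hb : (f ▷ N).app (op V) b = (P' ⊗ N).map i.op y := hb
    refine ⟨(a + b : (P ⊗ N).obj (op V)), ?_⟩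
    have h1 : (f ▷ N).app (op V) (a + b) = (f ▷ N).app (op V) a + (f ▷ N).app (op V) b :=
      map_add ((f ▷ N).app (op V)).hom a b
    have h2 : (P' ⊗ N).map i.op (x + y) = (P' ⊗ N).map i.op x + (P' ⊗ N).map i.op y :=
      map_add ((P' ⊗ N).map i.op).hom x y
    exact h1.trans ((congrArg₂ (· + ·) ha hb).trans h2.symm)

theorem isLocallySurjective_whiskerRight [PresheafOfModules.IsLocallySurjective J f] :
    PresheafOfModules.IsLocallySurjective J (f ▷ N) :=
  ⟨fun s => imageSieve_whiskerRight_mem J f N s⟩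

theorem equalizerSieve_zero_mem_of_mem_range [PresheafOfModules.IsLocallyInjective J f] {X : Cᵒᵖ}
    (κ : (P ⊗ N).obj X)
    (hκ : κ ∈ LinearMap.range ((LinearMap.ker (f.app X).hom).subtype.rTensor (N.obj X))) :
    Presheaf.equalizerSieve (F := (PresheafOfModules.toPresheaf _).obj (P ⊗ N)) κ 0 ∈ J X.unop := by
  obtain ⟨z, rfl⟩ := hκ
  induction z using TensorProduct.induction_on with
  | zero =>
    refine J.superset_covering ?_ (J.top_mem _)
    intro V g _
    exact congrArg ((P ⊗ N).map g.op).hom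
      (map_zero ((LinearMap.ker (f.app X).hom).subtype.rTensor (N.obj X)))
  | tmul k n =>
    have hk : f.app X k.1 = f.app X 0 := by
      rw [map_zero]; exact k.2
    refine J.superset_covering ?_
      (Presheaf.equalizerSieve_mem J ((PresheafOfModules.toPresheaf _).map f) (X := X) k.1 0 hk)
    intro V g hg
    replace hg : P.map g.op k.1 = P.map g.op 0 := hg
    show (P ⊗ N).map g.op (k.1 ⊗ₜ[R.obj X] n) = (P ⊗ N).map g.op 0
    rw [map_zero] at hg ⊢
    show P.map g.op k.1 ⊗ₜ[R.obj (op V)] N.map g.op n = 0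
    rw [hg, TensorProduct.zero_tmul]
  | add x y hx hy =>
    refine J.superset_covering ?_ (J.intersection_covering hx hy)
    rintro V g ⟨ha, hb⟩
    exact (congrArg ((P ⊗ N).map g.op).hom
      (map_add ((LinearMap.ker (f.app X).hom).subtype.rTensor (N.obj X)) x y)).trans
      (map_eq_zero_add (P ⊗ N) g.op _ _ ha hb)

theorem exists_cover_lift_fg [PresheafOfModules.IsLocallySurjective J f] {X : Cᵒᵖ}
    (N' : Submodule ((R ⋙ forget₂ CommRingCat RingCat).obj X) (P'.obj X)) (hN' : N'.FG) :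
    ∃ S ∈ J X.unop, ∀ ⦃V : C⦄ (g : V ⟶ X.unop), S g →
      ∀ y ∈ N', (P'.map g.op y : P'.obj (op V)) ∈ LinearMap.range (f.app (op V)).hom := by
  refine Submodule.fg_induction
    (motive := fun (N' : Submodule ((R ⋙ forget₂ CommRingCat RingCat).obj X) (P'.obj X)) _ =>
      ∃ S ∈ J X.unop, ∀ ⦃V : C⦄ (g : V ⟶ X.unop), S g →
      ∀ y ∈ N', (P'.map g.op y : P'.obj (op V)) ∈ LinearMap.range (f.app (op V)).hom) ?_ ?_ N' hN'
  · intro x
    refine ⟨Presheaf.imageSieve ((PresheafOfModules.toPresheaf _).map f) (U := X.unop) x,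
      Presheaf.imageSieve_mem J ((PresheafOfModules.toPresheaf _).map f) (U := X) x, ?_⟩
    rintro V g ⟨(p : P.obj (op V)), hp⟩ y hy
    replace hp : f.app (op V) p = P'.map g.op x := hp
    obtain ⟨a, rfl⟩ := Submodule.mem_span_singleton.mp hy
    refine ⟨((R ⋙ forget₂ CommRingCat RingCat).map g.op a) • p, ?_⟩
    have h1 : P'.map g.op (a • x) = ((R ⋙ forget₂ CommRingCat RingCat).map g.op a) • P'.map g.op x :=
      P'.map_smul g.op a x
    have h2 : (f.app (op V)).hom (((R ⋙ forget₂ CommRingCat RingCat).map g.op a) • p) =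
        ((R ⋙ forget₂ CommRingCat RingCat).map g.op a) • (f.app (op V)).hom p := map_smul _ _ _
    exact h2.trans ((congrArg (fun z => ((R ⋙ forget₂ CommRingCat RingCat).map g.op a) • z) hp).trans
      h1.symm)
  · rintro N₁ N₂ - - ⟨S₁, hS₁, h₁⟩ ⟨S₂, hS₂, h₂⟩
    refine ⟨S₁ ⊓ S₂, J.intersection_covering hS₁ hS₂, ?_⟩
    rintro V g ⟨hg₁, hg₂⟩ y hy
    obtain ⟨y₁, hy₁, y₂, hy₂, rfl⟩ := Submodule.mem_sup.mp hy
    have h3 : P'.map g.op (y₁ + y₂) = P'.map g.op y₁ + P'.map g.op y₂ := map_add (P'.map g.op).hom _ _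
    rw [h3]
    exact Submodule.add_mem _ (h₁ g hg₁ y₁ hy₁) (h₂ g hg₂ y₂ hy₂)

theorem equalizerSieve_zero_mem [PresheafOfModules.IsLocallySurjective J f]
    [PresheafOfModules.IsLocallyInjective J f] {X : Cᵒᵖ} (t : (P ⊗ N).obj X)
    (ht : (f ▷ N).app X t = 0) :
    Presheaf.equalizerSieve (F := (PresheafOfModules.toPresheaf _).obj (P ⊗ N)) t 0 ∈ J X.unop := by
  have ht' : (f.app X).hom.rTensor (N.obj X) t = 0 := ht
  obtain ⟨M₀, N', hfg, h, t₀, rfl, ht₀⟩ := exists_fg_data (f.app X).hom t ht'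
  obtain ⟨S, hS, hlift⟩ := exists_cover_lift_fg J f N' hfg
  refine J.transitive hS _ (fun V g hg => ?_)
  have hmem := restrict_mem_range (ρ := ((R ⋙ forget₂ CommRingCat RingCat).map g.op).hom)
    (φ := (f.app X).hom) (φV := (f.app (op V)).hom)
    (rM := (show P.obj X →+ P.obj (op V) from (P.map g.op).hom.toAddMonoidHom))
    (rM' := (show P'.obj X →+ P'.obj (op V) from (P'.map g.op).hom.toAddMonoidHom))
    (rL := (show N.obj X →+ N.obj (op V) from (N.map g.op).hom.toAddMonoidHom))
    (fun a m => P'.map_smul g.op a m) (fun a l => N.map_smul g.op a l)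
    (fun m => PresheafOfModules.naturality_apply f g.op m)
    (T := (show (P ⊗ N).obj X →+ (P ⊗ N).obj (op V) from ((P ⊗ N).map g.op).hom.toAddMonoidHom))
    (fun m l => rfl) M₀ N' h (fun y hy => hlift g hg y hy) t₀ ht₀
  have := equalizerSieve_zero_mem_of_mem_range J f N
    ((P ⊗ N).map g.op (M₀.subtype.rTensor _ t₀)) hmem
  refine J.superset_covering ?_ this
  intro W k hk
  replace hk : (P ⊗ N).map k.op ((P ⊗ N).map g.op (M₀.subtype.rTensor _ t₀)) =
    (P ⊗ N).map k.op 0 := hk
  show (P ⊗ N).map (k ≫ g).op (M₀.subtype.rTensor _ t₀) = (P ⊗ N).map (k ≫ g).op 0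
  have e1 : ∀ z : (P ⊗ N).obj X, (P ⊗ N).map (k ≫ g).op z = (P ⊗ N).map k.op ((P ⊗ N).map g.op z) := by
    intro z
    rw [op_comp, PresheafOfModules.map_comp]
    rfl
  rw [e1, e1, hk]
  exact congrArg ((P ⊗ N).map k.op).hom (map_zero ((P ⊗ N).map g.op).hom).symm

theorem isLocallyInjective_whiskerRight [PresheafOfModules.IsLocallySurjective J f]
    [PresheafOfModules.IsLocallyInjective J f] :
    PresheafOfModules.IsLocallyInjective J (f ▷ N) := by
  constructor
  intro X (x : (P ⊗ N).obj X) (y : (P ⊗ N).obj X) hxy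
  replace hxy : (f ▷ N).app X x = (f ▷ N).app X y := hxy
  have h0 : (f ▷ N).app X (x - y) = 0 := by
    have : (f ▷ N).app X (x - y) = (f ▷ N).app X x - (f ▷ N).app X y :=
      map_sub ((f ▷ N).app X).hom x y
    rw [this, hxy, sub_self]
  refine J.superset_covering ?_ (equalizerSieve_zero_mem J f N (x - y) h0)
  intro V g hg
  exact map_eq_of_sub (P ⊗ N) g.op x y hg

section W

variable [J.WEqualsLocallyBijective AddCommGrpCat.{u}]

theorem W_whiskerRight (hf : J.W ((PresheafOfModules.toPresheaf _).map f)) :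
    J.W ((PresheafOfModules.toPresheaf _).map (f ▷ N)) := by
  rw [J.W_iff_isLocallyBijective] at hf ⊢
  obtain ⟨h1, h2⟩ := hf
  haveI : PresheafOfModules.IsLocallyInjective J f := h1
  haveI : PresheafOfModules.IsLocallySurjective J f := h2
  exact ⟨isLocallyInjective_whiskerRight J f N, isLocallySurjective_whiskerRight J f N⟩

theorem W_whiskerLeft (hf : J.W ((PresheafOfModules.toPresheaf _).map f)) :
    J.W ((PresheafOfModules.toPresheaf _).map (N ◁ f)) := by
  have e : N ◁ f = (β_ N P).hom ≫ (f ▷ N) ≫ (β_ N P').inv := by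
    rw [← Category.assoc, ← BraidedCategory.braiding_naturality_right, Category.assoc,
      Iso.hom_inv_id, Category.comp_id]
  rw [e, Functor.map_comp, Functor.map_comp]
  exact J.W.comp_mem _ _ (J.W_of_isLocallyBijective _)
    (J.W.comp_mem _ _ (W_whiskerRight J f N hf) (J.W_of_isLocallyBijective _))

theorem W_tensorHom {Q Q' : PresheafOfModules.{u} (R ⋙ forget₂ CommRingCat RingCat)} (g : Q ⟶ Q')
    (hf : J.W ((PresheafOfModules.toPresheaf _).map f))
    (hg : J.W ((PresheafOfModules.toPresheaf _).map g)) :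
    J.W ((PresheafOfModules.toPresheaf _).map (f ⊗ₘ g)) := by
  rw [MonoidalCategory.tensorHom_def, Functor.map_comp]
  exact J.W.comp_mem _ _ (W_whiskerRight J f Q hf) (W_whiskerLeft J g P' hg)

end W

end Groth.Agent.Lib.Helper21.ModTensor
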