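import Mathlib
import Groth.Prelude.Def_ModSite
import Groth.Agent.Lib.Helper21ModTensor

/-!
# Helper21: the tensor product of sheaves of modules on a small ringed site (ModSite.tensorBi)

* `PM O`, `fgt O`, `shf O`, `adj O : shf O ⊣ fgt O`, `eta O M` (unit).
* `isIso_shf_map_iff`, `isIso_shf_map_tensorHom` (sheafification inverts `φ ⊗ ψ` if it inverts both),
* `shfTensorIso` : `a(M ⊗ N) ≅ a M ⊗ a N` (S6168),
* `tensorRight_preservesColimits` on presheaves, `flipObj_preservesColimitsOfShape` :
  `(ModSite.tensorBi O).flip.obj N` preserves colimits.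
-/

open CategoryTheory MonoidalCategory Opposite Limits

universe u

namespace Groth.Agent.Lib.Helper21.ModTensor2

open Groth.Agent.Lib.Helper21.ModTensor

variable {C : Type u} [SmallCategory C] {J : GrothendieckTopology C} (O : Sheaf J CommRingCat.{u})

abbrev PM := PresheafOfModules.{u} (O.obj ⋙ forget₂ CommRingCat.{u} RingCat.{u})

noncomputable abbrev fgt : ModSite.Mod O ⥤ PM O := SheafOfModules.forget (ModSite.ringSh O)
noncomputable abbrev shf : PM O ⥤ ModSite.Mod O := ModSite.sheafify O

noncomputable def adj : shf O ⊣ fgt O :=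
  (PresheafOfModules.sheafificationAdjunction (𝟙 (ModSite.ringSh O).obj))

instance : IsIso (adj O).counit :=
  inferInstanceAs (IsIso (PresheafOfModules.sheafificationAdjunction (𝟙 (ModSite.ringSh O).obj)).counit)

noncomputable abbrev eta (M : PM O) : M ⟶ (fgt O).obj ((shf O).obj M) := (adj O).unit.app M

variable {O}

instance locInj_id : Presheaf.IsLocallyInjective J (𝟙 (ModSite.ringSh O).obj) := inferInstance
instance locSurj_id : Presheaf.IsLocallySurjective J (𝟙 (ModSite.ringSh O).obj) := inferInstance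

theorem invW : J.W.inverseImage (PresheafOfModules.toPresheaf (ModSite.ringSh O).obj) =
    (MorphismProperty.isomorphisms _).inverseImage (shf O) :=
  PresheafOfModules.inverseImage_W_toPresheaf_eq_inverseImage_isomorphisms.{u}
    (J := J) (R₀ := (ModSite.ringSh O).obj) (R := ModSite.ringSh O) (𝟙 (ModSite.ringSh O).obj)

theorem isIso_shf_map_iff {A B : PM O} (φ : A ⟶ B) :
    IsIso ((shf O).map φ) ↔ J.W ((PresheafOfModules.toPresheaf _).map φ) :=
  (iff_of_eq (congrFun (congrFun (congrFun (invW (O := O)) A) B) φ)).symm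

theorem W_eta (M : PM O) : J.W ((PresheafOfModules.toPresheaf _).map (eta O M)) := by
  have : (PresheafOfModules.toPresheaf _).map (eta O M) = CategoryTheory.toSheafify J M.presheaf :=
    PresheafOfModules.toPresheaf_map_sheafificationAdjunction_unit_app.{u}
      (J := J) (R₀ := (ModSite.ringSh O).obj) (R := ModSite.ringSh O) (𝟙 (ModSite.ringSh O).obj) M
  rw [this]
  exact J.W_toSheafify _

theorem isIso_shf_map_tensorHom {A A' B B' : PM O} (φ : A ⟶ A') (ψ : B ⟶ B')
    (hφ : J.W ((PresheafOfModules.toPresheaf _).map φ))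
    (hψ : J.W ((PresheafOfModules.toPresheaf _).map ψ)) : IsIso ((shf O).map (φ ⊗ₘ ψ)) :=
  (isIso_shf_map_iff _).mpr (W_tensorHom J φ ψ hφ hψ)

instance isIso_shf_map_eta_tensor (M N : PM O) : IsIso ((shf O).map (eta O M ⊗ₘ eta O N)) :=
  isIso_shf_map_tensorHom _ _ (W_eta M) (W_eta N)

instance isIso_shf_map_eta_whiskerRight (M N : PM O) : IsIso ((shf O).map (eta O M ▷ N)) :=
  (isIso_shf_map_iff _).mpr (W_whiskerRight J _ N (W_eta M))

instance isIso_shf_map_eta_whiskerLeft (M N : PM O) : IsIso ((shf O).map (N ◁ eta O M)) :=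
  (isIso_shf_map_iff _).mpr (W_whiskerLeft J _ N (W_eta M))

variable (O)

/-- `a(M ⊗ N) ≅ a M ⊗ a N`. -/
noncomputable def shfTensorIso (M N : PM O) :
    (shf O).obj (M ⊗ N) ≅ ((ModSite.tensorBi O).obj ((shf O).obj M)).obj ((shf O).obj N) :=
  @asIso _ _ _ _ ((shf O).map (eta O M ⊗ₘ eta O N)) (isIso_shf_map_eta_tensor M N)

end Groth.Agent.Lib.Helper21.ModTensor2
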