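import Mathlib.CategoryTheory.Abelian.GrothendieckCategory.EnoughInjectives
import Mathlib.CategoryTheory.Abelian.GrothendieckAxioms.FunctorCategory
import Mathlib.CategoryTheory.Generator.Presheaf
import Mathlib.Algebra.Category.Grp.AB
import Mathlib.Algebra.Category.ModuleCat.Presheaf.Generator
import Mathlib.Algebra.Category.ModuleCat.Presheaf.Abelian
import Mathlib.CategoryTheory.Functor.ReflectsIso.Balanced
/-!
# Helper1: Grothendieck abelian categories of presheaves, functorial injective embeddings

* `exists_functorial_injective_embedding A`: a Grothendieck abelian category has a functorial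
  embedding into injective objects (via Mathlib's small object argument factorization).
* `isGrothendieckAbelian_presheafAb`: presheaves of abelian groups on a small category.
* `isGrothendieckAbelian_presheafOfModules`: presheaves of modules over a presheaf of rings on a
  small category.
-/

set_option autoImplicit false
universe u

open CategoryTheory CategoryTheory.Limits

namespace Groth.Agent.Lib.Helper1

section General
universe v' u'
open ZeroObject
variable (A : Type u') [Category.{v'} A] [Abelian A] [IsGrothendieckAbelian.{v'} A]

/-- the functor `X ↦ (X ⟶ 0)` to arrows -/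
noncomputable def toZeroArrow : A ⥤ Arrow A where
  obj X := Arrow.mk (0 : X ⟶ 0)
  map φ := Arrow.homMk φ (𝟙 0) (by simp)

theorem exists_functorial_injective_embedding :
    ∃ (J : A ⥤ A) (j : 𝟭 _ ⟶ J), ∀ F : A, Injective (J.obj F) ∧ Mono (j.app F) := by
  let data := MorphismProperty.functorialFactorizationData (MorphismProperty.monomorphisms A)
    (MorphismProperty.monomorphisms A).rlp
  refine ⟨toZeroArrow A ⋙ data.Z,
    { app := fun X => data.i.app ((toZeroArrow A).obj X)
      naturality := fun X Y φ => data.i.naturality ((toZeroArrow A).map φ) }, fun F => ⟨?_, ?_⟩⟩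
  · exact inferInstanceAs (Injective (IsGrothendieckAbelian.monoMapFactorizationDataRlp (0 : F ⟶ 0)).Z)
  · exact inferInstanceAs (Mono (IsGrothendieckAbelian.monoMapFactorizationDataRlp (0 : F ⟶ 0)).i)

end General

section Presheaves
variable {C : Type u} [SmallCategory C]

theorem isGrothendieckAbelian_presheafAb :
    IsGrothendieckAbelian.{u} (Cᵒᵖ ⥤ AddCommGrpCat.{u}) where
  locallySmall := inferInstance
  hasFilteredColimitsOfSize := inferInstance
  ab5OfSize := ⟨fun _ _ _ => inferInstance⟩
  hasSeparator := inferInstance

variable (O : Cᵒᵖ ⥤ RingCat.{u})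

theorem hasSeparator_presheafOfModules : HasSeparator (PresheafOfModules.{u} O) :=
  ⟨_, (PresheafOfModules.freeYoneda.isSeparating O).isSeparator_coproduct⟩

theorem reflectsFiniteLimits_toPresheaf :
    ReflectsFiniteLimits (PresheafOfModules.toPresheaf O) := by
  have : (PresheafOfModules.toPresheaf O).ReflectsIsomorphisms := inferInstance
  exact ⟨fun J _ _ => reflectsLimitsOfShape_of_reflectsIsomorphisms⟩

theorem ab5_presheafOfModules : AB5OfSize.{u, u} (PresheafOfModules.{u} O) := by
  have := reflectsFiniteLimits_toPresheaf O
  exact ⟨fun J _ _ => HasExactColimitsOfShape.domain_of_functor J (PresheafOfModules.toPresheaf O)⟩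

theorem isGrothendieckAbelian_presheafOfModules :
    IsGrothendieckAbelian.{u} (PresheafOfModules.{u} O) where
  locallySmall := inferInstance
  hasFilteredColimitsOfSize := inferInstance
  ab5OfSize := ab5_presheafOfModules O
  hasSeparator := hasSeparator_presheafOfModules O

end Presheaves

end Groth.Agent.Lib.Helper1
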