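import Mathlib
import Groth.Prelude.Def_ModSite
import Groth.Agent.Lib.Helper21ModTensor2
import Groth.Agent.S0484

/-!
# Helper21: `- ⊗_O N` on sheaves of modules preserves colimits and is a left adjoint (S6165)
-/

open CategoryTheory MonoidalCategory Opposite Limits

universe u

namespace Groth.Agent.Lib.Helper21.ModTensor3

open Groth.Agent.Lib.Helper21.ModTensor Groth.Agent.Lib.Helper21.ModTensor2

variable {C : Type u} [SmallCategory C] {J : GrothendieckTopology C} (O : Sheaf J CommRingCat.{u})

/-- `- ⊗_O N`. -/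
noncomputable abbrev tR (N : ModSite.Mod O) : ModSite.Mod O ⥤ ModSite.Mod O :=
  (ModSite.tensorBi O).flip.obj N

/-- `N ⊗_O -`. -/
noncomputable abbrev tL (N : ModSite.Mod O) : ModSite.Mod O ⥤ ModSite.Mod O :=
  (ModSite.tensorBi O).obj N

theorem tR_obj (N F : ModSite.Mod O) :
    (tR O N).obj F = (shf O).obj ((fgt O).obj F ⊗ (fgt O).obj N : PM O) := rfl

theorem tR_map (N : ModSite.Mod O) {F G : ModSite.Mod O} (g : F ⟶ G) :
    (tR O N).map g = (shf O).map ((fgt O).map g ▷ (fgt O).obj N : ((fgt O).obj F ⊗ (fgt O).obj N : PM O) ⟶ _) := rfl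

theorem tL_obj (N F : ModSite.Mod O) :
    (tL O N).obj F = (shf O).obj ((fgt O).obj N ⊗ (fgt O).obj F : PM O) := rfl

theorem tL_map (N : ModSite.Mod O) {F G : ModSite.Mod O} (g : F ⟶ G) :
    (tL O N).map g = (shf O).map ((fgt O).obj N ◁ (fgt O).map g : ((fgt O).obj N ⊗ (fgt O).obj F : PM O) ⟶ _) := rfl

theorem nat_auxR (A : PM O) {P Q : PM O} (g : P ⟶ Q) :
    (shf O).map (g ▷ A) ≫ (shf O).map (eta O Q ▷ A) =
      (shf O).map (eta O P ▷ A) ≫ (shf O).map ((fgt O).map ((shf O).map g) ▷ A) := by
  have h : g ≫ eta O Q = eta O P ≫ (fgt O).map ((shf O).map g) := (adj O).unit.naturality g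
  rw [← Functor.map_comp, ← Functor.map_comp, ← comp_whiskerRight, ← comp_whiskerRight, h]

theorem nat_auxL (A : PM O) {P Q : PM O} (g : P ⟶ Q) :
    (shf O).map (A ◁ g) ≫ (shf O).map (A ◁ eta O Q) =
      (shf O).map (A ◁ eta O P) ≫ (shf O).map (A ◁ (fgt O).map ((shf O).map g)) := by
  have h : g ≫ eta O Q = eta O P ≫ (fgt O).map ((shf O).map g) := (adj O).unit.naturality g
  rw [← Functor.map_comp, ← Functor.map_comp, ← MonoidalCategory.whiskerLeft_comp,
    ← MonoidalCategory.whiskerLeft_comp, h]

/-- `a(P ⊗ N) ≅ a P ⊗_O N`, naturally in the presheaf `P`. -/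
noncomputable def shfCompTR (N : ModSite.Mod O) :
    tensorRight ((fgt O).obj N : PM O) ⋙ shf O ≅ shf O ⋙ tR O N :=
  NatIso.ofComponents
    (fun P => @asIso _ _ _ _ ((shf O).map (eta O P ▷ (fgt O).obj N)) (isIso_shf_map_eta_whiskerRight P _))
    (fun {P Q} g => nat_auxR O ((fgt O).obj N) g)

/-- `a(N ⊗ P) ≅ N ⊗_O a P`, naturally in the presheaf `P`. -/
noncomputable def shfCompTL (N : ModSite.Mod O) :
    tensorLeft ((fgt O).obj N : PM O) ⋙ shf O ≅ shf O ⋙ tL O N :=
  NatIso.ofComponents
    (fun P => @asIso _ _ _ _ ((shf O).map ((fgt O).obj N ◁ eta O P)) (isIso_shf_map_eta_whiskerLeft P _))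
    (fun {P Q} g => nat_auxL O ((fgt O).obj N) g)

instance shf_preservesColimitsOfShape (K : Type u) [SmallCategory K] :
    PreservesColimitsOfShape K (shf O) :=
  (adj O).leftAdjoint_preservesColimits.preservesColimitsOfShape

section general

variable {D : Type*} [Category D]

/-- A functor out of `Mod O` preserves colimits of shape `K` as soon as its composite with
sheafification does. -/
theorem preservesColimitsOfShape_of_shf_comp (K : Type u) [SmallCategory K]
    (G : ModSite.Mod O ⥤ D) [PreservesColimitsOfShape K (shf O ⋙ G)] :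
    PreservesColimitsOfShape K G := by
  constructor
  intro F
  let e : F ≅ (F ⋙ fgt O) ⋙ shf O :=
    Functor.isoWhiskerLeft F (asIso (adj O).counit).symm
  have h1 : PreservesColimit ((F ⋙ fgt O) ⋙ shf O) G := by
    have hc := isColimitOfPreserves (shf O) (colimit.isColimit (F ⋙ fgt O))
    apply preservesColimit_of_preserves_colimit_cocone hc
    exact isColimitOfPreserves (shf O ⋙ G) (colimit.isColimit (F ⋙ fgt O))
  exact preservesColimit_of_iso_diagram _ e.symm

end general

instance tR_preservesColimitsOfShape (N : ModSite.Mod O) (K : Type u) [SmallCategory K] :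
    PreservesColimitsOfShape K (tR O N) := by
  haveI : PreservesColimitsOfShape K (tensorRight ((fgt O).obj N : PM O) ⋙ shf O) := inferInstance
  haveI : PreservesColimitsOfShape K (shf O ⋙ tR O N) :=
    preservesColimitsOfShape_of_natIso (shfCompTR O N)
  exact preservesColimitsOfShape_of_shf_comp O K (tR O N)

instance tL_preservesColimitsOfShape (N : ModSite.Mod O) (K : Type u) [SmallCategory K] :
    PreservesColimitsOfShape K (tL O N) := by
  haveI : PreservesColimitsOfShape K (tensorLeft ((fgt O).obj N : PM O) ⋙ shf O) := inferInstance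
  haveI : PreservesColimitsOfShape K (shf O ⋙ tL O N) :=
    preservesColimitsOfShape_of_natIso (shfCompTL O N)
  exact preservesColimitsOfShape_of_shf_comp O K (tL O N)

instance tR_preservesColimits (N : ModSite.Mod O) : PreservesColimitsOfSize.{u, u} (tR O N) := ⟨inferInstance⟩
instance tL_preservesColimits (N : ModSite.Mod O) : PreservesColimitsOfSize.{u, u} (tL O N) := ⟨inferInstance⟩

theorem isGrothendieckAbelian : IsGrothendieckAbelian.{u} (ModSite.Mod O) :=
  Groth.Agent.S0484.result J (ModSite.ringSh O)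

/-- SAFT for functors out of `Mod O`. -/
theorem isLeftAdjoint_of_preservesColimits {D : Type*} [Category.{u} D]
    (G : ModSite.Mod O ⥤ D) [PreservesColimitsOfSize.{u, u} G] : G.IsLeftAdjoint := by
  haveI := isGrothendieckAbelian O
  haveI : WellPowered.{u} (ModSite.Mod O) := IsGrothendieckAbelian.wellPowered _
  haveI : WellPowered.{u} (ModSite.Mod O)ᵒᵖ := Abelian.wellPowered_opposite
  exact isLeftAdjoint_of_preservesColimits_of_isSeparating (isSeparator_separator (ModSite.Mod O)) G

theorem tR_isLeftAdjoint (N : ModSite.Mod O) : (tR O N).IsLeftAdjoint :=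
  isLeftAdjoint_of_preservesColimits O (tR O N)

theorem tL_isLeftAdjoint (N : ModSite.Mod O) : (tL O N).IsLeftAdjoint :=
  isLeftAdjoint_of_preservesColimits O (tL O N)

end Groth.Agent.Lib.Helper21.ModTensor3
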