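import Mathlib
import Groth.Prelude.Def_ModSite
import Groth.Agent.Lib.Helper21ModTensor3
import Groth.Agent.Lib.Helper21FlatCalc

/-!
# Helper21: flatness calculus for presheaves / sheaves of modules on a small ringed site
-/

open CategoryTheory MonoidalCategory Opposite Limits

universe u

namespace Groth.Agent.Lib.Helper21.ModTensor4

open Groth.Agent.Lib.Helper21.ModTensor Groth.Agent.Lib.Helper21.ModTensor2
  Groth.Agent.Lib.Helper21.ModTensor3 Groth.Agent.Lib.Helper21.FlatCalc

section general

theorem additive_of_preservesFiniteColimits {A B : Type*} [Category A] [Category B]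
    [Abelian A] [Abelian B] (F : A ⥤ B) [PreservesFiniteColimits F] : F.Additive := by
  haveI : PreservesBinaryBiproducts F := preservesBinaryBiproducts_of_preservesBinaryCoproducts F
  exact Functor.additive_of_preservesBinaryBiproducts F

end general

section presheaf

variable {C : Type u} [SmallCategory C] (R : Cᵒᵖ ⥤ CommRingCat.{u})

abbrev PM' := PresheafOfModules.{u} (R ⋙ forget₂ CommRingCat.{u} RingCat.{u})

variable {R}

theorem preservesFiniteLimits_tensorLeft_of_flat (F : PM' R)
    (hF : ∀ X : Cᵒᵖ, Module.Flat (R.obj X) (F.obj X)) :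
    PreservesFiniteLimits (tensorLeft F) := by
  constructor
  intro K _ _
  exact ⟨fun {D} => ⟨fun {c} hc => ⟨PresheafOfModules.evaluationJointlyReflectsLimits _ _
    (fun X => by
      haveI := hF X
      exact isLimitOfPreserves (tensorLeft (show ModuleCat (R.obj X) from F.obj X))
        (isLimitOfPreserves (PresheafOfModules.evaluation _ X) hc))⟩⟩⟩

theorem preservesFiniteLimits_tensorRight_of_flat (F : PM' R)
    (hF : ∀ X : Cᵒᵖ, Module.Flat (R.obj X) (F.obj X)) :
    PreservesFiniteLimits (tensorRight F) :=
  haveI := preservesFiniteLimits_tensorLeft_of_flat F hF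
  preservesFiniteLimits_of_natIso (BraidedCategory.tensorLeftIsoTensorRight F)

instance additive_tensorRight (F : PM' R) : (tensorRight F).Additive :=
  additive_of_preservesFiniteColimits _

instance additive_tensorLeft (F : PM' R) : (tensorLeft F).Additive :=
  additive_of_preservesFiniteColimits _

theorem flat_free (F : Cᵒᵖ ⥤ Type u) (X : Cᵒᵖ) :
    Module.Flat (R.obj X)
      (((PresheafOfModules.free (R ⋙ forget₂ CommRingCat.{u} RingCat.{u})).obj F).obj X) := by
  change Module.Flat (R.obj X) ((F.obj X) →₀ (R.obj X))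
  infer_instance

theorem exists_flat_epi (M : PM' R) :
    ∃ (P : PM' R) (π : P ⟶ M), Epi π ∧ ∀ X : Cᵒᵖ, Module.Flat (R.obj X) (P.obj X) := by
  let adj := PresheafOfModules.freeAdjunction (R ⋙ forget₂ CommRingCat.{u} RingCat.{u})
  refine ⟨_, adj.counit.app M, ?_, fun X => flat_free _ X⟩
  haveI : (PresheafOfModules.toPresheaf (R ⋙ forget₂ CommRingCat.{u} RingCat.{u}) ⋙
      (Functor.whiskeringRight _ _ _).obj (forget Ab)).Faithful := inferInstance
  infer_instance

theorem enough_flat (M : PM' R) :
    ∃ (P : PM' R) (π : P ⟶ M), Epi π ∧ PreservesFiniteLimits ((curriedTensor (PM' R)).flip.obj P) := by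
  obtain ⟨P, π, h1, h2⟩ := exists_flat_epi M
  exact ⟨P, π, h1, preservesFiniteLimits_tensorRight_of_flat P h2⟩

end presheaf

end Groth.Agent.Lib.Helper21.ModTensor4
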