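import Mathlib
import Groth.Prelude.Def_ModSite
import Groth.Agent.Lib.Helper21ModTensor4

/-!
# Helper21: flatness calculus for sheaves of modules on a small ringed site
-/

open CategoryTheory MonoidalCategory Opposite Limits

universe u

namespace Groth.Agent.Lib.Helper21.ModTensor5

open Groth.Agent.Lib.Helper21.ModTensor Groth.Agent.Lib.Helper21.ModTensor2
  Groth.Agent.Lib.Helper21.ModTensor3 Groth.Agent.Lib.Helper21.FlatCalc
  Groth.Agent.Lib.Helper21.ModTensor4

variable {C : Type u} [SmallCategory C] {J : GrothendieckTopology C} (O : Sheaf J CommRingCat.{u})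

instance tR_preservesFiniteColimits (N : ModSite.Mod O) : PreservesFiniteColimits (tR O N) :=
  PreservesColimitsOfSize.preservesFiniteColimits.{u, u} _

instance tL_preservesFiniteColimits (N : ModSite.Mod O) : PreservesFiniteColimits (tL O N) :=
  PreservesColimitsOfSize.preservesFiniteColimits.{u, u} _

instance tR_additive (N : ModSite.Mod O) : (tR O N).Additive :=
  additive_of_preservesFiniteColimits _

instance tL_additive (N : ModSite.Mod O) : (tL O N).Additive :=
  additive_of_preservesFiniteColimits _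

theorem isFlat_iff (N : ModSite.Mod O) :
    ModSite.IsFlat N ↔ PreservesFiniteLimits (tR O N) :=
  ⟨fun h => h.1, fun h => ⟨h, inferInstance⟩⟩

/-! ### braiding -/

theorem brd_nat_right (A : PM O) {B B' : PM O} (g : B ⟶ B') :
    (shf O).map (A ◁ g) ≫ (shf O).map (β_ A B').hom =
      (shf O).map (β_ A B).hom ≫ (shf O).map (g ▷ A) := by
  rw [← Functor.map_comp, ← Functor.map_comp, BraidedCategory.braiding_naturality_right]

theorem brd_nat_left (B : PM O) {A A' : PM O} (f : A ⟶ A') :
    (shf O).map (f ▷ B) ≫ (shf O).map (β_ A' B).hom =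
      (shf O).map (β_ A B).hom ≫ (shf O).map (B ◁ f) := by
  rw [← Functor.map_comp, ← Functor.map_comp, BraidedCategory.braiding_naturality_left]

/-- `A ⊗_O B ≅ B ⊗_O A`. -/
noncomputable def brdApp (A B : ModSite.Mod O) :
    ((ModSite.tensorBi O).obj A).obj B ≅ ((ModSite.tensorBi O).obj B).obj A :=
  (shf O).mapIso (β_ ((fgt O).obj A : PM O) ((fgt O).obj B))

/-- The braiding `tensorBi O ≅ (tensorBi O).flip`. -/
noncomputable def brd : ModSite.tensorBi O ≅ (ModSite.tensorBi O).flip :=
  NatIso.ofComponents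
    (fun A => NatIso.ofComponents (fun B => brdApp O A B)
      (fun {B B'} g => brd_nat_right O ((fgt O).obj A) ((fgt O).map g)))
    (fun {A A'} f => NatTrans.ext (funext fun B =>
      brd_nat_left O ((fgt O).obj B) ((fgt O).map f)))

/-! ### sheafification of a sectionwise flat presheaf is flat -/

theorem tRShf_nat (P : PM O) {A A' : PM O} (g : A ⟶ A') :
    (shf O).map (g ▷ P) ≫ (shf O).map (A' ◁ eta O P) =
      (shf O).map (A ◁ eta O P) ≫ (shf O).map (g ▷ (fgt O).obj ((shf O).obj P)) := by
  rw [← Functor.map_comp, ← Functor.map_comp, whisker_exchange]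

/-- `a(fgt G ⊗ P) ≅ G ⊗_O a P`, naturally in `G`. -/
noncomputable def tRShfIso (P : PM O) :
    fgt O ⋙ tensorRight P ⋙ shf O ≅ tR O ((shf O).obj P) :=
  NatIso.ofComponents
    (fun G => @asIso _ _ _ _ ((shf O).map (((fgt O).obj G : PM O) ◁ eta O P))
      (isIso_shf_map_eta_whiskerLeft P _))
    (fun {G G'} g => tRShf_nat O P ((fgt O).map g))

instance fgt_preservesFiniteLimits : PreservesFiniteLimits (fgt O) :=
  haveI : PreservesLimitsOfSize.{0, 0} (fgt O) := (adj O).rightAdjoint_preservesLimits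
  PreservesLimitsOfSize.preservesFiniteLimits.{0, 0} _

instance shf_preservesFiniteLimits : PreservesFiniteLimits (shf O) :=
  inferInstanceAs (PreservesFiniteLimits
    (PresheafOfModules.sheafification.{u} (𝟙 (ModSite.ringSh O).obj)))

theorem isFlat_shf_of_flat (P : PM O)
    (hP : ∀ X : Cᵒᵖ, Module.Flat (O.obj.obj X) (P.obj X)) : ModSite.IsFlat ((shf O).obj P) := by
  rw [isFlat_iff]
  haveI : PreservesFiniteLimits (tensorRight P) :=
    preservesFiniteLimits_tensorRight_of_flat (R := O.obj) P hP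
  haveI : PreservesFiniteLimits (fgt O ⋙ tensorRight P ⋙ shf O) := inferInstance
  exact preservesFiniteLimits_of_natIso (tRShfIso O P)

/-- Every module is a quotient of a flat module (S9094). -/
theorem exists_flat_epi (F : ModSite.Mod O) :
    ∃ (G : ModSite.Mod O) (π : G ⟶ F), ModSite.IsFlat G ∧ Epi π := by
  obtain ⟨P, π₀, h1, h2⟩ := ModTensor4.exists_flat_epi (R := O.obj) ((fgt O).obj F)
  refine ⟨(shf O).obj P, (shf O).map π₀ ≫ (adj O).counit.app F, isFlat_shf_of_flat O P h2, ?_⟩
  haveI : (shf O).PreservesEpimorphisms := (shf O).preservesEpimorphisms_of_adjunction (adj O)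
  haveI : Epi ((shf O).map π₀) := inferInstance
  exact epi_comp _ _

theorem enough (F : ModSite.Mod O) :
    ∃ (G : ModSite.Mod O) (π : G ⟶ F), Epi π ∧
      PreservesFiniteLimits ((ModSite.tensorBi O).flip.obj G) := by
  obtain ⟨G, π, h1, h2⟩ := exists_flat_epi O F
  exact ⟨G, π, h2, h1.1⟩

/-- S9081. -/
theorem shortExact_tensor (S : ShortComplex (ModSite.Mod O)) (hS : S.ShortExact)
    (hF : ModSite.IsFlat S.X₃) (G : ModSite.Mod O) :
    (S.map ((ModSite.tensorBi O).flip.obj G)).ShortExact :=
  shortExact_map_flip (ModSite.tensorBi O) (brd O) (enough O) S hS hF.1 G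

/-- S9082. -/
theorem isFlat_middle (S : ShortComplex (ModSite.Mod O)) (hS : S.ShortExact)
    (h₁ : ModSite.IsFlat S.X₁) (h₃ : ModSite.IsFlat S.X₃) : ModSite.IsFlat S.X₂ :=
  (isFlat_iff O _).2 (flat_middle (ModSite.tensorBi O) (brd O) (enough O) S hS h₁.1 h₃.1)

/-- S9083. -/
theorem isFlat_left (S : ShortComplex (ModSite.Mod O)) (hS : S.ShortExact)
    (h₂ : ModSite.IsFlat S.X₂) (h₃ : ModSite.IsFlat S.X₃) : ModSite.IsFlat S.X₁ :=
  (isFlat_iff O _).2 (flat_left (ModSite.tensorBi O) (brd O) (enough O) S hS h₂.1 h₃.1)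

/-! ### colimits of flats -/

theorem isFlat_of_isColimit {K : Type u} [SmallCategory K]
    [HasExactColimitsOfShape K (ModSite.Mod O)]
    (D : K ⥤ ModSite.Mod O) (hD : ∀ k, ModSite.IsFlat (D.obj k)) (c : Cocone D)
    (hc : IsColimit c) : ModSite.IsFlat c.pt := by
  rw [isFlat_iff]
  apply preservesFiniteLimits_of_mono
  intro G' G j hj
  let φ : D ⋙ tL O G' ⟶ D ⋙ tL O G := Functor.whiskerLeft D ((ModSite.tensorBi O).map j)
  haveI : ∀ k, Mono (φ.app k) := fun k => by
    haveI := (hD k).1
    exact inferInstanceAs (Mono ((tR O (D.obj k)).map j))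
  haveI : Mono φ := NatTrans.mono_of_mono_app φ
  exact colim.map_mono' φ (isColimitOfPreserves (tL O G') hc) (isColimitOfPreserves (tL O G) hc)
    ((tR O c.pt).map j) (fun k => ((ModSite.tensorBi O).map j).naturality (c.ι.app k))

theorem isFlat_of_iso {F F' : ModSite.Mod O} (e : F ≅ F') (h : ModSite.IsFlat F) :
    ModSite.IsFlat F' := by
  rw [isFlat_iff] at h ⊢
  exact preservesFiniteLimits_of_natIso ((ModSite.tensorBi O).flip.mapIso e)

theorem hasExactColimitsOfShape_filtered (I : Type u) [SmallCategory I] [IsFiltered I] :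
    HasExactColimitsOfShape I (ModSite.Mod O) := by
  haveI := isGrothendieckAbelian O
  haveI : AB5OfSize.{u, u} (ModSite.Mod O) := IsGrothendieckAbelian.ab5OfSize
  exact AB5OfSize.ofShape I

theorem hasExactColimitsOfShape_discrete (ι : Type u) :
    HasExactColimitsOfShape (Discrete ι) (ModSite.Mod O) := by
  haveI := isGrothendieckAbelian O
  haveI : AB5OfSize.{u, u} (ModSite.Mod O) := IsGrothendieckAbelian.ab5OfSize
  haveI : HasFiniteBiproducts (ModSite.Mod O) := Abelian.hasFiniteBiproducts
  haveI : AB4OfSize.{u} (ModSite.Mod O) := AB4.of_AB5 _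
  exact AB4OfSize.ofShape ι

/-- S6148. -/
theorem isFlat_of_isColimit_filtered {I : Type u} [SmallCategory I] [IsFiltered I]
    (D : I ⥤ ModSite.Mod O) (hD : ∀ i, ModSite.IsFlat (D.obj i)) (c : Cocone D)
    (hc : IsColimit c) : ModSite.IsFlat c.pt :=
  haveI := hasExactColimitsOfShape_filtered O I
  isFlat_of_isColimit O D hD c hc

/-- S9084. -/
theorem isFlat_of_isColimit_cofan {ι : Type u} (F : ι → ModSite.Mod O)
    (hF : ∀ i, ModSite.IsFlat (F i)) (c : Cofan F) (hc : IsColimit c) : ModSite.IsFlat c.pt :=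
  haveI := hasExactColimitsOfShape_discrete O ι
  isFlat_of_isColimit O (Discrete.functor F) (fun k => hF k.as) c hc

end Groth.Agent.Lib.Helper21.ModTensor5
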