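import Mathlib
import Groth.Prelude.Def_ModSite
import Groth.Agent.Lib.Helper21ModTensor5

/-!
# Helper21: associator and unitor for `ModSite.tensorBi`
-/

open CategoryTheory MonoidalCategory Opposite Limits

universe u

namespace Groth.Agent.Lib.Helper21.ModTensor6

open Groth.Agent.Lib.Helper21.ModTensor Groth.Agent.Lib.Helper21.ModTensor2
  Groth.Agent.Lib.Helper21.ModTensor3 Groth.Agent.Lib.Helper21.ModTensor5

variable {C : Type u} [SmallCategory C] {J : GrothendieckTopology C} (O : Sheaf J CommRingCat.{u})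

/-- `a(X) := fgt (shf X)` on presheaves. -/
noncomputable abbrev aa (X : PM O) : PM O := (fgt O).obj ((shf O).obj X)
noncomputable abbrev aaMap {X Y : PM O} (f : X ⟶ Y) : aa O X ⟶ aa O Y :=
  (fgt O).map ((shf O).map f)

theorem eta_nat {X Y : PM O} (f : X ⟶ Y) : f ≫ eta O Y = eta O X ≫ aaMap O f :=
  (adj O).unit.naturality f

theorem sqA {X X' R R' : PM O} (u : X ⟶ X') (h : R ⟶ R') :
    (shf O).map (eta O X ▷ R) ≫ (shf O).map (aaMap O u ⊗ₘ h) =
      (shf O).map (u ⊗ₘ h) ≫ (shf O).map (eta O X' ▷ R') := by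
  rw [← Functor.map_comp, ← Functor.map_comp]
  congr 1
  rw [← tensorHom_id, ← tensorHom_id, tensorHom_comp_tensorHom, tensorHom_comp_tensorHom,
    eta_nat, Category.id_comp, Category.comp_id]

theorem sqC {P P' Y Y' : PM O} (f : P ⟶ P') (v : Y ⟶ Y') :
    (shf O).map (P ◁ eta O Y) ≫ (shf O).map (f ⊗ₘ aaMap O v) =
      (shf O).map (f ⊗ₘ v) ≫ (shf O).map (P' ◁ eta O Y') := by
  rw [← Functor.map_comp, ← Functor.map_comp]
  congr 1
  rw [← id_tensorHom, ← id_tensorHom, tensorHom_comp_tensorHom, tensorHom_comp_tensorHom,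
    eta_nat, Category.id_comp, Category.comp_id]

/-- `a(a(P ⊗ Q) ⊗ R) ≅ a(P ⊗ a(Q ⊗ R))`. -/
noncomputable def assocIso (P Q R : PM O) :
    (shf O).obj (aa O (P ⊗ Q) ⊗ R) ≅ (shf O).obj (P ⊗ aa O (Q ⊗ R)) :=
  (@asIso _ _ _ _ ((shf O).map (eta O (P ⊗ Q) ▷ R)) (isIso_shf_map_eta_whiskerRight _ _)).symm ≪≫
    (shf O).mapIso (α_ P Q R) ≪≫
    (@asIso _ _ _ _ ((shf O).map (P ◁ eta O (Q ⊗ R))) (isIso_shf_map_eta_whiskerLeft _ _))

theorem assocIso_hom (P Q R : PM O) :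
    (shf O).map (eta O (P ⊗ Q) ▷ R) ≫ (assocIso O P Q R).hom =
      (shf O).map (α_ P Q R).hom ≫ (shf O).map (P ◁ eta O (Q ⊗ R)) := by
  haveI := isIso_shf_map_eta_whiskerRight (O := O) (P ⊗ Q) R
  simp [assocIso]

theorem assocIso_nat {P P' Q Q' R R' : PM O} (f : P ⟶ P') (g : Q ⟶ Q') (h : R ⟶ R') :
    (shf O).map (aaMap O (f ⊗ₘ g) ⊗ₘ h) ≫ (assocIso O P' Q' R').hom =
      (assocIso O P Q R).hom ≫ (shf O).map (f ⊗ₘ aaMap O (g ⊗ₘ h)) := by
  haveI := isIso_shf_map_eta_whiskerRight (O := O) (P ⊗ Q) R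
  rw [← cancel_epi ((shf O).map (eta O (P ⊗ Q) ▷ R))]
  calc (shf O).map (eta O (P ⊗ Q) ▷ R) ≫ (shf O).map (aaMap O (f ⊗ₘ g) ⊗ₘ h) ≫
        (assocIso O P' Q' R').hom
      = (shf O).map ((f ⊗ₘ g) ⊗ₘ h) ≫ (shf O).map (eta O (P' ⊗ Q') ▷ R') ≫
        (assocIso O P' Q' R').hom := by rw [← Category.assoc, sqA, Category.assoc]
    _ = (shf O).map ((f ⊗ₘ g) ⊗ₘ h) ≫ (shf O).map (α_ P' Q' R').hom ≫
        (shf O).map (P' ◁ eta O (Q' ⊗ R')) := by rw [assocIso_hom]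
    _ = (shf O).map (α_ P Q R).hom ≫ (shf O).map (f ⊗ₘ (g ⊗ₘ h)) ≫
        (shf O).map (P' ◁ eta O (Q' ⊗ R')) := by
      rw [← Category.assoc, ← Functor.map_comp, associator_naturality, Functor.map_comp,
        Category.assoc]
    _ = (shf O).map (α_ P Q R).hom ≫ (shf O).map (P ◁ eta O (Q ⊗ R)) ≫
        (shf O).map (f ⊗ₘ aaMap O (g ⊗ₘ h)) := by rw [sqC]
    _ = _ := by rw [← Category.assoc, ← assocIso_hom, Category.assoc]

theorem assocIso_nat₁ {P P' : PM O} (Q R : PM O) (f : P ⟶ P') :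
    (shf O).map (aaMap O (f ▷ Q) ▷ R) ≫ (assocIso O P' Q R).hom =
      (assocIso O P Q R).hom ≫ (shf O).map (f ▷ aa O (Q ⊗ R)) := by
  have := assocIso_nat O f (𝟙 Q) (𝟙 R)
  rw [tensorHom_id, tensorHom_id] at this
  rw [this]
  congr 2
  rw [← tensorHom_id]
  congr 1
  rw [id_tensorHom_id]
  exact ((fgt O).congr_map ((shf O).map_id _)).trans ((fgt O).map_id _)

theorem assocIso_nat₃ (P Q : PM O) {R R' : PM O} (h : R ⟶ R') :
    (shf O).map (aa O (P ⊗ Q) ◁ h) ≫ (assocIso O P Q R').hom =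
      (assocIso O P Q R).hom ≫ (shf O).map (P ◁ aaMap O (Q ◁ h)) := by
  have := assocIso_nat O (𝟙 P) (𝟙 Q) h
  rw [id_tensorHom_id, id_tensorHom, id_tensorHom] at this
  rw [← this]
  congr 2
  rw [← id_tensorHom]
  congr 1
  exact (((fgt O).congr_map ((shf O).map_id _)).trans ((fgt O).map_id _)).symm

/-- `- ⊗ (G ⊗ F) ≅ (- ⊗ G) ⊗ F`. -/
noncomputable def tRTensorIso (G F : ModSite.Mod O) :
    tR O G ⋙ tR O F ≅ tR O (((ModSite.tensorBi O).obj G).obj F) :=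
  NatIso.ofComponents
    (fun A => assocIso O ((fgt O).obj A) ((fgt O).obj G) ((fgt O).obj F))
    (fun {A A'} u => assocIso_nat₁ O ((fgt O).obj G) ((fgt O).obj F) ((fgt O).map u))

/-- `(L ⊗ N) ⊗ - ≅ L ⊗ (N ⊗ -)`. -/
noncomputable def tLTensorIso (L N : ModSite.Mod O) :
    tL O (((ModSite.tensorBi O).obj L).obj N) ≅ tL O N ⋙ tL O L :=
  NatIso.ofComponents
    (fun A => assocIso O ((fgt O).obj L) ((fgt O).obj N) ((fgt O).obj A))
    (fun {A A'} u => assocIso_nat₃ O ((fgt O).obj L) ((fgt O).obj N) ((fgt O).map u))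

/-- S9085. -/
theorem isFlat_tensor (G F : ModSite.Mod O) (hG : ModSite.IsFlat G) (hF : ModSite.IsFlat F) :
    ModSite.IsFlat (((ModSite.tensorBi O).obj G).obj F) := by
  rw [isFlat_iff] at hG hF ⊢
  haveI : PreservesFiniteLimits (tR O G ⋙ tR O F) := inferInstance
  exact preservesFiniteLimits_of_natIso (tRTensorIso O G F)

end Groth.Agent.Lib.Helper21.ModTensor6
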