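import Mathlib
import Groth.Prelude.Def_ModSite
import Groth.Agent.Lib.Helper21ModTensor6

/-!
# Helper21: unitor for `ModSite.tensorBi`, invertible modules (S6856)
-/

open CategoryTheory MonoidalCategory Opposite Limits

universe u

namespace Groth.Agent.Lib.Helper21.ModTensor7

open Groth.Agent.Lib.Helper21.ModTensor Groth.Agent.Lib.Helper21.ModTensor2
  Groth.Agent.Lib.Helper21.ModTensor3 Groth.Agent.Lib.Helper21.ModTensor5
  Groth.Agent.Lib.Helper21.ModTensor6

variable {C : Type u} [SmallCategory C] {J : GrothendieckTopology C} (O : Sheaf J CommRingCat.{u})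

theorem fgt_unit : (fgt O).obj (ModSite.unit O) = (𝟙_ (PM O)) := rfl

theorem lunit_nat {P P' : PM O} (f : P ⟶ P') :
    (shf O).map ((𝟙_ (PM O)) ◁ f) ≫ (shf O).map (λ_ P').hom =
      (shf O).map (λ_ P).hom ≫ (shf O).map f := by
  rw [← Functor.map_comp, ← Functor.map_comp, leftUnitor_naturality]

/-- `O ⊗_O - ≅ 𝟭`. -/
noncomputable def tLUnitIso : tL O (ModSite.unit O) ≅ 𝟭 (ModSite.Mod O) :=
  NatIso.ofComponents
    (fun A => (shf O).mapIso (λ_ ((fgt O).obj A : PM O)) ≪≫ (asIso (adj O).counit).app A)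
    (fun {A A'} u => by
      have h1 := lunit_nat O ((fgt O).map u)
      have h2 : (shf O).map ((fgt O).map u) ≫ (adj O).counit.app A' = (adj O).counit.app A ≫ u :=
        (adj O).counit.naturality u
      change (shf O).map ((𝟙_ (PM O)) ◁ (fgt O).map u) ≫
        ((shf O).map (λ_ ((fgt O).obj A' : PM O)).hom ≫ (adj O).counit.app A') =
        ((shf O).map (λ_ ((fgt O).obj A : PM O)).hom ≫ (adj O).counit.app A) ≫ u
      rw [← Category.assoc, h1, Category.assoc, h2, Category.assoc])

/-- S6856. -/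
theorem invertible (L N : ModSite.Mod O) (hL : ((ModSite.tensorBi O).obj L).IsEquivalence)
    [ModSite.HasSheafHom L] :
    (((ModSite.tensorBi O).obj N).IsEquivalence →
        ((ModSite.tensorBi O).obj (((ModSite.tensorBi O).obj L).obj N)).IsEquivalence) ∧
      ((ModSite.tensorBi O).obj ((ModSite.sheafHom L).obj (ModSite.unit O))).IsEquivalence ∧
      IsIso ((ModSite.sheafHomAdj L).counit.app (ModSite.unit O)) := by
  haveI : (tL O L).IsEquivalence := hL
  haveI : (tR O L).IsEquivalence := Functor.isEquivalence_of_iso ((brd O).app L)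
  have key : ∀ N : ModSite.Mod O, (tL O N).IsEquivalence →
      (tL O (((ModSite.tensorBi O).obj L).obj N)).IsEquivalence := by
    intro N hN
    haveI := hN
    haveI : (tL O N ⋙ tL O L).IsEquivalence := inferInstance
    exact Functor.isEquivalence_of_iso (tLTensorIso O L N).symm
  have hcounit : IsIso ((ModSite.sheafHomAdj L).counit.app (ModSite.unit O)) := by
    haveI : IsIso (ModSite.sheafHomAdj L).counit := inferInstance
    infer_instance
  refine ⟨key N, ?_, hcounit⟩
  -- D := Hom(L, O); D ⊗ L ≅ O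
  set D := (ModSite.sheafHom L).obj (ModSite.unit O) with hD
  let ε : ((ModSite.tensorBi O).obj D).obj L ≅ ModSite.unit O :=
    @asIso _ _ _ _ ((ModSite.sheafHomAdj L).counit.app (ModSite.unit O)) hcounit
  let e1 : ((ModSite.tensorBi O).obj L).obj D ≅ ModSite.unit O := brdApp O L D ≪≫ ε
  -- tL D ⋙ tL L ≅ tL (L ⊗ D) ≅ tL unit ≅ 𝟭
  let e2 : tL O D ⋙ tL O L ≅ 𝟭 (ModSite.Mod O) :=
    (tLTensorIso O L D).symm ≪≫ (ModSite.tensorBi O).mapIso e1 ≪≫ tLUnitIso O
  haveI : (tL O D ⋙ tL O L).IsEquivalence := Functor.isEquivalence_of_iso e2.symm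
  exact Functor.isEquivalence_of_comp_right (tL O D) (tL O L)

end Groth.Agent.Lib.Helper21.ModTensor7
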