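import Mathlib
import Groth.Prelude.Def_ModSite
import Groth.Agent.Lib.Helper21ModTensor7

/-!
# Helper21: restriction `j_X^*` of modules to `C/X` commutes with sheafification and tensor (S6154)
-/

open CategoryTheory MonoidalCategory Opposite Limits

universe u

namespace Groth.Agent.Lib.Helper21.ModRestr

open Groth.Agent.Lib.Helper21.ModTensor Groth.Agent.Lib.Helper21.ModTensor2
  Groth.Agent.Lib.Helper21.ModTensor3 Groth.Agent.Lib.Helper21.ModTensor5

variable {C : Type u} [SmallCategory C] {J : GrothendieckTopology C} (O : Sheaf J CommRingCat.{u})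
  (X : C)

/-- restriction of presheaves of modules to `C/X`. -/
noncomputable abbrev resP : PM O ⥤ PM (O.over X) :=
  PresheafOfModules.pushforward (F := Over.forget X) (R := (ModSite.ringSh O).obj)
    (𝟙 ((Over.forget X).op ⋙ (ModSite.ringSh O).obj))

theorem fgt_restr_obj (M : ModSite.Mod O) :
    (fgt (O.over X)).obj ((ModSite.restr O X).obj M) = (resP O X).obj ((fgt O).obj M) := rfl

theorem fgt_restr_map {M N : ModSite.Mod O} (f : M ⟶ N) :
    (fgt (O.over X)).map ((ModSite.restr O X).map f) = (resP O X).map ((fgt O).map f) := rfl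

theorem toPresheaf_resP_map {P Q : PM O} (f : P ⟶ Q) :
    (PresheafOfModules.toPresheaf _).map ((resP O X).map f) =
      Functor.whiskerLeft (Over.forget X).op ((PresheafOfModules.toPresheaf _).map f) := rfl

/-- `(P ⊗ Q)|_X ≅ P|_X ⊗ Q|_X` for presheaves. -/
noncomputable def resTensorIso (P Q : PM O) :
    (resP O X).obj (P ⊗ Q) ≅ ((resP O X).obj P ⊗ (resP O X).obj Q : PM (O.over X)) :=
  PresheafOfModules.isoMk (fun Y => Iso.refl _) (by
    intro Y Y' g
    dsimp only [Iso.refl_hom]
    apply ModuleCat.MonoidalCategory.tensor_ext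
    intro m n
    rfl)

theorem resTensorIso_nat {P P' Q Q' : PM O} (f : P ⟶ P') (g : Q ⟶ Q') :
    (resP O X).map (f ⊗ₘ g) ≫ (resTensorIso O X P' Q').hom =
      (resTensorIso O X P Q).hom ≫ ((resP O X).map f ⊗ₘ (resP O X).map g) := by
  ext Y : 1
  apply ModuleCat.MonoidalCategory.tensor_ext
  intro m n
  rfl

/-- Restriction of a `J.W` morphism is a `(J.over X).W` morphism. -/
theorem W_whiskerLeft_forget {A B : Cᵒᵖ ⥤ AddCommGrpCat.{u}} (g : A ⟶ B) (hg : J.W g) :
    (J.over X).W (Functor.whiskerLeft (Over.forget X).op g) := by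
  rw [GrothendieckTopology.W_iff] at hg ⊢
  let e := (Over.forget X).pushforwardContinuousSheafificationCompatibility AddCommGrpCat.{u}
    (J.over X) J
  haveI : IsIso ((presheafToSheaf J AddCommGrpCat.{u} ⋙
      (Over.forget X).sheafPushforwardContinuous AddCommGrpCat.{u} (J.over X) J).map g) := by
    dsimp only [Functor.comp_map]
    infer_instance
  exact (NatIso.isIso_map_iff e g).2 inferInstance

theorem W_resP {P Q : PM O} (f : P ⟶ Q) (hf : J.W ((PresheafOfModules.toPresheaf _).map f)) :
    (J.over X).W ((PresheafOfModules.toPresheaf _).map ((resP O X).map f)) := by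
  rw [toPresheaf_resP_map]
  exact W_whiskerLeft_forget X _ hf

instance isIso_shf_resP_eta (Q : PM O) :
    IsIso ((shf (O.over X)).map ((resP O X).map (eta O Q))) :=
  (isIso_shf_map_iff _).mpr (W_resP O X _ (W_eta Q))

/-- `a_X(Q|_X) ≅ (a Q)|_X`. -/
noncomputable def shfResIso (Q : PM O) :
    (shf (O.over X)).obj ((resP O X).obj Q) ≅ (ModSite.restr O X).obj ((shf O).obj Q) :=
  @asIso _ _ _ _ ((shf (O.over X)).map ((resP O X).map (eta O Q))) (isIso_shf_resP_eta O X Q) ≪≫
    (asIso (adj (O.over X)).counit).app ((ModSite.restr O X).obj ((shf O).obj Q))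

/-- S6154: `(M ⊗ N)|_X ≅ M|_X ⊗ N|_X`. -/
noncomputable def restrTensorIso (M N : ModSite.Mod O) :
    (ModSite.restr O X).obj (((ModSite.tensorBi O).obj M).obj N) ≅
      ((ModSite.tensorBi (O.over X)).obj ((ModSite.restr O X).obj M)).obj
        ((ModSite.restr O X).obj N) :=
  (shfResIso O X ((fgt O).obj M ⊗ (fgt O).obj N)).symm ≪≫
    (shf (O.over X)).mapIso (resTensorIso O X ((fgt O).obj M) ((fgt O).obj N))

end Groth.Agent.Lib.Helper21.ModRestr
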