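import Mathlib
import Groth.Prelude.Def_ModSite
import Groth.Agent.Lib.Helper21ExtZero3
import Groth.Agent.Lib.Helper21ModRestr

/-!
# Helper21: extension by zero `j_!` of sheaves of modules: explicit model, exactness, projection formula
-/

open CategoryTheory MonoidalCategory Opposite Limits

universe u

namespace Groth.Agent.Lib.Helper21.ExtZeroS

open Groth.Agent.Lib.Helper21.ModTensor Groth.Agent.Lib.Helper21.ModTensor2
  Groth.Agent.Lib.Helper21.ModTensor3 Groth.Agent.Lib.Helper21.ModTensor4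
  Groth.Agent.Lib.Helper21.ModTensor5
  Groth.Agent.Lib.Helper21.ModTensor6 Groth.Agent.Lib.Helper21.ModRestr
  Groth.Agent.Lib.Helper21.ExtZero

variable {C : Type u} [SmallCategory C] {J : GrothendieckTopology C} (O : Sheaf J CommRingCat.{u})
  (U : C)

/-- extension by zero of presheaves of modules -/
noncomputable def Es : PM (O.over U) ⥤ PM O := Ec O.obj U

/-- `Es ⊣ (-)|_U` -/
noncomputable def EsAdj : Es O U ⊣ resP O U := EcAdj O.obj U

instance : (Es O U).PreservesMonomorphisms :=
  inferInstanceAs (EFunctor (O.obj ⋙ forget₂ CommRingCat.{u} RingCat.{u}) U).PreservesMonomorphisms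

instance : PreservesFiniteColimits (Es O U) :=
  haveI : PreservesColimitsOfSize.{0, 0} (Es O U) := (EsAdj O U).leftAdjoint_preservesColimits
  PreservesColimitsOfSize.preservesFiniteColimits.{0, 0} _

instance : (Es O U).Additive := additive_of_preservesFiniteColimits _

instance : PreservesFiniteLimits (Es O U) :=
  FlatCalc.preservesFiniteLimits_of_mono _ (fun f hf => inferInstance)

/-- explicit `j_!` on sheaves of modules -/
noncomputable def jShriek : ModSite.Mod (O.over U) ⥤ ModSite.Mod O :=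
  fgt (O.over U) ⋙ Es O U ⋙ shf O

instance : PreservesFiniteLimits (jShriek O U) := by
  unfold jShriek
  infer_instance

/-- `fgt ⋙ (-)|_U = restr ⋙ fgt_U`. -/
noncomputable def fgtResIso : fgt O ⋙ resP O U ≅ ModSite.restr O U ⋙ fgt (O.over U) :=
  NatIso.ofComponents (fun M => Iso.refl _)

/-- `j_! ⊣ j^*` -/
noncomputable def jShriekAdj : jShriek O U ⊣ ModSite.restr O U :=
  ((EsAdj O U).comp (adj O)).restrictFullyFaithful
    (SheafOfModules.fullyFaithfulForget (ModSite.ringSh (O.over U))) (Functor.FullyFaithful.id _)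
    (Functor.rightUnitor _).symm (Functor.leftUnitor _ ≪≫ fgtResIso O U)

/-- Mathlib's abstract `j_!` is the explicit one. -/
noncomputable def extZeroIso : ModSite.extZero O U ≅ jShriek O U :=
  (ModSite.extZeroAdj O U).leftAdjointUniq (jShriekAdj O U)

instance : PreservesFiniteLimits (ModSite.extZero O U) :=
  preservesFiniteLimits_of_natIso (extZeroIso O U).symm

/-- `j_! ∘ a_U ≅ a ∘ E`. -/
noncomputable def shfJShriekIso : shf (O.over U) ⋙ jShriek O U ≅ Es O U ⋙ shf O :=
  ((adj (O.over U)).comp (jShriekAdj O U)).leftAdjointUniq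
    (((EsAdj O U).comp (adj O)).ofNatIsoRight (fgtResIso O U))

/-! ### projection formula -/

/-- `a E (G ⊗ Q|_U) ≅ a (aa (E G) ⊗ Q)` for presheaves. -/
noncomputable def θ₀ (G : PM (O.over U)) (Q : PM O) :
    (shf O).obj ((Es O U).obj (G ⊗ (resP O U).obj Q : PM (O.over U))) ≅
      (shf O).obj (aa O ((Es O U).obj G) ⊗ Q : PM O) :=
  (shf O).mapIso (projIso (R₀ := O.obj) (U := U) G Q) ≪≫
    @asIso _ _ _ _ ((shf O).map (eta O ((Es O U).obj G) ▷ Q)) (isIso_shf_map_eta_whiskerRight _ _)

theorem θ₀_nat {G G' : PM (O.over U)} {Q Q' : PM O} (α : G ⟶ G') (β : Q ⟶ Q') :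
    (shf O).map ((Es O U).map
        (α ⊗ₘ (resP O U).map β : (G ⊗ (resP O U).obj Q : PM (O.over U)) ⟶ _)) ≫
      (θ₀ O U G' Q').hom =
    (θ₀ O U G Q).hom ≫ (shf O).map (aaMap O ((Es O U).map α) ⊗ₘ β) := by
  have h1 := projIso_nat (R₀ := O.obj) (U := U) α β
  have h2 := sqA O ((Es O U).map α) β
  have h1' : (shf O).map ((Es O U).map
        (α ⊗ₘ (resP O U).map β : (G ⊗ (resP O U).obj Q : PM (O.over U)) ⟶ _)) ≫
      (shf O).map (projIso (R₀ := O.obj) (U := U) G' Q').hom =
      (shf O).map (projIso (R₀ := O.obj) (U := U) G Q).hom ≫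
        (shf O).map ((Es O U).map α ⊗ₘ β) :=
    ((shf O).map_comp _ _).symm.trans ((congrArg (shf O).map h1).trans ((shf O).map_comp _ _))
  calc (shf O).map ((Es O U).map
          (α ⊗ₘ (resP O U).map β : (G ⊗ (resP O U).obj Q : PM (O.over U)) ⟶ _)) ≫
        ((shf O).map (projIso (R₀ := O.obj) (U := U) G' Q').hom ≫
          (shf O).map (eta O ((Es O U).obj G') ▷ Q'))
      = ((shf O).map ((Es O U).map
          (α ⊗ₘ (resP O U).map β : (G ⊗ (resP O U).obj Q : PM (O.over U)) ⟶ _)) ≫
        (shf O).map (projIso (R₀ := O.obj) (U := U) G' Q').hom) ≫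
          (shf O).map (eta O ((Es O U).obj G') ▷ Q') := (Category.assoc _ _ _).symm
    _ = ((shf O).map (projIso (R₀ := O.obj) (U := U) G Q).hom ≫
        (shf O).map ((Es O U).map α ⊗ₘ β)) ≫ (shf O).map (eta O ((Es O U).obj G') ▷ Q') :=
      congrArg (· ≫ (shf O).map (eta O ((Es O U).obj G') ▷ Q')) h1'
    _ = (shf O).map (projIso (R₀ := O.obj) (U := U) G Q).hom ≫
        ((shf O).map ((Es O U).map α ⊗ₘ β) ≫ (shf O).map (eta O ((Es O U).obj G') ▷ Q')) :=
      Category.assoc _ _ _
    _ = (shf O).map (projIso (R₀ := O.obj) (U := U) G Q).hom ≫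
        ((shf O).map (eta O ((Es O U).obj G) ▷ Q) ≫
          (shf O).map (aaMap O ((Es O U).map α) ⊗ₘ β)) :=
      congrArg ((shf O).map (projIso (R₀ := O.obj) (U := U) G Q).hom ≫ ·) h2.symm
    _ = _ := (Category.assoc _ _ _).symm

/-- The projection formula `j_!(P ⊗ N|_U) ≅ j_! P ⊗ N`. -/
noncomputable def projIsoS (P : ModSite.Mod (O.over U)) (N : ModSite.Mod O) :
    (jShriek O U).obj (((ModSite.tensorBi (O.over U)).obj P).obj ((ModSite.restr O U).obj N)) ≅
      ((ModSite.tensorBi O).obj ((jShriek O U).obj P)).obj N :=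
  (shfJShriekIso O U).app ((fgt (O.over U)).obj P ⊗ (resP O U).obj ((fgt O).obj N) :
      PM (O.over U)) ≪≫
    θ₀ O U ((fgt (O.over U)).obj P) ((fgt O).obj N)

/-- S6169 -/
noncomputable def extZeroProjIso (P : ModSite.Mod (O.over U)) (N : ModSite.Mod O) :
    (ModSite.extZero O U).obj
        (((ModSite.tensorBi (O.over U)).obj P).obj ((ModSite.restr O U).obj N)) ≅
      ((ModSite.tensorBi O).obj ((ModSite.extZero O U).obj P)).obj N :=
  (extZeroIso O U).app _ ≪≫ projIsoS O U P N ≪≫
    ((ModSite.tensorBi O).mapIso ((extZeroIso O U).app P).symm).app N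

/-- S6155 -/
noncomputable def freeOnTensorIso (M : ModSite.Mod O) :
    ((ModSite.tensorBi O).obj (ModSite.freeOn O U)).obj M ≅
      (ModSite.extZero O U).obj ((ModSite.restr O U).obj M) :=
  (extZeroProjIso O U (ModSite.unit (O.over U)) M).symm ≪≫
    (ModSite.extZero O U).mapIso
      ((ModTensor7.tLUnitIso (O.over U)).app ((ModSite.restr O U).obj M))

end Groth.Agent.Lib.Helper21.ExtZeroS
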