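import Mathlib
import Groth.Prelude.Def_CxOX
import Groth.Prelude.Def_DCoh3
import Groth.Agent.Lib.Helper21ExtZero4
import Groth.Agent.Lib.Helper21ModTensor3
import Groth.Agent.Lib.Helper16KInjAdj
import Groth.Agent.Lib.Helper17KInjD5
set_option backward.isDefEq.respectTransparency.types false

/-!
# Restriction to an open commutes with the derived pushforward (helper1)
-/

set_option autoImplicit false
set_option linter.style.haveILetI false
universe w w' w₁ w₂ w₃ w₄ v₁ v₂ v₃ v₄ u₁ u₂ u₃ u₄ u
open CategoryTheory CategoryTheory.Limits AlgebraicGeometry TopologicalSpace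

attribute [local instance] HasDerivedCategory.standard

namespace Groth.Agent.Lib.Helper1.RpushRes

section abstract

open Groth.Agent.Lib.Helper17.KInj

variable {A : Type u₁} [Category.{v₁} A] [Abelian A] [IsGrothendieckAbelian.{w} A]
  {B : Type u₂} [Category.{v₂} B] [Abelian B]
  {A' : Type u₃} [Category.{v₃} A'] [Abelian A'] [IsGrothendieckAbelian.{w'} A']
  {B' : Type u₄} [Category.{v₄} B'] [Abelian B']
  [HasDerivedCategory.{w₁} A] [HasDerivedCategory.{w₂} B] [HasDerivedCategory.{w₃} A']
  [HasDerivedCategory.{w₄} B']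
  (G : A ⥤ B) [G.Additive] (G' : A' ⥤ B') [G'.Additive]
  (E : B ⥤ B') [E.Additive] [PreservesFiniteLimits E] [PreservesFiniteColimits E]
  (E' : A ⥤ A') [E'.Additive] [PreservesFiniteLimits E'] [PreservesFiniteColimits E']
  (θ : G ⋙ E ≅ E' ⋙ G')

/-- the termwise iso of complexes induced by `θ` -/
noncomputable def cIso :
    G.mapHomologicalComplex (ComplexShape.up ℤ) ⋙ E.mapHomologicalComplex (ComplexShape.up ℤ) ≅
      E'.mapHomologicalComplex (ComplexShape.up ℤ) ⋙
        G'.mapHomologicalComplex (ComplexShape.up ℤ) :=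
  NatIso.ofComponents (fun K => HomologicalComplex.Hom.isoOfComponents
      (fun i => θ.app (K.X i))
      (fun i k _ => by
        dsimp
        exact (θ.hom.naturality (K.d i k)).symm))
    (fun {K K'} φ => by
      apply HomologicalComplex.hom_ext
      intro i
      dsimp
      exact θ.hom.naturality (φ.f i))

variable (RG : DerivedCategory A ⥤ DerivedCategory B)
  (β : G.mapHomologicalComplex (ComplexShape.up ℤ) ⋙ DerivedCategory.Q ⟶
    DerivedCategory.Q ⋙ RG)
  (RG' : DerivedCategory A' ⥤ DerivedCategory B')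
  (β' : G'.mapHomologicalComplex (ComplexShape.up ℤ) ⋙ DerivedCategory.Q ⟶
    DerivedCategory.Q ⋙ RG')

/-- the unit exhibiting `E'.mapDerivedCategory ⋙ RG'` as a right derived functor -/
noncomputable def unit₂ :
    (G.mapHomologicalComplex (ComplexShape.up ℤ) ⋙ DerivedCategory.Q) ⋙ E.mapDerivedCategory ⟶
      DerivedCategory.Q ⋙ (E'.mapDerivedCategory ⋙ RG') :=
  (Functor.associator _ _ _).hom ≫
    Functor.whiskerLeft _ E.mapDerivedCategoryFactors.hom ≫
    (Functor.associator _ _ _).inv ≫
    Functor.whiskerRight (cIso G G' E E' θ).hom DerivedCategory.Q ≫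
    (Functor.associator _ _ _).hom ≫
    Functor.whiskerLeft _ β' ≫
    (Functor.associator _ _ _).inv ≫
    Functor.whiskerRight E'.mapDerivedCategoryFactors.inv RG' ≫
    (Functor.associator _ _ _).hom

include θ in
/-- an exact functor preserving K-injectives intertwines right derived functors -/
theorem nonempty_iso
    [RG.IsRightDerivedFunctor β (HomologicalComplex.quasiIso A (ComplexShape.up ℤ))]
    [RG'.IsRightDerivedFunctor β' (HomologicalComplex.quasiIso A' (ComplexShape.up ℤ))]
    (hE' : ∀ (I : CochainComplex A ℤ), I.IsKInjective →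
      CochainComplex.IsKInjective ((E'.mapHomologicalComplex (ComplexShape.up ℤ)).obj I)) :
    Nonempty (RG ⋙ E.mapDerivedCategory ≅ E'.mapDerivedCategory ⋙ RG') := by
  haveI h1 : (RG ⋙ E.mapDerivedCategory).IsRightDerivedFunctor
      (Functor.whiskerRight β E.mapDerivedCategory ≫ (Functor.associator _ _ _).hom)
      (HomologicalComplex.quasiIso A (ComplexShape.up ℤ)) := by
    refine (fibLocalizerMorphism_derives _ (isInvertedBy_comp
      (isInvertedBy_mapHomologicalComplex_comp_Q G)
      E.mapDerivedCategory)).isRightDerivedFunctor_of_isIso _ (fun I => ?_)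
    haveI := isIso_app_of_fibrant' G RG β I.obj I.property
    dsimp
    rw [Category.comp_id]
    change IsIso (E.mapDerivedCategory.map (β.app I.obj))
    infer_instance
  haveI h2 : (E'.mapDerivedCategory ⋙ RG').IsRightDerivedFunctor
      (unit₂ G G' E E' θ RG' β')
      (HomologicalComplex.quasiIso A (ComplexShape.up ℤ)) := by
    refine (fibLocalizerMorphism_derives _ (isInvertedBy_comp
      (isInvertedBy_mapHomologicalComplex_comp_Q G)
      E.mapDerivedCategory)).isRightDerivedFunctor_of_isIso _ (fun I => ?_)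
    haveI : I.obj.IsKInjective := I.property.isKInjective
    haveI := hE' I.obj inferInstance
    haveI := isIso_app_of_isKInjective G' RG' β'
      ((E'.mapHomologicalComplex (ComplexShape.up ℤ)).obj I.obj)
    change IsIso ((unit₂ G G' E E' θ RG' β').app I.obj)
    simp only [unit₂, NatTrans.comp_app, Functor.whiskerLeft_app, Functor.whiskerRight_app,
      Functor.associator_hom_app, Functor.associator_inv_app]
    infer_instance
  exact ⟨Functor.rightDerivedUnique _ _
    (Functor.whiskerRight β E.mapDerivedCategory ≫ (Functor.associator _ _ _).hom)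
    (unit₂ G G' E E' θ RG' β') (HomologicalComplex.quasiIso A (ComplexShape.up ℤ))⟩

end abstract

section concrete

variable {X Y : Scheme.{u}} (f : X ⟶ Y) (V : Y.Opens)

/-- the iso of functors on opens -/
noncomputable def opensIso :
    Opens.map (f ∣_ V).base ⋙ (f ⁻¹ᵁ V).ι.opensFunctor ≅
      V.ι.opensFunctor ⋙ Opens.map f.base :=
  NatIso.ofComponents (fun W => eqToIso (image_morphismRestrict_preimage f V W))

set_option backward.defeqAttrib.useBackward true in
/-- restriction to an open commutes with pushforward of modules -/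
noncomputable def pushRestrictIso :
    Scheme.Modules.pushforward f ⋙ Scheme.Modules.restrictFunctor V.ι ≅
      Scheme.Modules.restrictFunctor (f ⁻¹ᵁ V).ι ⋙ Scheme.Modules.pushforward (f ∣_ V) :=
  letI := CategoryTheory.Functor.isContinuous_comp.{u} V.ι.opensFunctor (Opens.map f.base)
    (Opens.grothendieckTopology V) (Opens.grothendieckTopology Y) (Opens.grothendieckTopology X)
  letI := CategoryTheory.Functor.isContinuous_comp.{u} (Opens.map (f ∣_ V).base)
    (f ⁻¹ᵁ V).ι.opensFunctor
    (Opens.grothendieckTopology V) (Opens.grothendieckTopology (f ⁻¹ᵁ V))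
    (Opens.grothendieckTopology X)
  SheafOfModules.pushforwardComp _ _ ≪≫
    SheafOfModules.pushforwardCongr₂ _ (opensIso f V)
      (by
        ext W x
        have h : (V.ι.appIso W.unop).inv ≫ f.app (V.ι ''ᵁ W.unop) ≫
            X.presheaf.map (eqToHom (image_morphismRestrict_preimage f V W.unop)).op =
            (f ∣_ V).app W.unop ≫ ((f ⁻¹ᵁ V).ι.appIso ((f ∣_ V) ⁻¹ᵁ W.unop)).inv := by
          simp
          erw [Category.id_comp]
        exact congr($h x)) ≪≫
    (SheafOfModules.pushforwardComp _ _).symm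

/-- extension by zero along an open subscheme is exact -/
theorem preservesFiniteLimits_extZero (U : X.Opens) : PreservesFiniteLimits (CxOX.extZero U.ι) := by
  haveI h0 : PreservesFiniteLimits (ModSite.extZero X.sheaf U) :=
    Groth.Agent.Lib.Helper21.ExtZeroS.instPreservesFiniteLimitsModOverOverCommRingCatExtZero
      (C := TopologicalSpace.Opens X) X.sheaf U
  haveI h1 : PreservesFiniteLimits (Scheme.Modules.overEquiv U).inverse := inferInstance
  have h2 : PreservesFiniteLimits ((Scheme.Modules.overEquiv U).inverse ⋙ ModSite.extZero X.sheaf U) :=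
    @comp_preservesFiniteLimits _ _ _ _ _ _ _ _ h1 h0
  exact @preservesFiniteLimits_of_natIso _ _ _ _ _ _ (CxOX.extZeroIsoSite U).symm h2

/-- restriction to an open subscheme preserves K-injective complexes -/
theorem isKInjective_restrict (U : X.Opens) (I : CochainComplex X.Modules ℤ) [I.IsKInjective] :
    CochainComplex.IsKInjective (((Scheme.Modules.restrictFunctor U.ι).mapHomologicalComplex
      (ComplexShape.up ℤ)).obj I) := by
  haveI := preservesFiniteLimits_extZero U
  haveI : (CxOX.extZero U.ι).PreservesHomology := inferInstance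
  exact Groth.Agent.Lib.Helper16.KInjAdj.isKInjective_map (CxOX.extZeroAdj U.ι) I

open Groth.Agent.Lib.Helper17.KInj in
/-- `(Rf_* E)|_V ≅ R(f|_V)_* (E|_{f⁻¹V})` -/
theorem nonempty_rpush_restrict_iso [DCoh.HasRpush f] [DCoh.HasRpush (f ∣_ V)]
    [PreservesFiniteLimits (Scheme.Modules.restrictFunctor V.ι)]
    [PreservesFiniteLimits (Scheme.Modules.restrictFunctor (f ⁻¹ᵁ V).ι)] :
    Nonempty (DCoh.Rpush f ⋙ DCoh.restrictD V.ι ≅
      DCoh.restrictD (f ⁻¹ᵁ V).ι ⋙ DCoh.Rpush (f ∣_ V)) := by
  haveI : IsGrothendieckAbelian.{u} X.Modules :=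
    Groth.Agent.Lib.Helper21.ModTensor3.isGrothendieckAbelian (O := X.sheaf)
  haveI : IsGrothendieckAbelian.{u} (↑(f ⁻¹ᵁ V) : Scheme.{u}).Modules :=
    Groth.Agent.Lib.Helper21.ModTensor3.isGrothendieckAbelian (O := (↑(f ⁻¹ᵁ V) : Scheme.{u}).sheaf)
  haveI : PreservesFiniteColimits (Scheme.Modules.restrictFunctor V.ι) := by
    haveI : PreservesColimitsOfSize.{0, 0} (Scheme.Modules.restrictFunctor V.ι) :=
      (Scheme.Modules.restrictAdjunction V.ι).leftAdjoint_preservesColimits
    exact PreservesColimitsOfSize.preservesFiniteColimits.{0, 0} _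
  haveI : PreservesFiniteColimits (Scheme.Modules.restrictFunctor (f ⁻¹ᵁ V).ι) := by
    haveI : PreservesColimitsOfSize.{0, 0} (Scheme.Modules.restrictFunctor (f ⁻¹ᵁ V).ι) :=
      (Scheme.Modules.restrictAdjunction (f ⁻¹ᵁ V).ι).leftAdjoint_preservesColimits
    exact PreservesColimitsOfSize.preservesFiniteColimits.{0, 0} _
  exact nonempty_iso (Scheme.Modules.pushforward f) (Scheme.Modules.pushforward (f ∣_ V))
    (Scheme.Modules.restrictFunctor V.ι) (Scheme.Modules.restrictFunctor (f ⁻¹ᵁ V).ι)
    (pushRestrictIso f V) (DCoh.Rpush f)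
    (unitOfK (Scheme.Modules.pushforward f) (DCoh.Rpush f)
      ((DCoh.pushKh f).totalRightDerivedUnit DerivedCategory.Qh
        (HomotopyCategory.quasiIso X.Modules (ComplexShape.up ℤ))))
    (DCoh.Rpush (f ∣_ V))
    (unitOfK (Scheme.Modules.pushforward (f ∣_ V)) (DCoh.Rpush (f ∣_ V))
      ((DCoh.pushKh (f ∣_ V)).totalRightDerivedUnit DerivedCategory.Qh
        (HomotopyCategory.quasiIso (↑(f ⁻¹ᵁ V) : Scheme.{u}).Modules (ComplexShape.up ℤ))))
    (fun I hI => isKInjective_restrict (f ⁻¹ᵁ V) I)

end concrete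

end Groth.Agent.Lib.Helper1.RpushRes
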