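import Groth.Agent.Lib.Helper17MV3
import Groth.Agent.Lib.Helper1RpushRes
import Groth.Agent.Lib.Helper17KInj12

/-!
# Mayer–Vietoris triangles on schemes (helper17)
-/

set_option autoImplicit false

universe w w₁ w₂ v v' u' u

open CategoryTheory CategoryTheory.Limits AlgebraicGeometry TopologicalSpace Opposite
  DerivedCategory Pretriangulated

attribute [local instance] HasDerivedCategory.standard

namespace Groth.Agent.Lib.Helper17.MV

open Groth.Agent.Lib.Helper17.KInj

section General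

variable {A : Type u'} [Category.{v'} A] [Abelian A] {B : Type u} [Category.{v} B] [Abelian B]
  [IsGrothendieckAbelian.{w} B] [HasDerivedCategory.{w₁} A] [HasDerivedCategory.{w₂} B]
  (G : B ⥤ A) [G.Additive]
  [(G.mapHomotopyCategory (ComplexShape.up ℤ) ⋙ DerivedCategory.Qh).HasRightDerivedFunctor
    (HomotopyCategory.quasiIso B (ComplexShape.up ℤ))]

/-- on a K-injective complex the total right derived functor is computed termwise. -/
noncomputable def isoOfKInj (I : CochainComplex B ℤ) [I.IsKInjective] :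
    ((G.mapHomotopyCategory (ComplexShape.up ℤ) ⋙ DerivedCategory.Qh).totalRightDerived
      DerivedCategory.Qh (HomotopyCategory.quasiIso B (ComplexShape.up ℤ))).obj
        ((Q : _ ⥤ DerivedCategory B).obj I) ≅
      (Q : _ ⥤ DerivedCategory A).obj ((G.mapHomologicalComplex (ComplexShape.up ℤ)).obj I) :=
  haveI := isIso_app_of_isKInjective G _
    (unitOfK G _ ((G.mapHomotopyCategory (ComplexShape.up ℤ) ⋙
      DerivedCategory.Qh).totalRightDerivedUnit DerivedCategory.Qh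
        (HomotopyCategory.quasiIso B (ComplexShape.up ℤ)))) I
  (asIso ((unitOfK G _ ((G.mapHomotopyCategory (ComplexShape.up ℤ) ⋙
      DerivedCategory.Qh).totalRightDerivedUnit DerivedCategory.Qh
        (HomotopyCategory.quasiIso B (ComplexShape.up ℤ)))).app I)).symm

end General

section Sch

variable {X : Scheme.{u}}

lemma isGrothendieckAbelian (Y : Scheme.{u}) : IsGrothendieckAbelian.{u} Y.Modules :=
  Groth.Agent.Lib.Helper21.ModTensor3.isGrothendieckAbelian (O := Y.sheaf)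

/-- every object of `D(O_X)` is represented by a K-injective complex with injective terms. -/
lemma exists_model (E : DCoh.D X) :
    ∃ (J : CochainComplex X.Modules ℤ), J.IsKInjective ∧ (∀ n, Injective (J.X n)) ∧
      Nonempty (E ≅ (Q : _ ⥤ DCoh.D X).obj J) := by
  haveI := isGrothendieckAbelian X
  obtain ⟨J, q, hJK, hq, -, hJinj⟩ := exists_kInjective_resolution.{u} X.Modules
    ((DerivedCategory.Q : _ ⥤ DCoh.D X).objPreimage E)
  haveI := hq
  haveI : IsIso ((DerivedCategory.Q : _ ⥤ DCoh.D X).map q) := by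
    rw [DerivedCategory.isIso_Q_map_iff_quasiIso]; infer_instance
  exact ⟨J, hJK, hJinj, ⟨((DerivedCategory.Q : _ ⥤ DCoh.D X).objObjPreimageIso E).symm ≪≫
    asIso ((DerivedCategory.Q : _ ⥤ DCoh.D X).map q)⟩⟩

variable {𝒜 : Type (u + 1)} [Category.{u} 𝒜] [Abelian 𝒜] [HasDerivedCategory.{w₁} 𝒜]

/-- identification of `RG(E|_U)` with `Q(Φ T_U J)`. -/
noncomputable def vertexIso (U : X.Opens)
    [PreservesFiniteLimits (Scheme.Modules.restrictFunctor U.ι)]
    (Φ : X.Modules ⥤ 𝒜) [Φ.Additive] (G : (U : Scheme.{u}).Modules ⥤ 𝒜) [G.Additive]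
    [(G.mapHomotopyCategory (ComplexShape.up ℤ) ⋙ DerivedCategory.Qh).HasRightDerivedFunctor
      (HomotopyCategory.quasiIso (U : Scheme.{u}).Modules (ComplexShape.up ℤ))]
    (θ : Scheme.Modules.restrictFunctor U.ι ⋙ G ≅ T U ⋙ Φ)
    (J : CochainComplex X.Modules ℤ) [J.IsKInjective] {E : DCoh.D X}
    (e : E ≅ (Q : _ ⥤ DCoh.D X).obj J) :
    ((G.mapHomotopyCategory (ComplexShape.up ℤ) ⋙ DerivedCategory.Qh).totalRightDerived
      DerivedCategory.Qh (HomotopyCategory.quasiIso (U : Scheme.{u}).Modules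
        (ComplexShape.up ℤ))).obj ((DCoh.restrictD U.ι).obj E) ≅
      (Q : _ ⥤ DerivedCategory 𝒜).obj
        (((T U ⋙ Φ).mapHomologicalComplex (ComplexShape.up ℤ)).obj J) :=
  haveI := isGrothendieckAbelian (U : Scheme.{u})
  haveI := Groth.Agent.Lib.Helper1.RpushRes.isKInjective_restrict U J
  Functor.mapIso _ ((DCoh.restrictD U.ι).mapIso e ≪≫
      (Scheme.Modules.restrictFunctor U.ι).mapDerivedCategoryFactors.app J) ≪≫
    isoOfKInj G (((Scheme.Modules.restrictFunctor U.ι).mapHomologicalComplex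
      (ComplexShape.up ℤ)).obj J) ≪≫
    (Q : _ ⥤ DerivedCategory 𝒜).mapIso ((NatIso.mapHomologicalComplex θ (ComplexShape.up ℤ)).app J)

/-- Mayer–Vietoris triangle `E ⟶ Rj_{U*}E|_U ⊞ Rj_{V*}E|_V ⟶ Rj_{U∩V*}E|_{U∩V} ⟶`. -/
theorem mv_triangle (U V : X.Opens) (hUV : U ⊔ V = ⊤)
    [DCoh.HasRpush U.ι] [DCoh.HasRpush V.ι] [DCoh.HasRpush (U ⊓ V).ι]
    [PreservesFiniteLimits (Scheme.Modules.restrictFunctor U.ι)]
    [PreservesFiniteLimits (Scheme.Modules.restrictFunctor V.ι)]
    [PreservesFiniteLimits (Scheme.Modules.restrictFunctor (U ⊓ V).ι)] (E : DCoh.D X) :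
    ∃ (a : E ⟶ ((DCoh.Rpush U.ι).obj ((DCoh.restrictD U.ι).obj E) ⊞
        (DCoh.Rpush V.ι).obj ((DCoh.restrictD V.ι).obj E)))
      (b : ((DCoh.Rpush U.ι).obj ((DCoh.restrictD U.ι).obj E) ⊞
        (DCoh.Rpush V.ι).obj ((DCoh.restrictD V.ι).obj E)) ⟶
          (DCoh.Rpush (U ⊓ V).ι).obj ((DCoh.restrictD (U ⊓ V).ι).obj E))
      (c : (DCoh.Rpush (U ⊓ V).ι).obj ((DCoh.restrictD (U ⊓ V).ι).obj E) ⟶ E⟦(1 : ℤ)⟧),
      Triangle.mk a b c ∈ distTriang (DCoh.D X) := by
  obtain ⟨J, hJK, hJinj, ⟨e⟩⟩ := exists_model E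
  haveI := hJK
  exact exists_triangle (𝟭 X.Modules) J U V hUV hJinj e
    (vertexIso U (𝟭 _) (Scheme.Modules.pushforward U.ι) (Functor.rightUnitor _).symm J e)
    (vertexIso V (𝟭 _) (Scheme.Modules.pushforward V.ι) (Functor.rightUnitor _).symm J e)
    (vertexIso (U ⊓ V) (𝟭 _) (Scheme.Modules.pushforward (U ⊓ V).ι)
      (Functor.rightUnitor _).symm J e)

end Sch

end Groth.Agent.Lib.Helper17.MV
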