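import Mathlib
import Groth.Agent.S12229
import Groth.Agent.S0930

/-!
# Bridge between `Functor.rightDerived` and `Functor.rightDerivedFunctorPlus` (helper23)

* `isIso_homology_τ_iff`: for a quasi-iso `a : K ⟶ J` into a bounded below complex of injectives,
  `H^i` of the unit at `K` is an iso iff `H^i(F a)` is.
* `extendMapIso`: additive functors commute with `HomologicalComplex.extend`.
* `unit_single_iff_quasiIso`, `unit_single_iff` (= S6624).
-/

open CategoryTheory Limits Category

universe w w' v v' u u'

namespace Groth.Agent.Lib.Helper23Bridge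

open HomologicalComplex Groth.Agent.S12229

open HomologicalComplex Groth.Agent.S12229


section
variable {C : Type u} [Category.{v} C] [Abelian C] [HasDerivedCategory.{w} C]
    [EnoughInjectives C] {D : Type u'} [Category.{v'} D] [Abelian D] [HasDerivedCategory.{w'} D]
    (F : C ⥤ D) [F.Additive]


/-- the unit at `K` is an iso iff `τ F K` is. -/
theorem isIso_unit_iff_isIso_τ (K : CochainComplex.Plus C) :
    IsIso (F.rightDerivedFunctorPlusUnit.app ((HomotopyCategory.Plus.quotient C).obj K)) ↔
      IsIso (τ F K) := by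
  constructor
  · intro h
    exact Functor.map_isIso DerivedCategory.Plus.ι (F.rightDerivedFunctorPlusUnit.app ((HomotopyCategory.Plus.quotient C).obj K))
  · intro h
    have h' : IsIso (DerivedCategory.Plus.ι.map (F.rightDerivedFunctorPlusUnit.app ((HomotopyCategory.Plus.quotient C).obj K))) := h
    exact isIso_of_fully_faithful DerivedCategory.Plus.ι (F.rightDerivedFunctorPlusUnit.app ((HomotopyCategory.Plus.quotient C).obj K))

/-- key lemma: for a quasi-iso `a : K ⟶ J` into a bounded below complex of injectives,
`H^i(τ_K)` is an iso iff `H^i(F a)` is. -/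
theorem isIso_homology_τ_iff {K : CochainComplex.Plus C} (J : CochainComplex C ℤ) (d : ℤ)
    (hJ : J.IsStrictlyGE d) (hinj : ∀ k, Injective (J.X k))
    (a : K ⟶ ⟨J, d, hJ⟩) (ha : QuasiIso a.hom) (i : ℤ) :
    IsIso ((DerivedCategory.homologyFunctor D i).map (τ F K)) ↔
      IsIso (HomologicalComplex.homologyMap ((F.mapHomologicalComplex (ComplexShape.up ℤ)).map a.hom) i) := by
  have hτJ := isIso_τ F J d hJ hinj
  have hnat := τ_naturality F a
  have hiso : IsIso (DerivedCategory.Plus.ι.map (F.rightDerivedFunctorPlus.map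
        (DerivedCategory.Plus.Qh.map ((HomotopyCategory.Plus.quotient C).map a)))) := by
    have := isIso_Qh_map a ha
    infer_instance
  have e := (DerivedCategory.homologyFunctorFactors D i).hom.naturality
    ((F.mapHomologicalComplex (ComplexShape.up ℤ)).map a.hom)
  have hnat' := congrArg (fun z => (DerivedCategory.homologyFunctor D i).map z) hnat
  simp only [Functor.map_comp] at hnat'
  constructor
  · intro h
    have h1 : IsIso ((DerivedCategory.homologyFunctor D i).map
        (DerivedCategory.Q.map ((F.mapHomologicalComplex (ComplexShape.up ℤ)).map a.hom))) := by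
      have h2 : IsIso ((DerivedCategory.homologyFunctor D i).map
        (DerivedCategory.Q.map ((F.mapHomologicalComplex (ComplexShape.up ℤ)).map a.hom)) ≫
          (DerivedCategory.homologyFunctor D i).map (τ F ⟨J, d, hJ⟩)) := by
        rw [hnat']; infer_instance
      exact IsIso.of_isIso_comp_right _ ((DerivedCategory.homologyFunctor D i).map (τ F ⟨J, d, hJ⟩))
    have h3 : IsIso ((DerivedCategory.Q ⋙ DerivedCategory.homologyFunctor D i).map
        ((F.mapHomologicalComplex (ComplexShape.up ℤ)).map a.hom)) := h1
    have h4 : IsIso ((HomologicalComplex.homologyFunctor D (ComplexShape.up ℤ) i).map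
        ((F.mapHomologicalComplex (ComplexShape.up ℤ)).map a.hom)) :=
      (NatIso.isIso_map_iff (DerivedCategory.homologyFunctorFactors D i) _).1 h3
    exact h4
  · intro h
    have h4 : IsIso ((HomologicalComplex.homologyFunctor D (ComplexShape.up ℤ) i).map
        ((F.mapHomologicalComplex (ComplexShape.up ℤ)).map a.hom)) := h
    have h3 : IsIso ((DerivedCategory.Q ⋙ DerivedCategory.homologyFunctor D i).map
        ((F.mapHomologicalComplex (ComplexShape.up ℤ)).map a.hom)) :=
      (NatIso.isIso_map_iff (DerivedCategory.homologyFunctorFactors D i) _).2 h4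
    have h1 : IsIso ((DerivedCategory.homologyFunctor D i).map
        (DerivedCategory.Q.map ((F.mapHomologicalComplex (ComplexShape.up ℤ)).map a.hom))) := h3
    have h2 : IsIso ((DerivedCategory.homologyFunctor D i).map (τ F K) ≫
        (DerivedCategory.homologyFunctor D i).map (DerivedCategory.Plus.ι.map (F.rightDerivedFunctorPlus.map
        (DerivedCategory.Plus.Qh.map ((HomotopyCategory.Plus.quotient C).map a))))) := by
      rw [← hnat']; infer_instance
    exact IsIso.of_isIso_comp_right _ ((DerivedCategory.homologyFunctor D i).map (DerivedCategory.Plus.ι.map (F.rightDerivedFunctorPlus.map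
        (DerivedCategory.Plus.Qh.map ((HomotopyCategory.Plus.quotient C).map a)))))

/-- `τ F K` is an iso iff all `H^i(τ)` are. -/
theorem isIso_τ_iff_forall (K : CochainComplex.Plus C) :
    IsIso (τ F K) ↔ ∀ i : ℤ, IsIso ((DerivedCategory.homologyFunctor D i).map (τ F K)) := by
  constructor
  · intro h i; infer_instance
  · intro h
    exact (DerivedCategory.isIso_iff (f := τ F K)).2 h

end




section
variable {ι ι' : Type*} {c : ComplexShape ι} {c' : ComplexShape ι'}
variable {C : Type*} [Category C] [Preadditive C] [HasZeroObject C]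
  {D : Type*} [Category D] [Preadditive D] [HasZeroObject D]
  (F : C ⥤ D) [F.Additive] (K L : HomologicalComplex C c) (φ : K ⟶ L) (e : c.Embedding c')

/-- `F(extend.X K i) ≅ extend.X (F K) i`. -/
noncomputable def XMapIso (i : Option ι) :
    F.obj (extend.X K i) ≅ extend.X ((F.mapHomologicalComplex c).obj K) i :=
  match i with
  | some _ => Iso.refl _
  | none => IsZero.iso (F.map_isZero (extend.isZero_X K rfl)) (extend.isZero_X _ rfl)

lemma XMapIso_hom_d (i j : Option ι) :
    (XMapIso F K i).hom ≫ extend.d ((F.mapHomologicalComplex c).obj K) i j =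
      F.map (extend.d K i j) ≫ (XMapIso F K j).hom :=
  match i, j with
  | none, _ => by
      simp only [extend.d_none_eq_zero, comp_zero, F.map_zero, zero_comp]
  | some i, some j => by
      change 𝟙 _ ≫ F.map (K.d i j) = F.map (K.d i j) ≫ 𝟙 _
      rw [id_comp, comp_id]
  | some _, none => by
      simp only [extend.d_none_eq_zero', comp_zero, F.map_zero, zero_comp]

/-- additive functors commute with `extend`. -/
noncomputable def extendMapIso :
    (F.mapHomologicalComplex c').obj (K.extend e) ≅ ((F.mapHomologicalComplex c).obj K).extend e :=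
  Hom.isoOfComponents (fun i' => XMapIso F K (e.r i')) (fun i' j' _ => by
    exact (XMapIso_hom_d F K (e.r i') (e.r j')))

lemma XMapIso_naturality (i : Option ι) :
    F.map (extend.mapX φ i) ≫ (XMapIso F L i).hom =
      (XMapIso F K i).hom ≫ extend.mapX ((F.mapHomologicalComplex c).map φ) i :=
  match i with
  | none => by simp [extend.mapX_none]
  | some i => by
      change F.map (φ.f i) ≫ 𝟙 _ = 𝟙 _ ≫ F.map (φ.f i)
      rw [id_comp, comp_id]

variable {K L} in
lemma extendMapIso_naturality :
    (F.mapHomologicalComplex c').map (extendMap φ e) ≫ (extendMapIso F L e).hom =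
      (extendMapIso F K e).hom ≫ extendMap ((F.mapHomologicalComplex c).map φ) e := by
  ext i'
  exact XMapIso_naturality F K L φ (e.r i')

end




section
variable {C : Type u} [Category.{v} C] [Abelian C] [EnoughInjectives C]
  {D : Type u'} [Category.{v'} D] [Abelian D] (F : C ⥤ D) [F.Additive]
  {X : C} (I : InjectiveResolution X)

/-- ℕ-indexed: `F(ι)` is a quasi-iso at `0` iff `toRightDerivedZero'` is an iso. -/
theorem quasiIsoAt_zero_iff :
    QuasiIsoAt ((F.mapHomologicalComplex (ComplexShape.up ℕ)).map I.ι) 0 ↔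
      IsIso (I.toRightDerivedZero' F) := by
  rw [quasiIsoAt_iff_isIso_homologyMap]
  set K := (F.mapHomologicalComplex (ComplexShape.up ℕ)).obj ((CochainComplex.single₀ C).obj X) with hK
  set L := (F.mapHomologicalComplex (ComplexShape.up ℕ)).obj I.cocomplex with hL
  set φ : K ⟶ L := (F.mapHomologicalComplex (ComplexShape.up ℕ)).map I.ι with hφ
  -- iCycles of K at 0 is an iso
  have hd : K.d 0 1 = 0 := by
    show F.map (((CochainComplex.single₀ C).obj X).d 0 1) = 0
    rw [HomologicalComplex.single_obj_d, F.map_zero]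
  have hi : IsIso (K.iCycles 0) := K.isIso_iCycles 0 1 (by simp) hd
  have hc : cyclesMap φ 0 = K.iCycles 0 ≫ I.toRightDerivedZero' F := by
    rw [← cancel_mono (L.iCycles 0), cyclesMap_i]
    have h3 : (K.iCycles 0 ≫ I.toRightDerivedZero' F) ≫ L.iCycles 0 =
        K.iCycles 0 ≫ (I.toRightDerivedZero' F ≫ L.iCycles 0) := assoc _ _ _
    rw [h3]
    erw [InjectiveResolution.toRightDerivedZero'_comp_iCycles]
    rfl
  have hnat := CochainComplex.isoHomologyπ₀_inv_naturality φ
  constructor
  · intro h
    have h1 : IsIso (cyclesMap φ 0) := by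
      have h2 : cyclesMap φ 0 = (CochainComplex.isoHomologyπ₀ K).hom ≫ homologyMap φ 0 ≫ (CochainComplex.isoHomologyπ₀ L).inv := by
        rw [hnat]; simp
      rw [h2]; infer_instance
    rw [hc] at h1
    exact IsIso.of_isIso_comp_left (K.iCycles 0) _
  · intro h
    have h1 : IsIso (cyclesMap φ 0) := by
      rw [hc]; exact @IsIso.comp_isIso _ _ _ _ _ _ _ hi h
    have h2 : homologyMap φ 0 = (CochainComplex.isoHomologyπ₀ K).inv ≫ cyclesMap φ 0 ≫ (CochainComplex.isoHomologyπ₀ L).hom := by
      rw [← reassoc_of% hnat]; simp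
    rw [h2]; infer_instance

/-- ℕ-indexed: `F(ι)` is a quasi-iso at `k+1` iff `R^{k+1}F X = 0`. -/
theorem quasiIsoAt_succ_iff (k : ℕ) :
    QuasiIsoAt ((F.mapHomologicalComplex (ComplexShape.up ℕ)).map I.ι) (k + 1) ↔
      IsZero ((F.rightDerived (k + 1)).obj X) := by
  have hK : ((F.mapHomologicalComplex (ComplexShape.up ℕ)).obj
      ((CochainComplex.single₀ C).obj X)).ExactAt (k + 1) := by
    apply ShortComplex.exact_of_isZero_X₂
    exact F.map_isZero (HomologicalComplex.isZero_single_obj_X _ _ _ _ (by simp))
  rw [quasiIsoAt_iff_exactAt _ _ hK, exactAt_iff_isZero_homology]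
  exact (I.isoRightDerivedObj F (k + 1)).isZero_iff.symm

theorem quasiIso_nat_iff :
    QuasiIso ((F.mapHomologicalComplex (ComplexShape.up ℕ)).map I.ι) ↔
      (IsIso (I.toRightDerivedZero' F) ∧ ∀ k : ℕ, 0 < k → IsZero ((F.rightDerived k).obj X)) := by
  rw [quasiIso_iff]
  constructor
  · intro h
    refine ⟨(quasiIsoAt_zero_iff F I).1 (h 0), fun k hk => ?_⟩
    obtain ⟨k, rfl⟩ := Nat.exists_eq_succ_of_ne_zero hk.ne'
    exact (quasiIsoAt_succ_iff F I k).1 (h _)
  · rintro ⟨h0, h⟩ k
    cases k with
    | zero => exact (quasiIsoAt_zero_iff F I).2 h0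
    | succ k => exact (quasiIsoAt_succ_iff F I k).2 (h _ (Nat.succ_pos k))

end




section
variable {C : Type u} [Category.{v} C] [Abelian C]
  {D : Type u'} [Category.{v'} D] [Abelian D] (F : C ⥤ D) [F.Additive]
  {X : C} (I : InjectiveResolution X)

theorem quasiIso_int_iff_nat :
    QuasiIso ((F.mapHomologicalComplex (ComplexShape.up ℤ)).map I.ι') ↔
      QuasiIso ((F.mapHomologicalComplex (ComplexShape.up ℕ)).map I.ι) := by
  show QuasiIso ((F.mapHomologicalComplex (ComplexShape.up ℤ)).map
    ((HomologicalComplex.extendSingleIso ComplexShape.embeddingUpNat X 0 0 (by simp)).inv ≫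
      extendMap I.ι ComplexShape.embeddingUpNat)) ↔ _
  rw [Functor.map_comp, quasiIso_iff_comp_left]
  have hnat := extendMapIso_naturality F I.ι ComplexShape.embeddingUpNat
  rw [← quasiIso_extendMap_iff _ ComplexShape.embeddingUpNat]
  rw [← quasiIso_iff_comp_right _ (extendMapIso F I.cocomplex ComplexShape.embeddingUpNat).hom, hnat,
    quasiIso_iff_comp_left]

end



section
variable {A : Type u} [Category.{v} A] [Abelian A] [HasDerivedCategory.{w} A] [EnoughInjectives A]
    {B : Type u'} [Category.{v'} B] [Abelian B] [HasDerivedCategory.{w'} B]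
    (F : A ⥤ B) [F.Additive]

/-- `X[0]` as an object of `CochainComplex.Plus`. -/
noncomputable def sgl (X : A) : CochainComplex.Plus A :=
  ⟨(CochainComplex.singleFunctor A 0).obj X, 0, inferInstance⟩

theorem single_eq (X : A) :
    (HomotopyCategory.Plus.singleFunctor A 0).obj X = (HomotopyCategory.Plus.quotient A).obj (sgl X) := rfl

/-- the unit at `X[0]` is an iso iff `F(ι')` is a quasi-iso, for any injective resolution. -/
theorem unit_single_iff_quasiIso {X : A} (I : InjectiveResolution X) :
    IsIso (F.rightDerivedFunctorPlusUnit.app ((HomotopyCategory.Plus.singleFunctor A 0).obj X)) ↔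
      QuasiIso ((F.mapHomologicalComplex (ComplexShape.up ℤ)).map I.ι') := by
  rw [single_eq, isIso_unit_iff_isIso_τ, isIso_τ_iff_forall, quasiIso_iff]
  have hinj : ∀ k, Injective (I.cochainComplex.X k) := fun k => inferInstance
  let a : sgl X ⟶ ⟨I.cochainComplex, 0, inferInstance⟩ := ObjectProperty.homMk I.ι'
  have ha : QuasiIso a.hom := by
    show QuasiIso I.ι'
    infer_instance
  refine forall_congr' (fun i => ?_)
  rw [isIso_homology_τ_iff F I.cochainComplex 0 inferInstance hinj a ha i,
    quasiIsoAt_iff_isIso_homologyMap]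
  rfl

theorem unit_single_iff (X : A) :
    IsIso (F.rightDerivedFunctorPlusUnit.app ((HomotopyCategory.Plus.singleFunctor A 0).obj X)) ↔
      (IsIso (F.toRightDerivedZero.app X) ∧ ∀ i : ℕ, 0 < i → IsZero ((F.rightDerived i).obj X)) := by
  let I := injectiveResolution X
  rw [unit_single_iff_quasiIso F I, quasiIso_int_iff_nat, quasiIso_nat_iff]
  have : IsIso (F.toRightDerivedZero.app X) ↔ IsIso (I.toRightDerivedZero' F) := by
    rw [I.toRightDerivedZero_eq F]
    have h1 : IsIso (CochainComplex.isoHomologyπ₀ ((F.mapHomologicalComplex (ComplexShape.up ℕ)).obj I.cocomplex)).hom := inferInstance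
    have h2 : IsIso (I.isoRightDerivedObj F 0).inv := inferInstance
    have e : IsIso ((CochainComplex.isoHomologyπ₀ ((F.mapHomologicalComplex (ComplexShape.up ℕ)).obj I.cocomplex)).hom ≫
        (I.isoRightDerivedObj F 0).inv) := @IsIso.comp_isIso _ _ _ _ _ _ _ h1 h2
    constructor
    · intro h
      exact @IsIso.of_isIso_comp_right _ _ _ _ _ _ _ e h
    · intro h
      exact @IsIso.comp_isIso _ _ _ _ _ _ _ h e
  rw [this]

end


end Groth.Agent.Lib.Helper23Bridge
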