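import Mathlib
import Groth.Agent.Lib.Helper23Bridge

/-!
# Acyclic objects for `rightDerivedFunctorPlus` (helper23)

`τ F K` (from `Groth.Agent.S12229`) is the unit of `F.rightDerivedFunctorPlus` at the bounded below
complex `K`, as a morphism of `DerivedCategory D`; `sgl X` is `X[0]` (from `Helper23Bridge`).

* `isIso_τ_iff_quasiIso`: for a quasi-iso `a : K ⟶ J` into a bounded below complex of injectives,
  the unit at `K` is an iso iff `F a` is a quasi-iso.
* `twoOfThree`, `twoOfThree_obj`: 2-out-of-3 for "unit is iso" along SES preserved by `F`.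
* `isIso_H0_τ_sgl`: `F` left exact ⇒ `H⁰` of the unit at `X[0]` is an iso.
* `epi_of_acyclic`, `shortExact_map_of_acyclic`: left exact `F` preserves SES with acyclic kernel.
* `acyclic_iff`: unit-acyclic iff `R^iF X = 0` for `i > 0` (left exact `F`).
-/

open CategoryTheory Limits Category

universe w w' v v' u u'

namespace Groth.Agent.Lib.Helper23Acyclic

open HomologicalComplex Groth.Agent.S12229 Groth.Agent.Lib.Helper23Bridge



theorem quasiIso_τ₂ {C : Type u} [Category.{v} C] [Abelian C]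
    {S S' : ShortComplex (CochainComplex C ℤ)} (hS : S.ShortExact) (hS' : S'.ShortExact)
    (φ : S ⟶ S') (h₁ : QuasiIso φ.τ₁) (h₃ : QuasiIso φ.τ₃) : QuasiIso φ.τ₂ := by
  have : HasDerivedCategory C := MorphismProperty.HasLocalization.standard _
  let ψ := DerivedCategory.triangleOfSES.map hS hS' φ
  have hT := DerivedCategory.triangleOfSES_distinguished hS
  have hT' := DerivedCategory.triangleOfSES_distinguished hS'
  have i₁ : IsIso ψ.hom₁ := by
    show IsIso (DerivedCategory.Q.map φ.τ₁); infer_instance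
  have i₃ : IsIso ψ.hom₃ := by
    show IsIso (DerivedCategory.Q.map φ.τ₃); infer_instance
  have := Pretriangulated.isIso₂_of_isIso₁₃ ψ hT hT' i₁ i₃
  have i₂ : IsIso (DerivedCategory.Q.map φ.τ₂) := this
  exact (DerivedCategory.isIso_Q_map_iff_quasiIso (φ := φ.τ₂)).1 i₂

section
variable {C : Type u} [Category.{v} C] [Abelian C] [HasDerivedCategory.{w} C]
    [EnoughInjectives C] {D : Type u'} [Category.{v'} D] [Abelian D] [HasDerivedCategory.{w'} D]
    (F : C ⥤ D) [F.Additive]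

/-- for a quasi-iso `a : K ⟶ J` into a bounded below complex of injectives, the unit at `K`
is an iso iff `F a` is a quasi-iso. -/
theorem isIso_τ_iff_quasiIso {K : CochainComplex.Plus C} (J : CochainComplex C ℤ) (d : ℤ)
    (hJ : J.IsStrictlyGE d) (hinj : ∀ k, Injective (J.X k))
    (a : K ⟶ ⟨J, d, hJ⟩) (ha : QuasiIso a.hom) :
    IsIso (τ F K) ↔ QuasiIso ((F.mapHomologicalComplex (ComplexShape.up ℤ)).map a.hom) := by
  rw [isIso_τ_iff_forall, quasiIso_iff]
  refine forall_congr' (fun i => ?_)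
  rw [isIso_homology_τ_iff F J d hJ hinj a ha i, quasiIsoAt_iff_isIso_homologyMap]

/-- two-out-of-three for the property "the unit is an iso", along short exact sequences of
bounded below complexes that `F` maps to short exact sequences. -/
theorem twoOfThree (S : ShortComplex (CochainComplex C ℤ)) (hS : S.ShortExact) (n : ℤ)
    [h₁ : S.X₁.IsStrictlyGE n] [h₂ : S.X₂.IsStrictlyGE n] [h₃ : S.X₃.IsStrictlyGE n]
    (hFS : (S.map (F.mapHomologicalComplex (ComplexShape.up ℤ))).ShortExact) :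
    (IsIso (τ F ⟨S.X₁, n, h₁⟩) → IsIso (τ F ⟨S.X₂, n, h₂⟩) → IsIso (τ F ⟨S.X₃, n, h₃⟩)) ∧
    (IsIso (τ F ⟨S.X₁, n, h₁⟩) → IsIso (τ F ⟨S.X₃, n, h₃⟩) → IsIso (τ F ⟨S.X₂, n, h₂⟩)) ∧
    (IsIso (τ F ⟨S.X₂, n, h₂⟩) → IsIso (τ F ⟨S.X₃, n, h₃⟩) → IsIso (τ F ⟨S.X₁, n, h₁⟩)) := by
  obtain ⟨S', hS', φ, d, q₁, q₂, q₃, i₁, i₂, i₃, b₁, b₂, b₃, hsplit⟩ := exists_resolution S hS n
  have hFS' := shortExact_map F S' hsplit
  let Fφ : S.map (F.mapHomologicalComplex (ComplexShape.up ℤ)) ⟶
      S'.map (F.mapHomologicalComplex (ComplexShape.up ℤ)) :=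
    (F.mapHomologicalComplex (ComplexShape.up ℤ)).mapShortComplex.map φ
  let a₁ : (⟨S.X₁, n, h₁⟩ : CochainComplex.Plus C) ⟶ ⟨S'.X₁, d, b₁⟩ := ObjectProperty.homMk φ.τ₁
  let a₂ : (⟨S.X₂, n, h₂⟩ : CochainComplex.Plus C) ⟶ ⟨S'.X₂, d, b₂⟩ := ObjectProperty.homMk φ.τ₂
  let a₃ : (⟨S.X₃, n, h₃⟩ : CochainComplex.Plus C) ⟶ ⟨S'.X₃, d, b₃⟩ := ObjectProperty.homMk φ.τ₃
  have e₁ := isIso_τ_iff_quasiIso F S'.X₁ d b₁ i₁ a₁ q₁
  have e₂ := isIso_τ_iff_quasiIso F S'.X₂ d b₂ i₂ a₂ q₂
  have e₃ := isIso_τ_iff_quasiIso F S'.X₃ d b₃ i₃ a₃ q₃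
  rw [e₁, e₂, e₃]
  refine ⟨fun k₁ k₂ => ?_, fun k₁ k₃ => ?_, fun k₂ k₃ => ?_⟩
  · exact HomologicalComplex.HomologySequence.quasiIso_τ₃ Fφ hFS hFS' k₁ k₂
  · exact quasiIso_τ₂ hFS hFS' Fφ k₁ k₃
  · exact quasiIso_τ₁ hFS hFS' Fφ k₂ k₃

end




section
variable {C : Type u} [Category.{v} C] [Abelian C]
  {D : Type u'} [Category.{v'} D] [Abelian D] (F : C ⥤ D) [F.Additive]
  {X : C} (I : InjectiveResolution X)

theorem quasiIsoAt_int_iff_nat (k : ℕ) :
    QuasiIsoAt ((F.mapHomologicalComplex (ComplexShape.up ℤ)).map I.ι') (k : ℤ) ↔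
      QuasiIsoAt ((F.mapHomologicalComplex (ComplexShape.up ℕ)).map I.ι) k := by
  show QuasiIsoAt ((F.mapHomologicalComplex (ComplexShape.up ℤ)).map
    ((HomologicalComplex.extendSingleIso ComplexShape.embeddingUpNat X 0 0 (by simp)).inv ≫
      extendMap I.ι ComplexShape.embeddingUpNat)) (k : ℤ) ↔ _
  rw [Functor.map_comp, quasiIsoAt_iff_comp_left]
  have hnat := extendMapIso_naturality F I.ι ComplexShape.embeddingUpNat
  rw [← quasiIsoAt_extendMap_iff _ ComplexShape.embeddingUpNat (j := k) (j' := (k : ℤ)) (by simp)]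
  rw [← quasiIsoAt_iff_comp_right _ (extendMapIso F I.cocomplex ComplexShape.embeddingUpNat).hom, hnat,
    quasiIsoAt_iff_comp_left]

end

section
variable {C : Type u} [Category.{v} C] [Abelian C] [HasDerivedCategory.{w} C]
    [EnoughInjectives C] {D : Type u'} [Category.{v'} D] [Abelian D] [HasDerivedCategory.{w'} D]
    (F : C ⥤ D) [F.Additive]

/-- for a left exact functor, `H⁰` of the unit at `X[0]` is an iso. -/
theorem isIso_H0_τ_sgl [PreservesFiniteLimits F] (X : C) :
    IsIso ((DerivedCategory.homologyFunctor D 0).map (τ F (sgl X))) := by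
  let I := injectiveResolution X
  have hinj : ∀ k, Injective (I.cochainComplex.X k) := fun k => inferInstance
  let a : sgl X ⟶ ⟨I.cochainComplex, 0, inferInstance⟩ := ObjectProperty.homMk I.ι'
  have ha : QuasiIso a.hom := by
    show QuasiIso I.ι'
    infer_instance
  rw [isIso_homology_τ_iff F I.cochainComplex 0 inferInstance hinj a ha 0,
    ← quasiIsoAt_iff_isIso_homologyMap]
  show QuasiIsoAt ((F.mapHomologicalComplex (ComplexShape.up ℤ)).map I.ι') ((0 : ℕ) : ℤ)
  rw [quasiIsoAt_int_iff_nat, quasiIsoAt_zero_iff]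
  infer_instance

end




section
variable {C : Type u} [Category.{v} C] [Abelian C] [HasDerivedCategory.{w} C]
    [EnoughInjectives C] {D : Type u'} [Category.{v'} D] [Abelian D] [HasDerivedCategory.{w'} D]
    (F : C ⥤ D) [F.Additive]

/-- `H⁰(F(X[0])) ≅ F X`, naturally. -/
noncomputable def h0Iso :
    HomologicalComplex.single C (ComplexShape.up ℤ) 0 ⋙ F.mapHomologicalComplex (ComplexShape.up ℤ) ⋙
      HomologicalComplex.homologyFunctor D (ComplexShape.up ℤ) 0 ≅ F :=
  (Functor.associator _ _ _).symm ≪≫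
    Functor.isoWhiskerRight (HomologicalComplex.singleMapHomologicalComplex F (ComplexShape.up ℤ) 0) _ ≪≫
    Functor.associator _ _ _ ≪≫
    Functor.isoWhiskerLeft F (HomologicalComplex.homologyFunctorSingleIso D (ComplexShape.up ℤ) 0) ≪≫
    F.rightUnitor

/-- (A2): a left exact functor preserves short exact sequences with acyclic kernel. -/
theorem epi_of_acyclic [PreservesFiniteLimits F] (S : ShortComplex C) (hS : S.ShortExact)
    (hac : IsIso (τ F (sgl S.X₁))) : Epi (F.map S.g) := by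
  let S0 : ShortComplex (CochainComplex C ℤ) := S.map (HomologicalComplex.single C (ComplexShape.up ℤ) 0)
  have hS0 : S0.ShortExact := hS.map_of_exact _
  have g1 : S0.X₁.IsStrictlyGE 0 := inferInstanceAs (((CochainComplex.singleFunctor C 0).obj S.X₁).IsStrictlyGE 0)
  have g2 : S0.X₂.IsStrictlyGE 0 := inferInstanceAs (((CochainComplex.singleFunctor C 0).obj S.X₂).IsStrictlyGE 0)
  have g3 : S0.X₃.IsStrictlyGE 0 := inferInstanceAs (((CochainComplex.singleFunctor C 0).obj S.X₃).IsStrictlyGE 0)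
  obtain ⟨S', hS', φ, d, q₁, q₂, q₃, i₁, i₂, i₃, b₁, b₂, b₃, hsplit⟩ := exists_resolution S0 hS0 0
  have hFS' := shortExact_map F S' hsplit
  let a₁ : sgl S.X₁ ⟶ ⟨S'.X₁, d, b₁⟩ := ObjectProperty.homMk φ.τ₁
  let a₂ : sgl S.X₂ ⟶ ⟨S'.X₂, d, b₂⟩ := ObjectProperty.homMk φ.τ₂
  let a₃ : sgl S.X₃ ⟶ ⟨S'.X₃, d, b₃⟩ := ObjectProperty.homMk φ.τ₃
  -- `F φ.τ₁` is a quasi-iso
  have k₁ : QuasiIso ((F.mapHomologicalComplex (ComplexShape.up ℤ)).map φ.τ₁) :=
    (isIso_τ_iff_quasiIso F S'.X₁ d b₁ i₁ a₁ q₁).1 hac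
  -- `H¹(F S'.X₁) = 0`
  have hz : ((F.mapHomologicalComplex (ComplexShape.up ℤ)).obj S'.X₁).ExactAt 1 := by
    have hK : ((F.mapHomologicalComplex (ComplexShape.up ℤ)).obj S0.X₁).ExactAt 1 := by
      apply ShortComplex.exact_of_isZero_X₂
      exact F.map_isZero (HomologicalComplex.isZero_single_obj_X _ _ _ _ (by simp))
    exact (quasiIsoAt_iff_exactAt ((F.mapHomologicalComplex (ComplexShape.up ℤ)).map φ.τ₁) 1 hK).1 inferInstance
  -- `H⁰(F S'.g)` is epi
  have hepi : Epi (homologyMap ((F.mapHomologicalComplex (ComplexShape.up ℤ)).map S'.g) 0) := by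
    have hex := hFS'.homology_exact₃ 0 1 (by simp)
    have hz' : IsZero (((F.mapHomologicalComplex (ComplexShape.up ℤ)).obj S'.X₁).homology 1) :=
      (exactAt_iff_isZero_homology _ _).1 hz
    exact hex.epi_f (hz'.eq_of_tgt _ _)
  -- the vertical maps in degree 0 are isos
  have v₂ : IsIso (homologyMap ((F.mapHomologicalComplex (ComplexShape.up ℤ)).map φ.τ₂) 0) :=
    (isIso_homology_τ_iff F S'.X₂ d b₂ i₂ a₂ q₂ 0).1 (isIso_H0_τ_sgl F S.X₂)
  have v₃ : IsIso (homologyMap ((F.mapHomologicalComplex (ComplexShape.up ℤ)).map φ.τ₃) 0) :=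
    (isIso_homology_τ_iff F S'.X₃ d b₃ i₃ a₃ q₃ 0).1 (isIso_H0_τ_sgl F S.X₃)
  have hsq : homologyMap ((F.mapHomologicalComplex (ComplexShape.up ℤ)).map S0.g) 0 ≫
      homologyMap ((F.mapHomologicalComplex (ComplexShape.up ℤ)).map φ.τ₃) 0 =
      homologyMap ((F.mapHomologicalComplex (ComplexShape.up ℤ)).map φ.τ₂) 0 ≫
      homologyMap ((F.mapHomologicalComplex (ComplexShape.up ℤ)).map S'.g) 0 := by
    rw [← homologyMap_comp, ← homologyMap_comp, ← Functor.map_comp, ← Functor.map_comp, φ.comm₂₃]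
  have hepi0 : Epi (homologyMap ((F.mapHomologicalComplex (ComplexShape.up ℤ)).map S0.g) 0) := by
    have h1 : Epi (homologyMap ((F.mapHomologicalComplex (ComplexShape.up ℤ)).map S0.g) 0 ≫
      homologyMap ((F.mapHomologicalComplex (ComplexShape.up ℤ)).map φ.τ₃) 0) := by
      rw [hsq]; infer_instance
    have h2 : homologyMap ((F.mapHomologicalComplex (ComplexShape.up ℤ)).map S0.g) 0 =
        (homologyMap ((F.mapHomologicalComplex (ComplexShape.up ℤ)).map S0.g) 0 ≫
      homologyMap ((F.mapHomologicalComplex (ComplexShape.up ℤ)).map φ.τ₃) 0) ≫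
        inv (homologyMap ((F.mapHomologicalComplex (ComplexShape.up ℤ)).map φ.τ₃) 0) := by simp
    rw [h2]; infer_instance
  -- transport along `h0Iso`
  have hnat := (h0Iso F).hom.naturality S.g
  have h3 : Epi (((HomologicalComplex.single C (ComplexShape.up ℤ) 0 ⋙ F.mapHomologicalComplex (ComplexShape.up ℤ) ⋙
      HomologicalComplex.homologyFunctor D (ComplexShape.up ℤ) 0).map S.g) ≫ (h0Iso F).hom.app S.X₃) := by
    have : Epi ((HomologicalComplex.single C (ComplexShape.up ℤ) 0 ⋙ F.mapHomologicalComplex (ComplexShape.up ℤ) ⋙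
      HomologicalComplex.homologyFunctor D (ComplexShape.up ℤ) 0).map S.g) := hepi0
    infer_instance
  rw [hnat] at h3
  exact epi_of_epi ((h0Iso F).hom.app S.X₂) (F.map S.g)

theorem shortExact_map_of_acyclic [PreservesFiniteLimits F] (S : ShortComplex C) (hS : S.ShortExact)
    (hac : IsIso (τ F (sgl S.X₁))) : (S.map F).ShortExact := by
  have := epi_of_acyclic F S hS hac
  have := hS.mono_f
  exact { exact := hS.exact.map_of_mono_of_preservesKernel F inferInstance inferInstance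
          mono_f := by show Mono (F.map S.f); infer_instance
          epi_g := by show Epi (F.map S.g); infer_instance }

end




section
variable {C : Type u} [Category.{v} C] [Abelian C] [HasDerivedCategory.{w} C]
    [EnoughInjectives C] {D : Type u'} [Category.{v'} D] [Abelian D] [HasDerivedCategory.{w'} D]
    (F : C ⥤ D) [F.Additive]

/-- two-out-of-three for acyclic objects along short exact sequences preserved by `F`. -/
theorem twoOfThree_obj (S : ShortComplex C) (hS : S.ShortExact) (hFS : (S.map F).ShortExact) :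
    (IsIso (τ F (sgl S.X₁)) → IsIso (τ F (sgl S.X₂)) → IsIso (τ F (sgl S.X₃))) ∧
    (IsIso (τ F (sgl S.X₁)) → IsIso (τ F (sgl S.X₃)) → IsIso (τ F (sgl S.X₂))) ∧
    (IsIso (τ F (sgl S.X₂)) → IsIso (τ F (sgl S.X₃)) → IsIso (τ F (sgl S.X₁))) := by
  let S0 : ShortComplex (CochainComplex C ℤ) := S.map (HomologicalComplex.single C (ComplexShape.up ℤ) 0)
  have hS0 : S0.ShortExact := hS.map_of_exact _
  have g1 : S0.X₁.IsStrictlyGE 0 := inferInstanceAs (((CochainComplex.singleFunctor C 0).obj S.X₁).IsStrictlyGE 0)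
  have g2 : S0.X₂.IsStrictlyGE 0 := inferInstanceAs (((CochainComplex.singleFunctor C 0).obj S.X₂).IsStrictlyGE 0)
  have g3 : S0.X₃.IsStrictlyGE 0 := inferInstanceAs (((CochainComplex.singleFunctor C 0).obj S.X₃).IsStrictlyGE 0)
  have hFS0 : (S0.map (F.mapHomologicalComplex (ComplexShape.up ℤ))).ShortExact := by
    have e : S0.map (F.mapHomologicalComplex (ComplexShape.up ℤ)) ≅
        (S.map F).map (HomologicalComplex.single D (ComplexShape.up ℤ) 0) :=
      S.mapNatIso (HomologicalComplex.singleMapHomologicalComplex F (ComplexShape.up ℤ) 0)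
    exact ShortComplex.shortExact_of_iso e.symm (hFS.map_of_exact _)
  exact twoOfThree F S0 hS0 0 hFS0

end




section
variable {C : Type u} [Category.{v} C] [Abelian C] [HasDerivedCategory.{w} C]
    [EnoughInjectives C] {D : Type u'} [Category.{v'} D] [Abelian D] [HasDerivedCategory.{w'} D]
    (F : C ⥤ D) [F.Additive]

/-- for left exact `F`: unit-acyclic iff classically acyclic. -/
theorem acyclic_iff [PreservesFiniteLimits F] (X : C) :
    IsIso (τ F (sgl X)) ↔ ∀ i : ℕ, 0 < i → IsZero ((F.rightDerived i).obj X) := by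
  rw [← isIso_unit_iff_isIso_τ, ← single_eq, unit_single_iff]
  constructor
  · exact fun h => h.2
  · exact fun h => ⟨inferInstance, h⟩

end


end Groth.Agent.Lib.Helper23Acyclic
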