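import Mathlib
import Groth.Agent.Lib.Helper23Acyclic

/-!
# Leray's acyclicity lemma for `rightDerivedFunctorPlus`, unit form (helper23)

* `acyclic_map_of_acyclic`: a left exact functor maps a bounded below exact complex of acyclic
  objects to an exact complex.
* `quasiIso_f_of_acyclic`: in a SES of complexes with acyclic cokernel the inclusion is a quasi-iso.
* `isIso_τ_sgl_of_injective`, `isIso_τ_sgl_of_isZero`.
* `leray`: `F` left exact, `K` bounded below with (unit-)acyclic terms ⇒ the unit at `K` is an iso.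
-/

open CategoryTheory Limits Category

universe w w' v v' u u'

namespace Groth.Agent.Lib.Helper23Leray

open HomologicalComplex Groth.Agent.S12229 Groth.Agent.Lib.Helper23Bridge Groth.Agent.Lib.Helper23Acyclic



section
variable {C : Type u} [Category.{v} C] [Abelian C] [HasDerivedCategory.{w} C]
    [EnoughInjectives C] {D : Type u'} [Category.{v'} D] [Abelian D] [HasDerivedCategory.{w'} D]
    (F : C ⥤ D) [F.Additive]

/-- zero objects are acyclic. -/
theorem isIso_τ_sgl_of_isZero {Z : C} (hZ : IsZero Z) : IsIso (τ F (sgl Z)) := by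
  have h0 : IsZero ((HomologicalComplex.single C (ComplexShape.up ℤ) 0).obj Z) :=
    Functor.map_isZero _ hZ
  have hinj : ∀ k, Injective (((CochainComplex.singleFunctor C 0).obj Z).X k) := fun k =>
    ((HomologicalComplex.eval C (ComplexShape.up ℤ) k).map_isZero h0).injective
  exact isIso_τ F _ 0 inferInstance hinj

/-- the short complex `0 ⟶ Z^i ⟶ Q^i ⟶ Z^j ⟶ 0`. -/
noncomputable def cyclesSC (Q : CochainComplex C ℤ) (i j : ℤ) : ShortComplex C :=
  ShortComplex.mk (Q.iCycles i) (Q.toCycles i j) (by
    rw [← cancel_mono (Q.iCycles j), assoc, toCycles_i, iCycles_d, zero_comp])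

theorem cyclesSC_shortExact (Q : CochainComplex C ℤ) (i j : ℤ) (hij : i + 1 = j)
    (hQ : Q.ExactAt j) : (cyclesSC Q i j).ShortExact where
  exact := ShortComplex.exact_of_f_is_kernel _
    (isKernelOfComp (Q.iCycles j) (Q.d i j) (Q.cyclesIsKernel i j (by simp [hij])) _ (Q.toCycles_i i j))
  mono_f := inferInstanceAs (Mono (Q.iCycles i))
  epi_g := by
    show Epi (Q.toCycles i j)
    exact Preadditive.epi_of_isZero_cokernel' _ (Q.homologyIsCokernel i j (by simp [← hij])) hQ.isZero_homology

theorem acyclic_map_of_acyclic [PreservesFiniteLimits F] (Q : CochainComplex C ℤ) (n : ℤ)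
    [Q.IsStrictlyGE n] (hQ : Q.Acyclic) (hac : ∀ m, IsIso (τ F (sgl (Q.X m)))) :
    ((F.mapHomologicalComplex (ComplexShape.up ℤ)).obj Q).Acyclic := by
  -- cycles are acyclic objects
  have hzero : ∀ m, m < n → IsIso (τ F (sgl (Q.cycles m))) := by
    intro m hm
    apply isIso_τ_sgl_of_isZero
    have h1 : IsZero (Q.X m) := Q.isZero_of_isStrictlyGE n m hm
    rw [IsZero.iff_id_eq_zero, ← cancel_mono (Q.iCycles m)]
    exact h1.eq_of_tgt _ _
  have hstep : ∀ m, IsIso (τ F (sgl (Q.cycles m))) → IsIso (τ F (sgl (Q.cycles (m + 1)))) := by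
    intro m hm
    have hS := cyclesSC_shortExact Q m (m + 1) rfl (hQ (m + 1))
    have hFS := shortExact_map_of_acyclic F _ hS hm
    exact (twoOfThree_obj F _ hS hFS).1 hm (hac m)
  have hall : ∀ m, IsIso (τ F (sgl (Q.cycles m))) := by
    have hnat : ∀ k : ℕ, IsIso (τ F (sgl (Q.cycles (n - 1 + k)))) := by
      intro k
      induction k with
      | zero => exact hzero _ (by simp)
      | succ k ih =>
        have := hstep _ ih
        have e : n - 1 + (k : ℤ) + 1 = n - 1 + ((k + 1 : ℕ) : ℤ) := by push_cast; ring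
        rwa [e] at this
    intro m
    by_cases hm : m < n
    · exact hzero m hm
    · obtain ⟨k, hk⟩ := Int.eq_ofNat_of_zero_le (show 0 ≤ m - (n - 1) by lia)
      have e : m = n - 1 + (k : ℤ) := by lia
      rw [e]; exact hnat k
  intro j
  rw [exactAt_iff' _ (j - 1) j (j + 1) (by simp) (by simp)]
  have hS := cyclesSC_shortExact Q (j - 1) j (by simp) (hQ j)
  have hFS := shortExact_map_of_acyclic F _ hS (hall (j - 1))
  have hepi : Epi (F.map (Q.toCycles (j - 1) j)) := hFS.epi_g
  -- `F (iCycles j)` is a kernel of `F (d j (j+1))`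
  have hker : (ShortComplex.mk (F.map (Q.iCycles j)) (F.map (Q.d j (j + 1)))
      (by rw [← F.map_comp, iCycles_d, F.map_zero])).Exact :=
    ShortComplex.exact_of_f_is_kernel _
      (KernelFork.mapIsLimit _ (Q.cyclesIsKernel j (j + 1) (by simp)) F)
  let φ : ((F.mapHomologicalComplex (ComplexShape.up ℤ)).obj Q).sc' (j - 1) j (j + 1) ⟶
      ShortComplex.mk (F.map (Q.iCycles j)) (F.map (Q.d j (j + 1)))
        (by rw [← F.map_comp, iCycles_d, F.map_zero]) :=
    { τ₁ := F.map (Q.toCycles (j - 1) j)
      τ₂ := 𝟙 _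
      τ₃ := 𝟙 _
      comm₁₂ := by
        show F.map (Q.toCycles (j - 1) j) ≫ F.map (Q.iCycles j) = F.map (Q.d (j - 1) j) ≫ 𝟙 _
        rw [comp_id, ← F.map_comp, toCycles_i]
      comm₂₃ := by
        show 𝟙 _ ≫ F.map (Q.d j (j + 1)) = F.map (Q.d j (j + 1)) ≫ 𝟙 _
        rw [comp_id, id_comp] }
  have : Epi φ.τ₁ := hepi
  have : IsIso φ.τ₂ := IsIso.id _
  have : Mono φ.τ₃ := by
    have : IsIso φ.τ₃ := IsIso.id _
    infer_instance
  exact (ShortComplex.exact_iff_of_epi_of_isIso_of_mono φ).2 hker

end




/-- in a short exact sequence of complexes with acyclic cokernel, the inclusion is a quasi-iso. -/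
theorem quasiIso_f_of_acyclic {A : Type*} [Category A] [Abelian A] {ι : Type*} {c : ComplexShape ι}
    {S : ShortComplex (HomologicalComplex A c)} (hS : S.ShortExact) (h₃ : S.X₃.Acyclic) :
    QuasiIso S.f := by
  rw [quasiIso_iff]
  intro i
  rw [quasiIsoAt_iff_isIso_homologyMap]
  have hz : ∀ j, IsZero (S.X₃.homology j) := fun j => (h₃ j).isZero_homology
  have hepi : Epi (homologyMap S.f i) := (hS.homology_exact₂ i).epi_f ((hz i).eq_of_tgt _ _)
  have hmono : Mono (homologyMap S.f i) := by
    by_cases hi : ∃ j, c.Rel j i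
    · obtain ⟨j, hji⟩ := hi
      exact (hS.homology_exact₁ j i hji).mono_g ((hz j).eq_of_src _ _)
    · have := hS.mono_f
      exact HomologicalComplex.mono_homologyMap_of_mono_of_not_rel S.f i (by simpa using hi)
  exact isIso_of_mono_of_epi _

section
variable {C : Type u} [Category.{v} C] [Abelian C] [HasDerivedCategory.{w} C]
    [EnoughInjectives C] {D : Type u'} [Category.{v'} D] [Abelian D] [HasDerivedCategory.{w'} D]
    (F : C ⥤ D) [F.Additive]

/-- injective objects are acyclic. -/
theorem isIso_τ_sgl_of_injective (I : C) [Injective I] : IsIso (τ F (sgl I)) := by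
  have hinj : ∀ k, Injective (((CochainComplex.singleFunctor C 0).obj I).X k) := fun k => by
    classical
    exact inferInstanceAs (Injective (((HomologicalComplex.single C (ComplexShape.up ℤ) 0).obj I).X k))
  exact isIso_τ F _ 0 inferInstance hinj

open CochainComplex.Plus.modelCategoryQuillen in
/-- Leray's acyclicity lemma, unit form. -/
theorem leray [PreservesFiniteLimits F] (K : CochainComplex.Plus C)
    (hac : ∀ m, IsIso (τ F (sgl (K.obj.X m)))) : IsIso (τ F K) := by
  obtain ⟨n, hn⟩ := K.property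
  obtain ⟨J, q, hqm, hq, hJ, hJb⟩ := exists_mono_quasiIso_injective K.obj (n - 1) n
  let S : ShortComplex (CochainComplex C ℤ) := ShortComplex.mk q (cokernel.π q) (cokernel.condition q)
  have hS : S.ShortExact :=
    { exact := ShortComplex.exact_cokernel q, mono_f := hqm, epi_g := inferInstanceAs (Epi (cokernel.π q)) }
  have hQb : (cokernel q).IsStrictlyGE (n - 1) := by
    rw [CochainComplex.isStrictlyGE_iff]
    intro i hi
    rw [IsZero.iff_id_eq_zero, ← cancel_epi ((cokernel.π q).f i)]
    exact (J.isZero_of_isStrictlyGE (n - 1) i hi).eq_of_src _ _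
  have hQ : (cokernel q).Acyclic := hS.acyclic_X₃ hq
  have hk := (HomologicalComplex.shortExact_iff_degreewise_shortExact S).1 hS
  have hFk : ∀ m, ((S.map (HomologicalComplex.eval C (ComplexShape.up ℤ) m)).map F).ShortExact :=
    fun m => shortExact_map_of_acyclic F _ (hk m) (hac m)
  have hQac : ∀ m, IsIso (τ F (sgl ((cokernel q).X m))) := fun m => by
    have : Injective (J.X m) := hJ m
    exact (twoOfThree_obj F _ (hk m) (hFk m)).1 (hac m) (isIso_τ_sgl_of_injective F (J.X m))
  have hFQ := acyclic_map_of_acyclic F (cokernel q) (n - 1) hQ hQac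
  have hFS : (S.map (F.mapHomologicalComplex (ComplexShape.up ℤ))).ShortExact :=
    HomologicalComplex.shortExact_of_degreewise_shortExact _ (fun m => hFk m)
  have hFq : QuasiIso ((F.mapHomologicalComplex (ComplexShape.up ℤ)).map q) :=
    quasiIso_f_of_acyclic hFS hFQ
  let a : K ⟶ ⟨J, n - 1, hJb⟩ := ObjectProperty.homMk q
  exact (isIso_τ_iff_quasiIso F J (n - 1) hJb hJ a hq).2 hFq

end


end Groth.Agent.Lib.Helper23Leray
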