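import Mathlib
import Groth.Agent.Lib.Helper23Leray

open CategoryTheory Limits Pretriangulated

namespace Groth.Agent.Lib.Helper23SS3

universe w w' v v' u u'

section
variable (C : Type u) [Category.{v} C] [Abelian C] [EnoughInjectives C] [HasDerivedCategory.{w} C]

/-- the equivalence functor `K⁺(Inj C) ⥤ D⁺(C)` -/
noncomputable abbrev Φ : HomotopyCategory.Plus (InjectiveObject C) ⥤ DerivedCategory.Plus C :=
  (InjectiveObject.ι C).mapHomotopyCategoryPlus ⋙ DerivedCategory.Plus.Qh

theorem isKInjective_obj (L : HomotopyCategory.Plus (InjectiveObject C)) :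
    CochainComplex.IsKInjective ((InjectiveObject.ι C).mapHomotopyCategoryPlus.obj L).1.as := by
  obtain ⟨L, hL⟩ := L
  obtain ⟨L, rfl⟩ := HomotopyCategory.quotient_obj_surjective L
  obtain ⟨n, hn⟩ := (HomotopyCategory.plus_quotient_obj_iff _).mp hL
  let L' : CochainComplex C ℤ := ((InjectiveObject.ι C).mapHomologicalComplex (.up ℤ)).obj L
  have (k : ℤ) : Injective (L'.X k) := (L.X k).property
  have : L'.IsStrictlyGE n := by dsimp [L']; infer_instance
  exact CochainComplex.isKInjective_of_injective L' n

instance : (Φ C).Full where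
  map_surjective {K L} f := by
    obtain ⟨g, hg⟩ := (DerivedCategory.Plus.Qh_map_bijective_of_isKInjective
      ((InjectiveObject.ι C).mapHomotopyCategoryPlus.obj K)
      ((InjectiveObject.ι C).mapHomotopyCategoryPlus.obj L) (isKInjective_obj C L)).2 f
    obtain ⟨g', rfl⟩ := (InjectiveObject.ι C).mapHomotopyCategoryPlus.map_surjective g
    exact ⟨g', hg⟩

instance : (Φ C).Faithful where
  map_injective {K L} f g h := by
    apply (InjectiveObject.ι C).mapHomotopyCategoryPlus.map_injective
    exact (DerivedCategory.Plus.Qh_map_bijective_of_isKInjective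
      ((InjectiveObject.ι C).mapHomotopyCategoryPlus.obj K)
      ((InjectiveObject.ι C).mapHomotopyCategoryPlus.obj L) (isKInjective_obj C L)).1 h

instance : (Φ C).IsEquivalence where

/-- the equivalence `K⁺(Inj C) ≌ D⁺(C)` -/
noncomputable def equiv : HomotopyCategory.Plus (InjectiveObject C) ≌ DerivedCategory.Plus C :=
  (Φ C).asEquivalence

noncomputable instance : (equiv C).functor.CommShift ℤ :=
  inferInstanceAs ((Φ C).CommShift ℤ)

instance : (equiv C).functor.IsTriangulated :=
  inferInstanceAs ((Φ C).IsTriangulated)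

noncomputable instance : (equiv C).inverse.CommShift ℤ := (equiv C).commShiftInverse ℤ

instance : (equiv C).CommShift ℤ := (equiv C).commShift_of_functor ℤ

instance : (equiv C).IsTriangulated := Equivalence.IsTriangulated.mk' _ inferInstance

instance : (equiv C).inverse.IsTriangulated := inferInstance

end

section
variable {C : Type u} [Category.{v} C] [Abelian C] [EnoughInjectives C] [HasDerivedCategory.{w} C]
  {D : Type u'} [Category.{v'} D] [Abelian D] [HasDerivedCategory.{w'} D] (F : C ⥤ D) [F.Additive]

/-- the total right derived functor `D⁺(C) ⥤ D(D)`, as a triangulated functor. -/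
noncomputable def G : DerivedCategory.Plus C ⥤ DerivedCategory D :=
  (equiv C).inverse ⋙ (InjectiveObject.ι C ⋙ F).mapHomotopyCategoryPlus ⋙
    HomotopyCategory.Plus.ι D ⋙ DerivedCategory.Qh

noncomputable instance : (G F).CommShift ℤ := by
  dsimp only [G]; infer_instance

instance : (G F).IsTriangulated := by
  dsimp only [G]; infer_instance

/-- `G` on complexes of injectives. -/
noncomputable def GΦIso (L : HomotopyCategory.Plus (InjectiveObject C)) :
    (G F).obj ((Φ C).obj L) ≅
      DerivedCategory.Qh.obj ((HomotopyCategory.Plus.ι D).obj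
        ((InjectiveObject.ι C ⋙ F).mapHomotopyCategoryPlus.obj L)) :=
  ((InjectiveObject.ι C ⋙ F).mapHomotopyCategoryPlus ⋙
    HomotopyCategory.Plus.ι D ⋙ DerivedCategory.Qh).mapIso ((equiv C).unitIso.app L).symm

open Groth.Agent.S12229 Groth.Agent.Lib.Helper23Acyclic in
/-- the hypercohomology of `G F` at a complex for which the unit is an iso. -/
theorem homology_G_Q (K : CochainComplex.Plus C) (hK : IsIso (τ F K)) (n : ℤ) :
    Nonempty ((DerivedCategory.homologyFunctor D n).obj ((G F).obj (DerivedCategory.Plus.Q.obj K)) ≅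
      ((F.mapHomologicalComplex (ComplexShape.up ℤ)).obj K.obj).homology n) := by
  obtain ⟨d, hd⟩ := K.property
  obtain ⟨L, hL, i, hi⟩ := CochainComplex.Plus.exists_quasiIso_injective K d
  have hi' : QuasiIso i.hom := hi
  have hiso : IsIso (DerivedCategory.Q.map i.hom) := inferInstance
  let e₀ := asIso (DerivedCategory.Q.map i.hom)
  let e₁ : DerivedCategory.Plus.Q.obj K ≅
      (Φ C).obj ((HomotopyCategory.Plus.quotient (InjectiveObject C)).obj L) :=
    DerivedCategory.Plus.ι.preimageIso e₀
  let e₃ := GΦIso F ((HomotopyCategory.Plus.quotient (InjectiveObject C)).obj L)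
  let J : CochainComplex C ℤ := ((InjectiveObject.ι C).mapHomologicalComplex (.up ℤ)).obj L.obj
  let e₄ : DerivedCategory.Qh.obj ((HomotopyCategory.Plus.ι D).obj
        ((InjectiveObject.ι C ⋙ F).mapHomotopyCategoryPlus.obj
          ((HomotopyCategory.Plus.quotient (InjectiveObject C)).obj L))) ≅
      DerivedCategory.Q.obj ((F.mapHomologicalComplex (.up ℤ)).obj J) := Iso.refl _
  have hJ : J.IsStrictlyGE d := by dsimp [J]; infer_instance
  have hinj : ∀ k, Injective (J.X k) := fun k => (L.obj.X k).property
  have hq : QuasiIso ((F.mapHomologicalComplex (ComplexShape.up ℤ)).map i.hom) :=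
    (isIso_τ_iff_quasiIso F J d hJ hinj i hi').1 hK
  exact ⟨(DerivedCategory.homologyFunctor D n).mapIso ((G F).mapIso e₁ ≪≫ e₃ ≪≫ e₄) ≪≫
    (DerivedCategory.homologyFunctorFactors D n).app _ ≪≫
    (asIso (HomologicalComplex.homologyMap ((F.mapHomologicalComplex (ComplexShape.up ℤ)).map i.hom) n)).symm⟩

/-- `G F` is left t-exact. -/
theorem isZero_homology_G (Z : DerivedCategory.Plus C) (i : ℤ) [Z.IsGE i] (n : ℤ) (hn : n < i) :
    IsZero ((DerivedCategory.homologyFunctor D n).obj ((G F).obj Z)) := by
  obtain ⟨L, hL, ⟨e⟩⟩ := DerivedCategory.Plus.exists_injective_nonempty_iso Z i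
  let e₃ := GΦIso F ((HomotopyCategory.Plus.quotient (InjectiveObject C)).obj L)
  let J : CochainComplex C ℤ := ((InjectiveObject.ι C).mapHomologicalComplex (.up ℤ)).obj L.obj
  let e₄ : DerivedCategory.Qh.obj ((HomotopyCategory.Plus.ι D).obj
        ((InjectiveObject.ι C ⋙ F).mapHomotopyCategoryPlus.obj
          ((HomotopyCategory.Plus.quotient (InjectiveObject C)).obj L))) ≅
      DerivedCategory.Q.obj ((F.mapHomologicalComplex (.up ℤ)).obj J) := Iso.refl _
  have hJ : J.IsStrictlyGE i := by dsimp [J]; infer_instance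
  let FJ : CochainComplex D ℤ := (F.mapHomologicalComplex (.up ℤ)).obj J
  have hFJ : FJ.IsStrictlyGE i := by dsimp [FJ]; infer_instance
  refine IsZero.of_iso ?_ ((DerivedCategory.homologyFunctor D n).mapIso
    ((G F).mapIso e.symm ≪≫ e₃ ≪≫ e₄) ≪≫ (DerivedCategory.homologyFunctorFactors D n).app _)
  exact (FJ.exactAt_of_isGE i n hn).isZero_homology

/-- shifting single objects. -/
noncomputable def homologyGSingleShiftIso (M : C) (q k n : ℤ) (hn : q + k = n) :
    (DerivedCategory.homologyFunctor D n).obj
      ((G F).obj ((DerivedCategory.Plus.singleFunctor C q).obj M)) ≅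
    (DerivedCategory.homologyFunctor D k).obj
      ((G F).obj ((DerivedCategory.Plus.singleFunctor C 0).obj M)) :=
  (((DerivedCategory.homologyFunctor D 0).shiftIso q k n hn).app _).symm ≪≫
    (DerivedCategory.homologyFunctor D k).mapIso
      (((G F).commShiftIso q).app _).symm ≪≫
    (DerivedCategory.homologyFunctor D k).mapIso ((G F).mapIso
      (((DerivedCategory.Plus.singleFunctors C).shiftIso q 0 q (add_zero q)).app M))

open Groth.Agent.S12229 in
/-- `H^k(G(M[0]))` computed by an injective resolution (ℤ-indexed). -/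
theorem homology_G_single_zero {M : C} (I : InjectiveResolution M) (k : ℤ) :
    Nonempty ((DerivedCategory.homologyFunctor D k).obj
        ((G F).obj ((DerivedCategory.Plus.singleFunctor C 0).obj M)) ≅
      ((F.mapHomologicalComplex (ComplexShape.up ℤ)).obj I.cochainComplex).homology k) := by
  let K : CochainComplex.Plus C := ⟨I.cochainComplex, 0, inferInstance⟩
  have hK : IsIso (τ F K) := isIso_τ F I.cochainComplex 0 inferInstance inferInstance
  obtain ⟨e⟩ := homology_G_Q F K hK k
  let e₀ : (DerivedCategory.singleFunctor C 0).obj M ≅ DerivedCategory.Q.obj I.cochainComplex :=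
    (DerivedCategory.singleFunctorIsoCompQ C 0).app M ≪≫ asIso (DerivedCategory.Q.map I.ι')
  let e₁ : (DerivedCategory.Plus.singleFunctor C 0).obj M ≅ DerivedCategory.Plus.Q.obj K :=
    DerivedCategory.Plus.ι.preimageIso e₀
  exact ⟨(DerivedCategory.homologyFunctor D k).mapIso ((G F).mapIso e₁) ≪≫ e⟩

open Groth.Agent.Lib.Helper23Bridge in
/-- ℤ-indexed homology of `F(I)` versus the ℕ-indexed right derived functors. -/
theorem homology_map_cochainComplex {M : C} (I : InjectiveResolution M) (j : ℕ) (k : ℤ) (hk : (j : ℤ) = k) :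
    Nonempty (((F.mapHomologicalComplex (ComplexShape.up ℤ)).obj I.cochainComplex).homology k ≅
      (F.rightDerived j).obj M) := by
  let e₁ := extendMapIso F I.cocomplex ComplexShape.embeddingUpNat
  let e₂ := (HomologicalComplex.homologyFunctor D (ComplexShape.up ℤ) k).mapIso e₁
  let e₃ := ((F.mapHomologicalComplex (ComplexShape.up ℕ)).obj I.cocomplex).extendHomologyIso
    ComplexShape.embeddingUpNat (j := j) (j' := k) (by simpa using hk)
  exact ⟨e₂ ≪≫ e₃ ≪≫ (I.isoRightDerivedObj F j).symm⟩

theorem isZero_homology_map_cochainComplex {M : C} (I : InjectiveResolution M) (k : ℤ) (hk : k < 0) :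
    IsZero (((F.mapHomologicalComplex (ComplexShape.up ℤ)).obj I.cochainComplex).homology k) := by
  let FJ : CochainComplex D ℤ := (F.mapHomologicalComplex (.up ℤ)).obj I.cochainComplex
  have hFJ : FJ.IsStrictlyGE 0 := by dsimp [FJ]; infer_instance
  exact (FJ.exactAt_of_isGE 0 k hk).isZero_homology

end

end Groth.Agent.Lib.Helper23SS3
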