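import Mathlib
import Groth.Agent.Lib.Helper17MV4
import Groth.Agent.Lib.Helper17KInjD5
import Groth.Agent.Lib.Helper23SS3
import Groth.Agent.Lib.Helper1Devissage

set_option backward.isDefEq.respectTransparency.types false
set_option linter.style.haveILetI false
set_option maxHeartbeats 400000
set_option autoImplicit false

universe w w₁ w₂ v v' u' u

open CategoryTheory CategoryTheory.Limits DerivedCategory Pretriangulated CochainComplex ZeroObject

namespace Groth.Agent.Lib.Helper1.RDTri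

open Groth.Agent.Lib.Helper17.KInj Groth.Agent.Lib.Helper17.MV

section FiveTerm

variable {𝒞 : Type u} [Category.{v} 𝒞] [Abelian 𝒞]

/-- a class of objects closed under isomorphisms, kernels, cokernels and extensions
(a weak Serre class / thick abelian subcategory). -/
structure WeakSerre (P : ObjectProperty 𝒞) : Prop where
  iso : ∀ {X Y : 𝒞} (_ : X ≅ Y), P X → P Y
  ker : ∀ {X Y : 𝒞} (f : X ⟶ Y), P X → P Y → P (kernel f)
  coker : ∀ {X Y : 𝒞} (f : X ⟶ Y), P X → P Y → P (cokernel f)
  ext : ∀ (S : ShortComplex 𝒞), S.ShortExact → P S.X₁ → P S.X₃ → P S.X₂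

/-- the middle term of a five term exact sequence whose four outer terms lie in a weak Serre
class lies in that class. -/
theorem WeakSerre.five {P : ObjectProperty 𝒞} (hP : WeakSerre P) {A' A B C D' : 𝒞}
    (f : A' ⟶ A) (g : A ⟶ B) (h : B ⟶ C) (k : C ⟶ D')
    (w₁ : f ≫ g = 0) (w₂ : g ≫ h = 0) (w₃ : h ≫ k = 0)
    (e₁ : (ShortComplex.mk f g w₁).Exact) (e₂ : (ShortComplex.mk g h w₂).Exact)
    (e₃ : (ShortComplex.mk h k w₃).Exact)
    (hA' : P A') (hA : P A) (hC : P C) (hD' : P D') : P B := by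
  -- `u : A ⟶ ker h` is epi and induces an isomorphism `coker f ≅ ker h`
  let u : A ⟶ kernel h := kernel.lift h g w₂
  haveI hu : Epi u := (ShortComplex.exact_iff_epi_kernel_lift _).1 e₂
  have hfu : f ≫ u = 0 := by
    rw [← cancel_mono (kernel.ι h), Category.assoc, kernel.lift_ι, w₁, zero_comp]
  let c : cokernel f ⟶ kernel h := cokernel.desc f u hfu
  haveI : Epi c := by
    have : cokernel.π f ≫ c = u := cokernel.π_desc _ _ _
    exact epi_of_epi_fac this
  haveI : Mono (cokernel.desc f g w₁) := (ShortComplex.exact_iff_mono_cokernel_desc _).1 e₁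
  haveI : Mono c := by
    have : c ≫ kernel.ι h = cokernel.desc f g w₁ := by
      rw [← cancel_epi (cokernel.π f)]
      simp [c, u]
    exact mono_of_mono_fac this
  haveI : IsIso c := isIso_of_mono_of_epi c
  have hK : P (kernel h) := hP.iso (asIso c) (hP.coker f hA' hA)
  -- `v : B ⟶ ker k` is epi with kernel `ker h`
  let v : B ⟶ kernel k := kernel.lift k h w₃
  haveI hv : Epi v := (ShortComplex.exact_iff_epi_kernel_lift _).1 e₃
  have hιv : kernel.ι h ≫ v = 0 := by
    rw [← cancel_mono (kernel.ι k), Category.assoc, kernel.lift_ι, kernel.condition, zero_comp]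
  let S : ShortComplex 𝒞 := ShortComplex.mk (kernel.ι h) v hιv
  let S' : ShortComplex 𝒞 := ShortComplex.mk (kernel.ι h) h (kernel.condition h)
  have hS' : S'.Exact := ShortComplex.exact_of_f_is_kernel _ (kernelIsKernel h)
  let φ : S ⟶ S' :=
    { τ₁ := 𝟙 _
      τ₂ := 𝟙 _
      τ₃ := kernel.ι k
      comm₁₂ := by simp [S, S']
      comm₂₃ := by simp [S, S', v] }
  haveI : Epi φ.τ₁ := by dsimp [φ]; infer_instance
  haveI : IsIso φ.τ₂ := by dsimp [φ]; infer_instance
  haveI : Mono φ.τ₃ := by dsimp [φ]; infer_instance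
  have hS : S.Exact := (ShortComplex.exact_iff_of_epi_of_isIso_of_mono φ).2 hS'
  have hSE : S.ShortExact :=
    { exact := hS
      mono_f := by dsimp [S]; infer_instance
      epi_g := by dsimp [S]; exact hv }
  exact hP.ext S hSE hK (hP.ker k hC hD')

end FiveTerm

section General

variable {A : Type u'} [Category.{v'} A] [Abelian A] {B : Type u} [Category.{v} B] [Abelian B]
  [IsGrothendieckAbelian.{w} B] [HasDerivedCategory.{w₁} A] [HasDerivedCategory.{w₂} B]
  (G : B ⥤ A) [G.Additive]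
  [(G.mapHomotopyCategory (ComplexShape.up ℤ) ⋙ DerivedCategory.Qh).HasRightDerivedFunctor
    (HomotopyCategory.quasiIso B (ComplexShape.up ℤ))]

omit [IsGrothendieckAbelian.{w} B] [HasDerivedCategory.{w₂} B] in
/-- transport of a distinguished triangle along isomorphisms of its vertices. -/
theorem exists_distTriang_of_isos {T' : Triangle (DerivedCategory A)}
    (hT' : T' ∈ distTriang (DerivedCategory A)) {X Y Z : DerivedCategory A}
    (e₁ : X ≅ T'.obj₁) (e₂ : Y ≅ T'.obj₂) (e₃ : Z ≅ T'.obj₃) :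
    ∃ (a : X ⟶ Y) (b : Y ⟶ Z) (c : Z ⟶ X⟦(1 : ℤ)⟧),
      Triangle.mk a b c ∈ distTriang (DerivedCategory A) := by
  refine ⟨e₁.hom ≫ T'.mor₁ ≫ e₂.inv, e₂.hom ≫ T'.mor₂ ≫ e₃.inv,
    e₃.hom ≫ T'.mor₃ ≫ e₁.inv⟦(1 : ℤ)⟧', ?_⟩
  refine isomorphic_distinguished _ hT' _ (Triangle.isoMk _ _ e₁ e₂ e₃ ?_ ?_ ?_)
  · change (e₁.hom ≫ T'.mor₁ ≫ e₂.inv) ≫ e₂.hom = e₁.hom ≫ T'.mor₁
    rw [Category.assoc, Category.assoc, Iso.inv_hom_id, Category.comp_id]
  · change (e₂.hom ≫ T'.mor₂ ≫ e₃.inv) ≫ e₃.hom = e₂.hom ≫ T'.mor₂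
    rw [Category.assoc, Category.assoc, Iso.inv_hom_id, Category.comp_id]
  · change (e₃.hom ≫ T'.mor₃ ≫ e₁.inv⟦(1 : ℤ)⟧') ≫ e₁.hom⟦(1 : ℤ)⟧' = e₃.hom ≫ T'.mor₃
    rw [Category.assoc, Category.assoc, ← Functor.map_comp, Iso.inv_hom_id, CategoryTheory.Functor.map_id,
      Category.comp_id]

/-- the total right derived functor. -/
noncomputable abbrev RG : DerivedCategory B ⥤ DerivedCategory A :=
  (G.mapHomotopyCategory (ComplexShape.up ℤ) ⋙ DerivedCategory.Qh).totalRightDerived
    DerivedCategory.Qh (HomotopyCategory.quasiIso B (ComplexShape.up ℤ))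

/-- **The total right derived functor sends distinguished triangles to distinguished triangles**
(weak form: existence of the maps). -/
theorem exists_distTriang (T : Triangle (DerivedCategory B))
    (hT : T ∈ distTriang (DerivedCategory B)) :
    ∃ (a : (RG G).obj T.obj₁ ⟶ (RG G).obj T.obj₂) (b : (RG G).obj T.obj₂ ⟶ (RG G).obj T.obj₃)
      (c : (RG G).obj T.obj₃ ⟶ ((RG G).obj T.obj₁)⟦(1 : ℤ)⟧),
      Triangle.mk a b c ∈ distTriang (DerivedCategory A) := by
  obtain ⟨K, L, φ, ⟨e⟩⟩ := (mem_distTriang_iff T).1 hT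
  obtain ⟨IK, qK, hIK, hqK, -, -⟩ := exists_kInjective_resolution.{w} B K
  obtain ⟨IL, qL, hIL, hqL, -, -⟩ := exists_kInjective_resolution.{w} B L
  haveI := hIK
  haveI := hIL
  haveI : IsIso ((Q : _ ⥤ DerivedCategory B).map qK) := by
    rw [isIso_Q_map_iff_quasiIso]; exact hqK
  haveI : IsIso ((Q : _ ⥤ DerivedCategory B).map qL) := by
    rw [isIso_Q_map_iff_quasiIso]; exact hqL
  obtain ⟨φ', hφ'⟩ := exists_Q_map_eq (K := IK) (L := IL)
    (inv ((Q : _ ⥤ DerivedCategory B).map qK) ≫ Q.map φ ≫ Q.map qL)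
  have hT0 : (Q : _ ⥤ DerivedCategory B).mapTriangle.obj (mappingCone.triangle φ) ∈
      distTriang (DerivedCategory B) := (mem_distTriang_iff _).2 ⟨_, _, φ, ⟨Iso.refl _⟩⟩
  have hT' : (Q : _ ⥤ DerivedCategory B).mapTriangle.obj (mappingCone.triangle φ') ∈
      distTriang (DerivedCategory B) := (mem_distTriang_iff _).2 ⟨_, _, φ', ⟨Iso.refl _⟩⟩
  let eK : (Q : _ ⥤ DerivedCategory B).obj K ≅ Q.obj IK := asIso (Q.map qK)
  let eL : (Q : _ ⥤ DerivedCategory B).obj L ≅ Q.obj IL := asIso (Q.map qL)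
  have hsq : eK.hom ≫ (Q : _ ⥤ DerivedCategory B).map φ' = Q.map φ ≫ eL.hom := by
    dsimp [eK, eL]
    rw [hφ', IsIso.hom_inv_id_assoc]
  obtain ⟨e', -, -⟩ := exists_iso_of_arrow_iso _ _ hT0 hT' (Arrow.isoMk eK eL hsq)
  let eT := e ≪≫ e'
  haveI := isKInjective_mappingCone φ'
  let e₁ : (RG G).obj T.obj₁ ≅ (Q : _ ⥤ DerivedCategory A).obj
      ((G.mapHomologicalComplex (ComplexShape.up ℤ)).obj IK) :=
    (RG G).mapIso (Triangle.π₁.mapIso eT) ≪≫ isoOfKInj G IK
  let e₂ : (RG G).obj T.obj₂ ≅ (Q : _ ⥤ DerivedCategory A).obj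
      ((G.mapHomologicalComplex (ComplexShape.up ℤ)).obj IL) :=
    (RG G).mapIso (Triangle.π₂.mapIso eT) ≪≫ isoOfKInj G IL
  let e₃ : (RG G).obj T.obj₃ ≅ (Q : _ ⥤ DerivedCategory A).obj
      (mappingCone ((G.mapHomologicalComplex (ComplexShape.up ℤ)).map φ')) :=
    (RG G).mapIso (Triangle.π₃.mapIso eT) ≪≫ isoOfKInj G (mappingCone φ') ≪≫
      (Q : _ ⥤ DerivedCategory A).mapIso (mappingCone.mapHomologicalComplexIso φ' G)
  have hT'' : (Q : _ ⥤ DerivedCategory A).mapTriangle.obj
      (mappingCone.triangle ((G.mapHomologicalComplex (ComplexShape.up ℤ)).map φ')) ∈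
      distTriang (DerivedCategory A) := (mem_distTriang_iff _).2 ⟨_, _, _, ⟨Iso.refl _⟩⟩
  exact exists_distTriang_of_isos hT'' e₁ e₂ e₃

/-- every object of `D(B)` has a K-injective model. -/
theorem exists_kinj_model (X : DerivedCategory B) :
    ∃ (I : CochainComplex B ℤ), I.IsKInjective ∧
      Nonempty (X ≅ (Q : _ ⥤ DerivedCategory B).obj I) := by
  obtain ⟨I, q, hI, hq, -, -⟩ := exists_kInjective_resolution.{w} B
    ((Q : _ ⥤ DerivedCategory B).objPreimage X)
  haveI : IsIso ((Q : _ ⥤ DerivedCategory B).map q) := by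
    rw [isIso_Q_map_iff_quasiIso]; exact hq
  exact ⟨I, hI, ⟨((Q : _ ⥤ DerivedCategory B).objObjPreimageIso X).symm ≪≫
    asIso ((Q : _ ⥤ DerivedCategory B).map q)⟩⟩

/-- the total right derived functor commutes with shifts (weak form). -/
theorem nonempty_shift_iso (X : DerivedCategory B) (m : ℤ) :
    Nonempty ((RG G).obj (X⟦m⟧) ≅ ((RG G).obj X)⟦m⟧) := by
  obtain ⟨I, hI, ⟨e⟩⟩ := exists_kinj_model X
  haveI := hI
  let e1 : X⟦m⟧ ≅ (Q : _ ⥤ DerivedCategory B).obj (I⟦m⟧) :=
    (CategoryTheory.shiftFunctor (DerivedCategory B) m).mapIso e ≪≫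
      ((Q : _ ⥤ DerivedCategory B).commShiftIso m).symm.app I
  let e2 : (Q : _ ⥤ DerivedCategory A).obj
      ((G.mapHomologicalComplex (ComplexShape.up ℤ)).obj (I⟦m⟧)) ≅
      ((Q : _ ⥤ DerivedCategory A).obj ((G.mapHomologicalComplex (ComplexShape.up ℤ)).obj I))⟦m⟧ :=
    (Q : _ ⥤ DerivedCategory A).mapIso
      (((G.mapHomologicalComplex (ComplexShape.up ℤ)).commShiftIso m).app I) ≪≫
      ((Q : _ ⥤ DerivedCategory A).commShiftIso m).app _
  exact ⟨(RG G).mapIso e1 ≪≫ isoOfKInj G (I⟦m⟧) ≪≫ e2 ≪≫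
    (CategoryTheory.shiftFunctor (DerivedCategory A) m).mapIso
      ((isoOfKInj G I).symm ≪≫ (RG G).mapIso e.symm)⟩

section Single

variable [EnoughInjectives B]

/-- `RG(M[0]) ≅ Q(G I)` for an injective resolution `I` of `M`. -/
noncomputable def singleZeroIso {M : B} (I : InjectiveResolution M) :
    (RG G).obj ((DerivedCategory.singleFunctor B 0).obj M) ≅
      (Q : _ ⥤ DerivedCategory A).obj
        ((G.mapHomologicalComplex (ComplexShape.up ℤ)).obj I.cochainComplex) :=
  haveI : I.cochainComplex.IsKInjective := CochainComplex.isKInjective_of_injective _ 0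
  (RG G).mapIso ((DerivedCategory.singleFunctorIsoCompQ B 0).app M ≪≫ asIso (Q.map I.ι')) ≪≫
    isoOfKInj G I.cochainComplex

/-- `H^n(RG(M[-q])) ≅ R^p G M` for `n = q + p`. -/
theorem nonempty_homology_single_iso (M : B) (q : ℤ) (p : ℕ) (n : ℤ) (hn : q + p = n) :
    Nonempty ((homologyFunctor A n).obj ((RG G).obj ((DerivedCategory.singleFunctor B q).obj M)) ≅
      (G.rightDerived p).obj M) := by
  let I : InjectiveResolution M := injectiveResolution M
  obtain ⟨e⟩ := Groth.Agent.Lib.Helper23SS3.homology_map_cochainComplex G I p (p : ℤ) rfl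
  let ea : ((DerivedCategory.singleFunctor B 0).obj M)⟦-q⟧ ≅ (DerivedCategory.singleFunctor B q).obj M :=
    ((DerivedCategory.singleFunctors B).shiftIso (-q) q 0 (by omega)).app M
  obtain ⟨es⟩ := nonempty_shift_iso G ((DerivedCategory.singleFunctor B 0).obj M) (-q)
  let e1 : (RG G).obj ((DerivedCategory.singleFunctor B q).obj M) ≅
      ((RG G).obj ((DerivedCategory.singleFunctor B 0).obj M))⟦-q⟧ := (RG G).mapIso ea.symm ≪≫ es
  let e2 : (homologyFunctor A n).obj (((RG G).obj ((DerivedCategory.singleFunctor B 0).obj M))⟦-q⟧) ≅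
      (homologyFunctor A (p : ℤ)).obj ((RG G).obj ((DerivedCategory.singleFunctor B 0).obj M)) :=
    ((homologyFunctor A 0).shiftIso (-q) n (p : ℤ) (by omega)).app _
  exact ⟨(homologyFunctor A n).mapIso e1 ≪≫ e2 ≪≫
    (homologyFunctor A (p : ℤ)).mapIso (singleZeroIso G I) ≪≫
    (homologyFunctorFactors A (p : ℤ)).app _ ≪≫ e⟩

/-- `H^n(RG(M[-q])) = 0` for `n < q`. -/
theorem isZero_homology_single (M : B) (q n : ℤ) (hn : n < q) :
    IsZero ((homologyFunctor A n).obj ((RG G).obj ((DerivedCategory.singleFunctor B q).obj M))) := by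
  let I : InjectiveResolution M := injectiveResolution M
  have hz := Groth.Agent.Lib.Helper23SS3.isZero_homology_map_cochainComplex G I (n - q) (by omega)
  let ea : ((DerivedCategory.singleFunctor B 0).obj M)⟦-q⟧ ≅ (DerivedCategory.singleFunctor B q).obj M :=
    ((DerivedCategory.singleFunctors B).shiftIso (-q) q 0 (by omega)).app M
  obtain ⟨es⟩ := nonempty_shift_iso G ((DerivedCategory.singleFunctor B 0).obj M) (-q)
  let e1 : (RG G).obj ((DerivedCategory.singleFunctor B q).obj M) ≅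
      ((RG G).obj ((DerivedCategory.singleFunctor B 0).obj M))⟦-q⟧ := (RG G).mapIso ea.symm ≪≫ es
  let e2 : (homologyFunctor A n).obj (((RG G).obj ((DerivedCategory.singleFunctor B 0).obj M))⟦-q⟧) ≅
      (homologyFunctor A (n - q)).obj ((RG G).obj ((DerivedCategory.singleFunctor B 0).obj M)) :=
    ((homologyFunctor A 0).shiftIso (-q) n (n - q) (by omega)).app _
  exact hz.of_iso ((homologyFunctor A n).mapIso e1 ≪≫ e2 ≪≫
    (homologyFunctor A (n - q)).mapIso (singleZeroIso G I) ≪≫
    (homologyFunctorFactors A (n - q)).app _)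

end Single


section Good

/-- `RG` of a zero object is zero. -/
theorem isZero_RG_obj {X : DerivedCategory B} (hX : IsZero X) : IsZero ((RG G).obj X) := by
  haveI : ∀ n : ℤ, Injective ((0 : CochainComplex B ℤ).X n) := fun n => by
    have hz : IsZero ((0 : CochainComplex B ℤ).X n) :=
      Functor.map_isZero (HomologicalComplex.eval B (ComplexShape.up ℤ) n) (isZero_zero _)
    exact ⟨fun g f _ => ⟨0, hz.eq_of_tgt _ _⟩⟩
  haveI : (0 : CochainComplex B ℤ).IsStrictlyGE 0 := by
    rw [CochainComplex.isStrictlyGE_iff]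
    intro i _
    exact Functor.map_isZero (HomologicalComplex.eval B (ComplexShape.up ℤ) i) (isZero_zero _)
  haveI : (0 : CochainComplex B ℤ).IsKInjective :=
    CochainComplex.isKInjective_of_injective _ 0
  have h0 : IsZero ((Q : _ ⥤ DerivedCategory B).obj (0 : CochainComplex B ℤ)) :=
    Functor.map_isZero _ (isZero_zero _)
  have e : (RG G).obj X ≅ (Q : _ ⥤ DerivedCategory A).obj
      ((G.mapHomologicalComplex (ComplexShape.up ℤ)).obj (0 : CochainComplex B ℤ)) :=
    (RG G).mapIso (hX.iso h0) ≪≫ isoOfKInj G (0 : CochainComplex B ℤ)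
  exact IsZero.of_iso (Functor.map_isZero _ (Functor.map_isZero _ (isZero_zero _))) e

variable {G}

/-- the five term exact sequence in a weak Serre class, degreewise. -/
theorem prop_homology_of_distTriang {P : ObjectProperty A} (hP : WeakSerre P)
    (T : Triangle (DerivedCategory B)) (hT : T ∈ distTriang (DerivedCategory B)) (n : ℤ)
    (h1 : P ((homologyFunctor A (n - 1)).obj ((RG G).obj T.obj₃)))
    (h2 : P ((homologyFunctor A n).obj ((RG G).obj T.obj₁)))
    (h3 : P ((homologyFunctor A n).obj ((RG G).obj T.obj₃)))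
    (h4 : P ((homologyFunctor A (n + 1)).obj ((RG G).obj T.obj₁))) :
    P ((homologyFunctor A n).obj ((RG G).obj T.obj₂)) := by
  obtain ⟨a, b, c, hT'⟩ := exists_distTriang G T hT
  exact hP.five _ _ _ _ _ _ _
    (HomologySequence.exact₁ _ hT' (n - 1) n (by omega))
    (HomologySequence.exact₂ _ hT' n)
    (HomologySequence.exact₃ _ hT' n (n + 1) rfl) h1 h2 h3 h4

/-- three term exactness: vanishing. -/
theorem isZero_homology_of_distTriang
    (T : Triangle (DerivedCategory B)) (hT : T ∈ distTriang (DerivedCategory B)) (n : ℤ)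
    (h2 : IsZero ((homologyFunctor A n).obj ((RG G).obj T.obj₁)))
    (h3 : IsZero ((homologyFunctor A n).obj ((RG G).obj T.obj₃))) :
    IsZero ((homologyFunctor A n).obj ((RG G).obj T.obj₂)) := by
  obtain ⟨a, b, c, hT'⟩ := exists_distTriang G T hT
  exact (HomologySequence.exact₂ _ hT' n).isZero_of_both_zeros (h2.eq_of_src _ _)
    (h3.eq_of_tgt _ _)

variable (G)

/-- all cohomology objects of `RG X` lie in `P`. -/
def GoodP (P : ObjectProperty A) : ObjectProperty (DerivedCategory B) :=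
  fun X => ∀ n : ℤ, P ((homologyFunctor A n).obj ((RG G).obj X))

instance (P : ObjectProperty A) [P.IsClosedUnderIsomorphisms] :
    (GoodP G P).IsClosedUnderIsomorphisms where
  of_iso e h n := P.prop_of_iso ((homologyFunctor A n).mapIso ((RG G).mapIso e)) (h n)

/-- cohomology of `RG X` vanishes above `c`. -/
def GoodZ (c : ℤ) : ObjectProperty (DerivedCategory B) :=
  fun X => ∀ n : ℤ, c < n → IsZero ((homologyFunctor A n).obj ((RG G).obj X))

instance (c : ℤ) : (GoodZ G c).IsClosedUnderIsomorphisms where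
  of_iso e h n hn := (h n hn).of_iso ((homologyFunctor A n).mapIso ((RG G).mapIso e.symm))

variable [EnoughInjectives B]

/-- **bounded case**: if all `RᵖG(Hʲ X)` lie in the weak Serre class `P`, so do the `Hⁿ(RG X)`. -/
theorem goodP_of_bounded {P : ObjectProperty A} [P.IsClosedUnderIsomorphisms] (hP : WeakSerre P)
    (hP0 : ∀ Z : A, IsZero Z → P Z) (X : DerivedCategory B) (a b : ℤ)
    (hX : ∀ i : ℤ, (i < a ∨ b < i) → IsZero ((homologyFunctor B i).obj X))
    (h : ∀ (j : ℤ) (p : ℕ), P ((G.rightDerived p).obj ((homologyFunctor B j).obj X))) :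
    GoodP G P X := by
  apply Groth.Agent.Lib.Helper1.Devissage.induction_homology' (GoodP G P) ?_ ?_ X a b hX
  · intro j _ _ n
    by_cases hn : n < j
    · exact hP0 _ (isZero_homology_single G _ j n hn)
    · obtain ⟨p, hp⟩ : ∃ p : ℕ, j + (p : ℤ) = n := ⟨(n - j).toNat, by omega⟩
      obtain ⟨e⟩ := nonempty_homology_single_iso G ((homologyFunctor B j).obj X) j p n hp
      exact P.prop_of_iso e.symm (h j p)
  · intro K hK n
    exact hP0 _ (Functor.map_isZero _ (isZero_RG_obj G hK))
  · intro T hT h1 h3 n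
    exact prop_homology_of_distTriang hP T hT n (h3 _) (h1 _) (h3 _) (h1 _)

/-- **bounded vanishing**. -/
theorem goodZ_of_bounded (X : DerivedCategory B) (a b c : ℤ)
    (hX : ∀ i : ℤ, (i < a ∨ b < i) → IsZero ((homologyFunctor B i).obj X))
    (h : ∀ (j : ℤ), a ≤ j → j ≤ b → ∀ p : ℕ, c < j + p →
      IsZero ((G.rightDerived p).obj ((homologyFunctor B j).obj X))) :
    GoodZ G c X := by
  by_cases hab : a ≤ b + 1
  swap
  · intro n _
    have hz : IsZero X := by
      haveI : X.IsGE a := (DerivedCategory.isGE_iff X a).2 (fun i hi => hX i (Or.inl hi))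
      haveI : X.IsLE b := (DerivedCategory.isLE_iff X b).2 (fun i hi => hX i (Or.inr hi))
      exact DerivedCategory.TStructure.t.isZero X b a (by omega)
    exact Functor.map_isZero _ (isZero_RG_obj G hz)
  apply Groth.Agent.Lib.Helper1.Devissage.induction_homology' (GoodZ G c) ?_ ?_ X a b hX
  · intro j hj1 hj2 n hn
    by_cases hnj : n < j
    · exact isZero_homology_single G _ j n hnj
    · obtain ⟨p, hp⟩ : ∃ p : ℕ, j + (p : ℤ) = n := ⟨(n - j).toNat, by omega⟩
      obtain ⟨e⟩ := nonempty_homology_single_iso G ((homologyFunctor B j).obj X) j p n hp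
      exact (h j hj1 hj2 p (by omega)).of_iso e
  · intro K hK n _
    exact Functor.map_isZero _ (isZero_RG_obj G hK)
  · intro T hT h1 h3 n hn
    exact isZero_homology_of_distTriang T hT n (h1 n hn) (h3 n hn)

omit [IsGrothendieckAbelian.{w} B] [HasDerivedCategory.{w₁} A] [HasDerivedCategory.{w₂} B]
  [(G.mapHomotopyCategory (ComplexShape.up ℤ) ⋙ DerivedCategory.Qh).HasRightDerivedFunctor
    (HomotopyCategory.quasiIso B (ComplexShape.up ℤ))] in
theorem isZero_rightDerived_obj (p : ℕ) (M : B) (h : IsZero M) :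
    IsZero ((G.rightDerived p).obj M) := by
  haveI : Injective M := ⟨fun g f _ => ⟨0, h.eq_of_tgt _ _⟩⟩
  let I : InjectiveResolution M := InjectiveResolution.self M
  refine IsZero.of_iso ?_ (I.isoRightDerivedObj G p)
  have hz : IsZero I.cocomplex := Functor.map_isZero (CochainComplex.single₀ B) h
  exact Functor.map_isZero (HomologicalComplex.homologyFunctor A _ p)
    (Functor.map_isZero (G.mapHomologicalComplex _) hz)

/-- `RG` is left t-exact. -/
theorem isGE_RG_obj (X : DerivedCategory B) (n : ℤ) [X.IsGE n] : ((RG G).obj X).IsGE n := by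
  obtain ⟨K, hK, ⟨e⟩⟩ := DerivedCategory.exists_iso_Q_obj_of_isGE X n
  obtain ⟨L, i, hi, hL, hLn⟩ :=
    CochainComplex.Plus.modelCategoryQuillen.exists_quasiIso_injective K n
  haveI : L.IsKInjective := CochainComplex.isKInjective_of_injective L n
  haveI : IsIso ((DerivedCategory.Q : _ ⥤ DerivedCategory B).map i) := by
    rw [DerivedCategory.isIso_Q_map_iff_quasiIso]; exact hi
  have e2 : X ≅ (DerivedCategory.Q : _ ⥤ DerivedCategory B).obj L :=
    e ≪≫ asIso ((DerivedCategory.Q : _ ⥤ DerivedCategory B).map i)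
  have e3 : (RG G).obj X ≅ (DerivedCategory.Q : _ ⥤ DerivedCategory A).obj
      ((G.mapHomologicalComplex (ComplexShape.up ℤ)).obj L) :=
    (RG G).mapIso e2 ≪≫ isoOfKInj G L
  haveI : CochainComplex.IsStrictlyGE
      ((G.mapHomologicalComplex (ComplexShape.up ℤ)).obj L) n := inferInstance
  haveI : ((DerivedCategory.Q : _ ⥤ DerivedCategory A).obj
      ((G.mapHomologicalComplex (ComplexShape.up ℤ)).obj L)).IsGE n := by
    rw [DerivedCategory.isGE_Q_obj_iff]; infer_instance
  exact DerivedCategory.TStructure.t.isGE_of_iso e3.symm n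

open Groth.Agent.S14388 in
/-- **bounded below case**. -/
theorem goodP_of_isGE {P : ObjectProperty A} [P.IsClosedUnderIsomorphisms] (hP : WeakSerre P)
    (hP0 : ∀ Z : A, IsZero Z → P Z) (X : DerivedCategory B) (a : ℤ) [X.IsGE a]
    (h : ∀ (j : ℤ) (p : ℕ), P ((G.rightDerived p).obj ((homologyFunctor B j).obj X))) :
    GoodP G P X := by
  intro n
  have hT := tt.triangleLTGE_distinguished (n + 2) X
  have hbd : ∀ i : ℤ, (i < a ∨ n + 1 < i) →
      IsZero ((homologyFunctor B i).obj ((tt.truncLT (n + 2)).obj X)) := by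
    rintro i (hi | hi)
    · by_cases hi2 : i < n + 2
      · haveI := isIso_homology_truncLTι (n + 2) i hi2 X
        exact (isZero_of_isGE X a i hi).of_iso
          (asIso ((homologyFunctor B i).map ((tt.truncLTι (n + 2)).app X)))
      · haveI : ((tt.truncLT (n + 2)).obj X).IsLE (n + 2 - 1) := inferInstance
        exact isZero_of_isLE _ (n + 2 - 1) i (by omega)
    · haveI : ((tt.truncLT (n + 2)).obj X).IsLE (n + 2 - 1) := inferInstance
      exact isZero_of_isLE _ (n + 2 - 1) i (by omega)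
  have h1 : GoodP G P ((tt.truncLT (n + 2)).obj X) := by
    refine goodP_of_bounded G hP hP0 _ a (n + 1) hbd ?_
    intro j p
    by_cases hj : j < n + 2
    · haveI := isIso_homology_truncLTι (n + 2) j hj X
      exact P.prop_of_iso ((G.rightDerived p).mapIso
        (asIso ((homologyFunctor B j).map ((tt.truncLTι (n + 2)).app X)))).symm (h j p)
    · exact hP0 _ (isZero_rightDerived_obj G p _ (hbd j (Or.inr (by omega))))
  haveI h3 : ((RG G).obj ((tt.truncGE (n + 2)).obj X)).IsGE (n + 2) := isGE_RG_obj G _ _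
  have z1 : IsZero ((homologyFunctor A (n - 1)).obj
      ((RG G).obj ((tt.truncGE (n + 2)).obj X))) :=
    DerivedCategory.isZero_of_isGE _ (n + 2) (n - 1) (by omega)
  have z2 : IsZero ((homologyFunctor A n).obj ((RG G).obj ((tt.truncGE (n + 2)).obj X))) :=
    DerivedCategory.isZero_of_isGE _ (n + 2) n (by omega)
  exact prop_homology_of_distTriang hP _ hT n (hP0 _ z1) (h1 n) (hP0 _ z2) (h1 (n + 1))

end Good

end General

end Groth.Agent.Lib.Helper1.RDTri
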