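import Mathlib
import Groth.Agent.Lib.Helper10RlimC
import Groth.Agent.Lib.Helper10DCFinA
import Groth.Agent.Lib.Helper10DCMain2
import Groth.Agent.Lib.Helper10DCAmp
import Groth.Agent.Lib.Helper1RDTri
set_option backward.isDefEq.respectTransparency.types false

/-!
# The derived completion of `RΓ_J(M)` is `R lim RΓ_J(M/I^nM)` (helper10)
-/

set_option autoImplicit false
set_option maxHeartbeats 400000
universe u
open CategoryTheory CategoryTheory.Limits Opposite
attribute [local instance] HasDerivedCategory.standard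

namespace Groth.Agent.Lib.Helper10.RlimD

open DerCA DerivedCategory Pretriangulated
  Groth.Agent.Lib.Helper10.KosPro Groth.Agent.Lib.Helper10.RlimA Groth.Agent.Lib.Helper10.RlimB
  Groth.Agent.Lib.Helper10.RlimC Groth.Agent.Lib.Helper10.DCFin
  Groth.Agent.Lib.Helper10.DerComplete Groth.Agent.Lib.Helper10.DCLoc

section DC

variable {A : Type u} [CommRing A]

lemma isIso_smul_away (f : A) (k : ℕ) :
    IsIso (f ^ k • 𝟙 (Dual.inD A (Localization.Away f))) := by
  have h1 : f ^ k • 𝟙 (Dual.inD A (Localization.Away f)) =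
      (DerivedCategory.singleFunctor (ModuleCat.{u} A) 0).map
        (f ^ k • 𝟙 (ModuleCat.of A (Localization.Away f))) := by
    rw [Functor.map_smul, CategoryTheory.Functor.map_id]
  rw [h1]
  haveI : IsIso (f ^ k • 𝟙 (ModuleCat.of A (Localization.Away f))) := by
    rw [ConcreteCategory.isIso_iff_bijective]
    have hu : IsUnit (algebraMap A (Localization.Away f) (f ^ k)) :=
      IsLocalization.map_units (Localization.Away f) (⟨f ^ k, k, rfl⟩ : Submonoid.powers f)
    have e : ∀ x : Localization.Away f,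
        (f ^ k • 𝟙 (ModuleCat.of A (Localization.Away f))).hom x =
          algebraMap A (Localization.Away f) (f ^ k) * x := fun x => by
      show f ^ k • x = _
      rw [Algebra.smul_def]
    constructor
    · intro x y hxy
      have : algebraMap A (Localization.Away f) (f ^ k) * x =
          algebraMap A (Localization.Away f) (f ^ k) * y := by rw [← e, ← e]; exact hxy
      exact hu.mul_left_cancel this
    · intro y
      obtain ⟨u, hu'⟩ := hu
      refine ⟨↑u⁻¹ * y, ?_⟩
      have : (f ^ k • 𝟙 (ModuleCat.of A (Localization.Away f))).hom (↑u⁻¹ * y) = y := by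
        rw [e, ← hu', ← mul_assoc, Units.mul_inv, one_mul]
      exact this
  infer_instance

lemma isDerivedComplete_of_smul_eq_zero (I : Ideal A) (E : Dual.D A)
    (h : ∀ f ∈ I, ∃ k : ℕ, f ^ k • 𝟙 E = 0) : DRing.IsDerivedComplete I E := by
  intro f hf n
  obtain ⟨k, hk⟩ := h f hf
  have key : ∀ φ : Dual.inD A (Localization.Away f) ⟶ E⟦n⟧, φ = 0 := by
    intro φ
    haveI := isIso_smul_away f k
    have h1 : (f ^ k • 𝟙 (Dual.inD A (Localization.Away f))) ≫ φ = 0 := by
      rw [Linear.smul_comp, Category.id_comp]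
      have : f ^ k • φ = φ ≫ (f ^ k • 𝟙 E)⟦n⟧' := by
        rw [Functor.map_smul, CategoryTheory.Functor.map_id, Linear.comp_smul, Category.comp_id]
      rw [this, hk, Functor.map_zero, comp_zero]
    exact (cancel_epi (f ^ k • 𝟙 (Dual.inD A (Localization.Away f)))).1 (h1.trans comp_zero.symm)
  exact ⟨fun φ φ' => by rw [key φ, key φ']⟩

lemma isDerivedComplete_pi (I : Ideal A) (K : ℕ → Dual.D A) [HasProduct K]
    (h : ∀ n, DRing.IsDerivedComplete I (K n)) : DRing.IsDerivedComplete I (∏ᶜ K) := by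
  intro f hf i
  refine ⟨fun φ φ' => ?_⟩
  apply Fan.IsLimit.hom_ext (Groth.Agent.S0943.shiftProdIsLimit K i)
  intro n
  haveI := h n f hf i
  exact Subsingleton.elim _ _

lemma isDerivedComplete_of_triangle (I : Ideal A) (T : Triangle (Dual.D A))
    (hT : T ∈ distTriang (Dual.D A)) (h2 : DRing.IsDerivedComplete I T.obj₂)
    (h3 : DRing.IsDerivedComplete I T.obj₃) : DRing.IsDerivedComplete I T.obj₁ := by
  rw [isDerivedComplete_iff_V]
  intro f hf n
  have hT' := inv_rot_of_distTriang _ (Triangle.shift_distinguished T hT n)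
  refine V_of_triangle f _ hT' ?_ ?_
  · exact (isDerivedComplete_iff_V I _).1 (isDerivedComplete_shift I _ h3 n) f hf (-1)
  · have := (isDerivedComplete_iff_V I _).1 h2 f hf n
    exact this

end DC

section Main

open Groth.Agent.Lib.Helper5.BiDual Groth.Agent.Lib.Helper10.RGamE Groth.Agent.Lib.Helper10.DCMain

variable {A : Type u} [CommRing A] [IsNoetherianRing A] (I J : Ideal A) [DRing.HasRgammaI J]
  (M : Type u) [AddCommGroup M] [Module A M]

lemma RgammaI_map_zero {Y Y' : Dual.D A} : (DRing.RgammaI J).map (0 : Y ⟶ Y') = 0 := by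
  have h := RgammaI_map_smul J (0 : A) (0 : Y ⟶ Y')
  rwa [zero_smul, zero_smul] at h

/-- powers of elements of `I` kill `RΓ_J(M/I^nM)` -/
lemma smul_id_Fsys (n : ℕ) {f : A} (hf : f ∈ I) : f ^ n • 𝟙 ((Fsys I M J).obj (op n)) = 0 := by
  have h1 : f ^ n • 𝟙 ((Msys I M).obj (op n)) = 0 := by
    refine ModuleCat.hom_ext (LinearMap.ext fun x => ?_)
    induction x using Submodule.Quotient.induction_on with
    | H m =>
      show f ^ n • (Submodule.Quotient.mk m : M ⧸ (I ^ n • ⊤ : Submodule A M)) = 0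
      rw [← Submodule.Quotient.mk_smul, Submodule.Quotient.mk_eq_zero]
      exact Submodule.smul_mem_smul (Ideal.pow_mem_pow hf _) Submodule.mem_top
  show f ^ n • 𝟙 ((DRing.RgammaI J).obj ((DerivedCategory.singleFunctor (ModuleCat.{u} A) 0).obj
    ((Msys I M).obj (op n)))) = 0
  rw [← CategoryTheory.Functor.map_id, ← RgammaI_map_smul, ← CategoryTheory.Functor.map_id,
    ← Functor.map_smul, h1, Functor.map_zero, RgammaI_map_zero]

omit [IsNoetherianRing A] in
lemma smul_id_sD (n : ℕ) (i : ℤ) {f : A} (hf : f ∈ I) : f ^ n • 𝟙 (sD (Nn I n) i) = 0 := by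
  have h1 : f ^ n • 𝟙 (Nn I n) = 0 := by
    refine ModuleCat.hom_ext (LinearMap.ext fun x => ?_)
    induction x using Submodule.Quotient.induction_on with
    | H a =>
      show f ^ n • (Submodule.Quotient.mk a : A ⧸ I ^ n) = 0
      rw [← Submodule.Quotient.mk_smul, Submodule.Quotient.mk_eq_zero]
      exact Ideal.mul_mem_right _ _ (Ideal.pow_mem_pow hf _)
  show f ^ n • 𝟙 ((DerivedCategory.singleFunctor (ModuleCat.{u} A) i).obj (Nn I n)) = 0
  rw [← CategoryTheory.Functor.map_id, ← Functor.map_smul, h1, Functor.map_zero]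

omit [IsNoetherianRing A] in
lemma smul_id_shift {W : Dual.D A} {f : A} {k : ℕ} (h : f ^ k • 𝟙 W = 0) (s : ℤ) :
    f ^ k • 𝟙 (W⟦s⟧) = 0 := by
  rw [← CategoryTheory.Functor.map_id, ← Functor.map_smul, h, Functor.map_zero]

/-- transport of a derived limit along an isomorphism -/
lemma isRlim_of_iso {K : ℕ → Dual.D A} {t : ∀ n, K (n + 1) ⟶ K n} [HasProduct K]
    {R : Dual.D A} {a : ∀ n, R ⟶ K n} (hR : CohCx.IsRlimVia K t R a) {L : Dual.D A} (e : L ≅ R) :
    DCoh.IsRlim K t L := by
  obtain ⟨c, hc⟩ := hR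
  refine ⟨Pi.lift (fun n => e.hom ≫ a n), c ≫ e.inv⟦(1 : ℤ)⟧', isomorphic_distinguished _ hc _
    (Triangle.isoMk _ _ e (Iso.refl _) (Iso.refl _) ?_ ?_ ?_)⟩
  · change Pi.lift (fun n => e.hom ≫ a n) ≫ 𝟙 _ = e.hom ≫ Pi.lift a
    rw [Category.comp_id]
    apply Pi.hom_ext
    intro n
    rw [Pi.lift_π, Category.assoc, Pi.lift_π]
  · change _ ≫ 𝟙 _ = 𝟙 _ ≫ _
    rw [Category.comp_id, Category.id_comp]
    rfl
  · change (c ≫ e.inv⟦(1 : ℤ)⟧') ≫ e.hom⟦(1 : ℤ)⟧' = 𝟙 _ ≫ c
    rw [Category.assoc, ← Functor.map_comp, Iso.inv_hom_id, CategoryTheory.Functor.map_id,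
      Category.comp_id, Category.id_comp]

variable [Module.Finite A M] [DRing.HasDerivedCompletion I] [∀ K : ℕ → Dual.D A, HasProduct K]

/-- **Main theorem**: the derived `I`-completion of `RΓ_J(M)` is a derived limit of the
`RΓ_J(M/I^nM)`, compatibly with the canonical maps. -/
theorem main :
    ∃ (R : Dual.D A) (a : ∀ n, R ⟶ (Fsys I M J).obj (op n))
      (b : (Gfun J).obj (ModuleCat.of A M) ⟶ R)
      (e : ((DRing.derivedCompletion I).obj ((Gfun J).obj (ModuleCat.of A M))).obj ≅ R),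
      CohCx.IsRlimVia (fun n => (Fsys I M J).obj (op n))
        (fun n => (Fsys I M J).map (homOfLE (Nat.le_succ n)).op) R a ∧
      (∀ n, b ≫ a n = (pF I M J).app (op n)) ∧
      DRing.toDerivedCompletion I ((Gfun J).obj (ModuleCat.of A M)) ≫ e.hom = b ∧
      R.IsGE 0 ∧ DRing.IsDerivedComplete I R := by
  obtain ⟨R, α, c, hc⟩ := distinguished_cocone_triangle₁
    (Pi.lift fun n => Pi.π (fun n => (Fsys I M J).obj (op n)) n -
      Pi.π (fun n => (Fsys I M J).obj (op n)) (n + 1) ≫
        (Fsys I M J).map (homOfLE (Nat.le_succ n)).op)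
  have hα : Pi.lift (fun n => α ≫ Pi.π (fun n => (Fsys I M J).obj (op n)) n) = α := by
    apply Pi.hom_ext
    intro n
    rw [Pi.lift_π]
  have hR : CohCx.IsRlimVia (fun n => (Fsys I M J).obj (op n))
      (fun n => (Fsys I M J).map (homOfLE (Nat.le_succ n)).op) R
      (fun n => α ≫ Pi.π (fun n => (Fsys I M J).obj (op n)) n) := ⟨c, by rw [hα]; exact hc⟩
  -- the map `b`
  have h0 : Pi.lift (fun n => (pF I M J).app (op n)) ≫
      (Pi.lift fun n => Pi.π (fun n => (Fsys I M J).obj (op n)) n -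
        Pi.π (fun n => (Fsys I M J).obj (op n)) (n + 1) ≫
          (Fsys I M J).map (homOfLE (Nat.le_succ n)).op) = 0 := by
    apply Pi.hom_ext
    intro n
    rw [Category.assoc, Pi.lift_π, Preadditive.comp_sub, Pi.lift_π, Pi.lift_π_assoc, zero_comp,
      sub_eq_zero]
    exact (cone_tr (pF I M J) (Nat.le_succ n)).symm
  obtain ⟨b, hb⟩ := Triangle.coyoneda_exact₂ _ hc _ h0
  have hb' : ∀ n, b ≫ α ≫ Pi.π (fun n => (Fsys I M J).obj (op n)) n = (pF I M J).app (op n) := by
    intro n
    have : Pi.lift (fun n => (pF I M J).app (op n)) ≫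
        Pi.π (fun n => (Fsys I M J).obj (op n)) n = (b ≫ α) ≫
          Pi.π (fun n => (Fsys I M J).obj (op n)) n := by rw [hb]; rfl
    rw [Pi.lift_π, Category.assoc] at this
    exact this.symm
  -- derived completeness of `R`
  have hKdc : ∀ n, DRing.IsDerivedComplete I ((Fsys I M J).obj (op n)) := fun n =>
    isDerivedComplete_of_smul_eq_zero I _ (fun f hf => ⟨n, smul_id_Fsys I J M n hf⟩)
  have hPdc := isDerivedComplete_pi I (fun n => (Fsys I M J).obj (op n)) hKdc
  have hRdc : DRing.IsDerivedComplete I R := isDerivedComplete_of_triangle I _ hc hPdc hPdc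
  -- bijectivity on test objects
  have hbij : ∀ W : Dual.D A, (∀ g ∈ I, ∃ k : ℕ, g ^ k • 𝟙 W = 0) →
      Function.Bijective (fun z : W ⟶ (Gfun J).obj (ModuleCat.of A M) => z ≫ b) := by
    intro W hW
    refine bijective_comp_of_homProConst hR (pF I M J) b hb' W
      (homProConst_of_isProIso _ (isProIso_pF I M J W hW))
      (homProConst_of_isProIso _ (isProIso_pF I M J (W⟦(1 : ℤ)⟧) (fun g hg => ?_)))
    obtain ⟨k, hk⟩ := hW g hg
    exact ⟨k, smul_id_shift hk 1⟩
  -- the cone of `b`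
  obtain ⟨C, g, k, hT⟩ := distinguished_cocone_triangle b
  have hCA : CA I C := CA_of_hom_eq_zero I C (fun n i t =>
    hom_cone_eq_zero' b g k hT _
      (hbij _ (fun f hf => ⟨n, smul_id_sD I n i hf⟩)).2
      (hbij _ (fun f hf => ⟨n, smul_id_shift (smul_id_sD I n i hf) (-1)⟩)).1 t)
  have huniv := bijective_precomp_of_CA I b g k hT hCA
  obtain ⟨e, he⟩ := exists_iso_of_universal (DRing.IsDerivedComplete I)
    (DRing.toDerivedCompletion I ((Gfun J).obj (ModuleCat.of A M))) b
    ((DRing.derivedCompletion I).obj ((Gfun J).obj (ModuleCat.of A M))).property hRdc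
    (bijective_toDerivedCompletion I _) huniv
  -- amplitude
  have hK0 : ∀ n, ((Fsys I M J).obj (op n)).IsGE 0 := fun n =>
    Groth.Agent.Lib.Helper1.RDTri.isGE_RG_obj.{u} (DRing.gammaI J)
      ((DerivedCategory.singleFunctor (ModuleCat.{u} A) 0).obj ((Msys I M).obj (op n))) 0
  have hP0 : (∏ᶜ fun n => (Fsys I M J).obj (op n)).IsGE 0 :=
    Groth.Agent.Lib.Helper10.DCAmp.isGE_of_hom_eq_zero 0 _ (fun i hi φ => by
      apply Pi.hom_ext
      intro n
      haveI := hK0 n
      rw [zero_comp]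
      exact DerivedCategory.TStructure.t.zero_of_isLE_of_isGE _ i 0 hi inferInstance inferInstance)
  have hR0 : R.IsGE 0 := by
    haveI := hP0
    have h1 : ((∏ᶜ fun n => (Fsys I M J).obj (op n))⟦(-1 : ℤ)⟧).IsGE 1 :=
      DerivedCategory.TStructure.t.isGE_shift _ 0 (-1) 1
    have h1' : ((∏ᶜ fun n => (Fsys I M J).obj (op n))⟦(-1 : ℤ)⟧).IsGE 0 :=
      DerivedCategory.TStructure.t.isGE_of_ge _ 0 1 (by omega)
    exact DerivedCategory.TStructure.t.isGE₂ _ (inv_rot_of_distTriang _ hc) 0 h1' hP0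
  exact ⟨R, _, b, e, hR, hb', he, hR0, hRdc⟩

end Main

end Groth.Agent.Lib.Helper10.RlimD
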