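import Groth.Agent.Lib.Helper8ExtLES
import Groth.Prelude.Def_Wider
import Groth.Prelude.Def_DRing3

set_option autoImplicit false
universe u
open CategoryTheory CategoryTheory.Limits Opposite

namespace Groth.Agent.Lib.Helper8.LC

open Groth.Agent.Lib.Helper8.ExtLES

variable {R : Type u} [CommRing R] (I : Ideal R) (i : ℕ) (M : ModuleCat.{u} R)

/-- The diagram defining local cohomology. -/
noncomputable abbrev lcDiagram : ℕᵒᵖᵒᵖ ⥤ ModuleCat.{u} R ⥤ ModuleCat.{u} R :=
  localCohomology.diagram (localCohomology.idealPowersDiagram I) i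

instance : HasColimit (lcDiagram I i) := localCohomology.hasColimitDiagram.{u, 0} _ _

example : localCohomology I i = colimit (lcDiagram I i) := rfl

/-- `R ⧸ I^k` as an object. -/
noncomputable abbrev Xk (k : ℕ) : ModuleCat.{u} R := ModuleCat.of R (R ⧸ I ^ k)

/-- The transition map `R ⧸ I^l → R ⧸ I^k` for `k ≤ l`. -/
noncomputable abbrev tr {k l : ℕ} (h : k ≤ l) : Xk I l ⟶ Xk I k :=
  ModuleCat.ofHom (Submodule.mapQ _ _ LinearMap.id (Ideal.pow_le_pow_right h))

/-- The evaluated diagram. -/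
noncomputable abbrev evalDiagram : ℕᵒᵖᵒᵖ ⥤ ModuleCat.{u} R :=
  lcDiagram I i ⋙ (evaluation _ _).obj M

noncomputable def evalCocone : Cocone (evalDiagram I i M) :=
  ((evaluation _ _).obj M).mapCocone (colimit.cocone (lcDiagram I i))

noncomputable def evalIsColimit : IsColimit (evalCocone I i M) :=
  isColimitOfPreserves ((evaluation _ _).obj M) (colimit.isColimit (lcDiagram I i))

example : (evalCocone I i M).pt = (localCohomology I i).obj M := rfl
example (k : ℕ) : (evalDiagram I i M).obj (op (op k)) = E i (Xk I k) M := rfl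

instance : PreservesColimitsOfShape ℕᵒᵖᵒᵖ (forget (ModuleCat.{u} R)) :=
  have := preservesSmallestFilteredColimits_of_preservesFilteredColimits.{u, u}
    (forget (ModuleCat.{u} R))
  PreservesFilteredColimitsOfSize.preserves_filtered_colimits ℕᵒᵖᵒᵖ

/-- The class map `Ext^i(R/I^k, M) ⟶ H^i_I(M)`. -/
noncomputable def cls (k : ℕ) : E i (Xk I k) M ⟶ (localCohomology I i).obj M :=
  (colimit.ι (lcDiagram I i) (op (op k))).app M

theorem evalDiagram_map {k l : ℕ} (h : k ≤ l) :
    (evalDiagram I i M).map (homOfLE h).op.op = Epre i (tr I h) M := rfl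

theorem cls_restrict {k l : ℕ} (h : k ≤ l) (x : E i (Xk I k) M) :
    cls I i M l (Epre i (tr I h) M x) = cls I i M k x := by
  have := (evalCocone I i M).w (homOfLE h).op.op
  have h2 := congrArg (fun φ => φ.hom x) this
  exact h2

theorem exists_rep (x : (localCohomology I i).obj M) :
    ∃ (k : ℕ) (y : E i (Xk I k) M), cls I i M k y = x := by
  obtain ⟨j, y, hy⟩ := Concrete.isColimit_exists_rep (evalDiagram I i M) (evalIsColimit I i M) x
  exact ⟨j.unop.unop, y, hy⟩

theorem cls_eq_iff {k l : ℕ} (x : E i (Xk I k) M) (y : E i (Xk I l) M) :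
    cls I i M k x = cls I i M l y ↔
      ∃ (m : ℕ) (hk : k ≤ m) (hl : l ≤ m), Epre i (tr I hk) M x = Epre i (tr I hl) M y := by
  constructor
  · intro h
    obtain ⟨m, a, b, hab⟩ := (Concrete.isColimit_rep_eq_iff_exists (C := ModuleCat.{u} R)
      (evalDiagram I i M) (i := op (op k)) (j := op (op l)) (evalIsColimit I i M) x y).mp h
    have hk : k ≤ m.unop.unop := a.unop.unop.le
    have hl : l ≤ m.unop.unop := b.unop.unop.le
    refine ⟨m.unop.unop, hk, hl, ?_⟩
    have ha : a = (homOfLE hk).op.op := Subsingleton.elim _ _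
    have hb : b = (homOfLE hl).op.op := Subsingleton.elim _ _
    rw [ha, hb] at hab
    exact hab
  · rintro ⟨m, hk, hl, h⟩
    rw [← cls_restrict I i M hk, ← cls_restrict I i M hl, h]

theorem cls_eq_zero_iff {k : ℕ} (x : E i (Xk I k) M) :
    cls I i M k x = 0 ↔ ∃ (m : ℕ) (hk : k ≤ m), Epre i (tr I hk) M x = 0 := by
  have h0 : (0 : (localCohomology I i).obj M) = cls I i M k 0 := (map_zero _).symm
  rw [h0, cls_eq_iff]
  constructor
  · rintro ⟨m, hk, _, h⟩
    exact ⟨m, hk, by rw [h, map_zero]⟩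
  · rintro ⟨m, hk, h⟩
    exact ⟨m, hk, hk, by rw [h, map_zero]⟩

variable {M} in
theorem map_cls {N : ModuleCat.{u} R} (g : M ⟶ N) (k : ℕ) (x : E i (Xk I k) M) :
    (localCohomology I i).map g (cls I i M k x) = cls I i N k (Emap i (Xk I k) g x) := by
  have := (colimit.ι (lcDiagram I i) (op (op k))).naturality g
  have h2 := congrArg (fun ψ => ψ.hom x) this
  exact h2.symm

section LES

variable (S : ShortComplex (ModuleCat.{u} R)) (hS : S.ShortExact)

/-- The cocone used to define the connecting homomorphism on local cohomology. -/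
noncomputable def δCocone : Cocone (evalDiagram I i S.X₃) where
  pt := (localCohomology I (i + 1)).obj S.X₁
  ι :=
    { app := fun j => extδ S hS (Xk I j.unop.unop) i ≫ cls I (i + 1) S.X₁ j.unop.unop
      naturality := by
        intro j j' a
        have hle : j.unop.unop ≤ j'.unop.unop := a.unop.unop.le
        have ha : a = (homOfLE hle).op.op := Subsingleton.elim _ _
        subst ha
        apply ModuleCat.hom_ext
        apply LinearMap.ext
        intro z
        change cls I (i + 1) S.X₁ j'.unop.unop (extδ S hS (Xk I j'.unop.unop) i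
          (Epre i (tr I hle) S.X₃ z)) = cls I (i + 1) S.X₁ j.unop.unop
            (extδ S hS (Xk I j.unop.unop) i z)
        rw [← extδ_naturality, cls_restrict] }

/-- The connecting homomorphism `H^i_I(S.X₃) ⟶ H^{i+1}_I(S.X₁)`. -/
noncomputable def Hδ : (localCohomology I i).obj S.X₃ ⟶ (localCohomology I (i + 1)).obj S.X₁ :=
  (evalIsColimit I i S.X₃).desc (δCocone I i S hS)

theorem Hδ_cls (k : ℕ) (z : E i (Xk I k) S.X₃) :
    Hδ I i S hS (cls I i S.X₃ k z) = cls I (i + 1) S.X₁ k (extδ S hS (Xk I k) i z) := by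
  have := (evalIsColimit I i S.X₃).fac (δCocone I i S hS) (op (op k))
  have h2 := congrArg (fun ψ => ψ.hom z) this
  exact h2

include hS in
theorem H_exact₂ (y : (localCohomology I i).obj S.X₂)
    (hy : (localCohomology I i).map S.g y = 0) :
    ∃ x : (localCohomology I i).obj S.X₁, (localCohomology I i).map S.f x = y := by
  obtain ⟨k, yk, rfl⟩ := exists_rep I i S.X₂ y
  rw [map_cls, cls_eq_zero_iff] at hy
  obtain ⟨m, hk, hm⟩ := hy
  rw [Epre_Emap] at hm
  obtain ⟨xm, hxm⟩ := ext_exact₂ S hS i _ hm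
  refine ⟨cls I i S.X₁ m xm, ?_⟩
  rw [map_cls, hxm, cls_restrict]

theorem H_exact₃ (z : (localCohomology I i).obj S.X₃) (hz : Hδ I i S hS z = 0) :
    ∃ y : (localCohomology I i).obj S.X₂, (localCohomology I i).map S.g y = z := by
  obtain ⟨k, zk, rfl⟩ := exists_rep I i S.X₃ z
  rw [Hδ_cls, cls_eq_zero_iff] at hz
  obtain ⟨m, hk, hm⟩ := hz
  rw [extδ_naturality] at hm
  obtain ⟨ym, hym⟩ := ext_exact₃ S hS _ i _ hm
  refine ⟨cls I i S.X₂ m ym, ?_⟩
  rw [map_cls, hym, cls_restrict]

theorem H_exact₁ (x : (localCohomology I (i + 1)).obj S.X₁)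
    (hx : (localCohomology I (i + 1)).map S.f x = 0) :
    ∃ z : (localCohomology I i).obj S.X₃, Hδ I i S hS z = x := by
  obtain ⟨k, xk, rfl⟩ := exists_rep I (i + 1) S.X₁ x
  rw [map_cls, cls_eq_zero_iff] at hx
  obtain ⟨m, hk, hm⟩ := hx
  rw [Epre_Emap] at hm
  obtain ⟨zm, hzm⟩ := ext_exact₁ S hS _ i _ hm
  refine ⟨cls I i S.X₃ m zm, ?_⟩
  rw [Hδ_cls]
  change cls I (i + 1) S.X₁ m (extδP S hS (ProjectiveResolution.of (Xk I m)) i zm) = _
  rw [hzm, cls_restrict]

include hS in
theorem H_map_g_map_f (x : (localCohomology I i).obj S.X₁) :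
    (localCohomology I i).map S.g ((localCohomology I i).map S.f x) = 0 := by
  obtain ⟨k, xk, rfl⟩ := exists_rep I i S.X₁ x
  rw [map_cls, map_cls, Emap_g_Emap_f S hS, map_zero]

theorem Hδ_map_g (y : (localCohomology I i).obj S.X₂) :
    Hδ I i S hS ((localCohomology I i).map S.g y) = 0 := by
  obtain ⟨k, yk, rfl⟩ := exists_rep I i S.X₂ y
  rw [map_cls, Hδ_cls]
  change cls I (i + 1) S.X₁ k (extδP S hS (ProjectiveResolution.of (Xk I k)) i _) = _
  rw [extδP_Emap_g, map_zero]

theorem H_map_f_Hδ (z : (localCohomology I i).obj S.X₃) :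
    (localCohomology I (i + 1)).map S.f (Hδ I i S hS z) = 0 := by
  obtain ⟨k, zk, rfl⟩ := exists_rep I i S.X₃ z
  rw [Hδ_cls, map_cls]
  change cls I (i + 1) S.X₂ k (Emap (i + 1) _ S.f
    (extδP S hS (ProjectiveResolution.of (Xk I k)) i zk)) = _
  rw [Emap_f_extδP, map_zero]

end LES

end Groth.Agent.Lib.Helper8.LC

namespace Groth.Agent.Lib.Helper8.LC

open Groth.Agent.Lib.Helper8.ExtLES

variable {R : Type u} [CommRing R] (I : Ideal R) (M : ModuleCat.{u} R)

/-- `H^{n+1}_I(E) = 0` for injective `E`. -/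
theorem H_succ_eq_zero_of_injective [Injective M] (n : ℕ) (x : (localCohomology I (n + 1)).obj M) :
    x = 0 := by
  obtain ⟨k, y, rfl⟩ := exists_rep I (n + 1) M x
  have : y = 0 := (ModuleCat.isZero_iff_subsingleton.mp
    (isZero_E_succ_of_injective (Xk I k) M n)).elim _ _
  rw [this, map_zero]

/-- inverse of `θ`. -/
noncomputable def θinv (X : ModuleCat.{u} R) : E 0 X M ⟶ ModuleCat.of R (X ⟶ M) := inv (θ X M)

theorem θinv_θ (X : ModuleCat.{u} R) (h : X ⟶ M) : θinv M X (θ X M h) = h := by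
  have := congrArg (fun φ => φ.hom h) (IsIso.hom_inv_id (θ X M))
  exact this

/-- evaluation at `1̄`. -/
noncomputable def evalOne (k : ℕ) : ModuleCat.of R (Xk I k ⟶ M) ⟶ M :=
  ModuleCat.ofHom
    { toFun := fun h => h.hom (Submodule.Quotient.mk 1)
      map_add' := fun _ _ => rfl
      map_smul' := fun _ _ => rfl }

theorem evalOne_apply (k : ℕ) (h : Xk I k ⟶ M) :
    evalOne I M k h = h.hom (Submodule.Quotient.mk 1) := rfl

/-- The cocone defining `Φ : H^0_I(M) → M`. -/
noncomputable def ΦCocone : Cocone (evalDiagram I 0 M) where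
  pt := M
  ι :=
    { app := fun j => θinv M (Xk I j.unop.unop) ≫ evalOne I M j.unop.unop
      naturality := by
        intro j j' a
        have hle : j.unop.unop ≤ j'.unop.unop := a.unop.unop.le
        have ha : a = (homOfLE hle).op.op := Subsingleton.elim _ _
        subst ha
        apply ModuleCat.hom_ext
        apply LinearMap.ext
        intro z
        obtain ⟨h, rfl⟩ := (θ_bijective (Xk I j.unop.unop) M).2 z
        change evalOne I M j'.unop.unop (θinv M (Xk I j'.unop.unop)
          (Epre 0 (tr I hle) M (θ (Xk I j.unop.unop) M h))) =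
          evalOne I M j.unop.unop (θinv M (Xk I j.unop.unop) (θ (Xk I j.unop.unop) M h))
        rw [Epre_θ, θinv_θ, θinv_θ]
        rfl }

noncomputable def Φ : (localCohomology I 0).obj M ⟶ M :=
  (evalIsColimit I 0 M).desc (ΦCocone I M)

theorem Φ_cls (k : ℕ) (h : Xk I k ⟶ M) :
    Φ I M (cls I 0 M k (θ (Xk I k) M h)) = h.hom (Submodule.Quotient.mk 1) := by
  have := (evalIsColimit I 0 M).fac (ΦCocone I M) (op (op k))
  have h2 := congrArg (fun ψ => ψ.hom (θ (Xk I k) M h)) this
  refine h2.trans ?_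
  change evalOne I M k (θinv M (Xk I k) (θ (Xk I k) M h)) = _
  rw [θinv_θ]
  rfl

theorem exists_rep₀ (x : (localCohomology I 0).obj M) :
    ∃ (k : ℕ) (h : Xk I k ⟶ M), cls I 0 M k (θ (Xk I k) M h) = x := by
  obtain ⟨k, y, rfl⟩ := exists_rep I 0 M x
  obtain ⟨h, rfl⟩ := (θ_bijective (Xk I k) M).2 y
  exact ⟨k, h, rfl⟩

theorem Φ_mem_torsionSub (x : (localCohomology I 0).obj M) :
    Φ I M x ∈ DRing.torsionSub I M := by
  obtain ⟨k, h, rfl⟩ := exists_rep₀ I M x
  rw [Φ_cls]
  refine ⟨k, fun a ha => ?_⟩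
  rw [← map_smul]
  have : a • (Submodule.Quotient.mk 1 : R ⧸ I ^ k) = 0 := by
    rw [← Submodule.Quotient.mk_smul, Submodule.Quotient.mk_eq_zero]
    simpa using ha
  rw [this, map_zero]

theorem Φ_injective : Function.Injective (Φ I M) := by
  rw [injective_iff_map_eq_zero]
  intro x hx
  obtain ⟨k, h, rfl⟩ := exists_rep₀ I M x
  rw [Φ_cls] at hx
  have h0 : h = 0 := by
    apply ModuleCat.hom_ext
    apply Submodule.linearMap_qext
    apply LinearMap.ext_ring
    exact hx
  rw [h0, map_zero, map_zero]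

theorem exists_Φ_eq (m : M) (hm : m ∈ DRing.torsionSub I M) :
    ∃ x : (localCohomology I 0).obj M, Φ I M x = m := by
  obtain ⟨k, hk⟩ := hm
  let h : Xk I k ⟶ M := ModuleCat.ofHom (Submodule.liftQ _ (LinearMap.toSpanSingleton R M m)
    (by
      intro a ha
      rw [LinearMap.mem_ker, LinearMap.toSpanSingleton_apply]
      exact hk a ha))
  refine ⟨cls I 0 M k (θ _ M h), ?_⟩
  rw [Φ_cls]
  change (Submodule.liftQ (I ^ k) (LinearMap.toSpanSingleton R (↑M) m) _)
    (Submodule.Quotient.mk 1) = m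
  rw [Submodule.liftQ_apply, LinearMap.toSpanSingleton_apply, one_smul]

variable {M} in
theorem Φ_naturality {N : ModuleCat.{u} R} (g : M ⟶ N) (x : (localCohomology I 0).obj M) :
    Φ I N ((localCohomology I 0).map g x) = g (Φ I M x) := by
  obtain ⟨k, h, rfl⟩ := exists_rep₀ I M x
  rw [map_cls, Emap_θ, Φ_cls, Φ_cls]
  rfl

end Groth.Agent.Lib.Helper8.LC
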