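import Mathlib
import Groth.Prelude.Def_DualLC
import Groth.Agent.Lib.Helper5DualFLB
import Groth.Agent.Lib.Helper8LC

/-! # Local cohomology of complexes `colim_k Hom_{D(A)}(A/I^k, K)` (helper14)

`F0 I K = colim_k Hom(A/I^k, K)`, so that `Dual2.HDI A I K i = F0 I (K⟦i⟧)` by `rfl`.
Functoriality, representatives, the zero criterion, and middle exactness on distinguished
triangles. -/

set_option autoImplicit false
set_option linter.unusedVariables false
set_option linter.unusedSectionVars false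
set_option linter.style.haveILetI false

universe u

open CategoryTheory CategoryTheory.Limits Opposite DerivedCategory Pretriangulated

attribute [local instance] HasDerivedCategory.standard

namespace Groth.Agent.Lib.Helper14.HDI

variable {A : Type u} [CommRing A] (I : Ideal A)

/-- `A/I^k` placed in degree `0` -/
noncomputable abbrev Nk (k : ℕ) : Dual.D A :=
  (singleFunctor (ModuleCat.{u} A) 0).obj (ModuleCat.of A (A ⧸ I ^ k))

/-- the diagram `k ↦ Hom(A/I^k, K)` -/
noncomputable abbrev Fd (K : Dual.D A) : ℕᵒᵖᵒᵖ ⥤ ModuleCat.{u + 1} A :=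
  (localCohomology.ringModIdeals (localCohomology.idealPowersDiagram I) ⋙
      singleFunctor (ModuleCat.{u} A) 0).op ⋙ (linearYoneda A (Dual.D A)).obj K

/-- `colim_k Hom(A/I^k, K)` -/
noncomputable abbrev F0 (K : Dual.D A) : ModuleCat.{u + 1} A := colimit (Fd I K)

lemma HDI_eq (K : Dual.D A) (i : ℤ) : Dual2.HDI A I K i = F0 I (K⟦i⟧) := rfl

lemma Fd_obj (K : Dual.D A) (k : ℕ) :
    (Fd I K).obj (op (op k)) = ModuleCat.of A (Nk I k ⟶ K) := rfl

/-- the transition maps `A/I^l → A/I^k` for `k ≤ l` -/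
noncomputable def trD {k l : ℕ} (h : k ≤ l) : Nk I l ⟶ Nk I k :=
  (singleFunctor (ModuleCat.{u} A) 0).map (Groth.Agent.Lib.Helper8.LC.tr I h)

lemma trD_refl (k : ℕ) : trD I (le_refl k) = 𝟙 _ := by
  unfold trD
  have : Groth.Agent.Lib.Helper8.LC.tr I (le_refl k) = 𝟙 _ := by
    apply ModuleCat.hom_ext
    apply LinearMap.ext
    intro x
    obtain ⟨a, rfl⟩ := Submodule.Quotient.mk_surjective _ x
    rfl
  rw [this, CategoryTheory.Functor.map_id]

lemma trD_trans {k l n : ℕ} (h : k ≤ l) (h' : l ≤ n) :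
    trD I h' ≫ trD I h = trD I (h.trans h') := by
  unfold trD
  rw [← Functor.map_comp]
  congr 1
  apply ModuleCat.hom_ext
  apply LinearMap.ext
  intro x
  obtain ⟨a, rfl⟩ := Submodule.Quotient.mk_surjective _ x
  rfl

lemma Fd_map (K : Dual.D A) {k l : ℕ} (h : k ≤ l) (x : Nk I k ⟶ K) :
    ((Fd I K).map (homOfLE h).op.op).hom x = trD I h ≫ x := rfl

variable (K : Dual.D A)

/-- the class of a map `A/I^k → K` -/
noncomputable def ι (k : ℕ) : (Nk I k ⟶ K) →ₗ[A] (F0 I K) :=
  (colimit.ι (Fd I K) (op (op k))).hom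

lemma ι_trans {k l : ℕ} (h : k ≤ l) (x : Nk I k ⟶ K) :
    ι I K l (trD I h ≫ x) = ι I K k x := by
  have := colimit.w (Fd I K) (homOfLE h).op.op
  exact congrArg (fun g => g.hom x) this

lemma exists_rep (z : F0 I K) : ∃ (k : ℕ) (x : Nk I k ⟶ K), ι I K k x = z := by
  obtain ⟨j, y, hy⟩ := Groth.Agent.Lib.Helper5.DualFL.exists_rep (Fd I K) z
  exact ⟨j.unop.unop, y, hy⟩


section Zero

/-- the directed system `k ↦ Hom(A/I^k, K)` -/
noncomputable def dsys (k l : ℕ) (h : k ≤ l) : (Nk I k ⟶ K) →ₗ[A] (Nk I l ⟶ K) :=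
  Linear.leftComp A K (trD I h)

lemma dsys_apply {k l : ℕ} (h : k ≤ l) (x : Nk I k ⟶ K) : dsys I K k l h x = trD I h ≫ x := rfl

instance : DirectedSystem (fun k : ℕ => (Nk I k ⟶ K)) (fun k l h => dsys I K k l h) where
  map_self k x := by
    show trD I (le_refl k) ≫ x = x
    rw [trD_refl, Category.id_comp]
  map_map k l n h h' x := by
    show trD I h' ≫ trD I h ≫ x = trD I (h.trans h') ≫ x
    rw [← Category.assoc, trD_trans]

/-- the cocone with point the module-theoretic direct limit -/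
noncomputable def dlCocone : Cocone (Fd I K) where
  pt := ModuleCat.of A (Module.DirectLimit (fun k : ℕ => (Nk I k ⟶ K)) (dsys I K))
  ι :=
    { app := fun j => ModuleCat.ofHom
        (Module.DirectLimit.of A ℕ (fun k : ℕ => (Nk I k ⟶ K)) (dsys I K) j.unop.unop)
      naturality := by
        intro j j' a
        have hle : j.unop.unop ≤ j'.unop.unop := a.unop.unop.le
        have ha : a = (homOfLE hle).op.op := Subsingleton.elim _ _
        subst ha
        apply ModuleCat.hom_ext
        apply LinearMap.ext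
        intro x
        exact Module.DirectLimit.of_f (R := A) (ι := ℕ) (G := fun k : ℕ => (Nk I k ⟶ K))
          (f := dsys I K) (i := j.unop.unop) (j := j'.unop.unop) (hij := hle) (x := x) }

lemma ι_eq_zero_iff {k : ℕ} (x : Nk I k ⟶ K) :
    ι I K k x = 0 ↔ ∃ (l : ℕ) (h : k ≤ l), trD I h ≫ x = 0 := by
  constructor
  · intro h
    have h1 := congrArg (colimit.desc (Fd I K) (dlCocone I K)).hom h
    rw [map_zero] at h1
    have h2 : (colimit.desc (Fd I K) (dlCocone I K)).hom (ι I K k x) =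
        Module.DirectLimit.of A ℕ (fun k : ℕ => (Nk I k ⟶ K)) (dsys I K) k x := by
      have := colimit.ι_desc (dlCocone I K) (op (op k))
      exact congrArg (fun g => g.hom x) this
    rw [h2] at h1
    obtain ⟨l, hl, h3⟩ := Module.DirectLimit.of.zero_exact h1
    exact ⟨l, hl, h3⟩
  · rintro ⟨l, h, hx⟩
    rw [← ι_trans I K h, hx, map_zero]

end Zero

section Functoriality

variable {K} {L : Dual.D A}

/-- functoriality of `F0` in the complex -/
noncomputable def F0map (g : K ⟶ L) : F0 I K ⟶ F0 I L :=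
  colimMap (Functor.whiskerLeft _ ((linearYoneda A (Dual.D A)).map g))

lemma F0map_ι (g : K ⟶ L) (k : ℕ) (x : Nk I k ⟶ K) :
    (F0map I g).hom (ι I K k x) = ι I L k (x ≫ g) := by
  have := ι_colimMap (Functor.whiskerLeft
    (localCohomology.ringModIdeals (localCohomology.idealPowersDiagram I) ⋙
      singleFunctor (ModuleCat.{u} A) 0).op ((linearYoneda A (Dual.D A)).map g)) (op (op k))
  exact congrArg (fun φ => φ.hom x) this

lemma F0map_id (z : F0 I K) : (F0map I (𝟙 K)).hom z = z := by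
  obtain ⟨k, x, rfl⟩ := exists_rep I K z
  rw [F0map_ι, Category.comp_id]

lemma F0map_comp {L' : Dual.D A} (g : K ⟶ L) (g' : L ⟶ L') (z : F0 I K) :
    (F0map I (g ≫ g')).hom z = (F0map I g').hom ((F0map I g).hom z) := by
  obtain ⟨k, x, rfl⟩ := exists_rep I K z
  rw [F0map_ι, F0map_ι, F0map_ι, Category.assoc]

lemma F0map_zero (z : F0 I K) : (F0map I (0 : K ⟶ L)).hom z = 0 := by
  obtain ⟨k, x, rfl⟩ := exists_rep I K z
  rw [F0map_ι, comp_zero, map_zero]

lemma F0map_smul (a : A) (z : F0 I K) : (F0map I (a • 𝟙 K)).hom z = a • z := by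
  obtain ⟨k, x, rfl⟩ := exists_rep I K z
  rw [F0map_ι, Linear.comp_smul, Category.comp_id, map_smul]

lemma F0map_iso_bijective (e : K ≅ L) : Function.Bijective (F0map I e.hom).hom := by
  refine Function.bijective_iff_has_inverse.mpr ⟨(F0map I e.inv).hom, fun z => ?_, fun z => ?_⟩
  · rw [← F0map_comp, e.hom_inv_id, F0map_id]
  · rw [← F0map_comp, e.inv_hom_id, F0map_id]

lemma subsingleton_F0_of_isZero (hK : IsZero K) : Subsingleton (F0 I K) := by
  refine ⟨fun z z' => ?_⟩
  obtain ⟨k, x, rfl⟩ := exists_rep I K z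
  obtain ⟨k', x', rfl⟩ := exists_rep I K z'
  rw [hK.eq_of_tgt x 0, hK.eq_of_tgt x' 0, map_zero, map_zero]

end Functoriality

section Exact

/-- middle exactness of `F0` on distinguished triangles -/
theorem F0_exact (T : Triangle (Dual.D A)) (hT : T ∈ distTriang (Dual.D A))
    (z : F0 I T.obj₂) (hz : (F0map I T.mor₂).hom z = 0) :
    ∃ y : F0 I T.obj₁, (F0map I T.mor₁).hom y = z := by
  obtain ⟨k, x, rfl⟩ := exists_rep I _ z
  rw [F0map_ι, ι_eq_zero_iff] at hz
  obtain ⟨l, h, hx⟩ := hz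
  rw [← Category.assoc] at hx
  obtain ⟨g, hg⟩ := Triangle.coyoneda_exact₂ T hT (trD I h ≫ x) hx
  refine ⟨ι I _ l g, ?_⟩
  rw [F0map_ι, ← hg, ι_trans]

theorem F0_comp_zero (T : Triangle (Dual.D A)) (hT : T ∈ distTriang (Dual.D A))
    (y : F0 I T.obj₁) : (F0map I T.mor₂).hom ((F0map I T.mor₁).hom y) = 0 := by
  rw [← F0map_comp, comp_distTriang_mor_zero₁₂ T hT, F0map_zero]

end Exact

end Groth.Agent.Lib.Helper14.HDI
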