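import Groth.Agent.Lib.Helper8BridgeT3

set_option autoImplicit false
universe u
open CategoryTheory CategoryTheory.Limits Opposite

namespace Groth.Agent.Lib.Helper8.Bridge
open Groth.Agent.Lib.Helper8.ExtLES
open CategoryTheory.Abelian

variable {R : Type u} [CommRing R]

/-- The canonical comparison between the old `Ext` functor and `Abelian.Ext`. -/
noncomputable def Ψ (n : ℕ) (X Y : ModuleCat.{u} R) : E n X Y ≃ₗ[R] Ext.{u} X Y n :=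
  ΨPL (ProjectiveResolution.of X) Y n

theorem Ψ_Emap (n : ℕ) (X : ModuleCat.{u} R) {Y Y' : ModuleCat.{u} R} (g : Y ⟶ Y') (e : E n X Y) :
    Ψ n X Y' ((Emap n X g).hom e) = (Ψ n X Y e).comp (Ext.mk₀ g) (add_zero n) :=
  ΨP_Emap (ProjectiveResolution.of X) n g e

theorem Ψ_Epre (n : ℕ) {X X' : ModuleCat.{u} R} (φ : X' ⟶ X) (Y : ModuleCat.{u} R) (e : E n X Y) :
    Ψ n X' Y ((Epre n φ Y).hom e) = (Ext.mk₀ φ).comp (Ψ n X Y e) (zero_add n) :=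
  ΨP_Epre (ProjectiveResolution.of X) Y n (ProjectiveResolution.of X')
    ⟨ProjectiveResolution.lift φ _ _, by
      simpa using ProjectiveResolution.lift_commutes_zero φ (ProjectiveResolution.of X')
        (ProjectiveResolution.of X)⟩ e

theorem subsingleton_E_iff (n : ℕ) (X Y : ModuleCat.{u} R) :
    Subsingleton (E n X Y) ↔ Subsingleton (Ext.{u} X Y n) :=
  (Ψ n X Y).toEquiv.subsingleton_congr

section LES

variable (S : ShortComplex (ModuleCat.{u} R)) (hS : S.ShortExact) (Y : ModuleCat.{u} R) (n : ℕ)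

/-- The connecting homomorphism in the first variable. -/
noncomputable def preδ : E n S.X₁ Y →ₗ[R] E (n + 1) S.X₃ Y :=
  (Ψ (n + 1) S.X₃ Y).symm.toLinearMap ∘ₗ
    (Ext.precompOfLinear hS.extClass R Y (Nat.add_comm 1 n)) ∘ₗ (Ψ n S.X₁ Y).toLinearMap

lemma Ψ_preδ (x : E n S.X₁ Y) :
    Ψ (n + 1) S.X₃ Y (preδ S hS Y n x) = hS.extClass.comp (Ψ n S.X₁ Y x) (Nat.add_comm 1 n) := by
  simp [preδ]

theorem pre_exact₁ (x₁ : E n S.X₁ Y) (h : preδ S hS Y n x₁ = 0) :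
    ∃ x₂ : E n S.X₂ Y, (Epre n S.f Y).hom x₂ = x₁ := by
  have h' : hS.extClass.comp (Ψ n S.X₁ Y x₁) (Nat.add_comm 1 n) = 0 := by
    rw [← Ψ_preδ, h, map_zero]
  obtain ⟨y, hy⟩ := Ext.contravariant_sequence_exact₁ hS Y (Ψ n S.X₁ Y x₁) (Nat.add_comm 1 n) h'
  refine ⟨(Ψ n S.X₂ Y).symm y, (Ψ n S.X₁ Y).injective ?_⟩
  rw [Ψ_Epre, LinearEquiv.apply_symm_apply, hy]

include hS in
theorem pre_exact₂ (x₂ : E n S.X₂ Y) (h : (Epre n S.f Y).hom x₂ = 0) :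
    ∃ x₃ : E n S.X₃ Y, (Epre n S.g Y).hom x₃ = x₂ := by
  have h' : (Ext.mk₀ S.f).comp (Ψ n S.X₂ Y x₂) (zero_add n) = 0 := by
    rw [← Ψ_Epre, h, map_zero]
  obtain ⟨y, hy⟩ := Ext.contravariant_sequence_exact₂ hS Y (Ψ n S.X₂ Y x₂) h'
  refine ⟨(Ψ n S.X₃ Y).symm y, (Ψ n S.X₂ Y).injective ?_⟩
  rw [Ψ_Epre, LinearEquiv.apply_symm_apply, hy]

theorem pre_exact₃ (x₃ : E (n + 1) S.X₃ Y) (h : (Epre (n + 1) S.g Y).hom x₃ = 0) :
    ∃ x₁ : E n S.X₁ Y, preδ S hS Y n x₁ = x₃ := by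
  have h' : (Ext.mk₀ S.g).comp (Ψ (n + 1) S.X₃ Y x₃) (zero_add (n + 1)) = 0 := by
    rw [← Ψ_Epre, h, map_zero]
  obtain ⟨y, hy⟩ := Ext.contravariant_sequence_exact₃ hS Y (Ψ (n + 1) S.X₃ Y x₃) h'
    (Nat.add_comm 1 n)
  refine ⟨(Ψ n S.X₁ Y).symm y, (Ψ (n + 1) S.X₃ Y).injective ?_⟩
  rw [Ψ_preδ, LinearEquiv.apply_symm_apply, hy]

omit hS in
theorem Epre_f_Epre_g (x₃ : E n S.X₃ Y) : (Epre n S.f Y).hom ((Epre n S.g Y).hom x₃) = 0 := by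
  apply (Ψ n S.X₁ Y).injective
  rw [Ψ_Epre, Ψ_Epre, map_zero, ← Ext.comp_assoc_of_second_deg_zero, Ext.mk₀_comp_mk₀, S.zero,
    Ext.mk₀_zero, Ext.zero_comp]

theorem preδ_Epre_f (x₂ : E n S.X₂ Y) : preδ S hS Y n ((Epre n S.f Y).hom x₂) = 0 := by
  apply (Ψ (n + 1) S.X₃ Y).injective
  rw [Ψ_preδ, Ψ_Epre, map_zero, ← Ext.comp_assoc_of_second_deg_zero, hS.extClass_comp,
    Ext.zero_comp]

theorem Epre_g_preδ (x₁ : E n S.X₁ Y) : (Epre (n + 1) S.g Y).hom (preδ S hS Y n x₁) = 0 := by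
  apply (Ψ (n + 1) S.X₂ Y).injective
  rw [Ψ_Epre, Ψ_preδ, map_zero]
  have h := Ext.comp_assoc (Ext.mk₀ S.g) hS.extClass (Ψ n S.X₁ Y x₁) (zero_add 1)
    (Nat.add_comm 1 n) (a := n + 1) (by omega)
  rw [← h, hS.comp_extClass, Ext.zero_comp]

theorem Emap_preδ {Y' : ModuleCat.{u} R} (g : Y ⟶ Y') (x₁ : E n S.X₁ Y) :
    (Emap (n + 1) S.X₃ g).hom (preδ S hS Y n x₁) = preδ S hS Y' n ((Emap n S.X₁ g).hom x₁) := by
  apply (Ψ (n + 1) S.X₃ Y').injective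
  rw [Ψ_Emap, Ψ_preδ, Ψ_preδ, Ψ_Emap, Ext.comp_assoc_of_third_deg_zero]

end LES

end Groth.Agent.Lib.Helper8.Bridge
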