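import Mathlib
import Groth.Agent.Lib.Helper14HDIA
import Groth.Agent.Lib.Helper1Devissage
import Groth.Agent.Lib.Helper8BridgeT4

/-! # Annihilation of `colim_k Hom(A/I^k, K)` by dévissage, and comparison with local cohomology
of modules (helper14) -/

set_option autoImplicit false
set_option linter.unusedVariables false
set_option linter.unusedSectionVars false
set_option linter.style.haveILetI false

universe u

open CategoryTheory CategoryTheory.Limits Opposite CategoryTheory.Abelian DerivedCategory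
  Pretriangulated

attribute [local instance] HasDerivedCategory.standard

namespace Groth.Agent.Lib.Helper14.HDI

open Groth.Agent.Lib.Helper8.ExtLES Groth.Agent.Lib.Helper8.LC Groth.Agent.Lib.Helper8.Bridge

variable {A : Type u} [CommRing A] (I : Ideal A)

section Ann

/-- some power of `f` kills `F0 I` of all shifts of `K` -/
def KilledBy (f : A) (K : Dual.D A) : Prop :=
  ∃ N : ℕ, ∀ (n : ℤ) (z : F0 I (K⟦n⟧)), f ^ N • z = 0

lemma F0map_smul_apply {K L : Dual.D A} (g : K ⟶ L) (a : A) (z : F0 I K) :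
    (F0map I g).hom (a • z) = a • (F0map I g).hom z := map_smul _ _ _

theorem killedBy_of_iso (f : A) {K L : Dual.D A} (e : K ≅ L) (h : KilledBy I f K) :
    KilledBy I f L := by
  obtain ⟨N, hN⟩ := h
  refine ⟨N, fun n z => ?_⟩
  obtain ⟨y, rfl⟩ := (F0map_iso_bijective I ((shiftFunctor (Dual.D A) n).mapIso e)).2 z
  rw [← F0map_smul_apply, hN, map_zero]

theorem killedBy_of_isZero (f : A) {K : Dual.D A} (hK : IsZero K) : KilledBy I f K := by
  refine ⟨0, fun n z => ?_⟩
  haveI := subsingleton_F0_of_isZero I ((shiftFunctor (Dual.D A) n).map_isZero hK)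
  exact Subsingleton.elim _ _

lemma killed_step (f : A) (S : Triangle (Dual.D A)) (hS : S ∈ distTriang (Dual.D A))
    (N1 N3 : ℕ) (h1 : ∀ y : F0 I S.obj₁, f ^ N1 • y = 0) (h3 : ∀ y : F0 I S.obj₃, f ^ N3 • y = 0)
    (z : F0 I S.obj₂) : f ^ (N1 + N3) • z = 0 := by
  have hz : (F0map I S.mor₂).hom (f ^ N3 • z) = 0 := by
    rw [F0map_smul_apply]
    exact h3 _
  obtain ⟨y, hy⟩ := F0_exact I S hS (f ^ N3 • z) hz
  rw [pow_add, mul_smul, ← hy, ← F0map_smul_apply, h1 y, map_zero]

theorem killedBy_ext (f : A) (T : Triangle (Dual.D A)) (hT : T ∈ distTriang (Dual.D A))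
    (h1 : KilledBy I f T.obj₁) (h3 : KilledBy I f T.obj₃) : KilledBy I f T.obj₂ := by
  obtain ⟨N1, hN1⟩ := h1
  obtain ⟨N3, hN3⟩ := h3
  refine ⟨N1 + N3, fun n z => ?_⟩
  have hTn := Triangle.shift_distinguished T hT n
  exact killed_step I f _ hTn N1 N3 (hN1 n) (hN3 n) z

theorem killedBy_single (f : A) (N' : ModuleCat.{u} A) (hf : ∀ x : N', f • x = 0) (j : ℤ) :
    KilledBy I f ((singleFunctor (ModuleCat.{u} A) j).obj N') := by
  refine ⟨1, fun n z => ?_⟩
  rw [pow_one, ← F0map_smul]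
  have h0 : f • 𝟙 (((singleFunctor (ModuleCat.{u} A) j).obj N')⟦n⟧) = 0 := by
    have h1 : f • 𝟙 N' = 0 := by
      apply ModuleCat.hom_ext
      apply LinearMap.ext
      intro x
      exact hf x
    have h2 : f • 𝟙 ((singleFunctor (ModuleCat.{u} A) j).obj N') = 0 := by
      rw [← CategoryTheory.Functor.map_id, ← Functor.map_smul, h1, Functor.map_zero]
    rw [← CategoryTheory.Functor.map_id, ← Functor.map_smul, h2, Functor.map_zero]
  rw [h0, F0map_zero]

/-- dévissage: if `f` kills all cohomology modules of a bounded `K`, a power of `f` kills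
`F0 I (K⟦n⟧)` for all `n`. -/
theorem killedBy_of_bounded (f : A) (K : Dual.D A) (a b : ℤ)
    (hK : ∀ i : ℤ, (i < a ∨ b < i) → IsZero ((homologyFunctor (ModuleCat.{u} A) i).obj K))
    (hf : ∀ (j : ℤ) (x : (homologyFunctor (ModuleCat.{u} A) j).obj K), f • x = 0) :
    KilledBy I f K := by
  let P : ObjectProperty (Dual.D A) := fun K => KilledBy I f K
  haveI : P.IsClosedUnderIsomorphisms := ⟨fun e h => killedBy_of_iso I f e h⟩
  exact Groth.Agent.Lib.Helper1.Devissage.induction_homology' P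
    (fun K hK => killedBy_of_isZero I f hK)
    (fun T hT h1 h3 => killedBy_ext I f T hT h1 h3) K a b hK
    (fun j _ _ => killedBy_single I f _ (hf j) j)

end Ann

section Compare

variable (i : ℕ) (N : ModuleCat.{u} A)

/-- `A`-module in degree `0` -/
noncomputable abbrev sg' (M : ModuleCat.{u} A) : Dual.D A :=
  (singleFunctor (ModuleCat.{u} A) 0).obj M

lemma Ψ_hom_Epre' {k l : ℕ} (h : k ≤ l) (x : E i (Xk I k) N) :
    (Ψ i (Xk I l) N ((Epre i (tr I h) N).hom x)).hom = trD I h ≫ (Ψ i (Xk I k) N x).hom := by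
  rw [Ψ_Epre, Ext.comp_hom, Ext.mk₀_hom, ShiftedHom.mk₀_comp]
  rfl

/-- an element of `A` killing `colim Hom(A/I^k, N[i])` kills `H^i_I(N)` -/
theorem smul_H_eq_zero (a : A) (h : ∀ z : F0 I ((sg' N)⟦(i : ℤ)⟧), a • z = 0)
    (z : (localCohomology I i).obj N) : a • z = 0 := by
  obtain ⟨k, x, rfl⟩ := Groth.Agent.Lib.Helper8.LC.exists_rep I i N z
  have h1 := h (ι I _ k ((Ψ i (Xk I k) N x).hom))
  rw [← map_smul, ← Ext.smul_hom, ← map_smul, ι_eq_zero_iff] at h1
  obtain ⟨l, hl, h2⟩ := h1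
  rw [← Ψ_hom_Epre'] at h2
  have h3 : Ψ i (Xk I l) N ((Epre i (tr I hl) N).hom (a • x)) = 0 := by
    apply Ext.ext
    rw [h2]
    exact (Ext.zero_hom (X := Xk I l) (Y := N) (n := i)).symm
  have h4 : (Epre i (tr I hl) N).hom (a • x) = 0 := by
    have := congrArg (Ψ i (Xk I l) N).symm h3
    rwa [LinearEquiv.symm_apply_apply, map_zero] at this
  have h5 : cls I i N k (a • x) = 0 := (cls_eq_zero_iff I i N (a • x)).mpr ⟨l, hl, h4⟩
  have h6 : (cls I i N k).hom (a • x) = a • (cls I i N k).hom x := map_smul _ _ _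
  exact h6.symm.trans h5

end Compare

end Groth.Agent.Lib.Helper14.HDI
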