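import Mathlib
import Groth.Prelude.Def_DualLC

/-! # Local cohomology of complexes with supports in a specialization-closed subset (helper14)

`FT T K = colim_{V(J) ⊆ T} Hom_{D(A)}(A/J, K)`, so that `Dual2.HDT A T K i = FT T (K⟦i⟧)` by `rfl`.
Functoriality, representatives, the zero criterion, and middle exactness on distinguished
triangles. -/

set_option autoImplicit false
set_option linter.unusedVariables false
set_option linter.unusedSectionVars false
set_option linter.style.haveILetI false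

universe u

open CategoryTheory CategoryTheory.Limits Opposite DerivedCategory Pretriangulated

attribute [local instance] HasDerivedCategory.standard

namespace Groth.Agent.Lib.Helper14.HDT

variable {A : Type u} [CommRing A]

/-- `A/J` placed in degree `0` -/
noncomputable abbrev NJ (J : Ideal A) : Dual.D A :=
  (singleFunctor (ModuleCat.{u} A) 0).obj (ModuleCat.of A (A ⧸ J))

/-- the quotient map `A/J' → A/J` for `J' ≤ J` -/
noncomputable def qM {J' J : Ideal A} (h : J' ≤ J) :
    ModuleCat.of A (A ⧸ J') ⟶ ModuleCat.of A (A ⧸ J) :=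
  ModuleCat.ofHom (Submodule.mapQ J' J LinearMap.id (by simpa using h))

lemma qM_mk {J' J : Ideal A} (h : J' ≤ J) (a : A) :
    (qM h).hom (Submodule.Quotient.mk a) = Submodule.Quotient.mk a := rfl

lemma qM_refl (J : Ideal A) : qM (le_refl J) = 𝟙 _ := by
  apply ModuleCat.hom_ext
  apply LinearMap.ext
  intro x
  obtain ⟨a, rfl⟩ := Submodule.Quotient.mk_surjective _ x
  rfl

lemma qM_trans {J'' J' J : Ideal A} (h' : J'' ≤ J') (h : J' ≤ J) :
    qM h' ≫ qM h = qM (h'.trans h) := by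
  apply ModuleCat.hom_ext
  apply LinearMap.ext
  intro x
  obtain ⟨a, rfl⟩ := Submodule.Quotient.mk_surjective _ x
  rfl

/-- the quotient map `A/J' → A/J` in the derived category -/
noncomputable def qD {J' J : Ideal A} (h : J' ≤ J) : NJ J' ⟶ NJ J :=
  (singleFunctor (ModuleCat.{u} A) 0).map (qM h)

lemma qD_refl (J : Ideal A) : qD (le_refl J) = 𝟙 _ := by
  unfold qD
  rw [qM_refl, CategoryTheory.Functor.map_id]

lemma qD_trans {J'' J' J : Ideal A} (h' : J'' ≤ J') (h : J' ≤ J) :
    qD h' ≫ qD h = qD (h'.trans h) := by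
  unfold qD
  rw [← Functor.map_comp, qM_trans]

variable (T : Set (PrimeSpectrum A))

/-- constructor for objects of `IdealsIn T` -/
def mkI (J : Ideal A) (h : PrimeSpectrum.zeroLocus (J : Set A) ⊆ T) : Dual2.IdealsIn T := ⟨J, h⟩

/-- constructor for morphisms of `IdealsIn T` -/
def homI {X Y : Dual2.IdealsIn T} (h : X.obj ≤ Y.obj) : X ⟶ Y :=
  ObjectProperty.homMk (homOfLE h)

lemma le_of_homI {X Y : Dual2.IdealsIn T} (f : X ⟶ Y) : X.obj ≤ Y.obj := f.hom.le

instance (X Y : Dual2.IdealsIn T) : Subsingleton (X ⟶ Y) :=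
  ⟨fun f g => ObjectProperty.hom_ext _ (Subsingleton.elim _ _)⟩

lemma zeroLocus_inf_subset {J J' : Ideal A} (h : PrimeSpectrum.zeroLocus (J : Set A) ⊆ T)
    (h' : PrimeSpectrum.zeroLocus (J' : Set A) ⊆ T) :
    PrimeSpectrum.zeroLocus ((J ⊓ J' : Ideal A) : Set A) ⊆ T := by
  rw [PrimeSpectrum.zeroLocus_inf]
  exact Set.union_subset h h'

lemma zeroLocus_mul_subset {J J' : Ideal A} (h : PrimeSpectrum.zeroLocus (J : Set A) ⊆ T)
    (h' : PrimeSpectrum.zeroLocus (J' : Set A) ⊆ T) :
    PrimeSpectrum.zeroLocus ((J * J' : Ideal A) : Set A) ⊆ T := by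
  rw [PrimeSpectrum.zeroLocus_mul]
  exact Set.union_subset h h'

lemma zeroLocus_top_subset : PrimeSpectrum.zeroLocus ((⊤ : Ideal A) : Set A) ⊆ T := by
  rw [PrimeSpectrum.zeroLocus_empty_iff_eq_top.mpr rfl]
  exact Set.empty_subset _

instance : IsCofiltered (Dual2.IdealsIn T) where
  cone_objs X Y := ⟨mkI T (X.obj ⊓ Y.obj) (zeroLocus_inf_subset T X.property Y.property),
    homI T inf_le_left, homI T inf_le_right, trivial⟩
  cone_maps X Y f g := ⟨X, 𝟙 X, Subsingleton.elim _ _⟩
  nonempty := ⟨mkI T ⊤ (zeroLocus_top_subset T)⟩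

/-- the diagram `J ↦ Hom(A/J, K)` -/
noncomputable abbrev Fd (K : Dual.D A) : (Dual2.IdealsIn T)ᵒᵖ ⥤ ModuleCat.{u + 1} A :=
  (localCohomology.ringModIdeals (Dual2.idealsInDiagram T) ⋙
      singleFunctor (ModuleCat.{u} A) 0).op ⋙ (linearYoneda A (Dual.D A)).obj K

/-- `colim_J Hom(A/J, K)` -/
noncomputable abbrev FT (K : Dual.D A) : ModuleCat.{u + 1} A := colimit (Fd T K)

lemma HDT_eq (K : Dual.D A) (i : ℤ) : Dual2.HDT A T K i = FT T (K⟦i⟧) := rfl

lemma Fd_obj (K : Dual.D A) (X : Dual2.IdealsIn T) :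
    (Fd T K).obj (op X) = ModuleCat.of A (NJ X.obj ⟶ K) := rfl

lemma Fd_map (K : Dual.D A) {X Y : Dual2.IdealsIn T} (h : X.obj ≤ Y.obj) (x : NJ Y.obj ⟶ K) :
    ((Fd T K).map (homI T h).op).hom x = qD h ≫ x := rfl

variable (K : Dual.D A)

/-- the class of a map `A/J → K` -/
noncomputable def ι (X : Dual2.IdealsIn T) : (NJ X.obj ⟶ K) →ₗ[A] (FT T K) :=
  (colimit.ι (Fd T K) (op X)).hom

lemma ι_trans {X Y : Dual2.IdealsIn T} (h : X.obj ≤ Y.obj) (x : NJ Y.obj ⟶ K) :
    ι T K X (qD h ≫ x) = ι T K Y x := by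
  have := colimit.w (Fd T K) (homI T h).op
  exact congrArg (fun g => g.hom x) this

section Rep

universe v v' w

variable {J : Type v} [Category.{v'} J] (F : J ⥤ ModuleCat.{w} A) [HasColimit F]

lemma ι_map_apply {j k : J} (f : j ⟶ k) (y : F.obj j) :
    (colimit.ι F k).hom ((F.map f).hom y) = (colimit.ι F j).hom y := by
  have h := congrArg (fun g => g.hom y) (colimit.w F f)
  exact h

/-- every element of a filtered colimit of modules comes from some stage -/
lemma exists_rep_gen [IsFiltered J] (x : ((colimit F : ModuleCat.{w} A) : Type w)) :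
    ∃ (j : J) (y : F.obj j), (colimit.ι F j).hom y = x := by
  let U : Submodule A ((colimit F : ModuleCat.{w} A) : Type w) :=
    { carrier := {x | ∃ (j : J) (y : F.obj j), (colimit.ι F j).hom y = x}
      add_mem' := by
        rintro _ _ ⟨j, y, rfl⟩ ⟨j', y', rfl⟩
        refine ⟨IsFiltered.max j j', (F.map (IsFiltered.leftToMax j j')).hom y +
          (F.map (IsFiltered.rightToMax j j')).hom y', ?_⟩
        rw [map_add, ι_map_apply, ι_map_apply]
      zero_mem' := ⟨(IsFiltered.nonempty : Nonempty J).some, 0, map_zero _⟩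
      smul_mem' := by
        rintro a _ ⟨j, y, rfl⟩
        exact ⟨j, a • y, map_smul _ _ _⟩ }
  have hU : U = ⊤ := by
    let q : colimit F ⟶ ModuleCat.of A (((colimit F : ModuleCat.{w} A) : Type w) ⧸ U) :=
      ModuleCat.ofHom U.mkQ
    have hq : q = 0 := by
      apply colimit.hom_ext
      intro j
      rw [comp_zero]
      refine ModuleCat.hom_ext (LinearMap.ext fun y => ?_)
      show U.mkQ ((colimit.ι F j).hom y) = 0
      exact (Submodule.Quotient.mk_eq_zero U).mpr ⟨j, y, rfl⟩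
    rw [eq_top_iff]
    intro x _
    have h1 : U.mkQ x = 0 := congrArg (fun g => g.hom x) hq
    exact (Submodule.Quotient.mk_eq_zero U).mp h1
  have hx : x ∈ U := hU ▸ Submodule.mem_top
  exact hx

end Rep

lemma exists_rep (z : FT T K) : ∃ (X : Dual2.IdealsIn T) (x : NJ X.obj ⟶ K), ι T K X x = z := by
  obtain ⟨j, y, hy⟩ := exists_rep_gen (Fd T K) z
  exact ⟨j.unop, y, hy⟩

section Zero

/-- the index type with the reversed order -/
structure Idx where
  /-- the ideal -/
  J : Ideal A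
  /-- its zero locus lies in `T` -/
  h : PrimeSpectrum.zeroLocus (J : Set A) ⊆ T

instance : Preorder (Idx T) where
  le X Y := Y.J ≤ X.J
  le_refl X := le_refl X.J
  le_trans X Y Z h h' := le_trans (α := Ideal A) h' h

instance : IsDirected (Idx T) (· ≤ ·) :=
  ⟨fun X Y => ⟨⟨X.J ⊓ Y.J, zeroLocus_inf_subset T X.h Y.h⟩,
    (inf_le_left : X.J ⊓ Y.J ≤ X.J), (inf_le_right : X.J ⊓ Y.J ≤ Y.J)⟩⟩

instance : Nonempty (Idx T) := ⟨⟨⊤, zeroLocus_top_subset T⟩⟩

noncomputable instance : DecidableEq (Idx T) := Classical.decEq _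

/-- the directed system `J ↦ Hom(A/J, K)` -/
noncomputable def dsys (X Y : Idx T) (h : X ≤ Y) : (NJ X.J ⟶ K) →ₗ[A] (NJ Y.J ⟶ K) :=
  Linear.leftComp A K (qD (show Y.J ≤ X.J from h))

lemma dsys_apply {X Y : Idx T} (h : X ≤ Y) (x : NJ X.J ⟶ K) :
    dsys T K X Y h x = qD (show Y.J ≤ X.J from h) ≫ x := rfl

instance : DirectedSystem (fun X : Idx T => (NJ X.J ⟶ K)) (fun X Y h => dsys T K X Y h) where
  map_self X x := by
    show qD (le_refl X.J) ≫ x = x
    rw [qD_refl, Category.id_comp]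
  map_map := by
    intro Z Y X h h' x
    show qD (show Z.J ≤ Y.J from h') ≫ qD (show Y.J ≤ X.J from h) ≫ x = qD _ ≫ x
    rw [← Category.assoc, qD_trans]

/-- the index of an object of `IdealsIn T` -/
def toIdx (X : Dual2.IdealsIn T) : Idx T := ⟨X.obj, X.property⟩

/-- the cocone with point the module-theoretic direct limit -/
noncomputable def dlCocone : Cocone (Fd T K) where
  pt := ModuleCat.of A (Module.DirectLimit (fun X : Idx T => (NJ X.J ⟶ K)) (dsys T K))
  ι :=
    { app := fun j => ModuleCat.ofHom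
        (Module.DirectLimit.of A (Idx T) (fun X : Idx T => (NJ X.J ⟶ K)) (dsys T K)
          (toIdx T j.unop))
      naturality := by
        intro j j' a
        have hle : j'.unop.obj ≤ j.unop.obj := le_of_homI T a.unop
        have ha : a = (homI T hle).op := Subsingleton.elim _ _
        subst ha
        apply ModuleCat.hom_ext
        apply LinearMap.ext
        intro x
        exact Module.DirectLimit.of_f (R := A) (ι := Idx T) (G := fun X : Idx T => (NJ X.J ⟶ K))
          (f := dsys T K) (i := toIdx T j.unop) (j := toIdx T j'.unop) (hij := hle) (x := x) }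

lemma ι_eq_zero_iff {X : Dual2.IdealsIn T} (x : NJ X.obj ⟶ K) :
    ι T K X x = 0 ↔ ∃ (Y : Dual2.IdealsIn T) (h : Y.obj ≤ X.obj), qD h ≫ x = 0 := by
  constructor
  · intro h
    have h1 := congrArg (colimit.desc (Fd T K) (dlCocone T K)).hom h
    rw [map_zero] at h1
    have h2 : (colimit.desc (Fd T K) (dlCocone T K)).hom (ι T K X x) =
        Module.DirectLimit.of A (Idx T) (fun X : Idx T => (NJ X.J ⟶ K)) (dsys T K)
          (toIdx T X) x := by
      have := colimit.ι_desc (dlCocone T K) (op X)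
      exact congrArg (fun g => g.hom x) this
    rw [h2] at h1
    obtain ⟨l, hl, h3⟩ := Module.DirectLimit.of.zero_exact h1
    exact ⟨mkI T l.J l.h, hl, h3⟩
  · rintro ⟨Y, h, hx⟩
    rw [← ι_trans T K h, hx, map_zero]

end Zero

section Functoriality

variable {K} {L : Dual.D A}

/-- functoriality of `FT` in the complex -/
noncomputable def FTmap (g : K ⟶ L) : FT T K ⟶ FT T L :=
  colimMap (Functor.whiskerLeft _ ((linearYoneda A (Dual.D A)).map g))

lemma FTmap_ι (g : K ⟶ L) (X : Dual2.IdealsIn T) (x : NJ X.obj ⟶ K) :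
    (FTmap T g).hom (ι T K X x) = ι T L X (x ≫ g) := by
  have := ι_colimMap (Functor.whiskerLeft
    (localCohomology.ringModIdeals (Dual2.idealsInDiagram T) ⋙
      singleFunctor (ModuleCat.{u} A) 0).op ((linearYoneda A (Dual.D A)).map g)) (op X)
  exact congrArg (fun φ => φ.hom x) this

lemma FTmap_id (z : FT T K) : (FTmap T (𝟙 K)).hom z = z := by
  obtain ⟨k, x, rfl⟩ := exists_rep T K z
  rw [FTmap_ι, Category.comp_id]

lemma FTmap_comp {L' : Dual.D A} (g : K ⟶ L) (g' : L ⟶ L') (z : FT T K) :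
    (FTmap T (g ≫ g')).hom z = (FTmap T g').hom ((FTmap T g).hom z) := by
  obtain ⟨k, x, rfl⟩ := exists_rep T K z
  rw [FTmap_ι, FTmap_ι, FTmap_ι, Category.assoc]

lemma FTmap_zero (z : FT T K) : (FTmap T (0 : K ⟶ L)).hom z = 0 := by
  obtain ⟨k, x, rfl⟩ := exists_rep T K z
  rw [FTmap_ι, comp_zero, map_zero]

lemma FTmap_smul (a : A) (z : FT T K) : (FTmap T (a • 𝟙 K)).hom z = a • z := by
  obtain ⟨k, x, rfl⟩ := exists_rep T K z
  rw [FTmap_ι, Linear.comp_smul, Category.comp_id, map_smul]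

lemma FTmap_smul_apply (g : K ⟶ L) (a : A) (z : FT T K) :
    (FTmap T g).hom (a • z) = a • (FTmap T g).hom z := map_smul _ _ _

lemma FTmap_iso_bijective (e : K ≅ L) : Function.Bijective (FTmap T e.hom).hom := by
  refine Function.bijective_iff_has_inverse.mpr ⟨(FTmap T e.inv).hom, fun z => ?_, fun z => ?_⟩
  · rw [← FTmap_comp, e.hom_inv_id, FTmap_id]
  · rw [← FTmap_comp, e.inv_hom_id, FTmap_id]

lemma subsingleton_FT_of_isZero (hK : IsZero K) : Subsingleton (FT T K) := by
  refine ⟨fun z z' => ?_⟩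
  obtain ⟨k, x, rfl⟩ := exists_rep T K z
  obtain ⟨k', x', rfl⟩ := exists_rep T K z'
  rw [hK.eq_of_tgt x 0, hK.eq_of_tgt x' 0, map_zero, map_zero]

lemma subsingleton_FT_of_hom_eq_zero (h : ∀ (J : Ideal A) (x : NJ J ⟶ K), x = 0) :
    Subsingleton (FT T K) := by
  refine ⟨fun z z' => ?_⟩
  obtain ⟨k, x, rfl⟩ := exists_rep T K z
  obtain ⟨k', x', rfl⟩ := exists_rep T K z'
  rw [h _ x, h _ x', map_zero, map_zero]

end Functoriality

section Exact

/-- middle exactness of `FT` on distinguished triangles -/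
theorem FT_exact (S : Triangle (Dual.D A)) (hS : S ∈ distTriang (Dual.D A))
    (z : FT T S.obj₂) (hz : (FTmap T S.mor₂).hom z = 0) :
    ∃ y : FT T S.obj₁, (FTmap T S.mor₁).hom y = z := by
  obtain ⟨k, x, rfl⟩ := exists_rep T _ z
  rw [FTmap_ι, ι_eq_zero_iff] at hz
  obtain ⟨l, h, hx⟩ := hz
  rw [← Category.assoc] at hx
  obtain ⟨g, hg⟩ := Triangle.coyoneda_exact₂ S hS (qD h ≫ x) hx
  refine ⟨ι T _ l g, ?_⟩
  rw [FTmap_ι, ← hg, ι_trans]

theorem FT_comp_zero (S : Triangle (Dual.D A)) (hS : S ∈ distTriang (Dual.D A))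
    (y : FT T S.obj₁) : (FTmap T S.mor₂).hom ((FTmap T S.mor₁).hom y) = 0 := by
  rw [← FTmap_comp, comp_distTriang_mor_zero₁₂ S hS, FTmap_zero]

end Exact

end Groth.Agent.Lib.Helper14.HDT
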