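import Mathlib
import Groth.Agent.Lib.Helper14HDTA

/-! # Long exact sequence, vanishing and bookkeeping for `FT T` (helper14) -/

set_option autoImplicit false
set_option linter.unusedVariables false
set_option linter.unusedSectionVars false
set_option linter.style.haveILetI false

universe u

open CategoryTheory CategoryTheory.Limits Opposite DerivedCategory Pretriangulated

attribute [local instance] HasDerivedCategory.standard

namespace Groth.Agent.Lib.Helper14.HDT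

variable {A : Type u} [CommRing A] (T : Set (PrimeSpectrum A))

section Signs

lemma FTmap_zsmul {K L : Dual.D A} (n : ℤ) (g : K ⟶ L) (z : FT T K) :
    (FTmap T (n • g)).hom z = n • (FTmap T g).hom z := by
  obtain ⟨k, x, rfl⟩ := exists_rep T K z
  rw [FTmap_ι, FTmap_ι, Preadditive.comp_zsmul, map_zsmul]

lemma FTmap_units_smul {K L : Dual.D A} (n : ℤˣ) (g : K ⟶ L) (z : FT T K) :
    (FTmap T (n • g)).hom z = n • (FTmap T g).hom z := by
  rw [Units.smul_def, FTmap_zsmul, Units.smul_def]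

lemma FTmap_units_smul_eq_zero_iff {K L : Dual.D A} (n : ℤˣ) (g : K ⟶ L) (z : FT T K) :
    (FTmap T (n • g)).hom z = 0 ↔ (FTmap T g).hom z = 0 := by
  rw [FTmap_units_smul, smul_eq_zero_iff_eq]

end Signs

section LES

variable (S : Triangle (Dual.D A)) (hS : S ∈ distTriang (Dual.D A))

include hS in
/-- exactness at the middle term, in every degree -/
theorem les_mid (i : ℤ) :
    Function.Exact (FTmap T (S.mor₁⟦i⟧')).hom (FTmap T (S.mor₂⟦i⟧')).hom := by
  have hSi := Triangle.shift_distinguished S hS i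
  intro z
  constructor
  · intro hz
    have hz' : (FTmap T ((Triangle.shiftFunctor (Dual.D A) i).obj S).mor₂).hom z = 0 :=
      (FTmap_units_smul_eq_zero_iff T i.negOnePow (S.mor₂⟦i⟧') z).mpr hz
    obtain ⟨y, hy'⟩ : ∃ y : FT T (S.obj₁⟦i⟧),
        (FTmap T (i.negOnePow • S.mor₁⟦i⟧')).hom y = z := FT_exact T _ hSi z hz'
    refine ⟨i.negOnePow • y, ?_⟩
    rw [FTmap_units_smul] at hy'
    rw [← hy', Units.smul_def, Units.smul_def, map_zsmul]
  · rintro ⟨y, rfl⟩
    have h2 : (FTmap T (i.negOnePow • S.mor₂⟦i⟧')).hom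
        ((FTmap T (i.negOnePow • S.mor₁⟦i⟧')).hom y) = 0 := FT_comp_zero T _ hSi y
    rw [FTmap_units_smul_eq_zero_iff, FTmap_units_smul, Units.smul_def, map_zsmul,
      ← Units.smul_def, smul_eq_zero_iff_eq] at h2
    exact h2

include hS in
/-- exactness at the third term -/
theorem les_right (i j : ℤ) (h : i + 1 = j) :
    ∃ g : FT T (S.obj₃⟦i⟧) →ₗ[A] FT T (S.obj₁⟦j⟧),
      Function.Exact (FTmap T (S.mor₂⟦i⟧')).hom g := by
  have hSi := rot_of_distTriang _ (Triangle.shift_distinguished S hS i)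
  let e : (S.obj₁⟦i⟧)⟦(1 : ℤ)⟧ ≅ S.obj₁⟦j⟧ :=
    ((shiftFunctorAdd' (Dual.D A) i 1 j h).app S.obj₁).symm
  let g0 : FT T (S.obj₃⟦i⟧) →ₗ[A] FT T ((S.obj₁⟦i⟧)⟦(1 : ℤ)⟧) :=
    (FTmap T ((Triangle.shiftFunctor (Dual.D A) i).obj S).rotate.mor₂).hom
  refine ⟨(FTmap T e.hom).hom ∘ₗ g0, ?_⟩
  intro z
  constructor
  · intro hz
    have hz' : g0 z = 0 := by
      apply (FTmap_iso_bijective T e).1
      rw [map_zero]
      exact hz
    obtain ⟨y, hy'⟩ : ∃ y : FT T (S.obj₂⟦i⟧),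
        (FTmap T (i.negOnePow • S.mor₂⟦i⟧')).hom y = z := FT_exact T _ hSi z hz'
    refine ⟨i.negOnePow • y, ?_⟩
    rw [FTmap_units_smul] at hy'
    rw [← hy', Units.smul_def, Units.smul_def, map_zsmul]
  · rintro ⟨y, rfl⟩
    have h2 : g0 ((FTmap T (i.negOnePow • S.mor₂⟦i⟧')).hom y) = 0 := FT_comp_zero T _ hSi y
    rw [FTmap_units_smul, Units.smul_def, map_zsmul, ← Units.smul_def,
      smul_eq_zero_iff_eq] at h2
    show (FTmap T e.hom).hom (g0 _) = 0
    rw [h2, map_zero]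

include hS in
/-- exactness at the first term -/
theorem les_left (i j : ℤ) (h : i + 1 = j) :
    ∃ f : FT T (S.obj₃⟦i⟧) →ₗ[A] FT T (S.obj₁⟦j⟧),
      Function.Exact f (FTmap T (S.mor₁⟦j⟧')).hom := by
  have hSj := inv_rot_of_distTriang _ (Triangle.shift_distinguished S hS j)
  let e : S.obj₃⟦i⟧ ≅ (S.obj₃⟦j⟧)⟦(-1 : ℤ)⟧ :=
    (shiftFunctorAdd' (Dual.D A) j (-1) i (by omega)).app S.obj₃
  let f0 : FT T ((S.obj₃⟦j⟧)⟦(-1 : ℤ)⟧) →ₗ[A] FT T (S.obj₁⟦j⟧) :=
    (FTmap T ((Triangle.shiftFunctor (Dual.D A) j).obj S).invRotate.mor₁).hom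
  refine ⟨f0 ∘ₗ (FTmap T e.hom).hom, ?_⟩
  intro z
  constructor
  · intro hz
    have hz' : (FTmap T ((Triangle.shiftFunctor (Dual.D A) j).obj S).invRotate.mor₂).hom z = 0 :=
      (FTmap_units_smul_eq_zero_iff T j.negOnePow (S.mor₁⟦j⟧') z).mpr hz
    obtain ⟨y, hy⟩ : ∃ y : FT T ((S.obj₃⟦j⟧)⟦(-1 : ℤ)⟧), f0 y = z := FT_exact T _ hSj z hz'
    obtain ⟨y', rfl⟩ := (FTmap_iso_bijective T e).2 y
    exact ⟨y', hy⟩
  · rintro ⟨y, rfl⟩
    have h2 : (FTmap T (j.negOnePow • S.mor₁⟦j⟧')).hom (f0 ((FTmap T e.hom).hom y)) = 0 :=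
      FT_comp_zero T _ hSj ((FTmap T e.hom).hom y)
    rw [FTmap_units_smul_eq_zero_iff] at h2
    exact h2

end LES

section Vanishing

/-- `FT` vanishes on `D^{>0}` -/
theorem subsingleton_FT_of_isGE (L : Dual.D A) (c : ℤ) (hc : 0 < c) [L.IsGE c] :
    Subsingleton (FT T L) :=
  subsingleton_FT_of_hom_eq_zero T (fun J x => TStructure.t.zero x 0 c hc)

/-- an element of `A` killing the identity of `K` kills `FT T (K⟦i⟧)` -/
theorem smul_FT_eq_zero_of_smul_id {K : Dual.D A} (a : A) (h : a • 𝟙 K = 0) (i : ℤ)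
    (z : FT T (K⟦i⟧)) : a • z = 0 := by
  rw [← FTmap_smul]
  have h0 : a • 𝟙 (K⟦i⟧) = 0 := by
    rw [← CategoryTheory.Functor.map_id, ← Functor.map_smul, h, Functor.map_zero]
  rw [h0, FTmap_zero]

/-- an element of `A` killing a module kills `FT T` of all shifts of that module -/
theorem smul_FT_single_eq_zero (N : ModuleCat.{u} A) (a : A) (h : ∀ x : N, a • x = 0) (j i : ℤ)
    (z : FT T (((singleFunctor (ModuleCat.{u} A) j).obj N)⟦i⟧)) : a • z = 0 := by
  apply smul_FT_eq_zero_of_smul_id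
  have h1 : a • 𝟙 N = 0 := by
    apply ModuleCat.hom_ext
    apply LinearMap.ext
    intro x
    exact h x
  rw [← CategoryTheory.Functor.map_id, ← Functor.map_smul, h1, Functor.map_zero]

end Vanishing

section ShiftAdd

/-- `FT T (K⟦a⟧⟦j⟧) ≃ FT T (K⟦b⟧)` for `a + j = b` -/
noncomputable def shiftEquiv (K : Dual.D A) (a j b : ℤ) (h : a + j = b) :
    FT T ((K⟦a⟧)⟦j⟧) ≃ₗ[A] FT T (K⟦b⟧) :=
  LinearEquiv.ofBijective (FTmap T ((shiftFunctorAdd' (Dual.D A) a j b h).app K).inv).hom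
    (FTmap_iso_bijective T ((shiftFunctorAdd' (Dual.D A) a j b h).app K).symm)

end ShiftAdd

section Algebra

variable {M₁ M₂ M₃ : Type*} [AddCommGroup M₁] [Module A M₁] [AddCommGroup M₂] [Module A M₂]
  [AddCommGroup M₃] [Module A M₃] {f : M₁ →ₗ[A] M₂} {g : M₂ →ₗ[A] M₃}

/-- annihilators multiply along exact sequences -/
theorem mul_smul_eq_zero_of_exact (hfg : Function.Exact f g) (J₁ J₃ : Ideal A)
    (h1 : ∀ a ∈ J₁, ∀ x : M₁, a • x = 0) (h3 : ∀ a ∈ J₃, ∀ x : M₃, a • x = 0) :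
    ∀ a ∈ J₁ * J₃, ∀ x : M₂, a • x = 0 := by
  intro a ha x
  refine Submodule.mul_induction_on ha (fun b hb c hc => ?_) (fun b c hb hc => ?_)
  · have hz : g (c • x) = 0 := by rw [map_smul]; exact h3 c hc _
    obtain ⟨y, hy⟩ := (hfg _).mp hz
    rw [mul_smul, ← hy, ← map_smul, h1 b hb, map_zero]
  · rw [add_smul, hb, hc, add_zero]

/-- finiteness of the middle term of an exact sequence over a Noetherian ring -/
theorem finite_of_exact [IsNoetherianRing A] (hfg : Function.Exact f g)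
    (h1 : Module.Finite A M₁) (h3 : Module.Finite A M₃) : Module.Finite A M₂ := by
  haveI : IsNoetherian A M₁ := isNoetherian_of_isNoetherianRing_of_finite A _
  haveI : IsNoetherian A M₃ := isNoetherian_of_isNoetherianRing_of_finite A _
  haveI : IsNoetherian A M₂ :=
    isNoetherian_of_range_eq_ker f g (LinearMap.exact_iff.mp hfg).symm
  infer_instance

end Algebra

end Groth.Agent.Lib.Helper14.HDT
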