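import Mathlib
import Groth.Agent.Lib.Helper14HDTB
import Groth.Agent.Lib.Helper14HDIF
import Groth.Agent.Lib.Helper8LC2

/-! # Vanishing of higher local cohomology with supports in `T` for torsion modules (helper14) -/

set_option autoImplicit false
set_option linter.unusedVariables false
set_option linter.unusedSectionVars false
set_option linter.style.haveILetI false

universe u

open CategoryTheory CategoryTheory.Limits Opposite DerivedCategory Pretriangulated
  CategoryTheory.Abelian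

attribute [local instance] HasDerivedCategory.standard

namespace Groth.Agent.Lib.Helper14.HDT

open Groth.Agent.Lib.Helper8.LC Groth.Agent.Lib.Helper8.ExtLES Groth.Agent.Lib.Helper14.HDI
  Groth.Agent.Lib.Helper8.Bridge

variable {A : Type u} [CommRing A] (T : Set (PrimeSpectrum A))

lemma trD_eq_qD (I : Ideal A) {k l : ℕ} (h : k ≤ l) :
    trD I h = qD (Ideal.pow_le_pow_right h : I ^ l ≤ I ^ k) := rfl

/-- for a module `N` killed by an ideal `J₀` with `V(J₀) ⊆ T`, the higher local cohomology with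
supports in `T` vanishes -/
theorem subsingleton_FT_single_of_torsion [IsNoetherianRing A] (N : Type u) [AddCommGroup N]
    [Module A N] (J₀ : Ideal A) (hJ₀ : PrimeSpectrum.zeroLocus (J₀ : Set A) ⊆ T)
    (hN : ∀ a ∈ J₀, ∀ x : N, a • x = 0) (k : ℕ) :
    Subsingleton (FT T (((singleFunctor (ModuleCat.{u} A) 0).obj (ModuleCat.of A N))⟦((k + 1 : ℕ) : ℤ)⟧)) := by
  refine ⟨fun z z' => ?_⟩
  suffices h : ∀ z : FT T (((singleFunctor (ModuleCat.{u} A) 0).obj
      (ModuleCat.of A N))⟦((k + 1 : ℕ) : ℤ)⟧), z = 0 by rw [h z, h z']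
  intro z
  obtain ⟨X, x, rfl⟩ := exists_rep T _ z
  set J' : Ideal A := X.obj ⊓ J₀ with hJ'
  have hJ'T : PrimeSpectrum.zeroLocus (J' : Set A) ⊆ T := zeroLocus_inf_subset T X.property hJ₀
  have h1X : J' ^ 1 ≤ X.obj := by rw [pow_one]; exact inf_le_left
  -- the restriction to `A/J'^1`
  let x1 : NJ (J' ^ 1) ⟶ ((singleFunctor (ModuleCat.{u} A) 0).obj
      (ModuleCat.of A N))⟦((k + 1 : ℕ) : ℤ)⟧ := qD h1X ≫ x
  -- as an Ext class
  let e : Ext.{u} (Xk J' 1) (ModuleCat.of A N) (k + 1) := Ext.homEquiv.symm x1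
  have he : e.hom = x1 := Ext.homEquiv.apply_symm_apply x1
  let y : E (k + 1) (Xk J' 1) (ModuleCat.of A N) := (Ψ (k + 1) (Xk J' 1) (ModuleCat.of A N)).symm e
  have hy : Ψ (k + 1) (Xk J' 1) (ModuleCat.of A N) y = e := LinearEquiv.apply_symm_apply _ _
  have htors : DRing.torsionSub J' N = ⊤ := by
    rw [eq_top_iff]
    intro n _
    exact ⟨1, fun a ha => hN a (by rw [pow_one] at ha; exact ha.2) n⟩
  have hcls : cls J' (k + 1) (ModuleCat.of A N) 1 y = 0 :=
    H_succ_eq_zero_of_torsion J' k N htors _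
  obtain ⟨l, hl, hly⟩ := (cls_eq_zero_iff J' (k + 1) (ModuleCat.of A N) y).mp hcls
  have h2 := Ψ_hom_Epre' J' (k + 1) (ModuleCat.of A N) hl y
  have hly' : (Epre (k + 1) (tr J' hl) (ModuleCat.of A N)).hom y = 0 := hly
  rw [hly', map_zero, hy, he] at h2
  have h3 : trD J' hl ≫ x1 = 0 := by
    rw [← h2]
    exact (Ext.zero_hom (X := Xk J' l) (Y := ModuleCat.of A N) (n := k + 1))
  have hlT : PrimeSpectrum.zeroLocus ((J' ^ l : Ideal A) : Set A) ⊆ T := by
    rw [PrimeSpectrum.zeroLocus_pow J' (by omega : l ≠ 0)]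
    exact hJ'T
  have hlX : (J' ^ l : Ideal A) ≤ X.obj := (Ideal.pow_le_pow_right hl).trans h1X
  rw [← ι_trans T _ (X := mkI T (J' ^ l) hlT) (Y := X) hlX x]
  have h4 : qD hlX ≫ x = 0 := by
    have : qD hlX = qD (Ideal.pow_le_pow_right hl : J' ^ l ≤ J' ^ 1) ≫ qD h1X := (qD_trans _ _).symm
    rw [this, Category.assoc, ← trD_eq_qD]
    exact h3
  exact (congrArg (ι T _ (mkI T (J' ^ l) hlT)) h4).trans (map_zero _)

end Groth.Agent.Lib.Helper14.HDT
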