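import Mathlib
import Groth.Agent.Lib.Helper14HDTA

/-! # The `T`-torsion submodule of a module, for `T ⊆ Spec A` stable under specialization
(helper14) -/

set_option autoImplicit false
set_option linter.unusedVariables false
set_option linter.unusedSectionVars false
set_option linter.style.haveILetI false

universe u v

namespace Groth.Agent.Lib.Helper14.HDT

variable {A : Type u} [CommRing A] (T : Set (PrimeSpectrum A))

/-- the submodule of elements killed by an ideal whose zero locus lies in `T` -/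
def torsT (M : Type v) [AddCommGroup M] [Module A M] : Submodule A M where
  carrier := {m | ∃ J : Ideal A, PrimeSpectrum.zeroLocus (J : Set A) ⊆ T ∧ ∀ a ∈ J, a • m = 0}
  zero_mem' := ⟨⊤, zeroLocus_top_subset T, fun a _ => smul_zero a⟩
  add_mem' := by
    rintro m m' ⟨J, hJ, h⟩ ⟨J', hJ', h'⟩
    exact ⟨J ⊓ J', zeroLocus_inf_subset T hJ hJ', fun a ha => by
      rw [smul_add, h a ha.1, h' a ha.2, add_zero]⟩
  smul_mem' := by
    rintro c m ⟨J, hJ, h⟩
    exact ⟨J, hJ, fun a ha => by rw [smul_comm, h a ha, smul_zero]⟩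

variable {M : Type v} [AddCommGroup M] [Module A M]

lemma mem_torsT_iff (m : M) : m ∈ torsT T M ↔
    ∃ J : Ideal A, PrimeSpectrum.zeroLocus (J : Set A) ⊆ T ∧ ∀ a ∈ J, a • m = 0 := Iff.rfl

/-- a single ideal killing the whole `T`-torsion of a Noetherian module -/
theorem exists_ideal_torsT [IsNoetherian A M] :
    ∃ J₀ : Ideal A, PrimeSpectrum.zeroLocus (J₀ : Set A) ⊆ T ∧
      ∀ m ∈ torsT T M, ∀ a ∈ J₀, a • m = 0 := by
  have key : ∀ N : Submodule A M, N.FG → N ≤ torsT T M →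
      ∃ J₀ : Ideal A, PrimeSpectrum.zeroLocus (J₀ : Set A) ⊆ T ∧ ∀ m ∈ N, ∀ a ∈ J₀, a • m = 0 := by
    intro N hN
    refine Submodule.fg_induction (motive := fun N _ => N ≤ torsT T M →
      ∃ J₀ : Ideal A, PrimeSpectrum.zeroLocus (J₀ : Set A) ⊆ T ∧ ∀ m ∈ N, ∀ a ∈ J₀, a • m = 0)
      ?_ ?_ N hN
    · intro x hx
      obtain ⟨J, hJ, h⟩ := hx (Submodule.mem_span_singleton_self x)
      refine ⟨J, hJ, fun m hm a ha => ?_⟩
      obtain ⟨c, rfl⟩ := Submodule.mem_span_singleton.mp hm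
      rw [smul_comm, h a ha, smul_zero]
    · intro N₁ N₂ _ _ h1 h2 hle
      obtain ⟨J₁, hJ₁, h₁⟩ := h1 (le_sup_left.trans hle)
      obtain ⟨J₂, hJ₂, h₂⟩ := h2 (le_sup_right.trans hle)
      refine ⟨J₁ ⊓ J₂, zeroLocus_inf_subset T hJ₁ hJ₂, fun m hm a ha => ?_⟩
      obtain ⟨m₁, hm₁, m₂, hm₂, rfl⟩ := Submodule.mem_sup.mp hm
      rw [smul_add, h₁ m₁ hm₁ a ha.1, h₂ m₂ hm₂ a ha.2, add_zero]
  exact key (torsT T M) (IsNoetherian.noetherian _) le_rfl

/-- the quotient by the `T`-torsion has no `T`-torsion -/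
theorem mem_torsT_of_smul_mem [IsNoetherian A M] (m : M) (J : Ideal A)
    (hJ : PrimeSpectrum.zeroLocus (J : Set A) ⊆ T) (h : ∀ a ∈ J, a • m ∈ torsT T M) :
    m ∈ torsT T M := by
  obtain ⟨J₀, hJ₀, h₀⟩ := exists_ideal_torsT T (M := M)
  refine ⟨J₀ * J, zeroLocus_mul_subset T hJ₀ hJ, fun a ha => ?_⟩
  refine Submodule.mul_induction_on ha (fun b hb c hc => ?_) (fun b c hb hc => ?_)
  · rw [mul_smul]
    exact h₀ _ (h c hc) b hb
  · rw [add_smul, hb, hc, add_zero]

/-- an element of a given ideal `J'` with `V(J') ⊆ T` which is a nonzerodivisor modulo the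
`T`-torsion -/
theorem exists_regular [IsNoetherianRing A] [Module.Finite A M]
    (hT : StableUnderSpecialization T) (J' : Ideal A)
    (hJ' : PrimeSpectrum.zeroLocus (J' : Set A) ⊆ T) :
    ∃ x ∈ J', ∀ m : M, x • m ∈ torsT T M → m ∈ torsT T M := by
  classical
  haveI : IsNoetherian A M := isNoetherian_of_isNoetherianRing_of_finite A M
  let Q := M ⧸ torsT T M
  have hfin : (associatedPrimes A Q).Finite := associatedPrimes.finite A Q
  let P : Finset (Ideal A) := hfin.toFinset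
  have hP : ∀ p, p ∈ P ↔ p ∈ associatedPrimes A Q := fun p => hfin.mem_toFinset
  have hnot : ∀ p ∈ associatedPrimes A Q, ¬ J' ≤ p := by
    intro p hp hle
    obtain ⟨hprime, q, hq⟩ := (isAssociatedPrime_iff (M := Q)).mp hp
    obtain ⟨m, rfl⟩ := Submodule.Quotient.mk_surjective _ q
    have hpT : PrimeSpectrum.zeroLocus (p : Set A) ⊆ T := by
      intro y hy
      have hpy : (⟨p, hprime⟩ : PrimeSpectrum A) ≤ y := hy
      have hmem : (⟨p, hprime⟩ : PrimeSpectrum A) ∈ T :=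
        hJ' (show (J' : Set A) ⊆ (⟨p, hprime⟩ : PrimeSpectrum A).asIdeal from hle)
      exact hT ((PrimeSpectrum.le_iff_specializes _ _).mp hpy) hmem
    have hm : m ∈ torsT T M := by
      refine mem_torsT_of_smul_mem T m p hpT (fun a ha => ?_)
      rw [hq, Submodule.mem_colon_singleton, Submodule.mem_bot] at ha
      exact (Submodule.Quotient.mk_eq_zero _).mp ha
    apply hprime.ne_top
    rw [hq, Ideal.eq_top_iff_one, Submodule.mem_colon_singleton, one_smul, Submodule.mem_bot]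
    exact (Submodule.Quotient.mk_eq_zero _).mpr hm
  have hJ : ¬ ((J' : Set A) ⊆ ⋃ p ∈ (↑P : Set (Ideal A)), (p : Set A)) := by
    intro hsub
    have hprime : ∀ p ∈ P, p ≠ (⊤ : Ideal A) → p ≠ (⊤ : Ideal A) → p.IsPrime :=
      fun p hp _ _ => ((hP p).mp hp).1
    obtain ⟨p, hpP, hJp⟩ :=
      (Ideal.subset_union_prime (s := P) (f := fun p => p) ⊤ ⊤ hprime).mp hsub
    exact hnot p ((hP p).mp hpP) hJp
  obtain ⟨x, hxJ, hxP⟩ := Set.not_subset.mp hJ
  refine ⟨x, hxJ, fun m hm => ?_⟩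
  by_contra hmn
  apply hxP
  have hzd : x ∈ {r : A | ∃ q : Q, q ≠ 0 ∧ r • q = 0} :=
    ⟨Submodule.Quotient.mk m, fun h0 => hmn ((Submodule.Quotient.mk_eq_zero _).mp h0),
      (Submodule.Quotient.mk_eq_zero _).mpr hm⟩
  rw [← biUnion_associatedPrimes_eq_zero_divisors] at hzd
  obtain ⟨p, hp, hxp⟩ := Set.mem_iUnion₂.mp hzd
  exact Set.mem_biUnion (show p ∈ (↑P : Set (Ideal A)) from (hP p).mpr hp) hxp

end Groth.Agent.Lib.Helper14.HDT
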