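import Groth.Agent.Lib.Helper17Hyp17
import Groth.Agent.Lib.Helper17KInjD1

/-!
# `H^q(U, K) = H^q(K)(U)` under acyclicity of the cohomology objects (helper17)

Abstract form of S0877 / S0868: bijectivity of `cm : Hom(P[0], K[q]) → Hom(P, H^q K)`.
-/

set_option autoImplicit false

universe w w' v v' u u'

open CategoryTheory CategoryTheory.Limits Opposite

namespace Groth.Agent.Lib.Helper17.Hyp

section Rlim

open Pretriangulated

variable {T : Type u'} [Category.{v'} T] [Preadditive T] [HasZeroObject T] [HasShift T ℤ]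
    [∀ n : ℤ, (shiftFunctor T n).Additive] [Pretriangulated T]
    {K : ℕ → T} {t : ∀ n, K (n + 1) ⟶ K n}

/-- `Hom(P, (R lim K_n)[m]) → Hom(P, K_N[m])` is bijective when the towers `Hom(P, K_n[m - 1])` and
`Hom(P, K_n[m])` are constant from `N` on. -/
theorem bijective_postcomp_rlim [HasProduct K] {L : T} {a : ∀ n, L ⟶ K n}
    (hL : CohCx.IsRlimVia K t L a) (P : T) (m : ℤ) (N : ℕ)
    (h1 : EvBij P K t (m - 1) N) (h2 : EvBij P K t m N) :
    Function.Bijective (fun y : P ⟶ L⟦m⟧ => y ≫ (a N)⟦m⟧') := by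
  constructor
  · intro y y' hyy
    obtain ⟨g1, g2⟩ := good_of_evBij P m N h1 h2
    have h0 : (y - y') ≫ (a N)⟦m⟧' = 0 := by
      rw [Preadditive.sub_comp]
      exact sub_eq_zero.2 hyy
    exact sub_eq_zero.1 (eq_zero_of_good hL P m N g1 g2 _ h0)
  · intro ξ
    exact exists_lift_of_evBij hL P m N h2 ξ

end Rlim

section Der

open DerivedCategory Pretriangulated Groth.Agent.S14388

variable {A : Type u} [Category.{v} A] [Abelian A] [HasDerivedCategory.{w} A]

/-- `c₀` is bijective on `Hom(P[0], M[0])`. -/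
theorem bijective_c₀_dsgl (P M : A) :
    Function.Bijective (fun ξ : dsgl P ⟶ dsgl M => c₀ ξ) := by
  have hc : ∀ f : P ⟶ M, c₀ (P := P) (K := dsgl M) ((singleFunctor A 0).map f) =
      f ≫ (e₀ M).inv := by
    intro f
    dsimp only [c₀]
    rw [e₀_inv_naturality]
    rfl
  constructor
  · intro ξ ξ' h
    obtain ⟨f, rfl⟩ := (singleFunctor A 0).map_surjective ξ
    obtain ⟨f', rfl⟩ := (singleFunctor A 0).map_surjective ξ'
    have h' : f ≫ (e₀ M).inv = f' ≫ (e₀ M).inv := (hc f).symm.trans (h.trans (hc f'))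
    rw [cancel_mono] at h'
    rw [h']
  · intro g
    refine ⟨(singleFunctor A 0).map (g ≫ (e₀ M).hom), ?_⟩
    refine (hc _).trans ?_
    rw [Category.assoc, Iso.hom_inv_id, Category.comp_id]

/-- `c₀` is bijective on `Hom(P[0], W)` when `W` is isomorphic to an object in degree zero. -/
theorem bijective_c₀_of_iso (P M : A) {W : DerivedCategory A} (e : W ≅ dsgl M) :
    Function.Bijective (fun ξ : dsgl P ⟶ W => c₀ ξ) := by
  have hfun : (fun ξ : dsgl P ⟶ W => c₀ ξ) =
      (fun g : P ⟶ (homologyFunctor A 0).obj (dsgl M) => g ≫ (homologyFunctor A 0).map e.inv) ∘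
        (fun ξ : dsgl P ⟶ dsgl M => c₀ ξ) ∘ (fun ξ : dsgl P ⟶ W => ξ ≫ e.hom) := by
    funext ξ
    dsimp only [Function.comp]
    rw [← c₀_comp, Category.assoc, e.hom_inv_id, Category.comp_id]
  rw [hfun]
  refine Function.Bijective.comp ?_ (Function.Bijective.comp (bijective_c₀_dsgl P M) ?_)
  · constructor
    · intro g g' h
      dsimp only at h
      rwa [cancel_mono] at h
    · intro g
      refine ⟨g ≫ (homologyFunctor A 0).map e.hom, ?_⟩
      dsimp only
      rw [Category.assoc, ← Functor.map_comp, e.hom_inv_id, CategoryTheory.Functor.map_id,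
        Category.comp_id]
  · constructor
    · intro g g' h
      dsimp only at h
      rwa [cancel_mono] at h
    · intro g
      exact ⟨g ≫ e.inv, by dsimp only; rw [Category.assoc, e.inv_hom_id, Category.comp_id]⟩

instance isLE_dsgl (P : A) : (dsgl P).IsLE 0 :=
  inferInstanceAs (((singleFunctor A 0).obj P).IsLE 0)

/-- an object concentrated in degree `q`, shifted by `q`, is in degree zero. -/
lemma exists_shift_iso_dsgl (Z : DerivedCategory A) (q : ℤ) [Z.IsGE q] [Z.IsLE q] :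
    ∃ (M : A), Nonempty (Z⟦q⟧ ≅ dsgl M) := by
  obtain ⟨M, ⟨e⟩⟩ := exists_iso_singleFunctor_obj_of_isGE_of_isLE Z q
  exact ⟨M, ⟨(shiftFunctor _ q).mapIso e ≪≫
    ((singleFunctors A).shiftIso q 0 q (by omega)).app M⟩⟩

/-- composition with an isomorphism is bijective. -/
lemma bijective_comp_iso {X Y Z : A} (e : Y ≅ Z) :
    Function.Bijective (fun g : X ⟶ Y => g ≫ e.hom) := by
  constructor
  · intro g g' h
    dsimp only at h
    rwa [cancel_mono] at h
  · intro g
    exact ⟨g ≫ e.inv, by dsimp only; rw [Category.assoc, e.inv_hom_id, Category.comp_id]⟩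

/-- `cm` is bijective as soon as `c₀` is. -/
lemma bijective_cm_iff {P : A} {K : DerivedCategory A} {m : ℤ} :
    Function.Bijective (fun ξ : dsgl P ⟶ K⟦m⟧ => cm ξ) ↔
      Function.Bijective (fun ξ : dsgl P ⟶ K⟦m⟧ => c₀ ξ) := by
  have : (fun ξ : dsgl P ⟶ K⟦m⟧ => cm ξ) =
      (fun g : P ⟶ (homologyFunctor A 0).obj (K⟦m⟧) => g ≫ (shIso K m).hom) ∘
        (fun ξ : dsgl P ⟶ K⟦m⟧ => c₀ ξ) := rfl
  rw [this]
  exact Function.Bijective.of_comp_iff' (bijective_comp_iso (shIso K m)) _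

/-- `Hom(P[0], Y[q]) = Hom(P, H^q Y)` for `Y ∈ D^{≥ q}`. -/
theorem bijective_cm_of_isGE (P : A) (Y : DerivedCategory A) (q : ℤ) [Y.IsGE q] :
    Function.Bijective (fun ξ : dsgl P ⟶ Y⟦q⟧ => cm ξ) := by
  let Z := (tt.truncLT (q + 1)).obj Y
  let Y' := (tt.truncGE (q + 1)).obj Y
  have hT := tt.triangleLTGE_distinguished (q + 1) Y
  have h3 : Subsingleton (dsgl P ⟶ Y'⟦q⟧) := by
    haveI : tt.IsGE (Y'⟦q⟧) 1 := tt.isGE_shift Y' (q + 1) q 1 (by omega)
    exact ⟨fun y y' => by rw [tt.zero y 0 1 (by omega), tt.zero y' 0 1 (by omega)]⟩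
  have h3' : Subsingleton (dsgl P ⟶ Y'⟦q - 1⟧) := by
    haveI : tt.IsGE (Y'⟦q - 1⟧) 2 := tt.isGE_shift Y' (q + 1) (q - 1) 2 (by omega)
    exact ⟨fun y y' => by rw [tt.zero y 0 2 (by omega), tt.zero y' 0 2 (by omega)]⟩
  have hbij : Function.Bijective (fun y : dsgl P ⟶ Z⟦q⟧ =>
      y ≫ ((tt.truncLTι (q + 1)).app Y)⟦q⟧') :=
    bijective_postcomp_mor₁ _ hT (dsgl P) (q - 1) q (by omega) h3' h3
  -- `Z` is concentrated in degree `q`
  haveI : Z.IsLE q := tt.isLE_of_le Z (q + 1 - 1) q (by omega)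
  haveI : Z.IsGE q := inferInstanceAs (tt.IsGE ((tt.truncLT (q + 1)).obj Y) q)
  obtain ⟨M, ⟨e⟩⟩ := exists_shift_iso_dsgl Z q
  have hZ : Function.Bijective (fun ξ : dsgl P ⟶ Z⟦q⟧ => cm ξ) :=
    bijective_cm_iff.2 (bijective_c₀_of_iso P M e)
  -- compare
  haveI := isIso_homology_truncLTι (q + 1) q (by omega) Y
  have hcomp : (fun ξ : dsgl P ⟶ Y⟦q⟧ => cm ξ) ∘
      (fun y : dsgl P ⟶ Z⟦q⟧ => y ≫ ((tt.truncLTι (q + 1)).app Y)⟦q⟧') =
      (fun g : P ⟶ (homologyFunctor A q).obj Z =>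
        g ≫ (asIso ((homologyFunctor A q).map ((tt.truncLTι (q + 1)).app Y))).hom) ∘
        (fun ξ : dsgl P ⟶ Z⟦q⟧ => cm ξ) := by
    funext y
    dsimp only [Function.comp, asIso_hom]
    rw [cm_comp]
  have h4 : Function.Bijective ((fun ξ : dsgl P ⟶ Y⟦q⟧ => cm ξ) ∘
      (fun y : dsgl P ⟶ Z⟦q⟧ => y ≫ ((tt.truncLTι (q + 1)).app Y)⟦q⟧')) := by
    rw [hcomp]
    exact (bijective_comp_iso _).comp hZ
  exact (Function.Bijective.of_comp_iff _ hbij).1 h4

/-- `Hom(P[0], E[q]) = Hom(P, H^q E)` for `E` bounded below with `Ext^k(P, H^j E) = 0` for all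
`k > 0`. -/
theorem bijective_cm_of_boundedBelow (P : A) (E : DerivedCategory A) (a : ℤ) [E.IsGE a]
    (hv : ∀ (j : ℤ) (k : ℕ), 0 < k →
      Subsingleton (dsgl P ⟶ ((singleFunctor A 0).obj ((homologyFunctor A j).obj E))⟦(k : ℤ)⟧))
    (q : ℤ) :
    Function.Bijective (fun ξ : dsgl P ⟶ E⟦q⟧ => cm ξ) := by
  let X := (tt.truncLT q).obj E
  let Y := (tt.truncGE q).obj E
  have hT := tt.triangleLTGE_distinguished q E
  have h1 : ∀ j : ℤ, q ≤ j → Subsingleton (dsgl P ⟶ X⟦j⟧) := by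
    intro j hj
    apply subsingleton_hom_of_bounded (dsgl P) j X a (q - 1)
    · rintro i (hi | hi)
      · by_cases hiq : i < q
        · have := isIso_homology_truncLTι q i hiq E
          exact IsZero.of_iso (isZero_of_isGE E a i hi)
            (asIso ((homologyFunctor A i).map ((tt.truncLTι q).app E)))
        · exact isZero_of_isLE X (q - 1) i (by omega)
      · exact isZero_of_isLE X (q - 1) i hi
    · intro i _ hi2
      have := isIso_homology_truncLTι q i (by omega) E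
      obtain ⟨k, hk⟩ := Int.eq_ofNat_of_zero_le (show 0 ≤ j - i by omega)
      rw [hk]
      exact subsingleton_hom_of_iso ((shiftFunctor _ (k : ℤ)).mapIso
        ((singleFunctor A 0).mapIso
          (asIso ((homologyFunctor A i).map ((tt.truncLTι q).app E))).symm)) (hv i k (by omega))
  have hbij : Function.Bijective (fun y : dsgl P ⟶ E⟦q⟧ =>
      y ≫ ((tt.truncGEπ q).app E)⟦q⟧') :=
    bijective_postcomp_mor₂ _ hT (dsgl P) q (h1 q le_rfl) (h1 (q + 1) (by omega))
  have hY : Function.Bijective (fun ξ : dsgl P ⟶ Y⟦q⟧ => cm ξ) := bijective_cm_of_isGE P Y q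
  haveI := isIso_homology_truncGEπ q q le_rfl E
  have hcomp : (fun ξ : dsgl P ⟶ Y⟦q⟧ => cm ξ) ∘
      (fun y : dsgl P ⟶ E⟦q⟧ => y ≫ ((tt.truncGEπ q).app E)⟦q⟧') =
      (fun g : P ⟶ (homologyFunctor A q).obj E =>
        g ≫ (asIso ((homologyFunctor A q).map ((tt.truncGEπ q).app E))).hom) ∘
        (fun ξ : dsgl P ⟶ E⟦q⟧ => cm ξ) := by
    funext y
    dsimp only [Function.comp, asIso_hom]
    rw [cm_comp]
  have h4 : Function.Bijective ((fun g : P ⟶ (homologyFunctor A q).obj E =>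
        g ≫ (asIso ((homologyFunctor A q).map ((tt.truncGEπ q).app E))).hom) ∘
        (fun ξ : dsgl P ⟶ E⟦q⟧ => cm ξ)) := by
    rw [← hcomp]
    exact hY.comp hbij
  exact (Function.Bijective.of_comp_iff' (bijective_comp_iso _) _).1 h4

end Der

section Main

open DerivedCategory Pretriangulated Groth.Agent.S14388

variable {A : Type (v + 1)} [Category.{v} A] [Abelian A] [HasDerivedCategory.{w} A]
  {C : Type u'} [Category.{v'} C] {J : GrothendieckTopology C} {fr : C ⥤ A}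

/-- Abstract form of S0877 / S0868. -/
theorem bijective_cm_of_acyclic [IsGrothendieckAbelian.{w'} A] (h : LocFr J fr)
    (K : DerivedCategory A) [HasProduct (CohCx.truncTower K)] (B : Set C)
    (hB : ∀ U : C, ∃ R : Presieve U, Sieve.generate R ∈ J U ∧ ∀ ⦃V : C⦄ (g : V ⟶ U), R g → V ∈ B)
    (hv : ∀ V ∈ B, VanishAbove (dsgl (fr.obj V)) K (fun _ => 0))
    (U : C) (hU : U ∈ B) (q : ℤ) :
    Function.Bijective (fun ξ : dsgl (fr.obj U) ⟶ K⟦q⟧ => cm ξ) := by
  have hL : CohCx.IsRlimVia (CohCx.truncTower K) (CohCx.truncTowerMap K) K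
      (CohCx.toTruncTower K) := by
    apply isRlimVia_truncTower_of_cofinal.{w, w'} h K
    intro U'
    obtain ⟨R, hR, hRB⟩ := hB U'
    refine ⟨R, hR, fun V g hg => ⟨fun _ => 0, fun T hT => ?_⟩⟩
    refine ⟨fun W g' => W ∈ B ∧ T g', fun W g' hg' => hg'.2, ?_, fun W g' hg' => hv W hg'.1⟩
    choose R₁ hR₁ hR₁B using hB
    refine J.superset_covering ?_ (J.bind_covering hT
      (R := fun W g' _ => Sieve.generate (R₁ W)) (fun W g' _ => hR₁ W))
    rintro W' _ ⟨W, k, g', hg', hk, rfl⟩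
    obtain ⟨Z, a, b, hb, rfl⟩ := hk
    refine ⟨Z, a, b ≫ g', ⟨hR₁B W b hb, T.downward_closed hg' _⟩, ?_⟩
    rw [Category.assoc]
  let P := dsgl (fr.obj U)
  have hP : VanishAbove P K (fun _ => 0) := hv U hU
  let N : ℕ := max (max (Nb (fun _ => 0) q) (Nb (fun _ => 0) (q - 1))) (-q).toNat
  have hN1 : Nb (fun _ => 0) q ≤ N := le_trans (le_max_left _ _) (le_max_left _ _)
  have hN2 : Nb (fun _ => 0) (q - 1) ≤ N := le_trans (le_max_right _ _) (le_max_left _ _)
  have hN3 : -(N : ℤ) ≤ q := by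
    have : (-q).toNat ≤ N := le_max_right _ _
    omega
  have hbij : Function.Bijective (fun y : P ⟶ K⟦q⟧ => y ≫ (CohCx.toTruncTower K N)⟦q⟧') :=
    bijective_postcomp_rlim hL P q N
      (fun n hn => bijective_truncTowerMap hP (q - 1) n (le_trans hN2 hn))
      (fun n hn => bijective_truncTowerMap hP q n (le_trans hN1 hn))
  let E := CohCx.truncTower K N
  haveI : E.IsGE (-(N : ℤ)) := inferInstanceAs (tt.IsGE ((tt.truncGE (-(N : ℤ))).obj K) _)
  have hvE : ∀ (j : ℤ) (k : ℕ), 0 < k →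
      Subsingleton (P ⟶ ((singleFunctor A 0).obj ((homologyFunctor A j).obj E))⟦(k : ℤ)⟧) := by
    intro j k hk
    by_cases hj : -(N : ℤ) ≤ j
    · have := isIso_homology_truncGEπ (-(N : ℤ)) j hj K
      refine subsingleton_hom_of_iso ((shiftFunctor _ (k : ℤ)).mapIso
        ((singleFunctor A 0).mapIso
          (asIso ((homologyFunctor A j).map ((tt.truncGEπ (-(N : ℤ))).app K))))) ?_
      exact hP.at j k (by omega) (by simpa using hk)
    · have hz : IsZero ((homologyFunctor A j).obj E) := isZero_of_isGE E (-(N : ℤ)) j (by omega)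
      exact ⟨fun y y' => ((shiftFunctor _ (k : ℤ)).map_isZero
        ((singleFunctor A 0).map_isZero hz)).eq_of_tgt _ _⟩
  have hE : Function.Bijective (fun ξ : P ⟶ E⟦q⟧ => cm ξ) :=
    bijective_cm_of_boundedBelow (fr.obj U) E (-(N : ℤ)) hvE q
  haveI := isIso_homology_truncGEπ (-(N : ℤ)) q hN3 K
  have hcomp : (fun ξ : P ⟶ E⟦q⟧ => cm ξ) ∘
      (fun y : P ⟶ K⟦q⟧ => y ≫ (CohCx.toTruncTower K N)⟦q⟧') =
      (fun g : fr.obj U ⟶ (homologyFunctor A q).obj K =>
        g ≫ (asIso ((homologyFunctor A q).map ((tt.truncGEπ (-(N : ℤ))).app K))).hom) ∘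
        (fun ξ : P ⟶ K⟦q⟧ => cm ξ) := by
    funext y
    dsimp only [Function.comp, asIso_hom]
    rw [cm_comp]
  have h4 : Function.Bijective ((fun g : fr.obj U ⟶ (homologyFunctor A q).obj K =>
        g ≫ (asIso ((homologyFunctor A q).map ((tt.truncGEπ (-(N : ℤ))).app K))).hom) ∘
        (fun ξ : P ⟶ K⟦q⟧ => cm ξ)) := by
    rw [← hcomp]
    exact hE.comp hbij
  exact (Function.Bijective.of_comp_iff' (bijective_comp_iso _) _).1 h4

end Main

end Groth.Agent.Lib.Helper17.Hyp
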