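import Mathlib
import Groth.Agent.Lib.Helper14HDTB
import Groth.Agent.Lib.Helper14HDTD
import Groth.Agent.Lib.Helper17Hyp29

/-! # Finiteness of the lowest local cohomology with supports in `T` (helper14) -/

set_option autoImplicit false
set_option linter.unusedVariables false
set_option linter.unusedSectionVars false
set_option linter.style.haveILetI false

universe u

open CategoryTheory CategoryTheory.Limits Opposite DerivedCategory Pretriangulated

attribute [local instance] HasDerivedCategory.standard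

namespace Groth.Agent.Lib.Helper14.HDT

open Groth.Agent.Lib.Helper17.Hyp

variable {A : Type u} [CommRing A] (T : Set (PrimeSpectrum A))

lemma c₀_smul {P : ModuleCat.{u} A} {K : Dual.D A} (r : A) (ξ : dsgl P ⟶ K) :
    c₀ (r • ξ) = r • c₀ ξ := by
  have h2 : (singleFunctor (ModuleCat.{u} A) 0).map (r • 𝟙 P) =
      r • 𝟙 ((singleFunctor (ModuleCat.{u} A) 0).obj P) := by
    rw [Functor.map_smul, CategoryTheory.Functor.map_id]
  have h3 : Q.map ((HomologicalComplex.single (ModuleCat.{u} A) (ComplexShape.up ℤ) 0).map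
      (r • 𝟙 P)) = r • 𝟙 (dsgl P) := h2
  have h4 := c₀_precomp (r • 𝟙 P) ξ
  rw [h3, Linear.smul_comp, Category.id_comp, Linear.smul_comp, Category.id_comp] at h4
  exact h4

lemma cm_smul {P : ModuleCat.{u} A} {K : Dual.D A} {m : ℤ} (r : A) (ξ : dsgl P ⟶ K⟦m⟧) :
    cm (r • ξ) = r • cm ξ := by
  dsimp only [cm]
  rw [c₀_smul, Linear.smul_comp]

lemma cm_precomp {P P' : ModuleCat.{u} A} {K : Dual.D A} {m : ℤ} (f : P ⟶ P')
    (ξ : dsgl P' ⟶ K⟦m⟧) :
    cm (Q.map ((HomologicalComplex.single (ModuleCat.{u} A) (ComplexShape.up ℤ) 0).map f) ≫ ξ) =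
      f ≫ cm ξ := by
  dsimp only [cm]
  rw [c₀_precomp, Category.assoc]

/-- `cm` on maps out of `A/J` -/
noncomputable def cmJ (K : Dual.D A) (a : ℤ) (J : Ideal A) (x : NJ J ⟶ K⟦a⟧) :
    ModuleCat.of A (A ⧸ J) ⟶ (homologyFunctor (ModuleCat.{u} A) a).obj K :=
  cm (P := ModuleCat.of A (A ⧸ J)) x

lemma cmJ_add (K : Dual.D A) (a : ℤ) (J : Ideal A) (x y : NJ J ⟶ K⟦a⟧) :
    cmJ K a J (x + y) = cmJ K a J x + cmJ K a J y :=
  cm_add (P := ModuleCat.of A (A ⧸ J)) x y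

lemma cmJ_smul (K : Dual.D A) (a : ℤ) (J : Ideal A) (r : A) (x : NJ J ⟶ K⟦a⟧) :
    cmJ K a J (r • x) = r • cmJ K a J x :=
  cm_smul (P := ModuleCat.of A (A ⧸ J)) r x

lemma cmJ_zero (K : Dual.D A) (a : ℤ) (J : Ideal A) : cmJ K a J 0 = 0 :=
  cm_zero (P := ModuleCat.of A (A ⧸ J))

lemma cmJ_qD (K : Dual.D A) (a : ℤ) {J' J : Ideal A} (h : J' ≤ J) (x : NJ J ⟶ K⟦a⟧) :
    cmJ K a J' (qD h ≫ x) = qM h ≫ cmJ K a J x :=
  cm_precomp (qM h) x

lemma cmJ_bijective (K : Dual.D A) (a : ℤ) [K.IsGE a] (J : Ideal A) :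
    Function.Bijective (cmJ K a J) :=
  bijective_cm_of_isGE (ModuleCat.of A (A ⧸ J)) K a

/-- evaluation at `1` of the map induced on cohomology -/
noncomputable def ev (K : Dual.D A) (a : ℤ) (J : Ideal A) :
    (NJ J ⟶ K⟦a⟧) →ₗ[A] ((homologyFunctor (ModuleCat.{u} A) a).obj K) where
  toFun x := (cmJ K a J x).hom (Submodule.Quotient.mk 1)
  map_add' x y := by rw [cmJ_add]; rfl
  map_smul' r x := by rw [cmJ_smul]; rfl

lemma ev_apply (K : Dual.D A) (a : ℤ) (J : Ideal A) (x : NJ J ⟶ K⟦a⟧) :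
    ev K a J x = (cmJ K a J x).hom (Submodule.Quotient.mk 1) := rfl

lemma cmJ_apply_mk (K : Dual.D A) (a : ℤ) (J : Ideal A) (x : NJ J ⟶ K⟦a⟧) (b : A) :
    (cmJ K a J x).hom (Submodule.Quotient.mk b) = b • ev K a J x := by
  rw [ev_apply, ← map_smul]
  congr 1
  show Submodule.Quotient.mk b = Submodule.Quotient.mk (b • (1 : A))
  rw [smul_eq_mul, mul_one]

lemma smul_ev_eq_zero (K : Dual.D A) (a : ℤ) (J : Ideal A) (x : NJ J ⟶ K⟦a⟧) (b : A)
    (hb : b ∈ J) : b • ev K a J x = 0 := by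
  rw [← cmJ_apply_mk]
  have : (Submodule.Quotient.mk b : A ⧸ J) = 0 := (Submodule.Quotient.mk_eq_zero J).mpr hb
  rw [this, map_zero]

lemma ev_injective (K : Dual.D A) (a : ℤ) [K.IsGE a] (J : Ideal A) :
    Function.Injective (ev K a J) := by
  rw [injective_iff_map_eq_zero]
  intro x hx
  have h0 : cmJ K a J x = 0 := by
    apply ModuleCat.hom_ext
    apply LinearMap.ext
    intro q
    obtain ⟨b, rfl⟩ := Submodule.Quotient.mk_surjective _ q
    rw [cmJ_apply_mk, hx, smul_zero]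
    rfl
  exact (cmJ_bijective K a J).1 (h0.trans (cmJ_zero K a J).symm)

/-- a map `A/J → H^a(K)` from an element killed by `J` -/
noncomputable def ofElt {M : ModuleCat.{u} A} (J : Ideal A) (m : M) (hm : ∀ b ∈ J, b • m = 0) :
    ModuleCat.of A (A ⧸ J) ⟶ M :=
  ModuleCat.ofHom (Submodule.liftQ J (LinearMap.toSpanSingleton A M m) (fun b hb => by
    rw [LinearMap.mem_ker, LinearMap.toSpanSingleton_apply]
    exact hm b hb))

lemma ofElt_mk {M : ModuleCat.{u} A} (J : Ideal A) (m : M) (hm : ∀ b ∈ J, b • m = 0) (b : A) :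
    (ofElt J m hm).hom (Submodule.Quotient.mk b) = b • m := rfl

/-- every element of `H^a(K)` killed by `J` comes from a map `A/J → K[a]` -/
lemma exists_ev_eq (K : Dual.D A) (a : ℤ) [K.IsGE a] (J : Ideal A)
    (m : (homologyFunctor (ModuleCat.{u} A) a).obj K) (hm : ∀ b ∈ J, b • m = 0) :
    ∃ x : NJ J ⟶ K⟦a⟧, ev K a J x = m := by
  obtain ⟨x, hx⟩ := (cmJ_bijective K a J).2 (ofElt J m hm)
  refine ⟨x, ?_⟩
  rw [ev_apply, hx, ofElt_mk, one_smul]

lemma ev_qD (K : Dual.D A) (a : ℤ) {J' J : Ideal A} (h : J' ≤ J) (x : NJ J ⟶ K⟦a⟧) :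
    ev K a J' (qD h ≫ x) = ev K a J x := by
  rw [ev_apply, ev_apply, cmJ_qD]
  rfl

/-- finiteness of the lowest local cohomology module -/
theorem finite_FT_lowest [IsNoetherianRing A] (K : Dual.D A) (a : ℤ) [K.IsGE a]
    (hfin : Module.Finite A ((homologyFunctor (ModuleCat.{u} A) a).obj K)) :
    Module.Finite A (FT T (K⟦a⟧)) := by
  haveI : IsNoetherian A ((homologyFunctor (ModuleCat.{u} A) a).obj K) :=
    isNoetherian_of_isNoetherianRing_of_finite A _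
  obtain ⟨J₀, hJ₀, h₀⟩ := exists_ideal_torsT T (M := (homologyFunctor (ModuleCat.{u} A) a).obj K)
  haveI : Module.Finite A (NJ (mkI T J₀ hJ₀).obj ⟶ K⟦a⟧) :=
    Module.Finite.of_injective (ev K a J₀) (ev_injective K a J₀)
  refine Module.Finite.of_surjective (ι T (K⟦a⟧) (mkI T J₀ hJ₀)) ?_
  intro z
  obtain ⟨X, x, rfl⟩ := exists_rep T _ z
  have hm : ev K a X.obj x ∈ torsT T ((homologyFunctor (ModuleCat.{u} A) a).obj K) :=
    ⟨X.obj, X.property, fun b hb => smul_ev_eq_zero K a X.obj x b hb⟩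
  obtain ⟨x', hx'⟩ := exists_ev_eq K a J₀ (ev K a X.obj x) (h₀ _ hm)
  refine ⟨x', ?_⟩
  -- compare on `X.obj ⊓ J₀`
  have hXT : PrimeSpectrum.zeroLocus ((X.obj ⊓ J₀ : Ideal A) : Set A) ⊆ T :=
    zeroLocus_inf_subset T X.property hJ₀
  have h1 : qD (inf_le_left : X.obj ⊓ J₀ ≤ X.obj) ≫ x = qD (inf_le_right : X.obj ⊓ J₀ ≤ J₀) ≫ x' := by
    apply ev_injective K a (X.obj ⊓ J₀)
    rw [ev_qD, ev_qD, hx']
  have h2 := ι_trans T (K⟦a⟧) (X := mkI T (X.obj ⊓ J₀) hXT) (Y := X) inf_le_left x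
  have h3 := ι_trans T (K⟦a⟧) (X := mkI T (X.obj ⊓ J₀) hXT) (Y := mkI T J₀ hJ₀) inf_le_right x'
  rw [← h2, ← h3]
  exact congrArg (ι T (K⟦a⟧) (mkI T (X.obj ⊓ J₀) hXT)) h1.symm

end Groth.Agent.Lib.Helper14.HDT
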