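import Mathlib
import Groth.Agent.Lib.Helper14HDTE
import Groth.Agent.S14388

/-! # Cohomology modules of cones in `D(A)` (helper14) -/

set_option autoImplicit false
set_option linter.unusedVariables false
set_option linter.unusedSectionVars false
set_option linter.style.haveILetI false

universe u

open CategoryTheory CategoryTheory.Limits Opposite DerivedCategory Pretriangulated

attribute [local instance] HasDerivedCategory.standard

namespace Groth.Agent.Lib.Helper14.HDT

open Groth.Agent.Lib.Helper17.Hyp Groth.Agent.S14388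

variable {A : Type u} [CommRing A]

section Linear

lemma smul_homology_cx (K : CochainComplex (ModuleCat.{u} A) ℤ) (p : ℤ) (a : A)
    (y : K.homology p) : (HomologicalComplex.homologyMap (a • 𝟙 K) p).hom y = a • y := by
  have h : HomologicalComplex.homologyMap (a • 𝟙 K) p = a • 𝟙 (K.homology p) := by
    have e : (HomologicalComplex.shortComplexFunctor (ModuleCat.{u} A) (ComplexShape.up ℤ) p).map
        (a • 𝟙 K) =
        a • (HomologicalComplex.shortComplexFunctor (ModuleCat.{u} A) (ComplexShape.up ℤ) p).map
          (𝟙 K) := by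
      ext <;> rfl
    change ShortComplex.homologyMap
      ((HomologicalComplex.shortComplexFunctor (ModuleCat.{u} A) (ComplexShape.up ℤ) p).map
        (a • 𝟙 K)) = _
    rw [e, ShortComplex.homologyMap_smul, CategoryTheory.Functor.map_id,
      ShortComplex.homologyMap_id]
    rfl
  rw [h]
  rfl

lemma homology_smul_Q (X : CochainComplex (ModuleCat.{u} A) ℤ) (a : A) (n : ℤ)
    (w : (homologyFunctor (ModuleCat.{u} A) n).obj (Q.obj X)) :
    ((homologyFunctor (ModuleCat.{u} A) n).map (Q.map (a • 𝟙 X))).hom w = a • w := by
  have hnat := (homologyFunctorFactors (ModuleCat.{u} A) n).hom.naturality (a • 𝟙 X)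
  have h1 := congrArg (fun g => g.hom w) hnat
  have h2 : ((homologyFunctorFactors (ModuleCat.{u} A) n).hom.app X).hom
      (((homologyFunctor (ModuleCat.{u} A) n).map (Q.map (a • 𝟙 X))).hom w) =
      (HomologicalComplex.homologyMap (a • 𝟙 X) n).hom
        (((homologyFunctorFactors (ModuleCat.{u} A) n).hom.app X).hom w) := h1
  have h3 : (HomologicalComplex.homologyMap (a • 𝟙 X) n).hom
        (((homologyFunctorFactors (ModuleCat.{u} A) n).hom.app X).hom w) =
      a • ((homologyFunctorFactors (ModuleCat.{u} A) n).hom.app X).hom w :=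
    smul_homology_cx X n a _
  have hinj : Function.Injective ((homologyFunctorFactors (ModuleCat.{u} A) n).hom.app X).hom :=
    ((ConcreteCategory.isIso_iff_bijective _).1 inferInstance).1
  exact hinj (h2.trans (h3.trans (map_smul _ _ _).symm))

/-- the homology functors of `D(A)` are compatible with scalar multiplication -/
theorem homology_smul_id (C : Dual.D A) (a : A) (n : ℤ)
    (y : (homologyFunctor (ModuleCat.{u} A) n).obj C) :
    ((homologyFunctor (ModuleCat.{u} A) n).map (a • 𝟙 C)).hom y = a • y := by
  let X := (Q : _ ⥤ Dual.D A).objPreimage C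
  let e : Q.obj X ≅ C := (Q : _ ⥤ Dual.D A).objObjPreimageIso C
  have h1 : a • 𝟙 C = e.inv ≫ Q.map (a • 𝟙 X) ≫ e.hom := by
    rw [Functor.map_smul, CategoryTheory.Functor.map_id, Linear.smul_comp, Category.id_comp,
      Linear.comp_smul, e.inv_hom_id]
  have h2 : ((homologyFunctor (ModuleCat.{u} A) n).map (a • 𝟙 C)).hom y =
      ((homologyFunctor (ModuleCat.{u} A) n).map e.hom).hom
        (((homologyFunctor (ModuleCat.{u} A) n).map (Q.map (a • 𝟙 X))).hom
          (((homologyFunctor (ModuleCat.{u} A) n).map e.inv).hom y)) := by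
    rw [h1, Functor.map_comp, Functor.map_comp]
    rfl
  rw [h2, homology_smul_Q, map_smul]
  congr 1
  have h5 : (homologyFunctor (ModuleCat.{u} A) n).map e.inv ≫
      (homologyFunctor (ModuleCat.{u} A) n).map e.hom = 𝟙 _ := by
    rw [← Functor.map_comp, e.inv_hom_id, CategoryTheory.Functor.map_id]
  exact congrArg (fun g => g.hom y) h5

end Linear

section Cone

variable (S : Triangle (Dual.D A)) (hS : S ∈ distTriang (Dual.D A))

include hS in
/-- the cone of a map between objects of `D^{≥0}` which is injective on `H^0` is in `D^{≥0}` -/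
theorem isGE_cone (h₁ : S.obj₁.IsGE 0) (h₂ : S.obj₂.IsGE 0)
    (hmono : Mono ((homologyFunctor (ModuleCat.{u} A) 0).map S.mor₁)) : S.obj₃.IsGE 0 := by
  rw [isGE_iff]
  intro i hi
  have hex := HomologySequence.exact₃ S hS i (i + 1) rfl
  refine hex.isZero_of_both_zeros ?_ ?_
  · exact (isZero_of_isGE S.obj₂ 0 i hi).eq_of_src _ _
  · show HomologySequence.δ S i (i + 1) rfl = 0
    by_cases h : i + 1 = 0
    · have h' : i = -1 := by omega
      subst h'
      exact (HomologySequence.mono_homologyMap_mor₁_iff S hS (-1) 0 (by omega)).mp hmono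
    · exact (isZero_of_isGE S.obj₁ 0 (i + 1) (by omega)).eq_of_tgt _ _

include hS in
/-- finiteness of the cohomology of a cone -/
theorem finite_homology_cone [IsNoetherianRing A] (i j : ℤ) (hij : i + 1 = j)
    (h2 : Module.Finite A ((homologyFunctor (ModuleCat.{u} A) i).obj S.obj₂))
    (h1 : Module.Finite A ((homologyFunctor (ModuleCat.{u} A) j).obj S.obj₁)) :
    Module.Finite A ((homologyFunctor (ModuleCat.{u} A) i).obj S.obj₃) := by
  have hex := HomologySequence.exact₃ S hS i j hij
  have hex' : Function.Exact ((homologyFunctor (ModuleCat.{u} A) i).map S.mor₂).hom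
      (HomologySequence.δ S i j hij).hom :=
    LinearMap.exact_iff.mpr hex.moduleCat_range_eq_ker.symm
  exact finite_of_exact hex' h2 h1

end Cone

end Groth.Agent.Lib.Helper14.HDT
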