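import Mathlib
import Groth.Agent.Lib.Helper14HDTC
import Groth.Agent.Lib.Helper14HDTF

/-! # Finiteness of local cohomology with supports in `T` from annihilation (helper14) -/

set_option autoImplicit false
set_option linter.unusedVariables false
set_option linter.unusedSectionVars false
set_option linter.style.haveILetI false
set_option maxHeartbeats 400000

universe u

open CategoryTheory CategoryTheory.Limits Opposite DerivedCategory Pretriangulated

attribute [local instance] HasDerivedCategory.standard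

namespace Groth.Agent.Lib.Helper14.HDT

open Groth.Agent.Lib.Helper17.Hyp Groth.Agent.S14388

variable {A : Type u} [CommRing A] (T : Set (PrimeSpectrum A))

instance isGE_dsgl' (P : ModuleCat.{u} A) : (dsgl P).IsGE 0 :=
  inferInstanceAs (((singleFunctor (ModuleCat.{u} A) 0).obj P).IsGE 0)

instance isLE_dsgl' (P : ModuleCat.{u} A) : (dsgl P).IsLE 0 :=
  inferInstanceAs (((singleFunctor (ModuleCat.{u} A) 0).obj P).IsLE 0)

/-- `c₀` is bijective on maps into an object of `D^{≥0}` -/
theorem bijective_c₀_of_isGE (P : ModuleCat.{u} A) (L : Dual.D A) [L.IsGE 0] :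
    Function.Bijective (fun ξ : dsgl P ⟶ L => c₀ ξ) := by
  let e : L⟦(0 : ℤ)⟧ ≅ L := (shiftFunctorZero (Dual.D A) ℤ).app L
  have h0 : Function.Bijective (fun ξ : dsgl P ⟶ L⟦(0 : ℤ)⟧ => c₀ ξ) :=
    bijective_cm_iff.1 (bijective_cm_of_isGE P L 0)
  have hfun : (fun ξ : dsgl P ⟶ L => c₀ ξ) =
      (fun g : P ⟶ (homologyFunctor (ModuleCat.{u} A) 0).obj (L⟦(0 : ℤ)⟧) =>
        g ≫ (homologyFunctor (ModuleCat.{u} A) 0).map e.hom) ∘
      (fun ξ : dsgl P ⟶ L⟦(0 : ℤ)⟧ => c₀ ξ) ∘ (fun ξ : dsgl P ⟶ L => ξ ≫ e.inv) := by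
    funext ξ
    dsimp only [Function.comp]
    rw [← c₀_comp, Category.assoc, e.inv_hom_id, Category.comp_id]
  rw [hfun]
  refine Function.Bijective.comp ?_ (Function.Bijective.comp h0 ?_)
  · exact bijective_comp_iso ((homologyFunctor (ModuleCat.{u} A) 0).mapIso e)
  · constructor
    · intro g g' h
      dsimp only at h
      rwa [cancel_mono] at h
    · intro g
      exact ⟨g ≫ e.hom, by dsimp only; rw [Category.assoc, e.hom_inv_id, Category.comp_id]⟩

lemma c₀_apply {P : ModuleCat.{u} A} {L : Dual.D A} (ξ : dsgl P ⟶ L) (p : P) :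
    (c₀ ξ).hom p = ((homologyFunctor (ModuleCat.{u} A) 0).map ξ).hom ((e₀ P).inv.hom p) := rfl

/-- the `T`-torsion of `H^0(L)`, as an object -/
noncomputable abbrev PT (L : Dual.D A) : ModuleCat.{u} A :=
  ModuleCat.of A (torsT T ((homologyFunctor (ModuleCat.{u} A) 0).obj L))

/-- the inclusion of the `T`-torsion of `H^0(L)` -/
noncomputable abbrev inclT (L : Dual.D A) : PT T L ⟶ (homologyFunctor (ModuleCat.{u} A) 0).obj L :=
  ModuleCat.ofHom (torsT T ((homologyFunctor (ModuleCat.{u} A) 0).obj L)).subtype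

section Regular

variable [IsNoetherianRing A] (hT : StableUnderSpecialization T) (L : Dual.D A)
  (hfin0 : Module.Finite A ((homologyFunctor (ModuleCat.{u} A) 0).obj L))
  (ξ : dsgl (PT T L) ⟶ L) (hξ : c₀ ξ = inclT T L)
  {C : Dual.D A} (α : L ⟶ C) (β : C ⟶ (dsgl (PT T L))⟦(1 : ℤ)⟧)
  (hS : Triangle.mk ξ α β ∈ distTriang (Dual.D A))

include hξ in
lemma mono_homology_ξ : Mono ((homologyFunctor (ModuleCat.{u} A) 0).map ξ) := by
  have h1 : (homologyFunctor (ModuleCat.{u} A) 0).map ξ = (e₀ (PT T L)).hom ≫ c₀ ξ := by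
    dsimp only [c₀]
    rw [Iso.hom_inv_id_assoc]
  rw [h1, hξ]
  haveI : Mono (inclT T L) :=
    (ModuleCat.mono_iff_injective _).mpr (Submodule.injective_subtype _)
  infer_instance

include hT hfin0 hξ hS in
/-- a nonzerodivisor on `H^0` of the cone of the inclusion of the `T`-torsion -/
theorem regular_cone (J' : Ideal A) (hJ' : PrimeSpectrum.zeroLocus (J' : Set A) ⊆ T) :
    ∃ x ∈ J', ∀ c : (homologyFunctor (ModuleCat.{u} A) 0).obj C, x • c = 0 → c = 0 := by
  obtain ⟨x, hxJ, hx⟩ := exists_regular T hT J' hJ'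
    (M := (homologyFunctor (ModuleCat.{u} A) 0).obj L)
  refine ⟨x, hxJ, fun c hc => ?_⟩
  have hepi : Epi ((homologyFunctor (ModuleCat.{u} A) 0).map α) :=
    (HomologySequence.epi_homologyMap_mor₂_iff (Triangle.mk ξ α β) hS 0 1 rfl).mpr
      ((isZero_homology_of_amp (dsgl (PT T L)) 0 1 (by omega)).eq_of_tgt _ _)
  obtain ⟨l, rfl⟩ := (ModuleCat.epi_iff_surjective _).mp hepi c
  have hker : x • l ∈ LinearMap.ker ((homologyFunctor (ModuleCat.{u} A) 0).map α).hom := by
    rw [LinearMap.mem_ker, map_smul]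
    exact hc
  have hex := (HomologySequence.exact₂ (Triangle.mk ξ α β) hS 0).moduleCat_range_eq_ker
  have hker' : x • l ∈ LinearMap.range ((homologyFunctor (ModuleCat.{u} A) 0).map ξ).hom := by
    rw [show LinearMap.range ((homologyFunctor (ModuleCat.{u} A) 0).map ξ).hom =
      LinearMap.ker ((homologyFunctor (ModuleCat.{u} A) 0).map α).hom from hex]
    exact hker
  obtain ⟨p', hp'⟩ := hker'
  -- `p'` comes from an element of the torsion submodule
  have hp'' : (c₀ ξ).hom ((e₀ (PT T L)).hom.hom p') = x • l := by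
    rw [c₀_apply]
    have : (e₀ (PT T L)).inv.hom ((e₀ (PT T L)).hom.hom p') = p' :=
      congrArg (fun g => g.hom p') (e₀ (PT T L)).hom_inv_id
    rw [this]
    exact hp'
  have hmem : x • l ∈ torsT T ((homologyFunctor (ModuleCat.{u} A) 0).obj L) := by
    rw [← hp'', hξ]
    exact Subtype.property _
  have hl := hx l hmem
  -- so `l` is in the range of `H^0(ξ)`
  have hl' : (c₀ ξ).hom (⟨l, hl⟩ : torsT T ((homologyFunctor (ModuleCat.{u} A) 0).obj L)) = l := by
    rw [hξ]
    rfl
  rw [c₀_apply] at hl'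
  rw [← hl']
  have hz : (homologyFunctor (ModuleCat.{u} A) 0).map ξ ≫
      (homologyFunctor (ModuleCat.{u} A) 0).map α = 0 := by
    rw [← Functor.map_comp]
    have h' : ξ ≫ α = 0 := comp_distTriang_mor_zero₁₂ _ hS
    rw [h', Functor.map_zero]
  exact congrArg (fun g => g.hom ((e₀ (PT T L)).inv.hom ⟨l, hl⟩)) hz

end Regular

section Main

variable [IsNoetherianRing A]

/-- vanishing in negative degrees -/
lemma subsingleton_FT_shift_of_neg (L : Dual.D A) [L.IsGE 0] (j : ℤ) (hj : j < 0) :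
    Subsingleton (FT T (L⟦j⟧)) := by
  haveI : (L⟦j⟧).IsGE (-j) := tt.isGE_shift L 0 j (-j) (by omega)
  exact subsingleton_FT_of_isGE T (L⟦j⟧) (-j) (by omega)

lemma finite_homology_dsgl (P : ModuleCat.{u} A) [Module.Finite A P] (i : ℤ) :
    Module.Finite A ((homologyFunctor (ModuleCat.{u} A) i).obj (dsgl P)) := by
  by_cases h : i = 0
  · subst h
    exact Module.Finite.equiv (e₀ P).symm.toLinearEquiv
  · haveI : Subsingleton ((homologyFunctor (ModuleCat.{u} A) i).obj (dsgl P)) :=
      ModuleCat.subsingleton_of_isZero (isZero_homology_of_amp (dsgl P) 0 i h)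
    infer_instance

variable (hT : StableUnderSpecialization T)

include hT in
/-- the main induction: annihilation by an ideal with zero locus in `T` implies finiteness -/
theorem finite_of_ann (m : ℕ) : ∀ (L : Dual.D A) [L.IsGE 0],
    (∀ i : ℤ, Module.Finite A ((homologyFunctor (ModuleCat.{u} A) i).obj L)) →
    ∀ n : ℤ, n < m → ∀ J : Ideal A, PrimeSpectrum.zeroLocus (J : Set A) ⊆ T →
    (∀ j : ℤ, j ≤ n → ∀ x ∈ J, ∀ z : FT T (L⟦j⟧), x • z = 0) →
    ∀ j : ℤ, j ≤ n → Module.Finite A (FT T (L⟦j⟧)) := by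
  induction m with
  | zero =>
    intro L _ hfin n hn J hJ hann j hj
    haveI := subsingleton_FT_shift_of_neg T L j (by
      have : n < 0 := by exact_mod_cast hn
      omega)
    infer_instance
  | succ m ih =>
    intro L hL0 hfin n hn J hJ hann
    haveI : Module.Finite A ((homologyFunctor (ModuleCat.{u} A) 0).obj L) := hfin 0
    haveI : IsNoetherian A ((homologyFunctor (ModuleCat.{u} A) 0).obj L) :=
      isNoetherian_of_isNoetherianRing_of_finite A _
    obtain ⟨J₀, hJ₀, h₀⟩ :=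
      exists_ideal_torsT T (M := (homologyFunctor (ModuleCat.{u} A) 0).obj L)
    obtain ⟨ξ, hξ⟩ := (bijective_c₀_of_isGE (PT T L) L).2 (inclT T L)
    have hξ' : c₀ ξ = inclT T L := hξ
    obtain ⟨C, α, β, hS⟩ := distinguished_cocone_triangle ξ
    haveI hC0 : C.IsGE 0 := isGE_cone (Triangle.mk ξ α β) hS (isGE_dsgl' (PT T L)) hL0
      (mono_homology_ξ T L ξ hξ')
    haveI : Module.Finite A (PT T L) :=
      inferInstanceAs (Module.Finite A (torsT T ((homologyFunctor (ModuleCat.{u} A) 0).obj L)))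
    have hCfin : ∀ i : ℤ, Module.Finite A ((homologyFunctor (ModuleCat.{u} A) i).obj C) :=
      fun i => finite_homology_cone (Triangle.mk ξ α β) hS i (i + 1) rfl (hfin i)
        (finite_homology_dsgl (PT T L) (i + 1))
    have hJ'T : PrimeSpectrum.zeroLocus ((J * J₀ : Ideal A) : Set A) ⊆ T :=
      zeroLocus_mul_subset T hJ hJ₀
    have hkill : ∀ a ∈ J₀, ∀ p : PT T L, a • p = 0 :=
      fun a ha p => Subtype.ext (h₀ p.1 p.2 a ha)
    have hannC : ∀ j : ℤ, j ≤ n → ∀ x ∈ J * J₀, ∀ z : FT T (C⟦j⟧), x • z = 0 := by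
      intro j hj
      obtain ⟨g, hg⟩ := les_right T (Triangle.mk ξ α β) hS j (j + 1) rfl
      exact mul_smul_eq_zero_of_exact hg J J₀ (hann j hj)
        (fun a ha z => smul_FT_single_eq_zero T (PT T L) a (hkill a ha) 0 (j + 1) z)
    obtain ⟨x, hxJ, hx⟩ := regular_cone T hT L (hfin 0) ξ hξ' α β hS (J * J₀) hJ'T
    obtain ⟨C'', α', β', hS'⟩ := distinguished_cocone_triangle (x • 𝟙 C)
    have hmono : Mono ((homologyFunctor (ModuleCat.{u} A) 0).map (x • 𝟙 C)) := by
      rw [ModuleCat.mono_iff_injective]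
      intro c c' hcc
      have h1 : ((homologyFunctor (ModuleCat.{u} A) 0).map (x • 𝟙 C)).hom (c - c') = 0 := by
        rw [map_sub]
        exact sub_eq_zero.mpr hcc
      rw [homology_smul_id] at h1
      exact sub_eq_zero.mp (hx _ h1)
    haveI hC''0 : C''.IsGE 0 := isGE_cone (Triangle.mk (x • 𝟙 C) α' β') hS' hC0 hC0 hmono
    have hC''fin : ∀ i : ℤ, Module.Finite A ((homologyFunctor (ModuleCat.{u} A) i).obj C'') :=
      fun i => finite_homology_cone (Triangle.mk (x • 𝟙 C) α' β') hS' i (i + 1) rfl (hCfin i)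
        (hCfin (i + 1))
    have hannC'' : ∀ j : ℤ, j ≤ n - 1 → ∀ y ∈ (J * J₀) * (J * J₀), ∀ z : FT T (C''⟦j⟧),
        y • z = 0 := by
      intro j hj
      obtain ⟨g, hg⟩ := les_right T (Triangle.mk (x • 𝟙 C) α' β') hS' j (j + 1) rfl
      exact mul_smul_eq_zero_of_exact hg _ _ (hannC j (by omega)) (hannC (j + 1) (by omega))
    have hfinC'' := ih C'' hC''fin (n - 1) (by push_cast at hn; omega) _
      (zeroLocus_mul_subset T hJ'T hJ'T) hannC''
    have hfinC : ∀ j : ℤ, j ≤ n → Module.Finite A (FT T (C⟦j⟧)) := by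
      intro j hj
      obtain ⟨f, hf⟩ : ∃ f : FT T (C''⟦j - 1⟧) →ₗ[A] FT T (C⟦j⟧),
          Function.Exact f (FTmap T ((x • 𝟙 C)⟦j⟧')).hom :=
        les_left T (Triangle.mk (x • 𝟙 C) α' β') hS' (j - 1) j (by omega)
      haveI := hfinC'' (j - 1) (by omega)
      refine Module.Finite.of_surjective f (fun z => ?_)
      apply (hf z).mp
      show (FTmap T ((x • 𝟙 C)⟦j⟧')).hom z = 0
      rw [Functor.map_smul, CategoryTheory.Functor.map_id, FTmap_smul]
      exact hannC j hj x hxJ z
    intro j hj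
    by_cases hj0 : j = 0
    · subst hj0
      exact finite_FT_lowest T L 0 (hfin 0)
    · have hex : Function.Exact (FTmap T (ξ⟦j⟧')).hom (FTmap T (α⟦j⟧')).hom :=
        les_mid T (Triangle.mk ξ α β) hS j
      haveI : Subsingleton (FT T ((dsgl (PT T L))⟦j⟧)) := by
        rcases lt_or_gt_of_ne hj0 with h | h
        · exact subsingleton_FT_shift_of_neg T (dsgl (PT T L)) j h
        · obtain ⟨k, rfl⟩ : ∃ k : ℕ, j = ((k + 1 : ℕ) : ℤ) := ⟨(j - 1).toNat, by omega⟩
          exact subsingleton_FT_single_of_torsion T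
            (torsT T ((homologyFunctor (ModuleCat.{u} A) 0).obj L)) J₀ hJ₀ hkill k
      exact finite_of_exact hex inferInstance (hfinC j hj)

end Main

end Groth.Agent.Lib.Helper14.HDT
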