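import Mathlib
import Groth.Agent.Lib.Helper10RlimD
import Groth.Agent.Lib.Helper14HDTG
import Groth.Agent.Lib.Helper17KInjD1
set_option backward.isDefEq.respectTransparency.types false

/-!
# `H^0` computations for `R lim RΓ_J(M/I^nM)` (helper10)
-/

set_option autoImplicit false
set_option maxHeartbeats 400000
universe u
open CategoryTheory CategoryTheory.Limits Opposite
attribute [local instance] HasDerivedCategory.standard

namespace Groth.Agent.Lib.Helper10.RlimE

open DerivedCategory Pretriangulated Groth.Agent.Lib.Helper17.Hyp Groth.Agent.Lib.Helper14.HDT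

variable {A : Type u} [CommRing A]

lemma hasProduct_nat (K : ℕ → Dual.D A) : HasProduct K := by
  haveI : HasProducts.{u} (Dual.D A) :=
    Groth.Agent.Lib.Helper17.KInj.hasProducts_derivedCategory
  haveI : HasProducts.{0} (Dual.D A) := has_smallest_products_of_hasProducts
  infer_instance

/-- `A[0]` -/
noncomputable abbrev W0 (A : Type u) [CommRing A] : Dual.D A :=
  (singleFunctor (ModuleCat.{u} A) 0).obj (ModuleCat.of A A)

section sigma

variable {N N' : ModuleCat.{u} A}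

/-- the map `A ⟶ N`, `1 ↦ s` -/
noncomputable def gs (s : N) : ModuleCat.of A A ⟶ N :=
  ModuleCat.ofHom (LinearMap.toSpanSingleton A N s)

lemma gs_apply (s : N) (a : A) : (gs s).hom a = a • s := rfl

lemma gs_comp (s : N) (g : N ⟶ N') : gs s ≫ g = gs (g.hom s) := by
  refine ModuleCat.hom_ext (LinearMap.ext_ring ?_)
  show g.hom ((1 : A) • s) = (1 : A) • g.hom s
  rw [map_smul]

lemma hom_eq_gs (g : ModuleCat.of A A ⟶ N) : g = gs (g.hom (1 : A)) := by
  refine ModuleCat.hom_ext (LinearMap.ext_ring ?_)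
  show g.hom 1 = (1 : A) • g.hom 1
  rw [one_smul]

/-- the map `A[0] ⟶ N[0]` attached to an element of `N` -/
noncomputable def σ (s : N) : W0 A ⟶ (singleFunctor (ModuleCat.{u} A) 0).obj N := (singleFunctor (ModuleCat.{u} A) 0).map (gs s)

lemma exists_σ (ξ : W0 A ⟶ (singleFunctor (ModuleCat.{u} A) 0).obj N) : ∃ s : N, ξ = σ s := by
  obtain ⟨g, rfl⟩ := (singleFunctor (ModuleCat.{u} A) 0).map_surjective ξ
  exact ⟨g.hom 1, by rw [σ, ← hom_eq_gs]⟩

lemma σ_injective : Function.Injective (σ (N := N)) := by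
  intro s s' h
  have h1 : gs s = gs s' := (singleFunctor (ModuleCat.{u} A) 0).map_injective h
  have h2 : (gs s).hom (1 : A) = (gs s').hom (1 : A) := by rw [h1]
  rwa [gs_apply, gs_apply, one_smul, one_smul] at h2

lemma σ_comp (s : N) (g : N ⟶ N') :
    σ s ≫ (singleFunctor (ModuleCat.{u} A) 0).map g = σ (g.hom s) := by
  show (singleFunctor (ModuleCat.{u} A) 0).map (gs s) ≫
    (singleFunctor (ModuleCat.{u} A) 0).map g =
      (singleFunctor (ModuleCat.{u} A) 0).map (gs (g.hom s))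
  rw [← Functor.map_comp, gs_comp]

end sigma

section factor

variable (J : Ideal A)

/-- `A/J^k` -/
noncomputable abbrev Vk (k : ℕ) : ModuleCat.{u} A := ModuleCat.of A (A ⧸ J ^ k)

/-- `A ⟶ A/J^k` -/
noncomputable abbrev qk (k : ℕ) : ModuleCat.of A A ⟶ Vk J k :=
  ModuleCat.ofHom (Submodule.mkQ (J ^ k))

lemma exists_factor (Y : Dual.D A) [Y.IsGE 0] (hY : LocCoh.IsPowerTorsion J (Dual.HD A Y 0))
    (y : W0 A ⟶ Y) :
    ∃ (k : ℕ) (y' : ((singleFunctor (ModuleCat.{u} A) 0).obj (Vk J k)) ⟶ Y),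
      (singleFunctor (ModuleCat.{u} A) 0).map (qk J k) ≫ y' = y := by
  obtain ⟨k, hk⟩ := hY ((c₀ y).hom (1 : A))
  let g' : Vk J k ⟶ (homologyFunctor (ModuleCat.{u} A) 0).obj Y :=
    ModuleCat.ofHom (Submodule.liftQ (J ^ k) (c₀ y).hom (by
      intro a ha
      rw [LinearMap.mem_ker]
      have : (c₀ y).hom a = a • (c₀ y).hom (1 : A) := by
        rw [← map_smul, smul_eq_mul, mul_one]
      rw [this]
      exact hk a ha))
  obtain ⟨y', hy'⟩ := (bijective_c₀_of_isGE (Vk J k) Y).2 g'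
  have hy'' : c₀ y' = g' := hy'
  refine ⟨k, y', ?_⟩
  apply (bijective_c₀_of_isGE (ModuleCat.of A A) Y).1
  show c₀ (Q.map ((HomologicalComplex.single _ _ 0).map (qk J k)) ≫ y') = c₀ y
  rw [c₀_precomp, hy'']
  exact ModuleCat.hom_ext (LinearMap.ext fun a => rfl)

lemma smul_id_Vk (k : ℕ) {a : A} (ha : a ∈ J ^ k) : a • 𝟙 (((singleFunctor (ModuleCat.{u} A) 0).obj (Vk J k))) = 0 := by
  have h1 : a • 𝟙 (Vk J k) = 0 := by
    refine ModuleCat.hom_ext (LinearMap.ext fun x => ?_)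
    induction x using Submodule.Quotient.induction_on with
    | H b =>
      show a • (Submodule.Quotient.mk b : A ⧸ J ^ k) = 0
      rw [← Submodule.Quotient.mk_smul, Submodule.Quotient.mk_eq_zero]
      exact Ideal.mul_mem_right _ _ ha
  show a • 𝟙 ((singleFunctor (ModuleCat.{u} A) 0).obj (Vk J k)) = 0
  rw [← CategoryTheory.Functor.map_id, ← Functor.map_smul, h1, Functor.map_zero]

lemma isPowerTorsion_HD_Vk (k : ℕ) (i : ℤ) :
    LocCoh.IsPowerTorsion J (Dual.HD A (((singleFunctor (ModuleCat.{u} A) 0).obj (Vk J k))) i) := fun x => ⟨k, fun a ha => by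
  rw [← homology_smul_id, smul_id_Vk J k ha, Functor.map_zero]
  rfl⟩

end factor

section eps

variable [IsNoetherianRing A] (J : Ideal A) [DRing.HasRgammaI J] (N : ModuleCat.{u} A)

instance isGE_RG : ((DRing.RgammaI J).obj ((singleFunctor (ModuleCat.{u} A) 0).obj N)).IsGE 0 :=
  Groth.Agent.Lib.Helper1.RDTri.isGE_RG_obj.{u} (DRing.gammaI J)
    ((DerivedCategory.singleFunctor (ModuleCat.{u} A) 0).obj N) 0

lemma comp_ε_eq_zero (y : W0 A ⟶ (DRing.RgammaI J).obj ((singleFunctor (ModuleCat.{u} A) 0).obj N))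
    (h : y ≫ (DRing.RgammaIε J).app ((singleFunctor (ModuleCat.{u} A) 0).obj N) = 0) : y = 0 := by
  obtain ⟨k, y', rfl⟩ := exists_factor J _
    (Groth.Agent.Lib.Helper10.RGamC.isPowerTorsion_HD_RgammaI J ((singleFunctor (ModuleCat.{u} A) 0).obj N) 0) y
  obtain ⟨g₀, hg₀⟩ := (singleFunctor (ModuleCat.{u} A) 0).map_surjective
    (y' ≫ (DRing.RgammaIε J).app ((singleFunctor (ModuleCat.{u} A) 0).obj N))
  rw [Category.assoc, ← hg₀, ← Functor.map_comp] at h
  have h1 : qk J k ≫ g₀ = 0 := (singleFunctor (ModuleCat.{u} A) 0).map_injective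
    (h.trans (Functor.map_zero _ _ _).symm)
  haveI : Epi (qk J k) := (ModuleCat.epi_iff_surjective _).2 (Submodule.mkQ_surjective _)
  have h2 : g₀ = 0 := (cancel_epi (qk J k)).1 (h1.trans comp_zero.symm)
  have h3 : y' ≫ (DRing.RgammaIε J).app ((singleFunctor (ModuleCat.{u} A) 0).obj N) = 0 := by
    rw [← hg₀, h2, Functor.map_zero]
  have h4 : y' = 0 := (Groth.Agent.Lib.Helper10.RGamD.bijective_comp_ε J _ ((singleFunctor (ModuleCat.{u} A) 0).obj N)
    (isPowerTorsion_HD_Vk J k)).1 (h3.trans zero_comp.symm)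
  rw [h4, comp_zero]

theorem comp_ε_injective_W0 : Function.Injective
    (fun y : W0 A ⟶ (DRing.RgammaI J).obj ((singleFunctor (ModuleCat.{u} A) 0).obj N) => y ≫ (DRing.RgammaIε J).app ((singleFunctor (ModuleCat.{u} A) 0).obj N)) := by
  intro y y' h
  have h' : y ≫ (DRing.RgammaIε J).app ((singleFunctor (ModuleCat.{u} A) 0).obj N) = y' ≫ (DRing.RgammaIε J).app ((singleFunctor (ModuleCat.{u} A) 0).obj N) := h
  have : y - y' = 0 := comp_ε_eq_zero J N _ (by rw [Preadditive.sub_comp, h', sub_self])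
  exact sub_eq_zero.1 this

theorem exists_torsion_of_comp_ε (y : W0 A ⟶ (DRing.RgammaI J).obj ((singleFunctor (ModuleCat.{u} A) 0).obj N)) :
    ∃ s ∈ DRing.torsionSub J N, y ≫ (DRing.RgammaIε J).app ((singleFunctor (ModuleCat.{u} A) 0).obj N) = σ s := by
  obtain ⟨k, y', rfl⟩ := exists_factor J _
    (Groth.Agent.Lib.Helper10.RGamC.isPowerTorsion_HD_RgammaI J ((singleFunctor (ModuleCat.{u} A) 0).obj N) 0) y
  obtain ⟨g₀, hg₀⟩ := (singleFunctor (ModuleCat.{u} A) 0).map_surjective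
    (y' ≫ (DRing.RgammaIε J).app ((singleFunctor (ModuleCat.{u} A) 0).obj N))
  refine ⟨g₀.hom (Submodule.Quotient.mk (1 : A)), ⟨k, fun a ha => ?_⟩, ?_⟩
  · rw [← map_smul, ← Submodule.Quotient.mk_smul, smul_eq_mul, mul_one,
      (Submodule.Quotient.mk_eq_zero _).2 ha, map_zero]
  · rw [Category.assoc, ← hg₀, ← Functor.map_comp, hom_eq_gs (qk J k ≫ g₀)]
    rfl

theorem exists_of_torsion (s : N) (hs : s ∈ DRing.torsionSub J N) :
    ∃ y : W0 A ⟶ (DRing.RgammaI J).obj ((singleFunctor (ModuleCat.{u} A) 0).obj N), y ≫ (DRing.RgammaIε J).app ((singleFunctor (ModuleCat.{u} A) 0).obj N) = σ s := by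
  obtain ⟨k, hk⟩ := hs
  let g₀ : Vk J k ⟶ N := ModuleCat.ofHom (Submodule.liftQ (J ^ k) (gs s).hom (by
    intro a ha
    rw [LinearMap.mem_ker, gs_apply]
    exact hk a ha))
  obtain ⟨y', hy'⟩ := (Groth.Agent.Lib.Helper10.RGamD.bijective_comp_ε J _ ((singleFunctor (ModuleCat.{u} A) 0).obj N)
    (isPowerTorsion_HD_Vk J k)).2 ((singleFunctor (ModuleCat.{u} A) 0).map g₀)
  have hy'' : y' ≫ (DRing.RgammaIε J).app ((singleFunctor (ModuleCat.{u} A) 0).obj N) =
      (singleFunctor (ModuleCat.{u} A) 0).map g₀ := hy'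
  refine ⟨(singleFunctor (ModuleCat.{u} A) 0).map (qk J k) ≫ y', ?_⟩
  rw [Category.assoc, hy'', ← Functor.map_comp]
  have : qk J k ≫ g₀ = gs s := ModuleCat.hom_ext (LinearMap.ext fun a => rfl)
  rw [this]
  rfl

end eps

section beta

/-- the canonical generator of `H^0(A[0])` -/
noncomputable def ω (A : Type u) [CommRing A] : Dual.HD A (W0 A) 0 :=
  ((singleFunctorCompHomologyFunctorIso (ModuleCat.{u} A) 0).inv.app (ModuleCat.of A A)).hom (1 : A)

/-- `Hom(A[0], Y) ⟶ H^0(Y)` -/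
noncomputable def β (Y : Dual.D A) (ξ : W0 A ⟶ Y) : Dual.HD A Y 0 :=
  ((homologyFunctor (ModuleCat.{u} A) 0).map ξ).hom (ω A)

lemma β_comp {Y Y' : Dual.D A} (ξ : W0 A ⟶ Y) (g : Y ⟶ Y') :
    β Y' (ξ ≫ g) = ((homologyFunctor (ModuleCat.{u} A) 0).map g).hom (β Y ξ) := by
  unfold β
  rw [Functor.map_comp]
  rfl

lemma β_σ {N : ModuleCat.{u} A} (s : N) : β ((singleFunctor (ModuleCat.{u} A) 0).obj N) (σ s) =
    ((singleFunctorCompHomologyFunctorIso (ModuleCat.{u} A) 0).inv.app N).hom s := by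
  have nat := (singleFunctorCompHomologyFunctorIso (ModuleCat.{u} A) 0).inv.naturality (gs s)
  have h := congrArg (fun g => g.hom (1 : A)) nat
  simp only [Functor.id_obj, Functor.id_map, Functor.comp_obj, Functor.comp_map] at h
  have h' : ((singleFunctorCompHomologyFunctorIso (ModuleCat.{u} A) 0).inv.app N).hom
      ((gs s).hom (1 : A)) = ((homologyFunctor (ModuleCat.{u} A) 0).map
        ((singleFunctor (ModuleCat.{u} A) 0).map (gs s))).hom
        (((singleFunctorCompHomologyFunctorIso (ModuleCat.{u} A) 0).inv.app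
          (ModuleCat.of A A)).hom (1 : A)) := h
  rw [gs_apply, one_smul] at h'
  exact h'.symm

/-- the unit comparing the two identifications `H^0(A[0]) ≅ A` -/
noncomputable def uu (A : Type u) [CommRing A] : A :=
  (e₀ (ModuleCat.of A A)).hom.hom (ω A)

lemma isUnit_uu : IsUnit (uu A) := by
  let ϑ : ModuleCat.of A A ≅ ModuleCat.of A A :=
    (singleFunctorCompHomologyFunctorIso (ModuleCat.{u} A) 0).symm.app (ModuleCat.of A A) ≪≫
      e₀ (ModuleCat.of A A)
  have hu : uu A = ϑ.hom.hom (1 : A) := rfl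
  have hsurj : Function.Surjective ϑ.hom.hom :=
    ((ConcreteCategory.isIso_iff_bijective ϑ.hom).1 inferInstance).2
  obtain ⟨v, hv⟩ := hsurj (1 : A)
  have : v * uu A = 1 := by
    rw [hu, ← smul_eq_mul, ← map_smul, smul_eq_mul, mul_one]
    exact hv
  exact IsUnit.of_mul_eq_one _ (by rw [mul_comm]; exact this)

lemma β_eq (Y : Dual.D A) (ξ : W0 A ⟶ Y) : β Y ξ = (c₀ ξ).hom (uu A) := by
  show _ = ((e₀ (ModuleCat.of A A)).inv ≫ (homologyFunctor (ModuleCat.{u} A) 0).map ξ).hom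
    ((e₀ (ModuleCat.of A A)).hom.hom (ω A))
  have h : (e₀ (ModuleCat.of A A)).inv.hom ((e₀ (ModuleCat.of A A)).hom.hom (ω A)) = ω A := by
    have := (e₀ (ModuleCat.of A A)).hom_inv_id
    exact LinearMap.congr_fun (congrArg ModuleCat.Hom.hom this) (ω A)
  show _ = ((homologyFunctor (ModuleCat.{u} A) 0).map ξ).hom
    ((e₀ (ModuleCat.of A A)).inv.hom ((e₀ (ModuleCat.of A A)).hom.hom (ω A)))
  rw [h]
  rfl

theorem β_bijective (Y : Dual.D A) [Y.IsGE 0] : Function.Bijective (β Y) := by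
  obtain ⟨v, hv⟩ := (isUnit_uu (A := A)).exists_left_inv
  have hc := bijective_c₀_of_isGE (ModuleCat.of A A) Y
  constructor
  · intro ξ ξ' h
    rw [β_eq, β_eq] at h
    apply hc.1
    show c₀ ξ = c₀ ξ'
    refine ModuleCat.hom_ext (LinearMap.ext_ring ?_)
    have h1 : (c₀ ξ).hom (v * uu A) = (c₀ ξ').hom (v * uu A) := by
      rw [← smul_eq_mul, map_smul, map_smul, h]
    rwa [hv] at h1
  · intro z
    obtain ⟨ξ, hξ⟩ := hc.2 (gs (v • z))
    have hξ' : c₀ ξ = gs (v • z) := hξ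
    refine ⟨ξ, ?_⟩
    rw [β_eq, hξ', gs_apply, smul_smul, mul_comm, hv, one_smul]

end beta

section milnor

variable {K : ℕ → Dual.D A} {t : ∀ n, K (n + 1) ⟶ K n} [HasProduct K] {R : Dual.D A}
  {a : ∀ n, R ⟶ K n}

theorem rlim_hom_ext (hR : CohCx.IsRlimVia K t R a) (W : Dual.D A)
    (hW : ∀ n, Subsingleton (W ⟶ (K n)⟦(0 : ℤ) - 1⟧)) (y y' : W ⟶ R)
    (h : ∀ n, y ≫ a n = y' ≫ a n) : y = y' := by
  have hlim : CohCx.LimOneIsZero (fun n => W ⟶ (K n)⟦(0 : ℤ) - 1⟧)
      (fun n => Preadditive.rightComp W ((t n)⟦(0 : ℤ) - 1⟧')) := by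
    intro c
    refine ⟨fun n => 0, ?_⟩
    funext n
    haveI := hW n
    exact Subsingleton.elim _ _
  have key := (Groth.Agent.S0943.milnor_general hR W 0).2 hlim
    ((y - y') ≫ (shiftFunctorZero (Dual.D A) ℤ).inv.app R) (fun n => by
      rw [Category.assoc]
      have := (shiftFunctorZero (Dual.D A) ℤ).inv.naturality (a n)
      simp only [Functor.id_obj, Functor.id_map] at this
      rw [← this, ← Category.assoc, Preadditive.sub_comp, h, sub_self, zero_comp])
  have key' : y - y' = 0 := by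
    rw [← cancel_mono ((shiftFunctorZero (Dual.D A) ℤ).inv.app R), key, zero_comp]
  exact sub_eq_zero.1 key'

theorem rlim_hom_lift (hR : CohCx.IsRlimVia K t R a) (W : Dual.D A) (x : ∀ n, W ⟶ K n)
    (hx : ∀ n, x (n + 1) ≫ t n = x n) : ∃ y : W ⟶ R, ∀ n, y ≫ a n = x n := by
  obtain ⟨c, hc⟩ := hR
  have h0 : Pi.lift x ≫ (Pi.lift fun n => Pi.π K n - Pi.π K (n + 1) ≫ t n) = 0 := by
    apply Pi.hom_ext
    intro n
    rw [Category.assoc, Pi.lift_π, Preadditive.comp_sub, Pi.lift_π, Pi.lift_π_assoc, hx, sub_self,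
      zero_comp]
  obtain ⟨ψ, hψ⟩ := Triangle.coyoneda_exact₂ _ hc (Pi.lift x) h0
  have hψ' : Pi.lift x = ψ ≫ Pi.lift a := hψ
  refine ⟨ψ, fun n => ?_⟩
  have : Pi.lift x ≫ Pi.π K n = (ψ ≫ Pi.lift a) ≫ Pi.π K n := by rw [hψ']
  rw [Pi.lift_π, Category.assoc, Pi.lift_π] at this
  exact this.symm

lemma subsingleton_W0_shift (Y : Dual.D A) [Y.IsGE 0] :
    Subsingleton (W0 A ⟶ Y⟦(0 : ℤ) - 1⟧) := by
  haveI : (Y⟦(0 : ℤ) - 1⟧).IsGE 1 :=
    DerivedCategory.TStructure.t.isGE_shift Y 0 ((0 : ℤ) - 1) 1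
  haveI : (W0 A).IsLE 0 :=
    inferInstanceAs (((singleFunctor (ModuleCat.{u} A) 0).obj (ModuleCat.of A A)).IsLE 0)
  exact ⟨fun f g => by
    rw [DerivedCategory.TStructure.t.zero_of_isLE_of_isGE f 0 1 (by omega) inferInstance
      inferInstance, DerivedCategory.TStructure.t.zero_of_isLE_of_isGE g 0 1 (by omega)
      inferInstance inferInstance]⟩

end milnor

end Groth.Agent.Lib.Helper10.RlimE
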