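import Mathlib
import Groth.Agent.Lib.Helper10RlimE
import Groth.Agent.Lib.Helper10DerComplete6
import Groth.Agent.S7048
set_option backward.isDefEq.respectTransparency.types false

/-!
# `H^0` of the derived completion of `RΓ_J(M)` (helper10)
-/

set_option autoImplicit false
set_option maxHeartbeats 400000
universe u
open CategoryTheory CategoryTheory.Limits Opposite
attribute [local instance] HasDerivedCategory.standard

namespace Groth.Agent.Lib.Helper10.RlimF

open DerivedCategory Pretriangulated Groth.Agent.Lib.Helper10.RlimC Groth.Agent.Lib.Helper10.RlimD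
  Groth.Agent.Lib.Helper10.RlimE Groth.Agent.Lib.Helper10.DerComplete
  Groth.Agent.Lib.Helper10.DCMain

variable {A : Type u} [CommRing A]

section PartA

/-- finite modules over an `I`-adically complete Noetherian ring are derived complete -/
theorem isDerivedComplete_inD_of_finite [IsNoetherianRing A] (I : Ideal A) [IsAdicComplete I A]
    (M : Type u) [AddCommGroup M] [Module A M] [Module.Finite A M] :
    DRing.IsDerivedComplete I (Dual.inD A M) := by
  rw [isDerivedComplete_iff_crit]
  intro f hf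
  have hA : Crit f A := (isDerivedComplete_iff_crit I A).1 (Groth.Agent.S7048.result I A) f hf
  obtain ⟨n, p, hp⟩ := Module.Finite.exists_fin' A M
  haveI : Module.Finite A (LinearMap.ker p) := Module.IsNoetherian.finite A _
  obtain ⟨m, q, hq⟩ := Module.Finite.exists_fin' A (LinearMap.ker p)
  let u : (Fin m → A) →ₗ[A] (Fin n → A) := (LinearMap.ker p).subtype ∘ₗ q
  have hu : LinearMap.range u = LinearMap.ker p := by
    rw [LinearMap.range_comp, LinearMap.range_eq_top.2 hq, Submodule.map_top,
      Submodule.range_subtype]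
  have h1 : Crit f ((Fin n → A) ⧸ LinearMap.range u) :=
    Crit.coker u (Crit.of_finite_free hA) (Crit.of_finite_free hA)
  exact h1.of_linearEquiv ((Submodule.quotEquivOfEq _ _ hu).trans
    (LinearMap.quotKerEquivOfSurjective p hp))

end PartA

section PartB

lemma isIso_toDerivedCompletion (I : Ideal A) [DRing.HasDerivedCompletion I] (N : Dual.D A)
    (hN : DRing.IsDerivedComplete I N) : IsIso (DRing.toDerivedCompletion I N) := by
  obtain ⟨e, he⟩ := exists_iso_of_universal (DRing.IsDerivedComplete I)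
    (DRing.toDerivedCompletion I N) (𝟙 N) ((DRing.derivedCompletion I).obj N).property hN
    (bijective_toDerivedCompletion I N) (fun E hE => by
      have : (fun ψ : N ⟶ E => 𝟙 N ≫ ψ) = id := by
        funext ψ
        exact Category.id_comp ψ
      rw [this]
      exact Function.bijective_id)
  have : DRing.toDerivedCompletion I N = e.inv := by
    rw [← cancel_mono e.hom, he, Iso.inv_hom_id]
  rw [this]
  infer_instance

end PartB

section PartC

variable [IsNoetherianRing A] (I J : Ideal A) (M : Type u) [AddCommGroup M] [Module A M]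
  [Module.Finite A M]

theorem torsion_char (s : M) :
    (∀ n : ℕ, (Submodule.mkQ (I ^ n • ⊤ : Submodule A M)) s ∈
      DRing.torsionSub J (M ⧸ (I ^ n • ⊤ : Submodule A M))) ↔
    ∃ J' : Ideal A, J' ≤ J ∧ J ≤ (J' ⊔ I).radical ∧ s ∈ DRing.torsionSub J' M := by
  constructor
  · intro h
    obtain ⟨c, hc⟩ := Ideal.exists_pow_inf_eq_pow_smul I (Submodule.span A {s})
    obtain ⟨k, hk⟩ := h (c + 1)
    -- `J^k ≤ I ⊔ Ann(s)`
    have key : ∀ a ∈ J ^ k, ∃ i ∈ I, a • s = i • s := by
      intro a ha
      have h1 : a • s ∈ (I ^ (c + 1) • ⊤ : Submodule A M) := by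
        have := hk a ha
        rw [Submodule.mkQ_apply, ← Submodule.Quotient.mk_smul,
          Submodule.Quotient.mk_eq_zero] at this
        exact this
      have h2 : a • s ∈ (I ^ (c + 1) • ⊤ : Submodule A M) ⊓ Submodule.span A {s} :=
        ⟨h1, Submodule.smul_mem _ _ (Submodule.mem_span_singleton_self s)⟩
      rw [hc (c + 1) (Nat.le_succ c), Nat.add_sub_cancel_left, pow_one] at h2
      have h3 : a • s ∈ I • Submodule.span A {s} :=
        Submodule.smul_mono le_rfl inf_le_right h2
      obtain ⟨i, hi, his⟩ := Submodule.mem_smul_span_singleton.1 h3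
      exact ⟨i, hi, his.symm⟩
    let Ann : Ideal A := LinearMap.ker (LinearMap.toSpanSingleton A M s)
    have hAnn : ∀ a, a ∈ Ann ↔ a • s = 0 := fun a => by
      show a ∈ LinearMap.ker (LinearMap.toSpanSingleton A M s) ↔ _
      rw [LinearMap.mem_ker, LinearMap.toSpanSingleton_apply]
    refine ⟨J ⊓ Ann, inf_le_left, ?_, ⟨1, fun a ha => ?_⟩⟩
    · intro x hx
      refine ⟨k + 1, ?_⟩
      obtain ⟨i, hi, his⟩ := key (x ^ k) (Ideal.pow_mem_pow hx k)
      have hb : x ^ k - i ∈ Ann := by
        rw [hAnn, sub_smul, his, sub_self]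
      have : x ^ (k + 1) = x * (x ^ k - i) + x * i := by ring
      rw [this]
      exact Submodule.add_mem _
        (Ideal.mem_sup_left ⟨Ideal.mul_mem_right _ _ hx, Ideal.mul_mem_left _ _ hb⟩)
        (Ideal.mem_sup_right (Ideal.mul_mem_left _ _ hi))
    · rw [pow_one] at ha
      exact (hAnn a).1 ha.2
  · rintro ⟨J', _, hrad, ⟨k₀, hk₀⟩⟩ n
    obtain ⟨N, hN⟩ := Ideal.exists_pow_le_of_le_radical_of_fg hrad
      (IsNoetherian.noetherian J)
    refine ⟨N * (k₀ + n), fun a ha => ?_⟩
    have h1 : a ∈ J' ^ k₀ ⊔ I ^ n := by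
      have h2 : a ∈ (J' ⊔ I) ^ (k₀ + n) := by
        rw [pow_mul] at ha
        exact Ideal.pow_right_mono hN _ ha
      exact Ideal.sup_pow_add_le_pow_sup_pow h2
    obtain ⟨b, hb, d, hd, rfl⟩ := Submodule.mem_sup.1 h1
    rw [Submodule.mkQ_apply, ← Submodule.Quotient.mk_smul, Submodule.Quotient.mk_eq_zero,
      add_smul, hk₀ b hb, zero_add]
    exact Submodule.smul_mem_smul hd Submodule.mem_top

end PartC

section PartD

variable [IsNoetherianRing A] (I J : Ideal A) [DRing.HasRgammaI J]
  (M : Type u) [AddCommGroup M] [Module A M]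

/-- `(M/I^nM)[0]` -/
noncomputable abbrev Nn (n : ℕ) : Dual.D A :=
  (singleFunctor (ModuleCat.{u} A) 0).obj ((Msys I M).obj (op n))

/-- `M[0] ⟶ (M/I^nM)[0]` -/
noncomputable abbrev πn (n : ℕ) : Dual.inD A M ⟶ Nn I M n :=
  (singleFunctor (ModuleCat.{u} A) 0).map ((πM I M).app (op n))

variable [∀ K : ℕ → Dual.D A, HasProduct K] {R : Dual.D A}
  {a : ∀ n, R ⟶ (Fsys I M J).obj (op n)}
  (hR : CohCx.IsRlimVia (fun n => (Fsys I M J).obj (op n))
    (fun n => (Fsys I M J).map (homOfLE (Nat.le_succ n)).op) R a)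
  (c'' : R ⟶ Dual.inD A M)
  (hc'' : ∀ n, c'' ≫ πn I M n = a n ≫ (DRing.RgammaIε J).app (Nn I M n))

include hR hc'' in
lemma inj_c'' (y y' : W0 A ⟶ R) (h : y ≫ c'' = y' ≫ c'') : y = y' := by
  refine rlim_hom_ext hR (W0 A) (fun n => ?_) y y' (fun n => ?_)
  · haveI : ((Fsys I M J).obj (op n)).IsGE 0 := isGE_RG J ((Msys I M).obj (op n))
    exact subsingleton_W0_shift _
  · apply comp_ε_injective_W0 J ((Msys I M).obj (op n))
    show (y ≫ a n) ≫ (DRing.RgammaIε J).app (Nn I M n) =
      (y' ≫ a n) ≫ (DRing.RgammaIε J).app (Nn I M n)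
    rw [Category.assoc, Category.assoc, ← hc'' n, ← Category.assoc, ← Category.assoc, h]

include hR hc'' in
lemma exists_iff [Module.Finite A M] (hI : I ≤ (⊥ : Ideal A).jacobson) (s : M) :
    (∃ y : W0 A ⟶ R, y ≫ c'' = σ (N := ModuleCat.of A M) s) ↔
      ∀ n : ℕ, (Submodule.mkQ (I ^ n • ⊤ : Submodule A M)) s ∈
        DRing.torsionSub J (M ⧸ (I ^ n • ⊤ : Submodule A M)) := by
  constructor
  · rintro ⟨y, hy⟩ n
    obtain ⟨s', hs', h'⟩ := exists_torsion_of_comp_ε J ((Msys I M).obj (op n)) (y ≫ a n)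
    have h1 : σ s' = σ (N := (Msys I M).obj (op n)) (((πM I M).app (op n)).hom s) := by
      rw [← h', Category.assoc, ← hc'' n, ← Category.assoc, hy]
      exact σ_comp (N := ModuleCat.of A M) s ((πM I M).app (op n))
    have h2 : s' = ((πM I M).app (op n)).hom s := σ_injective h1
    rw [h2] at hs'
    exact hs'
  · intro h
    have hs : ∀ n, ((πM I M).app (op n)).hom s ∈
        DRing.torsionSub J ((Msys I M).obj (op n)) := h
    choose yn hyn using fun n => exists_of_torsion J ((Msys I M).obj (op n)) _ (hs n)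
    have compat : ∀ n, yn (n + 1) ≫ (Fsys I M J).map (homOfLE (Nat.le_succ n)).op = yn n := by
      intro n
      apply comp_ε_injective_W0 J ((Msys I M).obj (op n))
      show (yn (n + 1) ≫ (DRing.RgammaI J).map ((singleFunctor (ModuleCat.{u} A) 0).map
        ((Msys I M).map (homOfLE (Nat.le_succ n)).op))) ≫
          (DRing.RgammaIε J).app (Nn I M n) = yn n ≫ (DRing.RgammaIε J).app (Nn I M n)
      have nat := (DRing.RgammaIε J).naturality ((singleFunctor (ModuleCat.{u} A) 0).map
        ((Msys I M).map (homOfLE (Nat.le_succ n)).op))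
      simp only [Functor.id_obj, Functor.id_map] at nat
      rw [Category.assoc, nat, ← Category.assoc, hyn (n + 1), hyn n, σ_comp]
      rfl
    obtain ⟨y, hy⟩ := rlim_hom_lift hR (W0 A) yn compat
    obtain ⟨m, hm⟩ := exists_σ (N := ModuleCat.of A M) (y ≫ c'')
    have hmn : ∀ n, ((πM I M).app (op n)).hom m = ((πM I M).app (op n)).hom s := by
      intro n
      apply σ_injective (N := (Msys I M).obj (op n))
      rw [← σ_comp (N := ModuleCat.of A M) m ((πM I M).app (op n)), ← hm, Category.assoc]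
      exact ((hc'' n).symm ▸ rfl : y ≫ c'' ≫ πn I M n =
        y ≫ a n ≫ (DRing.RgammaIε J).app (Nn I M n)).trans
          ((Category.assoc _ _ _).symm.trans ((hy n).symm ▸ hyn n))
    have hms : m = s := by
      have h0 : m - s ∈ (⨅ n : ℕ, I ^ n • ⊤ : Submodule A M) := by
        rw [Submodule.mem_iInf]
        intro n
        exact (Submodule.Quotient.eq _).1 (hmn n)
      rw [Ideal.iInf_pow_smul_eq_bot_of_le_jacobson I hI] at h0
      exact sub_eq_zero.1 ((Submodule.mem_bot A).1 h0)
    exact ⟨y, by rw [hm, hms]⟩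

end PartD

section PartE

variable [IsNoetherianRing A] (I J : Ideal A) [DRing.HasRgammaI J]
  (M : Type u) [AddCommGroup M] [Module A M]

lemma smul_id_Nn (n : ℕ) {f : A} (hf : f ∈ I) : f ^ n • 𝟙 (Nn I M n) = 0 := by
  have h1 : f ^ n • 𝟙 ((Msys I M).obj (op n)) = 0 := by
    refine ModuleCat.hom_ext (LinearMap.ext fun x => ?_)
    induction x using Submodule.Quotient.induction_on with
    | H m =>
      show f ^ n • (Submodule.Quotient.mk m : M ⧸ (I ^ n • ⊤ : Submodule A M)) = 0
      rw [← Submodule.Quotient.mk_smul, Submodule.Quotient.mk_eq_zero]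
      exact Submodule.smul_mem_smul (Ideal.pow_mem_pow hf _) Submodule.mem_top
  show f ^ n • 𝟙 ((singleFunctor (ModuleCat.{u} A) 0).obj ((Msys I M).obj (op n))) = 0
  rw [← CategoryTheory.Functor.map_id, ← Functor.map_smul, h1, Functor.map_zero]

variable [IsAdicComplete I A] [DRing.HasDerivedCompletion I] [Module.Finite A M]

theorem main_aux (cm : ((DRing.derivedCompletion I).obj ((Gfun J).obj (ModuleCat.of A M))).obj ⟶
      ((DRing.derivedCompletion I).obj (Dual.inD A M)).obj)
    (nat : DRing.toDerivedCompletion I ((Gfun J).obj (ModuleCat.of A M)) ≫ cm =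
      (DRing.RgammaIε J).app (Dual.inD A M) ≫ DRing.toDerivedCompletion I (Dual.inD A M)) :
    Function.Injective ((DerivedCategory.homologyFunctor (ModuleCat.{u} A) 0).map cm).hom ∧
    Set.range ((DerivedCategory.homologyFunctor (ModuleCat.{u} A) 0).map cm).hom =
      (fun s : M => ((DerivedCategory.homologyFunctor (ModuleCat.{u} A) 0).map
        (DRing.toDerivedCompletion I (Dual.inD A M))).hom
          (((DerivedCategory.singleFunctorCompHomologyFunctorIso (ModuleCat.{u} A) 0).inv.app
            (ModuleCat.of A M)).hom s)) ''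
        {s : M | ∃ J' : Ideal A, J' ≤ J ∧ J ≤ (J' ⊔ I).radical ∧ s ∈ DRing.torsionSub J' M} := by
  haveI : ∀ K : ℕ → Dual.D A, HasProduct K := hasProduct_nat
  obtain ⟨R, a, b, e, hR, hb, he, hR0, hRdc⟩ := RlimD.main I J M
  have hNdc := isDerivedComplete_inD_of_finite I M
  haveI hηN := isIso_toDerivedCompletion I (Dual.inD A M) hNdc
  have hI : I ≤ (⊥ : Ideal A).jacobson := IsAdicComplete.le_jacobson_bot I
  let c'' : R ⟶ Dual.inD A M := e.inv ≫ cm ≫ inv (DRing.toDerivedCompletion I (Dual.inD A M))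
  have hc'' : ∀ n, c'' ≫ πn I M n = a n ≫ (DRing.RgammaIε J).app (Nn I M n) := by
    intro n
    have hNn : DRing.IsDerivedComplete I (Nn I M n) :=
      isDerivedComplete_of_smul_eq_zero I _ (fun f hf => ⟨n, smul_id_Nn I M n hf⟩)
    have hbinj : ∀ ψ ψ' : R ⟶ Nn I M n, b ≫ ψ = b ≫ ψ' → ψ = ψ' := by
      intro ψ ψ' h
      rw [← he, Category.assoc, Category.assoc] at h
      have h2 := (bijective_toDerivedCompletion I _ _ hNn).1 h
      exact (cancel_epi e.hom).1 h2
    apply hbinj
    have h1 : b ≫ c'' ≫ πn I M n = (DRing.RgammaIε J).app (Dual.inD A M) ≫ πn I M n := by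
      show b ≫ (e.inv ≫ cm ≫ inv (DRing.toDerivedCompletion I (Dual.inD A M))) ≫ πn I M n = _
      rw [← he]
      simp only [Category.assoc, Iso.hom_inv_id_assoc]
      have h3 : DRing.toDerivedCompletion I ((Gfun J).obj (ModuleCat.of A M)) ≫
          cm ≫ inv (DRing.toDerivedCompletion I (Dual.inD A M)) ≫ πn I M n =
          (DRing.toDerivedCompletion I ((Gfun J).obj (ModuleCat.of A M)) ≫ cm) ≫
            inv (DRing.toDerivedCompletion I (Dual.inD A M)) ≫ πn I M n :=
        (Category.assoc _ _ _).symm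
      rw [h3, nat, Category.assoc, IsIso.hom_inv_id_assoc]
    have h2 : b ≫ a n ≫ (DRing.RgammaIε J).app (Nn I M n) =
        (DRing.RgammaIε J).app (Dual.inD A M) ≫ πn I M n := by
      rw [← Category.assoc, hb n]
      exact (DRing.RgammaIε J).naturality (πn I M n)
    rw [h1, h2]
  -- amplitude
  haveI hL0 : (((DRing.derivedCompletion I).obj ((Gfun J).obj (ModuleCat.of A M))).obj).IsGE 0 := by
    haveI := hR0
    exact TStructure.t.isGE_of_iso e.symm 0
  haveI hNh0 : (((DRing.derivedCompletion I).obj (Dual.inD A M)).obj).IsGE 0 := by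
    haveI : (Dual.inD A M).IsGE 0 :=
      inferInstanceAs (((singleFunctor (ModuleCat.{u} A) 0).obj (ModuleCat.of A M)).IsGE 0)
    exact TStructure.t.isGE_of_iso (asIso (DRing.toDerivedCompletion I (Dual.inD A M))) 0
  have hβL := β_bijective (((DRing.derivedCompletion I).obj ((Gfun J).obj (ModuleCat.of A M))).obj)
  have hβN := β_bijective (((DRing.derivedCompletion I).obj (Dual.inD A M)).obj)
  -- key translations
  have hηs : ∀ s : M, ((DerivedCategory.homologyFunctor (ModuleCat.{u} A) 0).map
        (DRing.toDerivedCompletion I (Dual.inD A M))).hom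
          (((DerivedCategory.singleFunctorCompHomologyFunctorIso (ModuleCat.{u} A) 0).inv.app
            (ModuleCat.of A M)).hom s) =
      β _ (σ (N := ModuleCat.of A M) s ≫ DRing.toDerivedCompletion I (Dual.inD A M)) := by
    intro s
    rw [β_comp, β_σ]
  constructor
  · intro z z' h
    obtain ⟨ξ, rfl⟩ := hβL.2 z
    obtain ⟨ξ', rfl⟩ := hβL.2 z'
    rw [← β_comp, ← β_comp] at h
    have h1 : ξ ≫ cm = ξ' ≫ cm := hβN.1 h
    have h2 : ξ ≫ e.hom = ξ' ≫ e.hom := by
      apply inj_c'' I J M hR c'' hc''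
      show (ξ ≫ e.hom) ≫ e.inv ≫ cm ≫ inv (DRing.toDerivedCompletion I (Dual.inD A M)) =
        (ξ' ≫ e.hom) ≫ e.inv ≫ cm ≫ inv (DRing.toDerivedCompletion I (Dual.inD A M))
      simp only [Category.assoc, Iso.hom_inv_id_assoc]
      rw [reassoc_of% h1]
    rw [(cancel_mono e.hom).1 h2]
  · ext z
    constructor
    · rintro ⟨w, rfl⟩
      obtain ⟨ξ, rfl⟩ := hβL.2 w
      obtain ⟨s, hs⟩ := exists_σ (N := ModuleCat.of A M)
        (ξ ≫ cm ≫ inv (DRing.toDerivedCompletion I (Dual.inD A M)))
      have h1 : (ξ ≫ e.hom) ≫ c'' = σ (N := ModuleCat.of A M) s := by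
        show (ξ ≫ e.hom) ≫ e.inv ≫ cm ≫ inv (DRing.toDerivedCompletion I (Dual.inD A M)) = _
        simp only [Category.assoc, Iso.hom_inv_id_assoc]
        exact hs
      have h2 := (exists_iff I J M hR c'' hc'' hI s).1 ⟨_, h1⟩
      refine ⟨s, (torsion_char I J M s).1 h2, ?_⟩
      show ((DerivedCategory.homologyFunctor (ModuleCat.{u} A) 0).map
        (DRing.toDerivedCompletion I (Dual.inD A M))).hom
          (((DerivedCategory.singleFunctorCompHomologyFunctorIso (ModuleCat.{u} A) 0).inv.app
            (ModuleCat.of A M)).hom s) = _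
      rw [hηs, ← β_comp, ← hs]
      simp only [Category.assoc, IsIso.inv_hom_id, Category.comp_id]
    · rintro ⟨s, hs, rfl⟩
      have h2 := (torsion_char I J M s).2 hs
      obtain ⟨y, hy⟩ := (exists_iff I J M hR c'' hc'' hI s).2 h2
      refine ⟨β _ (y ≫ e.inv), ?_⟩
      show _ = ((DerivedCategory.homologyFunctor (ModuleCat.{u} A) 0).map
        (DRing.toDerivedCompletion I (Dual.inD A M))).hom
          (((DerivedCategory.singleFunctorCompHomologyFunctorIso (ModuleCat.{u} A) 0).inv.app
            (ModuleCat.of A M)).hom s)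
      rw [hηs, ← β_comp, ← hy]
      show β _ ((y ≫ e.inv) ≫ cm) = β _ ((y ≫ e.inv ≫ cm ≫
        inv (DRing.toDerivedCompletion I (Dual.inD A M))) ≫
          DRing.toDerivedCompletion I (Dual.inD A M))
      simp only [Category.assoc, IsIso.inv_hom_id, Category.comp_id]

theorem main :
    Function.Injective ((DerivedCategory.homologyFunctor (ModuleCat.{u} A) 0).map
      ((ObjectProperty.ι (DRing.IsDerivedComplete I)).map ((DRing.derivedCompletion I).map
        ((DRing.RgammaIε J).app (Dual.inD A M))))).hom ∧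
    Set.range ((DerivedCategory.homologyFunctor (ModuleCat.{u} A) 0).map
      ((ObjectProperty.ι (DRing.IsDerivedComplete I)).map ((DRing.derivedCompletion I).map
        ((DRing.RgammaIε J).app (Dual.inD A M))))).hom =
      (fun s : M => ((DerivedCategory.homologyFunctor (ModuleCat.{u} A) 0).map
        (DRing.toDerivedCompletion I (Dual.inD A M))).hom
          (((DerivedCategory.singleFunctorCompHomologyFunctorIso (ModuleCat.{u} A) 0).inv.app
            (ModuleCat.of A M)).hom s)) ''
        {s : M | ∃ J' : Ideal A, J' ≤ J ∧ J ≤ (J' ⊔ I).radical ∧ s ∈ DRing.torsionSub J' M} :=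
  main_aux I J M _ ((DRing.derivedCompletionAdj I).unit.naturality
      ((DRing.RgammaIε J).app (Dual.inD A M))).symm

end PartE

end Groth.Agent.Lib.Helper10.RlimF
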