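import Mathlib
import Groth.Agent.Lib.Helper10RedInd

set_option autoImplicit false
universe u
open CategoryTheory CategoryTheory.Limits AlgebraicGeometry TopologicalSpace

namespace Groth.Agent.Lib.Helper10.SchDense

open Groth.Agent.Lib.Helper10.RedInd

variable {X : Scheme.{u}}

theorem range_homOfLE {U V : X.Opens} (e : U ≤ V) :
    Set.range (X.homOfLE e) = V.ι ⁻¹' (U : Set X) := by
  ext x
  constructor
  · rintro ⟨y, rfl⟩
    change (((X.homOfLE e) y).1 : X) ∈ (U : Set X)
    exact Set.mem_of_eq_of_mem (Scheme.homOfLE_apply e y) y.2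
  · intro hx
    exact ⟨⟨x.1, hx⟩, Scheme.homOfLE_apply' e x.1 hx⟩

theorem denseRange_homOfLE_of_dense (U W : X.Opens) (hU : Dense (U : Set X)) :
    DenseRange (X.homOfLE (inf_le_right : U ⊓ W ≤ W)) := by
  rw [DenseRange, range_homOfLE, dense_iff_inter_open]
  intro O hO hne
  obtain ⟨w, hw⟩ := hne
  have hO' : IsOpen (W.ι '' O) := W.ι.isOpenEmbedding.isOpenMap O hO
  obtain ⟨x, hx1, hx2⟩ := hU.inter_open_nonempty _ hO' ⟨W.ι w, w, hw, rfl⟩
  obtain ⟨w', hw', rfl⟩ := hx1
  exact ⟨w', hw', ⟨hx2, w'.2⟩⟩

theorem isSchemeTheoreticallyDominant_homOfLE_of_dense [IsReduced X] (U W : X.Opens)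
    (hU : Dense (U : Set X)) :
    IsSchemeTheoreticallyDominant (X.homOfLE (inf_le_right : U ⊓ W ≤ W)) := by
  have : IsDominant (X.homOfLE (inf_le_right : U ⊓ W ≤ W)) :=
    ⟨denseRange_homOfLE_of_dense U W hU⟩
  have : IsReduced (W : Scheme.{u}) := isReduced_of_isOpenImmersion W.ι
  exact .of_isDominant _

open Scheme.IdealSheafData in
theorem isReduced_of_vanishingIdeal_eq_bot (Z : Closeds X) (h : vanishingIdeal Z = ⊥) :
    IsReduced X := by
  have h1 : X.nilradical = ⊥ := by
    rw [← le_bot_iff, ← h, ← vanishingIdeal_top]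
    exact vanishingIdeal_antimono le_top
  have h2 : ∀ U : X.affineOpens, _root_.IsReduced Γ(X, U) := by
    intro U
    have := congrArg (fun I => I.ideal U) h1
    simp only [Scheme.nilradical, radical_ideal, ideal_bot, Pi.bot_apply] at this
    rw [← nilradical_eq_bot_iff]
    exact this
  have h3 : ∀ x : X, _root_.IsReduced (X.presheaf.stalk x) := by
    intro x
    obtain ⟨_, ⟨U, hU, rfl⟩, hxU, -⟩ :=
      X.isBasis_affineOpens.exists_subset_of_mem_open (Set.mem_univ x) isOpen_univ
    let : Algebra Γ(X, U) (X.presheaf.stalk x) :=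
      TopCat.Presheaf.algebra_section_stalk X.presheaf (⟨x, hxU⟩ : U)
    have := hU.isLocalization_stalk ⟨x, hxU⟩
    exact isReduced_localizationPreserves (hU.primeIdealOf ⟨x, hxU⟩).asIdeal.primeCompl
      (X.presheaf.stalk x) (h2 ⟨U, hU⟩)
  exact isReduced_of_isReduced_stalk X

open Scheme.IdealSheafData in
theorem dense_of_isSchemeTheoreticallyDominant_of_isReduced {Y : Scheme.{u}} (k : Y ⟶ X)
    [IsReduced Y] [IsSchemeTheoreticallyDominant k] : DenseRange k := by
  have hker := ker_eq_vanishingIdeal_of_isReduced k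
  have := congrArg (fun I => (I.support : Set X)) (hker.symm.trans k.ker_eq_bot)
  simp only [coe_support_vanishingIdeal, Closeds.coe_closure, support_bot, Closeds.coe_top] at this
  rw [DenseRange, dense_iff_closure_eq, this]

theorem s9360 (X : Scheme.{u}) (U : X.Opens) [IsReduced (↑U : Scheme.{u})] :
    (IsSchemeTheoreticallyDominant U.ι ↔
        ∀ W : X.Opens, IsSchemeTheoreticallyDominant (X.homOfLE (inf_le_right : U ⊓ W ≤ W))) ∧
      (IsSchemeTheoreticallyDominant U.ι → IsReduced X) := by
  have hker := ker_eq_vanishingIdeal_of_isReduced U.ι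
  have hred : IsSchemeTheoreticallyDominant U.ι → IsReduced X := fun h =>
    isReduced_of_vanishingIdeal_eq_bot _ (hker ▸ h.ker_eq_bot)
  refine ⟨⟨fun h W => ?_, fun h => ?_⟩, hred⟩
  · have := hred h
    have hd : Dense (U : Set X) := by
      have := dense_of_isSchemeTheoreticallyDominant_of_isReduced U.ι
      rwa [DenseRange, Scheme.Opens.range_ι] at this
    exact isSchemeTheoreticallyDominant_homOfLE_of_dense U W hd
  · have h1 := h ⊤
    have e : U.ι = (X.isoOfEq (show U = U ⊓ ⊤ by simp)).hom ≫
        X.homOfLE (inf_le_right : U ⊓ ⊤ ≤ ⊤) ≫ (⊤ : X.Opens).ι := by simp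
    rw [e]
    have : IsIso (⊤ : X.Opens).ι := by
      rw [← Scheme.topIso_hom]; infer_instance
    have : IsSchemeTheoreticallyDominant
        (X.homOfLE (inf_le_right : U ⊓ ⊤ ≤ ⊤) ≫ (⊤ : X.Opens).ι) := inferInstance
    infer_instance

theorem isOpenImmersion_of_isImmersion_of_denseRange {Z B : Scheme.{u}} (i : Z ⟶ B)
    [IsImmersion i] [IsReduced B] (hd : DenseRange i) : IsOpenImmersion i := by
  let U := i.coborderRange
  let k := i.liftCoborder
  have hk : k ≫ U.ι = i := i.liftCoborder_ι
  have hr : Set.range k = U.ι ⁻¹' (Set.range i) := by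
    rw [range_eq_preimage_range_comp_ι, hk]
  have hsurj : Function.Surjective k := by
    rw [← Set.range_eq_univ, ← k.isClosedEmbedding.isClosed_range.closure_eq, hr]
    have : Dense (U.ι ⁻¹' (Set.range i)) :=
      hd.preimage U.ι.isOpenEmbedding.isOpenMap
    exact this.closure_eq
  have : Surjective k := ⟨hsurj⟩
  have : IsReduced (U : Scheme.{u}) := isReduced_of_isOpenImmersion U.ι
  have : IsIso k := isIso_of_isClosedImmersion_of_surjective k
  rw [← hk]
  infer_instance

theorem isSchemeTheoreticallyDominant_toImage {Z X : Scheme.{u}} (h : Z ⟶ X) [QuasiCompact h] :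
    IsSchemeTheoreticallyDominant h.toImage := by
  refine ⟨?_⟩
  have hcov : ⨆ U : X.affineOpens, (h.imageι ⁻¹ᵁ U.1) = ⊤ := by
    rw [← Scheme.Hom.preimage_iSup, iSup_affineOpens_eq_top]
    rfl
  refine Scheme.IdealSheafData.ext_of_iSup_eq_top
    (fun U : X.affineOpens => ⟨h.imageι ⁻¹ᵁ U.1, U.2.preimage h.imageι⟩) hcov fun U => ?_
  rw [Scheme.IdealSheafData.ideal_bot, Pi.bot_apply, eq_bot_iff]
  refine (h.toImage.ideal_ker_le _).trans ?_
  rw [le_bot_iff, ← RingHom.injective_iff_ker_eq_bot]
  exact h.toImage_app_injective U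

theorem s9385 {Z X : Scheme.{u}} (h : Z ⟶ X) [IsImmersion h]
    (hyp : QuasiCompact h ∨ IsReduced Z) :
    ∃ hI : IsOpenImmersion h.toImage,
      (∀ W : h.image.Opens, IsSchemeTheoreticallyDominant
          (h.image.homOfLE (inf_le_right : @Scheme.Hom.opensRange _ _ h.toImage hI ⊓ W ≤ W))) ∧
        DenseRange h.toImage.base := by
  rcases hyp with hqc | hred
  · refine ⟨inferInstance, fun W => ?_, h.toImage.denseRange⟩
    have := isSchemeTheoreticallyDominant_toImage h
    have e : h.toImage.opensRange.ι = h.toImage.isoOpensRange.inv ≫ h.toImage :=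
      (Scheme.Hom.isoOpensRange_inv_comp _).symm
    have h1 : IsSchemeTheoreticallyDominant h.toImage.opensRange.ι := by
      rw [e]; infer_instance
    have h2 : QuasiCompact h.toImage.opensRange.ι := by
      rw [e]; infer_instance
    exact IsSchemeTheoreticallyDominant.of_isPullback
      (isPullback_opens_inf h.toImage.opensRange W)
  · have hker := ker_eq_vanishingIdeal_of_isReduced h
    have hsupp : (h.ker.support : Set X) = closure (Set.range h) := by
      rw [hker]; simp
    have hredI : IsReduced h.image := by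
      change IsReduced h.ker.subscheme
      rw [hker]
      exact isReduced_subscheme_vanishingIdeal _
    have hd : DenseRange h.toImage := by
      rw [denseRange_iff_closure_range,
        h.imageι.isEmbedding.closure_eq_preimage_closure_image,
        ← Set.univ_subset_iff, ← Set.image_subset_iff, Set.image_univ,
        Scheme.IdealSheafData.range_subschemeι, hsupp, ← Set.range_comp,
        ← TopCat.coe_comp, ← Scheme.Hom.comp_base, h.toImage_imageι]
    have hI : IsOpenImmersion h.toImage := isOpenImmersion_of_isImmersion_of_denseRange _ hd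
    refine ⟨hI, fun W => ?_, hd⟩
    refine isSchemeTheoreticallyDominant_homOfLE_of_dense _ W ?_
    rw [Scheme.Hom.coe_opensRange]
    exact hd

end Groth.Agent.Lib.Helper10.SchDense
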