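import Mathlib
import Groth.Agent.Lib.Helper10FibStalk
import Groth.Agent.Lib.Helper10FibCI2

set_option autoImplicit false
universe u
open CategoryTheory CategoryTheory.Limits AlgebraicGeometry

namespace Groth.Agent.Lib.Helper10.SecFib

/-- Ring lemma: a retraction `ρ` of an essentially-finite-type local algebra `B → C` with
`m_B C = m_C` is bijective. -/
theorem bijective_of_retraction {B C : Type*} [CommRing B] [CommRing C] [IsLocalRing B]
    [IsLocalRing C] [Algebra B C] [Algebra.EssFiniteType B C] (ρ : C →+* B)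
    (hρ : ∀ b, ρ (algebraMap B C b) = b)
    (hm : (IsLocalRing.maximalIdeal B).map (algebraMap B C) = IsLocalRing.maximalIdeal C) :
    Function.Bijective ρ := by
  classical
  obtain ⟨σ, hσ⟩ := (Algebra.essFiniteType_iff (R := B) (S := C)).mp inferInstance
  set φ := algebraMap B C with hφ
  set I : Ideal C := RingHom.ker ρ with hI
  set J : Ideal C := Ideal.span ((fun x => x - φ (ρ x)) '' (σ : Set C)) with hJ
  have hd : ∀ c : C, c - φ (ρ c) ∈ I := by
    intro c
    rw [hI, RingHom.mem_ker, map_sub, hρ, sub_self]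
  have hJI : J ≤ I := by
    rw [hJ, Ideal.span_le]
    rintro _ ⟨x, -, rfl⟩
    exact hd x
  have h1 : ∀ c ∈ Algebra.adjoin B (σ : Set C), c - φ (ρ c) ∈ J := by
    intro c hc
    induction hc using Algebra.adjoin_induction with
    | mem x hx => exact Ideal.subset_span ⟨x, hx, rfl⟩
    | algebraMap b =>
      rw [hρ, sub_self]
      exact J.zero_mem
    | add x y _ _ hx hy =>
      have : x + y - φ (ρ (x + y)) = (x - φ (ρ x)) + (y - φ (ρ y)) := by
        rw [map_add, map_add]; ring
      rw [this]
      exact J.add_mem hx hy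
    | mul x y _ _ hx hy =>
      have : x * y - φ (ρ (x * y)) = x * (y - φ (ρ y)) + φ (ρ y) * (x - φ (ρ x)) := by
        rw [map_mul, map_mul]; ring
      rw [this]
      exact J.add_mem (J.mul_mem_left _ hy) (J.mul_mem_left _ hx)
  have h2 : ∀ c : C, ∃ b : B, c - φ b ∈ J := by
    intro c
    obtain ⟨t, ht, htu, hct⟩ := hσ c
    have hu : IsUnit (ρ t) := htu.map ρ
    have hu2 : IsUnit (φ (ρ t)) := hu.map φ
    obtain ⟨u, hu'⟩ := hu
    refine ⟨ρ (c * t) * ↑u⁻¹, ?_⟩
    have e1 : (c - φ (ρ (c * t) * ↑u⁻¹)) * φ (ρ t) ∈ J := by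
      have e2 : φ (ρ (c * t) * ↑u⁻¹) * φ (ρ t) = φ (ρ (c * t)) := by
        rw [← map_mul, ← hu', mul_assoc, Units.inv_mul, mul_one]
      have : (c - φ (ρ (c * t) * ↑u⁻¹)) * φ (ρ t) =
          (c * t - φ (ρ (c * t))) - c * (t - φ (ρ t)) := by
        rw [sub_mul, e2]; ring
      rw [this]
      exact J.sub_mem (h1 _ hct) (J.mul_mem_left _ (h1 _ ht))
    exact (Ideal.mul_unit_mem_iff_mem J hu2).mp e1
  have hIJ : I ≤ J := by
    intro c hc
    obtain ⟨b, hb⟩ := h2 c
    have h3 : ρ (c - φ b) = 0 := hJI hb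
    rw [map_sub, hρ, (RingHom.mem_ker).mp hc, zero_sub, neg_eq_zero] at h3
    subst h3
    simpa using hb
  have hIfg : I.FG := by
    rw [le_antisymm hIJ hJI, hJ]
    exact ⟨σ.image (fun x => x - φ (ρ x)), by rw [Finset.coe_image]⟩
  have hIle : I ≤ IsLocalRing.maximalIdeal C := by
    intro c hc
    rw [IsLocalRing.mem_maximalIdeal, mem_nonunits_iff]
    intro hcu
    have h3 : IsUnit (ρ c) := hcu.map ρ
    rw [(RingHom.mem_ker).mp hc] at h3
    exact not_isUnit_zero h3
  have hstep : ∀ c ∈ (IsLocalRing.maximalIdeal B).map φ,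
      c - φ (ρ c) ∈ IsLocalRing.maximalIdeal C • I := by
    intro c hc
    induction hc using Submodule.span_induction with
    | mem x hx =>
      obtain ⟨b, -, rfl⟩ := hx
      rw [hρ, sub_self]
      exact Submodule.zero_mem _
    | zero =>
      rw [map_zero, map_zero, sub_self]
      exact Submodule.zero_mem _
    | add x y _ _ hx hy =>
      have : x + y - φ (ρ (x + y)) = (x - φ (ρ x)) + (y - φ (ρ y)) := by
        rw [map_add, map_add]; ring
      rw [this]
      exact Submodule.add_mem _ hx hy
    | smul a x hx hx' =>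
      have : a • x - φ (ρ (a • x)) = φ (ρ a) * (x - φ (ρ x)) + x * (a - φ (ρ a)) := by
        rw [smul_eq_mul, map_mul, map_mul]; ring
      rw [this]
      refine Submodule.add_mem _ (Ideal.mul_mem_left _ _ hx') ?_
      rw [smul_eq_mul]
      refine Ideal.mul_mem_mul ?_ (hd a)
      rw [← hm]
      exact hx
  have hIm : I ≤ IsLocalRing.maximalIdeal C • I := by
    intro c hc
    have h3 := hstep c (by rw [hm]; exact hIle hc)
    rwa [(RingHom.mem_ker).mp hc, map_zero, sub_zero] at h3
  have hI0 : I = ⊥ :=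
    Submodule.eq_bot_of_le_smul_of_le_jacobson_bot (IsLocalRing.maximalIdeal C) I hIfg hIm
      (IsLocalRing.maximalIdeal_le_jacobson _)
  refine ⟨(RingHom.injective_iff_ker_eq_bot ρ).mpr hI0, fun b => ⟨φ b, hρ b⟩⟩


/-- if the fibre over `s` is `Spec κ(s)`, the maximal ideal of `O_{S,s}` generates the maximal
ideal of `O_{X,x}` for `x` in the fibre -/
theorem map_maximalIdeal_eq_of_isIso_fiber_aux {X S : Scheme.{u}} (f : X ⟶ S) (s : S)
    [IsIso (f.fiberToSpecResidueField s)] (y : ↥(f.fiber s)) :
    Ideal.map (f.stalkMap ((f.fiberι s) y)).hom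
      (IsLocalRing.maximalIdeal (S.presheaf.stalk (f ((f.fiberι s) y)))) =
    IsLocalRing.maximalIdeal (X.presheaf.stalk ((f.fiberι s) y)) := by
  rw [← FibStalk.ker_eq_map]
  refine le_antisymm ?_ ?_
  · intro c hc
    rw [IsLocalRing.mem_maximalIdeal, mem_nonunits_iff]
    intro hcu
    have h3 : IsUnit (((f.fiberι s).stalkMap y).hom c) := hcu.map _
    rw [(RingHom.mem_ker).mp hc] at h3
    exact not_isUnit_zero h3
  · intro c hc
    rw [RingHom.mem_ker]
    set g := f.fiberToSpecResidueField s with hg
    set z := ((f.fiberι s).stalkMap y).hom c with hz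
    have hzu : ¬ IsUnit z := by
      intro hu
      exact hc (isUnit_of_map_unit ((f.fiberι s).stalkMap y).hom c hu)
    set z' := (inv (g.stalkMap y)).hom z with hz'
    have e1 : (g.stalkMap y).hom z' = z := by
      rw [hz']
      change (inv (g.stalkMap y) ≫ g.stalkMap y).hom z = z
      rw [IsIso.inv_hom_id]
      rfl
    have hz'u : ¬ IsUnit z' := by
      intro hu
      exact hzu (e1 ▸ hu.map _)
    have : z' = 0 := FibStalk.stalk_field_eq_zero (S.residueField s) (g y) z' hz'u
    rw [← e1, this, map_zero]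

theorem map_maximalIdeal_eq_of_isIso_fiber {X S : Scheme.{u}} (f : X ⟶ S) (s : S)
    [IsIso (f.fiberToSpecResidueField s)] (x : X) (hx : f x = s) :
    Ideal.map (f.stalkMap x).hom (IsLocalRing.maximalIdeal (S.presheaf.stalk (f x))) =
    IsLocalRing.maximalIdeal (X.presheaf.stalk x) := by
  have : x ∈ Set.range (f.fiberι s) := by
    rw [f.range_fiberι]
    exact hx
  obtain ⟨y, rfl⟩ := this
  exact map_maximalIdeal_eq_of_isIso_fiber_aux f s y

/-- core lemma: if `π` has a section `σ`, the stalk map of `π` at `σ x` is essentially of finite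
type and the fibre of `π` over `x` is `Spec κ(x)`, then `σ` induces an isomorphism on stalks at
`x`. -/
theorem isIso_stalkMap_section {P X : Scheme.{u}} (π : P ⟶ X) (σ : X ⟶ P) (hσ : σ ≫ π = 𝟙 X)
    (x : X) (hft : (π.stalkMap (σ x)).hom.EssFiniteType)
    [IsIso (π.fiberToSpecResidueField x)] : IsIso (σ.stalkMap x) := by
  have hπσ : π (σ x) = x := by
    have := congrArg (fun h : X ⟶ X => h x) hσ
    simpa using this
  have hm := map_maximalIdeal_eq_of_isIso_fiber π x (σ x) hπσ
  haveI : IsIso (σ ≫ π) := by rw [hσ]; infer_instance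
  have h1 : IsIso ((σ ≫ π).stalkMap x) := inferInstance
  haveI : IsIso (π.stalkMap (σ x) ≫ σ.stalkMap x) := by
    rw [← Scheme.Hom.stalkMap_comp]
    exact h1
  set φ := (π.stalkMap (σ x)).hom with hφ
  set ρ := (σ.stalkMap x).hom with hρ
  set e := inv (π.stalkMap (σ x) ≫ σ.stalkMap x) with he
  letI := φ.toAlgebra
  haveI : Algebra.EssFiniteType (X.presheaf.stalk (π (σ x))) (P.presheaf.stalk (σ x)) := hft
  have hρ' : ∀ b, (e.hom.comp ρ) (algebraMap _ _ b) = b := by
    intro b
    change ((π.stalkMap (σ x) ≫ σ.stalkMap x) ≫ e).hom b = b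
    rw [he, IsIso.hom_inv_id]
    rfl
  have hbij := bijective_of_retraction (e.hom.comp ρ) hρ' hm
  have hebij : Function.Bijective e.hom := by
    rw [he]
    exact ConcreteCategory.bijective_of_isIso (inv (π.stalkMap (σ x) ≫ σ.stalkMap x))
  have hρbij : Function.Bijective ρ := by
    have : (e.hom.comp ρ : _ → _) = e.hom ∘ ρ := rfl
    rw [this] at hbij
    exact (Function.Bijective.of_comp_iff' hebij ρ).mp hbij
  exact (ConcreteCategory.isIso_iff_bijective (σ.stalkMap x)).mpr hρbij

/-- a locally-finite-type morphism with a section all of whose fibres are trivial is an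
isomorphism. -/
theorem isIso_of_section_of_forall_fiber {P X : Scheme.{u}} (π : P ⟶ X) [LocallyOfFiniteType π]
    (σ : X ⟶ P) (hσ : σ ≫ π = 𝟙 X) (h : ∀ x, IsIso (π.fiberToSpecResidueField x)) :
    IsIso σ ∧ IsIso π := by
  have hπσ : ∀ x, π (σ x) = x := by
    intro x
    have := congrArg (fun h : X ⟶ X => h x) hσ
    simpa using this
  have hσπ : ∀ p, σ (π p) = p := by
    intro p
    have hsub := FibCI.subsingleton_preimage_singleton_of_isClosedImmersion_fiber π (π p)
      (haveI := h (π p); inferInstance)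
    exact hsub (hπσ (π p)) rfl
  haveI : ∀ x, IsIso (σ.stalkMap x) := fun x =>
    haveI := h x
    isIso_stalkMap_section π σ hσ x (LocallyOfFiniteType.stalkMap π (σ x))
  have hemb : Topology.IsOpenEmbedding σ := by
    refine Topology.IsOpenEmbedding.of_continuous_injective_isOpenMap σ.continuous
      (Function.LeftInverse.injective hπσ) ?_
    intro U hU
    have : σ '' U = π ⁻¹' U := by
      ext p
      constructor
      · rintro ⟨x, hx, rfl⟩
        simpa [hπσ x] using hx
      · intro hp
        exact ⟨π p, hp, hσπ p⟩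
    rw [this]
    exact hU.preimage π.continuous
  haveI : IsOpenImmersion σ := IsOpenImmersion.of_isIso_stalkMap σ hemb
  haveI : Surjective σ := ⟨fun p => ⟨π p, hσπ p⟩⟩
  haveI : IsIso σ := (isIso_iff_isOpenImmersion_and_surjective σ).mpr ⟨inferInstance, inferInstance⟩
  refine ⟨inferInstance, ?_⟩
  have : π = inv σ := by
    rw [← cancel_epi σ, hσ, IsIso.hom_inv_id]
  rw [this]
  infer_instance


/-- if `π` has a section, a monomorphic fibre is an isomorphism -/
theorem isIso_fiber_of_mono_of_section {P X : Scheme.{u}} (π : P ⟶ X) (σ : X ⟶ P)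
    (hσ : σ ≫ π = 𝟙 X) (x : X) [Mono (π.fiberToSpecResidueField x)] :
    IsIso (π.fiberToSpecResidueField x) := by
  haveI : IsSplitEpi (π.fiberToSpecResidueField x) :=
    ⟨⟨⟨pullback.lift (X.fromSpecResidueField x ≫ σ) (𝟙 _)
      (by rw [Category.assoc, hσ, Category.comp_id, Category.id_comp]),
      pullback.lift_snd _ _ _⟩⟩⟩
  exact isIso_of_mono_of_isSplitEpi _

/-- S3042: a locally-finite-type morphism is a monomorphism iff all its fibres are. -/
theorem mono_iff_forall_fiber {X Y : Scheme.{u}} (f : X ⟶ Y) [LocallyOfFiniteType f] :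
    Mono f ↔ ∀ y : Y, Mono (f.fiberToSpecResidueField y) := by
  constructor
  · intro h y
    unfold Scheme.Hom.fiberToSpecResidueField
    exact MorphismProperty.pullback_snd (P := MorphismProperty.monomorphisms Scheme.{u}) _ _
      (MorphismProperty.monomorphisms.infer_property f)
  · intro h
    have hpb : IsPullback (pullback.fst f f) (pullback.snd f f) f f := IsPullback.of_hasPullback f f
    have hσ : pullback.diagonal f ≫ pullback.snd f f = 𝟙 X := pullback.diagonal_snd f
    have hfib : ∀ x, IsIso ((pullback.snd f f).fiberToSpecResidueField x) := by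
      intro x
      haveI : Mono ((pullback.snd f f).fiberToSpecResidueField x) := by
        have := isPullback_fiberToSpecResidueField_of_isPullback hpb x
        exact MorphismProperty.of_isPullback (P := MorphismProperty.monomorphisms _) this
          (h (f x))
      exact isIso_fiber_of_mono_of_section _ _ hσ x
    haveI := (isIso_of_section_of_forall_fiber (pullback.snd f f) (pullback.diagonal f) hσ hfib).2
    exact IsKernelPair.mono_of_isIso_fst hpb.flip

end Groth.Agent.Lib.Helper10.SecFib
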