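import Mathlib

/-!
# Relative uniqueness of spreading out, without germ-injectivity (helper10)

If `f g : X ⟶ Y` are morphisms over `S`, `Y → S` is of finite type near `f x`, and `f`, `g` agree
on `Spec 𝒪_{X,x}`, then they agree on an open neighbourhood of `x`.
-/

set_option autoImplicit false
universe u
open CategoryTheory CategoryTheory.Limits AlgebraicGeometry TopologicalSpace

namespace Groth.Agent.Lib.Helper10.SpreadUniq

variable {X Y S : Scheme.{u}}

/-- a section of an affine open with zero germ at `x` is killed by a function invertible at `x` -/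
lemma exists_mul_eq_zero_of_germ_eq_zero {U : X.Opens} (hU : IsAffineOpen U) (x : X) (hx : x ∈ U)
    (t : Γ(X, U)) (ht : X.presheaf.germ U x hx t = 0) :
    ∃ c : Γ(X, U), x ∈ X.basicOpen c ∧ c * t = 0 := by
  letI := X.presheaf.algebra_section_stalk ⟨x, hx⟩
  haveI := hU.isLocalization_stalk ⟨x, hx⟩
  obtain ⟨⟨c, hc⟩, hc0⟩ := (IsLocalization.map_eq_zero_iff
    (hU.primeIdealOf ⟨x, hx⟩).asIdeal.primeCompl (X.presheaf.stalk x) t).mp ht
  refine ⟨c, ?_, hc0⟩
  rw [Scheme.mem_basicOpen _ _ x hx]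
  exact (IsLocalization.AtPrime.isUnit_to_map_iff (X.presheaf.stalk x)
    (hU.primeIdealOf ⟨x, hx⟩).asIdeal c).mpr hc

lemma exists_mul_eq_zero_of_forall_germ_eq_zero {U : X.Opens} (hU : IsAffineOpen U) (x : X)
    (hx : x ∈ U) {ι : Type*} (T : Finset ι) (d : ι → Γ(X, U))
    (ht : ∀ i ∈ T, X.presheaf.germ U x hx (d i) = 0) :
    ∃ c : Γ(X, U), x ∈ X.basicOpen c ∧ ∀ i ∈ T, c * d i = 0 := by
  classical
  induction T using Finset.induction_on with
  | empty => exact ⟨1, by simp [hx], by simp⟩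
  | insert a T ha ih =>
    obtain ⟨c, hc, hc0⟩ := ih (fun i hi => ht i (Finset.mem_insert_of_mem hi))
    obtain ⟨c', hc', hc0'⟩ := exists_mul_eq_zero_of_germ_eq_zero hU x hx (d a)
      (ht a (Finset.mem_insert_self a T))
    refine ⟨c * c', ?_, ?_⟩
    · rw [Scheme.basicOpen_mul]
      exact ⟨hc, hc'⟩
    · intro i hi
      rcases Finset.mem_insert.mp hi with rfl | hi
      · rw [mul_assoc, hc0', mul_zero]
      · rw [mul_comm c c', mul_assoc, hc0 i hi, mul_zero]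

set_option backward.isDefEq.respectTransparency false in
/-- relative uniqueness of spreading out: no germ-injectivity needed when the target is of finite
type over the base near the point. -/
theorem spread_out_unique_of_finiteType (sY : Y ⟶ S) {x : X} (f g : X ⟶ Y)
    (hfg : f ≫ sY = g ≫ sY) (e' : X.fromSpecStalk x ≫ f = X.fromSpecStalk x ≫ g)
    (V₀ : S.Opens) (W₀ : Y.Opens) (hW₀ : IsAffineOpen W₀) (hxW₀ : f x ∈ W₀)
    (e₀ : W₀ ≤ sY ⁻¹ᵁ V₀) (hft : (sY.appLE V₀ W₀ e₀).hom.FiniteType) :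
    ∃ U : X.Opens, x ∈ U ∧ U.ι ≫ f = U.ι ≫ g := by
  have e : f x = g x := by simpa using congr($e' (IsLocalRing.closedPoint _))
  have H : f.stalkMap x =
      Y.presheaf.stalkSpecializes (Inseparable.of_eq e.symm).specializes ≫ g.stalkMap x := by
    apply Spec.map_injective
    rw [← cancel_mono (Y.fromSpecStalk _)]
    simpa [Scheme.SpecMap_stalkSpecializes_fromSpecStalk]
  have hxW₀' : g x ∈ W₀ := e ▸ hxW₀
  obtain ⟨_, ⟨U₀, hU₀, rfl⟩, hxU₀, hU₀W⟩ := X.isBasis_affineOpens.exists_subset_of_mem_open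
    (show x ∈ ((f ⁻¹ᵁ W₀ ⊓ g ⁻¹ᵁ W₀ : X.Opens) : Set X) from ⟨hxW₀, hxW₀'⟩)
    (f ⁻¹ᵁ W₀ ⊓ g ⁻¹ᵁ W₀).isOpen
  have hUf : U₀ ≤ f ⁻¹ᵁ W₀ := fun y hy => (hU₀W hy).1
  have hUg : U₀ ≤ g ⁻¹ᵁ W₀ := fun y hy => (hU₀W hy).2
  replace hU₀ : IsAffineOpen U₀ := hU₀
  have hgerm : f.appLE W₀ U₀ hUf ≫ X.presheaf.germ U₀ x hxU₀ =
      g.appLE W₀ U₀ hUg ≫ X.presheaf.germ U₀ x hxU₀ := by
    simp only [Scheme.Hom.appLE, Category.assoc, X.presheaf.germ_res', ← Scheme.Hom.germ_stalkMap, H]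
    simp only [TopCat.Presheaf.germ_stalkSpecializes_assoc, Scheme.Hom.germ_stalkMap]
  set α := f.appLE W₀ U₀ hUf with hα
  set β := g.appLE W₀ U₀ hUg with hβ
  set γ := sY.appLE V₀ W₀ e₀ with hγ
  have hγαβ : γ ≫ α = γ ≫ β := by
    rw [hγ, hα, hβ, Scheme.Hom.appLE_comp_appLE, Scheme.Hom.appLE_comp_appLE]
    simp only [hfg]
  letI := γ.hom.toAlgebra
  obtain ⟨T, hT⟩ := hft
  obtain ⟨c, hxc, hc⟩ := exists_mul_eq_zero_of_forall_germ_eq_zero hU₀ x hxU₀ T
    (fun b => α.hom b - β.hom b) (by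
      intro b _
      rw [map_sub, sub_eq_zero]
      exact congr($hgerm b))
  have hUU₀ : X.basicOpen c ≤ U₀ := X.basicOpen_le c
  refine ⟨X.basicOpen c, hxc, ?_⟩
  rw [← Scheme.Hom.resLE_comp_ι _ (hUU₀.trans hUf), ← Scheme.Hom.resLE_comp_ι _ (hUU₀.trans hUg)]
  congr 1
  have : IsAffine W₀ := hW₀
  suffices ∀ (U' V') (eU : X.basicOpen c = U') (eV : W₀ = V'),
      f.appLE V' U' (eU ▸ eV ▸ hUU₀.trans hUf) =
        g.appLE V' U' (eU ▸ eV ▸ hUU₀.trans hUg) by
    rw [← cancel_mono W₀.toScheme.isoSpec.hom]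
    simp only [Scheme.isoSpec, asIso_hom, Scheme.toSpecΓ_naturality,
      Scheme.Hom.app_eq_appLE, Scheme.Hom.resLE_appLE]
    congr 2
    apply this <;> simp
  rintro U' V' rfl rfl
  set r := X.presheaf.map (homOfLE hUU₀).op with hr
  have h1 : f.appLE W₀ (X.basicOpen c) (hUU₀.trans hUf) = α ≫ r := by
    rw [hα, hr, Scheme.Hom.appLE_map]
  have h2 : g.appLE W₀ (X.basicOpen c) (hUU₀.trans hUg) = β ≫ r := by
    rw [hβ, hr, Scheme.Hom.appLE_map]
  rw [h1, h2]
  have hcu : IsUnit (r.hom c) := RingedSpace.isUnit_res_basicOpen X.toRingedSpace c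
  ext b
  change r.hom (α.hom b) = r.hom (β.hom b)
  have hb : b ∈ Algebra.adjoin Γ(S, V₀) (T : Set Γ(Y, W₀)) := by rw [hT]; trivial
  induction hb using Algebra.adjoin_induction with
  | mem t ht =>
    have h3 := congrArg r.hom (hc t ht)
    rw [map_mul, map_zero, hcu.mul_right_eq_zero, map_sub, sub_eq_zero] at h3
    exact h3
  | algebraMap a =>
    exact congrArg r.hom congr($hγαβ a)
  | add p q _ _ hp hq => rw [map_add, map_add, map_add, map_add, hp, hq]
  | mul p q _ _ hp hq => rw [map_mul, map_mul, map_mul, map_mul, hp, hq]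

end Groth.Agent.Lib.Helper10.SpreadUniq
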