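import Mathlib
import Groth.Agent.Lib.Helper10SecFib
import Groth.Agent.Lib.Helper10SpreadUniq

/-!
# Sections and trivial fibres II (helper10): local version (S5321)
-/

set_option autoImplicit false
universe u
open CategoryTheory CategoryTheory.Limits AlgebraicGeometry TopologicalSpace

namespace Groth.Agent.Lib.Helper10.SecFib

variable {X S : Scheme.{u}}

/-- stalk maps are essentially of finite type at points of an open on which the morphism is
locally of finite type -/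
lemma essFiniteType_stalkMap_of_mem (π : X ⟶ S) (W : X.Opens) [LocallyOfFiniteType (W.ι ≫ π)]
    (x : X) (hx : x ∈ W) : (π.stalkMap x).hom.EssFiniteType := by
  let w : W.toScheme := ⟨x, hx⟩
  have h := LocallyOfFiniteType.stalkMap (W.ι ≫ π) w
  have h2 := Scheme.Hom.stalkMap_comp W.ι π w
  rw [h2] at h
  exact (RingHom.EssFiniteType.respectsIso.cancel_right_isIso _ (W.ι.stalkMap w)).mp h

lemma isIso_map_homOfLE_of_eq {U V : X.Opens} (h : U ≤ V) (e : U = V) :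
    IsIso (X.presheaf.map (homOfLE h).op) := by
  subst e
  have : homOfLE h = 𝟙 U := Subsingleton.elim _ _
  rw [this]
  simp only [op_id, CategoryTheory.Functor.map_id]
  infer_instance

set_option backward.isDefEq.respectTransparency false in
/-- chart maps are of finite type inside an open on which the morphism is locally of finite
type -/
lemma finiteType_appLE_of_le (π : X ⟶ S) (W : X.Opens) [LocallyOfFiniteType (W.ι ≫ π)]
    {V₀ : S.Opens} (hV₀ : IsAffineOpen V₀) {W₀ : X.Opens} (hW₀ : IsAffineOpen W₀) (hW₀W : W₀ ≤ W)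
    (e₀ : W₀ ≤ π ⁻¹ᵁ V₀) : (π.appLE V₀ W₀ e₀).hom.FiniteType := by
  haveI : LocallyOfFiniteType (W₀.ι ≫ π) := by
    have : W₀.ι ≫ π = X.homOfLE hW₀W ≫ W.ι ≫ π := by rw [← Category.assoc, Scheme.homOfLE_ι]
    rw [this]
    infer_instance
  haveI : IsAffine W₀ := hW₀
  have e1 : (⊤ : W₀.toScheme.Opens) ≤ (W₀.ι ≫ π) ⁻¹ᵁ V₀ := by
    intro w _
    exact e₀ w.2
  have h := (W₀.ι ≫ π).finiteType_appLE hV₀ (isAffineOpen_top W₀.toScheme) e1
  have hle : W₀.ι ''ᵁ ⊤ ≤ W₀ := (Scheme.Opens.ι_image_top W₀).le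
  have h2 : (W₀.ι ≫ π).appLE V₀ ⊤ e1 = π.appLE V₀ W₀ e₀ ≫ X.presheaf.map (homOfLE hle).op := by
    rw [Scheme.Hom.comp_appLE, Scheme.Opens.ι_appLE, Scheme.Hom.appLE, Category.assoc,
      ← Functor.map_comp]
    rfl
  haveI : IsIso (X.presheaf.map (homOfLE hle).op) :=
    isIso_map_homOfLE_of_eq hle (Scheme.Opens.ι_image_top W₀)
  rw [h2] at h
  exact (RingHom.finiteType_respectsIso.cancel_right_isIso _ _).mp h

/-- if `π ≫ ε` is the identity on the open `U₁` (where `ε` is a section of `π`), then `π` is an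
open immersion on `U₁`. -/
lemma isOpenImmersion_ι_comp_of_section (π : X ⟶ S) (ε : S ⟶ X) (hε : ε ≫ π = 𝟙 S) (U₁ : X.Opens)
    (h : U₁.ι ≫ π ≫ ε = U₁.ι) : IsOpenImmersion (U₁.ι ≫ π) := by
  have hr : Set.range (U₁.ι ≫ π) ⊆ Set.range (ε ⁻¹ᵁ U₁).ι := by
    rw [Scheme.Opens.range_ι]
    rintro _ ⟨u, rfl⟩
    change ε ((U₁.ι ≫ π) u) ∈ U₁
    have : ε ((U₁.ι ≫ π) u) = U₁.ι u := by
      have := congrArg (fun k : U₁.toScheme ⟶ X => k u) h
      simpa using this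
    rw [this]
    exact u.2
  let p : U₁.toScheme ⟶ (ε ⁻¹ᵁ U₁).toScheme := IsOpenImmersion.lift (ε ⁻¹ᵁ U₁).ι (U₁.ι ≫ π) hr
  have hp : p ≫ (ε ⁻¹ᵁ U₁).ι = U₁.ι ≫ π := IsOpenImmersion.lift_fac _ _ hr
  have h1 : p ≫ (ε ∣_ U₁) = 𝟙 _ := by
    rw [← cancel_mono U₁.ι, Category.assoc, morphismRestrict_ι, ← Category.assoc, hp,
      Category.assoc, h, Category.id_comp]
  have h2 : (ε ∣_ U₁) ≫ p = 𝟙 _ := by
    rw [← cancel_mono (ε ⁻¹ᵁ U₁).ι, Category.assoc, hp, ← Category.assoc, morphismRestrict_ι,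
      Category.assoc, hε, Category.comp_id, Category.id_comp]
  haveI : IsIso p := ⟨ε ∣_ U₁, h1, h2⟩
  rw [← hp]
  infer_instance

theorem main5321 (X S : Scheme.{u}) (π : X ⟶ S) (ε : S ⟶ X) (hε : ε ≫ π = 𝟙 S)
    (hcl : IsClosedMap π.base) (s : S)
    (hfp : ∃ W : X.Opens, ε.base s ∈ W ∧ LocallyOfFinitePresentation (W.ι ≫ π))
    (hs : IsIso (π.fiberToSpecResidueField s)) :
    ∃ U : S.Opens, s ∈ U ∧ IsIso (π ∣_ U) := by
  obtain ⟨W, hsW, hW⟩ := hfp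
  haveI : LocallyOfFiniteType (W.ι ≫ π) := inferInstance
  have hπε : ∀ v, π (ε v) = v := by
    intro v
    have := congrArg (fun h : S ⟶ S => h v) hε
    simpa using this
  haveI : IsIso (ε.stalkMap s) :=
    isIso_stalkMap_section π ε hε s (essFiniteType_stalkMap_of_mem π W (ε s) hsW)
  have e' : X.fromSpecStalk (ε s) ≫ (π ≫ ε) = X.fromSpecStalk (ε s) ≫ 𝟙 X := by
    rw [← cancel_epi (Spec.map (ε.stalkMap s)), Category.comp_id,
      Scheme.SpecMap_stalkMap_fromSpecStalk_assoc, Scheme.SpecMap_stalkMap_fromSpecStalk,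
      reassoc_of% hε]
  obtain ⟨_, ⟨V₀, hV₀, rfl⟩, hsV₀, -⟩ :=
    S.isBasis_affineOpens.exists_subset_of_mem_open (Set.mem_univ s) isOpen_univ
  obtain ⟨_, ⟨W₀, hW₀, rfl⟩, hsW₀, hW₀le⟩ := X.isBasis_affineOpens.exists_subset_of_mem_open
    (show ε s ∈ ((W ⊓ π ⁻¹ᵁ V₀ : X.Opens) : Set X) from ⟨hsW, by
      change π (ε s) ∈ V₀
      rw [hπε]; exact hsV₀⟩) (W ⊓ π ⁻¹ᵁ V₀).isOpen
  have hW₀W : W₀ ≤ W := fun y hy => (hW₀le hy).1
  have e₀ : W₀ ≤ π ⁻¹ᵁ V₀ := fun y hy => (hW₀le hy).2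
  have hmem : (π ≫ ε) (ε s) ∈ W₀ := by
    change ε (π (ε s)) ∈ W₀
    rw [hπε]; exact hsW₀
  obtain ⟨U₁, hsU₁, hU₁⟩ := SpreadUniq.spread_out_unique_of_finiteType π (π ≫ ε) (𝟙 X)
    (by rw [Category.assoc, hε, Category.comp_id, Category.id_comp]) e' V₀ W₀ hW₀ hmem e₀
    (finiteType_appLE_of_le π W hV₀ hW₀ hW₀W e₀)
  rw [Category.comp_id] at hU₁
  haveI := isOpenImmersion_ι_comp_of_section π ε hε U₁ hU₁
  -- the open `U`
  have hsub := FibCI.subsingleton_preimage_singleton_of_isClosedImmersion_fiber π s inferInstance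
  have hZ : IsClosed (π '' ((U₁ : Set X)ᶜ)) := hcl _ U₁.isOpen.isClosed_compl
  let U : S.Opens := ⟨(π '' ((U₁ : Set X)ᶜ))ᶜ, hZ.isOpen_compl⟩
  have hsU : s ∈ U := by
    rintro ⟨z, hz, hzs⟩
    have : z = ε s := hsub hzs (hπε s)
    exact hz (this ▸ hsU₁)
  have hUle : π ⁻¹ᵁ U ≤ U₁ := by
    intro z hz
    by_contra hzU
    exact hz ⟨z, hzU, rfl⟩
  refine ⟨U, hsU, ?_⟩
  haveI : IsOpenImmersion ((π ∣_ U) ≫ U.ι) := by
    rw [morphismRestrict_ι]
    have : (π ⁻¹ᵁ U).ι ≫ π = X.homOfLE hUle ≫ U₁.ι ≫ π := by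
      rw [← Category.assoc, Scheme.homOfLE_ι]
    rw [this]
    infer_instance
  haveI : IsOpenImmersion (π ∣_ U) := IsOpenImmersion.of_comp _ U.ι
  haveI : Surjective (π ∣_ U) := by
    refine ⟨fun u => ⟨⟨ε u.1, ?_⟩, Subtype.ext ?_⟩⟩
    · change π (ε u.1) ∈ U
      rw [hπε]; exact u.2
    · exact (morphismRestrict_base_coe π U _).trans (hπε u.1)
  exact (isIso_iff_isOpenImmersion_and_surjective _).mpr ⟨inferInstance, inferInstance⟩

end Groth.Agent.Lib.Helper10.SecFib
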