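import Mathlib
import Groth.Prelude.Def_SekSuwa2
import Groth.Prelude.Def_Mor2

/-!
# `G_{λ,N}` is finite locally free of degree `N`

The coordinate ring `AK R lam N h` is isomorphic to `R[T]/(P_{λ,N})` with `P_{λ,N}` monic of degree `N`.
-/

universe u

namespace Groth.Agent.Lib.Helper24GKFree

open Polynomial SekSuwa

variable {R : Type u} [CommRing R] {lam : R} {N : ℕ}

theorem eq_comp (lam : R) (N : ℕ) :
    ((1 + C lam * X) ^ N : R[X]) = ((X + C (1 : R)) ^ N : R[X]).comp (C lam * X) := by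
  rw [pow_comp, add_comp, X_comp, C_comp, C_1, add_comm]

theorem coeff_rhs (lam : R) (N : ℕ) (hN : 0 < N) :
    ((1 + C lam * X) ^ N - 1 : R[X]).coeff N = lam ^ N := by
  rw [coeff_sub, coeff_one, if_neg (by omega), sub_zero, eq_comp, comp_C_mul_X_coeff,
    coeff_X_add_C_pow]
  simp

theorem natDegree_rhs_le (lam : R) (N : ℕ) :
    ((1 + C lam * X) ^ N - 1 : R[X]).natDegree ≤ N := by
  refine (natDegree_sub_le _ _).trans ?_
  rw [natDegree_one, max_eq_left (Nat.zero_le _)]
  refine natDegree_pow_le.trans ?_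
  have : (1 + C lam * X : R[X]).natDegree ≤ 1 := by
    refine (natDegree_add_le _ _).trans ?_
    rw [natDegree_one]
    exact max_le (Nat.zero_le _) (natDegree_C_mul_le _ _ |>.trans natDegree_X_le)
  calc N * (1 + C lam * X : R[X]).natDegree ≤ N * 1 := Nat.mul_le_mul_left _ this
    _ = N := mul_one _

theorem coeff_psiPoly (h : DivCond lam N) (k : ℕ) :
    lam ^ N * (psiPoly lam N h).coeff k = ((1 + C lam * X) ^ N - 1 : R[X]).coeff k := by
  rw [← psiPoly_spec h, coeff_C_mul]

theorem psiPoly_natDegree_le (h : DivCond lam N) : (psiPoly lam N h).natDegree ≤ N := by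
  rw [natDegree_le_iff_coeff_eq_zero]
  intro k hk
  have h1 := coeff_psiPoly h k
  rw [coeff_eq_zero_of_natDegree_lt (lt_of_le_of_lt (natDegree_rhs_le lam N) hk)] at h1
  exact cancel_nzd h.pow_nzd (h1.trans (mul_zero _).symm)

theorem psiPoly_coeff_N (hN : 0 < N) (h : DivCond lam N) : (psiPoly lam N h).coeff N = 1 := by
  have h1 := coeff_psiPoly h N
  rw [coeff_rhs lam N hN] at h1
  exact cancel_nzd h.pow_nzd (h1.trans (mul_one _).symm)

theorem psiPoly_monic (hN : 0 < N) (h : DivCond lam N) : (psiPoly lam N h).Monic :=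
  monic_of_natDegree_le_of_coeff_eq_one N (psiPoly_natDegree_le h) (psiPoly_coeff_N hN h)

theorem psiPoly_natDegree [Nontrivial R] (hN : 0 < N) (h : DivCond lam N) :
    (psiPoly lam N h).natDegree = N := by
  refine le_antisymm (psiPoly_natDegree_le h) ?_
  apply le_natDegree_of_ne_zero
  rw [psiPoly_coeff_N hN h]
  exact one_ne_zero

section Iso

theorem root_pow (h : DivCond lam N) :
    (1 + lam • (AdjoinRoot.root (psiPoly lam N h))) ^ N = 1 := by
  have := aeval_psiPoly h (AdjoinRoot.root (psiPoly lam N h))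
  rw [AdjoinRoot.aeval_eq, AdjoinRoot.mk_self, mul_zero] at this
  rw [Algebra.smul_def]
  exact (sub_eq_zero.1 this.symm)

theorem root_rel (hN : 0 < N) (h : DivCond lam N) :
    (1 + lam • (AdjoinRoot.root (psiPoly lam N h))) *
      (1 + lam • (AdjoinRoot.root (psiPoly lam N h))) ^ (N - 1) = 1 := by
  rw [← pow_succ', Nat.sub_add_cancel hN]
  exact root_pow h

/-- The map `AK → R[T]/(P)`. -/
noncomputable def toAdj (hN : 0 < N) (h : DivCond lam N) :
    AK R lam N h →ₐ[R] AdjoinRoot (psiPoly lam N h) :=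
  Ideal.Quotient.liftₐ (kerIdeal lam N h)
    (A.lift R lam (AdjoinRoot.root (psiPoly lam N h))
      ((1 + lam • (AdjoinRoot.root (psiPoly lam N h))) ^ (N - 1)) (root_rel hN h)) (by
    intro a ha
    obtain ⟨c, rfl⟩ := Ideal.mem_span_singleton'.1 ha
    rw [map_mul, kerGen, ← Polynomial.aeval_algHom_apply, A.lift_t, AdjoinRoot.aeval_eq,
      AdjoinRoot.mk_self, mul_zero])

theorem toAdj_t (hN : 0 < N) (h : DivCond lam N) :
    toAdj hN h AK.t = AdjoinRoot.root (psiPoly lam N h) := by
  exact A.lift_t _ _ (root_rel hN h)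

theorem toAdj_inv (hN : 0 < N) (h : DivCond lam N) :
    toAdj hN h AK.inv = (1 + lam • (AdjoinRoot.root (psiPoly lam N h))) ^ (N - 1) := by
  exact A.lift_inv _ _ (root_rel hN h)

/-- The map `R[T]/(P) → AK`. -/
noncomputable def fromAdj (h : DivCond lam N) :
    AdjoinRoot (psiPoly lam N h) →ₐ[R] AK R lam N h :=
  Ideal.Quotient.liftₐ (Ideal.span {psiPoly lam N h}) (Polynomial.aeval AK.t) (by
    intro a ha
    obtain ⟨c, rfl⟩ := Ideal.mem_span_singleton'.1 ha
    rw [map_mul, AK.aeval_t, mul_zero])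

theorem fromAdj_root (h : DivCond lam N) :
    fromAdj h (AdjoinRoot.root (psiPoly lam N h)) = AK.t := by
  change Polynomial.aeval (AK.t : AK R lam N h) X = _
  rw [aeval_X]

theorem AK_inv_eq (hN : 0 < N) (h : DivCond lam N) :
    (AK.inv : AK R lam N h) = (1 + lam • (AK.t : AK R lam N h)) ^ (N - 1) := by
  have e1 : (1 + lam • (AK.t : AK R lam N h)) * AK.inv = 1 := by
    have := congrArg (AK.mkHom R lam N h) (A.u_mul_inv (R := R) (lam := lam))
    rw [map_mul, map_one, A.u, map_add, map_one, map_smul] at this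
    exact this
  have e2 : (1 + lam • (AK.t : AK R lam N h)) * (1 + lam • (AK.t : AK R lam N h)) ^ (N - 1) = 1 := by
    rw [← pow_succ', Nat.sub_add_cancel hN]
    exact AK.u_pow
  calc (AK.inv : AK R lam N h) = AK.inv * ((1 + lam • (AK.t : AK R lam N h)) *
        (1 + lam • (AK.t : AK R lam N h)) ^ (N - 1)) := by rw [e2, mul_one]
    _ = ((1 + lam • (AK.t : AK R lam N h)) * AK.inv) * (1 + lam • (AK.t : AK R lam N h)) ^ (N - 1) := by
        ring
    _ = _ := by rw [e1, one_mul]

/-- `AK ≃ R[T]/(P)`. -/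
noncomputable def equivAdj (hN : 0 < N) (h : DivCond lam N) :
    AK R lam N h ≃ₐ[R] AdjoinRoot (psiPoly lam N h) :=
  AlgEquiv.ofAlgHom (toAdj hN h) (fromAdj h)
    (by
      apply AdjoinRoot.algHom_ext
      rw [AlgHom.comp_apply, fromAdj_root, toAdj_t, AlgHom.id_apply])
    (by
      apply AK.algHom_ext
      · rw [AlgHom.comp_apply, toAdj_t, fromAdj_root, AlgHom.id_apply]
      · rw [AlgHom.comp_apply, toAdj_inv, map_pow, map_add, map_one, map_smul, fromAdj_root,
          AlgHom.id_apply, AK_inv_eq hN h])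

theorem free (hN : 0 < N) (h : DivCond lam N) : Module.Free R (AK R lam N h) :=
  Module.Free.of_equiv' (Module.Free.of_basis (AdjoinRoot.powerBasis' (psiPoly_monic hN h)).basis)
    (equivAdj hN h).symm.toLinearEquiv

theorem finite (hN : 0 < N) (h : DivCond lam N) : Module.Finite R (AK R lam N h) :=
  haveI : Module.Finite R (AdjoinRoot (psiPoly lam N h)) :=
    Module.Finite.of_basis (AdjoinRoot.powerBasis' (psiPoly_monic hN h)).basis
  Module.Finite.equiv (equivAdj hN h).symm.toLinearEquiv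

theorem finrank_eq [Nontrivial R] (hN : 0 < N) (h : DivCond lam N) :
    Module.finrank R (AK R lam N h) = N := by
  rw [LinearEquiv.finrank_eq (equivAdj hN h).toLinearEquiv,
    Module.finrank_eq_card_basis (AdjoinRoot.powerBasis' (psiPoly_monic hN h)).basis,
    Fintype.card_fin, AdjoinRoot.powerBasis'_dim, psiPoly_natDegree hN h]

end Iso

end Groth.Agent.Lib.Helper24GKFree
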