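import Mathlib
import Groth.Prelude.Def_SekSuwa2
import Groth.Agent.Lib.Helper24GKFree

/-!
# Helper10SekSuwa: `alphaNHom` is bijective on points where `λ` is invertible
-/

set_option autoImplicit false
universe u

open Polynomial SekSuwa
open Groth.Agent.Lib.Helper24GKFree

namespace Groth.Agent.Lib.Helper10.SekSuwaPts

variable {R : Type u} [CommRing R] {lam : R} {N : ℕ}

lemma gen_pow (N : ℕ) :
    (MonoidAlgebra.single (Multiplicative.ofAdd (1 : ZMod N)) (1 : R) :
      MonoidAlgebra R (Multiplicative (ZMod N))) ^ N = 1 := by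
  rw [MonoidAlgebra.single_pow, one_pow, ← ofAdd_nsmul, nsmul_eq_mul, mul_one, ZMod.natCast_self,
    ofAdd_zero]
  rfl

lemma single_eq_gen_pow (N : ℕ) [NeZero N] (g : Multiplicative (ZMod N)) :
    (MonoidAlgebra.single g (1 : R) : MonoidAlgebra R (Multiplicative (ZMod N))) =
      (MonoidAlgebra.single (Multiplicative.ofAdd (1 : ZMod N)) (1 : R)) ^ (Multiplicative.toAdd g).val := by
  rw [MonoidAlgebra.single_pow, one_pow, ← ofAdd_nsmul, nsmul_eq_mul, mul_one, ZMod.natCast_zmod_val]
  rfl

theorem bijective_comp_alphaNHom (hN : 0 < N) (h : DivCond lam N) (B : Type u) [CommRing B]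
    [Algebra R B] (hlam : IsUnit (algebraMap R B lam)) :
    Function.Bijective (fun F : AK R lam N h →ₐ[R] B =>
      F.comp (alphaNHom R lam N h : MonoidAlgebra R (Multiplicative (ZMod N)) →ₐ[R] AK R lam N h)) := by
  haveI : NeZero N := ⟨hN.ne'⟩
  have hgen : ∀ F : AK R lam N h →ₐ[R] B,
      (F.comp (alphaNHom R lam N h : MonoidAlgebra R (Multiplicative (ZMod N)) →ₐ[R] AK R lam N h))
        (MonoidAlgebra.single (Multiplicative.ofAdd (1 : ZMod N)) 1) =
        1 + algebraMap R B lam * F AK.t := by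
    intro F
    rw [AlgHom.comp_apply]
    have : (alphaNHom R lam N h : MonoidAlgebra R (Multiplicative (ZMod N)) →ₐ[R] AK R lam N h)
        (MonoidAlgebra.single (Multiplicative.ofAdd (1 : ZMod N)) 1) = 1 + lam • AK.t :=
      alphaNHom_single_one R lam N h
    rw [this, map_add, map_one, map_smul, Algebra.smul_def]
  constructor
  · intro F₁ F₂ hF
    have hF' : F₁.comp (alphaNHom R lam N h : MonoidAlgebra R (Multiplicative (ZMod N)) →ₐ[R] AK R lam N h) =
      F₂.comp (alphaNHom R lam N h : MonoidAlgebra R (Multiplicative (ZMod N)) →ₐ[R] AK R lam N h) := hF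
    have h1 := hgen F₁
    rw [hF', hgen F₂] at h1
    have ht : F₁ AK.t = F₂ AK.t := by
      have h2 : algebraMap R B lam * F₂ AK.t = algebraMap R B lam * F₁ AK.t := add_left_cancel h1
      exact (hlam.mul_right_injective h2).symm
    apply AK.algHom_ext ht
    rw [AK_inv_eq hN h, map_pow, map_pow, map_add, map_add, map_one, map_one, map_smul, map_smul, ht]
  · intro F'
    obtain ⟨u, hu⟩ : ∃ u : B, u = F' (MonoidAlgebra.single (Multiplicative.ofAdd (1 : ZMod N)) 1) :=
      ⟨_, rfl⟩
    have huN : u ^ N = 1 := by rw [hu, ← map_pow, gen_pow, map_one]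
    obtain ⟨c, hc⟩ := hlam.exists_left_inv
    obtain ⟨b, hb⟩ : ∃ b : B, b = c * (u - 1) := ⟨_, rfl⟩
    have hub : 1 + algebraMap R B lam * b = u := by
      rw [hb, ← mul_assoc, mul_comm (algebraMap R B lam) c, hc, one_mul]; ring
    have hroot : Polynomial.aeval b (psiPoly lam N h) = 0 := by
      have h1 := aeval_psiPoly h b
      rw [hub, huN, sub_self] at h1
      have hunit : IsUnit (algebraMap R B (lam ^ N)) := by rw [map_pow]; exact hlam.pow N
      exact (hunit.mul_right_eq_zero).1 h1
    have hroot' : Polynomial.eval₂ (Algebra.ofId R B : R →+* B) b (psiPoly lam N h) = 0 := by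
      rw [Polynomial.aeval_def] at hroot
      exact hroot
    obtain ⟨F, hFdef⟩ : ∃ F : AK R lam N h →ₐ[R] B, F =
        (AdjoinRoot.liftAlgHom (psiPoly lam N h) (Algebra.ofId R B) b hroot').comp (toAdj hN h) :=
      ⟨_, rfl⟩
    have hFt : F AK.t = b := by
      rw [hFdef, AlgHom.comp_apply, toAdj_t, AdjoinRoot.liftAlgHom_root]
    refine ⟨F, ?_⟩
    refine MonoidAlgebra.algHom_ext ?_ (Subsingleton.elim _ _)
    intro g
    show (F.comp (alphaNHom R lam N h : MonoidAlgebra R (Multiplicative (ZMod N)) →ₐ[R] AK R lam N h))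
      (MonoidAlgebra.single g 1) = F' (MonoidAlgebra.single g 1)
    rw [single_eq_gen_pow N g, map_pow, map_pow, hgen F, hFt, hub, hu]

end Groth.Agent.Lib.Helper10.SekSuwaPts
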