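import Mathlib.AlgebraicGeometry.PullbackCarrier
import Mathlib.AlgebraicGeometry.Stalk
import Mathlib.AlgebraicGeometry.Morphisms.Flat
import Mathlib.AlgebraicGeometry.Morphisms.Preimmersion
import Mathlib.RingTheory.Flat.FaithfullyFlat.Algebra
import Mathlib.RingTheory.Flat.Localization

open AlgebraicGeometry CategoryTheory TopologicalSpace Limits

universe u

namespace Groth.Agent.Lib.Helper6

instance flat_fromSpecStalk (Y : Scheme.{u}) (y : Y) : Flat (Y.fromSpecStalk y) := by
  obtain ⟨_, ⟨U, hU, rfl⟩, hyU, -⟩ :=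
    Y.isBasis_affineOpens.exists_subset_of_mem_open (Set.mem_univ y) isOpen_univ
  rw [← hU.fromSpecStalk_eq_fromSpecStalk hyU]
  dsimp [IsAffineOpen.fromSpecStalk]
  have : Flat (Spec.map (Y.presheaf.germ U y hyU)) := by
    rw [HasRingHomProperty.Spec_iff (P := @Flat)]
    let _ : Algebra Γ(Y, U) (Y.presheaf.stalk y) := (Y.presheaf.germ U y hyU).hom.toAlgebra
    have := hU.isLocalization_stalk ⟨y, hyU⟩
    change (algebraMap Γ(Y, U) (Y.presheaf.stalk y)).Flat
    rw [RingHom.flat_algebraMap_iff]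
    exact IsLocalization.flat _ (hU.primeIdealOf ⟨y, hyU⟩).asIdeal.primeCompl
  infer_instance

theorem isIso_stalkMap_of_flat_of_isPreimmersion {X Y : Scheme.{u}} (g : X ⟶ Y) [Flat g]
    [IsPreimmersion g] (t : X) : IsIso (g.stalkMap t) := by
  rw [ConcreteCategory.isIso_iff_bijective]
  refine ⟨?_, g.stalkMap_surjective t⟩
  have hflat : (g.stalkMap t).hom.Flat := Flat.stalkMap g t
  let _ : Algebra (Y.presheaf.stalk (g t)) (X.presheaf.stalk t) := (g.stalkMap t).hom.toAlgebra
  have h1 : Module.Flat (Y.presheaf.stalk (g t)) (X.presheaf.stalk t) := hflat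
  have h2 : IsLocalHom (algebraMap (Y.presheaf.stalk (g t)) (X.presheaf.stalk t)) := by
    change IsLocalHom (g.stalkMap t).hom
    infer_instance
  have h3 : Module.FaithfullyFlat (Y.presheaf.stalk (g t)) (X.presheaf.stalk t) :=
    Module.FaithfullyFlat.of_flat_of_isLocalHom
  exact FaithfulSMul.algebraMap_injective (Y.presheaf.stalk (g t)) (X.presheaf.stalk t)

theorem isIso_stalkMap_fst_pullback_fromSpecStalk
    {X Y : Scheme.{u}} (f : X ⟶ Y) (y : Y) (t : ↑(pullback f (Y.fromSpecStalk y))) :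
    IsIso ((pullback.fst f (Y.fromSpecStalk y)).stalkMap t) :=
  isIso_stalkMap_of_flat_of_isPreimmersion _ t

end Groth.Agent.Lib.Helper6
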