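import Mathlib
import Groth.Agent.Lib.Helper24FlatTF
import Groth.Agent.Lib.Helper6StalkIso

/-!
# Helper10SekSuwa2: non-zero-divisors of the base become units over the function field of a flat
integral scheme
-/

set_option autoImplicit false
universe u

open CategoryTheory AlgebraicGeometry
open Groth.Agent.Lib.Helper24FlatTF

namespace Groth.Agent.Lib.Helper10.SekSuwaPts

lemma Phi_comp_left {W T : Scheme.{u}} {R : Type u} [CommRing R] (r : W ⟶ T)
    (q : T ⟶ Spec (CommRingCat.of R)) : Phi (r ≫ q) = r.appTop.hom.comp (Phi q) := by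
  unfold Phi
  rw [Scheme.Hom.comp_appTop, ← Category.assoc]
  rfl

theorem isUnit_Phi_of_flat {X : Scheme.{u}} [IsIntegral X] {R : Type u} [CommRing R]
    (f : X ⟶ Spec (CommRingCat.of R)) [Flat f] (lam : R) (hlam : lam ∈ nonZeroDivisors R)
    {W : Scheme.{u}} (r : W ⟶ Spec (X.presheaf.stalk (genericPoint X))) :
    IsUnit (Phi ((r ≫ X.fromSpecStalk (genericPoint X)) ≫ f) lam) := by
  letI : Field (X.presheaf.stalk (genericPoint X)) := inferInstanceAs (Field X.functionField)
  obtain ⟨q, hq⟩ : ∃ q : Spec (X.presheaf.stalk (genericPoint X)) ⟶ Spec (CommRingCat.of R),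
      q = X.fromSpecStalk (genericPoint X) ≫ f := ⟨_, rfl⟩
  haveI : Flat q := by rw [hq]; infer_instance
  let e : Γ(Spec (X.presheaf.stalk (genericPoint X)), ⊤) ≃+* X.presheaf.stalk (genericPoint X) :=
    (Scheme.ΓSpecIso (X.presheaf.stalk (genericPoint X))).commRingCatIsoToRingEquiv
  haveI : Nontrivial Γ(Spec (X.presheaf.stalk (genericPoint X)), ⊤) := e.symm.injective.nontrivial
  have hne : Phi q lam ≠ 0 := by
    intro h0
    have h1 := torsionFree q lam hlam 1 (by rw [h0, zero_mul])
    exact one_ne_zero h1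
  have hunit : IsUnit (Phi q lam) := by
    have h2 : e (Phi q lam) ≠ 0 := (map_ne_zero_iff e e.injective).2 hne
    have h3 : IsUnit (e (Phi q lam)) := isUnit_iff_ne_zero.2 h2
    exact (isUnit_map_iff e _).1 h3
  rw [Category.assoc, ← hq, Phi_comp_left]
  exact hunit.map r.appTop.hom

end Groth.Agent.Lib.Helper10.SekSuwaPts
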