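import Mathlib
import Groth.Agent.Lib.Helper10RedInd

set_option autoImplicit false
universe u
open CategoryTheory CategoryTheory.Limits AlgebraicGeometry TopologicalSpace

namespace Groth.Agent.Lib.Helper10.SepDense

set_option backward.isDefEq.respectTransparency false in
/-- two `Z`-morphisms `W ⟶ Y` with `Y ⟶ Z` separated which agree after precomposing with a dominant
morphism agree pointwise -/
theorem apply_eq_of_isDominant_of_isSeparated {W X Y Z : Scheme.{u}} {f g : X ⟶ Y}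
    (s : Y ⟶ Z) [IsSeparated s] (h : f ≫ s = g ≫ s)
    (ι : W ⟶ X) [IsDominant ι] (hU : ι ≫ f = ι ≫ g) (x : X) : f x = g x := by
  let X' : Over Z := Over.mk (f ≫ s)
  let Y' : Over Z := Over.mk s
  let U' : Over Z := Over.mk (ι ≫ f ≫ s)
  let f' : X' ⟶ Y' := Over.homMk f
  let g' : X' ⟶ Y' := Over.homMk g
  let ι' : U' ⟶ X' := Over.homMk ι
  have : IsSeparated Y'.hom := ‹_›
  have : IsDominant (equalizer.ι f' g').left := by
    apply +allowSynthFailures IsDominant.of_comp (equalizer.lift ι' ?_).left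
    · rwa [← Over.comp_left, equalizer.lift_ι]
    · ext1; exact hU
  have hs : Function.Surjective (equalizer.ι f' g').left :=
    (surjective_of_isDominant_of_isClosed_range _
      (Scheme.Hom.isClosedEmbedding _).isClosed_range).surj
  obtain ⟨e, rfl⟩ := hs x
  have := congr($(equalizer.condition f' g').left)
  exact congr($this e)

theorem exists_mem_of_iSup_eq_top {X : Scheme.{u}} {ι : Type*} (U : ι → X.Opens)
    (hU : ⨆ i, U i = ⊤) (x : X) : ∃ i, x ∈ U i := by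
  have : x ∈ (⨆ i, U i : X.Opens) := hU ▸ trivial
  simpa [Opens.mem_iSup] using this

theorem injective_of_dense_cover {X Y : Scheme.{u}} (f : X ⟶ Y) [IsSeparated f]
    {ι : Type u} (U : ι → X.Opens) (hU : ⨆ i, U i = ⊤) (hd : ∀ i, Dense (U i : Set X))
    (h : ∀ i, IsOpenImmersion ((U i).ι ≫ f)) : Function.Injective f := by
  intro x x' hxx'
  obtain ⟨i, hi⟩ := exists_mem_of_iSup_eq_top U hU x
  obtain ⟨j, hj⟩ := exists_mem_of_iSup_eq_top U hU x'
  have := h i
  have := h j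
  let φi := (U i).ι ≫ f
  let φj := (U j).ι ≫ f
  let W : Y.Opens := φi.opensRange ⊓ φj.opensRange
  have hWi : Set.range W.ι ⊆ Set.range φi := by
    rw [Scheme.Opens.range_ι]; exact Set.inter_subset_left
  have hWj : Set.range W.ι ⊆ Set.range φj := by
    rw [Scheme.Opens.range_ι]; exact Set.inter_subset_right
  let li : W.toScheme ⟶ U i := IsOpenImmersion.lift φi W.ι hWi
  let lj : W.toScheme ⟶ U j := IsOpenImmersion.lift φj W.ι hWj
  have hli : li ≫ φi = W.ι := IsOpenImmersion.lift_fac _ _ _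
  have hlj : lj ≫ φj = W.ι := IsOpenImmersion.lift_fac _ _ _
  let gi : W.toScheme ⟶ X := li ≫ (U i).ι
  let gj : W.toScheme ⟶ X := lj ≫ (U j).ι
  have hgi : gi ≫ f = W.ι := by rw [Category.assoc]; exact hli
  have hgj : gj ≫ f = W.ι := by rw [Category.assoc]; exact hlj
  let D : X.Opens := U i ⊓ U j
  let ψ : D.toScheme ⟶ Y := D.ι ≫ f
  have hψ : Set.range ψ ⊆ Set.range W.ι := by
    rw [Scheme.Opens.range_ι]
    rintro _ ⟨u, rfl⟩
    exact ⟨⟨⟨u.1, u.2.1⟩, rfl⟩, ⟨⟨u.1, u.2.2⟩, rfl⟩⟩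
  let d : D.toScheme ⟶ W := IsOpenImmersion.lift W.ι ψ hψ
  have hd1 : d ≫ W.ι = ψ := IsOpenImmersion.lift_fac _ _ _
  have hdi : d ≫ gi = D.ι := by
    have : d ≫ li = X.homOfLE inf_le_left := by
      rw [← cancel_mono φi, Category.assoc, hli, hd1]
      simp only [φi, ψ, ← Category.assoc, Scheme.homOfLE_ι]
      rfl
    rw [← Category.assoc, this, Scheme.homOfLE_ι]
  have hdj : d ≫ gj = D.ι := by
    have : d ≫ lj = X.homOfLE inf_le_right := by
      rw [← cancel_mono φj, Category.assoc, hlj, hd1]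
      simp only [φj, ψ, ← Category.assoc, Scheme.homOfLE_ι]
      rfl
    rw [← Category.assoc, this, Scheme.homOfLE_ι]
  have hdom : IsDominant d := by
    refine ⟨?_⟩
    rw [DenseRange, Groth.Agent.Lib.Helper10.RedInd.range_eq_preimage_range_comp_ι, hd1,
      dense_iff_inter_open]
    rintro O hO ⟨o, ho⟩
    have hO' : IsOpen (W.ι '' O) := W.ι.isOpenEmbedding.isOpenMap O hO
    have hO'' : IsOpen ((U i).ι '' (φi ⁻¹' (W.ι '' O))) :=
      (U i).ι.isOpenEmbedding.isOpenMap _ (hO'.preimage φi.continuous)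
    obtain ⟨a, ha⟩ := hWi ⟨o, rfl⟩
    obtain ⟨u, ⟨u', hu', rfl⟩, hu2⟩ := (hd j).inter_open_nonempty _ hO''
      ⟨(U i).ι a, a, (by rw [Set.mem_preimage, ha]; exact ⟨o, ho, rfl⟩), rfl⟩
    obtain ⟨o', ho', ho'2⟩ := hu'
    refine ⟨o', ho', ⟨⟨u'.1, u'.2, hu2⟩, ?_⟩⟩
    exact ho'2.symm
  have key := apply_eq_of_isDominant_of_isSeparated (f := gi) (g := gj) f
    (hgi.trans hgj.symm) d (hdi.trans hdj.symm)
  have hy : f x ∈ W := ⟨⟨⟨x, hi⟩, rfl⟩, ⟨⟨x', hj⟩, hxx'.symm⟩⟩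
  have e1 : gi ⟨f x, hy⟩ = x := by
    have h1 : φi (li ⟨f x, hy⟩) = φi ⟨x, hi⟩ := congr($hli ⟨f x, hy⟩)
    have h2 := φi.isOpenEmbedding.injective h1
    exact congrArg (U i).ι h2
  have e2 : gj ⟨f x, hy⟩ = x' := by
    have h1 : φj (lj ⟨f x, hy⟩) = φj ⟨x', hj⟩ := (congr($hlj ⟨f x, hy⟩)).trans hxx'
    have h2 := φj.isOpenEmbedding.injective h1
    exact congrArg (U j).ι h2
  exact e1.symm.trans ((key _).trans e2)

theorem isOpenImmersion_of_dense_cover {X Y : Scheme.{u}} (f : X ⟶ Y) [IsSeparated f]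
    {ι : Type u} (U : ι → X.Opens) (hU : ⨆ i, U i = ⊤) (hd : ∀ i, Dense (U i : Set X))
    (h : ∀ i, IsOpenImmersion ((U i).ι ≫ f)) : IsOpenImmersion f := by
  have hinj := injective_of_dense_cover f U hU hd h
  rw [IsOpenImmersion.iff_isIso_stalkMap]
  refine ⟨.of_continuous_injective_isOpenMap f.continuous hinj ?_, ?_⟩
  · intro O hO
    have : f '' O = ⋃ i, ((U i).ι ≫ f) '' ((U i).ι ⁻¹' O) := by
      ext y
      constructor
      · rintro ⟨x, hx, rfl⟩
        obtain ⟨i, hi⟩ := exists_mem_of_iSup_eq_top U hU x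
        exact Set.mem_iUnion.mpr ⟨i, ⟨x, hi⟩, hx, rfl⟩
      · intro hy
        obtain ⟨i, u, hu, rfl⟩ := Set.mem_iUnion.mp hy
        exact ⟨u.1, hu, rfl⟩
    rw [this]
    refine isOpen_iUnion fun i => ?_
    have := h i
    exact ((U i).ι ≫ f).isOpenEmbedding.isOpenMap _ (hO.preimage (U i).ι.continuous)
  · intro x
    obtain ⟨i, hi⟩ := exists_mem_of_iSup_eq_top U hU x
    have := h i
    have e := Scheme.Hom.stalkMap_comp (U i).ι f ⟨x, hi⟩
    have h1 : IsIso (((U i).ι ≫ f).stalkMap ⟨x, hi⟩) :=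
      (IsOpenImmersion.iff_isIso_stalkMap.mp (h i)).2 _
    have h2 : IsIso ((U i).ι.stalkMap ⟨x, hi⟩) :=
      (IsOpenImmersion.iff_isIso_stalkMap.mp inferInstance).2 _
    have : IsIso (f.stalkMap ((U i).ι ⟨x, hi⟩) ≫ (U i).ι.stalkMap ⟨x, hi⟩) :=
      e ▸ h1
    exact IsIso.of_isIso_comp_right (f.stalkMap ((U i).ι ⟨x, hi⟩)) ((U i).ι.stalkMap ⟨x, hi⟩)

end Groth.Agent.Lib.Helper10.SepDense
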