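import Mathlib

/-!
# A quasi-compact scheme has a dense separated open subscheme (helper10, S7387)
-/

set_option autoImplicit false
universe u
open CategoryTheory CategoryTheory.Limits AlgebraicGeometry TopologicalSpace

namespace Groth.Agent.Lib.Helper10.SepDense2

variable {X : Scheme.{u}}

lemma range_sigmaDesc {σ : Type} [Small.{u} σ] (g : σ → Scheme.{u}) {Y : Scheme.{u}}
    (α : ∀ k, g k ⟶ Y) : Set.range (Sigma.desc α) = ⋃ k, Set.range (α k) := by
  apply Set.Subset.antisymm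
  · rintro _ ⟨t, rfl⟩
    have : ∃ (k : σ) (y : g k), Sigma.ι g k y = t := by
      obtain ⟨y, hy⟩ := (sigmaOpenCover g).covers t
      exact ⟨(sigmaOpenCover g).idx t, y, hy⟩
    obtain ⟨k, y, rfl⟩ := this
    refine Set.mem_iUnion.mpr ⟨k, y, ?_⟩
    change α _ y = (Sigma.ι g _ ≫ Sigma.desc α) y
    rw [Sigma.ι_desc]
  · rintro _ hy
    obtain ⟨k, y, rfl⟩ := Set.mem_iUnion.mp hy
    refine ⟨Sigma.ι g k y, ?_⟩
    change (Sigma.ι g k ≫ Sigma.desc α) y = _
    rw [Sigma.ι_desc]

open scoped Function in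
/-- a finite disjoint union of opens each contained in an affine open is separated -/
lemma isSeparated_iSup_of_disjoint {σ : Type} [Finite σ] (U V : σ → X.Opens)
    (hU : ∀ k, IsAffineOpen (U k)) (hVU : ∀ k, V k ≤ U k)
    (hdisj : Pairwise (Disjoint on V)) : (⨆ k, V k : X.Opens).toScheme.IsSeparated := by
  haveI : ∀ k, IsAffine (U k).toScheme := fun k => hU k
  -- the coproduct of the `V k` is an open subscheme of `X` and of `∐ U k`
  let h : (∐ fun k => (V k).toScheme) ⟶ X := Sigma.desc (fun k => (V k).ι)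
  haveI : IsOpenImmersion h := by
    refine isOpenImmersion_sigmaDesc _ _ (fun i j hij => ?_)
    simp only [Function.onFun, Scheme.Opens.range_ι]
    have := hdisj hij
    simpa [Function.onFun, disjoint_iff, Opens.ext_iff, Set.disjoint_iff_inter_eq_empty] using this
  let g : (∐ fun k => (V k).toScheme) ⟶ (∐ fun k => (U k).toScheme) :=
    Sigma.desc (fun k => X.homOfLE (hVU k) ≫ Sigma.ι (fun k => (U k).toScheme) k)
  haveI : IsOpenImmersion g := by
    refine isOpenImmersion_sigmaDesc _ _ (fun i j hij => ?_)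
    simp only [Function.onFun]
    have h1 := disjoint_opensRange_sigmaι (fun k => (U k).toScheme) i j hij
    rw [Set.disjoint_iff]
    rintro y ⟨⟨a, rfl⟩, ⟨b, hb⟩⟩
    have h2 : (Sigma.ι (fun k => (U k).toScheme) i) ((X.homOfLE (hVU i)) a) ∈
        ((Sigma.ι (fun k => (U k).toScheme) i).opensRange ⊓
          (Sigma.ι (fun k => (U k).toScheme) j).opensRange : (∐ fun k => (U k).toScheme).Opens) :=
      ⟨⟨_, rfl⟩, ⟨(X.homOfLE (hVU j)) b, hb⟩⟩
    rw [disjoint_iff.mp h1] at h2
    exact h2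
  haveI : IsSeparated (terminal.from (∐ fun k => (V k).toScheme)) := by
    rw [← terminal.comp_from g]
    infer_instance
  have hrange : Set.range (⨆ k, V k : X.Opens).ι = Set.range h := by
    rw [Scheme.Opens.range_ι, range_sigmaDesc]
    simp only [Scheme.Opens.range_ι, Opens.coe_iSup]
  let e := IsOpenImmersion.isoOfRangeEq (⨆ k, V k : X.Opens).ι h hrange
  refine ⟨?_⟩
  rw [← terminal.comp_from e.hom]
  infer_instance

/-- the disjointification of a finite family of opens -/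
def Vk {n : ℕ} (U : Fin n → X.Opens) (k : Fin n) : X.Opens :=
  ⟨(U k : Set X) ∩ (closure (⋃ j, ⋃ (_ : j < k), (U j : Set X)))ᶜ,
    (U k).isOpen.inter isClosed_closure.isOpen_compl⟩

lemma Vk_le {n : ℕ} (U : Fin n → X.Opens) (k : Fin n) : Vk U k ≤ U k := fun _ hx => hx.1

open scoped Function in
lemma Vk_disjoint {n : ℕ} (U : Fin n → X.Opens) : Pairwise (Disjoint on (Vk U)) := by
  have key : ∀ i j : Fin n, i < j → Disjoint (Vk U i) (Vk U j) := by
    intro i j hij
    rw [disjoint_iff]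
    ext x
    simp only [Opens.coe_inf, Opens.coe_bot, Set.mem_inter_iff, Set.mem_empty_iff_false, iff_false]
    rintro ⟨hxi, hxj⟩
    apply hxj.2
    apply subset_closure
    exact Set.mem_iUnion₂.mpr ⟨i, hij, hxi.1⟩
  intro i j hij
  rcases lt_or_gt_of_ne hij with h | h
  · exact key i j h
  · exact (key j i h).symm

lemma dense_iSup_Vk {n : ℕ} (U : Fin n → X.Opens) (hcov : ∀ x : X, ∃ k, x ∈ U k) :
    Dense ((⨆ k, Vk U k : X.Opens) : Set X) := by
  rw [dense_iff_inter_open]
  intro N hN hNne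
  obtain ⟨x, hx⟩ := hNne
  -- the minimal `k` with `N ∩ U k` nonempty
  have hne : {k : Fin n | (N ∩ (U k : Set X)).Nonempty}.Nonempty := by
    obtain ⟨k, hk⟩ := hcov x
    exact ⟨k, x, hx, hk⟩
  obtain ⟨k, hk, hmin⟩ := wellFounded_lt.has_min _ hne
  obtain ⟨y, hyN, hyU⟩ := hk
  refine ⟨y, hyN, ?_⟩
  rw [Opens.coe_iSup]
  refine Set.mem_iUnion.mpr ⟨k, hyU, ?_⟩
  intro hcl
  -- `N` is an open neighbourhood of `y` disjoint from `⋃ j < k, U j`
  rw [mem_closure_iff] at hcl
  obtain ⟨w, hwN, hw⟩ := hcl N hN hyN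
  obtain ⟨j, hjk, hwj⟩ := Set.mem_iUnion₂.mp hw
  exact hmin j ⟨w, hwN, hwj⟩ hjk

theorem main7387 (X : Scheme.{u}) [CompactSpace X] :
    ∃ V : X.Opens, Dense (V : Set X) ∧ (V : Scheme.{u}).IsSeparated := by
  -- choose affine opens around each point
  have hW : ∀ x : X, ∃ W : X.Opens, IsAffineOpen W ∧ x ∈ W := by
    intro x
    obtain ⟨_, ⟨W, hW, rfl⟩, hxW, -⟩ :=
      X.isBasis_affineOpens.exists_subset_of_mem_open (Set.mem_univ x) isOpen_univ
    exact ⟨W, hW, hxW⟩
  choose W hWaff hxW using hW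
  obtain ⟨t, ht⟩ := isCompact_univ.elim_finite_subcover (fun x => (W x : Set X))
    (fun x => (W x).isOpen) (fun x _ => Set.mem_iUnion.mpr ⟨x, hxW x⟩)
  let U : Fin t.card → X.Opens := fun k => W (t.equivFin.symm k : X)
  have hUaff : ∀ k, IsAffineOpen (U k) := fun k => hWaff _
  have hcov : ∀ x : X, ∃ k, x ∈ U k := by
    intro x
    obtain ⟨y, hy, hxy⟩ := Set.mem_iUnion₂.mp (ht (Set.mem_univ x))
    refine ⟨t.equivFin ⟨y, hy⟩, ?_⟩
    simp only [U, Equiv.symm_apply_apply]
    exact hxy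
  exact ⟨⨆ k, Vk U k, dense_iSup_Vk U hcov,
    isSeparated_iSup_of_disjoint U (Vk U) hUaff (Vk_le U) (Vk_disjoint U)⟩

end Groth.Agent.Lib.Helper10.SepDense2
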