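import Mathlib
import Groth.Agent.Lib.Helper10SchDense

set_option autoImplicit false
universe u
open CategoryTheory CategoryTheory.Limits AlgebraicGeometry TopologicalSpace

namespace Groth.Agent.Lib.Helper10.SepImm

open Groth.Agent.Lib.Helper10

instance respectsRight_isImmersion :
    MorphismProperty.RespectsRight (@IsImmersion.{u}) @IsOpenImmersion where
  postcomp i hi f hf := by
    haveI : IsOpenImmersion i := hi
    haveI : IsImmersion f := hf
    exact inferInstanceAs (IsImmersion (f ≫ i))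

/-- If `f` is separated and `U ⊆ X` is a dense open on which `f` restricts to an immersion,
then `f` restricted over the coborder-range of `U.ι ≫ f` is a closed immersion. -/
theorem isClosedImmersion_restrict {X Y : Scheme.{u}} (f : X ⟶ Y) [IsSeparated f] (U : X.Opens)
    (hd : Dense (U : Set X)) [IsImmersion (U.ι ≫ f)] :
    IsClosedImmersion (f ∣_ (U.ι ≫ f).coborderRange) := by
  set g := U.ι ≫ f with hg
  set V := g.coborderRange with hV
  have hle : U ≤ f ⁻¹ᵁ V := by
    intro x hx
    have h1 : f x = (g.liftCoborder ≫ V.ι) ⟨x, hx⟩ := by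
      rw [g.liftCoborder_ι]; simp [hg]
    change f x ∈ V
    rw [h1]
    exact (g.liftCoborder ⟨x, hx⟩).2
  have hj : X.homOfLE hle ≫ (f ∣_ V) = g.liftCoborder := by
    rw [← cancel_mono V.ι, Category.assoc, morphismRestrict_ι, g.liftCoborder_ι,
      ← Category.assoc, Scheme.homOfLE_ι]
  haveI : IsClosedImmersion (X.homOfLE hle ≫ (f ∣_ V)) := by rw [hj]; infer_instance
  haveI : IsClosedImmersion (X.homOfLE hle) := IsClosedImmersion.of_comp _ (f ∣_ V)
  have hr : Set.range (X.homOfLE hle) = (f ⁻¹ᵁ V).ι ⁻¹' (U : Set X) := SchDense.range_homOfLE hle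
  have hdense : Dense (Set.range (X.homOfLE hle)) := by
    rw [hr]; exact hd.preimage (f ⁻¹ᵁ V).ι.isOpenEmbedding.isOpenMap
  have hclosed : IsClosed (Set.range (X.homOfLE hle)) := (X.homOfLE hle).isClosedEmbedding.isClosed_range
  have htop : (X.homOfLE hle).opensRange = ⊤ := by
    ext1
    change Set.range (X.homOfLE hle) = Set.univ
    rw [← hclosed.closure_eq, hdense.closure_eq]
  haveI : IsIso (X.homOfLE hle) := isIso_of_isOpenImmersion_of_opensRange_eq_top _ htop
  have h2 : f ∣_ V = inv (X.homOfLE hle) ≫ g.liftCoborder := by rw [← hj]; simp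
  rw [h2]; infer_instance

theorem main {X Y : Scheme.{u}} (f : X ⟶ Y) [IsSeparated f]
    {ι : Type u} (U : ι → X.Opens)
    (hU : ⨆ i, U i = ⊤) (hd : ∀ i, Dense (U i : Set X)) (h : ∀ i, IsImmersion ((U i).ι ≫ f)) :
    IsImmersion f := by
  apply IsZariskiLocalAtTarget.of_range_subset_iSup (P := @IsImmersion)
    (fun i => ((U i).ι ≫ f).coborderRange)
  · rintro _ ⟨x, rfl⟩
    have hx : x ∈ ⨆ i, U i := by rw [hU]; trivial
    rw [Opens.mem_iSup] at hx
    obtain ⟨i, hi⟩ := hx
    have h1 : f x = (((U i).ι ≫ f).liftCoborder ≫ ((U i).ι ≫ f).coborderRange.ι) ⟨x, hi⟩ := by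
      rw [((U i).ι ≫ f).liftCoborder_ι]; simp
    rw [h1]
    refine Opens.mem_iSup.mpr ⟨i, ?_⟩
    exact ((((U i).ι ≫ f).liftCoborder) ⟨x, hi⟩).2
  · intro i
    haveI := isClosedImmersion_restrict f (U i) (hd i)
    infer_instance

end Groth.Agent.Lib.Helper10.SepImm
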