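import Mathlib

/-!
# Refining open covers of a quasi-compact set (helper10)
-/

set_option autoImplicit false
open Topology TopologicalSpace Set

namespace Groth.Agent.Lib.Helper10.Shrink

universe u v

variable {X : Type u} [TopologicalSpace X]

/-- Separate a point from a compact set inside a "relatively Hausdorff" subset. -/
theorem exists_open_disjoint_of_relT2 {Z K : Set X} {z : X}
    (hZsep : ∀ z ∈ Z, ∀ z' ∈ Z, z ≠ z' →
      ∃ A B : Set X, IsOpen A ∧ IsOpen B ∧ z ∈ A ∧ z' ∈ B ∧ Disjoint A B)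
    (hK : IsCompact K) (hKZ : K ⊆ Z) (hz : z ∈ Z) (hzK : z ∉ K) :
    ∃ A B : Set X, IsOpen A ∧ IsOpen B ∧ z ∈ A ∧ K ⊆ B ∧ Disjoint A B := by
  refine hK.induction_on (p := fun K' => ∃ A B : Set X, IsOpen A ∧ IsOpen B ∧ z ∈ A ∧ K' ⊆ B ∧
    Disjoint A B) ?_ ?_ ?_ ?_
  · exact ⟨Set.univ, ∅, isOpen_univ, isOpen_empty, trivial, subset_rfl, Set.disjoint_empty _⟩
  · rintro s t hst ⟨A, B, hA, hB, hzA, htB, hAB⟩
    exact ⟨A, B, hA, hB, hzA, hst.trans htB, hAB⟩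
  · rintro s t ⟨A, B, hA, hB, hzA, hsB, hAB⟩ ⟨A', B', hA', hB', hzA', htB', hAB'⟩
    refine ⟨A ∩ A', B ∪ B', hA.inter hA', hB.union hB', ⟨hzA, hzA'⟩,
      Set.union_subset_union hsB htB', ?_⟩
    rw [Set.disjoint_union_right]
    exact ⟨hAB.mono_left Set.inter_subset_left, hAB'.mono_left Set.inter_subset_right⟩
  · intro k hk
    have hne : z ≠ k := fun h => hzK (h ▸ hk)
    obtain ⟨A, B, hA, hB, hzA, hkB, hAB⟩ := hZsep z hz k (hKZ hk) hne
    exact ⟨B, mem_nhdsWithin_of_mem_nhds (hB.mem_nhds hkB), A, B, hA, hB, hzA, subset_rfl, hAB⟩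

variable {ι : Type v}

/-- The core refinement step: intersect a finitely supported cover with a neighbourhood of `Z`
to force the intersection condition. -/
theorem refine_cover (Z : Set X) (U : ι → Set X) (p : ℕ)
    (W : (Fin (p + 1) → ι) → Set X) (hWo : ∀ t, IsOpen (W t))
    (hWZ : ∀ t, W t ∩ Z = (⋂ l, U (t l)) ∩ Z)
    (V0 : ι → Set X) (hV0o : ∀ i, IsOpen (V0 i)) (hfin : {i | (V0 i).Nonempty}.Finite)
    (hcov : Z ⊆ ⋃ i, V0 i) (hcl : ∀ i, closure (V0 i) ∩ Z ⊆ U i) :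
    ∃ V : ι → Set X, (∀ i, IsOpen (V i)) ∧ (Z ⊆ ⋃ i, V i) ∧ (∀ i, V i ⊆ V0 i) ∧
      ∀ t : Fin (p + 1) → ι, (⋂ l, V (t l)) ⊆ W t := by
  classical
  let T : Set (Fin (p + 1) → ι) := Set.pi Set.univ fun _ => {i | (V0 i).Nonempty}
  have hT : T.Finite := Set.Finite.pi fun _ => hfin
  let C : (Fin (p + 1) → ι) → Set X := fun t => (⋂ l, closure (V0 (t l))) \ W t
  have hC : ∀ t, IsClosed (C t) := fun t =>
    (isClosed_iInter fun l => isClosed_closure).sdiff (hWo t)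
  let N : Set X := ⋂ t ∈ T, (C t)ᶜ
  have hN : IsOpen N := hT.isOpen_biInter fun t _ => (hC t).isOpen_compl
  have hZN : Z ⊆ N := by
    intro z hz
    simp only [N, Set.mem_iInter, Set.mem_compl_iff]
    rintro t _ ⟨hzcl, hzW⟩
    apply hzW
    have h1 : z ∈ (⋂ l, U (t l)) ∩ Z := by
      refine ⟨Set.mem_iInter.mpr fun l => hcl (t l) ⟨Set.mem_iInter.mp hzcl l, hz⟩, hz⟩
    rw [← hWZ t] at h1
    exact h1.1
  refine ⟨fun i => V0 i ∩ N, fun i => (hV0o i).inter hN, ?_, fun i => Set.inter_subset_left, ?_⟩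
  · intro z hz
    obtain ⟨i, hi⟩ := Set.mem_iUnion.mp (hcov hz)
    exact Set.mem_iUnion.mpr ⟨i, hi, hZN hz⟩
  · intro t x hx
    rw [Set.mem_iInter] at hx
    have htT : t ∈ T := by
      intro l _
      exact ⟨x, (hx l).1⟩
    have hxN : x ∈ N := (hx 0).2
    simp only [N, Set.mem_iInter, Set.mem_compl_iff] at hxN
    have := hxN t htT
    by_contra hxW
    exact this ⟨Set.mem_iInter.mpr fun l => subset_closure (hx l).1, hxW⟩

/-- Build a finitely supported cover from pointwise data. -/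
theorem exists_finite_support_cover {Z : Set X} (hZ : IsCompact Z) (U : ι → Set X)
    (P : ι → Set X → Prop)
    (hP : ∀ i (s : Finset X) (A : X → Set X), (∀ z ∈ s, P i (A z)) → P i (⋃ z ∈ s, A z))
    (hloc : ∀ z ∈ Z, ∃ (i : ι) (A : Set X), IsOpen A ∧ z ∈ A ∧ P i A) :
    ∃ V0 : ι → Set X, (∀ i, IsOpen (V0 i)) ∧ {i | (V0 i).Nonempty}.Finite ∧ (Z ⊆ ⋃ i, V0 i) ∧
      ∀ i, P i (V0 i) := by
  classical
  rcases Z.eq_empty_or_nonempty with rfl | ⟨z₀, hz₀⟩
  · refine ⟨fun _ => ∅, fun _ => isOpen_empty, by simp, by simp, fun i => ?_⟩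
    have := hP i ∅ (fun _ => ∅) (by simp)
    simpa using this
  have : Nonempty ι := ⟨(hloc z₀ hz₀).choose⟩
  choose! i A hAo hzA hPA using hloc
  obtain ⟨s, hsZ, hcov⟩ := hZ.elim_nhds_subcover A fun z hz => (hAo z hz).mem_nhds (hzA z hz)
  refine ⟨fun j => ⋃ z ∈ s.filter (fun z => i z = j), A z, fun j => ?_, ?_, ?_, fun j => ?_⟩
  · exact isOpen_biUnion fun z hz => hAo z (hsZ z (Finset.mem_filter.mp hz).1)
  · apply (s.image i).finite_toSet.subset
    rintro j ⟨x, hx⟩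
    simp only [Set.mem_iUnion] at hx
    obtain ⟨z, hz, _⟩ := hx
    simp only [Finset.mem_filter] at hz
    simp only [Finset.mem_coe, Finset.mem_image]
    exact ⟨z, hz.1, hz.2⟩
  · intro z hz
    obtain ⟨y, hy, hzy⟩ := Set.mem_iUnion₂.mp (hcov hz)
    refine Set.mem_iUnion.mpr ⟨i y, Set.mem_iUnion₂.mpr ⟨y, ?_, hzy⟩⟩
    simp [hy]
  · apply hP
    intro z hz
    simp only [Finset.mem_filter] at hz
    rw [← hz.2]
    exact hPA z (hsZ z hz.1)

end Groth.Agent.Lib.Helper10.Shrink
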