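/-
Helper library (helper10): coproducts in `Over S` of schemes are disjoint unions (open immersions,
jointly surjective, pairwise disjoint), gluing morphisms over a disjoint open cover, and the
epimorphism `Spec L ⟶ Spec K` of a field extension.
-/
import Mathlib

set_option autoImplicit false
set_option linter.style.haveILetI false
universe u

open AlgebraicGeometry CategoryTheory CategoryTheory.Limits

namespace Groth.Agent.Lib.Helper10.SigmaRel

/-- Morphisms agreeing on each member of an open cover agree. -/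
lemma hom_ext_iSup {X Y : Scheme.{u}} {ι : Type u} (W : ι → X.Opens) (hW : ⨆ i, W i = ⊤)
    (f f' : X ⟶ Y) (h : ∀ i, (W i).ι ≫ f = (W i).ι ≫ f') : f = f' :=
  (X.openCoverOfIsOpenCover W hW).hom_ext f f' h

set_option backward.isDefEq.respectTransparency false in
/-- Glue morphisms given on the members of a pairwise disjoint open cover. -/
lemma exists_glue_disjoint {X Y : Scheme.{u}} {ι : Type u} (W : ι → X.Opens)
    (hW : ⨆ i, W i = ⊤) (hd : ∀ i j, i ≠ j → W i ⊓ W j = ⊥)
    (m : ∀ i, (W i).toScheme ⟶ Y) : ∃ k : X ⟶ Y, ∀ i, (W i).ι ≫ k = m i := by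
  let 𝒰 := X.openCoverOfIsOpenCover W hW
  have hF : ∀ x y, pullback.fst (𝒰.f x) (𝒰.f y) ≫ m x = pullback.snd (𝒰.f x) (𝒰.f y) ≫ m y := by
    intro x y
    by_cases hxy : x = y
    · subst hxy
      have : pullback.fst (𝒰.f x) (𝒰.f x) = pullback.snd (𝒰.f x) (𝒰.f x) := by
        rw [← cancel_mono (𝒰.f x)]
        exact pullback.condition
      rw [this]
    · haveI : IsEmpty ↥(pullback (𝒰.f x) (𝒰.f y)) := by
        refine ⟨fun z => ?_⟩
        have h1 : (pullback.fst (𝒰.f x) (𝒰.f y) ≫ 𝒰.f x) z ∈ W x := by
          simp only [Scheme.Hom.comp_apply]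
          exact ((pullback.fst (𝒰.f x) (𝒰.f y)) z).2
        have h2 : (pullback.fst (𝒰.f x) (𝒰.f y) ≫ 𝒰.f x) z ∈ W y := by
          rw [pullback.condition]
          simp only [Scheme.Hom.comp_apply]
          exact ((pullback.snd (𝒰.f x) (𝒰.f y)) z).2
        have h3 : (pullback.fst (𝒰.f x) (𝒰.f y) ≫ 𝒰.f x) z ∈ W x ⊓ W y := ⟨h1, h2⟩
        rw [hd x y hxy] at h3
        exact h3
      exact (isInitialOfIsEmpty).hom_ext _ _
  exact ⟨𝒰.glueMorphisms m hF, fun i => 𝒰.ι_glueMorphisms m hF i⟩

/-- `Spec` of a homomorphism of fields is an epimorphism of schemes. -/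
lemma epi_Spec_map_of_isField {K L : CommRingCat.{u}} (hK : IsField K) (hL : IsField L)
    (φ : K ⟶ L) : Epi (Spec.map φ) := by
  haveI : Flat (Spec.map φ) := by
    rw [HasRingHomProperty.Spec_iff (P := @Flat)]
    letI := hK.toField
    letI := φ.hom.toAlgebra
    show Module.Flat K L
    infer_instance
  haveI : Surjective (Spec.map φ) := by
    refine ⟨fun y => ?_⟩
    haveI : Subsingleton (PrimeSpectrum K) := by
      letI := hK.toField
      infer_instance
    haveI : Nonempty (PrimeSpectrum L) := by
      letI := hL.toField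
      infer_instance
    obtain ⟨x⟩ := this
    exact ⟨x, Subsingleton.elim (α := PrimeSpectrum K) _ _⟩
  exact Flat.epi_of_flat_of_surjective _

section Cofan

variable {S : Scheme.{u}} {G : Type u} {f : G → Over S} (c : Cofan f) (hc : IsColimit c)

/-- The colimit cofan of the underlying schemes. -/
noncomputable def isColimitLeft :
    IsColimit (Cofan.mk c.pt.left fun g => (c.inj g).left : Cofan fun g => (f g).left) :=
  (Cofan.isColimitMapCoconeEquiv (Over.forget S) f c) (isColimitOfPreserves (Over.forget S) hc)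

/-- The comparison isomorphism from the standard coproduct of schemes. -/
noncomputable def sigmaIso : (∐ fun g => (f g).left) ≅ c.pt.left :=
  (colimit.isColimit _).coconePointUniqueUpToIso (isColimitLeft c hc)

lemma ι_sigmaIso_hom (g : G) :
    Sigma.ι (fun g => (f g).left) g ≫ (sigmaIso c hc).hom = (c.inj g).left :=
  (colimit.isColimit _).comp_coconePointUniqueUpToIso_hom (isColimitLeft c hc) ⟨g⟩

include hc in
lemma isOpenImmersion_inj_left (g : G) : IsOpenImmersion (c.inj g).left := by
  rw [← ι_sigmaIso_hom c hc g]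
  infer_instance

include hc in
lemma exists_inj_eq (x : c.pt.left) : ∃ (g : G) (y : (f g).left), (c.inj g).left y = x := by
  obtain ⟨g, y, hy⟩ := (sigmaOpenCover (fun g => (f g).left)).exists_eq ((sigmaIso c hc).inv x)
  change G at g
  change ↥(f g).left at y
  refine ⟨g, y, ?_⟩
  have hy' : (Sigma.ι (fun g => (f g).left) g) y = (sigmaIso c hc).inv x := hy
  rw [← ι_sigmaIso_hom c hc g, Scheme.Hom.comp_apply, hy', ← Scheme.Hom.comp_apply,
    Iso.inv_hom_id]
  rfl

include hc in
lemma inj_ne_of_ne {g h : G} (hne : g ≠ h) (y : (f g).left) (y' : (f h).left) :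
    (c.inj g).left y ≠ (c.inj h).left y' := by
  intro heq
  rw [← ι_sigmaIso_hom c hc g, ← ι_sigmaIso_hom c hc h, Scheme.Hom.comp_apply,
    Scheme.Hom.comp_apply] at heq
  have h2 : (Sigma.ι (fun g => (f g).left) g) y = (Sigma.ι (fun g => (f g).left) h) y' := by
    have := congrArg (fun z => (sigmaIso c hc).inv z) heq
    simpa only [← Scheme.Hom.comp_apply, Category.assoc, Iso.hom_inv_id, Category.comp_id]
      using this
  have hdis := disjoint_opensRange_sigmaι (fun g => (f g).left) g h hne
  have : (Sigma.ι (fun g => (f g).left) g) y ∈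
      (Sigma.ι (fun g => (f g).left) g).opensRange ⊓ (Sigma.ι (fun g => (f g).left) h).opensRange :=
    ⟨⟨y, rfl⟩, ⟨y', h2.symm⟩⟩
  rw [disjoint_iff.mp hdis] at this
  exact this

set_option backward.isDefEq.respectTransparency false in
include hc in
/-- Etaleness of a morphism out of a coproduct (in `Over S`) is checked on the summands. -/
lemma etale_of_inj {Y : Scheme.{u}} (φ : c.pt.left ⟶ Y)
    (h : ∀ g, Etale ((c.inj g).left ≫ φ)) : Etale φ := by
  have : Etale ((sigmaIso c hc).hom ≫ φ) := by
    rw [IsZariskiLocalAtSource.iff_of_openCover (P := @Etale)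
      (sigmaOpenCover (fun g => (f g).left))]
    intro g
    change Etale (Sigma.ι (fun g => (f g).left) g ≫ (sigmaIso c hc).hom ≫ φ)
    rw [← Category.assoc, ι_sigmaIso_hom]
    exact h g
  exact (MorphismProperty.cancel_left_of_respectsIso @Etale _ _).mp this

end Cofan

end Groth.Agent.Lib.Helper10.SigmaRel
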