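import Mathlib
import Groth.Prelude.Def_W4stktopologysheavesDim

/-!
# Soberification of a topological space (helper10)

`PtTop.Sob X` = irreducible closed subsets, opens `D U = {Z | Z ∩ U ≠ ∅}`.
-/

set_option autoImplicit false
open Topology TopologicalSpace Set

namespace Groth.Agent.Lib.Helper10.Sob

universe u

variable {X : Type u} [TopologicalSpace X]

/-- The basic open `D(U)` of the soberification. -/
def D (U : Set X) : Set (PtTop.Sob X) :=
  {Z : IrreducibleCloseds X | ((Z : Set X) ∩ U).Nonempty}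

theorem mem_D {U : Set X} {Z : PtTop.Sob X} :
    Z ∈ D U ↔ (((show IrreducibleCloseds X from Z) : Set X) ∩ U).Nonempty := Iff.rfl

theorem D_inter {U V : Set X} (hU : IsOpen U) (hV : IsOpen V) : D (U ∩ V) = D U ∩ D V := by
  ext Z; constructor
  · rintro ⟨x, hxZ, hxU, hxV⟩; exact ⟨⟨x, hxZ, hxU⟩, ⟨x, hxZ, hxV⟩⟩
  · rintro ⟨h1, h2⟩
    exact (show IrreducibleCloseds X from Z).isIrreducible.isPreirreducible U V hU hV h1 h2

theorem D_univ : D (univ : Set X) = univ := by
  ext Z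
  simp only [mem_univ, iff_true]
  obtain ⟨x, hx⟩ := (show IrreducibleCloseds X from Z).isIrreducible.nonempty
  exact ⟨x, hx, trivial⟩

theorem D_mono {U V : Set X} (h : U ⊆ V) : D U ⊆ D V := by
  rintro Z ⟨x, hxZ, hxU⟩; exact ⟨x, hxZ, h hxU⟩

theorem D_sUnion (S : Set (Set X)) : D (⋃₀ S) = ⋃ U ∈ S, D U := by
  ext Z; constructor
  · rintro ⟨x, hxZ, U, hUS, hxU⟩
    exact mem_iUnion₂.mpr ⟨U, hUS, x, hxZ, hxU⟩
  · intro h
    obtain ⟨U, hUS, x, hxZ, hxU⟩ := mem_iUnion₂.mp h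
    exact ⟨x, hxZ, U, hUS, hxU⟩

theorem isOpen_D {U : Set X} (hU : IsOpen U) : IsOpen (D U) :=
  GenerateOpen.basic _ ⟨⟨U, hU⟩, rfl⟩

theorem isOpen_iff {S : Set (PtTop.Sob X)} : IsOpen S ↔ ∃ U : Set X, IsOpen U ∧ S = D U := by
  constructor
  · intro h
    have h' : GenerateOpen {S : Set (IrreducibleCloseds X) |
      ∃ U : Opens X, S = {Z : IrreducibleCloseds X | ((Z : Set X) ∩ (U : Set X)).Nonempty}} S := h
    induction h' with
    | basic s hs => obtain ⟨U, rfl⟩ := hs; exact ⟨U, U.isOpen, rfl⟩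
    | univ => exact ⟨univ, isOpen_univ, D_univ.symm⟩
    | inter s t hs' ht' hs ht =>
      obtain ⟨U, hU, rfl⟩ := hs hs'
      obtain ⟨V, hV, rfl⟩ := ht ht'
      exact ⟨U ∩ V, hU.inter hV, (D_inter hU hV).symm⟩
    | sUnion T hT ih =>
      refine ⟨⋃₀ {U | IsOpen U ∧ D U ∈ T}, isOpen_sUnion fun U hU => hU.1, ?_⟩
      rw [D_sUnion]
      ext Z; constructor
      · rintro ⟨s, hsT, hZs⟩
        obtain ⟨U, hU, rfl⟩ := ih s hsT (hT s hsT)
        exact mem_iUnion₂.mpr ⟨U, ⟨hU, hsT⟩, hZs⟩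
      · intro h
        obtain ⟨U, ⟨-, hUT⟩, hZ⟩ := mem_iUnion₂.mp h
        exact ⟨D U, hUT, hZ⟩
  · rintro ⟨U, hU, rfl⟩; exact isOpen_D hU

theorem preimage_toSob_D {U : Set X} (hU : IsOpen U) : PtTop.toSob X ⁻¹' D U = U := by
  ext x; constructor
  · rintro ⟨y, hy, hyU⟩
    have hy' : y ∈ closure ({x} : Set X) := hy
    obtain ⟨z, hzU, hz⟩ := mem_closure_iff.mp hy' U hU hyU
    rw [mem_singleton_iff] at hz; rwa [← hz]
  · intro hx
    exact ⟨x, subset_closure (mem_singleton x), hx⟩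

theorem continuous_toSob : Continuous (PtTop.toSob X) := by
  refine ⟨fun S hS => ?_⟩
  obtain ⟨U, hU, rfl⟩ := isOpen_iff.mp hS
  rw [preimage_toSob_D hU]; exact hU

theorem D_injective {U V : Set X} (hU : IsOpen U) (hV : IsOpen V) (h : D U = D V) : U = V := by
  rw [← preimage_toSob_D hU, ← preimage_toSob_D hV, h]

/-- Closed subsets of the soberification. -/
theorem isClosed_iff {T : Set (PtTop.Sob X)} :
    IsClosed T ↔ ∃ C : Set X, IsClosed C ∧
      T = {Z : IrreducibleCloseds X | (Z : Set X) ⊆ C} := by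
  rw [← isOpen_compl_iff, isOpen_iff]
  constructor
  · rintro ⟨U, hU, h⟩
    refine ⟨Uᶜ, hU.isClosed_compl, ?_⟩
    ext Z
    have : Z ∈ T ↔ Z ∉ D U := by rw [← h]; simp
    rw [this]
    show ¬ (((show IrreducibleCloseds X from Z) : Set X) ∩ U).Nonempty ↔ _
    rw [not_nonempty_iff_eq_empty, ← disjoint_iff_inter_eq_empty, disjoint_left]
    rfl
  · rintro ⟨C, hC, rfl⟩
    refine ⟨Cᶜ, hC.isOpen_compl, ?_⟩
    ext Z
    show ¬ _ ↔ (((show IrreducibleCloseds X from Z) : Set X) ∩ Cᶜ).Nonempty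
    constructor
    · intro h
      obtain ⟨x, hxZ, hxC⟩ := not_subset.mp h
      exact ⟨x, hxZ, hxC⟩
    · rintro ⟨x, hxZ, hxC⟩ h
      exact hxC (h hxZ)

instance t0Space_sob : T0Space (PtTop.Sob X) := by
  refine ⟨fun Z Z' h => ?_⟩
  have key : ∀ A B : IrreducibleCloseds X, (∀ S : Set (PtTop.Sob X), IsOpen S →
      ((show PtTop.Sob X from A) ∈ S ↔ (show PtTop.Sob X from B) ∈ S)) → (A : Set X) ⊆ B := by
    intro A B hAB
    by_contra hne
    obtain ⟨x, hxA, hxB⟩ := not_subset.mp hne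
    have h1 : (show PtTop.Sob X from A) ∈ D ((B : Set X)ᶜ) := ⟨x, hxA, hxB⟩
    have h2 := (hAB _ (isOpen_D B.isClosed.isOpen_compl)).mp h1
    obtain ⟨y, hyB, hyB'⟩ := h2
    exact hyB' hyB
  have h' := inseparable_iff_forall_isOpen.mp h
  exact IrreducibleCloseds.ext (subset_antisymm (key Z Z' h') (key Z' Z fun S hS => (h' S hS).symm))

instance quasiSober_sob : QuasiSober (PtTop.Sob X) := by
  refine ⟨fun {T} hT hTc => ?_⟩
  obtain ⟨C, hC, rfl⟩ := isClosed_iff.mp hTc
  have hCirr : IsIrreducible C := by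
    obtain ⟨Z, hZ⟩ := hT.nonempty
    have hZC : ((show IrreducibleCloseds X from Z) : Set X) ⊆ C := hZ
    obtain ⟨x, hx⟩ := (show IrreducibleCloseds X from Z).isIrreducible.nonempty
    refine ⟨⟨x, hZC hx⟩, ?_⟩
    rintro u v hu hv ⟨a, haC, hau⟩ ⟨b, hbC, hbv⟩
    have ha : PtTop.toSob X a ∈ {Z : IrreducibleCloseds X | (Z : Set X) ⊆ C} :=
      closure_minimal (singleton_subset_iff.mpr haC) hC
    have hb : PtTop.toSob X b ∈ {Z : IrreducibleCloseds X | (Z : Set X) ⊆ C} :=
      closure_minimal (singleton_subset_iff.mpr hbC) hC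
    obtain ⟨W, hWC, hWu, hWv⟩ := hT.isPreirreducible (D u) (D v) (isOpen_D hu) (isOpen_D hv)
      ⟨_, ha, a, subset_closure (mem_singleton a), hau⟩
      ⟨_, hb, b, subset_closure (mem_singleton b), hbv⟩
    obtain ⟨z, hzW, hz⟩ := (show IrreducibleCloseds X from W).isIrreducible.isPreirreducible
      u v hu hv hWu hWv
    exact ⟨z, hWC hzW, hz⟩
  refine ⟨(⟨C, hCirr, hC⟩ : IrreducibleCloseds X), ?_⟩
  show closure _ = _
  apply subset_antisymm
  · refine closure_minimal ?_ hTc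
    rw [singleton_subset_iff]
    exact fun _ h => h
  · intro Z hZ
    have hZC : ((show IrreducibleCloseds X from Z) : Set X) ⊆ C := hZ
    rw [mem_closure_iff]
    intro S hS hZS
    obtain ⟨U, hU, rfl⟩ := isOpen_iff.mp hS
    obtain ⟨x, hxZ, hxU⟩ := hZS
    exact ⟨_, ⟨x, hZC hxZ, hxU⟩, rfl⟩

/-- Factorization through the soberification. -/
theorem exists_factor (Y : Type*) [TopologicalSpace Y] [QuasiSober Y] [T0Space Y] (f : X → Y)
    (hf : Continuous f) :
    ∃ g : PtTop.Sob X → Y, Continuous g ∧ g ∘ PtTop.toSob X = f := by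
  have hirr : ∀ Z : IrreducibleCloseds X, IsIrreducible (f '' (Z : Set X)) :=
    fun Z => Z.isIrreducible.image f hf.continuousOn
  refine ⟨fun Z => (hirr Z).genericPoint, ?_, ?_⟩
  · refine ⟨fun V hV => ?_⟩
    have : (fun Z : PtTop.Sob X => (hirr Z).genericPoint) ⁻¹' V = D (f ⁻¹' V) := by
      ext Z
      have hg := (hirr Z).isGenericPoint_genericPoint_closure
      show (hirr Z).genericPoint ∈ V ↔ _
      rw [hg.mem_open_set_iff hV]
      constructor
      · rintro ⟨y, hy, hyV⟩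
        obtain ⟨w, ⟨hwV, x, hxZ, rfl⟩⟩ := mem_closure_iff.mp hy V hV hyV
        exact ⟨x, hxZ, hwV⟩
      · rintro ⟨x, hxZ, hxV⟩
        exact ⟨f x, subset_closure (mem_image_of_mem f hxZ), hxV⟩
    rw [this]
    exact isOpen_D (hV.preimage hf)
  · funext x
    have hg := (hirr (PtTop.toSob X x)).isGenericPoint_genericPoint_closure
    have h2 : IsGenericPoint (f x) (closure (f '' ((show IrreducibleCloseds X from PtTop.toSob X x) : Set X))) := by
      show closure {f x} = _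
      apply subset_antisymm
      · exact closure_mono (singleton_subset_iff.mpr
          (mem_image_of_mem f (subset_closure (mem_singleton x))))
      · refine closure_minimal ?_ isClosed_closure
        show f '' closure {x} ⊆ closure {f x}
        have := image_closure_subset_closure_image (s := {x}) hf
        rwa [image_singleton] at this
    exact hg.eq h2

theorem isCompact_D_iff {U : Set X} (hU : IsOpen U) : IsCompact (D U) ↔ IsCompact U := by
  constructor
  · intro h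
    rw [isCompact_iff_finite_subcover]
    intro ι W hW hUW
    have hcov : D U ⊆ ⋃ i, D (W i) := by
      rintro Z ⟨x, hxZ, hxU⟩
      obtain ⟨i, hi⟩ := mem_iUnion.mp (hUW hxU)
      exact mem_iUnion.mpr ⟨i, x, hxZ, hi⟩
    obtain ⟨t, ht⟩ := h.elim_finite_subcover (fun i => D (W i)) (fun i => isOpen_D (hW i)) hcov
    refine ⟨t, fun x hx => ?_⟩
    have hx' : PtTop.toSob X x ∈ D U := by
      have : x ∈ PtTop.toSob X ⁻¹' D U := by rw [preimage_toSob_D hU]; exact hx
      exact this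
    obtain ⟨i, hit, hi⟩ := mem_iUnion₂.mp (ht hx')
    have : x ∈ PtTop.toSob X ⁻¹' D (W i) := hi
    rw [preimage_toSob_D (hW i)] at this
    exact mem_iUnion₂.mpr ⟨i, hit, this⟩
  · intro h
    rw [isCompact_iff_finite_subcover]
    intro ι V hV hUV
    have hex : ∀ i, ∃ W : Set X, IsOpen W ∧ V i = D W := fun i => isOpen_iff.mp (hV i)
    choose W hW hVW using hex
    have hcov : U ⊆ ⋃ i, W i := by
      intro x hx
      have hx' : PtTop.toSob X x ∈ D U := by
        have : x ∈ PtTop.toSob X ⁻¹' D U := by rw [preimage_toSob_D hU]; exact hx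
        exact this
      obtain ⟨i, hi⟩ := mem_iUnion.mp (hUV hx')
      rw [hVW i] at hi
      have : x ∈ PtTop.toSob X ⁻¹' D (W i) := hi
      rw [preimage_toSob_D (hW i)] at this
      exact mem_iUnion.mpr ⟨i, this⟩
    obtain ⟨t, ht⟩ := h.elim_finite_subcover W hW hcov
    refine ⟨t, ?_⟩
    rintro Z ⟨x, hxZ, hxU⟩
    obtain ⟨i, hit, hi⟩ := mem_iUnion₂.mp (ht hxU)
    refine mem_iUnion₂.mpr ⟨i, hit, ?_⟩
    rw [hVW i]
    exact ⟨x, hxZ, hi⟩

theorem compactSpace_sob [CompactSpace X] : CompactSpace (PtTop.Sob X) := by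
  refine ⟨?_⟩
  rw [← D_univ, isCompact_D_iff isOpen_univ]
  exact isCompact_univ

theorem prespectralSpace_sob [PrespectralSpace X] : PrespectralSpace (PtTop.Sob X) := by
  refine PrespectralSpace.of_isTopologicalBasis
    (B := {S | ∃ U : Set X, IsOpen U ∧ IsCompact U ∧ S = D U}) ?_ ?_
  · refine isTopologicalBasis_of_isOpen_of_nhds ?_ ?_
    · rintro S ⟨U, hU, -, rfl⟩; exact isOpen_D hU
    · intro Z S hZS hS
      obtain ⟨W, hW, rfl⟩ := isOpen_iff.mp hS
      obtain ⟨x, hxZ, hxW⟩ := hZS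
      obtain ⟨U, ⟨hU, hUc⟩, hxU, hUW⟩ :=
        (PrespectralSpace.isTopologicalBasis (X := X)).exists_subset_of_mem_open hxW hW
      exact ⟨D U, ⟨U, hU, hUc, rfl⟩, ⟨x, hxZ, hxU⟩, D_mono hUW⟩
  · rintro S ⟨U, hU, hUc, rfl⟩
    exact (isCompact_D_iff hU).mpr hUc

theorem quasiSeparatedSpace_sob [QuasiSeparatedSpace X] : QuasiSeparatedSpace (PtTop.Sob X) := by
  refine ⟨fun S S' hS hSc hS' hSc' => ?_⟩
  obtain ⟨U, hU, rfl⟩ := isOpen_iff.mp hS
  obtain ⟨V, hV, rfl⟩ := isOpen_iff.mp hS'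
  rw [← D_inter hU hV, isCompact_D_iff (hU.inter hV)]
  exact QuasiSeparatedSpace.inter_isCompact U V hU ((isCompact_D_iff hU).mp hSc) hV
    ((isCompact_D_iff hV).mp hSc')

theorem noetherianSpace_sob [NoetherianSpace X] : NoetherianSpace (PtTop.Sob X) := by
  rw [noetherianSpace_iff_opens]
  intro s
  obtain ⟨U, hU, hs⟩ := isOpen_iff.mp s.isOpen
  rw [hs, isCompact_D_iff hU]
  exact NoetherianSpace.isCompact U

theorem spectralSpace_sob [CompactSpace X] [PrespectralSpace X] [QuasiSeparatedSpace X] :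
    SpectralSpace (PtTop.Sob X) :=
  { toT0Space := t0Space_sob
    toCompactSpace := compactSpace_sob
    toQuasiSober := quasiSober_sob
    toQuasiSeparatedSpace := quasiSeparatedSpace_sob
    toPrespectralSpace := prespectralSpace_sob }

end Groth.Agent.Lib.Helper10.Sob
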