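import Mathlib
import Groth.Prelude.Def_SpSeq

/-!
# Spectral sequence of a filtered complex with degreewise finite filtration
-/

set_option autoImplicit false
universe v u
open CategoryTheory CategoryTheory.Limits SpSeq

namespace Groth.Agent.Lib.Helper10.SpSeqLib

variable {A : Type u} [Category.{v} A] [Abelian A]

lemma isZero_subquot_of_eq {X : A} (Z B : Subobject X) (h : B ≤ Z) (he : B = Z) :
    IsZero (SpSeq.subquot Z B h) := by
  subst he
  unfold SpSeq.subquot
  have : IsIso (B.ofLE B h) := by rw [Subobject.ofLE_refl]; infer_instance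
  exact isZero_cokernel_of_epi _

lemma arrow_eq_zero_of_eq_bot {X : A} : ∀ (P : Subobject X), P = ⊥ → P.arrow = 0 := by
  rintro _ rfl
  exact Subobject.bot_arrow

lemma pullback_bot {X Y : A} (f : X ⟶ Y) :
    (Subobject.pullback f).obj ⊥ = kernelSubobject f := by
  apply le_antisymm
  · apply le_kernelSubobject
    rw [Subobject.pullback_obj]
    have hz : IsZero ((⊥ : Subobject Y) : A) := IsZero.of_iso (isZero_zero A) Subobject.botCoeIsoZero
    rw [← Subobject.underlyingIso_hom_comp_eq_mk, Category.assoc, ← pullback.condition,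
      hz.eq_of_tgt (pullback.fst _ _) 0, zero_comp, comp_zero]
  · exact FilCx.kernelSubobject_le_pullback _ _

section FilObj

lemma isSeparated_of_isFinite (F : FilObj A) (h : F.IsFinite) : F.IsSeparated := by
  obtain ⟨-, ⟨b, hb⟩⟩ := h
  exact ⟨fun _ _ => bot_le, fun S hS => hb ▸ hS ⟨b, rfl⟩⟩

lemma isExhaustive_of_isFinite (F : FilObj A) (h : F.IsFinite) : F.IsExhaustive := by
  obtain ⟨⟨a, ha⟩, -⟩ := h
  exact ⟨fun _ _ => le_top, fun S hS => ha ▸ hS ⟨a, rfl⟩⟩

lemma isComplete_of_isDiscrete (F : FilObj A) (h : ∃ b, F.fil b = ⊥) : F.IsComplete := by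
  obtain ⟨b, hb⟩ := h
  intro T f hf
  have hz : (F.fil b).arrow = 0 := arrow_eq_zero_of_eq_bot _ hb
  have : IsIso (cokernel.π (F.fil b).arrow) := by rw [hz]; infer_instance
  refine ⟨f b ≫ inv (cokernel.π (F.fil b).arrow), fun p => ?_⟩
  rcases le_total p b with hp | hp
  · have h1 : cokernel.π (F.fil b).arrow ≫ F.quotMap hp = cokernel.π (F.fil p).arrow :=
      cokernel.π_desc _ _ _
    rw [← h1, Category.assoc, IsIso.inv_hom_id_assoc, hf p b hp]
  · have hp' : F.fil p = ⊥ := le_bot_iff.mp (hb ▸ F.anti hp)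
    have hz' := arrow_eq_zero_of_eq_bot _ hp'
    have : IsIso (cokernel.π (F.fil p).arrow) := by rw [hz']; infer_instance
    have h1 : cokernel.π (F.fil p).arrow ≫ F.quotMap hp = cokernel.π (F.fil b).arrow :=
      cokernel.π_desc _ _ _
    have : IsIso (F.quotMap hp) := by
      have : F.quotMap hp = inv (cokernel.π (F.fil p).arrow) ≫ cokernel.π (F.fil b).arrow := by
        rw [← h1, IsIso.inv_hom_id_assoc]
      rw [this]; infer_instance
    rw [← cancel_mono (F.quotMap hp), Category.assoc, Category.assoc, h1, IsIso.inv_hom_id,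
      Category.comp_id, hf b p hp]

end FilObj

variable (K : FilCx A)

lemma filX_eq_top_of_le {n a p : ℤ} (ha : K.filX a n = ⊤) (hp : p ≤ a) : K.filX p n = ⊤ :=
  top_le_iff.mp (ha ▸ K.filX_anti n hp)

lemma filX_eq_bot_of_le {n b p : ℤ} (hb : K.filX b n = ⊥) (hp : b ≤ p) : K.filX p n = ⊥ :=
  le_bot_iff.mp (hb ▸ K.filX_anti n hp)

lemma isBounded_zero (hK : ∀ n : ℤ, (K.XFil n).IsFinite) : K.IsBounded 0 := by
  intro n
  obtain ⟨⟨a, ha⟩, ⟨b, hb⟩⟩ := hK n
  change K.filX a n = ⊤ at ha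
  change K.filX b n = ⊥ at hb
  refine (Set.finite_Ico a b).subset fun p hp => ?_
  by_contra hnot
  apply hp
  rw [Set.mem_Ico, not_and_or, not_le, not_lt] at hnot
  apply isZero_subquot_of_eq
  rcases hnot with h | h
  · have h1 : K.filX (p + 1) n = ⊤ := filX_eq_top_of_le K ha (by omega)
    unfold FilCx.ZSub FilCx.BSub
    rw [h1, sup_top_eq, sup_top_eq]
  · have h1 : K.filX p n = ⊥ := filX_eq_bot_of_le K hb h
    have h2 : K.filX (p + 1) n = ⊥ := filX_eq_bot_of_le K hb (by omega)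
    unfold FilCx.ZSub FilCx.BSub
    rw [h1, h2, bot_inf_eq, bot_inf_eq]

lemma filH_eq_top {p n : ℤ} (hm1 : K.filX p (n - 1) = ⊤) (h0 : K.filX p n = ⊤)
    (h1 : K.filX p (n + 1) = ⊤) : K.filH p n = ⊤ := by
  have i1 : IsIso ((K.fil p).arrow.f (n - 1)) := (Subobject.isIso_iff_mk_eq_top _).mpr hm1
  have i2 : IsIso ((K.fil p).arrow.f n) := (Subobject.isIso_iff_mk_eq_top _).mpr h0
  have i3 : IsIso ((K.fil p).arrow.f (n + 1)) := (Subobject.isIso_iff_mk_eq_top _).mpr h1
  have hq : QuasiIsoAt (K.fil p).arrow n := by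
    rw [quasiIsoAt_iff]
    have e1 : (ComplexShape.up ℤ).prev n = n - 1 := CochainComplex.prev ℤ n
    have e3 : (ComplexShape.up ℤ).next n = n + 1 := CochainComplex.next ℤ n
    have : IsIso ((HomologicalComplex.shortComplexFunctor A (ComplexShape.up ℤ) n).map
        (K.fil p).arrow).τ₁ := by
      change IsIso ((K.fil p).arrow.f ((ComplexShape.up ℤ).prev n))
      rw [e1]; exact i1
    have : IsIso ((HomologicalComplex.shortComplexFunctor A (ComplexShape.up ℤ) n).map
        (K.fil p).arrow).τ₂ := i2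
    have : IsIso ((HomologicalComplex.shortComplexFunctor A (ComplexShape.up ℤ) n).map
        (K.fil p).arrow).τ₃ := by
      change IsIso ((K.fil p).arrow.f ((ComplexShape.up ℤ).next n))
      rw [e3]; exact i3
    exact ShortComplex.quasiIso_of_epi_of_isIso_of_mono _
  have : IsIso (HomologicalComplex.homologyMap (K.fil p).arrow n) :=
    (quasiIsoAt_iff_isIso_homologyMap _ _).mp hq
  unfold FilCx.filH
  rw [imageSubobject_mono, ← Subobject.isIso_iff_mk_eq_top]
  infer_instance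

lemma filH_eq_bot {p n : ℤ} (h0 : K.filX p n = ⊥) : K.filH p n = ⊥ := by
  have hz : (K.fil p).arrow.f n = 0 := Subobject.mk_eq_bot_iff_zero.mp h0
  have hX : IsZero ((K.fil p : CochainComplex A ℤ).X n) := by
    have : 𝟙 ((K.fil p : CochainComplex A ℤ).X n) = 0 := by
      rw [← cancel_mono ((K.fil p).arrow.f n), hz, comp_zero, comp_zero]
    exact (IsZero.iff_id_eq_zero _).mpr this
  have hH : IsZero ((K.fil p : CochainComplex A ℤ).homology n) := by
    rw [← HomologicalComplex.exactAt_iff_isZero_homology]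
    exact ShortComplex.exact_of_isZero_X₂ _ hX
  unfold FilCx.filH
  have h0' : HomologicalComplex.homologyMap (K.fil p).arrow n = 0 := hH.eq_of_src _ _
  exact eq_bot_iff.mpr (imageSubobject_le _ 0 (by rw [zero_comp, h0']))

lemma hFil_isFinite (hK : ∀ n : ℤ, (K.XFil n).IsFinite) (n : ℤ) : (K.HFil n).IsFinite := by
  obtain ⟨⟨a1, ha1⟩, -⟩ := hK (n - 1)
  obtain ⟨⟨a2, ha2⟩, ⟨b, hb⟩⟩ := hK n
  obtain ⟨⟨a3, ha3⟩, -⟩ := hK (n + 1)
  change K.filX a1 (n - 1) = ⊤ at ha1
  change K.filX a2 n = ⊤ at ha2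
  change K.filX a3 (n + 1) = ⊤ at ha3
  change K.filX b n = ⊥ at hb
  refine ⟨⟨min a1 (min a2 a3), ?_⟩, ⟨b, filH_eq_bot K hb⟩⟩
  exact filH_eq_top K (filX_eq_top_of_le K ha1 (min_le_left _ _))
    (filX_eq_top_of_le K ha2 ((min_le_right _ _).trans (min_le_left _ _)))
    (filX_eq_top_of_le K ha3 ((min_le_right _ _).trans (min_le_right _ _)))

lemma isRegular (hK : ∀ n : ℤ, (K.XFil n).IsFinite) : K.IsRegular := by
  intro p n
  obtain ⟨-, ⟨b, hb⟩⟩ := hK (n + 1)
  change K.filX b (n + 1) = ⊥ at hb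
  refine ⟨(b - p).toNat, fun r hr => ?_⟩
  unfold FilCx.ZSub
  rw [filX_eq_bot_of_le K hb (show b ≤ p + (r : ℤ) by omega),
    filX_eq_bot_of_le K hb (show b ≤ p + ((b - p).toNat : ℤ) by omega)]

lemma weaklyConverges (hK : ∀ n : ℤ, (K.XFil n).IsFinite) : K.WeaklyConverges := by
  intro p n
  constructor
  · obtain ⟨-, ⟨b, hb⟩⟩ := hK (n + 1)
    change K.filX b (n + 1) = ⊥ at hb
    constructor
    · rintro _ ⟨r, rfl⟩
      exact sup_le_sup_right (inf_le_inf_left _ (FilCx.kernelSubobject_le_pullback _ _)) _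
    · intro S hS
      have h1 : S ≤ K.ZSub (b - p).toNat p n := hS ⟨(b - p).toNat, rfl⟩
      refine h1.trans (le_of_eq ?_)
      unfold FilCx.ZSub FilCx.ZTop
      rw [filX_eq_bot_of_le K hb (show b ≤ p + ((b - p).toNat : ℤ) by omega), pullback_bot]
  · obtain ⟨⟨a, ha⟩, -⟩ := hK (n - 1)
    change K.filX a (n - 1) = ⊤ at ha
    constructor
    · rintro _ ⟨r, rfl⟩
      exact sup_le_sup_right (inf_le_inf_left _ (imageSubobject_comp_le _ _)) _
    · intro S hS
      have h1 : K.BSub (p + 1 - a).toNat p n ≤ S := hS ⟨(p + 1 - a).toNat, rfl⟩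
      refine le_trans (le_of_eq ?_) h1
      have htop : K.filX (p - ((p + 1 - a).toNat : ℤ) + 1) (n - 1) = ⊤ :=
        filX_eq_top_of_le K ha (by omega)
      have : IsIso (K.filX (p - ((p + 1 - a).toNat : ℤ) + 1) (n - 1)).arrow :=
        (Subobject.isIso_arrow_iff_eq_top _).mpr htop
      unfold FilCx.BSub FilCx.BBot
      rw [imageSubobject_iso_comp]

theorem converges_of_finite (hK : ∀ n : ℤ, (K.XFil n).IsFinite) :
    K.IsBounded 0 ∧ (∀ n : ℤ, (K.HFil n).IsFinite) ∧ K.Converges := by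
  refine ⟨isBounded_zero K hK, hFil_isFinite K hK, isRegular K hK,
    ⟨weaklyConverges K hK, fun n => ⟨isSeparated_of_isFinite _ (hFil_isFinite K hK n),
      isExhaustive_of_isFinite _ (hFil_isFinite K hK n)⟩⟩,
    fun n => isComplete_of_isDiscrete _ (hFil_isFinite K hK n).2⟩

end Groth.Agent.Lib.Helper10.SpSeqLib
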