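import Mathlib
import Groth.Agent.Lib.Helper10FibreRank

/-!
# Fibrewise rank of the span of the action of an algebra on a finite flat module (helper10)
-/

namespace Groth.Agent.Lib.Helper10.SpanRank

open TensorProduct Module

universe u

variable (A : Type u) [CommRing A] (S : Type u) [CommRing S] [Algebra A S]
  (Q : Type u) [AddCommGroup Q] [Module A Q] [Module S Q] [IsScalarTower A S Q]

/-- the map `S → Q^r`, `s ↦ (s • q j)_j`. -/
noncomputable def evalMap {r : ℕ} (q : Fin r → Q) : S →ₗ[A] (Fin r → Q) :=
  LinearMap.pi fun j => (LinearMap.toSpanSingleton S Q (q j)).restrictScalars A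

variable {A S Q}

theorem finrank_span_eq {r : ℕ} (q : Fin r → Q) (hq : Submodule.span A (Set.range q) = ⊤)
    (κ : Type u) [Field κ] [Algebra A κ] :
    finrank κ (Submodule.span κ (Set.range fun s : S =>
        LinearMap.baseChange κ (DistribSMul.toLinearMap A Q s))) =
      finrank κ (LinearMap.range ((evalMap A S Q q).baseChange κ)) := by
  classical
  -- the evaluation map on endomorphisms
  let L : ((κ ⊗[A] Q) →ₗ[κ] (κ ⊗[A] Q)) →ₗ[κ] (Fin r → κ ⊗[A] Q) :=
    LinearMap.pi fun j => LinearMap.applyₗ ((1 : κ) ⊗ₜ[A] q j)
  have hspanκ : Submodule.span κ (Set.range fun j => (1 : κ) ⊗ₜ[A] q j) = ⊤ := by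
    have h1 := Submodule.baseChange_span (R := A) (M := Q) κ (Set.range q)
    rw [hq, Submodule.baseChange_top, ← Set.range_comp] at h1
    exact h1.symm
  have hLinj : Function.Injective L := by
    rw [injective_iff_map_eq_zero]
    intro g hg
    apply LinearMap.ext_on hspanκ
    rintro _ ⟨j, rfl⟩
    have := congrFun hg j
    simpa [L] using this
  let P : κ ⊗[A] (Fin r → Q) ≃ₗ[κ] (Fin r → κ ⊗[A] Q) :=
    TensorProduct.piRight A κ κ (fun _ : Fin r => Q)
  have hkey : ∀ s : S, L (LinearMap.baseChange κ (DistribSMul.toLinearMap A Q s)) =
      P ((evalMap A S Q q).baseChange κ ((1 : κ) ⊗ₜ[A] s)) := by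
    intro s
    funext j
    simp [L, P, evalMap, TensorProduct.piRight_apply, TensorProduct.piRightHom_tmul]
  have h1 : Submodule.map L (Submodule.span κ (Set.range fun s : S =>
        LinearMap.baseChange κ (DistribSMul.toLinearMap A Q s))) =
      Submodule.map P.toLinearMap (LinearMap.range ((evalMap A S Q q).baseChange κ)) := by
    rw [Submodule.map_span, ← Set.range_comp]
    have h2 : LinearMap.range ((evalMap A S Q q).baseChange κ) =
        Submodule.span κ (Set.range fun s : S =>
          (evalMap A S Q q).baseChange κ ((1 : κ) ⊗ₜ[A] s)) := by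
      rw [← Submodule.map_top, ← FibreRank.span_one_tmul (B := A) κ S, Submodule.map_span,
        ← Set.range_comp]
      rfl
    rw [h2, Submodule.map_span, ← Set.range_comp]
    congr 2
  have e1 := (Submodule.equivMapOfInjective L hLinj (Submodule.span κ (Set.range fun s : S =>
        LinearMap.baseChange κ (DistribSMul.toLinearMap A Q s)))).finrank_eq
  have e2 := (Submodule.equivMapOfInjective P.toLinearMap P.injective
    (LinearMap.range ((evalMap A S Q q).baseChange κ))).finrank_eq
  rw [e1, h1, ← e2]

/-- level sets of a lower semicontinuous `ℕ`-valued function on a Noetherian quasi-separated space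
are constructible. -/
theorem isConstructible_setOf_eq_of_lowerSemicontinuous {X : Type*} [TopologicalSpace X]
    [TopologicalSpace.NoetherianSpace X] [QuasiSeparatedSpace X] (g : X → ℕ)
    (hg : LowerSemicontinuous g) (n : ℕ) : Topology.IsConstructible {x | g x = n} := by
  have hopen : ∀ m : ℕ, IsOpen {x | m ≤ g x} := by
    intro m
    rcases m with _ | k
    · simp
    · have := hg.isOpen_preimage k
      convert this using 1
      ext x
      simp
  have hcons : ∀ m : ℕ, Topology.IsConstructible {x | m ≤ g x} := fun m =>
    (TopologicalSpace.NoetherianSpace.isCompact _).isConstructible (hopen m)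
  have : {x | g x = n} = {x | n ≤ g x} \ {x | n + 1 ≤ g x} := by
    ext x
    simp only [Set.mem_ofPred_eq, Set.mem_sdiff]
    omega
  rw [this]
  exact (hcons n).sdiff (hcons (n + 1))

theorem main (A : Type u) [CommRing A] [IsNoetherianRing A]
    (S : Type u) [CommRing S] [Algebra A S]
    (Q : Type u) [AddCommGroup Q] [Module A Q] [Module S Q] [IsScalarTower A S Q]
    [Module.Finite A Q] [Module.Flat A Q] (n : ℕ) :
    Topology.IsConstructible {p : PrimeSpectrum A |
      Module.finrank p.asIdeal.ResidueField
        (Submodule.span p.asIdeal.ResidueField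
          (Set.range fun s : S =>
            LinearMap.baseChange p.asIdeal.ResidueField (DistribSMul.toLinearMap A Q s))) = n} := by
  obtain ⟨r, q, hq⟩ := Module.Finite.exists_fin (R := A) (M := Q)
  haveI : Module.FinitePresentation A (Fin r → Q) := Module.finitePresentation_of_finite A _
  haveI : Module.Flat A (Fin r → Q) := by
    classical
    exact Module.Flat.of_linearEquiv
      (DFinsupp.linearEquivFunOnFintype (R := A) (M := fun _ : Fin r => Q)).symm
  have hlsc := FibreRank.lowerSemicontinuous_finrank_range_baseChange (B := A) (evalMap A S Q q)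
  have := isConstructible_setOf_eq_of_lowerSemicontinuous _ hlsc n
  have hset : {p : PrimeSpectrum A |
      Module.finrank p.asIdeal.ResidueField
        (Submodule.span p.asIdeal.ResidueField
          (Set.range fun s : S =>
            LinearMap.baseChange p.asIdeal.ResidueField (DistribSMul.toLinearMap A Q s))) = n} =
      {p : PrimeSpectrum A | finrank p.asIdeal.ResidueField
        (LinearMap.range ((evalMap A S Q q).baseChange p.asIdeal.ResidueField)) = n} := by
    ext p
    simp only [Set.mem_ofPred_eq]
    rw [finrank_span_eq q hq]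
  rw [hset]
  exact this

end Groth.Agent.Lib.Helper10.SpanRank
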