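import Mathlib

/-!
# Full faithfulness of a triangulated functor tested on a spanning class

Mathlib-only. `F : D ⥤ D'` commuting with shifts, with a left and a right adjoint, and a class of
objects detecting zero objects on both sides and stable under shifts: if `F` is bijective on homs
between members of the class, `F` is fully faithful.
-/

universe v v' u u'

open CategoryTheory CategoryTheory.Limits CategoryTheory.Pretriangulated

namespace Groth.Agent.Lib.Helper10.Spanning

section Adj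

variable {C : Type*} [Category C] {C' : Type*} [Category C'] {L : C ⥤ C'} {R : C' ⥤ C}

lemma injective_of_adj (adj : L ⊣ R) {B B' : C'} (h : B ⟶ B') (X : C)
    (hi : Function.Injective (fun u : L.obj X ⟶ B => u ≫ h)) :
    Function.Injective (fun v : X ⟶ R.obj B => v ≫ R.map h) := by
  intro v₁ v₂ hv
  have key : ∀ v : X ⟶ R.obj B,
      v ≫ R.map h = adj.homEquiv X B' ((adj.homEquiv X B).symm v ≫ h) := by
    intro v
    rw [Adjunction.homEquiv_naturality_right, Equiv.apply_symm_apply]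
  simp only [key] at hv
  have := hi ((adj.homEquiv X B').injective hv)
  exact (adj.homEquiv X B).symm.injective this

lemma surjective_of_adj (adj : L ⊣ R) {X' X : C} (g : X' ⟶ X) (Y : C')
    (hs : Function.Surjective (fun u : X ⟶ R.obj Y => g ≫ u)) :
    Function.Surjective (fun v : L.obj X ⟶ Y => L.map g ≫ v) := by
  intro w
  obtain ⟨u, hu⟩ := hs (adj.homEquiv X' Y w)
  refine ⟨(adj.homEquiv X Y).symm u, ?_⟩
  change L.map g ≫ (adj.homEquiv X Y).symm u = w
  rw [← Adjunction.homEquiv_naturality_left_symm]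
  change (adj.homEquiv X' Y).symm (g ≫ u) = w
  rw [show g ≫ u = adj.homEquiv X' Y w from hu, Equiv.symm_apply_apply]

end Adj

/-- `F` is bijective on `Hom(X, Y)`. -/
def P {D : Type u} [Category.{v} D] {D' : Type u'} [Category.{v'} D'] (F : D ⥤ D') (X Y : D) :
    Prop :=
  Function.Bijective (fun f : X ⟶ Y => F.map f)

section PBasic

variable {D : Type u} [Category.{v} D] {D' : Type u'} [Category.{v'} D'] (F : D ⥤ D')

lemma P_iso {X X' Y Y' : D} (eX : X ≅ X') (eY : Y ≅ Y') (h : P F X Y) : P F X' Y' := by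
  constructor
  · intro f₁ f₂ hf
    have h1 : eX.hom ≫ f₁ ≫ eY.inv = eX.hom ≫ f₂ ≫ eY.inv := by
      apply h.1
      change F.map (eX.hom ≫ f₁ ≫ eY.inv) = F.map (eX.hom ≫ f₂ ≫ eY.inv)
      simp only [Functor.map_comp]
      rw [show F.map f₁ = F.map f₂ from hf]
    have h2 : f₁ ≫ eY.inv = f₂ ≫ eY.inv := (cancel_epi eX.hom).1 h1
    exact (cancel_mono eY.inv).1 h2
  · intro w
    obtain ⟨f, hf⟩ := h.2 (F.map eX.hom ≫ w ≫ F.map eY.inv)
    refine ⟨eX.inv ≫ f ≫ eY.hom, ?_⟩
    change F.map (eX.inv ≫ f ≫ eY.hom) = w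
    have hf' : F.map f = F.map eX.hom ≫ w ≫ F.map eY.inv := hf
    simp only [Functor.map_comp, hf', Category.assoc]
    rw [← F.map_comp, eY.inv_hom_id, F.map_id, Category.comp_id, ← F.map_comp_assoc,
      eX.inv_hom_id, F.map_id, Category.id_comp]

variable [HasShift D ℤ] [HasShift D' ℤ] [F.CommShift ℤ]

lemma P_shift {X Y : D} (j : ℤ) (h : P F X Y) :
    P F ((shiftFunctor D j).obj X) ((shiftFunctor D j).obj Y) := by
  have nat : ∀ u : X ⟶ Y, F.map ((shiftFunctor D j).map u) =
      (F.commShiftIso j).hom.app X ≫ (shiftFunctor D' j).map (F.map u) ≫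
        (F.commShiftIso j).inv.app Y := by
    intro u
    have := (F.commShiftIso j).hom.naturality u
    dsimp at this
    rw [← reassoc_of% this]
    simp
  constructor
  · intro g₁ g₂ hg
    obtain ⟨u₁, rfl⟩ := (shiftFunctor D j).map_surjective g₁
    obtain ⟨u₂, rfl⟩ := (shiftFunctor D j).map_surjective g₂
    have hg' : F.map ((shiftFunctor D j).map u₁) = F.map ((shiftFunctor D j).map u₂) := hg
    rw [nat, nat] at hg'
    have h1 := (cancel_epi _).1 hg'
    have h2 := (cancel_mono _).1 h1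
    have h3 := (shiftFunctor D' j).map_injective h2
    rw [h.1 h3]
  · intro w
    obtain ⟨v, hv⟩ := (shiftFunctor D' j).map_surjective
      ((F.commShiftIso j).inv.app X ≫ w ≫ (F.commShiftIso j).hom.app Y)
    obtain ⟨u, hu⟩ := h.2 v
    refine ⟨(shiftFunctor D j).map u, ?_⟩
    change F.map ((shiftFunctor D j).map u) = w
    rw [nat, show F.map u = v from hu, hv]
    simp

end PBasic

section Main

variable {D : Type u} [Category.{v} D] [Preadditive D] [HasZeroObject D] [HasShift D ℤ]
  [∀ n : ℤ, (shiftFunctor D n).Additive] [Pretriangulated D]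
  {D' : Type u'} [Category.{v'} D']
  (F : D ⥤ D')

/-- If `F ⊣ H`, the class `𝒳` is stable under `[-1]` and detects zero objects from the left, and
`F` is bijective on `Hom(X, B)` for all `X ∈ 𝒳`, then the unit at `B` is an isomorphism. -/
lemma isIso_unit_app {H : D' ⥤ D} (adj : F ⊣ H) (𝒳 : Set D)
    (hsh : ∀ X ∈ 𝒳, (shiftFunctor D (-1 : ℤ)).obj X ∈ 𝒳)
    (hz : ∀ K : D, (∀ X ∈ 𝒳, ∀ f : X ⟶ K, f = 0) → IsZero K)
    (B : D) (hP : ∀ X ∈ 𝒳, P F X B) : IsIso (adj.unit.app B) := by
  set h := adj.unit.app B with hh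
  have Q : ∀ X ∈ 𝒳, Function.Bijective (fun u : X ⟶ B => u ≫ h) := by
    intro X hX
    have : (fun u : X ⟶ B => u ≫ h) = (adj.homEquiv X (F.obj B)) ∘ (fun u : X ⟶ B => F.map u) := by
      funext u
      simp only [Function.comp_apply, Adjunction.homEquiv_unit, hh]
      exact (adj.unit.naturality u)
    rw [this]
    exact (adj.homEquiv X (F.obj B)).bijective.comp (hP X hX)
  obtain ⟨C, α, β, hT⟩ := distinguished_cocone_triangle h
  have hC : IsZero C := by
    apply hz
    intro X hX φ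
    -- Step 1
    have adj1 : shiftFunctor D (-1 : ℤ) ⊣ shiftFunctor D (1 : ℤ) :=
      (shiftEquiv D (1 : ℤ)).symm.toAdjunction
    have inj := injective_of_adj adj1 h X (Q _ (hsh X hX)).1
    have h31 : β ≫ (shiftFunctor D (1 : ℤ)).map h = 0 := comp_distTriang_mor_zero₃₁ _ hT
    have h1 : φ ≫ β = 0 := by
      apply inj
      change (φ ≫ β) ≫ (shiftFunctor D (1 : ℤ)).map h = 0 ≫ (shiftFunctor D (1 : ℤ)).map h
      rw [Category.assoc, h31, comp_zero, zero_comp]
    obtain ⟨g, hg⟩ := Triangle.coyoneda_exact₃ _ hT φ h1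
    obtain ⟨u, rfl⟩ := (Q X hX).2 g
    have h12 : h ≫ α = 0 := comp_distTriang_mor_zero₁₂ _ hT
    rw [hg]
    change (u ≫ h) ≫ α = 0
    rw [Category.assoc, h12, comp_zero]
  exact (Triangle.isZero₃_iff_isIso₁ _ hT).1 hC

omit [HasZeroObject D] [∀ n : ℤ, (shiftFunctor D n).Additive] [Pretriangulated D]
  [Preadditive D] [HasShift D ℤ] in
/-- If the unit of `F ⊣ H` at `B` is an isomorphism, `F` is bijective on `Hom(A, B)`. -/
lemma P_of_isIso_unit_app {H : D' ⥤ D} (adj : F ⊣ H) (B : D) [IsIso (adj.unit.app B)] (A : D) :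
    P F A B := by
  have hb : Function.Bijective (fun u : A ⟶ B => u ≫ adj.unit.app B) := by
    constructor
    · intro u₁ u₂ hu
      exact (cancel_mono (adj.unit.app B)).1 hu
    · intro w
      exact ⟨w ≫ inv (adj.unit.app B), by simp⟩
  have : (fun u : A ⟶ B => u ≫ adj.unit.app B) =
      (adj.homEquiv A (F.obj B)) ∘ (fun u : A ⟶ B => F.map u) := by
    funext u
    simp only [Function.comp_apply, Adjunction.homEquiv_unit]
    exact (adj.unit.naturality u)
  rw [this] at hb
  have := (adj.homEquiv A (F.obj B)).symm.bijective.comp hb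
  simpa [Function.comp_def, P] using this

/-- If `G ⊣ F`, the class `𝒴` is stable under `[-1]` and detects zero objects from the right, and
`F` is bijective on `Hom(A, Y)` for all `Y ∈ 𝒴`, then the counit at `A` is an isomorphism. -/
lemma isIso_counit_app {G : D' ⥤ D} (adj : G ⊣ F) (𝒴 : Set D)
    (hsh : ∀ Y ∈ 𝒴, (shiftFunctor D (-1 : ℤ)).obj Y ∈ 𝒴)
    (hz : ∀ K : D, (∀ Y ∈ 𝒴, ∀ f : K ⟶ Y, f = 0) → IsZero K)
    (A : D) (hP : ∀ Y ∈ 𝒴, P F A Y) : IsIso (adj.counit.app A) := by
  set g := adj.counit.app A with hg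
  have Q : ∀ Y ∈ 𝒴, Function.Bijective (fun u : A ⟶ Y => g ≫ u) := by
    intro Y hY
    have : (fun u : A ⟶ Y => F.map u) = (adj.homEquiv (F.obj A) Y) ∘ (fun u : A ⟶ Y => g ≫ u) := by
      funext u
      simp only [Function.comp_apply, Adjunction.homEquiv_unit, hg, Functor.map_comp]
      rw [← Category.assoc]
      have := adj.right_triangle_components A
      rw [this, Category.id_comp]
    have hb := hP Y hY
    unfold P at hb
    rw [this] at hb
    have := (adj.homEquiv (F.obj A) Y).symm.bijective.comp hb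
    simpa [Function.comp_def] using this
  obtain ⟨C, α, β, hT⟩ := distinguished_cocone_triangle g
  have hC : IsZero C := by
    apply hz
    intro Y hY φ
    have h12 : g ≫ α = 0 := comp_distTriang_mor_zero₁₂ _ hT
    have h1 : α ≫ φ = 0 := by
      apply (Q Y hY).1
      change g ≫ α ≫ φ = g ≫ 0
      rw [← Category.assoc, h12, zero_comp, comp_zero]
    obtain ⟨ψ, hψ⟩ := Triangle.yoneda_exact₃ _ hT φ h1
    have adj1 : shiftFunctor D (1 : ℤ) ⊣ shiftFunctor D (-1 : ℤ) :=
      (shiftEquiv D (1 : ℤ)).toAdjunction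
    obtain ⟨ψ₀, rfl⟩ := surjective_of_adj adj1 g Y (Q _ (hsh Y hY)).2 ψ
    have h31 : β ≫ (shiftFunctor D (1 : ℤ)).map g = 0 := comp_distTriang_mor_zero₃₁ _ hT
    rw [hψ]
    change β ≫ (shiftFunctor D (1 : ℤ)).map g ≫ ψ₀ = 0
    rw [← Category.assoc, h31, zero_comp]
  exact (Triangle.isZero₃_iff_isIso₁ _ hT).1 hC

end Main

end Groth.Agent.Lib.Helper10.Spanning
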