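import Mathlib
import Groth.Agent.Lib.Helper10Spectral

/-!
# Limits of spectral spaces along spectral maps (helper10)
-/

set_option autoImplicit false
open CategoryTheory CategoryTheory.Limits Topology TopologicalSpace

namespace Groth.Agent.Lib.Helper10.SpectralLim

open Groth.Agent.Lib.Helper10.Spectral

universe u

variable {J : Type u} [SmallCategory J] {F : J ⥤ TopCat.{u}} (c : Cone F) (hc : IsLimit c)

theorem π_compat {i j : J} (a : i ⟶ j) (x : c.pt) : F.map a (c.π.app i x) = c.π.app j x := by
  have := c.w a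
  exact ConcreteCategory.congr_hom this x

include hc in
theorem exists_pt (p : ∀ j, F.obj j) (hp : ∀ {i j : J} (a : i ⟶ j), F.map a (p i) = p j) :
    ∃ x : c.pt, ∀ j, c.π.app j x = p j := by
  let e := Types.isLimitEquivSections (isLimitOfPreserves (forget TopCat) hc)
  let s : (F ⋙ forget TopCat).sections := ⟨p, fun {i j} a => hp a⟩
  refine ⟨e.symm s, fun j => ?_⟩
  exact Types.isLimitEquivSections_symm_apply (isLimitOfPreserves (forget TopCat) hc) s j

include hc in
theorem ext_pt {x y : c.pt} (h : ∀ j, c.π.app j x = c.π.app j y) : x = y := by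
  let e := Types.isLimitEquivSections (isLimitOfPreserves (forget TopCat) hc)
  apply e.injective
  apply Subtype.ext
  funext j
  exact h j

include hc in
theorem continuous_iff {T : Type*} [TopologicalSpace T] (g : T → c.pt) :
    Continuous g ↔ ∀ j, Continuous (fun t => c.π.app j (g t)) := by
  have h := TopCat.induced_of_isLimit c hc
  constructor
  · intro hg j
    exact (c.π.app j).hom.continuous.comp hg
  · intro hg
    have key : @Continuous T c.pt _ (⨅ j, (F.obj j).str.induced (c.π.app j)) g := by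
      rw [continuous_iInf_rng]
      intro j
      rw [continuous_induced_rng]
      exact hg j
    rw [← h] at key
    exact key

section Constr

variable [hF : ∀ j, SpectralSpace (F.obj j)]
  (hFm : ∀ {i j : J} (a : i ⟶ j), IsSpectralMap (F.map a : F.obj i → F.obj j))
  (Z : ∀ j, Set (F.obj j))
  (hZm : ∀ {i j : J} (a : i ⟶ j), Set.MapsTo (F.map a) (Z i) (Z j))

/-- The diagram of the subsets `Z j` with their constructible topologies. -/
def constrFunctor : J ⥤ TopCat.{u} where
  obj j := TopCat.of {z : WithConstructibleTopology (F.obj j) // z.ofTopology ∈ Z j}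
  map {i j} a := TopCat.ofHom
    ⟨fun z => ⟨WithTopology.toTopology _ (F.map a z.1.ofTopology), hZm a z.2⟩,
      ((continuous_map_withConstr (hFm a)).comp continuous_subtype_val).subtype_mk _⟩
  map_id j := by
    ext z
    simp
  map_comp a b := by
    ext z
    simp

@[simp]
theorem constrFunctor_map_apply {i j : J} (a : i ⟶ j)
    (z : (constrFunctor hFm Z hZm).obj i) :
    (((constrFunctor hFm Z hZm).map a z).1).ofTopology = F.map a z.1.ofTopology := rfl

variable (hZ : ∀ j, IsClosed[constructibleTopology (F.obj j)] (Z j))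

include hZ in
theorem compactSpace_constrFunctor_obj (j : J) :
    CompactSpace ((constrFunctor hFm Z hZm).obj j) :=
  isCompact_iff_compactSpace.mp ((isClosed_withConstr_iff.mpr (hZ j)).isCompact)

theorem t2Space_constrFunctor_obj (j : J) :
    T2Space ((constrFunctor hFm Z hZm).obj j) :=
  inferInstanceAs (T2Space {z : WithConstructibleTopology (F.obj j) // z.ofTopology ∈ Z j})

include hc hZ hFm hZm in
/-- The limit of a compatible family of constructibly closed subsets is quasi-compact. -/
theorem isCompact_setOf_forall_mem : IsCompact {x : c.pt | ∀ j, c.π.app j x ∈ Z j} := by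
  let G := constrFunctor hFm Z hZm
  have hcomp : ∀ j, CompactSpace (G.obj j) := compactSpace_constrFunctor_obj hFm Z hZm hZ
  have ht2 : ∀ j, T2Space (G.obj j) := t2Space_constrFunctor_obj hFm Z hZm
  let S : Set (∀ j, G.obj j) := {u | ∀ {i j : J} (f : i ⟶ j), G.map f (u i) = u j}
  have hS : IsClosed S := by
    have : S = ⋂ (i : J) (j : J) (f : i ⟶ j), {u | G.map f (u i) = u j} := by
      ext u
      simp only [Set.mem_iInter]
      exact ⟨fun h i j f => h f, fun h i j f => h i j f⟩
    rw [this]
    refine isClosed_iInter fun i => isClosed_iInter fun j => isClosed_iInter fun f => ?_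
    exact isClosed_eq ((G.map f).hom.continuous.comp (continuous_apply i)) (continuous_apply j)
  have hScomp : CompactSpace S := isCompact_iff_compactSpace.mp hS.isCompact
  have hex : ∀ u : S, ∃ x : c.pt, ∀ j, c.π.app j x = (u.1 j).1.ofTopology := by
    intro u
    apply exists_pt c hc (fun j => (u.1 j).1.ofTopology)
    intro i j a
    have := u.2 a
    rw [← this]
    rfl
  choose g hg using hex
  have hgc : Continuous g := by
    rw [continuous_iff c hc]
    intro j
    have : (fun u : S => c.π.app j (g u)) = fun u : S => (u.1 j).1.ofTopology := by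
      funext u; exact hg u j
    rw [this]
    exact continuous_ofTopology_orig.comp
      (continuous_subtype_val.comp ((continuous_apply j).comp continuous_subtype_val))
  have hrange : Set.range g = {x : c.pt | ∀ j, c.π.app j x ∈ Z j} := by
    ext x
    constructor
    · rintro ⟨u, rfl⟩ j
      rw [hg u j]
      exact (u.1 j).2
    · intro hx
      let u : ∀ j, G.obj j := fun j => ⟨WithTopology.toTopology _ (c.π.app j x), hx j⟩
      have hu : u ∈ S := by
        intro i j f
        apply Subtype.ext
        apply WithTopology.ofTopology_injective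
        exact π_compat c f x
      refine ⟨⟨u, hu⟩, ?_⟩
      apply ext_pt c hc
      intro j
      rw [hg ⟨u, hu⟩ j]
  rw [← hrange]
  exact isCompact_range hgc

include hc hZ hFm hZm in
/-- The limit of a cofiltered compatible family of nonempty constructibly closed subsets is
nonempty. -/
theorem exists_forall_mem [IsCofiltered J] (hne : ∀ j, (Z j).Nonempty) :
    ∃ x : c.pt, ∀ j, c.π.app j x ∈ Z j := by
  let G := constrFunctor hFm Z hZm
  have hcomp : ∀ j, CompactSpace (G.obj j) := compactSpace_constrFunctor_obj hFm Z hZm hZ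
  have ht2 : ∀ j, T2Space (G.obj j) := t2Space_constrFunctor_obj hFm Z hZm
  have hnon : ∀ j, Nonempty (G.obj j) := fun j => by
    obtain ⟨z, hz⟩ := hne j
    exact ⟨⟨WithTopology.toTopology _ z, hz⟩⟩
  obtain ⟨u⟩ := TopCat.nonempty_limitCone_of_compact_t2_cofiltered_system.{u, u} G
  obtain ⟨x, hx⟩ := exists_pt c hc (fun j => (u.1 j).1.ofTopology) (by
    intro i j a
    have := u.2 a
    rw [← this]
    rfl)
  refine ⟨x, fun j => ?_⟩
  rw [hx j]
  exact (u.1 j).2

end Constr

theorem exists_equalizing [IsCofiltered J] {j i : J} (s : Finset (j ⟶ i)) :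
    ∃ (k : J) (b : k ⟶ j) (d : k ⟶ i), ∀ a ∈ s, b ≫ a = d := by
  classical
  induction s using Finset.induction_on with
  | empty => exact ⟨IsCofiltered.min j i, IsCofiltered.minToLeft j i, IsCofiltered.minToRight j i,
      by simp⟩
  | insert a0 s _ ih =>
    obtain ⟨k, b, d, h⟩ := ih
    refine ⟨IsCofiltered.eq (b ≫ a0) d, IsCofiltered.eqHom (b ≫ a0) d ≫ b,
      IsCofiltered.eqHom (b ≫ a0) d ≫ d, fun a ha => ?_⟩
    rcases Finset.mem_insert.mp ha with rfl | ha
    · rw [Category.assoc, IsCofiltered.eq_condition]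
    · rw [Category.assoc, h a ha]

section Descent

variable [hF : ∀ j, SpectralSpace (F.obj j)]
  (hFm : ∀ {i j : J} (a : i ⟶ j), IsSpectralMap (F.map a : F.obj i → F.obj j))

include hc hFm in
/-- If the preimage in the limit of a constructibly closed set is empty, then already some
transition preimage is empty. -/
theorem exists_hom_preimage_eq_empty [IsCofiltered J] (i : J) (D : Set (F.obj i))
    (hD : IsClosed[constructibleTopology (F.obj i)] D) (hempty : c.π.app i ⁻¹' D = ∅) :
    ∃ (j : J) (a : j ⟶ i), F.map a ⁻¹' D = ∅ := by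
  classical
  by_contra hcon
  push_neg at hcon
  -- hcon : ∀ j a, (F.map a ⁻¹' D).Nonempty
  let Z : ∀ k, Set (F.obj k) := fun k => ⋂ (a : k ⟶ i), F.map a ⁻¹' D
  have hZ : ∀ k, IsClosed[constructibleTopology (F.obj k)] (Z k) := fun k =>
    isClosed_constr_iInter fun a => isClosed_constr_preimage (hFm a) hD
  have hZm : ∀ {k l : J} (b : k ⟶ l), Set.MapsTo (F.map b) (Z k) (Z l) := by
    intro k l b z hz
    simp only [Z, Set.mem_iInter, Set.mem_preimage] at hz ⊢
    intro a
    have := hz (b ≫ a)
    rwa [F.map_comp, TopCat.comp_app] at this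
  have hne : ∀ k, (Z k).Nonempty := by
    intro k
    apply nonempty_iInter_of_isClosed_constr _ (fun a => isClosed_constr_preimage (hFm a) hD)
    intro s
    obtain ⟨l, b, d, hbd⟩ := exists_equalizing s
    obtain ⟨w, hw⟩ := hcon l d
    refine ⟨F.map b w, ?_⟩
    simp only [Set.mem_iInter, Set.mem_preimage]
    intro a ha
    rw [← TopCat.comp_app, ← F.map_comp, hbd a ha]
    exact hw
  obtain ⟨x, hx⟩ := exists_forall_mem c hc hFm Z hZm hZ hne
  have hxi := hx i
  simp only [Z, Set.mem_iInter, Set.mem_preimage] at hxi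
  have := hxi (𝟙 i)
  rw [F.map_id, TopCat.id_app] at this
  have hmem : x ∈ c.π.app i ⁻¹' D := this
  rw [hempty] at hmem
  exact hmem

include hc hFm in
/-- Descent of inclusions of preimages (constructibly closed inside constructibly open). -/
theorem preimage_subset_preimage_iff [IsCofiltered J] (i : J) (E F' : Set (F.obj i))
    (hE : IsClosed[constructibleTopology (F.obj i)] E)
    (hF' : IsOpen[constructibleTopology (F.obj i)] F') :
    (c.π.app i ⁻¹' E ⊆ c.π.app i ⁻¹' F') ↔
      ∃ (j : J) (a : j ⟶ i), F.map a ⁻¹' E ⊆ F.map a ⁻¹' F' := by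
  constructor
  · intro h
    have hD : IsClosed[constructibleTopology (F.obj i)] (E ∩ F'ᶜ) :=
      isClosed_constr_inter hE ((@isClosed_compl_iff _ (constructibleTopology (F.obj i)) _).mpr hF')
    have hempty : c.π.app i ⁻¹' (E ∩ F'ᶜ) = ∅ := by
      rw [Set.eq_empty_iff_forall_notMem]
      rintro x ⟨hx1, hx2⟩
      exact hx2 (h hx1)
    obtain ⟨j, a, ha⟩ := exists_hom_preimage_eq_empty c hc hFm i _ hD hempty
    refine ⟨j, a, fun z hz => ?_⟩
    by_contra hz'
    have : z ∈ F.map a ⁻¹' (E ∩ F'ᶜ) := ⟨hz, hz'⟩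
    rw [ha] at this
    exact this
  · rintro ⟨j, a, h⟩ x hx
    have := π_compat c a x
    simp only [Set.mem_preimage] at hx ⊢
    rw [← this] at hx ⊢
    exact h hx

include hc hFm in
/-- The preimage of a compact open under a projection from the limit is compact. -/
theorem isCompact_preimage_π (j : J) (V : Set (F.obj j)) (hVo : IsOpen V) (hVc : IsCompact V) :
    IsCompact (c.π.app j ⁻¹' V) := by
  let Z : ∀ k, Set (F.obj k) := fun k => ⋂ (a : k ⟶ j), F.map a ⁻¹' V
  have hZ : ∀ k, IsClosed[constructibleTopology (F.obj k)] (Z k) := fun k =>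
    isClosed_constr_iInter fun a => isClosed_constr_preimage (hFm a)
      (isClosed_constr_of_isCompact_isOpen hVo hVc)
  have hZm : ∀ {k l : J} (b : k ⟶ l), Set.MapsTo (F.map b) (Z k) (Z l) := by
    intro k l b z hz
    simp only [Z, Set.mem_iInter, Set.mem_preimage] at hz ⊢
    intro a
    have := hz (b ≫ a)
    rwa [F.map_comp, TopCat.comp_app] at this
  have := isCompact_setOf_forall_mem c hc hFm Z hZm hZ
  have heq : (c.π.app j ⁻¹' V : Set c.pt) = {x : c.pt | ∀ k, c.π.app k x ∈ Z k} := by
    ext x
    simp only [Set.mem_preimage, Set.mem_ofPred_eq, Z, Set.mem_iInter]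
    constructor
    · intro hx k a
      rw [π_compat c a x]; exact hx
    · intro hx
      have := hx j (𝟙 j)
      rwa [F.map_id, TopCat.id_app] at this
  rw [heq]
  exact this

include hc hFm in
theorem isSpectralMap_π (j : J) : IsSpectralMap (c.π.app j : c.pt → F.obj j) :=
  ⟨(c.π.app j).hom.continuous, fun V hVo hVc => isCompact_preimage_π c hc hFm j V hVo hVc⟩

/-- Index type for the basis of compact opens of the limit. -/
abbrev BasisIdx (F : J ⥤ TopCat.{u}) : Type u :=
  Σ j, {V : Set (F.obj j) // IsOpen V ∧ IsCompact V}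

/-- The basis of compact opens of the limit. -/
def basis (t : BasisIdx F) : Set c.pt := c.π.app t.1 ⁻¹' t.2.1

include hc hFm in
theorem isTopologicalBasis_basis [IsCofiltered J] :
    IsTopologicalBasis (Set.range (basis c)) := by
  have := TopCat.isTopologicalBasis_cofiltered_limit.{u, u, u} F c hc
    (fun j => {V | IsOpen V ∧ IsCompact V})
    (fun j => PrespectralSpace.isTopologicalBasis)
    (fun j => ⟨isOpen_univ, isCompact_univ⟩)
    (fun j U1 U2 h1 h2 => ⟨h1.1.inter h2.1, h1.2.inter_of_isOpen h2.2 h1.1 h2.1⟩)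
    (fun i j f V hV => ⟨hV.1.preimage (F.map f).hom.continuous,
      (hFm f).isCompact_preimage_of_isOpen hV.1 hV.2⟩)
  convert this using 1
  ext U
  simp only [Set.mem_range, Sigma.exists, Subtype.exists, basis, Set.mem_ofPred_eq]
  constructor
  · rintro ⟨j, V, hV, rfl⟩; exact ⟨j, V, hV, rfl⟩
  · rintro ⟨j, V, hV, rfl⟩; exact ⟨j, V, hV, rfl⟩

include hc hFm in
theorem isCompact_basis (t : BasisIdx F) : IsCompact (basis c t) :=
  isCompact_preimage_π c hc hFm t.1 t.2.1 t.2.2.1 t.2.2.2

include hFm in
/-- Finite unions of basic compact opens are again pulled back from one stage. -/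
theorem exists_preimage_eq_union [IsCofiltered J] (i j : J) (V : Set (F.obj i)) (V' : Set (F.obj j))
    (hV : IsOpen V ∧ IsCompact V) (hV' : IsOpen V' ∧ IsCompact V') :
    ∃ (k : J) (W W' : Set (F.obj k)), (IsOpen W ∧ IsCompact W) ∧ (IsOpen W' ∧ IsCompact W') ∧
      c.π.app k ⁻¹' W = c.π.app i ⁻¹' V ∧ c.π.app k ⁻¹' W' = c.π.app j ⁻¹' V' := by
  let k := IsCofiltered.min i j
  let a : k ⟶ i := IsCofiltered.minToLeft i j
  let b : k ⟶ j := IsCofiltered.minToRight i j
  refine ⟨k, F.map a ⁻¹' V, F.map b ⁻¹' V',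
    ⟨hV.1.preimage (F.map a).hom.continuous, (hFm a).isCompact_preimage_of_isOpen hV.1 hV.2⟩,
    ⟨hV'.1.preimage (F.map b).hom.continuous, (hFm b).isCompact_preimage_of_isOpen hV'.1 hV'.2⟩,
    ?_, ?_⟩
  · ext x; simp only [Set.mem_preimage]; rw [π_compat c a x]
  · ext x; simp only [Set.mem_preimage]; rw [π_compat c b x]

include hc hFm in
/-- Every compact open of the limit is the preimage of a compact open from one stage. -/
theorem exists_preimage_eq_of_isCompact_isOpen [IsCofiltered J] (U : Set c.pt) (hUo : IsOpen U)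
    (hUc : IsCompact U) :
    ∃ (i : J) (Ui : Set (F.obj i)), IsOpen Ui ∧ IsCompact Ui ∧ c.π.app i ⁻¹' Ui = U := by
  obtain ⟨s, hs, rfl⟩ := (isCompact_open_iff_eq_finite_iUnion_of_isTopologicalBasis (basis c)
    (isTopologicalBasis_basis c hc hFm) (isCompact_basis c hc hFm) U).mp ⟨hUc, hUo⟩
  clear hUo hUc
  induction s, hs using Set.Finite.induction_on with
  | empty =>
    obtain ⟨k⟩ := IsCofiltered.nonempty (C := J)
    exact ⟨k, ∅, isOpen_empty, isCompact_empty, by simp⟩
  | @insert t s _ _ ih =>
    obtain ⟨i, Ui, hUio, hUic, hUi⟩ := ih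
    obtain ⟨k, W, W', hW, hW', h1, h2⟩ :=
      exists_preimage_eq_union c hFm t.1 i t.2.1 Ui t.2.2 ⟨hUio, hUic⟩
    refine ⟨k, W ∪ W', hW.1.union hW'.1, hW.2.union hW'.2, ?_⟩
    rw [Set.biUnion_insert, Set.preimage_union, h1, h2, hUi]
    rfl

include hc hFm in
/-- A cofiltered limit of spectral spaces along spectral maps is spectral. -/
theorem spectralSpace_pt [IsCofiltered J] : SpectralSpace c.pt := by
  have hb := isTopologicalBasis_basis c hc hFm
  have hbc := isCompact_basis c hc hFm
  have h0 : T0Space c.pt := by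
    rw [t0Space_iff_inseparable]
    intro x y hxy
    apply ext_pt c hc
    intro j
    exact (hxy.map (c.π.app j).hom.continuous).eq
  have h1 : CompactSpace c.pt := by
    have := isCompact_setOf_forall_mem c hc hFm (fun _ => Set.univ) (fun _ => Set.mapsTo_univ _ _)
      (fun j => @isClosed_univ _ (constructibleTopology (F.obj j)))
    simp only [Set.mem_univ, implies_true, Set.ofPred_true] at this
    exact isCompact_univ_iff.mp this
  have h2 : PrespectralSpace c.pt := PrespectralSpace.of_isTopologicalBasis' hb hbc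
  have h3 : QuasiSeparatedSpace c.pt := by
    apply QuasiSeparatedSpace.of_isTopologicalBasis hb
    rintro ⟨i, V, hV⟩ ⟨j, V', hV'⟩
    obtain ⟨k, W, W', hW, hW', h1, h2⟩ := exists_preimage_eq_union c hFm i j V V' hV hV'
    have : basis c ⟨i, V, hV⟩ ∩ basis c ⟨j, V', hV'⟩ = c.π.app k ⁻¹' (W ∩ W') := by
      rw [Set.preimage_inter, h1, h2]; rfl
    rw [this]
    exact isCompact_preimage_π c hc hFm k _ (hW.1.inter hW'.1)
      (hW.2.inter_of_isOpen hW'.2 hW.1 hW'.1)
  have h4 : QuasiSober c.pt := by
    constructor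
    intro S hS hScl
    have hSj : ∀ j, IsIrreducible (c.π.app j '' S) := fun j =>
      hS.image _ (c.π.app j).hom.continuous.continuousOn
    have hgen : ∀ j, IsGenericPoint (hSj j).genericPoint (closure (c.π.app j '' S)) := fun j =>
      (hSj j).isGenericPoint_genericPoint_closure
    obtain ⟨x, hx⟩ := exists_pt c hc (fun j => (hSj j).genericPoint) (by
      intro i j a
      have h1 := (hgen i).image (F.map a).hom.continuous
      rw [closure_image_closure (F.map a).hom.continuous, Set.image_image] at h1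
      have h2 : (fun y => (F.map a) ((c.π.app i) y)) '' S = c.π.app j '' S := by
        apply Set.image_congr
        intro y _
        exact π_compat c a y
      rw [h2] at h1
      exact h1.eq (hgen j))
    refine ⟨x, ?_⟩
    apply subset_antisymm
    · rw [hScl.closure_subset_iff, Set.singleton_subset_iff, ← hScl.closure_eq,
        hb.mem_closure_iff]
      rintro _ ⟨⟨j, V, hV⟩, rfl⟩ hxo
      have hξV : (hSj j).genericPoint ∈ V := by rw [← hx j]; exact hxo
      obtain ⟨y, hyV, ⟨s, hs, rfl⟩⟩ := mem_closure_iff.mp (hgen j).mem V hV.1 hξV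
      exact ⟨s, hyV, hs⟩
    · intro s hs
      rw [hb.mem_closure_iff]
      rintro _ ⟨⟨j, V, hV⟩, rfl⟩ hso
      refine ⟨x, ?_, rfl⟩
      have hspec : (hSj j).genericPoint ⤳ c.π.app j s :=
        (hgen j).specializes (subset_closure ⟨s, hs, rfl⟩)
      change c.π.app j x ∈ V
      rw [hx j]
      exact hspec.mem_open hV.1 hso
  exact { }

include hc hFm in
/-- Descent of equalities of preimages of constructibly clopen sets. -/
theorem exists_hom_preimage_eq [IsCofiltered J] (i : J) (E E' : Set (F.obj i))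
    (hE : @IsClopen _ (constructibleTopology (F.obj i)) E)
    (hE' : @IsClopen _ (constructibleTopology (F.obj i)) E')
    (h : c.π.app i ⁻¹' E = c.π.app i ⁻¹' E') :
    ∃ (j : J) (a : j ⟶ i), F.map a ⁻¹' E = F.map a ⁻¹' E' := by
  obtain ⟨j1, a1, h1⟩ := (preimage_subset_preimage_iff c hc hFm i E E' hE.1 hE'.2).mp h.subset
  obtain ⟨j2, a2, h2⟩ := (preimage_subset_preimage_iff c hc hFm i E' E hE'.1 hE.2).mp h.symm.subset
  let k := IsCofiltered.min j1 j2
  let d1 : k ⟶ j1 := IsCofiltered.minToLeft j1 j2
  let d2 : k ⟶ j2 := IsCofiltered.minToRight j1 j2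
  let e := IsCofiltered.eqHom (d1 ≫ a1) (d2 ≫ a2)
  have he : e ≫ d1 ≫ a1 = e ≫ d2 ≫ a2 := IsCofiltered.eq_condition _ _
  refine ⟨_, e ≫ d1 ≫ a1, subset_antisymm ?_ ?_⟩
  · intro z hz
    simp only [Set.mem_preimage, ← Category.assoc, F.map_comp, TopCat.comp_app] at hz ⊢
    exact h1 hz
  · rw [he]
    intro z hz
    simp only [Set.mem_preimage, ← Category.assoc, F.map_comp, TopCat.comp_app] at hz ⊢
    exact h2 hz

include hc hFm in
/-- Descent of inclusions of preimages of compact opens from different stages. -/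
theorem exists_hom_preimage_subset [IsCofiltered J] (i j : J) (Ui : Set (F.obj i))
    (Uj : Set (F.obj j)) (hUi : IsOpen Ui ∧ IsCompact Ui) (hUj : IsOpen Uj ∧ IsCompact Uj)
    (h : c.π.app i ⁻¹' Ui ⊆ c.π.app j ⁻¹' Uj) :
    ∃ (k : J) (a : k ⟶ i) (b : k ⟶ j), F.map a ⁻¹' Ui ⊆ F.map b ⁻¹' Uj := by
  let k0 := IsCofiltered.min i j
  let a0 : k0 ⟶ i := IsCofiltered.minToLeft i j
  let b0 : k0 ⟶ j := IsCofiltered.minToRight i j
  have hE : IsClosed[constructibleTopology (F.obj k0)] (F.map a0 ⁻¹' Ui) :=
    isClosed_constr_preimage (hFm a0) (isClosed_constr_of_isCompact_isOpen hUi.1 hUi.2)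
  have hF' : IsOpen[constructibleTopology (F.obj k0)] (F.map b0 ⁻¹' Uj) :=
    isOpen_constr_preimage (hFm b0) (isOpen_constr_of_isCompact_isOpen hUj.1 hUj.2)
  have hsub : c.π.app k0 ⁻¹' (F.map a0 ⁻¹' Ui) ⊆ c.π.app k0 ⁻¹' (F.map b0 ⁻¹' Uj) := by
    intro x hx
    simp only [Set.mem_preimage] at hx ⊢
    rw [π_compat c a0 x] at hx
    rw [π_compat c b0 x]
    exact h hx
  obtain ⟨k, d, hd⟩ := (preimage_subset_preimage_iff c hc hFm k0 _ _ hE hF').mp hsub
  refine ⟨k, d ≫ a0, d ≫ b0, ?_⟩
  intro z hz
  simp only [Set.mem_preimage, F.map_comp, TopCat.comp_app] at hz ⊢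
  exact hd hz

include hc hFm in
/-- Every constructible subset of the limit is pulled back from a constructible subset of one
stage. -/
theorem exists_isConstructible_preimage_eq [IsCofiltered J] (E : Set c.pt)
    (hE : Topology.IsConstructible E) :
    ∃ (i : J) (Ei : Set (F.obj i)), Topology.IsConstructible Ei ∧ c.π.app i ⁻¹' Ei = E := by
  have hsp : SpectralSpace c.pt := spectralSpace_pt c hc hFm
  induction hE using Topology.IsConstructible.empty_union_induction with
  | open_retrocompact U hUo hUc =>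
    obtain ⟨i, Ui, hUio, hUic, hUi⟩ :=
      exists_preimage_eq_of_isCompact_isOpen c hc hFm U hUo hUc.isCompact
    exact ⟨i, Ui, hUic.isConstructible hUio, hUi⟩
  | union s _ t _ hs' ht' =>
    obtain ⟨i, Ei, hEi, rfl⟩ := hs'
    obtain ⟨j, Ej, hEj, rfl⟩ := ht'
    let k := IsCofiltered.min i j
    let a : k ⟶ i := IsCofiltered.minToLeft i j
    let b : k ⟶ j := IsCofiltered.minToRight i j
    refine ⟨k, F.map a ⁻¹' Ei ∪ F.map b ⁻¹' Ej,
      (isConstructible_preimage_of_isSpectralMap (hFm a) hEi).union
        (isConstructible_preimage_of_isSpectralMap (hFm b) hEj), ?_⟩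
    ext x
    simp only [Set.mem_preimage, Set.mem_union]
    rw [π_compat c a x, π_compat c b x]
  | compl s _ hs' =>
    obtain ⟨i, Ei, hEi, rfl⟩ := hs'
    exact ⟨i, Eiᶜ, hEi.compl, rfl⟩

include hc hFm in
theorem exists_isConstructible_isOpen_preimage_eq [IsCofiltered J] (E : Set c.pt)
    (hE : Topology.IsConstructible E) (hEo : IsOpen E) :
    ∃ (i : J) (Ei : Set (F.obj i)), Topology.IsConstructible Ei ∧ IsOpen Ei ∧
      c.π.app i ⁻¹' Ei = E := by
  have hsp : SpectralSpace c.pt := spectralSpace_pt c hc hFm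
  have hEc : IsCompact E := isCompact_of_isClosed_constr (isClosed_constr_of_isConstructible hE)
  obtain ⟨i, Ui, hUio, hUic, hUi⟩ := exists_preimage_eq_of_isCompact_isOpen c hc hFm E hEo hEc
  exact ⟨i, Ui, hUic.isConstructible hUio, hUio, hUi⟩

include hc hFm in
theorem exists_isConstructible_isClosed_preimage_eq [IsCofiltered J] (E : Set c.pt)
    (hE : Topology.IsConstructible E) (hEc : IsClosed E) :
    ∃ (i : J) (Ei : Set (F.obj i)), Topology.IsConstructible Ei ∧ IsClosed Ei ∧
      c.π.app i ⁻¹' Ei = E := by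
  obtain ⟨i, Ui, hUi, hUio, h⟩ :=
    exists_isConstructible_isOpen_preimage_eq c hc hFm Eᶜ hE.compl hEc.isOpen_compl
  refine ⟨i, Uiᶜ, hUi.compl, hUio.isClosed_compl, ?_⟩
  rw [Set.preimage_compl, h, compl_compl]

end Descent

end Groth.Agent.Lib.Helper10.SpectralLim
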