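import Mathlib

/-!
# Finite stratifications from finitely many closed sets (helper10)
-/

set_option autoImplicit false
open Topology TopologicalSpace Set

namespace Groth.Agent.Lib.Helper10.Strat

universe u

variable {X : Type u} [TopologicalSpace X] {ι : Type} [Fintype ι] [DecidableEq ι]

/-- The atom of the Boolean algebra generated by the sets `C i` with membership pattern `I`. -/
def atom (C : ι → Set X) (I : (Finset ι)ᵒᵈ) : Set X :=
  {x | ∀ i, i ∈ OrderDual.ofDual I ↔ x ∈ C i}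

theorem mem_atom {C : ι → Set X} {I : (Finset ι)ᵒᵈ} {x : X} :
    x ∈ atom C I ↔ ∀ i, i ∈ OrderDual.ofDual I ↔ x ∈ C i := Iff.rfl

/-- The pattern of a point. -/
noncomputable def pattern (C : ι → Set X) (x : X) : (Finset ι)ᵒᵈ := by
  classical
  exact OrderDual.toDual (Finset.univ.filter fun i => x ∈ C i)

theorem mem_atom_pattern (C : ι → Set X) (x : X) : x ∈ atom C (pattern C x) := by
  intro i
  simp [pattern]

theorem eq_pattern_of_mem_atom {C : ι → Set X} {I : (Finset ι)ᵒᵈ} {x : X} (hx : x ∈ atom C I) :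
    I = pattern C x := by
  apply OrderDual.ofDual.injective
  ext i
  rw [hx i]
  simp [pattern]

theorem atom_eq (C : ι → Set X) (I : (Finset ι)ᵒᵈ) :
    atom C I = (⋂ i ∈ OrderDual.ofDual I, C i) ∩ (⋃ i ∈ (OrderDual.ofDual I)ᶜ, C i)ᶜ := by
  ext x
  simp only [mem_atom, Set.mem_inter_iff, Set.mem_iInter, Set.mem_compl_iff, Set.mem_iUnion,
    Finset.mem_compl, not_exists]
  constructor
  · intro h
    exact ⟨fun i hi => (h i).mp hi, fun i hi hx => hi ((h i).mpr hx)⟩
  · rintro ⟨h1, h2⟩ i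
    exact ⟨h1 i, fun hx => by_contra fun hi => h2 i hi hx⟩

theorem isLocallyClosed_atom {C : ι → Set X} (hC : ∀ i, IsClosed (C i)) (I : (Finset ι)ᵒᵈ) :
    IsLocallyClosed (atom C I) := by
  rw [atom_eq]
  refine IsLocallyClosed.inter (IsClosed.isLocallyClosed ?_) (IsOpen.isLocallyClosed ?_)
  · exact isClosed_biInter fun i _ => hC i
  · rw [isOpen_compl_iff]
    exact (Finset.finite_toSet _).isClosed_biUnion fun i _ => hC i

theorem iUnion_atom (C : ι → Set X) : ⋃ I, atom C I = Set.univ :=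
  Set.eq_univ_of_forall fun x => Set.mem_iUnion.mpr ⟨pattern C x, mem_atom_pattern C x⟩

theorem disjoint_atom (C : ι → Set X) {I J : (Finset ι)ᵒᵈ} (h : I ≠ J) :
    Disjoint (atom C I) (atom C J) := by
  rw [Set.disjoint_left]
  intro x hxI hxJ
  exact h ((eq_pattern_of_mem_atom hxI).trans (eq_pattern_of_mem_atom hxJ).symm)

theorem closure_atom_subset {C : ι → Set X} (hC : ∀ i, IsClosed (C i)) (J : (Finset ι)ᵒᵈ) :
    closure (atom C J) ⊆ ⋃ I ∈ Set.Iic J, atom C I := by
  have h1 : closure (atom C J) ⊆ ⋂ i ∈ OrderDual.ofDual J, C i := by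
    apply closure_minimal _ (isClosed_biInter fun i _ => hC i)
    intro x hx
    exact Set.mem_iInter₂.mpr fun i hi => (hx i).mp hi
  intro x hx
  have hx' := h1 hx
  refine Set.mem_iUnion₂.mpr ⟨pattern C x, ?_, mem_atom_pattern C x⟩
  rw [Set.mem_Iic]
  change OrderDual.ofDual J ≤ OrderDual.ofDual (pattern C x)
  intro i hi
  exact (mem_atom_pattern C x i).mpr (Set.mem_iInter₂.mp hx' i hi)

theorem atom_subset_of_nonempty_inter {C : ι → Set X} {s : Set X}
    (hs : ∀ x y, (∀ i, x ∈ C i ↔ y ∈ C i) → x ∈ s → y ∈ s) (I : (Finset ι)ᵒᵈ)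
    (h : (atom C I ∩ s).Nonempty) : atom C I ⊆ s := by
  obtain ⟨x, hxI, hxs⟩ := h
  intro y hy
  exact hs x y (fun i => ((hxI i).symm.trans (hy i))) hxs

theorem isConstructible_atom {C : ι → Set X} (hC : ∀ i, IsConstructible (C i))
    (I : (Finset ι)ᵒᵈ) : IsConstructible (atom C I) := by
  rw [atom_eq]
  refine IsConstructible.inter ?_ (IsConstructible.compl ?_)
  · exact IsConstructible.biInter (Finset.finite_toSet _) fun i _ => hC i
  · exact IsConstructible.biUnion (Finset.finite_toSet _) fun i _ => hC i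

/-- The main existence statement. -/
theorem exists_stratification (C : ι → Set X) (hC : ∀ i, IsClosed (C i)) :
    ∃ (I : Type) (_ : Fintype I) (_ : PartialOrder I) (S : I → Set X),
      (∀ i, IsLocallyClosed (S i)) ∧ (⋃ i, S i = Set.univ) ∧ (∀ i j, i ≠ j → Disjoint (S i) (S j)) ∧
      (∀ j, closure (S j) ⊆ ⋃ i ∈ Set.Iic j, S i) ∧
      (∀ i, (∀ k, IsConstructible (C k)) → IsConstructible (S i)) ∧
      (∀ (s : Set X), (∀ x y, (∀ i, x ∈ C i ↔ y ∈ C i) → x ∈ s → y ∈ s) →
        ∀ i, (S i ∩ s).Nonempty → S i ⊆ s) :=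
  ⟨(Finset ι)ᵒᵈ, inferInstance, inferInstance, atom C, isLocallyClosed_atom hC, iUnion_atom C,
    fun _ _ h => disjoint_atom C h, closure_atom_subset hC,
    fun i h => isConstructible_atom h i,
    fun _ hs i h => atom_subset_of_nonempty_inter hs i h⟩

/-- A constructible set is determined by finitely many retrocompact opens. -/
theorem exists_finite_determining {s : Set X} (hs : IsConstructible s) :
    ∃ 𝒪 : Finset (Set X), (∀ O ∈ 𝒪, IsOpen O ∧ IsRetrocompact O) ∧
      ∀ x y, (∀ O ∈ 𝒪, x ∈ O ↔ y ∈ O) → (x ∈ s ↔ y ∈ s) := by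
  classical
  induction hs using IsConstructible.empty_union_induction with
  | open_retrocompact U hUo hUr =>
    refine ⟨{U}, ?_, ?_⟩
    · intro O hO
      rw [Finset.mem_singleton] at hO
      subst hO
      exact ⟨hUo, hUr⟩
    · intro x y h
      exact h U (Finset.mem_singleton_self U)
  | union s _ t _ hs ht =>
    obtain ⟨𝒪, h𝒪, hs'⟩ := hs
    obtain ⟨𝒪', h𝒪', ht'⟩ := ht
    refine ⟨𝒪 ∪ 𝒪', ?_, ?_⟩
    · intro O hO
      rcases Finset.mem_union.mp hO with h | h
      · exact h𝒪 O h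
      · exact h𝒪' O h
    · intro x y h
      have h1 := hs' x y fun O hO => h O (Finset.mem_union_left _ hO)
      have h2 := ht' x y fun O hO => h O (Finset.mem_union_right _ hO)
      simp only [Set.mem_union, h1, h2]
  | compl s _ hs =>
    obtain ⟨𝒪, h𝒪, hs'⟩ := hs
    refine ⟨𝒪, h𝒪, fun x y h => ?_⟩
    simp only [Set.mem_compl_iff, hs' x y h]

/-- Finite constructible stratification refining finitely many constructible sets. -/
theorem exists_constructible_stratification {n : ℕ} (T : Fin n → Set X)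
    (hT : ∀ k, IsConstructible (T k)) :
    ∃ (I : Type) (_ : Fintype I) (_ : PartialOrder I) (S : I → Set X),
      (∀ i, IsLocallyClosed (S i) ∧ IsConstructible (S i)) ∧ (⋃ i, S i = Set.univ) ∧
      (∀ i j, i ≠ j → Disjoint (S i) (S j)) ∧
      (∀ j, closure (S j) ⊆ ⋃ i ∈ Set.Iic j, S i) ∧
      (∀ i k, (S i ∩ T k).Nonempty → S i ⊆ T k) := by
  classical
  choose 𝒪 h𝒪 hdet using fun k => exists_finite_determining (hT k)
  let 𝒰 : Finset (Set X) := Finset.univ.biUnion 𝒪
  have h𝒰 : ∀ O ∈ 𝒰, IsOpen O ∧ IsRetrocompact O := by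
    intro O hO
    obtain ⟨k, -, hk⟩ := Finset.mem_biUnion.mp hO
    exact h𝒪 k O hk
  let e : Fin 𝒰.card ≃ ↥𝒰 := 𝒰.equivFin.symm
  let C : Fin 𝒰.card → Set X := fun j => ((e j : ↥𝒰) : Set X)ᶜ
  have hC : ∀ j, IsClosed (C j) := fun j => (h𝒰 _ (e j).2).1.isClosed_compl
  have hCc : ∀ j, IsConstructible (C j) := fun j =>
    ((h𝒰 _ (e j).2).2.isConstructible (h𝒰 _ (e j).2).1).compl
  obtain ⟨I, hI1, hI2, S, hS1, hS2, hS3, hS4, hS5, hS6⟩ := exists_stratification C hC
  refine ⟨I, hI1, hI2, S, fun i => ⟨hS1 i, hS5 i hCc⟩, hS2, hS3, hS4, fun i k h => ?_⟩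
  refine hS6 (T k) ?_ i h
  intro x y hxy hx
  refine (hdet k x y ?_).mp hx
  intro O hO
  have hO' : O ∈ 𝒰 := Finset.mem_biUnion.mpr ⟨k, Finset.mem_univ k, hO⟩
  have := hxy (e.symm ⟨O, hO'⟩)
  simp only [C, Equiv.apply_symm_apply, Set.mem_compl_iff] at this
  exact not_iff_not.mp this

end Groth.Agent.Lib.Helper10.Strat
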