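import Mathlib
import Groth.Prelude.Def_W4c2submetdescSubtr

set_option autoImplicit false
universe u
open CategoryTheory CategoryTheory.Limits AlgebraicGeometry IsLocalRing

namespace Groth.Agent.Lib.Helper10.SubtrDVR

lemma eq_closedPoint_or_eq_bot (V : Type u) [CommRing V] [IsDomain V] [IsDiscreteValuationRing V]
    (p : PrimeSpectrum V) : p = closedPoint V ∨ p = ⟨⊥, Ideal.isPrime_bot⟩ := by
  by_cases hp : p.asIdeal = ⊥
  · right; exact PrimeSpectrum.ext hp
  · left
    have := p.isPrime
    have hmax : p.asIdeal.IsMaximal := Ring.DimensionLEOne.maximalOfPrime hp inferInstance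
    exact PrimeSpectrum.ext (IsLocalRing.eq_maximalIdeal hmax)

lemma bot_ne_closedPoint (V : Type u) [CommRing V] [IsDomain V] [IsDiscreteValuationRing V] :
    (⟨⊥, Ideal.isPrime_bot⟩ : PrimeSpectrum V) ≠ closedPoint V := by
  intro h
  have : (⊥ : Ideal V) = maximalIdeal V := congrArg PrimeSpectrum.asIdeal h
  exact IsDiscreteValuationRing.not_a_field V this.symm

lemma isOpen_of_generization (V : Type u) [CommRing V] [IsDomain V] [IsDiscreteValuationRing V]
    (s : Set (PrimeSpectrum V)) (hgen : ∀ y y' : PrimeSpectrum V, y' ⤳ y → y ∈ s → y' ∈ s) :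
    IsOpen s := by
  by_cases hc : closedPoint V ∈ s
  · have : s = Set.univ := Set.eq_univ_of_forall fun p =>
      hgen _ p (specializes_closedPoint (R := V) p) hc
    rw [this]; exact isOpen_univ
  · by_cases hb : (⟨⊥, Ideal.isPrime_bot⟩ : PrimeSpectrum V) ∈ s
    · have : s = {closedPoint V}ᶜ := by
        ext p
        rcases eq_closedPoint_or_eq_bot V p with rfl | rfl
        · simp [hc]
        · simp [hb, bot_ne_closedPoint V]
      rw [this]
      exact (isClosed_singleton_closedPoint V).isOpen_compl
    · have : s = ∅ := by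
        ext p
        rcases eq_closedPoint_or_eq_bot V p with rfl | rfl
        · simp [hc]
        · simp [hb]
      rw [this]; exact isOpen_empty

theorem main (V : Type u) [CommRing V] [IsDomain V]
    [IsDiscreteValuationRing V] {X : Scheme.{u}} (f : X ⟶ Spec (CommRingCat.of V)) :
    Topology.IsQuotientMap f ↔ Subtr.IsSSubtrusive f := by
  constructor
  · intro hq y y' hyy
    by_cases hyeq : y' = y
    · subst hyeq
      obtain ⟨x, hx⟩ := hq.surjective y'
      exact ⟨x, x, specializes_rfl, hx, hx⟩
    have hy : y = closedPoint V := by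
      rcases eq_closedPoint_or_eq_bot V y with h | h
      · exact h
      · exfalso; apply hyeq
        have hle : y'.asIdeal ≤ y.asIdeal := (PrimeSpectrum.le_iff_specializes y' y).mpr hyy
        rw [h] at hle ⊢
        exact PrimeSpectrum.ext (le_bot_iff.mp hle)
    have hy' : y' = (⟨⊥, Ideal.isPrime_bot⟩ : PrimeSpectrum V) := by
      rcases eq_closedPoint_or_eq_bot V y' with h | h
      · exact absurd (h.trans hy.symm) hyeq
      · exact h
    by_contra hno
    push Not at hno
    let U₀ : (Spec (CommRingCat.of V)).Opens :=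
      ⟨({closedPoint V}ᶜ : Set (PrimeSpectrum V)), (isClosed_singleton_closedPoint V).isOpen_compl⟩
    let D : X.Opens := f ⁻¹ᵁ U₀
    have hqc : QuasiCompact D.ι :=
      MorphismProperty.of_isPullback (isPullback_morphismRestrict f U₀) inferInstance
    have hspec : SpecializingMap D.ι := by
      intro x' x hx
      have hxD : x ∈ D := by
        change f x ∈ ({closedPoint V}ᶜ : Set (PrimeSpectrum V))
        intro hfx
        have hfx' : f x'.1 = y' := by
          rcases eq_closedPoint_or_eq_bot V (f x'.1) with h | h
          · exact absurd h x'.2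
          · exact h.trans hy'.symm
        exact hno x x'.1 hx (hfx.trans hy.symm) hfx'
      exact ⟨⟨x, hxD⟩, D.ι.isOpenEmbedding.isInducing.specializes_iff.mp hx, rfl⟩
    have hcl : IsClosed (Set.range D.ι) :=
      ((isClosedMap_iff_specializingMap D.ι).mpr hspec).isClosed_range
    rw [Scheme.Opens.range_ι] at hcl
    have hcl' : IsClosed ({closedPoint V}ᶜ : Set (PrimeSpectrum V)) :=
      hq.isClosed_preimage.mp hcl
    have hop : IsOpen ({closedPoint V} : Set (PrimeSpectrum V)) := by
      simpa using hcl'.isOpen_compl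
    have : (⟨⊥, Ideal.isPrime_bot⟩ : PrimeSpectrum V) ∈ ({closedPoint V} : Set (PrimeSpectrum V)) :=
      (specializes_closedPoint (R := V) _).mem_open hop rfl
    exact bot_ne_closedPoint V this
  · intro H
    have hsurj : Function.Surjective f := fun y => by
      obtain ⟨x, _, _, hx, _⟩ := H (specializes_refl y)
      exact ⟨x, hx⟩
    refine ⟨Topology.isCoinducing_iff.mpr fun s =>
      ⟨fun hs => ?_, fun hs => hs.preimage f.continuous⟩, hsurj⟩
    -- s is stable under generization
    have hgen : ∀ y y' : Spec (CommRingCat.of V), y' ⤳ y → y ∈ s → y' ∈ s := by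
      intro y y' hyy hy
      obtain ⟨x, x', hxx, hx, hx'⟩ := H hyy
      have : x' ∈ f ⁻¹' s := hxx.mem_open hs (by simpa [hx] using hy)
      simpa [hx'] using this
    exact isOpen_of_generization V s hgen

end Groth.Agent.Lib.Helper10.SubtrDVR
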