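import Mathlib
import Groth.Prelude.Def_W4c2submetdescSubtr
import Groth.Agent.Lib.Helper10SubtrVal

set_option autoImplicit false
universe u
open CategoryTheory CategoryTheory.Limits AlgebraicGeometry IsLocalRing

namespace Groth.Agent.Lib.Helper10.SubtrVal

lemma comap_surjective_of_injective_of_isLocalHom {V A : Type u} [CommRing V] [IsDomain V]
    [ValuationRing V] [CommRing A] [IsDomain A] [IsLocalRing A] (β : V →+* A)
    (hinj : Function.Injective β) [IsLocalHom β] :
    Function.Surjective (PrimeSpectrum.comap β) := by
  algebraize [β]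
  have h1 : Module.IsTorsionFree V A := Module.isTorsionFree_iff_algebraMap_injective.mpr hinj
  have h2 : Module.Flat V A := Module.Flat.flat_iff_torsion_eq_bot_of_isBezout.mpr
    (Submodule.isTorsionFree_iff_torsion_eq_bot.mp h1)
  have h3 : IsLocalHom (algebraMap V A) := ‹_›
  have := Module.FaithfullyFlat.of_flat_of_isLocalHom (A := V) (B := A)
  exact PrimeSpectrum.comap_surjective_of_faithfullyFlat

theorem main2 {X Y : Scheme.{u}} (f : X ⟶ Y) :
    Subtr.UnivSSubtrusive f ↔
      ∀ (V : Type u) [CommRing V] [IsDomain V] [ValuationRing V] (g : Spec (CommRingCat.of V) ⟶ Y),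
        ∃ (V' : Type u) (_ : CommRing V') (_ : IsDomain V') (_ : ValuationRing V')
          (a : Spec (CommRingCat.of V') ⟶ X) (b : Spec (CommRingCat.of V') ⟶ Spec (CommRingCat.of V)),
          Surjective b ∧ a ≫ f = b ≫ g := by
  constructor
  · intro H V _ _ _ g
    have HV : Subtr.IsSSubtrusive (pullback.snd f g) := (main f).mp H V g
    let ηV : Spec (CommRingCat.of V) := (⟨⊥, Ideal.isPrime_bot⟩ : PrimeSpectrum V)
    have hη : ηV ⤳ closedPoint V := specializes_closedPoint (R := V) ηV
    obtain ⟨w, w', hww, hw, hw'⟩ := HV hη
    obtain ⟨A, s, hs1, hs2⟩ := exists_valuationRing_of_specializes hww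
    refine ⟨↥A, inferInstance, inferInstance, inferInstance, s ≫ pullback.fst f g,
      s ≫ pullback.snd f g, ?_, by rw [Category.assoc, Category.assoc, pullback.condition]⟩
    set b : Spec (CommRingCat.of ↥A) ⟶ Spec (CommRingCat.of V) := s ≫ pullback.snd f g with hb
    let β : CommRingCat.of V ⟶ CommRingCat.of ↥A := Spec.preimage b
    have hβ : Spec.map β = b := Spec.map_preimage b
    have hbc : b (closedPoint ↥A) = closedPoint V := by
      change pullback.snd f g (s (closedPoint ↥A)) = _
      rw [hs1, hw]
    let pt : Spec ((pullback f g).residueField w') := closedPoint ((pullback f g).residueField w')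
    let ηA : Spec (CommRingCat.of ↥A) := Spec.map (CommRingCat.ofHom A.subtype) pt
    have hbη : b ηA = ηV := by
      change pullback.snd f g (s ηA) = _
      have h2 := congrArg
        (fun m : Spec ((pullback f g).residueField w') ⟶ pullback f g => m pt) hs2
      change s ηA = _ at h2
      rw [h2, Scheme.fromSpecResidueField_apply, hw']
    have hηA : ηA.asIdeal = ⊥ := by
      change Ideal.comap A.subtype pt.asIdeal = ⊥
      have hpt : pt.asIdeal = ⊥ := by
        have := pt.isPrime
        exact Ideal.eq_bot_of_prime pt.asIdeal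
      rw [hpt]
      exact Ideal.comap_bot_of_injective _ Subtype.val_injective
    have hinj : Function.Injective β.hom := by
      rw [RingHom.injective_iff_ker_eq_bot]
      have h3 : (Spec.map β ηA).asIdeal = ⊥ := by rw [hβ, hbη]
      change Ideal.comap β.hom ηA.asIdeal = ⊥ at h3
      rw [hηA] at h3
      exact h3
    have hloc : IsLocalHom β.hom := by
      apply ((IsLocalRing.local_hom_TFAE β.hom).out 0 4).mpr
      have h3 : (Spec.map β (closedPoint ↥A)).asIdeal = (closedPoint V).asIdeal := by
        rw [hβ, hbc]
      exact h3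
    constructor
    rw [← hβ]
    exact comap_surjective_of_injective_of_isLocalHom β.hom hinj
  · intro H
    rw [main f]
    intro V _ _ _ g y y' hyy
    obtain ⟨A, s, hs1, hs2⟩ := exists_valuationRing_of_specializes hyy
    obtain ⟨V', _, _, _, a, b, hb, hab⟩ := H ↥A (s ≫ g)
    let l : Spec (CommRingCat.of V') ⟶ pullback f g :=
      pullback.lift a (b ≫ s) (by rw [hab, Category.assoc])
    have hl : l ≫ pullback.snd f g = b ≫ s := pullback.lift_snd _ _ _
    have hl' : ∀ v : Spec (CommRingCat.of V'), pullback.snd f g (l v) = s (b v) := fun v =>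
      congrArg (fun m : Spec (CommRingCat.of V') ⟶ Spec (CommRingCat.of V) => m v) hl
    let pt : Spec ((Spec (CommRingCat.of V)).residueField y') :=
      closedPoint ((Spec (CommRingCat.of V)).residueField y')
    let ηA : Spec (CommRingCat.of ↥A) := Spec.map (CommRingCat.ofHom A.subtype) pt
    obtain ⟨v0, hv0⟩ := hb.surj (closedPoint ↥A)
    obtain ⟨v', hv'⟩ := hb.surj ηA
    have hbc : b (closedPoint V') = closedPoint ↥A := by
      have h1 : v0 ⤳ closedPoint V' := specializes_closedPoint (R := V') v0
      have h2 : b v0 ⤳ b (closedPoint V') := h1.map b.continuous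
      rw [hv0] at h2
      exact h2.mem_closed (isClosed_singleton_closedPoint ↥A) rfl
    refine ⟨l (closedPoint V'), l v',
      (specializes_closedPoint (R := V') v').map l.continuous, ?_, ?_⟩
    · exact (hl' _).trans ((congrArg s hbc).trans hs1)
    · refine (hl' _).trans ((congrArg s hv').trans ?_)
      have h2 := congrArg
        (fun m : Spec ((Spec (CommRingCat.of V)).residueField y') ⟶ Spec (CommRingCat.of V) =>
          m pt) hs2
      change s ηA = _ at h2
      rw [h2, Scheme.fromSpecResidueField_apply]

end Groth.Agent.Lib.Helper10.SubtrVal
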