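import Mathlib
import Groth.Prelude.Def_W4c2submetdescSubtr
import Groth.Agent.Lib.Helper10RedInd
import Groth.Agent.Lib.Helper10SubtrVal2

set_option autoImplicit false
universe u
open CategoryTheory CategoryTheory.Limits AlgebraicGeometry IsLocalRing TopologicalSpace

namespace Groth.Agent.Lib.Helper10.SubtrVal


/-- If `i ≫ f` is flat and surjective then `f` is universally S-subtrusive. -/
lemma univSSubtrusive_of_flat_surjective_comp {X Y Z : Scheme.{u}} (i : Z ⟶ X) (f : X ⟶ Y)
    [Flat (i ≫ f)] [Surjective (i ≫ f)] : Subtr.UnivSSubtrusive f := by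
  intro X' Y' i₁ i₂ f' hpb y y' hyy
  let h' : pullback (i ≫ f) i₂ ⟶ Y' := pullback.snd (i ≫ f) i₂
  have hflat : Flat h' := inferInstanceAs (Flat (pullback.snd (i ≫ f) i₂))
  have hsurj : Surjective h' := inferInstanceAs (Surjective (pullback.snd (i ≫ f) i₂))
  obtain ⟨z, hz⟩ := hsurj.surj y
  obtain ⟨z', hzz, hz'⟩ := (Flat.generalizingMap h') (hz ▸ hyy)
  let l : pullback (i ≫ f) i₂ ⟶ X' :=
    hpb.lift h' (pullback.fst (i ≫ f) i₂ ≫ i)
      (by rw [Category.assoc, ← pullback.condition])
  have hl : l ≫ f' = h' := hpb.lift_fst _ _ _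
  have hl' : ∀ v, f' (l v) = h' v := fun v =>
    congrArg (fun m : pullback (i ≫ f) i₂ ⟶ Y' => m v) hl
  exact ⟨l z, l z', hzz.map l.continuous, (hl' z).trans hz, (hl' z').trans hz'⟩



/-- Every point in the closure of the image of `Spec C → Spec B` is a specialization of a point of
the image. -/
lemma exists_specializes_of_mem_closure_range_comap {B C : Type u} [CommRing B] [CommRing C]
    (g : B →+* C) (x : PrimeSpectrum B) (hx : x ∈ closure (Set.range (PrimeSpectrum.comap g))) :
    ∃ q : PrimeSpectrum C, PrimeSpectrum.comap g q ⤳ x := by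
  rw [PrimeSpectrum.closure_range_comap, PrimeSpectrum.mem_zeroLocus] at hx
  have := x.isPrime
  obtain ⟨p, hp, hpx⟩ := Ideal.exists_minimalPrimes_le (J := x.asIdeal) (I := RingHom.ker g) hx
  obtain ⟨p', hp', -, rfl⟩ := Ideal.exists_comap_eq_of_mem_minimalPrimes (I := ⊥) g p hp
  refine ⟨⟨p', hp'⟩, ?_⟩
  rw [← PrimeSpectrum.le_iff_specializes]
  exact hpx

/-- For a morphism to the spectrum of a domain, a point in the closure of the generic fibre is a
specialization of a point of the generic fibre. -/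
lemma exists_specializes_of_mem_closure_generic_fibre (V : Type u) [CommRing V] [IsDomain V]
    {X : Scheme.{u}} (f : X ⟶ Spec (CommRingCat.of V)) (x : X)
    (hx : x ∈ closure (f ⁻¹' {(⟨⊥, Ideal.isPrime_bot⟩ : PrimeSpectrum V)})) :
    ∃ x' : X, x' ⤳ x ∧ f x' = (⟨⊥, Ideal.isPrime_bot⟩ : PrimeSpectrum V) := by
  obtain ⟨_, ⟨U, hU : IsAffineOpen U, rfl⟩, hxU, -⟩ :=
    X.isBasis_affineOpens.exists_subset_of_mem_open (Set.mem_univ x) isOpen_univ
  let e : Spec Γ(X, U) ⟶ X := hU.fromSpec
  let φ : CommRingCat.of V ⟶ Γ(X, U) := Spec.preimage (e ≫ f)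
  have hφ : Spec.map φ = e ≫ f := Spec.map_preimage _
  have hφ' : ∀ q : Spec Γ(X, U), f (e q) = PrimeSpectrum.comap φ.hom q := fun q =>
    (congrArg (fun m : Spec Γ(X, U) ⟶ Spec (CommRingCat.of V) => m q) hφ).symm
  obtain ⟨x₀, hx₀⟩ : x ∈ Set.range e := by rw [hU.range_fromSpec]; exact hxU
  let M : Submonoid Γ(X, U) := Submonoid.map φ.hom (nonZeroDivisors V)
  let c : PrimeSpectrum (Localization M) → PrimeSpectrum Γ(X, U) :=
    PrimeSpectrum.comap (algebraMap Γ(X, U) (Localization M))
  have hrange : ∀ q : PrimeSpectrum Γ(X, U),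
      q ∈ Set.range c ↔ Disjoint (M : Set Γ(X, U)) q.asIdeal := fun q =>
    Set.ext_iff.mp (PrimeSpectrum.localization_comap_range (Localization M) M) q
  have hS : (fun q : PrimeSpectrum Γ(X, U) => e q) ⁻¹'
      (f ⁻¹' {(⟨⊥, Ideal.isPrime_bot⟩ : PrimeSpectrum V)}) ⊆ Set.range c := by
    intro q hq
    have hq' : PrimeSpectrum.comap φ.hom q = ⟨⊥, Ideal.isPrime_bot⟩ := (hφ' q).symm.trans hq
    rw [hrange, Set.disjoint_left]
    rintro b ⟨a, ha, rfl⟩ hb
    have : a ∈ (PrimeSpectrum.comap φ.hom q).asIdeal := hb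
    rw [hq'] at this
    exact nonZeroDivisors.ne_zero ha this
  have hx₀' : x₀ ∈ closure (Set.range c) := by
    apply closure_mono hS
    apply e.isOpenEmbedding.isOpenMap.preimage_closure_subset_closure_preimage
    refine Set.mem_preimage.mpr ?_
    rw [hx₀]; exact hx
  obtain ⟨Q, hQ⟩ := exists_specializes_of_mem_closure_range_comap _ x₀ hx₀'
  refine ⟨e (c Q), ?_, ?_⟩
  · rw [← hx₀]; exact hQ.map e.continuous
  · refine (hφ' (c Q)).trans ?_
    have hmem : Disjoint (M : Set Γ(X, U)) (c Q).asIdeal := (hrange (c Q)).mp ⟨Q, rfl⟩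
    rw [Set.disjoint_left] at hmem
    apply PrimeSpectrum.ext
    apply le_antisymm _ bot_le
    intro a ha
    by_contra ha0
    exact hmem ⟨a, mem_nonZeroDivisors_of_ne_zero ha0, rfl⟩ ha



lemma flat_of_injective {V A : Type u} [CommRing V] [IsDomain V]
    [ValuationRing V] [CommRing A] [IsDomain A] (β : V →+* A)
    (hinj : Function.Injective β) : β.Flat := by
  algebraize [β]
  have h1 : Module.IsTorsionFree V A := Module.isTorsionFree_iff_algebraMap_injective.mpr hinj
  exact Module.Flat.flat_iff_torsion_eq_bot_of_isBezout.mpr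
    (Submodule.isTorsionFree_iff_torsion_eq_bot.mp h1)

lemma flat_preimage_of_isIntegral (V : Type u) [CommRing V] [IsDomain V] [ValuationRing V]
    {Z : Scheme.{u}} [IsIntegral Z] (h : Z ⟶ Spec (CommRingCat.of V))
    (hgen : h (genericPoint Z) = (⟨⊥, Ideal.isPrime_bot⟩ : PrimeSpectrum V))
    (R : CommRingCat.{u}) (j : Spec R ⟶ Z) [IsOpenImmersion j] :
    (Spec.preimage (j ≫ h)).hom.Flat := by
  rcases isEmpty_or_nonempty (Spec R) with hemp | hne
  · have : Subsingleton R := by
      by_contra hns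
      rw [not_subsingleton_iff_nontrivial] at hns
      exact (PrimeSpectrum.nonempty_iff_nontrivial.mpr hns).elim fun p => hemp.elim p
    algebraize [(Spec.preimage (j ≫ h)).hom]
    change Module.Flat V R
    infer_instance
  have hint : IsIntegral (Spec R) := isIntegral_of_isOpenImmersion j
  have hdom : IsDomain R := (affine_isIntegral_iff R).mp hint
  apply flat_of_injective
  rw [RingHom.injective_iff_ker_eq_bot]
  -- the generic point of `Z` lies in the range of `j`
  obtain ⟨q, hq⟩ : genericPoint Z ∈ Set.range j := by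
    have hopen : IsOpen (Set.range j) := j.isOpenEmbedding.isOpen_range
    have hne : (Set.range j).Nonempty := Set.range_nonempty _
    exact ((genericPoint_spec Z).mem_open_set_iff hopen).mpr (by simpa using hne)
  have h1 : Spec.map (Spec.preimage (j ≫ h)) q = (⟨⊥, Ideal.isPrime_bot⟩ : PrimeSpectrum V) := by
    rw [Spec.map_preimage]
    change h (j q) = _
    rw [hq, hgen]
  have h2 : Ideal.comap (Spec.preimage (j ≫ h)).hom q.asIdeal = ⊥ :=
    congrArg PrimeSpectrum.asIdeal h1
  rw [eq_bot_iff, ← h2]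
  exact Ideal.comap_mono bot_le

set_option backward.isDefEq.respectTransparency false in
/-- A morphism from an integral scheme to the spectrum of a valuation ring sending the generic
point to the generic point is flat. -/
lemma flat_of_isIntegral (V : Type u) [CommRing V] [IsDomain V] [ValuationRing V]
    {Z : Scheme.{u}} [IsIntegral Z] (h : Z ⟶ Spec (CommRingCat.of V))
    (hgen : h (genericPoint Z) = (⟨⊥, Ideal.isPrime_bot⟩ : PrimeSpectrum V)) : Flat h := by
  refine (IsZariskiLocalAtSource.iff_of_openCover Z.affineCover).mpr fun i ↦ ?_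
  rw [← Spec.map_preimage (Z.affineCover.f i ≫ h), HasRingHomProperty.Spec_iff (P := @Flat)]
  exact flat_preimage_of_isIntegral V h hgen _ (Z.affineCover.f i)

/-- From a pair `x' ⤳ x` over (generic point, closed point) of the spectrum of a valuation ring:
the reduced closure of `x'` is a closed subscheme, flat and surjective over `Spec V`. -/
lemma exists_closed_flat_surjective (V : Type u) [CommRing V] [IsDomain V] [ValuationRing V]
    {X : Scheme.{u}} (f : X ⟶ Spec (CommRingCat.of V)) (x x' : X) (hxx : x' ⤳ x)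
    (hx : f x = closedPoint V) (hx' : f x' = (⟨⊥, Ideal.isPrime_bot⟩ : PrimeSpectrum V)) :
    ∃ (Z : Scheme.{u}) (i : Z ⟶ X), IsClosedImmersion i ∧ Flat (i ≫ f) ∧ Surjective (i ≫ f) := by
  let T : Closeds X := ⟨closure {x'}, isClosed_closure⟩
  let I := Scheme.IdealSheafData.vanishingIdeal T
  let i : I.subscheme ⟶ X := I.subschemeι
  have hrange : Set.range i = closure {x'} := by
    rw [Scheme.IdealSheafData.range_subschemeι, Scheme.IdealSheafData.coe_support_vanishingIdeal]
    rfl
  have hred : IsReduced I.subscheme := RedInd.isReduced_subscheme_vanishingIdeal T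
  obtain ⟨z', hz'⟩ : x' ∈ Set.range i := hrange ▸ subset_closure rfl
  obtain ⟨z₀, hz₀⟩ : x ∈ Set.range i := by
    rw [hrange]; exact specializes_iff_mem_closure.mp hxx
  have hirr : IrreducibleSpace I.subscheme := by
    have h1 : IrreducibleSpace (Set.range i) :=
      Subtype.irreducibleSpace (hrange ▸ isIrreducible_singleton.closure)
    have : Nonempty I.subscheme := ⟨z'⟩
    exact (i.isClosedEmbedding.isEmbedding.toHomeomorph.symm.symm.isOpenEmbedding).irreducibleSpace
  have hint : IsIntegral I.subscheme := isIntegral_of_irreducibleSpace_of_isReduced _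
  have hgen : (i ≫ f) (genericPoint I.subscheme) = (⟨⊥, Ideal.isPrime_bot⟩ : PrimeSpectrum V) := by
    have h1 : genericPoint I.subscheme ⤳ z' := genericPoint_specializes z'
    have h2 : (i ≫ f) (genericPoint I.subscheme) ⤳ (i ≫ f) z' := h1.map (i ≫ f).continuous
    have h3 : (i ≫ f) z' = (⟨⊥, Ideal.isPrime_bot⟩ : PrimeSpectrum V) := by
      change f (i z') = _
      rw [hz', hx']
    rw [h3] at h2
    have h4 : ((i ≫ f) (genericPoint I.subscheme) : PrimeSpectrum V).asIdeal ≤ ⊥ :=
      (PrimeSpectrum.le_iff_specializes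
        ((i ≫ f) (genericPoint I.subscheme) : PrimeSpectrum V) ⟨⊥, Ideal.isPrime_bot⟩).mpr h2
    exact PrimeSpectrum.ext (le_bot_iff.mp h4)
  have hflat : Flat (i ≫ f) := flat_of_isIntegral V (i ≫ f) hgen
  refine ⟨I.subscheme, i, inferInstance, hflat, ⟨fun p => ?_⟩⟩
  have h0 : (i ≫ f) z₀ = closedPoint V := by
    change f (i z₀) = _
    rw [hz₀, hx]
  obtain ⟨z, -, hz⟩ := (Flat.generalizingMap (i ≫ f))
    (h0 ▸ specializes_closedPoint (R := V) p : p ⤳ (i ≫ f) z₀)
  exact ⟨z, hz⟩


/-- A morphism from the spectrum of a valuation subring `A` of a field to the spectrum of a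
valuation ring sending closed point to closed point and generic point to generic point is
surjective. -/
lemma surjective_of_closedPoint_of_generic (V : Type u) [CommRing V] [IsDomain V] [ValuationRing V]
    {K : Type u} [Field K] (A : ValuationSubring K)
    (b : Spec (CommRingCat.of ↥A) ⟶ Spec (CommRingCat.of V))
    (hbc : b (closedPoint ↥A) = closedPoint V)
    (hbη : b (Spec.map (CommRingCat.ofHom A.subtype) (closedPoint K)) =
      (⟨⊥, Ideal.isPrime_bot⟩ : PrimeSpectrum V)) : Surjective b := by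
  let β : CommRingCat.of V ⟶ CommRingCat.of ↥A := Spec.preimage b
  have hβ : Spec.map β = b := Spec.map_preimage b
  let pt : Spec (CommRingCat.of K) := closedPoint K
  let ηA : Spec (CommRingCat.of ↥A) := Spec.map (CommRingCat.ofHom A.subtype) pt
  have hηA : ηA.asIdeal = ⊥ := by
    change Ideal.comap A.subtype pt.asIdeal = ⊥
    have hpt : pt.asIdeal = ⊥ := by
      have := pt.isPrime
      exact Ideal.eq_bot_of_prime pt.asIdeal
    rw [hpt]
    exact Ideal.comap_bot_of_injective _ Subtype.val_injective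
  have hinj : Function.Injective β.hom := by
    rw [RingHom.injective_iff_ker_eq_bot]
    have h3 : (Spec.map β ηA).asIdeal = ⊥ := by rw [hβ, hbη]
    change Ideal.comap β.hom ηA.asIdeal = ⊥ at h3
    rw [hηA] at h3
    exact h3
  have hloc : IsLocalHom β.hom := by
    apply ((IsLocalRing.local_hom_TFAE β.hom).out 0 4).mpr
    have h3 : (Spec.map β (closedPoint ↥A)).asIdeal = (closedPoint V).asIdeal := by
      rw [hβ, hbc]
    exact h3
  constructor
  rw [← hβ]
  exact comap_surjective_of_injective_of_isLocalHom β.hom hinj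

set_option backward.isDefEq.respectTransparency false in
theorem tfae (V : Type u) [CommRing V] [IsDomain V] [ValuationRing V]
    {X : Scheme.{u}} (f : X ⟶ Spec (CommRingCat.of V)) :
    List.TFAE [
      Subtr.UnivSSubtrusive f,
      Subtr.IsSSubtrusive f,
      ∀ y : Spec (CommRingCat.of V), ∃ x : X,
        x ∈ closure (f ⁻¹' {(⟨⊥, Ideal.isPrime_bot⟩ : PrimeSpectrum V)}) ∧ f x = y,
      ∃ x x' : X, x' ⤳ x ∧ f x = IsLocalRing.closedPoint V ∧
        f x' = (⟨⊥, Ideal.isPrime_bot⟩ : PrimeSpectrum V),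
      ∃ (W : Type u) (_ : CommRing W) (_ : IsDomain W) (_ : ValuationRing W)
        (g : Spec (CommRingCat.of W) ⟶ X), Surjective (g ≫ f),
      ∃ (Z : Scheme.{u}) (i : Z ⟶ X), IsClosedImmersion i ∧ Flat (i ≫ f) ∧ Surjective (i ≫ f)] := by
  tfae_have 1 → 2 := fun H => H (𝟙 X) (𝟙 _) f IsPullback.of_id_snd
  tfae_have 2 → 3 := by
    intro H y
    have hη : (⟨⊥, Ideal.isPrime_bot⟩ : PrimeSpectrum V) ⤳ (y : PrimeSpectrum V) :=
      (PrimeSpectrum.le_iff_specializes _ _).mp bot_le
    obtain ⟨x, x', hxx, hx, hx'⟩ := H hη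
    have hsub : ({x'} : Set X) ⊆ f ⁻¹' {(⟨⊥, Ideal.isPrime_bot⟩ : PrimeSpectrum V)} :=
      Set.singleton_subset_iff.mpr hx'
    exact ⟨x, closure_mono hsub (specializes_iff_mem_closure.mp hxx), hx⟩
  tfae_have 3 → 4 := by
    intro H
    obtain ⟨x, hxcl, hx⟩ := H (closedPoint V)
    obtain ⟨x', hxx, hx'⟩ := exists_specializes_of_mem_closure_generic_fibre V f x hxcl
    exact ⟨x, x', hxx, hx, hx'⟩
  tfae_have 4 → 5 := by
    rintro ⟨x, x', hxx, hx, hx'⟩
    obtain ⟨A, s, hs1, hs2⟩ := exists_valuationRing_of_specializes hxx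
    refine ⟨↥A, inferInstance, inferInstance, inferInstance, s, ?_⟩
    apply surjective_of_closedPoint_of_generic V A (s ≫ f)
    · change f (s (closedPoint ↥A)) = _
      rw [hs1, hx]
    · have h2 := congrArg (fun m : Spec (X.residueField x') ⟶ X =>
        m (closedPoint (X.residueField x'))) hs2
      change s _ = _ at h2
      refine (congrArg f h2).trans ?_
      rw [Scheme.fromSpecResidueField_apply, hx']
  tfae_have 5 → 1 := by
    rintro ⟨W, _, _, _, g, hsurj⟩
    have hflat : Flat (g ≫ f) := by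
      rw [← Spec.map_preimage (g ≫ f), HasRingHomProperty.Spec_iff (P := @Flat)]
      apply flat_of_injective
      rw [RingHom.injective_iff_ker_eq_bot]
      obtain ⟨q, hq⟩ := hsurj.surj (⟨⊥, Ideal.isPrime_bot⟩ : PrimeSpectrum V)
      have h1 : Spec.map (Spec.preimage (g ≫ f)) q =
          (⟨⊥, Ideal.isPrime_bot⟩ : PrimeSpectrum V) := by
        rw [Spec.map_preimage]; exact hq
      have h2 : Ideal.comap (Spec.preimage (g ≫ f)).hom q.asIdeal = ⊥ :=
        congrArg PrimeSpectrum.asIdeal h1
      rw [eq_bot_iff, ← h2]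
      exact Ideal.comap_mono bot_le
    exact univSSubtrusive_of_flat_surjective_comp g f
  tfae_have 4 → 6 := by
    rintro ⟨x, x', hxx, hx, hx'⟩
    exact exists_closed_flat_surjective V f x x' hxx hx hx'
  tfae_have 6 → 1 := by
    rintro ⟨Z, i, _, hflat, hsurj⟩
    exact univSSubtrusive_of_flat_surjective_comp i f
  tfae_finish

end Groth.Agent.Lib.Helper10.SubtrVal
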