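import Mathlib
import Groth.Prelude.Def_W4c2submetdescSubtr
import Groth.Prelude.Def_SGA1
import Groth.Agent.Lib.Helper10SubtrVal
import Groth.Agent.Lib.Helper10QCClosed

set_option autoImplicit false
universe u
open CategoryTheory CategoryTheory.Limits AlgebraicGeometry IsLocalRing TopologicalSpace

namespace Groth.Agent.Lib.Helper10.SubtrVal

theorem main3 {X Y : Scheme.{u}} (f : X ⟶ Y) [QuasiCompact f] :
    SGA1.UnivSubmersive f ↔
      ∀ (V : Type u) [CommRing V] [IsDomain V] [ValuationRing V] (g : Spec (CommRingCat.of V) ⟶ Y),
        Topology.IsQuotientMap (pullback.snd f g) := by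
  constructor
  · intro H V _ _ _ g
    exact H (pullback.fst f g) g (pullback.snd f g) (IsPullback.of_hasPullback f g).flip
  · intro H X' Y' i₁ i₂ f' hpb
    have hqc : QuasiCompact f' := MorphismProperty.of_isPullback hpb.flip inferInstance
    have key : ∀ (A : Type u) [CommRing A] [IsDomain A] [ValuationRing A]
        (s : Spec (CommRingCat.of A) ⟶ Y'), Topology.IsQuotientMap (pullback.snd f' s) := by
      intro A _ _ _ s
      have hp : IsPullback (pullback.fst f' s ≫ i₁) (pullback.snd f' s) f (s ≫ i₂) :=
        (IsPullback.of_hasPullback f' s).paste_horiz hpb.flip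
      have h1 : Topology.IsQuotientMap (pullback.snd f (s ≫ i₂)) := H A (s ≫ i₂)
      have h2 : ((pullback.snd f' s :) : ↥(pullback f' s) → ↥(Spec (CommRingCat.of A))) =
          (pullback.snd f (s ≫ i₂)) ∘ hp.isoPullback.hom := by
        funext x
        exact congrArg (fun m : pullback f' s ⟶ Spec (CommRingCat.of A) => m x)
          hp.isoPullback_hom_snd.symm
      rw [h2]
      exact h1.comp (Scheme.Hom.homeomorph hp.isoPullback.hom).isQuotientMap
    -- surjectivity
    have hsurj : Function.Surjective f' := by
      intro y
      have hq := @key ↑(Y'.residueField y) (Y'.residueField y).commRing Field.isDomain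
        (ValuationRing.of_field _) (Y'.fromSpecResidueField y)
      obtain ⟨w, -⟩ := hq.surjective (closedPoint (Y'.residueField y))
      refine ⟨pullback.fst f' (Y'.fromSpecResidueField y) w, ?_⟩
      have h1 := congrArg (fun m : pullback f' (Y'.fromSpecResidueField y) ⟶ Y' => m w)
        (pullback.condition (f := f') (g := Y'.fromSpecResidueField y))
      change f' (pullback.fst f' (Y'.fromSpecResidueField y) w) =
        Y'.fromSpecResidueField y (pullback.snd f' (Y'.fromSpecResidueField y) w) at h1
      rw [h1, Scheme.fromSpecResidueField_apply]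
    change Topology.IsQuotientMap f'
    rw [Topology.isQuotientMap_iff_isClosed]
    refine ⟨hsurj, fun C => ⟨fun hC => hC.preimage f'.continuous, fun hC => ?_⟩⟩
    have himg : f' '' (f' ⁻¹' C) = C := Set.image_preimage_eq C hsurj
    rw [← himg]
    apply QCClosed.isClosed_image_of_stableUnderSpecialization f' _ hC
    rw [himg]
    intro y' y hyy hy'
    by_contra hy
    obtain ⟨A, s, hs1, hs2⟩ := exists_valuationRing_of_specializes hyy
    have hq := key ↥A s
    -- the preimage of the complement of `C` in `Spec A` is open
    have hopen : IsOpen (s ⁻¹' Cᶜ) := by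
      rw [← hq.isOpen_preimage]
      have : (pullback.snd f' s) ⁻¹' (s ⁻¹' Cᶜ) = (pullback.fst f' s) ⁻¹' (f' ⁻¹' Cᶜ) := by
        ext w
        have h1 := congrArg (fun m : pullback f' s ⟶ Y' => m w)
          (pullback.condition (f := f') (g := s))
        change f' (pullback.fst f' s w) = s (pullback.snd f' s w) at h1
        simp only [Set.mem_preimage, h1]
      rw [this]
      exact IsOpen.preimage (pullback.fst f' s).continuous hC.isOpen_compl
    have hcl : closedPoint ↥A ∈ s ⁻¹' Cᶜ := by
      change s (closedPoint ↥A) ∈ Cᶜ
      rw [hs1]; exact hy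
    let η : Spec (CommRingCat.of ↥A) :=
      Spec.map (CommRingCat.ofHom A.subtype) (closedPoint (Y'.residueField y'))
    have hη : η ∈ s ⁻¹' Cᶜ :=
      (specializes_closedPoint (R := ↥A) η).mem_open hopen hcl
    have h2 := congrArg (fun m : Spec (Y'.residueField y') ⟶ Y' =>
      m (closedPoint (Y'.residueField y'))) hs2
    change s η = _ at h2
    have h3 : s η = y' := h2.trans (Scheme.fromSpecResidueField_apply y' _)
    apply hη
    rw [h3]; exact hy'

end Groth.Agent.Lib.Helper10.SubtrVal
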