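import Mathlib

/-!
# The Eilenberg swindle
-/

set_option autoImplicit false
universe u v w

namespace Groth.Agent.Lib.Helper10

section

variable (R : Type u) [CommRing R] (α : Type w) (M N : Type v)
  [AddCommGroup M] [Module R M] [AddCommGroup N] [Module R N]

/-- `α →₀ (M × N) ≃ (α →₀ M) × (α →₀ N)`. -/
noncomputable def finsuppProdSplit : (α →₀ (M × N)) ≃ₗ[R] (α →₀ M) × (α →₀ N) :=
  LinearEquiv.ofLinear
    ((Finsupp.mapRange.linearMap (LinearMap.fst R M N)).prod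
      (Finsupp.mapRange.linearMap (LinearMap.snd R M N)))
    ((Finsupp.mapRange.linearMap (LinearMap.inl R M N)).coprod
      (Finsupp.mapRange.linearMap (LinearMap.inr R M N)))
    (by
      apply LinearMap.ext
      rintro ⟨x, y⟩
      refine Prod.ext ?_ ?_
      · ext a; simp
      · ext a; simp)
    (by
      apply LinearMap.ext
      intro x
      ext a <;> simp)

/-- `M × (ℕ →₀ M) ≃ (ℕ →₀ M)`. -/
noncomputable def prodFinsuppNatEquiv : (M × (ℕ →₀ M)) ≃ₗ[R] (ℕ →₀ M) :=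
  (LinearEquiv.prodComm R M (ℕ →₀ M)) ≪≫ₗ
    (LinearEquiv.prodCongr (LinearEquiv.refl R (ℕ →₀ M))
      (Finsupp.uniqueLinearEquiv R M (PUnit.unit : PUnit.{1})).symm) ≪≫ₗ
    (Finsupp.sumFinsuppLEquivProdFinsupp R (M := M) (α := ℕ) (β := PUnit.{1})).symm ≪≫ₗ
    (Finsupp.domLCongr Equiv.natSumPUnitEquivNat.{0})

end

/-- An infinite type is equivalent to its product with `ℕ`. -/
theorem nonempty_equiv_nat_prod (ι : Type u) [Infinite ι] : Nonempty (ι ≃ ℕ × ι) := by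
  have h : Cardinal.mk ι = Cardinal.mk (ℕ × ι) := by
    rw [Cardinal.mk_prod, Cardinal.mk_nat, Cardinal.lift_aleph0, Cardinal.lift_id',
      Cardinal.aleph0_mul_eq (Cardinal.aleph0_le_mk ι)]
  exact Cardinal.eq.1 h

/-- **Eilenberg swindle.** If `P × Q` is free on an infinite basis `ι`, then
`P × (ι →₀ R) ≃ (ι →₀ R)`. -/
theorem eilenberg_swindle (R : Type u) [CommRing R] (P Q : Type v) [AddCommGroup P] [Module R P]
    [AddCommGroup Q] [Module R Q] (ι : Type w) [Infinite ι] (e : (P × Q) ≃ₗ[R] (ι →₀ R)) :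
    Nonempty ((P × (ι →₀ R)) ≃ₗ[R] (ι →₀ R)) := by
  obtain ⟨σ⟩ := nonempty_equiv_nat_prod ι
  -- `F ≃ ℕ →₀ (P × Q)`
  let eF : (ι →₀ R) ≃ₗ[R] (ℕ →₀ (P × Q)) :=
    (Finsupp.domLCongr σ) ≪≫ₗ (Finsupp.curryLinearEquiv R) ≪≫ₗ
      (Finsupp.mapRange.linearEquiv e.symm)
  let eG : (ℕ →₀ (P × Q)) ≃ₗ[R] (ℕ →₀ P) × (ℕ →₀ Q) := finsuppProdSplit R ℕ P Q
  refine ⟨?_⟩
  exact (LinearEquiv.prodCongr (LinearEquiv.refl R P) (eF ≪≫ₗ eG)) ≪≫ₗ
    (LinearEquiv.prodAssoc R P (ℕ →₀ P) (ℕ →₀ Q)).symm ≪≫ₗ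
    (LinearEquiv.prodCongr (prodFinsuppNatEquiv R P) (LinearEquiv.refl R (ℕ →₀ Q))) ≪≫ₗ
    eG.symm ≪≫ₗ eF.symm

/-- A split surjection `π : F → P` with section `s` gives `F ≃ P × ker π`. -/
noncomputable def splitEquiv {R : Type u} [CommRing R] {F P : Type v} [AddCommGroup F] [Module R F]
    [AddCommGroup P] [Module R P] (π : F →ₗ[R] P) (s : P →ₗ[R] F) (h : π ∘ₗ s = LinearMap.id) :
    F ≃ₗ[R] P × LinearMap.ker π :=
  have h' : ∀ p, π (s p) = p := fun p => LinearMap.congr_fun h p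
  LinearEquiv.ofLinear
    (π.prod ((LinearMap.id - s ∘ₗ π).codRestrict (LinearMap.ker π) (fun x => by
      simp [h'])))
    (s.coprod (LinearMap.ker π).subtype)
    (by
      apply LinearMap.ext
      rintro ⟨p, k, hk⟩
      have hk' : π k = 0 := hk
      refine Prod.ext ?_ (Subtype.ext ?_)
      · simp [h', hk']
      · simp [h', hk'])
    (by
      apply LinearMap.ext
      intro x
      simp)

/-- A projective module becomes free after adding a free module. -/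
theorem exists_free_prod_free_of_projective (R : Type u) [CommRing R] (P : Type u) [AddCommGroup P]
    [Module R P] [Module.Projective R P] : ∃ ι : Type u, Module.Free R (P × (ι →₀ R)) := by
  obtain ⟨s, hs⟩ := (Module.projective_def' (R := R) (P := P)).1 inferInstance
  let π : (P →₀ R) →ₗ[R] P := Finsupp.linearCombination R id
  let K := LinearMap.ker π
  let e₀ : (P →₀ R) ≃ₗ[R] P × K := splitEquiv π s hs
  let ι : Type u := P ⊕ (ℕ × P)
  haveI : Infinite ι := Sum.infinite_of_right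
  let e : (P × (K × (ℕ × P →₀ R))) ≃ₗ[R] (ι →₀ R) :=
    (LinearEquiv.prodAssoc R P K (ℕ × P →₀ R)).symm ≪≫ₗ
      (LinearEquiv.prodCongr e₀.symm (LinearEquiv.refl R (ℕ × P →₀ R))) ≪≫ₗ
      (Finsupp.sumFinsuppLEquivProdFinsupp R (M := R) (α := P) (β := ℕ × P)).symm
  obtain ⟨e'⟩ := eilenberg_swindle R P (K × (ℕ × P →₀ R)) ι e
  exact ⟨ι, Module.Free.of_equiv e'.symm⟩

end Groth.Agent.Lib.Helper10
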