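import Mathlib
import Groth.Prelude.Def_DTen3
import Groth.Agent.Lib.Helper1DT3
import Groth.Agent.Lib.Helper1LDer7
set_option backward.isDefEq.respectTransparency.types false

/-!
# `D(A)` is symmetric monoidal, unconditionally (helper10)

From the existence of the derived tensor product `HasLTen A` alone:
* `hasLTen₃ A : HasLTen₃ A` (the jointly derived triple tensor product exists: the iterate
  `a ⊗^L (b ⊗^L c)` with `βR` is a left derived functor, by helper1's recognition theorem);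
* `isSymMonoidal A : IsSymMonoidal A` (symmetry, unit maps and associativity legs are isos).
-/

set_option autoImplicit false
set_option maxHeartbeats 400000
universe u
open CategoryTheory CategoryTheory.Limits MonoidalCategory HomologicalComplex
attribute [local instance] HasDerivedCategory.standard

namespace Groth.Agent.Lib.Helper10.SymMon

open DerivedCategory Groth.Agent.Lib.Helper1.KF Groth.Agent.Lib.Helper1.DT DTen

variable (A : Type u) [CommRing A]

/-- triples of K-projective complexes -/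
def GoodTriple : ObjectProperty (Cx A × (Cx A × Cx A)) :=
  fun X => X.1.IsKProjective ∧ X.2.1.IsKProjective ∧ X.2.2.IsKProjective

lemma hres (X : Cx A × (Cx A × Cx A)) :
    ∃ (Y : Cx A × (Cx A × Cx A)) (r : Y ⟶ X), GoodTriple A Y ∧ IsIso ((QQQ A).map r) := by
  obtain ⟨K, L, M⟩ := X
  obtain ⟨P₁, π₁, h₁, -, q₁, -⟩ := exists_kprojective_resolution K
  obtain ⟨P₂, π₂, h₂, -, q₂, -⟩ := exists_kprojective_resolution L
  obtain ⟨P₃, π₃, h₃, -, q₃, -⟩ := exists_kprojective_resolution M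
  have i₁ : IsIso (Q.map π₁) := (DerivedCategory.isIso_Q_map_iff_quasiIso (φ := π₁)).2 q₁
  have i₂ : IsIso (Q.map π₂) := (DerivedCategory.isIso_Q_map_iff_quasiIso (φ := π₂)).2 q₂
  have i₃ : IsIso (Q.map π₃) := (DerivedCategory.isIso_Q_map_iff_quasiIso (φ := π₃)).2 q₃
  refine ⟨(P₁, (P₂, P₃)), (π₁, (π₂, π₃)), ⟨h₁, h₂, h₃⟩, ?_⟩
  rw [isIso_prod_iff]
  refine ⟨i₁, ?_⟩
  rw [isIso_prod_iff]
  exact ⟨i₂, i₃⟩

lemma hsurj (Y : Cx A × (Cx A × Cx A)) (hY : GoodTriple A Y) (X : Cx A × (Cx A × Cx A)) :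
    Function.Surjective ((QQQ A).map : (Y ⟶ X) → ((QQQ A).obj Y ⟶ (QQQ A).obj X)) := by
  obtain ⟨P₁, P₂, P₃⟩ := Y
  obtain ⟨Y₁, Y₂, Y₃⟩ := X
  obtain ⟨h₁, h₂, h₃⟩ := hY
  haveI : P₁.IsKProjective := h₁
  haveI : P₂.IsKProjective := h₂
  haveI : P₃.IsKProjective := h₃
  rintro ⟨g₁, g₂, g₃⟩
  obtain ⟨f₁, rfl⟩ := Q_map_surjective P₁ Y₁ g₁
  obtain ⟨f₂, rfl⟩ := Q_map_surjective P₂ Y₂ g₂
  obtain ⟨f₃, rfl⟩ := Q_map_surjective P₃ Y₃ g₃
  exact ⟨(f₁, (f₂, f₃)), rfl⟩

variable [HasLTen A]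

lemma isIso_βR_app (Y : Cx A × (Cx A × Cx A)) (hY : GoodTriple A Y) : IsIso ((βR A).app Y) := by
  obtain ⟨P₁, P₂, P₃⟩ := Y
  obtain ⟨h₁, h₂, h₃⟩ := hY
  haveI : P₁.IsKProjective := h₁
  haveI : P₂.IsKProjective := h₂
  haveI : P₃.IsKProjective := h₃
  dsimp [βR]
  have i1 : IsIso ((ε A).app (P₂, P₃)) := isIso_ε_of_isKProjective P₂ P₃
  have i2 : IsIso ((ε A).app (P₁, P₂ ⊗ P₃)) :=
    isIso_ε_of_kflat _ _ (Or.inl (kflat_of_isKProjective P₁))
  have i3 : IsIso (Prod.mkHom (𝟙 (Q.obj P₁)) ((ε A).app (P₂, P₃))) := by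
    rw [isIso_prod_iff]
    exact ⟨inferInstanceAs (IsIso (𝟙 (Q.obj P₁))), i1⟩
  infer_instance

/-- the right-bracketed iterate of the derived tensor product is the jointly derived triple
tensor product -/
theorem isLeftDerivedFunctor_LTenR : (LTenR A).IsLeftDerivedFunctor (βR A) (qis₃ A) :=
  Groth.Agent.Lib.Helper1.LDerRes.isLeftDerivedFunctor_of_isIso_of_surjective (QQQ A) (qis₃ A)
    (tensor₃ A) (GoodTriple A) (hres A) (hsurj A) (LTenR A) (βR A) (isIso_βR_app A)

/-- **the jointly derived triple tensor product exists** -/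
theorem hasLTen₃ : HasLTen₃ A := by
  haveI := isLeftDerivedFunctor_LTenR A
  exact Functor.HasLeftDerivedFunctor.mk' (LTenR A) (βR A)

section Sym

variable [HasLTen₃ A]

lemma kflat_unit : KFlat (𝟙_ (Cx A)) := fun L hL => Acyc.of_iso (ρ_ L).symm hL

theorem isIso_symm : IsIso (symm A) := by
  haveI : ∀ X : Dual.D A × Dual.D A, IsIso ((symm A).app X) := by
    rintro ⟨K, L⟩
    obtain ⟨P, hP, -, ⟨e₁⟩⟩ := exists_kproj_iso K
    obtain ⟨P', hP', -, ⟨e₂⟩⟩ := exists_kproj_iso L
    have i1 : IsIso ((ε A).app (P, P')) := isIso_ε_of_isKProjective P P'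
    have i2 : IsIso ((ε A).app (P', P)) := isIso_ε_of_isKProjective P' P
    have h := symm_fac A P P'
    have h3 : (symm A).app (Q.obj P, Q.obj P') =
        ((ε A).app (P', P) ≫ Q.map (braidCx P' P).hom) ≫ inv ((ε A).app (P, P')) := by
      rw [IsIso.eq_comp_inv]
      exact h
    have h4 : IsIso ((symm A).app (Q.obj P, Q.obj P')) := by
      rw [h3]
      infer_instance
    exact (NatTrans.isIso_app_iff_of_iso (symm A) (Iso.prod e₁ e₂)).1 h4
  exact NatIso.isIso_of_isIso_app _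

theorem isIso_unitL : IsIso (unitL A) := by
  haveI : ∀ X : Dual.D A, IsIso ((unitL A).app X) := by
    intro K
    obtain ⟨P, hP, -, ⟨e⟩⟩ := exists_kproj_iso K
    have i1 : IsIso ((ε A).app (𝟙_ (Cx A), P)) := isIso_ε_of_kflat _ _ (Or.inl (kflat_unit A))
    have h4 : IsIso ((unitL A).app (Q.obj P)) := by
      rw [unitL_app]
      infer_instance
    exact (NatTrans.isIso_app_iff_of_iso (unitL A) e).1 h4
  exact NatIso.isIso_of_isIso_app _

theorem isIso_unitR : IsIso (unitR A) := by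
  haveI : ∀ X : Dual.D A, IsIso ((unitR A).app X) := by
    intro K
    obtain ⟨P, hP, -, ⟨e⟩⟩ := exists_kproj_iso K
    have i1 : IsIso ((ε A).app (P, 𝟙_ (Cx A))) := isIso_ε_of_kflat _ _ (Or.inr (kflat_unit A))
    have h4 : IsIso ((unitR A).app (Q.obj P)) := by
      rw [unitR_app]
      infer_instance
    exact (NatTrans.isIso_app_iff_of_iso (unitR A) e).1 h4
  exact NatIso.isIso_of_isIso_app _

theorem isIso_assocL : IsIso (assocL A) := by
  haveI : ∀ X : Dual.D A × (Dual.D A × Dual.D A), IsIso ((assocL A).app X) := by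
    rintro ⟨a, b, c⟩
    exact isIso_assocL_app a b c
  exact NatIso.isIso_of_isIso_app _

theorem isIso_assocR : IsIso (assocR A) := by
  haveI : ∀ X : Dual.D A × (Dual.D A × Dual.D A), IsIso ((assocR A).app X) := by
    rintro ⟨a, b, c⟩
    exact isIso_assocR_app a b c
  exact NatIso.isIso_of_isIso_app _

/-- **`D(A)` with the derived tensor product is symmetric monoidal (the five canonical maps are
isomorphisms)** -/
theorem isSymMonoidal : IsSymMonoidal A :=
  { isIso_symm := isIso_symm A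
    isIso_unitL := isIso_unitL A
    isIso_unitR := isIso_unitR A
    isIso_assocL := isIso_assocL A
    isIso_assocR := isIso_assocR A }

end Sym

end Groth.Agent.Lib.Helper10.SymMon
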