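import Mathlib

/-!
# Torsion-free finite modules over a domain embed into finite free modules
-/

set_option autoImplicit false
universe u

namespace Groth.Agent.Lib.Helper10

open nonZeroDivisors

section

variable (R : Type u) [CommRing R] [IsDomain R] (M : Type u) [AddCommGroup M] [Module R M]

/-- The localization map `M → M ⊗ Frac R` is injective for torsion-free `M`. -/
theorem mkLinearMap_injective_of_isTorsionFree [Module.IsTorsionFree R M] :
    Function.Injective (LocalizedModule.mkLinearMap R⁰ M) := by
  rw [← LinearMap.ker_eq_bot, Submodule.eq_bot_iff]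
  intro x hx
  have hx' : LocalizedModule.mk x (1 : R⁰) = 0 := hx
  rw [← LocalizedModule.zero_mk (1 : R⁰), LocalizedModule.mk_eq] at hx'
  obtain ⟨u, hu⟩ := hx'
  simp only [one_smul, smul_zero] at hu
  have hu' : (u : R) • x = 0 := hu
  rcases smul_eq_zero.mp hu' with h | h
  · exact absurd h (nonZeroDivisors.coe_ne_zero u)
  · exact h

/-- Clearing denominators: an `R`-linear map from a finite module to `Kⁿ` can be scaled into `Rⁿ`. -/
theorem exists_scaled_lift [Module.Finite R M] (n : ℕ) (g : M →ₗ[R] (Fin n → FractionRing R)) :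
    ∃ (d : R) (_ : d ≠ 0) (h : M →ₗ[R] (Fin n → R)),
      ∀ m i, algebraMap R (FractionRing R) (h m i) = d • g m i := by
  classical
  obtain ⟨s, hs⟩ := (Module.finite_def.mp (inferInstance : Module.Finite R M))
  obtain ⟨b, hb⟩ := IsLocalization.exist_integer_multiples_of_finite R⁰
    (fun p : s × Fin n => g p.1 p.2)
  let φ : (Fin n → R) →ₗ[R] (Fin n → FractionRing R) :=
    (Algebra.linearMap R (FractionRing R)).compLeft (Fin n)
  have hφinj : Function.Injective φ := by
    intro v w hvw
    funext i
    have := congrFun hvw i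
    exact IsFractionRing.injective R (FractionRing R) this
  have hmem : ∀ m, (b : R) • g m ∈ LinearMap.range φ := by
    intro m
    have hm : m ∈ Submodule.span R (s : Set M) := by rw [hs]; trivial
    induction hm using Submodule.span_induction with
    | mem x hx =>
      choose r hr using fun i => hb (⟨⟨x, hx⟩, i⟩ : s × Fin n)
      refine ⟨r, ?_⟩
      funext i
      exact hr i
    | zero => simp
    | add x y _ _ hx hy =>
      rw [map_add, smul_add]
      exact Submodule.add_mem _ hx hy
    | smul a x _ hx =>
      rw [map_smul, smul_comm]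
      exact Submodule.smul_mem _ a hx
  let h : M →ₗ[R] (Fin n → R) :=
    (LinearEquiv.ofInjective φ hφinj).symm.toLinearMap ∘ₗ
      LinearMap.codRestrict (LinearMap.range φ) ((b : R) • g) hmem
  refine ⟨b, nonZeroDivisors.coe_ne_zero b, h, ?_⟩
  intro m i
  have h1 : φ (h m) = (b : R) • g m := by
    have := (LinearEquiv.ofInjective φ hφinj).apply_symm_apply
      (LinearMap.codRestrict (LinearMap.range φ) ((b : R) • g) hmem m)
    exact congrArg Subtype.val this
  exact congrFun h1 i

/-- A finite torsion-free module over a domain embeds in a finite free module. -/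
theorem exists_injective_of_isTorsionFree [Module.Finite R M] [Module.IsTorsionFree R M] :
    ∃ (n : ℕ) (f : M →ₗ[R] (Fin n → R)), Function.Injective f := by
  classical
  let K := FractionRing R
  let V := LocalizedModule R⁰ M
  let n := Module.finrank K V
  let b : Module.Basis (Fin n) K V := Module.finBasis K V
  let g : M →ₗ[R] (Fin n → K) :=
    (b.equivFun.toLinearMap.restrictScalars R) ∘ₗ (LocalizedModule.mkLinearMap R⁰ M)
  have hg : Function.Injective g :=
    b.equivFun.injective.comp (mkLinearMap_injective_of_isTorsionFree R M)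
  obtain ⟨d, hd, h, hh⟩ := exists_scaled_lift R M n g
  refine ⟨n, h, ?_⟩
  rw [← LinearMap.ker_eq_bot, Submodule.eq_bot_iff]
  intro m hm
  have hm0 : h m = 0 := hm
  apply hg
  rw [map_zero]
  funext i
  have h1 := hh m i
  rw [hm0] at h1
  simp only [Pi.zero_apply, map_zero] at h1
  have h2 : d • g m i = 0 := h1.symm
  rw [Algebra.smul_def, mul_eq_zero] at h2
  rcases h2 with h2 | h2
  · exact absurd ((map_eq_zero_iff _ (IsFractionRing.injective R K)).mp h2) hd
  · exact h2

end

/-- Functionals on a submodule extend to the ambient finite module up to a nonzero scalar. -/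
theorem exists_smul_eq_comp (R : Type u) [CommRing R] [IsDomain R] {M M' : Type u}
    [AddCommGroup M] [Module R M] [AddCommGroup M'] [Module R M'] [Module.Finite R M']
    (f : M →ₗ[R] M') (hf : Function.Injective f) (μ : M →ₗ[R] R) :
    ∃ (c : R) (_ : c ≠ 0) (l : M' →ₗ[R] R), ∀ m, l (f m) = c * μ m := by
  classical
  let K := FractionRing R
  let ι := LocalizedModule.mkLinearMap R⁰ M
  let ι' := LocalizedModule.mkLinearMap R⁰ M'
  let fK : LocalizedModule R⁰ M →ₗ[K] LocalizedModule R⁰ M' :=
    IsLocalizedModule.mapExtendScalars R⁰ ι ι' K f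
  have hfK : Function.Injective fK := IsLocalizedModule.map_injective R⁰ ι ι' f hf
  obtain ⟨r, hr⟩ := LinearMap.exists_leftInverse_of_injective fK (LinearMap.ker_eq_bot.mpr hfK)
  let μK : LocalizedModule R⁰ M →ₗ[K] K :=
    IsLocalizedModule.mapExtendScalars R⁰ ι (Algebra.linearMap R K) K μ
  let g : M' →ₗ[R] (Fin 1 → K) :=
    LinearMap.pi (fun _ => ((μK ∘ₗ r).restrictScalars R) ∘ₗ ι')
  obtain ⟨d, hd, h, hh⟩ := exists_scaled_lift R M' 1 g
  refine ⟨d, hd, LinearMap.proj 0 ∘ₗ h, fun m => ?_⟩
  apply IsFractionRing.injective R K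
  rw [map_mul]
  have h1 := hh (f m) 0
  have h2 : g (f m) 0 = algebraMap R K (μ m) := by
    change μK (r (ι' (f m))) = _
    have h3 : ι' (f m) = fK (ι m) := (IsLocalizedModule.map_apply R⁰ ι ι' f m).symm
    rw [h3]
    have h4 : r (fK (ι m)) = ι m := LinearMap.congr_fun hr (ι m)
    rw [h4]
    exact IsLocalizedModule.map_apply R⁰ ι (Algebra.linearMap R K) μ m
  rw [h2, Algebra.smul_def] at h1
  exact h1

end Groth.Agent.Lib.Helper10
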