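import Mathlib

/-!
# Limits and colimits of topological commutative rings (helper10)
-/

set_option autoImplicit false
open CategoryTheory Limits TopologicalSpace

namespace Groth.Agent.Lib.Helper10.TopRing

universe u v w

variable {J : Type v} [Category.{w} J] (F : J ⥤ TopCommRingCat.{u})

section Colim

variable (c : Cocone (F ⋙ forget₂ TopCommRingCat.{u} CommRingCat.{u}))

/-- The leg of the cocone as a plain ring homomorphism out of `F.obj j`. -/
def leg (j : J) : (F.obj j) →+* c.pt := (c.ι.app j).hom

theorem leg_naturality {j j' : J} (f : j ⟶ j') (x : F.obj j) :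
    leg F c j' ((F.map f).val x) = leg F c j x := by
  have := c.w f
  exact congrArg (fun g => g.hom x) this

/-- The ring topologies on the colimit ring making all legs continuous. -/
def topSet : Set (TopologicalSpace c.pt) :=
  {t | @IsTopologicalRing c.pt t _ ∧
    ∀ j, @Continuous _ _ (F.obj j).isTopologicalSpace t (leg F c j)}

/-- The colimit topology. -/
def colimTop : TopologicalSpace c.pt := sInf (topSet F c)

theorem isTopologicalRing_colimTop : @IsTopologicalRing c.pt (colimTop F c) _ := by
  letI : TopologicalSpace c.pt := colimTop F c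
  have h1 : ContinuousAdd c.pt := continuousAdd_sInf fun t ht =>
    letI := t; haveI := ht.1; inferInstance
  have h2 : ContinuousMul c.pt := continuousMul_sInf fun t ht =>
    letI := t; haveI := ht.1; inferInstance
  have h3 : ContinuousNeg c.pt := continuousNeg_sInf fun t ht =>
    letI := t; haveI := ht.1; inferInstance
  exact { }

theorem continuous_leg (j : J) :
    @Continuous _ _ (F.obj j).isTopologicalSpace (colimTop F c) (leg F c j) :=
  continuous_sInf_rng.2 fun _ ht => ht.2 j

/-- The colimit object. -/
def colimPt : TopCommRingCat.{u} :=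
  @TopCommRingCat.of c.pt _ (colimTop F c) (isTopologicalRing_colimTop F c)

/-- The colimit cocone. -/
def colimCocone : Cocone F where
  pt := colimPt F c
  ι :=
    { app := fun j => ⟨leg F c j, continuous_leg F c j⟩
      naturality := fun j j' f => by
        apply Subtype.ext
        apply RingHom.ext
        intro x
        exact leg_naturality F c f x }

theorem continuous_of_comp {T : TopCommRingCat.{u}} (g : c.pt →+* T)
    (h : ∀ j, @Continuous _ _ (F.obj j).isTopologicalSpace _ (g.comp (leg F c j))) :
    @Continuous _ _ (colimTop F c) _ g := by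
  rw [continuous_iff_le_induced]
  refine sInf_le ⟨?_, fun j => ?_⟩
  · letI : TopologicalSpace c.pt := induced g T.isTopologicalSpace
    have hg : Topology.IsInducing g := ⟨rfl⟩
    have h1 : ContinuousAdd c.pt := hg.continuousAdd g
    have h2 : ContinuousMul c.pt := hg.continuousMul g
    have h3 : ContinuousNeg c.pt := hg.continuousNeg (fun x => map_neg g x)
    exact { }
  · rw [continuous_induced_rng]
    exact h j

/-- The colimit cocone is a colimit. -/
def isColimit (hc : IsColimit c) : IsColimit (colimCocone F c) where
  desc s := ⟨(hc.desc ((forget₂ TopCommRingCat.{u} CommRingCat.{u}).mapCocone s)).hom, by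
    apply continuous_of_comp F c (T := s.pt)
    intro j
    have := hc.fac ((forget₂ TopCommRingCat.{u} CommRingCat.{u}).mapCocone s) j
    have h2 : (hc.desc ((forget₂ TopCommRingCat.{u} CommRingCat.{u}).mapCocone s)).hom.comp
        (leg F c j) = (s.ι.app j).val := congrArg CommRingCat.Hom.hom this
    exact (s.ι.app j).2.congr (fun x => (DFunLike.congr_fun h2 x).symm)⟩
  fac s j := by
    apply Subtype.ext
    have := hc.fac ((forget₂ TopCommRingCat.{u} CommRingCat.{u}).mapCocone s) j
    exact congrArg CommRingCat.Hom.hom this
  uniq s m hm := by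
    apply Subtype.ext
    have := hc.uniq ((forget₂ TopCommRingCat.{u} CommRingCat.{u}).mapCocone s)
      (CommRingCat.ofHom m.val) (fun j => by
        have := hm j
        apply CommRingCat.hom_ext
        exact congrArg Subtype.val this)
    exact congrArg CommRingCat.Hom.hom this

/-- The image of the colimit cocone in commutative rings is the original cocone. -/
def mapCoconeIso :
    (forget₂ TopCommRingCat.{u} CommRingCat.{u}).mapCocone (colimCocone F c) ≅ c :=
  Cocone.ext (Iso.refl _) (fun j => by
    apply CommRingCat.hom_ext
    rfl)

end Colim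

section Lim

variable (c : Cone (F ⋙ forget₂ TopCommRingCat.{u} CommRingCat.{u}))

/-- The leg of the cone as a plain ring homomorphism into `F.obj j`. -/
def proj (j : J) : c.pt →+* (F.obj j) := (c.π.app j).hom

theorem proj_naturality {j j' : J} (f : j ⟶ j') (x : c.pt) :
    (F.map f).val (proj F c j x) = proj F c j' x := by
  have := c.w f
  exact congrArg (fun g => g.hom x) this

/-- The limit topology. -/
def limTop : TopologicalSpace c.pt :=
  ⨅ j, induced (proj F c j) (F.obj j).isTopologicalSpace

theorem isTopologicalRing_limTop : @IsTopologicalRing c.pt (limTop F c) _ := by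
  letI : TopologicalSpace c.pt := limTop F c
  have h1 : ContinuousAdd c.pt := continuousAdd_iInf fun j => by
    letI : TopologicalSpace c.pt := induced (proj F c j) (F.obj j).isTopologicalSpace
    exact Topology.IsInducing.continuousAdd (proj F c j) ⟨rfl⟩
  have h2 : ContinuousMul c.pt := continuousMul_iInf fun j => by
    letI : TopologicalSpace c.pt := induced (proj F c j) (F.obj j).isTopologicalSpace
    exact Topology.IsInducing.continuousMul (proj F c j) ⟨rfl⟩
  have h3 : ContinuousNeg c.pt := continuousNeg_iInf fun j => by
    letI : TopologicalSpace c.pt := induced (proj F c j) (F.obj j).isTopologicalSpace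
    exact Topology.IsInducing.continuousNeg (f := proj F c j) ⟨rfl⟩
      (fun x => map_neg (proj F c j) x)
  exact { }

theorem continuous_proj (j : J) :
    @Continuous _ _ (limTop F c) (F.obj j).isTopologicalSpace (proj F c j) :=
  continuous_iff_le_induced.mpr (iInf_le _ j)

theorem continuous_to_lim {T : Type*} [TopologicalSpace T] (g : T → c.pt)
    (h : ∀ j, @Continuous _ _ _ (F.obj j).isTopologicalSpace (fun t => proj F c j (g t))) :
    @Continuous _ _ _ (limTop F c) g :=
  continuous_iInf_rng.2 fun j => continuous_induced_rng.2 (h j)

/-- The limit object. -/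
def limPt : TopCommRingCat.{u} :=
  @TopCommRingCat.of c.pt _ (limTop F c) (isTopologicalRing_limTop F c)

/-- The limit cone. -/
def limCone : Cone F where
  pt := limPt F c
  π :=
    { app := fun j => ⟨proj F c j, continuous_proj F c j⟩
      naturality := fun j j' f => by
        apply Subtype.ext
        apply RingHom.ext
        intro x
        exact (proj_naturality F c f x).symm }

/-- The limit cone is a limit. -/
def isLimit (hc : IsLimit c) : IsLimit (limCone F c) where
  lift s := ⟨(hc.lift ((forget₂ TopCommRingCat.{u} CommRingCat.{u}).mapCone s)).hom, by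
    apply continuous_to_lim F c
    intro j
    have := hc.fac ((forget₂ TopCommRingCat.{u} CommRingCat.{u}).mapCone s) j
    have h2 : (proj F c j).comp
        (hc.lift ((forget₂ TopCommRingCat.{u} CommRingCat.{u}).mapCone s)).hom =
          (s.π.app j).val := congrArg CommRingCat.Hom.hom this
    exact (s.π.app j).2.congr (fun x => (DFunLike.congr_fun h2 x).symm)⟩
  fac s j := by
    apply Subtype.ext
    have := hc.fac ((forget₂ TopCommRingCat.{u} CommRingCat.{u}).mapCone s) j
    exact congrArg CommRingCat.Hom.hom this
  uniq s m hm := by
    apply Subtype.ext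
    have := hc.uniq ((forget₂ TopCommRingCat.{u} CommRingCat.{u}).mapCone s)
      (CommRingCat.ofHom m.val) (fun j => by
        have := hm j
        apply CommRingCat.hom_ext
        exact congrArg Subtype.val this)
    exact congrArg CommRingCat.Hom.hom this

/-- The image of the limit cone in commutative rings is the original cone. -/
def mapConeIso :
    (forget₂ TopCommRingCat.{u} CommRingCat.{u}).mapCone (limCone F c) ≅ c :=
  Cone.ext (Iso.refl _) (fun j => by
    apply CommRingCat.hom_ext
    rfl)

variable (hc : IsLimit c)

/-- The underlying set of the limit ring is the set of compatible families. -/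
noncomputable def sectionsEquiv :
    c.pt ≃ ((F ⋙ forget₂ TopCommRingCat.{u} CommRingCat.{u}) ⋙ forget CommRingCat.{u}).sections :=
  Types.isLimitEquivSections (isLimitOfPreserves (forget CommRingCat.{u}) hc)

include hc in
theorem exists_pt (p : ∀ j, F.obj j)
    (hp : ∀ {i j : J} (a : i ⟶ j), (F.map a).val (p i) = p j) :
    ∃ x : c.pt, ∀ j, proj F c j x = p j := by
  let s : ((F ⋙ forget₂ TopCommRingCat.{u} CommRingCat.{u}) ⋙ forget CommRingCat.{u}).sections :=
    ⟨p, fun {i j} a => hp a⟩
  refine ⟨(sectionsEquiv F c hc).symm s, fun j => ?_⟩
  exact Types.isLimitEquivSections_symm_apply (isLimitOfPreserves (forget CommRingCat.{u}) hc) s j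

include hc in
theorem ext_pt {x y : c.pt} (h : ∀ j, proj F c j x = proj F c j y) : x = y := by
  apply (sectionsEquiv F c hc).injective
  apply Subtype.ext
  funext j
  exact h j

include hc in
theorem exists_pt_topCat (s : Cone (F ⋙ forget₂ TopCommRingCat.{u} TopCat.{u})) (x : s.pt) :
    ∃ y : c.pt, ∀ j, proj F c j y = s.π.app j x := by
  refine exists_pt F c hc (fun j => s.π.app j x) ?_
  intro i j a
  exact ConcreteCategory.congr_hom (s.w a) x

/-- The image of the limit cone in topological spaces is a limit cone. -/
noncomputable def isLimitTopCat :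
    IsLimit ((forget₂ TopCommRingCat.{u} TopCat.{u}).mapCone (limCone F c)) where
  lift s := TopCat.ofHom ⟨fun x => (exists_pt_topCat F c hc s x).choose, by
    apply continuous_to_lim F c
    intro j
    have : (fun x => proj F c j (exists_pt_topCat F c hc s x).choose) = fun x => s.π.app j x := by
      funext x
      exact (exists_pt_topCat F c hc s x).choose_spec j
    rw [this]
    exact (s.π.app j).hom.continuous⟩
  fac s j := by
    ext x
    exact (exists_pt_topCat F c hc s x).choose_spec j
  uniq s m hm := by
    ext x
    apply ext_pt F c hc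
    intro j
    refine Eq.trans ?_ ((exists_pt_topCat F c hc s x).choose_spec j).symm
    exact ConcreteCategory.congr_hom (hm j) x

end Lim

theorem hasColimit [HasColimit (F ⋙ forget₂ TopCommRingCat.{u} CommRingCat.{u})] :
    HasColimit F :=
  ⟨⟨⟨colimCocone F (colimit.cocone _), isColimit F _ (colimit.isColimit _)⟩⟩⟩

theorem preservesColimit [HasColimit (F ⋙ forget₂ TopCommRingCat.{u} CommRingCat.{u})] :
    PreservesColimit F (forget₂ TopCommRingCat.{u} CommRingCat.{u}) :=
  preservesColimit_of_preserves_colimit_cocone
    (isColimit F _ (colimit.isColimit _))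
    ((colimit.isColimit _).ofIsoColimit (mapCoconeIso F (colimit.cocone _)).symm)

theorem hasLimit [HasLimit (F ⋙ forget₂ TopCommRingCat.{u} CommRingCat.{u})] :
    HasLimit F :=
  ⟨⟨⟨limCone F (limit.cone _), isLimit F _ (limit.isLimit _)⟩⟩⟩

theorem preservesLimit_commRingCat [HasLimit (F ⋙ forget₂ TopCommRingCat.{u} CommRingCat.{u})] :
    PreservesLimit F (forget₂ TopCommRingCat.{u} CommRingCat.{u}) :=
  preservesLimit_of_preserves_limit_cone
    (isLimit F _ (limit.isLimit _))
    ((limit.isLimit _).ofIsoLimit (mapConeIso F (limit.cone _)).symm)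

theorem preservesLimit_topCat [HasLimit (F ⋙ forget₂ TopCommRingCat.{u} CommRingCat.{u})]
    [PreservesLimit (F ⋙ forget₂ TopCommRingCat.{u} CommRingCat.{u}) (forget CommRingCat.{u})] :
    PreservesLimit F (forget₂ TopCommRingCat.{u} TopCat.{u}) :=
  preservesLimit_of_preserves_limit_cone
    (isLimit F _ (limit.isLimit _))
    (isLimitTopCat F _ (limit.isLimit _))

end Groth.Agent.Lib.Helper10.TopRing
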