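import Mathlib
import Groth.Agent.Lib.Helper1KF4
set_option backward.isDefEq.respectTransparency.types false

/-!
# K-flatness for a general additive bifunctor: short exact sequences, cones
(helper1, bifunctor K-flat cluster, part 1)

For an additive bifunctor `F : C₁ ⥤ C₂ ⥤ D` between abelian categories (with `D` satisfying AB4 for
coproducts indexed by types in universe `0`), we study the functors
`Tot(L ⊗_F -)` and `Tot(- ⊗_F K)` on cochain complexes.
-/

set_option autoImplicit false
universe u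
open CategoryTheory CategoryTheory.Limits HomologicalComplex

namespace Groth.Agent.Lib.Helper1.BKF

open Groth.Agent.Lib.Helper1

/-- acyclic complexes -/
def Acyc {A : Type*} [Category A] [Abelian A] (L : CochainComplex A ℤ) : Prop :=
  ∀ i : ℤ, IsZero (L.homology i)

section acyc

variable {A : Type*} [Category A] [Abelian A]

lemma Acyc.of_iso {K K' : CochainComplex A ℤ} (e : K ≅ K') (h : Acyc K) : Acyc K' :=
  fun i => IsZero.of_iso (h i) ((homologyFunctor _ _ i).mapIso e).symm

lemma Acyc.shift {K : CochainComplex A ℤ} (h : Acyc K) (n : ℤ) : Acyc (K⟦n⟧) :=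
  fun i => IsZero.of_iso (h (n + i))
    (((homologyFunctor A (ComplexShape.up ℤ) 0).shiftIso n i (n + i) rfl).app K)

lemma Acyc.of_shift {K : CochainComplex A ℤ} (n : ℤ) (h : Acyc (K⟦n⟧)) : Acyc K :=
  fun i => IsZero.of_iso (h (i - n))
    (((homologyFunctor A (ComplexShape.up ℤ) 0).shiftIso n (i - n) i
      (by abel)).app K).symm

lemma acyc_of_homotopy_id_zero {X : CochainComplex A ℤ} (h : Homotopy (𝟙 X) 0) : Acyc X := by
  intro i
  rw [IsZero.iff_id_eq_zero, ← homologyMap_id, h.homologyMap_eq, homologyMap_zero]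

lemma acyc_iff_acyclic (X : CochainComplex A ℤ) : Acyc X ↔ X.Acyclic := by
  constructor
  · intro h i
    rw [exactAt_iff_isZero_homology]
    exact h i
  · intro h i
    rw [← exactAt_iff_isZero_homology]
    exact h i

end acyc

section cone

open CochainComplex

variable {A : Type*} [Category A] [Abelian A] {X Y : CochainComplex A ℤ} (f : X ⟶ Y)

/-- the morphism from the cone sequence of `𝟙 X` to the cone sequence of `f` -/
noncomputable def coneMap :
    mappingCone.triangleRotateShortComplex (𝟙 X) ⟶ mappingCone.triangleRotateShortComplex f where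
  τ₁ := f
  τ₂ := mappingCone.map (𝟙 X) f (𝟙 X) f (by simp)
  τ₃ := (𝟙 X)⟦(1 : ℤ)⟧'
  comm₁₂ := ((mappingCone.triangleMap (𝟙 X) f (𝟙 X) f (by simp)).comm₂).symm
  comm₂₃ := ((mappingCone.triangleMap (𝟙 X) f (𝟙 X) f (by simp)).comm₃).symm

lemma coneSES_shortExact : (mappingCone.triangleRotateShortComplex f).ShortExact :=
  shortExact_of_degreewise_shortExact _
    (fun n => (mappingCone.triangleRotateShortComplexSplitting f n).shortExact)

lemma acyc_cone_id (X : CochainComplex A ℤ) : Acyc (mappingCone (𝟙 X)) :=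
  acyc_of_homotopy_id_zero (mappingCone.homotopyToZeroOfId X)

lemma coneMap_τ₃ : (coneMap f).τ₃ = 𝟙 (X⟦(1 : ℤ)⟧) := by
  show (CategoryTheory.shiftFunctor (CochainComplex A ℤ) (1 : ℤ)).map (𝟙 X) = 𝟙 _
  exact CategoryTheory.Functor.map_id _ _

lemma quasiIso_coneMap_τ₃ : QuasiIso (coneMap f).τ₃ := by
  have h : QuasiIso (𝟙 (X⟦(1 : ℤ)⟧)) := inferInstance
  rw [coneMap_τ₃]; exact h

lemma acyc_cone_of_quasiIso [QuasiIso f] : Acyc (mappingCone f) := by
  have : QuasiIso (coneMap f).τ₁ := by show QuasiIso f; infer_instance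
  have := quasiIso_coneMap_τ₃ f
  exact KF.acyclic_middle_of_quasiIso (coneMap f) (coneSES_shortExact _) (coneSES_shortExact _)
    (acyc_cone_id X)

lemma quasiIso_of_acyc_cone (h : Acyc (mappingCone f)) : QuasiIso f := by
  have := quasiIso_coneMap_τ₃ f
  exact KF.quasiIso_τ₁_of_acyclic_middle (coneMap f) (coneSES_shortExact _) (coneSES_shortExact _)
    (acyc_cone_id X) h

end cone

/-- A functor between categories of cochain complexes which behaves well with respect to cones:
it sends degreewise split short exact sequences to short exact sequences, commutes with the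
shift up to isomorphism, and sends the cone of an identity to an acyclic complex. -/
structure ConeFunctor {A B : Type*} [Category A] [Category B] [Abelian A] [Abelian B]
    (G : CochainComplex A ℤ ⥤ CochainComplex B ℤ) [G.PreservesZeroMorphisms] : Prop where
  ses : ∀ (S : ShortComplex (CochainComplex A ℤ)),
    (∀ n, Nonempty (S.map (eval _ _ n)).Splitting) → (S.map G).ShortExact
  shift : ∀ X : CochainComplex A ℤ, Nonempty (G.obj (X⟦(1 : ℤ)⟧) ≅ (G.obj X)⟦(1 : ℤ)⟧)
  coneId : ∀ X : CochainComplex A ℤ, Acyc (G.obj (CochainComplex.mappingCone (𝟙 X)))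

namespace ConeFunctor

open CochainComplex

variable {A B : Type*} [Category A] [Category B] [Abelian A] [Abelian B]
  {G : CochainComplex A ℤ ⥤ CochainComplex B ℤ} [G.PreservesZeroMorphisms] (hG : ConeFunctor G)
  {X Y : CochainComplex A ℤ} (f : X ⟶ Y)

include hG

lemma cone_shortExact : ((mappingCone.triangleRotateShortComplex f).map G).ShortExact :=
  hG.ses _ (fun n => ⟨mappingCone.triangleRotateShortComplexSplitting f n⟩)

lemma acyc_shift_iff (X : CochainComplex A ℤ) : Acyc (G.obj (X⟦(1 : ℤ)⟧)) ↔ Acyc (G.obj X) := by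
  obtain ⟨e⟩ := hG.shift X
  exact ⟨fun h => (h.of_iso e).of_shift 1, fun h => (h.shift 1).of_iso e.symm⟩

lemma acyc_cone (hX : Acyc (G.obj X)) (hY : Acyc (G.obj Y)) : Acyc (G.obj (mappingCone f)) :=
  KF.acyclic_X₂ (hG.cone_shortExact f) hY ((hG.acyc_shift_iff X).2 hX)

lemma acyc_of_cone_right (hX : Acyc (G.obj X)) (hC : Acyc (G.obj (mappingCone f))) :
    Acyc (G.obj Y) :=
  KF.acyclic_X₁ (hG.cone_shortExact f) hC ((hG.acyc_shift_iff X).2 hX)

lemma acyc_of_cone_left (hY : Acyc (G.obj Y)) (hC : Acyc (G.obj (mappingCone f))) :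
    Acyc (G.obj X) :=
  (hG.acyc_shift_iff X).1 (KF.acyclic_X₃ (hG.cone_shortExact f) hY hC)

/-- if `G` sends the cone of `f` to an acyclic complex, then `G.map f` is a quasi-isomorphism -/
theorem quasiIso_map_of_acyc_cone (h : Acyc (G.obj (mappingCone f))) : QuasiIso (G.map f) := by
  let ψ := G.mapShortComplex.map (coneMap f)
  have hτ₃ : QuasiIso ψ.τ₃ := by
    have e : ψ.τ₃ = 𝟙 (G.obj (X⟦(1 : ℤ)⟧)) := by
      show G.map (coneMap f).τ₃ = 𝟙 _
      rw [coneMap_τ₃]
      exact G.map_id _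
    have h : QuasiIso (𝟙 (G.obj (X⟦(1 : ℤ)⟧))) := inferInstance
    rw [e]; exact h
  exact KF.quasiIso_τ₁_of_acyclic_middle ψ (hG.cone_shortExact (𝟙 X)) (hG.cone_shortExact f)
    (hG.coneId X) h

/-- if `G.map f` is a quasi-isomorphism then `G` sends the cone of `f` to an acyclic complex -/
theorem acyc_cone_of_quasiIso_map [QuasiIso (G.map f)] : Acyc (G.obj (mappingCone f)) := by
  let ψ := G.mapShortComplex.map (coneMap f)
  have hτ₃ : QuasiIso ψ.τ₃ := by
    have e : ψ.τ₃ = 𝟙 (G.obj (X⟦(1 : ℤ)⟧)) := by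
      show G.map (coneMap f).τ₃ = 𝟙 _
      rw [coneMap_τ₃]
      exact G.map_id _
    have h : QuasiIso (𝟙 (G.obj (X⟦(1 : ℤ)⟧))) := inferInstance
    rw [e]; exact h
  have hτ₁ : QuasiIso ψ.τ₁ := by show QuasiIso (G.map f); infer_instance
  exact KF.acyclic_middle_of_quasiIso ψ (hG.cone_shortExact (𝟙 X)) (hG.cone_shortExact f)
    (hG.coneId X)

end ConeFunctor


section bifunctor

variable {C₁ C₂ D : Type*} [Category C₁] [Category C₂] [Category D]
  [Abelian C₁] [Abelian C₂] [Abelian D]
  (F : C₁ ⥤ C₂ ⥤ D) [F.Additive] [∀ X, (F.obj X).Additive]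
  [∀ (K₁ : CochainComplex C₁ ℤ) (K₂ : CochainComplex C₂ ℤ),
    HasMapBifunctor K₁ K₂ F (ComplexShape.up ℤ)]

instance additive_flip_obj (Y : C₂) : (F.flip.obj Y).Additive where
  map_add {X X' f g} := by
    dsimp
    rw [Functor.map_add, NatTrans.app_add]

/-- `K ↦ Tot(L ⊗_F K)` -/
noncomputable abbrev TL (L : CochainComplex C₁ ℤ) : CochainComplex C₂ ℤ ⥤ CochainComplex D ℤ :=
  F.map₂CochainComplex.obj L

/-- `L ↦ Tot(L ⊗_F K)` -/
noncomputable abbrev TR (K : CochainComplex C₂ ℤ) : CochainComplex C₁ ℤ ⥤ CochainComplex D ℤ :=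
  F.map₂CochainComplex.flip.obj K

@[reassoc]
lemma ι_TL_map (L : CochainComplex C₁ ℤ) {X Y : CochainComplex C₂ ℤ} (g : X ⟶ Y) (p q n : ℤ)
    (h : p + q = n) :
    ιMapBifunctor L X F (ComplexShape.up ℤ) p q n h ≫ ((TL F L).map g).f n =
      (F.obj (L.X p)).map (g.f q) ≫ ιMapBifunctor L Y F (ComplexShape.up ℤ) p q n h := by
  dsimp [TL]
  erw [ι_mapBifunctorMap]
  simp

@[reassoc]
lemma ι_TR_map (K : CochainComplex C₂ ℤ) {X Y : CochainComplex C₁ ℤ} (g : X ⟶ Y) (p q n : ℤ)
    (h : p + q = n) :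
    ιMapBifunctor X K F (ComplexShape.up ℤ) p q n h ≫ ((TR F K).map g).f n =
      (F.map (g.f p)).app (K.X q) ≫ ιMapBifunctor Y K F (ComplexShape.up ℤ) p q n h := by
  dsimp [TR]
  erw [ι_mapBifunctorMap]
  simp

instance (L : CochainComplex C₁ ℤ) : (TL F L).Additive where
  map_add {X Y f g} := by
    refine HomologicalComplex.hom_ext _ _ (fun n => ?_)
    apply mapBifunctor.hom_ext
    intro p q hpq
    have e1 : ((TL F L).map f + (TL F L).map g).f n =
        ((TL F L).map f).f n + ((TL F L).map g).f n := rfl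
    have e2 : (f + g).f q = f.f q + g.f q := rfl
    rw [e1]
    erw [Preadditive.comp_add]
    rw [ι_TL_map, ι_TL_map, ι_TL_map, e2, Functor.map_add, Preadditive.add_comp]
    rfl

instance (K : CochainComplex C₂ ℤ) : (TR F K).Additive where
  map_add {X Y f g} := by
    refine HomologicalComplex.hom_ext _ _ (fun n => ?_)
    apply mapBifunctor.hom_ext
    intro p q hpq
    have e1 : ((TR F K).map f + (TR F K).map g).f n =
        ((TR F K).map f).f n + ((TR F K).map g).f n := rfl
    have e2 : (f + g).f p = f.f p + g.f p := rfl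
    rw [e1]
    erw [Preadditive.comp_add]
    rw [ι_TR_map, ι_TR_map, ι_TR_map, e2, Functor.map_add, NatTrans.app_add,
      Preadditive.add_comp]
    rfl

section ses

variable [∀ ι : Type, HasColimitsOfShape (Discrete ι) D]
  [∀ ι : Type, HasExactColimitsOfShape (Discrete ι) D]

/-- `Tot(L ⊗ -)` preserves short exact sequences which are preserved by `L^p ⊗ -` for all `p`. -/
theorem TL_shortExact (L : CochainComplex C₁ ℤ) (S : ShortComplex (CochainComplex C₂ ℤ))
    (hS : ∀ p q : ℤ, ((S.map (eval _ _ q)).map (F.obj (L.X p))).ShortExact) :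
    (S.map (TL F L)).ShortExact := by
  apply shortExact_of_degreewise_shortExact
  intro n
  let B : ∀ (X : CochainComplex C₂ ℤ),
      HomologicalComplex₂ D (ComplexShape.up ℤ) (ComplexShape.up ℤ) :=
    fun X => ((F.mapBifunctorHomologicalComplex _ _).obj L).obj X
  let π := ComplexShape.π (ComplexShape.up ℤ) (ComplexShape.up ℤ) (ComplexShape.up ℤ)
  exact KF.shortExact_of_isColimit_cofan
    (ι := (π ⁻¹' {n}))
    (X₁ := fun i => (F.obj (L.X i.1.1)).obj (S.X₁.X i.1.2))
    (X₂ := fun i => (F.obj (L.X i.1.1)).obj (S.X₂.X i.1.2))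
    (X₃ := fun i => (F.obj (L.X i.1.1)).obj (S.X₃.X i.1.2))
    (fun i => (F.obj (L.X i.1.1)).map (S.f.f i.1.2))
    (fun i => (F.obj (L.X i.1.1)).map (S.g.f i.1.2))
    (fun i => ((S.map (eval _ _ i.1.2)).map (F.obj (L.X i.1.1))).zero) (fun i => hS i.1.1 i.1.2)
    ((B S.X₁).toGradedObject.isColimitCofanMapObj π n)
    ((B S.X₂).toGradedObject.isColimitCofanMapObj π n)
    ((B S.X₃).toGradedObject.isColimitCofanMapObj π n)
    (((TL F L).map S.f).f n) (((TL F L).map S.g).f n)
    (fun i => ι_TL_map F L S.f i.1.1 i.1.2 n i.2)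
    (fun i => ι_TL_map F L S.g i.1.1 i.1.2 n i.2)
    ((S.map (TL F L)).map (eval _ _ n)).zero

/-- `Tot(- ⊗ K)` preserves short exact sequences which are preserved by `- ⊗ K^q` for all `q`. -/
theorem TR_shortExact (K : CochainComplex C₂ ℤ) (S : ShortComplex (CochainComplex C₁ ℤ))
    (hS : ∀ p q : ℤ, ((S.map (eval _ _ p)).map (F.flip.obj (K.X q))).ShortExact) :
    (S.map (TR F K)).ShortExact := by
  apply shortExact_of_degreewise_shortExact
  intro n
  let B : ∀ (X : CochainComplex C₁ ℤ),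
      HomologicalComplex₂ D (ComplexShape.up ℤ) (ComplexShape.up ℤ) :=
    fun X => ((F.mapBifunctorHomologicalComplex _ _).obj X).obj K
  let π := ComplexShape.π (ComplexShape.up ℤ) (ComplexShape.up ℤ) (ComplexShape.up ℤ)
  exact KF.shortExact_of_isColimit_cofan
    (ι := (π ⁻¹' {n}))
    (X₁ := fun i => (F.obj (S.X₁.X i.1.1)).obj (K.X i.1.2))
    (X₂ := fun i => (F.obj (S.X₂.X i.1.1)).obj (K.X i.1.2))
    (X₃ := fun i => (F.obj (S.X₃.X i.1.1)).obj (K.X i.1.2))
    (fun i => (F.map (S.f.f i.1.1)).app (K.X i.1.2))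
    (fun i => (F.map (S.g.f i.1.1)).app (K.X i.1.2))
    (fun i => ((S.map (eval _ _ i.1.1)).map (F.flip.obj (K.X i.1.2))).zero)
    (fun i => hS i.1.1 i.1.2)
    ((B S.X₁).toGradedObject.isColimitCofanMapObj π n)
    ((B S.X₂).toGradedObject.isColimitCofanMapObj π n)
    ((B S.X₃).toGradedObject.isColimitCofanMapObj π n)
    (((TR F K).map S.f).f n) (((TR F K).map S.g).f n)
    (fun i => ι_TR_map F K S.f i.1.1 i.1.2 n i.2)
    (fun i => ι_TR_map F K S.g i.1.1 i.1.2 n i.2)
    ((S.map (TR F K)).map (eval _ _ n)).zero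

/-- degreewise split short exact sequences are preserved by `Tot(L ⊗ -)` -/
theorem TL_shortExact_of_splitting (L : CochainComplex C₁ ℤ)
    (S : ShortComplex (CochainComplex C₂ ℤ))
    (σ : ∀ n, Nonempty (S.map (eval _ _ n)).Splitting) : (S.map (TL F L)).ShortExact :=
  TL_shortExact F L S (fun p q => (((σ q).some).map (F.obj (L.X p))).shortExact)

/-- degreewise split short exact sequences are preserved by `Tot(- ⊗ K)` -/
theorem TR_shortExact_of_splitting (K : CochainComplex C₂ ℤ)
    (S : ShortComplex (CochainComplex C₁ ℤ))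
    (σ : ∀ n, Nonempty (S.map (eval _ _ n)).Splitting) : (S.map (TR F K)).ShortExact :=
  TR_shortExact F K S (fun p q => (((σ p).some).map (F.flip.obj (K.X q))).shortExact)

open CochainComplex in
theorem coneFunctor_TL (L : CochainComplex C₁ ℤ) : ConeFunctor (TL F L) where
  ses S σ := TL_shortExact_of_splitting F L S σ
  shift X := ⟨CochainComplex.mapBifunctorShift₂Iso L X F 1⟩
  coneId X := by
    apply acyc_of_homotopy_id_zero
    refine (Homotopy.ofEq ((TL F L).map_id _).symm).trans
      ((mapBifunctorMapHomotopy₂ (𝟙 L) (mappingCone.homotopyToZeroOfId X) F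
        (ComplexShape.up ℤ)).trans (Homotopy.ofEq ?_))
    exact (TL F L).map_zero _ _

open CochainComplex in
theorem coneFunctor_TR (K : CochainComplex C₂ ℤ) : ConeFunctor (TR F K) where
  ses S σ := TR_shortExact_of_splitting F K S σ
  shift X := ⟨CochainComplex.mapBifunctorShift₁Iso X K F 1⟩
  coneId X := by
    apply acyc_of_homotopy_id_zero
    refine (Homotopy.ofEq ((TR F K).map_id _).symm).trans
      ((mapBifunctorMapHomotopy₁ (mappingCone.homotopyToZeroOfId X) (𝟙 K) F
        (ComplexShape.up ℤ)).trans (Homotopy.ofEq ?_))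
    exact (TR F K).map_zero _ _

end ses

end bifunctor

end Groth.Agent.Lib.Helper1.BKF
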