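import Mathlib
import Groth.Agent.Lib.Helper1KF3
import Groth.Agent.Lib.Helper1KF4
import Groth.Agent.Lib.Helper1KF8
import Groth.Agent.Lib.Helper1KF9
import Groth.Agent.Lib.Helper1Tor
set_option backward.isDefEq.respectTransparency.types false

/-!
# Factorisation of a map out of a K-flat complex through a K-flat resolution
(helper1, K-flat cluster, part 11)
-/

set_option autoImplicit false
universe u
open CategoryTheory CategoryTheory.Limits MonoidalCategory HomologicalComplex

namespace Groth.Agent.Lib.Helper1.KF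

section general

variable {C : Type*} [Category C] [Abelian C] {S : ShortComplex (CochainComplex C ℤ)}

lemma quasiIso_g_of_acyclic_X₁ (hS : S.ShortExact) (h₁ : ∀ i, IsZero (S.X₁.homology i)) :
    QuasiIso S.g := by
  rw [quasiIso_iff]
  intro i
  rw [quasiIsoAt_iff_isIso_homologyMap]
  have hm : Mono (homologyMap S.g i) :=
    (hS.homology_exact₂ i).mono_g ((h₁ i).eq_of_src _ _)
  have he : Epi (homologyMap S.g i) :=
    (hS.homology_exact₃ i (i + 1) rfl).epi_f ((h₁ (i + 1)).eq_of_tgt _ _)
  exact isIso_of_mono_of_epi _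

lemma quasiIso_f_of_acyclic_X₃ (hS : S.ShortExact) (h₃ : ∀ i, IsZero (S.X₃.homology i)) :
    QuasiIso S.f := by
  rw [quasiIso_iff]
  intro i
  rw [quasiIsoAt_iff_isIso_homologyMap]
  have he : Epi (homologyMap S.f i) :=
    (hS.homology_exact₂ i).epi_f ((h₃ i).eq_of_tgt _ _)
  have hm : Mono (homologyMap S.f i) :=
    (hS.homology_exact₁ (i - 1) i (by simp)).mono_g ((h₃ (i - 1)).eq_of_src _ _)
  exact isIso_of_mono_of_epi _

/-- in a pullback square in an abelian category, a kernel of `g` lifts to a kernel of
`pullback.fst f g`. -/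
lemma shortExact_pullback_of_mono_cokernel {A : Type*} [Category A] [Abelian A] {X Y W : A}
    (i : W ⟶ Y) [Mono i] (f : X ⟶ cokernel i) :
    (ShortComplex.mk (pullback.lift (0 : W ⟶ X) i (by simp) : W ⟶ pullback f (cokernel.π i))
      (pullback.fst f (cokernel.π i)) (pullback.lift_fst _ _ _)).ShortExact := by
  have hm : Mono (pullback.lift (0 : W ⟶ X) i (by simp) : W ⟶ pullback f (cokernel.π i)) :=
    mono_of_mono_fac (pullback.lift_snd _ _ _)
  have he : Epi (pullback.fst f (cokernel.π i)) := inferInstance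
  refine ShortComplex.ShortExact.mk' (ShortComplex.exact_of_f_is_kernel _ ?_) hm he
  refine KernelFork.IsLimit.ofι' _ _ (fun {T} k hk => ?_)
  have h1 : (k ≫ pullback.snd f (cokernel.π i)) ≫ cokernel.π i = 0 := by
    rw [Category.assoc, ← pullback.condition, ← Category.assoc]
    dsimp at hk
    rw [hk, zero_comp]
  refine ⟨Abelian.monoLift i _ h1, ?_⟩
  apply pullback.hom_ext
  · dsimp at hk ⊢
    rw [Category.assoc, pullback.lift_fst, comp_zero, hk]
  · dsimp
    rw [Category.assoc, pullback.lift_snd, Abelian.monoLift_comp]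

end general

section factor

open CochainComplex

variable {R : Type u} [CommRing R] {K L : Cx R} (a : K ⟶ L)

/-- a substitute for the mapping cylinder of `a : K ⟶ L` -/
noncomputable abbrev cyl (K L : Cx R) : Cx R := L ⊞ mappingCone (𝟙 K)

/-- the inclusion of `K` into the cylinder -/
noncomputable def cylι : K ⟶ cyl K L := biprod.lift a (mappingCone.inr (𝟙 K))

instance mono_inr_id (K : Cx R) : Mono (mappingCone.inr (𝟙 K)) :=
  mono_of_mono_f _ (fun n => mono_of_mono_fac (mappingCone.inr_f_snd_v (𝟙 K) n))

instance mono_cylι : Mono (cylι a) :=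
  mono_of_mono_fac (biprod.lift_snd a (mappingCone.inr (𝟙 K)))

lemma cylι_fst : cylι a ≫ biprod.fst = a := biprod.lift_fst _ _

lemma quasiIso_cyl_fst (K L : Cx R) : QuasiIso (biprod.fst : cyl K L ⟶ L) := by
  have hS := (ShortComplex.Splitting.ofHasBinaryBiproduct L (mappingCone (𝟙 K))).shortExact
  have h1 : QuasiIso (biprod.inl : L ⟶ cyl K L) :=
    quasiIso_f_of_acyclic_X₃ hS (acyc_cone_id K)
  have h2 : QuasiIso ((biprod.inl : L ⟶ cyl K L) ≫ biprod.fst) := by
    rw [biprod.inl_fst]; infer_instance
  exact quasiIso_of_comp_left (biprod.inl : L ⟶ cyl K L) biprod.fst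

theorem exists_kflat_factorization (hK : KFlat K) :
    ∃ (N : Cx R) (b : K ⟶ N) (c : N ⟶ L), KFlat N ∧ QuasiIso c ∧ b ≫ c = a ∧
      ((∀ n, Module.Flat R (K.X n)) → ∀ n, Module.Flat R (N.X n)) := by
  obtain ⟨M, μ, hM, hproj, hμ, hsurj⟩ := exists_kprojective_resolution (cokernel (cylι a))
  have hflat : ∀ n, Module.Flat R (M.X n) := fun n => by
    have := hproj n
    have hp : Module.Projective R (M.X n) := (M.X n).projective_of_module_projective
    infer_instance
  have hepi : Epi μ := epi_of_epi_f _ (fun n => (ModuleCat.epi_iff_surjective _).2 (hsurj n))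
  have hS₁ := shortExact_pullback_of_mono_cokernel (cylι a) μ
  set b : K ⟶ pullback μ (cokernel.π (cylι a)) := pullback.lift (0 : K ⟶ M) (cylι a) (by simp)
    with hb
  have hN : KFlat (pullback μ (cokernel.π (cylι a))) :=
    KFlat.X₂ (S := ShortComplex.mk b (pullback.fst μ (cokernel.π (cylι a)))
      (pullback.lift_fst _ _ _))
      (fun L' => tensorLeft_shortExact_of_termwiseFlat L' _ hS₁ hflat) hK
      (kflat_of_isKProjective M)
  -- the projection to the cylinder is a quasi-isomorphism
  have hsnd : QuasiIso (pullback.snd μ (cokernel.π (cylι a))) := by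
    have hS₂ : (ShortComplex.mk (kernel.ι (pullback.snd μ (cokernel.π (cylι a))))
        (pullback.snd μ (cokernel.π (cylι a))) (kernel.condition _)).ShortExact :=
      ShortComplex.ShortExact.mk' (ShortComplex.exact_kernel _) inferInstance inferInstance
    have hS₃ : (ShortComplex.mk (kernel.ι μ) μ (kernel.condition _)).ShortExact :=
      ShortComplex.ShortExact.mk' (ShortComplex.exact_kernel _) inferInstance inferInstance
    have hk : Acyc (kernel μ) := fun i => by
      rw [← exactAt_iff_isZero_homology]
      exact hS₃.acyclic_X₁ hμ i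
    have sq : IsPullback (pullback.snd μ (cokernel.π (cylι a)))
        (pullback.fst μ (cokernel.π (cylι a))) (cokernel.π (cylι a)) μ :=
      (IsPullback.of_hasPullback μ (cokernel.π (cylι a))).flip
    have := isIso_kernel_map_of_isPullback sq
    have hk' : Acyc (kernel (pullback.snd μ (cokernel.π (cylι a)))) :=
      Acyc.of_iso (asIso (kernel.map _ _ _ _ sq.w)).symm hk
    exact quasiIso_g_of_acyclic_X₁ hS₂ hk'
  have hfst := quasiIso_cyl_fst K L
  refine ⟨pullback μ (cokernel.π (cylι a)), b,
    pullback.snd μ (cokernel.π (cylι a)) ≫ biprod.fst, hN, inferInstance, ?_, ?_⟩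
  · rw [hb, pullback.lift_snd_assoc, cylι_fst]
  · intro hKf n
    have hSn : ((ShortComplex.mk b (pullback.fst μ (cokernel.π (cylι a)))
        (pullback.lift_fst _ _ _)).map (eval _ _ n)).ShortExact := hS₁.map_of_exact _
    have := hproj n
    have hp : Projective ((ShortComplex.mk b (pullback.fst μ (cokernel.π (cylι a)))
        (pullback.lift_fst _ _ _)).map (eval _ _ n)).X₃ := hproj n
    have e : (pullback μ (cokernel.π (cylι a))).X n ≅ ModuleCat.of R (K.X n × M.X n) :=
      hSn.splittingOfProjective.isoBinaryBiproduct ≪≫ ModuleCat.biprodIsoProd _ _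
    have h1 : Module.Flat R (K.X n) := hKf n
    have h2 : Module.Flat R (M.X n) := hflat n
    have h3 : Module.Flat R (K.X n × M.X n) := Groth.Agent.Lib.Helper1.Tor.flat_prod
    exact Module.Flat.of_linearEquiv e.toLinearEquiv

end factor

end Groth.Agent.Lib.Helper1.KF
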