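import Mathlib
import Groth.Agent.Lib.Helper1BKF1
import Groth.Agent.Lib.Helper1KF11
set_option backward.isDefEq.respectTransparency.types false

/-!
# Generating cofibrations `S^{n+1}(G) ⟶ D^n(G)` in an abelian category and the lifting property
(helper1, bifunctor K-flat cluster, part 7)
-/

set_option autoImplicit false
universe u
open CategoryTheory CategoryTheory.Limits HomologicalComplex Opposite

namespace Groth.Agent.Lib.Helper1.BKF

open Groth.Agent.Lib.Helper1

variable {A : Type*} [Category A] [Abelian A]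

lemma rel_succ (n : ℤ) : (ComplexShape.up ℤ).Rel n (n + 1) := rfl

lemma ne_succ (n : ℤ) : n ≠ n + 1 := by omega

/-- the sphere: `G` in degree `n` -/
noncomputable abbrev sph (G : A) (n : ℤ) : CochainComplex A ℤ :=
  (single A (ComplexShape.up ℤ) n).obj G

/-- the disk: `G ⟶ G` in degrees `n`, `n + 1` -/
noncomputable abbrev disk (G : A) (n : ℤ) : CochainComplex A ℤ :=
  double (𝟙 G) (rel_succ n)

/-- the boundary inclusion `S^{n+1}(G) ⟶ D^n(G)` -/
noncomputable def bdry (G : A) (n : ℤ) : sph G (n + 1) ⟶ disk G n :=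
  mkHomFromSingle (doubleXIso₁ (𝟙 G) (rel_succ n) (ne_succ n)).inv (fun k _ => by
    rw [double_d_eq_zero₀ _ _ _ _ (by omega), comp_zero])

section maps

variable {G : A} {X Y : CochainComplex A ℤ}

/-- maps from the disk -/
noncomputable def diskHom {n : ℤ} (x : G ⟶ X.X n) : disk G n ⟶ X :=
  mkHomFromDouble (rel_succ n) (ne_succ n) x (x ≫ X.d n (n + 1)) (by simp) (by simp)

/-- the element of a map from the disk -/
noncomputable def diskElem {n : ℤ} (v : disk G n ⟶ X) : G ⟶ X.X n :=
  (doubleXIso₀ (𝟙 G) (rel_succ n)).inv ≫ v.f n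

lemma diskHom_diskElem {n : ℤ} (v : disk G n ⟶ X) : diskHom (diskElem v) = v := by
  apply from_double_hom_ext
  · simp [diskHom, diskElem]
  · simp only [diskHom, diskElem, mkHomFromDouble_f₁, Category.assoc]
    rw [v.comm n (n + 1), double_d _ _ (ne_succ n)]
    simp

lemma diskElem_diskHom {n : ℤ} (x : G ⟶ X.X n) : diskElem (diskHom x) = x := by
  simp [diskHom, diskElem]

lemma diskHom_comp {n : ℤ} (x : G ⟶ X.X n) (p : X ⟶ Y) :
    diskHom x ≫ p = diskHom (x ≫ p.f n) := by
  apply from_double_hom_ext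
  · simp [diskHom, Category.assoc]
  · simp [diskHom, Category.assoc]

/-- maps from the sphere -/
noncomputable def sphHom {n : ℤ} (z : G ⟶ X.X n) (hz : ∀ k, z ≫ X.d n k = 0) :
    sph G n ⟶ X :=
  mkHomFromSingle z (fun k _ => hz k)

/-- the element of a map from the sphere -/
noncomputable def sphElem {n : ℤ} (u : sph G n ⟶ X) : G ⟶ X.X n :=
  (singleObjXSelf (ComplexShape.up ℤ) n G).inv ≫ u.f n

lemma sphElem_d {n : ℤ} (u : sph G n ⟶ X) (k : ℤ) : sphElem u ≫ X.d n k = 0 := by
  by_cases hk : n + 1 = k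
  · subst hk
    have : (sph G n).d n (n + 1) = 0 :=
      (isZero_single_obj_X (ComplexShape.up ℤ) n G (n + 1) (by omega)).eq_of_tgt _ _
    rw [sphElem, Category.assoc, u.comm, this]
    simp
  · rw [X.shape n k hk, comp_zero]

lemma sphHom_sphElem {n : ℤ} (u : sph G n ⟶ X) : sphHom (sphElem u) (sphElem_d u) = u := by
  apply from_single_hom_ext
  simp [sphHom, sphElem]

lemma sphElem_sphHom {n : ℤ} (z : G ⟶ X.X n) (hz : ∀ k, z ≫ X.d n k = 0) :
    sphElem (sphHom z hz) = z := by
  simp [sphHom, sphElem]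

lemma sphHom_comp {n : ℤ} (z : G ⟶ X.X n) (hz : ∀ k, z ≫ X.d n k = 0) (p : X ⟶ Y) :
    sphHom z hz ≫ p = sphHom (z ≫ p.f n) (fun k => by
      rw [Category.assoc, p.comm, reassoc_of% (hz k), zero_comp]) := by
  apply from_single_hom_ext
  simp [sphHom, Category.assoc]

lemma bdry_diskHom {n : ℤ} (x : G ⟶ X.X n) :
    bdry G n ≫ diskHom x = sphHom (x ≫ X.d n (n + 1)) (fun k => by simp) := by
  apply from_single_hom_ext
  simp [bdry, diskHom, sphHom, Category.assoc]

lemma bdry_comp {n : ℤ} (v : disk G n ⟶ X) :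
    bdry G n ≫ v = sphHom (diskElem v ≫ X.d n (n + 1)) (fun k => by simp) := by
  conv_lhs => rw [← diskHom_diskElem v]
  exact bdry_diskHom _

end maps

/-- the lifting property of a morphism of complexes with respect to `G`-points -/
def LiftCat (G : A) {X Y : CochainComplex A ℤ} (p : X ⟶ Y) : Prop :=
  ∀ (n n' : ℤ) (_ : n + 1 = n') (z : G ⟶ X.X n') (y : G ⟶ Y.X n), (∀ k, z ≫ X.d n' k = 0) →
    z ≫ p.f n' = y ≫ Y.d n n' → ∃ x : G ⟶ X.X n, x ≫ X.d n n' = z ∧ x ≫ p.f n = y

lemma liftCat_iff (G : A) {X Y : CochainComplex A ℤ} (p : X ⟶ Y) :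
    (∀ n : ℤ, HasLiftingProperty (bdry G n) p) ↔ LiftCat G p := by
  constructor
  · intro h n n' hn z y hz hzy
    subst hn
    have sq : CommSq (sphHom z hz) (bdry G n) p (diskHom y) := ⟨by
      rw [sphHom_comp, bdry_diskHom]
      congr 1⟩
    have := (h n).sq_hasLift sq
    refine ⟨diskElem sq.lift, ?_, ?_⟩
    · have h1 := sq.fac_left
      rw [bdry_comp] at h1
      have h2 := congrArg sphElem h1
      rwa [sphElem_sphHom, sphElem_sphHom] at h2
    · have h1 := sq.fac_right
      rw [← diskHom_diskElem sq.lift, diskHom_comp] at h1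
      have h2 := congrArg diskElem h1
      rwa [diskElem_diskHom, diskElem_diskHom] at h2
  · intro h n
    constructor
    intro u v sq
    have hzy : sphElem u ≫ p.f (n + 1) = diskElem v ≫ Y.d n (n + 1) := by
      have h1 := sq.w
      rw [← sphHom_sphElem u, sphHom_comp, bdry_comp] at h1
      have h2 := congrArg sphElem h1
      rwa [sphElem_sphHom, sphElem_sphHom] at h2
    obtain ⟨x, hx₁, hx₂⟩ := h n (n + 1) rfl (sphElem u) (diskElem v) (sphElem_d u) hzy
    refine ⟨⟨⟨diskHom x, ?_, ?_⟩⟩⟩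
    · rw [bdry_diskHom]
      conv_rhs => rw [← sphHom_sphElem u]
      congr 1
    · rw [diskHom_comp, hx₂, diskHom_diskElem]

section family

variable {ι : Type*} (g : ι → A)

/-- the generating cofibrations attached to a family of objects -/
def genI : MorphismProperty (CochainComplex A ℤ) :=
  MorphismProperty.ofHoms (fun x : ι × ℤ => bdry (g x.1) x.2)

lemma rlp_genI_iff {X Y : CochainComplex A ℤ} (p : X ⟶ Y) :
    (genI g).rlp p ↔ ∀ i, LiftCat (g i) p := by
  constructor
  · intro h i
    rw [← liftCat_iff]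
    intro n
    exact h _ (MorphismProperty.ofHoms.mk (i, n))
  · intro h B B' f hf
    cases hf with
    | mk x => exact ((liftCat_iff (g x.1) p).2 (h x.1)) x.2

end family

section detecting

variable {P : ObjectProperty A} (hP : P.IsDetecting)

include hP

/-- a morphism through which all `G`-points lift, for `G` in a detecting family, is an epi -/
lemma epi_of_forall_lift {X Y : A} (f : X ⟶ Y)
    (h : ∀ (G : A) (_ : P G) (y : G ⟶ Y), ∃ x : G ⟶ X, x ≫ f = y) : Epi f := by
  have : IsIso (image.ι f) := by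
    rw [hP.isIso_iff_of_mono]
    intro G hG y
    obtain ⟨x, hx⟩ := h G hG y
    exact ⟨x ≫ factorThruImage f, by simp [hx]⟩
  rw [← image.fac f]
  infer_instance

variable {X Y : CochainComplex A ℤ} (p : X ⟶ Y) (hp : ∀ (G : A) (_ : P G), LiftCat G p)

include hp

omit hP in
lemma exists_lift_of_liftCat (G : A) (hG : P G) (n : ℤ) (y : G ⟶ Y.X n) :
    ∃ x : G ⟶ X.X n, x ≫ p.f n = y := by
  obtain ⟨x', hx'₁, hx'₂⟩ := hp G hG (n + 1) (n + 1 + 1) rfl 0 (y ≫ Y.d n (n + 1))
    (fun k => zero_comp) (by simp)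
  obtain ⟨x, -, hx⟩ := hp G hG n (n + 1) rfl x' y (fun k => by
    by_cases hk : n + 1 + 1 = k
    · subst hk; exact hx'₁
    · rw [X.shape _ _ hk, comp_zero]) hx'₂
  exact ⟨x, hx⟩

lemma epi_f_of_liftCat (n : ℤ) : Epi (p.f n) :=
  epi_of_forall_lift hP (p.f n) (fun G hG y => exists_lift_of_liftCat p hp G hG n y)

lemma epi_of_liftCat : Epi p :=
  HomologicalComplex.epi_of_epi_f p (fun n => epi_f_of_liftCat hP p hp n)

/-- the kernel of a morphism with the lifting property is acyclic -/
lemma acyc_kernel_of_liftCat : Acyc (kernel p) := by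
  have hepi := epi_of_liftCat hP p hp
  have hS : (ShortComplex.mk (kernel.ι p) p (kernel.condition p)).ShortExact :=
    ShortComplex.ShortExact.mk' (ShortComplex.exact_of_f_is_kernel _ (kernelIsKernel p))
      inferInstance hepi
  -- degreewise
  have hSn := fun n => (shortExact_iff_degreewise_shortExact _).1 hS n
  intro n
  rw [← exactAt_iff_isZero_homology,
    exactAt_iff' _ (n - 1) n (n + 1) (by simp) (by simp), ShortComplex.exact_iff_epi_toCycles]
  apply epi_of_forall_lift hP
  intro G hG c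
  have hm : ∀ k, Mono ((kernel.ι p).f k) := fun k => (hSn k).mono_f
  obtain ⟨z, hzc⟩ : ∃ z : G ⟶ (kernel p).X n,
      z = c ≫ ((kernel p).sc' (n - 1) n (n + 1)).iCycles := ⟨_, rfl⟩
  -- the cycle
  have hz : z ≫ (kernel p).d n (n + 1) = 0 := by
    subst hzc
    exact (Category.assoc _ _ _).trans
      ((congrArg (fun t => c ≫ t) ((kernel p).sc' (n - 1) n (n + 1)).iCycles_g).trans comp_zero)
  obtain ⟨x, hx₁, hx₂⟩ := hp G hG (n - 1) n (by omega) (z ≫ (kernel.ι p).f n) 0
    (fun k => by
      rw [Category.assoc, (kernel.ι p).comm]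
      by_cases hk : n + 1 = k
      · subst hk
        rw [← Category.assoc, hz, zero_comp]
      · rw [(kernel p).shape _ _ hk, zero_comp, comp_zero])
    (by
      rw [Category.assoc, zero_comp, ← comp_f, kernel.condition, zero_f, comp_zero])
  -- lift `x` to the kernel
  haveI : Mono ((ShortComplex.mk (kernel.ι p) p (kernel.condition p)).map
      (eval A (ComplexShape.up ℤ) (n - 1))).f := (hSn (n - 1)).mono_f
  have hx₂' : x ≫ ((ShortComplex.mk (kernel.ι p) p (kernel.condition p)).map
      (eval A (ComplexShape.up ℤ) (n - 1))).g = 0 := hx₂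
  obtain ⟨x', hx'⟩ : ∃ x' : G ⟶ (kernel p).X (n - 1), x' ≫ (kernel.ι p).f (n - 1) = x :=
    ⟨(hSn (n - 1)).exact.lift x hx₂', (hSn (n - 1)).exact.lift_f x hx₂'⟩
  have hd : x' ≫ (kernel p).d (n - 1) n = z := by
    haveI := hm n
    rw [← cancel_mono ((kernel.ι p).f n), Category.assoc, ← (kernel.ι p).comm, ← Category.assoc,
      hx', hx₁]
  refine ⟨x', ?_⟩
  rw [← cancel_mono ((kernel p).sc' (n - 1) n (n + 1)).iCycles, ← hzc, ← hd, Category.assoc]
  exact congrArg (fun t => x' ≫ t) ((kernel p).sc' (n - 1) n (n + 1)).toCycles_i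

/-- a morphism with the lifting property with respect to a detecting family is a
quasi-isomorphism -/
lemma quasiIso_of_liftCat : QuasiIso p := by
  have hepi := epi_of_liftCat hP p hp
  have hS : (ShortComplex.mk (kernel.ι p) p (kernel.condition p)).ShortExact :=
    ShortComplex.ShortExact.mk' (ShortComplex.exact_of_f_is_kernel _ (kernelIsKernel p))
      inferInstance hepi
  exact KF.quasiIso_g_of_acyclic_X₁ hS (acyc_kernel_of_liftCat hP p hp)

end detecting

end Groth.Agent.Lib.Helper1.BKF
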