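import Mathlib
import Groth.Agent.Lib.Helper1BKF7
set_option backward.isDefEq.respectTransparency.types false

/-!
# The small object argument for the generating cofibrations (helper1, bifunctor K-flat cluster,
part 8)
-/

set_option autoImplicit false
universe v u
open CategoryTheory CategoryTheory.Limits HomologicalComplex MorphismProperty ZeroObject

namespace Groth.Agent.Lib.Helper1.BKF

variable {A : Type (u + 1)} [Category.{u} A] [Abelian A] [IsGrothendieckAbelian.{u} A]
  {ι : Type u} (g : ι → A)

instance mono_bdry (G : A) (n : ℤ) : Mono (bdry G n) := by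
  apply HomologicalComplex.mono_of_mono_f
  intro i
  by_cases hi : i = n + 1
  · subst hi
    rw [bdry, mkHomFromSingle_f]
    infer_instance
  · exact ⟨fun _ _ _ => (isZero_single_obj_X (ComplexShape.up ℤ) (n + 1) G i hi).eq_of_tgt _ _⟩

lemma genI_le_monomorphisms : genI g ≤ monomorphisms (CochainComplex A ℤ) := by
  intro B B' f hf
  cases hf with
  | mk x => exact mono_bdry (g x.1) x.2

instance : IsSmall.{u} (genI g) :=
  isSmall_ofHoms.{u} (A := fun x : ι × ℤ => sph (g x.1) (x.2 + 1))
    (B := fun x : ι × ℤ => disk (g x.1) x.2) (fun x : ι × ℤ => bdry (g x.1) x.2)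

instance : HasSmallObjectArgument.{u} (genI g) := by
  obtain ⟨κ, hκ', hκ⟩ := HasCardinalLT.exists_regular_cardinal_forall.{u}
    (fun x : ι × ℤ => Subobject (sph (g x.1) (x.2 + 1)))
  have : Fact κ.IsRegular := ⟨hκ'⟩
  have : Nonempty κ.ord.ToType := by simpa using hκ'.ne_zero
  have := WellFoundedLT.toOrderBot κ.ord.ToType
  exact ⟨κ, inferInstance, inferInstance,
    { preservesColimit {B B' X Y} i hi f hf := by
        let hf' : (monomorphisms (CochainComplex A ℤ)).TransfiniteCompositionOfShape
            κ.ord.ToType f :=
          { toTransfiniteCompositionOfShape := hf.toTransfiniteCompositionOfShape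
            map_mem j hj := by
              have := (hf.attachCells j hj).pushouts_coproducts
              simp only [ofHoms_homFamily] at this
              refine (?_ : _ ≤ monomorphisms (CochainComplex A ℤ)) _ this
              rw [pushouts_le_iff, coproducts_le_iff]
              exact genI_le_monomorphisms g }
        have (j j' : κ.ord.ToType) (φ : j ⟶ j') : Mono (hf'.F.map φ) := hf'.mem_map φ
        apply IsGrothendieckAbelian.preservesColimit_coyoneda_obj_of_mono (Y := hf'.F) (κ := κ)
        cases hi with
        | mk x => exact hκ x }⟩

end Groth.Agent.Lib.Helper1.BKF
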