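import Mathlib
import Groth.Agent.Lib.Helper1BKF1
set_option backward.isDefEq.respectTransparency.types false

/-!
# Tensor products of complexes and colimits (helper1, bifunctor K-flat cluster, part 5)
-/

set_option autoImplicit false
universe u
open CategoryTheory CategoryTheory.Limits HomologicalComplex

namespace Groth.Agent.Lib.Helper1.BKF

section exactColim

variable {A : Type*} [Category A] [Abelian A]

/-- pointwise exactness in functor categories -/
lemma exact_of_forall_app {J : Type*} [Category J]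
    (S : ShortComplex (J ⥤ A)) (h : ∀ j, (S.map ((evaluation J A).obj j)).Exact) :
    S.Exact := by
  rw [ShortComplex.exact_iff_isZero_homology, Functor.isZero_iff]
  intro j
  exact IsZero.of_iso ((ShortComplex.exact_iff_isZero_homology _).1 (h j))
    (S.mapHomologyIso ((evaluation J A).obj j)).symm

/-- the natural transformation given by the differentials -/
@[simps]
def dNat {J : Type*} [Category J] (M : J ⥤ CochainComplex A ℤ) (i j : ℤ) :
    M ⋙ eval A (ComplexShape.up ℤ) i ⟶ M ⋙ eval A (ComplexShape.up ℤ) j where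
  app k := (M.obj k).d i j
  naturality _ _ φ := (M.map φ).comm i j

/-- a degreewise colimit of acyclic complexes along a shape with exact colimits is acyclic -/
theorem acyc_of_isColimit {J : Type*} [Category J] [HasColimitsOfShape J A]
    [HasExactColimitsOfShape J A] (M : J ⥤ CochainComplex A ℤ) (c : Cocone M)
    (hc : ∀ q, IsColimit ((eval A (ComplexShape.up ℤ) q).mapCocone c))
    (hM : ∀ j, Acyc (M.obj j)) : Acyc c.pt := by
  intro n
  rw [← exactAt_iff_isZero_homology,
    exactAt_iff' _ (n - 1) n (n + 1) (by simp) (by simp)]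
  let S : ShortComplex (J ⥤ A) := ShortComplex.mk (dNat M (n - 1) n) (dNat M n (n + 1)) (by
    ext k
    exact (M.obj k).d_comp_d _ _ _)
  have hS : S.Exact := exact_of_forall_app S (fun k => by
    have := hM k n
    rw [← exactAt_iff_isZero_homology,
      exactAt_iff' _ (n - 1) n (n + 1) (by simp) (by simp)] at this
    exact this)
  exact colim.exact_mapShortComplex hS (hc (n - 1)) (hc n) (hc (n + 1))
    (c.pt.d (n - 1) n) (c.pt.d n (n + 1))
    (fun j => (c.ι.app j).comm (n - 1) n) (fun j => (c.ι.app j).comm n (n + 1))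

end exactColim

section colimTL

variable {C₁ C₂ D : Type*} [Category C₁] [Category C₂] [Category D]
  [Abelian C₁] [Abelian C₂] [Abelian D]
  (F : C₁ ⥤ C₂ ⥤ D) [F.Additive] [∀ X, (F.obj X).Additive]
  [∀ (K₁ : CochainComplex C₁ ℤ) (K₂ : CochainComplex C₂ ℤ),
    HasMapBifunctor K₁ K₂ F (ComplexShape.up ℤ)]
  (L : CochainComplex C₁ ℤ) {J : Type*} [Category J] (K : J ⥤ CochainComplex C₂ ℤ)
  (c : Cocone K) (hc : ∀ q, IsColimit ((eval C₂ (ComplexShape.up ℤ) q).mapCocone c))
  [∀ p, PreservesColimitsOfShape J (F.obj (L.X p))]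

@[reassoc]
lemma ι_map₂ {X Y : CochainComplex C₂ ℤ} (g : X ⟶ Y) (p q n : ℤ) (h : p + q = n) :
    ιMapBifunctor L X F (ComplexShape.up ℤ) p q n h ≫
        (mapBifunctorMap (𝟙 L) g F (ComplexShape.up ℤ)).f n =
      (F.obj (L.X p)).map (g.f q) ≫ ιMapBifunctor L Y F (ComplexShape.up ℤ) p q n h := by
  rw [ι_mapBifunctorMap]
  simp

/-- the cocone on a summand used to define the descent morphism -/
@[simps]
noncomputable def summandCocone (n : ℤ) {Z : D}
    (t : ∀ j, (mapBifunctor L (K.obj j) F (ComplexShape.up ℤ)).X n ⟶ Z)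
    (ht : ∀ {j j' : J} (φ : j ⟶ j'),
      (mapBifunctorMap (𝟙 L) (K.map φ) F (ComplexShape.up ℤ)).f n ≫ t j' = t j)
    (p q : ℤ) (h : p + q = n) :
    Cocone ((K ⋙ eval C₂ (ComplexShape.up ℤ) q) ⋙ F.obj (L.X p)) where
  pt := Z
  ι :=
    { app := fun j => ιMapBifunctor L (K.obj j) F (ComplexShape.up ℤ) p q n h ≫ t j
      naturality := fun j j' φ => by
        have e : (F.obj (L.X p)).map ((K.map φ).f q) ≫
            ιMapBifunctor L (K.obj j') F (ComplexShape.up ℤ) p q n h ≫ t j' =
            ιMapBifunctor L (K.obj j) F (ComplexShape.up ℤ) p q n h ≫ t j := by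
          rw [← ht φ, ι_map₂_assoc]
        exact e.trans (Category.comp_id _).symm }

/-- the descent morphism -/
noncomputable def descTL (n : ℤ) {Z : D}
    (t : ∀ j, (mapBifunctor L (K.obj j) F (ComplexShape.up ℤ)).X n ⟶ Z)
    (ht : ∀ {j j' : J} (φ : j ⟶ j'),
      (mapBifunctorMap (𝟙 L) (K.map φ) F (ComplexShape.up ℤ)).f n ≫ t j' = t j) :
    (mapBifunctor L c.pt F (ComplexShape.up ℤ)).X n ⟶ Z :=
  mapBifunctorDesc (fun p q h =>
    (isColimitOfPreserves (F.obj (L.X p)) (hc q)).desc (summandCocone F L K n t ht p q h))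

lemma ι_descTL (n : ℤ) {Z : D}
    (t : ∀ j, (mapBifunctor L (K.obj j) F (ComplexShape.up ℤ)).X n ⟶ Z)
    (ht : ∀ {j j' : J} (φ : j ⟶ j'),
      (mapBifunctorMap (𝟙 L) (K.map φ) F (ComplexShape.up ℤ)).f n ≫ t j' = t j)
    (p q : ℤ) (h : p + q = n) :
    ιMapBifunctor L c.pt F (ComplexShape.up ℤ) p q n h ≫ descTL F L K c hc n t ht =
      (isColimitOfPreserves (F.obj (L.X p)) (hc q)).desc (summandCocone F L K n t ht p q h) := by
  unfold descTL
  rw [ι_mapBifunctorDesc]

lemma descTL_fac (n : ℤ) {Z : D}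
    (t : ∀ j, (mapBifunctor L (K.obj j) F (ComplexShape.up ℤ)).X n ⟶ Z)
    (ht : ∀ {j j' : J} (φ : j ⟶ j'),
      (mapBifunctorMap (𝟙 L) (K.map φ) F (ComplexShape.up ℤ)).f n ≫ t j' = t j) (j : J) :
    (mapBifunctorMap (𝟙 L) (c.ι.app j) F (ComplexShape.up ℤ)).f n ≫ descTL F L K c hc n t ht =
      t j := by
  apply mapBifunctor.hom_ext
  intro p q h
  rw [ι_map₂_assoc]
  erw [ι_descTL]
  exact (isColimitOfPreserves (F.obj (L.X p)) (hc q)).fac (summandCocone F L K n t ht p q h) j

lemma descTL_uniq (n : ℤ) {Z : D}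
    (t : ∀ j, (mapBifunctor L (K.obj j) F (ComplexShape.up ℤ)).X n ⟶ Z)
    (ht : ∀ {j j' : J} (φ : j ⟶ j'),
      (mapBifunctorMap (𝟙 L) (K.map φ) F (ComplexShape.up ℤ)).f n ≫ t j' = t j)
    (m : (mapBifunctor L c.pt F (ComplexShape.up ℤ)).X n ⟶ Z)
    (hm : ∀ j, (mapBifunctorMap (𝟙 L) (c.ι.app j) F (ComplexShape.up ℤ)).f n ≫ m = t j) :
    m = descTL F L K c hc n t ht := by
  apply mapBifunctor.hom_ext
  intro p q h
  rw [ι_descTL]
  apply (isColimitOfPreserves (F.obj (L.X p)) (hc q)).hom_ext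
  intro j
  have e1 : (F.obj (L.X p)).map ((c.ι.app j).f q) ≫
      ιMapBifunctor L c.pt F (ComplexShape.up ℤ) p q n h ≫ m =
      ιMapBifunctor L (K.obj j) F (ComplexShape.up ℤ) p q n h ≫ t j := by
    rw [← hm j, ι_map₂_assoc]
    rfl
  have e2 := (isColimitOfPreserves (F.obj (L.X p)) (hc q)).fac
    (summandCocone F L K n t ht p q h) j
  exact e1.trans e2.symm

/-- `Tot(L ⊗ -)` commutes with colimits (computed degreewise) which are preserved by all
`L^p ⊗ -`. -/
noncomputable def isColimitTL (n : ℤ) :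
    IsColimit ((eval D (ComplexShape.up ℤ) n).mapCocone ((TL F L).mapCocone c)) where
  desc s := descTL F L K c hc n (fun j => s.ι.app j) (fun {j j'} φ => by
    have := s.ι.naturality φ
    dsimp at this
    rw [Category.comp_id] at this
    exact this)
  fac s j := descTL_fac F L K c hc n _ _ j
  uniq s m hm := descTL_uniq F L K c hc n _ _ m hm

end colimTL

end Groth.Agent.Lib.Helper1.BKF
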