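import Mathlib
import Groth.Agent.Lib.Helper1BKF5
set_option backward.isDefEq.respectTransparency.types false

/-!
# Monomorphisms with cokernel in a class of objects: stability properties
(helper1, bifunctor K-flat cluster, part 9)
-/

set_option autoImplicit false
universe v u
open CategoryTheory CategoryTheory.Limits MorphismProperty

namespace Groth.Agent.Lib.Helper1.BKF

section general

variable {B : Type*} [Category B] [Abelian B]

/-- third isomorphism theorem: `0 ⟶ coker f ⟶ coker (f ≫ g) ⟶ coker g ⟶ 0` for `g` mono -/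
lemma shortExact_cokernel_comp {X Y Z : B} (f : X ⟶ Y) (g : Y ⟶ Z) [Mono g] :
    (ShortComplex.mk (cokernel.map f (f ≫ g) (𝟙 X) g (by simp))
      (cokernel.desc (f ≫ g) (cokernel.π g) (by simp))
      (by ext; simp)).ShortExact := by
  have he : Epi (cokernel.desc (f ≫ g) (cokernel.π g) (by simp)) :=
    epi_of_epi_fac (cokernel.π_desc (f ≫ g) (cokernel.π g) (by simp))
  have hm : Mono (cokernel.map f (f ≫ g) (𝟙 X) g (by simp)) := by
    rw [Preadditive.mono_iff_cancel_zero]
    intro T t ht
    obtain ⟨T', π', hπ', y, hy⟩ := surjective_up_to_refinements_of_epi (cokernel.π f) t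
    have h1 : (y ≫ g) ≫ cokernel.π (f ≫ g) = 0 := by
      have : cokernel.π f ≫ cokernel.map f (f ≫ g) (𝟙 X) g (by simp) =
          g ≫ cokernel.π (f ≫ g) := cokernel.π_desc _ _ _
      rw [Category.assoc, ← this, ← Category.assoc, ← hy, Category.assoc, ht, comp_zero]
    have hex : (ShortComplex.mk (f ≫ g) (cokernel.π (f ≫ g)) (cokernel.condition _)).Exact :=
      ShortComplex.exact_cokernel (f ≫ g)
    obtain ⟨T'', π'', hπ'', x, hx⟩ := hex.exact_up_to_refinements (y ≫ g) h1
    dsimp at hx
    have h2 : π'' ≫ y = x ≫ f := by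
      rw [← cancel_mono g, Category.assoc, Category.assoc, hx]
    have h3 : (π'' ≫ π') ≫ t = 0 := by
      rw [Category.assoc, hy, ← Category.assoc, h2, Category.assoc, cokernel.condition,
        comp_zero]
    exact (cancel_epi (π'' ≫ π')).1 (h3.trans comp_zero.symm)
  refine ShortComplex.ShortExact.mk' ?_ hm he
  rw [ShortComplex.exact_iff_exact_up_to_refinements]
  intro T t ht
  dsimp at t ht ⊢
  obtain ⟨T', π', hπ', y', hy'⟩ := surjective_up_to_refinements_of_epi (cokernel.π (f ≫ g)) t
  have h1 : y' ≫ cokernel.π g = 0 := by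
    have : cokernel.π (f ≫ g) ≫ cokernel.desc (f ≫ g) (cokernel.π g) (by simp) =
        cokernel.π g := cokernel.π_desc _ _ _
    rw [← this, ← Category.assoc, ← hy', Category.assoc, ht, comp_zero]
  have hex : (ShortComplex.mk g (cokernel.π g) (cokernel.condition _)).Exact :=
    ShortComplex.exact_cokernel g
  obtain ⟨T'', π'', hπ'', y, hy⟩ := hex.exact_up_to_refinements y' h1
  dsimp at hy
  refine ⟨T'', π'' ≫ π', inferInstance, y ≫ cokernel.π f, ?_⟩
  have : cokernel.π f ≫ cokernel.map f (f ≫ g) (𝟙 X) g (by simp) =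
      g ≫ cokernel.π (f ≫ g) := cokernel.π_desc _ _ _
  rw [Category.assoc, hy', ← Category.assoc, hy, Category.assoc, Category.assoc, this]

variable (P : ObjectProperty B)

/-- monomorphisms whose cokernel belongs to `P` -/
def monoCoker : MorphismProperty B := fun _ _ f => Mono f ∧ P (cokernel f)

variable [P.IsClosedUnderIsomorphisms]

instance monoCoker_respectsIso : (monoCoker P).RespectsIso := by
  apply MorphismProperty.RespectsIso.of_respects_arrow_iso
  intro f g e hf
  refine ⟨?_, ?_⟩
  · exact ((monomorphisms B).arrow_iso_iff e).1 hf.1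
  · exact P.prop_of_iso
      (cokernel.mapIso f.hom g.hom (Arrow.leftFunc.mapIso e) (Arrow.rightFunc.mapIso e)
        (by simp)) hf.2

/-- closure of a class of objects under zero objects and extensions -/
structure ExtClosed (P : ObjectProperty B) : Prop where
  zero : ∀ X, IsZero X → P X
  ext : ∀ S : ShortComplex B, S.ShortExact → P S.X₁ → P S.X₃ → P S.X₂

omit [P.IsClosedUnderIsomorphisms] in
lemma monoCoker_isMultiplicative (hP : ExtClosed P) : (monoCoker P).IsMultiplicative where
  id_mem X := ⟨inferInstance, hP.zero _ (isZero_cokernel_of_epi (𝟙 X))⟩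
  comp_mem f g hf hg := by
    haveI := hf.1
    haveI := hg.1
    exact ⟨mono_comp f g, hP.ext _ (shortExact_cokernel_comp f g) hf.2 hg.2⟩

instance monoCoker_isStableUnderCobaseChange : (monoCoker P).IsStableUnderCobaseChange where
  of_isPushout {A A' B₁ B'} {f g f' g'} sq hf := by
    refine ⟨(monomorphisms B).of_isPushout sq hf.1, ?_⟩
    haveI := isIso_cokernel_map_of_isPushout sq.flip
    exact P.prop_of_iso (asIso (cokernel.map _ _ _ _ sq.flip.w)) hf.2

lemma monoCoker_isStableUnderColimitsOfShape (I : Type*) [Category I] [HasColimitsOfShape I B]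
    [HasExactColimitsOfShape I B]
    (hP : ∀ (Q : I ⥤ B) (c : Cocone Q), IsColimit c → (∀ i, P (Q.obj i)) → P c.pt) :
    (monoCoker P).IsStableUnderColimitsOfShape I where
  condition X₁ X₂ c₁ c₂ h₁ h₂ f hf φ hφ := by
    haveI : ∀ j, Mono (f.app j) := fun j => (hf j).1
    haveI : Mono f := NatTrans.mono_of_mono_app f
    have hmono : Mono φ := colim.map_mono' f h₁ h₂ φ hφ
    let Q : I ⥤ B := cokernel f
    let π : X₂ ⟶ Q := cokernel.π f
    let S : ShortComplex (I ⥤ B) := ShortComplex.mk f π (cokernel.condition f)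
    have hS : S.Exact := ShortComplex.exact_cokernel f
    let c₃ := colimit.cocone Q
    let g : c₂.pt ⟶ c₃.pt := h₂.desc (Cocone.mk c₃.pt (π ≫ c₃.ι))
    have hg : ∀ j, c₂.ι.app j ≫ g = π.app j ≫ c₃.ι.app j := fun j => h₂.fac _ j
    have hex := colim.exact_mapShortComplex hS h₁ h₂ (colimit.isColimit Q) φ g hφ hg
    haveI : ∀ j, Epi (π.app j) := fun j => inferInstance
    have hepi : Epi g := colim.map_epi' π c₂ (colimit.isColimit Q) g hg
    have hSE := ShortComplex.ShortExact.mk' hex hmono hepi
    let e : cokernel φ ≅ c₃.pt :=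
      IsColimit.coconePointUniqueUpToIso (cokernelIsCokernel φ) hSE.gIsCokernel
    refine ⟨hmono, P.prop_of_iso e.symm (hP Q c₃ (colimit.isColimit Q) (fun i => ?_))⟩
    exact P.prop_of_iso (PreservesCokernel.iso ((evaluation I B).obj i) f).symm (hf i).2

end general

end Groth.Agent.Lib.Helper1.BKF
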