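import Mathlib
import Groth.Agent.Lib.Helper1BKF8
import Groth.Agent.Lib.Helper1BKF9
set_option backward.isDefEq.respectTransparency.types false

/-!
# Cofibrant replacement with values in a class of complexes stable under extensions and colimits
(helper1, bifunctor K-flat cluster, part 10)
-/

set_option autoImplicit false
universe v u
open CategoryTheory CategoryTheory.Limits HomologicalComplex MorphismProperty ZeroObject

namespace Groth.Agent.Lib.Helper1.BKF

variable {A : Type (u + 1)} [Category.{u} A] [Abelian A] [IsGrothendieckAbelian.{u} A]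
  {ι : Type u} (g : ι → A)
  (P : ObjectProperty (CochainComplex A ℤ)) [P.IsClosedUnderIsomorphisms]

/-- the closure properties required of the class `P` -/
structure CellClosed : Prop where
  ext : ExtClosed P
  filtered : ∀ (I : Type u) [SmallCategory I] [IsFiltered I] (Q : I ⥤ CochainComplex A ℤ)
    (c : Cocone Q), IsColimit c → (∀ i, P (Q.obj i)) → P c.pt
  coprod : ∀ (J : Type u) (Q : Discrete J ⥤ CochainComplex A ℤ)
    (c : Cocone Q), IsColimit c → (∀ i, P (Q.obj i)) → P c.pt
  gen : ∀ (i : ι) (n : ℤ), P (cokernel (bdry (g i) n))

variable {g P} (hP : CellClosed g P)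

include hP

lemma genI_le_monoCoker : genI g ≤ monoCoker P := by
  intro B B' f hf
  cases hf with
  | mk x => exact ⟨mono_bdry (g x.1) x.2, hP.gen x.1 x.2⟩

lemma isStableUnderFilteredColimits_monoCoker :
    IsStableUnderFilteredColimits.{u, u} (monoCoker P) where
  isStableUnderColimitsOfShape J _ _ :=
    monoCoker_isStableUnderColimitsOfShape P J (hP.filtered J)

lemma isStableUnderCoproducts_monoCoker :
    IsStableUnderCoproducts.{u} (monoCoker P) where
  isStableUnderCoproductsOfShape J := by
    haveI : HasExactColimitsOfShape (Discrete J) (CochainComplex A ℤ) := by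
      haveI : AB5OfSize.{u, u} (CochainComplex A ℤ) := IsGrothendieckAbelian.ab5OfSize
      haveI : HasFiniteBiproducts (CochainComplex A ℤ) := Abelian.hasFiniteBiproducts
      haveI : AB4OfSize.{u} (CochainComplex A ℤ) := AB4.of_AB5 _
      exact AB4OfSize.ofShape J
    exact monoCoker_isStableUnderColimitsOfShape P (Discrete J) (hP.coprod J)

attribute [local instance] MorphismProperty.smallObjectκ_isRegular

/-- every complex receives a morphism with the right lifting property with respect to the
generating cofibrations from a complex in `P` -/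
theorem exists_cell_resolution (X : CochainComplex A ℤ) :
    ∃ (Z : CochainComplex A ℤ) (p : Z ⟶ X), P Z ∧ (genI g).rlp p := by
  haveI := monoCoker_isMultiplicative P hP.ext
  haveI := isStableUnderFilteredColimits_monoCoker hP
  haveI := isStableUnderCoproducts_monoCoker hP
  let κ := (genI g).smallObjectκ
  let f : (0 : CochainComplex A ℤ) ⟶ X := 0
  refine ⟨SmallObject.obj (genI g) κ f, SmallObject.πObj (genI g) κ f, ?_,
    SmallObject.rlp_πObj (genI g) κ f⟩
  have h1 := SmallObject.transfiniteCompositionsOfShape_ιObj (genI g) κ f
  have h2 : (coproducts.{u} (genI g)).pushouts ≤ monoCoker P := by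
    rw [pushouts_le_iff, coproducts_le_iff]
    exact genI_le_monoCoker hP
  have h3 : monoCoker P (SmallObject.ιObj (genI g) κ f) :=
    transfiniteCompositionsOfShape_le _ _ _
      (transfiniteCompositionsOfShape_monotone _ h2 _ h1)
  have h0 : SmallObject.ιObj (genI g) κ f = 0 := (isZero_zero _).eq_of_src _ _
  rw [h0] at h3
  exact P.prop_of_iso cokernelZeroIsoTarget h3.2

end Groth.Agent.Lib.Helper1.BKF
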