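import Mathlib
import Groth.Prelude.Def_KFlatSite
import Groth.Agent.Lib.Helper1BKF1
import Groth.Agent.Lib.Helper21ModTensor7
set_option backward.isDefEq.respectTransparency.types false

/-!
# K-flat complexes on a ringed site: instances, cones (helper1, bifunctor K-flat cluster, part 2)
-/

set_option autoImplicit false
universe u
open CategoryTheory CategoryTheory.Limits HomologicalComplex

namespace Groth.Agent.Lib.Helper1.BKF

open Groth.Agent.Lib.Helper21.ModTensor3 Groth.Agent.Lib.Helper21.ModTensor5

variable {C : Type u} [SmallCategory C] {J : GrothendieckTopology C} (O : Sheaf J CommRingCat.{u})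

instance hasExactColimitsOfShape_discrete_zero (ι : Type) :
    HasExactColimitsOfShape (Discrete ι) (ModSite.Mod O) := by
  haveI := hasExactColimitsOfShape_discrete O (ULift.{u} ι)
  exact HasExactColimitsOfShape.of_domain_equivalence (ModSite.Mod O)
    (Discrete.equivalence (Equiv.ulift.{u} (α := ι)))

/-- the tensor bifunctor on a ringed site -/
noncomputable abbrev TB := ModSite.tensorBi O

theorem coneFunctor_TL_site (L : CochainComplex (ModSite.Mod O) ℤ) :
    ConeFunctor (TL (ModSite.tensorBi O) L) := coneFunctor_TL _ L

theorem coneFunctor_TR_site (K : CochainComplex (ModSite.Mod O) ℤ) :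
    ConeFunctor (TR (ModSite.tensorBi O) K) := coneFunctor_TR _ K

variable {O}

lemma isKFlat_iff (K : CochainComplex (ModSite.Mod O) ℤ) :
    ModSite.IsKFlat K ↔ ∀ L : CochainComplex (ModSite.Mod O) ℤ, Acyc L →
      Acyc ((TL (ModSite.tensorBi O) L).obj K) := Iff.rfl

end Groth.Agent.Lib.Helper1.BKF
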