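import Mathlib
import Groth.Prelude.Def_KFlatSite
import Groth.Agent.Lib.Helper1BKF2
set_option backward.isDefEq.respectTransparency.types false

/-!
# K-flat complexes on a ringed site: short exact sequences with flat terms
(helper1, bifunctor K-flat cluster, part 3)
-/

set_option autoImplicit false
universe u
open CategoryTheory CategoryTheory.Limits HomologicalComplex

namespace Groth.Agent.Lib.Helper1.BKF

open Groth.Agent.Lib.Helper1
open Groth.Agent.Lib.Helper21.ModTensor3 Groth.Agent.Lib.Helper21.ModTensor5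

variable {C : Type u} [SmallCategory C] {J : GrothendieckTopology C} {O : Sheaf J CommRingCat.{u}}

/-- tensoring on the left with any module preserves short exact sequences with flat third term -/
lemma shortExact_tensorLeft_of_flat (S : ShortComplex (ModSite.Mod O)) (hS : S.ShortExact)
    (hF : ModSite.IsFlat S.X₃) (G : ModSite.Mod O) :
    (S.map ((ModSite.tensorBi O).obj G)).ShortExact :=
  ShortComplex.shortExact_of_iso (S.mapNatIso ((brd O).app G)).symm (shortExact_tensor O S hS hF G)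

/-- `Tot(L ⊗ -)` preserves short exact sequences of complexes whose third term is termwise flat -/
theorem TL_shortExact_of_flat (L : CochainComplex (ModSite.Mod O) ℤ)
    (S : ShortComplex (CochainComplex (ModSite.Mod O) ℤ)) (hS : S.ShortExact)
    (h3 : ∀ n : ℤ, ModSite.IsFlat (S.X₃.X n)) :
    (S.map (TL (ModSite.tensorBi O) L)).ShortExact :=
  TL_shortExact _ L S (fun p q =>
    shortExact_tensorLeft_of_flat (S.map (eval _ _ q))
      ((shortExact_iff_degreewise_shortExact S).1 hS q) (h3 q) (L.X p))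

theorem isKFlat_X₃ (S : ShortComplex (CochainComplex (ModSite.Mod O) ℤ)) (hS : S.ShortExact)
    (h3 : ∀ n : ℤ, ModSite.IsFlat (S.X₃.X n)) (h₁ : ModSite.IsKFlat S.X₁)
    (h₂ : ModSite.IsKFlat S.X₂) : ModSite.IsKFlat S.X₃ :=
  fun L hL => KF.acyclic_X₃ (TL_shortExact_of_flat L S hS h3) (h₁ L hL) (h₂ L hL)

theorem isKFlat_X₂ (S : ShortComplex (CochainComplex (ModSite.Mod O) ℤ)) (hS : S.ShortExact)
    (h3 : ∀ n : ℤ, ModSite.IsFlat (S.X₃.X n)) (h₁ : ModSite.IsKFlat S.X₁)
    (h₃ : ModSite.IsKFlat S.X₃) : ModSite.IsKFlat S.X₂ :=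
  fun L hL => KF.acyclic_X₂ (TL_shortExact_of_flat L S hS h3) (h₁ L hL) (h₃ L hL)

theorem isKFlat_X₁ (S : ShortComplex (CochainComplex (ModSite.Mod O) ℤ)) (hS : S.ShortExact)
    (h3 : ∀ n : ℤ, ModSite.IsFlat (S.X₃.X n)) (h₂ : ModSite.IsKFlat S.X₂)
    (h₃ : ModSite.IsKFlat S.X₃) : ModSite.IsKFlat S.X₁ :=
  fun L hL => KF.acyclic_X₁ (TL_shortExact_of_flat L S hS h3) (h₂ L hL) (h₃ L hL)

end Groth.Agent.Lib.Helper1.BKF
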