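import Mathlib
import Groth.Agent.Lib.Helper1BKF1
set_option backward.isDefEq.respectTransparency.types false

/-!
# Tensoring with an object placed in a single degree (helper1, bifunctor K-flat cluster, part 4)
-/

set_option autoImplicit false
universe u
open CategoryTheory CategoryTheory.Limits HomologicalComplex

namespace Groth.Agent.Lib.Helper1.BKF

variable {C₁ C₂ D : Type*} [Category C₁] [Category C₂] [Category D]
  [Abelian C₁] [Abelian C₂] [Abelian D]
  (F : C₁ ⥤ C₂ ⥤ D) [F.Additive] [∀ X, (F.obj X).Additive]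
  [∀ (K₁ : CochainComplex C₁ ℤ) (K₂ : CochainComplex C₂ ℤ),
    HasMapBifunctor K₁ K₂ F (ComplexShape.up ℤ)]

/-- the formula for the differential of the total complex on a summand -/
lemma ι_mapBifunctor_d (L : CochainComplex C₁ ℤ) (P : CochainComplex C₂ ℤ) (p q n : ℤ)
    (h : p + q = n) (p' q' n' : ℤ) (hp : p + 1 = p') (hq : q + 1 = q') (hn : n + 1 = n') :
    ιMapBifunctor L P F (ComplexShape.up ℤ) p q n h ≫
        (mapBifunctor L P F (ComplexShape.up ℤ)).d n n' =
      (F.map (L.d p p')).app (P.X q) ≫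
          ιMapBifunctor L P F (ComplexShape.up ℤ) p' q n' (by show p' + q = n'; omega) +
        p.negOnePow • (F.obj (L.X p)).map (P.d q q') ≫
          ιMapBifunctor L P F (ComplexShape.up ℤ) p q' n' (by show p + q' = n'; omega) := by
  subst hp hq hn
  have h1 := mapBifunctor.d₁_eq L P F (ComplexShape.up ℤ)
    (show (ComplexShape.up ℤ).Rel p (p + 1) from rfl) q (n + 1)
    (by show p + 1 + q = n + 1; omega)
  have h2 := mapBifunctor.d₂_eq L P F (ComplexShape.up ℤ)
    p (show (ComplexShape.up ℤ).Rel q (q + 1) from rfl) (n + 1)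
    (by show p + (q + 1) = n + 1; omega)
  rw [mapBifunctor.d_eq, Preadditive.comp_add, mapBifunctor.ι_D₁, mapBifunctor.ι_D₂, h1, h2]
  simp

variable (L : CochainComplex C₁ ℤ) (Y : C₂) (m : ℤ)

/-- `Y` in degree `m` -/
noncomputable abbrev sg : CochainComplex C₂ ℤ := (single C₂ (ComplexShape.up ℤ) m).obj Y

lemma isZero_summand (p q : ℤ) (hq : q ≠ m) : IsZero ((F.obj (L.X p)).obj ((sg Y m).X q)) :=
  (F.obj (L.X p)).map_isZero (isZero_single_obj_X (ComplexShape.up ℤ) m Y q hq)

/-- the inclusion of `L^a ⊗ Y` into `Tot(L ⊗ Y[-m])^n`, `a + m = n` -/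
noncomputable def sgι (n a : ℤ) (h : a + m = n) :
    (F.obj (L.X a)).obj Y ⟶ (mapBifunctor L (sg Y m) F (ComplexShape.up ℤ)).X n :=
  (F.obj (L.X a)).map (singleObjXSelf (ComplexShape.up ℤ) m Y).inv ≫
    ιMapBifunctor L (sg Y m) F (ComplexShape.up ℤ) a m n h

/-- the projection of `Tot(L ⊗ Y[-m])^n` onto `L^a ⊗ Y`, `a + m = n` -/
noncomputable def sgπ (n a : ℤ) (h : a + m = n) :
    (mapBifunctor L (sg Y m) F (ComplexShape.up ℤ)).X n ⟶ (F.obj (L.X a)).obj Y :=
  mapBifunctorDesc (fun p q hpq =>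
    if hq : q = m then
      (F.map (L.XIsoOfEq (show p = a by
        have : p + q = n := hpq
        omega)).hom).app _ ≫
        (F.obj (L.X a)).map ((sg Y m).XIsoOfEq hq).hom ≫
        (F.obj (L.X a)).map (singleObjXSelf (ComplexShape.up ℤ) m Y).hom
    else 0)

lemma ι_sgπ (n a : ℤ) (h : a + m = n) :
    ιMapBifunctor L (sg Y m) F (ComplexShape.up ℤ) a m n h ≫ sgπ F L Y m n a h =
      (F.obj (L.X a)).map (singleObjXSelf (ComplexShape.up ℤ) m Y).hom := by
  unfold sgπ
  rw [ι_mapBifunctorDesc, dif_pos rfl]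
  simp

lemma sgι_sgπ (n a : ℤ) (h : a + m = n) : sgι F L Y m n a h ≫ sgπ F L Y m n a h = 𝟙 _ := by
  unfold sgι
  rw [Category.assoc, ι_sgπ, ← Functor.map_comp, Iso.inv_hom_id, CategoryTheory.Functor.map_id]

lemma sgπ_sgι (n a : ℤ) (h : a + m = n) : sgπ F L Y m n a h ≫ sgι F L Y m n a h = 𝟙 _ := by
  apply mapBifunctor.hom_ext
  intro p q hpq
  by_cases hq : q = m
  · subst hq
    obtain rfl : p = a := by
      have : p + q = n := hpq
      omega
    rw [← Category.assoc, ι_sgπ]
    unfold sgι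
    rw [← Category.assoc, ← Functor.map_comp, Iso.hom_inv_id, CategoryTheory.Functor.map_id, Category.id_comp]
    exact (Category.comp_id _).symm
  · exact (isZero_summand F L Y m p q hq).eq_of_src _ _

/-- `Tot(L ⊗ Y[-m])^n ≅ L^a ⊗ Y` -/
noncomputable def sgIso (n a : ℤ) (h : a + m = n) :
    (F.obj (L.X a)).obj Y ≅ (mapBifunctor L (sg Y m) F (ComplexShape.up ℤ)).X n where
  hom := sgι F L Y m n a h
  inv := sgπ F L Y m n a h
  hom_inv_id := sgι_sgπ F L Y m n a h
  inv_hom_id := sgπ_sgι F L Y m n a h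

lemma sgι_comm (n a n' a' : ℤ) (h : a + m = n) (hn : n + 1 = n') (ha : a + 1 = a') :
    sgι F L Y m n a h ≫ (mapBifunctor L (sg Y m) F (ComplexShape.up ℤ)).d n n' =
      (F.map (L.d a a')).app Y ≫ sgι F L Y m n' a' (by omega) := by
  unfold sgι
  rw [Category.assoc, ι_mapBifunctor_d F L (sg Y m) a m n h a' (m + 1) n' ha rfl hn,
    single_obj_d, Functor.map_zero, zero_comp, smul_zero, add_zero, ← Category.assoc,
    ← Category.assoc, NatTrans.naturality]

/-- if `- ⊗ Y` is exact and `L` is acyclic then `Tot(L ⊗ Y[-m])` is acyclic -/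
theorem acyc_mapBifunctor_single [PreservesFiniteLimits (F.flip.obj Y)]
    [PreservesFiniteColimits (F.flip.obj Y)] (hL : Acyc L) :
    Acyc (mapBifunctor L (sg Y m) F (ComplexShape.up ℤ)) := by
  intro n
  rw [← exactAt_iff_isZero_homology,
    exactAt_iff' _ (n - 1) n (n + 1) (by simp) (by simp)]
  have hLn : (L.sc' (n - 1 - m) (n - m) (n + 1 - m)).Exact := by
    rw [← exactAt_iff' _ (n - 1 - m) (n - m) (n + 1 - m) (by simp; omega) (by simp; omega),
      exactAt_iff_isZero_homology]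
    exact hL _
  refine (ShortComplex.exact_iff_of_iso (ShortComplex.isoMk
    (sgIso F L Y m (n - 1) (n - 1 - m) (by omega)) (sgIso F L Y m n (n - m) (by omega))
    (sgIso F L Y m (n + 1) (n + 1 - m) (by omega)) ?_ ?_)).1 (hLn.map (F.flip.obj Y))
  · exact sgι_comm F L Y m (n - 1) (n - 1 - m) n (n - m) (by omega) (by omega) (by omega)
  · exact sgι_comm F L Y m n (n - m) (n + 1) (n + 1 - m) (by omega) (by omega) (by omega)

end Groth.Agent.Lib.Helper1.BKF
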