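import Mathlib
import Groth.Agent.Lib.Helper1BKF4
set_option backward.isDefEq.respectTransparency.types false

/-!
# Tensoring with a complex concentrated in a single degree
(helper1, bifunctor K-flat cluster, part 4b)
-/

set_option autoImplicit false
universe u
open CategoryTheory CategoryTheory.Limits HomologicalComplex

namespace Groth.Agent.Lib.Helper1.BKF

variable {C₁ C₂ D : Type*} [Category C₁] [Category C₂] [Category D]
  [Abelian C₁] [Abelian C₂] [Abelian D]
  (F : C₁ ⥤ C₂ ⥤ D) [F.Additive] [∀ X, (F.obj X).Additive]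
  [∀ (K₁ : CochainComplex C₁ ℤ) (K₂ : CochainComplex C₂ ℤ),
    HasMapBifunctor K₁ K₂ F (ComplexShape.up ℤ)]

variable (L : CochainComplex C₁ ℤ) (Pc : CochainComplex C₂ ℤ) (m : ℤ)
  (hPc : ∀ q : ℤ, q ≠ m → IsZero (Pc.X q))

include hPc

omit [∀ (K₁ : CochainComplex C₁ ℤ) (K₂ : CochainComplex C₂ ℤ),
    HasMapBifunctor K₁ K₂ F (ComplexShape.up ℤ)] in
lemma isZero_summand' (p q : ℤ) (hq : q ≠ m) : IsZero ((F.obj (L.X p)).obj (Pc.X q)) :=
  (F.obj (L.X p)).map_isZero (hPc q hq)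

omit hPc in
/-- the inclusion of `L^a ⊗ P^m` into `Tot(L ⊗ P)^n`, `a + m = n` -/
noncomputable def cι (n a : ℤ) (h : a + m = n) :
    (F.obj (L.X a)).obj (Pc.X m) ⟶ (mapBifunctor L Pc F (ComplexShape.up ℤ)).X n :=
  ιMapBifunctor L Pc F (ComplexShape.up ℤ) a m n h

omit hPc in
/-- the projection of `Tot(L ⊗ P)^n` onto `L^a ⊗ P^m`, `a + m = n` -/
noncomputable def cπ (n a : ℤ) (h : a + m = n) :
    (mapBifunctor L Pc F (ComplexShape.up ℤ)).X n ⟶ (F.obj (L.X a)).obj (Pc.X m) :=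
  mapBifunctorDesc (fun p q hpq =>
    if hq : q = m then
      (F.map (L.XIsoOfEq (show p = a by
        have : p + q = n := hpq
        omega)).hom).app _ ≫
        (F.obj (L.X a)).map (Pc.XIsoOfEq hq).hom
    else 0)

omit hPc in
lemma ι_cπ (n a : ℤ) (h : a + m = n) :
    ιMapBifunctor L Pc F (ComplexShape.up ℤ) a m n h ≫ cπ F L Pc m n a h = 𝟙 _ := by
  unfold cπ
  rw [ι_mapBifunctorDesc, dif_pos rfl]
  simp

omit hPc in
lemma cι_cπ (n a : ℤ) (h : a + m = n) : cι F L Pc m n a h ≫ cπ F L Pc m n a h = 𝟙 _ :=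
  ι_cπ F L Pc m n a h

lemma cπ_cι (n a : ℤ) (h : a + m = n) : cπ F L Pc m n a h ≫ cι F L Pc m n a h = 𝟙 _ := by
  apply mapBifunctor.hom_ext
  intro p q hpq
  by_cases hq : q = m
  · subst hq
    obtain rfl : p = a := by
      have : p + q = n := hpq
      omega
    rw [← Category.assoc, ι_cπ, Category.id_comp]
    exact (Category.comp_id _).symm
  · exact (isZero_summand' F L Pc m hPc p q hq).eq_of_src _ _

/-- `Tot(L ⊗ P)^n ≅ L^a ⊗ P^m` -/
noncomputable def cIso (n a : ℤ) (h : a + m = n) :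
    (F.obj (L.X a)).obj (Pc.X m) ≅ (mapBifunctor L Pc F (ComplexShape.up ℤ)).X n where
  hom := cι F L Pc m n a h
  inv := cπ F L Pc m n a h
  hom_inv_id := cι_cπ F L Pc m n a h
  inv_hom_id := cπ_cι F L Pc m hPc n a h

lemma cι_comm (n a n' a' : ℤ) (h : a + m = n) (hn : n + 1 = n') (ha : a + 1 = a') :
    cι F L Pc m n a h ≫ (mapBifunctor L Pc F (ComplexShape.up ℤ)).d n n' =
      (F.map (L.d a a')).app (Pc.X m) ≫ cι F L Pc m n' a' (by omega) := by
  unfold cι
  have hd : Pc.d m (m + 1) = 0 := (hPc (m + 1) (by omega)).eq_of_tgt _ _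
  rw [ι_mapBifunctor_d F L Pc a m n h a' (m + 1) n' ha rfl hn, hd, Functor.map_zero,
    zero_comp, smul_zero, add_zero]

/-- if `- ⊗ P^m` is exact, `P` is concentrated in degree `m` and `L` is acyclic then
`Tot(L ⊗ P)` is acyclic -/
theorem acyc_mapBifunctor_concentrated [PreservesFiniteLimits (F.flip.obj (Pc.X m))]
    [PreservesFiniteColimits (F.flip.obj (Pc.X m))] (hL : Acyc L) :
    Acyc (mapBifunctor L Pc F (ComplexShape.up ℤ)) := by
  intro n
  rw [← exactAt_iff_isZero_homology,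
    exactAt_iff' _ (n - 1) n (n + 1) (by simp) (by simp)]
  have hLn : (L.sc' (n - 1 - m) (n - m) (n + 1 - m)).Exact := by
    rw [← exactAt_iff' _ (n - 1 - m) (n - m) (n + 1 - m) (by simp; omega) (by simp; omega),
      exactAt_iff_isZero_homology]
    exact hL _
  refine (ShortComplex.exact_iff_of_iso (ShortComplex.isoMk
    (cIso F L Pc m hPc (n - 1) (n - 1 - m) (by omega)) (cIso F L Pc m hPc n (n - m) (by omega))
    (cIso F L Pc m hPc (n + 1) (n + 1 - m) (by omega)) ?_ ?_)).1 (hLn.map (F.flip.obj (Pc.X m)))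
  · exact cι_comm F L Pc m hPc (n - 1) (n - 1 - m) n (n - m) (by omega) (by omega) (by omega)
  · exact cι_comm F L Pc m hPc n (n - m) (n + 1) (n + 1 - m) (by omega) (by omega) (by omega)

end Groth.Agent.Lib.Helper1.BKF
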