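import Mathlib
import Groth.Prelude.Def_KFlatSite
import Groth.Agent.Lib.Helper1BKF3
import Groth.Agent.Lib.Helper1BKF5
set_option backward.isDefEq.respectTransparency.types false

/-!
# K-flat complexes and colimits (helper1, bifunctor K-flat cluster, part 6)
-/

set_option autoImplicit false
universe u
open CategoryTheory CategoryTheory.Limits HomologicalComplex

namespace Groth.Agent.Lib.Helper1.BKF

section general

variable {C₁ C₂ D : Type*} [Category C₁] [Category C₂] [Category D]
  [Abelian C₁] [Abelian C₂] [Abelian D]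
  (F : C₁ ⥤ C₂ ⥤ D) [F.Additive] [∀ X, (F.obj X).Additive]
  [∀ (K₁ : CochainComplex C₁ ℤ) (K₂ : CochainComplex C₂ ℤ),
    HasMapBifunctor K₁ K₂ F (ComplexShape.up ℤ)]

/-- `Tot(L ⊗ -)` sends degreewise colimits of complexes `K_j` with `Tot(L ⊗ K_j)` acyclic to
complexes `K` with `Tot(L ⊗ K)` acyclic, along shapes with exact colimits. -/
theorem acyc_TL_of_isColimit (L : CochainComplex C₁ ℤ) {J : Type*} [Category J]
    [HasColimitsOfShape J D] [HasExactColimitsOfShape J D]
    [∀ p, PreservesColimitsOfShape J (F.obj (L.X p))]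
    (K : J ⥤ CochainComplex C₂ ℤ) (c : Cocone K)
    (hc : ∀ q, IsColimit ((eval C₂ (ComplexShape.up ℤ) q).mapCocone c))
    (hK : ∀ j, Acyc ((TL F L).obj (K.obj j))) : Acyc ((TL F L).obj c.pt) :=
  acyc_of_isColimit (K ⋙ TL F L) ((TL F L).mapCocone c) (isColimitTL F L K c hc) hK

end general

section site

open Groth.Agent.Lib.Helper21.ModTensor3 Groth.Agent.Lib.Helper21.ModTensor5

variable {C : Type u} [SmallCategory C] {J : GrothendieckTopology C} {O : Sheaf J CommRingCat.{u}}

/-- K-flat complexes on a ringed site are stable under (degreewise) colimits along shapes with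
exact colimits. -/
theorem isKFlat_of_isColimit {I : Type*} [Category I]
    [HasColimitsOfShape I (ModSite.Mod O)] [HasExactColimitsOfShape I (ModSite.Mod O)]
    [∀ X : ModSite.Mod O, PreservesColimitsOfShape I ((ModSite.tensorBi O).obj X)]
    (K : I ⥤ CochainComplex (ModSite.Mod O) ℤ) (c : Cocone K)
    (hc : ∀ q, IsColimit ((eval (ModSite.Mod O) (ComplexShape.up ℤ) q).mapCocone c))
    (hK : ∀ j, ModSite.IsKFlat (K.obj j)) : ModSite.IsKFlat c.pt :=
  fun L hL => acyc_TL_of_isColimit (ModSite.tensorBi O) L K c hc (fun j => hK j L hL)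

instance preservesColimitsOfShape_tensorBi_obj (I : Type u) [SmallCategory I] (X : ModSite.Mod O) :
    PreservesColimitsOfShape I ((ModSite.tensorBi O).obj X) :=
  (tL_preservesColimits O X).preservesColimitsOfShape

/-- filtered colimits (in universe `u`) of K-flat complexes are K-flat -/
theorem isKFlat_of_isColimit_filtered {I : Type u} [SmallCategory I] [IsFiltered I]
    (K : I ⥤ CochainComplex (ModSite.Mod O) ℤ) (c : Cocone K) (hc : IsColimit c)
    (hK : ∀ j, ModSite.IsKFlat (K.obj j)) : ModSite.IsKFlat c.pt := by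
  haveI := hasExactColimitsOfShape_filtered O I
  exact isKFlat_of_isColimit K c (fun q => isColimitOfPreserves _ hc) hK

/-- coproducts (in universe `u`) of K-flat complexes are K-flat -/
theorem isKFlat_of_isColimit_discrete {ι : Type u}
    (K : Discrete ι ⥤ CochainComplex (ModSite.Mod O) ℤ) (c : Cocone K) (hc : IsColimit c)
    (hK : ∀ j, ModSite.IsKFlat (K.obj j)) : ModSite.IsKFlat c.pt := by
  haveI := hasExactColimitsOfShape_discrete O ι
  exact isKFlat_of_isColimit K c (fun q => isColimitOfPreserves _ hc) hK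

/-- sequential colimits of K-flat complexes are K-flat -/
theorem isKFlat_of_isColimit_nat
    (K : ℕ ⥤ CochainComplex (ModSite.Mod O) ℤ) (c : Cocone K) (hc : IsColimit c)
    (hK : ∀ j, ModSite.IsKFlat (K.obj j)) : ModSite.IsKFlat c.pt := by
  let e : ULiftHom.{u} (ULift.{u} ℕ) ≌ ℕ := ULiftHomULiftCategory.equiv.{u, u} ℕ |>.symm
  let K' := e.functor ⋙ K
  have hc' : IsColimit (c.whisker e.functor) :=
    (Functor.Final.isColimitWhiskerEquiv e.functor c).symm hc
  exact isKFlat_of_isColimit_filtered K' (c.whisker e.functor) hc' (fun j => hK _)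

end site

end Groth.Agent.Lib.Helper1.BKF
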