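import Mathlib
import Groth.Prelude.Def_ModSite
import Groth.Agent.Lib.Helper21ExtZero4

/-!
# Helper21: naturality of the projection formula; flatness of `j_!` (S6146)
-/

open CategoryTheory MonoidalCategory Opposite Limits

universe u

namespace Groth.Agent.Lib.Helper21.ExtZeroS

open Groth.Agent.Lib.Helper21.ModTensor Groth.Agent.Lib.Helper21.ModTensor2
  Groth.Agent.Lib.Helper21.ModTensor3 Groth.Agent.Lib.Helper21.ModTensor4
  Groth.Agent.Lib.Helper21.ModTensor5
  Groth.Agent.Lib.Helper21.ModTensor6 Groth.Agent.Lib.Helper21.ModRestr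
  Groth.Agent.Lib.Helper21.ExtZero

variable {C : Type u} [SmallCategory C] {J : GrothendieckTopology C} (O : Sheaf J CommRingCat.{u})
  (U : C)

theorem projIsoS_nat {P P' : ModSite.Mod (O.over U)} {N N' : ModSite.Mod O}
    (f : P ⟶ P') (g : N ⟶ N') :
    (jShriek O U).map ((shf (O.over U)).map
        ((fgt (O.over U)).map f ⊗ₘ (resP O U).map ((fgt O).map g) :
          ((fgt (O.over U)).obj P ⊗ (resP O U).obj ((fgt O).obj N) : PM (O.over U)) ⟶ _)) ≫
      (projIsoS O U P' N').hom =
    (projIsoS O U P N).hom ≫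
      (shf O).map ((fgt O).map ((jShriek O U).map f) ⊗ₘ (fgt O).map g :
        ((fgt O).obj ((jShriek O U).obj P) ⊗ (fgt O).obj N : PM O) ⟶ _) := by
  have h1 := (shfJShriekIso O U).hom.naturality
    ((fgt (O.over U)).map f ⊗ₘ (resP O U).map ((fgt O).map g) :
      ((fgt (O.over U)).obj P ⊗ (resP O U).obj ((fgt O).obj N) : PM (O.over U)) ⟶ _)
  have h2 := θ₀_nat O U ((fgt (O.over U)).map f) ((fgt O).map g)
  calc _ = ((shf (O.over U) ⋙ jShriek O U).map
          ((fgt (O.over U)).map f ⊗ₘ (resP O U).map ((fgt O).map g) :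
            ((fgt (O.over U)).obj P ⊗ (resP O U).obj ((fgt O).obj N) : PM (O.over U)) ⟶ _) ≫
        (shfJShriekIso O U).hom.app _) ≫
          (θ₀ O U ((fgt (O.over U)).obj P') ((fgt O).obj N')).hom := (Category.assoc _ _ _).symm
    _ = ((shfJShriekIso O U).hom.app _ ≫ (Es O U ⋙ shf O).map _) ≫
          (θ₀ O U ((fgt (O.over U)).obj P') ((fgt O).obj N')).hom :=
      congrArg (· ≫ (θ₀ O U ((fgt (O.over U)).obj P') ((fgt O).obj N')).hom) h1
    _ = (shfJShriekIso O U).hom.app _ ≫ ((Es O U ⋙ shf O).map _ ≫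
          (θ₀ O U ((fgt (O.over U)).obj P') ((fgt O).obj N')).hom) := Category.assoc _ _ _
    _ = (shfJShriekIso O U).hom.app _ ≫
          ((θ₀ O U ((fgt (O.over U)).obj P) ((fgt O).obj N)).hom ≫ _) :=
      congrArg ((shfJShriekIso O U).hom.app _ ≫ ·) h2
    _ = _ := (Category.assoc _ _ _).symm

theorem projIsoS_nat_right (P : ModSite.Mod (O.over U)) {N N' : ModSite.Mod O} (g : N ⟶ N') :
    (jShriek O U).map ((tL (O.over U) P).map ((ModSite.restr O U).map g)) ≫
      (projIsoS O U P N').hom =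
    (projIsoS O U P N).hom ≫ (tL O ((jShriek O U).obj P)).map g := by
  have h := projIsoS_nat O U (𝟙 P) g
  rw [(fgt (O.over U)).map_id, id_tensorHom, (jShriek O U).map_id, (fgt O).map_id,
    id_tensorHom] at h
  exact h

theorem projIsoS_nat_left {P P' : ModSite.Mod (O.over U)} (N : ModSite.Mod O) (f : P ⟶ P') :
    (jShriek O U).map ((tR (O.over U) ((ModSite.restr O U).obj N)).map f) ≫
      (projIsoS O U P' N).hom =
    (projIsoS O U P N).hom ≫ (tR O N).map ((jShriek O U).map f) := by
  have h := projIsoS_nat O U f (𝟙 N)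
  rw [(fgt O).map_id, (resP O U).map_id, tensorHom_id, tensorHom_id] at h
  exact h

/-- `j_!(P ⊗ (-)|_U) ≅ j_! P ⊗ -`. -/
noncomputable def projL (P : ModSite.Mod (O.over U)) :
    ModSite.restr O U ⋙ tL (O.over U) P ⋙ jShriek O U ≅ tL O ((jShriek O U).obj P) :=
  NatIso.ofComponents (fun N => projIsoS O U P N)
    (fun {N N'} g => projIsoS_nat_right O U P g)

/-- `j_!(- ⊗ N|_U) ≅ j_!(-) ⊗ N`. -/
noncomputable def projR (N : ModSite.Mod O) :
    tR (O.over U) ((ModSite.restr O U).obj N) ⋙ jShriek O U ≅ jShriek O U ⋙ tR O N :=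
  NatIso.ofComponents (fun P => projIsoS O U P N)
    (fun {P P'} f => projIsoS_nat_left O U N f)

instance restr_preservesFiniteLimits : PreservesFiniteLimits (ModSite.restr O U) :=
  haveI : PreservesLimitsOfSize.{0, 0} (ModSite.restr O U) :=
    (ModSite.extZeroAdj O U).rightAdjoint_preservesLimits
  PreservesLimitsOfSize.preservesFiniteLimits.{0, 0} _

theorem isFlat_jShriek (M : ModSite.Mod (O.over U)) (hM : ModSite.IsFlat M) :
    ModSite.IsFlat ((jShriek O U).obj M) := by
  rw [isFlat_iff] at hM ⊢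
  haveI : PreservesFiniteLimits (tL (O.over U) M) :=
    preservesFiniteLimits_of_natIso ((brd (O.over U)).app M).symm
  haveI : PreservesFiniteLimits (ModSite.restr O U ⋙ tL (O.over U) M ⋙ jShriek O U) :=
    inferInstance
  haveI : PreservesFiniteLimits (tL O ((jShriek O U).obj M)) :=
    preservesFiniteLimits_of_natIso (projL O U M)
  exact preservesFiniteLimits_of_natIso ((brd O).app ((jShriek O U).obj M))

theorem isFlat_unit : ModSite.IsFlat (ModSite.unit O) := by
  rw [isFlat_iff]
  haveI : PreservesFiniteLimits (tL O (ModSite.unit O)) :=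
    preservesFiniteLimits_of_natIso (ModTensor7.tLUnitIso O).symm
  exact preservesFiniteLimits_of_natIso ((brd O).app (ModSite.unit O))

/-- S6146 -/
theorem isFlat_extZero :
    (∀ M : ModSite.Mod (O.over U), ModSite.IsFlat M →
      ModSite.IsFlat ((ModSite.extZero O U).obj M)) ∧
    ModSite.IsFlat (ModSite.freeOn O U) := by
  have h : ∀ M : ModSite.Mod (O.over U), ModSite.IsFlat M →
      ModSite.IsFlat ((ModSite.extZero O U).obj M) := fun M hM =>
    isFlat_of_iso O ((extZeroIso O U).app M).symm (isFlat_jShriek O U M hM)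
  exact ⟨h, h _ (isFlat_unit (O.over U))⟩

end Groth.Agent.Lib.Helper21.ExtZeroS
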