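import Mathlib
import Groth.Agent.Lib.Helper1BKF10
import Groth.Agent.Lib.Helper1BKF6
import Groth.Agent.Lib.Helper1BKF4b
import Groth.Agent.Lib.Helper1BKF3
import Groth.Agent.S6146
import Groth.Agent.S6152
set_option backward.isDefEq.respectTransparency.types false

/-!
# K-flat resolutions with flat terms on a ringed site
(helper1, bifunctor K-flat cluster, part 11)
-/

set_option autoImplicit false
universe u
open CategoryTheory CategoryTheory.Limits HomologicalComplex MorphismProperty ZeroObject

namespace Groth.Agent.Lib.Helper1.BKF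

open Groth.Agent.Lib.Helper21.ModTensor3 Groth.Agent.Lib.Helper21.ModTensor5
  Groth.Agent.Lib.Helper21.FlatCalc

variable {C : Type u} [SmallCategory C] {J : GrothendieckTopology C} (O : Sheaf J CommRingCat.{u})

/-- the class of K-flat complexes with flat terms -/
def KFF : ObjectProperty (CochainComplex (ModSite.Mod O) ℤ) :=
  fun K => ModSite.IsKFlat K ∧ ∀ n : ℤ, ModSite.IsFlat (K.X n)

variable {O}

lemma isKFlat_of_iso {K K' : CochainComplex (ModSite.Mod O) ℤ} (e : K ≅ K')
    (h : ModSite.IsKFlat K) : ModSite.IsKFlat K' :=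
  fun L hL => Acyc.of_iso ((TL (ModSite.tensorBi O) L).mapIso e) (h L hL)

instance : (KFF O).IsClosedUnderIsomorphisms where
  of_iso e h := ⟨isKFlat_of_iso e h.1,
    fun n => isFlat_of_iso O ((HomologicalComplex.eval _ _ n).mapIso e) (h.2 n)⟩

lemma isFlat_of_isZero {Z : ModSite.Mod O} (hZ : IsZero Z) : ModSite.IsFlat Z := by
  rw [isFlat_iff]
  apply preservesFiniteLimits_of_mono
  intro X Y f _
  have hX : IsZero ((tR O Z).obj X) := Functor.map_isZero ((ModSite.tensorBi O).obj X) hZ
  exact ⟨fun a b _ => hX.eq_of_tgt a b⟩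

lemma acyc_of_isZero {A : Type*} [Category A] [Abelian A] {K : CochainComplex A ℤ}
    (hK : IsZero K) : Acyc K :=
  fun i => Functor.map_isZero (homologyFunctor A (ComplexShape.up ℤ) i) hK

lemma isKFlat_of_isZero {K : CochainComplex (ModSite.Mod O) ℤ} (hK : IsZero K) :
    ModSite.IsKFlat K :=
  fun L _ => acyc_of_isZero (Functor.map_isZero (TL (ModSite.tensorBi O) L) hK)

lemma kff_zero (K : CochainComplex (ModSite.Mod O) ℤ) (hK : IsZero K) : KFF O K :=
  ⟨isKFlat_of_isZero hK, fun n => isFlat_of_isZero (Functor.map_isZero (HomologicalComplex.eval _ _ n) hK)⟩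

lemma kff_ext (S : ShortComplex (CochainComplex (ModSite.Mod O) ℤ)) (hS : S.ShortExact)
    (h1 : KFF O S.X₁) (h3 : KFF O S.X₃) : KFF O S.X₂ :=
  ⟨isKFlat_X₂ S hS h3.2 h1.1 h3.1, fun n =>
    isFlat_middle O (S.map (HomologicalComplex.eval _ _ n)) ((shortExact_iff_degreewise_shortExact S).1 hS n)
      (h1.2 n) (h3.2 n)⟩

lemma isFlat_X_of_isColimit {I : Type u} [SmallCategory I]
    [HasExactColimitsOfShape I (ModSite.Mod O)]
    (Q : I ⥤ CochainComplex (ModSite.Mod O) ℤ) (c : Cocone Q) (hc : IsColimit c)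
    (n : ℤ) (h : ∀ i, ModSite.IsFlat ((Q.obj i).X n)) : ModSite.IsFlat (c.pt.X n) := by
  have h1 : IsColimit ((HomologicalComplex.eval (ModSite.Mod O) (ComplexShape.up ℤ) n).mapCocone c) :=
    isColimitOfPreserves _ hc
  have h2 := isFlat_of_isColimit O
    (Q ⋙ HomologicalComplex.eval (ModSite.Mod O) (ComplexShape.up ℤ) n) h _ h1
  exact h2

lemma kff_filtered (I : Type u) [SmallCategory I] [IsFiltered I]
    (Q : I ⥤ CochainComplex (ModSite.Mod O) ℤ) (c : Cocone Q) (hc : IsColimit c)
    (h : ∀ i, KFF O (Q.obj i)) : KFF O c.pt := by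
  have := hasExactColimitsOfShape_filtered O I
  exact ⟨isKFlat_of_isColimit_filtered Q c hc (fun i => (h i).1), fun n =>
    isFlat_X_of_isColimit Q c hc n (fun i => (h i).2 n)⟩

lemma kff_coprod (I : Type u)
    (Q : Discrete I ⥤ CochainComplex (ModSite.Mod O) ℤ) (c : Cocone Q) (hc : IsColimit c)
    (h : ∀ i, KFF O (Q.obj i)) : KFF O c.pt := by
  have := hasExactColimitsOfShape_discrete O I
  exact ⟨isKFlat_of_isColimit_discrete Q c hc (fun i => (h i).1), fun n =>
    isFlat_X_of_isColimit Q c hc n (fun i => (h i).2 n)⟩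

/-- a complex concentrated in one degree with flat term there is K-flat with flat terms -/
lemma kff_of_concentrated (K : CochainComplex (ModSite.Mod O) ℤ) (m : ℤ)
    (hK : ∀ q, q ≠ m → IsZero (K.X q)) (hm : ModSite.IsFlat (K.X m)) : KFF O K := by
  refine ⟨fun L hL => ?_, fun n => ?_⟩
  · haveI := hm.1
    haveI := hm.2
    exact acyc_mapBifunctor_concentrated (ModSite.tensorBi O) L K m hK hL
  · by_cases hn : n = m
    · subst hn; exact hm
    · exact isFlat_of_isZero (hK n hn)

section gen

variable {A : Type*} [Category A] [Abelian A] (G : A) (n : ℤ)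

lemma isZero_cokernel_bdry_X (k : ℤ) (hk : k ≠ n) : IsZero ((cokernel (bdry G n)).X k) := by
  refine IsZero.of_iso ?_
    (PreservesCokernel.iso (HomologicalComplex.eval A (ComplexShape.up ℤ) k) (bdry G n))
  by_cases hk' : k = n + 1
  · subst hk'
    haveI : IsIso ((HomologicalComplex.eval A (ComplexShape.up ℤ) (n + 1)).map (bdry G n)) := by
      show IsIso ((bdry G n).f (n + 1))
      rw [bdry, mkHomFromSingle_f]
      infer_instance
    exact isZero_cokernel_of_epi _
  · have : IsZero ((disk G n).X k) := isZero_double_X _ _ _ hk hk'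
    exact IsZero.of_epi (cokernel.π _) this

/-- the cokernel of the boundary inclusion is `G` in degree `n` -/
noncomputable def cokernelBdryXIso : (cokernel (bdry G n)).X n ≅ G :=
  PreservesCokernel.iso (HomologicalComplex.eval A (ComplexShape.up ℤ) n) (bdry G n) ≪≫
    cokernelIsoOfEq (show (HomologicalComplex.eval A (ComplexShape.up ℤ) n).map (bdry G n) = 0 from
      (isZero_single_obj_X (ComplexShape.up ℤ) (n + 1) G n (by omega)).eq_of_src _ _) ≪≫
    cokernelZeroIsoTarget ≪≫ doubleXIso₀ (𝟙 G) (rel_succ n)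

end gen

lemma kff_gen (U : C) (n : ℤ) : KFF O (cokernel (bdry (ModSite.freeOn O U) n)) :=
  kff_of_concentrated _ n (isZero_cokernel_bdry_X _ n)
    (isFlat_of_iso O (cokernelBdryXIso (ModSite.freeOn O U) n).symm
      (Groth.Agent.S6146.result O U).2)

variable (O)

/-- the category of modules on a small ringed site is Grothendieck abelian (helper21) -/
local instance : IsGrothendieckAbelian.{u} (ModSite.Mod O) := isGrothendieckAbelian O

theorem cellClosed_kff : CellClosed (fun U : C => ModSite.freeOn O U) (KFF O) where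
  ext := ⟨kff_zero, kff_ext⟩
  filtered I _ _ Q c hc h := kff_filtered I Q c hc h
  coprod I Q c hc h := kff_coprod I Q c hc h
  gen U n := kff_gen U n

/-- the free modules on the objects of the site form a detecting family -/
theorem isDetecting_freeOn :
    (ObjectProperty.ofObj fun X : (Set.univ : Set C) => ModSite.freeOn O (X : C)).IsDetecting :=
  (Groth.Agent.S6152.result O Set.univ (fun X => ⟨PUnit, fun _ => X, fun _ => 𝟙 X, by
    have : Sieve.ofArrows (fun _ : PUnit.{u + 1} => X) (fun _ => 𝟙 X) = ⊤ := by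
      rw [← Sieve.id_mem_iff_eq_top]
      exact Sieve.ofArrows_mk _ _ PUnit.unit
    rw [this]
    exact J.top_mem X, fun _ => trivial⟩)).1

/-- S9060: K-flat resolutions with flat terms, surjective in each degree -/
theorem exists_kflat_flat_resolution (G : CochainComplex (ModSite.Mod O) ℤ) :
    ∃ (K : CochainComplex (ModSite.Mod O) ℤ) (q : K ⟶ G), ModSite.IsKFlat K ∧
      (∀ n : ℤ, ModSite.IsFlat (K.X n)) ∧ QuasiIso q ∧ ∀ n : ℤ, Epi (q.f n) := by
  obtain ⟨K, q, hK, hq⟩ := exists_cell_resolution (g := fun U : C => ModSite.freeOn O U)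
    (P := KFF O) (cellClosed_kff O) G
  rw [rlp_genI_iff] at hq
  have hq' : ∀ (M : ModSite.Mod O),
      (ObjectProperty.ofObj fun X : (Set.univ : Set C) => ModSite.freeOn O (X : C)) M →
      LiftCat M q := by
    rintro M ⟨X⟩
    exact hq X.1
  exact ⟨K, q, hK.1, hK.2, quasiIso_of_liftCat (isDetecting_freeOn O) q hq',
    fun n => epi_f_of_liftCat (isDetecting_freeOn O) q hq' n⟩

end Groth.Agent.Lib.Helper1.BKF
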