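import Mathlib
import Groth.Prelude.Def_TotMap
import Groth.Agent.Lib.Helper1BKF11
set_option backward.isDefEq.respectTransparency.types false

/-!
# Symmetry of the total tensor complex and two-sided K-flatness
(helper1, bifunctor K-flat cluster, part 12)
-/

set_option autoImplicit false
universe u
open CategoryTheory CategoryTheory.Limits HomologicalComplex ZeroObject

namespace Groth.Agent.Lib.Helper1.BKF

section sym

variable {A D : Type*} [Category A] [Category D] [Abelian A] [Abelian D]
  (F : A ⥤ A ⥤ D) [F.Additive] [∀ X, (F.obj X).Additive]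
  [∀ (K₁ K₂ : CochainComplex A ℤ), HasMapBifunctor K₁ K₂ F (ComplexShape.up ℤ)]
  (β : F ≅ F.flip)

/-- the symmetry `Tot(K ⊗ L) ≅ Tot(L ⊗ K)` induced by a braiding of the bifunctor -/
noncomputable def symIso (K L : CochainComplex A ℤ) :
    mapBifunctor K L F (ComplexShape.up ℤ) ≅ mapBifunctor L K F (ComplexShape.up ℤ) :=
  TotMap.mapBifunctorNatIso K L (ComplexShape.up ℤ) β ≪≫
    mapBifunctorFlipIso L K F (ComplexShape.up ℤ)

lemma symIso_hom_naturality {K K' L L' : CochainComplex A ℤ} (f : K ⟶ K') (g : L ⟶ L') :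
    mapBifunctorMap f g F (ComplexShape.up ℤ) ≫ (symIso F β K' L').hom =
      (symIso F β K L).hom ≫ mapBifunctorMap g f F (ComplexShape.up ℤ) := by
  dsimp only [symIso, Iso.trans_hom]
  rw [TotMap.mapBifunctorNatIso_hom, TotMap.mapBifunctorNatIso_hom,
    ← Category.assoc, TotMap.mapBifunctorNatMap_naturality, Category.assoc,
    mapBifunctorFlipIso_hom_naturality, Category.assoc]

end sym

section site

open Groth.Agent.Lib.Helper21.ModTensor3 Groth.Agent.Lib.Helper21.ModTensor5

variable {C : Type u} [SmallCategory C] {J : GrothendieckTopology C} {O : Sheaf J CommRingCat.{u}}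

/-- a K-flat complex is also K-flat "on the left" -/
lemma acyc_TL_of_isKFlat (K : CochainComplex (ModSite.Mod O) ℤ) (hK : ModSite.IsKFlat K)
    (L : CochainComplex (ModSite.Mod O) ℤ) (hL : Acyc L) :
    Acyc ((TL (ModSite.tensorBi O) K).obj L) :=
  Acyc.of_iso (symIso (ModSite.tensorBi O) (brd O) L K) (hK L hL)

lemma quasiIso_TL_map_of_isKFlat (K : CochainComplex (ModSite.Mod O) ℤ) (hK : ModSite.IsKFlat K)
    {X Y : CochainComplex (ModSite.Mod O) ℤ} (f : X ⟶ Y) [QuasiIso f] :
    QuasiIso ((TL (ModSite.tensorBi O) K).map f) :=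
  (coneFunctor_TL_site O K).quasiIso_map_of_acyc_cone f
    (acyc_TL_of_isKFlat K hK _ (acyc_cone_of_quasiIso f))

lemma quasiIso_TR_map_of_isKFlat (K : CochainComplex (ModSite.Mod O) ℤ) (hK : ModSite.IsKFlat K)
    {X Y : CochainComplex (ModSite.Mod O) ℤ} (f : X ⟶ Y) [QuasiIso f] :
    QuasiIso ((TR (ModSite.tensorBi O) K).map f) :=
  (coneFunctor_TR_site O K).quasiIso_map_of_acyc_cone f
    (hK (CochainComplex.mappingCone f) (acyc_cone_of_quasiIso f))

/-- S9051: tensoring a quasi-isomorphism of K-flat complexes with any complex gives a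
quasi-isomorphism -/
theorem quasiIso_TL_map_of_isKFlat_of_isKFlat (P Q : CochainComplex (ModSite.Mod O) ℤ)
    (hP : ModSite.IsKFlat P) (hQ : ModSite.IsKFlat Q) (α : P ⟶ Q) [QuasiIso α]
    (F : CochainComplex (ModSite.Mod O) ℤ) :
    QuasiIso ((TL (ModSite.tensorBi O) F).map α) := by
  obtain ⟨F', q, hF', -, hq, -⟩ := exists_kflat_flat_resolution O F
  have h1 : QuasiIso ((TL (ModSite.tensorBi O) F').map α) := quasiIso_TL_map_of_isKFlat F' hF' α
  have h2 : QuasiIso ((TR (ModSite.tensorBi O) P).map q) := quasiIso_TR_map_of_isKFlat P hP q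
  have h3 : QuasiIso ((TR (ModSite.tensorBi O) Q).map q) := quasiIso_TR_map_of_isKFlat Q hQ q
  have comm : (TL (ModSite.tensorBi O) F').map α ≫ (TR (ModSite.tensorBi O) Q).map q =
      (TR (ModSite.tensorBi O) P).map q ≫ (TL (ModSite.tensorBi O) F).map α :=
    ((ModSite.tensorBi O).map₂CochainComplex.map q).naturality α
  have h4 : QuasiIso ((TR (ModSite.tensorBi O) P).map q ≫ (TL (ModSite.tensorBi O) F).map α) := by
    rw [← comm]; infer_instance
  exact quasiIso_of_comp_left ((TR (ModSite.tensorBi O) P).map q) _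

end site

end Groth.Agent.Lib.Helper1.BKF
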