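import Mathlib
import Groth.Agent.Lib.Helper1KF11
import Groth.Agent.Lib.Helper1BKF12
set_option backward.isDefEq.respectTransparency.types false

/-!
# Factorisation of a map out of a K-flat complex through a K-flat resolution, on a ringed site
(helper1, bifunctor K-flat cluster, part 13)
-/

set_option autoImplicit false
universe u
open CategoryTheory CategoryTheory.Limits HomologicalComplex ZeroObject

namespace Groth.Agent.Lib.Helper1.BKF

section cyl

open CochainComplex

variable {A : Type*} [Category A] [Abelian A] {K L : CochainComplex A ℤ} (a : K ⟶ L)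

/-- a substitute for the mapping cylinder of `a : K ⟶ L` -/
noncomputable abbrev cyl (K L : CochainComplex A ℤ) : CochainComplex A ℤ :=
  L ⊞ mappingCone (𝟙 K)

/-- the inclusion of `K` into the cylinder -/
noncomputable def cylι : K ⟶ cyl K L := biprod.lift a (mappingCone.inr (𝟙 K))

instance mono_inr_id (K : CochainComplex A ℤ) : Mono (mappingCone.inr (𝟙 K)) :=
  mono_of_mono_f _ (fun n => mono_of_mono_fac (mappingCone.inr_f_snd_v (𝟙 K) n))

instance mono_cylι : Mono (cylι a) :=
  mono_of_mono_fac (biprod.lift_snd a (mappingCone.inr (𝟙 K)))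

lemma cylι_fst : cylι a ≫ biprod.fst = a := biprod.lift_fst _ _

lemma quasiIso_cyl_fst (K L : CochainComplex A ℤ) : QuasiIso (biprod.fst : cyl K L ⟶ L) := by
  have hS := (ShortComplex.Splitting.ofHasBinaryBiproduct L (mappingCone (𝟙 K))).shortExact
  have h1 : QuasiIso (biprod.inl : L ⟶ cyl K L) :=
    KF.quasiIso_f_of_acyclic_X₃ hS (acyc_cone_id K)
  have h2 : QuasiIso ((biprod.inl : L ⟶ cyl K L) ≫ biprod.fst) := by
    rw [biprod.inl_fst]; infer_instance
  exact quasiIso_of_comp_left (biprod.inl : L ⟶ cyl K L) biprod.fst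

/-- pulling back a degreewise epi quasi-isomorphism onto the cokernel of a mono -/
lemma exists_pullback_data {K Z M : CochainComplex A ℤ} (i : K ⟶ Z) [Mono i]
    (μ : M ⟶ cokernel i) [Epi μ] (hμ : QuasiIso μ) :
    ∃ (N : CochainComplex A ℤ) (b : K ⟶ N) (p : N ⟶ M) (s : N ⟶ Z) (w : b ≫ p = 0),
      (ShortComplex.mk b p w).ShortExact ∧ QuasiIso s ∧ b ≫ s = i := by
  have hS₁ := KF.shortExact_pullback_of_mono_cokernel i μ
  refine ⟨pullback μ (cokernel.π i), pullback.lift (0 : K ⟶ M) i (by simp),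
    pullback.fst μ (cokernel.π i), pullback.snd μ (cokernel.π i), pullback.lift_fst _ _ _,
    hS₁, ?_, pullback.lift_snd _ _ _⟩
  have hS₂ : (ShortComplex.mk (kernel.ι (pullback.snd μ (cokernel.π i)))
      (pullback.snd μ (cokernel.π i)) (kernel.condition _)).ShortExact :=
    ShortComplex.ShortExact.mk' (ShortComplex.exact_kernel _) inferInstance inferInstance
  have hS₃ : (ShortComplex.mk (kernel.ι μ) μ (kernel.condition _)).ShortExact :=
    ShortComplex.ShortExact.mk' (ShortComplex.exact_kernel _) inferInstance inferInstance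
  have hk : Acyc (kernel μ) := fun j => by
    rw [← exactAt_iff_isZero_homology]
    exact hS₃.acyclic_X₁ hμ j
  have sq : IsPullback (pullback.snd μ (cokernel.π i))
      (pullback.fst μ (cokernel.π i)) (cokernel.π i) μ :=
    (IsPullback.of_hasPullback μ (cokernel.π i)).flip
  have := isIso_kernel_map_of_isPullback sq
  have hk' : Acyc (kernel (pullback.snd μ (cokernel.π i))) :=
    Acyc.of_iso (asIso (kernel.map _ _ _ _ sq.w)).symm hk
  exact KF.quasiIso_g_of_acyclic_X₁ hS₂ hk'

end cyl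

section site

open Groth.Agent.Lib.Helper21.ModTensor3 Groth.Agent.Lib.Helper21.ModTensor5

variable {C : Type u} [SmallCategory C] {J : GrothendieckTopology C} {O : Sheaf J CommRingCat.{u}}

lemma isKFlat_of_ses {X₁ X₂ X₃ : CochainComplex (ModSite.Mod O) ℤ} (f : X₁ ⟶ X₂) (g : X₂ ⟶ X₃)
    (w : f ≫ g = 0) (hS : (ShortComplex.mk f g w).ShortExact)
    (h3 : ∀ n : ℤ, ModSite.IsFlat (X₃.X n)) (h₁ : ModSite.IsKFlat X₁) (h₃ : ModSite.IsKFlat X₃) :
    ModSite.IsKFlat X₂ :=
  isKFlat_X₂ (ShortComplex.mk f g w) hS h3 h₁ h₃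

lemma isFlat_X_of_ses {X₁ X₂ X₃ : CochainComplex (ModSite.Mod O) ℤ} (f : X₁ ⟶ X₂) (g : X₂ ⟶ X₃)
    (w : f ≫ g = 0) (hS : (ShortComplex.mk f g w).ShortExact) (n : ℤ)
    (h1 : ModSite.IsFlat (X₁.X n)) (h3 : ModSite.IsFlat (X₃.X n)) :
    ModSite.IsFlat (X₂.X n) :=
  isFlat_middle O ((ShortComplex.mk f g w).map
    (HomologicalComplex.eval (ModSite.Mod O) (ComplexShape.up ℤ) n))
    (hS.map_of_exact _) h1 h3

/-- S9061, in the strong form with `b ≫ c = a` -/
theorem exists_kflat_factorization {K L : CochainComplex (ModSite.Mod O) ℤ} (a : K ⟶ L)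
    (hK : ModSite.IsKFlat K) :
    ∃ (N : CochainComplex (ModSite.Mod O) ℤ) (b : K ⟶ N) (c : N ⟶ L), ModSite.IsKFlat N ∧
      QuasiIso c ∧ b ≫ c = a ∧
      ((∀ n : ℤ, ModSite.IsFlat (K.X n)) → ∀ n : ℤ, ModSite.IsFlat (N.X n)) := by
  obtain ⟨M, μ, hM, hflat, hμ, hsurj⟩ := exists_kflat_flat_resolution O (cokernel (cylι a))
  have hepi : Epi μ := epi_of_epi_f _ hsurj
  obtain ⟨N, b, p, s, w, hS, hs, hbs⟩ := exists_pullback_data (cylι a) μ hμ
  have hfst := quasiIso_cyl_fst K L
  refine ⟨N, b, s ≫ biprod.fst, isKFlat_of_ses b p w hS hflat hK hM, inferInstance, ?_, ?_⟩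
  · rw [← Category.assoc, hbs, cylι_fst]
  · intro hKf n
    exact isFlat_X_of_ses b p w hS n (hKf n) (hflat n)

end site

end Groth.Agent.Lib.Helper1.BKF
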