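import Mathlib
import Groth.Agent.Lib.Helper1BKF13
set_option backward.isDefEq.respectTransparency.types false

/-!
# Brutal truncations and K-flatness of bounded above complexes of flat modules
(helper1, bifunctor K-flat cluster, part 15)
-/

set_option autoImplicit false
universe u
open CategoryTheory CategoryTheory.Limits HomologicalComplex ZeroObject

namespace Groth.Agent.Lib.Helper1.BKF

section trunc

variable {A : Type*} [Category A] [Abelian A] (K : CochainComplex A ℤ) (m : ℤ)

/-- the endomorphism of `K^q` whose kernel is the `q`-th term of the brutal truncation -/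
noncomputable def te (q : ℤ) : K.X q ⟶ K.X q := if m ≤ q then 0 else 𝟙 _

lemma te_of_le {q : ℤ} (h : m ≤ q) : te K m q = 0 := if_pos h

lemma te_of_lt {q : ℤ} (h : q < m) : te K m q = 𝟙 _ := if_neg (by omega)

lemma kernel_ι_te_of_lt {q : ℤ} (h : q < m) : kernel.ι (te K m q) = 0 := by
  exact (Category.comp_id _).symm.trans
    ((congrArg (fun t => kernel.ι (te K m q) ≫ t) (te_of_lt K m h)).symm.trans
      (kernel.condition _))

lemma ι_d_te (q q' : ℤ) : kernel.ι (te K m q) ≫ K.d q q' ≫ te K m q' = 0 := by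
  by_cases hq' : m ≤ q'
  · rw [te_of_le K m hq', comp_zero, comp_zero]
  · by_cases hr : q + 1 = q'
    · rw [kernel_ι_te_of_lt K m (by omega), zero_comp]
    · rw [K.shape _ _ hr, zero_comp, comp_zero]

/-- the brutal truncation `σ_{≥ m} K` -/
noncomputable def sigmaGE : CochainComplex A ℤ where
  X q := kernel (te K m q)
  d q q' := kernel.lift _ (kernel.ι (te K m q) ≫ K.d q q')
    (by rw [Category.assoc]; exact ι_d_te K m q q')
  shape q q' h := by
    rw [← cancel_mono (kernel.ι _), kernel.lift_ι, K.shape _ _ h, comp_zero, zero_comp]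
  d_comp_d' q q' q'' _ _ := by
    rw [← cancel_mono (kernel.ι _), Category.assoc, kernel.lift_ι, kernel.lift_ι_assoc,
      Category.assoc, K.d_comp_d, comp_zero, zero_comp]

/-- the inclusion `σ_{≥ m} K ⟶ K` -/
noncomputable def sigmaGEι : sigmaGE K m ⟶ K where
  f q := kernel.ι _
  comm' _ _ _ := by
    dsimp [sigmaGE]
    rw [kernel.lift_ι]

instance mono_sigmaGEι : Mono (sigmaGEι K m) :=
  mono_of_mono_f _ (fun _ => inferInstanceAs (Mono (kernel.ι _)))

lemma isIso_sigmaGEι_f {q : ℤ} (h : m ≤ q) : IsIso ((sigmaGEι K m).f q) :=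
  kernel.ι_of_zero (te_of_le K m h)

lemma isZero_sigmaGE_X {q : ℤ} (h : q < m) : IsZero ((sigmaGE K m).X q) := by
  have : Mono (te K m q) := by rw [te_of_lt K m h]; infer_instance
  exact isZero_kernel_of_mono _

variable {m} in
lemma ι_te_of_le {m' : ℤ} (h : m' ≤ m) (q : ℤ) : kernel.ι (te K m q) ≫ te K m' q = 0 := by
  by_cases hq : m' ≤ q
  · rw [te_of_le K m' hq, comp_zero]
  · rw [kernel_ι_te_of_lt K m (by omega), zero_comp]

instance mono_sigmaGEι_f (q : ℤ) : Mono ((sigmaGEι K m).f q) :=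
  inferInstanceAs (Mono (kernel.ι _))

variable {m} in
/-- the components of the inclusion `σ_{≥ m} K ⟶ σ_{≥ m'} K` for `m' ≤ m` -/
noncomputable def sigmaGEMapf {m' : ℤ} (h : m' ≤ m) (q : ℤ) :
    (sigmaGE K m).X q ⟶ (sigmaGE K m').X q :=
  kernel.lift (te K m' q) (kernel.ι (te K m q)) (ι_te_of_le K h q)

variable {m} in
@[reassoc]
lemma sigmaGEMapf_ι {m' : ℤ} (h : m' ≤ m) (q : ℤ) :
    sigmaGEMapf K h q ≫ (sigmaGEι K m').f q = (sigmaGEι K m).f q :=
  kernel.lift_ι _ _ _

variable {m} in
/-- the inclusion `σ_{≥ m} K ⟶ σ_{≥ m'} K` for `m' ≤ m` -/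
noncomputable def sigmaGEMap {m' : ℤ} (h : m' ≤ m) : sigmaGE K m ⟶ sigmaGE K m' where
  f q := sigmaGEMapf K h q
  comm' q q' _ := by
    rw [← cancel_mono ((sigmaGEι K m').f q'), Category.assoc, Category.assoc,
      sigmaGEMapf_ι, ← (sigmaGEι K m').comm q q', sigmaGEMapf_ι_assoc,
      (sigmaGEι K m).comm q q']

variable {m} in
@[reassoc (attr := simp)]
lemma sigmaGEMap_ι {m' : ℤ} (h : m' ≤ m) : sigmaGEMap K h ≫ sigmaGEι K m' = sigmaGEι K m := by
  ext q
  exact sigmaGEMapf_ι K h q

variable {m} in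
instance mono_sigmaGEMap {m' : ℤ} (h : m' ≤ m) : Mono (sigmaGEMap K h) :=
  mono_of_mono_fac (sigmaGEMap_ι K h)

variable {m} in
lemma isIso_sigmaGEMap_f {m' : ℤ} (h : m' ≤ m) {q : ℤ} (hq : m ≤ q) :
    IsIso ((sigmaGEMap K h).f q) := by
  have h1 := isIso_sigmaGEι_f K m hq
  have h2 := isIso_sigmaGEι_f K m' (show m' ≤ q by omega)
  have w : (sigmaGEMap K h).f q ≫ (sigmaGEι K m').f q = (sigmaGEι K m).f q := by
    rw [← HomologicalComplex.comp_f, sigmaGEMap_ι]
  exact IsIso.of_isIso_fac_right w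

lemma isZero_sigmaGE (b : ℤ) (hK : ∀ q, b < q → IsZero (K.X q)) (hm : b < m) :
    IsZero (sigmaGE K m) := by
  rw [IsZero.iff_id_eq_zero]
  ext q
  by_cases hq : q < m
  · exact (isZero_sigmaGE_X K m hq).eq_of_src _ _
  · have := isIso_sigmaGEι_f K m (show m ≤ q by omega)
    exact ((hK q (by omega)).of_iso (asIso ((sigmaGEι K m).f q))).eq_of_src _ _

/-- the sequence of brutal truncations `σ_{≥ b + 1 - j} K` -/
noncomputable def sigmaSeq (b : ℤ) : ℕ ⥤ CochainComplex A ℤ where
  obj j := sigmaGE K (b + 1 - j)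
  map {j j'} f := sigmaGEMap K (show b + 1 - (j' : ℤ) ≤ b + 1 - j by
    have := leOfHom f
    omega)
  map_id j := by
    rw [← cancel_mono (sigmaGEι K _), sigmaGEMap_ι, Category.id_comp]
  map_comp f f' := by
    rw [← cancel_mono (sigmaGEι K _), Category.assoc, sigmaGEMap_ι, sigmaGEMap_ι, sigmaGEMap_ι]

/-- the cocone exhibiting `K` as the union of its brutal truncations -/
noncomputable def sigmaCocone (b : ℤ) : Cocone (sigmaSeq K b) where
  pt := K
  ι :=
    { app := fun j => sigmaGEι K _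
      naturality := fun j j' f => by
        dsimp [sigmaSeq]
        rw [sigmaGEMap_ι, Category.comp_id] }

/-- `K` is the colimit of its brutal truncations -/
noncomputable def isColimitSigmaCocone (b : ℤ) : IsColimit (sigmaCocone K b) := by
  refine isColimitOfEval _ _ (fun q => ?_)
  have hN : (sigmaSeq K b ⋙ eval A (ComplexShape.up ℤ) q).IsEventuallyConstantFrom
      (b + 1 - q).toNat := by
    intro j f
    have := leOfHom f
    exact isIso_sigmaGEMap_f K
      (show b + 1 - (j : ℤ) ≤ b + 1 - ((b + 1 - q).toNat : ℤ) by omega) (by omega)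
  haveI : IsIso (((eval A (ComplexShape.up ℤ) q).mapCocone (sigmaCocone K b)).ι.app
      (b + 1 - q).toNat) :=
    isIso_sigmaGEι_f K _ (by omega)
  exact hN.isColimitOfIsIso _

end trunc

section site

open Groth.Agent.Lib.Helper21.ModTensor3 Groth.Agent.Lib.Helper21.ModTensor5

variable {C : Type u} [SmallCategory C] {J : GrothendieckTopology C} {O : Sheaf J CommRingCat.{u}}
  (K : CochainComplex (ModSite.Mod O) ℤ) (hflat : ∀ n : ℤ, ModSite.IsFlat (K.X n))

include hflat

lemma isFlat_sigmaGE_X (m q : ℤ) : ModSite.IsFlat ((sigmaGE K m).X q) := by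
  by_cases hq : q < m
  · exact isFlat_of_isZero (isZero_sigmaGE_X K m hq)
  · have := isIso_sigmaGEι_f K m (show m ≤ q by omega)
    exact isFlat_of_iso O (asIso ((sigmaGEι K m).f q)).symm (hflat q)

lemma kff_cokernel_sigmaGEMap (m : ℤ) :
    KFF O (cokernel (sigmaGEMap K (show m - 1 ≤ m by omega))) := by
  refine kff_of_concentrated _ (m - 1) (fun q hq => ?_) ?_
  · refine IsZero.of_iso ?_
      (PreservesCokernel.iso (HomologicalComplex.eval _ (ComplexShape.up ℤ) q) _)
    by_cases hq' : m ≤ q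
    · haveI : IsIso ((HomologicalComplex.eval _ (ComplexShape.up ℤ) q).map
          (sigmaGEMap K (show m - 1 ≤ m by omega))) :=
        isIso_sigmaGEMap_f K (show m - 1 ≤ m by omega) hq'
      exact isZero_cokernel_of_epi _
    · exact IsZero.of_epi (cokernel.π _) (isZero_sigmaGE_X K (m - 1) (by omega))
  · haveI hiso := isIso_sigmaGEι_f K (m - 1) (le_refl (m - 1))
    have e : (cokernel (sigmaGEMap K (show m - 1 ≤ m by omega))).X (m - 1) ≅ K.X (m - 1) :=
      PreservesCokernel.iso (HomologicalComplex.eval _ (ComplexShape.up ℤ) (m - 1)) _ ≪≫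
        cokernelIsoOfEq (show (HomologicalComplex.eval _ (ComplexShape.up ℤ) (m - 1)).map
          (sigmaGEMap K (show m - 1 ≤ m by omega)) = 0 from
            (isZero_sigmaGE_X K m (by omega)).eq_of_src _ _) ≪≫
        cokernelZeroIsoTarget ≪≫ @asIso _ _ _ _ ((sigmaGEι K (m - 1)).f (m - 1)) hiso
    exact isFlat_of_iso O e.symm (hflat (m - 1))

lemma isKFlat_sigmaGE (b : ℤ) (hb : ∀ q, b < q → IsZero (K.X q)) (j : ℕ) :
    ModSite.IsKFlat (sigmaGE K (b + 1 - j)) := by
  induction j with
  | zero => exact isKFlat_of_isZero (isZero_sigmaGE K _ b hb (by simp))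
  | succ j ih =>
    have hm : b + 1 - ((j + 1 : ℕ) : ℤ) = (b + 1 - j) - 1 := by push_cast; ring
    rw [hm]
    generalize b + 1 - (j : ℤ) = m at ih ⊢
    have hS : (ShortComplex.mk (sigmaGEMap K (show m - 1 ≤ m by omega)) (cokernel.π _)
        (cokernel.condition _)).ShortExact :=
      ShortComplex.ShortExact.mk' (ShortComplex.exact_cokernel _) inferInstance inferInstance
    have hQ := kff_cokernel_sigmaGEMap K hflat m
    exact isKFlat_of_ses _ _ _ hS hQ.2 ih hQ.1

/-- S9058: a bounded above complex of flat modules is K-flat -/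
theorem isKFlat_of_bounded_above_flat (b : ℤ) (hb : K.IsStrictlyLE b) : ModSite.IsKFlat K :=
  isKFlat_of_isColimit_nat (sigmaSeq K b) (sigmaCocone K b) (isColimitSigmaCocone K b)
    (fun j => isKFlat_sigmaGE K hflat b (fun q hq => K.isZero_of_isStrictlyLE b q hq) j)

end site

end Groth.Agent.Lib.Helper1.BKF
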