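import Mathlib
import Groth.Agent.Lib.Helper1BKF15
set_option backward.isDefEq.respectTransparency.types false

/-!
# Cycles of an acyclic K-flat complex with flat terms are flat
(helper1, bifunctor K-flat cluster, part 16)
-/

set_option autoImplicit false
universe u
open CategoryTheory CategoryTheory.Limits HomologicalComplex ZeroObject

namespace Groth.Agent.Lib.Helper1.BKF

open Groth.Agent.Lib.Helper21.FlatCalc

section pure

variable {A : Type*} [Category A] [Abelian A]
variable (T : A ⥤ A ⥤ A) [∀ X, (T.obj X).Additive] [∀ Y, (T.flip.obj Y).Additive]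
  [∀ X, PreservesFiniteColimits (T.obj X)] [∀ Y, PreservesFiniteColimits (T.flip.obj Y)]

/-- if `S` is short exact, `S.f ⊗ G` is a monomorphism for all `G` and `S.X₂ ⊗ -` is exact,
then `S.X₃ ⊗ -` is exact -/
theorem flat_right_of_pure (S : ShortComplex A) (hS : S.ShortExact)
    (hpure : ∀ G, Mono ((T.flip.obj G).map S.f))
    (h₂ : PreservesFiniteLimits (T.obj S.X₂)) : PreservesFiniteLimits (T.obj S.X₃) := by
  apply preservesFiniteLimits_of_mono
  intro G' G j hj
  have hE : (ShortComplex.mk j (cokernel.π j) (cokernel.condition j)).ShortExact :=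
    { exact := ShortComplex.exact_cokernel j }
  have hrow1 := exact_and_epi_of_rightExact (T.obj S.X₁) _ hE
  have hcol2 := exact_and_epi_of_rightExact (T.flip.obj G) S hS
  have hcol1 := exact_and_epi_of_rightExact (T.flip.obj G') S hS
  haveI : Mono ((T.obj S.X₂).map j) := inferInstance
  haveI : Mono ((T.flip.obj (cokernel j)).map S.f) := hpure _
  haveI : Epi ((T.flip.obj G').map S.g) := hcol1.2
  exact mono_of_diagram
    ((T.obj S.X₁).map j) ((T.obj S.X₁).map (cokernel.π j))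
    ((T.obj S.X₂).map j) ((T.obj S.X₂).map (cokernel.π j))
    ((T.obj S.X₃).map j)
    ((T.flip.obj G').map S.f) ((T.flip.obj G).map S.f) ((T.flip.obj (cokernel j)).map S.f)
    ((T.flip.obj G').map S.g) ((T.flip.obj G).map S.g)
    (by rw [← Functor.map_comp, cokernel.condition, Functor.map_zero]) hrow1.1
    (by rw [← Functor.map_comp, S.zero, Functor.map_zero]) hcol2.1
    (by rw [← Functor.map_comp, S.zero, Functor.map_zero])
    ((T.map S.f).naturality j) ((T.map S.f).naturality (cokernel.π j))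
    ((T.map S.g).naturality j)
    (by rw [← Functor.map_comp, cokernel.condition, Functor.map_zero])

omit [∀ X, (T.obj X).Additive] [∀ X, PreservesFiniteColimits (T.obj X)] in
/-- purity of the inclusion of cycles -/
theorem mono_map_kernel_ι (G : A) {X₀ X₁ X₂ X₃ : A} (u : X₀ ⟶ X₁) (v : X₁ ⟶ X₂) (w : X₂ ⟶ X₃)
    (huv : u ≫ v = 0) (hvw : v ≫ w = 0) (h₂ : (ShortComplex.mk v w hvw).Exact)
    (hG : ((ShortComplex.mk u v huv).map (T.flip.obj G)).Exact) :
    Mono ((T.flip.obj G).map (kernel.ι w)) := by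
  have hp : Epi (kernel.lift w v hvw) := (ShortComplex.exact_iff_epi_kernel_lift _).1 h₂
  have hup : u ≫ kernel.lift w v hvw = 0 := by
    rw [← cancel_mono (kernel.ι w), Category.assoc, kernel.lift_ι, huv, zero_comp]
  haveI : Epi ((T.flip.obj G).map (kernel.lift w v hvw)) := inferInstance
  apply Preadditive.mono_of_cancel_zero
  intro T₀ x hx
  obtain ⟨T₁, π₁, hπ₁, y, hy⟩ :=
    surjective_up_to_refinements_of_epi ((T.flip.obj G).map (kernel.lift w v hvw)) x
  have h1 : y ≫ (T.flip.obj G).map v = 0 := by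
    rw [← kernel.lift_ι w v hvw, Functor.map_comp, ← Category.assoc, ← hy, Category.assoc, hx,
      comp_zero]
  obtain ⟨T₂, π₂, hπ₂, z, hz'⟩ : ∃ (T₂ : A) (π₂ : T₂ ⟶ T₁) (_ : Epi π₂)
      (z : T₂ ⟶ (T.flip.obj G).obj X₀), π₂ ≫ y = z ≫ (T.flip.obj G).map u :=
    hG.exact_up_to_refinements y h1
  have h2 : (π₂ ≫ π₁) ≫ x = 0 := by
    rw [Category.assoc, hy, ← Category.assoc, hz', Category.assoc, ← Functor.map_comp, hup,
      Functor.map_zero, comp_zero]
  haveI : Epi (π₂ ≫ π₁) := epi_comp' hπ₂ hπ₁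
  exact (cancel_epi (π₂ ≫ π₁)).1 (h2.trans comp_zero.symm)

/-- in an exact complex `X₀ → X₁ → X₂ → X₃ → X₄` which stays exact at `X₁` after `- ⊗ G` for
all `G` and with `X₂ ⊗ -` exact, the kernel `Z` of `X₃ → X₄` has `Z ⊗ -` exact -/
theorem flat_kernel_of_exact {X₀ X₁ X₂ X₃ X₄ : A} (d₀ : X₀ ⟶ X₁) (d₁ : X₁ ⟶ X₂) (d₂ : X₂ ⟶ X₃)
    (d₃ : X₃ ⟶ X₄) (w₀ : d₀ ≫ d₁ = 0) (w₁ : d₁ ≫ d₂ = 0) (w₂ : d₂ ≫ d₃ = 0)
    (h₂ : (ShortComplex.mk d₁ d₂ w₁).Exact) (h₃ : (ShortComplex.mk d₂ d₃ w₂).Exact)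
    (hG : ∀ G, ((ShortComplex.mk d₀ d₁ w₀).map (T.flip.obj G)).Exact)
    (hflat : PreservesFiniteLimits (T.obj X₂)) : PreservesFiniteLimits (T.obj (kernel d₃)) := by
  have hp : Epi (kernel.lift d₃ d₂ w₂) := (ShortComplex.exact_iff_epi_kernel_lift _).1 h₃
  have hz : kernel.ι d₂ ≫ kernel.lift d₃ d₂ w₂ = 0 := by
    rw [← cancel_mono (kernel.ι d₃), Category.assoc, kernel.lift_ι, kernel.condition, zero_comp]
  have hS : (ShortComplex.mk (kernel.ι d₂) (kernel.lift d₃ d₂ w₂) hz).ShortExact :=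
    ShortComplex.ShortExact.mk' (ShortComplex.exact_of_f_is_kernel _
      (isKernelOfComp (kernel.ι d₃) d₂ (kernelIsKernel d₂) hz (kernel.lift_ι _ _ _)))
      inferInstance hp
  exact flat_right_of_pure T _ hS (fun G => mono_map_kernel_ι T G d₀ d₁ d₂ w₀ w₁ h₂ (hG G)) hflat

end pure

section single

variable {C₁ C₂ D : Type*} [Category C₁] [Category C₂] [Category D]
  [Abelian C₁] [Abelian C₂] [Abelian D]
  (F : C₁ ⥤ C₂ ⥤ D) [F.Additive] [∀ X, (F.obj X).Additive]
  [∀ (K₁ : CochainComplex C₁ ℤ) (K₂ : CochainComplex C₂ ℤ),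
    HasMapBifunctor K₁ K₂ F (ComplexShape.up ℤ)]
  (L : CochainComplex C₁ ℤ) (Y : C₂) (m : ℤ)

/-- converse of `acyc_mapBifunctor_single`: if `Tot(L ⊗ Y[-m])` is acyclic then `L^• ⊗ Y` is
exact -/
theorem exact_map_of_acyc_single (hT : Acyc (mapBifunctor L (sg Y m) F (ComplexShape.up ℤ)))
    (i j k : ℤ) (hij : i + 1 = j) (hjk : j + 1 = k) :
    ((L.sc' i j k).map (F.flip.obj Y)).Exact := by
  subst hij hjk
  have h := hT (i + 1 + m)
  rw [← exactAt_iff_isZero_homology,
    exactAt_iff' _ (i + m) (i + 1 + m) (i + 1 + 1 + m) (by simp; omega) (by simp; omega)] at h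
  refine (ShortComplex.exact_iff_of_iso (ShortComplex.isoMk
    (sgIso F L Y m (i + m) i rfl) (sgIso F L Y m (i + 1 + m) (i + 1) rfl)
    (sgIso F L Y m (i + 1 + 1 + m) (i + 1 + 1) rfl) ?_ ?_)).2 h
  · exact sgι_comm F L Y m (i + m) i (i + 1 + m) (i + 1) rfl (by omega) rfl
  · exact sgι_comm F L Y m (i + 1 + m) (i + 1) (i + 1 + 1 + m) (i + 1 + 1) rfl (by omega) rfl

end single

section site

open Groth.Agent.Lib.Helper21.ModTensor3 Groth.Agent.Lib.Helper21.ModTensor5

variable {C : Type u} [SmallCategory C] {J : GrothendieckTopology C} {O : Sheaf J CommRingCat.{u}}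

lemma Acyc.of_quasiIso {A : Type*} [Category A] [Abelian A] {X Y : CochainComplex A ℤ}
    (f : X ⟶ Y) [QuasiIso f] (h : Acyc X) : Acyc Y := fun i => by
  have : IsIso (homologyMap f i) := by
    rw [← quasiIsoAt_iff_isIso_homologyMap]; infer_instance
  exact IsZero.of_iso (h i) (asIso (homologyMap f i)).symm

lemma exact_sc'_of_acyc {A : Type*} [Category A] [Abelian A] {K : CochainComplex A ℤ}
    (hac : Acyc K) (i j k : ℤ) (hij : i + 1 = j) (hjk : j + 1 = k) : (K.sc' i j k).Exact := by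
  rw [← exactAt_iff' K i j k (by simp; omega) (by simp; omega), exactAt_iff_isZero_homology]
  exact hac j

/-- tensoring an acyclic K-flat complex with any complex gives an acyclic complex -/
theorem acyc_TL_of_acyc_isKFlat (K : CochainComplex (ModSite.Mod O) ℤ) (hK : ModSite.IsKFlat K)
    (hac : Acyc K) (M : CochainComplex (ModSite.Mod O) ℤ) :
    Acyc ((TL (ModSite.tensorBi O) M).obj K) := by
  obtain ⟨M', q, hM', -, hq, -⟩ := exists_kflat_flat_resolution O M
  have h1 : QuasiIso ((TR (ModSite.tensorBi O) K).map q) := quasiIso_TR_map_of_isKFlat K hK q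
  have h2 : Acyc ((TR (ModSite.tensorBi O) K).obj M') := acyc_TL_of_isKFlat M' hM' K hac
  exact Acyc.of_quasiIso ((TR (ModSite.tensorBi O) K).map q) h2

lemma exact_map_of_acyc_isKFlat (K : CochainComplex (ModSite.Mod O) ℤ) (hK : ModSite.IsKFlat K)
    (hac : Acyc K) (G : ModSite.Mod O) (i j k : ℤ) (hij : i + 1 = j) (hjk : j + 1 = k) :
    ((K.sc' i j k).map ((ModSite.tensorBi O).flip.obj G)).Exact := by
  have h1 : Acyc (mapBifunctor (sg G 0) K (ModSite.tensorBi O) (ComplexShape.up ℤ)) :=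
    acyc_TL_of_acyc_isKFlat K hK hac (sg G 0)
  have h2 : Acyc (mapBifunctor K (sg G 0) (ModSite.tensorBi O) (ComplexShape.up ℤ)) :=
    Acyc.of_iso (symIso (ModSite.tensorBi O) (brd O) (sg G 0) K) h1
  exact exact_map_of_acyc_single (ModSite.tensorBi O) K G 0 h2 i j k hij hjk

/-- S9052: the cycles of an acyclic K-flat complex with flat terms are flat -/
theorem isFlat_cycles (K : CochainComplex (ModSite.Mod O) ℤ) (hK : ModSite.IsKFlat K)
    (hac : Acyc K) (hfl : ∀ i : ℤ, ModSite.IsFlat (K.X i)) (n : ℤ) :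
    ModSite.IsFlat (K.cycles n) := by
  have hker : PreservesFiniteLimits ((ModSite.tensorBi O).obj (kernel (K.d n (n + 1)))) :=
    flat_kernel_of_exact (ModSite.tensorBi O) (K.d (n - 3) (n - 2)) (K.d (n - 2) (n - 1))
      (K.d (n - 1) n) (K.d n (n + 1)) (K.d_comp_d _ _ _) (K.d_comp_d _ _ _) (K.d_comp_d _ _ _)
      (exact_sc'_of_acyc hac (n - 2) (n - 1) n (by omega) (by omega))
      (exact_sc'_of_acyc hac (n - 1) n (n + 1) (by omega) (by omega))
      (fun G => exact_map_of_acyc_isKFlat K hK hac G (n - 3) (n - 2) (n - 1) (by omega) (by omega))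
      ((flatL_iff_flatR (ModSite.tensorBi O) (brd O) _).2 ((isFlat_iff O _).1 (hfl (n - 1))))
  have e : K.cycles n ≅ kernel (K.d n (n + 1)) :=
    (K.cyclesIsKernel n (n + 1) (by simp)).conePointUniqueUpToIso (limit.isLimit _)
  exact isFlat_of_iso O e.symm
    ((isFlat_iff O _).2 ((flatL_iff_flatR (ModSite.tensorBi O) (brd O) _).1 hker))

end site

end Groth.Agent.Lib.Helper1.BKF
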