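import Mathlib
import Groth.Agent.Lib.Helper1BKF16
import Groth.Agent.Lib.Helper21ModTensor6
set_option backward.isDefEq.respectTransparency.types false

/-!
# Associativity of the total tensor complex on a ringed site; `Tot(K ⊗ L)` is K-flat
(helper1, bifunctor K-flat cluster, part 17)
-/

set_option autoImplicit false
universe u
open CategoryTheory CategoryTheory.Limits HomologicalComplex ZeroObject MonoidalCategory

namespace Groth.Agent.Lib.Helper1.BKF

open Groth.Agent.Lib.Helper21.ModTensor Groth.Agent.Lib.Helper21.ModTensor2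
  Groth.Agent.Lib.Helper21.ModTensor3 Groth.Agent.Lib.Helper21.ModTensor5
  Groth.Agent.Lib.Helper21.ModTensor6

variable {C : Type u} [SmallCategory C] {J : GrothendieckTopology C} (O : Sheaf J CommRingCat.{u})

theorem assocIso_nat₂ (P : PM O) {Q Q' : PM O} (R : PM O) (g : Q ⟶ Q') :
    (shf O).map (aaMap O (P ◁ g) ▷ R) ≫ (assocIso O P Q' R).hom =
      (assocIso O P Q R).hom ≫ (shf O).map (P ◁ aaMap O (g ▷ R)) := by
  have := assocIso_nat O (𝟙 P) g (𝟙 R)
  rw [id_tensorHom, tensorHom_id, tensorHom_id, id_tensorHom] at this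
  exact this

/-- the associativity constraint of `⊗_O` as an isomorphism of trifunctors -/
noncomputable def assocT :
    bifunctorComp₁₂ (ModSite.tensorBi O) (ModSite.tensorBi O) ≅
      bifunctorComp₂₃ (ModSite.tensorBi O) (ModSite.tensorBi O) :=
  NatIso.ofComponents (fun A => NatIso.ofComponents (fun B => NatIso.ofComponents
      (fun X => assocIso O ((fgt O).obj A) ((fgt O).obj B) ((fgt O).obj X))
      (fun {_ _} h => assocIso_nat₃ O ((fgt O).obj A) ((fgt O).obj B) ((fgt O).map h)))
    (fun {_ _} g => NatTrans.ext (funext fun X =>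
      assocIso_nat₂ O ((fgt O).obj A) ((fgt O).obj X) ((fgt O).map g))))
    (fun {_ _} f => NatTrans.ext (funext fun B => NatTrans.ext (funext fun X =>
      assocIso_nat₁ O ((fgt O).obj B) ((fgt O).obj X) ((fgt O).map f))))

variable {O}

instance preservesColimitsOfShape_discrete_zero_tR (N : ModSite.Mod O) (ι : Type) :
    PreservesColimitsOfShape (Discrete ι) ((ModSite.tensorBi O).flip.obj N) := by
  haveI : PreservesColimitsOfSize.{0, 0} (tR O N) := preservesColimitsOfSize_shrink.{0, u, 0, u} _
  infer_instance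

instance preservesColimitsOfShape_discrete_zero_tL (N : ModSite.Mod O) (ι : Type) :
    PreservesColimitsOfShape (Discrete ι) ((ModSite.tensorBi O).obj N) := by
  haveI : PreservesColimitsOfSize.{0, 0} (tL O N) := preservesColimitsOfSize_shrink.{0, u, 0, u} _
  infer_instance

instance hasGood₁₂ (K₁ K₂ K₃ : CochainComplex (ModSite.Mod O) ℤ) :
    HasGoodTrifunctor₁₂Obj (ModSite.tensorBi O) (ModSite.tensorBi O) K₁ K₂ K₃
      (ComplexShape.up ℤ) (ComplexShape.up ℤ) :=
  fun _ _ => inferInstance

instance hasGood₂₃ (K₁ K₂ K₃ : CochainComplex (ModSite.Mod O) ℤ) :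
    HasGoodTrifunctor₂₃Obj (ModSite.tensorBi O) (ModSite.tensorBi O) K₁ K₂ K₃
      (ComplexShape.up ℤ) (ComplexShape.up ℤ) (ComplexShape.up ℤ) :=
  fun _ _ => inferInstance

/-- associativity of the total tensor complex -/
noncomputable def totAssoc (K₁ K₂ K₃ : CochainComplex (ModSite.Mod O) ℤ) :
    mapBifunctor (mapBifunctor K₁ K₂ (ModSite.tensorBi O) (ComplexShape.up ℤ)) K₃
        (ModSite.tensorBi O) (ComplexShape.up ℤ) ≅
      mapBifunctor K₁ (mapBifunctor K₂ K₃ (ModSite.tensorBi O) (ComplexShape.up ℤ))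
        (ModSite.tensorBi O) (ComplexShape.up ℤ) :=
  mapBifunctorAssociator (assocT O) K₁ K₂ K₃ (ComplexShape.up ℤ) (ComplexShape.up ℤ)
    (ComplexShape.up ℤ)

/-- S9055: the total tensor complex of two K-flat complexes is K-flat -/
theorem isKFlat_tensorCx (K L : CochainComplex (ModSite.Mod O) ℤ) (hK : ModSite.IsKFlat K)
    (hL : ModSite.IsKFlat L) : ModSite.IsKFlat (((ModSite.tensorCx O).obj K).obj L) := by
  intro M hM
  exact Acyc.of_iso (totAssoc M K L)
    (hL (mapBifunctor M K (ModSite.tensorBi O) (ComplexShape.up ℤ)) (hK M hM))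

end Groth.Agent.Lib.Helper1.BKF
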