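import Mathlib
import Groth.Prelude.Def_ModSite
import Groth.Agent.Lib.Helper21ExtZero5

/-!
# Helper21: `j_!` is faithful; restriction of a flat module is flat (S6147)
-/

open CategoryTheory MonoidalCategory Opposite Limits

universe u

namespace Groth.Agent.Lib.Helper21.ExtZero

variable {C : Type u} [SmallCategory C] {R : Cᵒᵖ ⥤ RingCat.{u}} {U : C}
  (G : PresheafOfModules.{u} (RU R U))

theorem ιE_injective (X : Cᵒᵖ) (φ : X.unop ⟶ U) : Function.Injective (ιE G X φ) := by
  classical
  exact DirectSum.of_injective (β := fun φ : X.unop ⟶ U => cmp G X φ) φ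

theorem resMap_eq_zero_of {X Y : Cᵒᵖ} (f : X ⟶ Y) (φ : X.unop ⟶ U) (ψ : Y.unop ⟶ U)
    (h : f.unop ≫ φ = ψ) (x : cmp G X φ) (hx : resMap G f φ _ rfl x = 0) :
    resMap G f φ ψ h x = 0 := by
  subst h
  exact hx

end Groth.Agent.Lib.Helper21.ExtZero

namespace Groth.Agent.Lib.Helper21.ExtZeroS

open Groth.Agent.Lib.Helper21.ModTensor Groth.Agent.Lib.Helper21.ModTensor2
  Groth.Agent.Lib.Helper21.ModTensor3 Groth.Agent.Lib.Helper21.ModTensor4
  Groth.Agent.Lib.Helper21.ModTensor5
  Groth.Agent.Lib.Helper21.ModTensor6 Groth.Agent.Lib.Helper21.ModRestr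
  Groth.Agent.Lib.Helper21.ExtZero

variable {C : Type u} [SmallCategory C] {J : GrothendieckTopology C} (O : Sheaf J CommRingCat.{u})
  (U : C)

/-- the key injectivity: a section of a sheaf `P` on `C/U`, placed in one component of `E P`, is zero
as soon as it becomes zero in the sheafification. -/
theorem eq_zero_of_eta_ιE_eq_zero (P : ModSite.Mod (O.over U)) (A : (Over U)ᵒᵖ)
    (x : P.val.obj A)
    (hx : (eta O ((Es O U).obj ((fgt (O.over U)).obj P))).app (op A.unop.left)
      (ιE (R := O.obj ⋙ forget₂ CommRingCat.{u} RingCat.{u}) ((fgt (O.over U)).obj P)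
        (op A.unop.left) A.unop.hom x) = 0) : x = 0 := by
  set G : PM (O.over U) := (fgt (O.over U)).obj P with hG
  set y := ιE (R := O.obj ⋙ forget₂ CommRingCat.{u} RingCat.{u}) G (op A.unop.left) A.unop.hom x
    with hy
  -- Step 1: the equalizer sieve is covering
  have hts : (PresheafOfModules.toPresheaf _).map (eta O ((Es O U).obj G)) =
      CategoryTheory.toSheafify J ((Es O U).obj G).presheaf :=
    PresheafOfModules.toPresheaf_map_sheafificationAdjunction_unit_app.{u}
      (J := J) (R₀ := (ModSite.ringSh O).obj) (R := ModSite.ringSh O)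
      (𝟙 (ModSite.ringSh O).obj) ((Es O U).obj G)
  have h1 : (CategoryTheory.toSheafify J ((Es O U).obj G).presheaf).app (op A.unop.left) y =
      (CategoryTheory.toSheafify J ((Es O U).obj G).presheaf).app (op A.unop.left) 0 := by
    rw [← hts, map_zero]
    exact hx
  have hS := Presheaf.equalizerSieve_mem J
    (CategoryTheory.toSheafify J ((Es O U).obj G).presheaf) y 0 h1
  -- Step 3: the corresponding sieve on `A` in `C/U`
  have hS' := J.overEquiv_symm_mem_over A.unop _ hS
  -- Step 4: separatedness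
  have hsep : Presheaf.IsSeparated (J.over U) P.val.presheaf :=
    Presheaf.IsSheaf.isSeparated P.isSheaf
  refine hsep A.unop _ hS' x 0 ?_
  intro B b hb
  rw [Sieve.overEquiv_symm_iff] at hb
  -- hb : (E G).map b.left.op y = (E G).map b.left.op 0
  have hb' : ((Es O U).obj G).presheaf.map b.left.op y =
      ((Es O U).obj G).presheaf.map b.left.op 0 := hb
  rw [map_zero] at hb'
  have h2 : (E (R := O.obj ⋙ forget₂ CommRingCat.{u} RingCat.{u}) G).map b.left.op y =
      ιE (R := O.obj ⋙ forget₂ CommRingCat.{u} RingCat.{u}) G (op B.left) _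
        (resMap (R := O.obj ⋙ forget₂ CommRingCat.{u} RingCat.{u}) G b.left.op A.unop.hom _ rfl x) :=
    E_map_ιE (R := O.obj ⋙ forget₂ CommRingCat.{u} RingCat.{u}) G b.left.op A.unop.hom _ rfl x
  have h3 : ιE (R := O.obj ⋙ forget₂ CommRingCat.{u} RingCat.{u}) G (op B.left) _
      (resMap (R := O.obj ⋙ forget₂ CommRingCat.{u} RingCat.{u}) G b.left.op A.unop.hom _ rfl x)
      = 0 := h2.symm.trans hb'
  have h4 : resMap (R := O.obj ⋙ forget₂ CommRingCat.{u} RingCat.{u}) G b.left.op A.unop.hom _
      rfl x = 0 := by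
    apply ιE_injective (R := O.obj ⋙ forget₂ CommRingCat.{u} RingCat.{u}) G (op B.left)
    rw [h3]
    exact (ιc_zero (R₀ := O.obj) (U := U) G (op B.left) _).symm
  have h5 := resMap_eq_zero_of (R := O.obj ⋙ forget₂ CommRingCat.{u} RingCat.{u}) G b.left.op
    A.unop.hom B.hom (Over.w b) x h4
  rw [map_zero]
  exact h5

theorem fgt_map_unit_app_apply (P : ModSite.Mod (O.over U)) (A : (Over U)ᵒᵖ) (x : P.val.obj A) :
    ((fgt (O.over U)).map ((jShriekAdj O U).unit.app P)).app A x =
      (eta O ((Es O U).obj ((fgt (O.over U)).obj P))).app (op A.unop.left)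
        (ιE (R := O.obj ⋙ forget₂ CommRingCat.{u} RingCat.{u}) ((fgt (O.over U)).obj P)
          (op A.unop.left) A.unop.hom x) := by
  have h := Adjunction.map_restrictFullyFaithful_unit_app ((EsAdj O U).comp (adj O))
    (SheafOfModules.fullyFaithfulForget (ModSite.ringSh (O.over U))) (Functor.FullyFaithful.id _)
    (Functor.rightUnitor _).symm (Functor.leftUnitor _ ≪≫ fgtResIso O U) P
  have h' : (fgt (O.over U)).map ((jShriekAdj O U).unit.app P) = _ := h
  rw [h']
  rfl

instance mono_unit_app (P : ModSite.Mod (O.over U)) : Mono ((jShriekAdj O U).unit.app P) := by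
  haveI : (fgt (O.over U)).Faithful :=
    (SheafOfModules.fullyFaithfulForget (ModSite.ringSh (O.over U))).faithful
  apply (fgt (O.over U)).mono_of_mono_map
  apply PresheafOfModules.mono_of_injective
  intro A
  rw [injective_iff_map_eq_zero]
  intro x hx
  rw [fgt_map_unit_app_apply] at hx
  exact eq_zero_of_eta_ιE_eq_zero O U P A x hx

instance jShriek_faithful : (jShriek O U).Faithful :=
  (jShriekAdj O U).faithful_L_of_mono_unit_app

/-- S6147: the restriction of a flat module is flat. -/
theorem isFlat_restr (M : ModSite.Mod O) (hM : ModSite.IsFlat M) :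
    ModSite.IsFlat ((ModSite.restr O U).obj M) := by
  rw [isFlat_iff] at hM ⊢
  apply FlatCalc.preservesFiniteLimits_of_mono
  intro P P' f hf
  haveI : Mono ((jShriek O U ⋙ tR O M).map f) := by
    haveI : PreservesFiniteLimits (jShriek O U ⋙ tR O M) := inferInstance
    infer_instance
  have h1 : Mono ((tR (O.over U) ((ModSite.restr O U).obj M) ⋙ jShriek O U).map f) :=
    ((MorphismProperty.monomorphisms _).arrow_mk_iso_iff
      (Arrow.isoMk ((projR O U M).app P) ((projR O U M).app P')
        ((projR O U M).hom.naturality f).symm)).2 (inferInstanceAs (Mono _))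
  have h2 : Mono ((jShriek O U).map ((tR (O.over U) ((ModSite.restr O U).obj M)).map f)) := h1
  exact (jShriek O U).mono_of_mono_map h2

end Groth.Agent.Lib.Helper21.ExtZeroS
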