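import Mathlib
import Groth.Prelude.Def_TotMap
import Groth.Agent.Lib.Helper1BKF17
import Groth.Agent.Lib.Helper21ExtZero6
set_option backward.isDefEq.respectTransparency.types false

/-!
# Restriction of a K-flat complex to a localised ringed site is K-flat
(helper1, bifunctor K-flat cluster, part 18)
-/

set_option autoImplicit false
universe u
open CategoryTheory CategoryTheory.Limits HomologicalComplex ZeroObject

namespace Groth.Agent.Lib.Helper1.BKF

section glue

variable {C₁ C₂ C₁' C₂' D D' : Type*} [Category C₁] [Category C₂] [Category C₁'] [Category C₂']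
  [Category D] [Category D']
  [HasZeroMorphisms C₁] [HasZeroMorphisms C₂] [HasZeroMorphisms C₁'] [HasZeroMorphisms C₂']
  [Preadditive D] [Preadditive D']
  {I₁ I₂ : Type*} {c₁ : ComplexShape I₁} {c₂ : ComplexShape I₂}

set_option backward.isDefEq.respectTransparency false in
/-- precomposition in the second variable: all components are identities -/
noncomputable def precompIso₂ (F : C₁ ⥤ C₂ ⥤ D) [F.PreservesZeroMorphisms]
    [∀ X₁, (F.obj X₁).PreservesZeroMorphisms] (G₂ : C₂' ⥤ C₂) [G₂.PreservesZeroMorphisms]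
    [(F ⋙ (Functor.whiskeringLeft C₂' C₂ D).obj G₂).PreservesZeroMorphisms]
    [∀ X₁, ((F ⋙ (Functor.whiskeringLeft C₂' C₂ D).obj G₂).obj X₁).PreservesZeroMorphisms]
    (K₁ : HomologicalComplex C₁ c₁) (K₂ : HomologicalComplex C₂' c₂) :
    ((F.mapBifunctorHomologicalComplex c₁ c₂).obj K₁).obj ((G₂.mapHomologicalComplex c₂).obj K₂) ≅
      (((F ⋙ (Functor.whiskeringLeft C₂' C₂ D).obj G₂).mapBifunctorHomologicalComplex c₁ c₂).obj
        K₁).obj K₂ :=
  HomologicalComplex.Hom.isoOfComponents
    (fun i₁ => HomologicalComplex.Hom.isoOfComponents (fun i₂ => Iso.refl _) (fun i₂ i₂' _ => by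
      simp only [Iso.refl_hom, Category.id_comp, Category.comp_id]; rfl))
    (fun i₁ i₁' _ => HomologicalComplex.hom_ext _ _ (fun i₂ => by
      simp only [HomologicalComplex.comp_f, HomologicalComplex.Hom.isoOfComponents_hom_f, Iso.refl_hom,
        Category.id_comp, Category.comp_id]; rfl))

set_option backward.isDefEq.respectTransparency false in
/-- precomposition in the first variable: all components are identities -/
noncomputable def precompIso₁ (F : C₁ ⥤ C₂ ⥤ D) [F.PreservesZeroMorphisms]
    [∀ X₁, (F.obj X₁).PreservesZeroMorphisms] (G₁ : C₁' ⥤ C₁) [G₁.PreservesZeroMorphisms]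
    [(G₁ ⋙ F).PreservesZeroMorphisms] [∀ X₁, ((G₁ ⋙ F).obj X₁).PreservesZeroMorphisms]
    (K₁ : HomologicalComplex C₁' c₁) (K₂ : HomologicalComplex C₂ c₂) :
    ((F.mapBifunctorHomologicalComplex c₁ c₂).obj ((G₁.mapHomologicalComplex c₁).obj K₁)).obj K₂ ≅
      (((G₁ ⋙ F).mapBifunctorHomologicalComplex c₁ c₂).obj K₁).obj K₂ :=
  HomologicalComplex.Hom.isoOfComponents
    (fun i₁ => HomologicalComplex.Hom.isoOfComponents (fun i₂ => Iso.refl _) (fun i₂ i₂' _ => by
      simp only [Iso.refl_hom, Category.id_comp, Category.comp_id]; rfl))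
    (fun i₁ i₁' _ => HomologicalComplex.hom_ext _ _ (fun i₂ => by
      simp only [HomologicalComplex.comp_f, HomologicalComplex.Hom.isoOfComponents_hom_f, Iso.refl_hom,
        Category.id_comp, Category.comp_id]; rfl))

end glue

section site

open Groth.Agent.Lib.Helper21.ModTensor3 Groth.Agent.Lib.Helper21.ModTensor5
  Groth.Agent.Lib.Helper21.ExtZeroS

variable {C : Type u} [SmallCategory C] {J : GrothendieckTopology C} (O : Sheaf J CommRingCat.{u})
  (U : C)

instance preservesColimits_jShriek : PreservesColimitsOfSize.{u, u} (jShriek O U) :=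
  (jShriekAdj O U).leftAdjoint_preservesColimits

instance preservesFiniteColimits_jShriek : PreservesFiniteColimits (jShriek O U) :=
  PreservesColimitsOfSize.preservesFiniteColimits.{u, u} _

instance additive_jShriek : (jShriek O U).Additive :=
  Groth.Agent.Lib.Helper21.ModTensor4.additive_of_preservesFiniteColimits _

instance additive_restr : (ModSite.restr O U).Additive := by
  haveI : PreservesBinaryBiproducts (ModSite.restr O U) :=
    preservesBinaryBiproducts_of_preservesBinaryProducts _
  exact Functor.additive_of_preservesBinaryBiproducts _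

/-- `(P, N) ↦ P ⊗ N|_U` -/
noncomputable abbrev midBi : ModSite.Mod (O.over U) ⥤ ModSite.Mod O ⥤ ModSite.Mod (O.over U) :=
  ModSite.tensorBi (O.over U) ⋙ (Functor.whiskeringLeft _ _ _).obj (ModSite.restr O U)

/-- `(P, N) ↦ j_!(P ⊗ N|_U)` -/
noncomputable abbrev srcBi : ModSite.Mod (O.over U) ⥤ ModSite.Mod O ⥤ ModSite.Mod O :=
  midBi O U ⋙ (Functor.whiskeringRight _ _ _).obj (jShriek O U)

/-- `(P, N) ↦ j_! P ⊗ N` -/
noncomputable abbrev tgtBi : ModSite.Mod (O.over U) ⥤ ModSite.Mod O ⥤ ModSite.Mod O :=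
  jShriek O U ⋙ ModSite.tensorBi O

instance preservesZeroMorphisms_midBi_obj (P : ModSite.Mod (O.over U)) :
    ((midBi O U).obj P).PreservesZeroMorphisms :=
  (inferInstance : (ModSite.restr O U ⋙
    (ModSite.tensorBi (O.over U)).obj P).PreservesZeroMorphisms)

instance preservesZeroMorphisms_srcBi_obj (P : ModSite.Mod (O.over U)) :
    ((srcBi O U).obj P).PreservesZeroMorphisms :=
  (inferInstance : ((ModSite.restr O U ⋙
    (ModSite.tensorBi (O.over U)).obj P) ⋙ jShriek O U).PreservesZeroMorphisms)

instance preservesZeroMorphisms_tgtBi_obj (P : ModSite.Mod (O.over U)) :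
    ((tgtBi O U).obj P).PreservesZeroMorphisms :=
  (inferInstance : ((ModSite.tensorBi O).obj ((jShriek O U).obj P)).PreservesZeroMorphisms)

/-- the projection formula as an isomorphism of bifunctors -/
noncomputable def projBi : srcBi O U ≅ tgtBi O U :=
  NatIso.ofComponents (fun P => NatIso.ofComponents (fun N => projIsoS O U P N)
      (fun {_ _} g => projIsoS_nat_right O U P g))
    (fun {_ _} f => NatTrans.ext (funext fun N => projIsoS_nat_left O U N f))

section transfer

variable {O U}

instance preservesTotal_jShriek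
    (B : HomologicalComplex₂ (ModSite.Mod (O.over U)) (ComplexShape.up ℤ) (ComplexShape.up ℤ)) :
    TotMap.PreservesTotal (jShriek O U) B (ComplexShape.up ℤ) := fun n => by
  haveI : PreservesColimitsOfSize.{0, 0} (jShriek O U) :=
    preservesColimitsOfSize_shrink.{0, u, 0, u} _
  infer_instance

/-- an exact faithful functor reflects acyclicity -/
lemma acyc_of_acyc_map {A B : Type*} [Category A] [Category B] [Abelian A] [Abelian B]
    (F : A ⥤ B) [F.Additive] [PreservesFiniteLimits F] [PreservesFiniteColimits F] [F.Faithful]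
    (X : CochainComplex A ℤ)
    (h : Acyc ((F.mapHomologicalComplex (ComplexShape.up ℤ)).obj X)) : Acyc X := by
  intro n
  rw [← exactAt_iff_isZero_homology, exactAt_iff' _ (n - 1) n (n + 1) (by simp) (by simp)]
  have h1 := exact_sc'_of_acyc h (n - 1) n (n + 1) (by omega) rfl
  exact ((X.sc' (n - 1) n (n + 1)).exact_map_iff_of_faithful F).1 h1

/-- an exact functor preserves acyclicity -/
lemma acyc_map_of_acyc {A B : Type*} [Category A] [Category B] [Abelian A] [Abelian B]
    (F : A ⥤ B) [F.Additive] [PreservesFiniteLimits F] [PreservesFiniteColimits F]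
    (X : CochainComplex A ℤ) (h : Acyc X) :
    Acyc ((F.mapHomologicalComplex (ComplexShape.up ℤ)).obj X) := by
  intro n
  rw [← exactAt_iff_isZero_homology, exactAt_iff' _ (n - 1) n (n + 1) (by simp) (by simp)]
  exact (exact_sc'_of_acyc h (n - 1) n (n + 1) (by omega) rfl).map F

variable (L : CochainComplex (ModSite.Mod (O.over U)) ℤ) (K : CochainComplex (ModSite.Mod O) ℤ)

/-- the bicomplex `L^p ⊗ (K|_U)^q` -/
noncomputable abbrev B₁ :=
  (((ModSite.tensorBi (O.over U)).mapBifunctorHomologicalComplex (ComplexShape.up ℤ)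
    (ComplexShape.up ℤ)).obj L).obj
      (((ModSite.restr O U).mapHomologicalComplex (ComplexShape.up ℤ)).obj K)

/-- the bicomplex `j_! L^p ⊗ K^q` -/
noncomputable abbrev B₄ :=
  (((ModSite.tensorBi O).mapBifunctorHomologicalComplex (ComplexShape.up ℤ)
    (ComplexShape.up ℤ)).obj (((jShriek O U).mapHomologicalComplex (ComplexShape.up ℤ)).obj L)).obj K

/-- S9054, core: `Tot(L ⊗ K|_U)` is acyclic for `L` acyclic on `C/U` and `K` K-flat on `C` -/
theorem acyc_mapBifunctor_restr (hK : ModSite.IsKFlat K) (hL : Acyc L) :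
    Acyc (mapBifunctor L (((ModSite.restr O U).mapHomologicalComplex (ComplexShape.up ℤ)).obj K)
      (ModSite.tensorBi (O.over U)) (ComplexShape.up ℤ)) := by
  apply acyc_of_acyc_map (jShriek O U)
  haveI h1 : ((TotMap.map₂ (jShriek O U) (ComplexShape.up ℤ) (ComplexShape.up ℤ)).obj
      (B₁ L K)).HasTotal (ComplexShape.up ℤ) :=
    TotMap.hasTotal_map₂ (jShriek O U) (B₁ L K) (ComplexShape.up ℤ)
  let e₂ : (TotMap.map₂ (jShriek O U) (ComplexShape.up ℤ) (ComplexShape.up ℤ)).obj (B₁ L K) ≅
      (((srcBi O U).mapBifunctorHomologicalComplex (ComplexShape.up ℤ)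
        (ComplexShape.up ℤ)).obj L).obj K :=
    (TotMap.map₂ (jShriek O U) (ComplexShape.up ℤ) (ComplexShape.up ℤ)).mapIso
        (precompIso₂ (ModSite.tensorBi (O.over U)) (ModSite.restr O U) L K) ≪≫
      (TotMap.mapBifunctorPostcompIso (midBi O U) (jShriek O U) L K).symm
  haveI h2 : HasMapBifunctor L K (srcBi O U) (ComplexShape.up ℤ) :=
    HomologicalComplex₂.hasTotal_of_iso e₂ (ComplexShape.up ℤ)
  let e₄ : B₄ L K ≅ (((tgtBi O U).mapBifunctorHomologicalComplex (ComplexShape.up ℤ)
        (ComplexShape.up ℤ)).obj L).obj K :=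
    precompIso₁ (ModSite.tensorBi O) (jShriek O U) L K
  haveI h3 : HasMapBifunctor L K (tgtBi O U) (ComplexShape.up ℤ) :=
    HomologicalComplex₂.hasTotal_of_iso e₄ (ComplexShape.up ℤ)
  have iso := TotMap.mapTotalIso (jShriek O U) (B₁ L K) (ComplexShape.up ℤ) ≪≫
    HomologicalComplex₂.total.mapIso e₂ (ComplexShape.up ℤ) ≪≫
    TotMap.mapBifunctorNatIso L K (ComplexShape.up ℤ) (projBi O U) ≪≫
    (HomologicalComplex₂.total.mapIso e₄ (ComplexShape.up ℤ)).symm
  exact Acyc.of_iso iso.symm
    (hK (((jShriek O U).mapHomologicalComplex (ComplexShape.up ℤ)).obj L)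
      (acyc_map_of_acyc (jShriek O U) L hL))

/-- S9054: the restriction of a K-flat complex to `C/U` is K-flat -/
theorem isKFlat_restr (hK : ModSite.IsKFlat K) :
    ModSite.IsKFlat (((ModSite.restr O U).mapHomologicalComplex (ComplexShape.up ℤ)).obj K) :=
  fun L hL => acyc_mapBifunctor_restr L K hK hL

end transfer

end site

end Groth.Agent.Lib.Helper1.BKF
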