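import Mathlib
import Groth.Prelude.Def_TotMap
import Groth.Prelude.Def_DDual2
import Groth.Agent.Lib.Helper1BKF18
set_option backward.isDefEq.respectTransparency.types false

/-!
# Base change of K-flat complexes of modules along a ring map (helper1)
-/

set_option autoImplicit false
set_option linter.style.haveILetI false
universe u
open CategoryTheory CategoryTheory.Limits HomologicalComplex MonoidalCategory

namespace Groth.Agent.Lib.Helper1.KBC

open Groth.Agent.Lib.Helper1.BKF

variable {R R' : Type u} [CommRing R] [CommRing R'] (φ : R →+* R')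

/-- restriction of scalars -/
noncomputable abbrev res : ModuleCat.{u} R' ⥤ ModuleCat.{u} R := ModuleCat.restrictScalars.{u} φ

/-- extension of scalars -/
noncomputable abbrev ext : ModuleCat.{u} R ⥤ ModuleCat.{u} R' := ModuleCat.extendScalars.{u, u, u} φ

/-- `(N, M) ↦ N ⊗ ext M` -/
noncomputable abbrev F₁ : ModuleCat.{u} R' ⥤ ModuleCat.{u} R ⥤ ModuleCat.{u} R' :=
  curriedTensor (ModuleCat.{u} R') ⋙ (Functor.whiskeringLeft _ _ _).obj (ext φ)

/-- `(N, M) ↦ res (N ⊗ ext M)` -/
noncomputable abbrev F₂ : ModuleCat.{u} R' ⥤ ModuleCat.{u} R ⥤ ModuleCat.{u} R :=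
  F₁ φ ⋙ (Functor.whiskeringRight _ _ _).obj (res φ)

/-- `(N, M) ↦ res N ⊗ M` -/
noncomputable abbrev F₃ : ModuleCat.{u} R' ⥤ ModuleCat.{u} R ⥤ ModuleCat.{u} R :=
  res φ ⋙ curriedTensor (ModuleCat.{u} R)

instance (N : ModuleCat.{u} R') : ((F₃ φ).obj N).PreservesZeroMorphisms :=
  (inferInstance : ((curriedTensor (ModuleCat.{u} R)).obj ((res φ).obj N)).PreservesZeroMorphisms)

instance (N : ModuleCat.{u} R') : ((F₁ φ).obj N).PreservesZeroMorphisms :=
  (inferInstance : (ext φ ⋙ (curriedTensor (ModuleCat.{u} R')).obj N).PreservesZeroMorphisms)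

instance (N : ModuleCat.{u} R') : ((F₂ φ).obj N).PreservesZeroMorphisms :=
  (inferInstance : ((ext φ ⋙ (curriedTensor (ModuleCat.{u} R')).obj N) ⋙
    res φ).PreservesZeroMorphisms)

section iso

open Functor.LaxMonoidal TensorProduct ChangeOfRings

variable (N : ModuleCat.{u} R') (M : ModuleCat.{u} R)

example : ((F₂ φ).obj N).obj M = (res φ).obj (N ⊗ (ext φ).obj M) := rfl
example : ((F₃ φ).obj N).obj M = ((res φ).obj N ⊗ M : ModuleCat.{u} R) := rfl

/-- the projection formula morphism `res N ⊗ M ⟶ res (N ⊗ ext M)` -/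
noncomputable def pf : ((res φ).obj N ⊗ M : ModuleCat.{u} R) ⟶ (res φ).obj (N ⊗ (ext φ).obj M) :=
  ((res φ).obj N ◁ (ModuleCat.extendRestrictScalarsAdj.{u, u, u} φ).unit.app M) ≫
    μ (res φ) N ((ext φ).obj M)

set_option backward.isDefEq.respectTransparency false in
lemma pf_tmul (n : (res φ).obj N) (m : M) :
    (pf φ N M).hom (n ⊗ₜ m) =
      (show ((res φ).obj (MonoidalCategory.tensorObj N ((ext φ).obj M)) : ModuleCat.{u} R) from
        (show N from n) ⊗ₜ[R'] ((1 : R') ⊗ₜ[R,φ] m)) := by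
  have h1 : ((res φ).obj N ◁ (ModuleCat.extendRestrictScalarsAdj.{u, u, u} φ).unit.app M).hom
      (n ⊗ₜ m) = n ⊗ₜ ((ModuleCat.extendRestrictScalarsAdj.{u, u, u} φ).unit.app M).hom m :=
    ModuleCat.MonoidalCategory.whiskerLeft_apply _ _ _ _
  have h2 := ModuleCat.restrictScalars_μ_tmul φ N ((ext φ).obj M) (show N from n)
    (((1 : R') ⊗ₜ[R,φ] m))
  change (μ (res φ) N ((ext φ).obj M)).hom
    (((res φ).obj N ◁ (ModuleCat.extendRestrictScalarsAdj.{u, u, u} φ).unit.app M).hom (n ⊗ₜ m)) = _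
  rw [h1]
  exact h2

set_option backward.isDefEq.respectTransparency false in
lemma pf_bijective : Function.Bijective (pf φ N M).hom := by
  letI : Algebra R R' := φ.toAlgebra
  letI : Module R N := Module.compHom N φ
  haveI : IsScalarTower R R' N := ⟨fun r s n => by
    change (φ r * s) • n = φ r • (s • n)
    rw [mul_smul]⟩
  let e := (TensorProduct.AlgebraTensorModule.cancelBaseChange R R' R' N M).symm
  have h : ∀ t, (pf φ N M).hom t = e t := by
    intro t
    induction t using TensorProduct.induction_on with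
    | zero => rw [map_zero]; exact (map_zero e).symm
    | tmul n m => exact pf_tmul φ N M n m
    | add a b ha hb => rw [map_add, ha, hb]; exact (map_add e a b).symm
  have h' : ⇑(pf φ N M).hom = ⇑e := funext h
  rw [h']
  exact e.bijective

instance isIso_pf : IsIso (pf φ N M) :=
  (ConcreteCategory.isIso_iff_bijective _).2 (pf_bijective φ N M)

end iso

section nat

open Functor.LaxMonoidal

lemma pf_naturality_right (N : ModuleCat.{u} R') {M M' : ModuleCat.{u} R} (g : M ⟶ M') :
    ((F₃ φ).obj N).map g ≫ pf φ N M' = pf φ N M ≫ ((F₂ φ).obj N).map g := by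
  change ((res φ).obj N ◁ g) ≫ pf φ N M' = pf φ N M ≫ (res φ).map (N ◁ (ext φ).map g)
  dsimp only [pf]
  have h1 := (ModuleCat.extendRestrictScalarsAdj.{u, u, u} φ).unit.naturality g
  have h2 := μ_natural_right (res φ) N ((ext φ).map g)
  dsimp at h1
  rw [Category.assoc, ← h2, ← MonoidalCategory.whiskerLeft_comp_assoc,
    ← MonoidalCategory.whiskerLeft_comp_assoc, h1]

lemma pf_naturality_left {N N' : ModuleCat.{u} R'} (h : N ⟶ N') (M : ModuleCat.{u} R) :
    ((F₃ φ).map h).app M ≫ pf φ N' M = pf φ N M ≫ ((F₂ φ).map h).app M := by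
  change ((res φ).map h ▷ M) ≫ pf φ N' M = pf φ N M ≫ (res φ).map (h ▷ (ext φ).obj M)
  dsimp only [pf]
  have h2 := μ_natural_left (res φ) h ((ext φ).obj M)
  rw [Category.assoc, ← h2, ← MonoidalCategory.whisker_exchange_assoc]
  rfl

/-- the projection formula as an isomorphism of bifunctors -/
noncomputable def pfIso : F₃ φ ≅ F₂ φ :=
  NatIso.ofComponents (fun N => NatIso.ofComponents (fun M => asIso (pf φ N M))
      (fun {_ _} g => pf_naturality_right φ N g))
    (fun {_ _} h => NatTrans.ext (funext fun M => pf_naturality_left φ h M))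

end nat

section cx

variable (L : CochainComplex (ModuleCat.{u} R') ℤ) (K : CochainComplex (ModuleCat.{u} R) ℤ)

/-- the bicomplex `L^p ⊗ ext K^q` -/
noncomputable abbrev B₁ :=
  (((curriedTensor (ModuleCat.{u} R')).mapBifunctorHomologicalComplex (ComplexShape.up ℤ)
    (ComplexShape.up ℤ)).obj L).obj (((ext φ).mapHomologicalComplex (ComplexShape.up ℤ)).obj K)

/-- the bicomplex `res L^p ⊗ K^q` -/
noncomputable abbrev B₄ :=
  (((curriedTensor (ModuleCat.{u} R)).mapBifunctorHomologicalComplex (ComplexShape.up ℤ)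
    (ComplexShape.up ℤ)).obj (((res φ).mapHomologicalComplex (ComplexShape.up ℤ)).obj L)).obj K

/-- base change of a K-flat complex is K-flat -/
theorem acyc_mapBifunctor_ext
    (hK : ∀ L₀ : CochainComplex (ModuleCat.{u} R) ℤ, Acyc L₀ →
      Acyc (mapBifunctor L₀ K (curriedTensor (ModuleCat.{u} R)) (ComplexShape.up ℤ)))
    (hL : Acyc L) :
    Acyc (mapBifunctor L (((ext φ).mapHomologicalComplex (ComplexShape.up ℤ)).obj K)
      (curriedTensor (ModuleCat.{u} R')) (ComplexShape.up ℤ)) := by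
  apply acyc_of_acyc_map (res φ)
  haveI h1 : ((TotMap.map₂ (res φ) (ComplexShape.up ℤ) (ComplexShape.up ℤ)).obj
      (B₁ φ L K)).HasTotal (ComplexShape.up ℤ) :=
    TotMap.hasTotal_map₂ (res φ) (B₁ φ L K) (ComplexShape.up ℤ)
  let e₂ : (TotMap.map₂ (res φ) (ComplexShape.up ℤ) (ComplexShape.up ℤ)).obj (B₁ φ L K) ≅
      (((F₂ φ).mapBifunctorHomologicalComplex (ComplexShape.up ℤ)
        (ComplexShape.up ℤ)).obj L).obj K :=
    (TotMap.map₂ (res φ) (ComplexShape.up ℤ) (ComplexShape.up ℤ)).mapIso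
        (precompIso₂ (curriedTensor (ModuleCat.{u} R')) (ext φ) L K) ≪≫
      (TotMap.mapBifunctorPostcompIso (F₁ φ) (res φ) L K).symm
  haveI h2 : HasMapBifunctor L K (F₂ φ) (ComplexShape.up ℤ) :=
    HomologicalComplex₂.hasTotal_of_iso e₂ (ComplexShape.up ℤ)
  let e₄ : B₄ φ L K ≅ (((F₃ φ).mapBifunctorHomologicalComplex (ComplexShape.up ℤ)
        (ComplexShape.up ℤ)).obj L).obj K :=
    precompIso₁ (curriedTensor (ModuleCat.{u} R)) (res φ) L K
  haveI h3 : HasMapBifunctor L K (F₃ φ) (ComplexShape.up ℤ) :=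
    HomologicalComplex₂.hasTotal_of_iso e₄ (ComplexShape.up ℤ)
  have iso := TotMap.mapTotalIso (res φ) (B₁ φ L K) (ComplexShape.up ℤ) ≪≫
    HomologicalComplex₂.total.mapIso e₂ (ComplexShape.up ℤ) ≪≫
    TotMap.mapBifunctorNatIso L K (ComplexShape.up ℤ) (pfIso φ).symm ≪≫
    (HomologicalComplex₂.total.mapIso e₄ (ComplexShape.up ℤ)).symm
  exact Acyc.of_iso iso.symm
    (hK (((res φ).mapHomologicalComplex (ComplexShape.up ℤ)).obj L)
      (acyc_map_of_acyc (res φ) L hL))

end cx

end Groth.Agent.Lib.Helper1.KBC
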