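import Mathlib
import Groth.Agent.Lib.Helper1TorDim
import Groth.Agent.Lib.Helper1LBC2

set_option autoImplicit false
set_option maxHeartbeats 400000
set_option linter.style.haveILetI false
set_option linter.unusedVariables false
universe u
open CategoryTheory CategoryTheory.Limits MonoidalCategory
attribute [local instance] HasDerivedCategory.standard

namespace Groth.Agent.Lib.Helper1.RelBC

open DerivedCategory Pretriangulated Groth.Agent.Lib.Helper1.Tor ZeroObject TensorProduct
open Groth.Agent.Lib.Helper1.Restrict Groth.Agent.Lib.Helper1.TorDim Groth.Agent.Lib.Helper1.LDer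

attribute [local instance] Algebra.TensorProduct.rightAlgebra

section
variable {R R' A : Type u} [CommRing R] [CommRing R'] [CommRing A] [Algebra R R'] [Algebra R A]

/-- the equivalence `N' ⊗[R] X ≃ N' ⊗[R'] ((R' ⊗[R] A) ⊗[A] X)` -/
noncomputable def eqv (N' X : Type u) [AddCommGroup N'] [Module R' N'] [Module R N']
    [IsScalarTower R R' N'] [AddCommGroup X] [Module A X] [Module R X] [IsScalarTower R A X] :
    N' ⊗[R] X ≃ₗ[R'] N' ⊗[R'] ((R' ⊗[R] A) ⊗[A] X) :=
  (AlgebraTensorModule.cancelBaseChange R R' R' N' X).symm ≪≫ₗ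
    TensorProduct.congr (LinearEquiv.refl R' N')
      (Algebra.IsPushout.cancelBaseChange R R' A (R' ⊗[R] A) X).symm

lemma eqv_tmul (N' X : Type u) [AddCommGroup N'] [Module R' N'] [Module R N']
    [IsScalarTower R R' N'] [AddCommGroup X] [Module A X] [Module R X] [IsScalarTower R A X]
    (n : N') (x : X) : eqv (R := R) (R' := R') (A := A) N' X (n ⊗ₜ x) = n ⊗ₜ ((1 : R' ⊗[R] A) ⊗ₜ x) := by
  simp [eqv, Algebra.TensorProduct.one_def]

variable (R R' A) in
/-- the coprojection `A → R' ⊗[R] A` -/
noncomputable abbrev inr : A →+* R' ⊗[R] A := Algebra.TensorProduct.includeRight.toRingHom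

/-- bridge between the categorical extension of scalars (restricted to `R'`) and the tensor
product -/
noncomputable def br (X : ModuleCat.{u} A) :
    ((ModuleCat.restrictScalars.{u} (algebraMap R' (R' ⊗[R] A))).obj
      ((ModuleCat.extendScalars.{u, u, u} (inr R R' A)).obj X)) ≃ₗ[R'] (R' ⊗[R] A) ⊗[A] X where
  toFun x := bcEquiv (inr R R' A) X x
  invFun y := (bcEquiv (inr R R' A) X).symm y
  left_inv x := (bcEquiv (inr R R' A) X).symm_apply_apply x
  right_inv y := (bcEquiv (inr R R' A) X).apply_symm_apply y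
  map_add' x y := (bcEquiv (inr R R' A) X).map_add x y
  map_smul' r x := by
    let x' : ((ModuleCat.extendScalars.{u, u, u} (inr R R' A)).obj X) := x
    exact ((bcEquiv (inr R R' A) X).map_smul (algebraMap R' (R' ⊗[R] A) r) x').trans
      (algebraMap_smul (R' ⊗[R] A) r (bcEquiv (inr R R' A) X x'))

/-- the `R`-module structure on an `R'`-module -/
noncomputable abbrev RN (N' : ModuleCat.{u} R') : ModuleCat.{u} R :=
  (ModuleCat.restrictScalars.{u} (algebraMap R R')).obj N'

noncomputable abbrev RX (X : ModuleCat.{u} A) : ModuleCat.{u} R :=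
  (ModuleCat.restrictScalars.{u} (algebraMap R A)).obj X

noncomputable abbrev REX (X : ModuleCat.{u} A) : ModuleCat.{u} R' :=
  (ModuleCat.restrictScalars.{u} (algebraMap R' (R' ⊗[R] A))).obj
      ((ModuleCat.extendScalars.{u, u, u} (inr R R' A)).obj X)

/-- the comparison equivalence on categorical objects -/
noncomputable def E (N' : ModuleCat.{u} R') (X : ModuleCat.{u} A) :
    (RN (R := R) N' : Type u) ⊗[R] (RX (R := R) X : Type u) ≃+ N' ⊗[R'] (REX (R := R) (R' := R') X : Type u) :=
  letI : Module R N' := Module.compHom N' (algebraMap R R')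
  haveI : IsScalarTower R R' N' := IsScalarTower.of_algebraMap_smul (fun r m => rfl)
  letI : Module R X := Module.compHom X (algebraMap R A)
  haveI : IsScalarTower R A X := IsScalarTower.of_algebraMap_smul (fun r m => rfl)
  ((eqv (R := R) (R' := R') (A := A) N' X) ≪≫ₗ
    TensorProduct.congr (LinearEquiv.refl R' N') (br (R := R) (R' := R') X).symm).toAddEquiv

lemma E_tmul (N' : ModuleCat.{u} R') (X : ModuleCat.{u} A) (n : N') (x : X) :
    E (R := R) N' X (n ⊗ₜ x) = n ⊗ₜ (show (REX (R := R) (R' := R') X : Type u) from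
      ((1 : R' ⊗[R] A) ⊗ₜ[A] x)) := by
  letI : Module R N' := Module.compHom N' (algebraMap R R')
  haveI : IsScalarTower R R' N' := IsScalarTower.of_algebraMap_smul (fun r m => rfl)
  letI : Module R X := Module.compHom X (algebraMap R A)
  haveI : IsScalarTower R A X := IsScalarTower.of_algebraMap_smul (fun r m => rfl)
  show (TensorProduct.congr (LinearEquiv.refl R' N') (br (R := R) (R' := R') X).symm)
    (eqv (R := R) (R' := R') (A := A) N' X (n ⊗ₜ x)) = _
  rw [eqv_tmul, TensorProduct.congr_tmul]
  rfl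

/-- the map `res (ext f)` -/
noncomputable abbrev resext {X Y : ModuleCat.{u} A} (f : X ⟶ Y) :
    REX (R := R) (R' := R') X ⟶ REX (R := R) (R' := R') Y :=
  (ModuleCat.restrictScalars.{u} (algebraMap R' (R' ⊗[R] A))).map
    ((ModuleCat.extendScalars.{u, u, u} (inr R R' A)).map f)

lemma E_nat (N' : ModuleCat.{u} R') {X Y : ModuleCat.{u} A} (f : X ⟶ Y)
    (t : (RN (R := R) N' : Type u) ⊗[R] (RX (R := R) X : Type u)) :
    ((resext (R := R) (R' := R') f).hom.lTensor N') (E (R := R) N' X t) =
      E (R := R) N' Y ((((ModuleCat.restrictScalars.{u} (algebraMap R A)).map f).hom.lTensor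
        (RN (R := R) N')) t) := by
  induction t using TensorProduct.induction_on with
  | zero => simp
  | add x y hx hy => simp only [map_add, hx, hy]
  | tmul n x =>
    rw [LinearMap.lTensor_tmul, E_tmul]
    erw [E_tmul]
    rw [LinearMap.lTensor_tmul]
    rfl

lemma exact_transfer (N' : ModuleCat.{u} R') {X Y Z : ModuleCat.{u} A} (f : X ⟶ Y) (g : Y ⟶ Z)
    (h : Function.Exact
      (((ModuleCat.restrictScalars.{u} (algebraMap R A)).map f).hom.lTensor (RN (R := R) N'))
      (((ModuleCat.restrictScalars.{u} (algebraMap R A)).map g).hom.lTensor (RN (R := R) N'))) :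
    Function.Exact ((resext (R := R) (R' := R') f).hom.lTensor N')
      ((resext (R := R) (R' := R') g).hom.lTensor N') :=
  exact_of_ladder _ _ _ _ (E (R := R) N' X).toEquiv (E (R := R) N' Y).toEquiv
    (E (R := R) N' Z).toEquiv (map_zero (E (R := R) N' Z)) (fun t => E_nat N' f t)
    (fun t => E_nat N' g t) h

theorem torVan_res_bc (P : DRing.Cx A) (a b : ℤ)
    (h : TorVan ((DRing.restrictCx (algebraMap R A)).obj P) a b) :
    TorVan ((DRing.restrictCx (algebraMap R' (R' ⊗[R] A))).obj ((bcCx (inr R R' A)).obj P)) a b := by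
  intro N' i hi
  rw [exactAt_TC_iff N' _ (i - 1) i (i + 1) (by lia) rfl]
  have h1 := h (RN (R := R) N') i hi
  rw [exactAt_TC_iff _ _ (i - 1) i (i + 1) (by lia) rfl] at h1
  exact exact_transfer N' (P.d (i - 1) i) (P.d i (i + 1)) h1

end

end Groth.Agent.Lib.Helper1.RelBC
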