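import Mathlib
set_option backward.isDefEq.respectTransparency.types false

/-!
# Stalks of the sectionwise tensor product of presheaves of modules (helper1)
-/

set_option autoImplicit false
universe u
open CategoryTheory TopCat TopologicalSpace Opposite TensorProduct MonoidalCategory

namespace Groth.Agent.Lib.Helper1.StalkTensor

variable {X : TopCat.{u}} {R : X.Presheaf CommRingCat.{u}}

/-- presheaves of modules over a presheaf of commutative rings on a space -/
abbrev PMod (R : X.Presheaf CommRingCat.{u}) := PresheafOfModules.{u} (R ⋙ forget₂ CommRingCat RingCat)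

variable (P Q : PMod R) (x : X)

/-- the stalk of a presheaf of modules, as a type -/
abbrev St : Type u := ↑(TopCat.Presheaf.stalk P.presheaf x)

/-- the stalk of the presheaf of rings -/
abbrev Rx (R : X.Presheaf CommRingCat.{u}) (x : X) : Type u := ↑(R.stalk x)

noncomputable example : Module (Rx R x) (St P x) := inferInstance

/-- germ map as an additive map -/
noncomputable def gm (U : Opens X) (hx : x ∈ U) : P.obj (op U) →+ St P x :=
  (TopCat.Presheaf.germ P.presheaf U x hx).hom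

/-- germ map of the ring -/
noncomputable def gr (R : X.Presheaf CommRingCat.{u}) (x : X) (U : Opens X) (hx : x ∈ U) :
    R.obj (op U) →+* Rx R x :=
  (R.germ U x hx).hom

/-- restriction -/
noncomputable def rs {U V : Opens X} (i : V ⟶ U) : P.obj (op U) →+ P.obj (op V) :=
  (P.presheaf.map i.op).hom

noncomputable def rr (R : X.Presheaf CommRingCat.{u}) {U V : Opens X} (i : V ⟶ U) :
    R.obj (op U) →+* R.obj (op V) :=
  (R.map i.op).hom

variable {P Q x}

lemma gm_rs {U V : Opens X} (i : V ⟶ U) (hx : x ∈ V) (p : P.obj (op U)) :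
    gm P x V hx (rs P i p) = gm P x U (i.le hx) p :=
  TopCat.Presheaf.germ_res_apply P.presheaf i x hx p

lemma gr_rr {U V : Opens X} (i : V ⟶ U) (hx : x ∈ V) (r : R.obj (op U)) :
    gr R x V hx (rr R i r) = gr R x U (i.le hx) r :=
  TopCat.Presheaf.germ_res_apply R i x hx r

lemma gm_smul {U : Opens X} (hx : x ∈ U) (r : R.obj (op U)) (p : P.obj (op U)) :
    gm P x U hx (r • p) = gr R x U hx r • gm P x U hx p :=
  PresheafOfModules.germ_smul P x U hx r p

lemma rs_smul {U V : Opens X} (i : V ⟶ U) (r : R.obj (op U)) (p : P.obj (op U)) :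
    rs P i (r • p) = rr R i r • rs P i p :=
  P.map_smul i.op r p

lemma exists_gm_eq (a : St P x) : ∃ (U : Opens X) (hx : x ∈ U) (p : P.obj (op U)), gm P x U hx p = a :=
  TopCat.Presheaf.exists_germ_eq P.presheaf a

lemma exists_gr_eq (a : Rx R x) : ∃ (U : Opens X) (hx : x ∈ U) (r : R.obj (op U)), gr R x U hx r = a :=
  TopCat.Presheaf.exists_germ_eq R a

lemma gm_eq {U V : Opens X} (hU : x ∈ U) (hV : x ∈ V) (p : P.obj (op U)) (p' : P.obj (op V))
    (h : gm P x U hU p = gm P x V hV p') :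
    ∃ (W : Opens X) (_ : x ∈ W) (iU : W ⟶ U) (iV : W ⟶ V), rs P iU p = rs P iV p' :=
  TopCat.Presheaf.germ_eq P.presheaf x hU hV p p' h


/-! ### the tensor product presheaf -/

variable (P Q) in
/-- pure tensors as sections of `P ⊗ Q` -/
def tm {U : Opens X} (p : P.obj (op U)) (q : Q.obj (op U)) : (P ⊗ Q).obj (op U) :=
  p ⊗ₜ[R.obj (op U)] q

lemma rs_tm {U V : Opens X} (i : V ⟶ U) (p : P.obj (op U)) (q : Q.obj (op U)) :
    rs (P ⊗ Q) i (tm P Q p q) = tm P Q (rs P i p) (rs Q i q) := rfl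

lemma tm_add_left {U : Opens X} (p p' : P.obj (op U)) (q : Q.obj (op U)) :
    tm P Q (p + p') q = tm P Q p q + tm P Q p' q := TensorProduct.add_tmul _ _ _

lemma tm_add_right {U : Opens X} (p : P.obj (op U)) (q q' : Q.obj (op U)) :
    tm P Q p (q + q') = tm P Q p q + tm P Q p q' := TensorProduct.tmul_add _ _ _

lemma tm_smul {U : Opens X} (r : R.obj (op U)) (p : P.obj (op U)) (q : Q.obj (op U)) :
    tm P Q (r • p) q = tm P Q p (r • q) := TensorProduct.smul_tmul _ _ _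

lemma smul_tm {U : Opens X} (r : R.obj (op U)) (p : P.obj (op U)) (q : Q.obj (op U)) :
    (r • tm P Q p q : (P ⊗ Q).obj (op U)) = tm P Q (r • p) q := TensorProduct.smul_tmul' _ _ _

lemma tm_induction {U : Opens X} {motive : (P ⊗ Q).obj (op U) → Prop}
    (zero : motive 0) (tmul : ∀ p q, motive (tm P Q p q))
    (add : ∀ s t, motive s → motive t → motive (s + t)) (t : (P ⊗ Q).obj (op U)) : motive t :=
  TensorProduct.induction_on (R := R.obj (op U)) (M := P.obj (op U)) (N := Q.obj (op U)) t zero tmul add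


/-! ### common representatives -/

lemma exists_rep₂ (a : St P x) (b : St Q x) :
    ∃ (W : Opens X) (hW : x ∈ W) (p : P.obj (op W)) (q : Q.obj (op W)),
      gm P x W hW p = a ∧ gm Q x W hW q = b := by
  obtain ⟨U, hU, p, rfl⟩ := exists_gm_eq a
  obtain ⟨V, hV, q, rfl⟩ := exists_gm_eq b
  refine ⟨U ⊓ V, ⟨hU, hV⟩, rs P (homOfLE inf_le_left) p, rs Q (homOfLE inf_le_right) q, ?_, ?_⟩
  · exact gm_rs _ _ _
  · exact gm_rs _ _ _

lemma exists_rep₃ {P' : PMod R} (a : St P x) (a' : St P' x) (b : St Q x) :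
    ∃ (W : Opens X) (hW : x ∈ W) (p : P.obj (op W)) (p' : P'.obj (op W)) (q : Q.obj (op W)),
      gm P x W hW p = a ∧ gm P' x W hW p' = a' ∧ gm Q x W hW q = b := by
  obtain ⟨U, hU, p, p', rfl, rfl⟩ := exists_rep₂ a a'
  obtain ⟨V, hV, q, rfl⟩ := exists_gm_eq b
  refine ⟨U ⊓ V, ⟨hU, hV⟩, rs P (homOfLE inf_le_left) p, rs P' (homOfLE inf_le_left) p',
    rs Q (homOfLE inf_le_right) q, ?_, ?_, ?_⟩
  · exact gm_rs _ _ _
  · exact gm_rs _ _ _
  · exact gm_rs _ _ _

lemma exists_rep_r (r : Rx R x) (a : St P x) (b : St Q x) :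
    ∃ (W : Opens X) (hW : x ∈ W) (c : R.obj (op W)) (p : P.obj (op W)) (q : Q.obj (op W)),
      gr R x W hW c = r ∧ gm P x W hW p = a ∧ gm Q x W hW q = b := by
  obtain ⟨U, hU, p, q, rfl, rfl⟩ := exists_rep₂ a b
  obtain ⟨V, hV, c, rfl⟩ := exists_gr_eq r
  refine ⟨U ⊓ V, ⟨hU, hV⟩, rr R (homOfLE inf_le_right) c, rs P (homOfLE inf_le_left) p,
    rs Q (homOfLE inf_le_left) q, ?_, ?_, ?_⟩
  · exact gr_rr _ _ _
  · exact gm_rs _ _ _
  · exact gm_rs _ _ _

/-! ### the map `(P ⊗ Q)_x → P_x ⊗ Q_x` -/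

variable (P Q x) in
/-- the map on sections over `U` -/
noncomputable def α₀ (U : Opens X) (hx : x ∈ U) :
    (P ⊗ Q).obj (op U) →+ St P x ⊗[Rx R x] St Q x :=
  TensorProduct.liftAddHom (R := R.obj (op U)) (M := P.obj (op U)) (N := Q.obj (op U))
    (AddMonoidHom.mk' (fun p => AddMonoidHom.mk' (fun q => gm P x U hx p ⊗ₜ[Rx R x] gm Q x U hx q)
      (fun q q' => by rw [map_add, TensorProduct.tmul_add]))
      (fun p p' => by ext q; simp [TensorProduct.add_tmul]))
    (fun r p q => by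
      simp only [AddMonoidHom.mk'_apply]
      rw [gm_smul, gm_smul, TensorProduct.smul_tmul])

lemma α₀_tm {U : Opens X} (hx : x ∈ U) (p : P.obj (op U)) (q : Q.obj (op U)) :
    α₀ P Q x U hx (tm P Q p q) = gm P x U hx p ⊗ₜ[Rx R x] gm Q x U hx q := rfl

lemma α₀_rs {U V : Opens X} (i : V ⟶ U) (hx : x ∈ V) (t : (P ⊗ Q).obj (op U)) :
    α₀ P Q x V hx (rs (P ⊗ Q) i t) = α₀ P Q x U (i.le hx) t := by
  induction t using tm_induction with
  | zero => simp
  | tmul p q => rw [rs_tm, α₀_tm, α₀_tm, gm_rs, gm_rs]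
  | add s t hs ht => rw [map_add, map_add, map_add, hs, ht]


variable (P Q x) in
/-- the cocone defining `α` -/
noncomputable def αCocone : Limits.Cocone ((OpenNhds.inclusion x).op ⋙ (P ⊗ Q).presheaf) where
  pt := AddCommGrpCat.of (St P x ⊗[Rx R x] St Q x)
  ι :=
    { app := fun U => AddCommGrpCat.ofHom (α₀ P Q x U.unop.1 U.unop.2)
      naturality := fun U V f => by
        ext t
        exact α₀_rs (P := P) (Q := Q) (x := x) ((OpenNhds.inclusion x).map f.unop) V.unop.property t }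

variable (P Q x) in
/-- the comparison map `(P ⊗ Q)_x → P_x ⊗ Q_x` -/
noncomputable def α : St (P ⊗ Q) x →+ St P x ⊗[Rx R x] St Q x :=
  (Limits.colimit.desc _ (αCocone P Q x)).hom

lemma α_gm {U : Opens X} (hx : x ∈ U) (t : (P ⊗ Q).obj (op U)) :
    α P Q x (gm (P ⊗ Q) x U hx t) = α₀ P Q x U hx t := by
  have := Limits.colimit.ι_desc (αCocone P Q x) (op ⟨U, hx⟩)
  have h2 := ConcreteCategory.congr_hom this t
  rw [ConcreteCategory.comp_apply] at h2
  exact h2

lemma α_gm_tm {U : Opens X} (hx : x ∈ U) (p : P.obj (op U)) (q : Q.obj (op U)) :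
    α P Q x (gm (P ⊗ Q) x U hx (tm P Q p q)) = gm P x U hx p ⊗ₜ[Rx R x] gm Q x U hx q := by
  rw [α_gm, α₀_tm]


/-! ### the inverse map -/

lemma rs_rs {U V W : Opens X} (i : V ⟶ U) (j : W ⟶ V) (p : P.obj (op U)) :
    rs P j (rs P i p) = rs P (j ≫ i) p := by
  have : P.presheaf.map (j ≫ i).op = P.presheaf.map i.op ≫ P.presheaf.map j.op := by
    rw [← Functor.map_comp]; rfl
  change _ = (P.presheaf.map (j ≫ i).op).hom p
  rw [this]
  rfl

lemma gm_tm_congr {U V : Opens X} (hU : x ∈ U) (hV : x ∈ V) (p : P.obj (op U)) (q : Q.obj (op U))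
    (p' : P.obj (op V)) (q' : Q.obj (op V)) (hp : gm P x U hU p = gm P x V hV p')
    (hq : gm Q x U hU q = gm Q x V hV q') :
    gm (P ⊗ Q) x U hU (tm P Q p q) = gm (P ⊗ Q) x V hV (tm P Q p' q') := by
  obtain ⟨W₁, h₁, i₁, j₁, e₁⟩ := gm_eq hU hV p p' hp
  obtain ⟨W₂, h₂, i₂, j₂, e₂⟩ := gm_eq hU hV q q' hq
  let W := W₁ ⊓ W₂
  have hW : x ∈ W := ⟨h₁, h₂⟩
  let k₁ : W ⟶ W₁ := homOfLE inf_le_left
  let k₂ : W ⟶ W₂ := homOfLE inf_le_right
  rw [← gm_rs (k₁ ≫ i₁) hW, ← gm_rs (k₁ ≫ j₁) hW, rs_tm, rs_tm]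
  have e₁' : rs P (k₁ ≫ i₁) p = rs P (k₁ ≫ j₁) p' := by
    rw [← rs_rs, ← rs_rs, e₁]
  have e₂' : rs Q (k₁ ≫ i₁) q = rs Q (k₁ ≫ j₁) q' := by
    have a1 : (k₁ ≫ i₁) = (k₂ ≫ i₂) := Subsingleton.elim _ _
    have a2 : (k₁ ≫ j₁) = (k₂ ≫ j₂) := Subsingleton.elim _ _
    rw [a1, a2, ← rs_rs, ← rs_rs, e₂]
  rw [e₁', e₂']

variable (P Q x) in
/-- the value of the inverse map on a pair of germs, by choice of representatives -/
noncomputable def β₀ (a : St P x) (b : St Q x) : St (P ⊗ Q) x :=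
  gm (P ⊗ Q) x (exists_rep₂ a b).choose (exists_rep₂ a b).choose_spec.choose
    (tm P Q (exists_rep₂ a b).choose_spec.choose_spec.choose
      (exists_rep₂ a b).choose_spec.choose_spec.choose_spec.choose)

lemma β₀_gm {W : Opens X} (hW : x ∈ W) (p : P.obj (op W)) (q : Q.obj (op W)) :
    β₀ P Q x (gm P x W hW p) (gm Q x W hW q) = gm (P ⊗ Q) x W hW (tm P Q p q) := by
  have h := (exists_rep₂ (gm P x W hW p) (gm Q x W hW q)).choose_spec.choose_spec.choose_spec.choose_spec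
  exact gm_tm_congr _ _ _ _ _ _ h.1 h.2

lemma β₀_add_left (a a' : St P x) (b : St Q x) : β₀ P Q x (a + a') b = β₀ P Q x a b + β₀ P Q x a' b := by
  obtain ⟨W, hW, p, p', q, rfl, rfl, rfl⟩ := exists_rep₃ a a' b
  rw [← map_add, β₀_gm, β₀_gm, β₀_gm, tm_add_left, map_add]

lemma β₀_add_right (a : St P x) (b b' : St Q x) : β₀ P Q x a (b + b') = β₀ P Q x a b + β₀ P Q x a b' := by
  obtain ⟨W, hW, q, q', p, rfl, rfl, rfl⟩ := exists_rep₃ b b' a
  rw [← map_add, β₀_gm, β₀_gm, β₀_gm, tm_add_right, map_add]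

lemma β₀_smul (r : Rx R x) (a : St P x) (b : St Q x) : β₀ P Q x (r • a) b = β₀ P Q x a (r • b) := by
  obtain ⟨W, hW, c, p, q, rfl, rfl, rfl⟩ := exists_rep_r r a b
  rw [← gm_smul, ← gm_smul, β₀_gm, β₀_gm, tm_smul]

variable (P Q x) in
/-- the inverse comparison map `P_x ⊗ Q_x → (P ⊗ Q)_x` -/
noncomputable def β : St P x ⊗[Rx R x] St Q x →+ St (P ⊗ Q) x :=
  TensorProduct.liftAddHom
    (AddMonoidHom.mk' (fun a => AddMonoidHom.mk' (fun b => β₀ P Q x a b) (β₀_add_right a))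
      (fun a a' => by ext b; exact β₀_add_left a a' b))
    (fun r a b => β₀_smul r a b)

lemma β_tmul (a : St P x) (b : St Q x) : β P Q x (a ⊗ₜ b) = β₀ P Q x a b := rfl

lemma β_α (t : St (P ⊗ Q) x) : β P Q x (α P Q x t) = t := by
  obtain ⟨U, hU, τ, rfl⟩ := exists_gm_eq t
  induction τ using tm_induction with
  | zero => simp
  | tmul p q => rw [α_gm_tm, β_tmul, β₀_gm]
  | add s t hs ht => rw [map_add, map_add, map_add, hs, ht]

lemma α_β (z : St P x ⊗[Rx R x] St Q x) : α P Q x (β P Q x z) = z := by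
  induction z using TensorProduct.induction_on with
  | zero => simp
  | tmul a b =>
    obtain ⟨W, hW, p, q, rfl, rfl⟩ := exists_rep₂ a b
    rw [β_tmul, β₀_gm, α_gm_tm]
  | add s t hs ht => rw [map_add, map_add, hs, ht]

variable (P Q x) in
/-- `(P ⊗ Q)_x ≃ P_x ⊗ Q_x` as additive groups -/
noncomputable def αEquiv : St (P ⊗ Q) x ≃+ St P x ⊗[Rx R x] St Q x :=
  { α P Q x with
    invFun := β P Q x
    left_inv := β_α
    right_inv := α_β }

lemma α_bijective : Function.Bijective (α P Q x) := (αEquiv P Q x).bijective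


/-! ### linearity and naturality -/

lemma gm_surj_smul (r : Rx R x) (a : St P x) :
    ∃ (W : Opens X) (hW : x ∈ W) (c : R.obj (op W)) (p : P.obj (op W)),
      gr R x W hW c = r ∧ gm P x W hW p = a := by
  obtain ⟨W, hW, c, p, _, h1, h2, _⟩ := exists_rep_r (Q := P) r a a
  exact ⟨W, hW, c, p, h1, h2⟩

lemma α_smul (r : Rx R x) (t : St (P ⊗ Q) x) : α P Q x (r • t) = r • α P Q x t := by
  obtain ⟨W, hW, c, τ, rfl, rfl⟩ := gm_surj_smul r t
  rw [← gm_smul]
  induction τ using tm_induction with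
  | zero => simp
  | tmul p q =>
    rw [smul_tm, α_gm_tm, α_gm_tm, gm_smul, TensorProduct.smul_tmul']
  | add s t hs ht => rw [smul_add, map_add, map_add, map_add, map_add, smul_add, hs, ht]

variable (P Q x) in
/-- `(P ⊗ Q)_x ≃ P_x ⊗ Q_x` as modules over the stalk of the ring -/
noncomputable def αLin : St (P ⊗ Q) x ≃ₗ[Rx R x] St P x ⊗[Rx R x] St Q x :=
  { αEquiv P Q x with
    map_smul' := α_smul }

lemma αLin_apply (t : St (P ⊗ Q) x) : αLin P Q x t = α P Q x t := rfl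

/-- the map induced on stalks by a morphism of presheaves of modules -/
noncomputable def sm {P P' : PMod R} (φ : P ⟶ P') (x : X) : St P x →+ St P' x :=
  ((TopCat.Presheaf.stalkFunctor Ab x).map ((PresheafOfModules.toPresheaf _).map φ)).hom

lemma sm_gm {P P' : PMod R} (φ : P ⟶ P') {U : Opens X} (hx : x ∈ U) (p : P.obj (op U)) :
    sm φ x (gm P x U hx p) = gm P' x U hx (φ.app (op U) p) :=
  TopCat.Presheaf.stalkFunctor_map_germ_apply U x hx ((PresheafOfModules.toPresheaf _).map φ) p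

lemma sm_smul {P P' : PMod R} (φ : P ⟶ P') (r : Rx R x) (a : St P x) :
    sm φ x (r • a) = r • sm φ x a := by
  obtain ⟨W, hW, c, p, rfl, rfl⟩ := gm_surj_smul r a
  rw [← gm_smul, sm_gm, sm_gm, map_smul, gm_smul]

/-- the linear map induced on stalks -/
noncomputable def smₗ {P P' : PMod R} (φ : P ⟶ P') (x : X) : St P x →ₗ[Rx R x] St P' x :=
  { sm φ x with map_smul' := sm_smul φ }

lemma smₗ_apply {P P' : PMod R} (φ : P ⟶ P') (a : St P x) : smₗ φ x a = sm φ x a := rfl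

lemma whiskerRight_app_tm {P P' : PMod R} (φ : P ⟶ P') (Q : PMod R) {U : Opens X}
    (p : P.obj (op U)) (q : Q.obj (op U)) :
    (φ ▷ Q).app (op U) (tm P Q p q) = tm P' Q (φ.app (op U) p) q := rfl

lemma whiskerLeft_app_tm (P : PMod R) {Q Q' : PMod R} (ψ : Q ⟶ Q') {U : Opens X}
    (p : P.obj (op U)) (q : Q.obj (op U)) :
    (P ◁ ψ).app (op U) (tm P Q p q) = tm P Q' p (ψ.app (op U) q) := rfl

lemma α_nat_left {P P' : PMod R} (φ : P ⟶ P') (Q : PMod R) (t : St (P ⊗ Q) x) :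
    α P' Q x (sm (φ ▷ Q) x t) = LinearMap.rTensor (St Q x) (smₗ φ x) (α P Q x t) := by
  obtain ⟨U, hU, τ, rfl⟩ := exists_gm_eq t
  induction τ using tm_induction with
  | zero => simp
  | tmul p q =>
    rw [sm_gm, whiskerRight_app_tm, α_gm_tm, α_gm_tm, LinearMap.rTensor_tmul, smₗ_apply, sm_gm]
  | add s t hs ht => simp only [map_add, hs, ht]

lemma α_nat_right (P : PMod R) {Q Q' : PMod R} (ψ : Q ⟶ Q') (t : St (P ⊗ Q) x) :
    α P Q' x (sm (P ◁ ψ) x t) = LinearMap.lTensor (St P x) (smₗ ψ x) (α P Q x t) := by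
  obtain ⟨U, hU, τ, rfl⟩ := exists_gm_eq t
  induction τ using tm_induction with
  | zero => simp
  | tmul p q =>
    rw [sm_gm, whiskerLeft_app_tm, α_gm_tm, α_gm_tm, LinearMap.lTensor_tmul, smₗ_apply, sm_gm]
  | add s t hs ht => simp only [map_add, hs, ht]

end Groth.Agent.Lib.Helper1.StalkTensor
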