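import Mathlib
import Groth.Agent.Lib.Helper1StalkTensorA
set_option backward.isDefEq.respectTransparency.types false

/-!
# Skyscraper presheaves of modules on a ringed space (helper1)

For a point `x` of a space `X` with a presheaf of commutative rings `R` and an `R_x`-module `N`,
the skyscraper presheaf of modules `U ↦ (x ∈ U → N)`; morphisms `P ⟶ sky_x N` correspond to
`R_x`-linear maps `P_x → N`.
-/

set_option autoImplicit false
universe u
open CategoryTheory TopCat TopologicalSpace Opposite

namespace Groth.Agent.Lib.Helper1.Sky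

open Groth.Agent.Lib.Helper1.StalkTensor

variable {X : TopCat.{u}} (R : X.Presheaf CommRingCat.{u}) (x : X)

/-- sections of the skyscraper presheaf with value `N` at `x` over `U` -/
def SkyT (_R : X.Presheaf CommRingCat.{u}) (x : X) (N : Type u) (U : Opens X) : Type u :=
  PLift (x ∈ U) → N

namespace SkyT

variable {R x} {N : Type u} [AddCommGroup N] [Module (Rx R x) N] {U : Opens X}

instance : AddCommGroup (SkyT R x N U) := inferInstanceAs (AddCommGroup (PLift (x ∈ U) → N))

variable (R U) in
/-- evaluation of a section of the skyscraper -/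
def ev (s : SkyT R x N U) (hx : x ∈ U) : N := s ⟨hx⟩

/-- constructor -/
def mk (f : x ∈ U → N) : SkyT R x N U := fun h => f h.down

@[simp] lemma ev_mk (f : x ∈ U → N) (hx : x ∈ U) : ev R U (mk f) hx = f hx := rfl

@[ext] lemma ext {s t : SkyT R x N U} (h : ∀ hx : x ∈ U, ev R U s hx = ev R U t hx) : s = t :=
  funext fun hx => h hx.down

@[simp] lemma add_ev (s t : SkyT R x N U) (hx : x ∈ U) :
    ev R U (s + t) hx = ev R U s hx + ev R U t hx := rfl
@[simp] lemma zero_ev (hx : x ∈ U) : ev R U (0 : SkyT R x N U) hx = 0 := rfl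

noncomputable instance : Module (R.obj (op U)) (SkyT R x N U) where
  smul r s := fun hx => gr R x U hx.down r • s hx
  one_smul s := by
    funext hx
    change gr R x U hx.down 1 • s hx = s hx
    rw [map_one, one_smul]
  mul_smul r r' s := by
    funext hx
    change gr R x U hx.down (r * r') • s hx = gr R x U hx.down r • (gr R x U hx.down r' • s hx)
    rw [map_mul, mul_smul]
  smul_zero r := by
    funext hx
    change gr R x U hx.down r • (0 : N) = 0
    rw [smul_zero]
  smul_add r s t := by
    funext hx
    change gr R x U hx.down r • (s hx + t hx) =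
      gr R x U hx.down r • s hx + gr R x U hx.down r • t hx
    rw [smul_add]
  add_smul r r' s := by
    funext hx
    change gr R x U hx.down (r + r') • s hx =
      gr R x U hx.down r • s hx + gr R x U hx.down r' • s hx
    rw [map_add, add_smul]
  zero_smul s := by
    funext hx
    change gr R x U hx.down 0 • s hx = 0
    rw [map_zero, zero_smul]

noncomputable instance moduleOp (U : (Opens X)ᵒᵖ) : Module (R.obj U) (SkyT R x N U.unop) :=
  inferInstanceAs (Module (R.obj (op U.unop)) (SkyT R x N U.unop))

noncomputable instance moduleOp' (U : (Opens X)ᵒᵖ) :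
    Module ((R ⋙ forget₂ CommRingCat RingCat).obj U) (SkyT R x N U.unop) :=
  inferInstanceAs (Module (R.obj (op U.unop)) (SkyT R x N U.unop))

lemma smul_ev (r : R.obj (op U)) (s : SkyT R x N U) (hx : x ∈ U) :
    ev R U (r • s) hx = gr R x U hx r • ev R U s hx := rfl

/-- restriction of sections of the skyscraper -/
def res {U V : Opens X} (i : V ⟶ U) : SkyT R x N U →+ SkyT R x N V where
  toFun s := fun hx => s ⟨i.le hx.down⟩
  map_zero' := rfl
  map_add' _ _ := rfl

@[simp] lemma res_ev {U V : Opens X} (i : V ⟶ U) (s : SkyT R x N U) (hx : x ∈ V) :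
    ev R V (res i s) hx = ev R U s (i.le hx) := rfl

lemma res_smul {U V : Opens X} (i : V ⟶ U) (r : R.obj (op U)) (s : SkyT R x N U) :
    res i (r • s) = rr R i r • res i s := by
  ext hx
  rw [res_ev, smul_ev, smul_ev, res_ev, gr_rr]

end SkyT

variable (N : Type u) [AddCommGroup N] [Module (Rx R x) N]

/-- the skyscraper presheaf of modules at `x` with value `N` -/
noncomputable def skyP : PMod R where
  obj U := ModuleCat.of (R.obj U) (SkyT R x N U.unop)
  map {U V} f := ModuleCat.ofHom
    (Y := (ModuleCat.restrictScalars ((R ⋙ forget₂ CommRingCat RingCat).map f).hom).obj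
      (ModuleCat.of (R.obj V) (SkyT R x N V.unop)))
    { toFun := fun s => SkyT.res f.unop s
      map_add' := fun s t => map_add _ s t
      map_smul' := fun r s => SkyT.res_smul f.unop r s }
  map_id U := by
    ext s
    rfl
  map_comp f g := by
    ext s
    rfl


variable {R x N}

@[simp] lemma skyP_map_ev {U V : (Opens X)ᵒᵖ} (f : U ⟶ V) (s : (skyP R x N).obj U)
    (hx : x ∈ V.unop) :
    SkyT.ev R V.unop ((skyP R x N).map f s) hx = SkyT.ev R U.unop s (f.unop.le hx) := rfl

/-- functoriality of the skyscraper in the module -/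
noncomputable def skyMap {N' : Type u} [AddCommGroup N'] [Module (Rx R x) N']
    (f : N →ₗ[Rx R x] N') : skyP R x N ⟶ skyP R x N' where
  app U := ModuleCat.ofHom
    { toFun := fun s => SkyT.mk (R := R) (U := U.unop) fun hx => f (SkyT.ev R U.unop s hx)
      map_add' := fun s t => by
        ext hx
        simp only [SkyT.ev_mk, SkyT.add_ev, map_add]
      map_smul' := fun r s => by
        ext hx
        change f (SkyT.ev R U.unop (r • s) hx) = _
        erw [SkyT.smul_ev, SkyT.smul_ev]
        rw [map_smul]
        rfl }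
  naturality f := by
    ext s
    rfl

lemma skyMap_app_ev {N' : Type u} [AddCommGroup N'] [Module (Rx R x) N']
    (f : N →ₗ[Rx R x] N') (U : (Opens X)ᵒᵖ) (s : (skyP R x N).obj U) (hx : x ∈ U.unop) :
    SkyT.ev R U.unop ((skyMap f).app U s) hx = f (SkyT.ev R U.unop s hx) := rfl

variable {P : PMod R}

/-- the component over `U` of the map on the stalk attached to a morphism to the skyscraper -/
noncomputable def toStalk₀ (φ : P ⟶ skyP R x N) (U : Opens X) (hx : x ∈ U) : P.obj (op U) →+ N :=
  AddMonoidHom.mk' (fun s => SkyT.ev R U (φ.app (op U) s) hx) (fun s t => by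
    rw [map_add]
    rfl)

lemma toStalk₀_rs (φ : P ⟶ skyP R x N) {U V : Opens X} (i : V ⟶ U) (hx : x ∈ V)
    (s : P.obj (op U)) : toStalk₀ φ V hx (rs P i s) = toStalk₀ φ U (i.le hx) s := by
  have h := PresheafOfModules.naturality_apply φ i.op s
  change SkyT.ev R V (φ.app (op V) (P.map i.op s)) hx = _
  rw [h]
  rfl

/-- the cocone defining the map on the stalk -/
noncomputable def toStalkCocone (φ : P ⟶ skyP R x N) :
    Limits.Cocone ((OpenNhds.inclusion x).op ⋙ P.presheaf) where
  pt := AddCommGrpCat.of N
  ι :=
    { app := fun U => AddCommGrpCat.ofHom (toStalk₀ φ U.unop.1 U.unop.2)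
      naturality := fun U V f => by
        ext s
        exact toStalk₀_rs φ ((OpenNhds.inclusion x).map f.unop) V.unop.property s }

/-- the additive map on the stalk attached to a morphism to the skyscraper -/
noncomputable def toStalkAdd (φ : P ⟶ skyP R x N) : St P x →+ N :=
  (Limits.colimit.desc _ (toStalkCocone φ)).hom

lemma toStalkAdd_gm (φ : P ⟶ skyP R x N) {U : Opens X} (hx : x ∈ U) (s : P.obj (op U)) :
    toStalkAdd φ (gm P x U hx s) = SkyT.ev R U (φ.app (op U) s) hx := by
  have := Limits.colimit.ι_desc (toStalkCocone φ) (op ⟨U, hx⟩)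
  have h2 := ConcreteCategory.congr_hom this s
  rw [ConcreteCategory.comp_apply] at h2
  exact h2

/-- the linear map on the stalk attached to a morphism to the skyscraper -/
noncomputable def toStalk (φ : P ⟶ skyP R x N) : St P x →ₗ[Rx R x] N :=
  { toStalkAdd φ with
    map_smul' := fun r a => by
      obtain ⟨W, hW, c, p, rfl, rfl⟩ := gm_surj_smul r a
      change toStalkAdd φ _ = _ • toStalkAdd φ _
      rw [← gm_smul, toStalkAdd_gm, toStalkAdd_gm, map_smul]
      rfl }

lemma toStalk_gm (φ : P ⟶ skyP R x N) {U : Opens X} (hx : x ∈ U) (s : P.obj (op U)) :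
    toStalk φ (gm P x U hx s) = SkyT.ev R U (φ.app (op U) s) hx := toStalkAdd_gm φ hx s

/-- the morphism to the skyscraper attached to a linear map on the stalk -/
noncomputable def ofStalk (g : St P x →ₗ[Rx R x] N) : P ⟶ skyP R x N where
  app U := ModuleCat.ofHom
    { toFun := fun s => SkyT.mk (R := R) (U := U.unop) fun hx => g (gm P x U.unop hx s)
      map_add' := fun s t => by
        ext hx
        simp only [SkyT.ev_mk, SkyT.add_ev, map_add]
      map_smul' := fun r s => by
        ext hx
        erw [SkyT.smul_ev]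
        simp only [SkyT.ev_mk]
        erw [gm_smul]
        rw [map_smul]
        rfl }
  naturality {U V} f := by
    ext s
    apply SkyT.ext (R := R) (U := V.unop)
    intro hx
    change g (gm P x V.unop hx (P.map f s)) = g (gm P x U.unop (f.unop.le hx) s)
    exact congrArg g (gm_rs f.unop hx s)

lemma ofStalk_app_ev (g : St P x →ₗ[Rx R x] N) (U : (Opens X)ᵒᵖ) (s : P.obj U) (hx : x ∈ U.unop) :
    SkyT.ev R U.unop ((ofStalk g).app U s) hx = g (gm P x U.unop hx s) := rfl

variable (P N) in
/-- morphisms to the skyscraper correspond to linear maps on the stalk -/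
noncomputable def homEquiv : (P ⟶ skyP R x N) ≃ (St P x →ₗ[Rx R x] N) where
  toFun := toStalk
  invFun := ofStalk
  left_inv φ := by
    ext U s
    apply SkyT.ext (R := R) (U := U.unop)
    intro hx
    rw [ofStalk_app_ev, toStalk_gm]
  right_inv g := by
    ext a
    obtain ⟨U, hU, p, rfl⟩ := exists_gm_eq a
    rw [toStalk_gm]
    rfl

lemma toStalk_comp_left {P' : PMod R} (ψ : P' ⟶ P) (φ : P ⟶ skyP R x N) :
    toStalk (ψ ≫ φ) = (toStalk φ).comp (smₗ ψ x) := by
  ext a
  obtain ⟨U, hU, p, rfl⟩ := exists_gm_eq a
  rw [LinearMap.comp_apply, smₗ_apply, sm_gm, toStalk_gm, toStalk_gm]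
  rfl

lemma toStalk_comp_right {N' : Type u} [AddCommGroup N'] [Module (Rx R x) N']
    (φ : P ⟶ skyP R x N) (f : N →ₗ[Rx R x] N') :
    toStalk (φ ≫ skyMap f) = f.comp (toStalk φ) := by
  ext a
  obtain ⟨U, hU, p, rfl⟩ := exists_gm_eq a
  rw [LinearMap.comp_apply, toStalk_gm, toStalk_gm]
  rfl

end Groth.Agent.Lib.Helper1.Sky
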