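import Mathlib
import Groth.Prelude.Def_KFlatSite
import Groth.Prelude.Def_DCoh4
import Groth.Prelude.Def_FlatMod2
import Groth.Agent.Lib.Helper1StalkTensorA
import Groth.Agent.Lib.Helper21ModTensor7
set_option backward.isDefEq.respectTransparency.types false

/-!
# Stalks of sheafifications and of tensor products of `O_X`-modules (helper1)
-/

set_option autoImplicit false
universe u
open CategoryTheory TopCat TopologicalSpace Opposite TensorProduct MonoidalCategory AlgebraicGeometry

namespace Groth.Agent.Lib.Helper1.StalkTensor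

open Groth.Agent.Lib.Helper21.ModTensor2

/-- a morphism of presheaves of abelian groups inverted by sheafification is bijective on stalks -/
lemma stalk_bijective_of_W {X : TopCat.{u}} {F G : X.Presheaf Ab.{u}} (f : F ⟶ G)
    (hf : (Opens.grothendieckTopology X).W f) (x : X) :
    Function.Bijective ((TopCat.Presheaf.stalkFunctor Ab x).map f) := by
  obtain ⟨hinj, hsurj⟩ := ((Opens.grothendieckTopology X).W_iff_isLocallyBijective f).1 hf
  refine ⟨?_, (TopCat.Presheaf.locally_surjective_iff_surjective_on_stalks f).1 hsurj x⟩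
  rw [injective_iff_map_eq_zero]
  intro s hs
  obtain ⟨U, hU, t, rfl⟩ := F.exists_germ_eq s
  rw [TopCat.Presheaf.stalkFunctor_map_germ_apply] at hs
  have h0 : G.germ U x hU (f.app (op U) t) = G.germ U x hU 0 := by rw [hs, map_zero]; rfl
  obtain ⟨W, hW, i₁, i₂, e⟩ := G.germ_eq x hU hU _ _ h0
  rw [map_zero] at e
  have e2 : f.app (op W) (F.map i₁.op t) = f.app (op W) 0 := by
    rw [map_zero, ← e]
    exact (ConcreteCategory.congr_hom (f.naturality i₁.op) t)
  have hmem := Presheaf.equalizerSieve_mem (Opens.grothendieckTopology X) f _ _ e2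
  obtain ⟨V, j, hj, hxV⟩ := hmem x hW
  have hj' : F.map j.op (F.map i₁.op t) = F.map j.op 0 := hj
  rw [map_zero] at hj'
  rw [← TopCat.Presheaf.germ_res_apply F i₁ x hW t, ← TopCat.Presheaf.germ_res_apply F j x hxV, hj',
    map_zero]
  rfl


variable {X : Scheme.{u}}

/-- the underlying presheaf of modules of an `O_X`-module -/
abbrev toPM (M : X.Modules) : PMod X.presheaf := M.val

/-- the underlying morphism of presheaves of modules -/
abbrev toPMMap {M N : X.Modules} (φ : M ⟶ N) : toPM M ⟶ toPM N := φ.val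

/-- the underlying sheaf of abelian groups -/
noncomputable abbrev abSheaf (M : X.Modules) : TopCat.Sheaf Ab.{u} X.toTopCat := ⟨M.val.presheaf, M.isSheaf⟩

lemma sm_injective_of_mono {M N : X.Modules} (φ : M ⟶ N) [Mono φ] (x : X) :
    Function.Injective (sm (toPMMap φ) x) := by
  have h1 : Mono ((Scheme.Modules.toPresheaf X).map φ) := inferInstance
  rw [NatTrans.mono_iff_mono_app] at h1
  exact TopCat.Presheaf.stalkFunctor_map_injective_of_app_injective
    (f := (Scheme.Modules.toPresheaf X).map φ)
    (fun U => (AddCommGrpCat.mono_iff_injective _).1 (h1 (op U))) x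

lemma mono_of_sm_injective {M N : X.Modules} (φ : M ⟶ N)
    (h : ∀ x : X, Function.Injective (sm (toPMMap φ) x)) : Mono φ := by
  apply Functor.mono_of_mono_map (Scheme.Modules.toPresheaf X)
  apply (config := { allowSynthFailures := true }) NatTrans.mono_of_mono_app
  intro U
  rw [AddCommGrpCat.mono_iff_injective]
  exact TopCat.Presheaf.app_injective_of_stalkFunctor_map_injective (F := abSheaf M)
    ((Scheme.Modules.toPresheaf X).map φ) U.unop (fun x _ => h x)

lemma sm_comp {R : X.toTopCat.Presheaf CommRingCat.{u}} {P P' P'' : PMod R} (f : P ⟶ P') (g : P' ⟶ P'')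
    (x : X) (a : St P x) : sm (f ≫ g) x a = sm g x (sm f x a) := by
  obtain ⟨U, hU, p, rfl⟩ := exists_gm_eq a
  rw [sm_gm, sm_gm, sm_gm]
  rfl

/-- sheafification of presheaves of `O_X`-modules -/
noncomputable def shX : PMod X.presheaf ⥤ X.Modules := shf X.sheaf

/-- the unit of sheafification -/
noncomputable def etaX (T : PMod X.presheaf) : T ⟶ toPM (shX.obj T) := eta X.sheaf T

lemma W_etaX (T : PMod X.presheaf) :
    (Opens.grothendieckTopology X.toTopCat).W ((PresheafOfModules.toPresheaf _).map (etaX T)) :=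
  W_eta (O := X.sheaf) T

lemma sm_etaX_bijective (T : PMod X.presheaf) (x : X) :
    Function.Bijective (sm (etaX T) x) :=
  stalk_bijective_of_W _ (W_etaX T) x

lemma etaX_naturality {T' T : PMod X.presheaf} (τ : T' ⟶ T) :
    τ ≫ etaX T = etaX T' ≫ toPMMap (shX.map τ) :=
  (adj X.sheaf).unit.naturality τ

lemma sm_etaX_naturality {T' T : PMod X.presheaf} (τ : T' ⟶ T) (x : X) (a : St T' x) :
    sm (etaX T) x (sm τ x a) = sm (toPMMap (shX.map τ)) x (sm (etaX T') x a) := by
  rw [← sm_comp, ← sm_comp, etaX_naturality]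

lemma tensorBi_map_app {G' G : X.Modules} (φ : G' ⟶ G) (F : X.Modules) :
    (DCoh.tensorBi.map φ).app F = shX.map (toPMMap φ ▷ toPM F) := rfl

lemma tensorBi_obj_map (G : X.Modules) {F' F : X.Modules} (ψ : F' ⟶ F) :
    (DCoh.tensorBi.obj G).map ψ = shX.map (toPM G ◁ toPMMap ψ) := rfl

lemma mono_shX_map_of_sm_injective {T' T : PMod X.presheaf} (τ : T' ⟶ T)
    (h : ∀ x : X, Function.Injective (sm τ x)) : Mono (shX.map τ) := by
  apply mono_of_sm_injective
  intro x a b hab
  obtain ⟨a', rfl⟩ := (sm_etaX_bijective T' x).2 a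
  obtain ⟨b', rfl⟩ := (sm_etaX_bijective T' x).2 b
  rw [← sm_etaX_naturality, ← sm_etaX_naturality] at hab
  rw [h x ((sm_etaX_bijective T x).1 hab)]

/-- tensoring with a stalkwise flat module preserves monomorphisms -/
theorem mono_tensor_of_isFlat {G' G : X.Modules} (φ : G' ⟶ G) [Mono φ] (F : X.Modules)
    (hF : FlatMod.IsFlat F) : Mono ((DCoh.tensorBi.map φ).app F) := by
  rw [tensorBi_map_app]
  apply mono_shX_map_of_sm_injective
  intro x a b hab
  have h2 := congrArg (α (toPM G) (toPM F) x) hab
  rw [α_nat_left, α_nat_left] at h2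
  have : Module.Flat (Rx X.presheaf x) (St (toPM F) x) := hF x
  have hinj : Function.Injective (LinearMap.rTensor (St (toPM F) x) (smₗ (toPMMap φ) x)) :=
    Module.Flat.rTensor_preserves_injective_linearMap _ (sm_injective_of_mono φ x)
  exact (α_bijective).1 (hinj h2)

open Groth.Agent.Lib.Helper21.ModTensor3 Groth.Agent.Lib.Helper21.ModTensor5 in
/-- a stalkwise flat `O_X`-module is flat in the sense of exactness of the tensor product -/
theorem modSite_isFlat_of_isFlat (F : X.Modules) (hF : FlatMod.IsFlat F) :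
    ModSite.IsFlat (O := X.sheaf) F := by
  rw [isFlat_iff, Functor.preservesFiniteLimits_iff_forall_exact_map_and_mono]
  intro S hS
  refine ⟨((Functor.preservesFiniteColimits_iff_forall_exact_map_and_epi (tR X.sheaf F)).1
    inferInstance S hS).1, ?_⟩
  exact @mono_tensor_of_isFlat X S.X₁ S.X₂ S.f hS.mono_f F hF

example (M : X.Modules) (x : X) : St (toPM M) x = ↑(M.presheaf.stalk x) := rfl

example (M : X.Modules) (x : X) :
    (inferInstance : Module (Rx X.presheaf x) (St (toPM M) x)) = FlatMod.moduleStalk M x := rfl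

example : PM X.sheaf = PMod X.presheaf := rfl
example : ModSite.Mod X.sheaf = X.Modules := rfl
example : ModSite.tensorBi X.sheaf = DCoh.tensorBi (X := X) := rfl
example (M : X.Modules) : (fgt X.sheaf).obj M = toPM M := rfl

end Groth.Agent.Lib.Helper1.StalkTensor
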