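import Mathlib
import Groth.Agent.Lib.Helper1Sky1
import Groth.Agent.Lib.Helper1StalkTensorB
set_option backward.isDefEq.respectTransparency.types false

/-!
# Skyscraper modules on a scheme and the adjunction with the stalk functor (helper1)
-/

set_option autoImplicit false
universe u
open CategoryTheory TopCat TopologicalSpace Opposite AlgebraicGeometry

namespace Groth.Agent.Lib.Helper1.Sky

open Groth.Agent.Lib.Helper1.StalkTensor

section top

variable {X : TopCat.{u}} (R : X.Presheaf CommRingCat.{u}) (x : X)
  (N : Type u) [AddCommGroup N] [Module (Rx R x) N]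

/-- the skyscraper presheaf is a sheaf -/
theorem isSheaf_skyP : TopCat.Presheaf.IsSheaf (skyP R x N).presheaf := by
  rw [TopCat.Presheaf.isSheaf_iff_isSheafUniqueGluing]
  intro ι U sf hsf
  have hex : ∀ hx : x ∈ iSup U, ∃ i, x ∈ U i := fun hx => Opens.mem_iSup.1 hx
  have key : ∀ (i j : ι) (hi : x ∈ U i) (hj : x ∈ U j),
      SkyT.ev R (U i) (sf i) hi = SkyT.ev R (U j) (sf j) hj := by
    intro i j hi hj
    have h := hsf i j
    have h2 := congrArg (fun t => SkyT.ev R (U i ⊓ U j) t ⟨hi, hj⟩) h
    exact h2
  refine ⟨SkyT.mk (R := R) (U := iSup U) fun hx =>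
    SkyT.ev R (U (hex hx).choose) (sf (hex hx).choose) (hex hx).choose_spec, ?_, ?_⟩
  · intro i
    apply SkyT.ext (R := R) (U := U i)
    intro hx
    exact key _ _ _ _
  · intro t ht
    apply SkyT.ext (R := R) (U := iSup U)
    intro hx
    have h := ht (hex hx).choose
    have h2 := congrArg (fun t => SkyT.ev R (U (hex hx).choose) t (hex hx).choose_spec) h
    exact h2

end top

section scheme

variable {X : Scheme.{u}} (x : X)

/-- the stalk of the structure sheaf, as a ring -/
abbrev Ox : Type u := Rx X.presheaf x

/-- the skyscraper `O_X`-module at `x` with value `N` -/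
noncomputable def skyMod (N : ModuleCat.{u} (Ox x)) : X.Modules where
  val := skyP X.presheaf x N
  isSheaf := isSheaf_skyP X.presheaf x N

/-- the skyscraper functor -/
noncomputable def skyFun : ModuleCat.{u} (Ox x) ⥤ X.Modules where
  obj N := skyMod x N
  map f := ⟨skyMap f.hom⟩
  map_id N := by
    ext U s
    rfl
  map_comp f g := by
    ext U s
    rfl

lemma sm_id {R : X.toTopCat.Presheaf CommRingCat.{u}} (P : PMod R) (a : St P x) :
    sm (𝟙 P) x a = a := by
  obtain ⟨U, hU, p, rfl⟩ := exists_gm_eq a
  rw [sm_gm]
  rfl

/-- the stalk functor -/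
noncomputable def stalkFun : X.Modules ⥤ ModuleCat.{u} (Ox x) where
  obj M := ModuleCat.of (Ox x) (St (toPM M) x)
  map φ := ModuleCat.ofHom (smₗ (toPMMap φ) x)
  map_id M := by
    ext a
    exact sm_id x (toPM M) a
  map_comp f g := by
    ext a
    exact sm_comp (toPMMap f) (toPMMap g) x a

/-- the adjunction between stalk and skyscraper -/
noncomputable def stalkSkyAdj : stalkFun x ⊣ skyFun x :=
  Adjunction.mkOfHomEquiv
    { homEquiv := fun M N =>
        { toFun := fun g => ⟨ofStalk (R := X.presheaf) (x := x) (N := N) (P := toPM M) g.hom⟩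
          invFun := fun φ => ModuleCat.ofHom (toStalk (R := X.presheaf) (x := x) (N := N) (P := toPM M) φ.val)
          left_inv := fun g => by
            ext a
            exact LinearMap.congr_fun ((homEquiv (R := X.presheaf) (x := x) (P := toPM M) (N := N)).right_inv g.hom) a
          right_inv := fun φ => by
            apply SheafOfModules.hom_ext
            exact (homEquiv (R := X.presheaf) (x := x) (P := toPM M) (N := N)).left_inv φ.val }
      homEquiv_naturality_left_symm := fun {M' M N} f g => by
        ext a
        exact LinearMap.congr_fun (toStalk_comp_left (toPMMap f) g.val) a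
      homEquiv_naturality_right := fun {M N N'} f g => by
        apply SheafOfModules.hom_ext
        apply (homEquiv (R := X.presheaf) (x := x) (P := toPM M) (N := N')).injective
        change toStalk (ofStalk (f ≫ g).hom) = toStalk (ofStalk f.hom ≫ skyMap g.hom)
        rw [toStalk_comp_right]
        have h1 := (homEquiv (R := X.presheaf) (x := x) (P := toPM M) (N := N')).right_inv (f ≫ g).hom
        have h2 := (homEquiv (R := X.presheaf) (x := x) (P := toPM M) (N := N)).right_inv f.hom
        change toStalk (ofStalk (f ≫ g).hom) = _ at h1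
        change toStalk (ofStalk f.hom) = _ at h2
        rw [h1, h2]
        rfl }

end scheme

end Groth.Agent.Lib.Helper1.Sky
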