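import Mathlib
import Groth.Agent.Lib.Helper1Sky2
set_option backward.isDefEq.respectTransparency.types false

/-!
# Pushforward of skyscraper modules (helper1)
-/

set_option autoImplicit false
universe u
open CategoryTheory TopCat TopologicalSpace Opposite AlgebraicGeometry

namespace Groth.Agent.Lib.Helper1.Sky

open Groth.Agent.Lib.Helper1.StalkTensor

variable {X Y : Scheme.{u}} (f : X ⟶ Y) (x : X)

/-- restriction of scalars along the stalk map -/
noncomputable abbrev resStalk : ModuleCat.{u} (Ox x) ⥤ ModuleCat.{u} (Ox (f x)) :=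
  ModuleCat.restrictScalars (f.stalkMap x).hom

variable (N : ModuleCat.{u} (Ox x))

example (V : Y.Opens) : (((Scheme.Modules.pushforward f).obj (skyMod x N)).val.obj (op V) : Type u) =
  SkyT X.presheaf x N (f ⁻¹ᵁ V) := rfl

example (V : Y.Opens) : ((skyMod (f x) ((resStalk f x).obj N)).val.obj (op V) : Type u) =
  SkyT Y.presheaf (f x) N V := rfl

/-- the comparison on sections -/
def pushSkyEquiv (V : Y.Opens) :
    SkyT X.presheaf x N (f ⁻¹ᵁ V) ≃+ SkyT Y.presheaf (f x) ((resStalk f x).obj N) V where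
  toFun s := SkyT.mk fun hy => SkyT.ev X.presheaf (f ⁻¹ᵁ V) s hy
  invFun t := SkyT.mk fun hx => SkyT.ev Y.presheaf V t hx
  left_inv _ := rfl
  right_inv _ := rfl
  map_add' _ _ := rfl

lemma pushSkyEquiv_smul (V : Y.Opens) (r : Y.presheaf.obj (op V))
    (s : SkyT X.presheaf x N (f ⁻¹ᵁ V)) :
    pushSkyEquiv f x N V ((f.app V).hom r • s) = r • pushSkyEquiv f x N V s := by
  apply SkyT.ext (R := Y.presheaf) (U := V)
  intro hy
  rw [SkyT.smul_ev]
  change SkyT.ev X.presheaf (f ⁻¹ᵁ V) ((f.app V).hom r • s) hy = _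
  rw [SkyT.smul_ev]
  change _ = (f.stalkMap x).hom (gr Y.presheaf (f x) V hy r) • SkyT.ev X.presheaf (f ⁻¹ᵁ V) s hy
  congr 1
  exact (Scheme.Hom.germ_stalkMap_apply f V x hy r).symm

/-- the comparison on sections, as a linear equivalence -/
noncomputable def pushSkyLin (V : (Opens Y)ᵒᵖ) :
    ↑(((Scheme.Modules.pushforward f).obj (skyMod x N)).val.obj V) ≃ₗ[↑(Y.ringCatSheaf.obj.obj V)]
      ↑((skyMod (f x) ((resStalk f x).obj N)).val.obj V) :=
  { pushSkyEquiv f x N V.unop with
    map_smul' := fun r s => pushSkyEquiv_smul f x N V.unop r s }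

/-- the pushforward of a skyscraper is a skyscraper, on underlying presheaves of modules -/
noncomputable def pushSkyIsoP :
    ((Scheme.Modules.pushforward f).obj (skyMod x N)).val ≅
      (skyMod (f x) ((resStalk f x).obj N)).val :=
  PresheafOfModules.isoMk (fun V => (pushSkyLin f x N V).toModuleIso)
    (fun V W i => by
      ext s
      rfl)


/-- the pushforward of a skyscraper is a skyscraper -/
noncomputable def pushSkyIso :
    (Scheme.Modules.pushforward f).obj (skyMod x N) ≅ skyMod (f x) ((resStalk f x).obj N) where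
  hom := ⟨(pushSkyIsoP f x N).hom⟩
  inv := ⟨(pushSkyIsoP f x N).inv⟩
  hom_inv_id := by
    apply SheafOfModules.hom_ext
    exact (pushSkyIsoP f x N).hom_inv_id
  inv_hom_id := by
    apply SheafOfModules.hom_ext
    exact (pushSkyIsoP f x N).inv_hom_id

/-- the pushforward of a skyscraper is a skyscraper, naturally -/
noncomputable def pushSkyNatIso :
    skyFun x ⋙ Scheme.Modules.pushforward f ≅ resStalk f x ⋙ skyFun (f x) :=
  NatIso.ofComponents (fun N => pushSkyIso f x N) (fun {N N'} g => by
    apply SheafOfModules.hom_ext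
    ext V s
    rfl)

/-- the stalk of a pullback: `(f^* M)_x ≅ O_{X,x} ⊗_{O_{Y,f x}} M_{f x}`, naturally in `M` -/
noncomputable def stalkPullbackIso :
    Scheme.Modules.pullback f ⋙ stalkFun x ≅
      stalkFun (f x) ⋙ ModuleCat.extendScalars.{u, u, u} (f.stalkMap x).hom :=
  Adjunction.leftAdjointUniq
    (((Scheme.Modules.pullbackPushforwardAdjunction f).comp (stalkSkyAdj x)).ofNatIsoRight
      (pushSkyNatIso f x))
    ((stalkSkyAdj (f x)).comp (ModuleCat.extendRestrictScalarsAdj.{u, u, u} (f.stalkMap x).hom))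

end Groth.Agent.Lib.Helper1.Sky
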