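import Mathlib
import Groth.Agent.Lib.Helper1Sky3
import Groth.Agent.Lib.Helper21FlatCalc
set_option backward.isDefEq.respectTransparency.types false

/-!
# Pullback of modules on schemes: flatness and short exact sequences with flat cokernel (helper1)
-/

set_option autoImplicit false
universe u
open CategoryTheory CategoryTheory.Limits TopCat TopologicalSpace Opposite AlgebraicGeometry

namespace Groth.Agent.Lib.Helper1.Sky

open Groth.Agent.Lib.Helper1.StalkTensor Groth.Agent.Lib.Helper21.FlatCalc

variable {X Y : Scheme.{u}}

instance (x : X) : (stalkFun x).IsLeftAdjoint := (stalkSkyAdj x).isLeftAdjoint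

attribute [local instance] preservesBinaryBiproducts_of_preservesBinaryCoproducts in
instance additive_stalkFun (x : X) : (stalkFun x).Additive :=
  Functor.additive_of_preservesBinaryBiproducts _

lemma stalkFun_map_apply (x : X) {M N : X.Modules} (φ : M ⟶ N) (a : St (toPM M) x) :
    ((stalkFun x).map φ).hom a = sm (toPMMap φ) x a := rfl

/-- the stalks of a short exact sequence -/
lemma stalk_shortExact (y : Y) (S : ShortComplex Y.Modules) (hS : S.ShortExact) :
    Function.Injective (sm (toPMMap S.f) y) ∧ Function.Surjective (sm (toPMMap S.g) y) ∧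
      Function.Exact (sm (toPMMap S.f) y) (sm (toPMMap S.g) y) := by
  have := hS.mono_f
  have h := exact_and_epi_of_rightExact (stalkFun y) S hS
  refine ⟨sm_injective_of_mono S.f y, ?_, ?_⟩
  · have h2 := (ModuleCat.epi_iff_surjective _).1 h.2
    exact h2
  · have h1 := (ShortComplex.ShortExact.moduleCat_exact_iff_function_exact _).1 h.1
    exact h1

variable (f : X ⟶ Y)

/-- base change of a module along the stalk map -/
lemma extendScalars_map_injective (x : X) {A B C : ModuleCat.{u} (Ox (f x))} (i : A ⟶ B)
    (p : B ⟶ C) (hi : Function.Injective i.hom) (hp : Function.Surjective p.hom)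
    (hex : Function.Exact i.hom p.hom) (hC : Module.Flat (Ox (f x)) C) :
    Function.Injective ((ModuleCat.extendScalars.{u, u, u} (f.stalkMap x).hom).map i).hom := by
  letI : Algebra (Ox (f x)) (Ox x) := (f.stalkMap x).hom.toAlgebra
  have h := LinearMap.lTensor_injective_of_exact_of_flat p.hom hp i.hom hi hex (Ox x)
  exact h


lemma extendScalars_flat (x : X) (A : ModuleCat.{u} (Ox (f x))) (hA : Module.Flat (Ox (f x)) A) :
    Module.Flat (Ox x) ((ModuleCat.extendScalars.{u, u, u} (f.stalkMap x).hom).obj A) := by
  letI : Algebra (Ox (f x)) (Ox x) := (f.stalkMap x).hom.toAlgebra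
  have h : Module.Flat (Ox x) (TensorProduct (Ox (f x)) (Ox x) A) := inferInstance
  exact h

/-- the pullback of a stalkwise flat module is stalkwise flat -/
theorem isFlat_pullback (M : Y.Modules) (hM : FlatMod.IsFlat M) :
    FlatMod.IsFlat ((Scheme.Modules.pullback f).obj M) := by
  intro x
  have h1 : Module.Flat (Ox x) ((ModuleCat.extendScalars.{u, u, u} (f.stalkMap x).hom).obj
      ((stalkFun (f x)).obj M)) := extendScalars_flat f x _ (hM (f x))
  have e := ((stalkPullbackIso f x).app M).toLinearEquiv
  exact @Module.Flat.of_linearEquiv _ _ _ _ _ _ _ _ h1 e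

/-- the pullback of a monomorphism with stalkwise flat cokernel is a monomorphism -/
theorem mono_pullback_map (S : ShortComplex Y.Modules) (hS : S.ShortExact)
    (hfl : FlatMod.IsFlat S.X₃) : Mono ((Scheme.Modules.pullback f).map S.f) := by
  apply mono_of_sm_injective
  intro x
  obtain ⟨h1, h2, h3⟩ := stalk_shortExact (f x) S hS
  have hinj := extendScalars_map_injective f x ((stalkFun (f x)).map S.f) ((stalkFun (f x)).map S.g)
    h1 h2 h3 (hfl (f x))
  have hnat := (stalkPullbackIso f x).hom.naturality S.f
  intro a b hab
  have e1 := (ConcreteCategory.bijective_of_isIso ((stalkPullbackIso f x).hom.app S.X₁)).1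
  apply e1
  apply hinj
  have h4 := ConcreteCategory.congr_hom hnat a
  have h5 := ConcreteCategory.congr_hom hnat b
  simp only [Functor.comp_map, ConcreteCategory.comp_apply] at h4 h5
  rw [← h4, ← h5]
  congr 1

/-- the pullback of a short exact sequence with stalkwise flat cokernel is short exact -/
theorem shortExact_map_pullback (S : ShortComplex Y.Modules) (hS : S.ShortExact)
    (hfl : FlatMod.IsFlat S.X₃) : (S.map (Scheme.Modules.pullback f)).ShortExact := by
  have h := exact_and_epi_of_rightExact (Scheme.Modules.pullback f) S hS
  exact { exact := h.1, mono_f := mono_pullback_map f S hS hfl, epi_g := h.2 }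

end Groth.Agent.Lib.Helper1.Sky
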