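import Mathlib
import Groth.Agent.Lib.Helper1Sky4
import Groth.Agent.Lib.Helper1BKF18
set_option backward.isDefEq.respectTransparency.types false

/-!
# Exactness of the stalk and skyscraper functors on `O_X`-modules (helper1)
-/

set_option autoImplicit false
set_option linter.style.haveILetI false
universe u
open CategoryTheory CategoryTheory.Limits AlgebraicGeometry HomologicalComplex TopologicalSpace Opposite ZeroObject

namespace Groth.Agent.Lib.Helper1.KBC

open Groth.Agent.Lib.Helper1.BKF Groth.Agent.Lib.Helper1.Sky Groth.Agent.Lib.Helper1.StalkTensor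

variable {X : Scheme.{u}} (x : X)

instance preservesFiniteColimits_stalkFun : PreservesFiniteColimits (stalkFun x) := by
  haveI : PreservesColimitsOfSize.{0, 0} (stalkFun x) :=
    (stalkSkyAdj x).leftAdjoint_preservesColimits
  exact ⟨fun _ _ _ => inferInstance⟩

instance preservesFiniteLimits_stalkFun : PreservesFiniteLimits (stalkFun x) := by
  refine ((stalkFun x).preservesFiniteLimits_tfae.out 0 3).1 ?_
  intro S hS
  obtain ⟨h1, h2, h3⟩ := stalk_shortExact x S hS
  refine ⟨?_, ?_⟩
  · exact (ShortComplex.ShortExact.moduleCat_exact_iff_function_exact _).2 h3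
  · exact (ModuleCat.mono_iff_injective _).2 h1

/-- an `O_X`-module all of whose stalks vanish is zero -/
lemma isZero_of_forall_isZero_stalk (M : X.Modules) (h : ∀ x : X, IsZero ((stalkFun x).obj M)) :
    IsZero M := by
  have hm : Mono (0 : M ⟶ 0) := by
    apply mono_of_sm_injective
    intro y a b _
    haveI : Subsingleton (St (toPM M) y) := ModuleCat.subsingleton_of_isZero (h y)
    exact Subsingleton.elim a b
  exact IsZero.of_mono (0 : M ⟶ 0) (isZero_zero _)

/-- stalks detect acyclicity -/
lemma acyc_of_forall_acyc_stalk (C : CochainComplex X.Modules ℤ)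
    (h : ∀ x : X, Acyc (((stalkFun x).mapHomologicalComplex (ComplexShape.up ℤ)).obj C)) :
    Acyc C := by
  intro n
  apply isZero_of_forall_isZero_stalk
  intro y
  have h1 := h y n
  have e := (C.sc n).mapHomologyIso (stalkFun y)
  exact IsZero.of_iso h1 e.symm

/-! ### the skyscraper functor -/

variable (N : ModuleCat.{u} (Ox x))

/-- evaluation of germs of the skyscraper -/
noncomputable def evStalk : St (toPM ((skyFun x).obj N)) x →ₗ[Ox x] N :=
  toStalk (R := X.presheaf) (x := x) (N := N) (P := toPM ((skyFun x).obj N)) (𝟙 _)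

lemma evStalk_gm {U : X.Opens} (hx : x ∈ U) (s : (toPM ((skyFun x).obj N)).obj (op U)) :
    evStalk x N (gm _ x U hx s) = SkyT.ev X.presheaf U s hx :=
  toStalk_gm _ hx s

lemma evStalk_bijective : Function.Bijective (evStalk x N) := by
  constructor
  · rw [← LinearMap.ker_eq_bot, LinearMap.ker_eq_bot']
    intro a ha
    obtain ⟨U, hU, s, rfl⟩ := exists_gm_eq a
    rw [evStalk_gm] at ha
    have hs : s = 0 := by
      apply SkyT.ext (R := X.presheaf) (U := U)
      intro hx
      exact ha
    rw [hs, map_zero]
  · intro n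
    refine ⟨gm _ x ⊤ trivial (SkyT.mk (R := X.presheaf) (U := ⊤) fun _ => n), ?_⟩
    rw [evStalk_gm]
    rfl

/-- the stalk at `x` of the skyscraper at `x` -/
noncomputable def skyStalkIso : skyFun x ⋙ stalkFun x ≅ 𝟭 (ModuleCat.{u} (Ox x)) :=
  NatIso.ofComponents
    (fun N => (LinearEquiv.ofBijective (evStalk x N) (evStalk_bijective x N)).toModuleIso)
    (fun {N N'} g => by
      ext a
      obtain ⟨U, hU, s, rfl⟩ := exists_gm_eq a
      change evStalk x N' (sm (toPMMap ((skyFun x).map g)) x (gm _ x U hU s)) =
        g.hom (evStalk x N (gm _ x U hU s))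
      rw [sm_gm, evStalk_gm, evStalk_gm]
      rfl)

instance preservesFiniteLimits_skyFun : PreservesFiniteLimits (skyFun x) := by
  haveI : PreservesLimitsOfSize.{0, 0} (skyFun x) :=
    (stalkSkyAdj x).rightAdjoint_preservesLimits
  exact ⟨fun _ _ _ => inferInstance⟩

lemma epi_skyFun_map {N N' : ModuleCat.{u} (Ox x)} (g : N ⟶ N') [Epi g] :
    Epi ((skyFun x).map g) := by
  have hg : Function.Surjective g.hom := (ModuleCat.epi_iff_surjective g).1 inferInstance
  haveI : Epi ((SheafOfModules.forget _).map ((skyFun x).map g)) := by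
    apply PresheafOfModules.epi_of_surjective
    intro U s
    choose t ht using hg
    refine ⟨SkyT.mk (R := X.presheaf) (U := U.unop) fun hx => t (SkyT.ev X.presheaf U.unop s hx), ?_⟩
    apply SkyT.ext (R := X.presheaf) (U := U.unop)
    intro hx
    exact ht _
  exact Functor.epi_of_epi_map (SheafOfModules.forget _) inferInstance

instance additive_skyFun : (skyFun x).Additive :=
  (stalkSkyAdj x).right_adjoint_additive

instance preservesFiniteColimits_skyFun : PreservesFiniteColimits (skyFun x) := by
  refine ((skyFun x).preservesFiniteColimits_tfae.out 0 3).1 ?_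
  intro S hS
  have h0 : ∀ (S : ShortComplex (ModuleCat.{u} (Ox x))), S.ShortExact →
      (S.map (skyFun x)).Exact ∧ Mono ((skyFun x).map S.f) :=
    ((skyFun x).preservesFiniteLimits_tfae.out 3 0).1 (preservesFiniteLimits_skyFun x)
  have h := h0 S hS
  haveI := hS.epi_g
  exact ⟨h.1, epi_skyFun_map x S.g⟩

end Groth.Agent.Lib.Helper1.KBC
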