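import Mathlib
import Groth.Prelude.Def_TotMap
import Groth.Agent.Lib.Helper1KBC2
import Groth.Agent.Lib.Helper1StalkTensorB
set_option backward.isDefEq.respectTransparency.types false

/-!
# The stalk of a tensor product of `O_X`-modules, as an isomorphism of bifunctors (helper1)
-/

set_option autoImplicit false
set_option linter.style.haveILetI false
universe u
open CategoryTheory CategoryTheory.Limits AlgebraicGeometry HomologicalComplex TopologicalSpace Opposite
  MonoidalCategory TensorProduct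

namespace Groth.Agent.Lib.Helper1.KBC

open Groth.Agent.Lib.Helper1.BKF Groth.Agent.Lib.Helper1.Sky Groth.Agent.Lib.Helper1.StalkTensor

variable {X : Scheme.{u}} (x : X)

/-- `(L, K) ↦ (L ⊗ K)_x` -/
noncomputable abbrev G₁ : X.Modules ⥤ X.Modules ⥤ ModuleCat.{u} (Ox x) :=
  DCoh.tensorBi (X := X) ⋙ (Functor.whiskeringRight _ _ _).obj (stalkFun x)

/-- `(L, K) ↦ L_x ⊗ K_x` -/
noncomputable abbrev G₂ : X.Modules ⥤ X.Modules ⥤ ModuleCat.{u} (Ox x) :=
  stalkFun x ⋙ curriedTensor (ModuleCat.{u} (Ox x)) ⋙ (Functor.whiskeringLeft _ _ _).obj (stalkFun x)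

variable (L K : X.Modules)

/-- the unit of sheafification on stalks, as a linear equivalence -/
noncomputable def etaEquiv (T : PMod X.presheaf) : St T x ≃ₗ[Ox x] St (toPM (shX.obj T)) x :=
  LinearEquiv.ofBijective (smₗ (etaX T) x) (sm_etaX_bijective T x)

lemma etaEquiv_apply (T : PMod X.presheaf) (t : St T x) : etaEquiv x T t = sm (etaX T) x t := rfl

/-- `(L ⊗ K)_x ≃ L_x ⊗ K_x` -/
noncomputable def stalkTensorEquiv :
    St (toPM ((DCoh.tensorBi.obj L).obj K)) x ≃ₗ[Ox x] St (toPM L) x ⊗[Ox x] St (toPM K) x :=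
  (etaEquiv x (toPM L ⊗ toPM K)).symm ≪≫ₗ αLin (toPM L) (toPM K) x

lemma stalkTensorEquiv_eta (t : St (toPM L ⊗ toPM K) x) :
    stalkTensorEquiv x L K (sm (etaX (toPM L ⊗ toPM K)) x t) = α (toPM L) (toPM K) x t := by
  change αLin (toPM L) (toPM K) x ((etaEquiv x (toPM L ⊗ toPM K)).symm (etaEquiv x _ t)) = _
  rw [LinearEquiv.symm_apply_apply]
  rfl

lemma exists_eta_eq (a : St (toPM ((DCoh.tensorBi.obj L).obj K)) x) :
    ∃ t : St (toPM L ⊗ toPM K) x, sm (etaX (toPM L ⊗ toPM K)) x t = a :=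
  (sm_etaX_bijective (toPM L ⊗ toPM K) x).2 a

/-- the component of the isomorphism -/
noncomputable def stalkTensorApp : ((G₁ x).obj L).obj K ≅ ((G₂ x).obj L).obj K :=
  (stalkTensorEquiv x L K).toModuleIso

lemma stalkTensorApp_hom_apply (a : St (toPM ((DCoh.tensorBi.obj L).obj K)) x) :
    (stalkTensorApp x L K).hom.hom a = stalkTensorEquiv x L K a := rfl

lemma stalkTensor_naturality_right {K K' : X.Modules} (ψ : K ⟶ K') :
    ((G₁ x).obj L).map ψ ≫ (stalkTensorApp x L K').hom =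
      (stalkTensorApp x L K).hom ≫ ((G₂ x).obj L).map ψ := by
  ext a
  obtain ⟨t, rfl⟩ := exists_eta_eq x L K a
  change stalkTensorEquiv x L K' (sm (toPMMap ((DCoh.tensorBi.obj L).map ψ)) x
      (sm (etaX (toPM L ⊗ toPM K)) x t)) =
    (((stalkFun x).obj L) ◁ (stalkFun x).map ψ).hom
      (stalkTensorEquiv x L K (sm (etaX (toPM L ⊗ toPM K)) x t))
  have h1 : sm (toPMMap ((DCoh.tensorBi.obj L).map ψ)) x (sm (etaX (toPM L ⊗ toPM K)) x t) =
      sm (etaX (toPM L ⊗ toPM K')) x (sm (toPM L ◁ toPMMap ψ) x t) :=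
    (sm_etaX_naturality (toPM L ◁ toPMMap ψ) x t).symm
  rw [h1, stalkTensorEquiv_eta, stalkTensorEquiv_eta, α_nat_right]
  rfl

lemma stalkTensor_naturality_left {L L' : X.Modules} (φ : L ⟶ L') (K : X.Modules) :
    ((G₁ x).map φ).app K ≫ (stalkTensorApp x L' K).hom =
      (stalkTensorApp x L K).hom ≫ ((G₂ x).map φ).app K := by
  ext a
  obtain ⟨t, rfl⟩ := exists_eta_eq x L K a
  change stalkTensorEquiv x L' K (sm (toPMMap ((DCoh.tensorBi.map φ).app K)) x
      (sm (etaX (toPM L ⊗ toPM K)) x t)) =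
    ((stalkFun x).map φ ▷ ((stalkFun x).obj K)).hom
      (stalkTensorEquiv x L K (sm (etaX (toPM L ⊗ toPM K)) x t))
  have h1 : sm (toPMMap ((DCoh.tensorBi.map φ).app K)) x (sm (etaX (toPM L ⊗ toPM K)) x t) =
      sm (etaX (toPM L' ⊗ toPM K)) x (sm (toPMMap φ ▷ toPM K) x t) :=
    (sm_etaX_naturality (toPMMap φ ▷ toPM K) x t).symm
  rw [h1, stalkTensorEquiv_eta, stalkTensorEquiv_eta, α_nat_left]
  rfl

/-- the stalk of the tensor product is the tensor product of the stalks -/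
noncomputable def stalkTensorIso : G₁ x ≅ G₂ x :=
  NatIso.ofComponents (fun L => NatIso.ofComponents (fun K => stalkTensorApp x L K)
      (fun {_ _} ψ => stalkTensor_naturality_right x L ψ))
    (fun {_ _} φ => NatTrans.ext (funext fun K => stalkTensor_naturality_left x φ K))

end Groth.Agent.Lib.Helper1.KBC
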