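import Mathlib
import Groth.Prelude.Def_TotMap
import Groth.Agent.Lib.Helper1KBC3
import Groth.Prelude.Def_DerSch
import Groth.Prelude.Def_KFlatSite
set_option backward.isDefEq.respectTransparency.types false

/-!
# The stalk of a tensor product of complexes of `O_X`-modules; K-flatness is stalkwise (helper1)
-/

set_option autoImplicit false
set_option linter.style.haveILetI false
universe u
open CategoryTheory CategoryTheory.Limits AlgebraicGeometry HomologicalComplex TopologicalSpace Opposite
  MonoidalCategory TensorProduct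

namespace Groth.Agent.Lib.Helper1.KBC

open Groth.Agent.Lib.Helper1.BKF Groth.Agent.Lib.Helper1.Sky Groth.Agent.Lib.Helper1.StalkTensor

variable {X : Scheme.{u}} (x : X)

instance preservesTotal_stalkFun
    (B : HomologicalComplex₂ X.Modules (ComplexShape.up ℤ) (ComplexShape.up ℤ)) :
    TotMap.PreservesTotal (stalkFun x) B (ComplexShape.up ℤ) := fun n => by
  haveI : PreservesColimitsOfSize.{0, 0} (stalkFun x) :=
    (stalkSkyAdj x).leftAdjoint_preservesColimits
  infer_instance

instance (L : X.Modules) : ((G₁ x).obj L).PreservesZeroMorphisms :=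
  (inferInstance : ((DCoh.tensorBi (X := X)).obj L ⋙ stalkFun x).PreservesZeroMorphisms)

instance (L : X.Modules) : ((G₂ x).obj L).PreservesZeroMorphisms :=
  (inferInstance : (stalkFun x ⋙
    (curriedTensor (ModuleCat.{u} (Ox x))).obj ((stalkFun x).obj L)).PreservesZeroMorphisms)

/-- termwise stalks of a complex -/
noncomputable abbrev stalkC : CochainComplex X.Modules ℤ ⥤ CochainComplex (ModuleCat.{u} (Ox x)) ℤ :=
  (stalkFun x).mapHomologicalComplex (ComplexShape.up ℤ)

variable (L K : CochainComplex X.Modules ℤ)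

/-- the bicomplex `L^p ⊗ K^q` -/
noncomputable abbrev BX :=
  (((DCoh.tensorBi (X := X)).mapBifunctorHomologicalComplex (ComplexShape.up ℤ)
    (ComplexShape.up ℤ)).obj L).obj K

/-- the bicomplex `L_x^p ⊗ K_x^q` -/
noncomputable abbrev BS :=
  (((curriedTensor (ModuleCat.{u} (Ox x))).mapBifunctorHomologicalComplex (ComplexShape.up ℤ)
    (ComplexShape.up ℤ)).obj ((stalkC x).obj L)).obj ((stalkC x).obj K)

/-- the stalk of the tensor product of two complexes is the tensor product of the stalks -/
theorem nonempty_stalkTotIso :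
    Nonempty ((stalkC x).obj (mapBifunctor L K (DCoh.tensorBi (X := X)) (ComplexShape.up ℤ)) ≅
      mapBifunctor ((stalkC x).obj L) ((stalkC x).obj K) (curriedTensor (ModuleCat.{u} (Ox x)))
        (ComplexShape.up ℤ)) := by
  haveI h1 : ((TotMap.map₂ (stalkFun x) (ComplexShape.up ℤ) (ComplexShape.up ℤ)).obj
      (BX L K)).HasTotal (ComplexShape.up ℤ) :=
    TotMap.hasTotal_map₂ (stalkFun x) (BX L K) (ComplexShape.up ℤ)
  let e₂ : (TotMap.map₂ (stalkFun x) (ComplexShape.up ℤ) (ComplexShape.up ℤ)).obj (BX L K) ≅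
      (((G₁ x).mapBifunctorHomologicalComplex (ComplexShape.up ℤ)
        (ComplexShape.up ℤ)).obj L).obj K :=
    (TotMap.mapBifunctorPostcompIso (DCoh.tensorBi (X := X)) (stalkFun x) L K).symm
  haveI h2 : HasMapBifunctor L K (G₁ x) (ComplexShape.up ℤ) :=
    HomologicalComplex₂.hasTotal_of_iso e₂ (ComplexShape.up ℤ)
  let e₄ : BS x L K ≅ (((G₂ x).mapBifunctorHomologicalComplex (ComplexShape.up ℤ)
        (ComplexShape.up ℤ)).obj L).obj K :=
    TotMap.mapBifunctorPrecompIso (stalkFun x) (stalkFun x) (curriedTensor (ModuleCat.{u} (Ox x))) L K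
  haveI h3 : HasMapBifunctor L K (G₂ x) (ComplexShape.up ℤ) :=
    HomologicalComplex₂.hasTotal_of_iso e₄ (ComplexShape.up ℤ)
  exact ⟨TotMap.mapTotalIso (stalkFun x) (BX L K) (ComplexShape.up ℤ) ≪≫
    HomologicalComplex₂.total.mapIso e₂ (ComplexShape.up ℤ) ≪≫
    TotMap.mapBifunctorNatIso L K (ComplexShape.up ℤ) (stalkTensorIso x) ≪≫
    (HomologicalComplex₂.total.mapIso e₄ (ComplexShape.up ℤ)).symm⟩

/-- K-flatness of a complex of modules over a ring, in terms of `mapBifunctor` -/
def RKFlat {A : Type u} [CommRing A] (K : CochainComplex (ModuleCat.{u} A) ℤ) : Prop :=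
  ∀ M : CochainComplex (ModuleCat.{u} A) ℤ, Acyc M →
    Acyc (mapBifunctor M K (curriedTensor (ModuleCat.{u} A)) (ComplexShape.up ℤ))

lemma rKFlat_iff {A : Type u} [CommRing A] (K : CochainComplex (ModuleCat.{u} A) ℤ) :
    RKFlat K ↔ DRing.IsKFlat A K := Iff.rfl

lemma RKFlat.of_iso {A : Type u} [CommRing A] {K K' : CochainComplex (ModuleCat.{u} A) ℤ}
    (e : K ≅ K') (h : RKFlat K) : RKFlat K' := fun M hM =>
  Acyc.of_iso (((curriedTensor (ModuleCat.{u} A)).map₂CochainComplex.obj M).mapIso e) (h M hM)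

/-- stalkwise K-flat complexes are K-flat -/
theorem isKFlat_of_forall_stalk (K : CochainComplex X.Modules ℤ)
    (h : ∀ x : X, RKFlat ((stalkC x).obj K)) : DCoh.IsKFlat K := by
  intro L hL
  apply acyc_of_forall_acyc_stalk
  intro x
  obtain ⟨e⟩ := nonempty_stalkTotIso x L K
  exact Acyc.of_iso e.symm (h x ((stalkC x).obj L) (acyc_map_of_acyc (stalkFun x) L hL))

/-- the stalk at `x` of the termwise skyscraper -/
noncomputable def skyStalkCIso (M : CochainComplex (ModuleCat.{u} (Ox x)) ℤ) :
    (stalkC x).obj (((skyFun x).mapHomologicalComplex (ComplexShape.up ℤ)).obj M) ≅ M :=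
  HomologicalComplex.Hom.isoOfComponents (fun i => (skyStalkIso x).app (M.X i))
    (fun i j _ => ((skyStalkIso x).hom.naturality (M.d i j)).symm)

/-- the stalks of a K-flat complex are K-flat -/
theorem rKFlat_stalk_of_isKFlat (K : CochainComplex X.Modules ℤ) (hK : DCoh.IsKFlat K) :
    RKFlat ((stalkC x).obj K) := by
  intro M hM
  have hL : Acyc (((skyFun x).mapHomologicalComplex (ComplexShape.up ℤ)).obj M) :=
    acyc_map_of_acyc (skyFun x) M hM
  have h1 := acyc_map_of_acyc (stalkFun x) _ (hK _ hL)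
  obtain ⟨e⟩ := nonempty_stalkTotIso x (((skyFun x).mapHomologicalComplex (ComplexShape.up ℤ)).obj M) K
  have h2 := Acyc.of_iso e h1
  exact Acyc.of_iso (((curriedTensor (ModuleCat.{u} (Ox x))).map₂CochainComplex.mapIso
    (skyStalkCIso x M)).app ((stalkC x).obj K)) h2

/-- the prelude's stalk functor is ours -/
noncomputable def stalkFunctorIso : DerSch.stalkFunctor X x ≅ stalkFun x :=
  NatIso.ofComponents (fun M => Iso.refl _) (fun {M N} φ => by
    ext a
    rfl)

/-- K-flatness is stalkwise -/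
theorem isKFlat_iff_forall_stalk (K : CochainComplex X.Modules ℤ) :
    DCoh.IsKFlat K ↔ ∀ x : X, DRing.IsKFlat (X.presheaf.stalk x)
      (((DerSch.stalkFunctor X x).mapHomologicalComplex (ComplexShape.up ℤ)).obj K) := by
  constructor
  · intro hK x
    exact (rKFlat_iff _).1 (RKFlat.of_iso
      ((NatIso.mapHomologicalComplex (stalkFunctorIso x) (ComplexShape.up ℤ)).app K).symm
      (rKFlat_stalk_of_isKFlat x K hK))
  · intro h
    apply isKFlat_of_forall_stalk
    intro x
    exact RKFlat.of_iso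
      ((NatIso.mapHomologicalComplex (stalkFunctorIso x) (ComplexShape.up ℤ)).app K)
      ((rKFlat_iff _).2 (h x))

end Groth.Agent.Lib.Helper1.KBC
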