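import Mathlib
import Groth.Agent.Lib.Helper1BKF11
set_option backward.isDefEq.respectTransparency.types false

/-!
# Functorial cell resolutions
(helper1, bifunctor K-flat cluster, part 14)
-/

set_option autoImplicit false
universe v u
open CategoryTheory CategoryTheory.Limits HomologicalComplex MorphismProperty ZeroObject

namespace Groth.Agent.Lib.Helper1.BKF

section general

variable {A : Type (u + 1)} [Category.{u} A] [Abelian A] [IsGrothendieckAbelian.{u} A]
  {ι : Type u} {g : ι → A}
  {P : ObjectProperty (CochainComplex A ℤ)} [P.IsClosedUnderIsomorphisms]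
  (hP : CellClosed g P)

attribute [local instance] MorphismProperty.smallObjectκ_isRegular

/-- the arrow `0 ⟶ X` -/
noncomputable abbrev zeroArrow (X : CochainComplex A ℤ) : Arrow (CochainComplex A ℤ) :=
  Arrow.mk (0 : (0 : CochainComplex A ℤ) ⟶ X)

/-- functoriality of the arrow `0 ⟶ X` -/
noncomputable abbrev zeroArrowMap {X Y : CochainComplex A ℤ} (f : X ⟶ Y) :
    zeroArrow X ⟶ zeroArrow Y :=
  Arrow.homMk (𝟙 0) f (by simp)

variable (g) in
/-- the functorial cell resolution -/
noncomputable def cellRes : CochainComplex A ℤ ⥤ CochainComplex A ℤ where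
  obj X := SmallObject.obj (genI g) (genI g).smallObjectκ (zeroArrow X).hom
  map f := SmallObject.objMap (genI g) (genI g).smallObjectκ (zeroArrowMap f)
  map_id X := by
    have : zeroArrowMap (𝟙 X) = 𝟙 (zeroArrow X) := by ext <;> simp
    rw [this, SmallObject.objMap_id]
  map_comp f f' := by
    have : zeroArrowMap (f ≫ f') = zeroArrowMap f ≫ zeroArrowMap f' := by ext <;> simp
    rw [this, SmallObject.objMap_comp]

variable (g) in
/-- the augmentation of the functorial cell resolution -/
noncomputable def cellResπ : cellRes g ⟶ 𝟭 (CochainComplex A ℤ) where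
  app X := SmallObject.πObj (genI g) (genI g).smallObjectκ (zeroArrow X).hom
  naturality _ _ f := SmallObject.πObj_naturality (genI g) (genI g).smallObjectκ (zeroArrowMap f)

lemma rlp_cellResπ (X : CochainComplex A ℤ) : (genI g).rlp ((cellResπ g).app X) :=
  SmallObject.rlp_πObj (genI g) (genI g).smallObjectκ _

include hP in
lemma prop_cellRes (X : CochainComplex A ℤ) : P ((cellRes g).obj X) := by
  haveI := monoCoker_isMultiplicative P hP.ext
  haveI := isStableUnderFilteredColimits_monoCoker hP
  haveI := isStableUnderCoproducts_monoCoker hP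
  let κ := (genI g).smallObjectκ
  let f : (0 : CochainComplex A ℤ) ⟶ X := 0
  have h1 := SmallObject.transfiniteCompositionsOfShape_ιObj (genI g) κ f
  have h2 : (coproducts.{u} (genI g)).pushouts ≤ monoCoker P := by
    rw [pushouts_le_iff, coproducts_le_iff]
    exact genI_le_monoCoker hP
  have h3 : monoCoker P (SmallObject.ιObj (genI g) κ f) :=
    transfiniteCompositionsOfShape_le _ _ _
      (transfiniteCompositionsOfShape_monotone _ h2 _ h1)
  have h0 : SmallObject.ιObj (genI g) κ f = 0 := (isZero_zero _).eq_of_src _ _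
  rw [h0] at h3
  exact P.prop_of_iso cokernelZeroIsoTarget h3.2

end general

section site

open Groth.Agent.Lib.Helper21.ModTensor3 Groth.Agent.Lib.Helper21.ModTensor5

variable {C : Type u} [SmallCategory C] {J : GrothendieckTopology C} (O : Sheaf J CommRingCat.{u})

/-- functorial K-flat resolutions with flat terms, surjective in each degree -/
theorem exists_functorial_kflat_flat_resolution :
    ∃ (R : CochainComplex (ModSite.Mod O) ℤ ⥤ CochainComplex (ModSite.Mod O) ℤ)
      (ψ : R ⟶ 𝟭 (CochainComplex (ModSite.Mod O) ℤ)),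
      ∀ G : CochainComplex (ModSite.Mod O) ℤ, ModSite.IsKFlat (R.obj G) ∧
        (∀ n : ℤ, ModSite.IsFlat ((R.obj G).X n)) ∧ QuasiIso (ψ.app G) ∧
        ∀ n : ℤ, Epi ((ψ.app G).f n) := by
  haveI : IsGrothendieckAbelian.{u} (ModSite.Mod O) := isGrothendieckAbelian O
  refine ⟨cellRes (fun U : C => ModSite.freeOn O U), cellResπ (fun U : C => ModSite.freeOn O U),
    fun G => ?_⟩
  have hK : KFF O ((cellRes (fun U : C => ModSite.freeOn O U)).obj G) :=
    prop_cellRes (P := KFF O) (cellClosed_kff O) G
  have hq := rlp_cellResπ (g := fun U : C => ModSite.freeOn O U) G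
  rw [rlp_genI_iff] at hq
  have hq' : ∀ (M : ModSite.Mod O),
      (ObjectProperty.ofObj fun X : (Set.univ : Set C) => ModSite.freeOn O (X : C)) M →
      LiftCat M ((cellResπ (fun U : C => ModSite.freeOn O U)).app G) := by
    rintro M ⟨X⟩
    exact hq X.1
  exact ⟨hK.1, hK.2, quasiIso_of_liftCat (isDetecting_freeOn O) _ hq',
    fun n => epi_f_of_liftCat (isDetecting_freeOn O) _ hq' n⟩

end site

end Groth.Agent.Lib.Helper1.BKF
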