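import Mathlib
set_option backward.isDefEq.respectTransparency.types false

/-!
# Left derived functors are computed on objects of a class admitting functorial left resolutions
(helper1)
-/

set_option autoImplicit false
open CategoryTheory

namespace Groth.Agent.Lib.Helper1.CI

universe v₁ v₂ v₃ u₁ u₂ u₃

variable {C : Type u₁} {D : Type u₂} {H : Type u₃} [Category.{v₁} C] [Category.{v₂} D]
  [Category.{v₃} H]
  (W : MorphismProperty C) [W.HasTwoOutOfThreeProperty]
  (L : C ⥤ D) [L.IsLocalization W] (F : C ⥤ H) (LF : D ⥤ H) (ε : L ⋙ LF ⟶ F)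
  [LF.IsLeftDerivedFunctor ε W]
  (P : ObjectProperty C) (ρ : C ⥤ C) (π : ρ ⟶ 𝟭 C)
  (hρ : ∀ X, P (ρ.obj X)) (hπ : ∀ X, W (π.app X))
  (hF : ∀ {X Y : C} (f : X ⟶ Y), P X → P Y → W f → IsIso (F.map f))

include hρ hπ hF in
lemma inverts_comp : W.IsInvertedBy (ρ ⋙ F) := by
  intro X Y f hf
  have h1 : W (ρ.map f ≫ π.app Y) := by
    have := π.naturality f
    dsimp at this
    rw [this]
    exact W.comp_mem _ _ (hπ X) hf
  have h2 : W (ρ.map f) := W.of_postcomp _ _ (hπ Y) h1
  exact hF (ρ.map f) (hρ X) (hρ Y) h2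

include hρ hπ hF in
/-- the counit of a left derived functor is an isomorphism at the objects of a class `P` such that
`F` inverts the `W`-morphisms between objects of `P` and there are functorial left `P`-resolutions -/
theorem isIso_counit_app (X : C) (hX : P X) : IsIso (ε.app X) := by
  have hinv := inverts_comp W F P ρ π hρ hπ hF
  let G : D ⥤ H := Localization.lift (ρ ⋙ F) hinv L
  let e : L ⋙ G ≅ ρ ⋙ F := Localization.fac (ρ ⋙ F) hinv L
  let γ : L ⋙ G ⟶ F := e.hom ≫ Functor.whiskerRight π F ≫ (Functor.leftUnitor F).hom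
  let φ : G ⟶ LF := LF.leftDerivedLift ε W G γ
  have hφ : ∀ Y : C, φ.app (L.obj Y) ≫ ε.app Y = γ.app Y := fun Y =>
    LF.leftDerived_fac_app ε W G γ Y
  have hLπ : ∀ Y : C, IsIso (L.map (π.app Y)) := fun Y =>
    Localization.inverts L W _ (hπ Y)
  -- ψ
  let ψ₀ : L ⋙ LF ⟶ L ⋙ G :=
    { app := fun Y => inv (LF.map (L.map (π.app Y))) ≫ ε.app (ρ.obj Y) ≫ e.inv.app Y
      naturality := fun Y Z f => by
        dsimp
        have h1 : LF.map (L.map f) ≫ inv (LF.map (L.map (π.app Z))) =
            inv (LF.map (L.map (π.app Y))) ≫ LF.map (L.map (ρ.map f)) := by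
          rw [IsIso.comp_inv_eq, Category.assoc, IsIso.eq_inv_comp, ← LF.map_comp, ← LF.map_comp,
            ← L.map_comp, ← L.map_comp]
          have := π.naturality f
          dsimp at this
          rw [this]
        have h2 := ε.naturality (ρ.map f)
        have h3 := e.inv.naturality f
        dsimp at h2 h3
        rw [reassoc_of% h1, reassoc_of% h2, h3]
        simp only [Category.assoc] }
  let ψ : LF ⟶ G := Localization.liftNatTrans L W _ _ _ _ ψ₀
  have hψ : ∀ Y : C, ψ.app (L.obj Y) =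
      inv (LF.map (L.map (π.app Y))) ≫ ε.app (ρ.obj Y) ≫ e.inv.app Y := fun Y => by
    simp [ψ, ψ₀]
  have hψφ : ψ ≫ φ = 𝟙 LF := by
    apply LF.leftDerived_ext ε W
    ext Y
    simp only [Functor.whiskerLeft_comp, NatTrans.comp_app, Functor.whiskerLeft_app,
      Category.assoc, Functor.whiskerLeft_id', NatTrans.id_app, Category.id_comp]
    rw [hφ, hψ]
    simp only [γ, NatTrans.comp_app, Functor.whiskerRight_app, Functor.leftUnitor_hom_app,
      Category.assoc, Iso.inv_hom_id_app_assoc, Category.comp_id]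
    have := ε.naturality (π.app Y)
    dsimp at this
    erw [Category.comp_id]
    rw [← this, IsIso.inv_hom_id_assoc]
  -- conclude at `X`
  have hγX : IsIso (γ.app X) := by
    have : IsIso (F.map (π.app X)) := hF _ (hρ X) hX (hπ X)
    simp only [γ, NatTrans.comp_app, Functor.whiskerRight_app, Functor.leftUnitor_hom_app]
    erw [Category.comp_id]
    infer_instance
  have h1 : ψ.app (L.obj X) ≫ φ.app (L.obj X) = 𝟙 _ := by
    rw [← NatTrans.comp_app, hψφ]; rfl
  have h2 : IsIso (φ.app (L.obj X) ≫ ε.app X) := by rw [hφ]; exact hγX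
  -- φ_X is split epi (section ψ_X) and mono ⇒ iso
  have h3 : IsIso (φ.app (L.obj X)) := by
    have hmono : Mono (φ.app (L.obj X)) := mono_of_mono (φ.app (L.obj X)) (ε.app X)
    have hse : IsSplitEpi (φ.app (L.obj X)) := ⟨⟨⟨ψ.app (L.obj X), h1⟩⟩⟩
    exact isIso_of_mono_of_isSplitEpi _
  exact IsIso.of_isIso_comp_left (φ.app (L.obj X)) (ε.app X)

end Groth.Agent.Lib.Helper1.CI
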