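import Mathlib
import Groth.Agent.Lib.Helper1CI1
set_option backward.isDefEq.respectTransparency.types false

/-!
# Left derived functors along a composite of localization functors (helper1)
-/

set_option autoImplicit false
open CategoryTheory

namespace Groth.Agent.Lib.Helper1.CI

universe v₁ v₂ v₃ v₄ u₁ u₂ u₃ u₄

variable {C : Type u₁} {C' : Type u₂} {D : Type u₃} {H : Type u₄} [Category.{v₁} C]
  [Category.{v₂} C'] [Category.{v₃} D] [Category.{v₄} H]
  (W₁ : MorphismProperty C) (W₂ : MorphismProperty C') (W : MorphismProperty C)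
  (L₁ : C ⥤ C') [L₁.IsLocalization W₁] (L₂ : C' ⥤ D) [L₂.IsLocalization W₂]
  [(L₁ ⋙ L₂).IsLocalization W]
  (F : C' ⥤ H) (LF : D ⥤ H) (ε : L₂ ⋙ LF ⟶ F) [LF.IsLeftDerivedFunctor ε W₂]

/-- the counit along the composite -/
def compCounit : (L₁ ⋙ L₂) ⋙ LF ⟶ L₁ ⋙ F :=
  (Functor.associator L₁ L₂ LF).hom ≫ Functor.whiskerLeft L₁ ε

lemma compCounit_app (X : C) : (compCounit L₁ L₂ F LF ε).app X = ε.app (L₁.obj X) := by
  simp [compCounit]

include W₁ W₂ in
theorem isLeftDerivedFunctor_comp :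
    LF.IsLeftDerivedFunctor (compCounit L₁ L₂ F LF ε) W := by
  rw [Functor.isLeftDerivedFunctor_iff_isRightKanExtension]
  refine ⟨⟨Limits.IsTerminal.ofUniqueHom (fun E => ?_) (fun E m => ?_)⟩⟩
  · -- existence
    let G : D ⥤ H := E.left
    let β : (L₁ ⋙ L₂) ⋙ G ⟶ L₁ ⋙ F := E.hom
    let β₀ : L₁ ⋙ (L₂ ⋙ G) ⟶ L₁ ⋙ F := (Functor.associator L₁ L₂ G).inv ≫ β
    let β' : L₂ ⋙ G ⟶ F := Localization.liftNatTrans L₁ W₁ _ _ (L₂ ⋙ G) F β₀
    let θ : G ⟶ LF := LF.leftDerivedLift ε W₂ G β'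
    refine CostructuredArrow.homMk θ ?_
    ext X
    have h1 := LF.leftDerived_fac_app ε W₂ G β' (L₁.obj X)
    have h2 : β'.app (L₁.obj X) = β.app X := by
      simp [β', β₀]
    simp only [Functor.whiskeringLeft_obj_obj, Functor.whiskeringLeft_obj_map, NatTrans.comp_app,
      Functor.whiskerLeft_app, Functor.comp_obj]
    change θ.app (L₂.obj (L₁.obj X)) ≫ (compCounit L₁ L₂ F LF ε).app X = β.app X
    rw [compCounit_app, h1, h2]
  · -- uniqueness
    let G : D ⥤ H := E.left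
    let β : (L₁ ⋙ L₂) ⋙ G ⟶ L₁ ⋙ F := E.hom
    let β₀ : L₁ ⋙ (L₂ ⋙ G) ⟶ L₁ ⋙ F := (Functor.associator L₁ L₂ G).inv ≫ β
    let β' : L₂ ⋙ G ⟶ F := Localization.liftNatTrans L₁ W₁ _ _ (L₂ ⋙ G) F β₀
    apply CostructuredArrow.hom_ext
    apply LF.leftDerived_ext ε W₂
    change Functor.whiskerLeft L₂ m.left ≫ ε =
      Functor.whiskerLeft L₂ (LF.leftDerivedLift ε W₂ G β') ≫ ε
    rw [Functor.leftDerived_fac]
    apply Localization.natTrans_ext L₁ W₁
    intro X
    have hm := congrArg (fun t => t.app X) (CostructuredArrow.w m)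
    have h2 : β'.app (L₁.obj X) = β.app X := by
      simp [β', β₀]
    rw [h2]
    simp only [NatTrans.comp_app, Functor.whiskerLeft_app]
    have : (compCounit L₁ L₂ F LF ε).app X = ε.app (L₁.obj X) := compCounit_app _ _ _ _ _ X
    rw [← this]
    exact hm

end Groth.Agent.Lib.Helper1.CI
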