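import Mathlib
import Groth.Prelude.Def_KFlatSite
import Groth.Prelude.Def_DCoh4
import Groth.Prelude.Def_FlatMod2
import Groth.Agent.Lib.Helper1StalkTensorB
set_option backward.isDefEq.respectTransparency.types false

/-!
# Test modules `ι_* Ñ` and the converse: tensor-exact ⇒ stalkwise flat (helper1)
-/

set_option autoImplicit false
universe u
open CategoryTheory TopCat TopologicalSpace Opposite TensorProduct MonoidalCategory AlgebraicGeometry

namespace Groth.Agent.Lib.Helper1.StalkTensor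

variable {X : Scheme.{u}} (x : X)

/-- the local ring at `x` -/
noncomputable abbrev Ox : CommRingCat.{u} := X.presheaf.stalk x

/-- `Spec O_{X,x} ⟶ X` -/
noncomputable abbrev ιx : Spec (Ox x) ⟶ X := X.fromSpecStalk x

/-- the test module functor `N ↦ ι_* Ñ` -/
noncomputable def GNF : ModuleCat.{u} (Ox x) ⥤ X.Modules :=
  tilde.functor (Ox x) ⋙ Scheme.Modules.pushforward (ιx x)

lemma preimage_eq_top {U : X.Opens} (hU : x ∈ U) : (ιx x) ⁻¹ᵁ U = ⊤ := by
  ext y
  simp only [Opens.coe_top, Set.mem_univ, iff_true]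
  have h1 : (ιx x) y ⤳ x := by
    have : (ιx x) y ∈ Set.range (ιx x) := ⟨y, rfl⟩
    rw [Scheme.range_fromSpecStalk] at this
    exact this
  exact h1.mem_open U.2 hU


variable {x}

/-- the map from `N` to the sections of the test module over `U` -/
noncomputable def toSec (N : ModuleCat.{u} (Ox x)) (U : X.Opens) :
    N →+ (toPM ((GNF x).obj N)).obj (op U) :=
  (tilde.toOpen N ((ιx x) ⁻¹ᵁ U)).hom.toAddMonoidHom

lemma toSec_rs (N : ModuleCat.{u} (Ox x)) {U V : X.Opens} (i : V ⟶ U) (n : N) :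
    rs (toPM ((GNF x).obj N)) i (toSec N U n) = toSec N V n := rfl

lemma toOpen_bijective_of_eq_top (N : ModuleCat.{u} (Ox x)) (V : (Spec (Ox x)).Opens) (hV : V = ⊤) :
    Function.Bijective (tilde.toOpen N V).hom := by
  subst hV
  exact (ConcreteCategory.isIso_iff_bijective _).1 inferInstance

lemma toSec_bijective (N : ModuleCat.{u} (Ox x)) {U : X.Opens} (hU : x ∈ U) :
    Function.Bijective (toSec N U) :=
  toOpen_bijective_of_eq_top N _ (preimage_eq_top x hU)


/-- the comparison `N → (ι_* Ñ)_x` -/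
noncomputable def ψ (N : ModuleCat.{u} (Ox x)) : N →+ St (toPM ((GNF x).obj N)) x :=
  (gm _ x ⊤ trivial).comp (toSec N ⊤)

lemma ψ_eq (N : ModuleCat.{u} (Ox x)) {U : X.Opens} (hU : x ∈ U) (n : N) :
    ψ N n = gm _ x U hU (toSec N U n) := by
  rw [← toSec_rs N (homOfLE le_top : U ⟶ ⊤), gm_rs]
  rfl

lemma ψ_surjective (N : ModuleCat.{u} (Ox x)) : Function.Surjective (ψ N) := by
  intro a
  obtain ⟨U, hU, s, rfl⟩ := exists_gm_eq a
  obtain ⟨n, rfl⟩ := (toSec_bijective N hU).2 s
  exact ⟨n, ψ_eq N hU n⟩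

lemma ψ_injective (N : ModuleCat.{u} (Ox x)) : Function.Injective (ψ N) := by
  rw [injective_iff_map_eq_zero]
  intro n hn
  have h0 : gm (toPM ((GNF x).obj N)) x ⊤ trivial (toSec N ⊤ n) =
      gm (toPM ((GNF x).obj N)) x ⊤ trivial 0 := by
    rw [map_zero]; exact hn
  obtain ⟨W, hW, i₁, i₂, e⟩ := gm_eq _ _ _ _ h0
  rw [toSec_rs, map_zero] at e
  exact (toSec_bijective N hW).1 (e.trans (map_zero _).symm)


lemma toSec_smul (N : ModuleCat.{u} (Ox x)) {U : X.Opens} (hU : x ∈ U) (c : X.presheaf.obj (op U))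
    (n : N) :
    toSec N U (gr X.presheaf x U hU c • n) = (c • toSec N U n : (toPM ((GNF x).obj N)).obj (op U)) := by
  have h1 : toSec N U (gr X.presheaf x U hU c • n) =
      (gr X.presheaf x U hU c) • (tilde.toOpen N ((ιx x) ⁻¹ᵁ U)).hom n :=
    (tilde.toOpen N ((ιx x) ⁻¹ᵁ U)).hom.map_smul _ _
  rw [h1]
  have h2 := Scheme.fromSpecStalk_app (X := X) (x := x) hU
  have h3 : (ιx x).app U c =
      ((Spec (Ox x)).presheaf.map (homOfLE le_top).op)
        ((Scheme.ΓSpecIso (Ox x)).inv (gr X.presheaf x U hU c)) := by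
    rw [h2]; rfl
  set t : Γ(tilde N, (ιx x) ⁻¹ᵁ U) := (tilde.toOpen N ((ιx x) ⁻¹ᵁ U)).hom n with ht
  have h4 : (c • toSec N U n : (toPM ((GNF x).obj N)).obj (op U)) =
      (((ιx x).app U c : Γ(Spec (Ox x), (ιx x) ⁻¹ᵁ U)) • t : Γ(tilde N, (ιx x) ⁻¹ᵁ U)) := rfl
  have h5 : (gr X.presheaf x U hU c • t : Γ(tilde N, (ιx x) ⁻¹ᵁ U)) =
      (((Spec (Ox x)).presheaf.map (Opens.leTop _).op)
        ((Scheme.ΓSpecIso (Ox x)).inv (gr X.presheaf x U hU c)) • t : Γ(tilde N, (ιx x) ⁻¹ᵁ U)) :=
    Scheme.Modules.smul_Spec_def _ _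
  rw [h4, h3]
  exact h5


lemma ψ_smul (N : ModuleCat.{u} (Ox x)) (r : Ox x) (n : N) : ψ N (r • n) = r • ψ N n := by
  obtain ⟨U, hU, c, rfl⟩ := exists_gr_eq (R := X.presheaf) (x := x) r
  rw [ψ_eq N hU, ψ_eq N hU, toSec_smul N hU, gm_smul]

/-- `N ≃ (ι_* Ñ)_x`, linearly over the local ring -/
noncomputable def ψLin (N : ModuleCat.{u} (Ox x)) : N ≃ₗ[Ox x] St (toPM ((GNF x).obj N)) x :=
  LinearEquiv.ofBijective { ψ N with map_smul' := fun r n => ψ_smul N r n }
    ⟨ψ_injective N, ψ_surjective N⟩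

lemma ψLin_apply (N : ModuleCat.{u} (Ox x)) (n : N) : ψLin N n = ψ N n := rfl

lemma toSec_naturality {N' N : ModuleCat.{u} (Ox x)} (g : N' ⟶ N) (U : X.Opens) (n : N') :
    (toPMMap ((GNF x).map g)).app (op U) (toSec N' U n) = toSec N U (g.hom n) :=
  congrArg (fun f => f.hom n) (tilde.toOpen_map_app g ((ιx x) ⁻¹ᵁ U))

lemma ψ_naturality {N' N : ModuleCat.{u} (Ox x)} (g : N' ⟶ N) (n : N') :
    sm (toPMMap ((GNF x).map g)) x (ψ N' n) = ψ N (g.hom n) := by
  change sm _ x (gm _ x ⊤ trivial (toSec N' ⊤ n)) = gm _ x ⊤ trivial (toSec N ⊤ (g.hom n))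
  rw [sm_gm, toSec_naturality]


lemma mono_of_app_injective {Y : Scheme.{u}} {M N : Y.Modules} (φ : M ⟶ N)
    (h : ∀ U : Y.Opens, Function.Injective (φ.app U)) : Mono φ := by
  apply Functor.mono_of_mono_map (Scheme.Modules.toPresheaf Y)
  apply (config := { allowSynthFailures := true }) NatTrans.mono_of_mono_app
  intro U
  rw [AddCommGrpCat.mono_iff_injective]
  exact h U.unop

lemma tilde_map_app_injective {R : CommRingCat.{u}} {N' N : ModuleCat.{u} R} (g : N' ⟶ N)
    (hg : Function.Injective g.hom) (V : (Spec R).Opens) :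
    Function.Injective ((tilde.map g).app V) := by
  intro s t h
  apply Subtype.ext
  funext y
  have h1 := congrArg (fun z => z.1 y) h
  exact LocalizedModule.map_injective _ _ hg h1


variable (x) in
lemma mono_GNF_map {N' N : ModuleCat.{u} (Ox x)} (g : N' ⟶ N) (hg : Function.Injective g.hom) :
    Mono ((GNF x).map g) :=
  mono_of_app_injective _ (fun U => tilde_map_app_injective g hg ((ιx x) ⁻¹ᵁ U))

/-- for a tensor-exact module `F`, tensoring `F_x` with an injective map is injective -/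
theorem rTensor_injective_of_modSite_isFlat (F : X.Modules) (hF : ModSite.IsFlat (O := X.sheaf) F)
    (x : X) {N' N : ModuleCat.{u} (Ox x)} (g : N' ⟶ N) (hg : Function.Injective g.hom) :
    Function.Injective (LinearMap.rTensor (St (toPM F) x) g.hom) := by
  have hm0 := mono_GNF_map x g hg
  have hpl : Limits.PreservesFiniteLimits ((ModSite.tensorBi X.sheaf).flip.obj F) := hF.1
  have hm : Mono ((DCoh.tensorBi.map ((GNF x).map g)).app F) := by
    have := @Functor.map_mono _ _ _ _ ((ModSite.tensorBi X.sheaf).flip.obj F) _ _ _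
      ((GNF x).map g) hm0
    exact this
  rw [tensorBi_map_app] at hm
  have h1 := @sm_injective_of_mono _ _ _ (shX.map (toPMMap ((GNF x).map g) ▷ toPM F)) hm x
  have h2 : Function.Injective (sm (toPMMap ((GNF x).map g) ▷ toPM F) x) := by
    intro a b hab
    apply (sm_etaX_bijective _ x).1
    apply h1
    rw [← sm_etaX_naturality, ← sm_etaX_naturality, hab]
  have h3 : Function.Injective
      (LinearMap.rTensor (St (toPM F) x) (smₗ (toPMMap ((GNF x).map g)) x)) := by
    intro a b hab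
    obtain ⟨a', rfl⟩ := (α_bijective (P := toPM ((GNF x).obj N')) (Q := toPM F) (x := x)).2 a
    obtain ⟨b', rfl⟩ := (α_bijective (P := toPM ((GNF x).obj N')) (Q := toPM F) (x := x)).2 b
    rw [← α_nat_left, ← α_nat_left] at hab
    rw [h2 ((α_bijective).1 hab)]
  have h4 : (smₗ (toPMMap ((GNF x).map g)) x) ∘ₗ (ψLin N').toLinearMap =
      (ψLin N).toLinearMap ∘ₗ g.hom := by
    ext n
    exact ψ_naturality g n
  have h5 : (LinearMap.rTensor (St (toPM F) x) (ψLin N).toLinearMap) ∘ₗ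
        (LinearMap.rTensor (St (toPM F) x) g.hom) =
      (LinearMap.rTensor (St (toPM F) x) (smₗ (toPMMap ((GNF x).map g)) x)) ∘ₗ
        (LinearMap.rTensor (St (toPM F) x) (ψLin N').toLinearMap) := by
    rw [← LinearMap.rTensor_comp, ← LinearMap.rTensor_comp, h4]
  have h6 : Function.Injective (LinearMap.rTensor (St (toPM F) x) (ψLin N').toLinearMap) :=
    (LinearEquiv.rTensor (St (toPM F) x) (ψLin N')).injective
  have h7 : Function.Injective ((LinearMap.rTensor (St (toPM F) x) (ψLin N).toLinearMap) ∘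
      (LinearMap.rTensor (St (toPM F) x) g.hom)) := by
    have := h3.comp h6
    rw [← LinearMap.coe_comp, ← h5, LinearMap.coe_comp] at this
    exact this
  exact Function.Injective.of_comp h7

/-- a tensor-exact `O_X`-module is stalkwise flat -/
theorem isFlat_of_modSite_isFlat (F : X.Modules) (hF : ModSite.IsFlat (O := X.sheaf) F) :
    FlatMod.IsFlat F := by
  intro x
  change Module.Flat (Ox x) (St (toPM F) x)
  rw [Module.Flat.iff_rTensor_preserves_injective_linearMap]
  intro N' N _ _ _ _ g hg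
  exact rTensor_injective_of_modSite_isFlat F hF x (ModuleCat.ofHom g) hg

theorem modSite_isFlat_iff (F : X.Modules) : ModSite.IsFlat (O := X.sheaf) F ↔ FlatMod.IsFlat F :=
  ⟨isFlat_of_modSite_isFlat F, modSite_isFlat_of_isFlat F⟩

end Groth.Agent.Lib.Helper1.StalkTensor
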