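import Mathlib
import Groth.Prelude.Def_DTor2
import Groth.Prelude.Def_KFlatSite
import Groth.Prelude.Def_DCoh4
import Groth.Agent.Lib.Helper1CI2
import Groth.Agent.Lib.Helper1BKF16
import Groth.Agent.Lib.Helper1BKF14
import Groth.Agent.Lib.Helper1StalkTensorC
set_option backward.isDefEq.respectTransparency.types false

/-!
# `K ⊗^L M` on a scheme is computed by K-flat complexes (helper1)
-/

set_option autoImplicit false
universe u
open CategoryTheory CategoryTheory.Limits AlgebraicGeometry HomologicalComplex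

attribute [local instance] HasDerivedCategory.standard

namespace Groth.Agent.Lib.Helper1.CI

open Groth.Agent.Lib.Helper1.BKF

variable {X : Scheme.{u}} (M : X.Modules)

/-- termwise tensor product with a module -/
noncomputable abbrev Ttw : CochainComplex X.Modules ℤ ⥤ CochainComplex X.Modules ℤ :=
  (DCoh.tensorRightMod M).mapHomologicalComplex (ComplexShape.up ℤ)

example : DCoh.tensorRightMod M = (ModSite.tensorBi X.sheaf).flip.obj M := rfl

/-- termwise tensoring an acyclic K-flat complex with a module gives an acyclic complex -/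
lemma acyc_Ttw (C : CochainComplex X.Modules ℤ) (hK : DCoh.IsKFlat C) (hac : Acyc C) :
    Acyc ((Ttw M).obj C) := by
  intro j
  rw [← exactAt_iff_isZero_homology,
    exactAt_iff' _ (j - 1) j (j + 1) (by simp) (by simp)]
  exact exact_map_of_acyc_isKFlat (O := X.sheaf) C hK hac M (j - 1) j (j + 1) (by omega) (by omega)


/-- termwise tensoring with a module preserves quasi-isomorphisms between K-flat complexes -/
lemma quasiIso_Ttw_map {E E' : CochainComplex X.Modules ℤ} (f : E ⟶ E') [QuasiIso f]
    (hE : DCoh.IsKFlat E) (hE' : DCoh.IsKFlat E') : QuasiIso ((Ttw M).map f) := by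
  apply quasiIso_of_acyc_cone
  have hK : DCoh.IsKFlat (CochainComplex.mappingCone f) := fun L hL =>
    (coneFunctor_TL_site X.sheaf L).acyc_cone f (hE L hL) (hE' L hL)
  have hac : Acyc (CochainComplex.mappingCone f) := acyc_cone_of_quasiIso f
  exact Acyc.of_iso (CochainComplex.mappingCone.mapHomologicalComplexIso f (DCoh.tensorRightMod M))
    (acyc_Ttw M _ hK hac)

/-- the functor `K(O_X) ⥤ D(O_X)` restricted to complexes -/
noncomputable abbrev FC : CochainComplex X.Modules ℤ ⥤ DCoh.D X :=
  HomotopyCategory.quotient _ _ ⋙ DCoh.tensorModKh M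

instance isLocalization_comp :
    (HomotopyCategory.quotient X.Modules (ComplexShape.up ℤ) ⋙ DerivedCategory.Qh).IsLocalization
      (HomologicalComplex.quasiIso X.Modules (ComplexShape.up ℤ)) :=
  Functor.IsLocalization.of_iso _ (DerivedCategory.quotientCompQhIso X.Modules).symm

lemma isIso_FC_map {E E' : CochainComplex X.Modules ℤ} (f : E ⟶ E') [QuasiIso f]
    (hE : DCoh.IsKFlat E) (hE' : DCoh.IsKFlat E') : IsIso ((FC M).map f) := by
  have h1 : QuasiIso ((Ttw M).map f) := quasiIso_Ttw_map M f hE hE'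
  have h2 : IsIso (DerivedCategory.Q.map ((Ttw M).map f)) := by
    rw [DerivedCategory.isIso_Q_map_iff_quasiIso]; exact h1
  have h3 : IsIso (DerivedCategory.Qh.map ((HomotopyCategory.quotient _ _).map ((Ttw M).map f))) := by
    have := DerivedCategory.quotientCompQhIso_hom_naturality ((Ttw M).map f)
    exact (NatIso.isIso_map_iff (DerivedCategory.quotientCompQhIso X.Modules) ((Ttw M).map f)).2 h2
  let e := Functor.isoWhiskerRight
    ((DCoh.tensorRightMod M).mapHomotopyCategoryFactors (ComplexShape.up ℤ)) DerivedCategory.Qh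
  exact (NatIso.isIso_map_iff e f).2 h3


variable [DCoh.HasLTensorMod M]

/-- the counit `K ⊗^L M ⟶ K ⊗ M` on complexes -/
noncomputable def ltmCounit :
    (HomotopyCategory.quotient X.Modules (ComplexShape.up ℤ) ⋙ DerivedCategory.Qh) ⋙
      DCoh.LTensorMod M ⟶ FC M :=
  compCounit (HomotopyCategory.quotient X.Modules (ComplexShape.up ℤ)) DerivedCategory.Qh
    (DCoh.tensorModKh M) (DCoh.LTensorMod M)
    ((DCoh.tensorModKh M).totalLeftDerivedCounit DerivedCategory.Qh
      (HomotopyCategory.quasiIso X.Modules (ComplexShape.up ℤ)))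

instance isLeftDerivedFunctor_ltm :
    (DCoh.LTensorMod M).IsLeftDerivedFunctor (ltmCounit M)
      (HomologicalComplex.quasiIso X.Modules (ComplexShape.up ℤ)) :=
  isLeftDerivedFunctor_comp
    (HomologicalComplex.homotopyEquivalences X.Modules (ComplexShape.up ℤ))
    (HomotopyCategory.quasiIso X.Modules (ComplexShape.up ℤ))
    (HomologicalComplex.quasiIso X.Modules (ComplexShape.up ℤ))
    (HomotopyCategory.quotient X.Modules (ComplexShape.up ℤ)) DerivedCategory.Qh
    (DCoh.tensorModKh M) (DCoh.LTensorMod M) _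

/-- the derived tensor product with a module is computed by K-flat complexes -/
theorem isIso_ltmCounit_app (E : CochainComplex X.Modules ℤ) (hE : DCoh.IsKFlat E) :
    IsIso ((ltmCounit M).app E) := by
  obtain ⟨R, ψ, h⟩ := exists_functorial_kflat_flat_resolution X.sheaf
  exact isIso_counit_app (HomologicalComplex.quasiIso X.Modules (ComplexShape.up ℤ))
    (HomotopyCategory.quotient X.Modules (ComplexShape.up ℤ) ⋙ DerivedCategory.Qh) (FC M)
    (DCoh.LTensorMod M) (ltmCounit M) (fun E => DCoh.IsKFlat E) R ψ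
    (fun G => (h G).1) (fun G => (h G).2.2.1)
    (fun {E E'} f hE hE' hf => by
      have : QuasiIso f := hf
      exact isIso_FC_map M f hE hE') E hE


/-- `K ⊗^L M ≅ K ⊗ M` for a K-flat complex `K` -/
noncomputable def ltmIso (E : CochainComplex X.Modules ℤ) (hE : DCoh.IsKFlat E) :
    (DCoh.LTensorMod M).obj (DCoh.toD X E) ≅ DCoh.toD X ((Ttw M).obj E) :=
  haveI := isIso_ltmCounit_app M E hE
  (DCoh.LTensorMod M).mapIso ((DerivedCategory.quotientCompQhIso X.Modules).app E).symm ≪≫
    asIso ((ltmCounit M).app E) ≪≫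
    DerivedCategory.Qh.mapIso
      (((DCoh.tensorRightMod M).mapHomotopyCategoryFactors (ComplexShape.up ℤ)).app E) ≪≫
    (DerivedCategory.quotientCompQhIso X.Modules).app ((Ttw M).obj E)

/-- the cohomology sheaves of `K ⊗^L M` for K-flat `K` -/
noncomputable def HDltmIso (E : CochainComplex X.Modules ℤ) (hE : DCoh.IsKFlat E) (i : ℤ) :
    DCoh.HD ((DCoh.LTensorMod M).obj (DCoh.toD X E)) i ≅ ((Ttw M).obj E).homology i :=
  (DerivedCategory.homologyFunctor X.Modules i).mapIso (ltmIso M E hE) ≪≫
    (DerivedCategory.homologyFunctorFactors X.Modules i).app ((Ttw M).obj E)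

lemma isZero_homology_of_isZero_X {A : Type*} [Category A] [Abelian A] (K : CochainComplex A ℤ)
    (i : ℤ) (h : IsZero (K.X i)) : IsZero (K.homology i) := by
  rw [← exactAt_iff_isZero_homology]
  exact ShortComplex.exact_of_isZero_X₂ _ h

lemma isKFlat_of_vanishesOutside (E : CochainComplex X.Modules ℤ) (a b : ℤ)
    (hE : DCoh.VanishesOutside E a b) (hflat : ∀ i : ℤ, FlatMod.IsFlat (E.X i)) :
    DCoh.IsKFlat E := by
  have hb : E.IsStrictlyLE b := by
    rw [CochainComplex.isStrictlyLE_iff]
    intro i hi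
    exact hE i (Or.inr hi)
  exact isKFlat_of_bounded_above_flat (O := X.sheaf) E
    (fun n => StalkTensor.modSite_isFlat_of_isFlat _ (hflat n)) b hb

lemma isZero_HD_ltm_of_vanishesOutside (E : CochainComplex X.Modules ℤ) (a b : ℤ)
    (hE : DCoh.VanishesOutside E a b) (hflat : ∀ i : ℤ, FlatMod.IsFlat (E.X i)) (i : ℤ)
    (hi : i < a ∨ b < i) :
    IsZero (DCoh.HD ((DCoh.LTensorMod M).obj (DCoh.toD X E)) i) := by
  refine IsZero.of_iso ?_ (HDltmIso M E (isKFlat_of_vanishesOutside E a b hE hflat) i)
  apply isZero_homology_of_isZero_X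
  exact (DCoh.tensorRightMod M).map_isZero (hE i hi)

end Groth.Agent.Lib.Helper1.CI
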