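import Mathlib
set_option backward.isDefEq.respectTransparency false
set_option backward.defeqAttrib.useBackward true

/-!
# Bounded-above resolutions by objects of a class with enough "covers" (helper1)

If every object of an abelian category `C` is a quotient of an object satisfying `P`, then every
object `Z` has a resolution `K ⟶ Z[0]` by a cochain complex (indexed by `ℤ`) concentrated in
degrees `≤ 0` whose terms in degrees `≤ 0` satisfy `P`.
-/

set_option autoImplicit false
universe v u
open CategoryTheory CategoryTheory.Limits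

namespace Groth.Agent.Lib.Helper1.LRes

variable {C : Type u} [Category.{v} C] [Abelian C] (P : ObjectProperty C)
  (hP : ∀ X : C, ∃ (Y : C) (p : Y ⟶ X), P Y ∧ Epi p)

noncomputable def cov (X : C) : C := (hP X).choose
noncomputable def π (X : C) : cov P hP X ⟶ X := (hP X).choose_spec.choose
lemma prop_over (X : C) : P (cov P hP X) := (hP X).choose_spec.choose_spec.1
instance epi_π (X : C) : Epi (π P hP X) := (hP X).choose_spec.choose_spec.2

noncomputable def syz {X Y : C} (f : X ⟶ Y) : C := cov P hP (kernel f)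
noncomputable def d {X Y : C} (f : X ⟶ Y) : syz P hP f ⟶ X := π P hP (kernel f) ≫ kernel.ι f

@[reassoc (attr := simp)]
lemma d_comp {X Y : C} (f : X ⟶ Y) : d P hP f ≫ f = 0 := by simp [d]

theorem exact_d_f {X Y : C} (f : X ⟶ Y) :
    (ShortComplex.mk (d P hP f) f (d_comp P hP f)).Exact := by
  let α : ShortComplex.mk (d P hP f) f (d_comp P hP f) ⟶
      ShortComplex.mk (kernel.ι f) f (by simp) :=
    { τ₁ := π P hP _
      τ₂ := 𝟙 _
      τ₃ := 𝟙 _
      comm₁₂ := by simp [d] }
  have : Epi α.τ₁ := by dsimp [α]; infer_instance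
  have : IsIso α.τ₂ := by dsimp [α]; infer_instance
  have : Mono α.τ₃ := by dsimp [α]; infer_instance
  rw [ShortComplex.exact_iff_of_epi_of_isIso_of_mono α]
  apply ShortComplex.exact_of_f_is_kernel
  apply kernelIsKernel

noncomputable def ofComplex (Z : C) : ChainComplex C ℕ :=
  ChainComplex.mk' (cov P hP Z) (syz P hP (π P hP Z)) (d P hP (π P hP Z))
    (fun f => ⟨_, d P hP f, d_comp P hP f⟩)

lemma ofComplex_d_1_0 (Z : C) : (ofComplex P hP Z).d 1 0 = d P hP (π P hP Z) := by
  simp [ofComplex]

noncomputable def ofComplexXIso (Z : C) (n : ℕ) :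
    (ofComplex P hP Z).X (n + 2) ≅ syz P hP ((ofComplex P hP Z).d (n + 1) n) :=
  ChainComplex.mk'XIso _ _ _ _ n

lemma ofComplex_d (Z : C) (n : ℕ) :
    (ofComplex P hP Z).d (n + 2) (n + 1) =
      (ofComplexXIso P hP Z n).hom ≫ d P hP ((ofComplex P hP Z).d (n + 1) n) :=
  ChainComplex.mk'_d _ _ _ _ n

lemma ofComplex_exactAt_succ (Z : C) (n : ℕ) : (ofComplex P hP Z).ExactAt (n + 1) := by
  rw [HomologicalComplex.exactAt_iff' _ (n + 1 + 1) (n + 1) n (by simp) (by simp)]
  let α : (ofComplex P hP Z).sc' (n + 1 + 1) (n + 1) n ⟶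
      ShortComplex.mk (d P hP ((ofComplex P hP Z).d (n + 1) n)) _ (d_comp P hP _) :=
    { τ₁ := (ofComplexXIso P hP Z n).hom
      τ₂ := 𝟙 _
      τ₃ := 𝟙 _
      comm₁₂ := by
        dsimp
        rw [Category.comp_id]
        exact (ofComplex_d P hP Z n).symm
      comm₂₃ := by simp }
  have : Epi α.τ₁ := by dsimp [α]; infer_instance
  have : IsIso α.τ₂ := by dsimp [α]; infer_instance
  have : Mono α.τ₃ := by dsimp [α]; infer_instance
  rw [ShortComplex.exact_iff_of_epi_of_isIso_of_mono α]
  exact exact_d_f P hP _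

lemma prop_ofComplex_X [P.IsClosedUnderIsomorphisms] (Z : C) (n : ℕ) :
    P ((ofComplex P hP Z).X n) := by
  obtain (_ | _ | n) := n
  · exact prop_over P hP Z
  · exact prop_over P hP _
  · exact P.prop_of_iso (ofComplexXIso P hP Z n).symm (prop_over P hP _)

noncomputable def toSingle (Z : C) : ofComplex P hP Z ⟶ (ChainComplex.single₀ C).obj Z :=
  (ChainComplex.toSingle₀Equiv _ _).symm ⟨π P hP Z, by
    rw [ofComplex_d_1_0, d_comp]⟩

instance quasiIso_toSingle (Z : C) : QuasiIso (toSingle P hP Z) := ⟨fun n => by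
  cases n
  · rw [ChainComplex.quasiIsoAt₀_iff, ShortComplex.quasiIso_iff_of_zeros']
    · dsimp
      refine (ShortComplex.exact_and_epi_g_iff_of_iso ?_).2
        ⟨exact_d_f P hP (π P hP Z), by dsimp; infer_instance⟩
      exact ShortComplex.isoMk (Iso.refl _) (Iso.refl _) (Iso.refl _)
        (by simp [ofComplex]) (by simp [toSingle])
    all_goals rfl
  · rw [quasiIsoAt_iff_exactAt']
    · apply ofComplex_exactAt_succ
    · apply ChainComplex.exactAt_succ_single_obj⟩

/-- the resolution as a cochain complex indexed by `ℤ` -/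
noncomputable def cochainComplex (Z : C) : CochainComplex C ℤ :=
  (ofComplex P hP Z).extend ComplexShape.embeddingDownNat

noncomputable def cochainComplexXIso (Z : C) (n : ℤ) (k : ℕ) (h : -(k : ℤ) = n) :
    (cochainComplex P hP Z).X n ≅ (ofComplex P hP Z).X k :=
  HomologicalComplex.extendXIso _ _ h

instance (Z : C) : (cochainComplex P hP Z).IsStrictlyLE 0 := by
  dsimp [cochainComplex]
  infer_instance

noncomputable def π' (Z : C) :
    cochainComplex P hP Z ⟶ (CochainComplex.singleFunctor C 0).obj Z :=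
  (ComplexShape.embeddingDownNat.extendFunctor C).map (toSingle P hP Z) ≫
    (HomologicalComplex.extendSingleIso _ _ _ _ (by simp)).hom

instance (Z : C) : QuasiIso (π' P hP Z) := by dsimp [π']; infer_instance

include hP in
theorem exists_resolution [P.IsClosedUnderIsomorphisms] (Z : C) :
    ∃ (K : CochainComplex C ℤ) (q : K ⟶ (CochainComplex.singleFunctor C 0).obj Z),
      K.IsStrictlyLE 0 ∧ QuasiIso q ∧ ∀ n : ℤ, n ≤ 0 → P (K.X n) := by
  refine ⟨cochainComplex P hP Z, π' P hP Z, inferInstance, inferInstance, ?_⟩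
  intro n hn
  obtain ⟨k, rfl⟩ := Int.exists_eq_neg_ofNat hn
  exact P.prop_of_iso (cochainComplexXIso P hP Z (-k) k rfl).symm (prop_ofComplex_X P hP Z k)

end Groth.Agent.Lib.Helper1.LRes
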