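import Mathlib
import Groth.Agent.Lib.Helper1CI3
import Groth.Agent.Lib.Helper1LRes
set_option backward.isDefEq.respectTransparency.types false

/-!
# Bounded-above flat resolutions of modules on a site; cokernels in flat complexes (helper1)
-/

set_option autoImplicit false
universe u
open CategoryTheory CategoryTheory.Limits AlgebraicGeometry HomologicalComplex

namespace Groth.Agent.Lib.Helper1.CI

open Groth.Agent.Lib.Helper1.BKF Groth.Agent.Lib.Helper21.FlatCalc
  Groth.Agent.Lib.Helper21.ModTensor5 Groth.Agent.Lib.Helper21.ModTensor2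
  Groth.Agent.Lib.Helper21.ModTensor3

section general

variable {A : Type*} [Category A] [Abelian A]

/-- for a complex concentrated in degrees `≤ 0` resolving `Z`, the cokernel of `K⁻¹ ⟶ K⁰` is `Z` -/
noncomputable def cokernelIsoOfQuasiIso {K : CochainComplex A ℤ} [K.IsStrictlyLE 0] {Z : A}
    (q : K ⟶ (CochainComplex.singleFunctor A 0).obj Z) [QuasiIso q] :
    cokernel (K.d (-1) 0) ≅ Z :=
  (colimit.isColimit _).coconePointUniqueUpToIso (K.opcyclesIsCokernel (-1) 0 (by simp)) ≪≫
    (K.isoHomologyι 0 1 (by simp)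
      ((K.isZero_of_isStrictlyLE 0 1 (by omega)).eq_of_tgt _ _)).symm ≪≫
    asIso (homologyMap q 0) ≪≫
    HomologicalComplex.singleObjHomologySelfIso (ComplexShape.up ℤ) 0 Z

end general

section site

variable {C : Type u} [SmallCategory C] {J : GrothendieckTopology C}
    (O : Sheaf J CommRingCat.{u})

lemma isFlat_of_isZero (Z : ModSite.Mod O) (hZ : IsZero Z) : ModSite.IsFlat Z := by
  rw [isFlat_iff]
  apply preservesFiniteLimits_of_mono
  intro G' G j hj
  have h : IsZero ((tR O Z).obj G') :=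
    ((ModSite.tensorBi O).obj G').map_isZero hZ
  exact h.mono _

/-- if `X₀ ⊗ G ⟶ X₁ ⊗ G ⟶ X₂ ⊗ G` is exact for all `G` and `X₂` is flat then the cokernel of
`X₁ ⟶ X₂` is flat -/
lemma flat_cokernel_site {X₀ X₁ X₂ : ModSite.Mod O} (d₀ : X₀ ⟶ X₁) (d₁ : X₁ ⟶ X₂)
    (w₀ : d₀ ≫ d₁ = 0)
    (hG : ∀ G : ModSite.Mod O,
      ((ShortComplex.mk d₀ d₁ w₀).map ((ModSite.tensorBi O).flip.obj G)).Exact)
    (hflat : ModSite.IsFlat X₂) :
    ModSite.IsFlat (cokernel d₁) := by
  have hker := flat_kernel_of_exact (ModSite.tensorBi O) d₀ d₁ (cokernel.π d₁)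
    (0 : cokernel d₁ ⟶ cokernel d₁) w₀ (cokernel.condition _) comp_zero
    (ShortComplex.exact_cokernel _)
    ((ShortComplex.exact_iff_epi _ (by simp)).2 (by dsimp; infer_instance)) hG
    ((flatL_iff_flatR (ModSite.tensorBi O) (brd O) _).2
      ((isFlat_iff O _).1 hflat))
  have h2 : ModSite.IsFlat (kernel (0 : cokernel d₁ ⟶ cokernel d₁)) :=
    (isFlat_iff O _).2 ((flatL_iff_flatR (ModSite.tensorBi O) (brd O) _).1 hker)
  exact isFlat_of_iso O kernelZeroIsoSource h2

/-- flatness as an object property -/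
def flatProp : ObjectProperty (ModSite.Mod O) := fun F => ModSite.IsFlat F

instance : (flatProp O).IsClosedUnderIsomorphisms :=
  ⟨fun e h => isFlat_of_iso O e h⟩

/-- every module has a resolution by a complex of flat modules concentrated in degrees `≤ 0` -/
theorem exists_flat_resolution_site (F : ModSite.Mod O) :
    ∃ (K : CochainComplex (ModSite.Mod O) ℤ) (q : K ⟶ (CochainComplex.singleFunctor _ 0).obj F),
      K.IsStrictlyLE 0 ∧ QuasiIso q ∧ ∀ n : ℤ, ModSite.IsFlat (K.X n) := by
  obtain ⟨K, q, h1, h2, h3⟩ := LRes.exists_resolution (flatProp O) (exists_flat_epi O) F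
  refine ⟨K, q, h1, h2, fun n => ?_⟩
  by_cases hn : n ≤ 0
  · exact h3 n hn
  · exact isFlat_of_isZero O _ (K.isZero_of_isStrictlyLE 0 n (by omega))

end site

section scheme

variable {X : Scheme.{u}}

lemma flatMod_isFlat_of_iso {F F' : X.Modules} (e : F ≅ F') (h : FlatMod.IsFlat F) :
    FlatMod.IsFlat F' :=
  StalkTensor.isFlat_of_modSite_isFlat _
    (isFlat_of_iso X.sheaf e (StalkTensor.modSite_isFlat_of_isFlat _ h))

lemma flatMod_isFlat_of_isZero (F : X.Modules) (h : IsZero F) : FlatMod.IsFlat F :=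
  StalkTensor.isFlat_of_modSite_isFlat _ (isFlat_of_isZero X.sheaf F h)

end scheme

end Groth.Agent.Lib.Helper1.CI
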