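import Mathlib
import Groth.Agent.Lib.Helper1CI4
set_option backward.isDefEq.respectTransparency.types false

/-!
# Derived tensor product with a module and distinguished triangles (helper1)
-/

set_option autoImplicit false
universe u
open CategoryTheory CategoryTheory.Limits AlgebraicGeometry HomologicalComplex
  CategoryTheory.Pretriangulated

attribute [local instance] HasDerivedCategory.standard

namespace Groth.Agent.Lib.Helper1.CI

open Groth.Agent.Lib.Helper1.BKF

variable {X : Scheme.{u}}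

lemma isKFlat_mappingCone {E E' : CochainComplex X.Modules ℤ} (f : E ⟶ E')
    (hE : DCoh.IsKFlat E) (hE' : DCoh.IsKFlat E') :
    DCoh.IsKFlat (CochainComplex.mappingCone f) := fun L hL =>
  (coneFunctor_TL_site X.sheaf L).acyc_cone f (hE L hL) (hE' L hL)

lemma hasTorAmplitudeIn_of_iso {K K' : DCoh.D X} (e : K ≅ K') (a b : ℤ)
    (h : DCoh.HasTorAmplitudeIn a b K) : DCoh.HasTorAmplitudeIn a b K' := by
  intro F _ i hi
  exact IsZero.of_iso (h F i hi)
    ((DerivedCategory.homologyFunctor X.Modules i).mapIso ((DCoh.LTensorMod F).mapIso e.symm))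

lemma hasTorAmplitudeIn_of_hasFlatAmplitudeIn {K : DCoh.D X} (a b : ℤ)
    (h : DCoh.HasFlatAmplitudeIn a b K) : DCoh.HasTorAmplitudeIn a b K := by
  obtain ⟨E, hE, hflat, ⟨e⟩⟩ := h
  refine hasTorAmplitudeIn_of_iso e a b ?_
  intro F _ i hi
  exact isZero_HD_ltm_of_vanishesOutside F E a b hE hflat i hi

/-- a quasi-isomorphism of complexes induces an isomorphism on derived tensor products -/
noncomputable def ltmMapIso (F : X.Modules) [DCoh.HasLTensorMod F]
    {K K' : CochainComplex X.Modules ℤ} (q : K ⟶ K') [QuasiIso q] :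
    (DCoh.LTensorMod F).obj (DCoh.toD X K) ≅ (DCoh.LTensorMod F).obj (DCoh.toD X K') :=
  haveI : IsIso (DerivedCategory.Q.map q) := by
    rw [DerivedCategory.isIso_Q_map_iff_quasiIso]; infer_instance
  (DCoh.LTensorMod F).mapIso (asIso (DerivedCategory.Q.map q))

lemma quasiIso_mappingCone_map {A : Type*} [Category A] [Abelian A] [HasDerivedCategory A]
    {K₁ L₁ K₂ L₂ : CochainComplex A ℤ} (φ₁ : K₁ ⟶ L₁) (φ₂ : K₂ ⟶ L₂) (a : K₁ ⟶ K₂) (b : L₁ ⟶ L₂)
    (comm : φ₁ ≫ b = a ≫ φ₂) [QuasiIso a] [QuasiIso b] :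
    QuasiIso (CochainComplex.mappingCone.map φ₁ φ₂ a b comm) := by
  rw [← DerivedCategory.isIso_Q_map_iff_quasiIso]
  have h1 : IsIso (DerivedCategory.Q.map a) := by
    rw [DerivedCategory.isIso_Q_map_iff_quasiIso]; infer_instance
  have h2 : IsIso (DerivedCategory.Q.map b) := by
    rw [DerivedCategory.isIso_Q_map_iff_quasiIso]; infer_instance
  exact isIso₃_of_isIso₁₂
    (DerivedCategory.Q.mapTriangle.map (CochainComplex.mappingCone.triangleMap φ₁ φ₂ a b comm))
    (DerivedCategory.mappingCone_triangle_distinguished φ₁)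
    (DerivedCategory.mappingCone_triangle_distinguished φ₂) h1 h2

/-- the derived tensor product with a module sends the triangle of a mapping cone to (the vertices
of) a distinguished triangle -/
theorem exists_triangle_ltm (F : X.Modules) [DCoh.HasLTensorMod F]
    {K L : CochainComplex X.Modules ℤ} (φ : K ⟶ L) :
    ∃ T' ∈ distTriang (DCoh.D X),
      Nonempty (T'.obj₁ ≅ (DCoh.LTensorMod F).obj (DCoh.toD X K)) ∧
      Nonempty (T'.obj₂ ≅ (DCoh.LTensorMod F).obj (DCoh.toD X L)) ∧
      Nonempty (T'.obj₃ ≅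
        (DCoh.LTensorMod F).obj (DCoh.toD X (CochainComplex.mappingCone φ))) := by
  obtain ⟨R, ψ, h⟩ : ∃ (R : CochainComplex X.Modules ℤ ⥤ CochainComplex X.Modules ℤ)
      (ψ : R ⟶ 𝟭 (CochainComplex X.Modules ℤ)), ∀ G : CochainComplex X.Modules ℤ,
        DCoh.IsKFlat (R.obj G) ∧ (∀ n : ℤ, ModSite.IsFlat (O := X.sheaf) ((R.obj G).X n)) ∧
        QuasiIso (ψ.app G) ∧ ∀ n : ℤ, Epi ((ψ.app G).f n) :=
    exists_functorial_kflat_flat_resolution X.sheaf
  have hK : DCoh.IsKFlat (R.obj K) := (h K).1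
  have hL : DCoh.IsKFlat (R.obj L) := (h L).1
  have hqK : QuasiIso (ψ.app K) := (h K).2.2.1
  have hqL : QuasiIso (ψ.app L) := (h L).2.2.1
  have hC : DCoh.IsKFlat (CochainComplex.mappingCone (R.map φ)) :=
    isKFlat_mappingCone (R.map φ) hK hL
  have comm : R.map φ ≫ ψ.app L = ψ.app K ≫ φ := ψ.naturality φ
  have hq : QuasiIso (CochainComplex.mappingCone.map (R.map φ) φ (ψ.app K) (ψ.app L) comm) :=
    quasiIso_mappingCone_map _ _ _ _ comm
  refine ⟨DerivedCategory.Q.mapTriangle.obj
    (CochainComplex.mappingCone.triangle ((Ttw F).map (R.map φ))),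
    DerivedCategory.mappingCone_triangle_distinguished _, ⟨?_⟩, ⟨?_⟩, ⟨?_⟩⟩
  · exact (ltmIso F (R.obj K) hK).symm ≪≫ ltmMapIso F (ψ.app K)
  · exact (ltmIso F (R.obj L) hL).symm ≪≫ ltmMapIso F (ψ.app L)
  · exact DerivedCategory.Q.mapIso
      (CochainComplex.mappingCone.mapHomologicalComplexIso (R.map φ) (DCoh.tensorRightMod F)).symm ≪≫
      (ltmIso F _ hC).symm ≪≫
      ltmMapIso F (CochainComplex.mappingCone.map (R.map φ) φ (ψ.app K) (ψ.app L) comm)

/-- vanishing of cohomology in a distinguished triangle -/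
lemma isZero_homology_obj₃ {A : Type*} [Category A] [Abelian A] [HasDerivedCategory A]
    (T : Triangle (DerivedCategory A)) (hT : T ∈ distTriang _) (i j : ℤ) (hij : i + 1 = j)
    (h₂ : IsZero ((DerivedCategory.homologyFunctor A i).obj T.obj₂))
    (h₁ : IsZero ((DerivedCategory.homologyFunctor A j).obj T.obj₁)) :
    IsZero ((DerivedCategory.homologyFunctor A i).obj T.obj₃) :=
  (DerivedCategory.HomologySequence.exact₃ T hT i j hij).isZero_X₂
    (h₂.eq_of_src _ _) (h₁.eq_of_tgt _ _)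

lemma isZero_homology_obj₂ {A : Type*} [Category A] [Abelian A] [HasDerivedCategory A]
    (T : Triangle (DerivedCategory A)) (hT : T ∈ distTriang _) (i : ℤ)
    (h₁ : IsZero ((DerivedCategory.homologyFunctor A i).obj T.obj₁))
    (h₃ : IsZero ((DerivedCategory.homologyFunctor A i).obj T.obj₃)) :
    IsZero ((DerivedCategory.homologyFunctor A i).obj T.obj₂) :=
  (DerivedCategory.HomologySequence.exact₂ T hT i).isZero_X₂
    (h₁.eq_of_src _ _) (h₃.eq_of_tgt _ _)

lemma isZero_homology_obj₁ {A : Type*} [Category A] [Abelian A] [HasDerivedCategory A]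
    (T : Triangle (DerivedCategory A)) (hT : T ∈ distTriang _) (i j : ℤ) (hij : i + 1 = j)
    (h₃ : IsZero ((DerivedCategory.homologyFunctor A i).obj T.obj₃))
    (h₂ : IsZero ((DerivedCategory.homologyFunctor A j).obj T.obj₂)) :
    IsZero ((DerivedCategory.homologyFunctor A j).obj T.obj₁) :=
  (DerivedCategory.HomologySequence.exact₁ T hT i j hij).isZero_X₂
    (h₃.eq_of_src _ _) (h₂.eq_of_tgt _ _)

end Groth.Agent.Lib.Helper1.CI
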