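import Mathlib
import Groth.Agent.Lib.Helper1CI5
set_option backward.isDefEq.respectTransparency.types false

/-!
# Flatness of cycles of a flat complex universally exact above a degree; unit for the termwise
tensor product (helper1)
-/

set_option autoImplicit false
universe u
open CategoryTheory CategoryTheory.Limits AlgebraicGeometry HomologicalComplex

namespace Groth.Agent.Lib.Helper1.CI

open Groth.Agent.Lib.Helper1.BKF Groth.Agent.Lib.Helper21.FlatCalc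
  Groth.Agent.Lib.Helper21.ModTensor5 Groth.Agent.Lib.Helper21.ModTensor2
  Groth.Agent.Lib.Helper21.ModTensor3 Groth.Agent.Lib.Helper21.ModTensor7

section general

variable {A : Type*} [Category A] [Abelian A]

lemma kernel_ι_lift_zero {X₀ X₁ X₂ : A} (d₀ : X₀ ⟶ X₁) (d₁ : X₁ ⟶ X₂) (w : d₀ ≫ d₁ = 0) :
    kernel.ι d₀ ≫ kernel.lift d₁ d₀ w = 0 := by
  rw [← cancel_mono (kernel.ι d₁), Category.assoc, kernel.lift_ι, kernel.condition, zero_comp]

lemma shortExact_kernel {X₀ X₁ X₂ : A} (d₀ : X₀ ⟶ X₁) (d₁ : X₁ ⟶ X₂) (w : d₀ ≫ d₁ = 0)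
    (hex : (ShortComplex.mk d₀ d₁ w).Exact) :
    (ShortComplex.mk (kernel.ι d₀) (kernel.lift d₁ d₀ w) (kernel_ι_lift_zero d₀ d₁ w)).ShortExact :=
  have hp : Epi (kernel.lift d₁ d₀ w) := (ShortComplex.exact_iff_epi_kernel_lift _).1 hex
  ShortComplex.ShortExact.mk' (ShortComplex.exact_of_f_is_kernel _
    (isKernelOfComp (kernel.ι d₁) d₀ (kernelIsKernel d₀) (kernel_ι_lift_zero d₀ d₁ w)
      (kernel.lift_ι _ _ _)))
    inferInstance hp

end general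

section site

variable {C : Type u} [SmallCategory C] {J : GrothendieckTopology C}
    (O : Sheaf J CommRingCat.{u})

/-- if `X₀ ⟶ X₁ ⟶ X₂` is exact and `X₀`, `ker (X₁ ⟶ X₂)` are flat, then `ker (X₀ ⟶ X₁)` is flat -/
lemma isFlat_kernel_step {X₀ X₁ X₂ : ModSite.Mod O} (d₀ : X₀ ⟶ X₁) (d₁ : X₁ ⟶ X₂)
    (w : d₀ ≫ d₁ = 0) (hex : (ShortComplex.mk d₀ d₁ w).Exact) (hfl : ModSite.IsFlat X₀)
    (hZ : ModSite.IsFlat (kernel d₁)) : ModSite.IsFlat (kernel d₀) := by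
  have hS := shortExact_kernel d₀ d₁ w hex
  exact isFlat_left O (ShortComplex.mk (kernel.ι d₀) (kernel.lift d₁ d₀ w)
    (kernel_ι_lift_zero d₀ d₁ w)) hS hfl hZ

/-- cycles of a complex of flat modules which is universally exact above a degree are flat -/
lemma isFlat_kernel_of_exact_above {Y₀ Y₁ Y₂ Y₃ Y₄ : ModSite.Mod O} (e₀ : Y₀ ⟶ Y₁) (e₁ : Y₁ ⟶ Y₂)
    (e₂ : Y₂ ⟶ Y₃) (e₃ : Y₃ ⟶ Y₄) (w₀ : e₀ ≫ e₁ = 0) (w₁ : e₁ ≫ e₂ = 0) (w₂ : e₂ ≫ e₃ = 0)
    (h₁ : (ShortComplex.mk e₀ e₁ w₀).Exact) (h₂ : (ShortComplex.mk e₁ e₂ w₁).Exact)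
    (h₃ : (ShortComplex.mk e₂ e₃ w₂).Exact)
    (hG : ∀ G : ModSite.Mod O,
      ((ShortComplex.mk e₀ e₁ w₀).map ((ModSite.tensorBi O).flip.obj G)).Exact)
    (f₀ : ModSite.IsFlat Y₀) (f₁ : ModSite.IsFlat Y₁) (f₂ : ModSite.IsFlat Y₂) :
    ModSite.IsFlat (kernel e₀) := by
  have k3 : ModSite.IsFlat (kernel e₃) := by
    have hker := flat_kernel_of_exact (ModSite.tensorBi O) e₀ e₁ e₂ e₃ w₀ w₁ w₂ h₂ h₃ hG
      ((flatL_iff_flatR (ModSite.tensorBi O) (brd O) _).2 ((isFlat_iff O _).1 f₂))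
    exact (isFlat_iff O _).2 ((flatL_iff_flatR (ModSite.tensorBi O) (brd O) _).1 hker)
  have k2 : ModSite.IsFlat (kernel e₂) := isFlat_kernel_step O e₂ e₃ w₂ h₃ f₂ k3
  have k1 : ModSite.IsFlat (kernel e₁) := isFlat_kernel_step O e₁ e₂ w₁ h₂ f₁ k2
  exact isFlat_kernel_step O e₀ e₁ w₀ h₁ f₀ k1

/-- `- ⊗ O ≅ 𝟭` -/
noncomputable def tRUnitIso : tR O (ModSite.unit O) ≅ 𝟭 (ModSite.Mod O) :=
  ((brd O).app (ModSite.unit O)).symm ≪≫ tLUnitIso O

/-- termwise tensoring a complex with the unit does nothing -/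
noncomputable def ttwUnitIso (K : CochainComplex (ModSite.Mod O) ℤ) :
    ((tR O (ModSite.unit O)).mapHomologicalComplex (ComplexShape.up ℤ)).obj K ≅ K :=
  (NatIso.mapHomologicalComplex (tRUnitIso O) (ComplexShape.up ℤ)).app K ≪≫
    (Functor.mapHomologicalComplexIdIso (ModSite.Mod O) (ComplexShape.up ℤ)).app K

end site

end Groth.Agent.Lib.Helper1.CI
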