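import Mathlib
import Groth.Agent.Lib.Helper1CI6
set_option backward.isDefEq.respectTransparency.types false

/-!
# Tor amplitude (derived tensor form) implies flat amplitude on schemes (helper1)
-/

set_option autoImplicit false
universe u
open CategoryTheory CategoryTheory.Limits AlgebraicGeometry HomologicalComplex

attribute [local instance] HasDerivedCategory.standard

namespace Groth.Agent.Lib.Helper1.CI

open Groth.Agent.Lib.Helper1.BKF Groth.Agent.Lib.Helper21.FlatCalc
  Groth.Agent.Lib.Helper21.ModTensor5 Groth.Agent.Lib.Helper21.ModTensor2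
  Groth.Agent.Lib.Helper21.ModTensor3 Groth.Agent.Lib.Helper21.ModTensor7

variable {X : Scheme.{u}}

/-- exactness of `K ⊗ G` outside `[a, b]` for a K-flat complex with tor amplitude in `[a, b]` -/
lemma exactAt_Ttw_of_torAmplitude (K : CochainComplex X.Modules ℤ) (hK : DCoh.IsKFlat K) (a b : ℤ)
    (hE : DCoh.HasTorAmplitudeIn a b (DCoh.toD X K)) (G : X.Modules) [DCoh.HasLTensorMod G]
    (i : ℤ) (hi : i < a ∨ b < i) : ((Ttw G).obj K).ExactAt i := by
  rw [exactAt_iff_isZero_homology]
  exact IsZero.of_iso (hE G i hi) (HDltmIso G K hK i).symm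

/-- the structure sheaf as a module -/
noncomputable abbrev unitMod (X : Scheme.{u}) : X.Modules := ModSite.unit X.sheaf

lemma exactAt_of_torAmplitude (K : CochainComplex X.Modules ℤ) (hK : DCoh.IsKFlat K) (a b : ℤ)
    (hE : DCoh.HasTorAmplitudeIn a b (DCoh.toD X K)) [DCoh.HasLTensorMod (unitMod X)]
    (i : ℤ) (hi : i < a ∨ b < i) : K.ExactAt i := by
  have h := exactAt_Ttw_of_torAmplitude K hK a b hE (unitMod X) i hi
  rw [exactAt_iff_isZero_homology] at h ⊢
  exact IsZero.of_iso h
    ((HomologicalComplex.homologyFunctor _ _ i).mapIso (ttwUnitIso X.sheaf K).symm)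

lemma exact_sc_of_exactAt {A : Type*} [Category A] [Abelian A] (K : CochainComplex A ℤ)
    (i j k : ℤ) (hij : i + 1 = j) (hjk : j + 1 = k) (h : K.ExactAt j) :
    (ShortComplex.mk (K.d i j) (K.d j k) (K.d_comp_d _ _ _)).Exact := by
  rw [exactAt_iff' K i j k (by simp; omega) (by simp; omega)] at h
  exact h

lemma exact_sc_Ttw_of_exactAt (G : X.Modules) (K : CochainComplex X.Modules ℤ)
    (i j k : ℤ) (hij : i + 1 = j) (hjk : j + 1 = k) (h : ((Ttw G).obj K).ExactAt j) :
    ((ShortComplex.mk (K.d i j) (K.d j k) (K.d_comp_d _ _ _)).map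
      (DCoh.tensorRightMod G)).Exact := by
  rw [exactAt_iff' _ i j k (by simp; omega) (by simp; omega)] at h
  exact h

theorem hasFlatAmplitudeIn_of_hasTorAmplitudeIn (E : DCoh.D X) (a b : ℤ) (hab : a ≤ b)
    (hL : ∀ G : X.Modules, DCoh.HasLTensorMod G) (hE : DCoh.HasTorAmplitudeIn a b E) :
    DCoh.HasFlatAmplitudeIn a b E := by
  have := hL (unitMod X)
  obtain ⟨K, q, hK, hKfl, hq, -⟩ : ∃ (K : CochainComplex X.Modules ℤ)
      (q : K ⟶ DerivedCategory.Q.objPreimage E), DCoh.IsKFlat K ∧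
      (∀ n : ℤ, ModSite.IsFlat (O := X.sheaf) (K.X n)) ∧ QuasiIso q ∧ ∀ n : ℤ, Epi (q.f n) :=
    exists_kflat_flat_resolution X.sheaf (DerivedCategory.Q.objPreimage E)
  have hqi : IsIso (DerivedCategory.Q.map q) := by
    rw [DerivedCategory.isIso_Q_map_iff_quasiIso]; exact hq
  have eK : DCoh.toD X K ≅ E :=
    asIso (DerivedCategory.Q.map q) ≪≫ DerivedCategory.Q.objObjPreimageIso E
  have hEK : DCoh.HasTorAmplitudeIn a b (DCoh.toD X K) := hasTorAmplitudeIn_of_iso eK.symm a b hE
  have hexK : ∀ i : ℤ, (i < a ∨ b < i) → K.ExactAt i := fun i hi =>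
    exactAt_of_torAmplitude K hK a b hEK i hi
  have hexG : ∀ (G : X.Modules) (i : ℤ), (i < a ∨ b < i) → ((Ttw G).obj K).ExactAt i :=
    fun G i hi => by
      have := hL G
      exact exactAt_Ttw_of_torAmplitude K hK a b hEK G i hi
  -- the cycles in degree `b` are flat
  have hZ : ModSite.IsFlat (O := X.sheaf) (kernel (K.d b (b + 1))) :=
    isFlat_kernel_of_exact_above X.sheaf (K.d b (b + 1)) (K.d (b + 1) (b + 2))
      (K.d (b + 2) (b + 3)) (K.d (b + 3) (b + 4)) (K.d_comp_d _ _ _) (K.d_comp_d _ _ _)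
      (K.d_comp_d _ _ _)
      (exact_sc_of_exactAt K b (b + 1) (b + 2) rfl (by omega) (hexK _ (Or.inr (by omega))))
      (exact_sc_of_exactAt K (b + 1) (b + 2) (b + 3) (by omega) (by omega)
        (hexK _ (Or.inr (by omega))))
      (exact_sc_of_exactAt K (b + 2) (b + 3) (b + 4) (by omega) (by omega)
        (hexK _ (Or.inr (by omega))))
      (fun G => exact_sc_Ttw_of_exactAt G K b (b + 1) (b + 2) rfl (by omega)
        (hexG G _ (Or.inr (by omega))))
      (hKfl _) (hKfl _) (hKfl _)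
  -- truncation above
  have hKle : K.IsLE b := by
    rw [CochainComplex.isLE_iff]
    exact fun i hi => hexK i (Or.inr hi)
  have hK₂fl : ∀ i : ℤ, ModSite.IsFlat (O := X.sheaf) ((K.truncLE b).X i) := by
    intro i
    obtain hi | rfl | hi := lt_trichotomy i b
    · exact isFlat_of_iso X.sheaf (K.truncLEXIso b i hi).symm (hKfl i)
    · have e1 : K.cycles i ≅ kernel (K.d i (i + 1)) :=
        (K.cyclesIsKernel i (i + 1) (by simp)).conePointUniqueUpToIso (limit.isLimit _)
      exact isFlat_of_iso X.sheaf ((K.truncLEXIsoCycles i).trans e1).symm hZ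
    · exact isFlat_of_isZero X.sheaf _ ((K.truncLE b).isZero_of_isStrictlyLE b i hi)
  have hsle : (K.truncLE b).IsStrictlyLE b := inferInstance
  have hK₂ : DCoh.IsKFlat (K.truncLE b) :=
    isKFlat_of_bounded_above_flat (O := X.sheaf) (K.truncLE b) hK₂fl b hsle
  have hιi : IsIso (DerivedCategory.Q.map (K.ιTruncLE b)) := by
    rw [DerivedCategory.isIso_Q_map_iff_quasiIso]; infer_instance
  have eK₂ : DCoh.toD X (K.truncLE b) ≅ E := asIso (DerivedCategory.Q.map (K.ιTruncLE b)) ≪≫ eK
  have hEK₂ : DCoh.HasTorAmplitudeIn a b (DCoh.toD X (K.truncLE b)) :=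
    hasTorAmplitudeIn_of_iso eK₂.symm a b hE
  -- the cokernel in degree `a` is flat
  have hC : ModSite.IsFlat (O := X.sheaf) (cokernel ((K.truncLE b).d (a - 1) a)) := by
    refine flat_cokernel_site X.sheaf ((K.truncLE b).d (a - 2) (a - 1)) ((K.truncLE b).d (a - 1) a)
      ((K.truncLE b).d_comp_d _ _ _) ?_ (hK₂fl a)
    intro G
    have := hL G
    exact exact_sc_Ttw_of_exactAt G (K.truncLE b) (a - 2) (a - 1) a (by omega) (by omega)
      (exactAt_Ttw_of_torAmplitude (K.truncLE b) hK₂ a b hEK₂ G (a - 1) (Or.inl (by omega)))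
  -- truncation below
  have hK₂ge : (K.truncLE b).IsGE a := by
    rw [CochainComplex.isGE_iff]
    intro i hi
    exact exactAt_of_torAmplitude (K.truncLE b) hK₂ a b hEK₂ i (Or.inl hi)
  have hπi : IsIso (DerivedCategory.Q.map ((K.truncLE b).πTruncGE a)) := by
    rw [DerivedCategory.isIso_Q_map_iff_quasiIso]; infer_instance
  have hK₃fl : ∀ i : ℤ, ModSite.IsFlat (O := X.sheaf) (((K.truncLE b).truncGE a).X i) := by
    intro i
    obtain hi | rfl | hi := lt_trichotomy i a
    · exact isFlat_of_isZero X.sheaf _ (((K.truncLE b).truncGE a).isZero_of_isStrictlyGE a i hi)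
    · have e1 : cokernel ((K.truncLE b).d (i - 1) i) ≅ (K.truncLE b).opcycles i :=
        (colimit.isColimit _).coconePointUniqueUpToIso
          ((K.truncLE b).opcyclesIsCokernel (i - 1) i (by simp))
      exact isFlat_of_iso X.sheaf (((K.truncLE b).truncGEXIsoOpcycles i).trans e1.symm).symm hC
    · exact isFlat_of_iso X.sheaf ((K.truncLE b).truncGEXIso a i hi).symm (hK₂fl i)
  refine ⟨(K.truncLE b).truncGE a, ?_, fun i => StalkTensor.isFlat_of_modSite_isFlat _ (hK₃fl i),
    ⟨(asIso (DerivedCategory.Q.map ((K.truncLE b).πTruncGE a))).symm ≪≫ eK₂⟩⟩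
  intro i hi
  rcases hi with hi | hi
  · exact ((K.truncLE b).truncGE a).isZero_of_isStrictlyGE a i hi
  · exact ((K.truncLE b).isZero_of_isStrictlyLE b i hi).of_iso
      ((K.truncLE b).truncGEXIso a i (by omega))

end Groth.Agent.Lib.Helper1.CI
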