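import Mathlib
import Groth.Agent.Lib.Helper1CI2
set_option backward.isDefEq.respectTransparency.types false

/-!
# Existence of left derived functors from functorial resolutions (helper1)
-/

set_option autoImplicit false
open CategoryTheory

namespace Groth.Agent.Lib.Helper1.CI

universe v₁ v₂ v₃ u₁ u₂ u₃

section existence

variable {C : Type u₁} {D : Type u₂} {H : Type u₃} [Category.{v₁} C] [Category.{v₂} D]
  [Category.{v₃} H]
  (W : MorphismProperty C) [W.HasTwoOutOfThreeProperty]
  (L : C ⥤ D) [L.IsLocalization W] (F : C ⥤ H)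
  (P : ObjectProperty C) (ρ : C ⥤ C) (π : ρ ⟶ 𝟭 C)
  (hρ : ∀ X, P (ρ.obj X)) (hπ : ∀ X, W (π.app X))
  (hF : ∀ {X Y : C} (f : X ⟶ Y), P X → P Y → W f → IsIso (F.map f))

/-- the candidate left derived functor -/
noncomputable def resLF : D ⥤ H :=
  Localization.lift (ρ ⋙ F) (inverts_comp W F P ρ π hρ hπ hF) L

/-- the defining isomorphism of the candidate left derived functor -/
noncomputable def resIso : L ⋙ resLF W L F P ρ π hρ hπ hF ≅ ρ ⋙ F :=
  Localization.fac (ρ ⋙ F) (inverts_comp W F P ρ π hρ hπ hF) L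

/-- the counit of the candidate left derived functor -/
noncomputable def resCounit : L ⋙ resLF W L F P ρ π hρ hπ hF ⟶ F :=
  (resIso W L F P ρ π hρ hπ hF).hom ≫ Functor.whiskerRight π F ≫ (Functor.leftUnitor F).hom

lemma resCounit_app (Y : C) :
    (resCounit W L F P ρ π hρ hπ hF).app Y =
      (resIso W L F P ρ π hρ hπ hF).hom.app Y ≫ F.map (π.app Y) := by
  simp only [resCounit, NatTrans.comp_app, Functor.whiskerRight_app, Functor.leftUnitor_hom_app]
  erw [Category.comp_id]

include hρ hπ hF in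
/-- `F` takes the same value on two morphisms between objects of `P` which become equal in the
localization -/
lemma map_eq_of_L_map_eq {A B : C} (f g : A ⟶ B) (hA : P A) (hB : P B)
    (h : L.map f = L.map g) : F.map f = F.map g := by
  have hAi : IsIso (F.map (π.app A)) := hF _ (hρ A) hA (hπ A)
  have hBi : IsIso (F.map (π.app B)) := hF _ (hρ B) hB (hπ B)
  let e := resIso W L F P ρ π hρ hπ hF
  have key : ∀ k : A ⟶ B, F.map k = inv (F.map (π.app A)) ≫ (e.inv.app A ≫
      (resLF W L F P ρ π hρ hπ hF).map (L.map k) ≫ e.hom.app B) ≫ F.map (π.app B) := by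
    intro k
    have h1 : (L ⋙ resLF W L F P ρ π hρ hπ hF).map k ≫ e.hom.app B =
        e.hom.app A ≫ (ρ ⋙ F).map k := e.hom.naturality k
    have h2 : ρ.map k ≫ π.app B = π.app A ≫ k := π.naturality k
    have h3 : F.map (ρ.map k) ≫ F.map (π.app B) = F.map (π.app A) ≫ F.map k := by
      rw [← F.map_comp, ← F.map_comp, h2]
    dsimp at h1
    rw [IsIso.eq_inv_comp, ← h3, Category.assoc, Category.assoc, reassoc_of% h1,
      Iso.inv_hom_id_app_assoc]
  rw [key f, key g, h]

include W L hρ hπ hF in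
lemma map_ρ_π_eq (Y : C) : F.map (ρ.map (π.app Y)) = F.map (π.app (ρ.obj Y)) := by
  apply map_eq_of_L_map_eq W L F P ρ π hρ hπ hF _ _ (hρ _) (hρ _)
  have h1 : ρ.map (π.app Y) ≫ π.app Y = π.app (ρ.obj Y) ≫ π.app Y := π.naturality (π.app Y)
  have h2 : IsIso (L.map (π.app Y)) := Localization.inverts L W _ (hπ Y)
  rw [← cancel_mono (L.map (π.app Y)), ← L.map_comp, ← L.map_comp, h1]

/-- the candidate is a left derived functor -/
theorem isLeftDerivedFunctor_res :
    (resLF W L F P ρ π hρ hπ hF).IsLeftDerivedFunctor (resCounit W L F P ρ π hρ hπ hF) W := by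
  let G := resLF W L F P ρ π hρ hπ hF
  let e : L ⋙ G ≅ ρ ⋙ F := resIso W L F P ρ π hρ hπ hF
  let γ : L ⋙ G ⟶ F := resCounit W L F P ρ π hρ hπ hF
  have hγ : ∀ Y, γ.app Y = e.hom.app Y ≫ F.map (π.app Y) := resCounit_app W L F P ρ π hρ hπ hF
  have hLπ : ∀ Y : C, IsIso (L.map (π.app Y)) := fun Y => Localization.inverts L W _ (hπ Y)
  rw [Functor.isLeftDerivedFunctor_iff_isRightKanExtension]
  -- the lift of a right extension
  have lift : ∀ (G' : D ⥤ H) (β : L ⋙ G' ⟶ F), ∃ φ : G' ⟶ G,
      (∀ Y : C, φ.app (L.obj Y) =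
        inv (G'.map (L.map (π.app Y))) ≫ β.app (ρ.obj Y) ≫ e.inv.app Y) := by
    intro G' β
    let φ₀ : L ⋙ G' ⟶ L ⋙ G :=
      { app := fun Y => inv (G'.map (L.map (π.app Y))) ≫ β.app (ρ.obj Y) ≫ e.inv.app Y
        naturality := fun Y Z f => by
          dsimp
          have h1 : G'.map (L.map f) ≫ inv (G'.map (L.map (π.app Z))) =
              inv (G'.map (L.map (π.app Y))) ≫ G'.map (L.map (ρ.map f)) := by
            rw [IsIso.comp_inv_eq, Category.assoc, IsIso.eq_inv_comp, ← G'.map_comp, ← G'.map_comp,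
              ← L.map_comp, ← L.map_comp]
            have := π.naturality f
            dsimp at this
            rw [this]
          have h2 := β.naturality (ρ.map f)
          have h3 := e.inv.naturality f
          dsimp at h2 h3
          rw [reassoc_of% h1, reassoc_of% h2, h3]
          simp only [Category.assoc] }
    refine ⟨Localization.liftNatTrans L W _ _ _ _ φ₀, fun Y => ?_⟩
    simp [φ₀]
  refine ⟨⟨Limits.IsTerminal.ofUniqueHom (fun E => ?_) (fun E m => ?_)⟩⟩
  · refine CostructuredArrow.homMk (lift E.left E.hom).choose ?_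
    ext Y
    change (lift E.left E.hom).choose.app (L.obj Y) ≫ γ.app Y = E.hom.app Y
    rw [(lift E.left E.hom).choose_spec Y, hγ]
    simp only [Category.assoc, Iso.inv_hom_id_app_assoc]
    have := E.hom.naturality (π.app Y)
    dsimp at this
    rw [← this, IsIso.inv_hom_id_assoc]
  · apply CostructuredArrow.hom_ext
    apply Localization.natTrans_ext L W
    intro Y
    have hm : ∀ Z : C, m.left.app (L.obj Z) ≫ γ.app Z = E.hom.app Z := fun Z =>
      congrArg (fun t => t.app Z) (CostructuredArrow.w m)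
    change m.left.app (L.obj Y) = (lift E.left E.hom).choose.app (L.obj Y)
    rw [(lift E.left E.hom).choose_spec Y]
    have hnat : E.left.map (L.map (π.app Y)) ≫ m.left.app (L.obj Y) =
        m.left.app (L.obj (ρ.obj Y)) ≫ G.map (L.map (π.app Y)) :=
      m.left.naturality (L.map (π.app Y))
    have hγi : IsIso (γ.app (ρ.obj Y)) := by
      rw [hγ]
      have : IsIso (F.map (π.app (ρ.obj Y))) := hF _ (hρ _) (hρ _) (hπ _)
      infer_instance
    have h1 : G.map (L.map (π.app Y)) = γ.app (ρ.obj Y) ≫ e.inv.app Y := by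
      have h2 : (L ⋙ G).map (π.app Y) ≫ e.hom.app Y =
          e.hom.app (ρ.obj Y) ≫ (ρ ⋙ F).map (π.app Y) := e.hom.naturality (π.app Y)
      have h3 : G.map (L.map (π.app Y)) =
          (e.hom.app (ρ.obj Y) ≫ (ρ ⋙ F).map (π.app Y)) ≫ e.inv.app Y := by
        rw [← h2, Category.assoc, Iso.hom_inv_id_app]
        exact (Category.comp_id _).symm
      rw [h3, hγ, Functor.comp_map, map_ρ_π_eq W L F P ρ π hρ hπ hF Y, Category.assoc]
    have g1 : E.left.map (L.map (π.app Y)) ≫ m.left.app (L.obj Y) =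
        E.hom.app (ρ.obj Y) ≫ e.inv.app Y := by
      rw [hnat, h1]
      exact (Category.assoc _ _ _).symm.trans (congrArg (· ≫ e.inv.app Y) (hm (ρ.obj Y)))
    exact (IsIso.eq_inv_comp _).2 g1

end existence

section descent

universe v₄ u₄

variable {C : Type u₁} {C' : Type u₂} {D : Type u₃} {H : Type u₄} [Category.{v₁} C]
  [Category.{v₂} C'] [Category.{v₃} D] [Category.{v₄} H]
  (W₁ : MorphismProperty C) (W₂ : MorphismProperty C') (W : MorphismProperty C)
  (L₁ : C ⥤ C') [L₁.IsLocalization W₁] (L₂ : C' ⥤ D) [L₂.IsLocalization W₂]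
  [(L₁ ⋙ L₂).IsLocalization W]
  (F : C' ⥤ H) (LF : D ⥤ H) (ε' : (L₁ ⋙ L₂) ⋙ LF ⟶ L₁ ⋙ F) [LF.IsLeftDerivedFunctor ε' W]

/-- the counit descended along the first localization -/
noncomputable def descCounit : L₂ ⋙ LF ⟶ F :=
  Localization.liftNatTrans L₁ W₁ (L₁ ⋙ (L₂ ⋙ LF)) (L₁ ⋙ F) (L₂ ⋙ LF) F
    ((Functor.associator L₁ L₂ LF).inv ≫ ε')

include W in
lemma descCounit_app (X : C) :
    (descCounit W₁ L₁ L₂ F LF ε').app (L₁.obj X) = ε'.app X := by
  simp [descCounit]

include W₁ W in
/-- a left derived functor along a composite of localizations is a left derived functor along the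
second localization -/
theorem isLeftDerivedFunctor_desc :
    LF.IsLeftDerivedFunctor (descCounit W₁ L₁ L₂ F LF ε') W₂ := by
  rw [Functor.isLeftDerivedFunctor_iff_isRightKanExtension]
  refine ⟨⟨Limits.IsTerminal.ofUniqueHom (fun E => ?_) (fun E m => ?_)⟩⟩
  · let G : D ⥤ H := E.left
    let β : L₂ ⋙ G ⟶ F := E.hom
    let β' : (L₁ ⋙ L₂) ⋙ G ⟶ L₁ ⋙ F := (Functor.associator L₁ L₂ G).hom ≫ Functor.whiskerLeft L₁ β
    let θ : G ⟶ LF := LF.leftDerivedLift ε' W G β'
    refine CostructuredArrow.homMk θ ?_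
    apply Localization.natTrans_ext L₁ W₁
    intro X
    have h1 := LF.leftDerived_fac_app ε' W G β' X
    have h2 : β'.app X = β.app (L₁.obj X) := by simp [β']
    change θ.app (L₂.obj (L₁.obj X)) ≫ (descCounit W₁ L₁ L₂ F LF ε').app (L₁.obj X) =
      β.app (L₁.obj X)
    rw [descCounit_app W₁ W, ← h2]
    exact h1
  · let G : D ⥤ H := E.left
    let β : L₂ ⋙ G ⟶ F := E.hom
    let β' : (L₁ ⋙ L₂) ⋙ G ⟶ L₁ ⋙ F := (Functor.associator L₁ L₂ G).hom ≫ Functor.whiskerLeft L₁ β
    apply CostructuredArrow.hom_ext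
    apply LF.leftDerived_ext ε' W
    change Functor.whiskerLeft (L₁ ⋙ L₂) m.left ≫ ε' =
      Functor.whiskerLeft (L₁ ⋙ L₂) (LF.leftDerivedLift ε' W G β') ≫ ε'
    rw [Functor.leftDerived_fac]
    ext X
    have hm := congrArg (fun t => t.app (L₁.obj X)) (CostructuredArrow.w m)
    have h2 : β'.app X = β.app (L₁.obj X) := by simp [β']
    rw [h2]
    simp only [NatTrans.comp_app, Functor.whiskerLeft_app]
    rw [← descCounit_app W₁ W L₁ L₂ F LF ε' X]
    exact hm

end descent

end Groth.Agent.Lib.Helper1.CI
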