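import Mathlib
import Groth.Agent.Lib.Helper1Sky4
import Groth.Agent.Lib.Helper1CI8
import Groth.Agent.Lib.Helper1CI5
set_option backward.isDefEq.respectTransparency.types false

/-!
# The total left derived functor of `f^*` exists (helper1)
-/

set_option autoImplicit false
universe u
open CategoryTheory CategoryTheory.Limits AlgebraicGeometry HomologicalComplex

attribute [local instance] HasDerivedCategory.standard

namespace Groth.Agent.Lib.Helper1.Sky

open Groth.Agent.Lib.Helper1.BKF Groth.Agent.Lib.Helper1.CI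

section abstract

variable {A B : Type*} [Category A] [Abelian A] [Category B] [Abelian B]

lemma exact_of_factor {X1 X2 X3 Z1 Z3 : B} (d1 : X1 ⟶ X2) (d2 : X2 ⟶ X3) (p : X1 ⟶ Z1)
    (i : Z1 ⟶ X2) (q : X2 ⟶ Z3) (j : Z3 ⟶ X3) (h1 : p ≫ i = d1) (h2 : q ≫ j = d2)
    (w : i ≫ q = 0) (hex : (ShortComplex.mk i q w).Exact) [Epi p] [Mono j] (w' : d1 ≫ d2 = 0) :
    (ShortComplex.mk d1 d2 w').Exact := by
  have w2 : i ≫ d2 = 0 := by rw [← h2, reassoc_of% w, zero_comp]
  let φ : ShortComplex.mk d1 d2 w' ⟶ ShortComplex.mk i d2 w2 :=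
    { τ₁ := p, τ₂ := 𝟙 _, τ₃ := 𝟙 _
      comm₁₂ := by simp [h1]
      comm₂₃ := by simp }
  let ψ : ShortComplex.mk i q w ⟶ ShortComplex.mk i d2 w2 :=
    { τ₁ := 𝟙 _, τ₂ := 𝟙 _, τ₃ := j
      comm₁₂ := by simp
      comm₂₃ := by simp [h2] }
  have hφ1 : Epi φ.τ₁ := by dsimp [φ]; infer_instance
  have hφ2 : IsIso φ.τ₂ := by dsimp [φ]; infer_instance
  have hφ3 : Mono φ.τ₃ := by dsimp [φ]; infer_instance
  have hψ1 : Epi ψ.τ₁ := by dsimp [ψ]; infer_instance
  have hψ2 : IsIso ψ.τ₂ := by dsimp [ψ]; infer_instance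
  have hψ3 : Mono ψ.τ₃ := by dsimp [ψ]; infer_instance
  rw [ShortComplex.exact_iff_of_epi_of_isIso_of_mono φ]
  exact (ShortComplex.exact_iff_of_epi_of_isIso_of_mono ψ).1 hex

/-- the short complex `Z^n ⟶ K^n ⟶ Z^{n+1}` -/
noncomputable def cycSC (K : CochainComplex A ℤ) (n : ℤ) : ShortComplex A :=
  ShortComplex.mk (K.iCycles n) (K.toCycles n (n + 1)) (by
    rw [← cancel_mono (K.iCycles (n + 1)), Category.assoc, toCycles_i, iCycles_d, zero_comp])

lemma cycSC_shortExact (K : CochainComplex A ℤ) (hac : Acyc K) (n : ℤ) :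
    (cycSC K n).ShortExact := by
  have hm : Mono (cycSC K n).f := by dsimp [cycSC]; infer_instance
  have he : Epi (cycSC K n).g :=
    Preadditive.epi_of_isZero_cokernel' _ (K.homologyIsCokernel n (n + 1) (by simp)) (hac (n + 1))
  refine { exact := ?_, mono_f := hm, epi_g := he }
  -- exactness: `iCycles` is the kernel of `d`, hence of `toCycles` as `iCycles (n+1)` is mono
  apply ShortComplex.exact_of_f_is_kernel
  refine KernelFork.IsLimit.ofι' _ _ (fun {T} k hk => ?_)
  let k' : T ⟶ K.X n := k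
  have hk0 : k' ≫ K.toCycles n (n + 1) = 0 := hk
  have hk' : k' ≫ K.d n (n + 1) = 0 := by
    rw [← toCycles_i K n (n + 1), reassoc_of% hk0, zero_comp]
  exact ⟨K.liftCycles k' (n + 1) (by simp) hk', K.liftCycles_i k' (n + 1) (by simp) hk'⟩

/-- an additive functor which preserves the short exact sequences `Z^n ⟶ K^n ⟶ Z^{n+1}` of an
acyclic complex `K` sends `K` to an acyclic complex -/
theorem acyc_map_of_cycSC (F : A ⥤ B) [F.Additive] (K : CochainComplex A ℤ)
    (hF : ∀ n : ℤ, ((cycSC K n).map F).ShortExact) :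
    Acyc ((F.mapHomologicalComplex (ComplexShape.up ℤ)).obj K) := by
  intro n
  rw [← exactAt_iff_isZero_homology,
    exactAt_iff' _ (n - 1) n (n + 1) (by simp) (by simp)]
  have h1 : ∀ m : ℤ, m + 1 = n → Epi (F.map (K.toCycles m n)) := by
    rintro m rfl
    exact (hF m).epi_g
  have h1' := h1 (n - 1) (by omega)
  have h2 := hF n
  have h3 : Mono (F.map (K.iCycles (n + 1))) := (hF (n + 1)).mono_f
  exact exact_of_factor (F.map (K.d (n - 1) n)) (F.map (K.d n (n + 1)))
    (F.map (K.toCycles (n - 1) n)) (F.map (K.iCycles n)) (F.map (K.toCycles n (n + 1)))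
    (F.map (K.iCycles (n + 1))) (by rw [← F.map_comp, toCycles_i]) (by rw [← F.map_comp, toCycles_i])
    ((cycSC K n).map F).zero h2.exact _

end abstract

section pull

variable {X Y : Scheme.{u}} (f : X ⟶ Y)

/-- termwise pullback of complexes -/
noncomputable abbrev pullC : CochainComplex Y.Modules ℤ ⥤ CochainComplex X.Modules ℤ :=
  (Scheme.Modules.pullback f).mapHomologicalComplex (ComplexShape.up ℤ)

/-- K-flat complexes with flat terms -/
def KFFs (K : CochainComplex Y.Modules ℤ) : Prop :=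
  DCoh.IsKFlat K ∧ ∀ n : ℤ, ModSite.IsFlat (O := Y.sheaf) (K.X n)

/-- the pullback of an acyclic K-flat complex with flat terms is acyclic -/
theorem acyc_pullC (C : CochainComplex Y.Modules ℤ) (hC : KFFs C) (hac : Acyc C) :
    Acyc ((pullC f).obj C) := by
  apply acyc_map_of_cycSC
  intro n
  have h1 : ModSite.IsFlat (O := Y.sheaf) (C.cycles (n + 1)) :=
    isFlat_cycles (O := Y.sheaf) C hC.1 hac hC.2 (n + 1)
  exact shortExact_map_pullback f (cycSC C n) (cycSC_shortExact C hac n)
    (StalkTensor.isFlat_of_modSite_isFlat _ h1)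

lemma kffs_mappingCone {E E' : CochainComplex Y.Modules ℤ} (q : E ⟶ E') (hE : KFFs E)
    (hE' : KFFs E') : KFFs (CochainComplex.mappingCone q) := by
  refine ⟨isKFlat_mappingCone q hE.1 hE'.1, fun n => ?_⟩
  exact isFlat_X_of_ses (O := Y.sheaf) _ _ _ (coneSES_shortExact q) n (hE'.2 n) (hE.2 (n + 1))

/-- the pullback preserves quasi-isomorphisms between K-flat complexes with flat terms -/
theorem quasiIso_pullC_map {E E' : CochainComplex Y.Modules ℤ} (q : E ⟶ E') [QuasiIso q]
    (hE : KFFs E) (hE' : KFFs E') : QuasiIso ((pullC f).map q) := by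
  apply quasiIso_of_acyc_cone
  exact Acyc.of_iso
    (CochainComplex.mappingCone.mapHomologicalComplexIso q (Scheme.Modules.pullback f))
    (acyc_pullC f _ (kffs_mappingCone q hE hE') (acyc_cone_of_quasiIso q))

/-- `K(O_Y) ⥤ D(O_X)` restricted to complexes -/
noncomputable abbrev pullFC : CochainComplex Y.Modules ℤ ⥤ DCoh.D X :=
  HomotopyCategory.quotient _ _ ⋙ DCoh.pullKh f

lemma isIso_pullFC_map {E E' : CochainComplex Y.Modules ℤ} (q : E ⟶ E') [QuasiIso q]
    (hE : KFFs E) (hE' : KFFs E') : IsIso ((pullFC f).map q) := by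
  have h1 : QuasiIso ((pullC f).map q) := quasiIso_pullC_map f q hE hE'
  have h2 : IsIso (DerivedCategory.Q.map ((pullC f).map q)) := by
    rw [DerivedCategory.isIso_Q_map_iff_quasiIso]; exact h1
  have h3 : IsIso (DerivedCategory.Qh.map ((HomotopyCategory.quotient _ _).map
      ((pullC f).map q))) :=
    (NatIso.isIso_map_iff (DerivedCategory.quotientCompQhIso X.Modules) ((pullC f).map q)).2 h2
  let e := Functor.isoWhiskerRight
    ((Scheme.Modules.pullback f).mapHomotopyCategoryFactors (ComplexShape.up ℤ))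
    DerivedCategory.Qh
  exact (NatIso.isIso_map_iff e q).2 h3

/-- the total left derived functor of `f^*` exists -/
theorem hasLpull : DCoh.HasLpull f := by
  obtain ⟨R, ψ, h⟩ : ∃ (R : CochainComplex Y.Modules ℤ ⥤ CochainComplex Y.Modules ℤ)
      (ψ : R ⟶ 𝟭 (CochainComplex Y.Modules ℤ)),
      ∀ G : CochainComplex Y.Modules ℤ, ModSite.IsKFlat (O := Y.sheaf) (R.obj G) ∧
        (∀ n : ℤ, ModSite.IsFlat (O := Y.sheaf) ((R.obj G).X n)) ∧ QuasiIso (ψ.app G) ∧
        ∀ n : ℤ, Epi ((ψ.app G).f n) := exists_functorial_kflat_flat_resolution Y.sheaf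
  have hρ : ∀ G, KFFs (R.obj G) := fun G => ⟨(h G).1, (h G).2.1⟩
  have hπ : ∀ G, HomologicalComplex.quasiIso Y.Modules (ComplexShape.up ℤ) (ψ.app G) :=
    fun G => (h G).2.2.1
  have hF : ∀ {E E' : CochainComplex Y.Modules ℤ} (q : E ⟶ E'), KFFs E → KFFs E' →
      HomologicalComplex.quasiIso Y.Modules (ComplexShape.up ℤ) q → IsIso ((pullFC f).map q) := by
    intro E E' q hE hE' hq
    have : QuasiIso q := hq
    exact isIso_pullFC_map f q hE hE'
  have h1 := isLeftDerivedFunctor_res (HomologicalComplex.quasiIso Y.Modules (ComplexShape.up ℤ))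
    (HomotopyCategory.quotient Y.Modules (ComplexShape.up ℤ) ⋙ DerivedCategory.Qh) (pullFC f)
    (fun E => KFFs E) R ψ hρ hπ hF
  have h2 := isLeftDerivedFunctor_desc
    (HomologicalComplex.homotopyEquivalences Y.Modules (ComplexShape.up ℤ))
    (HomotopyCategory.quasiIso Y.Modules (ComplexShape.up ℤ))
    (HomologicalComplex.quasiIso Y.Modules (ComplexShape.up ℤ))
    (HomotopyCategory.quotient Y.Modules (ComplexShape.up ℤ)) DerivedCategory.Qh
    (DCoh.pullKh f) _ (resCounit (HomologicalComplex.quasiIso Y.Modules (ComplexShape.up ℤ))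
      (HomotopyCategory.quotient Y.Modules (ComplexShape.up ℤ) ⋙ DerivedCategory.Qh) (pullFC f)
      (fun E => KFFs E) R ψ hρ hπ hF)
  exact @Functor.HasLeftDerivedFunctor.mk' _ _ _ _ _ _ _ _ _ _ _ _ h2

end pull

end Groth.Agent.Lib.Helper1.Sky
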