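import Mathlib
import Groth.Agent.Lib.Helper1Sky5
import Groth.Agent.Lib.Helper1CI7
import Groth.Agent.Lib.Helper1KBC2
import Groth.Agent.Lib.Helper23QCohLocal
set_option backward.isDefEq.respectTransparency.types false

/-!
# The derived tensor product with a module exists; stalkwise criterion for exactness of `K ⊗ F` (helper1)
-/

set_option autoImplicit false
universe u
open CategoryTheory CategoryTheory.Limits AlgebraicGeometry HomologicalComplex TensorProduct
  MonoidalCategory

attribute [local instance] HasDerivedCategory.standard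

namespace Groth.Agent.Lib.Helper1.TQ

open Groth.Agent.Lib.Helper1.BKF Groth.Agent.Lib.Helper1.CI Groth.Agent.Lib.Helper1.Sky
  Groth.Agent.Lib.Helper1.StalkTensor Groth.Agent.Lib.Helper1.KBC

variable {X : Scheme.{u}}

/-- the total left derived functor of `- ⊗ M` exists -/
theorem hasLTensorMod (M : X.Modules) : DCoh.HasLTensorMod M := by
  obtain ⟨R, ψ, h⟩ : ∃ (R : CochainComplex X.Modules ℤ ⥤ CochainComplex X.Modules ℤ)
      (ψ : R ⟶ 𝟭 (CochainComplex X.Modules ℤ)),
      ∀ G : CochainComplex X.Modules ℤ, ModSite.IsKFlat (O := X.sheaf) (R.obj G) ∧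
        (∀ n : ℤ, ModSite.IsFlat (O := X.sheaf) ((R.obj G).X n)) ∧ QuasiIso (ψ.app G) ∧
        ∀ n : ℤ, Epi ((ψ.app G).f n) := exists_functorial_kflat_flat_resolution X.sheaf
  have hρ : ∀ G, DCoh.IsKFlat (R.obj G) := fun G => (h G).1
  have hπ : ∀ G, HomologicalComplex.quasiIso X.Modules (ComplexShape.up ℤ) (ψ.app G) :=
    fun G => (h G).2.2.1
  have hF : ∀ {E E' : CochainComplex X.Modules ℤ} (q : E ⟶ E'), DCoh.IsKFlat E → DCoh.IsKFlat E' →
      HomologicalComplex.quasiIso X.Modules (ComplexShape.up ℤ) q → IsIso ((FC M).map q) := by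
    intro E E' q hE hE' hq
    have : QuasiIso q := hq
    exact isIso_FC_map M q hE hE'
  have h1 := isLeftDerivedFunctor_res (HomologicalComplex.quasiIso X.Modules (ComplexShape.up ℤ))
    (HomotopyCategory.quotient X.Modules (ComplexShape.up ℤ) ⋙ DerivedCategory.Qh) (FC M)
    (fun E => DCoh.IsKFlat E) R ψ hρ hπ hF
  have h2 := isLeftDerivedFunctor_desc
    (HomologicalComplex.homotopyEquivalences X.Modules (ComplexShape.up ℤ))
    (HomotopyCategory.quasiIso X.Modules (ComplexShape.up ℤ))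
    (HomologicalComplex.quasiIso X.Modules (ComplexShape.up ℤ))
    (HomotopyCategory.quotient X.Modules (ComplexShape.up ℤ)) DerivedCategory.Qh
    (DCoh.tensorModKh M) _ (resCounit (HomologicalComplex.quasiIso X.Modules (ComplexShape.up ℤ))
      (HomotopyCategory.quotient X.Modules (ComplexShape.up ℤ) ⋙ DerivedCategory.Qh) (FC M)
      (fun E => DCoh.IsKFlat E) R ψ hρ hπ hF)
  exact @Functor.HasLeftDerivedFunctor.mk' _ _ _ _ _ _ _ _ _ _ _ _ h2

/-- exactness of a short complex of `O_X`-modules is detected on stalks -/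
lemma exact_iff_stalk (S : ShortComplex X.Modules) :
    S.Exact ↔ ∀ x : X, (S.map (stalkFun x)).Exact := by
  constructor
  · intro h x
    exact h.map (stalkFun x)
  · intro h
    rw [ShortComplex.exact_iff_isZero_homology]
    apply isZero_of_forall_isZero_stalk
    intro x
    have h1 := (ShortComplex.exact_iff_isZero_homology _).1 (h x)
    exact IsZero.of_iso h1 (S.mapHomologyIso (stalkFun x)).symm

section stalk

variable (Q : PMod X.presheaf) (x : X)

/-- the stalk of the sheafification of `P ⊗ Q` is the tensor product of the stalks -/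
noncomputable def stE (P : PMod X.presheaf) :
    St (toPM (shX.obj (P ⊗ Q))) x ≃+ St P x ⊗[StalkTensor.Ox x] St Q x :=
  (AddEquiv.ofBijective (sm (etaX (P ⊗ Q)) x) (sm_etaX_bijective _ x)).symm.trans
    (αEquiv P Q x)

lemma stE_sm_etaX (P : PMod X.presheaf) (t : St (P ⊗ Q) x) :
    stE Q x P (sm (etaX (P ⊗ Q)) x t) = α P Q x t := by
  unfold stE
  rw [AddEquiv.trans_apply]
  have : (AddEquiv.ofBijective (sm (etaX (P ⊗ Q)) x) (sm_etaX_bijective _ x)).symm
      (sm (etaX (P ⊗ Q)) x t) = t :=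
    (AddEquiv.ofBijective (sm (etaX (P ⊗ Q)) x) (sm_etaX_bijective _ x)).symm_apply_apply t
  rw [this]
  rfl

lemma stE_nat {P P' : PMod X.presheaf} (φ : P ⟶ P')
    (a : St (toPM (shX.obj (P ⊗ Q))) x) :
    stE Q x P' (sm (toPMMap (shX.map (φ ▷ Q))) x a) =
      LinearMap.rTensor (St Q x) (smₗ φ x) (stE Q x P a) := by
  obtain ⟨t, rfl⟩ := (sm_etaX_bijective (P ⊗ Q) x).2 a
  rw [← sm_etaX_naturality, stE_sm_etaX, stE_sm_etaX, α_nat_left]

end stalk

lemma exact_iff_of_ladder {A1 A2 A3 B1 B2 B3 : Type*} [Zero A3] [Zero B3]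
    (f1 : A1 → A2) (f2 : A2 → A3) (g1 : B1 → B2) (g2 : B2 → B3)
    (e1 : A1 ≃ B1) (e2 : A2 ≃ B2) (e3 : A3 ≃ B3) (he3 : e3 0 = 0)
    (h1 : ∀ a, e2 (f1 a) = g1 (e1 a)) (h2 : ∀ a, e3 (f2 a) = g2 (e2 a)) :
    Function.Exact f1 f2 ↔ Function.Exact g1 g2 := by
  constructor
  · intro h b
    obtain ⟨a, rfl⟩ := e2.surjective b
    rw [← h2, ← he3, e3.injective.eq_iff, h a]
    constructor
    · rintro ⟨c, rfl⟩
      exact ⟨e1 c, (h1 c).symm⟩
    · rintro ⟨c, hc⟩
      obtain ⟨c, rfl⟩ := e1.surjective c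
      rw [← h1] at hc
      exact ⟨c, e2.injective hc⟩
  · intro h a
    have := h (e2 a)
    rw [← h2, ← he3, e3.injective.eq_iff] at this
    rw [this]
    constructor
    · rintro ⟨c, hc⟩
      obtain ⟨c, rfl⟩ := e1.surjective c
      rw [← h1] at hc
      exact ⟨c, e2.injective hc⟩
    · rintro ⟨c, rfl⟩
      exact ⟨e1 c, (h1 c).symm⟩

/-- tensor-exactness of a short complex at `x` against an `O_{X,x}`-module `N` -/
def TEx (S : ShortComplex X.Modules) (x : X) (N : Type u) [AddCommGroup N]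
    [Module (StalkTensor.Ox x) N] : Prop :=
  Function.Exact (LinearMap.rTensor N (smₗ (toPMMap S.f) x))
    (LinearMap.rTensor N (smₗ (toPMMap S.g) x))

lemma tEx_congr (S : ShortComplex X.Modules) (x : X) {N N' : Type u} [AddCommGroup N]
    [Module (StalkTensor.Ox x) N] [AddCommGroup N'] [Module (StalkTensor.Ox x) N']
    (e : N ≃ₗ[StalkTensor.Ox x] N') : TEx S x N ↔ TEx S x N' := by
  unfold TEx
  refine exact_iff_of_ladder _ _ _ _
    (LinearEquiv.lTensor (St (toPM S.X₁) x) e).toEquiv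
    (LinearEquiv.lTensor (St (toPM S.X₂) x) e).toEquiv
    (LinearEquiv.lTensor (St (toPM S.X₃) x) e).toEquiv
    (map_zero (LinearEquiv.lTensor (St (toPM S.X₃) x) e)) ?_ ?_
  · intro a
    change (LinearMap.lTensor _ e.toLinearMap ∘ₗ LinearMap.rTensor N _) a =
      (LinearMap.rTensor N' _ ∘ₗ LinearMap.lTensor _ e.toLinearMap) a
    rw [LinearMap.lTensor_comp_rTensor, LinearMap.rTensor_comp_lTensor]
  · intro a
    change (LinearMap.lTensor _ e.toLinearMap ∘ₗ LinearMap.rTensor N _) a =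
      (LinearMap.rTensor N' _ ∘ₗ LinearMap.lTensor _ e.toLinearMap) a
    rw [LinearMap.lTensor_comp_rTensor, LinearMap.rTensor_comp_lTensor]


/-- exactness of `S ⊗ F` is tensor-exactness at all stalks -/
lemma exact_map_tensorRightMod_iff (S : ShortComplex X.Modules) (F : X.Modules) :
    (S.map (DCoh.tensorRightMod F)).Exact ↔ ∀ x : X, TEx S x (St (toPM F) x) := by
  rw [exact_iff_stalk]
  refine forall_congr' fun x => ?_
  rw [ShortComplex.ShortExact.moduleCat_exact_iff_function_exact]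
  unfold TEx
  refine exact_iff_of_ladder _ _ _ _ (stE (toPM F) x (toPM S.X₁)).toEquiv
    (stE (toPM F) x (toPM S.X₂)).toEquiv (stE (toPM F) x (toPM S.X₃)).toEquiv
    (map_zero (stE (toPM F) x (toPM S.X₃))) ?_ ?_
  · intro a
    exact stE_nat (toPM F) x (toPMMap S.f) a
  · intro a
    exact stE_nat (toPM F) x (toPMMap S.g) a


/-- the test modules `ι_{x,*} Ñ` are quasi-coherent on a quasi-separated scheme -/
lemma isQCoh_GNF [QuasiSeparatedSpace X] (x : X) (N : ModuleCat.{u} (StalkTensor.Ox x)) :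
    Coh.IsQCoh ((GNF x).obj N) := by
  have : ((tilde.functor (StalkTensor.Ox x)).obj N).IsQuasicoherent := inferInstance
  exact Groth.Agent.Lib.Helper23.QCohLocal.isQuasicoherent_pushforward (ιx x)
    ((tilde.functor (StalkTensor.Ox x)).obj N)

/-- on a quasi-separated scheme exactness of `K ⊗ F` in degree `i` for all `F` can be tested on
quasi-coherent `F` -/
theorem exactAt_Ttw_of_qcoh [QuasiSeparatedSpace X] (K : CochainComplex X.Modules ℤ) (i : ℤ)
    (h : ∀ G : X.Modules, Coh.IsQCoh G → ((Ttw G).obj K).ExactAt i) (F : X.Modules) :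
    ((Ttw F).obj K).ExactAt i := by
  rw [exactAt_iff' _ (i - 1) i (i + 1) (by simp) (by simp)]
  change ((K.sc' (i - 1) i (i + 1)).map (DCoh.tensorRightMod F)).Exact
  rw [exact_map_tensorRightMod_iff]
  intro x
  let N : ModuleCat.{u} (StalkTensor.Ox x) := ModuleCat.of (StalkTensor.Ox x) (St (toPM F) x)
  have hG := h ((GNF x).obj N) (isQCoh_GNF x N)
  rw [exactAt_iff' _ (i - 1) i (i + 1) (by simp) (by simp)] at hG
  have hG' : ((K.sc' (i - 1) i (i + 1)).map (DCoh.tensorRightMod ((GNF x).obj N))).Exact := hG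
  rw [exact_map_tensorRightMod_iff] at hG'
  exact (tEx_congr _ x (ψLin N)).2 (hG' x)

/-- on a quasi-separated scheme, tor amplitude can be tested on quasi-coherent modules -/
theorem hasTorAmplitudeIn_of_qcoh [QuasiSeparatedSpace X] (E : DCoh.D X) (a b : ℤ)
    (h : ∀ (F : X.Modules), Coh.IsQCoh F → ∀ [DCoh.HasLTensorMod F] (i : ℤ), (i < a ∨ b < i) →
        IsZero (DCoh.HD ((DCoh.LTensorMod F).obj E) i)) :
    DCoh.HasTorAmplitudeIn a b E := by
  obtain ⟨K, q, hK, -, hq, -⟩ : ∃ (K : CochainComplex X.Modules ℤ)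
      (q : K ⟶ DerivedCategory.Q.objPreimage E), DCoh.IsKFlat K ∧
      (∀ n : ℤ, ModSite.IsFlat (O := X.sheaf) (K.X n)) ∧ QuasiIso q ∧ ∀ n : ℤ, Epi (q.f n) :=
    exists_kflat_flat_resolution X.sheaf (DerivedCategory.Q.objPreimage E)
  have hqi : IsIso (DerivedCategory.Q.map q) := by
    rw [DerivedCategory.isIso_Q_map_iff_quasiIso]; exact hq
  have eK : DCoh.toD X K ≅ E :=
    asIso (DerivedCategory.Q.map q) ≪≫ DerivedCategory.Q.objObjPreimageIso E
  intro F' _ i hi
  refine IsZero.of_iso ?_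
    ((DerivedCategory.homologyFunctor X.Modules i).mapIso ((DCoh.LTensorMod F').mapIso eK.symm))
  refine IsZero.of_iso ?_ (HDltmIso F' K hK i)
  rw [← exactAt_iff_isZero_homology]
  refine exactAt_Ttw_of_qcoh K i ?_ F'
  intro G hG
  have := hasLTensorMod G
  rw [exactAt_iff_isZero_homology]
  refine IsZero.of_iso ?_ (HDltmIso G K hK i).symm
  exact IsZero.of_iso (h G hG i hi)
    ((DerivedCategory.homologyFunctor X.Modules i).mapIso ((DCoh.LTensorMod G).mapIso eK))

end Groth.Agent.Lib.Helper1.TQ
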