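import Mathlib
import Groth.Agent.Lib.Helper1LT
import Groth.Agent.Lib.Helper1DT5
import Groth.Agent.Lib.Helper1KF3
set_option backward.isDefEq.respectTransparency.types false

/-!
# Dévissage for `H^i(P ⊗^L N)` along short exact sequences and finite length modules (helper1)
-/

set_option autoImplicit false
set_option maxHeartbeats 400000
universe u
open CategoryTheory CategoryTheory.Limits MonoidalCategory HomologicalComplex
attribute [local instance] HasDerivedCategory.standard

namespace Groth.Agent.Lib.Helper1.TorM

open DerivedCategory Groth.Agent.Lib.Helper1.KF Groth.Agent.Lib.Helper1.Tor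
  Groth.Agent.Lib.Helper1.DT Groth.Agent.Lib.Helper1.LDer

variable {R : Type u} [CommRing R]

/-- the natural transformation `N ⊗ - ⟶ N' ⊗ -` on complexes induced by `f : N ⟶ N'` -/
noncomputable def TCmap {N N' : ModuleCat.{u} R} (f : N ⟶ N') : TC N ⟶ TC N' :=
  NatTrans.mapHomologicalComplex ((curriedTensor (ModuleCat.{u} R)).map f) (ComplexShape.up ℤ)

lemma TCmap_app_f {N N' : ModuleCat.{u} R} (f : N ⟶ N') (F : DRing.Cx R) (n : ℤ) :
    ((TCmap f).app F).f n = f ▷ F.X n := rfl

/-- `TC` sends isomorphic modules to isomorphic functors -/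
noncomputable def TCiso {N N' : ModuleCat.{u} R} (e : N ≅ N') : TC N ≅ TC N' :=
  NatIso.mapHomologicalComplex ((curriedTensor (ModuleCat.{u} R)).mapIso e) (ComplexShape.up ℤ)

lemma exactAt_TC_of_iso {N N' : ModuleCat.{u} R} (e : N ≅ N') (F : DRing.Cx R) (i : ℤ)
    (h : ((TC N).obj F).ExactAt i) : ((TC N').obj F).ExactAt i :=
  h.of_iso ((TCiso e).app F)

/-- the short complex `N' ⊗ F ⟶ N ⊗ F ⟶ N'' ⊗ F` of complexes -/
noncomputable def TCshort (S : ShortComplex (ModuleCat.{u} R)) (F : DRing.Cx R) :
    ShortComplex (DRing.Cx R) :=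
  ShortComplex.mk ((TCmap S.f).app F) ((TCmap S.g).app F)
    (HomologicalComplex.hom_ext _ _ (fun n =>
      (comp_whiskerRight S.f S.g (F.X n)).symm.trans
        ((congrArg (fun t => t ▷ F.X n) S.zero).trans
          (MonoidalPreadditive.zero_whiskerRight (C := ModuleCat.{u} R)))))

lemma tensorRight_shortExact_of_flat' (M : ModuleCat.{u} R) [Module.Flat R M]
    (S : ShortComplex (ModuleCat.{u} R)) (hS : S.ShortExact) :
    (S.map (tensorRight M)).ShortExact := by
  have := hS.mono_f
  have := hS.epi_g
  exact hS.map_of_exact (tensorRight M)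

lemma TCshort_shortExact (S : ShortComplex (ModuleCat.{u} R)) (hS : S.ShortExact) (F : DRing.Cx R)
    (hF : DRing.TermwiseFlat F) : (TCshort S F).ShortExact := by
  have key : ∀ n : ℤ, ((TCshort S F).map (eval _ _ n)).ShortExact := fun n => by
    have := hF n
    exact tensorRight_shortExact_of_flat' (F.X n) S hS
  exact HomologicalComplex.shortExact_of_degreewise_shortExact _ key


/-- two-out-of-three (middle term) for exactness of `N ⊗ F` in a fixed degree -/
theorem exactAt_TC_of_shortExact (S : ShortComplex (ModuleCat.{u} R)) (hS : S.ShortExact)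
    (F : DRing.Cx R) (hF : DRing.TermwiseFlat F) (i : ℤ)
    (h1 : ((TC S.X₁).obj F).ExactAt i) (h3 : ((TC S.X₃).obj F).ExactAt i) :
    ((TC S.X₂).obj F).ExactAt i := by
  have hT := TCshort_shortExact S hS F hF
  have hex := hT.homology_exact₂ i
  rw [HomologicalComplex.exactAt_iff_isZero_homology] at h1 h3 ⊢
  exact hex.isZero_of_both_zeros (h1.eq_of_src _ _) (h3.eq_of_tgt _ _)

lemma exactAt_TC_of_subsingleton (N : ModuleCat.{u} R) [Subsingleton N] (F : DRing.Cx R) (i : ℤ) :
    ((TC N).obj F).ExactAt i := by
  apply ShortComplex.exact_of_isZero_X₂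
  exact (tensorRight (F.X i)).map_isZero (ModuleCat.isZero_of_subsingleton N)

/-- the residue field of a local ring as an `R`-module -/
noncomputable abbrev kappa (R : Type u) [CommRing R] [IsLocalRing R] : ModuleCat.{u} R :=
  resA (IsLocalRing.residue R)

/-- a simple module over a local ring is isomorphic to the residue field -/
lemma nonempty_iso_kappa_of_isSimpleModule [IsLocalRing R] (N : Type u) [AddCommGroup N]
    [Module R N] [IsSimpleModule R N] : Nonempty (ModuleCat.of R N ≅ kappa R) := by
  obtain ⟨I, hI, ⟨e⟩⟩ := isSimpleModule_iff_quot_maximal.1 (inferInstance : IsSimpleModule R N)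
  obtain rfl := IsLocalRing.eq_maximalIdeal hI
  let e' : (R ⧸ IsLocalRing.maximalIdeal R) ≃ₗ[R] (kappa R : Type u) :=
    { toFun := fun x => x
      invFun := fun x => x
      map_add' := fun _ _ => rfl
      map_smul' := fun r x => by
        induction x using Quotient.inductionOn with
        | _ y => rfl
      left_inv := fun _ => rfl
      right_inv := fun _ => rfl }
  exact ⟨(e.trans e').toModuleIso⟩

/-- finite length dévissage -/
theorem exactAt_TC_of_isFiniteLength [IsLocalRing R] (F : DRing.Cx R) (hF : DRing.TermwiseFlat F)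
    (i : ℤ) (hκ : ((TC (kappa R)).obj F).ExactAt i) (N : Type u) [AddCommGroup N] [Module R N]
    (hN : IsFiniteLength R N) : ((TC (ModuleCat.of R N)).obj F).ExactAt i := by
  induction hN with
  | of_subsingleton => exact exactAt_TC_of_subsingleton _ F i
  | @of_simple_quotient M _ _ N' hsimple hN' ih =>
    obtain ⟨e⟩ := nonempty_iso_kappa_of_isSimpleModule (R := R) (M ⧸ N')
    let S : ShortComplex (ModuleCat.{u} R) :=
      ShortComplex.mk (ModuleCat.ofHom N'.subtype) (ModuleCat.ofHom N'.mkQ) (by
        ext x
        simp)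
    have hS : S.ShortExact :=
      { exact := by
          rw [ShortComplex.ShortExact.moduleCat_exact_iff_function_exact]
          exact LinearMap.exact_subtype_mkQ N'
        mono_f := (ModuleCat.mono_iff_injective _).2 N'.subtype_injective
        epi_g := (ModuleCat.epi_iff_surjective _).2 N'.mkQ_surjective }
    exact exactAt_TC_of_shortExact S hS F hF i ih (exactAt_TC_of_iso e.symm F i hκ)

end Groth.Agent.Lib.Helper1.TorM
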