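import Mathlib
import Groth.Agent.Lib.Helper1TorM
import Groth.Agent.Lib.Helper1TorDim
import Groth.Agent.Lib.Helper1ProjRes
set_option backward.isDefEq.respectTransparency.types false

/-!
# `H^i(P ⊗^L N)` for modules killed by a power of an ideal (helper1)
-/

set_option autoImplicit false
set_option maxHeartbeats 400000
universe u
open CategoryTheory CategoryTheory.Limits MonoidalCategory HomologicalComplex TensorProduct
attribute [local instance] HasDerivedCategory.standard

namespace Groth.Agent.Lib.Helper1.TorN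

open DerivedCategory Groth.Agent.Lib.Helper1.KF Groth.Agent.Lib.Helper1.Tor
  Groth.Agent.Lib.Helper1.DT Groth.Agent.Lib.Helper1.LDer Groth.Agent.Lib.Helper1.TorM

section CBC

variable {R S : Type u} [CommRing R] [CommRing S] (f : R →+* S)
variable (Nb : ModuleCat.{u} S)

/-- cancellation of base change `Nb ⊗_S (S ⊗_R X) ≃ Nb ⊗_R X` (additive) -/
noncomputable def cbcAdd (X : ModuleCat.{u} R) :
    (Nb ⊗ (ModuleCat.extendScalars f).obj X : ModuleCat.{u} S) ≃+
      ((ModuleCat.restrictScalars f).obj Nb ⊗ X : ModuleCat.{u} R) :=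
  letI : Algebra R S := f.toAlgebra
  letI : Module R Nb := Module.compHom Nb f
  haveI : IsScalarTower R S Nb := ⟨fun r s n => by
    show (f r * s) • n = f r • (s • n)
    rw [mul_smul]⟩
  (TensorProduct.AlgebraTensorModule.cancelBaseChange R S S Nb X).toAddEquiv

lemma cbcAdd_natural {X Y : ModuleCat.{u} R} (g : X ⟶ Y)
    (z : (Nb ⊗ (ModuleCat.extendScalars f).obj X : ModuleCat.{u} S)) :
    cbcAdd f Nb Y ((Nb ◁ (ModuleCat.extendScalars f).map g).hom z) =
      ((ModuleCat.restrictScalars f).obj Nb ◁ g).hom (cbcAdd f Nb X z) := by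
  induction z using TensorProduct.induction_on with
  | zero => simp
  | add a b ha hb => rw [map_add, map_add, map_add, map_add, ha, hb]
  | tmul n w =>
    refine TensorProduct.induction_on
      (motive := fun (w : ↑((ModuleCat.extendScalars f).obj X)) =>
        cbcAdd f Nb Y ((Nb ◁ (ModuleCat.extendScalars f).map g).hom (n ⊗ₜ[S] w)) =
          ((ModuleCat.restrictScalars f).obj Nb ◁ g).hom (cbcAdd f Nb X (n ⊗ₜ[S] w))) w ?_ ?_ ?_
    · show cbcAdd f Nb Y ((Nb ◁ (ModuleCat.extendScalars f).map g).hom
          (n ⊗ₜ[S] (0 : ↑((ModuleCat.extendScalars f).obj X)))) =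
        ((ModuleCat.restrictScalars f).obj Nb ◁ g).hom (cbcAdd f Nb X
          (n ⊗ₜ[S] (0 : ↑((ModuleCat.extendScalars f).obj X))))
      rw [TensorProduct.tmul_zero]
      simp
    · intro s x
      rfl
    · intro (a : ↑((ModuleCat.extendScalars f).obj X)) (b : ↑((ModuleCat.extendScalars f).obj X)) ha hb
      have h0 : (n ⊗ₜ[S] ((a : ↑((ModuleCat.extendScalars f).obj X)) + b) :
          (Nb ⊗ (ModuleCat.extendScalars f).obj X : ModuleCat.{u} S)) =
          n ⊗ₜ[S] (a : ↑((ModuleCat.extendScalars f).obj X)) +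
            n ⊗ₜ[S] (b : ↑((ModuleCat.extendScalars f).obj X)) := TensorProduct.tmul_add n _ _
      refine (congrArg (fun t => cbcAdd f Nb Y
        ((Nb ◁ (ModuleCat.extendScalars f).map g).hom t)) h0).trans ?_
      refine Eq.trans ?_ (congrArg (fun t => ((ModuleCat.restrictScalars f).obj Nb ◁ g).hom
        (cbcAdd f Nb X t)) h0.symm)
      show cbcAdd f Nb Y ((Nb ◁ (ModuleCat.extendScalars f).map g).hom
          (n ⊗ₜ[S] (a : ↑((ModuleCat.extendScalars f).obj X)) +
            n ⊗ₜ[S] (b : ↑((ModuleCat.extendScalars f).obj X)))) =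
        ((ModuleCat.restrictScalars f).obj Nb ◁ g).hom (cbcAdd f Nb X
          (n ⊗ₜ[S] (a : ↑((ModuleCat.extendScalars f).obj X)) +
            n ⊗ₜ[S] (b : ↑((ModuleCat.extendScalars f).obj X))))
      rw [map_add, map_add, map_add, map_add]
      exact congrArg₂ (· + ·) ha hb

/-- exactness of `Nb ⊗_S (S ⊗_R F)` implies exactness of `Nb|_R ⊗_R F` -/
theorem exactAt_TC_restrict_of_exactAt_TC_ext (F : DRing.Cx R) (i : ℤ)
    (h : ((TC Nb).obj ((DTen.extCx f).obj F)).ExactAt i) :
    ((TC ((ModuleCat.restrictScalars f).obj Nb)).obj F).ExactAt i := by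
  rw [exactAt_TC_iff _ _ (i - 1) i (i + 1) (by lia) rfl] at h ⊢
  exact Groth.Agent.Lib.Helper1.TorDim.exact_of_ladder _ _ _ _
    (cbcAdd f Nb (F.X (i - 1))).toEquiv (cbcAdd f Nb (F.X i)).toEquiv
    (cbcAdd f Nb (F.X (i + 1))).toEquiv (map_zero (cbcAdd f Nb (F.X (i + 1))))
    (fun x => (cbcAdd_natural f Nb (F.d (i - 1) i) x).symm)
    (fun x => (cbcAdd_natural f Nb (F.d i (i + 1)) x).symm) h

end CBC


section RightExact

variable {A : Type u} [CommRing A]

open CochainComplex in
/-- `N ⊗ -` (termwise) preserves quasi-isomorphisms between K-flat complexes -/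
lemma quasiIso_TC_map_of_kflat (N : ModuleCat.{u} A) {P K : Cx A} (π : P ⟶ K) [QuasiIso π]
    (hP : KFlat P) (hK : KFlat K) : QuasiIso ((TC N).map π) := by
  apply quasiIso_of_acyc_cone
  have h1 : Acyc (mappingCone π) := acyc_cone_of_quasiIso π
  have h2 : KFlat (mappingCone π) := KFlat.cone π hP hK
  exact Acyc.of_iso (mappingCone.mapHomologicalComplexIso π (tensorLeft N))
    (acyc_TCx_of_kflat_of_acyc h2 h1 N)

/-- right t-exactness of `N ⊗^L -`: if `G` is K-flat and exact in degrees `> n`, so is `N ⊗ G` -/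
theorem exactAt_TC_of_exactAt_above (G : Cx A) (hG : KFlat G) (n : ℤ)
    (hle : ∀ i : ℤ, n < i → G.ExactAt i) (N : ModuleCat.{u} A) (i : ℤ) (hi : n < i) :
    ((TC N).obj G).ExactAt i := by
  have hGle : CochainComplex.IsLE G n := by
    rw [CochainComplex.isLE_iff]
    exact hle
  have : (Q.obj G).IsLE n := (DerivedCategory.isLE_Q_obj_iff _ _).2 hGle
  obtain ⟨G', hG'le, hG'p, ⟨e⟩⟩ := Groth.Agent.Lib.Helper1.ProjRes.exists_iso_Q_proj (Q.obj G) n
  have hG'K : G'.IsKProjective := by
    apply isKProjective_of_vanishesAbove G' n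
    · intro j hj
      exact G'.isZero_of_isStrictlyLE n j hj
    · intro j
      have := hG'p j
      exact ModuleCat.projective_of_module_projective _
  obtain ⟨g, hg⟩ := Q_map_surjective G' G e.hom
  have hgi : IsIso (Q.map g) := by rw [hg]; infer_instance
  have hgq : QuasiIso g := (DerivedCategory.isIso_Q_map_iff_quasiIso (φ := g)).1 hgi
  have hq := quasiIso_TC_map_of_kflat N g (kflat_of_isKProjective G') hG
  have h1 : ((TC N).obj G').ExactAt i :=
    ShortComplex.exact_of_isZero_X₂ _ ((tensorLeft N).map_isZero (G'.isZero_of_isStrictlyLE n i hi))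
  rw [HomologicalComplex.exactAt_iff_isZero_homology] at h1 ⊢
  have hqa : QuasiIsoAt ((TC N).map g) i := hq.quasiIsoAt i
  have hiso : IsIso (homologyMap ((TC N).map g) i) := (quasiIsoAt_iff_isIso_homologyMap _ i).1 hqa
  exact h1.of_iso (asIso (homologyMap ((TC N).map g) i)).symm

end RightExact


section Ideal

variable {R : Type u} [CommRing R] (I : Ideal R)

/-- `R ⧸ I` with its quotient module structure is the restriction of scalars of `R ⧸ I` -/
noncomputable def quotIso : ModuleCat.of R (R ⧸ I) ≅ resA (Ideal.Quotient.mk I) :=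
  LinearEquiv.toModuleIso
    { toFun := fun x => x
      invFun := fun x => x
      map_add' := fun _ _ => rfl
      map_smul' := fun r x => by
        induction x using Quotient.inductionOn with
        | _ y => rfl
      left_inv := fun _ => rfl
      right_inv := fun _ => rfl }

/-- base case: modules killed by `I` -/
theorem exactAt_TC_of_smul_eq_zero (F : Cx R) [F.IsKProjective] (n : ℤ)
    (h : ∀ i : ℤ, n < i → ((TC (ModuleCat.of R (R ⧸ I))).obj F).ExactAt i)
    (N : Type u) [AddCommGroup N] [Module R N] (hN : ∀ r ∈ I, ∀ x : N, r • x = 0) (i : ℤ)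
    (hi : n < i) : ((TC (ModuleCat.of R N)).obj F).ExactAt i := by
  have hG : ∀ j : ℤ, n < j → ((DTen.extCx (Ideal.Quotient.mk I)).obj F).ExactAt j := fun j hj =>
    (exactAt_extCx_iff (Ideal.Quotient.mk I) F j).2 (exactAt_TC_of_iso (quotIso I) F j (h j hj))
  have hGK : KFlat ((DTen.extCx (Ideal.Quotient.mk I)).obj F) := kflat_of_isKProjective _
  have htors : Module.IsTorsionBySet R N (I : Set R) := fun x a => hN a a.2 x
  letI : Module (R ⧸ I) N := Module.IsTorsionBySet.module htors
  have h1 := exactAt_TC_of_exactAt_above _ hGK n hG (ModuleCat.of (R ⧸ I) N) i hi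
  have h2 := exactAt_TC_restrict_of_exactAt_TC_ext (Ideal.Quotient.mk I)
    (ModuleCat.of (R ⧸ I) N) F i h1
  let e : (ModuleCat.restrictScalars (Ideal.Quotient.mk I)).obj (ModuleCat.of (R ⧸ I) N) ≅
      ModuleCat.of R N :=
    LinearEquiv.toModuleIso
      { toFun := fun x => x
        invFun := fun x => x
        map_add' := fun _ _ => rfl
        map_smul' := fun r x => Module.IsTorsionBySet.mk_smul htors r x
        left_inv := fun _ => rfl
        right_inv := fun _ => rfl }
  exact exactAt_TC_of_iso e F i h2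


/-- modules killed by a power of `I` -/
theorem exactAt_TC_of_pow_smul_eq_zero (F : Cx R) [F.IsKProjective] (hFf : DRing.TermwiseFlat F)
    (n : ℤ) (h : ∀ i : ℤ, n < i → ((TC (ModuleCat.of R (R ⧸ I))).obj F).ExactAt i) (i : ℤ)
    (hi : n < i) :
    ∀ (k : ℕ) (N : Type u) [AddCommGroup N] [Module R N],
      (∀ r ∈ I ^ k, ∀ x : N, r • x = 0) → ((TC (ModuleCat.of R N)).obj F).ExactAt i := by
  intro k
  induction k with
  | zero =>
    intro N _ _ hN
    have : Subsingleton N := ⟨fun x y => by
      have hx := hN 1 (by simp) x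
      have hy := hN 1 (by simp) y
      rw [one_smul] at hx hy
      rw [hx, hy]⟩
    exact exactAt_TC_of_subsingleton _ F i
  | succ k ih =>
    intro N _ _ hN
    let N' : Submodule R N := I • (⊤ : Submodule R N)
    have h1 : ((TC (ModuleCat.of R N')).obj F).ExactAt i := by
      apply ih N'
      intro r hr x
      apply Subtype.ext
      show r • (x : N) = 0
      refine Submodule.smul_induction_on x.2 ?_ ?_
      · intro s hs y _
        rw [smul_smul]
        exact hN (r * s) (by rw [pow_succ]; exact Ideal.mul_mem_mul hr hs) y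
      · intro a b ha hb
        rw [smul_add, ha, hb, add_zero]
    have h3 : ((TC (ModuleCat.of R (N ⧸ N'))).obj F).ExactAt i := by
      apply exactAt_TC_of_smul_eq_zero I F n h (N ⧸ N') _ i hi
      intro r hr x
      induction x using Submodule.Quotient.induction_on with
      | _ y =>
        rw [← Submodule.Quotient.mk_smul, Submodule.Quotient.mk_eq_zero]
        exact Submodule.smul_mem_smul hr Submodule.mem_top
    let S : ShortComplex (ModuleCat.{u} R) :=
      ShortComplex.mk (ModuleCat.ofHom N'.subtype) (ModuleCat.ofHom N'.mkQ) (by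
        ext x
        simp)
    have hS : S.ShortExact :=
      { exact := by
          rw [ShortComplex.ShortExact.moduleCat_exact_iff_function_exact]
          exact LinearMap.exact_subtype_mkQ N'
        mono_f := (ModuleCat.mono_iff_injective _).2 N'.subtype_injective
        epi_g := (ModuleCat.epi_iff_surjective _).2 N'.mkQ_surjective }
    exact exactAt_TC_of_shortExact S hS F hFf i h1 h3

end Ideal

end Groth.Agent.Lib.Helper1.TorN
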