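import Mathlib
import Groth.Agent.Lib.Helper1TorN
import Groth.Agent.Lib.Helper1TorE
import Groth.Agent.Lib.Helper1LBC
import Groth.Agent.Lib.Helper1KF12
set_option backward.isDefEq.respectTransparency.types false

/-!
# Tor amplitude for K-flat complexes; descent along nilpotent surjections (helper1)
-/

set_option autoImplicit false
set_option maxHeartbeats 400000
universe u
open CategoryTheory CategoryTheory.Limits MonoidalCategory HomologicalComplex TensorProduct
attribute [local instance] HasDerivedCategory.standard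

namespace Groth.Agent.Lib.Helper1.TorO

open DerivedCategory Groth.Agent.Lib.Helper1.KF Groth.Agent.Lib.Helper1.Tor
  Groth.Agent.Lib.Helper1.DT Groth.Agent.Lib.Helper1.LDer Groth.Agent.Lib.Helper1.TorM
  Groth.Agent.Lib.Helper1.TorN

section KFlatTorVan

variable {R : Type u} [CommRing R]

/-- a K-flat complex isomorphic in `D(R)` to a flat complex in `[a, b]` has tensor-vanishing
outside `[a, b]` -/
theorem torVan_of_iso_kflat (G E : DRing.Cx R) (hG : KFlat G) (a b : ℤ)
    (hE : DRing.VanishesOutside E a b) (hEf : DRing.TermwiseFlat E) (e : Q.obj E ≅ Q.obj G) :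
    TorVan G a b := by
  obtain ⟨P, p, hP, -, hp, -⟩ := exists_kprojective_resolution G
  have hpi : IsIso (Q.map p) := (DerivedCategory.isIso_Q_map_iff_quasiIso (φ := p)).2 hp
  obtain ⟨g, hg⟩ := Q_map_surjective P E (Q.map p ≫ e.inv)
  have hgi : IsIso (Q.map g) := by rw [hg]; infer_instance
  have hgq : QuasiIso g := (DerivedCategory.isIso_Q_map_iff_quasiIso (φ := g)).1 hgi
  have hEK : KFlat E := kflat_of_boundedAbove_flat E b (fun q hq => hE q (Or.inr hq)) hEf
  have hPK : KFlat P := kflat_of_isKProjective P
  intro M i hi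
  have h1 : ((TC M).obj E).ExactAt i :=
    ShortComplex.exact_of_isZero_X₂ _ ((tensorLeft M).map_isZero (hE i hi))
  have q1 := quasiIso_TC_map_of_kflat M g hPK hEK
  have q2 := quasiIso_TC_map_of_kflat M p hPK hG
  have a1 : IsIso (homologyMap ((TC M).map g) i) :=
    (quasiIsoAt_iff_isIso_homologyMap _ i).1 (q1.quasiIsoAt i)
  have a2 : IsIso (homologyMap ((TC M).map p) i) :=
    (quasiIsoAt_iff_isIso_homologyMap _ i).1 (q2.quasiIsoAt i)
  rw [HomologicalComplex.exactAt_iff_isZero_homology] at h1 ⊢
  exact h1.of_iso ((asIso (homologyMap ((TC M).map p) i)).symm ≪≫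
    asIso (homologyMap ((TC M).map g) i))

/-- a K-flat complex with tensor-vanishing outside `[a, b]` has tor amplitude in `[a, b]` -/
theorem hasTorAmp_of_torVan_kflat (F : DRing.Cx R) (hF : KFlat F) (a b : ℤ) (h : TorVan F a b) :
    DRing.HasTorAmplitudeIn R a b (Q.obj F) := by
  have hFle : CochainComplex.IsLE F b := by
    rw [CochainComplex.isLE_iff]
    exact fun i hi => h.exactAt i (Or.inr hi)
  have : (Q.obj F).IsLE b := (DerivedCategory.isLE_Q_obj_iff _ _).2 hFle
  obtain ⟨G', hG'le, hG'p, ⟨e⟩⟩ := Groth.Agent.Lib.Helper1.ProjRes.exists_iso_Q_proj (Q.obj F) b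
  have hG'b : DRing.VanishesAbove G' b := fun j hj => G'.isZero_of_isStrictlyLE b j hj
  have hG'K : G'.IsKProjective := by
    apply isKProjective_of_vanishesAbove G' b hG'b
    intro j
    have := hG'p j
    exact ModuleCat.projective_of_module_projective _
  have hG'f : DRing.TermwiseFlat G' := fun i =>
    have := hG'p i
    have : Module.Projective R (G'.X i) := ModuleCat.projective_of_module_projective _
    inferInstance
  obtain ⟨g, hg⟩ := Q_map_surjective G' F e.hom
  have hgi : IsIso (Q.map g) := by rw [hg]; infer_instance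
  have hgq : QuasiIso g := (DerivedCategory.isIso_Q_map_iff_quasiIso (φ := g)).1 hgi
  have hvan : TorVan G' a b := by
    intro M i hi
    have q1 := quasiIso_TC_map_of_kflat M g (kflat_of_isKProjective G') hF
    have a1 : IsIso (homologyMap ((TC M).map g) i) :=
      (quasiIsoAt_iff_isIso_homologyMap _ i).1 (q1.quasiIsoAt i)
    have h1 := h M i hi
    rw [HomologicalComplex.exactAt_iff_isZero_homology] at h1 ⊢
    exact h1.of_iso (asIso (homologyMap ((TC M).map g) i))
  exact hasTorAmp_of_iso e (hasTorAmp_of_torVan G' b hG'b hG'f a b hvan)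

end KFlatTorVan


section Devissage

variable {R : Type u} [CommRing R] (I : Ideal R)

/-- general dévissage along the `I`-adic filtration, in a fixed degree -/
theorem exactAt_TC_of_pow_smul_eq_zero' (F : Cx R) (hFf : DRing.TermwiseFlat F) (i : ℤ)
    (hbase : ∀ (N : Type u) [AddCommGroup N] [Module R N], (∀ r ∈ I, ∀ x : N, r • x = 0) →
      ((TC (ModuleCat.of R N)).obj F).ExactAt i) :
    ∀ (k : ℕ) (N : Type u) [AddCommGroup N] [Module R N],
      (∀ r ∈ I ^ k, ∀ x : N, r • x = 0) → ((TC (ModuleCat.of R N)).obj F).ExactAt i := by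
  intro k
  induction k with
  | zero =>
    intro N _ _ hN
    have : Subsingleton N := ⟨fun x y => by
      have hx := hN 1 (by simp) x
      have hy := hN 1 (by simp) y
      rw [one_smul] at hx hy
      rw [hx, hy]⟩
    exact exactAt_TC_of_subsingleton _ F i
  | succ k ih =>
    intro N _ _ hN
    let N' : Submodule R N := I • (⊤ : Submodule R N)
    have h1 : ((TC (ModuleCat.of R N')).obj F).ExactAt i := by
      apply ih N'
      intro r hr x
      apply Subtype.ext
      show r • (x : N) = 0
      refine Submodule.smul_induction_on x.2 ?_ ?_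
      · intro s hs y _
        rw [smul_smul]
        exact hN (r * s) (by rw [pow_succ]; exact Ideal.mul_mem_mul hr hs) y
      · intro a b ha hb
        rw [smul_add, ha, hb, add_zero]
    have h3 : ((TC (ModuleCat.of R (N ⧸ N'))).obj F).ExactAt i := by
      apply hbase (N ⧸ N')
      intro r hr x
      induction x using Submodule.Quotient.induction_on with
      | _ y =>
        rw [← Submodule.Quotient.mk_smul, Submodule.Quotient.mk_eq_zero]
        exact Submodule.smul_mem_smul hr Submodule.mem_top
    let S : ShortComplex (ModuleCat.{u} R) :=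
      ShortComplex.mk (ModuleCat.ofHom N'.subtype) (ModuleCat.ofHom N'.mkQ) (by
        ext x
        simp)
    have hS : S.ShortExact :=
      { exact := by
          rw [ShortComplex.ShortExact.moduleCat_exact_iff_function_exact]
          exact LinearMap.exact_subtype_mkQ N'
        mono_f := (ModuleCat.mono_iff_injective _).2 N'.subtype_injective
        epi_g := (ModuleCat.epi_iff_surjective _).2 N'.mkQ_surjective }
    exact exactAt_TC_of_shortExact S hS F hFf i h1 h3

end Devissage

section Nilpotent

variable {R' R : Type u} [CommRing R'] [CommRing R] (φ : R' →+* R)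

lemma nonempty_iso_of_addEquiv {X : ModuleCat.{u} R'} {N : Type u} [AddCommGroup N] [Module R' N]
    (e : X ≃+ N) (h : ∀ (r : R') (x : X), e (r • x) = r • e x) :
    Nonempty (X ≅ ModuleCat.of R' N) :=
  ⟨LinearEquiv.toModuleIso { e with map_smul' := h }⟩

/-- an `R'`-module killed by `ker φ` (`φ` surjective) is the restriction of an `R`-module -/
lemma exists_iso_restrictScalars_of_ker_smul_eq_zero (hφ : Function.Surjective φ) (N : Type u)
    [AddCommGroup N] [Module R' N] (hN : ∀ r ∈ RingHom.ker φ, ∀ x : N, r • x = 0) :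
    ∃ Nb : ModuleCat.{u} R, Nonempty ((ModuleCat.restrictScalars φ).obj Nb ≅ ModuleCat.of R' N) := by
  have htors : Module.IsTorsionBySet R' N (RingHom.ker φ : Set R') := fun x a => hN a a.2 x
  letI : Module (R' ⧸ RingHom.ker φ) N := Module.IsTorsionBySet.module htors
  let ψ : R' ⧸ RingHom.ker φ ≃+* R := RingHom.quotientKerEquivOfSurjective hφ
  letI : Module R N := Module.compHom N (ψ.symm : R →+* R' ⧸ RingHom.ker φ)
  have hsm : ∀ (r : R') (x : N), (ψ.symm (φ r)) • x = r • x := by
    intro r x
    have h1 : ψ.symm (φ r) = Ideal.Quotient.mk (RingHom.ker φ) r := by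
      rw [RingEquiv.symm_apply_eq]
      rfl
    rw [h1]
    exact Module.IsTorsionBySet.mk_smul htors r x
  exact ⟨ModuleCat.of R N, nonempty_iso_of_addEquiv
    (X := (ModuleCat.restrictScalars φ).obj (ModuleCat.of R N)) (AddEquiv.refl N) hsm⟩

/-- **tor amplitude descends along surjections with nilpotent kernel** (K-projective models) -/
theorem torVan_of_torVan_extCx (hφ : Function.Surjective φ) (hnil : IsNilpotent (RingHom.ker φ))
    (F : Cx R') (hFf : DRing.TermwiseFlat F) (a b : ℤ)
    (h : TorVan ((DTen.extCx φ).obj F) a b) : TorVan F a b := by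
  obtain ⟨k, hk⟩ := hnil
  intro M i hi
  have hbase : ∀ (N : Type u) [AddCommGroup N] [Module R' N],
      (∀ r ∈ RingHom.ker φ, ∀ x : N, r • x = 0) → ((TC (ModuleCat.of R' N)).obj F).ExactAt i := by
    intro N _ _ hN
    obtain ⟨Nb, ⟨e⟩⟩ := exists_iso_restrictScalars_of_ker_smul_eq_zero φ hφ N hN
    exact exactAt_TC_of_iso e F i (exactAt_TC_restrict_of_exactAt_TC_ext φ Nb F i (h Nb i hi))
  have := exactAt_TC_of_pow_smul_eq_zero' (RingHom.ker φ) F hFf i hbase k M (by
    intro r hr x
    rw [hk] at hr
    rw [(Submodule.mem_bot R').1 hr, zero_smul])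
  exact this

end Nilpotent

end Groth.Agent.Lib.Helper1.TorO
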