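import Mathlib
import Groth.Agent.Lib.Helper1TQ1
import Groth.Agent.Lib.Helper1KBC4
import Groth.Agent.Lib.Helper1TorO
import Groth.Prelude.Def_DerSch
set_option backward.isDefEq.respectTransparency.types false

/-!
# Tor amplitude on a scheme is stalkwise (helper1)
-/

set_option autoImplicit false
universe u
open CategoryTheory CategoryTheory.Limits AlgebraicGeometry HomologicalComplex TensorProduct
  MonoidalCategory ZeroObject

attribute [local instance] HasDerivedCategory.standard

namespace Groth.Agent.Lib.Helper1.TQ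

open Groth.Agent.Lib.Helper1.BKF Groth.Agent.Lib.Helper1.CI Groth.Agent.Lib.Helper1.Sky
  Groth.Agent.Lib.Helper1.StalkTensor Groth.Agent.Lib.Helper1.KBC Groth.Agent.Lib.Helper1.Tor
  Groth.Agent.Lib.Helper1.TorO

variable {X : Scheme.{u}}

/-- tensor-vanishing of the complex of stalks in terms of `TEx` -/
lemma torVan_stalkC_iff (K : CochainComplex X.Modules ℤ) (x : X) (a b : ℤ) :
    TorVan ((stalkC x).obj K) a b ↔ ∀ (N : ModuleCat.{u} (StalkTensor.Ox x)) (i : ℤ),
      (i < a ∨ b < i) → TEx (K.sc' (i - 1) i (i + 1)) x N := by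
  unfold TorVan
  refine forall_congr' fun N => forall_congr' fun i => imp_congr_right fun _ => ?_
  rw [exactAt_TC_iff N _ (i - 1) i (i + 1) (by omega) rfl]
  unfold TEx
  exact (LinearMap.rTensor_exact_iff_lTensor_exact (Q := N)
    (f := smₗ (toPMMap (K.d (i - 1) i)) x) (g := smₗ (toPMMap (K.d i (i + 1))) x)).symm

/-- a quasi-isomorphism induces an isomorphism on the complexes of stalks in the derived category -/
noncomputable def stalkCQIso {K F : CochainComplex X.Modules ℤ} (q : K ⟶ F) [QuasiIso q] (x : X) :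
    DerivedCategory.Q.obj ((stalkC x).obj K) ≅ DerivedCategory.Q.obj ((stalkC x).obj F) :=
  haveI : QuasiIso ((stalkC x).map q) := inferInstance
  haveI : IsIso (DerivedCategory.Q.map ((stalkC x).map q)) := by
    rw [DerivedCategory.isIso_Q_map_iff_quasiIso]; infer_instance
  asIso (DerivedCategory.Q.map ((stalkC x).map q))

/-- stalkwise tor amplitude gives tor amplitude (derived-tensor form) -/
theorem hasTorAmplitudeIn_of_stalk (F : CochainComplex X.Modules ℤ) (a b : ℤ)
    (h : ∀ x : X, DRing.HasTorAmplitudeIn (StalkTensor.Ox x) a b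
      (DRing.toD ((stalkC x).obj F))) :
    DCoh.HasTorAmplitudeIn a b (DCoh.toD X F) := by
  obtain ⟨K, q, hK, -, hq, -⟩ : ∃ (K : CochainComplex X.Modules ℤ)
      (q : K ⟶ F), DCoh.IsKFlat K ∧
      (∀ n : ℤ, ModSite.IsFlat (O := X.sheaf) (K.X n)) ∧ QuasiIso q ∧ ∀ n : ℤ, Epi (q.f n) :=
    exists_kflat_flat_resolution X.sheaf F
  have hqi : IsIso (DerivedCategory.Q.map q) := by
    rw [DerivedCategory.isIso_Q_map_iff_quasiIso]; exact hq
  have eK : DCoh.toD X K ≅ DCoh.toD X F := asIso (DerivedCategory.Q.map q)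
  refine hasTorAmplitudeIn_of_iso eK a b ?_
  intro G _ i hi
  refine IsZero.of_iso ?_ (HDltmIso G K hK i)
  rw [← exactAt_iff_isZero_homology, exactAt_iff' _ (i - 1) i (i + 1) (by simp) (by simp)]
  change ((K.sc' (i - 1) i (i + 1)).map (DCoh.tensorRightMod G)).Exact
  rw [exact_map_tensorRightMod_iff]
  intro x
  obtain ⟨E, hE, hEf, ⟨e⟩⟩ := h x
  have hKx : Groth.Agent.Lib.Helper1.KF.KFlat ((stalkC x).obj K) :=
    fun M hM => rKFlat_stalk_of_isKFlat x K hK M hM
  have hv : TorVan ((stalkC x).obj K) a b :=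
    torVan_of_iso_kflat _ E hKx a b hE hEf (e ≪≫ (stalkCQIso q x).symm)
  exact (torVan_stalkC_iff K x a b).1 hv (ModuleCat.of _ (St (toPM G) x)) i hi

/-- tor amplitude (derived-tensor form) gives stalkwise tor amplitude -/
theorem stalk_hasTorAmp_of_hasTorAmplitudeIn (F : CochainComplex X.Modules ℤ) (a b : ℤ)
    (h : DCoh.HasTorAmplitudeIn a b (DCoh.toD X F)) (x : X) :
    DRing.HasTorAmplitudeIn (StalkTensor.Ox x) a b (DRing.toD ((stalkC x).obj F)) := by
  obtain ⟨K, q, hK, -, hq, -⟩ : ∃ (K : CochainComplex X.Modules ℤ)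
      (q : K ⟶ F), DCoh.IsKFlat K ∧
      (∀ n : ℤ, ModSite.IsFlat (O := X.sheaf) (K.X n)) ∧ QuasiIso q ∧ ∀ n : ℤ, Epi (q.f n) :=
    exists_kflat_flat_resolution X.sheaf F
  have hqi : IsIso (DerivedCategory.Q.map q) := by
    rw [DerivedCategory.isIso_Q_map_iff_quasiIso]; exact hq
  have eK : DCoh.toD X K ≅ DCoh.toD X F := asIso (DerivedCategory.Q.map q)
  have hK' : DCoh.HasTorAmplitudeIn a b (DCoh.toD X K) := hasTorAmplitudeIn_of_iso eK.symm a b h
  have hKx : Groth.Agent.Lib.Helper1.KF.KFlat ((stalkC x).obj K) :=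
    fun M hM => rKFlat_stalk_of_isKFlat x K hK M hM
  have hv : TorVan ((stalkC x).obj K) a b := by
    rw [torVan_stalkC_iff]
    intro N i hi
    have := hasLTensorMod ((GNF x).obj N)
    have h1 := exactAt_Ttw_of_torAmplitude K hK a b hK' ((GNF x).obj N) i hi
    rw [exactAt_iff' _ (i - 1) i (i + 1) (by simp) (by simp)] at h1
    have h2 : ((K.sc' (i - 1) i (i + 1)).map (DCoh.tensorRightMod ((GNF x).obj N))).Exact := h1
    rw [exact_map_tensorRightMod_iff] at h2
    exact (tEx_congr _ x (ψLin N)).2 (h2 x)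
  exact hasTorAmp_of_iso (stalkCQIso q x) (hasTorAmp_of_torVan_kflat _ hKx a b hv)

/-- tor amplitude in the derived-tensor form is stalkwise -/
theorem hasTorAmplitudeIn_iff_stalk (F : CochainComplex X.Modules ℤ) (a b : ℤ) :
    DCoh.HasTorAmplitudeIn a b (DCoh.toD X F) ↔
      ∀ x : X, DRing.HasTorAmplitudeIn (StalkTensor.Ox x) a b (DRing.toD ((stalkC x).obj F)) :=
  ⟨stalk_hasTorAmp_of_hasTorAmplitudeIn F a b, hasTorAmplitudeIn_of_stalk F a b⟩


open Groth.Agent.Lib.Helper21.FlatCalc in
/-- the flat-representative form and the derived-tensor form of tor amplitude agree -/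
theorem hasFlatAmplitudeIn_iff_hasTorAmplitudeIn (E : DCoh.D X) (a b : ℤ) :
    DCoh.HasFlatAmplitudeIn a b E ↔ DCoh.HasTorAmplitudeIn a b E := by
  constructor
  · exact hasTorAmplitudeIn_of_hasFlatAmplitudeIn a b
  · intro h
    by_cases hab : a ≤ b
    · exact hasFlatAmplitudeIn_of_hasTorAmplitudeIn E a b hab (fun G => hasLTensorMod G) h
    · have hz : ∀ i : ℤ, IsZero ((DerivedCategory.homologyFunctor X.Modules i).obj E) := by
        intro i
        have := hasLTensorMod (unitMod X)
        let K := DerivedCategory.Q.objPreimage E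
        obtain ⟨K', q, hK', -, hq, -⟩ : ∃ (K' : CochainComplex X.Modules ℤ)
            (q : K' ⟶ K), DCoh.IsKFlat K' ∧
            (∀ n : ℤ, ModSite.IsFlat (O := X.sheaf) (K'.X n)) ∧ QuasiIso q ∧
            ∀ n : ℤ, Epi (q.f n) := exists_kflat_flat_resolution X.sheaf K
        have hqi : IsIso (DerivedCategory.Q.map q) := by
          rw [DerivedCategory.isIso_Q_map_iff_quasiIso]; exact hq
        have eK : DCoh.toD X K' ≅ E :=
          asIso (DerivedCategory.Q.map q) ≪≫ DerivedCategory.Q.objObjPreimageIso E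
        have h1 := exactAt_of_torAmplitude K' hK' a b (hasTorAmplitudeIn_of_iso eK.symm a b h) i
          (by omega)
        rw [exactAt_iff_isZero_homology] at h1
        refine IsZero.of_iso ?_ ((DerivedCategory.homologyFunctor X.Modules i).mapIso eK.symm)
        exact IsZero.of_iso h1 ((DerivedCategory.homologyFunctorFactors X.Modules i).app K')
      have h1 : E.IsLE 0 := by
        rw [DerivedCategory.isLE_iff]
        exact fun i _ => hz i
      have h2 : E.IsGE 1 := by
        rw [DerivedCategory.isGE_iff]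
        exact fun i _ => hz i
      have hE0 : IsZero E := DerivedCategory.TStructure.t.isZero E 0 1 (by simp)
      refine ⟨(0 : CochainComplex X.Modules ℤ), fun i _ => ?_, fun i => ?_, ⟨?_⟩⟩
      · exact (HomologicalComplex.eval _ _ i).map_isZero (isZero_zero _)
      · have hz0 : IsZero ((0 : CochainComplex X.Modules ℤ).X i) :=
          (HomologicalComplex.eval _ _ i).map_isZero (isZero_zero _)
        exact StalkTensor.isFlat_of_modSite_isFlat _
          (BKF.isFlat_of_isZero (O := X.sheaf) hz0)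
      · exact IsZero.iso ((DerivedCategory.Q).map_isZero (isZero_zero _)) hE0

end Groth.Agent.Lib.Helper1.TQ
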