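import Mathlib
import Groth.Agent.Lib.Helper1TorO
import Groth.Prelude.Def_DDual2
set_option backward.isDefEq.respectTransparency.types false

/-!
# Tor amplitude is invariant under restriction of scalars along a ring isomorphism (helper1)
-/

set_option autoImplicit false
set_option linter.style.haveILetI false
universe u
open CategoryTheory CategoryTheory.Limits HomologicalComplex

attribute [local instance] HasDerivedCategory.standard

namespace Groth.Agent.Lib.Helper1.TQ

open Groth.Agent.Lib.Helper1.Tor

variable {R S : Type u} [CommRing R] [CommRing S] (φ : R →+* S)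

/-- restriction of scalars on complexes and the derived category -/
noncomputable def restrictCxQIso {C C' : DRing.Cx S}
    (e : DerivedCategory.Q.obj C ≅ DerivedCategory.Q.obj C') :
    DerivedCategory.Q.obj ((DRing.restrictCx φ).obj C) ≅
      DerivedCategory.Q.obj ((DRing.restrictCx φ).obj C') :=
  ((ModuleCat.restrictScalars.{u} φ).mapDerivedCategoryFactors.app C).symm ≪≫
    (DRing.restrictD φ).mapIso e ≪≫
    (ModuleCat.restrictScalars.{u} φ).mapDerivedCategoryFactors.app C'

lemma flat_restrictScalars_of_bijective (hφ : Function.Bijective φ) (M : ModuleCat.{u} S)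
    [Module.Flat S M] : Module.Flat R ((ModuleCat.restrictScalars.{u} φ).obj M) := by
  letI : Algebra R S := φ.toAlgebra
  letI : Module R M := Module.compHom M φ
  haveI : IsScalarTower R S M := IsScalarTower.of_algebraMap_smul (fun r m => rfl)
  haveI : Module.Flat R S := by
    let e : R ≃ₗ[R] S :=
      { (RingEquiv.ofBijective φ hφ).toAddEquiv with
        map_smul' := fun r x => by
          change φ (r * x) = φ r * φ x
          exact map_mul φ r x }
    exact Module.Flat.of_linearEquiv e.symm
  have h : Module.Flat R M := Module.Flat.trans R S M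
  exact h

/-- tor amplitude passes to the restriction of scalars along a bijective ring map -/
theorem hasTorAmp_restrictCx_of_bijective (hφ : Function.Bijective φ) (C : DRing.Cx S) (a b : ℤ)
    (h : DRing.HasTorAmplitudeIn S a b (DRing.toD C)) :
    DRing.HasTorAmplitudeIn R a b (DRing.toD ((DRing.restrictCx φ).obj C)) := by
  obtain ⟨E, hE, hEf, ⟨e⟩⟩ := h
  refine ⟨(DRing.restrictCx φ).obj E, fun i hi => ?_, fun i => ?_, ⟨restrictCxQIso φ e⟩⟩
  · exact (ModuleCat.restrictScalars.{u} φ).map_isZero (hE i hi)
  · have := hEf i
    exact flat_restrictScalars_of_bijective φ hφ (E.X i)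

/-- restricting along `φ` and then along its inverse is the identity -/
noncomputable def restrictCxInvIso (ψ : S →+* R) (hψ : φ.comp ψ = RingHom.id S) (C : DRing.Cx S) :
    (DRing.restrictCx ψ).obj ((DRing.restrictCx φ).obj C) ≅ C :=
  (NatIso.mapHomologicalComplex
    ((ModuleCat.restrictScalarsComp'.{u} ψ φ (RingHom.id S) hψ.symm).symm ≪≫
      ModuleCat.restrictScalarsId'.{u} (RingHom.id S) rfl) (ComplexShape.up ℤ)).app C

/-- tor amplitude is invariant under restriction of scalars along a bijective ring map -/
theorem hasTorAmp_restrictCx_iff_of_bijective (hφ : Function.Bijective φ) (C : DRing.Cx S)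
    (a b : ℤ) :
    DRing.HasTorAmplitudeIn R a b (DRing.toD ((DRing.restrictCx φ).obj C)) ↔
      DRing.HasTorAmplitudeIn S a b (DRing.toD C) := by
  constructor
  · intro h
    let ε := RingEquiv.ofBijective φ hφ
    have hψ : φ.comp ε.symm.toRingHom = RingHom.id S := by
      ext s
      exact ε.apply_symm_apply s
    have h1 := hasTorAmp_restrictCx_of_bijective ε.symm.toRingHom ε.symm.bijective _ a b h
    exact hasTorAmp_of_iso (DerivedCategory.Q.mapIso (restrictCxInvIso φ _ hψ C)) h1
  · exact hasTorAmp_restrictCx_of_bijective φ hφ C a b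

end Groth.Agent.Lib.Helper1.TQ
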