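import Mathlib
import Groth.Agent.Lib.Helper1TQ2
import Groth.Agent.Lib.Helper1TQ3
set_option backward.isDefEq.respectTransparency.types false

/-!
# Tor amplitude relative to a morphism, stalkwise: reduction to the stalk complexes (helper1)
-/

set_option autoImplicit false
universe u
open CategoryTheory CategoryTheory.Limits AlgebraicGeometry HomologicalComplex

attribute [local instance] HasDerivedCategory.standard

namespace Groth.Agent.Lib.Helper1.TQ

open Groth.Agent.Lib.Helper1.Sky Groth.Agent.Lib.Helper1.StalkTensor Groth.Agent.Lib.Helper1.KBC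
  Groth.Agent.Lib.Helper1.Tor

variable {X Y : Scheme.{u}}

/-- the complex of stalks over the base is the restriction of scalars of the complex of stalks -/
noncomputable def stalkCxOverIso (f : X ⟶ Y) (x : X) (F : CochainComplex X.Modules ℤ) :
    (DerSch.stalkCxOver f x).obj F ≅
      (DRing.restrictCx (f.stalkMap x).hom).obj ((stalkC x).obj F) :=
  HomologicalComplex.Hom.isoOfComponents
    (fun i => (ModuleCat.restrictScalars (f.stalkMap x).hom).mapIso ((stalkFunctorIso x).app (F.X i)))
    (fun i j _ => by
      rw [Functor.mapIso_hom, Functor.mapIso_hom]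
      change (ModuleCat.restrictScalars (f.stalkMap x).hom).map _ ≫
        (ModuleCat.restrictScalars (f.stalkMap x).hom).map ((stalkFun x).map (F.d i j)) =
        (ModuleCat.restrictScalars (f.stalkMap x).hom).map ((DerSch.stalkFunctor X x).map (F.d i j)) ≫
        (ModuleCat.restrictScalars (f.stalkMap x).hom).map _
      rw [← Functor.map_comp, ← Functor.map_comp]
      exact congrArg _ ((stalkFunctorIso x).hom.naturality (F.d i j)).symm)

/-- tor amplitude at a point relative to `f` in terms of the complex of stalks -/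
lemma hasTorAmplitudeAt_iff (f : X ⟶ Y) (F : CochainComplex X.Modules ℤ) (a b : ℤ) (x : X) :
    DerSch.HasTorAmplitudeAt f a b F x ↔
      DRing.HasTorAmplitudeIn (Y.presheaf.stalk (f.base x)) a b
        (DRing.toD ((DRing.restrictCx (f.stalkMap x).hom).obj ((stalkC x).obj F))) := by
  constructor
  · intro h
    exact hasTorAmp_of_iso (DerivedCategory.Q.mapIso (stalkCxOverIso f x F)) h
  · intro h
    exact hasTorAmp_of_iso (DerivedCategory.Q.mapIso (stalkCxOverIso f x F).symm) h

/-- tor amplitude relative to the identity is stalkwise tor amplitude -/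
lemma hasTorAmplitudeAt_id_iff (F : CochainComplex X.Modules ℤ) (a b : ℤ) (x : X) :
    DerSch.HasTorAmplitudeAt (𝟙 X) a b F x ↔
      DRing.HasTorAmplitudeIn (StalkTensor.Ox x) a b (DRing.toD ((stalkC x).obj F)) := by
  rw [hasTorAmplitudeAt_iff]
  have hb : Function.Bijective ((𝟙 X : X ⟶ X).stalkMap x).hom := by
    rw [Scheme.Hom.stalkMap_id]
    exact Function.bijective_id
  exact hasTorAmp_restrictCx_iff_of_bijective _ hb _ a b

/-- S6200 -/
theorem hasFlatAmplitudeIn_iff_hasTorAmplitude_id (F : CochainComplex X.Modules ℤ) (a b : ℤ) :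
    DCoh.HasFlatAmplitudeIn a b (DCoh.toD X F) ↔ DerSch.HasTorAmplitude (𝟙 X) a b F := by
  rw [hasFlatAmplitudeIn_iff_hasTorAmplitudeIn, hasTorAmplitudeIn_iff_stalk]
  exact forall_congr' fun x => (hasTorAmplitudeAt_id_iff F a b x).symm

end Groth.Agent.Lib.Helper1.TQ
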