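import Mathlib
import Groth.Agent.Lib.Helper23QCohExt
import Groth.Agent.Lib.Helper2QcPush

/-!
# Local-to-global principles for morphisms of `O_X`-modules (helper23)

* `eq_zero_of_isZero`, `isZero_of_forall_eq_zero`, `isZero_of_isZero_restrict`: a module vanishes iff all its sections
  vanish; vanishing can be detected on a jointly surjective family of open immersions.
* `epi_of_epi_restrict`, `mono_of_mono_restrict`, `isIso_of_isIso_restrict`.
* `epi_of_surjective_Γ`, `isIso_of_bijective_Γ`: on `Spec R`, for morphisms of quasi-coherent modules, detected on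
  global sections `ΓF R`.
* `epi_of_surjective_ΓU`, `isIso_of_bijective_ΓU`: for morphisms of quasi-coherent modules, detected on sections over the
  members of an affine open cover.
-/

set_option autoImplicit false
universe u
open CategoryTheory Limits AlgebraicGeometry TopologicalSpace Opposite

namespace Groth.Agent.Lib.Helper23.ModLocal

section ML1_0

open Groth.Agent.Lib.Helper23.QCohLocal

variable {X : Scheme.{u}}

theorem eq_zero_of_isZero {K : X.Modules} (hK : IsZero K) (U : X.Opens) (s : Γ(K, U)) : s = 0 := by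
  have h : (𝟙 K : K ⟶ K) = 0 := hK.eq_of_src _ _
  have h2 := congrArg (fun φ : K ⟶ K => (φ.app U) s) h
  simpa using h2

theorem isZero_of_forall_eq_zero {K : X.Modules} (h : ∀ (U : X.Opens) (s : Γ(K, U)), s = 0) : IsZero K := by
  rw [IsZero.iff_id_eq_zero]
  ext U s
  simp only [Scheme.Modules.Hom.id_app, Scheme.Modules.Hom.zero_app]
  rw [h U s]
  simp

/-- a module vanishes if its restrictions along a jointly surjective family of open immersions vanish -/
theorem isZero_of_isZero_restrict {K : X.Modules} {ι : Type*} (W : ι → Scheme.{u}) (j : ∀ i, W i ⟶ X)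
    [∀ i, IsOpenImmersion (j i)] (hj : ∀ x : X, ∃ (i : ι) (y : W i), j i y = x)
    (h : ∀ i, IsZero (K.restrict (j i))) : IsZero K := by
  refine isZero_of_forall_eq_zero fun U s => ?_
  refine Groth.Agent.Lib.Helper2.QcPush.section_eq_zero_of_cover K U s fun x hx => ?_
  obtain ⟨i, y, rfl⟩ := hj x
  refine ⟨j i ''ᵁ (j i ⁻¹ᵁ U), (j i).image_preimage_le U, ⟨y, hx, rfl⟩, ?_⟩
  exact eq_zero_of_isZero (h i) (j i ⁻¹ᵁ U) _

end ML1_0

section ML1_1

open Groth.Agent.Lib.Helper23.QCohLocal

variable {X : Scheme.{u}}

attribute [local instance] restrictFunctor_isRightAdjoint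

/-- epimorphisms of modules can be detected on a jointly surjective family of open immersions -/
theorem epi_of_epi_restrict {A B : X.Modules} (φ : A ⟶ B) {ι : Type*} (W : ι → Scheme.{u}) (j : ∀ i, W i ⟶ X)
    [∀ i, IsOpenImmersion (j i)] (hj : ∀ x : X, ∃ (i : ι) (y : W i), j i y = x)
    (h : ∀ i, Epi ((Scheme.Modules.restrictFunctor (j i)).map φ)) : Epi φ := by
  have hz : IsZero (cokernel φ) := by
    refine isZero_of_isZero_restrict W j hj fun i => ?_
    haveI := h i
    have e : (cokernel φ).restrict (j i) ≅ cokernel ((Scheme.Modules.restrictFunctor (j i)).map φ) :=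
      PreservesCokernel.iso (Scheme.Modules.restrictFunctor (j i)) φ
    exact (isZero_cokernel_of_epi _).of_iso e
  exact Preadditive.epi_of_isZero_cokernel φ hz

/-- monomorphisms of modules can be detected on a jointly surjective family of open immersions -/
theorem mono_of_mono_restrict {A B : X.Modules} (φ : A ⟶ B) {ι : Type*} (W : ι → Scheme.{u}) (j : ∀ i, W i ⟶ X)
    [∀ i, IsOpenImmersion (j i)] (hj : ∀ x : X, ∃ (i : ι) (y : W i), j i y = x)
    (h : ∀ i, Mono ((Scheme.Modules.restrictFunctor (j i)).map φ)) : Mono φ := by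
  have hz : IsZero (kernel φ) := by
    refine isZero_of_isZero_restrict W j hj fun i => ?_
    haveI := h i
    have e : (kernel φ).restrict (j i) ≅ kernel ((Scheme.Modules.restrictFunctor (j i)).map φ) :=
      PreservesKernel.iso (Scheme.Modules.restrictFunctor (j i)) φ
    exact (isZero_kernel_of_mono _).of_iso e
  exact Preadditive.mono_of_isZero_kernel φ hz

/-- isomorphisms of modules can be detected on a jointly surjective family of open immersions -/
theorem isIso_of_isIso_restrict {A B : X.Modules} (φ : A ⟶ B) {ι : Type*} (W : ι → Scheme.{u}) (j : ∀ i, W i ⟶ X)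
    [∀ i, IsOpenImmersion (j i)] (hj : ∀ x : X, ∃ (i : ι) (y : W i), j i y = x)
    (h : ∀ i, IsIso ((Scheme.Modules.restrictFunctor (j i)).map φ)) : IsIso φ := by
  haveI := epi_of_epi_restrict φ W j hj (fun i => by haveI := h i; infer_instance)
  haveI := mono_of_mono_restrict φ W j hj (fun i => by haveI := h i; infer_instance)
  exact isIso_of_mono_of_epi φ

end ML1_1

section ML2_0

open Groth.Agent.Lib.Helper23.QCohLocal

section Spec

variable (R : CommRingCat.{u})

/-- on `Spec R`, a morphism of quasi-coherent modules which is surjective on global sections is an epimorphism -/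
theorem epi_of_surjective_Γ {A B : (Spec R).Modules} [A.IsQuasicoherent] [B.IsQuasicoherent] (ψ : A ⟶ B)
    (h : Function.Surjective ((ΓF R).map ψ).hom) : Epi ψ := by
  haveI : Epi ((ΓF R).map ψ) := (ModuleCat.epi_iff_surjective _).2 h
  haveI : Epi ((tilde.functor R).map ((ΓF R).map ψ)) := inferInstance
  haveI : IsIso ((εΓ R).app A) := by rw [εΓ_app]; exact isIso_fromTildeΓ A
  haveI : IsIso ((εΓ R).app B) := by rw [εΓ_app]; exact isIso_fromTildeΓ B
  have hnat := (εΓ R).naturality ψ
  have h1 : Epi ((εΓ R).app A ≫ ψ) := by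
    have : (εΓ R).app A ≫ ψ = (tilde.functor R).map ((ΓF R).map ψ) ≫ (εΓ R).app B := hnat.symm
    rw [this]
    exact epi_comp _ _
  exact epi_of_epi ((εΓ R).app A) ψ

/-- on `Spec R`, a morphism of quasi-coherent modules which is bijective on global sections is an isomorphism -/
theorem isIso_of_bijective_Γ {A B : (Spec R).Modules} [A.IsQuasicoherent] [B.IsQuasicoherent] (ψ : A ⟶ B)
    (h : Function.Bijective ((ΓF R).map ψ).hom) : IsIso ψ := by
  haveI : IsIso ((ΓF R).map ψ) := (ConcreteCategory.isIso_iff_bijective _).2 h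
  haveI : IsIso ((tilde.functor R).map ((ΓF R).map ψ)) := inferInstance
  haveI : IsIso ((εΓ R).app A) := by rw [εΓ_app]; exact isIso_fromTildeΓ A
  haveI : IsIso ((εΓ R).app B) := by rw [εΓ_app]; exact isIso_fromTildeΓ B
  have hnat := (εΓ R).naturality ψ
  have : ψ = inv ((εΓ R).app A) ≫ (tilde.functor R).map ((ΓF R).map ψ) ≫ (εΓ R).app B := by
    rw [IsIso.eq_inv_comp]; exact hnat.symm
  rw [this]
  infer_instance

end Spec

variable {X : Scheme.{u}}

theorem exists_fromSpec_eq {ι : Type*} (V : ι → X.Opens) (hV : IsOpenCover V) (hVa : ∀ i, IsAffineOpen (V i))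
    (x : X) : ∃ (i : ι) (y : Spec Γ(X, V i)), (hVa i).fromSpec y = x := by
  have hx : x ∈ (⨆ i, V i : X.Opens) := by rw [hV.iSup_eq_top]; trivial
  obtain ⟨i, hxi⟩ := Opens.mem_iSup.1 hx
  have : x ∈ Set.range (hVa i).fromSpec := by rw [(hVa i).range_fromSpec]; exact hxi
  obtain ⟨y, hy⟩ := this
  exact ⟨i, y, hy⟩

/-- a morphism of quasi-coherent modules which is surjective on sections over the members of an affine open cover is an
epimorphism -/
theorem epi_of_surjective_ΓU {A B : X.Modules} [A.IsQuasicoherent] [B.IsQuasicoherent] (φ : A ⟶ B)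
    {ι : Type*} (V : ι → X.Opens) (hV : IsOpenCover V) (hVa : ∀ i, IsAffineOpen (V i))
    (h : ∀ i, Function.Surjective
      ((ΓF Γ(X, V i)).map ((Scheme.Modules.restrictFunctor (hVa i).fromSpec).map φ)).hom) : Epi φ :=
  epi_of_epi_restrict φ (fun i => Spec Γ(X, V i)) (fun i => (hVa i).fromSpec) (exists_fromSpec_eq V hV hVa)
    (fun i => epi_of_surjective_Γ _ _ (h i))

/-- a morphism of quasi-coherent modules which is bijective on sections over the members of an affine open cover is an
isomorphism -/
theorem isIso_of_bijective_ΓU {A B : X.Modules} [A.IsQuasicoherent] [B.IsQuasicoherent] (φ : A ⟶ B)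
    {ι : Type*} (V : ι → X.Opens) (hV : IsOpenCover V) (hVa : ∀ i, IsAffineOpen (V i))
    (h : ∀ i, Function.Bijective
      ((ΓF Γ(X, V i)).map ((Scheme.Modules.restrictFunctor (hVa i).fromSpec).map φ)).hom) : IsIso φ :=
  isIso_of_isIso_restrict φ (fun i => Spec Γ(X, V i)) (fun i => (hVa i).fromSpec) (exists_fromSpec_eq V hV hVa)
    (fun i => isIso_of_bijective_Γ _ _ (h i))

end ML2_0

end Groth.Agent.Lib.Helper23.ModLocal
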