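import Mathlib
import Groth.Agent.Lib.Helper23FinType2
import Groth.Agent.Lib.Helper23ModLocal

/-!
# Locality of quasi-coherence and finite type for open covers (helper23)

* `isFiniteType_of_iso`: finite type is invariant under isomorphism.
* `finite_restrict_iff`: `Module.Finite Γ(Y, W) Γ(M.restrict j, W) ↔ Module.Finite Γ(X, j ''ᵁ W) Γ(M, j ''ᵁ W)`.
* `restrictFromSpecIso`, `isQuasicoherent_of_open_cover`: quasi-coherence is local for arbitrary open covers.
* `isFiniteType_restrict`: restriction along open immersions preserves finite type (quasi-coherent case).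
* `isFiniteType_of_open_cover`: finite type is local for open covers (quasi-coherent case).
* `surjective_app_of_epi`: epimorphisms of quasi-coherent modules are surjective on sections over affine opens.
* `isFiniteType_of_epi`: quotients of finite type quasi-coherent modules are of finite type.
-/

set_option autoImplicit false
universe u
open CategoryTheory Limits AlgebraicGeometry TopologicalSpace Opposite

namespace Groth.Agent.Lib.Helper23.FinType

section FL1_0

open Groth.Agent.Lib.Helper23.QCohLocal Groth.Agent.Lib.Helper2.Push Groth.Agent.Lib.Helper2.QCoh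

variable {X Y : Scheme.{u}}

/-- finite type is invariant under isomorphisms -/
theorem isFiniteType_of_iso {M N : X.Modules} (e : M ≅ N)
    [hM : SheafOfModules.IsFiniteType (R := X.ringCatSheaf) M] :
    SheafOfModules.IsFiniteType (R := X.ringCatSheaf) N := by
  obtain ⟨σ, hσ⟩ := hM.exists_localGeneratorsData
  have hepi : ∀ i, Epi (SheafOfModules.Hom.over (R := X.ringCatSheaf) e.hom (σ.X i)) := fun i => by
    let Fo : X.Modules ⥤ SheafOfModules.{u} (X.ringCatSheaf.over (σ.X i)) :=
      SheafOfModules.overFunctor X.ringCatSheaf (σ.X i)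
    haveI : IsIso (Fo.map e.hom) := inferInstance
    exact inferInstanceAs (Epi (Fo.map e.hom))
  let τ : SheafOfModules.LocalGeneratorsData.{u} N :=
    { I := σ.I
      X := σ.X
      coversTop := σ.coversTop
      generators := fun i =>
        haveI := hepi i
        (σ.generators i).ofEpi (SheafOfModules.Hom.over e.hom (σ.X i)) }
  have hτ : τ.IsFiniteType :=
    { isFiniteType := fun i => by
        have := (hσ.isFiniteType i).finite
        exact ⟨this⟩ }
  exact { exists_localGeneratorsData := ⟨τ, hτ⟩ }

/-- sections of a restriction along an open immersion: finiteness transfers -/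
theorem finite_restrict_iff (j : Y ⟶ X) [IsOpenImmersion j] (M : X.Modules) (W : Y.Opens) :
    Module.Finite Γ(Y, W) Γ(M.restrict j, W) ↔ Module.Finite Γ(X, j ''ᵁ W) Γ(M, j ''ᵁ W) := by
  refine finite_iff_of_semilinear (j.appIso W).inv.hom ?_ (AddEquiv.refl _) (fun r x => ?_)
  · exact (ConcreteCategory.bijective_of_isIso (j.appIso W).inv).2
  · exact Scheme.Modules.smul_restrictAppIso_hom_apply j M W r x

end FL1_0

section FL1_1

open Groth.Agent.Lib.Helper23.QCohLocal Groth.Agent.Lib.Helper2.Push Groth.Agent.Lib.Helper2.QCoh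

variable {X Y : Scheme.{u}}

theorem exists_affine_le_of_isOpenCover {ι : Type*} (V : ι → X.Opens) (hV : IsOpenCover V) (x : X) :
    ∃ (W : X.affineOpens) (i : ι), W.1 ≤ V i ∧ x ∈ W.1 := by
  have hx : x ∈ (⨆ i, V i : X.Opens) := by rw [hV.iSup_eq_top]; trivial
  obtain ⟨i, hxi⟩ := Opens.mem_iSup.1 hx
  obtain ⟨W, hW, hxW, hWV⟩ := (Opens.isBasis_iff_nbhd.1 X.isBasis_affineOpens) hxi
  exact ⟨⟨W, hW⟩, i, hWV, hxW⟩

set_option backward.isDefEq.respectTransparency false in
/-- restriction to an affine open contained in `V`, in terms of the restriction to `V` -/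
noncomputable def restrictFromSpecIso (M : X.Modules) {W V : X.Opens} (hW : IsAffineOpen W) (h : W ≤ V) :
    (M.restrict V.ι).restrict (hW.isoSpec.inv ≫ X.homOfLE h) ≅ M.restrict hW.fromSpec :=
  ((Scheme.Modules.restrictFunctorComp (hW.isoSpec.inv ≫ X.homOfLE h) V.ι).app M).symm ≪≫
    (Scheme.Modules.restrictFunctorCongr (by simp [hW.isoSpec_inv_ι])).app M

set_option backward.isDefEq.respectTransparency false in
/-- quasi-coherence is local for open covers -/
theorem isQuasicoherent_of_open_cover (M : X.Modules) {ι : Type*} (V : ι → X.Opens) (hV : IsOpenCover V)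
    (h : ∀ i, (M.restrict (V i).ι).IsQuasicoherent) : M.IsQuasicoherent := by
  refine isQuasicoherent_of_affine_cover M (fun W : {W : X.affineOpens // ∃ i, W.1 ≤ V i} => W.1.1) ?_
    (fun W => W.1.2) (fun W => ?_)
  · rw [IsOpenCover, eq_top_iff]
    intro x _
    obtain ⟨W, i, hWV, hxW⟩ := exists_affine_le_of_isOpenCover V hV x
    exact Opens.mem_iSup.2 ⟨⟨W, i, hWV⟩, hxW⟩
  · obtain ⟨i, hi⟩ := W.2
    haveI := h i
    exact (SheafOfModules.isQuasicoherent (Spec Γ(X, W.1.1)).ringCatSheaf).prop_of_iso
      (restrictFromSpecIso M W.1.2 hi) inferInstance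

end FL1_1

section FL1_2

open Groth.Agent.Lib.Helper23.QCohLocal Groth.Agent.Lib.Helper2.Push Groth.Agent.Lib.Helper2.QCoh

variable {X Y : Scheme.{u}}

/-- restrictions of finite type quasi-coherent modules along open immersions are of finite type -/
theorem isFiniteType_restrict (j : Y ⟶ X) [IsOpenImmersion j] (M : X.Modules) [M.IsQuasicoherent]
    [SheafOfModules.IsFiniteType (R := X.ringCatSheaf) M] :
    SheafOfModules.IsFiniteType (R := Y.ringCatSheaf) (M.restrict j) := by
  rw [isFiniteType_iff_forall_affine]
  intro W hW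
  rw [finite_restrict_iff]
  exact finite_of_isFiniteType M (hW.image_of_isOpenImmersion j)

/-- finite type is local for open covers (for quasi-coherent modules) -/
theorem isFiniteType_of_open_cover (M : X.Modules) [M.IsQuasicoherent] {ι : Type*} (V : ι → X.Opens)
    (hV : IsOpenCover V)
    (h : ∀ i, SheafOfModules.IsFiniteType (R := (V i : Scheme.{u}).ringCatSheaf) (M.restrict (V i).ι)) :
    SheafOfModules.IsFiniteType (R := X.ringCatSheaf) M := by
  refine isFiniteType_of_finite M (fun W : {W : X.affineOpens // ∃ i, W.1 ≤ V i} => W.1.1) ?_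
    (fun W => W.1.2) (fun W => ?_)
  · rw [IsOpenCover, eq_top_iff]
    intro x _
    obtain ⟨W, i, hWV, hxW⟩ := exists_affine_le_of_isOpenCover V hV x
    exact Opens.mem_iSup.2 ⟨⟨W, i, hWV⟩, hxW⟩
  · obtain ⟨i, hi⟩ := W.2
    haveI := h i
    have hW' : IsAffineOpen ((V i).ι ⁻¹ᵁ W.1.1) :=
      W.1.2.preimage_of_isOpenImmersion (V i).ι (by rw [Scheme.Opens.opensRange_ι]; exact hi)
    have himg : (V i).ι ''ᵁ ((V i).ι ⁻¹ᵁ W.1.1) = W.1.1 := by
      rw [Scheme.Hom.image_preimage_eq_opensRange_inf, Scheme.Opens.opensRange_ι]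
      exact inf_eq_right.2 hi
    have h1 := finite_of_isFiniteType (M.restrict (V i).ι) hW'
    rw [finite_restrict_iff] at h1
    exact (finite_iff_of_eq M himg).1 h1

end FL1_2

section Epi

open Groth.Agent.Lib.Helper23.QCohLocal Groth.Agent.Lib.Helper23.ModLocal Groth.Agent.Lib.Helper23.AffVanish

variable {X : Scheme.{u}}

/-- an epimorphism of quasi-coherent modules is surjective on sections over affine opens -/
theorem surjective_app_of_epi {A B : X.Modules} [A.IsQuasicoherent] [B.IsQuasicoherent] (π : A ⟶ B) [Epi π]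
    {U : X.Opens} (hU : IsAffineOpen U) : Function.Surjective (π.app U) := by
  let S : ShortComplex X.Modules := ShortComplex.mk (kernel.ι π) π (kernel.condition π)
  have hS : S.ShortExact :=
    { exact := ShortComplex.exact_kernel π
      mono_f := inferInstanceAs (Mono (kernel.ι π))
      epi_g := inferInstanceAs (Epi π) }
  haveI : (kernel π).IsQuasicoherent := isQuasicoherent_kernel π
  exact surjective_app_of_subsingleton_HE S hS U (subsingleton_HE_of_isAffineOpen hU (kernel π) 0)

/-- quotients of finite type quasi-coherent modules are of finite type -/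
theorem isFiniteType_of_epi {A B : X.Modules} [A.IsQuasicoherent] [B.IsQuasicoherent] (π : A ⟶ B) [Epi π]
    [SheafOfModules.IsFiniteType (R := X.ringCatSheaf) A] :
    SheafOfModules.IsFiniteType (R := X.ringCatSheaf) B := by
  rw [isFiniteType_iff_forall_affine]
  intro U hU
  haveI : Module.Finite Γ(X, U) Γ(A, U) := finite_of_isFiniteType A hU
  let f : Γ(A, U) →ₗ[Γ(X, U)] Γ(B, U) :=
    { toFun := fun x => π.app U x
      map_add' := fun x y => map_add _ x y
      map_smul' := fun r x => Scheme.Modules.Hom.app_smul π r x }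
  exact Module.Finite.of_surjective f (surjective_app_of_epi π hU)

end Epi

end Groth.Agent.Lib.Helper23.FinType
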