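import Mathlib
import Groth.Agent.Lib.Helper23FinTypeLocal

/-!
# Extension of finite type quasi-coherent modules from quasi-compact opens of affine schemes (helper23)

* `exists_finset_res_eq`, `finite_of_isFiniteType_restrict`
* `injective_app_of_mono`, `app_map`
* `adjTilde R B c : N^~ ⟶ B` adjoint to `c : N ⟶ Γ(B)`, `mono_adjTilde`, `exists_section_adjTilde`
* `isIso_restrict_of_bijective_app`
* `exists_finite_mono_isIso_restrict` : `B` qcoh on `Spec R`, `B|Ω` of finite type on a quasi-compact open `Ω` ⇒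
  a finite submodule `N ⊆ Γ(B)` with `N^~|Ω ≅ B|Ω`.
-/

set_option autoImplicit false
universe u
open CategoryTheory Limits AlgebraicGeometry TopologicalSpace Opposite

namespace Groth.Agent.Lib.Helper23.Extend

open Groth.Agent.Lib.Helper23.QCohLocal Groth.Agent.Lib.Helper2.Push Groth.Agent.Lib.Helper2.QCoh
  Groth.Agent.Lib.Helper23.FinType Groth.Agent.Lib.Helper23.ModLocal


section EX1
variable {X : Scheme.{u}}

/-- if `Γ(M, D(f))` is finite over `Γ(X, D(f))`, there is a finite set `T` of sections over `U` such that every section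
over `D(f)`, multiplied by a power of `f`, is the restriction of an element of the span of `T`. -/
theorem exists_finset_res_eq {U : X.Opens} (hU : IsAffineOpen U) (M : X.Modules) (hM : IsLocOn M U)
    (f : Γ(X, U)) [hfin : Module.Finite Γ(X, X.basicOpen f) Γ(M, X.basicOpen f)] :
    ∃ T : Finset Γ(M, U), ∀ z : Γ(M, X.basicOpen f), ∃ (N : ℕ) (w : Γ(M, U)),
      w ∈ Submodule.span Γ(X, U) (T : Set Γ(M, U)) ∧
      M.presheaf.map (homOfLE (X.basicOpen_le f)).op w =
        (X.presheaf.map (homOfLE (X.basicOpen_le f)).op f) ^ N • z := by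
  classical
  obtain ⟨S, hS⟩ := hfin.fg_top
  have hloc := hU.isLocalization_basicOpen f
  set i : X.basicOpen f ⟶ U := homOfLE (X.basicOpen_le f) with hi
  set fD : Γ(X, X.basicOpen f) := X.presheaf.map i.op f with hfD
  choose n t ht using fun y : Γ(M, X.basicOpen f) => hM.exists_extension f y
  let T : Finset Γ(M, U) := S.image t
  refine ⟨T, fun z => ?_⟩
  have hz : z ∈ Submodule.span Γ(X, X.basicOpen f) (S : Set Γ(M, X.basicOpen f)) := by rw [hS]; trivial
  induction hz using Submodule.span_induction with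
  | mem y hy =>
    exact ⟨n y, t y, Submodule.subset_span (Finset.mem_image_of_mem t hy), ht y⟩
  | zero => exact ⟨0, 0, Submodule.zero_mem _, by simp⟩
  | add z₁ z₂ _ _ h₁ h₂ =>
    obtain ⟨N₁, w₁, hw₁, e₁⟩ := h₁
    obtain ⟨N₂, w₂, hw₂, e₂⟩ := h₂
    refine ⟨N₁ + N₂, f ^ N₂ • w₁ + f ^ N₁ • w₂,
      Submodule.add_mem _ (Submodule.smul_mem _ _ hw₁) (Submodule.smul_mem _ _ hw₂), ?_⟩
    rw [map_add, Scheme.Modules.map_smul, Scheme.Modules.map_smul, e₁, e₂, map_pow, map_pow, smul_add,
      smul_smul, smul_smul, ← pow_add, ← pow_add, add_comm N₂ N₁]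
  | smul a z _ h =>
    obtain ⟨N, w, hw, e⟩ := h
    obtain ⟨k, r, hr⟩ := IsLocalization.Away.surj (x := f) a
    refine ⟨N + k, r • w, Submodule.smul_mem _ _ hw, ?_⟩
    have hr' : a * fD ^ k = X.presheaf.map i.op r := hr
    rw [Scheme.Modules.map_smul, e, ← hr', smul_smul, smul_smul]
    congr 1
    rw [pow_add]; ring

/-- sections over an affine open `W ≤ V` of a quasi-coherent module whose restriction to `V` is of finite type -/
theorem finite_of_isFiniteType_restrict (M : X.Modules) [M.IsQuasicoherent] (V : X.Opens)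
    [SheafOfModules.IsFiniteType (R := (V : Scheme.{u}).ringCatSheaf) (M.restrict V.ι)] {W : X.Opens}
    (hW : IsAffineOpen W) (hWV : W ≤ V) : Module.Finite Γ(X, W) Γ(M, W) := by
  have hW' : IsAffineOpen (V.ι ⁻¹ᵁ W) :=
    hW.preimage_of_isOpenImmersion V.ι (by rw [Scheme.Opens.opensRange_ι]; exact hWV)
  have himg : V.ι ''ᵁ (V.ι ⁻¹ᵁ W) = W := by
    rw [Scheme.Hom.image_preimage_eq_opensRange_inf, Scheme.Opens.opensRange_ι]
    exact inf_eq_right.2 hWV
  have h1 := finite_of_isFiniteType (M.restrict V.ι) hW'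
  rw [finite_restrict_iff] at h1
  exact (finite_iff_of_eq M himg).1 h1

end EX1

section EX2
variable {X : Scheme.{u}}

/-- monomorphisms of modules are injective on sections -/
theorem injective_app_of_mono {A B : X.Modules} (m : A ⟶ B) [Mono m] (W : X.Opens) :
    Function.Injective (m.app W) := by
  have : Mono ((Scheme.Modules.toPresheaf X).map m) := inferInstance
  have : Mono (((Scheme.Modules.toPresheaf X).map m).app (op W)) := inferInstance
  exact (AddCommGrpCat.mono_iff_injective _).1 this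

/-- naturality of a morphism of modules with respect to restriction of sections -/
theorem app_map {A B : X.Modules} (m : A ⟶ B) {W W' : X.Opens} (i : W' ⟶ W) (s : Γ(A, W)) :
    m.app W' (A.presheaf.map i.op s) = B.presheaf.map i.op (m.app W s) := by
  have := m.mapPresheaf.naturality i.op
  exact congrArg (fun φ => φ s) this

end EX2

section EX3
variable (R : CommRingCat.{u})

/-- the morphism `N^~ ⟶ B` adjoint to a linear map `c : N ⟶ Γ(B)` -/
noncomputable def adjTilde (B : (Spec R).Modules) {N : ModuleCat.{u} R} (c : N ⟶ (ΓF R).obj B) :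
    (tilde.functor R).obj N ⟶ B :=
  ((tildeΓAdj R).homEquiv N B).symm c

theorem unit_adjTilde (B : (Spec R).Modules) {N : ModuleCat.{u} R} (c : N ⟶ (ΓF R).obj B) :
    (tildeΓAdj R).unit.app N ≫ (ΓF R).map (adjTilde R B c) = c :=
  ((tildeΓAdj R).homEquiv_unit (f := adjTilde R B c)).symm.trans (Equiv.apply_symm_apply _ _)

/-- every element in the image of `c` is the image of a global section of `N^~` -/
theorem exists_section_adjTilde (B : (Spec R).Modules) {N : ModuleCat.{u} R} (c : N ⟶ (ΓF R).obj B) (n : N) :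
    ∃ σ : Γ((tilde.functor R).obj N, ⊤), (adjTilde R B c).app ⊤ σ = c.hom n := by
  refine ⟨((tildeΓAdj R).unit.app N).hom n, ?_⟩
  have h := congrArg (fun φ => φ.hom n) (unit_adjTilde R B c)
  exact h

theorem mono_adjTilde (B : (Spec R).Modules) [B.IsQuasicoherent] {N : ModuleCat.{u} R}
    (c : N ⟶ (ΓF R).obj B) [Mono c] : Mono (adjTilde R B c) := by
  have := (Groth.Agent.S9498.aux R).1
  have h : adjTilde R B c = (tilde.functor R).map c ≫ (tildeΓAdj R).counit.app B :=
    Adjunction.homEquiv_counit (tildeΓAdj R) N B c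
  have : Mono ((tilde.functor R).map c) := inferInstance
  have : IsIso ((tildeΓAdj R).counit.app B) := isIso_fromTildeΓ B
  rw [h]
  exact mono_comp _ _

/-- a finite submodule containing a given finite set, as an object with a monomorphism -/
theorem exists_finite_mono_of_finset (L : ModuleCat.{u} R) (T : Finset L) :
    ∃ (N : ModuleCat.{u} R) (_ : Module.Finite R N) (c : N ⟶ L), Mono c ∧
      ∀ w ∈ Submodule.span R (T : Set L), ∃ n : N, c.hom n = w := by
  refine ⟨ModuleCat.of R (Submodule.span R (T : Set L)), ?_, ModuleCat.ofHom (Submodule.subtype _), ?_, ?_⟩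
  · exact Module.Finite.span_finset R T
  · exact (ModuleCat.mono_iff_injective _).2 (Submodule.subtype_injective _)
  · intro w hw
    exact ⟨⟨w, hw⟩, rfl⟩

end EX3

section EX4
section gen
variable {X : Scheme.{u}}

theorem bijective_app_of_eq {A B : X.Modules} (m : A ⟶ B) {W W' : X.Opens} (h : W = W')
    (hb : Function.Bijective (m.app W)) : Function.Bijective (m.app W') := by
  subst h; exact hb

/-- a morphism of quasi-coherent modules, bijective on the sections over a family of affine opens covering `Ω`,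
restricts to an isomorphism over `Ω`. -/
theorem isIso_restrict_of_bijective_app {A B : X.Modules} [A.IsQuasicoherent] [B.IsQuasicoherent] (m : A ⟶ B)
    (Ω : X.Opens) {κ : Type*} (D : κ → X.Opens) (hD : ∀ k, IsAffineOpen (D k)) (hle : ∀ k, D k ≤ Ω)
    (hcov : Ω ≤ ⨆ k, D k) (hb : ∀ k, Function.Bijective (m.app (D k))) :
    IsIso ((Scheme.Modules.restrictFunctor Ω.ι).map m) := by
  have hVa : ∀ k, IsAffineOpen (Ω.ι ⁻¹ᵁ D k) := fun k =>
    (hD k).preimage_of_isOpenImmersion Ω.ι (by rw [Scheme.Opens.opensRange_ι]; exact hle k)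
  have himg : ∀ k, Ω.ι ''ᵁ (Ω.ι ⁻¹ᵁ D k) = D k := fun k => by
    rw [Scheme.Hom.image_preimage_eq_opensRange_inf, Scheme.Opens.opensRange_ι]
    exact inf_eq_right.2 (hle k)
  have hV : IsOpenCover (fun k => Ω.ι ⁻¹ᵁ D k) := by
    rw [IsOpenCover, eq_top_iff]
    intro x _
    have hx : (Ω.ι x) ∈ ⨆ k, D k := hcov x.2
    rw [Opens.mem_iSup] at hx
    obtain ⟨k, hk⟩ := hx
    exact Opens.mem_iSup.2 ⟨k, hk⟩
  refine isIso_of_bijective_ΓU _ (fun k => Ω.ι ⁻¹ᵁ D k) hV hVa (fun k => ?_)
  have h₁ : (hVa k).fromSpec ''ᵁ ⊤ = Ω.ι ⁻¹ᵁ D k := by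
    rw [Scheme.Hom.image_top_eq_opensRange, (hVa k).opensRange_fromSpec]
  have h₂ : Ω.ι ''ᵁ ((hVa k).fromSpec ''ᵁ ⊤) = D k := by rw [h₁, himg]
  exact bijective_app_of_eq m h₂.symm (hb k)

end gen

section spec
variable (R : CommRingCat.{u})

theorem surjective_algebraMap_top : Function.Surjective (algebraMap R Γ(Spec R, ⊤)) := by
  rw [IsAffineOpen.algebraMap_Spec_obj]
  have : IsIso ((Scheme.ΓSpecIso R).inv ≫ (Spec R).presheaf.map (homOfLE (le_top : (⊤ : (Spec R).Opens) ≤ ⊤)).op) := by
    have : (homOfLE (le_top : (⊤ : (Spec R).Opens) ≤ ⊤)) = 𝟙 _ := rfl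
    rw [this]; simp only [op_id, CategoryTheory.Functor.map_id, Category.comp_id]; infer_instance
  exact ((ConcreteCategory.isIso_iff_bijective _).1 this).2

/-- key surjectivity: if every section of `B` over `D(f)` becomes, after multiplication by a power of `f`, the restriction
of an element in the image of `c`, then `adjTilde R B c` is surjective on sections over `D(f)` -/
theorem surjective_app_adjTilde (B : (Spec R).Modules) {N : ModuleCat.{u} R} (c : N ⟶ (ΓF R).obj B)
    (f : Γ(Spec R, ⊤))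
    (h : ∀ z : Γ(B, (Spec R).basicOpen f), ∃ (k : ℕ) (n : N),
      B.presheaf.map (homOfLE ((Spec R).basicOpen_le f)).op (c.hom n) =
        ((Spec R).presheaf.map (homOfLE ((Spec R).basicOpen_le f)).op f) ^ k • z) :
    Function.Surjective ((adjTilde R B c).app ((Spec R).basicOpen f)) := by
  intro z
  obtain ⟨k, n, hn⟩ := h z
  obtain ⟨σ, hσ⟩ := exists_section_adjTilde R B c n
  set i : (Spec R).basicOpen f ⟶ ⊤ := homOfLE ((Spec R).basicOpen_le f) with hi
  have hu : IsUnit ((Spec R).presheaf.map i.op f) := (Spec R).toRingedSpace.isUnit_res_basicOpen f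
  obtain ⟨u, hu⟩ := hu
  refine ⟨(↑(u⁻¹ ^ k) : Γ(Spec R, (Spec R).basicOpen f)) • ((tilde.functor R).obj N).presheaf.map i.op σ, ?_⟩
  rw [Scheme.Modules.Hom.app_smul, app_map, hσ, hn, ← hu, smul_smul, ← Units.val_pow_eq_pow_val, ← Units.val_mul]
  simp

/-- **Extension from a quasi-compact open of an affine scheme**: if `B` is quasi-coherent on `Spec R` and its restriction
to a quasi-compact open `Ω` is of finite type, there is a finite submodule `N` of `Γ(B)` such that `N^~ ⟶ B` is a
monomorphism restricting to an isomorphism on `Ω`. -/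
theorem exists_finite_mono_isIso_restrict (B : (Spec R).Modules) [B.IsQuasicoherent] (Ω : (Spec R).Opens)
    (hΩ : IsCompact (Ω : Set (Spec R)))
    [SheafOfModules.IsFiniteType (R := (Ω : Scheme.{u}).ringCatSheaf) (B.restrict Ω.ι)] :
    ∃ (N : ModuleCat.{u} R) (_ : Module.Finite R N) (c : N ⟶ (ΓF R).obj B), Mono c ∧
      IsIso ((Scheme.Modules.restrictFunctor Ω.ι).map (adjTilde R B c)) := by
  classical
  obtain ⟨κ, hκ, a, hΩeq⟩ := (isBasis_basicOpen (Spec R)).exists_iSup_eq_of_isCompact Ω hΩ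
  have : Fintype κ := Fintype.ofFinite κ
  have hle : ∀ k, (Spec R).basicOpen (a k) ≤ Ω := fun k => by
    rw [hΩeq]; exact le_iSup (fun k => (Spec R).basicOpen (a k)) k
  have hD : ∀ k, IsAffineOpen ((Spec R).basicOpen (a k)) := fun k => (isAffineOpen_top (Spec R)).basicOpen (a k)
  have hfin : ∀ k, Module.Finite Γ(Spec R, (Spec R).basicOpen (a k)) Γ(B, (Spec R).basicOpen (a k)) := fun k =>
    finite_of_isFiniteType_restrict B Ω (hD k) (hle k)
  have hloc : IsLocOn B ⊤ := IsLocOn.of_isQuasicoherent (isAffineOpen_top (Spec R)) B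
  choose T hT using fun k => exists_finset_res_eq (isAffineOpen_top (Spec R)) B hloc (a k)
  let T₀ : Finset Γ(B, ⊤) := Finset.univ.biUnion T
  obtain ⟨N, hN, c, hc, hcT⟩ := exists_finite_mono_of_finset R ((ΓF R).obj B) T₀
  refine ⟨N, hN, c, hc, ?_⟩
  have := hc
  have : Mono (adjTilde R B c) := mono_adjTilde R B c
  refine isIso_restrict_of_bijective_app (adjTilde R B c) Ω (fun k => (Spec R).basicOpen (a k)) hD hle
    (by rw [hΩeq]) (fun k => ⟨injective_app_of_mono _ _, ?_⟩)
  refine surjective_app_adjTilde R B c (a k) (fun z => ?_)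
  obtain ⟨n, w, hw, hwz⟩ := hT k z
  have hw' : w ∈ Submodule.span R (T₀ : Set Γ(B, ⊤)) := by
    have h1 : w ∈ Submodule.span Γ(Spec R, ⊤) (T₀ : Set Γ(B, ⊤)) :=
      Submodule.span_mono (by
        intro x hx
        exact Finset.mem_biUnion.2 ⟨k, Finset.mem_univ k, hx⟩) hw
    have h2 := Submodule.coe_span_eq_span_of_surjective R Γ(Spec R, ⊤) (surjective_algebraMap_top R)
      (T₀ : Set Γ(B, ⊤))
    have h3 : w ∈ (Submodule.span Γ(Spec R, ⊤) (T₀ : Set Γ(B, ⊤)) : Set Γ(B, ⊤)) := h1
    rw [h2] at h3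
    exact h3
  obtain ⟨n', hn'⟩ := hcT w hw'
  exact ⟨n, n', by rw [hn']; exact hwz⟩

end spec

end EX4

end Groth.Agent.Lib.Helper23.Extend
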