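import Mathlib
import Groth.Agent.Lib.Helper23QCohAbelian

/-!
# Extending quasi-coherent modules along quasi-compact open immersions (helper23)

* `exists_extension`: for a quasi-compact open immersion `j : Y ⟶ X`, `F` quasi-coherent on `X`, `G` quasi-coherent on
  `Y` and `φ : G ⟶ F.restrict j`, there is a quasi-coherent `H` on `X` with `ψ : H ⟶ F` and `e : H.restrict j ≅ G` such
  that `e.hom ≫ φ = j^* ψ` (`H = F ×_{j_* j^* F} j_* G`).
-/

set_option autoImplicit false
universe u
open CategoryTheory CategoryTheory.Limits AlgebraicGeometry TopologicalSpace Opposite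

namespace Groth.Agent.Lib.Helper23.QCohLocal

attribute [local instance] restrictFunctor_isRightAdjoint

/-- extension of a quasi-coherent module with a map to a restriction, along a quasi-compact quasi-separated open
immersion -/
theorem exists_extension {X Y : Scheme.{u}} (j : Y ⟶ X) [IsOpenImmersion j] [QuasiCompact j]
    (F : X.Modules) [F.IsQuasicoherent] (G : Y.Modules) [G.IsQuasicoherent] (φ : G ⟶ F.restrict j) :
    ∃ (H : X.Modules) (ψ : H ⟶ F) (e : H.restrict j ≅ G), H.IsQuasicoherent ∧
      e.hom ≫ φ = (Scheme.Modules.restrictFunctor j).map ψ := by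
  let adj := Scheme.Modules.restrictAdjunction j
  let Rj := Scheme.Modules.restrictFunctor j
  let Pj := Scheme.Modules.pushforward j
  let η : F ⟶ Pj.obj (Rj.obj F) := adj.unit.app F
  haveI : (Pj.obj (Rj.obj F)).IsQuasicoherent := isQuasicoherent_pushforward j (Rj.obj F)
  haveI : (Pj.obj G).IsQuasicoherent := isQuasicoherent_pushforward j G
  have hpb : IsPullback (pullback.fst η (Pj.map φ)) (pullback.snd η (Pj.map φ)) η (Pj.map φ) :=
    IsPullback.of_hasPullback _ _
  have hpb' := hpb.map Rj
  have htri : Rj.map η ≫ adj.counit.app (Rj.obj F) = 𝟙 _ := adj.left_triangle_components F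
  haveI : IsIso (adj.counit.app (Rj.obj F)) := inferInstance
  haveI : IsIso (Rj.map η) := by
    have : Rj.map η = inv (adj.counit.app (Rj.obj F)) := IsIso.eq_inv_of_inv_hom_id htri
    rw [this]; infer_instance
  haveI : IsIso (Rj.map (pullback.snd η (Pj.map φ))) := hpb'.isIso_snd_of_isIso
  haveI : IsIso (adj.counit.app G) := inferInstance
  let e : Rj.obj (pullback η (Pj.map φ)) ≅ G :=
    asIso (Rj.map (pullback.snd η (Pj.map φ))) ≪≫ asIso (adj.counit.app G)
  refine ⟨pullback η (Pj.map φ), pullback.fst η (Pj.map φ), e, isQuasicoherent_pullback _ _, ?_⟩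
  have hnat : Rj.map (Pj.map φ) ≫ adj.counit.app (Rj.obj F) = adj.counit.app G ≫ φ :=
    adj.counit.naturality φ
  have hw : Rj.map (pullback.fst η (Pj.map φ)) ≫ Rj.map η =
      Rj.map (pullback.snd η (Pj.map φ)) ≫ Rj.map (Pj.map φ) := hpb'.w
  calc e.hom ≫ φ = Rj.map (pullback.snd η (Pj.map φ)) ≫ adj.counit.app G ≫ φ := by
        simp [e]
    _ = Rj.map (pullback.snd η (Pj.map φ)) ≫ Rj.map (Pj.map φ) ≫ adj.counit.app (Rj.obj F) := by
        rw [hnat]
    _ = Rj.map (pullback.fst η (Pj.map φ)) ≫ Rj.map η ≫ adj.counit.app (Rj.obj F) := by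
        rw [← Category.assoc, ← hw, Category.assoc]
    _ = Rj.map (pullback.fst η (Pj.map φ)) := by rw [htri, Category.comp_id]

end Groth.Agent.Lib.Helper23.QCohLocal
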