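import Mathlib
import Groth.Agent.Lib.Helper23Extend
import Groth.Agent.Lib.Helper23FinType2
import Groth.Agent.Lib.Helper23QCohExtend

/-!
# Extension of finite type quasi-coherent submodules on qcqs schemes (helper23)

* `FTOn M W`, `IsoOn m W` (finite type / isomorphism on an open, expressed on sections)
* `isIso_restrict_iff`, `ftOn_of_isFiniteType_restrict`, `isFiniteType_restrict_of_ftOn`, `FTOn.sup`, `FTOn.of_isoOn`
* `exists_extension'` : `F ×_{j_* j^* F} j_* G` with monomorphism / local isomorphism properties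
* `exists_sub_ftOn_sup` (one affine step), `exists_sub_isFiniteType` (EGA I 9.4.7-type statement)
-/

set_option autoImplicit false
universe u
open CategoryTheory Limits AlgebraicGeometry TopologicalSpace Opposite

namespace Groth.Agent.Lib.Helper23.Extend

open Groth.Agent.Lib.Helper23.QCohLocal Groth.Agent.Lib.Helper2.Push Groth.Agent.Lib.Helper2.QCoh
  Groth.Agent.Lib.Helper23.FinType Groth.Agent.Lib.Helper23.ModLocal


section EX5
variable {X : Scheme.{u}}

/-- `M` is of finite type on the open `W`: sections over affine opens inside `W` are finite modules -/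
def FTOn (M : X.Modules) (W : X.Opens) : Prop :=
  ∀ W' : X.Opens, IsAffineOpen W' → W' ≤ W → Module.Finite Γ(X, W') Γ(M, W')

/-- `m` is an isomorphism on the open `W` -/
def IsoOn {A B : X.Modules} (m : A ⟶ B) (W : X.Opens) : Prop :=
  ∀ W' : X.Opens, W' ≤ W → IsIso (m.app W')

theorem IsoOn.mono {A B : X.Modules} {m : A ⟶ B} {W W₁ : X.Opens} (h : IsoOn m W) (hle : W₁ ≤ W) : IsoOn m W₁ :=
  fun W' hW' => h W' (hW'.trans hle)

theorem IsoOn.comp {A B C : X.Modules} {m : A ⟶ B} {n : B ⟶ C} {W : X.Opens} (h : IsoOn m W) (h' : IsoOn n W) :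
    IsoOn (m ≫ n) W := fun W' hW' => by
  have := h W' hW'
  have := h' W' hW'
  rw [Scheme.Modules.Hom.comp_app]
  infer_instance

theorem isoOn_id (A : X.Modules) (W : X.Opens) : IsoOn (𝟙 A) W := fun W' _ => by
  rw [Scheme.Modules.Hom.id_app]; infer_instance

theorem FTOn.mono {M : X.Modules} {W W₁ : X.Opens} (h : FTOn M W) (hle : W₁ ≤ W) : FTOn M W₁ :=
  fun W' hW' hW'le => h W' hW' (hW'le.trans hle)

theorem isIso_app_of_eq {A B : X.Modules} (m : A ⟶ B) {W W' : X.Opens} (h : W = W')
    (hb : IsIso (m.app W)) : IsIso (m.app W') := by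
  subst h; exact hb

theorem isIso_restrict_iff {Z : Scheme.{u}} (k : Z ⟶ X) [IsOpenImmersion k] {A B : X.Modules} (m : A ⟶ B) :
    IsIso ((Scheme.Modules.restrictFunctor k).map m) ↔ IsoOn m k.opensRange := by
  rw [Scheme.Modules.Hom.isIso_iff_isIso_app]
  constructor
  · intro h W' hW'
    have h1 : k ''ᵁ (k ⁻¹ᵁ W') = W' := by
      rw [Scheme.Hom.image_preimage_eq_opensRange_inf]
      exact inf_eq_right.2 hW'
    exact isIso_app_of_eq m h1 (h (k ⁻¹ᵁ W'))
  · intro h U
    exact h (k ''ᵁ U) (Scheme.Hom.image_le_opensRange k U)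

theorem ftOn_of_isFiniteType_restrict {Z : Scheme.{u}} (k : Z ⟶ X) [IsOpenImmersion k] (M : X.Modules)
    [M.IsQuasicoherent] [SheafOfModules.IsFiniteType (R := Z.ringCatSheaf) (M.restrict k)] :
    FTOn M k.opensRange := by
  intro W hW hWV
  have hW' : IsAffineOpen (k ⁻¹ᵁ W) := hW.preimage_of_isOpenImmersion k hWV
  have himg : k ''ᵁ (k ⁻¹ᵁ W) = W := by
    rw [Scheme.Hom.image_preimage_eq_opensRange_inf]
    exact inf_eq_right.2 hWV
  have h1 := finite_of_isFiniteType (M.restrict k) hW'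
  rw [finite_restrict_iff] at h1
  exact (finite_iff_of_eq M himg).1 h1

theorem isFiniteType_restrict_of_ftOn {Z : Scheme.{u}} (k : Z ⟶ X) [IsOpenImmersion k] (M : X.Modules)
    [M.IsQuasicoherent] {U : X.Opens} (h : FTOn M U) (hk : k.opensRange ≤ U) :
    SheafOfModules.IsFiniteType (R := Z.ringCatSheaf) (M.restrict k) := by
  refine isFiniteType_of_finite (M.restrict k) (fun V : Z.affineOpens => (V : Z.Opens)) (iSup_affineOpens_eq_top Z)
      (fun V => V.2) (fun V => ?_)
  rw [finite_restrict_iff]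
  exact h _ (V.2.image_of_isOpenImmersion k) ((Scheme.Hom.image_le_opensRange k _).trans hk)

theorem isFiniteType_of_ftOn_top (M : X.Modules) [M.IsQuasicoherent] (h : FTOn M ⊤) :
    SheafOfModules.IsFiniteType (R := X.ringCatSheaf) M :=
  (isFiniteType_iff_forall_affine M).2 fun U hU => h U hU le_top

theorem FTOn.sup {M : X.Modules} [M.IsQuasicoherent] {U V : X.Opens} (hU : FTOn M U) (hV : FTOn M V) :
    FTOn M (U ⊔ V) := by
  intro W hW hWle
  have hM : IsLocOn M W := IsLocOn.of_isQuasicoherent hW M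
  let s : Set Γ(X, W) := {f | X.basicOpen f ≤ U ∨ X.basicOpen f ≤ V}
  have hs : Ideal.span s = ⊤ := by
    rw [← hW.self_le_iSup_basicOpen_iff]
    intro x hx
    have hx' : x ∈ U ⊔ V := hWle hx
    rcases hx' with hxU | hxV
    · obtain ⟨f, hf, hxf⟩ := hW.exists_basicOpen_le (V := U) ⟨x, hxU⟩ hx
      exact Opens.mem_iSup.2 ⟨⟨f, Or.inl hf⟩, hxf⟩
    · obtain ⟨f, hf, hxf⟩ := hW.exists_basicOpen_le (V := V) ⟨x, hxV⟩ hx
      exact Opens.mem_iSup.2 ⟨⟨f, Or.inr hf⟩, hxf⟩
  refine finite_of_basicOpen_cover hW M hM s hs (fun f hf => ?_)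
  rcases hf with hf | hf
  · exact hU _ (hW.basicOpen f) hf
  · exact hV _ (hW.basicOpen f) hf

theorem FTOn.of_isoOn {A B : X.Modules} (m : A ⟶ B) {U : X.Opens} (hm : IsoOn m U) (hB : FTOn B U) : FTOn A U := by
  intro W hW hWle
  have := hB W hW hWle
  have := hm W hWle
  have hbij : Function.Bijective (m.app W) := ConcreteCategory.bijective_of_isIso (m.app W)
  let e : Γ(A, W) ≃ₗ[Γ(X, W)] Γ(B, W) :=
    LinearEquiv.ofBijective
      { toFun := fun x => m.app W x
        map_add' := fun x y => map_add _ x y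
        map_smul' := fun r x => Scheme.Modules.Hom.app_smul m r x } hbij
  exact Module.Finite.equiv e.symm

end EX5

section EX6
attribute [local instance] restrictFunctor_isRightAdjoint

/-- extension of a quasi-coherent module with a map to a restriction, along a quasi-compact open immersion, with
extra properties of the extension -/
theorem exists_extension' {X Y : Scheme.{u}} (j : Y ⟶ X) [IsOpenImmersion j] [QuasiCompact j]
    (F : X.Modules) [F.IsQuasicoherent] (G : Y.Modules) [G.IsQuasicoherent] (φ : G ⟶ F.restrict j) :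
    ∃ (H : X.Modules) (ψ : H ⟶ F) (e : H.restrict j ≅ G), H.IsQuasicoherent ∧
      e.hom ≫ φ = (Scheme.Modules.restrictFunctor j).map ψ ∧ (Mono φ → Mono ψ) ∧
      ∀ (U : X.Opens), IsoOn ((Scheme.Modules.pushforward j).map φ) U → IsoOn ψ U := by
  let adj := Scheme.Modules.restrictAdjunction j
  let Rj := Scheme.Modules.restrictFunctor j
  let Pj := Scheme.Modules.pushforward j
  let η : F ⟶ Pj.obj (Rj.obj F) := adj.unit.app F
  have : (Pj.obj (Rj.obj F)).IsQuasicoherent := isQuasicoherent_pushforward j (Rj.obj F)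
  have : (Pj.obj G).IsQuasicoherent := isQuasicoherent_pushforward j G
  have hpb : IsPullback (pullback.fst η (Pj.map φ)) (pullback.snd η (Pj.map φ)) η (Pj.map φ) :=
    IsPullback.of_hasPullback _ _
  have hpb' := hpb.map Rj
  have htri : Rj.map η ≫ adj.counit.app (Rj.obj F) = 𝟙 _ := adj.left_triangle_components F
  have : IsIso (adj.counit.app (Rj.obj F)) := inferInstance
  have : IsIso (Rj.map η) := by
    have : Rj.map η = inv (adj.counit.app (Rj.obj F)) := IsIso.eq_inv_of_inv_hom_id htri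
    rw [this]; infer_instance
  have : IsIso (Rj.map (pullback.snd η (Pj.map φ))) := hpb'.isIso_snd_of_isIso
  have : IsIso (adj.counit.app G) := inferInstance
  let e : Rj.obj (pullback η (Pj.map φ)) ≅ G :=
    asIso (Rj.map (pullback.snd η (Pj.map φ))) ≪≫ asIso (adj.counit.app G)
  refine ⟨pullback η (Pj.map φ), pullback.fst η (Pj.map φ), e, isQuasicoherent_pullback _ _, ?_, ?_, ?_⟩
  · have hnat : Rj.map (Pj.map φ) ≫ adj.counit.app (Rj.obj F) = adj.counit.app G ≫ φ :=
      adj.counit.naturality φ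
    have hw : Rj.map (pullback.fst η (Pj.map φ)) ≫ Rj.map η =
        Rj.map (pullback.snd η (Pj.map φ)) ≫ Rj.map (Pj.map φ) := hpb'.w
    calc e.hom ≫ φ = Rj.map (pullback.snd η (Pj.map φ)) ≫ adj.counit.app G ≫ φ := by
          simp [e]
      _ = Rj.map (pullback.snd η (Pj.map φ)) ≫ Rj.map (Pj.map φ) ≫ adj.counit.app (Rj.obj F) := by
          rw [hnat]
      _ = Rj.map (pullback.fst η (Pj.map φ)) ≫ Rj.map η ≫ adj.counit.app (Rj.obj F) := by
          rw [← Category.assoc, ← hw, Category.assoc]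
      _ = Rj.map (pullback.fst η (Pj.map φ)) := by rw [htri, Category.comp_id]
  · intro hφ
    have : Mono (Pj.map φ) := inferInstance
    infer_instance
  · intro U hU
    let RU := Scheme.Modules.restrictFunctor U.ι
    have hpbU := hpb.map RU
    have : IsIso (RU.map (Pj.map φ)) := by
      rw [isIso_restrict_iff, Scheme.Opens.opensRange_ι]; exact hU
    have : IsIso (RU.map (pullback.fst η (Pj.map φ))) := hpbU.isIso_fst_of_isIso
    rw [isIso_restrict_iff, Scheme.Opens.opensRange_ι] at this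
    exact this

end EX6

section EX7
variable {X : Scheme.{u}}

/-- one step of the extension: enlarge the open on which a quasi-coherent module is of finite type by an affine open,
passing to a submodule which is unchanged on the original open. -/
theorem exists_sub_ftOn_sup [QuasiSeparatedSpace X] (H : X.Modules) [H.IsQuasicoherent] (U V : X.Opens)
    (hV : IsAffineOpen V) (hUV : IsCompact ((U : Set X) ∩ (V : Set X))) (hH : FTOn H U) :
    ∃ (F : X.Modules) (ψ : F ⟶ H), Mono ψ ∧ F.IsQuasicoherent ∧ FTOn F (U ⊔ V) ∧ IsoOn ψ U := by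
  let R : CommRingCat.{u} := Γ(X, V)
  let h : Spec R ⟶ X := hV.fromSpec
  have : QuasiCompact h := quasiCompact_of_compactSpace h
  let Ω : (Spec R).Opens := h ⁻¹ᵁ U
  have hΩ : IsCompact (Ω : Set (Spec R)) := by
    rw [h.isOpenEmbedding.isInducing.isCompact_iff]
    have : (h '' (Ω : Set (Spec R))) = (U : Set X) ∩ (V : Set X) := by
      change h '' (h ⁻¹' (U : Set X)) = _
      rw [Set.image_preimage_eq_inter_range, hV.range_fromSpec]
    rw [this]; exact hUV
  let B : (Spec R).Modules := H.restrict h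
  have hrange : (Ω.ι ≫ h).opensRange ≤ U := by
    rintro _ ⟨y, rfl⟩
    exact y.2
  have : SheafOfModules.IsFiniteType (R := (Ω : Scheme.{u}).ringCatSheaf) (H.restrict (Ω.ι ≫ h)) :=
    isFiniteType_restrict_of_ftOn (Ω.ι ≫ h) H hH hrange
  have : SheafOfModules.IsFiniteType (R := (Ω : Scheme.{u}).ringCatSheaf) (B.restrict Ω.ι) :=
    isFiniteType_of_iso ((Scheme.Modules.restrictFunctorComp Ω.ι h).app H)
  obtain ⟨N, hN, c, hc, hiso⟩ := exists_finite_mono_isIso_restrict R B Ω hΩ
  have := hc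
  have : Mono (adjTilde R B c) := mono_adjTilde R B c
  have : ((tilde.functor R).obj N).IsQuasicoherent := inferInstanceAs (tilde N).IsQuasicoherent
  obtain ⟨F, ψ, e, hFq, -, hmono, hisoOn⟩ := exists_extension' h H ((tilde.functor R).obj N) (adjTilde R B c)
  have := hFq
  have hψU : IsoOn ψ U := by
    refine hisoOn U (fun W' hW' => ?_)
    have h1 := (isIso_restrict_iff Ω.ι (adjTilde R B c)).1 hiso
    rw [Scheme.Opens.opensRange_ι] at h1
    exact h1 (h ⁻¹ᵁ W') (h.preimage_mono hW')
  refine ⟨F, ψ, hmono inferInstance, hFq, FTOn.sup (FTOn.of_isoOn ψ hψU hH) ?_, hψU⟩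
  have : SheafOfModules.IsFiniteType (R := (Spec R).ringCatSheaf) ((tilde.functor R).obj N) :=
    (isFiniteType_tilde_iff R N).2 hN
  have : SheafOfModules.IsFiniteType (R := (Spec R).ringCatSheaf) (F.restrict h) := isFiniteType_of_iso e.symm
  have := ftOn_of_isFiniteType_restrict h F
  rw [hV.opensRange_fromSpec] at this
  exact this

/-- **Extension of finite type quasi-coherent submodules**: on a qcqs scheme, if `H` is quasi-coherent and of finite type
on a quasi-compact open `U`, then `H` has a quasi-coherent submodule of finite type which agrees with `H` on `U`. -/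
theorem exists_sub_isFiniteType [CompactSpace X] [QuasiSeparatedSpace X] (H : X.Modules) [H.IsQuasicoherent]
    (U : X.Opens) (hU : IsCompact (U : Set X)) (hH : FTOn H U) :
    ∃ (F : X.Modules) (ψ : F ⟶ H), Mono ψ ∧ F.IsQuasicoherent ∧
      SheafOfModules.IsFiniteType (R := X.ringCatSheaf) F ∧ IsoOn ψ U := by
  have key : ∀ (S : X.Opens), IsCompact (S : Set X) → ∀ (H : X.Modules) [H.IsQuasicoherent], FTOn H U →
      ∃ (F : X.Modules) (ψ : F ⟶ H), Mono ψ ∧ F.IsQuasicoherent ∧ FTOn F (U ⊔ S) ∧ IsoOn ψ U := by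
    intro S hS
    refine compact_open_induction_on (P := fun S => ∀ (H : X.Modules) [H.IsQuasicoherent], FTOn H U →
      ∃ (F : X.Modules) (ψ : F ⟶ H), Mono ψ ∧ F.IsQuasicoherent ∧ FTOn F (U ⊔ S) ∧ IsoOn ψ U) S hS ?_ ?_
    · intro H _ hH
      exact ⟨H, 𝟙 H, inferInstance, inferInstance, by rw [sup_bot_eq]; exact hH, isoOn_id H U⟩
    · intro S hS V ih H _ hH
      obtain ⟨F₁, ψ₁, hm₁, hq₁, hft₁, hiso₁⟩ := ih H hH
      have := hq₁
      have hcpt : IsCompact (((U ⊔ S : X.Opens) : Set X)) := by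
        have : ((U ⊔ S : X.Opens) : Set X) = (U : Set X) ∪ (S : Set X) := rfl
        rw [this]; exact hU.union hS
      obtain ⟨F₂, ψ₂, hm₂, hq₂, hft₂, hiso₂⟩ := exists_sub_ftOn_sup F₁ (U ⊔ S) V V.2
        (QuasiSeparatedSpace.inter_isCompact _ _ (U ⊔ S).isOpen hcpt V.1.isOpen V.2.isCompact) hft₁
      have := hm₁
      have := hm₂
      refine ⟨F₂, ψ₂ ≫ ψ₁, mono_comp _ _, hq₂, ?_, (hiso₂.mono le_sup_left).comp hiso₁⟩
      rw [← sup_assoc]; exact hft₂
  obtain ⟨F, ψ, hm, hq, hft, hiso⟩ := key ⊤ isCompact_univ H hH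
  have := hq
  refine ⟨F, ψ, hm, hq, isFiniteType_of_ftOn_top F ?_, hiso⟩
  rw [sup_top_eq] at hft; exact hft

end EX7

end Groth.Agent.Lib.Helper23.Extend
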