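import Mathlib
import Groth.Agent.Lib.Helper23Extend2
import Groth.Prelude.Def_CohB1

/-!
# The generating locus `X_s` of a section of an invertible module (helper23)

* `endFun σ W`, `bijective_app_iff_le_basicOpen` : endomorphisms of the structure module are multiplication by a function
* `mem_genLocus_iff`, `genLocus_inf_eq` : on an open `U₀` trivialising `L`, `X_s ∩ U₀` is a basic open of `U₀`.
-/

set_option autoImplicit false
universe u
open CategoryTheory Limits AlgebraicGeometry TopologicalSpace Opposite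

namespace Groth.Agent.Lib.Helper23.GenLocus

open Groth.Agent.Lib.Helper23.Extend

variable {Y : Scheme.{u}}

/-- sections of the structure sheaf as sections of the structure module -/
noncomputable def toS (W : Y.Opens) (a : Γ(Y, W)) : Γ(Coh.structureModule Y, W) := a

/-- sections of the structure module as sections of the structure sheaf -/
noncomputable def ofS (W : Y.Opens) (b : Γ(Coh.structureModule Y, W)) : Γ(Y, W) := b

@[simp] theorem toS_ofS (W : Y.Opens) (b : Γ(Coh.structureModule Y, W)) : toS W (ofS W b) = b := rfl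
@[simp] theorem ofS_toS (W : Y.Opens) (a : Γ(Y, W)) : ofS W (toS W a) = a := rfl

theorem map_toS {W W' : Y.Opens} (i : W' ⟶ W) (a : Γ(Y, W)) :
    (Coh.structureModule Y).presheaf.map i.op (toS W a) = toS W' (Y.presheaf.map i.op a) := rfl

theorem smul_toS (W : Y.Opens) (r a : Γ(Y, W)) : r • toS W a = toS W (r * a) := rfl

/-- the function associated with an endomorphism of the structure module -/
noncomputable def endFun (σ : Coh.structureModule Y ⟶ Coh.structureModule Y) (W : Y.Opens) : Γ(Y, W) :=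
  ofS W (σ.app W (toS W 1))

/-- an endomorphism of the structure module is multiplication by the image of `1` -/
theorem end_app_eq (σ : Coh.structureModule Y ⟶ Coh.structureModule Y) (W : Y.Opens) (a : Γ(Y, W)) :
    σ.app W (toS W a) = toS W (a * endFun σ W) := by
  have h1 : toS W a = a • toS W 1 := by rw [smul_toS, mul_one]
  rw [h1, Scheme.Modules.Hom.app_smul]
  rfl

theorem endFun_map (σ : Coh.structureModule Y ⟶ Coh.structureModule Y) {W W' : Y.Opens} (i : W' ⟶ W) :
    Y.presheaf.map i.op (endFun σ W) = endFun σ W' := by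
  have h := app_map σ i (toS W 1)
  rw [map_toS, map_one] at h
  have h2 := congrArg (ofS W') h
  exact h2.symm

theorem bijective_app_iff_isUnit (σ : Coh.structureModule Y ⟶ Coh.structureModule Y) (W : Y.Opens) :
    Function.Bijective (σ.app W) ↔ IsUnit (endFun σ W) := by
  constructor
  · rintro ⟨-, hs⟩
    obtain ⟨b, hb⟩ := hs (toS W 1)
    refine IsUnit.of_mul_eq_one (ofS W b) ?_
    rw [mul_comm]
    have := end_app_eq σ W (ofS W b)
    rw [toS_ofS, hb] at this
    exact (congrArg (ofS W) this).symm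
  · rintro ⟨u, hu⟩
    constructor
    · intro a b hab
      have ha := end_app_eq σ W (ofS W a)
      have hb := end_app_eq σ W (ofS W b)
      rw [toS_ofS] at ha hb
      have h1 : ofS W a * endFun σ W = ofS W b * endFun σ W := by
        have := congrArg (ofS W) (ha.symm.trans (hab.trans hb))
        exact this
      rw [← hu] at h1
      exact congrArg (toS W) ((Units.mul_left_inj u).1 h1)
    · intro b
      refine ⟨toS W (ofS W b * ↑u⁻¹), ?_⟩
      rw [end_app_eq, ← hu, mul_assoc, Units.inv_mul, mul_one, toS_ofS]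

theorem bijective_app_iff_le_basicOpen (σ : Coh.structureModule Y ⟶ Coh.structureModule Y) (W : Y.Opens) :
    Function.Bijective (σ.app W) ↔ W ≤ Y.basicOpen (endFun σ ⊤) := by
  rw [bijective_app_iff_isUnit, ← endFun_map σ (homOfLE (le_top : W ≤ ⊤))]
  constructor
  · intro h
    have h1 := Y.basicOpen_of_isUnit h
    rw [Scheme.basicOpen_res] at h1
    exact inf_eq_left.1 h1
  · intro h
    have h2 : IsUnit (Y.presheaf.map (homOfLE h).op (Y.presheaf.map (homOfLE (Y.basicOpen_le (endFun σ ⊤))).op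
        (endFun σ ⊤))) := (Y.toRingedSpace.isUnit_res_basicOpen (endFun σ ⊤)).map _
    rw [← ConcreteCategory.comp_apply, ← Functor.map_comp] at h2
    exact h2

section genLocus

variable {X : Scheme.{u}}

theorem mem_genLocus_iff (L : X.Modules) (s : Coh.structureModule X ⟶ L) (x : X) :
    x ∈ CohB1.genLocus L s ↔ ∃ V : X.Opens, x ∈ V ∧ IsoOn s V := by
  unfold CohB1.genLocus
  rw [Opens.mem_sSup]
  constructor
  · rintro ⟨V, hV, hxV⟩
    refine ⟨V, hxV, ?_⟩
    have hV' : IsIso ((Scheme.Modules.restrictFunctor (@Scheme.Opens.ι X V)).map s) := hV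
    have := (isIso_restrict_iff (@Scheme.Opens.ι X V) s).1 hV'
    rwa [Scheme.Opens.opensRange_ι] at this
  · rintro ⟨V, hxV, hV⟩
    refine ⟨V, ?_, hxV⟩
    change IsIso _
    rw [isIso_restrict_iff, Scheme.Opens.opensRange_ι]
    exact hV

/-- local description of the generating locus on an open where `L` is trivial -/
theorem genLocus_inf_eq (L : X.Modules) (s : Coh.structureModule X ⟶ L) (U₀ : X.Opens)
    (e : L.restrict U₀.ι ≅ Coh.structureModule (↑U₀ : Scheme.{u})) :
    ∃ f₀ : Γ((↑U₀ : Scheme.{u}), ⊤), CohB1.genLocus L s ⊓ U₀ = U₀.ι ''ᵁ ((↑U₀ : Scheme.{u}).basicOpen f₀) := by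
  let ρ : Coh.structureModule (↑U₀ : Scheme.{u}) ⟶ (Coh.structureModule X).restrict U₀.ι :=
    (Scheme.Modules.restrictUnitIso U₀.ι).inv
  have hρ : IsIso ρ := ⟨⟨(Scheme.Modules.restrictUnitIso U₀.ι).hom, Iso.inv_hom_id _, Iso.hom_inv_id _⟩⟩
  let σ : Coh.structureModule (↑U₀ : Scheme.{u}) ⟶ Coh.structureModule (↑U₀ : Scheme.{u}) :=
    ρ ≫ (Scheme.Modules.restrictFunctor U₀.ι).map s ≫ e.hom
  refine ⟨endFun σ ⊤, ?_⟩
  have key : ∀ W : X.Opens, W ≤ U₀ → (IsIso (s.app W) ↔ W ≤ U₀.ι ''ᵁ ((↑U₀ : Scheme.{u}).basicOpen (endFun σ ⊤))) := by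
    intro W hW
    have himg : U₀.ι ''ᵁ (U₀.ι ⁻¹ᵁ W) = W := by
      rw [Scheme.Hom.image_preimage_eq_opensRange_inf, Scheme.Opens.opensRange_ι]
      exact inf_eq_right.2 hW
    have h1 : Function.Bijective (σ.app (U₀.ι ⁻¹ᵁ W)) ↔ Function.Bijective (s.app (U₀.ι ''ᵁ (U₀.ι ⁻¹ᵁ W))) := by
      have h1a : IsIso (ρ.app (U₀.ι ⁻¹ᵁ W)) := Scheme.Modules.Hom.isIso_iff_isIso_app.1 hρ _
      have h1c : IsIso (e.hom.app (U₀.ι ⁻¹ᵁ W)) := Scheme.Modules.Hom.isIso_iff_isIso_app.1 inferInstance _
      have ha : Function.Bijective (ρ.app (U₀.ι ⁻¹ᵁ W)) := ConcreteCategory.bijective_of_isIso _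
      have hc : Function.Bijective (e.hom.app (U₀.ι ⁻¹ᵁ W)) := ConcreteCategory.bijective_of_isIso _
      have hfun : ⇑(σ.app (U₀.ι ⁻¹ᵁ W)) = ⇑(e.hom.app (U₀.ι ⁻¹ᵁ W)) ∘ ⇑(s.app (U₀.ι ''ᵁ (U₀.ι ⁻¹ᵁ W))) ∘
          ⇑(ρ.app (U₀.ι ⁻¹ᵁ W)) := rfl
      rw [hfun]
      exact (Function.Bijective.of_comp_iff' hc _).trans (Function.Bijective.of_comp_iff _ ha)
    have h2 : IsIso (s.app (U₀.ι ''ᵁ (U₀.ι ⁻¹ᵁ W))) ↔ IsIso (s.app W) := by rw [himg]
    rw [← h2, ConcreteCategory.isIso_iff_bijective, ← h1, bijective_app_iff_le_basicOpen]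
    constructor
    · intro h
      rw [← himg]
      exact U₀.ι.image_mono h
    · intro h
      have := U₀.ι.preimage_mono h
      rwa [Scheme.Hom.preimage_image_eq] at this
  apply le_antisymm
  · rintro x ⟨hxG, hxU⟩
    obtain ⟨V, hxV, hV⟩ := (mem_genLocus_iff L s x).1 hxG
    exact (key (V ⊓ U₀) inf_le_right).1 (hV _ inf_le_left) ⟨hxV, hxU⟩
  · intro x hx
    refine ⟨(mem_genLocus_iff L s x).2 ⟨_, hx, fun W hW => ?_⟩, ?_⟩
    · exact (key W (hW.trans ((Scheme.Hom.image_le_opensRange U₀.ι _).trans (by rw [Scheme.Opens.opensRange_ι])))).2 hW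
    · have := Scheme.Hom.image_le_opensRange U₀.ι _ hx
      rwa [Scheme.Opens.opensRange_ι] at this


end genLocus

end Groth.Agent.Lib.Helper23.GenLocus
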