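import Mathlib
import Groth.Prelude.Def_FDesc
import Groth.Agent.Lib.Helper23GenLocus
import Groth.Agent.Lib.Helper2QCoh

/-!
# The stalk of the structure module is the local ring (helper23)

* `unitStalkEquiv y : O_{Y,y} ≃ₗ[O_{Y,y}] (Coh.structureModule Y)_y`
* `isAssPoint_structureModule_iff` : `y` is an associated point of `O_Y` iff `m_y ∈ Ass(O_{Y,y})`.
-/

set_option autoImplicit false
universe u
open CategoryTheory AlgebraicGeometry TopologicalSpace Opposite

namespace Groth.Agent.Lib.Helper23.UnitStalk

open Groth.Agent.Lib.Helper23.GenLocus Groth.Agent.Lib.Helper2.QCoh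

variable {Y : Scheme.{u}}

/-- the germ of `1` in the stalk of the structure module -/
noncomputable def one (y : Y) : (Coh.structureModule Y).presheaf.stalk y :=
  (Coh.structureModule Y).presheaf.germ ⊤ y trivial (toS ⊤ 1)

theorem one_eq (y : Y) (W : Y.Opens) (hy : y ∈ W) :
    one y = (Coh.structureModule Y).presheaf.germ W y hy (toS W 1) := by
  unfold one
  rw [← TopCat.Presheaf.germ_res_apply (Coh.structureModule Y).presheaf (homOfLE (le_top : W ≤ ⊤)) y hy
    (toS ⊤ 1), map_toS, map_one]

/-- the linear map `a ↦ a • 1` from the local ring to the stalk of the structure module -/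
noncomputable def toUnitStalk (y : Y) :
    Y.presheaf.stalk y →ₗ[Y.presheaf.stalk y] (Coh.structureModule Y).presheaf.stalk y :=
  LinearMap.toSpanSingleton _ _ (one y)

theorem toUnitStalk_germ (y : Y) (W : Y.Opens) (hy : y ∈ W) (a : Γ(Y, W)) :
    toUnitStalk y (Y.presheaf.germ W y hy a) =
      (Coh.structureModule Y).presheaf.germ W y hy (toS W a) := by
  unfold toUnitStalk
  rw [LinearMap.toSpanSingleton_apply, one_eq y W hy, ← germ_smul, smul_toS, mul_one]

theorem toUnitStalk_injective (y : Y) : Function.Injective (toUnitStalk y) := by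
  rw [injective_iff_map_eq_zero]
  intro a ha
  obtain ⟨W, hyW, s, rfl⟩ := Y.presheaf.exists_germ_eq (x := y) a
  rw [toUnitStalk_germ] at ha
  have h0 : (Coh.structureModule Y).presheaf.germ W y hyW (toS W s) =
      (Coh.structureModule Y).presheaf.germ W y hyW 0 := by rw [ha, map_zero]
  obtain ⟨W', hyW', i₁, i₂, hW'⟩ := (Coh.structureModule Y).presheaf.germ_eq y hyW hyW _ 0 h0
  rw [map_zero, map_toS] at hW'
  have h1 : Y.presheaf.map i₁.op s = 0 := congrArg (ofS W') hW'
  rw [← TopCat.Presheaf.germ_res_apply Y.presheaf i₁ y hyW' s, h1, map_zero]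

theorem toUnitStalk_surjective (y : Y) : Function.Surjective (toUnitStalk y) := by
  intro b
  obtain ⟨W, hyW, t, rfl⟩ := (Coh.structureModule Y).presheaf.exists_germ_eq b
  exact ⟨Y.presheaf.germ W y hyW (ofS W t), by rw [toUnitStalk_germ, toS_ofS]⟩

/-- The local ring `O_{Y,y}` is, as a module over itself, the stalk of the structure module. -/
noncomputable def unitStalkEquiv (y : Y) :
    Y.presheaf.stalk y ≃ₗ[Y.presheaf.stalk y] (Coh.structureModule Y).presheaf.stalk y :=
  LinearEquiv.ofBijective (toUnitStalk y) ⟨toUnitStalk_injective y, toUnitStalk_surjective y⟩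

theorem isAssPoint_structureModule_iff (y : Y) :
    Curv2.IsAssPoint (Coh.structureModule Y) y ↔
      IsAssociatedPrime (IsLocalRing.maximalIdeal (Y.presheaf.stalk y)) (Y.presheaf.stalk y) :=
  ((unitStalkEquiv y).isAssociatedPrime_iff).symm

instance nontrivial_stalk_structureModule (y : Y) :
    Nontrivial ↑((Coh.structureModule Y).presheaf.stalk y) :=
  (unitStalkEquiv y).symm.toEquiv.nontrivial

end Groth.Agent.Lib.Helper23.UnitStalk
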