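import Mathlib
import Groth.Agent.Lib.Helper1TQ4
import Groth.Agent.Lib.Helper1TorDim
import Groth.Agent.Lib.Helper1RelPC
import Groth.Agent.Lib.Helper23UnitStalk
set_option backward.isDefEq.respectTransparency.types false

/-!
# Relative tor amplitude: independence of the representative, composition (helper1)
-/

set_option autoImplicit false
set_option linter.style.haveILetI false
universe u
open CategoryTheory CategoryTheory.Limits AlgebraicGeometry HomologicalComplex

attribute [local instance] HasDerivedCategory.standard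

namespace Groth.Agent.Lib.Helper1.TQ

open Groth.Agent.Lib.Helper1.Sky Groth.Agent.Lib.Helper1.StalkTensor Groth.Agent.Lib.Helper1.KBC
  Groth.Agent.Lib.Helper1.Tor Groth.Agent.Lib.Helper1.Restrict Groth.Agent.Lib.Helper1.RelPC
  Groth.Agent.Lib.Helper1.TorDim

variable {X Y Z : Scheme.{u}}

/-- an isomorphism in the derived category induces one on the complexes of stalks -/
noncomputable def stalkCDIso {F F' : CochainComplex X.Modules ℤ}
    (e : DCoh.toD X F ≅ DCoh.toD X F') (x : X) :
    DerivedCategory.Q.obj ((stalkC x).obj F) ≅ DerivedCategory.Q.obj ((stalkC x).obj F') :=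
  ((stalkFun x).mapDerivedCategoryFactors.app F).symm ≪≫
    (stalkFun x).mapDerivedCategory.mapIso e ≪≫
    (stalkFun x).mapDerivedCategoryFactors.app F'

/-- relative tor amplitude only depends on the class in the derived category -/
lemma hasTorAmplitude_of_iso (f : X ⟶ Y) {F F' : CochainComplex X.Modules ℤ}
    (e : DCoh.toD X F ≅ DCoh.toD X F') (a b : ℤ) (h : DerSch.HasTorAmplitude f a b F) :
    DerSch.HasTorAmplitude f a b F' := by
  intro x
  have h1 := (hasTorAmplitudeAt_iff f F a b x).1 (h x)
  rw [hasTorAmplitudeAt_iff]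
  exact hasTorAmp_of_iso (restrictCxQIso _ (stalkCDIso e x)) h1

/-- the object form of relative tor amplitude -/
lemma hasTorAmplitudeD_iff (f : X ⟶ Y) (F : CochainComplex X.Modules ℤ) (a b : ℤ) :
    DerSch.HasTorAmplitudeD f a b (DCoh.toD X F) ↔ DerSch.HasTorAmplitude f a b F :=
  ⟨fun h => h F ⟨Iso.refl _⟩, fun h _ ⟨e⟩ => hasTorAmplitude_of_iso f e.symm a b h⟩

section ring

variable {A B : Type u} [CommRing A] [CommRing B] (ψ : A →+* B)

/-- `B` as an `A`-module along `ψ` -/
noncomputable abbrev BoverA : ModuleCat.{u} A :=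
  (ModuleCat.restrictScalars.{u} ψ).obj (ModuleCat.of B B)

/-- restriction of scalars along a ring map of tor dimension `≤ n` -/
theorem hasTorAmp_restrictCx_of_torDim (n : ℕ)
    (hB : DRing.HasTorAmplitudeIn A (-(n : ℤ)) 0
      ((DerivedCategory.singleFunctor (ModuleCat.{u} A) 0).obj (BoverA ψ)))
    (C : DRing.Cx B) (a b : ℤ) (hC : DRing.HasTorAmplitudeIn B a b (DRing.toD C)) :
    DRing.HasTorAmplitudeIn A (a - n) b (DRing.toD ((DRing.restrictCx ψ).obj C)) := by
  letI : Algebra A B := ψ.toAlgebra
  have h1 := hasTorAmp_restrictD (A := A) (B := B) n hB (DRing.toD C) a b hC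
  exact hasTorAmp_of_iso (restrictQIso ψ C) h1

end ring


open Groth.Agent.Lib.Helper23.UnitStalk in
/-- the complex of stalks of `O_Y[0]` over the base -/
noncomputable def stalkCxOverUnitIso (g : Y ⟶ Z) (y : Y) :
    DRing.toD ((DerSch.stalkCxOver g y).obj (DerSch.unitCx Y)) ≅
      (DerivedCategory.singleFunctor (ModuleCat.{u} (Z.presheaf.stalk (g.base y))) 0).obj
        (BoverA (g.stalkMap y).hom) :=
  DerivedCategory.Q.mapIso
      ((HomologicalComplex.singleMapHomologicalComplex (DerSch.stalkOver g y)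
        (ComplexShape.up ℤ) 0).app (Coh.structureModule Y)) ≪≫
    ((DerivedCategory.singleFunctorIsoCompQ _ 0).app _).symm ≪≫
    (DerivedCategory.singleFunctor _ 0).mapIso
      ((ModuleCat.restrictScalars.{u} (g.stalkMap y).hom).mapIso
        (unitStalkEquiv y).symm.toModuleIso)

/-- S6187: composition with a morphism of tor dimension `≤ n` -/
theorem hasTorAmplitude_comp_of_hasTorDimLE (f : X ⟶ Y) (g : Y ⟶ Z) (n : ℕ)
    (hg : DerSch.HasTorDimLE g n) (F : CochainComplex X.Modules ℤ) (a b : ℤ)
    (hF : DerSch.HasTorAmplitude f a b F) :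
    DerSch.HasTorAmplitude (f ≫ g) (a - n) b F := by
  intro x
  rw [hasTorAmplitudeAt_iff]
  have h1 := (hasTorAmplitudeAt_iff f F a b x).1 (hF x)
  have hB := hasTorAmp_of_iso (stalkCxOverUnitIso g (f.base x)) (hg (f.base x))
  have h2 := hasTorAmp_restrictCx_of_torDim (g.stalkMap (f.base x)).hom n hB _ a b h1
  have hcomp : ((f ≫ g).stalkMap x).hom = (f.stalkMap x).hom.comp (g.stalkMap (f.base x)).hom := by
    rw [Scheme.Hom.stalkMap_comp]
    rfl
  rw [hcomp]
  exact hasTorAmp_of_iso (DerivedCategory.Q.mapIso (restrictCxCompIso _ _ _)) h2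

end Groth.Agent.Lib.Helper1.TQ
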