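import Mathlib
import Groth.Agent.Lib.Helper1TQ5
set_option backward.isDefEq.respectTransparency.types false

/-!
# Stalks of the direct image along an embedding; tor amplitude and closed immersions (helper1)
-/

set_option autoImplicit false
set_option linter.style.haveILetI false
universe u
open CategoryTheory CategoryTheory.Limits AlgebraicGeometry HomologicalComplex Opposite
  TopologicalSpace

attribute [local instance] HasDerivedCategory.standard

namespace Groth.Agent.Lib.Helper1.TQ

open Groth.Agent.Lib.Helper1.Sky Groth.Agent.Lib.Helper1.StalkTensor Groth.Agent.Lib.Helper1.KBC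
  Groth.Agent.Lib.Helper1.Tor Groth.Agent.Lib.Helper1.Restrict Groth.Agent.Lib.Helper1.RelPC
  Groth.Agent.Lib.Helper1.TorDim

variable {X X' Y : Scheme.{u}} (i : X ⟶ X') (x : X)

/-- `(i_* M)_{i x} → M_x` -/
noncomputable def pushStalkMap (M : X.Modules) :
    St (toPM ((Scheme.Modules.pushforward i).obj M)) (i.base x) →+ St (toPM M) x :=
  (TopCat.Presheaf.stalkPushforward Ab i.base (toPM M).presheaf x).hom

lemma pushStalkMap_gm (M : X.Modules) (U : X'.Opens) (hx : i.base x ∈ U)
    (s : (toPM ((Scheme.Modules.pushforward i).obj M)).obj (op U)) :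
    pushStalkMap i x M (gm _ (i.base x) U hx s) = gm (toPM M) x (i ⁻¹ᵁ U) hx s :=
  ConcreteCategory.congr_hom
    (TopCat.Presheaf.stalkPushforward_germ Ab i.base (toPM M).presheaf U x hx) s

lemma pushStalkMap_bijective (hi : Topology.IsInducing i.base) (M : X.Modules) :
    Function.Bijective (pushStalkMap i x M) := by
  have := TopCat.Presheaf.stalkPushforward.stalkPushforward_iso_of_isInducing Ab hi
    (toPM M).presheaf x
  exact (ConcreteCategory.isIso_iff_bijective _).1 this

lemma pushStalkMap_smul (M : X.Modules) (r : X'.presheaf.stalk (i.base x))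
    (a : St (toPM ((Scheme.Modules.pushforward i).obj M)) (i.base x)) :
    pushStalkMap i x M (r • a) = (i.stalkMap x).hom r • pushStalkMap i x M a := by
  obtain ⟨U, hU, s, r', rfl, rfl⟩ : ∃ (U : X'.Opens) (hU : i.base x ∈ U)
      (s : (toPM ((Scheme.Modules.pushforward i).obj M)).obj (op U)) (r' : X'.presheaf.obj (op U)),
      gm _ (i.base x) U hU s = a ∧ gr X'.presheaf (i.base x) U hU r' = r := by
    obtain ⟨U₁, h₁, s, rfl⟩ := exists_gm_eq a
    obtain ⟨U₂, h₂, r', rfl⟩ := exists_gr_eq r
    refine ⟨U₁ ⊓ U₂, ⟨h₁, h₂⟩, rs _ (homOfLE inf_le_left) s, rr _ (homOfLE inf_le_right) r',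
      ?_, ?_⟩
    · exact gm_rs _ _ _
    · exact gr_rr _ _ _
  rw [← gm_smul, pushStalkMap_gm, pushStalkMap_gm]
  have h1 : (i.stalkMap x).hom (gr X'.presheaf (i.base x) U hU r') =
      gr X.presheaf x (i ⁻¹ᵁ U) hU ((i.app U).hom r') :=
    Scheme.Hom.germ_stalkMap_apply i U x hU r'
  rw [h1, ← gm_smul]
  rfl

/-- `(i_* M)_{i x} → M_x` as a linear map over `O_{X', i x}` -/
noncomputable def pushStalkLinMap (M : X.Modules) :
    ((stalkFun (i.base x)).obj ((Scheme.Modules.pushforward i).obj M)) →ₗ[Sky.Ox (i.base x)]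
      ((ModuleCat.restrictScalars.{u} (i.stalkMap x).hom).obj ((stalkFun x).obj M)) where
  toFun a := pushStalkMap i x M a
  map_add' a b := map_add (pushStalkMap i x M) a b
  map_smul' r a := pushStalkMap_smul i x M r a

variable {i x} in
/-- the stalk of the direct image along an embedding -/
noncomputable def pushStalkIso (hi : Topology.IsInducing i.base) (M : X.Modules) :
    (stalkFun (i.base x)).obj ((Scheme.Modules.pushforward i).obj M) ≅
      (ModuleCat.restrictScalars.{u} (i.stalkMap x).hom).obj ((stalkFun x).obj M) :=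
  (LinearEquiv.ofBijective (pushStalkLinMap i x M) (pushStalkMap_bijective i x hi M)).toModuleIso

lemma pushStalkIso_hom_apply (hi : Topology.IsInducing i.base) (M : X.Modules)
    (a : St (toPM ((Scheme.Modules.pushforward i).obj M)) (i.base x)) :
    (pushStalkIso hi M).hom a = pushStalkMap i x M a := rfl

lemma pushStalkIso_naturality (hi : Topology.IsInducing i.base) {M N : X.Modules} (φ : M ⟶ N) :
    (stalkFun (i.base x)).map ((Scheme.Modules.pushforward i).map φ) ≫ (pushStalkIso hi N).hom =
      (pushStalkIso hi M).hom ≫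
        (ModuleCat.restrictScalars.{u} (i.stalkMap x).hom).map ((stalkFun x).map φ) := by
  ext a
  obtain ⟨U, hU, s, rfl⟩ := exists_gm_eq a
  change pushStalkMap i x N (sm (toPMMap ((Scheme.Modules.pushforward i).map φ)) (i.base x)
      (gm _ (i.base x) U hU s)) = sm (toPMMap φ) x (pushStalkMap i x M (gm _ (i.base x) U hU s))
  rw [sm_gm, pushStalkMap_gm, pushStalkMap_gm, sm_gm]
  rfl

/-- the complex of stalks of the termwise direct image along an embedding -/
noncomputable def pushStalkCIso (hi : Topology.IsInducing i.base) (F : CochainComplex X.Modules ℤ) :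
    (stalkC (i.base x)).obj
        (((Scheme.Modules.pushforward i).mapHomologicalComplex (ComplexShape.up ℤ)).obj F) ≅
      (DRing.restrictCx (i.stalkMap x).hom).obj ((stalkC x).obj F) :=
  HomologicalComplex.Hom.isoOfComponents (fun n => pushStalkIso hi (F.X n))
    (fun n m _ => (pushStalkIso_naturality i x hi (F.d n m)).symm)


section ring

variable {A B : Type u} [CommRing A] [CommRing B] (ψ : A →+* B)

lemma flat_restrictScalars_of_flat (hψ : ψ.Flat) (M : ModuleCat.{u} B)
    [Module.Flat B M] : Module.Flat A ((ModuleCat.restrictScalars.{u} ψ).obj M) := by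
  letI : Algebra A B := ψ.toAlgebra
  letI : Module A M := Module.compHom M ψ
  haveI : IsScalarTower A B M := IsScalarTower.of_algebraMap_smul (fun r m => rfl)
  haveI : Module.Flat A B := hψ
  have h : Module.Flat A M := Module.Flat.trans A B M
  exact h

/-- tor amplitude passes to the restriction of scalars along a flat ring map -/
theorem hasTorAmp_restrictCx_of_flat (hψ : ψ.Flat) (C : DRing.Cx B) (a b : ℤ)
    (h : DRing.HasTorAmplitudeIn B a b (DRing.toD C)) :
    DRing.HasTorAmplitudeIn A a b (DRing.toD ((DRing.restrictCx ψ).obj C)) := by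
  obtain ⟨E, hE, hEf, ⟨e⟩⟩ := h
  refine ⟨(DRing.restrictCx ψ).obj E, fun i hi => ?_, fun i => ?_, ⟨restrictCxQIso ψ e⟩⟩
  · exact (ModuleCat.restrictScalars.{u} ψ).map_isZero (hE i hi)
  · have := hEf i
    exact flat_restrictScalars_of_flat ψ hψ (E.X i)

end ring

/-- S6191: if `i_* F` has tor amplitude in `[a, b]` on `X'` (`i` an embedding) and `f'` is flat,
then `F` has tor amplitude in `[a, b]` relative to `i ≫ f'` -/
theorem hasTorAmplitude_of_hasFlatAmplitudeIn_pushforward (i : X ⟶ X')
    (hi : Topology.IsInducing i.base) (f' : X' ⟶ Y) [Flat f'] (F : CochainComplex X.Modules ℤ)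
    (a b : ℤ)
    (hF : DCoh.HasFlatAmplitudeIn a b (DCoh.toD X'
      (((Scheme.Modules.pushforward i).mapHomologicalComplex (ComplexShape.up ℤ)).obj F))) :
    DerSch.HasTorAmplitude (i ≫ f') a b F := by
  rw [hasFlatAmplitudeIn_iff_hasTorAmplitudeIn, hasTorAmplitudeIn_iff_stalk] at hF
  intro x
  rw [hasTorAmplitudeAt_iff]
  have h1 := hasTorAmp_of_iso (DerivedCategory.Q.mapIso (pushStalkCIso i x hi F)) (hF (i.base x))
  have h2 := hasTorAmp_restrictCx_of_flat (f'.stalkMap (i.base x)).hom
    (Flat.stalkMap f' (i.base x)) _ a b h1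
  have hcomp : ((i ≫ f').stalkMap x).hom =
      (i.stalkMap x).hom.comp (f'.stalkMap (i.base x)).hom := by
    rw [Scheme.Hom.stalkMap_comp]
    rfl
  rw [hcomp]
  exact hasTorAmp_of_iso (DerivedCategory.Q.mapIso (restrictCxCompIso _ _ _)) h2

end Groth.Agent.Lib.Helper1.TQ
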