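import Mathlib
import Groth.Agent.Lib.Helper1TensPerf
import Groth.Agent.Lib.Helper1DT5
import Groth.Agent.Lib.Helper1KF12
import Groth.Agent.Lib.Helper1RelBC
import Groth.Agent.Lib.Helper1TQ6
import Groth.Agent.S7019
import Groth.Prelude.Def_DualSh
set_option backward.isDefEq.respectTransparency.types false

/-!
# Tensoring an `R`-perfect complex with a perfect complex (helper1)
-/

set_option autoImplicit false
set_option linter.style.haveILetI false
set_option maxHeartbeats 400000
universe u
open CategoryTheory CategoryTheory.Limits MonoidalCategory HomologicalComplex TensorProduct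
attribute [local instance] HasDerivedCategory.standard

namespace Groth.Agent.Lib.Helper1.RelPT

open DerivedCategory Groth.Agent.Lib.Helper1.KF Groth.Agent.Lib.Helper1.Tor
  Groth.Agent.Lib.Helper1.DT Groth.Agent.Lib.Helper1.TensPerf

section Bounds

variable {A : Type u} [CommRing A]

/-- upper bound: if `C` is exact above `d` and the K-flat complex `E` vanishes above `b` then
`C ⊗ E` is exact above `d + b` -/
theorem exactAt_tensor_of_isLE (C E : Cx A) (d b : ℤ) [C.IsLE d] (hE : KFlat E)
    (hEb : ∀ q : ℤ, b < q → IsZero (E.X q)) (n : ℤ) (hn : d + b < n) : (C ⊗ E).ExactAt n := by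
  have hq : QuasiIso (C.ιTruncLE d ▷ E) := quasiIso_whiskerRight_of_kflat (C.ιTruncLE d) E hE
  have hz : IsZero (((C.truncLE d) ⊗ E).X n) := by
    apply isZero_tensor_X
    intro p q hpq
    by_cases hp : d < p
    · exact Or.inl ((C.truncLE d).isZero_of_isStrictlyLE d p hp)
    · exact Or.inr (hEb q (by lia))
  have h1 : ((C.truncLE d) ⊗ E).ExactAt n := ShortComplex.exact_of_isZero_X₂ _ hz
  haveI := hq.quasiIsoAt n
  exact (exactAt_iff_of_quasiIsoAt (C.ιTruncLE d ▷ E) n).1 h1

/-- lower bound: if `C` is exact below `c` and the K-flat complex `E` vanishes below `a` then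
`C ⊗ E` is exact below `c + a` -/
theorem exactAt_tensor_of_isGE (C E : Cx A) (c a : ℤ) [C.IsGE c] (hE : KFlat E)
    (hEa : ∀ q : ℤ, q < a → IsZero (E.X q)) (n : ℤ) (hn : n < c + a) : (C ⊗ E).ExactAt n := by
  have hq : QuasiIso (C.πTruncGE c ▷ E) := quasiIso_whiskerRight_of_kflat (C.πTruncGE c) E hE
  have hz : IsZero (((C.truncGE c) ⊗ E).X n) := by
    apply isZero_tensor_X
    intro p q hpq
    by_cases hp : p < c
    · exact Or.inl ((C.truncGE c).isZero_of_isStrictlyGE c p hp)
    · exact Or.inr (hEa q (by lia))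
  have h1 : ((C.truncGE c) ⊗ E).ExactAt n := ShortComplex.exact_of_isZero_X₂ _ hz
  haveI := hq.quasiIsoAt n
  exact (exactAt_iff_of_quasiIsoAt (C.πTruncGE c ▷ E) n).2 h1

end Bounds

section Transfer

open Groth.Agent.Lib.Helper1.Extend Groth.Agent.Lib.Helper1.TorDim

variable {R A : Type u} [CommRing R] [CommRing A] [Algebra R A]

/-- the `R`-module underlying an `A`-module -/
noncomputable abbrev RX (X : ModuleCat.{u} A) : ModuleCat.{u} R :=
  (ModuleCat.restrictScalars.{u} (algebraMap R A)).obj X

/-- the extension of scalars of an `R`-module -/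
noncomputable abbrev EN (N : ModuleCat.{u} R) : ModuleCat.{u} A :=
  (ModuleCat.extendScalars.{u, u, u} (algebraMap R A)).obj N

/-- the comparison `N ⊗_R X ≃ (A ⊗_R N) ⊗_A X` -/
noncomputable def EE (N : ModuleCat.{u} R) (X : ModuleCat.{u} A) :
    (N : Type u) ⊗[R] (RX (R := R) X : Type u) ≃+ (EN (A := A) N : Type u) ⊗[A] (X : Type u) :=
  letI : Module R X := Module.compHom X (algebraMap R A)
  haveI : IsScalarTower R A X := IsScalarTower.of_algebraMap_smul (fun _ _ => rfl)
  ((TensorProduct.comm R N X).toAddEquiv).trans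
    (((AlgebraTensorModule.cancelBaseChange R A A X N).symm.toAddEquiv).trans
      (((TensorProduct.comm A X (A ⊗[R] N)).toAddEquiv).trans
        ((TensorProduct.congr (extEquiv (A := R) (B := A) N).symm
          (LinearEquiv.refl A X)).toAddEquiv)))

lemma EE_tmul (N : ModuleCat.{u} R) (X : ModuleCat.{u} A) (n : N) (x : X) :
    EE (A := A) N X (n ⊗ₜ x) =
      ((extEquiv (A := R) (B := A) N).symm ((1 : A) ⊗ₜ[R] n)) ⊗ₜ[A] x := by
  letI : Module R X := Module.compHom X (algebraMap R A)
  haveI : IsScalarTower R A X := IsScalarTower.of_algebraMap_smul (fun _ _ => rfl)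
  show (TensorProduct.congr (extEquiv (A := R) (B := A) N).symm (LinearEquiv.refl A X))
    ((TensorProduct.comm A X (A ⊗[R] N))
      ((AlgebraTensorModule.cancelBaseChange R A A X N).symm
        ((TensorProduct.comm R N X) (n ⊗ₜ x)))) = _
  rw [TensorProduct.comm_tmul, AlgebraTensorModule.cancelBaseChange_symm_tmul,
    TensorProduct.comm_tmul, TensorProduct.congr_tmul]
  rfl

lemma EE_nat (N : ModuleCat.{u} R) {X Y : ModuleCat.{u} A} (f : X ⟶ Y)
    (t : (N : Type u) ⊗[R] (RX (R := R) X : Type u)) :
    (f.hom.lTensor (EN (A := A) N)) (EE (A := A) N X t) =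
      EE (A := A) N Y ((((ModuleCat.restrictScalars.{u} (algebraMap R A)).map f).hom.lTensor N) t) := by
  induction t using TensorProduct.induction_on with
  | zero => simp
  | add x y hx hy => simp only [map_add, hx, hy]
  | tmul n x =>
    rw [LinearMap.lTensor_tmul, EE_tmul]
    erw [EE_tmul]

/-- exactness of `(A ⊗_R N) ⊗_A K` and of `N ⊗_R K` are equivalent -/
theorem exactAt_TC_ext_iff (N : ModuleCat.{u} R) (K : DRing.Cx A) (i : ℤ) :
    ((TC (EN (A := A) N)).obj K).ExactAt i ↔
      ((TC N).obj ((DRing.restrictCx (algebraMap R A)).obj K)).ExactAt i := by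
  rw [exactAt_TC_iff _ _ (i - 1) i (i + 1) (by lia) rfl,
    exactAt_TC_iff _ _ (i - 1) i (i + 1) (by lia) rfl]
  constructor
  · intro h
    exact exact_of_ladder _ _ _ _ (EE (A := A) N (K.X (i - 1))).symm.toEquiv
      (EE (A := A) N (K.X i)).symm.toEquiv (EE (A := A) N (K.X (i + 1))).symm.toEquiv
      (map_zero (EE (A := A) N (K.X (i + 1))).symm)
      (fun t => by
        apply (EE (A := A) N (K.X i)).injective
        erw [AddEquiv.apply_symm_apply]
        obtain ⟨s, rfl⟩ := (EE (A := A) N (K.X (i - 1))).surjective t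
        erw [AddEquiv.symm_apply_apply]
        exact (EE_nat N (K.d (i - 1) i) s).symm)
      (fun t => by
        apply (EE (A := A) N (K.X (i + 1))).injective
        erw [AddEquiv.apply_symm_apply]
        obtain ⟨s, rfl⟩ := (EE (A := A) N (K.X i)).surjective t
        erw [AddEquiv.symm_apply_apply]
        exact (EE_nat N (K.d i (i + 1)) s).symm) h
  · intro h
    exact exact_of_ladder _ _ _ _ (EE (A := A) N (K.X (i - 1))).toEquiv
      (EE (A := A) N (K.X i)).toEquiv (EE (A := A) N (K.X (i + 1))).toEquiv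
      (map_zero (EE (A := A) N (K.X (i + 1))))
      (fun t => EE_nat N (K.d (i - 1) i) t) (fun t => EE_nat N (K.d i (i + 1)) t) h

end Transfer

section Main

open Groth.Agent.Lib.Helper1.Restrict Groth.Agent.Lib.Helper1.TQ Groth.Agent.Lib.Helper1.LDer

variable {R A : Type u} [CommRing R] [CommRing A] [Algebra R A]

/-- tensor-vanishing over `R` of `F ⊗_A E` for `E` K-flat and bounded -/
theorem torVan_restrict_tensor (F E : DRing.Cx A) (c d a b : ℤ)
    (hF : TorVan ((DRing.restrictCx (algebraMap R A)).obj F) c d)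
    (hE : KFlat E) (hEv : DRing.VanishesOutside E a b) :
    TorVan ((DRing.restrictCx (algebraMap R A)).obj (F ⊗ E)) (c + a) (d + b) := by
  intro N i hi
  rw [← exactAt_TC_ext_iff]
  set M := EN (A := A) N with hM
  let C : DRing.Cx A := TCx M F
  have hCle : C.IsLE d := by
    rw [CochainComplex.isLE_iff]
    exact fun j hj => (exactAt_TC_ext_iff N F j).2 (hF N j (Or.inr hj))
  have hCge : C.IsGE c := by
    rw [CochainComplex.isGE_iff]
    exact fun j hj => (exactAt_TC_ext_iff N F j).2 (hF N j (Or.inl hj))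
  have e : TCx M (F ⊗ E) ≅ C ⊗ E :=
    singleTensorIso M (F ⊗ E) ≪≫ (α_ (sgl M) F E).symm ≪≫
      whiskerRightIso (singleTensorIso M F).symm E
  have hCE : (C ⊗ E).ExactAt i := by
    rcases hi with hi | hi
    · exact exactAt_tensor_of_isGE C E c a hE (fun q hq => hEv q (Or.inl hq)) i hi
    · exact exactAt_tensor_of_isLE C E d b hE (fun q hq => hEv q (Or.inr hq)) i hi
  haveI : QuasiIsoAt e.hom i := inferInstance
  exact (exactAt_iff_of_quasiIsoAt e.hom i).2 hCE

/-- S7102: tensoring an `R`-perfect object with a bounded complex of finite projective modules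
gives an `R`-perfect object -/
theorem isRelPerfect_LTensorCx [Module.Flat R A] (E : DRing.Cx A) (a b : ℤ)
    (hEb : DRing.VanishesOutside E a b) (hEp : DRing.TermwiseFiniteProjective E)
    [DRing.HasLTensorCx A E] (M : Dual.D A) (hM : Dual2.IsRelPerfect R A M) :
    Dual2.IsRelPerfect R A ((DRing.LTensorCx A E).obj M) := by
  have hEperf : DRing.IsPerfect A (DRing.toD E) := ⟨E, a, b, hEb, hEp, ⟨Iso.refl _⟩⟩
  have hEpc : DRing.IsPseudoCoherent' A (DRing.toD E) :=
    Groth.Agent.S7019.isPC'_of_isPerfect _ hEperf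
  refine ⟨isPseudoCoherent'_LTensorCx M hM.1 E hEpc, ?_⟩
  obtain ⟨⟨F, bF, hFb, hFf, ⟨eF⟩⟩, c, d, hcd⟩ := hM
  have hFproj : ∀ i, Module.Projective A (F.X i) := fun i =>
    have := (hFf i).2
    inferInstance
  have hEproj : ∀ i, Module.Projective A (E.X i) := fun i => (hEp i).2
  haveI : F.IsKProjective := isKProjective_of_vanishesAbove F bF hFb hFproj
  haveI : E.IsKProjective :=
    isKProjective_of_vanishesAbove E b (fun i hi => hEb i (Or.inr hi)) hEproj
  obtain ⟨e⟩ := nonempty_iso_LTensorCx E M F eF E (Iso.refl _)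
  have hflat : (algebraMap R A).Flat := RingHom.flat_algebraMap_iff.2 inferInstance
  -- the restriction of `F` is a bounded above flat complex computing `M` over `R`
  set F' := (DRing.restrictCx (algebraMap R A)).obj F with hF'
  have hF'b : DRing.VanishesAbove F' bF := fun i hi =>
    (ModuleCat.restrictScalars.{u} (algebraMap R A)).map_isZero (hFb i hi)
  have hF'f : DRing.TermwiseFlat F' := fun i => by
    have := hFproj i
    have : Module.Flat A (F.X i) := inferInstance
    exact flat_restrictScalars_of_flat (algebraMap R A) hflat (F.X i)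
  obtain ⟨G, hG, hGf, ⟨eG⟩⟩ := hcd
  have eF' : Q.obj G ≅ Q.obj F' :=
    eG ≪≫ (DRing.restrictD (algebraMap R A)).mapIso eF.symm ≪≫ restrictQIso (algebraMap R A) F
  have htv : TorVan F' c d := torVan_of_iso F' G bF hF'b hF'f c d hG hGf eF'
  have hEK : KFlat E := kflat_of_isKProjective E
  have htv2 := torVan_restrict_tensor (R := R) F E c d a b htv hEK hEb
  set T' := (DRing.restrictCx (algebraMap R A)).obj (F ⊗ E) with hT'
  have hT'b : DRing.VanishesAbove T' (bF + b) := fun n hn =>
    (ModuleCat.restrictScalars.{u} (algebraMap R A)).map_isZero (by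
      apply isZero_tensor_X
      intro p q hpq
      by_cases hp : bF < p
      · exact Or.inl (hFb p hp)
      · exact Or.inr (hEb q (Or.inr (by lia))))
  have hT'f : DRing.TermwiseFlat T' := fun n => by
    have := projective_tensor_X F E hFproj hEproj n
    have : Module.Flat A ((F ⊗ E).X n) := inferInstance
    exact flat_restrictScalars_of_flat (algebraMap R A) hflat ((F ⊗ E).X n)
  refine ⟨c + a, d + b, ?_⟩
  have h1 := hasTorAmp_of_torVan T' (bF + b) hT'b hT'f (c + a) (d + b) htv2
  exact hasTorAmp_of_iso ((restrictQIso (algebraMap R A) (F ⊗ E)).symm ≪≫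
    (DRing.restrictD (algebraMap R A)).mapIso e.symm) h1

end Main

end Groth.Agent.Lib.Helper1.RelPT
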