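import Mathlib
import Groth.Agent.Lib.Helper1KBC1
import Groth.Agent.Lib.Helper1RelPT
import Groth.Agent.Lib.Helper1TorO
set_option backward.isDefEq.respectTransparency.types false

/-!
# Tor amplitude of `K ⊗^L_B L` over a base ring `A` (helper1)
-/

set_option autoImplicit false
set_option linter.style.haveILetI false
set_option maxHeartbeats 400000
universe u
open CategoryTheory CategoryTheory.Limits MonoidalCategory HomologicalComplex TensorProduct
attribute [local instance] HasDerivedCategory.standard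

namespace Groth.Agent.Lib.Helper1.TorT

open DerivedCategory Groth.Agent.Lib.Helper1.KF Groth.Agent.Lib.Helper1.Tor
  Groth.Agent.Lib.Helper1.DT Groth.Agent.Lib.Helper1.TensPerf Groth.Agent.Lib.Helper1.KBC
  Groth.Agent.Lib.Helper1.Restrict Groth.Agent.Lib.Helper1.BKF

section PF

variable {R R' : Type u} [CommRing R] [CommRing R'] (φ : R →+* R')

/-- the projection formula for complexes: `res (L ⊗ ext K) ≅ res L ⊗ K` -/
theorem nonempty_pfCxIso (L : CochainComplex (ModuleCat.{u} R') ℤ)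
    (K : CochainComplex (ModuleCat.{u} R) ℤ) :
    Nonempty (((res φ).mapHomologicalComplex (ComplexShape.up ℤ)).obj
        (L ⊗ ((ext φ).mapHomologicalComplex (ComplexShape.up ℤ)).obj K) ≅
      (((res φ).mapHomologicalComplex (ComplexShape.up ℤ)).obj L) ⊗ K) := by
  haveI h1 : ((TotMap.map₂ (res φ) (ComplexShape.up ℤ) (ComplexShape.up ℤ)).obj
      (B₁ φ L K)).HasTotal (ComplexShape.up ℤ) :=
    TotMap.hasTotal_map₂ (res φ) (B₁ φ L K) (ComplexShape.up ℤ)
  let e₂ : (TotMap.map₂ (res φ) (ComplexShape.up ℤ) (ComplexShape.up ℤ)).obj (B₁ φ L K) ≅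
      (((F₂ φ).mapBifunctorHomologicalComplex (ComplexShape.up ℤ)
        (ComplexShape.up ℤ)).obj L).obj K :=
    (TotMap.map₂ (res φ) (ComplexShape.up ℤ) (ComplexShape.up ℤ)).mapIso
        (precompIso₂ (curriedTensor (ModuleCat.{u} R')) (ext φ) L K) ≪≫
      (TotMap.mapBifunctorPostcompIso (F₁ φ) (res φ) L K).symm
  haveI h2 : HasMapBifunctor L K (F₂ φ) (ComplexShape.up ℤ) :=
    HomologicalComplex₂.hasTotal_of_iso e₂ (ComplexShape.up ℤ)
  let e₄ : B₄ φ L K ≅ (((F₃ φ).mapBifunctorHomologicalComplex (ComplexShape.up ℤ)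
        (ComplexShape.up ℤ)).obj L).obj K :=
    precompIso₁ (curriedTensor (ModuleCat.{u} R)) (res φ) L K
  haveI h3 : HasMapBifunctor L K (F₃ φ) (ComplexShape.up ℤ) :=
    HomologicalComplex₂.hasTotal_of_iso e₄ (ComplexShape.up ℤ)
  have iso := TotMap.mapTotalIso (res φ) (B₁ φ L K) (ComplexShape.up ℤ) ≪≫
    HomologicalComplex₂.total.mapIso e₂ (ComplexShape.up ℤ) ≪≫
    TotMap.mapBifunctorNatIso L K (ComplexShape.up ℤ) (pfIso φ).symm ≪≫
    (HomologicalComplex₂.total.mapIso e₄ (ComplexShape.up ℤ)).symm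
  exact ⟨iso⟩

end PF

section Main

variable {A B : Type u} [CommRing A] [CommRing B] [Algebra A B]

lemma exactAt_of_iso {R : Type u} [CommRing R] {X Y : Cx R} (e : X ≅ Y) (i : ℤ) :
    X.ExactAt i ↔ Y.ExactAt i := by
  haveI : QuasiIsoAt e.hom i := inferInstance
  exact exactAt_iff_of_quasiIsoAt e.hom i

lemma exactAt_of_quasiIso {R : Type u} [CommRing R] {X Y : Cx R} (f : X ⟶ Y) [QuasiIso f] (i : ℤ) :
    X.ExactAt i ↔ Y.ExactAt i := by
  haveI : QuasiIsoAt f i := inferInstance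
  exact exactAt_iff_of_quasiIsoAt f i

/-- `L ⊗_B (B ⊗_A N')` has cohomology in `[c, d]` when `L|_A` has tor amplitude in `[c, d]` and
`N'` resolves a module -/
lemma exactAt_tensor_ext_of_hasTorAmp (L : Cx B) (c d : ℤ)
    (hL : DRing.HasTorAmplitudeIn A c d (Q.obj ((DRing.restrictCx (algebraMap A B)).obj L)))
    (N : ModuleCat.{u} A) (N' : Cx A) [N'.IsKProjective] (ν : N' ⟶ sgl N) [QuasiIso ν] (j : ℤ)
    (hj : j < c ∨ d < j) :
    (L ⊗ ((ext (algebraMap A B)).mapHomologicalComplex (ComplexShape.up ℤ)).obj N').ExactAt j := by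
  rw [← exactAt_restrict_iff (algebraMap A B)]
  obtain ⟨e⟩ := nonempty_pfCxIso (algebraMap A B) L N'
  refine (exactAt_of_iso e j).2 ?_
  obtain ⟨G, hG, hGf, ⟨eG⟩⟩ := hL
  set rL := ((res (algebraMap A B)).mapHomologicalComplex (ComplexShape.up ℤ)).obj L with hrL
  obtain ⟨P, p, hP, -, hp, -⟩ := exists_kprojective_resolution rL
  have hpi : IsIso (Q.map p) := (DerivedCategory.isIso_Q_map_iff_quasiIso (φ := p)).2 hp
  obtain ⟨g, hg⟩ := Q_map_surjective P G (Q.map p ≫ eG.inv)
  have hgi : IsIso (Q.map g) := by rw [hg]; infer_instance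
  have hgq : QuasiIso g := (DerivedCategory.isIso_Q_map_iff_quasiIso (φ := g)).1 hgi
  have hN' : KFlat N' := kflat_of_isKProjective N'
  have q1 : QuasiIso (p ▷ N') := quasiIso_whiskerRight_of_kflat p N' hN'
  have q2 : QuasiIso (g ▷ N') := quasiIso_whiskerRight_of_kflat g N' hN'
  have hGK : KFlat G := kflat_of_boundedAbove_flat G d (fun q hq => hG q (Or.inr hq)) hGf
  have q3 : QuasiIso (G ◁ ν) := quasiIso_whiskerLeft_of_kflatL ν G hGK.kflatL
  have hz : IsZero ((G ⊗ sgl N).X j) := by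
    apply isZero_tensor_X
    intro p q hpq
    by_cases hq : q = 0
    · subst hq
      exact Or.inl (hG p (by rcases hj with hj | hj <;> [left; right] <;> lia))
    · exact Or.inr (HomologicalComplex.isZero_single_obj_X (ComplexShape.up ℤ) 0 N q hq)
  have h0 : (G ⊗ sgl N).ExactAt j := ShortComplex.exact_of_isZero_X₂ _ hz
  have h1 : (G ⊗ N').ExactAt j := (exactAt_of_quasiIso (G ◁ ν) j).2 h0
  have h2 : (P ⊗ N').ExactAt j := (exactAt_of_quasiIso (g ▷ N') j).2 h1
  exact (exactAt_of_quasiIso (p ▷ N') j).1 h2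

/-- tensor-vanishing over `A` of a K-flat model of `(E ⊗_B L)|_A` -/
theorem torVan_of_kflat_resolution (E L : Cx B) (a b c d : ℤ) (hE : KFlat E)
    (hEv : DRing.VanishesOutside E a b)
    (hL : DRing.HasTorAmplitudeIn A c d (Q.obj ((DRing.restrictCx (algebraMap A B)).obj L)))
    (F' : Cx A) (hF' : KFlat F')
    (q : F' ⟶ ((res (algebraMap A B)).mapHomologicalComplex (ComplexShape.up ℤ)).obj (E ⊗ L))
    [QuasiIso q] :
    TorVan F' (a + c) (b + d) := by
  intro N i hi
  obtain ⟨N', ν, hN', -, hν, -⟩ := exists_kprojective_resolution (sgl N)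
  have hN'K : KFlat N' := kflat_of_isKProjective N'
  set eN' := ((ext (algebraMap A B)).mapHomologicalComplex (ComplexShape.up ℤ)).obj N' with heN'
  set W := L ⊗ eN' with hW
  haveI : W.IsLE d := by
    rw [CochainComplex.isLE_iff]
    exact fun j hj => exactAt_tensor_ext_of_hasTorAmp L c d hL N N' ν j (Or.inr hj)
  haveI : W.IsGE c := by
    rw [CochainComplex.isGE_iff]
    exact fun j hj => exactAt_tensor_ext_of_hasTorAmp L c d hL N N' ν j (Or.inl hj)
  have hWE : (W ⊗ E).ExactAt i := by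
    rcases hi with hi | hi
    · exact Groth.Agent.Lib.Helper1.RelPT.exactAt_tensor_of_isGE W E c a hE
        (fun q hq => hEv q (Or.inl hq)) i (by lia)
    · exact Groth.Agent.Lib.Helper1.RelPT.exactAt_tensor_of_isLE W E d b hE
        (fun q hq => hEv q (Or.inr hq)) i (by lia)
  have h1 : (E ⊗ W).ExactAt i := (exactAt_of_iso (DTen.braidCx E W) i).2 hWE
  have h2 : ((E ⊗ L) ⊗ eN').ExactAt i := (exactAt_of_iso (α_ E L eN') i).2 h1
  obtain ⟨e⟩ := nonempty_pfCxIso (algebraMap A B) (E ⊗ L) N'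
  have h3 := (exactAt_of_iso e i).1 ((exactAt_restrict_iff (algebraMap A B) _ i).2 h2)
  have h4 := (exactAt_of_iso (DTen.braidCx N'
    (((res (algebraMap A B)).mapHomologicalComplex (ComplexShape.up ℤ)).obj (E ⊗ L))) i).2 h3
  have q1 : QuasiIso (ν ▷ F') := quasiIso_whiskerRight_of_kflat ν F' hF'
  have q2 : QuasiIso (N' ◁ q) := quasiIso_whiskerLeft_of_kflatL q N' hN'K.kflatL
  have h5 : (N' ⊗ F').ExactAt i := (exactAt_of_quasiIso (N' ◁ q) i).2 h4
  have h6 : (sgl N ⊗ F').ExactAt i := (exactAt_of_quasiIso (ν ▷ F') i).1 h5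
  exact (exactAt_of_iso (singleTensorIso N F') i).2 h6

open Groth.Agent.Lib.Helper1.TorL Groth.Agent.Lib.Helper1.TorO in
/-- S6953: tor amplitude of `(K ⊗^L_B L)|_A` -/
theorem hasTorAmp_restrict_LTensorCx (K : Dual.D B) (a b c d : ℤ)
    (hK : DRing.HasTorAmplitudeIn B a b K) (L : DRing.Cx B)
    (hL : DRing.HasTorAmplitudeIn A c d
      (DRing.toD ((DRing.restrictCx (algebraMap A B)).obj L)))
    [DRing.HasLTensorCx B L] :
    DRing.HasTorAmplitudeIn A (a + c) (b + d)
      ((DRing.restrictD (algebraMap A B)).obj ((DRing.LTensorCx B L).obj K)) := by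
  obtain ⟨E, hEv, hEf, ⟨eK⟩⟩ := hK
  have hE : KFlat E := kflat_of_boundedAbove_flat E b (fun q hq => hEv q (Or.inr hq)) hEf
  obtain ⟨P, π, hP, -, hπ, -⟩ := exists_kprojective_resolution E
  have hPK : KFlat P := kflat_of_isKProjective P
  obtain ⟨L', l, hL', -, hl, -⟩ := exists_kprojective_resolution L
  have hL'K : KFlat L' := kflat_of_isKProjective L'
  have s1 : QuasiIso (π ▷ L') := quasiIso_whiskerRight_of_kflat π L' hL'K
  have s2 : QuasiIso (P ◁ l) := quasiIso_whiskerLeft_of_kflatL l P hPK.kflatL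
  have s3 : QuasiIso (E ◁ l) := quasiIso_whiskerLeft_of_kflatL l E hE.kflatL
  have s4 : QuasiIso (π ▷ L) := by
    have hcomm : (P ◁ l) ≫ (π ▷ L) = (π ▷ L') ≫ (E ◁ l) := whisker_exchange π l
    have : QuasiIso ((P ◁ l) ≫ (π ▷ L)) := by rw [hcomm]; infer_instance
    exact quasiIso_of_comp_left (P ◁ l) (π ▷ L)
  have i1 : IsIso (Q.map π) := (DerivedCategory.isIso_Q_map_iff_quasiIso (φ := π)).2 hπ
  have i2 : IsIso (Q.map (π ▷ L)) := (DerivedCategory.isIso_Q_map_iff_quasiIso (φ := π ▷ L)).2 s4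
  have := isIso_counit_LTensorCx L P
  have iso1 : (DRing.LTensorCx B L).obj K ≅ Q.obj (E ⊗ L) :=
    (DRing.LTensorCx B L).mapIso (eK.symm ≪≫ (asIso (Q.map π)).symm) ≪≫
      asIso (((DRing.tensorCxQ B L).totalLeftDerivedCounit Q
        (HomologicalComplex.quasiIso (ModuleCat.{u} B) (ComplexShape.up ℤ))).app P) ≪≫
      asIso (Q.map (π ▷ L))
  obtain ⟨F', q, hF', -, hq, -⟩ := exists_kprojective_resolution
    (((res (algebraMap A B)).mapHomologicalComplex (ComplexShape.up ℤ)).obj (E ⊗ L))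
  have hF'K : KFlat F' := kflat_of_isKProjective F'
  have htv := torVan_of_kflat_resolution E L a b c d hE hEv hL F' hF'K q
  have h1 := hasTorAmp_of_torVan_kflat F' hF'K _ _ htv
  have i3 : IsIso (Q.map q) := (DerivedCategory.isIso_Q_map_iff_quasiIso (φ := q)).2 hq
  refine hasTorAmp_of_iso ?_ h1
  exact asIso (Q.map q) ≪≫ (restrictQIso (algebraMap A B) (E ⊗ L)).symm ≪≫
    (DRing.restrictD (algebraMap A B)).mapIso iso1.symm

end Main

end Groth.Agent.Lib.Helper1.TorT
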