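import Mathlib
import Groth.Agent.Lib.Helper1KF4
import Groth.Agent.Lib.Helper1KF10
import Groth.Agent.Lib.Helper1KF12
import Groth.Agent.Lib.Helper1DT5
import Groth.Agent.Lib.Helper1TorH
import Groth.Agent.Lib.Helper1TorT
set_option backward.isDefEq.respectTransparency.types false

/-!
# Tor independent base change, complex level (helper10)
-/

set_option autoImplicit false
set_option linter.style.haveILetI false
set_option maxHeartbeats 400000
universe u
open CategoryTheory CategoryTheory.Limits MonoidalCategory HomologicalComplex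

namespace Groth.Agent.Lib.Helper10.TrivBCA

open Groth.Agent.Lib.Helper1.KF CochainComplex

section cone

variable {R : Type u} [CommRing R] {X Y : Cx R} (f : X ⟶ Y)

/-- if `K ⊗ cone f` is acyclic then `K ◁ f` is a quasi-isomorphism -/
theorem quasiIso_whiskerLeft_of_acyc (K : Cx R) (h₂ : Acyc (K ⊗ mappingCone f)) :
    QuasiIso (K ◁ f) := by
  let ψ := (tensorLeft K).mapShortComplex.map (coneMap f)
  have hτ₃ : QuasiIso ψ.τ₃ := by
    have e : ψ.τ₃ = 𝟙 (K ⊗ (X⟦(1 : ℤ)⟧)) := by
      show K ◁ (coneMap f).τ₃ = 𝟙 _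
      rw [coneMap_τ₃]
      exact MonoidalCategory.whiskerLeft_id _ _
    have h : QuasiIso (𝟙 (K ⊗ (X⟦(1 : ℤ)⟧))) := inferInstance
    rw [e]; exact h
  have h₁ : Acyc (K ⊗ mappingCone (𝟙 X)) :=
    acyc_of_homotopy_id_zero
      ((Homotopy.ofEq (MonoidalCategory.whiskerLeft_id K _).symm).trans
        ((mapBifunctorMapHomotopy₂ (𝟙 K) (mappingCone.homotopyToZeroOfId X)
          (curriedTensor (ModuleCat.{u} R)) (ComplexShape.up ℤ)).trans
          (Homotopy.ofEq (by
            rw [← whiskerLeft_eq]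
            exact (tensorLeft K).map_zero _ _))))
  exact quasiIso_τ₁_of_acyclic_middle ψ (cone_tensorLeft_shortExact (𝟙 X) K)
    (cone_tensorLeft_shortExact f K) h₁ h₂

/-- if `K ◁ f` is a quasi-isomorphism then `K ⊗ cone f` is acyclic -/
theorem acyc_tensor_cone_of_quasiIso_whiskerLeft (K : Cx R) (hq : QuasiIso (K ◁ f)) :
    Acyc (K ⊗ mappingCone f) := by
  let ψ := (tensorLeft K).mapShortComplex.map (coneMap f)
  have hτ₃ : QuasiIso ψ.τ₃ := by
    have e : ψ.τ₃ = 𝟙 (K ⊗ (X⟦(1 : ℤ)⟧)) := by
      show K ◁ (coneMap f).τ₃ = 𝟙 _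
      rw [coneMap_τ₃]
      exact MonoidalCategory.whiskerLeft_id _ _
    have h : QuasiIso (𝟙 (K ⊗ (X⟦(1 : ℤ)⟧))) := inferInstance
    rw [e]; exact h
  have hτ₁ : QuasiIso ψ.τ₁ := hq
  have h₁ : Acyc (K ⊗ mappingCone (𝟙 X)) :=
    acyc_of_homotopy_id_zero
      ((Homotopy.ofEq (MonoidalCategory.whiskerLeft_id K _).symm).trans
        ((mapBifunctorMapHomotopy₂ (𝟙 K) (mappingCone.homotopyToZeroOfId X)
          (curriedTensor (ModuleCat.{u} R)) (ComplexShape.up ℤ)).trans
          (Homotopy.ofEq (by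
            rw [← whiskerLeft_eq]
            exact (tensorLeft K).map_zero _ _))))
  intro j
  exact acyclic_middle_of_quasiIso ψ (cone_tensorLeft_shortExact (𝟙 X) K)
    (cone_tensorLeft_shortExact f K) h₁ j

end cone

section coneExact

variable {C : Type*} [Category C] [Abelian C] {X Y : CochainComplex C ℤ} (f : X ⟶ Y)

/-- degreewise exactness of the mapping cone -/
lemma exactAt_mappingCone (n : ℤ) (hX : X.ExactAt (n + 1)) (hY : Y.ExactAt n) :
    (mappingCone f).ExactAt n := by
  rw [exactAt_iff_isZero_homology] at hX hY ⊢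
  have hS : (mappingCone.triangleRotateShortComplex f).ShortExact :=
    shortExact_of_degreewise_shortExact _
      (fun n => (mappingCone.triangleRotateShortComplexSplitting f n).shortExact)
  have h3 : IsZero ((X⟦(1 : ℤ)⟧).homology n) :=
    IsZero.of_iso hX (((homologyFunctor C (ComplexShape.up ℤ) 0).shiftIso 1 n (n + 1)
      (by abel)).app X)
  exact (hS.homology_exact₂ n).isZero_of_both_zeros (hY.eq_of_src _ _) (h3.eq_of_tgt _ _)

end coneExact

section rightExact

open Groth.Agent.Lib.Helper1.Tor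

variable {R : Type u} [CommRing R]

/-- right exactness of the tensor product, top degree -/
lemma exactAt_TC_top (E : Cx R) (b : ℤ) (hb : ∀ q : ℤ, b < q → IsZero (E.X q))
    (h0 : E.ExactAt b) (M : ModuleCat.{u} R) : ((TC M).obj E).ExactAt b := by
  rw [exactAt_TC_iff M E (b - 1) b (b + 1) (by lia) rfl]
  rw [exactAt_iff_fexact E (b - 1) b (b + 1) (by lia) rfl] at h0
  have hz : IsZero (E.X (b + 1)) := hb _ (by lia)
  have := ModuleCat.subsingleton_of_isZero hz
  have hs : Function.Surjective (E.d (b - 1) b).hom := fun y =>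
    (h0 y).1 (Subsingleton.elim _ _)
  have hs' := LinearMap.lTensor_surjective M hs
  intro y
  constructor
  · intro _
    exact hs' y
  · intro _
    exact Subsingleton.elim _ _

/-- right exactness of the tensor product, next to top degree -/
lemma exactAt_TC_top' (E : Cx R) (b : ℤ) (hb : ∀ q : ℤ, b < q → IsZero (E.X q))
    (h0 : E.ExactAt b) (h1 : E.ExactAt (b - 1)) (M : ModuleCat.{u} R) :
    ((TC M).obj E).ExactAt (b - 1) := by
  rw [exactAt_TC_iff M E (b - 1 - 1) (b - 1) b (by lia) (by lia)]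
  rw [exactAt_iff_fexact E (b - 1) b (b + 1) (by lia) rfl] at h0
  rw [exactAt_iff_fexact E (b - 1 - 1) (b - 1) b (by lia) (by lia)] at h1
  have hz : IsZero (E.X (b + 1)) := hb _ (by lia)
  have := ModuleCat.subsingleton_of_isZero hz
  have hs : Function.Surjective (E.d (b - 1) b).hom := fun y =>
    (h0 y).1 (Subsingleton.elim _ _)
  exact lTensor_exact M h1 hs

end rightExact

section TI

open Groth.Agent.Lib.Helper1.Tor Groth.Agent.Lib.Helper1.DT DTen Groth.Agent.Lib.Helper1.TorT

variable {R A : Type u} [CommRing R] [CommRing A]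

/-- Tor vanishing makes the tensored augmented resolution acyclic -/
theorem acyc_TC_cone (M N : ModuleCat.{u} R) (P : ProjectiveResolution N)
    (htor : ∀ q : ℕ, Subsingleton (DRing.Tor R (q + 1) M N)) :
    Acyc ((TC M).obj (mappingCone P.π')) := by
  intro n
  rw [← exactAt_iff_isZero_homology]
  have hEacyc : ∀ j, (mappingCone P.π').ExactAt j := fun j => by
    rw [exactAt_iff_isZero_homology]
    exact acyc_cone_of_quasiIso P.π' j
  have hEb : ∀ q : ℤ, 0 < q → IsZero ((mappingCone P.π').X q) := fun q hq => by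
    rw [CochainComplex.mappingCone.isZero_X_iff]
    exact ⟨CochainComplex.isZero_of_isStrictlyLE _ 0 _ (by lia),
      isZero_single_obj_X (ComplexShape.up ℤ) 0 N q (by lia)⟩
  by_cases h1 : 0 < n
  · exact exactAt_of_isZero_X _ n ((T M).map_isZero (hEb n h1))
  by_cases h2 : n = 0
  · subst h2
    exact exactAt_TC_top _ 0 hEb (hEacyc 0) M
  by_cases h3 : n = -1
  · subst h3
    exact exactAt_TC_top' _ 0 hEb (hEacyc 0) (hEacyc _) M
  have e := mappingCone.mapHomologicalComplexIso P.π' (T M)
  refine (exactAt_of_iso e n).2 ?_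
  apply exactAt_mappingCone
  · obtain ⟨q, hq⟩ : ∃ q : ℕ, n + 1 = -((q + 1 : ℕ) : ℤ) := ⟨(-(n + 2)).toNat, by
      push_cast
      rw [Int.toNat_of_nonneg (by lia)]
      ring⟩
    rw [hq]
    exact exactAt_TC_of_subsingleton_tor M N P q (htor q)
  · exact exactAt_of_isZero_X _ n
      ((T M).map_isZero (isZero_single_obj_X (ComplexShape.up ℤ) 0 N n (by lia)))

/-- Tor independence makes the base change of the augmented resolution acyclic -/
theorem acyc_extCx_cone (φ : R →+* A) (N : ModuleCat.{u} R) (P : ProjectiveResolution N)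
    (htor : ∀ q : ℕ, Subsingleton (DRing.Tor R (q + 1) (resA φ) N)) :
    Acyc ((extCx φ).obj (mappingCone P.π')) := by
  intro n
  rw [← exactAt_iff_isZero_homology, exactAt_extCx_iff, exactAt_iff_isZero_homology]
  exact acyc_TC_cone (resA φ) N P htor n

end TI

section key

open Groth.Agent.Lib.Helper1.Tor Groth.Agent.Lib.Helper1.DT DTen Groth.Agent.Lib.Helper1.TorT
  Groth.Agent.Lib.Helper1.KBC

variable {R A R' : Type u} [CommRing R] [CommRing A] [CommRing R']

/-- the key step: tensoring with `S` preserves a K-flat resolution of a restricted K-flat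
complex under Tor independence -/
theorem quasiIso_whiskerRight_sgl (φ : R →+* A)
    (S : ModuleCat.{u} R) (G : Cx R) (hG : KFlat G) (ν : G ⟶ sgl S) (hν : QuasiIso ν)
    (hTI : Acyc ((extCx φ).obj (mappingCone ν)))
    (P : Cx A) (hP : KFlat P) (F : Cx R) (hF : KFlat F) (π : F ⟶ (resCx φ).obj P)
    [QuasiIso π] : QuasiIso (π ▷ sgl S) := by
  have h1 : Acyc (P ⊗ (extCx φ).obj (mappingCone ν)) := hP.kflatL _ hTI
  obtain ⟨e⟩ := nonempty_pfCxIso φ P (mappingCone ν)
  have h2 : Acyc ((resCx φ).obj P ⊗ mappingCone ν) :=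
    Acyc.of_iso e (fun i => Groth.Agent.Lib.Helper1.BKF.acyc_map_of_acyc (res φ) _
      (fun i => h1 i) i)
  have q1 : QuasiIso ((resCx φ).obj P ◁ ν) := quasiIso_whiskerLeft_of_acyc ν _ h2
  have q2 : QuasiIso (F ◁ ν) := quasiIso_whiskerLeft_of_kflatL ν F hF.kflatL
  have q3 : QuasiIso (π ▷ G) := quasiIso_whiskerRight_of_kflat π G hG
  have sq : (F ◁ ν) ≫ (π ▷ sgl S) = (π ▷ G) ≫ ((resCx φ).obj P ◁ ν) := whisker_exchange π ν
  have q4 : QuasiIso ((F ◁ ν) ≫ (π ▷ sgl S)) := by
    rw [sq]
    infer_instance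
  exact quasiIso_of_comp_left (F ◁ ν) (π ▷ sgl S)

/-- extension of scalars along `ρ` preserves a K-flat resolution of a restricted K-flat
complex under Tor independence -/
theorem quasiIso_extCx_map (φ : R →+* A) (ρ : R →+* R')
    (G : Cx R) (hG : KFlat G) (ν : G ⟶ sgl (resA ρ)) (hν : QuasiIso ν)
    (hTI : Acyc ((extCx φ).obj (mappingCone ν)))
    (P : Cx A) (hP : KFlat P) (F : Cx R) (hF : KFlat F) (π : F ⟶ (resCx φ).obj P)
    [QuasiIso π] : QuasiIso ((extCx ρ).map π) := by
  have q1 := quasiIso_whiskerRight_sgl φ (resA ρ) G hG ν hν hTI P hP F hF π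
  have q2 : QuasiIso (sgl (resA ρ) ◁ π) :=
    (quasiIso_whiskerLeft_iff_whiskerRight (sgl (resA ρ)) π).2 q1
  have h3 : Acyc (sgl (resA ρ) ⊗ mappingCone π) :=
    acyc_tensor_cone_of_quasiIso_whiskerLeft π _ q2
  have h4 : Acyc (TCx (resA ρ) (mappingCone π)) :=
    Acyc.of_iso (singleTensorIso (resA ρ) (mappingCone π)).symm h3
  apply quasiIso_of_acyc_cone
  refine Acyc.of_iso
    (mappingCone.mapHomologicalComplexIso π (ModuleCat.extendScalars.{u, u, u} ρ)) ?_
  intro n
  rw [← exactAt_iff_isZero_homology, exactAt_extCx_iff, exactAt_iff_isZero_homology]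
  exact h4 n

end key

section alg

open Groth.Agent.Lib.Helper1.Tor Groth.Agent.Lib.Helper1.DT DTen Groth.Agent.Lib.Helper1.TorT

variable (R A R' : Type u) [CommRing R] [CommRing A] [CommRing R'] [Algebra R A] [Algebra R R']

/-- an algebra as a module, versus the restriction of scalars of the regular module -/
noncomputable def algEquiv :
    (ModuleCat.of R A : ModuleCat.{u} R) ≃ₗ[R] (resA (algebraMap R A) : ModuleCat.{u} R) where
  toFun a := a
  invFun a := a
  map_add' _ _ := rfl
  map_smul' r a := Algebra.smul_def r a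
  left_inv _ := rfl
  right_inv _ := rfl

/-- an algebra as a module, versus the restriction of scalars of the regular module -/
noncomputable def algIso : ModuleCat.of R A ≅ resA (algebraMap R A) :=
  (algEquiv R A).toModuleIso

lemma subsingleton_tor_resA (p : ℕ) (h : Subsingleton (DRing.Tor R p A R')) :
    Subsingleton (DRing.Tor R p (resA (algebraMap R A)) (resA (algebraMap R R'))) := by
  let e : ((Tor (ModuleCat.{u} R) p).obj (ModuleCat.of R A)).obj (ModuleCat.of R R') ≅
      ((Tor (ModuleCat.{u} R) p).obj (resA (algebraMap R A))).obj (resA (algebraMap R R')) :=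
    ((Tor (ModuleCat.{u} R) p).mapIso (algIso R A)).app (ModuleCat.of R R') ≪≫
      ((Tor (ModuleCat.{u} R) p).obj (resA (algebraMap R A))).mapIso (algIso R R')
  haveI : Subsingleton
      (((Tor (ModuleCat.{u} R) p).obj (ModuleCat.of R A)).obj (ModuleCat.of R R')) := h
  exact (e.toLinearEquiv.symm.toEquiv).subsingleton

variable {R A R'}

/-- Tor independent base change, complex level: extension of scalars along `R → R'` preserves
a K-flat resolution over `R` of a K-flat complex over `A`. -/
theorem quasiIso_extCx_map_of_tor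
    (htor : ∀ p : ℕ, 1 ≤ p → Subsingleton (DRing.Tor R p A R'))
    (P : Cx A) (hP : KFlat P) (F : Cx R) (hF : KFlat F)
    (π : F ⟶ (resCx (algebraMap R A)).obj P) [QuasiIso π] :
    QuasiIso ((extCx (algebraMap R R')).map π) := by
  obtain ⟨PR⟩ : Nonempty (ProjectiveResolution (resA (algebraMap R R'))) :=
    ⟨projectiveResolution _⟩
  have hG : KFlat PR.cochainComplex := kflat_of_isKProjective _
  have hTI : Acyc ((extCx (algebraMap R A)).obj (mappingCone PR.π')) :=
    acyc_extCx_cone (algebraMap R A) _ PR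
      (fun q => subsingleton_tor_resA R A R' (q + 1) (htor (q + 1) (by lia)))
  have hq : QuasiIso PR.π' := inferInstance
  exact quasiIso_extCx_map (algebraMap R A) (algebraMap R R') PR.cochainComplex hG PR.π' hq hTI
    P hP F hF π

end alg

end Groth.Agent.Lib.Helper10.TrivBCA
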