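import Mathlib
import Groth.Prelude.Def_TrivBC
import Groth.Agent.Lib.Helper1LDer7
import Groth.Agent.Lib.Helper1LBC
import Groth.Agent.Lib.Helper1DT4
import Groth.Agent.Lib.Helper10TrivBCA
set_option backward.isDefEq.respectTransparency.types false

/-!
# Tor independent base change: the comparison map `TrivBC.cmp` (helper10)
-/

set_option autoImplicit false
set_option linter.style.haveILetI false
set_option maxHeartbeats 400000
universe u
open CategoryTheory CategoryTheory.Limits
attribute [local instance] HasDerivedCategory.standard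

namespace Groth.Agent.Lib.Helper10.TrivBCB

open Groth.Agent.Lib.Helper1 Groth.Agent.Lib.Helper1.LDer Groth.Agent.Lib.Helper1.DT DTen
  Groth.Agent.Lib.Helper1.KF DerivedCategory

section CanAdj

variable {R A : Type u} [CommRing R] [CommRing A] (φ : R →+* A) [DRing.HasLBaseChange φ]

/-- a base change adjunction compatible with the termwise adjunction -/
structure CanAdj where
  /-- the adjunction -/
  adj : DRing.LBaseChange φ ⊣ DRing.restrictD φ
  hη : ∀ X : DRing.Cx R, adj.unit.app (Q.obj X) ≫ (DRing.restrictD φ).map ((lbcCounit φ).app X) =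
      Q.map ((extResAdj φ).unit.app X) ≫ (resFactors φ).inv.app ((extCx φ).obj X)
  hε : ∀ Y : DRing.Cx A, (DRing.LBaseChange φ).map ((resFactors φ).inv.app Y) ≫
      adj.counit.app (Q.obj Y) =
      (lbcCounit φ).app ((resCx φ).obj Y) ≫ Q.map ((extResAdj φ).counit.app Y)

theorem nonempty_canAdj : Nonempty (CanAdj φ) := by
  let W₁ := HomologicalComplex.quasiIso (ModuleCat.{u} R) (ComplexShape.up ℤ)
  let W₂ := HomologicalComplex.quasiIso (ModuleCat.{u} A) (ComplexShape.up ℤ)
  let α : Q ⋙ DRing.LBaseChange φ ⟶ extCx φ ⋙ Q := lbcCounit φ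
  let β : resCx φ ⋙ Q ⟶ Q ⋙ DRing.restrictD φ := (resFactors φ).inv
  have hres : ∀ X : DRing.Cx R, ∃ (Y : DRing.Cx R) (r : Y ⟶ X),
      (fun P : DRing.Cx R => P.IsKProjective) Y ∧ IsIso (Q.map r) := fun X => by
    obtain ⟨P, π, hP, -, hπ, -⟩ := exists_kprojective_resolution X
    exact ⟨P, π, hP, (DerivedCategory.isIso_Q_map_iff_quasiIso (φ := π)).2 hπ⟩
  have hsurj : ∀ Y : DRing.Cx R, (fun P : DRing.Cx R => P.IsKProjective) Y → ∀ X,
      Function.Surjective (Q.map : (Y ⟶ X) → (Q.obj Y ⟶ Q.obj X)) := fun Y hY X => by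
    haveI : Y.IsKProjective := hY
    exact Q_map_surjective Y X
  haveI h1 : (DRing.LBaseChange φ).IsLeftDerivedFunctor α W₁ :=
    LDerRes.isLeftDerivedFunctor_of_isIso_of_surjective Q W₁ (extCx φ ⋙ Q)
      (fun P : DRing.Cx R => P.IsKProjective) hres hsurj _ α
      (fun Y hY => by
        haveI : Y.IsKProjective := hY
        exact isIso_lbcCounit_app φ Y)
  haveI h2 : (DRing.restrictD φ).IsRightDerivedFunctor β W₂ :=
    Functor.isRightDerivedFunctor_of_inverts W₂ _ (resFactors φ)
  haveI h3 : (DRing.LBaseChange φ ⋙ DRing.restrictD φ).IsLeftDerivedFunctor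
      ((Functor.associator _ _ _).inv ≫ Functor.whiskerRight α (DRing.restrictD φ)) W₁ :=
    LDerRes.isLeftDerivedFunctor_of_isIso_of_surjective Q W₁ _
      (fun P : DRing.Cx R => P.IsKProjective) hres hsurj _ _
      (fun Y hY => by
        haveI : Y.IsKProjective := hY
        haveI := isIso_lbcCounit_app φ Y
        simp only [NatTrans.comp_app, Functor.associator_inv_app, Functor.whiskerRight_app,
          Category.id_comp]
        infer_instance)
  haveI h4 : (DRing.restrictD φ ⋙ DRing.LBaseChange φ).IsRightDerivedFunctor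
      (Functor.whiskerRight β (DRing.LBaseChange φ) ≫ (Functor.associator _ _ _).hom) W₂ :=
    Functor.isRightDerivedFunctor_of_inverts W₂ _
      ((Functor.associator _ _ _).symm ≪≫ Functor.isoWhiskerRight (resFactors φ) _)
  exact ⟨{ adj := (extResAdj φ).derived W₁ W₂ α β
           hη := fun X => Adjunction.derivedη_fac_app (extResAdj φ) W₁ α β X
           hε := fun Y => Adjunction.derivedε_fac_app (extResAdj φ) W₂ α β Y }⟩

end CanAdj

section Change

variable {R A R' A' : Type u} [CommRing R] [CommRing A] [CommRing R'] [CommRing A']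
  {φ : R →+* A} {ρ : R →+* R'} {α : A →+* A'} {φ' : R' →+* A'}
  [DRing.HasLBaseChange ρ] [DRing.HasLBaseChange α]

/-- changing the adjunction data changes `cmp` by isomorphisms -/
theorem cmp_change (adjρ adjρ' : DRing.LBaseChange ρ ⊣ DRing.restrictD ρ)
    (adjα adjα' : DRing.LBaseChange α ⊣ DRing.restrictD α)
    (h : α.comp φ = φ'.comp ρ) (K : Dual.D A) :
    TrivBC.cmp adjρ' adjα' h K =
      (adjρ.leftAdjointUniq adjρ').inv.app _ ≫ TrivBC.cmp adjρ adjα h K ≫
        (DRing.restrictD φ').map ((adjα.leftAdjointUniq adjα').hom.app K) := by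
  have e1 := Adjunction.unit_leftAdjointUniq_hom_app adjα adjα' K
  have e2 : ∀ x, adjρ'.counit.app x =
      (adjρ.leftAdjointUniq adjρ').inv.app ((DRing.restrictD ρ).obj x) ≫ adjρ.counit.app x :=
    fun x => by
      rw [← Adjunction.leftAdjointUniq_hom_app_counit adjρ adjρ' x, Iso.inv_hom_id_app_assoc]
  have nat := (TrivBC.resComm h).hom.naturality ((adjα.leftAdjointUniq adjα').hom.app K)
  dsimp only [Functor.comp_map] at nat
  unfold TrivBC.cmp
  rw [Adjunction.homEquiv_counit, Adjunction.homEquiv_counit, ← e1, e2]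
  simp only [Functor.map_comp, Category.assoc]
  have nat' := congrArg (fun f => (DRing.LBaseChange ρ).map f) nat
  simp only [Functor.map_comp] at nat'
  rw [reassoc_of% nat']
  rw [← (adjρ.leftAdjointUniq adjρ').inv.naturality_assoc,
    ← (adjρ.leftAdjointUniq adjρ').inv.naturality_assoc]
  congr 2
  rw [(adjρ.leftAdjointUniq adjρ').inv.naturality_assoc]
  congr 1
  exact (adjρ.counit.naturality _)

theorem isIso_cmp_of_isIso_cmp (adjρ adjρ' : DRing.LBaseChange ρ ⊣ DRing.restrictD ρ)
    (adjα adjα' : DRing.LBaseChange α ⊣ DRing.restrictD α)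
    (h : α.comp φ = φ'.comp ρ) (K : Dual.D A) (hi : IsIso (TrivBC.cmp adjρ adjα h K)) :
    IsIso (TrivBC.cmp adjρ' adjα' h K) := by
  rw [cmp_change adjρ adjρ' adjα adjα' h K]
  infer_instance

end Change

section Formula

variable {R A R' A' : Type u} [CommRing R] [CommRing A] [CommRing R'] [CommRing A']
  {φ : R →+* A} {ρ : R →+* R'} {α : A →+* A'} {φ' : R' →+* A'}

/-- complex-level commutation of restrictions -/
noncomputable def tCx (h : α.comp φ = φ'.comp ρ) : resCx α ⋙ resCx φ ≅ resCx φ' ⋙ resCx ρ :=
  Functor.mapHomologicalComplexCompIso (TrivBC.resCommMod h) (ComplexShape.up ℤ) ≪≫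
    (Functor.mapHomologicalComplexCompIso
      (Iso.refl (ModuleCat.restrictScalars.{u} φ' ⋙ ModuleCat.restrictScalars.{u} ρ))
        (ComplexShape.up ℤ)).symm

lemma liftingRes₂_iso {B C E : Type u} [CommRing B] [CommRing C] [CommRing E] (g : C →+* E)
    (f : B →+* C) :
    @Localization.Lifting.iso _ _ _ _ _ _ (DerivedCategory.Q (C := ModuleCat.{u} E))
      (HomologicalComplex.quasiIso (ModuleCat.{u} E) (ComplexShape.up ℤ))
      ((ModuleCat.restrictScalars.{u} g).mapHomologicalComplex (ComplexShape.up ℤ) ⋙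
        (ModuleCat.restrictScalars.{u} f).mapHomologicalComplex (ComplexShape.up ℤ) ⋙
          DerivedCategory.Q)
      (DRing.restrictD g ⋙ DRing.restrictD f) (TrivBC.liftingRes₂ g f) =
    (Functor.associator _ _ _).symm ≪≫
    Functor.isoWhiskerRight (ModuleCat.restrictScalars.{u} g).mapDerivedCategoryFactors _ ≪≫
      Functor.associator _ _ _ ≪≫
        Functor.isoWhiskerLeft _ (ModuleCat.restrictScalars.{u} f).mapDerivedCategoryFactors :=
  rfl

lemma resComm_hom_app_Q (h : α.comp φ = φ'.comp ρ) (Y : DRing.Cx A') :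
    (TrivBC.resComm h).hom.app (Q.obj Y) =
      (DRing.restrictD φ).map ((resFactors α).hom.app Y) ≫
        (resFactors φ).hom.app ((resCx α).obj Y) ≫
          Q.map ((tCx h).hom.app Y) ≫ (resFactors ρ).inv.app ((resCx φ').obj Y) ≫
            (DRing.restrictD ρ).map ((resFactors φ').inv.app Y) := by
  unfold TrivBC.resComm
  rw [Localization.liftNatIso_hom, Localization.liftNatTrans_app, liftingRes₂_iso,
    liftingRes₂_iso]
  dsimp [TrivBC.resCommCx, tCx]
  simp

/-- the termwise base change comparison -/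
noncomputable def cCx (h : α.comp φ = φ'.comp ρ) (P : DRing.Cx A) :
    (extCx ρ).obj ((resCx φ).obj P) ⟶ (resCx φ').obj ((extCx α).obj P) :=
  (extCx ρ).map ((resCx φ).map ((extResAdj α).unit.app P) ≫
      (tCx h).hom.app ((extCx α).obj P)) ≫
    (extResAdj ρ).counit.app ((resCx φ').obj ((extCx α).obj P))

variable [DRing.HasLBaseChange ρ] [DRing.HasLBaseChange α]

theorem cmp_Q (cρ : CanAdj ρ) (cα : CanAdj α) (h : α.comp φ = φ'.comp ρ) (P : DRing.Cx A) :
    TrivBC.cmp cρ.adj cα.adj h (Q.obj P) ≫ (DRing.restrictD φ').map ((lbcCounit α).app P) =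
      (DRing.LBaseChange ρ).map ((resFactors φ).hom.app P) ≫
        (lbcCounit ρ).app ((resCx φ).obj P) ≫
          Q.map (cCx h P) ≫ (resFactors φ').inv.app ((extCx α).obj P) := by
  set Y := (extCx α).obj P with hY
  set Z := (resCx φ').obj Y with hZ
  set u := (extResAdj α).unit.app P with hu
  set w : (resCx φ).obj P ⟶ (resCx ρ).obj Z := (resCx φ).map u ≫ (tCx h).hom.app Y with hw
  -- step 1: the inner morphism
  have inner : (DRing.restrictD φ).map (cα.adj.unit.app (Q.obj P)) ≫
      (TrivBC.resComm h).hom.app ((DRing.LBaseChange α).obj (Q.obj P)) ≫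
        (DRing.restrictD ρ).map ((DRing.restrictD φ').map ((lbcCounit α).app P)) =
      (resFactors φ).hom.app P ≫ Q.map w ≫ (resFactors ρ).inv.app Z ≫
        (DRing.restrictD ρ).map ((resFactors φ').inv.app Y) := by
    have nat := (TrivBC.resComm h).hom.naturality ((lbcCounit α).app P)
    dsimp only [Functor.comp_map, Functor.comp_obj] at nat
    rw [← nat, ← Functor.map_comp_assoc, cα.hη P, resComm_hom_app_Q h Y]
    rw [Functor.map_comp, Category.assoc, ← Functor.map_comp_assoc (DRing.restrictD φ)
      ((resFactors α).inv.app _), Iso.inv_hom_id_app, CategoryTheory.Functor.map_id,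
      Category.id_comp]
    have nat2 := (resFactors φ).hom.naturality u
    dsimp only [Functor.comp_map, Functor.comp_obj] at nat2
    rw [reassoc_of% nat2, hw, Functor.map_comp, Category.assoc]
  unfold TrivBC.cmp
  rw [Adjunction.homEquiv_counit, Category.assoc]
  have natε := cρ.adj.counit.naturality ((DRing.restrictD φ').map ((lbcCounit α).app P))
  dsimp only [Functor.comp_map, Functor.comp_obj, Functor.id_map, Functor.id_obj] at natε
  rw [← natε, ← Functor.map_comp_assoc, Category.assoc, inner]
  simp only [Functor.map_comp, Category.assoc]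
  have natε2 := cρ.adj.counit.naturality ((resFactors φ').inv.app Y)
  dsimp only [Functor.comp_map, Functor.comp_obj, Functor.id_map, Functor.id_obj] at natε2
  rw [natε2, reassoc_of% (cρ.hε Z)]
  have nat3 := (lbcCounit ρ).naturality w
  dsimp only [Functor.comp_map, Functor.comp_obj] at nat3
  rw [reassoc_of% nat3, cCx, hw]
  simp only [Functor.map_comp, Category.assoc]
  rfl

end Formula

section Mod

open TensorProduct ModuleCat.ExtendScalars ChangeOfRings

variable {R A R' A' : Type u} [CommRing R] [CommRing A] [CommRing R'] [CommRing A']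
  {φ : R →+* A} {ρ : R →+* R'} {α : A →+* A'} {φ' : R' →+* A'}

/-- the module-level base change comparison -/
noncomputable def cMod (h : α.comp φ = φ'.comp ρ) (M : ModuleCat.{u} A) :
    (ModuleCat.extendScalars.{u, u, u} ρ).obj ((ModuleCat.restrictScalars.{u} φ).obj M) ⟶
      (ModuleCat.restrictScalars.{u} φ').obj ((ModuleCat.extendScalars.{u, u, u} α).obj M) :=
  (ModuleCat.extendScalars.{u, u, u} ρ).map
      ((ModuleCat.restrictScalars.{u} φ).map
        ((ModuleCat.extendRestrictScalarsAdj.{u, u, u} α).unit.app M) ≫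
        (TrivBC.resCommMod h).hom.app ((ModuleCat.extendScalars.{u, u, u} α).obj M)) ≫
    (ModuleCat.extendRestrictScalarsAdj.{u, u, u} ρ).counit.app
      ((ModuleCat.restrictScalars.{u} φ').obj ((ModuleCat.extendScalars.{u, u, u} α).obj M))

lemma cCx_f (h : α.comp φ = φ'.comp ρ) (P : DRing.Cx A) (i : ℤ) :
    (cCx h P).f i = cMod h (P.X i) := by
  apply ModuleCat.hom_ext
  apply LinearMap.ext
  intro x
  rfl

lemma cMod_tmul (h : α.comp φ = φ'.comp ρ) (M : ModuleCat.{u} A) (r' : R') (m : M) :
    (cMod h M).hom (r' ⊗ₜ[R,ρ] (m : (ModuleCat.restrictScalars.{u} φ).obj M)) =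
      ((φ' r') ⊗ₜ[A,α] m : (ModuleCat.extendScalars.{u, u, u} α).obj M) := by
  have key : φ' r' • (show ((ModuleCat.extendScalars.{u, u, u} α).obj M : Type u) from
      (1 : A') ⊗ₜ[A,α] m) = (φ' r') ⊗ₜ[A,α] m := by
    erw [ModuleCat.ExtendScalars.smul_tmul, mul_one]
  exact key

end Mod

section Pushout

open TensorProduct

lemma bijective_of_tmul {R A R' A' M : Type u} [CommRing R] [CommRing A] [CommRing R']
    [CommRing A'] [Algebra R A] [Algebra R R'] [Algebra A A'] [Algebra R' A'] [Algebra R A']
    [IsScalarTower R A A'] [IsScalarTower R R' A'] [Algebra.IsPushout R A R' A']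
    [AddCommGroup M] [Module A M]
    (mR' : Module R R')
    (hR' : ∀ (r : R) (x : R'), mR'.toDistribMulAction.toMulAction.toSMul.smul r x =
      algebraMap R R' r * x)
    (mA' : Module A A')
    (hA' : ∀ (a : A) (x : A'), mA'.toDistribMulAction.toMulAction.toSMul.smul a x =
      algebraMap A A' a * x)
    (mM : Module R M)
    (hM : ∀ (r : R) (m : M), mM.toDistribMulAction.toMulAction.toSMul.smul r m =
      algebraMap R A r • m)
    (f : @TensorProduct R _ R' M _ _ mR' mM →+ @TensorProduct A _ A' M _ _ mA' _)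
    (hf : ∀ (r' : R') (m : M), f (@TensorProduct.tmul R _ R' M _ _ mR' mM r' m) =
      @TensorProduct.tmul A _ A' M _ _ mA' _ (algebraMap R' A' r') m) :
    Function.Bijective f := by
  obtain rfl : mR' = Algebra.toModule :=
    Module.ext' _ _ (fun r x => (hR' r x).trans (Algebra.smul_def r x).symm)
  obtain rfl : mA' = Algebra.toModule :=
    Module.ext' _ _ (fun r x => (hA' r x).trans (Algebra.smul_def r x).symm)
  letI := mM
  haveI : IsScalarTower R A M := ⟨fun r a m => by
    rw [Algebra.smul_def, mul_smul]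
    exact (hM r (a • m)).symm⟩
  haveI : Algebra.IsPushout R R' A A' := Algebra.IsPushout.symm inferInstance
  let e := (Algebra.IsPushout.cancelBaseChange R R' A A' M).symm
  have hfe : ⇑f = ⇑e := by
    funext x
    induction x using TensorProduct.induction_on with
    | zero => rw [map_zero, map_zero]
    | tmul r' m => rw [hf, Algebra.IsPushout.cancelBaseChange_symm_tmul]
    | add x y hx hy => rw [map_add, map_add, hx, hy]
  rw [hfe]
  exact e.bijective

variable {R A R' A' : Type u} [CommRing R] [CommRing A] [CommRing R'] [CommRing A']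
  [Algebra R A] [Algebra R R'] [Algebra A A'] [Algebra R' A'] [Algebra R A']
  [IsScalarTower R A A'] [IsScalarTower R R' A'] [Algebra.IsPushout R A R' A']

theorem bijective_cMod
    (h : (algebraMap A A').comp (algebraMap R A) = (algebraMap R' A').comp (algebraMap R R'))
    (M : ModuleCat.{u} A) : Function.Bijective (cMod h M).hom := by
  refine bijective_of_tmul (R := R) (A := A) (R' := R') (A' := A') (M := M)
    ((ModuleCat.restrictScalars.{u} (algebraMap R R')).obj (ModuleCat.of R' R')).isModule
    (fun r x => rfl)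
    ((ModuleCat.restrictScalars.{u} (algebraMap A A')).obj (ModuleCat.of A' A')).isModule
    (fun r x => rfl)
    ((ModuleCat.restrictScalars.{u} (algebraMap R A)).obj M).isModule
    (fun r x => rfl)
    (cMod h M).hom.toAddMonoidHom
    (fun r' m => cMod_tmul h M r' m)

instance isIso_cCx
    (h : (algebraMap A A').comp (algebraMap R A) = (algebraMap R' A').comp (algebraMap R R'))
    (P : DRing.Cx A) : IsIso (cCx h P) := by
  haveI : ∀ i, IsIso ((cCx h P).f i) := fun i => by
    rw [cCx_f]
    exact (ConcreteCategory.isIso_iff_bijective _).2 (bijective_cMod h (P.X i))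
  exact HomologicalComplex.Hom.isIso_of_components _

end Pushout

section Nat

variable {R A R' A' : Type u} [CommRing R] [CommRing A] [CommRing R'] [CommRing A']
  {φ : R →+* A} {ρ : R →+* R'} {α : A →+* A'} {φ' : R' →+* A'}
  [DRing.HasLBaseChange ρ] [DRing.HasLBaseChange α]

/-- `cmp` is natural -/
theorem cmp_naturality (adjρ : DRing.LBaseChange ρ ⊣ DRing.restrictD ρ)
    (adjα : DRing.LBaseChange α ⊣ DRing.restrictD α)
    (h : α.comp φ = φ'.comp ρ) {K K' : Dual.D A} (f : K ⟶ K') :
    (DRing.LBaseChange ρ).map ((DRing.restrictD φ).map f) ≫ TrivBC.cmp adjρ adjα h K' =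
      TrivBC.cmp adjρ adjα h K ≫ (DRing.restrictD φ').map ((DRing.LBaseChange α).map f) := by
  unfold TrivBC.cmp
  rw [← Adjunction.homEquiv_naturality_left_symm, ← Adjunction.homEquiv_naturality_right_symm]
  congr 1
  have n1 := adjα.unit.naturality f
  dsimp only [Functor.id_map, Functor.comp_map, Functor.id_obj, Functor.comp_obj] at n1
  have n2 := (TrivBC.resComm h).hom.naturality ((DRing.LBaseChange α).map f)
  dsimp only [Functor.comp_map, Functor.comp_obj] at n2
  rw [← Functor.map_comp_assoc, n1, Functor.map_comp, Category.assoc, n2, Category.assoc]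

theorem isIso_cmp_of_iso (adjρ : DRing.LBaseChange ρ ⊣ DRing.restrictD ρ)
    (adjα : DRing.LBaseChange α ⊣ DRing.restrictD α)
    (h : α.comp φ = φ'.comp ρ) {K K' : Dual.D A} (e : K ≅ K')
    (hK : IsIso (TrivBC.cmp adjρ adjα h K)) : IsIso (TrivBC.cmp adjρ adjα h K') := by
  have n := cmp_naturality adjρ adjα h e.hom
  have : TrivBC.cmp adjρ adjα h K' =
      inv ((DRing.LBaseChange ρ).map ((DRing.restrictD φ).map e.hom)) ≫
        TrivBC.cmp adjρ adjα h K ≫ (DRing.restrictD φ').map ((DRing.LBaseChange α).map e.hom) := by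
    rw [IsIso.eq_inv_comp]
    exact n
  rw [this]
  infer_instance

end Nat

section Main

variable {R A R' A' : Type u} [CommRing R] [CommRing A] [CommRing R'] [CommRing A']
  [Algebra R A] [Algebra R R'] [Algebra A A'] [Algebra R' A'] [Algebra R A']
  [IsScalarTower R A A'] [IsScalarTower R R' A'] [Algebra.IsPushout R A R' A']
  [DRing.HasLBaseChange (algebraMap R R')] [DRing.HasLBaseChange (algebraMap A A')]

/-- derived base change along `R → R'` is computed termwise on the restriction of a
K-projective complex over `A`, under Tor independence -/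
theorem isIso_lbcCounit_res (htor : ∀ p : ℕ, 1 ≤ p → Subsingleton (DRing.Tor R p A R'))
    (P : DRing.Cx A) [P.IsKProjective] :
    IsIso ((lbcCounit (algebraMap R R')).app ((resCx (algebraMap R A)).obj P)) := by
  obtain ⟨F, π, hF, -, hπ, -⟩ := exists_kprojective_resolution ((resCx (algebraMap R A)).obj P)
  haveI := hF
  haveI := hπ
  have hq : QuasiIso ((extCx (algebraMap R R')).map π) :=
    Groth.Agent.Lib.Helper10.TrivBCA.quasiIso_extCx_map_of_tor htor P (kflat_of_isKProjective P)
      F (kflat_of_isKProjective F) π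
  have e := (lbcCounit (algebraMap R R')).naturality π
  have h1 : IsIso ((lbcCounit (algebraMap R R')).app F) := isIso_lbcCounit_app _ F
  have h2 : IsIso ((Q ⋙ DRing.LBaseChange (algebraMap R R')).map π) := by
    have : IsIso (Q.map π) := (DerivedCategory.isIso_Q_map_iff_quasiIso (φ := π)).2 hπ
    exact Functor.map_isIso (DRing.LBaseChange (algebraMap R R')) _
  have h3 : IsIso ((bcCx (algebraMap R R') ⋙ Q).map π) :=
    (DerivedCategory.isIso_Q_map_iff_quasiIso (φ := (extCx (algebraMap R R')).map π)).2 hq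
  have h4 : (lbcCounit (algebraMap R R')).app ((resCx (algebraMap R A)).obj P) =
      inv ((Q ⋙ DRing.LBaseChange (algebraMap R R')).map π) ≫
        (lbcCounit (algebraMap R R')).app F ≫ (bcCx (algebraMap R R') ⋙ Q).map π := by
    rw [IsIso.eq_inv_comp]
    exact e
  rw [h4]
  infer_instance

/-- **Tor independent base change**: the comparison map is an isomorphism -/
theorem isIso_cmp (htor : ∀ p : ℕ, 1 ≤ p → Subsingleton (DRing.Tor R p A R'))
    (adjρ : DRing.LBaseChange (algebraMap R R') ⊣ DRing.restrictD (algebraMap R R'))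
    (adjα : DRing.LBaseChange (algebraMap A A') ⊣ DRing.restrictD (algebraMap A A'))
    (h : (algebraMap A A').comp (algebraMap R A) = (algebraMap R' A').comp (algebraMap R R'))
    (K : Dual.D A) : IsIso (TrivBC.cmp adjρ adjα h K) := by
  obtain ⟨cρ⟩ := nonempty_canAdj (algebraMap R R')
  obtain ⟨cα⟩ := nonempty_canAdj (algebraMap A A')
  refine isIso_cmp_of_isIso_cmp cρ.adj adjρ cα.adj adjα h K ?_
  obtain ⟨P, hP, -, ⟨e⟩⟩ := exists_kproj_iso K
  haveI := hP
  refine isIso_cmp_of_iso cρ.adj cα.adj h e ?_
  have key := cmp_Q cρ cα h P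
  haveI := isIso_lbcCounit_res htor P
  haveI : IsIso ((lbcCounit (algebraMap A A')).app P) := isIso_lbcCounit_app _ P
  haveI := isIso_cCx h P
  have : TrivBC.cmp cρ.adj cα.adj h (Q.obj P) =
      ((DRing.LBaseChange (algebraMap R R')).map ((resFactors (algebraMap R A)).hom.app P) ≫
        (lbcCounit (algebraMap R R')).app ((resCx (algebraMap R A)).obj P) ≫
          Q.map (cCx h P) ≫ (resFactors (algebraMap R' A')).inv.app
            ((extCx (algebraMap A A')).obj P)) ≫
      inv ((DRing.restrictD (algebraMap R' A')).map ((lbcCounit (algebraMap A A')).app P)) := by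
    rw [IsIso.eq_comp_inv]
    exact key
  rw [this]
  infer_instance

end Main

end Groth.Agent.Lib.Helper10.TrivBCB
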