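import Mathlib
import Groth.Prelude.Def_HTop
import Groth.Agent.S7469
import Groth.Agent.S7470

/-!
# V coverings: locality, base change and composition
-/

set_option autoImplicit false
universe w w' u

open CategoryTheory CategoryTheory.Limits AlgebraicGeometry Opposite HTop

namespace Groth.Agent.Lib.Helper10

/-- A morphism from the spectrum of a local ring factors through any open containing the image of
the closed point. -/
theorem exists_lift_of_closedPoint_mem {T : Scheme.{u}} (V : CommRingCat.{u}) [IsLocalRing V]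
    (k : Spec V ⟶ T) (U : T.Opens) (hc : k.base (IsLocalRing.closedPoint V) ∈ U) :
    ∃ l : Spec V ⟶ (U : Scheme.{u}), l ≫ U.ι = k := by
  have hrange : Set.range k.base ⊆ Set.range U.ι.base := by
    rw [Scheme.Opens.range_ι]
    rintro _ ⟨y, rfl⟩
    have hy : y ⤳ IsLocalRing.closedPoint V := IsLocalRing.specializes_closedPoint (R := V) y
    exact (hy.map k.base.hom.2).mem_open U.2 hc
  exact ⟨IsOpenImmersion.lift U.ι k hrange, IsOpenImmersion.lift_fac _ _ _⟩

/-- To check that a family is a V covering it suffices to find, locally on every affine open,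
standard V coverings refining it. -/
theorem isVCover_of_local {T : Scheme.{u}} (E : PreZeroHypercover.{w} T)
    (h : ∀ (U : T.affineOpens) (x : T), x ∈ (U : T.Opens) →
      ∃ (U' : T.affineOpens), x ∈ (U' : T.Opens) ∧ (U' : T.Opens) ≤ (U : T.Opens) ∧
        ∃ F : PreZeroHypercover.{0} ((U' : T.Opens) : Scheme.{u}),
          IsStandardV F ∧ RefinesOver (U' : T.Opens).ι F E) :
    IsVCover E := by
  classical
  intro U
  have h' : ∀ x : (U : T.Opens), ∃ (U' : T.affineOpens), (x : T) ∈ (U' : T.Opens) ∧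
      (U' : T.Opens) ≤ (U : T.Opens) ∧
        ∃ F : PreZeroHypercover.{0} ((U' : T.Opens) : Scheme.{u}),
          IsStandardV F ∧ RefinesOver (U' : T.Opens).ι F E := fun x => h U x.1 x.2
  choose U' hxU' hU'U F hF hFE using h'
  have hcomp : IsCompact ((U : T.Opens) : Set T) := U.2.isCompact
  obtain ⟨t, ht⟩ := hcomp.elim_finite_subcover (fun x : (U : T.Opens) => ((U' x : T.Opens) : Set T))
    (fun x => (U' x).1.2) (fun y hy => Set.mem_iUnion.2 ⟨⟨y, hy⟩, hxU' ⟨y, hy⟩⟩)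
  let m := t.card
  let e : Fin m ≃ t := t.equivFin.symm
  let pts : Fin m → (U : T.Opens) := fun k => (e k).1
  let F' : PreZeroHypercover.{0} ((U : T.Opens) : Scheme.{u}) :=
    { I₀ := Σ k : Fin m, (F (pts k)).I₀
      X := fun ki => (F (pts ki.1)).X ki.2
      f := fun ki => (F (pts ki.1)).f ki.2 ≫ T.homOfLE (hU'U (pts ki.1)) }
  refine ⟨F', ⟨U.2, ?_, fun ki => (hF (pts ki.1)).isAffine_obj ki.2, ?_⟩, ?_⟩
  · haveI : ∀ k, Finite (F (pts k)).I₀ := fun k => (hF (pts k)).finite_index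
    exact inferInstanceAs (Finite (Σ k : Fin m, (F (pts k)).I₀))
  · intro V _ _ k
    have hc : (k ≫ (U : T.Opens).ι).base (IsLocalRing.closedPoint V) ∈ (U : T.Opens) := by
      have : (k ≫ (U : T.Opens).ι).base (IsLocalRing.closedPoint V) ∈ Set.range (U : T.Opens).ι.base :=
        ⟨k.base (IsLocalRing.closedPoint V), rfl⟩
      rwa [Scheme.Opens.range_ι] at this
    obtain ⟨x, hxt, hx⟩ : ∃ x ∈ t, (k ≫ (U : T.Opens).ι).base (IsLocalRing.closedPoint V) ∈
        ((U' x : T.Opens) : Set T) := by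
      have := ht hc
      simpa using this
    obtain ⟨idx, rfl⟩ : ∃ idx, pts idx = x := ⟨e.symm ⟨x, hxt⟩, by simp [pts]⟩
    obtain ⟨l, hl⟩ := exists_lift_of_closedPoint_mem V (k ≫ (U : T.Opens).ι) (U' (pts idx) : T.Opens) hx
    obtain ⟨W, hWd, hWv, φ, hφ, j, g', hg'⟩ := (hF (pts idx)).lift V l
    refine ⟨W, hWd, hWv, φ, hφ, ⟨idx, j⟩, g', ?_⟩
    change g' ≫ (F (pts idx)).f j ≫ T.homOfLE (hU'U (pts idx)) = _
    rw [← Category.assoc, hg', Category.assoc]
    congr 1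
    rw [← cancel_mono (U : T.Opens).ι, Category.assoc, Scheme.homOfLE_ι, hl]
  · intro ki
    obtain ⟨i, hh, hhi⟩ := hFE (pts ki.1) ki.2
    refine ⟨i, hh, ?_⟩
    rw [hhi]
    change _ = ((F (pts ki.1)).f ki.2 ≫ T.homOfLE (hU'U (pts ki.1))) ≫ _
    rw [Category.assoc, Scheme.homOfLE_ι]

/-- Base change of a V covering. -/
theorem isVCover_pullback {T T' : Scheme.{u}} (g : T' ⟶ T) (E : PreZeroHypercover.{w} T)
    (hE : IsVCover E) : IsVCover (E.pullback₁ g) := by
  apply isVCover_of_local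
  intro U' x hx
  obtain ⟨_, ⟨V, hV, rfl⟩, hgxV, -⟩ := T.isBasis_affineOpens.exists_subset_of_mem_open
    (Set.mem_univ (g.base x)) isOpen_univ
  obtain ⟨_, ⟨U'', hU'', rfl⟩, hxU'', hU''le⟩ := T'.isBasis_affineOpens.exists_subset_of_mem_open
    (show x ∈ (((U' : T'.Opens) ⊓ g ⁻¹ᵁ V : T'.Opens) : Set T') from ⟨hx, hgxV⟩)
    ((U' : T'.Opens) ⊓ g ⁻¹ᵁ V).2
  obtain ⟨F, hF, hFE⟩ := hE ⟨V, hV⟩
  have hle1 : U'' ≤ g ⁻¹ᵁ V := fun y hy => (hU''le hy).2
  have hle2 : U'' ≤ (U' : T'.Opens) := fun y hy => (hU''le hy).1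
  let gk : (U'' : Scheme.{u}) ⟶ (V : Scheme.{u}) := g.resLE V U'' hle1
  haveI : IsAffine (U'' : Scheme.{u}) := hU''
  refine ⟨⟨U'', hU''⟩, hxU'', hle2, F.pullback₁ gk, Groth.Agent.S7469.result gk F hF, ?_⟩
  intro j
  obtain ⟨i, h0, hh0⟩ := hFE j
  refine ⟨i, pullback.lift (pullback.fst gk (F.f j) ≫ Scheme.Opens.ι (X := T') U'') (pullback.snd gk (F.f j) ≫ h0) ?_, ?_⟩
  · have hc : pullback.fst gk (F.f j) ≫ gk = pullback.snd gk (F.f j) ≫ F.f j := pullback.condition
    calc (pullback.fst gk (F.f j) ≫ Scheme.Opens.ι (X := T') U'') ≫ g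
        = pullback.fst gk (F.f j) ≫ (gk ≫ Scheme.Opens.ι (X := T) V) := by
          rw [Category.assoc, Scheme.Hom.resLE_comp_ι]
      _ = (pullback.snd gk (F.f j) ≫ F.f j) ≫ Scheme.Opens.ι (X := T) V := by
          rw [← Category.assoc, hc]
      _ = (pullback.snd gk (F.f j) ≫ h0) ≫ E.f i := by
          rw [Category.assoc, Category.assoc, hh0]
  · exact pullback.lift_fst _ _ _

/-- Composition of V coverings. -/
theorem isVCover_bind {T : Scheme.{u}} (E : PreZeroHypercover.{w} T) (hE : IsVCover E)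
    (F : ∀ i, PreZeroHypercover.{w'} (E.X i)) (hF : ∀ i, IsVCover (F i)) :
    IsVCover (E.bind F) := by
  intro U
  obtain ⟨F0, hF0, hF0E⟩ := hE U
  choose idx h hh using hF0E
  have hP : ∀ j, IsVCover ((F (idx j)).pullback₁ (h j)) := fun j =>
    isVCover_pullback (h j) (F (idx j)) (hF (idx j))
  have hG : ∀ j, ∃ G : PreZeroHypercover.{0} (((⊤ : (F0.X j).Opens)) : Scheme.{u}),
      IsStandardV G ∧ RefinesOver (⊤ : (F0.X j).Opens).ι G ((F (idx j)).pullback₁ (h j)) := by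
    intro j
    haveI := hF0.isAffine_obj j
    exact hP j ⟨⊤, isAffineOpen_top (F0.X j)⟩
  choose G hG1 hG2 using hG
  let G' : ∀ j, PreZeroHypercover.{0} (F0.X j) := fun j =>
    { I₀ := (G j).I₀
      X := (G j).X
      f := fun a => (G j).f a ≫ (⊤ : (F0.X j).Opens).ι }
  have hG' : ∀ j, IsStandardV (G' j) := by
    intro j
    refine ⟨hF0.isAffine_obj j, (hG1 j).finite_index, (hG1 j).isAffine_obj, ?_⟩
    intro V _ _ k
    obtain ⟨l, hl⟩ := exists_lift_of_closedPoint_mem V k (⊤ : (F0.X j).Opens) trivial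
    obtain ⟨W, hWd, hWv, φ, hφ, a, g', hg'⟩ := (hG1 j).lift V l
    refine ⟨W, hWd, hWv, φ, hφ, a, g', ?_⟩
    change g' ≫ (G j).f a ≫ (⊤ : (F0.X j).Opens).ι = _
    rw [← Category.assoc, hg', Category.assoc, hl]
  refine ⟨F0.bind G', Groth.Agent.S7470.result F0 hF0 G' hG', ?_⟩
  rintro ⟨j, a⟩
  have key : ∀ (b : (F (idx j)).I₀) (k : (G j).X a ⟶ pullback (h j) ((F (idx j)).f b)),
      k ≫ pullback.fst (h j) ((F (idx j)).f b) = (G j).f a ≫ (⊤ : (F0.X j).Opens).ι →
      (k ≫ pullback.snd (h j) ((F (idx j)).f b)) ≫ ((F (idx j)).f b ≫ E.f (idx j)) =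
        ((G j).f a ≫ (⊤ : (F0.X j).Opens).ι ≫ F0.f j) ≫ (U : T.Opens).ι := by
    intro b k hk'
    have hc : pullback.fst (h j) ((F (idx j)).f b) ≫ h j =
        pullback.snd (h j) ((F (idx j)).f b) ≫ (F (idx j)).f b := pullback.condition
    calc (k ≫ pullback.snd (h j) ((F (idx j)).f b)) ≫ ((F (idx j)).f b ≫ E.f (idx j))
        = k ≫ (pullback.snd (h j) ((F (idx j)).f b) ≫ (F (idx j)).f b) ≫ E.f (idx j) := by
          simp only [Category.assoc]
      _ = (k ≫ pullback.fst (h j) ((F (idx j)).f b)) ≫ h j ≫ E.f (idx j) := by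
          rw [← hc]; simp only [Category.assoc]
      _ = ((G j).f a ≫ (⊤ : (F0.X j).Opens).ι) ≫ F0.f j ≫ (U : T.Opens).ι := by
          rw [hk', hh j]
      _ = ((G j).f a ≫ (⊤ : (F0.X j).Opens).ι ≫ F0.f j) ≫ (U : T.Opens).ι := by
          simp only [Category.assoc]
  obtain ⟨b, k, hk⟩ := hG2 j a
  exact ⟨⟨idx j, b⟩, k ≫ pullback.snd (h j) ((F (idx j)).f b), key b k hk⟩

end Groth.Agent.Lib.Helper10
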