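import Mathlib

/-!
# The fundamental inequality `e f ≤ n` for extensions of valuation rings
-/

set_option autoImplicit false
open IsLocalRing

namespace Groth.Agent.Lib.Helper10.ValEF

section one
variable (B L : Type*) [CommRing B] [IsDomain B] [ValuationRing B] [Field L] [Algebra B L]
  [IsFractionRing B L]

lemma exists_unit_of_valuation_eq_one {x : L} (h : ValuationRing.valuation B L x = 1) :
    ∃ u : Bˣ, algebraMap B L u = x := by
  have h1 : x ∈ (ValuationRing.valuation B L).integer := by
    rw [Valuation.mem_integer_iff, h]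
  have hx0 : x ≠ 0 := by
    rintro rfl
    rw [map_zero] at h
    exact zero_ne_one h
  have h2 : x⁻¹ ∈ (ValuationRing.valuation B L).integer := by
    rw [Valuation.mem_integer_iff, map_inv₀, h, inv_one]
  obtain ⟨b, hb⟩ := (ValuationRing.mem_integer_iff B L x).mp h1
  obtain ⟨b', hb'⟩ := (ValuationRing.mem_integer_iff B L x⁻¹).mp h2
  have : b * b' = 1 := by
    apply IsFractionRing.injective B L
    rw [map_mul, hb, hb', map_one, mul_inv_cancel₀ hx0]
  exact ⟨⟨b, b', this, by rw [mul_comm]; exact this⟩, hb⟩

/-- ultrametric principle: in a vanishing sum of nonzero elements, two terms differ by a unit. -/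
lemma exists_ne_unit_ratio {ι : Type*} [Fintype ι] [Nonempty ι] (x : ι → L) (hx : ∀ i, x i ≠ 0)
    (hsum : ∑ i, x i = 0) :
    ∃ i j, i ≠ j ∧ ∃ u : Bˣ, x i = algebraMap B L u * x j := by
  classical
  obtain ⟨m, -, hm⟩ := Finset.exists_max_image Finset.univ
    (fun i => ValuationRing.valuation B L (x i)) Finset.univ_nonempty
  by_contra hcon
  push_neg at hcon
  have hlt : ∀ i ∈ Finset.univ \ {m},
      ValuationRing.valuation B L (x i) < ValuationRing.valuation B L (x m) := by
    intro i hi
    have him : i ≠ m := by simpa using hi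
    refine lt_of_le_of_ne (hm i (Finset.mem_univ _)) fun heq => ?_
    have : ValuationRing.valuation B L (x i / x m) = 1 := by
      rw [map_div₀, heq, div_self]
      exact (Valuation.ne_zero_iff _).mpr (hx m)
    obtain ⟨u, hu⟩ := exists_unit_of_valuation_eq_one B L this
    exact hcon i m him u (by rw [hu, div_mul_cancel₀ _ (hx m)])
  have := (ValuationRing.valuation B L).map_sum_eq_of_lt (Finset.mem_univ m) hlt
  rw [hsum, map_zero] at this
  exact ((Valuation.ne_zero_iff _).mpr (hx m)) this.symm

end one

section two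
variable (A B K L : Type*) [CommRing A] [IsDomain A] [ValuationRing A] [CommRing B] [IsDomain B]
  [ValuationRing B] [Field K] [Field L] [Algebra A K] [IsFractionRing A K] [Algebra B L]
  [IsFractionRing B L] [Algebra A B] [Algebra K L] [Algebra A L] [IsScalarTower A K L]
  [IsScalarTower A B L] [IsLocalHom (algebraMap A B)]

lemma exists_unit_lincomb {τ : Type*} [Fintype τ] (b : τ → B)
    (hb : LinearIndependent (ResidueField A) (fun j => residue B (b j)))
    (a : τ → K) (ha : ∃ j, a j ≠ 0) :
    ∃ j0, a j0 ≠ 0 ∧ ∃ u : Bˣ, ∑ j, algebraMap K L (a j) * algebraMap B L (b j) =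
      algebraMap K L (a j0) * algebraMap B L u := by
  classical
  haveI : Nonempty τ := ⟨ha.choose⟩
  obtain ⟨j0, -, hj0⟩ := Finset.exists_max_image Finset.univ
    (fun j => ValuationRing.valuation A K (a j)) Finset.univ_nonempty
  obtain ⟨j1, hj1⟩ := ha
  have h0 : a j0 ≠ 0 := by
    intro h
    have := hj0 j1 (Finset.mem_univ _)
    rw [h, map_zero] at this
    exact hj1 ((Valuation.zero_iff _).mp (le_antisymm this zero_le'))
  refine ⟨j0, h0, ?_⟩
  have hint : ∀ j, ∃ α : A, algebraMap A K α = a j / a j0 := by
    intro j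
    rw [← ValuationRing.mem_integer_iff, Valuation.mem_integer_iff, map_div₀]
    have hpos : ValuationRing.valuation A K (a j0) ≠ 0 := (Valuation.ne_zero_iff _).mpr h0
    rw [div_le_one₀ (zero_lt_iff.mpr hpos)]
    exact hj0 j (Finset.mem_univ _)
  choose α hα using hint
  have hβ : algebraMap B L (∑ j, algebraMap A B (α j) * b j) * algebraMap K L (a j0) =
      ∑ j, algebraMap K L (a j) * algebraMap B L (b j) := by
    rw [map_sum, Finset.sum_mul]
    refine Finset.sum_congr rfl fun j _ => ?_
    rw [map_mul, ← IsScalarTower.algebraMap_apply A B L, IsScalarTower.algebraMap_apply A K L,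
      hα j, map_div₀]
    have : algebraMap K L (a j0) ≠ 0 := (map_ne_zero _).mpr h0
    field_simp
  have hres : residue B (∑ j, algebraMap A B (α j) * b j) ≠ 0 := by
    have : residue B (∑ j, algebraMap A B (α j) * b j) =
        ∑ j, residue A (α j) • residue B (b j) := by
      rw [map_sum]
      refine Finset.sum_congr rfl fun j _ => ?_
      rw [map_mul, Algebra.smul_def, ResidueField.algebraMap_residue]
    rw [this]
    intro hzero
    have h2 := Fintype.linearIndependent_iff.mp hb (fun j => residue A (α j)) hzero j0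
    have h1 : α j0 = 1 := by
      apply IsFractionRing.injective A K
      rw [hα, div_self h0, map_one]
    rw [h1, map_one] at h2
    exact one_ne_zero h2
  have hu : IsUnit (∑ j, algebraMap A B (α j) * b j) := (residue_ne_zero_iff_isUnit _).mp hres
  exact ⟨hu.unit, by rw [← hβ, mul_comm]; rfl⟩

theorem linearIndependent_mul {σ τ : Type*} [Fintype σ] [Fintype τ] (g : σ → Lˣ) (b : τ → B)
    (hg : ∀ i i', i ≠ i' → ∀ (c : Kˣ) (u : Bˣ),
      (g i : L) ≠ g i' * algebraMap K L c * algebraMap B L u)
    (hb : LinearIndependent (ResidueField A) (fun j => residue B (b j))) :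
    LinearIndependent K (fun p : σ × τ => (g p.1 : L) * algebraMap B L (b p.2)) := by
  classical
  rw [Fintype.linearIndependent_iff]
  intro a hsum
  by_contra hcon
  push_neg at hcon
  obtain ⟨⟨i1, j1⟩, h1⟩ := hcon
  let S : Finset σ := Finset.univ.filter (fun i => ∃ j, a (i, j) ≠ 0)
  have hi1 : i1 ∈ S := by
    simp only [S, Finset.mem_filter, Finset.mem_univ, true_and]
    exact ⟨j1, h1⟩
  have key : ∀ i, ∃ (c : K) (u : Bˣ), ((∃ j, a (i, j) ≠ 0) → c ≠ 0) ∧
      ∑ j, algebraMap K L (a (i, j)) * algebraMap B L (b j) =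
        algebraMap K L c * algebraMap B L u := by
    intro i
    by_cases hi : ∃ j, a (i, j) ≠ 0
    · obtain ⟨j0, hj0, u, hu⟩ := exists_unit_lincomb A B K L b hb (fun j => a (i, j)) hi
      exact ⟨a (i, j0), u, fun _ => hj0, hu⟩
    · push_neg at hi
      refine ⟨0, 1, fun h => absurd h (by push_neg; exact hi), ?_⟩
      rw [map_zero, zero_mul]
      exact Finset.sum_eq_zero fun j _ => by rw [hi j, map_zero, zero_mul]
  choose c u hc hcu using key
  have hsum' : ∑ i : S, (g i : L) * (algebraMap K L (c i) * algebraMap B L (u i)) = 0 := by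
    have h2 : ∑ i, (g i : L) * (algebraMap K L (c i) * algebraMap B L (u i)) = 0 := by
      rw [← hsum, Fintype.sum_prod_type]
      refine Finset.sum_congr rfl fun i _ => ?_
      rw [← hcu i, Finset.mul_sum]
      refine Finset.sum_congr rfl fun j _ => ?_
      rw [Algebra.smul_def]
      ring
    rw [← h2]
    rw [← Finset.sum_subset (Finset.subset_univ S)]
    · exact (Finset.sum_coe_sort S
        (fun i => (g i : L) * (algebraMap K L (c i) * algebraMap B L (u i))))
    · intro i _ hiS
      have : ¬ ∃ j, a (i, j) ≠ 0 := by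
        simpa only [S, Finset.mem_filter, Finset.mem_univ, true_and] using hiS
      rw [← hcu i]
      push_neg at this
      rw [Finset.sum_eq_zero fun j _ => by rw [this j, map_zero, zero_mul], mul_zero]
  haveI : Nonempty S := ⟨⟨i1, hi1⟩⟩
  have hne : ∀ i : S, (g i : L) * (algebraMap K L (c i) * algebraMap B L (u i)) ≠ 0 := by
    intro i
    have hci : c i ≠ 0 := hc i (by
      have := i.2
      simpa only [S, Finset.mem_filter, Finset.mem_univ, true_and] using this)
    refine mul_ne_zero (Units.ne_zero _) (mul_ne_zero ((map_ne_zero _).mpr hci) ?_)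
    exact (IsUnit.map (algebraMap B L) (u i).isUnit).ne_zero
  obtain ⟨i, i', hii', w, hw⟩ := exists_ne_unit_ratio B L _ hne hsum'
  have hci : c i ≠ 0 := hc i (by
    have := i.2
    simpa only [S, Finset.mem_filter, Finset.mem_univ, true_and] using this)
  have hci' : c i' ≠ 0 := hc i' (by
    have := i'.2
    simpa only [S, Finset.mem_filter, Finset.mem_univ, true_and] using this)
  refine hg i i' (fun h => hii' (Subtype.ext h)) (Units.mk0 (c i' / c i) (div_ne_zero hci' hci))
    (w * u i' * (u i)⁻¹) ?_
  have hui : algebraMap B L (u i) ≠ 0 := (IsUnit.map (algebraMap B L) (u i).isUnit).ne_zero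
  have hcL : algebraMap K L (c i) ≠ 0 := (map_ne_zero _).mpr hci
  have hinv : algebraMap B L ((u i)⁻¹ : Bˣ) = (algebraMap B L (u i))⁻¹ := by
    apply eq_inv_of_mul_eq_one_left
    rw [← map_mul, ← Units.val_mul, inv_mul_cancel, Units.val_one, map_one]
  rw [Units.val_mk0, map_div₀, Units.val_mul, Units.val_mul, map_mul, map_mul, hinv]
  field_simp
  rw [eq_comm] at hw ⊢
  linear_combination hw

end two

end Groth.Agent.Lib.Helper10.ValEF
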