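import Mathlib
import Groth.Agent.Lib.Helper3ValDim3

set_option autoImplicit false
set_option linter.style.haveILetI false
universe u
open TensorProduct CategoryTheory CategoryTheory.Limits AlgebraicGeometry

namespace Groth.Agent.Lib.Helper10.ValFinite

/-- Flat finite type algebra over a valuation ring whose generic fibre is finite: the closed fibre
is a finite set. -/
theorem finite_closedFibre (R S : Type u) [CommRing R] [IsDomain R] [ValuationRing R]
    [CommRing S] [Algebra R S] [Module.Flat R S] [Algebra.FiniteType R S]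
    (h : Module.Finite (FractionRing R) (FractionRing R ⊗[R] S)) :
    ((PrimeSpectrum.comap (algebraMap R S)) ⁻¹' {IsLocalRing.closedPoint R}).Finite := by
  classical
  let K := FractionRing R
  let m := IsLocalRing.maximalIdeal R
  haveI : IsArtinianRing (K ⊗[R] S) := IsArtinianRing.of_finite K _
  have hK : ringKrullDim (K ⊗[R] S) ≤ 0 := by
    have : Ring.KrullDimLE 0 (K ⊗[R] S) := inferInstance
    exact Ring.krullDimLE_iff.mp this
  have hκ : ringKrullDim (IsLocalRing.ResidueField R ⊗[R] S) ≤ 0 :=
    (Groth.Agent.Lib.Helper3.ValDim.ringKrullDim_special_le_of_flat (R := R) (S := S)).trans hK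
  -- transport to the fibre ring
  have hbij := Ideal.bijective_algebraMap_quotient_residueField m
  let e : (R ⧸ m) ≃ₐ[R] m.ResidueField :=
    AlgEquiv.ofBijective (IsScalarTower.toAlgHom R (R ⧸ m) m.ResidueField) hbij
  let e2 : (IsLocalRing.ResidueField R ⊗[R] S) ≃ₐ[R] m.Fiber S :=
    Algebra.TensorProduct.congr e AlgEquiv.refl
  have hF : ringKrullDim (m.Fiber S) ≤ 0 := by
    rw [← ringKrullDim_eq_of_ringEquiv e2.toRingEquiv]; exact hκ
  haveI : IsNoetherianRing (m.Fiber S) :=
    Algebra.FiniteType.isNoetherianRing m.ResidueField _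
  haveI : Ring.KrullDimLE 0 (m.Fiber S) := Ring.krullDimLE_iff.mpr hF
  haveI : IsArtinianRing (m.Fiber S) :=
    isArtinianRing_iff_isNoetherianRing_krullDimLE_zero.mpr ⟨inferInstance, inferInstance⟩
  have hfin : Finite (PrimeSpectrum (m.Fiber S)) := inferInstance
  have := (PrimeSpectrum.preimageEquivFiber R S ⟨m, inferInstance⟩).finite_iff.mpr hfin
  exact Set.finite_coe_iff.mp this


set_option backward.isDefEq.respectTransparency.types false in
/-- A flat proper morphism to the spectrum of a valuation ring with finite generic fibre is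
finite. -/
theorem isFinite_of_flat_proper_of_generic {R : Type u} [CommRing R] [IsDomain R] [ValuationRing R]
    {Y : Scheme.{u}} (f : Y ⟶ Spec (CommRingCat.of R)) [Flat f] [IsProper f]
    (hgen : IsFinite (pullback.snd f
      (Spec.map (CommRingCat.ofHom (algebraMap R (FractionRing R)))))) :
    IsFinite f := by
  classical
  let K := FractionRing R
  set gK : Spec (CommRingCat.of K) ⟶ Spec (CommRingCat.of R) :=
    Spec.map (CommRingCat.ofHom (algebraMap R K)) with hgK
  let x₀ : ↥(Spec (CommRingCat.of R)) := IsLocalRing.closedPoint R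
  haveI : CompactSpace Y := QuasiCompact.compactSpace_of_compactSpace f
  -- finiteness of the closed fibre
  have hfib : (f ⁻¹' {x₀}).Finite := by
    obtain ⟨s, hs, hcov⟩ := (isCompact_iff_finite_and_eq_biUnion_affineOpens (U := (⊤ : Y.Opens))).mp
      (by simpa using isCompact_univ)
    have hsub : f ⁻¹' {x₀} ⊆ ⋃ U ∈ s, ((U : Y.Opens) : Set Y) ∩ f ⁻¹' {x₀} := by
      intro y hy
      have hy' : y ∈ (⊤ : Y.Opens) := trivial
      rw [hcov] at hy'
      simp only [TopologicalSpace.Opens.mem_iSup] at hy'
      obtain ⟨U, hU, hyU⟩ := hy'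
      exact Set.mem_iUnion₂.mpr ⟨U, hU, hyU, hy⟩
    refine (hs.biUnion fun U _ => ?_).subset hsub
    -- per affine open
    have hU : IsAffineOpen U.1 := U.2
    let S := Γ(Y, U.1)
    set g : Spec S ⟶ Spec (CommRingCat.of R) := hU.fromSpec ≫ f with hg
    let ψ : CommRingCat.of R ⟶ S := Spec.preimage g
    have hψ : Spec.map ψ = g := Spec.map_preimage g
    letI : Algebra R S := ψ.hom.toAlgebra
    have hψ' : CommRingCat.ofHom (algebraMap R S) = ψ := rfl
    haveI : Flat (Spec.map ψ) := by rw [hψ]; infer_instance
    haveI : LocallyOfFiniteType (Spec.map ψ) := by rw [hψ]; infer_instance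
    haveI : Module.Flat R S :=
      (HasRingHomProperty.Spec_iff (P := @Flat) (φ := ψ)).mp inferInstance
    haveI : Algebra.FiniteType R S :=
      (HasRingHomProperty.Spec_iff (P := @LocallyOfFiniteType) (φ := ψ)).mp inferInstance
    -- generic fibre
    have h1 : LocallyQuasiFinite (pullback.snd g gK) := by
      have : pullback.snd g gK =
          (pullbackRightPullbackFstIso f gK hU.fromSpec).inv ≫
            pullback.snd hU.fromSpec (pullback.fst f gK) ≫ pullback.snd f gK := by
        rw [Iso.eq_inv_comp, pullbackRightPullbackFstIso_hom_snd]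
      rw [this]
      infer_instance
    have h2 : LocallyQuasiFinite (pullback.fst gK g) := by
      rw [← pullbackSymmetry_hom_comp_snd]
      infer_instance
    have h3 : LocallyQuasiFinite (Spec.map (CommRingCat.ofHom
        (Algebra.TensorProduct.includeLeftRingHom : K →+* K ⊗[R] S))) := by
      rw [← pullbackSpecIso_inv_fst]
      have : LocallyQuasiFinite (pullback.fst (Spec.map (CommRingCat.ofHom (algebraMap R K)))
          (Spec.map (CommRingCat.ofHom (algebraMap R S)))) := by
        rw [hψ', hψ]; exact h2
      infer_instance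
    have h4 : Algebra.QuasiFinite K (K ⊗[R] S) := by
      have := (HasRingHomProperty.Spec_iff (P := @LocallyQuasiFinite)).mp h3
      exact RingHom.quasiFinite_algebraMap.mp this
    have h5 : Module.Finite K (K ⊗[R] S) := Module.Finite.of_quasiFinite
    have h6 := finite_closedFibre R S h5
    refine (h6.image hU.fromSpec).subset ?_
    rintro y ⟨hyU, hy⟩
    rw [← hU.range_fromSpec] at hyU
    obtain ⟨z, rfl⟩ := hyU
    refine ⟨z, ?_, rfl⟩
    change PrimeSpectrum.comap (algebraMap R S) z = IsLocalRing.closedPoint R
    have : (Spec.map ψ) z = x₀ := by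
      rw [hψ, hg]; exact hy
    exact this
  obtain ⟨V, hxV, hV⟩ := exists_isFinite_morphismRestrict_of_finite_preimage_singleton f x₀ hfib
  have hVtop : V = ⊤ := IsLocalRing.closed_point_mem_iff.mp hxV
  rw [IsZariskiLocalAtTarget.iff_of_iSup_eq_top (P := @IsFinite) (fun _ : Unit => V)
    (by rw [hVtop]; simp)]
  intro _
  exact hV

end Groth.Agent.Lib.Helper10.ValFinite
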