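import Mathlib

set_option autoImplicit false
universe u
open CategoryTheory AlgebraicGeometry IsLocalRing

namespace Groth.Agent.Lib.Helper10.ValSq

/-- A morphism from the spectrum of a local ring whose closed point lands in a generization of `x`
factors through `Spec 𝒪_{X,x}`. -/
lemma exists_factor_fromSpecStalk {X : Scheme.{u}} {S : CommRingCat.{u}} [IsLocalRing S]
    (φ' : Spec S ⟶ X) (x : X) (h : φ' (closedPoint S) ⤳ x) :
    ∃ β : X.presheaf.stalk x ⟶ S, φ' = Spec.map β ≫ X.fromSpecStalk x := by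
  refine ⟨X.presheaf.stalkSpecializes h ≫ Scheme.stalkClosedPointTo φ', ?_⟩
  rw [Spec.map_comp, Category.assoc, Scheme.SpecMap_stalkSpecializes_fromSpecStalk,
    Scheme.Spec_stalkClosedPointTo_fromSpecStalk]

theorem main {X Y : Scheme.{u}} (f : Y ⟶ X)
    (K : Type u) [Field K] (R : ValuationSubring K)
    (i : Spec (CommRingCat.of K) ⟶ Y) (φ : Spec (CommRingCat.of ↥R) ⟶ X)
    (w : Spec.map (CommRingCat.ofHom R.subtype) ≫ φ = i ≫ f)
    (y : Y) (g : Y.residueField y ⟶ CommRingCat.of K) (hg : Spec.map g ≫ Y.fromSpecResidueField y = i)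
    (ρ : ↥(R.comap g.hom) →+* ↥R)
    (hρ : ∀ x : ↥(R.comap g.hom), ((ρ x : ↥R) : K) = g.hom (x : ↑(Y.residueField y))) :
    ∃! φ' : Spec (CommRingCat.of ↥(R.comap g.hom)) ⟶ X,
      Spec.map (CommRingCat.ofHom ρ) ≫ φ' = φ ∧
      Spec.map (CommRingCat.ofHom (R.comap g.hom).subtype) ≫ φ' = Y.fromSpecResidueField y ≫ f := by
  classical
  -- ρ is a local homomorphism
  have hρloc : IsLocalHom ρ := by
    constructor
    intro a ha
    obtain ⟨b, hb⟩ := ha.exists_right_inv
    have hb' : g.hom (a : Y.residueField y) * (b : K) = 1 := by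
      rw [← hρ a]
      exact_mod_cast congrArg Subtype.val hb
    have ha0 : (a : Y.residueField y) ≠ 0 := by
      intro h0
      rw [h0, map_zero, zero_mul] at hb'
      exact zero_ne_one hb'
    have hinv : (a : Y.residueField y)⁻¹ ∈ R.comap g.hom := by
      rw [ValuationSubring.mem_comap, map_inv₀, inv_eq_of_mul_eq_one_right hb']
      exact b.2
    exact IsUnit.of_mul_eq_one (⟨_, hinv⟩ : ↥(R.comap g.hom)) (Subtype.ext (mul_inv_cancel₀ ha0))
  let x : X := φ (closedPoint ↥R)
  let ψ : Spec (Y.residueField y) ⟶ X := Y.fromSpecResidueField y ≫ f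
  -- the closed point of Spec κ(y) maps to a generization of x
  have hψx : ψ (closedPoint (Y.residueField y)) ⤳ x := by
    have h1 : closedPoint (Y.residueField y) =
        Spec.map g (closedPoint K) := Subsingleton.elim _ _
    have h2 : ψ (Spec.map g (closedPoint K)) =
        φ (Spec.map (CommRingCat.ofHom R.subtype) (closedPoint K)) := by
      have := congrArg (fun m : Spec (CommRingCat.of K) ⟶ X => m (closedPoint K))
        (show Spec.map g ≫ ψ = Spec.map (CommRingCat.ofHom R.subtype) ≫ φ by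
          rw [w, ← hg, Category.assoc])
      exact this
    rw [h1, h2]
    exact (specializes_closedPoint (R := ↥R) _).map φ.continuous
  obtain ⟨γ, hγ⟩ := exists_factor_fromSpecStalk (S := Y.residueField y) ψ x hψx
  obtain ⟨α, hα⟩ := exists_factor_fromSpecStalk (S := CommRingCat.of ↥R) φ x specializes_rfl
  have hαγ : α ≫ CommRingCat.ofHom R.subtype = γ ≫ g := by
    apply Spec.map_injective
    rw [← cancel_mono (X.fromSpecStalk x), Spec.map_comp, Spec.map_comp, Category.assoc,
      Category.assoc, ← hα, ← hγ, w, ← hg, Category.assoc]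
  have hαγ' : ∀ a, ((α.hom a : ↥R) : K) = g.hom (γ.hom a) := fun a =>
    congrArg (fun m : X.presheaf.stalk x ⟶ CommRingCat.of K => m.hom a) hαγ
  have hmem : ∀ a, γ.hom a ∈ (R.comap g.hom).toSubring := fun a => by
    change γ.hom a ∈ R.comap g.hom
    rw [ValuationSubring.mem_comap, ← hαγ' a]
    exact (α.hom a).2
  let β : X.presheaf.stalk x ⟶ CommRingCat.of ↥(R.comap g.hom) :=
    CommRingCat.ofHom (γ.hom.codRestrict (R.comap g.hom).toSubring hmem)
  have hβγ : β ≫ CommRingCat.ofHom (R.comap g.hom).subtype = γ := by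
    ext a; rfl
  have hβα : β ≫ CommRingCat.ofHom ρ = α := by
    ext a
    change ((ρ (β.hom a) : ↥R) : K) = _
    rw [hρ, hαγ' a]
    rfl
  refine ⟨Spec.map β ≫ X.fromSpecStalk x, ⟨?_, ?_⟩, ?_⟩
  · rw [← Spec.map_comp_assoc, hβα, ← hα]
  · rw [← Spec.map_comp_assoc, hβγ, ← hγ]
  · rintro φ' ⟨h1, h2⟩
    have hx : φ' (closedPoint ↥(R.comap g.hom)) = x := by
      have h3 : Spec.map (CommRingCat.ofHom ρ) (closedPoint ↥R) =
          closedPoint ↥(R.comap g.hom) := comap_closedPoint ρ
      rw [← h3]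
      exact congrArg (fun m : Spec (CommRingCat.of ↥R) ⟶ X => m (closedPoint ↥R)) h1
    obtain ⟨β', hβ'⟩ := exists_factor_fromSpecStalk
      (S := CommRingCat.of ↥(R.comap g.hom)) φ' x (hx ▸ specializes_rfl)
    have h4 : β' ≫ CommRingCat.ofHom (R.comap g.hom).subtype = γ := by
      apply Spec.map_injective
      rw [← cancel_mono (X.fromSpecStalk x), Spec.map_comp, Category.assoc, ← hβ', h2, ← hγ]
    have h5 : β' = β := by
      ext a
      exact congrArg (fun m : X.presheaf.stalk x ⟶ Y.residueField y => m.hom a) (h4.trans hβγ.symm)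
    rw [hβ', h5]

end Groth.Agent.Lib.Helper10.ValSq
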