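import Mathlib
import Groth.Agent.Lib.Helper10WEtale
import Groth.Agent.Lib.Helper10AbsFlat

/-!
# Weakly étale morphisms of schemes vs. weakly étale algebras (helper10)
-/
set_option autoImplicit false
universe u
open CategoryTheory CategoryTheory.Limits AlgebraicGeometry TopologicalSpace Opposite

namespace Groth.Agent.Lib.Helper10.WEtaleSch

/-- a weakly étale algebra over a reduced ring is reduced (ring-level; = S7128). -/
theorem isReduced_of_weaklyEtale_ring (A B : Type u) [CommRing A] [CommRing B] [Algebra A B]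
    [_root_.IsReduced A] [Algebra.WeaklyEtale A B] : _root_.IsReduced B := by
  classical
  let K' := ∀ p : PrimeSpectrum A, p.asIdeal.ResidueField
  have hinj : Function.Injective (algebraMap A K') := by
    rw [injective_iff_map_eq_zero]
    intro a ha
    have hmem : a ∈ nilradical A := by
      rw [nilradical_eq_sInf, Ideal.mem_sInf]
      intro p hp
      have hp' : p.IsPrime := hp
      have h1 := congrFun ha ⟨p, hp'⟩
      exact Ideal.algebraMap_residueField_eq_zero.mp h1
    rw [nilradical_eq_zero] at hmem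
    exact hmem
  have hW : Algebra.WeaklyEtale K' (TensorProduct A K' B) := inferInstance
  have hvnr : Groth.Agent.Lib.Helper10.IsVNR (TensorProduct A K' B) := by
    apply Groth.Agent.Lib.Helper10.isVNR_of_flat
    intro a
    haveI : Module.Flat K' (TensorProduct A K' B ⧸ Ideal.span {a}) :=
      Groth.Agent.Lib.Helper10.IsVNR.flat (Groth.Agent.Lib.Helper10.isVNR_pi_field _ _) _
    exact Groth.Agent.Lib.Helper10.WEtale.flat_of_flat_lmul' K' (TensorProduct A K' B)
      (Algebra.WeaklyEtale.flat_lmul' K' (TensorProduct A K' B)) _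
  have hred : _root_.IsReduced (TensorProduct A K' B) := hvnr.isReduced
  have hinj' : Function.Injective
      (Algebra.TensorProduct.includeRight : B →ₐ[A] TensorProduct A K' B) :=
    Algebra.TensorProduct.includeRight_injective hinj
  exact isReduced_of_injective _ hinj'

set_option backward.isDefEq.respectTransparency.types false in
/-- `Spec.map φ` is weakly étale iff `φ` is a weakly étale ring map. -/
theorem specMap_iff {R S : CommRingCat.{u}} (φ : R ⟶ S) :
    WeaklyEtale (Spec.map φ) ↔
      (letI := φ.hom.toAlgebra; Algebra.WeaklyEtale R S) := by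
  algebraize [φ.hom]
  have hφ : φ = CommRingCat.ofHom (algebraMap R S) := rfl
  have key : Flat (pullback.diagonal (Spec.map φ)) ↔
      (Algebra.TensorProduct.lmul' R (S := S)).Flat := by
    rw [hφ, diagonal_SpecMap R S,
      MorphismProperty.cancel_right_of_respectsIso (P := @Flat),
      HasRingHomProperty.Spec_iff (P := @Flat)]
    rfl
  constructor
  · intro h
    refine ⟨?_, key.mp h.flat_diagonal⟩
    have := h.flat
    rwa [HasRingHomProperty.Spec_iff (P := @Flat)] at this
  · intro h
    refine ⟨?_, key.mpr (Algebra.WeaklyEtale.flat_lmul' R S)⟩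
    rw [HasRingHomProperty.Spec_iff (P := @Flat)]
    exact h.flat

set_option backward.isDefEq.respectTransparency.types false in
/-- for affine opens `U ⊆ f⁻¹ V`: `f.resLE V U` weakly étale iff `Γ(S,V) → Γ(X,U)` weakly étale. -/
theorem resLE_iff {X S : Scheme.{u}} (f : X ⟶ S) (U : X.Opens) (V : S.Opens)
    (hU : IsAffineOpen U) (hV : IsAffineOpen V) (e : U ≤ f ⁻¹ᵁ V) :
    WeaklyEtale (f.resLE V U e) ↔
      (letI := (f.appLE V U e).hom.toAlgebra; Algebra.WeaklyEtale Γ(S, V) Γ(X, U)) := by
  rw [← specMap_iff]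
  haveI : IsIso U.toSpecΓ := by rw [← hU.isoSpec_hom]; infer_instance
  haveI : IsIso V.toSpecΓ := by rw [← hV.isoSpec_hom]; infer_instance
  rw [← MorphismProperty.cancel_left_of_respectsIso (P := @WeaklyEtale) U.toSpecΓ,
    Scheme.Opens.toSpecΓ_SpecMap_appLE,
    MorphismProperty.cancel_right_of_respectsIso (P := @WeaklyEtale)]

instance : MorphismProperty.RespectsRight @WeaklyEtale.{u} @IsOpenImmersion where
  postcomp i hi f hf := by
    haveI : IsOpenImmersion i := hi
    haveI : WeaklyEtale f := hf
    infer_instance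

/-- **S7178**. -/
theorem iff_forall_affineOpens {X S : Scheme.{u}} (f : X ⟶ S) :
    WeaklyEtale f ↔ ∀ (U : X.Opens) (V : S.Opens) (_ : IsAffineOpen U) (_ : IsAffineOpen V)
      (hUV : U ≤ f ⁻¹ᵁ V),
      (letI := (f.appLE V U hUV).hom.toAlgebra
       Algebra.WeaklyEtale Γ(S, V) Γ(X, U)) := by
  constructor
  · intro h U V hU hV hUV
    exact (resLE_iff f U V hU hV hUV).mp inferInstance
  · intro h
    rw [IsZariskiLocalAtSource.iff_exists_resLE (P := @WeaklyEtale)]
    intro x
    obtain ⟨V, hV, hxV, -⟩ := exists_isAffineOpen_mem_and_subset (X := S) (x := f.base x)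
      (U := ⊤) trivial
    obtain ⟨U, hU, hxU, hUV⟩ := exists_isAffineOpen_mem_and_subset (X := X) (x := x)
      (U := f ⁻¹ᵁ V) hxV
    exact ⟨V, U, hxU, hUV, (resLE_iff f U V hU hV hUV).mpr (h U V hU hV hUV)⟩

/-- **S7179**: the source of a weakly étale morphism with reduced target is reduced. -/
theorem isReduced_of_weaklyEtale {X Y : Scheme.{u}} (f : X ⟶ Y) [WeaklyEtale f] [IsReduced Y] :
    IsReduced X := by
  have hstalk : ∀ x : X, _root_.IsReduced (X.presheaf.stalk x) := by
    intro x
    obtain ⟨V, hV, hxV, -⟩ := exists_isAffineOpen_mem_and_subset (X := Y) (x := f.base x)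
      (U := ⊤) trivial
    obtain ⟨U, hU, hxU, hUV⟩ := exists_isAffineOpen_mem_and_subset (X := X) (x := x)
      (U := f ⁻¹ᵁ V) hxV
    have hW := (iff_forall_affineOpens f).mp inferInstance U V hU hV hUV
    letI : Algebra Γ(Y, V) Γ(X, U) := (f.appLE V U hUV).hom.toAlgebra
    haveI : Algebra.WeaklyEtale Γ(Y, V) Γ(X, U) := hW
    haveI hred : _root_.IsReduced Γ(X, U) := by
      exact isReduced_of_weaklyEtale_ring Γ(Y, V) Γ(X, U)
    letI : Algebra Γ(X, U) (X.presheaf.stalk x) :=
      TopCat.Presheaf.algebra_section_stalk X.presheaf (⟨x, hxU⟩ : U)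
    haveI : IsLocalization.AtPrime (X.presheaf.stalk x) (hU.primeIdealOf ⟨x, hxU⟩).asIdeal :=
      hU.isLocalization_stalk ⟨x, hxU⟩
    exact isReduced_localizationPreserves (hU.primeIdealOf ⟨x, hxU⟩).asIdeal.primeCompl
      (X.presheaf.stalk x) hred
  exact isReduced_of_isReduced_stalk X

end Groth.Agent.Lib.Helper10.WEtaleSch
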