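import Mathlib
import Groth.Agent.Lib.Helper10Spectral
import Groth.Agent.Lib.Helper10ConnComp
import Groth.Agent.Lib.Helper10Pi0

/-!
# w-local spectral spaces: sets of generalizations, closed points and `π₀` (helper10)
-/

set_option autoImplicit false
open Topology TopologicalSpace Set

namespace Groth.Agent.Lib.Helper10.WLocal

open Groth.Agent.Lib.Helper10.Spectral Groth.Agent.Lib.Helper10.ConnComp

universe u

variable {X : Type u} [TopologicalSpace X]

/-- The set of generalizations of a closed subset of a spectral space is closed as soon as it is
stable under specialization. -/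
theorem isClosed_generalizations [SpectralSpace X] {E : Set X} (hE : IsClosed E)
    (hs : StableUnderSpecialization {x : X | ∃ e ∈ E, x ⤳ e}) :
    IsClosed {x : X | ∃ e ∈ E, x ⤳ e} := by
  apply isClosed_of_isClosed_constr_of_stableUnderSpecialization _ hs
  rw [generalizations_eq_sInter hE.isCompact]
  apply @isClosed_sInter X (constructibleTopology X)
  rintro U ⟨hUo, hUc, -⟩
  exact isClosed_constr_of_isCompact_isOpen hUo hUc

/-- In a quasi-compact T0 space every point specializes to a closed point. -/
theorem exists_isClosed_singleton_specializes [CompactSpace X] [T0Space X] (x : X) :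
    ∃ z : X, IsClosed ({z} : Set X) ∧ x ⤳ z := by
  obtain ⟨z, hz, hzcl⟩ := IsClosed.exists_closed_singleton (isClosed_closure (s := {x}))
    ⟨x, subset_closure rfl⟩
  exact ⟨z, hzcl, specializes_iff_mem_closure.mpr hz⟩

/-- Every connected component of a quasi-compact T0 space contains a closed point. -/
theorem exists_isClosed_singleton_mem_connectedComponent [CompactSpace X] [T0Space X] (x : X) :
    ∃ z : X, IsClosed ({z} : Set X) ∧ z ∈ connectedComponent x := by
  obtain ⟨z, hz, hzcl⟩ := IsClosed.exists_closed_singleton
    (isClosed_connectedComponent (x := x)) ⟨x, mem_connectedComponent⟩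
  exact ⟨z, hzcl, hz⟩

theorem specializes_mem_connectedComponent {x y : X} (h : x ⤳ y) : y ∈ connectedComponent x := by
  have : closure {x} ⊆ connectedComponent x :=
    isClosed_connectedComponent.closure_subset_iff.mpr
      (Set.singleton_subset_iff.mpr mem_connectedComponent)
  exact this (specializes_iff_mem_closure.mp h)

end Groth.Agent.Lib.Helper10.WLocal
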