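import Mathlib

/-!
# Regularity of a Weierstrass scheme at the origin of the special fibre (helper10)
-/

set_option autoImplicit false
universe u
open Polynomial IsLocalRing
open scoped Polynomial.Bivariate

namespace Groth.Agent.Lib.Helper10.Weier

variable {R : Type u} [CommRing R] [IsDomain R] [IsDiscreteValuationRing R]

/-- an element of `m ∖ m²` of a DVR generates the maximal ideal and is prime. -/
lemma span_eq_maximalIdeal {a : R} (h : a ∈ maximalIdeal R) (h' : a ∉ maximalIdeal R ^ 2) :
    maximalIdeal R = Ideal.span {a} ∧ Prime a := by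
  obtain ⟨ϖ, hϖ⟩ := IsDiscreteValuationRing.exists_irreducible R
  have ha0 : a ≠ 0 := by
    rintro rfl
    exact h' (zero_mem _)
  obtain ⟨n, u, hu⟩ := IsDiscreteValuationRing.eq_unit_mul_pow_irreducible ha0 hϖ
  have hm : maximalIdeal R = Ideal.span {ϖ} := (IsDiscreteValuationRing.irreducible_iff_uniformizer ϖ).mp hϖ
  have hn : n = 1 := by
    rcases n with _ | _ | n
    · exfalso
      rw [pow_zero, mul_one] at hu
      exact (mem_maximalIdeal _).mp h (hu ▸ u.isUnit)
    · rfl
    · exfalso
      apply h'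
      rw [hu, hm, Ideal.span_singleton_pow, Ideal.mem_span_singleton]
      exact ⟨↑u * ϖ ^ n, by ring⟩
  subst hn
  rw [pow_one] at hu
  have hirr : Irreducible a := by
    rw [hu]
    exact (irreducible_units_mul u).mpr hϖ
  exact ⟨(IsDiscreteValuationRing.irreducible_iff_uniformizer a).mp hirr, hirr.prime⟩

variable (W : WeierstrassCurve.Affine R)

open WeierstrassCurve.Affine

lemma mk_a₆_mem :
    CoordinateRing.mk W (C (C W.a₆)) ∈
      Ideal.span {CoordinateRing.mk W (C X), CoordinateRing.mk W Y} := by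
  have key : (C (C W.a₆) : R[X][Y]) = Y * (Y + C (C W.a₁ * X + C W.a₃)) -
      C X * C (X ^ 2 + C W.a₂ * X + C W.a₄) - W.polynomial := by
    rw [WeierstrassCurve.Affine.polynomial]
    simp only [map_add, map_mul, map_pow]
    ring
  rw [key, map_sub, map_sub, map_mul, map_mul, show CoordinateRing.mk W W.polynomial = 0 from
    AdjoinRoot.mk_self, sub_zero]
  refine Ideal.sub_mem _ (Ideal.mul_mem_right _ _ (Ideal.subset_span (by simp)))
    (Ideal.mul_mem_right _ _ (Ideal.subset_span (by simp)))

lemma algebraMap_eq_mk (r : R) :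
    algebraMap R W.CoordinateRing r = CoordinateRing.mk W (C (C r)) := rfl

/-- every element of the coordinate ring is `r + x * (..) + y * (..)`. -/
lemma exists_decomp (a : W.CoordinateRing) :
    ∃ r : R, a - algebraMap R W.CoordinateRing r ∈
      Ideal.span {CoordinateRing.mk W (C X), CoordinateRing.mk W Y} := by
  obtain ⟨F, rfl⟩ := AdjoinRoot.mk_surjective (g := W.polynomial) a
  obtain ⟨G, hG⟩ := Polynomial.X_dvd_sub_C (p := F)
  obtain ⟨g, hg⟩ := Polynomial.X_dvd_sub_C (p := F.coeff 0)
  obtain ⟨r, hr⟩ : ∃ r, r = (F.coeff 0).coeff 0 := ⟨_, rfl⟩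
  rw [← hr] at hg
  refine ⟨r, ?_⟩
  have hF : F = Y * G + C X * C g + C (C r) := by
    have h1 : F = X * G + C (F.coeff 0) := by rw [← hG]; ring
    have h2 : F.coeff 0 = X * g + C r := by rw [← hg]; ring
    conv_lhs => rw [h1, h2]
    simp only [map_add, map_mul]
    rw [add_assoc]
  rw [algebraMap_eq_mk]
  have : CoordinateRing.mk W F - CoordinateRing.mk W (C (C r)) =
      CoordinateRing.mk W Y * CoordinateRing.mk W G +
        CoordinateRing.mk W (C X) * CoordinateRing.mk W (C g) := by
    conv_lhs => rw [hF]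
    simp only [map_add, map_mul]
    ring
  rw [this]
  exact Ideal.add_mem _ (Ideal.mul_mem_right _ _ (Ideal.subset_span (by simp)))
    (Ideal.mul_mem_right _ _ (Ideal.subset_span (by simp)))

variable {W}

/-- the maximal ideal at the origin of the special fibre is `(x, y)`. -/
theorem eq_span (h6 : W.a₆ ∈ maximalIdeal R) (h6' : W.a₆ ∉ maximalIdeal R ^ 2)
    (P : Ideal W.CoordinateRing) [P.IsMaximal]
    (hP : ∀ r ∈ maximalIdeal R, algebraMap R W.CoordinateRing r ∈ P)
    (hx : CoordinateRing.mk W (C X) ∈ P) (hy : CoordinateRing.mk W Y ∈ P) :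
    P = Ideal.span {CoordinateRing.mk W (C X), CoordinateRing.mk W Y} := by
  apply le_antisymm
  · intro a ha
    obtain ⟨r, hr⟩ := exists_decomp W a
    have hJP : Ideal.span {CoordinateRing.mk W (C X), CoordinateRing.mk W Y} ≤ P := by
      rw [Ideal.span_le]
      rintro _ (rfl | rfl)
      · exact hx
      · exact hy
    have hrP : algebraMap R W.CoordinateRing r ∈ P := by
      have := P.sub_mem ha (hJP hr)
      rwa [sub_sub_cancel] at this
    have hrm : r ∈ maximalIdeal R := by
      by_contra hcon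
      have hu : IsUnit r := by
        by_contra h
        exact hcon ((mem_maximalIdeal _).mpr h)
      exact (Ideal.IsMaximal.ne_top ‹_›) (Ideal.eq_top_of_isUnit_mem _ hrP (hu.map _))
    rw [(span_eq_maximalIdeal h6 h6').1, Ideal.mem_span_singleton] at hrm
    obtain ⟨s, rfl⟩ := hrm
    have h1 : algebraMap R W.CoordinateRing (W.a₆ * s) ∈
        Ideal.span {CoordinateRing.mk W (C X), CoordinateRing.mk W Y} := by
      rw [map_mul]
      exact Ideal.mul_mem_right _ _ (mk_a₆_mem W)
    have := Ideal.add_mem _ hr h1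
    rwa [sub_add_cancel] at this
  · rw [Ideal.span_le]
    rintro _ (rfl | rfl)
    · exact hx
    · exact hy

/-- the height of the origin of the special fibre is at least two. -/
theorem two_le_height (h6 : W.a₆ ∈ maximalIdeal R) (h6' : W.a₆ ∉ maximalIdeal R ^ 2)
    (P : Ideal W.CoordinateRing) [P.IsPrime]
    (hP : ∀ r ∈ maximalIdeal R, algebraMap R W.CoordinateRing r ∈ P)
    (hx : CoordinateRing.mk W (C X) ∈ P) :
    (2 : ℕ∞) ≤ P.height := by
  have hprime := (span_eq_maximalIdeal h6 h6').2
  have hC : Prime (C W.a₆ : R[X]) := Polynomial.prime_C_iff.mpr hprime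
  let q₀ : PrimeSpectrum R[X] := ⟨⊥, Ideal.isPrime_bot⟩
  let q₁ : PrimeSpectrum R[X] := ⟨Ideal.span {C W.a₆}, (Ideal.span_singleton_prime hC.ne_zero).mpr hC⟩
  let q₂ : PrimeSpectrum R[X] := ⟨P.comap (algebraMap R[X] W.CoordinateRing), inferInstance⟩
  have h01 : q₀ < q₁ := by
    rw [← PrimeSpectrum.asIdeal_lt_asIdeal]
    exact bot_lt_iff_ne_bot.mpr (fun h => hC.ne_zero (Ideal.span_singleton_eq_bot.mp h))
  have h12 : q₁ < q₂ := by
    rw [← PrimeSpectrum.asIdeal_lt_asIdeal]
    refine lt_of_le_of_ne ?_ ?_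
    · show Ideal.span {C W.a₆} ≤ P.comap (algebraMap R[X] W.CoordinateRing)
      rw [Ideal.span_le, Set.singleton_subset_iff]
      exact hP _ h6
    · intro heq
      have hX : (X : R[X]) ∈ Ideal.span {C W.a₆} := by
        have : (X : R[X]) ∈ q₂.asIdeal := hx
        rwa [← heq] at this
      rw [Ideal.mem_span_singleton] at hX
      obtain ⟨g, hg⟩ := hX
      have := congrArg (fun p => p.coeff 1) hg
      simp only [coeff_X_one, coeff_C_mul] at this
      exact hprime.not_isUnit (.of_mul_eq_one _ this.symm)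
  let l : LTSeries (PrimeSpectrum R[X]) := LTSeries.mk 2 ![q₀, q₁, q₂] (by
    rw [Fin.strictMono_iff_lt_succ]
    intro i
    fin_cases i
    · exact h01
    · exact h12)
  haveI : P.LiesOver l.last.asIdeal := ⟨rfl⟩
  obtain ⟨L, hLlen, hLlast, -⟩ := Ideal.exists_ltSeries_of_hasGoingDown l P
  have h2 : L.length = 2 := hLlen
  have h3 := PrimeSpectrum.height_eq_orderHeight (⟨P, inferInstance⟩ : PrimeSpectrum W.CoordinateRing)
  change P.height = _ at h3
  rw [h3, ← hLlast]
  have := Order.length_le_height_last (p := L)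
  rw [h2] at this
  exact_mod_cast this

/-- S11097. -/
theorem main (h6 : W.a₆ ∈ maximalIdeal R) (h6' : W.a₆ ∉ maximalIdeal R ^ 2)
    (P : Ideal W.CoordinateRing) [P.IsMaximal]
    (hP : ∀ r ∈ maximalIdeal R, algebraMap R W.CoordinateRing r ∈ P)
    (hx : CoordinateRing.mk W (C X) ∈ P) (hy : CoordinateRing.mk W Y ∈ P) :
    IsRegularLocalRing (Localization.AtPrime P) := by
  apply IsRegularLocalRing.of_spanFinrank_maximalIdeal_le
  rw [IsLocalization.AtPrime.ringKrullDim_eq_height P (Localization.AtPrime P)]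
  have h2 := two_le_height h6 h6' P hP hx
  have hmax : maximalIdeal (Localization.AtPrime P) =
      Ideal.span {algebraMap _ (Localization.AtPrime P) (CoordinateRing.mk W (C X)),
        algebraMap _ (Localization.AtPrime P) (CoordinateRing.mk W Y)} := by
    rw [← Localization.AtPrime.map_eq_maximalIdeal]
    exact (congrArg (Ideal.map (algebraMap _ (Localization.AtPrime P)))
      (eq_span h6 h6' P hP hx hy)).trans (by rw [Ideal.map_span, Set.image_pair])
  have hle : (maximalIdeal (Localization.AtPrime P)).spanFinrank ≤ 2 := by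
    rw [hmax]
    refine (Submodule.spanFinrank_span_le_ncard_of_finite (Set.toFinite _)).trans ?_
    refine (Set.ncard_insert_le _ _).trans ?_
    rw [Set.ncard_singleton]
  have h3 : ((maximalIdeal (Localization.AtPrime P)).spanFinrank : ℕ∞) ≤ P.height :=
    le_trans (by exact_mod_cast hle) h2
  exact_mod_cast h3

end Groth.Agent.Lib.Helper10.Weier
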